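import Groth.Statements.S11199
import Groth.Agent.CommAlg4.AffPt
-- import your own Groth.Agent.* helpers here

set_option autoImplicit false
universe u
open CategoryTheory MonoidalCategory CartesianMonoidalCategory MonObj GrpObj AlgebraicGeometry
open scoped TensorProduct
open AGF

namespace Groth.Agent.S11199

section
open Groth.Agent.CommAlg4.AffPt
variable {k : Type u} [Field k]

theorem pt_terminal {B : Type u} [CommRing B] [Algebra k B] (x y : VecGrp.pt k B ⟶ VecGrp.pt k k) : x = y := by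
  apply Over.OverMorphism.ext
  have hid : (VecGrp.pt k k).hom = 𝟙 _ := by
    show Spec.map (CommRingCat.ofHom (algebraMap k k)) = _
    simp
  have hx := Over.w x
  have hy := Over.w y
  rw [hid] at hx hy
  exact ((Category.comp_id _).symm.trans hx).trans (hy.symm.trans (Category.comp_id _))

theorem invariant_of_universal {G : Over (Spec (CommRingCat.of k))} [GrpObj G] [IsAffine G.left]
    (g : VecGrp.pt k k ⟶ G) (f : Γ(G.left, ⊤)) (u : @VecGrp.pt k _ Γ(G.left, ⊤) _ (gAlg G) ⟶ G)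
    (hu : ∀ x, @algPt k _ G Γ(G.left, ⊤) _ (gAlg G) u x = x)
    (h : letI := gAlg G; algPt (u * (VecGrp.ptMap (Algebra.ofId k Γ(G.left, ⊤)) ≫ g)) f = f) :
    AGF.IsRTransInv g f := by
  haveI : IsAffine (VecGrp.pt k k).left := inferInstanceAs (IsAffine (Spec (CommRingCat.of k)))
  haveI : IsAffine (G ⊗ VecGrp.pt k k).left := by
    rw [Over.tensorObj_left]; infer_instance
  letI := gAlg G
  let P := G ⊗ VecGrp.pt k k
  letI := gAlg P
  obtain ⟨uP, huP⟩ := exists_univ_pt P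
  obtain ⟨φ, hφ⟩ := exists_algHom (uP ≫ fst G (VecGrp.pt k k))
  have h1 : uP ≫ fst G (VecGrp.pt k k) = VecGrp.ptMap φ ≫ u := pt_eq _ _ fun x => by rw [algPt_ptMap, hu, hφ]
  have h2 : uP ≫ snd G (VecGrp.pt k k) ≫ g = VecGrp.ptMap φ ≫ VecGrp.ptMap (Algebra.ofId k Γ(G.left, ⊤)) ≫ g := by
    rw [← Category.assoc, ← Category.assoc]
    exact congrArg (· ≫ g) (pt_terminal _ _)
  have ht : uP ≫ ((G ◁ g) ≫ μ[G]) = VecGrp.ptMap φ ≫ (u * (VecGrp.ptMap (Algebra.ofId k Γ(G.left, ⊤)) ≫ g)) := by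
    rw [MonObj.comp_mul, ← h1, ← h2, Hom.mul_def, ← Category.assoc]
    congr 1
    apply CartesianMonoidalCategory.hom_ext <;> simp [Category.assoc]
  have key : algPt (uP ≫ ((G ◁ g) ≫ μ[G])) f = algPt (uP ≫ fst G (VecGrp.pt k k)) f := by
    rw [ht, algPt_ptMap, h, h1, algPt_ptMap, hu]
  rw [algPt_comp, algPt_comp, huP, huP] at key
  exact key

theorem universal_of_invariant {G : Over (Spec (CommRingCat.of k))} [GrpObj G]
    (g : VecGrp.pt k k ⟶ G) (f : Γ(G.left, ⊤)) (h : AGF.IsRTransInv g f)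
    {B : Type u} [CommRing B] [Algebra k B] (t : VecGrp.pt k B ⟶ G) :
    algPt (t * (VecGrp.ptMap (Algebra.ofId k B) ≫ g)) f = algPt t f := by
  let s : VecGrp.pt k B ⟶ G ⊗ VecGrp.pt k k := lift t (VecGrp.ptMap (Algebra.ofId k B))
  have h1 : s ≫ ((G ◁ g) ≫ μ[G]) = t * (VecGrp.ptMap (Algebra.ofId k B) ≫ g) := by
    rw [Hom.mul_def, ← Category.assoc]
    congr 1
    apply CartesianMonoidalCategory.hom_ext <;> simp [s, Category.assoc]
  have h2 : s ≫ fst G (VecGrp.pt k k) = t := lift_fst _ _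
  conv_lhs => rw [← h1]
  conv_rhs => rw [← h2]
  rw [algPt_comp, algPt_comp]
  exact congrArg _ h

theorem exists_test_set (G : Over (Spec (CommRingCat.of k))) [GrpObj G] [IsAffine G.left] (f : Γ(G.left, ⊤)) :
    ∃ S : Set Γ(G.left, ⊤), ∀ g : VecGrp.pt k k ⟶ G, AGF.IsRTransInv g f ↔ ∀ c ∈ S, algPt g c = 0 := by
  letI := gAlg G
  obtain ⟨u, hu⟩ := exists_univ_pt G
  let il : Γ(G.left, ⊤) →ₐ[k] Γ(G.left, ⊤) ⊗[k] Γ(G.left, ⊤) := Algebra.TensorProduct.includeLeft
  let ir : Γ(G.left, ⊤) →ₐ[k] Γ(G.left, ⊤) ⊗[k] Γ(G.left, ⊤) := Algebra.TensorProduct.includeRight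
  let z : Γ(G.left, ⊤) ⊗[k] Γ(G.left, ⊤) := algPt ((VecGrp.ptMap il ≫ u) * (VecGrp.ptMap ir ≫ u)) f - f ⊗ₜ 1
  refine ⟨Set.range fun lam : Γ(G.left, ⊤) →ₗ[k] k => TensorProduct.lid k Γ(G.left, ⊤) (lam.rTensor Γ(G.left, ⊤) z), fun g => ?_⟩
  obtain ⟨gh, hgh⟩ := exists_algHom g
  let ψ : Γ(G.left, ⊤) ⊗[k] Γ(G.left, ⊤) →ₐ[k] Γ(G.left, ⊤) := Algebra.TensorProduct.productMap (AlgHom.id k Γ(G.left, ⊤)) ((Algebra.ofId k Γ(G.left, ⊤)).comp gh)
  have hg : VecGrp.ptMap ψ ≫ VecGrp.ptMap ir ≫ u = VecGrp.ptMap (Algebra.ofId k Γ(G.left, ⊤)) ≫ g := pt_eq _ _ fun x => by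
    rw [algPt_ptMap, algPt_ptMap, algPt_ptMap, hu, ← hgh]
    simp [ψ, Algebra.TensorProduct.productMap_apply_tmul, ir]
  have hl : VecGrp.ptMap ψ ≫ VecGrp.ptMap il ≫ u = u := pt_eq _ _ fun x => by
    rw [algPt_ptMap, algPt_ptMap, hu]
    simp [ψ, Algebra.TensorProduct.productMap_apply_tmul, il]
  have hz : ψ z = algPt (u * (VecGrp.ptMap (Algebra.ofId k Γ(G.left, ⊤)) ≫ g)) f - f := by
    rw [map_sub]
    congr 1
    · rw [← algPt_ptMap, MonObj.comp_mul, hg, hl]
    · simp [ψ, Algebra.TensorProduct.productMap_apply_tmul]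
  have hiff : AGF.IsRTransInv g f ↔ ψ z = 0 := by
    rw [hz, sub_eq_zero]
    exact ⟨fun h => (universal_of_invariant g f h u).trans (hu f), invariant_of_universal g f u hu⟩
  have hlam : ∀ lam : Γ(G.left, ⊤) →ₗ[k] k, lam (ψ z) = gh (TensorProduct.lid k Γ(G.left, ⊤) (lam.rTensor Γ(G.left, ⊤) z)) := by
    intro lam
    generalize z = w
    induction w using TensorProduct.induction_on with
    | zero => simp
    | tmul a b =>
      have : ψ (a ⊗ₜ[k] b) = gh b • a := by simp [ψ, Algebra.TensorProduct.productMap_apply_tmul, Algebra.smul_def, mul_comm, Algebra.ofId_apply]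
      rw [this, map_smul]
      simp [mul_comm]
    | add a b ha hb => simp only [map_add, ha, hb]
  rw [hiff]
  constructor
  · rintro h _ ⟨lam, rfl⟩
    rw [← hgh]
    exact (hlam lam).symm.trans (by rw [h, map_zero])
  · intro h
    exact (Module.forall_dual_apply_eq_zero_iff k _).1 fun lam => by
      rw [hlam, hgh]
      exact h _ ⟨lam, rfl⟩

end

/-- Let k be an algebraically closed field, G a linear algebraic group over k (an affine smooth group
scheme over k) and H a closed subgroup of G (a smooth closed subgroup scheme, i : H → G). Then there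
are finitely many right-H-invariant global functions f₁, ..., fₙ on G which already cut out the
observable hull of H: a rational point of G whose right translation fixes each fⱼ fixes every
right-H-invariant global function. -/
theorem result (k : Type u) [Field k] [IsAlgClosed k]
    (G : Over (Spec (CommRingCat.of k))) [GrpObj G] [IsAffine G.left] [Smooth G.hom]
    (H : Over (Spec (CommRingCat.of k))) [GrpObj H] [Smooth H.hom] (i : H ⟶ G) [IsMonHom i]
    [IsClosedImmersion i.left] :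
    ∃ s : Finset Γ(G.left, ⊤), (∀ f ∈ s, AGF.IsRTransInv i f) ∧
      ∀ g : VecGrp.pt k k ⟶ G, (∀ f ∈ s, AGF.IsRTransInv g f) →
        ∀ f : Γ(G.left, ⊤), AGF.IsRTransInv i f → AGF.IsRTransInv g f := by
  classical
  haveI : IsLocallyNoetherian G.left := LocallyOfFiniteType.isLocallyNoetherian G.hom
  haveI : IsNoetherianRing Γ(G.left, ⊤) := IsLocallyNoetherian.component_noetherian ⟨⊤, isAffineOpen_top _⟩
  choose S hS using exists_test_set G
  let U : Set Γ(G.left, ⊤) := ⋃ f ∈ {f | AGF.IsRTransInv i f}, S f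
  obtain ⟨s', hs'U, hs'⟩ := (Submodule.fg_span_iff_fg_span_finset_subset U).1 (IsNoetherian.noetherian (Ideal.span U))
  have : ∀ c : (s' : Set Γ(G.left, ⊤)), ∃ f, AGF.IsRTransInv i f ∧ (c : Γ(G.left, ⊤)) ∈ S f := fun c => by
    simpa [U] using hs'U c.2
  choose F hF hFS using this
  refine ⟨Finset.univ.image F, fun f hf => ?_, fun g hg f hf => ?_⟩
  · obtain ⟨c, -, rfl⟩ := Finset.mem_image.1 hf
    exact hF c
  · rw [hS]
    intro c hc
    have hmem : c ∈ Submodule.span Γ(G.left, ⊤) U := Submodule.subset_span (Set.mem_biUnion hf hc)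
    rw [hs'] at hmem
    have hle : Ideal.span (s' : Set Γ(G.left, ⊤)) ≤ RingHom.ker (Groth.Agent.CommAlg4.AffPt.algPt g) :=
      Ideal.span_le.2 fun d hd => (hS _ g).1 (hg _ (Finset.mem_image_of_mem F (Finset.mem_univ ⟨d, hd⟩))) d (hFS ⟨d, hd⟩)
    exact hle hmem

end Groth.Agent.S11199
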