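import Groth.Statements.S5427
import Groth.Agent.SGA3cLib.DSChar
import Mathlib.Data.ZMod.QuotientRing
import Mathlib.RingTheory.Int.Basic
import Mathlib.RingTheory.SimpleModule.Basic

set_option autoImplicit false
universe u
open CategoryTheory MonoidalCategory CartesianMonoidalCategory MonObj GrpObj AlgebraicGeometry CategoryTheory.Limits
open Red

namespace Groth.Agent.S5427

open Groth.Agent.SGA3cLib in
theorem dsFn_DSmap {U : Scheme.{u}} {M N : Type} [AddCommGroup M] [AddCommGroup N] (φ : M →+ N) {W : Over U}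
    (p : W ⟶ Red.DS U N) (m : Multiplicative M) :
    dsFn (p ≫ Red.DSmap U φ) m = dsFn p (AddMonoidHom.toMultiplicative φ m) := by
  let F : CommRingCat.of (MonoidAlgebra (ULift.{u} ℤ) (Multiplicative M)) ⟶ CommRingCat.of (MonoidAlgebra (ULift.{u} ℤ) (Multiplicative N)) :=
    CommRingCat.ofHom (MonoidAlgebra.mapDomainAlgHom (ULift.{u} ℤ) (ULift.{u} ℤ) (AddMonoidHom.toMultiplicative φ)).toRingHom
  have e : (p ≫ Red.DSmap U φ).left ≫ pullback.fst _ _ = (p.left ≫ pullback.fst _ _) ≫ Spec.map F :=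
    congrArg CommaMorphism.left (proj_map p (Red.diagMap (ULift.{u} ℤ) φ))
  show ((Scheme.ΓSpecIso _).inv ≫ ((p ≫ Red.DSmap U φ).left ≫ pullback.fst _ _).appTop).hom _ = _
  erw [e, Scheme.Hom.comp_appTop, ← Category.assoc, ← Scheme.ΓSpecIso_inv_naturality, Category.assoc]
  show (p.left ≫ pullback.fst _ _).appTop ((Scheme.ΓSpecIso _).inv (F (MonoidAlgebra.of _ _ m))) = _
  rw [show F (MonoidAlgebra.of (ULift.{u} ℤ) _ m) = MonoidAlgebra.of _ _ (AddMonoidHom.toMultiplicative φ m) from
    MonoidAlgebra.mapDomain_single]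
  rfl

open Groth.Agent.SGA3cLib in
theorem isMonHom_DSmap {U : Scheme.{u}} {M N : Type} [AddCommGroup M] [AddCommGroup N] (φ : M →+ N) :
    IsMonHom (Red.DSmap U φ) := by
  have key : ∀ (W : Over U) (a b : W ⟶ Red.DS U N),
      (a * b) ≫ Red.DSmap U φ = (a ≫ Red.DSmap U φ) * (b ≫ Red.DSmap U φ) := fun W a b =>
    dsFn_injective (MonoidHom.ext fun m => by rw [dsFn_mul, dsFn_DSmap, dsFn_DSmap, dsFn_DSmap, dsFn_mul])
  have h1 : (1 : 𝟙_ (Over U) ⟶ Red.DS U N) ≫ Red.DSmap U φ = 1 :=
    dsFn_injective (MonoidHom.ext fun m => by rw [dsFn_DSmap, dsFn_one, dsFn_one])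
  exact
    { one_hom := by
        have e := h1
        simp only [Hom.one_def, toUnit_unique (toUnit (𝟙_ (Over U))) (𝟙 _), Category.id_comp] at e
        exact e
      mul_hom := by
        have h := key _ (fst _ _) (snd _ _)
        rw [Hom.mul_def, Hom.mul_def, lift_fst_snd, Category.id_comp] at h
        rw [h]
        congr 1
        all_goals (apply CartesianMonoidalCategory.hom_ext <;> simp) }

/-- Let S be a scheme and G = D_S(M) a diagonalizable S-group of finite type, M a non-trivial finitely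
generated commutative group. Then there are a prime number r and a closed subgroup of G isomorphic
to (μ_r)_S: a homomorphism of S-groups D_S(ℤ/r) → D_S(M) which is a closed immersion. -/
theorem result (S : Scheme.{u}) (M : Type) [AddCommGroup M] [AddGroup.FG M] [Nontrivial M] :
    ∃ (r : ℕ) (_ : r.Prime) (j : Red.DS S (ZMod r) ⟶ Red.DS S M), IsMonHom j ∧ IsClosedImmersion j.left := by
  haveI : Module.Finite ℤ M := Module.Finite.iff_addGroup_fg.mpr ‹_›
  obtain ⟨N, hN⟩ : ∃ N : Submodule ℤ M, IsCoatom N :=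
    (IsCoatomic.eq_top_or_exists_le_coatom (⊥ : Submodule ℤ M)).resolve_left bot_ne_top |>.imp fun _ h => h.1
  haveI : IsSimpleModule ℤ (M ⧸ N) := isSimpleModule_iff_isCoatom.mpr hN
  obtain ⟨I, hI, ⟨e⟩⟩ := isSimpleModule_iff_quot_maximal.mp ‹IsSimpleModule ℤ (M ⧸ N)›
  obtain ⟨n, rfl⟩ : ∃ n : ℕ, I = Ideal.span {(n : ℤ)} :=
    ⟨(Submodule.IsPrincipal.generator I).natAbs, by rw [Int.span_natAbs, Ideal.span_singleton_generator]⟩
  have hne : n ≠ 0 := by
    rintro rfl
    simp at hI
    exact Int.not_isField (Ring.isField_iff_maximal_bot.mpr hI)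
  have hp : n.Prime := by
    have h := (Ideal.span_singleton_prime (by exact_mod_cast hne)).mp hI.isPrime
    exact Nat.prime_iff_prime_int.mpr h
  let φ : M →+ ZMod n := ((Int.quotientSpanNatEquivZMod n).toAddEquiv.toAddMonoidHom.comp
    (e.toLinearMap.comp N.mkQ).toAddMonoidHom)
  have hφ : Function.Surjective φ :=
    (Int.quotientSpanNatEquivZMod n).surjective.comp (e.surjective.comp N.mkQ_surjective)
  refine ⟨n, hp, Red.DSmap S φ, isMonHom_DSmap φ, ?_⟩
  have : IsClosedImmersion (Red.diagMap (ULift.{u} ℤ) φ).left :=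
    IsClosedImmersion.spec_of_surjective _ (fun b => by
      induction b using MonoidAlgebra.induction_linear with
      | zero => exact ⟨0, map_zero _⟩
      | add x y hx hy =>
        obtain ⟨a, rfl⟩ := hx
        obtain ⟨b, rfl⟩ := hy
        exact ⟨a + b, map_add _ a b⟩
      | single g r =>
        obtain ⟨h, rfl⟩ := hφ g
        exact ⟨MonoidAlgebra.single h r, MonoidAlgebra.mapDomain_single⟩)
  exact MorphismProperty.baseChange_map (P := @IsClosedImmersion) _ (Red.diagMap (ULift.{u} ℤ) φ) this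

end Groth.Agent.S5427
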