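import Groth.Statements.S0015
-- import your own Groth.Agent.* helpers here

set_option autoImplicit false
universe u
open Coherent

namespace Groth.Agent.S0015

open AlgebraicGeometry in
/-- Let X be quasi-compact and quasi-separated and P a property of opens of X. If P holds for affine
opens, and P(U ∪ V) follows from P(U), P(V), P(U ∩ V) whenever U is quasi-compact open and V affine
open, then P holds for every quasi-compact open, in particular for X. -/
theorem result (X : Scheme.{u}) [CompactSpace X] [QuasiSeparatedSpace X]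
    (P : X.Opens → Prop) (h₁ : ∀ U : X.Opens, IsAffineOpen U → P U)
    (h₂ : ∀ U V : X.Opens, IsCompact (U : Set X) → IsAffineOpen V → P U → P V → P (U ⊓ V) →
      P (U ⊔ V))
    (U : X.Opens) (hU : IsCompact (U : Set X)) : P U := by
  classical
  have inside : ∀ W : X.Opens, IsAffineOpen W → ∀ (n : ℕ) (s : Finset Γ(X, W)), s.card ≤ n →
      P (⨆ f ∈ s, X.basicOpen f) := by
    intro W hW n
    induction n with
    | zero =>
      intro s hs
      obtain rfl : s = ∅ := Finset.card_eq_zero.mp (Nat.le_zero.mp hs)
      simpa using h₁ ⊥ (isAffineOpen_bot X)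
    | succ n ih =>
      intro s hs
      rcases s.eq_empty_or_nonempty with rfl | ⟨a, ha⟩
      · simpa using h₁ ⊥ (isAffineOpen_bot X)
      · rw [← Finset.insert_erase ha, Finset.iSup_insert, sup_comm]
        have hn : (s.erase a).card ≤ n := by
          have := Finset.card_erase_add_one ha; omega
        refine h₂ _ _ ?_ (hW.basicOpen a) (ih _ hn) (h₁ _ (hW.basicOpen a)) ?_
        · simp only [TopologicalSpace.Opens.coe_iSup]
          exact (s.erase a).isCompact_biUnion fun f _ => (hW.basicOpen f).isCompact
        · have e : (⨆ f ∈ s.erase a, X.basicOpen f) ⊓ X.basicOpen a =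
              ⨆ f ∈ (s.erase a).image (fun f => f * a), X.basicOpen f := by
            simp only [iSup_inf_eq, Finset.iSup_finset_image, Scheme.basicOpen_mul]
          rw [e]
          exact ih _ (Finset.card_image_le.trans hn)
  have insideU : ∀ W : X.Opens, IsAffineOpen W → ∀ U : X.Opens, IsCompact (U : Set X) → U ≤ W → P U := by
    intro W hW U hU hUW
    obtain ⟨t, ht⟩ := hU.elim_finite_subcover
      (fun f : {f : Γ(X, W) // X.basicOpen f ≤ U} => (X.basicOpen f.1 : Set X))
      (fun f => (X.basicOpen f.1).isOpen) (fun x hx => by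
        obtain ⟨f, hf, hxf⟩ := hW.exists_basicOpen_le ⟨x, hx⟩ (hUW hx)
        exact Set.mem_iUnion.mpr ⟨⟨f, hf⟩, hxf⟩)
    have e : U = ⨆ f ∈ t.image Subtype.val, X.basicOpen f := by
      refine le_antisymm (fun x hx => ?_) ?_
      · obtain ⟨f, hf, hxf⟩ := Set.mem_iUnion₂.mp (ht hx)
        simp only [TopologicalSpace.Opens.mem_iSup]
        exact ⟨f.1, Finset.mem_image_of_mem _ hf, hxf⟩
      · refine iSup₂_le fun f hf => ?_
        obtain ⟨g, _, rfl⟩ := Finset.mem_image.mp hf
        exact g.2
    rw [e]
    exact inside W hW _ _ le_rfl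
  refine compact_open_induction_on (P := P) U hU (h₁ ⊥ (isAffineOpen_bot X)) ?_
  intro S hS V hV
  refine h₂ S V hS V.2 hV (h₁ V V.2) ?_
  refine insideU V V.2 _ ?_ inf_le_right
  exact QuasiSeparatedSpace.inter_isCompact _ _ S.isOpen hS V.1.isOpen V.2.isCompact

end Groth.Agent.S0015
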