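import Groth.Statements.S11234
import Groth.Agent.CommAlg4.AffPt
import Groth.Agent.CommAlg4.GModStable
import Groth.Agent.AlgGrpLib.GLnPoints
import Groth.Agent.AlgGrpLib.LocIsotrivial
-- import your own Groth.Agent.* helpers here

set_option autoImplicit false
set_option backward.isDefEq.respectTransparency false
set_option backward.isDefEq.respectTransparency.types false
open Groth.Agent.CommAlg4.AffPt Groth.Agent.AlgGrpLib
universe u
open CategoryTheory MonoidalCategory CartesianMonoidalCategory MonObj GrpObj AlgebraicGeometry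
open scoped TensorProduct
open AGF

namespace Groth.Agent.S11234


section
variable {k : Type u} [Field k]

/-- A function invariant under right translation by `j : T ⟶ G`, evaluated on points. -/
theorem algPt_mul_of_invariant {G T : Over (Spec (CommRingCat.of k))} [GrpObj G] (j : T ⟶ G) (f : Γ(G.left, ⊤))
    (hf : AGF.IsRTransInv j f) {B : Type u} [CommRing B] [Algebra k B] (t : VecGrp.pt k B ⟶ G) (h : VecGrp.pt k B ⟶ T) :
    algPt (t * (h ≫ j)) f = algPt t f := by
  have h1 : lift t h ≫ ((G ◁ j) ≫ μ[G]) = t * (h ≫ j) := by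
    rw [Hom.mul_def, ← Category.assoc]
    congr 1
    apply CartesianMonoidalCategory.hom_ext <;> simp [Category.assoc]
  have h2 : lift t h ≫ fst G T = t := lift_fst _ _
  conv_lhs => rw [← h1]
  conv_rhs => rw [← h2]
  rw [algPt_comp, algPt_comp]
  exact congrArg _ hf

theorem eq_of_dual {M : Type u} [AddCommGroup M] [Module k M] {B : Type u} [CommRing B] [Algebra k B] (z z' : B ⊗[k] M)
    (h : ∀ lam : M →ₗ[k] k, TensorProduct.rid k B (lam.lTensor B z) = TensorProduct.rid k B (lam.lTensor B z')) :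
    z = z' := by
  classical
  let b := Module.Basis.ofVectorSpace k M
  apply (TensorProduct.equivFinsuppOfBasisRight (M := B) b).injective
  ext i
  have h' := h (b.coord i)
  have key : ∀ y : B ⊗[k] M,
      TensorProduct.equivFinsuppOfBasisRight (M := B) b y i = TensorProduct.rid k B ((b.coord i).lTensor B y) := by
    intro y
    induction y using TensorProduct.induction_on with
    | zero => simp
    | tmul c m => simp [TensorProduct.equivFinsuppOfBasisRight_apply_tmul_apply]
    | add p q hp hq => simp only [map_add, Finsupp.add_apply, hp, hq]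
  rw [key, key, h']

/-- The algebra endomorphism of `B ⊗ k[G]` given by right translation by `t`. -/
theorem exists_regular (G : Over (Spec (CommRingCat.of k))) [GrpObj G] [IsAffine G.left] :
    letI := gAlg G
    ∃ (uG : VecGrp.pt k Γ(G.left, ⊤) ⟶ G) (ρ : VecGrp.GMod G Γ(G.left, ⊤)),
      (∀ f, algPt uG f = f) ∧
      ∀ (B : Type u) [CommRing B] [Algebra k B] (t : VecGrp.pt k B ⟶ G) (f : Γ(G.left, ⊤)),
        ρ.ρ B t ((1 : B) ⊗ₜ[k] f) =
          algPt ((VecGrp.ptMap (Algebra.TensorProduct.includeRight : Γ(G.left, ⊤) →ₐ[k] B ⊗[k] Γ(G.left, ⊤)) ≫ uG) *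
            (VecGrp.ptMap (Algebra.TensorProduct.includeLeft : B →ₐ[k] B ⊗[k] Γ(G.left, ⊤)) ≫ t)) f := by
  letI := gAlg G
  obtain ⟨uG, hu⟩ := exists_univ_pt G
  let R : ∀ (B : Type u) [CommRing B] [Algebra k B], VecGrp.pt k (B ⊗[k] Γ(G.left, ⊤)) ⟶ G :=
    fun B _ _ => VecGrp.ptMap Algebra.TensorProduct.includeRight ≫ uG
  let L : ∀ (B : Type u) [CommRing B] [Algebra k B] (t : VecGrp.pt k B ⟶ G), VecGrp.pt k (B ⊗[k] Γ(G.left, ⊤)) ⟶ G :=
    fun B _ _ t => VecGrp.ptMap Algebra.TensorProduct.includeLeft ≫ t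
  choose φ hφ using fun (B : Type u) (i1 : CommRing B) (i2 : Algebra k B) (t : VecGrp.pt k B ⟶ G) =>
    exists_algHom (R B * L B t)
  let Φ : ∀ (B : Type u) [CommRing B] [Algebra k B] (t : VecGrp.pt k B ⟶ G),
      B ⊗[k] Γ(G.left, ⊤) →ₐ[B] B ⊗[k] Γ(G.left, ⊤) := fun B i1 i2 t =>
    Algebra.TensorProduct.lift (Algebra.ofId B (B ⊗[k] Γ(G.left, ⊤))) (φ B i1 i2 t) (fun _ _ => Commute.all _ _)
  have hΦ : ∀ (B : Type u) [CommRing B] [Algebra k B] (t : VecGrp.pt k B ⟶ G) (b : B) (f : Γ(G.left, ⊤)),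
      Φ B t (b ⊗ₜ[k] f) = algebraMap B (B ⊗[k] Γ(G.left, ⊤)) b * algPt (R B * L B t) f := fun B i1 i2 t b f => by
    simp [Φ, hφ, Algebra.ofId_apply]
  have hΦ1 : ∀ (B : Type u) [CommRing B] [Algebra k B] (t : VecGrp.pt k B ⟶ G) (f : Γ(G.left, ⊤)),
      Φ B t ((1 : B) ⊗ₜ[k] f) = algPt (R B * L B t) f := fun B _ _ t f => by
    rw [hΦ, map_one, _root_.one_mul]
  have hext : ∀ (B : Type u) [CommRing B] [Algebra k B] (T T' : B ⊗[k] Γ(G.left, ⊤) →ₗ[B] B ⊗[k] Γ(G.left, ⊤)),
      (∀ f, T ((1 : B) ⊗ₜ[k] f) = T' ((1 : B) ⊗ₜ[k] f)) → T = T' := fun B _ _ T T' h => by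
    refine LinearMap.ext fun z => ?_
    induction z using TensorProduct.induction_on with
    | zero => simp
    | tmul b x =>
      rw [show b ⊗ₜ[k] x = b • ((1 : B) ⊗ₜ[k] x) by rw [TensorProduct.smul_tmul', smul_eq_mul, _root_.mul_one],
        map_smul, map_smul, h]
    | add p q hp hq => rw [map_add, map_add, hp, hq]
  have hone : ∀ (B : Type u) [CommRing B] [Algebra k B], (Φ B 1).toLinearMap = LinearMap.id := fun B _ _ =>
    hext B _ _ fun f => by
      show Φ B 1 ((1 : B) ⊗ₜ[k] f) = (1 : B) ⊗ₜ[k] f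
      rw [hΦ1]
      simp only [L, MonObj.comp_one, _root_.mul_one]
      simp only [R, algPt_ptMap, hu, Algebra.TensorProduct.includeRight_apply]
  have hmul : ∀ (B : Type u) [CommRing B] [Algebra k B] (t t' : VecGrp.pt k B ⟶ G),
      (Φ B (t * t')).toLinearMap = (Φ B t).toLinearMap ∘ₗ (Φ B t').toLinearMap := fun B _ _ t t' =>
    hext B _ _ fun f => by
      show Φ B (t * t') ((1 : B) ⊗ₜ[k] f) = Φ B t (Φ B t' ((1 : B) ⊗ₜ[k] f))
      rw [hΦ1, hΦ1]
      have h0 : Φ B t (algPt (R B * L B t') f) = algPt (VecGrp.ptMap ((Φ B t).restrictScalars k) ≫ (R B * L B t')) f :=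
        (algPt_ptMap ((Φ B t).restrictScalars k) _ f).symm
      rw [h0, MonObj.comp_mul]
      have e1 : VecGrp.ptMap ((Φ B t).restrictScalars k) ≫ R B = R B * L B t := pt_eq _ _ fun x => by
        rw [algPt_ptMap]
        simp only [R, algPt_ptMap, hu, Algebra.TensorProduct.includeRight_apply, AlgHom.restrictScalars_apply]
        exact hΦ1 B t x
      have e2 : VecGrp.ptMap ((Φ B t).restrictScalars k) ≫ L B t' = L B t' := pt_eq _ _ fun x => by
        rw [algPt_ptMap]
        simp only [L, algPt_ptMap, Algebra.TensorProduct.includeLeft_apply, AlgHom.restrictScalars_apply]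
        exact (Φ B t).commutes _
      rw [e1, e2, _root_.mul_assoc]
      congr 1
      congr 1
      exact congrArg _ (MonObj.comp_mul _ _ _)
  let E : ∀ (B : Type u) [CommRing B] [Algebra k B] (t : VecGrp.pt k B ⟶ G),
      (B ⊗[k] Γ(G.left, ⊤)) ≃ₗ[B] (B ⊗[k] Γ(G.left, ⊤)) := fun B _ _ t =>
    LinearEquiv.ofLinearMap (Φ B t).toLinearMap (Φ B t⁻¹).toLinearMap
      (by rw [← hmul, mul_inv_cancel, hone]) (by rw [← hmul, inv_mul_cancel, hone])
  refine ⟨uG, { ρ := fun B _ _ => MonoidHom.mk' (E B) (fun g g' => LinearEquiv.toLinearMap_injective (hmul B g g'))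
                naturality := fun {B B'} _ _ _ _ ψ g x => ?_ }, hu, fun B _ _ t f => hΦ1 B t f⟩
  show VecGrp.Wmap ψ (Φ B g x) = Φ B' (VecGrp.ptMap ψ ≫ g) (VecGrp.Wmap ψ x)
  let W : B ⊗[k] Γ(G.left, ⊤) →ₐ[k] B' ⊗[k] Γ(G.left, ⊤) := Algebra.TensorProduct.map ψ (AlgHom.id k _)
  have hW : ∀ z, VecGrp.Wmap ψ z = W z := fun z => by
    induction z using TensorProduct.induction_on with
    | zero => simp
    | tmul b f => simp [W]
    | add p q hp hq => simp only [map_add, hp, hq]
  rw [hW, hW]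
  induction x using TensorProduct.induction_on with
  | zero => simp
  | tmul b f =>
    rw [hΦ, map_mul, show W (b ⊗ₜ[k] f) = ψ b ⊗ₜ[k] f by simp [W], hΦ]
    congr 1
    rw [← algPt_ptMap W, MonObj.comp_mul]
    refine congrArg (fun z => algPt z f) (congrArg₂ (fun a b => a * b) ?_ ?_)
    · exact pt_eq _ _ fun x => by simp only [R, algPt_ptMap, hu]; simp [W]
    · exact pt_eq _ _ fun x => by simp only [L, algPt_ptMap]; simp [W]
  | add p q hp hq => simp only [map_add, hp, hq]

/-- A matrix of functions which is multiplicative on points is a homomorphism to `GL_m`. -/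
theorem exists_hom (G : Over (Spec (CommRingCat.of k))) [GrpObj G] [IsAffine G.left] {m : ℕ}
    (Q : Matrix (Fin m) (Fin m) Γ(G.left, ⊤))
    (hmul : ∀ (B : Type u) [CommRing B] [Algebra k B] (t t' : VecGrp.pt k B ⟶ G),
      Q.map (algPt (t * t')) = Q.map (algPt t) * Q.map (algPt t'))
    (hone : ∀ (B : Type u) [CommRing B] [Algebra k B], Q.map (algPt (1 : VecGrp.pt k B ⟶ G)) = 1) :
    ∃ ψ : G ⟶ FrB.GLn m (Spec (CommRingCat.of k)), IsMonHom ψ ∧ GLnPoints.matOf ψ = Q := by
  letI := gAlg G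
  obtain ⟨uG, hu⟩ := exists_univ_pt G
  have hdet : IsUnit Q.det := by
    have h1 := hmul _ uG uG⁻¹
    rw [mul_inv_cancel, hone, show Q.map (algPt uG) = Q from Matrix.ext fun i j => hu _] at h1
    exact IsUnit.of_mul_eq_one _ (by rw [← Matrix.det_mul, ← h1, Matrix.det_one])
  obtain ⟨ψ, hψ⟩ := GLnPoints.exists_matOf (S := Spec (CommRingCat.of k)) (X := G) Q hdet
  have key : (fst G G * snd G G) ≫ ψ = (fst G G ≫ ψ) * (snd G G ≫ ψ) := by
    haveI : IsAffine (G ⊗ G).left := by rw [Over.tensorObj_left]; infer_instance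
    letI := gAlg (G ⊗ G)
    obtain ⟨uP, huP⟩ := exists_univ_pt (G ⊗ G)
    apply GLnPoints.matOf_injective
    rw [GLnPoints.matOf_mul, GLnPoints.matOf_comp, GLnPoints.matOf_comp, GLnPoints.matOf_comp, hψ]
    have h := hmul _ (uP ≫ fst G G) (uP ≫ snd G G)
    rw [← MonObj.comp_mul] at h
    have hpt : ∀ z : G ⊗ G ⟶ G, Q.map (algPt (uP ≫ z)) = Q.map z.left.appTop.hom := fun z =>
      Matrix.ext fun i j => by
        show algPt (uP ≫ z) (Q i j) = z.left.appTop (Q i j)
        rw [algPt_comp, huP]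
    rwa [hpt, hpt, hpt] at h
  refine ⟨ψ, Groth.Agent.SGA3cLib.BCPoints.isMonHom_of_mul ψ fun X x y => ?_, hψ⟩
  have h := congrArg (fun z => lift x y ≫ z) key
  simpa only [MonObj.comp_mul, ← Category.assoc, lift_fst, lift_snd] using h

/-- Coordinates of elements of `B ⊗ N` along linear forms dual to a basis. -/
theorem eq_sum_coord {E : Type u} [AddCommGroup E] [Module k E] {n : ℕ} (N : Submodule k E)
    (b : Module.Basis (Fin n) k N) (c : Fin n → E →ₗ[k] k) (hc : ∀ i (x : N), c i x = b.repr x i)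
    {B : Type u} [CommRing B] [Algebra k B] (z : B ⊗[k] E) (hz : z ∈ LinearMap.range (N.subtype.baseChange B)) :
    z = ∑ i, TensorProduct.rid k B ((c i).lTensor B z) • ((1 : B) ⊗ₜ[k] (b i : E)) := by
  obtain ⟨w, rfl⟩ := hz
  induction w using TensorProduct.induction_on with
  | zero => simp
  | tmul a x =>
    simp only [LinearMap.baseChange_tmul, Submodule.subtype_apply, LinearMap.lTensor_tmul, TensorProduct.rid_tmul, hc,
      TensorProduct.smul_tmul', smul_eq_mul, _root_.mul_one]
    conv_lhs => rw [← b.sum_repr x]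
    simp only [Submodule.coe_sum, Submodule.coe_smul, TensorProduct.tmul_sum, TensorProduct.tmul_smul]
    rfl
  | add p q hp hq =>
    simp only [map_add, add_smul, Finset.sum_add_distrib]
    rw [← hp, ← hq]

theorem rid_lTensor_smul {E : Type u} [AddCommGroup E] [Module k E] {B : Type u} [CommRing B] [Algebra k B]
    (lam : E →ₗ[k] k) (c : B) (z : B ⊗[k] E) :
    TensorProduct.rid k B (lam.lTensor B (c • z)) = c * TensorProduct.rid k B (lam.lTensor B z) := by
  induction z using TensorProduct.induction_on with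
  | zero => simp
  | tmul a x => simp [TensorProduct.smul_tmul', mul_left_comm]
  | add p q hp hq => simp only [smul_add, map_add, hp, hq, mul_add]

/-- If `r = s` whenever two homomorphisms agree on `H`, then `H`-invariant vectors are invariant. -/
theorem fixed_of_hom_ext (G : Over (Spec (CommRingCat.of k))) [GrpObj G] [IsAffine G.left] [Smooth G.hom]
    {H : Over (Spec (CommRingCat.of k))} [GrpObj H] (i : H ⟶ G) [IsMonHom i] [IsAffine H.left]
    (he : ∀ (G' : Over (Spec (CommRingCat.of k))) [GrpObj G'] [IsAffine G'.left] [Smooth G'.hom]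
      (r s : G ⟶ G') [IsMonHom r] [IsMonHom s], i ≫ r = i ≫ s → r = s)
    (E : Type u) [AddCommGroup E] [Module k E] (ρ : VecGrp.GMod G E) (v : E) (hv : v ∈ ρ.fixedUnder i) :
    v ∈ ρ.fixedUnder (𝟙 G) := by
  classical
  obtain ⟨N, hvN, hN, hst⟩ := Groth.Agent.CommAlg4.GModStab.exists_stable_of_noetherian ρ (Submodule.span k {v})
    (Submodule.fg_span_singleton v)
  haveI : Module.Finite k N := Module.Finite.iff_fg.2 hN
  let n := Module.finrank k N
  let b : Module.Basis (Fin n) k N := Module.finBasis k N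
  obtain ⟨P, hP⟩ := LinearMap.exists_leftInverse_of_injective N.subtype (Submodule.ker_subtype N)
  let c : Fin n → E →ₗ[k] k := fun i => b.coord i ∘ₗ P
  have hc : ∀ i (x : N), c i x = b.repr x i := fun i x => by
    show b.coord i (P (N.subtype x)) = _
    rw [show P (N.subtype x) = x from LinearMap.congr_fun hP x]
    rfl
  let vN : N := ⟨v, hvN (Submodule.subset_span rfl)⟩
  let w : Fin n → k := fun i => b.repr vN i
  have hvsum : v = ∑ j, w j • (b j : E) := by
    have := congrArg Subtype.val (b.sum_repr vN).symm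
    simpa only [Submodule.coe_sum, Submodule.coe_smul] using this
  choose F hF using fun j : Fin n => exists_coeff G E ρ (b j : E)
  let Mf : Matrix (Fin n) (Fin n) Γ(G.left, ⊤) := Matrix.of fun i j => F j (c i)
  have hM : ∀ (B : Type u) [CommRing B] [Algebra k B] (t : VecGrp.pt k B ⟶ G) (i j : Fin n),
      algPt t (Mf i j) = TensorProduct.rid k B ((c i).lTensor B (ρ.ρ B t ((1 : B) ⊗ₜ[k] (b j : E)))) :=
    fun B _ _ t i j => hF j B t (c i)
  have hρb : ∀ (B : Type u) [CommRing B] [Algebra k B] (t : VecGrp.pt k B ⟶ G) (j : Fin n),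
      ρ.ρ B t ((1 : B) ⊗ₜ[k] (b j : E)) = ∑ i, algPt t (Mf i j) • ((1 : B) ⊗ₜ[k] (b i : E)) := fun B _ _ t j => by
    simp only [hM]
    exact eq_sum_coord N b c hc _ (hst B t _ (b j).2)
  have hcb : ∀ (B : Type u) [CommRing B] [Algebra k B] (i j : Fin n),
      TensorProduct.rid k B ((c i).lTensor B ((1 : B) ⊗ₜ[k] (b j : E))) = if i = j then 1 else 0 := fun B _ _ i j => by
    simp only [LinearMap.lTensor_tmul, TensorProduct.rid_tmul, hc, Module.Basis.repr_self, Finsupp.single_apply]
    by_cases h : i = j <;> simp [h, eq_comm]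
  have hMmul : ∀ (B : Type u) [CommRing B] [Algebra k B] (t t' : VecGrp.pt k B ⟶ G),
      Mf.map (algPt (t * t')) = Mf.map (algPt t) * Mf.map (algPt t') := fun B _ _ t t' => by
    ext i j
    rw [Matrix.map_apply, hM, map_mul, LinearEquiv.mul_apply, hρb B t' j, map_sum, map_sum, map_sum, Matrix.mul_apply]
    refine Finset.sum_congr rfl fun l _ => ?_
    rw [map_smul, rid_lTensor_smul, ← hM, mul_comm]
    rfl
  have hMone : ∀ (B : Type u) [CommRing B] [Algebra k B], Mf.map (algPt (1 : VecGrp.pt k B ⟶ G)) = 1 := fun B _ _ => by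
    ext i j
    rw [Matrix.map_apply, hM, map_one]
    show TensorProduct.rid k B ((c i).lTensor B ((1 : B) ⊗ₜ[k] (b j : E))) = _
    rw [hcb, Matrix.one_apply]
  let str : k →+* Γ(G.left, ⊤) := ((Scheme.ΓSpecIso (CommRingCat.of k)).inv ≫ G.hom.appTop).hom
  have hstr : ∀ (B : Type u) [CommRing B] [Algebra k B] (t : VecGrp.pt k B ⟶ G) (x : k),
      algPt t (str x) = algebraMap k B x := fun B _ _ t x => by
    obtain ⟨φ, hφ⟩ := exists_algHom t
    letI := gAlg G
    rw [← hφ]
    exact φ.commutes x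
  let wG : Matrix (Fin n) (Fin 1) Γ(G.left, ⊤) := Matrix.of fun i _ => str (w i)
  let col : Matrix (Fin n) (Fin 1) Γ(G.left, ⊤) := wG - Mf * wG
  let e := (finSumFinEquiv : Fin n ⊕ Fin 1 ≃ Fin (n + 1))
  let QR : Matrix (Fin (n + 1)) (Fin (n + 1)) Γ(G.left, ⊤) :=
    (Matrix.fromBlocks Mf 0 0 1).submatrix e.symm e.symm
  let QS : Matrix (Fin (n + 1)) (Fin (n + 1)) Γ(G.left, ⊤) :=
    (Matrix.fromBlocks Mf col 0 1).submatrix e.symm e.symm
  have hmapR : ∀ (B : Type u) [CommRing B] [Algebra k B] (t : VecGrp.pt k B ⟶ G),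
      QR.map (algPt t) = (Matrix.fromBlocks (Mf.map (algPt t)) 0 0 1).submatrix e.symm e.symm := fun B _ _ t => by
    simp only [QR, ← Matrix.submatrix_map, Matrix.fromBlocks_map, Matrix.map_zero _ (map_zero _),
      Matrix.map_one _ (map_zero _) (map_one _)]
  have hmapS : ∀ (B : Type u) [CommRing B] [Algebra k B] (t : VecGrp.pt k B ⟶ G),
      QS.map (algPt t) = (Matrix.fromBlocks (Mf.map (algPt t))
        (wG.map (algPt t) - Mf.map (algPt t) * wG.map (algPt t)) 0 1).submatrix e.symm e.symm := fun B _ _ t => by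
    simp only [QS, col, ← Matrix.submatrix_map, Matrix.fromBlocks_map, Matrix.map_zero _ (map_zero _),
      Matrix.map_one _ (map_zero _) (map_one _), Matrix.map_sub _ (map_sub (algPt t)), Matrix.map_mul]
  have hw : ∀ (B : Type u) [CommRing B] [Algebra k B] (t t' : VecGrp.pt k B ⟶ G), wG.map (algPt t) = wG.map (algPt t') :=
    fun B _ _ t t' => by ext i j; simp [wG, hstr]
  obtain ⟨r, hr1, hr2⟩ := exists_hom G QR (fun B _ _ t t' => by
      rw [hmapR, hmapR, hmapR, Matrix.submatrix_mul_equiv, Matrix.fromBlocks_multiply, hMmul]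
      simp) (fun B _ _ => by
      rw [hmapR, hMone, Matrix.fromBlocks_one, Matrix.submatrix_one_equiv])
  obtain ⟨s, hs1, hs2⟩ := exists_hom G QS (fun B _ _ t t' => by
      rw [hmapS, hmapS, hmapS, Matrix.submatrix_mul_equiv, Matrix.fromBlocks_multiply, hMmul, hw B (t * t') t, hw B t' t]
      simp [Matrix.mul_sub, Matrix.mul_assoc]) (fun B _ _ => by
      rw [hmapS, hMone, Matrix.one_mul, sub_self, Matrix.fromBlocks_one, Matrix.submatrix_one_equiv])
  -- the fixed vector
  have hMw : ∀ (B : Type u) [CommRing B] [Algebra k B] (t : VecGrp.pt k B ⟶ G),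
      ρ.ρ B t ((1 : B) ⊗ₜ[k] v) = ∑ i, (Mf.map (algPt t) * wG.map (algPt t)) i 0 • ((1 : B) ⊗ₜ[k] (b i : E)) := fun B _ _ t => by
    conv_lhs => rw [hvsum]
    simp only [TensorProduct.tmul_sum, TensorProduct.tmul_smul, map_sum]
    simp only [← algebraMap_smul B (w _), map_smul, hρb, Finset.smul_sum, smul_smul]
    rw [Finset.sum_comm]
    refine Finset.sum_congr rfl fun i _ => ?_
    rw [Matrix.mul_apply, Finset.sum_smul]
    refine Finset.sum_congr rfl fun j _ => ?_
    simp [wG, hstr, mul_comm]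
  have hwv : ∀ (B : Type u) [CommRing B] [Algebra k B] (t : VecGrp.pt k B ⟶ G),
      ((1 : B) ⊗ₜ[k] v) = ∑ i, (wG.map (algPt t)) i 0 • ((1 : B) ⊗ₜ[k] (b i : E)) := fun B _ _ t => by
    conv_lhs => rw [hvsum]
    simp only [TensorProduct.tmul_sum, TensorProduct.tmul_smul]
    simp [wG, hstr, algebraMap_smul]
  have hagree : i ≫ r = i ≫ s := by
    apply GLnPoints.matOf_injective
    rw [GLnPoints.matOf_comp, GLnPoints.matOf_comp, hr2, hs2]
    letI := gAlg H
    obtain ⟨uH, huH⟩ := exists_univ_pt H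
    have hQ : ∀ Q : Matrix (Fin (n + 1)) (Fin (n + 1)) Γ(G.left, ⊤), Q.map i.left.appTop.hom = Q.map (algPt (uH ≫ i)) :=
      fun Q => Matrix.ext fun a a' => by
        show i.left.appTop (Q a a') = algPt (uH ≫ i) (Q a a')
        rw [algPt_comp, huH]
    rw [hQ, hQ, hmapR, hmapS]
    have h1 : Mf.map (algPt (uH ≫ i)) * wG.map (algPt (uH ≫ i)) = wG.map (algPt (uH ≫ i)) := by
      ext a a'
      obtain rfl : a' = 0 := Subsingleton.elim _ _
      have h2 := hv _ uH
      rw [hMw, hwv _ (uH ≫ i)] at h2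
      have h3 := congrArg (fun z => TensorProduct.rid k Γ(H.left, ⊤) ((c a).lTensor _ z)) h2
      simp only [map_sum, rid_lTensor_smul, hcb] at h3
      simpa using h3
    rw [h1, sub_self]
  haveI := LocIsotrivial.isAffine_GLn (k := k) (n + 1)
  haveI := LocIsotrivial.smooth_GLn (k := k) (n + 1)
  haveI := hr1
  haveI := hs1
  have hrs := he _ r s hagree
  have hQeq : QR = QS := by rw [← hr2, ← hs2, hrs]
  intro B _ _ t
  rw [Category.comp_id]
  have h4 := congrArg (fun Q : Matrix (Fin (n + 1)) (Fin (n + 1)) Γ(G.left, ⊤) => Q.map (algPt t)) hQeq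
  simp only [hmapR, hmapS] at h4
  have h5 := congrArg (fun Q : Matrix (Fin (n + 1)) (Fin (n + 1)) B => Q.submatrix e e) h4
  simp only [Matrix.submatrix_submatrix, Equiv.symm_comp_self, Matrix.submatrix_id_id] at h5
  have h6 := (Matrix.fromBlocks_inj.1 h5).2.1
  rw [hMw, (sub_eq_zero.1 h6.symm).symm]
  exact (hwv B t).symm

end

end Groth.Agent.S11234

namespace Groth.Agent.S11234

/-- Let k be an algebraically closed field, G a linear algebraic group over k (affine, smooth) and H a
smooth closed subgroup of G. The following are equivalent: (b) every global function on G invariant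
under right translation by H is a constant; (c) for every rational G-module E, the H-invariants of E
coincide with the G-invariants; (e) two homomorphisms from G to a linear algebraic group which agree
on H are equal. (The published list also contains the statement that H is epimorphic in the sense of
its hull under the stabilizer correspondence, and the statement that complementary H-stable
subspaces of a rational G-module are G-stable; this row states the other three.) -/
theorem result (k : Type u) [Field k] [IsAlgClosed k]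
    (G : Over (Spec (CommRingCat.of k))) [GrpObj G] [IsAffine G.left] [Smooth G.hom]
    (H : Over (Spec (CommRingCat.of k))) [GrpObj H] [Smooth H.hom] (i : H ⟶ G) [IsMonHom i]
    [IsClosedImmersion i.left] :
    List.TFAE [
      ∀ f : Γ(G.left, ⊤), ((G ◁ i) ≫ μ[G]).left.appTop f = (fst G H).left.appTop f →
        ∃ c : k, f = G.hom.appTop ((Scheme.ΓSpecIso (CommRingCat.of k)).inv c),
      ∀ (E : Type u) [AddCommGroup E] [Module k E] (ρ : VecGrp.GMod G E),
        ρ.fixedUnder i = ρ.fixedUnder (𝟙 G),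
      ∀ (G' : Over (Spec (CommRingCat.of k))) [GrpObj G'] [IsAffine G'.left] [Smooth G'.hom]
        (r s : G ⟶ G') [IsMonHom r] [IsMonHom s], i ≫ r = i ≫ s → r = s] := by
  haveI : IsAffine H.left := isAffine_of_isAffineHom i.left
  tfae_have 1 → 2 := by
    intro hb E _ _ ρ
    refine le_antisymm (fun v hv => ?_) (fun v hv B _ _ h => ?_)
    · intro B _ _ t
      rw [Category.comp_id]
      refine eq_of_dual _ _ fun lam => ?_
      obtain ⟨F, hF⟩ := exists_coeff G E ρ v
      have hinv : ((G ◁ i) ≫ μ[G]).left.appTop (F lam) = (fst G H).left.appTop (F lam) := by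
        haveI : IsAffine (G ⊗ H).left := by rw [Over.tensorObj_left]; infer_instance
        letI := gAlg (G ⊗ H)
        obtain ⟨uP, huP⟩ := exists_univ_pt (G ⊗ H)
        have key : algPt (uP ≫ ((G ◁ i) ≫ μ[G])) (F lam) = algPt (uP ≫ fst G H) (F lam) := by
          have ht : uP ≫ ((G ◁ i) ≫ μ[G]) = (uP ≫ fst G H) * ((uP ≫ snd G H) ≫ i) := by
            rw [Hom.mul_def, ← Category.assoc]
            congr 1
            apply CartesianMonoidalCategory.hom_ext <;> simp [Category.assoc]
          rw [ht]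
          exact algPt_mul_of_fixed ρ v (F lam) lam (fun B _ _ t => hF B t lam) _ (uP ≫ fst G H) _ (hv _ (uP ≫ snd G H))
        rw [algPt_comp, algPt_comp, huP, huP] at key
        exact key
      obtain ⟨c, hc⟩ := hb (F lam) hinv
      have hpt : ∀ s : VecGrp.pt k B ⟶ G, algPt s (F lam) = algebraMap k B c := fun s => by
        letI := gAlg G
        obtain ⟨φ, hφ⟩ := exists_algHom s
        rw [hc, ← hφ]
        exact φ.commutes c
      rw [← hF B t lam, hpt, ← hpt 1, hF, map_one]
      rfl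
    · have := hv B (h ≫ i)
      rwa [Category.comp_id] at this
  tfae_have 2 → 1 := by
    intro hc f hf
    letI := gAlg G
    obtain ⟨uG, ρ, hu, hρ⟩ := exists_regular G
    have hfix : f ∈ ρ.fixedUnder i := by
      intro B _ _ h
      rw [hρ, ← Category.assoc, algPt_mul_of_invariant i f hf, algPt_ptMap, hu,
        Algebra.TensorProduct.includeRight_apply]
    rw [hc] at hfix
    have h1 := hfix Γ(G.left, ⊤) uG
    rw [Category.comp_id, hρ] at h1
    obtain ⟨ε, hε⟩ := exists_algHom (1 : VecGrp.pt k k ⟶ G)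
    let ψ : Γ(G.left, ⊤) ⊗[k] Γ(G.left, ⊤) →ₐ[k] Γ(G.left, ⊤) :=
      Algebra.TensorProduct.productMap (AlgHom.id k Γ(G.left, ⊤)) ((Algebra.ofId k Γ(G.left, ⊤)).comp ε)
    have h2 := congrArg ψ h1
    rw [← algPt_ptMap ψ, MonObj.comp_mul] at h2
    have hr : VecGrp.ptMap ψ ≫ VecGrp.ptMap Algebra.TensorProduct.includeRight ≫ uG = (1 : VecGrp.pt k Γ(G.left, ⊤) ⟶ G) :=
      pt_eq _ _ fun x => by
        rw [algPt_ptMap, algPt_ptMap, hu]
        have h3 : (1 : VecGrp.pt k Γ(G.left, ⊤) ⟶ G) = VecGrp.ptMap (Algebra.ofId k Γ(G.left, ⊤)) ≫ (1 : VecGrp.pt k k ⟶ G) :=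
          (MonObj.comp_one _).symm
        rw [h3, algPt_ptMap, ← hε]
        simp [ψ]
    have hl : VecGrp.ptMap ψ ≫ VecGrp.ptMap Algebra.TensorProduct.includeLeft ≫ uG = uG :=
      pt_eq _ _ fun x => by
        rw [algPt_ptMap, algPt_ptMap, hu]
        simp [ψ]
    rw [hr, hl, _root_.one_mul, hu] at h2
    refine ⟨ε f, h2.trans ?_⟩
    simp [ψ]
    rfl
  tfae_have 1 → 3 := by
    intro hb G' _ _ _ r s _ _ hrs
    have hinvF : ((G ◁ i) ≫ μ[G]) ≫ (r * s⁻¹) = fst G H ≫ (r * s⁻¹) := by
      have hm : (G ◁ i) ≫ μ[G] = fst G H * (snd G H ≫ i) := by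
        rw [Hom.mul_def]
        congr 1
      have hr' : ∀ {T : Over (Spec (CommRingCat.of k))} (a b : T ⟶ G), (a * b) ≫ r = (a ≫ r) * (b ≫ r) :=
        fun a b => MonObj.mul_comp a b r
      rw [hm, MonObj.comp_mul, GrpObj.comp_inv, MonObj.mul_comp, MonObj.mul_comp, MonObj.comp_mul, GrpObj.comp_inv,
        Category.assoc, Category.assoc, hrs]
      group
    have key : ∀ φ : Γ(G'.left, ⊤), (r * s⁻¹).left.appTop φ = (1 : G ⟶ G').left.appTop φ := by
      intro φ
      obtain ⟨c, hc⟩ := hb ((r * s⁻¹).left.appTop φ)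
        (congrArg (fun m : G ⊗ H ⟶ G' => m.left.appTop φ) hinvF)
      letI := gAlg G
      obtain ⟨uG, hu⟩ := exists_univ_pt G
      have h1 : algPt (1 : VecGrp.pt k k ⟶ G) ((r * s⁻¹).left.appTop φ) = algPt (1 : VecGrp.pt k k ⟶ G') φ := by
        rw [← algPt_comp, MonObj.comp_mul, GrpObj.comp_inv, MonObj.one_comp, MonObj.one_comp, inv_one, _root_.mul_one]
      obtain ⟨ε, hε⟩ := exists_algHom (1 : VecGrp.pt k k ⟶ G)
      rw [hc, ← hε, show G.hom.appTop ((Scheme.ΓSpecIso (CommRingCat.of k)).inv c) = algebraMap k Γ(G.left, ⊤) c from rfl,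
        ε.commutes, Algebra.algebraMap_self_apply] at h1
      have h2 : (1 : G ⟶ G').left.appTop φ = algPt (uG ≫ (1 : G ⟶ G')) φ := by rw [algPt_comp, hu]
      rw [h2, hc, h1, MonObj.comp_one,
        show (1 : VecGrp.pt k Γ(G.left, ⊤) ⟶ G') = VecGrp.ptMap (Algebra.ofId k Γ(G.left, ⊤)) ≫ (1 : VecGrp.pt k k ⟶ G')
          from (MonObj.comp_one _).symm, algPt_ptMap]
      rfl
    have h1 : r * s⁻¹ = 1 := Over.OverMorphism.ext (ext_of_isAffine (CommRingCat.hom_ext (RingHom.ext key)))
    exact mul_inv_eq_one.1 h1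
  tfae_have 3 → 2 := fun he E _ _ ρ => by
    refine le_antisymm (fun v hv => fixed_of_hom_ext G i he E ρ v hv) (fun v hv B _ _ h => ?_)
    have := hv B (h ≫ i)
    rwa [Category.comp_id] at this
  tfae_finish

end Groth.Agent.S11234
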