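import Groth.Statements.S11188
import Groth.Agent.S11234
import Groth.Agent.S11199
import Groth.Agent.WeilLib.Geom
import Mathlib.RingTheory.Jacobson.Ring
-- import your own Groth.Agent.* helpers here

set_option autoImplicit false
set_option backward.isDefEq.respectTransparency false
set_option backward.isDefEq.respectTransparency.types false
open Groth.Agent.CommAlg4.AffPt Groth.Agent.AlgGrpLib Groth.Agent
universe u
open CategoryTheory MonoidalCategory CartesianMonoidalCategory MonObj GrpObj AlgebraicGeometry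
open scoped TensorProduct
open AGF

namespace Groth.Agent.S11188


section
variable {k : Type u} [Field k]

/-- A function on a reduced affine variety vanishing at all rational points is zero. -/
theorem eq_zero_of_pts [IsAlgClosed k] (Z : Over (Spec (CommRingCat.of k))) [IsAffine Z.left] [LocallyOfFiniteType Z.hom]
    [IsReduced Z.left] (f : Γ(Z.left, ⊤)) (h : ∀ t : VecGrp.pt k k ⟶ Z, algPt t f = 0) : f = 0 := by
  letI := gAlg Z
  obtain ⟨uZ, hu⟩ := exists_univ_pt Z
  haveI : Algebra.FiniteType k Γ(Z.left, ⊤) := by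
    have h1 : Z.hom.appTop.hom.FiniteType :=
      HasRingHomProperty.appTop (P := @LocallyOfFiniteType) Z.hom inferInstance
    exact h1.comp (RingHom.FiniteType.of_surjective _
      (ConcreteCategory.bijective_of_isIso (Scheme.ΓSpecIso (CommRingCat.of k)).inv).surjective)
  haveI : IsJacobsonRing Γ(Z.left, ⊤) := isJacobsonRing_of_finiteType (A := k)
  have hmem : f ∈ Ideal.jacobson (⊥ : Ideal Γ(Z.left, ⊤)) := by
    rw [Ideal.jacobson, Submodule.mem_sInf]
    rintro m ⟨-, hm⟩
    letI : Field (Γ(Z.left, ⊤) ⧸ m) := Ideal.Quotient.field m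
    haveI : Algebra.FiniteType k (Γ(Z.left, ⊤) ⧸ m) :=
      Algebra.FiniteType.of_surjective (Ideal.Quotient.mkₐ k m) Ideal.Quotient.mk_surjective
    haveI : Module.Finite k (Γ(Z.left, ⊤) ⧸ m) := finite_of_finite_type_of_isJacobsonRing k _
    let e : k ≃ₐ[k] Γ(Z.left, ⊤) ⧸ m := AlgEquiv.ofBijective (Algebra.ofId k _) IsAlgClosed.algebraMap_bijective_of_isIntegral
    have h1 := h (VecGrp.ptMap (e.symm.toAlgHom.comp (Ideal.Quotient.mkₐ k m)) ≫ uZ)
    rw [algPt_ptMap, hu] at h1
    exact Ideal.Quotient.eq_zero_iff_mem.1 (e.symm.injective (by rw [map_zero]; exact h1))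
  haveI : _root_.IsReduced Γ(Z.left, ⊤) := inferInstance
  rw [IsJacobsonRing.out' (⊥ : Ideal Γ(Z.left, ⊤)) (fun x hx => by
    obtain ⟨n, hn⟩ := hx
    exact IsReduced.eq_zero x ⟨n, hn⟩)] at hmem
  exact hmem

/-- A vector is fixed by a smooth subgroup as soon as it is fixed by its rational points. -/
theorem mem_fixedUnder_of_pts [IsAlgClosed k] {G H : Over (Spec (CommRingCat.of k))} [GrpObj G] [GrpObj H]
    [IsAffine H.left] [LocallyOfFiniteType H.hom] [IsReduced H.left] (i : H ⟶ G)
    {V : Type u} [AddCommGroup V] [Module k V] (ρ : VecGrp.GMod G V) (v : V)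
    (h : ∀ t : VecGrp.pt k k ⟶ H, ρ.ρ k (t ≫ i) ((1 : k) ⊗ₜ[k] v) = (1 : k) ⊗ₜ[k] v) :
    v ∈ ρ.fixedUnder i := by
  letI := gAlg H
  obtain ⟨uH, hu⟩ := exists_univ_pt H
  have hnat : ∀ (B : Type u) [CommRing B] [Algebra k B] (t : VecGrp.pt k B ⟶ H) (φ : Γ(H.left, ⊤) →ₐ[k] B),
      (∀ f, φ f = algPt t f) → ρ.ρ B (t ≫ i) ((1 : B) ⊗ₜ[k] v) =
        VecGrp.Wmap φ (ρ.ρ Γ(H.left, ⊤) (uH ≫ i) ((1 : Γ(H.left, ⊤)) ⊗ₜ[k] v)) := fun B _ _ t φ hφ => by
    rw [ρ.naturality, VecGrp.Wmap_tmul, map_one, ← Category.assoc,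
      show VecGrp.ptMap φ ≫ uH = t from pt_eq _ _ fun f => by rw [algPt_ptMap, hu, hφ]]
  have huniv : ρ.ρ Γ(H.left, ⊤) (uH ≫ i) ((1 : Γ(H.left, ⊤)) ⊗ₜ[k] v) = (1 : Γ(H.left, ⊤)) ⊗ₜ[k] v := by
    refine S11234.eq_of_dual _ _ fun lam => ?_
    rw [← sub_eq_zero]
    refine eq_zero_of_pts H _ fun t => ?_
    obtain ⟨φ, hφ⟩ := exists_algHom t
    have h1 := hnat k t φ hφ
    rw [h t] at h1
    have hw : ∀ z : Γ(H.left, ⊤) ⊗[k] V,
        φ (TensorProduct.rid k Γ(H.left, ⊤) (lam.lTensor _ z)) = TensorProduct.rid k k (lam.lTensor k (VecGrp.Wmap φ z)) := by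
      intro z
      induction z using TensorProduct.induction_on with
      | zero => simp
      | tmul b x => simp [mul_comm]
      | add p q hp hq => simp only [map_add, hp, hq]
    rw [← hφ, map_sub, hw, hw, ← h1, VecGrp.Wmap_tmul, map_one, sub_self]
  intro B _ _ t
  obtain ⟨φ, hφ⟩ := exists_algHom t
  rw [hnat B t φ hφ, huniv, VecGrp.Wmap_tmul, map_one]

/-- The product of copies of a representation. -/
theorem exists_pi_rep {G : Over (Spec (CommRingCat.of k))} [GrpObj G] {M : Type u} [AddCommGroup M] [Module k M]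
    (ρ : VecGrp.GMod G M) (m : ℕ) :
    ∃ σ : VecGrp.GMod G (Fin m → M), ∀ (B : Type u) [CommRing B] [Algebra k B] (t : VecGrp.pt k B ⟶ G) (x : B ⊗[k] (Fin m → M)) (j : Fin m),
      TensorProduct.piRight k B B (fun _ : Fin m => M) (σ.ρ B t x) j =
        ρ.ρ B t (TensorProduct.piRight k B B (fun _ : Fin m => M) x j) := by
  let P : ∀ (B : Type u) [CommRing B] [Algebra k B], (B ⊗[k] (Fin m → M)) ≃ₗ[B] (Fin m → B ⊗[k] M) :=
    fun B _ _ => TensorProduct.piRight k B B (fun _ : Fin m => M)
  let E : ∀ (B : Type u) [CommRing B] [Algebra k B], (VecGrp.pt k B ⟶ G) →* ((B ⊗[k] (Fin m → M)) ≃ₗ[B] (B ⊗[k] (Fin m → M))) :=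
    fun B _ _ => MonoidHom.mk' (fun t => (P B).trans ((LinearEquiv.piCongrRight fun _ => ρ.ρ B t).trans (P B).symm))
      (fun t t' => LinearEquiv.ext fun x => (P B).injective (by
        funext j
        simp [LinearEquiv.mul_eq_trans, map_mul]))
  refine ⟨{ ρ := E, naturality := fun {B B'} _ _ _ _ φ g x => ?_ }, fun B _ _ t x j => ?_⟩
  · have hP : ∀ (z : B ⊗[k] (Fin m → M)) (j : Fin m), P B' (VecGrp.Wmap φ z) j = VecGrp.Wmap φ (P B z j) := fun z j => by
      induction z using TensorProduct.induction_on with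
      | zero => simp
      | tmul b f => simp [P]
      | add p q hp hq => simp only [map_add, Pi.add_apply, hp, hq]
    apply (P B').injective
    funext j
    rw [hP]
    simp [E, hP, ρ.naturality]
  · simp [E, P]

/-- The representation on a stable subspace. -/
theorem exists_restrict_rep {G : Over (Spec (CommRingCat.of k))} [GrpObj G] {M : Type u} [AddCommGroup M] [Module k M]
    (ρ : VecGrp.GMod G M) (N : Submodule k M)
    (hst : ∀ (B : Type u) [CommRing B] [Algebra k B] (g : VecGrp.pt k B ⟶ G) (x : M), x ∈ N →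
      ρ.ρ B g ((1 : B) ⊗ₜ[k] x) ∈ LinearMap.range (N.subtype.baseChange B)) :
    ∃ σ : VecGrp.GMod G N, ∀ (B : Type u) [CommRing B] [Algebra k B] (t : VecGrp.pt k B ⟶ G) (x : B ⊗[k] N),
      N.subtype.baseChange B (σ.ρ B t x) = ρ.ρ B t (N.subtype.baseChange B x) := by
  have hinj : ∀ (B : Type u) [CommRing B] [Algebra k B], Function.Injective (N.subtype.baseChange B) := fun B _ _ =>
    Module.Flat.lTensor_preserves_injective_linearMap N.subtype (Submodule.injective_subtype N)
  have hmem : ∀ (B : Type u) [CommRing B] [Algebra k B] (t : VecGrp.pt k B ⟶ G) (x : B ⊗[k] N),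
      ρ.ρ B t (N.subtype.baseChange B x) ∈ LinearMap.range (N.subtype.baseChange B) := fun B _ _ t x => by
    induction x using TensorProduct.induction_on with
    | zero => simp
    | tmul b y =>
      rw [LinearMap.baseChange_tmul, show b ⊗ₜ[k] (N.subtype y) = b • ((1 : B) ⊗ₜ[k] (y : M)) by
        rw [TensorProduct.smul_tmul', smul_eq_mul, _root_.mul_one]; rfl, map_smul]
      exact Submodule.smul_mem _ b (hst B t _ y.2)
    | add p q hp hq => rw [map_add, map_add]; exact Submodule.add_mem _ hp hq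
  choose f hf using hmem
  let F : ∀ (B : Type u) [CommRing B] [Algebra k B] (t : VecGrp.pt k B ⟶ G), (B ⊗[k] N) →ₗ[B] (B ⊗[k] N) := fun B i1 i2 t =>
    { toFun := f B t
      map_add' := fun x y => hinj B (by rw [hf, map_add, map_add, map_add, hf, hf])
      map_smul' := fun c x => hinj B (by
        rw [RingHom.id_apply, hf, map_smul, map_smul, map_smul, hf]) }
  have hF : ∀ (B : Type u) [CommRing B] [Algebra k B] (t : VecGrp.pt k B ⟶ G) (x : B ⊗[k] N),
      N.subtype.baseChange B (F B t x) = ρ.ρ B t (N.subtype.baseChange B x) := fun B _ _ t x => hf B t x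
  have hone : ∀ (B : Type u) [CommRing B] [Algebra k B], F B 1 = LinearMap.id := fun B _ _ =>
    LinearMap.ext fun x => hinj B (by rw [hF, map_one]; rfl)
  have hmul : ∀ (B : Type u) [CommRing B] [Algebra k B] (t t' : VecGrp.pt k B ⟶ G), F B (t * t') = F B t ∘ₗ F B t' :=
    fun B _ _ t t' => LinearMap.ext fun x => hinj B (by rw [LinearMap.comp_apply, hF, hF, hF, map_mul]; rfl)
  let E : ∀ (B : Type u) [CommRing B] [Algebra k B], (VecGrp.pt k B ⟶ G) →* ((B ⊗[k] N) ≃ₗ[B] (B ⊗[k] N)) :=
    fun B _ _ => MonoidHom.mk' (fun t => LinearEquiv.ofLinearMap (F B t) (F B t⁻¹)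
      (by rw [← hmul, mul_inv_cancel, hone]) (by rw [← hmul, inv_mul_cancel, hone]))
      (fun t t' => LinearEquiv.toLinearMap_injective (hmul B t t'))
  refine ⟨{ ρ := E, naturality := fun {B B'} _ _ _ _ φ g x => hinj B' ?_ }, fun B _ _ t x => hF B t x⟩
  have hc : ∀ z : B ⊗[k] N, N.subtype.baseChange B' (VecGrp.Wmap φ z) = VecGrp.Wmap φ (N.subtype.baseChange B z) := fun z => by
    induction z using TensorProduct.induction_on with
    | zero => simp
    | tmul b y => simp
    | add p q hp hq => simp only [map_add, hp, hq]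
  show N.subtype.baseChange B' (VecGrp.Wmap φ (F B g x)) = N.subtype.baseChange B' (F B' (VecGrp.ptMap φ ≫ g) (VecGrp.Wmap φ x))
  rw [hc, hF, hF, hc, ρ.naturality]

end

end Groth.Agent.S11188

namespace Groth.Agent.S11188

/-- (1) ⇔ (2) ⇔ (3): let k be an algebraically closed field, G a linear algebraic group over k (an
affine smooth group scheme over k) and H a closed subgroup of G (a smooth closed subgroup scheme, i
: H → G). The following are equivalent: (i) H is observable in G, i.e. a rational point of G whose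
right translation fixes every right-H-invariant global function on G lies in H; (ii) there are a
finite-dimensional rational G-module V and a vector v in V whose stabiliser, on rational points, is
H; (iii) there are finitely many right-H-invariant global functions on G which separate the cosets
gH: two rational points of G at which they all take the same values differ by right multiplication
by a rational point of H. -/
theorem result (k : Type u) [Field k] [IsAlgClosed k]
    (G : Over (Spec (CommRingCat.of k))) [GrpObj G] [IsAffine G.left] [Smooth G.hom]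
    (H : Over (Spec (CommRingCat.of k))) [GrpObj H] [Smooth H.hom] (i : H ⟶ G) [IsMonHom i]
    [IsClosedImmersion i.left] :
    List.TFAE [
      AGF.IsObservableIn k i,
      ∃ (V : Type u) (_ : AddCommGroup V) (_ : Module k V) (_ : Module.Finite k V) (ρ : VecGrp.GMod G V) (v : V),
        AGF.IsStabOnPts k i ρ v,
      ∃ s : Finset Γ(G.left, ⊤), (∀ f ∈ s, AGF.IsRTransInv i f) ∧
        ∀ g g' : VecGrp.pt k k ⟶ G, (∀ f ∈ s, g.left.appTop f = g'.left.appTop f) →
          ∃ h : VecGrp.pt k k ⟶ H, g' = g * (h ≫ i)] := by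
  classical
  haveI : IsAffine H.left := isAffine_of_isAffineHom i.left
  haveI : IsReduced H.left := Groth.Agent.WeilLib.isReduced_of_smooth H.hom
  tfae_have 1 → 2 := by
    intro hobs
    obtain ⟨s, hs, hdet⟩ := S11199.result k G H i
    letI := gAlg G
    obtain ⟨uG, ρ, hu, hρ⟩ := S11234.exists_regular G
    obtain ⟨N, hsN, hN, hst⟩ := Groth.Agent.CommAlg4.GModStab.exists_stable_of_noetherian ρ
      (Submodule.span k (s : Set Γ(G.left, ⊤))) (Submodule.fg_span s.finite_toSet)
    haveI : Module.Finite k N := Module.Finite.iff_fg.2 hN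
    obtain ⟨σN, hσN⟩ := exists_restrict_rep ρ N hst
    obtain ⟨σ, hσ⟩ := exists_pi_rep σN s.card
    let v : Fin s.card → N := fun j =>
      ⟨((s.equivFin.symm j : s) : Γ(G.left, ⊤)), hsN (Submodule.subset_span (s.equivFin.symm j).2)⟩
    refine ⟨Fin s.card → N, inferInstance, inferInstance, inferInstance, σ, v, fun g => ?_⟩
    have key : σ.ρ k g ((1 : k) ⊗ₜ[k] v) = (1 : k) ⊗ₜ[k] v ↔
        ∀ f ∈ s, ρ.ρ k g ((1 : k) ⊗ₜ[k] f) = (1 : k) ⊗ₜ[k] f := by
      have hinj : Function.Injective (N.subtype.baseChange k) :=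
        Module.Flat.lTensor_preserves_injective_linearMap N.subtype (Submodule.injective_subtype N)
      rw [← (TensorProduct.piRight k k k (fun _ : Fin s.card => N)).injective.eq_iff, funext_iff]
      simp only [hσ, TensorProduct.piRight_apply, TensorProduct.piRightHom_tmul, ← hinj.eq_iff (a := σN.ρ k g _)]
      simp only [hσN, LinearMap.baseChange_tmul, Submodule.subtype_apply]
      constructor
      · intro h f hf
        have := h (s.equivFin ⟨f, hf⟩)
        simpa [v] using this
      · exact fun h j => h _ (s.equivFin.symm j).2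
    rw [key]
    constructor
    · intro h
      refine hobs g (hdet g fun f hf => ?_)
      refine S11199.invariant_of_universal g f uG hu ?_
      have h1 := congrArg (Algebra.TensorProduct.lid k Γ(G.left, ⊤)).toAlgHom (h f hf)
      rw [hρ, ← algPt_ptMap (Algebra.TensorProduct.lid k Γ(G.left, ⊤)).toAlgHom, MonObj.comp_mul] at h1
      have e1 : VecGrp.ptMap (Algebra.TensorProduct.lid k Γ(G.left, ⊤)).toAlgHom ≫
          VecGrp.ptMap (Algebra.TensorProduct.includeRight : Γ(G.left, ⊤) →ₐ[k] k ⊗[k] Γ(G.left, ⊤)) ≫ uG = uG :=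
        pt_eq _ _ fun x => by rw [algPt_ptMap, algPt_ptMap, hu]; simp
      have e2 : VecGrp.ptMap (Algebra.TensorProduct.lid k Γ(G.left, ⊤)).toAlgHom ≫
          VecGrp.ptMap (Algebra.TensorProduct.includeLeft : k →ₐ[k] k ⊗[k] Γ(G.left, ⊤)) ≫ g =
            VecGrp.ptMap (Algebra.ofId k Γ(G.left, ⊤)) ≫ g :=
        pt_eq _ _ fun x => by
          rw [algPt_ptMap, algPt_ptMap, algPt_ptMap]; simp [Algebra.ofId_apply, Algebra.algebraMap_eq_smul_one]
      rw [e1, e2] at h1
      refine h1.trans ?_
      simp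
    · rintro ⟨h, rfl⟩ f hf
      rw [hρ, ← Category.assoc, S11234.algPt_mul_of_invariant i f (hs f hf), algPt_ptMap, hu,
        Algebra.TensorProduct.includeRight_apply]
  tfae_have 2 → 3 := by
    rintro ⟨V, _, _, _, ρ, v, hstab⟩
    have hfix : v ∈ ρ.fixedUnder i := mem_fixedUnder_of_pts i ρ v fun t => (hstab _).2 ⟨t, rfl⟩
    obtain ⟨F, hF⟩ := exists_coeff G V ρ v
    let b := Module.finBasis k V
    refine ⟨Finset.univ.image fun j => F (b.coord j), fun f hf => ?_, fun g g' hgg' => ?_⟩
    · obtain ⟨j, -, rfl⟩ := Finset.mem_image.1 hf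
      haveI : IsAffine (G ⊗ H).left := by rw [Over.tensorObj_left]; infer_instance
      letI := gAlg (G ⊗ H)
      obtain ⟨uP, huP⟩ := exists_univ_pt (G ⊗ H)
      have key : algPt (uP ≫ ((G ◁ i) ≫ μ[G])) (F (b.coord j)) = algPt (uP ≫ fst G H) (F (b.coord j)) := by
        have ht : uP ≫ ((G ◁ i) ≫ μ[G]) = (uP ≫ fst G H) * ((uP ≫ snd G H) ≫ i) := by
          rw [Hom.mul_def, ← Category.assoc]
          congr 1
          apply CartesianMonoidalCategory.hom_ext <;> simp [Category.assoc]
        rw [ht]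
        exact algPt_mul_of_fixed ρ v _ (b.coord j) (fun B _ _ t => hF B t _) _ (uP ≫ fst G H) _ (hfix _ (uP ≫ snd G H))
      rw [algPt_comp, algPt_comp, huP, huP] at key
      exact key
    · have hv : ρ.ρ k g ((1 : k) ⊗ₜ[k] v) = ρ.ρ k g' ((1 : k) ⊗ₜ[k] v) := by
        apply (TensorProduct.lid k V).injective
        refine b.ext_elem fun j => ?_
        have h1 : algPt g (F (b.coord j)) = algPt g' (F (b.coord j)) :=
          congrArg (Scheme.ΓSpecIso (CommRingCat.of k)).hom (hgg' _ (Finset.mem_image_of_mem _ (Finset.mem_univ j)))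
        rw [hF, hF] at h1
        have hr : ∀ z : k ⊗[k] V, TensorProduct.rid k k ((b.coord j).lTensor k z) = b.repr (TensorProduct.lid k V z) j := by
          intro z
          induction z using TensorProduct.induction_on with
          | zero => simp
          | tmul c x => simp [mul_comm]
          | add p q hp hq => simp only [map_add, Finsupp.add_apply, hp, hq]
        rwa [hr, hr] at h1
      obtain ⟨h, hh⟩ := (hstab (g⁻¹ * g')).1 (by
        rw [map_mul, LinearEquiv.mul_eq_trans, LinearEquiv.trans_apply, ← hv, ← LinearEquiv.trans_apply,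
          ← LinearEquiv.mul_eq_trans, ← map_mul, inv_mul_cancel, map_one]
        rfl)
      exact ⟨h, by rw [hh, mul_inv_cancel_left]⟩
  tfae_have 3 → 1 := by
    rintro ⟨s, hs, hsep⟩ g hg
    obtain ⟨h, hh⟩ := hsep 1 g (fun f hf => by
      have h1 := S11199.universal_of_invariant g f (hg f (hs f hf)) (1 : VecGrp.pt k k ⟶ G)
      rw [_root_.one_mul, show VecGrp.ptMap (Algebra.ofId k k) ≫ g = g from pt_eq _ _ fun x => by
        rw [algPt_ptMap]; rfl] at h1
      exact ((ConcreteCategory.bijective_of_isIso (Scheme.ΓSpecIso (CommRingCat.of k)).hom).injective h1).symm)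
    exact ⟨h, by rw [hh, _root_.one_mul]⟩
  tfae_finish

end Groth.Agent.S11188
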