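import Groth.Statements.S11212
import Groth.Agent.AGF12.Inverse
import Groth.Agent.S11188
import Mathlib.RingTheory.Flat.Basic
-- import your own Groth.Agent.* helpers here

set_option autoImplicit false
set_option backward.isDefEq.respectTransparency false
set_option backward.isDefEq.respectTransparency.types false
open Groth.Agent.CommAlg4.AffPt Groth.Agent Groth.Agent.AGF12
universe u
open CategoryTheory MonoidalCategory CartesianMonoidalCategory MonObj GrpObj AlgebraicGeometry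
open scoped TensorProduct
open AGF

namespace Groth.Agent.S11212

variable {k : Type u} [Field k]

/-- Right translation as an action by algebra automorphisms. -/
theorem exists_regular_mult {G H : Over (Spec (CommRingCat.of k))} [GrpObj G] [GrpObj H] [IsAffine G.left]
    (i : H ⟶ G) [IsMonHom i] :
    letI := gAlg G
    ∃ (uG : VecGrp.pt k Γ(G.left, ⊤) ⟶ G) (σ : VecGrp.GMod H Γ(G.left, ⊤)), σ.IsMult ∧ (∀ f, algPt uG f = f) ∧
      ∀ (B : Type u) [CommRing B] [Algebra k B] (h : VecGrp.pt k B ⟶ H) (f : Γ(G.left, ⊤)),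
        σ.ρ B h ((1 : B) ⊗ₜ[k] f) =
          algPt ((VecGrp.ptMap (Algebra.TensorProduct.includeRight : Γ(G.left, ⊤) →ₐ[k] B ⊗[k] Γ(G.left, ⊤)) ≫ uG) *
            (VecGrp.ptMap (Algebra.TensorProduct.includeLeft : B →ₐ[k] B ⊗[k] Γ(G.left, ⊤)) ≫ h ≫ i)) f := by
  letI := gAlg G
  obtain ⟨uG, ρ, hu, hρ⟩ := S11234.exists_regular G
  let σ : VecGrp.GMod H Γ(G.left, ⊤) :=
    { ρ := fun B _ _ => (ρ.ρ B).comp (MonoidHom.mk' (fun h : VecGrp.pt k B ⟶ H => h ≫ i) (fun a b => MonObj.mul_comp a b i))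
      naturality := fun {B B'} _ _ _ _ ψ g x => by
        show VecGrp.Wmap ψ (ρ.ρ B (g ≫ i) x) = ρ.ρ B' ((VecGrp.ptMap ψ ≫ g) ≫ i) (VecGrp.Wmap ψ x)
        rw [Category.assoc]
        exact ρ.naturality ψ (g ≫ i) x }
  refine ⟨uG, σ, fun B _ _ h => ?_, hu, fun B _ _ h f => hρ B (h ≫ i) f⟩
  obtain ⟨φ, hφ⟩ := exists_algHom
    ((VecGrp.ptMap (Algebra.TensorProduct.includeRight : Γ(G.left, ⊤) →ₐ[k] B ⊗[k] Γ(G.left, ⊤)) ≫ uG) *
      (VecGrp.ptMap (Algebra.TensorProduct.includeLeft : B →ₐ[k] B ⊗[k] Γ(G.left, ⊤)) ≫ h ≫ i))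
  let Φ : B ⊗[k] Γ(G.left, ⊤) →ₐ[B] B ⊗[k] Γ(G.left, ⊤) :=
    Algebra.TensorProduct.lift (Algebra.ofId B (B ⊗[k] Γ(G.left, ⊤))) φ (fun _ _ => Commute.all _ _)
  have hΦ : ∀ z, σ.ρ B h z = Φ z := fun z => by
    induction z using TensorProduct.induction_on with
    | zero => simp
    | tmul b f =>
      rw [show b ⊗ₜ[k] f = b • ((1 : B) ⊗ₜ[k] f) by rw [TensorProduct.smul_tmul', smul_eq_mul, _root_.mul_one],
        map_smul, map_smul]
      congr 1
      refine (hρ B (h ≫ i) f).trans ?_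
      rw [← hφ]
      simp [Φ, ← Algebra.TensorProduct.one_def]
    | add p q hp hq => rw [map_add, map_add, hp, hq]
  exact ⟨fun x y => by rw [hΦ, hΦ, hΦ, map_mul], by rw [hΦ, map_one]⟩

/-- Membership in the extension of a kernel. -/
theorem mem_baseChange_ker {M P B : Type u} [AddCommGroup M] [Module k M] [AddCommGroup P] [Module k P] [CommRing B] [Algebra k B]
    (q : M →ₗ[k] P) (z : B ⊗[k] M) (hz : q.baseChange B z = 0) : z ∈ (LinearMap.ker q).baseChange B := by
  obtain ⟨y, rfl⟩ := (Module.Flat.lTensor_exact B (LinearMap.exact_subtype_ker_map q) z).1 hz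
  induction y using TensorProduct.induction_on with
  | zero => simp
  | tmul b x =>
    rw [LinearMap.lTensor_tmul]
    exact Submodule.tmul_mem_baseChange_of_mem b x.2
  | add p q hp hq =>
    rw [map_add]
    refine add_mem (hp ?_) (hq ?_)
    · exact (Module.Flat.lTensor_exact B (LinearMap.exact_subtype_ker_map _) _).2 ⟨p, rfl⟩
    · exact (Module.Flat.lTensor_exact B (LinearMap.exact_subtype_ker_map _) _).2 ⟨q, rfl⟩

end Groth.Agent.S11212

namespace Groth.Agent.S11212

/-- Let k be an algebraically closed field, G a linear algebraic group over k (an affine smooth group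
scheme over k) and H a closed subgroup of G (a smooth closed subgroup scheme, i : H → G), with the
identity component of H reductive. Assume the following standard results of geometric invariant
theory for groups with reductive identity component, carried as hypotheses: finite generation of
invariants on finitely generated algebras, and that for such a group acting on an affine variety the
quotient map sends disjoint closed invariant subsets to disjoint sets. Then H is observable in G. -/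
theorem result (k : Type u) [Field k] [IsAlgClosed k]
    (G : Over (Spec (CommRingCat.of k))) [GrpObj G] [IsAffine G.left] [Smooth G.hom]
    (H : Over (Spec (CommRingCat.of k))) [GrpObj H] [Smooth H.hom] (i : H ⟶ G) [IsMonHom i]
    [IsClosedImmersion i.left]
    (hH : VecGrp.IsReductiveGrp k H) (thmA : VecGrp.ReductiveInvariantsFG k)
    (thmAbiv : AGF.ReductiveQuotSeparates k) :
    AGF.IsObservableIn k i := by
  haveI : IsAffine H.left := isAffine_of_isAffineHom i.left
  haveI : AlgebraicGeometry.IsReduced G.left := WeilLib.isReduced_of_smooth G.hom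
  haveI : AlgebraicGeometry.IsReduced H.left := WeilLib.isReduced_of_smooth H.hom
  letI := gAlg G
  letI := gAlg H
  haveI : Algebra.FiniteType k Γ(G.left, ⊤) := by
    have h1 : G.hom.appTop.hom.FiniteType := HasRingHomProperty.appTop (P := @LocallyOfFiniteType) G.hom inferInstance
    exact h1.comp (RingHom.FiniteType.of_surjective _
      (ConcreteCategory.bijective_of_isIso (Scheme.ΓSpecIso (CommRingCat.of k)).inv).surjective)
  intro g hg
  by_contra hgH
  obtain ⟨uG, σ, hσ, hu, hσf⟩ := exists_regular_mult i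
  obtain ⟨uH, huH⟩ := exists_univ_pt H
  -- the two translates of `H`
  let qg : (g' : VecGrp.pt k k ⟶ G) → Γ(G.left, ⊤) →ₐ[k] Γ(H.left, ⊤) := fun g' =>
    (exists_algHom ((VecGrp.ptMap (Algebra.ofId k Γ(H.left, ⊤)) ≫ g') * (uH ≫ i))).choose
  have hqg : ∀ g' f, qg g' f = algPt ((VecGrp.ptMap (Algebra.ofId k Γ(H.left, ⊤)) ≫ g') * (uH ≫ i)) f := fun g' =>
    (exists_algHom ((VecGrp.ptMap (Algebra.ofId k Γ(H.left, ⊤)) ≫ g') * (uH ≫ i))).choose_spec
  have hqpt : ∀ g' f (h : VecGrp.pt k k ⟶ H), algPt h (qg g' f) = algPt (g' * (h ≫ i)) f := fun g' f h => by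
    obtain ⟨φ, hφ⟩ := exists_algHom h
    rw [← hφ, hqg, ← algPt_ptMap φ, MonObj.comp_mul]
    refine congrArg (fun z => algPt z f) (congrArg₂ (fun a b => a * b) ?_ ?_)
    · exact pt_eq _ _ fun y => by rw [algPt_ptMap, algPt_ptMap]; exact φ.commutes _
    · exact pt_eq _ _ fun y => by rw [algPt_ptMap, algPt_comp, algPt_comp, huH, hφ]
  have hst : ∀ g', σ.IsStable (𝟙 H) ((RingHom.ker (qg g')).restrictScalars k) := by
    intro g' B _ _ h f hf
    rw [Category.comp_id]
    refine mem_baseChange_ker (qg g').toLinearMap _ ?_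
    rw [hσf]
    let Q : B ⊗[k] Γ(G.left, ⊤) →ₐ[k] B ⊗[k] Γ(H.left, ⊤) := Algebra.TensorProduct.map (AlgHom.id k B) (qg g')
    have hQ : ∀ z, (qg g').toLinearMap.baseChange B z = Q z := fun z => by
      induction z using TensorProduct.induction_on with
      | zero => simp
      | tmul a x => simp [Q]
      | add p q hp hq => rw [map_add, map_add, hp, hq]
    rw [hQ, ← algPt_ptMap Q, MonObj.comp_mul]
    obtain ⟨ψ, hψ⟩ := exists_algHom ((VecGrp.ptMap (Algebra.TensorProduct.includeRight : Γ(H.left, ⊤) →ₐ[k] B ⊗[k] Γ(H.left, ⊤)) ≫ uH) *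
      (VecGrp.ptMap (Algebra.TensorProduct.includeLeft : B →ₐ[k] B ⊗[k] Γ(H.left, ⊤)) ≫ h))
    have h0 : ψ (qg g' f) = 0 := by rw [show qg g' f = 0 from hf, map_zero]
    rw [hqg, ← algPt_ptMap ψ, MonObj.comp_mul] at h0
    refine Eq.trans (congrArg (fun z => algPt z f) ?_) h0
    have hψu : VecGrp.ptMap ψ ≫ uH =
        (VecGrp.ptMap (Algebra.TensorProduct.includeRight : Γ(H.left, ⊤) →ₐ[k] B ⊗[k] Γ(H.left, ⊤)) ≫ uH) *
          (VecGrp.ptMap (Algebra.TensorProduct.includeLeft : B →ₐ[k] B ⊗[k] Γ(H.left, ⊤)) ≫ h) :=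
      pt_eq _ _ fun x => by rw [algPt_ptMap, huH, hψ]
    rw [show VecGrp.ptMap ψ ≫ uH ≫ i = (VecGrp.ptMap ψ ≫ uH) ≫ i from (Category.assoc _ _ _).symm, hψu, MonObj.mul_comp,
      ← _root_.mul_assoc]
    refine congrArg₂ (fun a b => a * b) (pt_eq _ _ fun x => ?_) (pt_eq _ _ fun x => ?_)
    · rw [algPt_ptMap, algPt_ptMap, hu, Algebra.TensorProduct.includeRight_apply]
      show ((1 : B) ⊗ₜ[k] qg g' x) = _
      rw [← Algebra.TensorProduct.includeRight_apply (R := k), hqg, ← algPt_ptMap, MonObj.comp_mul]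
      refine congrArg (fun z => algPt z x) (congrArg₂ (fun a b => a * b) ?_ ?_)
      · exact pt_eq _ _ fun y => by simp only [algPt_ptMap]; exact (AlgHom.commutes _ _).trans (AlgHom.commutes _ _).symm
      · rw [Category.assoc]
    · rw [algPt_ptMap, algPt_ptMap, Category.assoc, algPt_ptMap]
      simp [Q]
  have hrad : ∀ g', (RingHom.ker (qg g')).IsRadical := fun g' x ⟨n, hn⟩ => by
    rw [RingHom.mem_ker, map_pow] at hn
    exact (IsNilpotent.eq_zero ⟨n, hn⟩ : qg g' x = 0)
  have htop : RingHom.ker (qg 1) ⊔ RingHom.ker (qg g) = ⊤ := by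
    by_contra hne
    obtain ⟨m, hm, hle⟩ := Ideal.exists_le_maximal _ hne
    haveI := hm
    obtain ⟨χ, hχ⟩ := exists_algHom_of_isMaximal (k := k) m
    let x : VecGrp.pt k k ⟶ G := VecGrp.ptMap χ ≫ uG
    have hx : ∀ f, algPt x f = χ f := fun f => by rw [algPt_ptMap, hu]
    obtain ⟨h₁, hh₁⟩ := exists_pt_of_ker (i := i) x fun f hf => by
      rw [hx, hχ]
      refine hle (Ideal.mem_sup_left (RingHom.mem_ker.2 (S11188.eq_zero_of_pts H _ fun h => ?_)))
      rw [hqpt, _root_.one_mul, algPt_comp, hf, map_zero]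
    obtain ⟨h₂, hh₂⟩ := exists_pt_of_ker (i := i) (g⁻¹ * x) fun f hf => by
      obtain ⟨τ, hτ⟩ := exists_leftTranslate G g⁻¹
      have hτk : ∀ s, algPt s (τ f) = algPt (g⁻¹ * s) f := fun s => by
        rw [hτ k s f, show VecGrp.ptMap (Algebra.ofId k k) ≫ g⁻¹ = g⁻¹ from pt_eq _ _ fun y => by rw [algPt_ptMap]; rfl]
      rw [← hτk, hx, hχ]
      refine hle (Ideal.mem_sup_right (RingHom.mem_ker.2 (S11188.eq_zero_of_pts H _ fun h => ?_)))
      rw [hqpt, hτk, inv_mul_cancel_left, algPt_comp, hf, map_zero]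
    refine hgH ⟨h₁ * h₂⁻¹, ?_⟩
    rw [MonObj.mul_comp, GrpObj.inv_comp, hh₁, hh₂, _root_.mul_inv_rev, _root_.inv_inv, mul_inv_cancel_left]
  have hsep := thmAbiv H hH Γ(G.left, ⊤) σ hσ inferInstance _ _ (hrad 1) (hrad g) (hst 1) (hst g) htop
  obtain ⟨a, ha, b, hb, hab⟩ := Submodule.mem_sup.1 ((Ideal.eq_top_iff_one _).1 hsep)
  have hinv : ∀ z : σ.fixedSubalgebra hσ (𝟙 H), algPt g (z : Γ(G.left, ⊤)) = algPt (1 : VecGrp.pt k k ⟶ G) (z : Γ(G.left, ⊤)) := by
    intro z
    have hz : AGF.IsRTransInv i (z : Γ(G.left, ⊤)) := invariant_of_semi i _ (semi_of_pts fun t h => by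
      obtain ⟨φ, hφ⟩ := exists_algHom t
      let ψ : k ⊗[k] Γ(G.left, ⊤) →ₐ[k] k := Algebra.TensorProduct.productMap (AlgHom.id k k) φ
      have h1 := z.2 k h
      rw [Category.comp_id, hσf] at h1
      have h2 := congrArg ψ h1
      rw [← algPt_ptMap ψ, MonObj.comp_mul] at h2
      rw [map_one, _root_.mul_one]
      refine Eq.trans (congrArg (fun w => algPt w (z : Γ(G.left, ⊤))) (congrArg₂ (fun a b => a * b) ?_ ?_)) (h2.trans ?_)
      · exact (pt_eq _ _ fun y => by rw [algPt_ptMap, algPt_ptMap, hu, ← hφ]; simp [ψ]).symm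
      · exact (pt_eq _ _ fun y => by rw [algPt_ptMap, algPt_ptMap]; simp [ψ]).symm
      · simp [ψ, hφ])
    have h1 := S11199.universal_of_invariant g _ (hg _ hz) (1 : VecGrp.pt k k ⟶ G)
    rwa [_root_.one_mul, show VecGrp.ptMap (Algebra.ofId k k) ≫ g = g from pt_eq _ _ fun y => by rw [algPt_ptMap]; rfl] at h1
  have hker : ∀ g' f, f ∈ RingHom.ker (qg g') → algPt g' f = 0 := fun g' f hf => by
    have h1 := hqpt g' f 1
    rwa [MonObj.one_comp, _root_.mul_one, RingHom.mem_ker.1 hf, map_zero, eq_comm] at h1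
  have h1 : algPt g ((a + b : σ.fixedSubalgebra hσ (𝟙 H)) : Γ(G.left, ⊤)) = 1 :=
    (congrArg (fun z : σ.fixedSubalgebra hσ (𝟙 H) => algPt g (z : Γ(G.left, ⊤))) hab).trans (map_one (algPt g))
  rw [Subalgebra.coe_add, map_add, hinv a, show algPt (1 : VecGrp.pt k k ⟶ G) (a : Γ(G.left, ⊤)) = 0 from hker 1 _ ha,
    show algPt g (b : Γ(G.left, ⊤)) = 0 from hker g _ hb, add_zero] at h1
  exact zero_ne_one h1

end Groth.Agent.S11212
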