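import Groth.Statements.S11241
import Groth.Agent.S11188
import Groth.Agent.CommAlg4.GModStable
import Groth.Agent.HopfQuot.SchemeQuot
import Groth.Agent.HopfLib.LieKolchinComod
import Groth.Agent.HopfLib.UnipotentPoints
import Groth.Agent.HopfUnip26.UnitsConst
import Groth.Agent.AlgGrpLib.NoTorusScheme
import Groth.Agent.DynLib.SolvCell26
import Mathlib.Tactic.LinearCombination
-- import your own Groth.Agent.* helpers here

set_option autoImplicit false
set_option backward.isDefEq.respectTransparency false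
set_option backward.isDefEq.respectTransparency.types false
open Groth.Agent.CommAlg4.AffPt Groth.Agent WithConv
universe u
open CategoryTheory MonoidalCategory CartesianMonoidalCategory MonObj GrpObj AlgebraicGeometry
open scoped TensorProduct
open AGF

namespace Groth.Agent.S11241

variable {k : Type u} [Field k]

/-- A connected unipotent group fixes a nonzero vector of a nonzero representation. -/
theorem exists_fixed_vector [IsAlgClosed k] {G : Over (Spec (CommRingCat.of k))} [GrpObj G] [IsAffine G.left] [Smooth G.hom]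
    [ConnectedSpace G.left] (hG : Red.HasNoSubtorus k G) {V : Type u} [AddCommGroup V] [Module k V] [Module.Finite k V]
    [Nontrivial V] (R : (VecGrp.pt k k ⟶ G) →* Module.End k V)
    (hR : ∀ (v : V) (l : V →ₗ[k] k), ∃ F : Γ(G.left, ⊤), ∀ t, algPt t F = l (R t v)) :
    ∃ v : V, v ≠ 0 ∧ ∀ t, R t v = v := by
  obtain ⟨A, _, _, e, he, hm⟩ := HopfQuot.exists_spec (k := k) G
  haveI := he
  haveI := hm
  haveI : IsIso e.left := (Over.forget _).map_isIso e
  haveI : ConnectedSpace (PrimeSpectrum A) :=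
    Function.Surjective.connectedSpace (asIso e.left).inv.surjective (asIso e.left).inv.continuous
  have hhom : Spec.map (CommRingCat.ofHom (algebraMap k A)) = e.left ≫ G.hom := (Over.w e).symm
  haveI : Smooth (Spec.map (CommRingCat.ofHom (algebraMap k A))) := by rw [hhom]; infer_instance
  haveI : Algebra.FiniteType k A := by
    have h : (CommRingCat.ofHom (algebraMap k A)).hom.FiniteType :=
      (HasRingHomProperty.Spec_iff (P := @LocallyOfFiniteType)).1 inferInstance
    exact RingHom.finiteType_algebraMap.1 h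
  haveI : AlgebraicGeometry.IsReduced (Spec (CommRingCat.of A)) :=
    WeilLib.isReduced_of_smooth (Spec.map (CommRingCat.ofHom (algebraMap k A)))
  haveI : _root_.IsReduced A := affine_isReduced_iff (CommRingCat.of A) |>.1 inferInstance
  have hU : HopfRep.IsUnipotent k A := AlgGrpLib.NoTorus.isUnipotent_of_hasNoSubtorus hG e
  let E : WithConv (A →ₐ[k] k) →* (VecGrp.pt k k ⟶ G) :=
    { toFun := fun x => (HopfQuot.ptSpec x : VecGrp.pt k k ⟶ HopfQuot.spec (k := k) A) ≫ e
      map_one' := by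
        show (HopfQuot.ptSpec (1 : WithConv (A →ₐ[k] k))) ≫ e = _
        rw [map_one]
        exact MonObj.one_comp e
      map_mul' := fun x y => by
        show (HopfQuot.ptSpec (x * y)) ≫ e = _
        rw [map_mul]
        exact MonObj.mul_comp _ _ e }
  have hEs : Function.Surjective E := fun t => by
    obtain ⟨x, hx⟩ := (HopfQuot.ptSpec (k := k) (A := A) (T := k)).surjective (t ≫ CategoryTheory.inv e)
    refine ⟨x, ?_⟩
    show HopfQuot.ptSpec x ≫ e = t
    rw [hx, Category.assoc, IsIso.inv_hom_id]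
    exact Category.comp_id t
  let u : VecGrp.pt k A ⟶ G := (HopfQuot.ptSpec (toConv (AlgHom.id k A)) : VecGrp.pt k A ⟶ HopfQuot.spec (k := k) A) ≫ e
  have hu : ∀ x : WithConv (A →ₐ[k] k), E x = VecGrp.ptMap x.ofConv ≫ u := fun x => by
    show HopfQuot.ptSpec x ≫ e = _
    rw [← Category.assoc]
    congr 1
    apply Over.OverMorphism.ext
    show Spec.map _ = Spec.map _ ≫ Spec.map _
    rw [← Spec.map_comp]
    rfl
  haveI : Group.IsNilpotent (WithConv (A →ₐ[k] k)) := HopfLib.isNilpotent_points hU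
  have hreg : HopfLib.LieKolchin.IsRegularRep (R.comp E) := fun v l => by
    obtain ⟨F, hF⟩ := hR v l
    refine ⟨algPt u F, fun x => ?_⟩
    rw [← algPt_ptMap, ← hu, hF]
    rfl
  have hconn : ∀ a : A, IsIdempotentElem a → a = 0 ∨ a = 1 := fun a ha =>
    CAlgH3.GeomBridge.isIdempotentElem_trivial_of_connected A ha
  obtain ⟨v, hv, hc⟩ := HopfLib.LieKolchin.exists_eigenvector hconn (R.comp E) hreg
  choose χ hχ using hc
  obtain ⟨l, hl⟩ : ∃ l : V →ₗ[k] k, l v = 1 := by
    obtain ⟨f, hf⟩ := LinearMap.exists_extend_of_notMem (p := (⊥ : Submodule k V)) 0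
      (show v ∉ (⊥ : Submodule k V) by simpa using hv) (1 : k)
    exact ⟨f, hf.2⟩
  obtain ⟨F, hF⟩ := hR v l
  have ha : ∀ x : WithConv (A →ₐ[k] k), x.ofConv (algPt u F) = χ x := fun x => by
    rw [← algPt_ptMap, ← hu, hF, show R (E x) v = χ x • v from hχ x, map_smul, hl, smul_eq_mul, _root_.mul_one]
  have hmul : ∀ x y, χ (x * y) = χ x * χ y := fun x y => smul_left_injective k hv <| by
    show χ (x * y) • v = (χ x * χ y) • v
    rw [← hχ, map_mul, Module.End.mul_apply, hχ, map_smul, hχ, smul_smul, mul_comm]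
  have h1 : χ 1 = 1 := smul_left_injective k hv <| by
    show χ 1 • v = (1 : k) • v
    rw [← hχ, map_one, one_smul]
    rfl
  have hunit : IsUnit (algPt u F) := IsUnit.of_mul_eq_one (HopfAlgebra.antipodeAlgHom k A (algPt u F))
    (HopfLib.LieKolchin.pts_ext (k := k) fun x => by
      rw [map_mul, map_one, ha,
        show x.ofConv (HopfAlgebra.antipodeAlgHom k A (algPt u F)) = χ x⁻¹ from (ha x⁻¹),
        ← hmul, mul_inv_cancel, h1])
  have hconst := HopfUnip26.unit_eq_counit hconn hU hunit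
  refine ⟨v, hv, fun t => ?_⟩
  obtain ⟨x, rfl⟩ := hEs t
  have hx : χ x = 1 := by
    have e0 : ∀ y : WithConv (A →ₐ[k] k), y.ofConv (algPt u F) = Bialgebra.counitAlgHom k A (algPt u F) := fun y => by
      conv_lhs => rw [hconst]
      exact y.ofConv.commutes _
    rw [← ha, e0, ← e0 1, ha, h1]
  rw [show R (E x) v = χ x • v from hχ x, hx, one_smul]

end Groth.Agent.S11241

namespace Groth.Agent.S11241

/-- Let k be an algebraically closed field and H a connected unipotent linear algebraic group over k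
(affine, smooth, connected, with no nontrivial subtorus), acting rationally by algebra automorphisms
on a commutative k-algebra A which is an integral domain. An H-invariant element of the fraction
field of A is a quotient of two H-invariant elements of A: if a₀, b₀ ∈ A with b₀ ≠ 0 satisfy
(h·a₀)·b₀ = a₀·(h·b₀) for every point h of H (invariance of a₀/b₀), then there are a, b ∈ A^H with b
≠ 0 and a·b₀ = b·a₀. (The published statement allows any unipotent H; this row takes H connected.) -/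
theorem result (k : Type u) [Field k] [IsAlgClosed k]
    (H : Over (Spec (CommRingCat.of k))) [GrpObj H] [IsAffine H.left] [Smooth H.hom] [ConnectedSpace H.left]
    (hH : Red.HasNoSubtorus k H)
    (A : Type u) [CommRing A] [IsDomain A] [Algebra k A] (ρ : VecGrp.GMod H A) (hρ : ρ.IsMult)
    (a₀ b₀ : A) (hb₀ : b₀ ≠ 0)
    (hinv : ∀ (B : Type u) [CommRing B] [Algebra k B] (h : VecGrp.pt k B ⟶ H),
      ρ.ρ B h ((1 : B) ⊗ₜ[k] a₀) * ((1 : B) ⊗ₜ[k] b₀) = ((1 : B) ⊗ₜ[k] a₀) * ρ.ρ B h ((1 : B) ⊗ₜ[k] b₀)) :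
    ∃ a b : A, a ∈ ρ.fixedUnder (𝟙 H) ∧ b ∈ ρ.fixedUnder (𝟙 H) ∧ b ≠ 0 ∧ a * b₀ = b * a₀ := by
  classical
  haveI : AlgebraicGeometry.IsReduced H.left := WeilLib.isReduced_of_smooth H.hom
  let e₀ : k ⊗[k] A ≃ₐ[k] A := Algebra.TensorProduct.lid k A
  let R₀ : (VecGrp.pt k k ⟶ H) → A → A := fun h x => e₀ (ρ.ρ k h ((1 : k) ⊗ₜ[k] x))
  have hsymm : ∀ (z : k ⊗[k] A), (1 : k) ⊗ₜ[k] (e₀ z) = z := fun z => e₀.symm_apply_apply z
  have hRmul : ∀ h x y, R₀ h (x * y) = R₀ h x * R₀ h y := fun h x y => by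
    show e₀ _ = e₀ _ * e₀ _
    rw [← map_mul, ← (hρ k h).1, Algebra.TensorProduct.tmul_mul_tmul, _root_.one_mul]
  have hR1 : ∀ x, R₀ 1 x = x := fun x => by
    show e₀ (ρ.ρ k 1 _) = x
    rw [map_one]
    exact (Algebra.TensorProduct.lid_tmul _ _).trans (one_smul _ _)
  have hRcomp : ∀ h h' x, R₀ (h * h') x = R₀ h (R₀ h' x) := fun h h' x => by
    show e₀ _ = e₀ (ρ.ρ k h ((1 : k) ⊗ₜ[k] e₀ _))
    rw [hsymm, map_mul]
    rfl
  have hRne : ∀ h x, x ≠ 0 → R₀ h x ≠ 0 := fun h x hx h0 => hx (by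
    have h2 := hRcomp h⁻¹ h x
    rw [inv_mul_cancel, hR1, h0] at h2
    rw [h2]
    show e₀ _ = 0
    simp)
  have hab : ∀ h, R₀ h a₀ * b₀ = a₀ * R₀ h b₀ := fun h => by
    have h1 := congrArg e₀ (hinv k h)
    rwa [map_mul, map_mul, show e₀ ((1 : k) ⊗ₜ[k] b₀) = b₀ from (Algebra.TensorProduct.lid_tmul _ _).trans (one_smul _ _),
      show e₀ ((1 : k) ⊗ₜ[k] a₀) = a₀ from (Algebra.TensorProduct.lid_tmul _ _).trans (one_smul _ _)] at h1
  obtain ⟨N, hbN, hN, hst⟩ := Groth.Agent.CommAlg4.GModStab.exists_stable_of_noetherian ρ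
    (Submodule.span k {b₀}) (Submodule.fg_span (Set.finite_singleton b₀))
  haveI : Module.Finite k N := Module.Finite.iff_fg.2 hN
  let W : Submodule k A :=
    { carrier := {x | x ∈ N ∧ ∃ e, x * a₀ = e * b₀}
      zero_mem' := ⟨N.zero_mem, 0, by simp⟩
      add_mem' := fun {x y} ⟨hx, e, he⟩ ⟨hy, e', he'⟩ => ⟨N.add_mem hx hy, e + e', by rw [add_mul, add_mul, he, he']⟩
      smul_mem' := fun c x ⟨hx, e, he⟩ => ⟨N.smul_mem c hx, c • e, by rw [smul_mul_assoc, he, smul_mul_assoc]⟩ }
  haveI : Module.Finite k W :=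
    Module.Finite.of_injective (Submodule.inclusion (fun x hx => hx.1 : W ≤ N)) (Submodule.inclusion_injective _)
  have hW : ∀ h x, x ∈ W → R₀ h x ∈ W := fun h x ⟨hx, e, he⟩ => by
    refine ⟨?_, R₀ h e, mul_right_cancel₀ (hRne h b₀ hb₀) ?_⟩
    · obtain ⟨w, hw⟩ := hst k h x hx
      show e₀ _ ∈ N
      rw [← hw]
      clear hw
      induction w using TensorProduct.induction_on with
      | zero => simp
      | tmul p y => simpa [e₀] using N.smul_mem p y.2
      | add p q hp hq => rw [map_add, map_add]; exact N.add_mem hp hq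
    · have h2 := congrArg (R₀ h) he
      rw [hRmul, hRmul] at h2
      linear_combination b₀ * h2 - R₀ h x * hab h
  let L₀ : (VecGrp.pt k k ⟶ H) → Module.End k A := fun h =>
    e₀.toLinearEquiv.toLinearMap ∘ₗ (ρ.ρ k h).toLinearMap ∘ₗ e₀.toLinearEquiv.symm.toLinearMap
  let R : (VecGrp.pt k k ⟶ H) →* Module.End k W :=
    { toFun := fun h => (L₀ h).restrict (hW h)
      map_one' := LinearMap.ext fun x => Subtype.ext (hR1 x)
      map_mul' := fun h h' => LinearMap.ext fun x => Subtype.ext (hRcomp h h' x) }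
  haveI : Nontrivial W := ⟨⟨⟨b₀, hbN (Submodule.subset_span rfl), a₀, mul_comm b₀ a₀⟩, 0,
    fun h => hb₀ (congrArg Subtype.val h)⟩⟩
  obtain ⟨v, hv, hvfix⟩ := exists_fixed_vector hH R fun x l => by
    obtain ⟨l', hl'⟩ := l.exists_extend
    obtain ⟨F, hF⟩ := exists_coeff H A ρ (x : A)
    refine ⟨F l', fun t => ?_⟩
    rw [hF k t l']
    have key : ∀ z : k ⊗[k] A, TensorProduct.rid k k (l'.lTensor k z) = l' (e₀ z) := fun z => by
      induction z using TensorProduct.induction_on with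
      | zero => simp
      | tmul a y => simp [e₀, mul_comm]
      | add a b ha hb => simp only [map_add, ha, hb]
    rw [key, ← hl']
    rfl
  have hfix : ∀ y : A, (∀ h, R₀ h y = y) → y ∈ ρ.fixedUnder (𝟙 H) := fun y hy =>
    S11188.mem_fixedUnder_of_pts (𝟙 H) ρ y fun t => by
      rw [Category.comp_id, ← hsymm (ρ.ρ k t ((1 : k) ⊗ₜ[k] y))]
      exact congrArg ((1 : k) ⊗ₜ[k] ·) (hy t)
  have hv1 : ∀ h, R₀ h (v : A) = v := fun h => congrArg Subtype.val (hvfix h)
  obtain ⟨e, he⟩ := v.2.2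
  refine ⟨e, v, hfix e fun h => ?_, hfix v hv1, fun h => hv (Subtype.ext h), he.symm⟩
  refine mul_right_cancel₀ (hRne h b₀ hb₀) ?_
  have h2 := congrArg (R₀ h) he
  rw [hRmul, hRmul, hv1] at h2
  refine mul_left_cancel₀ hb₀ ?_
  linear_combination (-b₀) * h2 + (v : A) * hab h + R₀ h b₀ * he

end Groth.Agent.S11241
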