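import Groth.Statements.S18082
import Groth.Agent.SGA3DerLib.GroupLaws
import Groth.Agent.SGA3cLib.BCPoints
import Groth.Agent.AbVarLib.DenseExt
set_option backward.isDefEq.respectTransparency.types false

set_option autoImplicit false
universe u
open CategoryTheory MonoidalCategory CartesianMonoidalCategory MonObj GrpObj AlgebraicGeometry CategoryTheory.Limits
open AlgGrp

namespace Groth.Agent.S18082

open CategoryTheory CategoryTheory.Limits MonoidalCategory CartesianMonoidalCategory MonObj AlgebraicGeometry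
open scoped commutatorElement

section Helpers

variable {S : Scheme.{u}}

theorem upper_iff (Γ : Type*) [Group Γ] (n : ℕ) :
    Subgroup.upperCentralSeries Γ n = ⊤ ↔ Subgroup.lowerCentralSeries (⊤ : Subgroup Γ) n = ⊥ := by
  constructor
  · intro h
    haveI : Group.IsNilpotent Γ := ⟨⟨n, h⟩⟩
    exact Subgroup.lowerCentralSeries_eq_bot_iff_nilpotencyClass_le.2
      (Subgroup.upperCentralSeries_eq_top_iff_nilpotencyClass_le.1 h)
  · intro h
    haveI : Group.IsNilpotent Γ := Subgroup.nilpotent_iff_lowerCentralSeries.2 ⟨n, h⟩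
    exact Subgroup.upperCentralSeries_eq_top_iff_nilpotencyClass_le.2
      (Subgroup.lowerCentralSeries_eq_bot_iff_nilpotencyClass_le.1 h)

/-- Points of a base change. -/
noncomputable def ptEquiv {S' : Scheme.{u}} (f : S' ⟶ S) (G : Over S) [GrpObj G] (X : Over S') :
    ((Over.map f).obj X ⟶ G) ≃* (X ⟶ Red.bc f G) :=
  { Groth.Agent.SGA3cLib.BCPoints.pt f G X with map_mul' := Groth.Agent.SGA3cLib.BCPoints.pt_mul f }

variable (G : Over S)

/-- Sources of the derived words. -/
noncomputable def P : ℕ → Over S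
  | 0 => G
  | n + 1 => P n ⊗ P n

/-- Sources of the central words. -/
noncomputable def Q : ℕ → Over S
  | 0 => G
  | n + 1 => Q n ⊗ G

theorem flat_P [Flat G.hom] : ∀ n, Flat (P G n).hom
  | 0 => ‹_›
  | n + 1 => by
    haveI := flat_P n
    show Flat (pullback.fst (P G n).hom (P G n).hom ≫ (P G n).hom)
    infer_instance

theorem flat_Q [Flat G.hom] : ∀ n, Flat (Q G n).hom
  | 0 => ‹_›
  | n + 1 => by
    haveI := flat_Q n
    show Flat (pullback.fst (Q G n).hom G.hom ≫ (Q G n).hom)
    infer_instance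

variable [GrpObj G]

/-- Derived words. -/
noncomputable def w : (n : ℕ) → (P G n ⟶ G)
  | 0 => 𝟙 G
  | n + 1 => (⁅fst (P G n) (P G n) ≫ w n, snd (P G n) (P G n) ≫ w n⁆ : P G n ⊗ P G n ⟶ G)

/-- Central words. -/
noncomputable def v : (n : ℕ) → (Q G n ⟶ G)
  | 0 => 𝟙 G
  | n + 1 => (⁅fst (Q G n) G ≫ v n, snd (Q G n) G⁆ : Q G n ⊗ G ⟶ G)

theorem comp_commutator {T T' : Over S} (g : T' ⟶ T) (a b : T ⟶ G) : g ≫ ⁅a, b⁆ = ⁅g ≫ a, g ≫ b⁆ := by
  simp only [commutatorElement_def, MonObj.comp_mul, GrpObj.comp_inv]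

variable (T : Over S) (n : ℕ)

theorem derived_le :
    derivedSeries (T ⟶ G) n = Subgroup.closure (Set.range fun x : T ⟶ P G n => x ≫ w G n) := by
  refine (Groth.Agent.SGA3DerLib.derivedSeries_eq_closure (fun n => Set.range fun x : T ⟶ P G n => x ≫ w G n) ?_
    (fun n => ?_) n).1
  · exact Set.eq_univ_of_forall fun x => ⟨x, Category.comp_id x⟩
  · ext c
    constructor
    · rintro ⟨x, rfl⟩
      refine ⟨_, ⟨x ≫ fst (P G n) (P G n), rfl⟩, _, ⟨x ≫ snd (P G n) (P G n), rfl⟩, ?_⟩
      have e : ∀ y : T ⟶ P G n ⊗ P G n, ⁅(y ≫ fst (P G n) (P G n)) ≫ w G n, (y ≫ snd (P G n) (P G n)) ≫ w G n⁆ =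
          y ≫ ⁅fst (P G n) (P G n) ≫ w G n, snd (P G n) (P G n) ≫ w G n⁆ := fun y => by
        rw [comp_commutator, Category.assoc, Category.assoc]
      exact e x
    · rintro ⟨_, ⟨a, rfl⟩, _, ⟨b, rfl⟩, rfl⟩
      refine ⟨lift a b, ?_⟩
      show lift a b ≫ ⁅fst (P G n) (P G n) ≫ w G n, snd (P G n) (P G n) ≫ w G n⁆ = _
      rw [comp_commutator, lift_fst_assoc, lift_snd_assoc]

theorem central_le :
    Subgroup.lowerCentralSeries (⊤ : Subgroup (T ⟶ G)) n = Subgroup.closure (Set.range fun x : T ⟶ Q G n => x ≫ v G n) := by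
  refine (Groth.Agent.SGA3DerLib.lowerCentralSeries_eq_closure (fun n => Set.range fun x : T ⟶ Q G n => x ≫ v G n) ?_
    (fun n => ?_) n).1
  · exact Set.eq_univ_of_forall fun x => ⟨x, Category.comp_id x⟩
  · ext c
    constructor
    · rintro ⟨x, rfl⟩
      refine ⟨_, ⟨x ≫ fst (Q G n) G, rfl⟩, x ≫ snd (Q G n) G, Set.mem_univ _, ?_⟩
      have e : ∀ y : T ⟶ Q G n ⊗ G, ⁅(y ≫ fst (Q G n) G) ≫ v G n, y ≫ snd (Q G n) G⁆ =
          y ≫ ⁅fst (Q G n) G ≫ v G n, snd (Q G n) G⁆ := fun y => by
        rw [comp_commutator, Category.assoc]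
      exact e x
    · rintro ⟨_, ⟨a, rfl⟩, b, -, rfl⟩
      refine ⟨lift a b, ?_⟩
      show lift a b ≫ ⁅fst (Q G n) G ≫ v G n, snd (Q G n) G⁆ = _
      rw [comp_commutator, lift_fst_assoc, lift_snd]

theorem comp_map_commutator {S' : Scheme.{u}} (g : S' ⟶ S) {U : Over S} {T' : Over S'} (x : T' ⟶ Red.bc g U)
    (a b : U ⟶ G) :
    x ≫ (Over.pullback g).map (⁅a, b⁆ : U ⟶ G) = ⁅x ≫ (Over.pullback g).map a, x ≫ (Over.pullback g).map b⁆ := by
  rw [commutatorElement_def, commutatorElement_def, Functor.map_mul, Functor.map_mul, Functor.map_mul,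
    Functor.map_inv', Functor.map_inv']
  simp only [MonObj.comp_mul, GrpObj.comp_inv]

theorem bc_w_mem {S' : Scheme.{u}} (g : S' ⟶ S) (T' : Over S') :
    ∀ (n : ℕ) (x : T' ⟶ Red.bc g (P G n)), x ≫ (Over.pullback g).map (w G n) ∈ derivedSeries (T' ⟶ Red.bc g G) n
  | 0, x => Subgroup.mem_top _
  | m + 1, x => by
    refine (congrArg (· ∈ derivedSeries (T' ⟶ Red.bc g G) (m + 1))
      (comp_map_commutator (U := P G m ⊗ P G m) G g x (fst (P G m) (P G m) ≫ w G m) (snd (P G m) (P G m) ≫ w G m))).mpr ?_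
    have h : ∀ p : P G m ⊗ P G m ⟶ P G m,
        x ≫ (Over.pullback g).map (p ≫ w G m) ∈ derivedSeries (T' ⟶ Red.bc g G) m := fun p => by
      rw [Functor.map_comp]
      exact (Category.assoc _ _ _).subst (motive := (· ∈ derivedSeries (T' ⟶ Red.bc g G) m))
        (bc_w_mem g T' m (x ≫ (Over.pullback g).map p))
    exact Subgroup.commutator_mem_commutator (h _) (h _)

theorem bc_v_mem {S' : Scheme.{u}} (g : S' ⟶ S) (T' : Over S') :
    ∀ (n : ℕ) (x : T' ⟶ Red.bc g (Q G n)),
      x ≫ (Over.pullback g).map (v G n) ∈ Subgroup.lowerCentralSeries (⊤ : Subgroup (T' ⟶ Red.bc g G)) n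
  | 0, x => Subgroup.mem_top _
  | m + 1, x => by
    refine (congrArg (· ∈ Subgroup.lowerCentralSeries (⊤ : Subgroup (T' ⟶ Red.bc g G)) (m + 1))
      (comp_map_commutator (U := Q G m ⊗ G) G g x (fst (Q G m) G ≫ v G m) (snd (Q G m) G))).mpr ?_
    have h : x ≫ (Over.pullback g).map (fst (Q G m) G ≫ v G m) ∈
        Subgroup.lowerCentralSeries (⊤ : Subgroup (T' ⟶ Red.bc g G)) m := by
      rw [Functor.map_comp]
      exact (Category.assoc _ _ _).subst
        (motive := (· ∈ Subgroup.lowerCentralSeries (⊤ : Subgroup (T' ⟶ Red.bc g G)) m))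
        (bc_v_mem g T' m (x ≫ (Over.pullback g).map (fst (Q G m) G)))
    exact Subgroup.commutator_mem_commutator h (Subgroup.mem_top _)

end Helpers

variable (A : Type u) [CommRing A] [IsDomain A] (K : Type u) [Field K] [Algebra A K] [IsFractionRing A K]
  (G : Over (Spec (CommRingCat.of A))) [GrpObj G] [Flat G.hom] [IsSeparated G.hom]

theorem derived_of_generic (n : ℕ)
    (h : ∀ Y, derivedSeries (Y ⟶ Red.bc (Spec.map (CommRingCat.ofHom (algebraMap A K))) G) n = ⊥)
    {X : Over (Spec (CommRingCat.of A))} : derivedSeries (X ⟶ G) n = ⊥ := by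
  have := flat_P G n
  have hw : w G n = 1 := by
    refine Groth.Agent.AbVarLib.eq_of_generic A K ?_
    rw [Functor.map_one, ← Category.id_comp ((Over.pullback _).map (w G n))]
    exact (Subgroup.eq_bot_iff_forall _).1 (h _) _ (bc_w_mem G _ _ n (𝟙 _))
  rw [derived_le, Subgroup.closure_eq_bot_iff]
  rintro _ ⟨x, rfl⟩
  simp [hw]

theorem lower_of_generic (n : ℕ)
    (h : ∀ Y, Subgroup.lowerCentralSeries (⊤ : Subgroup (Y ⟶ Red.bc (Spec.map (CommRingCat.ofHom (algebraMap A K))) G)) n = ⊥)
    {X : Over (Spec (CommRingCat.of A))} : Subgroup.lowerCentralSeries (⊤ : Subgroup (X ⟶ G)) n = ⊥ := by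
  have := flat_Q G n
  have hw : v G n = 1 := by
    refine Groth.Agent.AbVarLib.eq_of_generic A K ?_
    rw [Functor.map_one, ← Category.id_comp ((Over.pullback _).map (v G n))]
    exact (Subgroup.eq_bot_iff_forall _).1 (h _) _ (bc_v_mem G _ _ n (𝟙 _))
  rw [central_le, Subgroup.closure_eq_bot_iff]
  rintro _ ⟨x, rfl⟩
  simp [hw]

end Groth.Agent.S18082

namespace Groth.Agent.S18082


/-- A is a discrete valuation ring, with K denoting its field of fractions and k its residue field, and
G is an A-group scheme that is flat, separated and of finite presentation. If the generic fibre G_K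
is nilpotent then the special fibre G_k is nilpotent; if G_K is solvable then G_k is solvable. (The
published statement does not require G separated over A; gluing copies of Spec A indexed by a finite
non-nilpotent, resp. non-solvable, group along their common generic point gives a flat group scheme
of finite presentation with trivial generic fibre and that constant group as special fibre, so G is
taken separated here, the case covered by the density argument of the published proof.) -/
theorem result (A : Type u) [CommRing A] [IsDomain A] [IsDiscreteValuationRing A]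
    (K : Type u) [Field K] [Algebra A K] [IsFractionRing A K]
    (G : Over (Spec (CommRingCat.of A))) [GrpObj G] [Flat G.hom] [LocallyOfFinitePresentation G.hom] [QuasiCompact G.hom]
    [IsSeparated G.hom] :
    (AGF.IsNilpotentGrp (Red.bc (Spec.map (CommRingCat.ofHom (algebraMap A K))) G) → AGF.IsNilpotentGrp (Red.bc (Spec.map (CommRingCat.ofHom (algebraMap A (IsLocalRing.ResidueField A)))) G)) ∧
    (Red.IsSolvableGrp (Red.bc (Spec.map (CommRingCat.ofHom (algebraMap A K))) G) → Red.IsSolvableGrp (Red.bc (Spec.map (CommRingCat.ofHom (algebraMap A (IsLocalRing.ResidueField A)))) G)) := by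
  refine ⟨fun ⟨n, hn⟩ => ⟨n, fun X => ?_⟩, fun ⟨n, hn⟩ => ⟨n, fun X => ?_⟩⟩
  · rw [upper_iff]
    let e := ptEquiv (Spec.map (CommRingCat.ofHom (algebraMap A (IsLocalRing.ResidueField A)))) G X
    rw [← Subgroup.map_top_of_surjective e.toMonoidHom e.surjective, ← Subgroup.map_lowerCentralSeries,
      lower_of_generic A K G n (fun Y => (upper_iff _ _).1 (hn Y)), Subgroup.map_bot]
  · let e := ptEquiv (Spec.map (CommRingCat.ofHom (algebraMap A (IsLocalRing.ResidueField A)))) G X
    rw [← map_derivedSeries_eq (f := e.toMonoidHom) e.surjective, derived_of_generic A K G n hn, Subgroup.map_bot]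

end Groth.Agent.S18082
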