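import Groth.Statements.S9604
import Mathlib.RingTheory.AdicCompletion.Basic

set_option autoImplicit false
universe u
open CAlg

namespace Groth.Agent.S9604

/-- Let R be a ring and I, J ideals of R with I^c ⊆ J and J^d ⊆ I for some integers c, d > 0. Then for
an R-module, being complete in the I-adic topology is equivalent to being complete in the J-adic
topology. -/
theorem result {R : Type u} [CommRing R] (I J : Ideal R) (c d : ℕ) (hc : 0 < c) (hd : 0 < d) (hI : I ^ c ≤ J) (hJ : J ^ d ≤ I) (M : Type u) [AddCommGroup M] [Module R M] :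
    IsAdicComplete I M ↔ IsAdicComplete J M := by
  suffices key : ∀ (I J : Ideal R) (c d : ℕ), 0 < c → 0 < d → I ^ c ≤ J → J ^ d ≤ I → IsAdicComplete I M → IsAdicComplete J M from
    ⟨key I J c d hc hd hI hJ, key J I d c hd hc hJ hI⟩
  intro I J c d hc hd hI hJ h
  have hle : ∀ n, (J ^ (d * n) • ⊤ : Submodule R M) ≤ I ^ n • ⊤ := fun n =>
    Submodule.smul_mono_left (by rw [pow_mul]; exact Ideal.pow_right_mono hJ n)
  have hle' : ∀ n, (I ^ (c * n) • ⊤ : Submodule R M) ≤ J ^ n • ⊤ := fun n =>
    Submodule.smul_mono_left (by rw [pow_mul]; exact Ideal.pow_right_mono hI n)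
  have : IsHausdorff J M := ⟨fun x hx => h.toIsHausdorff.haus x fun n =>
    SModEq.mono (hle n) (hx (d * n))⟩
  have : IsPrecomplete J M := by
    constructor
    intro f hf
    obtain ⟨L, hL⟩ := h.toIsPrecomplete.prec (f := fun n => f (d * n)) fun {m n} hmn =>
      SModEq.mono (hle m) (hf (Nat.mul_le_mul_left d hmn))
    refine ⟨L, fun n => ?_⟩
    have h1 : n ≤ d * (c * n) := by
      calc n = 1 * (1 * n) := by simp
        _ ≤ d * (c * n) := Nat.mul_le_mul hd (Nat.mul_le_mul_right n hc)
    exact (hf h1).trans (SModEq.mono (hle' n) (hL (c * n)))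
  exact ⟨⟩

end Groth.Agent.S9604
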