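import Groth.Statements.S9125
import Groth.Agent.CAlgH.Catenary
import Mathlib.RingTheory.Spectrum.Prime.Topology

set_option autoImplicit false
universe u
open CAlg

namespace Groth.Agent.S9125

/-- A quotient of a catenary ring is catenary. -/
theorem result (A : Type u) [CommRing A] (I : Ideal A)
    (hA : CAlg.IsCatenary A) : CAlg.IsCatenary (A ⧸ I) := by
  let e : PrimeSpectrum (A ⧸ I) ↪o PrimeSpectrum A := OrderEmbedding.ofMapLEIff (PrimeSpectrum.comap (Ideal.Quotient.mk I))
    fun a b => ⟨fun h => (Ideal.comap_le_comap_iff_of_surjective _ Ideal.Quotient.mk_surjective _ _).mp h,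
      fun h => Ideal.comap_mono h⟩
  refine Groth.Agent.CAlgH.isCatenary_of_embedding e (fun a b x h1 _ => ?_) hA
  show x ∈ Set.range (PrimeSpectrum.comap (Ideal.Quotient.mk I))
  rw [range_comap_of_surjective _ _ Ideal.Quotient.mk_surjective, Ideal.mk_ker]
  exact fun y hy => h1 (show y ∈ Ideal.comap (Ideal.Quotient.mk I) a.asIdeal by
    simp [Ideal.Quotient.eq_zero_iff_mem.mpr hy])

end Groth.Agent.S9125
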