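import Groth.Statements.S5163
import Mathlib.RingTheory.LocalRing.Module
import Mathlib.LinearAlgebra.Dual.Lemmas
import Mathlib.RingTheory.Ideal.AssociatedPrime.Basic
import Mathlib.RingTheory.LocalRing.ResidueField.Ideal

set_option autoImplicit false
universe u
open LocCoh

namespace Groth.Agent.S5163

open TensorProduct

/-- For modules over a Noetherian ring. Let P be a finite A-module and H any A-module with Supp H ⊆ Supp
P. If Hom_A(P, H) = 0 then H = 0. (The published lemma is stated over an arbitrary prescheme; its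
proof uses that a nonzero module has an associated prime, so the ring is taken Noetherian here.) -/
theorem result (A : Type u) [CommRing A] [IsNoetherianRing A] (P H : Type u) [AddCommGroup P] [Module A P] [Module.Finite A P] [AddCommGroup H] [Module A H] (hsupp : Module.support A H ⊆ Module.support A P) (hhom : Subsingleton (P →ₗ[A] H)) : Subsingleton H := by
  by_contra hH
  haveI : Nontrivial H := not_subsingleton_iff_nontrivial.1 hH
  obtain ⟨p, hp⟩ := associatedPrimes.nonempty A H
  obtain ⟨hpp, g, hg⟩ := (isAssociatedPrime_iff_exists_injective_linearMap _ _).1 (AssociatedPrimes.mem_iff.1 hp)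
  haveI := hpp
  have hsH : (⟨p, hpp⟩ : PrimeSpectrum A) ∈ Module.support A H := by
    rw [Module.mem_support_iff']
    refine ⟨g (Submodule.Quotient.mk 1), fun r hr h0 => hr ?_⟩
    rw [← map_smul, ← map_zero g] at h0
    have := hg h0
    rwa [← Submodule.Quotient.mk_smul, smul_eq_mul, mul_one, Submodule.Quotient.mk_eq_zero] at this
  haveI : Nontrivial (p.ResidueField ⊗[A] P) :=
    (Module.mem_support_iff_nontrivial_residueField_tensorProduct ⟨p, hpp⟩).1 (hsupp hsH)
  let κ := p.ResidueField
  obtain ⟨v, hv⟩ := exists_ne (0 : κ ⊗[A] P)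
  obtain ⟨ℓ, hℓ⟩ := not_forall.1 fun h => hv ((Module.forall_dual_apply_eq_zero_iff κ v).1 h)
  let ψ : P →ₗ[A] κ := (ℓ.restrictScalars A).comp (TensorProduct.mk A κ P 1)
  have hψ : ψ ≠ 0 := fun h0 => hℓ (by
    suffices ∀ y, ℓ y = 0 from this v
    intro y
    induction y using TensorProduct.induction_on with
    | zero => exact map_zero ℓ
    | tmul c x =>
      have hx : ℓ (1 ⊗ₜ[A] x) = 0 := LinearMap.congr_fun h0 x
      have : c ⊗ₜ[A] x = c • ((1 : κ) ⊗ₜ[A] x) := by rw [TensorProduct.smul_tmul', smul_eq_mul, mul_one]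
      rw [this, map_smul, hx, smul_zero]
    | add y z hy hz => rw [map_add, hy, hz, add_zero])
  classical
  obtain ⟨s, hs⟩ := Module.Finite.fg_top (R := A) (M := P)
  obtain ⟨⟨c, hc⟩, hcm⟩ := IsLocalization.exist_integer_multiples_of_finset
    (nonZeroDivisors (A ⧸ p)) (s.image ψ)
  obtain ⟨c, rfl⟩ := Ideal.Quotient.mk_surjective c
  let ι : A ⧸ p →ₗ[A] κ := (IsScalarTower.toAlgHom A (A ⧸ p) κ).toLinearMap
  have hι : Function.Injective ι := IsFractionRing.injective (A ⧸ p) κ
  have hmem : ∀ x, c • ψ x ∈ LinearMap.range ι := by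
    intro x
    have hx : x ∈ Submodule.span A (s : Set P) := hs.symm ▸ trivial
    induction hx using Submodule.span_induction with
    | mem z hz =>
      obtain ⟨y, hy⟩ := hcm (ψ z) (Finset.mem_image_of_mem ψ hz)
      refine ⟨y, hy.trans ?_⟩
      show Ideal.Quotient.mk p c • ψ z = _
      rw [← IsScalarTower.algebraMap_smul (A ⧸ p) c (ψ z)]
      rfl
    | zero => simp
    | add z w _ _ hz hw => rw [map_add, smul_add]; exact add_mem hz hw
    | smul r z _ hz => rw [map_smul, smul_comm]; exact Submodule.smul_mem _ r hz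
  let φ : P →ₗ[A] H := g.comp ((LinearEquiv.ofInjective ι hι).symm.toLinearMap.comp
    ((c • ψ).codRestrict _ hmem))
  refine hψ (LinearMap.ext fun x => ?_)
  have hφx : φ x = 0 := LinearMap.congr_fun (Subsingleton.elim φ 0) x
  have h1 : (LinearEquiv.ofInjective ι hι).symm ((c • ψ).codRestrict _ hmem x) = 0 := hg (hφx.trans (map_zero g).symm)
  rw [LinearEquiv.map_eq_zero_iff] at h1
  have h2 : c • ψ x = 0 := congrArg Subtype.val h1
  rw [← IsScalarTower.algebraMap_smul (A ⧸ p) c (ψ x)] at h2
  refine (smul_eq_zero.1 h2).resolve_left fun h3 => ?_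
  exact nonZeroDivisors.ne_zero hc h3

end Groth.Agent.S5163
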