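import Groth.Statements.S2966
import Groth.Agent.S7966
import Groth.Agent.HopfQuot.UnipotentBaseChange
import Mathlib.RingTheory.TensorProduct.Basic

set_option backward.isDefEq.respectTransparency.types false

set_option linter.style.haveILetI false
set_option autoImplicit false
universe u
open scoped TensorProduct
open SGA3t2b

namespace Groth.Agent.S2966

open TensorProduct HopfRep

/-- A unipotent group has no non-trivial character. -/
theorem groupLike_eq_one {K A : Type u} [Field K] [CommRing A] [Bialgebra K A] (hU : IsUnipotent K A) {g : A}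
    (hg : IsGroupLikeElem K g) : g = 1 := by
  let c : K →ₗ[K] K ⊗[K] A := (TensorProduct.mk K K A).flip g
  letI : Comod K A K :=
    { coact := c
      coassoc := by ext; simp [c, hg.comul_eq_tmul_self]
      counit_comp := by ext; simp [c, hg.counit_eq_one] }
  have hne : fixedPts K A K ≠ ⊥ := hU K inferInstance inferInstance
  obtain ⟨v, hv, hv0⟩ := Submodule.exists_mem_ne_zero_of_ne_bot hne
  have h : v ⊗ₜ[K] g = v ⊗ₜ[K] (1 : A) := hv
  have h2 := congrArg (TensorProduct.lid K A) h
  simp only [TensorProduct.lid_tmul] at h2
  exact smul_right_injective A hv0 h2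

/-- In Hopf-algebra form (with unipotent taken in the representation-theoretic sense: affine and every
non-zero finite-dimensional representation has a non-zero fixed vector): let k be a field, A_M the
coordinate Hopf algebra of an affine k-group M of finite type which is of multiplicative type in the
sense that it becomes diagonalisable over an algebraic closure of k, and A_U that of a unipotent
affine k-group U of finite type. Then (i) every homomorphism M -> U and (ii) every homomorphism U ->
M is trivial: every bialgebra map A_U -> A_M, resp. A_M -> A_U, factors through the counit. -/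
theorem result {k : Type u} [Field k] {AM AU : Type u} [CommRing AM] [CommRing AU]
    [HopfAlgebra k AM] [HopfAlgebra k AU] [Algebra.FiniteType k AM] [Algebra.FiniteType k AU]
    (hM : HopfRep.IsDiagonalizable (AlgebraicClosure k) (AlgebraicClosure k ⊗[k] AM)) (hU : HopfRep.IsUnipotent k AU) :
    (∀ φ : AU →ₐc[k] AM, SGA3t2b.IsTrivialBialgHom φ) ∧ (∀ ψ : AM →ₐc[k] AU, SGA3t2b.IsTrivialBialgHom ψ) := by
  have hinj : ∀ {K : Type u} [Field K] [Algebra k K] {B : Type u} [CommRing B] [Algebra k B] (x y : B),
      (1 : K) ⊗ₜ[k] x = (1 : K) ⊗ₜ[k] y → x = y := fun {K} _ _ {B} _ _ x y h =>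
    Algebra.TensorProduct.includeRight_injective (algebraMap k K).injective h
  refine ⟨fun φ a => ?_, fun ψ a => ?_⟩
  · have h := S7966.result k AM AU hM hU k (Bialgebra.TensorProduct.map (BialgHom.id k k) φ) ((1 : k) ⊗ₜ[k] a)
    refine hinj (K := k) _ _ ?_
    simpa [Algebra.algebraMap_eq_smul_one, TensorProduct.smul_tmul', Algebra.TensorProduct.one_def] using h
  · let K := AlgebraicClosure k
    have hUK : IsUnipotent K (K ⊗[k] AU) := HopfQuot.isUnipotent_iff_baseChange.mp hU
    let F : K ⊗[k] AM →ₐc[K] K ⊗[k] AU := Bialgebra.TensorProduct.map (BialgHom.id K K) ψ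
    have hlin : (F : K ⊗[k] AM →ₗ[K] K ⊗[k] AU) =
        (Algebra.linearMap K (K ⊗[k] AU)).comp (CoalgebraStruct.counit (R := K) (A := K ⊗[k] AM)) := by
      refine LinearMap.ext_on hM fun g hg => ?_
      have h1 : F g = 1 := groupLike_eq_one hUK (hg.map F)
      simp [hg.counit_eq_one, h1]
      exact Algebra.TensorProduct.one_def
    refine hinj (K := K) _ _ ?_
    have h := LinearMap.congr_fun hlin ((1 : K) ⊗ₜ[k] a)
    simpa [F, Algebra.algebraMap_eq_smul_one, TensorProduct.smul_tmul', Algebra.TensorProduct.one_def,
      TensorProduct.tmul_smul] using h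

end Groth.Agent.S2966
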