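import Groth.Statements.S19598
import Groth.Agent.IsoTriv.SchemeLocal
import Groth.Agent.IsoTriv.Subgroup

set_option autoImplicit false
open CategoryTheory MonoidalCategory CartesianMonoidalCategory MonObj GrpObj AlgebraicGeometry
universe u
open SGA3x

namespace Groth.Agent.S19598

open CoactBr Groth.Agent.HopfLib.SpPoints Groth.Agent.IsoTriv Groth.Agent.IsoTriv.SchemeSpec
open CategoryTheory.Limits

/-- Let H' be a group scheme of multiplicative type (of finite type) over a scheme S, and H a closed
subgroup scheme of H' which is flat and locally of finite presentation over S. Then H is of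
multiplicative type (of finite type). Multiplicative type is taken in the fpqc-local sense on both
sides. -/
theorem result {S : Scheme.{u}} (H H' : Over S) [GrpObj H] [GrpObj H']
    (hH' : SGA3x.IsMultTypeFT H') (i : H ⟶ H') [IsMonHom i] (hi : IsClosedImmersion i.left)
    (hHfl : Flat H.hom) (hHfp : LocallyOfFinitePresentation H.hom) :
    SGA3x.IsMultTypeFT H := by
  haveI := SchemeBridge.isAffineHom_of_multTypeFT H' hH'
  haveI := hi
  haveI : IsAffineHom H.hom := by rw [← Over.w i]; infer_instance
  refine SchemeLocal.isMultTypeFT_of_hopf H fun R _ g hg A _ _ e => ?_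
  haveI : IsAffineHom (Red.bc g H').hom := MorphismProperty.pullback_snd (P := @IsAffineHom) _ _ ‹IsAffineHom H'.hom›
  haveI : IsAffine (Red.bc g H').left := isAffine_of_isAffineHom (Red.bc g H').hom
  obtain ⟨A', _, _, ⟨e'⟩⟩ := exists_spec (Red.bc g H')
  obtain ⟨hft', hA'⟩ := SchemeLocal.isMultType_of_bc H' hH' g e'
  let a : Red.bc g H ≅ sp R A := (Grp.forget _).mapIso e
  let a' : Red.bc g H' ≅ sp R A' := (Grp.forget _).mapIso e'
  haveI : IsMonHom a.inv := e.inv.hom.isMonHom_hom
  haveI : IsMonHom a'.hom := e'.hom.hom.isMonHom_hom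
  haveI : IsMonHom ((Over.pullback g).map i) := inferInstanceAs (IsMonHom ((Over.pullback g).map i))
  let j : sp R A ⟶ sp R A' := a.inv ≫ (Over.pullback g).map i ≫ a'.hom
  obtain ⟨φ, hφ⟩ := exists_bialgHom j
  have hj : IsClosedImmersion j.left := by
    haveI : IsIso a.inv.left := ((Over.forget _).mapIso a).isIso_inv
    haveI : IsIso a'.hom.left := ((Over.forget _).mapIso a').isIso_hom
    haveI : IsClosedImmersion ((Over.pullback g).map i).left := MorphismProperty.baseChange_map (P := @IsClosedImmersion) g i hi
    show IsClosedImmersion (a.inv.left ≫ ((Over.pullback g).map i).left ≫ a'.hom.left)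
    infer_instance
  rw [hφ] at hj
  haveI := hj
  have hsurj : Function.Surjective φ := by
    haveI : IsClosedImmersion (Spec.map (CommRingCat.ofHom (φ : A' →+* A))) := hj
    have h1 := (IsClosedImmersion.isAffine_surjective_of_isAffine (f := Spec.map (CommRingCat.ofHom (φ : A' →+* A)))).2
    intro y
    obtain ⟨x, hx⟩ := h1 ((Scheme.ΓSpecIso (CommRingCat.of A)).inv y)
    refine ⟨(Scheme.ΓSpecIso (CommRingCat.of A')).hom x, ?_⟩
    have := congrArg (fun f => f.hom x) (Scheme.ΓSpecIso_naturality (CommRingCat.ofHom (φ : A' →+* A)))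
    refine this.symm.trans ?_
    show (Scheme.ΓSpecIso (CommRingCat.of A)).hom ((Spec.map (CommRingCat.ofHom (φ : A' →+* A))).appTop x) = y
    rw [hx]
    exact (Scheme.ΓSpecIso (CommRingCat.of A)).inv_hom_id_apply y
  haveI : IsIso a.inv.left := ((Over.forget _).mapIso a).isIso_inv
  have hflA : Flat (sp R A).hom := by
    rw [← Over.w a.inv]
    haveI : Flat (Red.bc g H).hom := MorphismProperty.pullback_snd (P := @Flat) _ _ hHfl
    infer_instance
  have hfpA : LocallyOfFinitePresentation (sp R A).hom := by
    rw [← Over.w a.inv]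
    haveI : LocallyOfFinitePresentation (Red.bc g H).hom := MorphismProperty.pullback_snd (P := @LocallyOfFinitePresentation) _ _ hHfp
    infer_instance
  have h1 : Flat (Spec.map (CommRingCat.ofHom (algebraMap R A))) := hflA
  rw [HasRingHomProperty.Spec_iff (P := @Flat), CommRingCat.hom_ofHom, RingHom.flat_algebraMap_iff] at h1
  have h2 : LocallyOfFinitePresentation (Spec.map (CommRingCat.ofHom (algebraMap R A))) := hfpA
  rw [LocallyOfFinitePresentation.SpecMap_iff, CommRingCat.hom_ofHom, RingHom.finitePresentation_algebraMap] at h2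
  have := h2
  exact ⟨inferInstance, isMultType_of_surjective hft' hA' φ hsurj h2⟩

end Groth.Agent.S19598
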