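import Groth.Statements.S9255
import Groth.Agent.EGA43.GenFree
import Groth.Agent.CAlgH3.RegularHom
import Mathlib.RingTheory.Spectrum.Prime.Chevalley
import Mathlib.RingTheory.Ideal.GoingDown
import Mathlib.RingTheory.RingHom.Flat

set_option autoImplicit false
universe u
open EGA4

namespace Groth.Agent.S9255

attribute [local instance] Algebra.TensorProduct.rightAlgebra

private theorem regular_of_localization {R : Type u} [CommRing R] (M : Submonoid R) (R' : Type u)
    [CommRing R'] [Algebra R R'] [IsLocalization M R'] (p' : Ideal R') [p'.IsPrime] :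
    IsRegularLocalRing (Localization.AtPrime p') ↔
      IsRegularLocalRing (Localization.AtPrime (p'.comap (algebraMap R R'))) := by
  haveI := IsLocalization.isLocalization_isLocalization_atPrime_isLocalization (R := R) (M := M)
    (Localization.AtPrime p') p'
  let e := (IsLocalization.algEquiv (p'.comap (algebraMap R R')).primeCompl (Localization.AtPrime p')
    (Localization.AtPrime (p'.comap (algebraMap R R')))).toRingEquiv
  exact ⟨fun _ => IsRegularLocalRing.of_ringEquiv e, fun _ => IsRegularLocalRing.of_ringEquiv e.symm⟩


/-- Let R be a Noetherian domain and R → S an injective ring map of finite type with S a domain. If the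
regular locus of Spec S contains a nonempty open subset, then the regular locus of Spec R contains a
nonempty open subset. -/
theorem result (R S : Type u) [CommRing R]
    [IsDomain R] [IsNoetherianRing R] [CommRing S] [IsDomain S] [Algebra R S] [Algebra.FiniteType R S]
    (hinj : Function.Injective (algebraMap R S))
    (hS : ∃ U : Set (PrimeSpectrum S), IsOpen U ∧ U.Nonempty ∧ U ⊆ EGA4.regLocus S) :
    ∃ U : Set (PrimeSpectrum R), IsOpen U ∧ U.Nonempty ∧ U ⊆ EGA4.regLocus R := by
  obtain ⟨U, hU, ⟨u, hu⟩, hsub⟩ := hS
  obtain ⟨f, hf, hfree⟩ := EGA43.GenFree.gFree (R := R) (S := S) S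
  let R' := Localization.Away f
  let S' := TensorProduct R R' S
  haveI : Module.Free R' S' := hfree
  haveI : IsNoetherianRing R' := IsLocalization.isNoetherianRing (Submonoid.powers f) R' inferInstance
  haveI : Algebra.FinitePresentation R' S' := Algebra.FinitePresentation.of_finiteType.mp inferInstance
  have hloc : IsLocalization (Algebra.algebraMapSubmonoid S (Submonoid.powers f)) S' :=
    IsLocalization.tensorRight (A := R') (Submonoid.powers f)
  haveI := hloc
  let U' : Set (PrimeSpectrum S') := PrimeSpectrum.comap (algebraMap S S') ⁻¹' U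
  have hU' : IsOpen U' := hU.preimage (PrimeSpectrum.continuous_comap _)
  have hne : U'.Nonempty := by
    have hgen : (⟨⊥, Ideal.isPrime_bot⟩ : PrimeSpectrum S) ∈ U :=
      ((PrimeSpectrum.le_iff_specializes (⟨⊥, Ideal.isPrime_bot⟩ : PrimeSpectrum S) u).mp bot_le).mem_open hU hu
    have hdisj : Disjoint (Algebra.algebraMapSubmonoid S (Submonoid.powers f) : Set S) ((⊥ : Ideal S) : Set S) := by
      refine Set.disjoint_left.mpr ?_
      rintro _ ⟨_, ⟨n, rfl⟩, rfl⟩ h
      exact pow_ne_zero n hf (hinj (by simpa using h))
    refine ⟨⟨_, IsLocalization.isPrime_of_isPrime_disjoint _ S' ⊥ Ideal.isPrime_bot hdisj⟩, ?_⟩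
    show PrimeSpectrum.comap _ _ ∈ U
    convert hgen using 1
    exact PrimeSpectrum.ext (IsLocalization.under_map_of_isPrime_disjoint _ S' Ideal.isPrime_bot hdisj)
  have hopen' := PrimeSpectrum.isOpenMap_comap_of_hasGoingDown_of_finitePresentation (R := R') (S := S') U' hU'
  have hemb := PrimeSpectrum.localization_away_isOpenEmbedding R' f
  refine ⟨PrimeSpectrum.comap (algebraMap R R') '' (PrimeSpectrum.comap (algebraMap R' S') '' U'),
    hemb.isOpenMap _ hopen', (hne.image _).image _, ?_⟩
  rintro _ ⟨_, ⟨q', hq', rfl⟩, rfl⟩
  refine (regular_of_localization (Submonoid.powers f) R' (q'.asIdeal.comap (algebraMap R' S'))).mp ?_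
  haveI : IsRegularLocalRing (Localization.AtPrime q'.asIdeal) :=
    (regular_of_localization (Algebra.algebraMapSubmonoid S (Submonoid.powers f)) S' q'.asIdeal).mpr (hsub hq')
  let g := Localization.localRingHom (q'.asIdeal.comap (algebraMap R' S')) q'.asIdeal (algebraMap R' S') rfl
  letI := g.toAlgebra
  haveI : Module.Flat (Localization.AtPrime (q'.asIdeal.comap (algebraMap R' S'))) (Localization.AtPrime q'.asIdeal) :=
    RingHom.Flat.localRingHom ((RingHom.flat_algebraMap_iff).mpr inferInstance) q'.asIdeal _ rfl
  haveI : IsLocalHom (algebraMap (Localization.AtPrime (q'.asIdeal.comap (algebraMap R' S')))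
      (Localization.AtPrime q'.asIdeal)) :=
    Localization.isLocalHom_localRingHom _ _ _ rfl
  haveI : IsNoetherianRing (Localization.AtPrime (q'.asIdeal.comap (algebraMap R' S'))) :=
    IsLocalization.isNoetherianRing (q'.asIdeal.comap (algebraMap R' S')).primeCompl _ inferInstance
  exact CAlgH3.isRegularLocalRing_of_flat (Localization.AtPrime q'.asIdeal)

end Groth.Agent.S9255
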