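import Groth.Statements.S1544
import Groth.Agent.AbVarLib.PerfectReduced
import Groth.Agent.AlgGrpLib.PointsDense

set_option autoImplicit false
universe u
open CategoryTheory CategoryTheory.Limits AlgebraicGeometry
attribute [local instance] Curv2.resAlgebra Curv2.stalkAlgebra
open Variety
open Groth.Agent
set_option backward.isDefEq.respectTransparency.types false

namespace Groth.Agent.S1544

open TensorProduct

/-- A geometrically reduced algebra stays reduced over every field extension. -/
theorem isReduced_field_tensor (k K L : Type u) [Field k] [Field K] [Algebra k K] [CommRing L] [Algebra k L]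
    [Algebra.IsGeometricallyReduced k L] : _root_.IsReduced (K ⊗[k] L) := by
  let kb := AlgebraicClosure k
  let Kb := AlgebraicClosure K
  letI : Algebra kb Kb := (IsAlgClosed.lift : kb →ₐ[k] Kb).toRingHom.toAlgebra
  haveI : IsScalarTower k kb Kb := IsScalarTower.of_algebraMap_eq fun x =>
    ((IsAlgClosed.lift : kb →ₐ[k] Kb).commutes x).symm
  haveI : _root_.IsReduced (kb ⊗[k] L) := (Algebra.isGeometricallyReduced_field_iff k L).1 ‹_›
  haveI : _root_.IsReduced (Kb ⊗[kb] (kb ⊗[k] L)) := AbVarLib.isReduced_field_tensor_perfect kb Kb (kb ⊗[k] L)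
  haveI : _root_.IsReduced (Kb ⊗[k] L) :=
    isReduced_of_injective (Algebra.TensorProduct.cancelBaseChange k kb Kb Kb L).symm
      (Algebra.TensorProduct.cancelBaseChange k kb Kb Kb L).symm.injective
  exact isReduced_of_injective (Algebra.TensorProduct.map (IsScalarTower.toAlgHom k K Kb) (AlgHom.id k L))
    (Module.Flat.rTensor_preserves_injective_linearMap _ (RingHom.injective _))

/-- Localisations of geometrically reduced algebras are geometrically reduced. -/
theorem isGeometricallyReduced_fraction (k A L : Type u) [Field k] [CommRing A] [IsDomain A] [Field L] [Algebra k A] [Algebra k L]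
    [Algebra A L] [IsScalarTower k A L] [IsFractionRing A L] [Algebra.IsGeometricallyReduced k A] :
    Algebra.IsGeometricallyReduced k L := by
  rw [Algebra.isGeometricallyReduced_field_iff]
  let kb := AlgebraicClosure k
  haveI : _root_.IsReduced (kb ⊗[k] A) := (Algebra.isGeometricallyReduced_field_iff k A).1 ‹_›
  let φ : kb ⊗[k] A →ₐ[k] kb ⊗[k] L := Algebra.TensorProduct.map (AlgHom.id k kb) (IsScalarTower.toAlgHom k A L)
  have hφ : Function.Injective φ :=
    Module.Flat.lTensor_preserves_injective_linearMap _ (IsFractionRing.injective A L)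
  have key : ∀ z : kb ⊗[k] L, ∃ d : A, d ≠ 0 ∧ ∃ w, φ w = z * φ (1 ⊗ₜ d) := by
    intro z
    induction z using TensorProduct.induction_on with
    | zero => exact ⟨1, one_ne_zero' A, 0, by simp⟩
    | tmul c l =>
      obtain ⟨⟨a, d⟩, h⟩ := IsLocalization.surj (nonZeroDivisors A) l
      refine ⟨d, nonZeroDivisors.ne_zero d.2, c ⊗ₜ a, ?_⟩
      simp only [φ, Algebra.TensorProduct.map_tmul, Algebra.TensorProduct.tmul_mul_tmul, AlgHom.coe_id, id_eq, mul_one]
      exact congrArg (c ⊗ₜ[k] ·) h.symm
    | add x y hx hy =>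
      obtain ⟨d, hd, w, hw⟩ := hx
      obtain ⟨d', hd', w', hw'⟩ := hy
      refine ⟨d * d', mul_ne_zero hd hd', w * (1 ⊗ₜ d') + w' * (1 ⊗ₜ d), ?_⟩
      rw [show (1 : kb) ⊗ₜ[k] (d * d') = (1 ⊗ₜ d) * (1 ⊗ₜ d') by simp, map_add, map_mul, map_mul, map_mul, hw, hw']
      ring
  refine ⟨fun z hz => ?_⟩
  obtain ⟨d, hd, w, hw⟩ := key z
  have hw0 : w = 0 := by
    obtain ⟨n, hn⟩ := hz
    refine IsNilpotent.eq_zero ⟨n, hφ ?_⟩
    rw [map_pow, hw, mul_pow, hn, zero_mul, map_zero]
  rw [hw0, map_zero] at hw
  have hu : IsUnit (φ (1 ⊗ₜ d)) := by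
    rw [show φ (1 ⊗ₜ d) = (Algebra.TensorProduct.includeRight : L →ₐ[k] kb ⊗[k] L) (algebraMap A L d) from rfl]
    exact (isUnit_iff_ne_zero.2 ((map_ne_zero_iff _ (IsFractionRing.injective A L)).2 hd)).map _
  exact hu.mul_left_eq_zero.1 hw.symm


/-- For an integral scheme over k, geometric reducedness of the scheme is equivalent to geometric
reducedness over k of the function field (the local ring at the generic point), i.e. a separable
extension of k in the sense of commutative algebra. The source states this for varieties;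
integrality is what the proof uses. -/
theorem result (k : Type u) [Field k] (X : Scheme.{u}) [X.Over (Spec (CommRingCat.of k))] [IsIntegral X] :
    GeometricallyReduced (X ↘ (Spec (CommRingCat.of k))) ↔ Algebra.IsGeometricallyReduced k X.functionField := by
  let q := X ↘ Spec (CommRingCat.of k)
  let η := genericPoint X
  have model : ∀ (W : X.Opens) (hW : IsAffineOpen W), (W : Set X).Nonempty →
      ∃ (_ : Algebra k Γ(X, W)) (_ : IsDomain Γ(X, W)) (i : Γ(X, W) →ₐ[k] X.functionField), Function.Injective i ∧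
        (∀ z : X.functionField, ∃ a b, b ≠ 0 ∧ z * i b = i a) ∧
        hW.fromSpec ≫ q = Spec.map (CommRingCat.ofHom (algebraMap k Γ(X, W))) := by
    intro W hW hne
    have hηW : η ∈ W := ((genericPoint_spec X).mem_open_set_iff W.2).2 (by simpa using hne)
    haveI : Nonempty W := ⟨⟨η, hηW⟩⟩
    let φ : k →+* Γ(X, W) := ((Scheme.ΓSpecIso (CommRingCat.of k)).inv ≫ q.appLE ⊤ W le_top).hom
    letI algkA : Algebra k Γ(X, W) := φ.toAlgebra
    haveI hfrac : IsFractionRing Γ(X, W) X.functionField := functionField_isFractionRing_of_isAffineOpen X W hW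
    have hφ : ∀ c : k, algebraMap Γ(X, W) X.functionField (φ c) = algebraMap k X.functionField c := by
      have h : ((Scheme.ΓSpecIso (CommRingCat.of k)).inv ≫ q.appLE ⊤ W le_top) ≫ X.presheaf.germ W η hηW =
          (Scheme.ΓSpecIso (CommRingCat.of k)).inv ≫ q.appTop ≫ X.presheaf.germ ⊤ η trivial := by
        rw [Scheme.Hom.appLE, Category.assoc, Category.assoc, TopCat.Presheaf.germ_res]
        rfl
      exact fun c => congrArg (fun m => m c) h
    haveI : IsScalarTower k Γ(X, W) X.functionField := IsScalarTower.of_algebraMap_eq fun c => (hφ c).symm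
    refine ⟨algkA, inferInstance, IsScalarTower.toAlgHom k Γ(X, W) X.functionField,
      IsFractionRing.injective Γ(X, W) X.functionField, fun z => ?_, ?_⟩
    · obtain ⟨⟨a, b⟩, h⟩ := IsLocalization.surj (nonZeroDivisors Γ(X, W)) z
      exact ⟨a, b, nonZeroDivisors.ne_zero b.2, h⟩
    · show _ = Spec.map (CommRingCat.ofHom φ)
      rw [show CommRingCat.ofHom φ = (Scheme.ΓSpecIso (CommRingCat.of k)).inv ≫ q.appLE ⊤ W le_top from rfl,
        Spec.map_comp, ← IsAffineOpen.SpecMap_appLE_fromSpec q (isAffineOpen_top _) hW le_top,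
        IsAffineOpen.fromSpec_top, Scheme.isoSpec_Spec_inv]
  constructor
  · intro hred
    obtain ⟨_, ⟨W, hW, rfl⟩, hηW, -⟩ :=
      X.isBasis_affineOpens.exists_subset_of_mem_open (Set.mem_univ η) isOpen_univ
    obtain ⟨_, _, i, hi, hsurj, e2⟩ := model W hW ⟨η, hηW⟩
    haveI := AlgGrpLib.PointsDense.isGeometricallyReduced_of_open k q Γ(X, W) hW.fromSpec e2
    haveI : Nonempty W := ⟨⟨η, hηW⟩⟩
    letI : Algebra Γ(X, W) X.functionField := i.toRingHom.toAlgebra
    haveI : IsScalarTower k Γ(X, W) X.functionField := IsScalarTower.of_algebraMap_eq fun c => (i.commutes c).symm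
    haveI : FaithfulSMul Γ(X, W) X.functionField := (faithfulSMul_iff_algebraMap_injective _ _).2 hi
    haveI : IsFractionRing Γ(X, W) X.functionField :=
      IsFractionRing.of_field Γ(X, W) X.functionField (fun z => by
        obtain ⟨a, b, hb, h⟩ := hsurj z
        exact ⟨a, b, (eq_div_iff ((map_ne_zero_iff i hi).2 hb)).2 h⟩)
    exact isGeometricallyReduced_fraction k Γ(X, W) X.functionField
  · intro hred
    rw [geometricallyReduced_iff, geometrically_iff_of_commRing_of_isClosedUnderIsomorphisms]
    intro K _ _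
    refine @IsReduced.of_openCover _ (Scheme.Pullback.openCoverOfLeft
      (X.openCoverOfIsOpenCover (fun W : X.affineOpens => W.1) (iSup_affineOpens_eq_top X)) q
      (Spec.map (CommRingCat.ofHom (algebraMap k K)))) fun W => ?_
    obtain ⟨W, hW⟩ := W
    show IsReduced (pullback (W.ι ≫ q) _)
    set y := Spec.map (CommRingCat.ofHom (algebraMap k K))
    rcases Set.eq_empty_or_nonempty (W : Set X) with he | hne
    · haveI : IsEmpty ↥(pullback (W.ι ≫ q) y) :=
        ⟨fun p => Set.eq_empty_iff_forall_notMem.1 he _ (pullback.fst (W.ι ≫ q) y p).2⟩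
      haveI : ∀ p : ↥(pullback (W.ι ≫ q) y), _root_.IsReduced ((pullback (W.ι ≫ q) y).presheaf.stalk p) := isEmptyElim
      exact isReduced_of_isReduced_stalk _
    obtain ⟨_, _, i, hi, -, e2⟩ := model W hW hne
    haveI := Algebra.IsGeometricallyReduced.of_injective i hi
    haveI := isReduced_field_tensor k K Γ(X, W)
    haveI : _root_.IsReduced (Γ(X, W) ⊗[k] K) :=
      isReduced_of_injective (Algebra.TensorProduct.comm k Γ(X, W) K) (Algebra.TensorProduct.comm k Γ(X, W) K).injective
    haveI : IsReduced (Spec (CommRingCat.of (Γ(X, W) ⊗[k] K))) := inferInstance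
    haveI : IsReduced (pullback (Spec.map (CommRingCat.ofHom (algebraMap k Γ(X, W)))) y) :=
      isReduced_of_isOpenImmersion (pullbackSpecIso k Γ(X, W) K).hom
    let m : pullback (W.ι ≫ q) y ⟶ pullback (Spec.map (CommRingCat.ofHom (algebraMap k Γ(X, W)))) y :=
      pullback.map _ _ _ _ hW.isoSpec.hom (𝟙 _) (𝟙 _) (by
        rw [Category.comp_id, ← e2, IsAffineOpen.fromSpec]
        simp) (by simp)
    exact isReduced_of_isOpenImmersion m

end Groth.Agent.S1544
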