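import Groth.Statements.S1541
import Groth.Agent.VarietyLib.GeomReducedPt
import Groth.Agent.S1544

set_option autoImplicit false
universe u
open CategoryTheory CategoryTheory.Limits AlgebraicGeometry
attribute [local instance] Curv2.resAlgebra Curv2.stalkAlgebra
open Variety
open Groth.Agent
attribute [local instance] Curv2.stalkAlgebra
set_option backward.isDefEq.respectTransparency.types false

namespace Groth.Agent.S1541

open TensorProduct

/-- Geometric reducedness of the local ring bounds all stalks over generalisations. -/
theorem isReduced_stalk_of_geomReduced (k : Type u) [Field k] (X : Scheme.{u}) [X.Over (Spec (CommRingCat.of k))] (x : X)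
    [Algebra.IsGeometricallyReduced k (X.presheaf.stalk x)] (K : Type u) [Field K] [Algebra k K] (z : Curv2.bc k X K)
    (hz : Curv2.bcFst k X K z ⤳ x) : _root_.IsReduced ((Curv2.bc k X K).presheaf.stalk z) := by
  haveI := S1544.isReduced_field_tensor k K (X.presheaf.stalk x)
  haveI : _root_.IsReduced (X.presheaf.stalk x ⊗[k] K) :=
    isReduced_of_injective (Algebra.TensorProduct.comm k (X.presheaf.stalk x) K)
      (Algebra.TensorProduct.comm k (X.presheaf.stalk x) K).injective
  exact VarietyLib.isReduced_stalk_bc k X K x z hz


/-- Let X be a scheme over a field k and x a point of X. Then X is geometrically reduced at x (all local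
rings of all base changes X_{k'} at points over x are reduced) if and only if the local ring 𝒪_{X,x}
is geometrically reduced as a k-algebra. -/
theorem result (k : Type u) [Field k] (X : Scheme.{u}) [X.Over (Spec (CommRingCat.of k))] (x : X) :
    Curv2.IsGeomReducedAt k X x ↔ Algebra.IsGeometricallyReduced k (X.presheaf.stalk x) := by
  constructor
  · intro h
    rw [Algebra.isGeometricallyReduced_field_iff]
    haveI := VarietyLib.isReduced_tensor_of_points k X (AlgebraicClosure k) x fun z hz => h _ z hz
    exact isReduced_of_injective (Algebra.TensorProduct.comm k (AlgebraicClosure k) (X.presheaf.stalk x))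
      (Algebra.TensorProduct.comm k (AlgebraicClosure k) (X.presheaf.stalk x)).injective
  · intro h K _ _ z hz
    exact isReduced_stalk_of_geomReduced k X x K z (hz ▸ specializes_rfl)

end Groth.Agent.S1541
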