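import Groth.Statements.S1543
import Groth.Agent.VarietyLib.GeomReducedPt
import Groth.Agent.DimLib.Maximal

set_option autoImplicit false
universe u
open CategoryTheory CategoryTheory.Limits AlgebraicGeometry
open Variety
open Groth.Agent
attribute [local instance] Curv2.stalkAlgebra
set_option backward.isDefEq.respectTransparency.types false

namespace Groth.Agent.S1543

open TensorProduct


/-- A reduced scheme over k which is geometrically reduced at every generic point of an irreducible
component is geometrically reduced over k. -/
theorem result (k : Type u) [Field k] (X : Scheme.{u}) [X.Over (Spec (CommRingCat.of k))] [IsReduced X]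
    (h : ∀ Z ∈ irreducibleComponents (X : Type u), ∀ η : X, IsGenericPoint η Z → Curv2.IsGeomReducedAt k X η) :
    GeometricallyReduced (X ↘ (Spec (CommRingCat.of k))) := by
  rw [geometricallyReduced_iff, geometrically_iff_of_commRing_of_isClosedUnderIsomorphisms]
  intro K _ _
  show IsReduced (Curv2.bc k X K)
  haveI : ∀ z : Curv2.bc k X K, _root_.IsReduced ((Curv2.bc k X K).presheaf.stalk z) := by
    intro z
    set x := Curv2.bcFst k X K z
    let B := X.presheaf.stalk x
    haveI : _root_.IsReduced (B ⊗[k] K) := by
      let bK := Module.Basis.ofVectorSpace k K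
      let bR := Algebra.TensorProduct.basis B bK
      refine ⟨fun w hw => bR.repr.injective (Finsupp.ext fun i => ?_)⟩
      rw [map_zero, Finsupp.zero_apply]
      refine IsNilpotent.eq_zero ?_
      rw [← mem_nilradical, nilradical, ← Ideal.sInf_minimalPrimes, Ideal.mem_sInf]
      intro p hp
      haveI hpp : p.IsPrime := hp.1.1
      -- the generic point of the component
      let x' := X.fromSpecStalk x ⟨p, hpp⟩
      have hmax : ∀ t, t ⤳ x' → x' = t := by
        intro t ht
        have hx' : x' ⤳ x := by
          have : x' ∈ Set.range (X.fromSpecStalk x) := ⟨_, rfl⟩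
          rwa [Scheme.range_fromSpecStalk] at this
        obtain ⟨q, rfl⟩ : t ∈ Set.range (X.fromSpecStalk x) := by
          rw [Scheme.range_fromSpecStalk]; exact ht.trans hx'
        have hqp : (q : PrimeSpectrum B).asIdeal ≤ p :=
          ((PrimeSpectrum.le_iff_specializes (q : PrimeSpectrum B) ⟨p, hpp⟩).2
            ((X.fromSpecStalk x).isEmbedding.isInducing.specializes_iff.1 ht) :)
        have hq : (⟨p, hpp⟩ : PrimeSpectrum B) = q :=
          PrimeSpectrum.ext (le_antisymm (hp.2 ⟨(q : PrimeSpectrum B).isPrime, bot_le⟩ hqp) hqp)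
        exact congrArg (X.fromSpecStalk x) hq
      have hgen : Curv2.IsGeomReducedAt k X x' :=
        h _ (DimLib.closure_mem_components hmax) x' isGenericPoint_closure
      have hann : ¬ ∀ s : B, s • w = 0 → s ∈ p := by
        intro hall
        let I : Ideal (B ⊗[k] K) := LinearMap.ker (LinearMap.toSpanSingleton (B ⊗[k] K) (B ⊗[k] K) w)
        have hdis : Disjoint (I : Set (B ⊗[k] K)) (p.primeCompl.map (algebraMap B (B ⊗[k] K)) : Submonoid (B ⊗[k] K)) := by
          rw [Set.disjoint_left]
          rintro _ ha ⟨s, hs, rfl⟩
          refine hs (hall s ?_)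
          rw [Algebra.smul_def]
          exact LinearMap.mem_ker.1 ha
        obtain ⟨Q, hQ, hIQ, hQd⟩ := Ideal.exists_le_prime_disjoint I _ hdis
        have hQp : Q.comap (algebraMap B (B ⊗[k] K)) = p := by
          haveI := hQ
          have hle : Q.comap (algebraMap B (B ⊗[k] K)) ≤ p := fun s hs => by
            by_contra hsp
            exact Set.disjoint_left.1 hQd hs ⟨s, hsp, rfl⟩
          exact le_antisymm hle (hp.2 ⟨inferInstance, bot_le⟩ hle)
        have hz' : Curv2.bcFst k X K (VarietyLib.bcLoc k X K x ⟨Q, hQ⟩) = x' := by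
          rw [VarietyLib.bcFst_bcLoc]
          exact congrArg _ (PrimeSpectrum.ext hQp)
        obtain ⟨e⟩ := VarietyLib.nonempty_stalk_bcLoc_equiv k X K x ⟨Q, hQ⟩
        haveI := hgen K _ hz'
        haveI : _root_.IsReduced (Localization.AtPrime Q) := isReduced_of_injective e.symm.toRingHom e.symm.injective
        obtain ⟨s, hs⟩ := (IsLocalization.map_eq_zero_iff Q.primeCompl (Localization.AtPrime Q) w).1 (hw.map _).eq_zero
        exact s.2 (hIQ (LinearMap.mem_ker.2 hs))
      push Not at hann
      obtain ⟨s, hs, hsp⟩ := hann
      have h1 : s * bR.repr w i = 0 := by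
        rw [← smul_eq_mul, ← Finsupp.smul_apply, ← map_smul, hs, map_zero, Finsupp.zero_apply]
      exact (hpp.mem_or_mem (by rw [h1]; exact p.zero_mem)).resolve_left hsp
    exact VarietyLib.isReduced_stalk_bc k X K x z specializes_rfl
  exact isReduced_of_isReduced_stalk _

end Groth.Agent.S1543
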