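import Groth.Statements.S1628
import Groth.Agent.VarietyLib.SmoothStalk
import Groth.Agent.CAlgH3.RegularLocal
import Mathlib

set_option autoImplicit false
universe u
open CategoryTheory CategoryTheory.Limits AlgebraicGeometry
open Variety

namespace Groth.Agent.S1628

theorem isReduced_of_smooth_field (k : Type u) [Field k] (Z : Scheme.{u}) (f : Z ⟶ Spec (CommRingCat.of k))
    [Smooth f] : IsReduced Z :=
  have : ∀ z, _root_.IsReduced (Z.presheaf.stalk z) := fun z => by
    have := Groth.Agent.VarietyLib.isRegularLocalRing_stalk_of_smooth k Z f z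
    have := Groth.Agent.CAlgH3.isDomain_of_isRegularLocalRing (Z.presheaf.stalk z)
    infer_instance
  isReduced_of_isReduced_stalk _


/-- If X is smooth over a field k then X is geometrically reduced over k and geometrically regular at
every point. -/
theorem result (k : Type u) [Field k] (X : Scheme.{u}) [X.Over (Spec (CommRingCat.of k))] [Smooth (X ↘ (Spec (CommRingCat.of k)))] :
    GeometricallyReduced (X ↘ (Spec (CommRingCat.of k))) ∧ ∀ x : X, Curv2.IsGeomRegularAt k X x := by
  refine ⟨⟨?_⟩, fun x k' _ _ _ x' _ => ?_⟩
  · intro K _ y Z fst snd h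
    have : Smooth snd := MorphismProperty.of_isPullback (P := @Smooth) h inferInstance
    exact isReduced_of_smooth_field K Z snd
  · exact Groth.Agent.VarietyLib.isRegularLocalRing_stalk_of_smooth k' _
      (pullback.snd (X ↘ Spec (CommRingCat.of k)) (Spec.map (CommRingCat.ofHom (algebraMap k k')))) x'

end Groth.Agent.S1628
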