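import Groth.Statements.S1549
import Groth.Agent.S1543
import Groth.Agent.S1541
import Groth.Agent.S1628
import Groth.Agent.MeroLib.Torsion
import Groth.Agent.CommAlg6.GenericRegular
import Groth.Agent.DimLib.Maximal
import Groth.Agent.EGA43.ProperDvr.FlatDvr

set_option autoImplicit false
universe u
open CategoryTheory CategoryTheory.Limits AlgebraicGeometry
open Variety
open Groth.Agent
attribute [local instance] Curv2.stalkAlgebra
set_option backward.isDefEq.respectTransparency.types false

namespace Groth.Agent.S1549

/-- The stalk map to `Spec k` is the structure map up to an isomorphism. -/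
theorem exists_iso_stalk (k : Type u) [Field k] (X : Scheme.{u}) [X.Over (Spec (CommRingCat.of k))] (x : X) :
    ∃ α : CommRingCat.of k ⟶ (Spec (CommRingCat.of k)).presheaf.stalk ((X ↘ Spec (CommRingCat.of k)).base x),
      IsIso α ∧ α ≫ (X ↘ Spec (CommRingCat.of k)).stalkMap x = CommRingCat.ofHom (algebraMap k (X.presheaf.stalk x)) := by
  let q := X ↘ Spec (CommRingCat.of k)
  let y : PrimeSpectrum k := q.base x
  let α : CommRingCat.of k ⟶ (Spec (CommRingCat.of k)).presheaf.stalk (q.base x) :=
    StructureSheaf.toStalk (CommRingCat.of k) (q.base x)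
  refine ⟨α, ?_, ?_⟩
  · rw [ConcreteCategory.isIso_iff_bijective]
    letI : Algebra k ((Spec (CommRingCat.of k)).presheaf.stalk (q.base x)) := α.hom.toAlgebra
    haveI : IsLocalization.AtPrime ((Spec (CommRingCat.of k)).presheaf.stalk (q.base x)) y.asIdeal :=
      StructureSheaf.IsLocalization.to_stalk _ y
    exact IsField.localization_map_bijective (M := y.asIdeal.primeCompl) (fun h0 => h0 y.asIdeal.zero_mem)
      (Field.toIsField k)
  · refine Spec.map_injective ?_
    rw [Spec.map_comp, VarietyLib.specMap_stalkAlgebra]
    refine Eq.trans ?_ (Scheme.SpecMap_stalkMap_fromSpecStalk q (x := x))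
    exact congrArg (Spec.map (q.stalkMap x) ≫ ·) (Spec.fromSpecStalk_eq' (R := CommRingCat.of k) (x := q.base x)).symm


/-- For a reduced scheme locally of finite type over k, being geometrically reduced is equivalent to
having a dense open subscheme that is smooth over k. -/
theorem result (k : Type u) [Field k] (X : Scheme.{u}) [X.Over (Spec (CommRingCat.of k))] [IsReduced X] [LocallyOfFiniteType (X ↘ (Spec (CommRingCat.of k)))] :
    GeometricallyReduced (X ↘ (Spec (CommRingCat.of k))) ↔ ∃ U : X.Opens, Dense (U : Set X) ∧ Smooth (U.ι ≫ (X ↘ (Spec (CommRingCat.of k)))) := by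
  let q := X ↘ Spec (CommRingCat.of k)
  haveI : IsLocallyNoetherian X := LocallyOfFiniteType.isLocallyNoetherian q
  constructor
  · intro hred
    haveI : LocallyOfFinitePresentation q := inferInstance
    refine ⟨q.smoothLocus, ?_, ?_⟩
    · have hmem : ∀ η : X, (∀ z : X, z ⤳ η → z = η) → η ∈ q.smoothLocus := by
        intro η hη
        rw [Scheme.Hom.mem_smoothLocus]
        obtain ⟨α, hα, hcomp⟩ := exists_iso_stalk k X η
        haveI := hα
        have hF := MeroLib.isField_stalk_of_max hη
        letI : Field (X.presheaf.stalk η) := hF.toField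
        have hgeo : Curv2.IsGeomReducedAt k X η := fun K _ _ w _ => by
          haveI : IsReduced (Curv2.bc k X K) :=
            GeometricallyReduced.geometrically_isReduced (f := q) _ _ _ (IsPullback.of_hasPullback _ _)
          infer_instance
        haveI := (S1541.result k X η).1 hgeo
        haveI : Algebra.EssFiniteType k (X.presheaf.stalk η) := by
          rw [← RingHom.essFiniteType_algebraMap]
          have e : (q.stalkMap η).hom.comp α.hom = algebraMap k (X.presheaf.stalk η) := congrArg CommRingCat.Hom.hom hcomp
          rw [← e]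
          exact RingHom.EssFiniteType.comp
            (RingHom.FiniteType.essFiniteType (RingHom.FiniteType.of_surjective _ (ConcreteCategory.bijective_of_isIso α).2))
            (LocallyOfFiniteType.stalkMap q η)
        haveI := CommAlg6.formallySmooth_of_isGeometricallyReduced k (X.presheaf.stalk η)
        have h2 : (α ≫ q.stalkMap η).hom.FormallySmooth := by
          rw [hcomp]; exact RingHom.formallySmooth_algebraMap.2 inferInstance
        exact (RingHom.FormallySmooth.respectsIso.cancel_left_isIso α (q.stalkMap η)).1 h2
      intro x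
      obtain ⟨η, hη, hηm⟩ := DimLib.exists_maximal_specializes x
      exact closure_mono (Set.singleton_subset_iff.2 (hmem η fun z hz => (hηm z hz).symm))
        (specializes_iff_mem_closure.1 hη)
    · rw [← Scheme.Hom.smoothLocus_eq_top_iff, ← Scheme.Hom.preimage_smoothLocus_eq, eq_top_iff]
      exact fun w _ => w.2
  · rintro ⟨U, hU, hsm⟩
    haveI := hsm
    refine S1543.result k X fun Z hZ η hη => ?_
    have hηU : η ∈ U := by
      obtain ⟨V, hV, hηV⟩ : ∃ V : X.Opens, IsAffineOpen V ∧ η ∈ V := by
        obtain ⟨_, ⟨V, hV, rfl⟩, hηV, -⟩ :=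
          X.isBasis_affineOpens.exists_subset_of_mem_open (Set.mem_univ η) isOpen_univ
        exact ⟨V, hV, hηV⟩
      haveI : IsAffine V := hV
      haveI : QuasiCompact V.ι := inferInstance
      haveI : IsLocallyNoetherian V := inferInstance
      haveI : IsNoetherian V.toScheme := {}
      haveI : TopologicalSpace.NoetherianSpace V.toScheme := inferInstance
      have hηmax : H8Lim.IsMaxPt (X := V.toScheme) ⟨η, hηV⟩ := fun z hz => by
        have hz' : V.ι z ⤳ η := hz.map V.ι.continuous
        have h1 : closure {V.ι z} = Z := by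
          refine le_antisymm (hZ.2 isIrreducible_singleton.closure ?_) ?_
          · rw [← hη.def]; exact specializes_iff_closure_subset.1 hz'
          · rw [← hη.def]; exact specializes_iff_closure_subset.1 hz'
        exact V.ι.injective (IsGenericPoint.eq (show IsGenericPoint (V.ι z) Z from h1) hη)
      exact H8Lim.mem_of_dense_of_isMaxPt (X := V.toScheme) (EGA43.ProperDvr.finite_setOf_isMaxPt _)
        (U.2.preimage V.ι.continuous) (hU.preimage V.ι.isOpenEmbedding.isOpenMap) hηmax
    intro K _ _ w hw
    let V := Curv2.bcFst k X K ⁻¹ᵁ U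
    have hwV : w ∈ V := show Curv2.bcFst k X K w ∈ U from hw.symm ▸ hηU
    have hV : IsPullback (Curv2.bcFst k X K ∣_ U) (V.ι ≫ Curv2.bcSnd k X K) (U.ι ≫ q)
        (Spec.map (CommRingCat.ofHom (algebraMap k K))) :=
      (isPullback_morphismRestrict (Curv2.bcFst k X K) U).paste_vert (IsPullback.of_hasPullback q _)
    haveI : Smooth (V.ι ≫ Curv2.bcSnd k X K) := MorphismProperty.of_isPullback hV inferInstance
    haveI : IsReduced (V : Scheme.{u}) := S1628.isReduced_of_smooth_field K V (V.ι ≫ Curv2.bcSnd k X K)
    exact isReduced_of_injective (asIso (V.ι.stalkMap ⟨w, hwV⟩)).commRingCatIsoToRingEquiv.toRingHom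
      (asIso (V.ι.stalkMap ⟨w, hwV⟩)).commRingCatIsoToRingEquiv.injective

end Groth.Agent.S1549
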