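import Groth.Statements.S1629
import Groth.Agent.S1549
import Groth.Agent.S2769
import Groth.Agent.Props12.KerReduced

set_option autoImplicit false
universe u
open CategoryTheory CategoryTheory.Limits AlgebraicGeometry
open Variety
open Groth.Agent

namespace Groth.Agent.S1629

/-- The kernel of a surjective closed immersion with reduced source is the nilradical. -/
theorem ker_eq_nilradical {A B : Scheme.{u}} (g : A ⟶ B) [IsClosedImmersion g] [Surjective g] [IsReduced A] :
    g.ker = B.nilradical := by
  refine le_antisymm ?_ ?_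
  · rw [← Scheme.IdealSheafData.vanishingIdeal_top]
    refine Scheme.IdealSheafData.le_support_iff_le_vanishingIdeal.1 fun b _ => ?_
    obtain ⟨a, rfl⟩ := g.surjective b
    exact g.range_subset_ker_support ⟨a, rfl⟩
  · rw [Scheme.IdealSheafData.le_def]
    intro U x hx
    rw [Scheme.Hom.ker_apply, RingHom.mem_ker]
    obtain ⟨n, hn⟩ := (Ideal.mem_radical_iff.1 (show x ∈ Ideal.radical ((⊥ : B.IdealSheafData).ideal U) from hx))
    simp only [Scheme.IdealSheafData.ideal_bot, Pi.bot_apply, Submodule.mem_bot] at hn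
    exact IsReduced.eq_zero _ ⟨n, by rw [← map_pow, hn, map_zero]⟩

/-- A dense quasi-compact open of a scheme with finitely many irreducible components. -/
theorem exists_dense_quasiCompact_open (X : Scheme.{u}) (hirr : (irreducibleComponents (X : Type u)).Finite) :
    ∃ U : X.Opens, Dense (U : Set X) ∧ IsCompact (U : Set X) := by
  classical
  have h : ∀ Z : irreducibleComponents (X : Type u), ∃ V : X.Opens, IsAffineOpen V ∧
      ∀ η : X, IsGenericPoint η Z.1 → η ∈ V := fun Z => by
    obtain ⟨η, hη⟩ := QuasiSober.sober Z.2.1 (isClosed_of_mem_irreducibleComponents _ Z.2)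
    obtain ⟨_, ⟨V, hV, rfl⟩, hηV, -⟩ :=
      X.isBasis_affineOpens.exists_subset_of_mem_open (Set.mem_univ η) isOpen_univ
    exact ⟨V, hV, fun η' hη' => (hη'.eq hη) ▸ hηV⟩
  choose V hV hVη using h
  haveI := hirr.to_subtype
  refine ⟨⨆ Z, V Z, ?_, ?_⟩
  · intro x
    obtain ⟨η, hη⟩ := QuasiSober.sober (irreducibleComponent_mem_irreducibleComponents x).1
      isClosed_irreducibleComponent
    refine closure_mono (Set.singleton_subset_iff.2 ?_) (hη.symm ▸ mem_irreducibleComponent : x ∈ closure {η})
    exact TopologicalSpace.Opens.mem_iSup.2 ⟨⟨_, irreducibleComponent_mem_irreducibleComponents x⟩, hVη _ η hη⟩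
  · rw [TopologicalSpace.Opens.coe_iSup]
    exact isCompact_iUnion fun Z => (hV Z).isCompact


/-- Let X be a k-scheme locally of finite type, having only finitely many irreducible components. There
is then a finite purely inseparable extension k' of k for which the reduction of X_{k'} (the closed
subscheme defined by the nilradical) is geometrically reduced over k'. -/
theorem result (k : Type u) [Field k] (X : Scheme.{u}) [X.Over (Spec (CommRingCat.of k))] [LocallyOfFiniteType (X ↘ (Spec (CommRingCat.of k)))]
    (hirr : (irreducibleComponents (X : Type u)).Finite) :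
    ∃ (k' : Type u) (_ : Field k') (_ : Algebra k k'), FiniteDimensional k k' ∧ IsPurelyInseparable k k' ∧
      GeometricallyReduced ((Curv2.bc k X k').nilradical.subschemeι ≫ Curv2.bcSnd k X k') := by
  let q := X ↘ Spec (CommRingCat.of k)
  obtain ⟨U0, hU0, hU0c⟩ := exists_dense_quasiCompact_open X hirr
  haveI : CompactSpace U0.toScheme := isCompact_iff_compactSpace.1 hU0c
  obtain ⟨U, hUd, k', _, _, hfin, hpi, Z, hZ, i, hi, hisurj, hsm⟩ := S2769.result k (U0.ι ≫ q)
  refine ⟨k', inferInstance, inferInstance, hfin, hpi, ?_⟩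
  let s := Spec.map (CommRingCat.ofHom (algebraMap k k'))
  let jU := U.ι ≫ U0.ι
  let ι := (Curv2.bc k X k').nilradical.subschemeι
  let Xred := (Curv2.bc k X k').nilradical.subscheme
  haveI : IsReduced Xred := by
    show IsReduced (Curv2.bc k X k').nilradical.subscheme
    rw [← Scheme.IdealSheafData.vanishingIdeal_top]
    exact Props12.isReduced_subscheme_vanishingIdeal _
  haveI hιs : Surjective ι := ⟨Set.range_eq_univ.1 (by
    rw [Scheme.IdealSheafData.range_subschemeι, Scheme.support_nilradical]; rfl)⟩
  let m : pullback (U.ι ≫ U0.ι ≫ q) s ⟶ Curv2.bc k X k' :=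
    pullback.map _ _ _ _ jU (𝟙 _) (𝟙 _) (by simp [jU, q]) (by simp [s])
  have hm : IsPullback m (pullback.fst (U.ι ≫ U0.ι ≫ q) s) (Curv2.bcFst k X k') jU := by
    refine IsPullback.of_right ?_ (pullback.lift_fst _ _ _) (IsPullback.of_hasPullback q s).flip
    rw [show m ≫ pullback.snd q s = pullback.snd (U.ι ≫ U0.ι ≫ q) s from
      (pullback.lift_snd _ _ _).trans (Category.comp_id _)]
    exact (IsPullback.of_hasPullback (U.ι ≫ U0.ι ≫ q) s).flip
  haveI : IsOpenImmersion m := MorphismProperty.of_isPullback (P := @IsOpenImmersion) hm.flip inferInstance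
  haveI := hi
  haveI : Surjective i := ⟨hisurj⟩
  let W := pullback m ι
  haveI : IsClosedImmersion (pullback.fst m ι) := MorphismProperty.pullback_fst _ _ inferInstance
  haveI : Surjective (pullback.fst m ι) := MorphismProperty.pullback_fst _ _ hιs
  haveI : IsReduced W := isReduced_of_isOpenImmersion (pullback.snd m ι)
  haveI : IsReduced Z := hZ
  have hker : (pullback.fst m ι).ker = i.ker := by rw [ker_eq_nilradical, ker_eq_nilradical]
  let e := IsClosedImmersion.lift (pullback.fst m ι) i hker.le
  haveI : IsIso e := IsClosedImmersion.isIso_lift _ _ hker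
  have he : e ≫ pullback.fst m ι = i := IsClosedImmersion.lift_fac _ _ _
  haveI : Smooth (pullback.fst m ι ≫ pullback.snd (U.ι ≫ U0.ι ≫ q) s) := by
    have : Smooth (e ≫ pullback.fst m ι ≫ pullback.snd (U.ι ≫ U0.ι ≫ q) s) := by
      rw [reassoc_of% he]; exact hsm
    exact (MorphismProperty.cancel_left_of_respectsIso @Smooth e _).1 this
  letI : Xred.Over (Spec (CommRingCat.of k')) := ⟨ι ≫ Curv2.bcSnd k X k'⟩
  haveI : LocallyOfFiniteType (Curv2.bcSnd k X k') :=
    MorphismProperty.pullback_snd (P := @LocallyOfFiniteType) _ _ inferInstance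
  haveI : LocallyOfFiniteType (Xred ↘ Spec (CommRingCat.of k')) :=
    inferInstanceAs (LocallyOfFiniteType (ι ≫ Curv2.bcSnd k X k'))
  refine (S1549.result k' Xred).2 ⟨(pullback.snd m ι).opensRange, ?_, ?_⟩
  · have h1 : Dense (Set.range jU) := by
      rw [Scheme.Hom.comp_base, TopCat.coe_comp, Set.range_comp, Scheme.Opens.range_ι]
      intro x
      refine closure_minimal ?_ isClosed_closure (hU0 x)
      intro y hy
      have h3 : (⟨y, hy⟩ : U0) ∈ closure (U : Set U0.toScheme) := hUd _
      exact map_mem_closure U0.ι.continuous h3 (fun a ha => ⟨a, ha, rfl⟩)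
    haveI : UniversallyOpen (Curv2.bcFst k X k') :=
      MorphismProperty.pullback_fst (P := @UniversallyOpen) _ _ inferInstance
    have h2 : Dense (Curv2.bcFst k X k' ⁻¹' Set.range jU) := h1.preimage (Curv2.bcFst k X k').isOpenMap
    have h3 : Curv2.bcFst k X k' ⁻¹' Set.range jU ⊆ Set.range m := by
      rintro a ⟨b, hb⟩
      obtain ⟨c, hc, -⟩ := Scheme.Pullback.exists_preimage_pullback (f := Curv2.bcFst k X k') (g := jU) a b hb.symm
      refine ⟨hm.isoPullback.inv c, ?_⟩
      rw [← Scheme.Hom.comp_apply, hm.isoPullback_inv_fst, hc]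
    have hιo : IsOpenMap ι :=
      (isHomeomorph_iff_continuous_isClosedMap_bijective.2 ⟨ι.continuous, ι.isClosedEmbedding.isClosedMap,
        ι.isClosedEmbedding.injective, ι.surjective⟩).isOpenMap
    have h4 : Dense (ι ⁻¹' Set.range m) := (h2.mono h3).preimage hιo
    rw [Scheme.Hom.coe_opensRange, Scheme.Pullback.range_snd]
    exact h4
  · have h1 : (pullback.snd m ι).opensRange.ι = (pullback.snd m ι).isoOpensRange.inv ≫ pullback.snd m ι :=
      (Scheme.Hom.isoOpensRange_inv_comp _).symm
    show Smooth ((pullback.snd m ι).opensRange.ι ≫ ι ≫ Curv2.bcSnd k X k')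
    rw [h1, Category.assoc, MorphismProperty.cancel_left_of_respectsIso @Smooth, ← pullback.condition_assoc,
      show m ≫ Curv2.bcSnd k X k' = pullback.snd (U.ι ≫ U0.ι ≫ q) s from
        (pullback.lift_snd _ _ _).trans (Category.comp_id _)]
    infer_instance

end Groth.Agent.S1629
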