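import Groth.Statements.S19474
import Groth.Agent.HenselLib.HullProps
import Groth.Agent.Matlis6.CompletionNoetherian
import Mathlib.Order.CompletePartialOrder
import Mathlib.Tactic
import Groth.Agent.HenselLib.HullProps
import Groth.Agent.Matlis6.CompletionNoetherian

set_option linter.all false

set_option autoImplicit false
universe u
open CAlg

open IsLocalRing

namespace Groth.Agent.S19474

theorem ringKrullDim_eq_of_flat_closedFibre {R S : Type u} [CommRing R] [CommRing S] [IsLocalRing R]
    [IsLocalRing S] [IsNoetherianRing R] [IsNoetherianRing S] [Algebra R S]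
    [Module.FaithfullyFlat R S]
    (hm : (maximalIdeal R).map (algebraMap R S) = maximalIdeal S) :
    ringKrullDim S = ringKrullDim R := by
  classical
  refine le_antisymm ?_ (iSup_le fun l => ?_)
  · rw [← maximalIdeal_height_eq_ringKrullDim, ← maximalIdeal_height_eq_ringKrullDim]
    obtain ⟨s, hs, hcard⟩ := (maximalIdeal R).exists_finset_card_eq_height_of_isNoetherianRing
    have hrad : maximalIdeal R ≤ (Ideal.span (s : Set R)).radical := by
      rw [Ideal.radical_eq_sInf]
      refine le_sInf ?_
      rintro q ⟨hq, hqp⟩
      exact hs.2 ⟨hqp, hq⟩ (le_maximalIdeal hqp.ne_top)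
    have hmem : maximalIdeal S ∈
        (Ideal.span ((s.image (algebraMap R S) : Finset S) : Set S)).minimalPrimes := by
      refine ⟨⟨inferInstance, ?_⟩, ?_⟩
      · rw [Finset.coe_image, ← Ideal.map_span, ← hm]
        exact Ideal.map_mono hs.1.2
      · rintro q ⟨hq, hle⟩ -
        rw [← hm, Ideal.map_le_iff_le_comap]
        refine hrad.trans ((Ideal.IsPrime.radical_le_iff (Ideal.IsPrime.comap _)).mpr ?_)
        rw [Finset.coe_image, ← Ideal.map_span] at hle
        exact Ideal.map_le_iff_le_comap.mp hle
    have h1 := Ideal.height_le_card_of_mem_minimalPrimes_span_finset hmem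
    exact_mod_cast h1.trans (le_trans (Nat.cast_le.mpr Finset.card_image_le) hcard.le)
  · obtain ⟨P, hP⟩ := PrimeSpectrum.comap_surjective_of_faithfullyFlat (A := R) (B := S) l.last
    have : P.asIdeal.LiesOver l.last.asIdeal := ⟨congr(($hP).asIdeal).symm⟩
    obtain ⟨L, hL, -, -⟩ := Ideal.exists_ltSeries_of_hasGoingDown l P.asIdeal
    rw [← hL]
    exact Order.LTSeries.length_le_krullDim L

/-- Let A be a Noetherian local ring and I an ideal of A different from A. Then the I-adic completion of
A has the same Krull dimension as A, and A is a regular local ring if and only if the I-adic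
completion of A is a regular local ring (in particular the completion is then local and Noetherian).
The case where I is the maximal ideal is the classical one; here I is any proper ideal. -/
theorem result (A : Type u) [CommRing A]
    [IsLocalRing A] [IsNoetherianRing A] (I : Ideal A) (hI : I ≠ ⊤) :
    ringKrullDim (AdicCompletion I A) = ringKrullDim A ∧
      (IsRegularLocalRing A ↔ IsRegularLocalRing (AdicCompletion I A)) := by
  have hle : I ≤ maximalIdeal A := le_maximalIdeal hI
  have hfg : I.FG := IsNoetherian.noetherian I
  set S := AdicCompletion I A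
  have : IsNoetherianRing S := Groth.Agent.Matlis6.isNoetherianRing_adicCompletion I
  have hmax := AdicCompletion.isMaximal_map_of_le I (maximalIdeal A) hle hfg
  have := AdicCompletion.isAdicComplete_self I hfg
  have hjac := IsAdicComplete.le_jacobson_bot (I.map (algebraMap A S))
  have huniq : ∀ M : Ideal S, M.IsMaximal → M = (maximalIdeal A).map (algebraMap A S) := by
    intro M hM
    have hIM : I.map (algebraMap A S) ≤ M := hjac.trans (sInf_le ⟨bot_le, hM⟩)
    refine (hmax.eq_of_le hM.ne_top ?_).symm
    rw [Ideal.map_le_iff_le_comap]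
    have hmap : M = (M.map (AdicCompletion.evalOneₐ I).toRingHom).comap (AdicCompletion.evalOneₐ I).toRingHom := by
      rw [Ideal.comap_map_of_surjective' (AdicCompletion.evalOneₐ I).toRingHom (AdicCompletion.evalOneₐ_surjective I), eq_comm, sup_eq_left,
        AdicCompletion.ker_evalOneₐ_eq_map I hfg]
      exact hIM
    have hM' : (M.map (AdicCompletion.evalOneₐ I).toRingHom).IsMaximal :=
      Ideal.IsMaximal.map_of_surjective_of_ker_le (AdicCompletion.evalOneₐ_surjective I)
        ((AdicCompletion.ker_evalOneₐ_eq_map I hfg).le.trans hIM)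
    intro x hx
    rw [Ideal.mem_comap, hmap, Ideal.mem_comap]
    have : Nontrivial (A ⧸ I) := Ideal.Quotient.nontrivial_iff.mpr hI
    have : IsLocalRing (A ⧸ I) := IsLocalRing.of_surjective' (Ideal.Quotient.mk I) Ideal.Quotient.mk_surjective
    rw [IsLocalRing.eq_maximalIdeal hM', ← map_maximalIdeal_of_surjective (Ideal.Quotient.mk I) Ideal.Quotient.mk_surjective]
    have e : (AdicCompletion.evalOneₐ I).toRingHom (algebraMap A S x) = Ideal.Quotient.mk I x :=
      (AdicCompletion.evalOneₐ I).commutes x
    rw [e]
    exact Ideal.mem_map_of_mem _ hx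
  have : IsLocalRing S := IsLocalRing.of_unique_max_ideal ⟨_, hmax, huniq⟩
  have hm : (maximalIdeal A).map (algebraMap A S) = maximalIdeal S := eq_maximalIdeal hmax
  have : IsLocalHom (algebraMap A S) := ⟨fun a ha => by
    by_contra h
    exact (mem_maximalIdeal _).mp (hm ▸ Ideal.mem_map_of_mem _ h) ha⟩
  have : Module.FaithfullyFlat A S := Module.FaithfullyFlat.of_flat_of_isLocalHom
  have hdim := ringKrullDim_eq_of_flat_closedFibre hm
  exact ⟨hdim, Groth.Agent.HenselLib.isRegularLocalRing_iff_of_flat S hm hdim⟩

end Groth.Agent.S19474
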