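import Groth.Statements.S6906
import Groth.Agent.DCat.KFlatModule
import Mathlib.LinearAlgebra.TensorProduct.Tower
import Mathlib.CategoryTheory.Adjunction.Additive
import Mathlib.Algebra.Category.ModuleCat.FilteredColimits

set_option autoImplicit false
set_option backward.isDefEq.respectTransparency false
set_option backward.defeqAttrib.useBackward true
universe u
open CategoryTheory CategoryTheory.Limits MonoidalCategory
open DRing

namespace Groth.Agent.S6906

open CategoryTheory CategoryTheory.Limits MonoidalCategory Groth.Agent.DCat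
open scoped TensorProduct

variable {R R' : Type u} [CommRing R] [CommRing R'] (φ : R →+* R')

noncomputable abbrev T3 : ModuleCat.{u} R' ⥤ ModuleCat.{u} R ⥤ ModuleCat.{u} R' :=
  curriedTensor (ModuleCat.{u} R') ⋙ (Functor.whiskeringLeft _ _ _).obj (ModuleCat.extendScalars φ)

noncomputable def alphaAux (a : ModuleCat.{u} R') (b : ModuleCat.{u} R) :
    (ModuleCat.restrictScalars φ).obj (((T3 φ).obj a).obj b) ≅
      ((ModuleCat.restrictScalars φ).obj a ⊗ b) := by
  letI := φ.toAlgebra
  letI : Module R (a : Type u) := Module.compHom _ φ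
  haveI : IsScalarTower R R' (a : Type u) := IsScalarTower.of_algebraMap_smul fun _ _ => rfl
  refine LinearEquiv.toModuleIso
    (X₁ := ((ModuleCat.restrictScalars φ).obj (((T3 φ).obj a).obj b)))
    (X₂ := ((ModuleCat.restrictScalars φ).obj a ⊗ b : ModuleCat.{u} R))
    { (TensorProduct.AlgebraTensorModule.cancelBaseChange R R' R' (a : Type u) (b : Type u)).toAddEquiv with
      map_smul' := fun r x => ?_ }
  have h := (TensorProduct.AlgebraTensorModule.cancelBaseChange R R' R' (a : Type u) (b : Type u)).map_smul (φ r) x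
  refine h.trans ?_
  change φ r • (TensorProduct.AlgebraTensorModule.cancelBaseChange R R' R' (a : Type u) (b : Type u)) x = r • _
  exact (IsScalarTower.algebraMap_smul R' r _)

noncomputable abbrev G3 : ModuleCat.{u} R' ⥤ ModuleCat.{u} R := ModuleCat.restrictScalars φ

lemma alphaAux₁ {a a' : ModuleCat.{u} R'} (f : a ⟶ a') (b : ModuleCat.{u} R) :
    (G3 φ).map (((T3 φ).map f).app b) ≫ (alphaAux φ a' b).hom =
      (alphaAux φ a b).hom ≫ ((modT R).map ((G3 φ).map f)).app ((𝟭 _ : _ ⥤ _).obj b) := by
  rw [← Iso.inv_comp_eq, ← Category.assoc, ← Iso.eq_comp_inv]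
  exact ModuleCat.MonoidalCategory.tensor_ext fun x y => rfl

lemma alphaAux₂ (a : ModuleCat.{u} R') {b b' : ModuleCat.{u} R} (g : b ⟶ b') :
    (G3 φ).map (((T3 φ).obj a).map g) ≫ (alphaAux φ a b').hom =
      (alphaAux φ a b).hom ≫ ((modT R).obj ((G3 φ).obj a)).map ((𝟭 _ : _ ⥤ _).map g) := by
  rw [← Iso.inv_comp_eq, ← Category.assoc, ← Iso.eq_comp_inv]
  exact ModuleCat.MonoidalCategory.tensor_ext fun x y => rfl

/-- For a ring map `φ : R → R'` and a K-flat complex `K•` of `R`-modules, the degreewise base change `K•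
⊗_R R'` is K-flat over `R'`. -/
theorem result (R R' : Type u) [CommRing R] [CommRing R'] (φ : R →+* R') (K : DRing.Cx R)
    (hK : (∀ L : DRing.Cx R, (∀ i : ℤ, IsZero (L.homology i)) → ∀ i : ℤ, IsZero ((L ⊗ K).homology i))) :
    ∀ L : DRing.Cx R', (∀ i : ℤ, IsZero (L.homology i)) →
      ∀ i : ℤ, IsZero ((L ⊗ ((ModuleCat.extendScalars φ).mapHomologicalComplex (ComplexShape.up ℤ)).obj K).homology i) := by
  have : (ModuleCat.extendScalars φ).Additive := (ModuleCat.extendRestrictScalarsAdj φ).left_adjoint_additive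
  have : ∀ a, ((T3 φ).obj a).Additive := fun a => by dsimp [T3]; infer_instance
  intro L hL i
  let G := G3 φ
  have hFL : ((G.mapHomologicalComplex (ComplexShape.up ℤ)).obj L).Acyclic := fun n =>
    ((HomologicalComplex.exactAt_iff_isZero_homology _ _).2 (hL n)).map G
  have h := (isKFlat_iff K).1 hK _ hFL
  have h' : ((G.mapHomologicalComplex (ComplexShape.up ℤ)).obj (tot (T3 φ) L K)).Acyclic :=
    acyclic_of_iso' (mapTotIso (T3 φ) (modT R) G (𝟭 _) G (alphaAux φ) (alphaAux₁ φ) (alphaAux₂ φ) L K).symm h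
  exact (ShortComplex.exact_iff_isZero_homology _).1 ((ShortComplex.exact_map_iff_of_faithful ((tot (T3 φ) L K).sc i) G).1 (h' i))


end Groth.Agent.S6906
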