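import Groth.Statements.S12898
import Groth.Agent.DCat.LTensorModule
import Groth.Agent.DCat.DerivedAdj

set_option autoImplicit false
set_option backward.isDefEq.respectTransparency false
set_option backward.defeqAttrib.useBackward true
universe u
open CategoryTheory CategoryTheory.Limits
attribute [local instance] HasDerivedCategory.standard
open DRing

namespace Groth.Agent.S12898

/-- Let φ : R → A be a map of commutative rings. The derived base change functor D(R) → D(A), E ↦ E
⊗^L_R A (the total left derived functor of extension of scalars, whose existence is the stated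
instance hypothesis, true), is left adjoint to the restriction functor D(A) → D(R). (Existence of an
adjunction only.) -/
theorem result {R A : Type u} [CommRing R] [CommRing A] (φ : R →+* A)
    [DRing.HasLBaseChange φ] :
    Nonempty (DRing.LBaseChange φ ⊣ DRing.restrictD φ) := by
  let F := (ModuleCat.restrictScalars.{u} φ).mapHomotopyCategory (ComplexShape.up ℤ)
  let W := HomotopyCategory.quasiIso (ModuleCat.{u} A) (ComplexShape.up ℤ)
  let α : F ⋙ DerivedCategory.Qh ⟶ DerivedCategory.Qh ⋙ DRing.restrictD φ :=
    (ModuleCat.restrictScalars.{u} φ).mapDerivedCategoryFactorsh.inv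
  have hF : ∀ ⦃X Y : HomotopyCategory (ModuleCat.{u} A) (ComplexShape.up ℤ)⦄ (s : X ⟶ Y),
      (⊤ : ObjectProperty _) X → (⊤ : ObjectProperty _) Y → W s → IsIso ((F ⋙ DerivedCategory.Qh).map s) := by
    intro X Y s _ _ hs
    have : IsIso ((DRing.restrictD φ).map (DerivedCategory.Qh.map s)) :=
      @Functor.map_isIso _ _ _ _ _ _ _ (DerivedCategory.Qh.map s) (Localization.inverts DerivedCategory.Qh W s hs)
    exact (NatIso.isIso_map_iff (ModuleCat.restrictScalars.{u} φ).mapDerivedCategoryFactorsh s).1 this
  have h₂ : ∀ X : HomotopyCategory (ModuleCat.{u} A) (ComplexShape.up ℤ),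
      ∃ (X' : HomotopyCategory (ModuleCat.{u} A) (ComplexShape.up ℤ)) (s : X ⟶ X'), (⊤ : ObjectProperty _) X' ∧ W s :=
    fun X => ⟨X, 𝟙 X, trivial, W.id_mem X⟩
  have hRF : (DRing.restrictD φ).IsRightDerivedFunctor α W :=
    DCat.isRightDerived_of_isIso h₂ hF α fun X _ => inferInstance
  have : (F ⋙ DerivedCategory.Qh).HasRightDerivedFunctor W :=
    Functor.HasRightDerivedFunctor.mk' _ α
  obtain ⟨adj⟩ := DCat.nonempty_derivedAdj (DCat.adjHot (ComplexShape.up ℤ) (ModuleCat.extendRestrictScalarsAdj φ))
    DerivedCategory.Qh DerivedCategory.Qh _ W DCat.exists_kflatR (DCat.isIso_baseChangeKh_of_kflat φ) h₂ hF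
  exact ⟨adj.ofNatIsoRight (Functor.rightDerivedUnique _ _
    ((F ⋙ DerivedCategory.Qh).totalRightDerivedUnit DerivedCategory.Qh W) α W)⟩


end Groth.Agent.S12898
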