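import Groth.Statements.S7027
import Groth.Agent.DCat.LTensorModule

set_option autoImplicit false
set_option backward.isDefEq.respectTransparency false
set_option backward.defeqAttrib.useBackward true
universe u
open CategoryTheory CategoryTheory.Limits
attribute [local instance] HasDerivedCategory.standard
open DRing

namespace Groth.Agent.S7027

open CategoryTheory.Pretriangulated in
/-- Let R be a commutative ring such that the derived tensor product - ⊗^L_R M exists on D(R) for every
R-module M, let a, b be integers and K → L → M → K[1] a distinguished triangle in D(R). (1) Tor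
amplitude of K in [a+1, b+1] together with tor amplitude of L in [a, b] gives tor amplitude of M in
[a, b]. (2) Tor amplitude of both K and M in [a, b] gives tor amplitude of L in [a, b]. (3) Tor
amplitude of L in [a+1, b+1] together with tor amplitude of M in [a, b] gives tor amplitude of K in
[a+1, b+1]. (Tor amplitude is taken in the flat-representative sense: isomorphic in D(R) to a
complex of flat modules vanishing outside the interval.) -/
theorem result (R : Type u) [CommRing R] [∀ M : ModuleCat.{u} R, DRing.HasLTensor R M] (a b : ℤ)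
    (T : Triangle (Dual.D R)) (hT : T ∈ distinguishedTriangles) :
    (DRing.HasTorAmplitudeIn R (a + 1) (b + 1) T.obj₁ → DRing.HasTorAmplitudeIn R a b T.obj₂ →
        DRing.HasTorAmplitudeIn R a b T.obj₃) ∧
      (DRing.HasTorAmplitudeIn R a b T.obj₁ → DRing.HasTorAmplitudeIn R a b T.obj₃ →
        DRing.HasTorAmplitudeIn R a b T.obj₂) ∧
      (DRing.HasTorAmplitudeIn R (a + 1) (b + 1) T.obj₂ → DRing.HasTorAmplitudeIn R a b T.obj₃ →
        DRing.HasTorAmplitudeIn R (a + 1) (b + 1) T.obj₁) := by
  refine ⟨fun h₁ h₂ => Groth.Agent.DCat.flatAmp_of_vanish fun A i hi => ?_,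
    fun h₁ h₃ => Groth.Agent.DCat.flatAmp_of_vanish fun A i hi => ?_,
    fun h₂ h₃ => Groth.Agent.DCat.flatAmp_of_vanish fun A i hi => ?_⟩
  · exact (Groth.Agent.DCat.ltensor_vanish hT A).1 i (Groth.Agent.DCat.vanish_of_flatAmp h₂ A hi)
      (Groth.Agent.DCat.vanish_of_flatAmp h₁ A (by omega))
  · exact (Groth.Agent.DCat.ltensor_vanish hT A).2.1 i (Groth.Agent.DCat.vanish_of_flatAmp h₁ A hi)
      (Groth.Agent.DCat.vanish_of_flatAmp h₃ A hi)
  · have := (Groth.Agent.DCat.ltensor_vanish hT A).2.2 (i - 1)
      (Groth.Agent.DCat.vanish_of_flatAmp h₃ A (by omega)) (by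
        rw [Int.sub_add_cancel]; exact Groth.Agent.DCat.vanish_of_flatAmp h₂ A hi)
    rwa [Int.sub_add_cancel] at this


end Groth.Agent.S7027
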