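import Groth.Statements.S5356
import Groth.Agent.FlatLocal.Descent
import Groth.Agent.CAlgH3.ArtinFlat
import Mathlib.RingTheory.Flat.Basic

set_option autoImplicit false
universe u
open CategoryTheory CategoryTheory.Limits MonoidalCategory CartesianMonoidalCategory MonObj GrpObj AlgebraicGeometry
open SGA3

namespace Groth.Agent.S5356

set_option backward.isDefEq.respectTransparency.types false

theorem projective_appTop {P X Y Z : Scheme.{u}} [IsAffine X] [IsAffine Y] [IsAffine Z] {fst : P ⟶ X} {snd : P ⟶ Y}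
    {f : X ⟶ Z} {g : Y ⟶ Z} (h : IsPullback fst snd f g)
    (hp : letI := f.appTop.hom.toAlgebra; Module.Projective Γ(Z, ⊤) Γ(X, ⊤)) :
    letI := snd.appTop.hom.toAlgebra; Module.Projective Γ(Y, ⊤) Γ(P, ⊤) := by
  have hpo := (isPushout_appTop_of_isPullback h).flip
  letI := f.appTop.hom.toAlgebra
  letI := g.appTop.hom.toAlgebra
  letI := snd.appTop.hom.toAlgebra
  letI := fst.appTop.hom.toAlgebra
  letI : Algebra Γ(Z, ⊤) Γ(P, ⊤) := (g.appTop ≫ snd.appTop).hom.toAlgebra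
  haveI : IsScalarTower Γ(Z, ⊤) Γ(Y, ⊤) Γ(P, ⊤) := .of_algebraMap_eq fun _ => rfl
  haveI : IsScalarTower Γ(Z, ⊤) Γ(X, ⊤) Γ(P, ⊤) := .of_algebraMap_eq fun z => congrArg (fun t : Γ(Z, ⊤) ⟶ Γ(P, ⊤) => t.hom z) hpo.w
  haveI : Algebra.IsPushout Γ(Z, ⊤) Γ(Y, ⊤) Γ(X, ⊤) Γ(P, ⊤) := CommRingCat.isPushout_iff_isPushout.1 hpo
  exact Module.Projective.of_equiv (Algebra.IsPushout.equiv Γ(Z, ⊤) Γ(Y, ⊤) Γ(X, ⊤) Γ(P, ⊤)).toLinearEquiv

theorem flat_of_essentiallyFree {X S : Scheme.{u}} (f : X ⟶ S) (hf : SGA3x.IsEssentiallyFree f) : Flat f := by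
  choose U hsU hU S' hS' g hgf hgs hcov using hf
  have hcover : TopologicalSpace.IsOpenCover U :=
    TopologicalSpace.IsOpenCover.mk (eq_top_iff.2 fun s _ => TopologicalSpace.Opens.mem_iSup.2 ⟨s, hsU s⟩)
  rw [IsZariskiLocalAtTarget.iff_of_openCover (P := @Flat) (S.openCoverOfIsOpenCover U hcover)]
  intro s
  change Flat (pullback.snd f (U s).ι)
  haveI := hS' s
  haveI := hgf s
  haveI := hgs s
  let q : pullback f (g s ≫ (U s).ι) ⟶ pullback f (U s).ι :=
    pullback.map _ _ _ _ (𝟙 _) (g s) (𝟙 _) (by simp) (by simp)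
  have hq : IsPullback q (pullback.snd f (g s ≫ (U s).ι)) (pullback.snd f (U s).ι) (g s) := by
    refine IsPullback.of_right ?_ (pullback.lift_snd _ _ _) (IsPullback.of_hasPullback f (U s).ι)
    rw [pullback.lift_fst, Category.comp_id]
    exact IsPullback.of_hasPullback f (g s ≫ (U s).ι)
  haveI : Flat q := MorphismProperty.of_isPullback (P := @Flat) hq.flip (hgf s)
  haveI : Surjective q := MorphismProperty.of_isPullback (P := @Surjective) hq.flip (hgs s)
  haveI hsnd : Flat (pullback.snd f (g s ≫ (U s).ι)) := by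
    choose V hxV hV hVp using hcov s
    have hcov' : TopologicalSpace.IsOpenCover V :=
      TopologicalSpace.IsOpenCover.mk (eq_top_iff.2 fun x _ => TopologicalSpace.Opens.mem_iSup.2 ⟨x, hxV x⟩)
    rw [IsZariskiLocalAtSource.iff_of_openCover (P := @Flat) ((pullback f (g s ≫ (U s).ι)).openCoverOfIsOpenCover V hcov')]
    intro x
    change Flat ((V x).ι ≫ pullback.snd f (g s ≫ (U s).ι))
    haveI : IsAffine (V x : Scheme.{u}) := hV x
    rw [HasRingHomProperty.iff_of_isAffine (P := @Flat)]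
    letI := ((V x).ι ≫ pullback.snd f (g s ≫ (U s).ι)).appTop.hom.toAlgebra
    haveI : Module.Projective Γ(S' s, ⊤) Γ(V x, ⊤) := hVp x
    exact Module.Flat.of_projective
  haveI : Flat (q ≫ pullback.snd f (U s).ι) := by
    rw [hq.w]; infer_instance
  exact FlatLocal.flat_of_comp q (pullback.snd f (U s).ι)

theorem essentiallyFree_of_flat {A : Type u} [CommRing A] [IsArtinianRing A] {X : Scheme.{u}}
    (f : X ⟶ Spec (CommRingCat.of A)) (hf : Flat f) : SGA3x.IsEssentiallyFree f := by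
  intro s
  obtain ⟨e, -, he⟩ := PrimeSpectrum.isClopen_iff.1 (isClopen_discrete ({s} : Set (PrimeSpectrum A)))
  let U : (Spec (CommRingCat.of A)).Opens := PrimeSpectrum.basicOpen e
  have hU : IsAffineOpen U := IsAffineOpen.Spec_basicOpen (R := CommRingCat.of A) e
  have hsU : s ∈ U := by
    change s ∈ (PrimeSpectrum.basicOpen e : Set (PrimeSpectrum A)); rw [← he]; rfl
  haveI : IsAffine (U : Scheme.{u}) := hU
  refine ⟨U, hsU, hU, U, hU, 𝟙 _, inferInstance, inferInstance, fun x => ?_⟩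
  obtain ⟨V, hV, hxV, -⟩ := exists_isAffineOpen_mem_and_subset (U := ⊤) (x := x) trivial
  haveI : IsAffine (V : Scheme.{u}) := hV
  refine ⟨V, hxV, hV, ?_⟩
  let φ := V.ι ≫ pullback.snd f (𝟙 _ ≫ U.ι)
  haveI : Flat φ := inferInstance
  letI := φ.appTop.hom.toAlgebra
  haveI : Subsingleton ↥(U : Scheme.{u}) := ⟨fun a b => Subtype.ext (by
    have : ∀ c : U, c.1 = s := fun c => by
      have hc : c.1 ∈ (PrimeSpectrum.basicOpen e : Set (PrimeSpectrum A)) := c.2
      rw [← he] at hc; exact hc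
    exact (this a).trans (this b).symm)⟩
  haveI : Subsingleton (PrimeSpectrum Γ(U, ⊤)) := (U : Scheme.{u}).isoSpec.inv.homeomorph.injective.subsingleton
  haveI : IsLocallyNoetherian (U : Scheme.{u}) := inferInstance
  haveI : IsNoetherianRing Γ(U, ⊤) := IsLocallyNoetherian.component_noetherian ⟨⊤, isAffineOpen_top _⟩
  haveI : Nonempty (PrimeSpectrum Γ(U, ⊤)) := ⟨(U : Scheme.{u}).isoSpec.hom ⟨s, hsU⟩⟩
  haveI : Nontrivial Γ(U, ⊤) := PrimeSpectrum.nonempty_iff_nontrivial.1 inferInstance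
  haveI : IsLocalRing Γ(U, ⊤) := by
    refine IsLocalRing.of_unique_max_ideal ?_
    obtain ⟨M, hM⟩ := Ideal.exists_maximal Γ(U, ⊤)
    exact ⟨M, hM, fun M' hM' => congrArg PrimeSpectrum.asIdeal (Subsingleton.elim (⟨M', hM'.isPrime⟩ : PrimeSpectrum _) ⟨M, hM.isPrime⟩)⟩
  haveI : Ring.KrullDimLE 0 Γ(U, ⊤) := Ring.KrullDimLE.mk₀ fun I hI => by
    obtain ⟨M, hM, hIM⟩ := I.exists_le_maximal hI.ne_top
    have h : (⟨I, hI⟩ : PrimeSpectrum _) = ⟨M, hM.isPrime⟩ := Subsingleton.elim _ _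
    rw [show I = M from congrArg PrimeSpectrum.asIdeal h]
    exact hM
  haveI : IsArtinianRing Γ(U, ⊤) := isArtinianRing_iff_isNoetherianRing_krullDimLE_zero.2 ⟨inferInstance, inferInstance⟩
  haveI : Module.Flat Γ(U, ⊤) Γ(V, ⊤) := φ.flat_appTop
  haveI := CAlgH3.free_of_flat_artinian (A := Γ(U, ⊤)) Γ(V, ⊤)
  exact Module.Projective.of_free

theorem essentiallyFree_baseChange {X S T : Scheme.{u}} (f : X ⟶ S) (g : T ⟶ S) (hf : SGA3x.IsEssentiallyFree f) :
    SGA3x.IsEssentiallyFree (pullback.snd f g) := by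
  intro t
  obtain ⟨U, hsU, hU, S₀, hS₀, h, hhf, hhs, hcov⟩ := hf (g.base t)
  obtain ⟨U', hU', htU', hU'U⟩ := exists_isAffineOpen_mem_and_subset (U := g ⁻¹ᵁ U) (x := t) hsU
  haveI : IsAffine (U : Scheme.{u}) := hU
  haveI : IsAffine (U' : Scheme.{u}) := hU'
  let r : (U' : Scheme.{u}) ⟶ U := g.resLE U U' hU'U
  have hr : r ≫ U.ι = U'.ι ≫ g := Scheme.Hom.resLE_comp_ι _ _
  haveI := hS₀
  let σ := pullback.snd h r
  let ρ := pullback.fst h r
  haveI : IsAffine (pullback h r) := inferInstance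
  refine ⟨U', htU', hU', pullback h r, inferInstance, σ, MorphismProperty.pullback_snd (P := @Flat) _ _ hhf,
    MorphismProperty.pullback_snd (P := @Surjective) _ _ hhs, ?_⟩
  let P' := pullback (pullback.snd f g) (σ ≫ U'.ι)
  let Z := pullback f (h ≫ U.ι)
  have hρ : ρ ≫ h ≫ U.ι = (σ ≫ U'.ι) ≫ g := by
    simp only [ρ, σ, pullback.condition_assoc, Category.assoc, hr]
  have hbig : IsPullback (pullback.fst (pullback.snd f g) (σ ≫ U'.ι) ≫ pullback.fst f g) (pullback.snd (pullback.snd f g) (σ ≫ U'.ι)) f (ρ ≫ h ≫ U.ι) := by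
    rw [hρ]
    exact (IsPullback.of_hasPullback _ _).paste_horiz (IsPullback.of_hasPullback f g)
  let π : P' ⟶ Z := pullback.lift (pullback.fst (pullback.snd f g) (σ ≫ U'.ι) ≫ pullback.fst f g)
    (pullback.snd (pullback.snd f g) (σ ≫ U'.ι) ≫ ρ) (hbig.w.trans (Category.assoc _ _ _).symm)
  have hπ : IsPullback π (pullback.snd (pullback.snd f g) (σ ≫ U'.ι)) (pullback.snd f (h ≫ U.ι)) ρ := by
    refine IsPullback.of_right ?_ (pullback.lift_snd _ _ _) (IsPullback.of_hasPullback f (h ≫ U.ι))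
    rw [pullback.lift_fst]
    exact hbig
  intro x
  obtain ⟨V, hxV, hV, hVp⟩ := hcov (π.base x)
  haveI : IsAffine (V : Scheme.{u}) := hV
  have hres : IsPullback (π ∣_ V) (π ⁻¹ᵁ V).ι V.ι π := (isPullback_morphismRestrict π V).flip.flip
  have hsq : IsPullback (π ∣_ V) ((π ⁻¹ᵁ V).ι ≫ pullback.snd (pullback.snd f g) (σ ≫ U'.ι))
      (V.ι ≫ pullback.snd f (h ≫ U.ι)) ρ := hres.paste_vert hπ
  have hV' : IsAffineOpen (π ⁻¹ᵁ V) := IsAffine.of_isPullback hsq
  haveI : IsAffine (π ⁻¹ᵁ V : Scheme.{u}) := hV'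
  exact ⟨π ⁻¹ᵁ V, hxV, hV', projective_appTop hsq hVp⟩

/-- b), c) (first assertion of c)): (a) an essentially free morphism f : X → S is flat, and conversely
if S is the spectrum of an artinian ring every flat S-scheme is essentially free over S; (b) every
scheme over a field is essentially free over it; (c) if X is essentially free over S then X ×_S S'
is essentially free over S' for every S' → S. -/
theorem result :
    (∀ (X S : Scheme.{u}) (f : X ⟶ S), SGA3x.IsEssentiallyFree f → Flat f) ∧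
    (∀ (A : Type u) [CommRing A] [IsArtinianRing A] (X : Scheme.{u}) (f : X ⟶ Spec (CommRingCat.of A)),
      Flat f → SGA3x.IsEssentiallyFree f) ∧
    (∀ (k : Type u) [Field k] (X : Scheme.{u}) (f : X ⟶ Spec (CommRingCat.of k)), SGA3x.IsEssentiallyFree f) ∧
    (∀ (X S S' : Scheme.{u}) (f : X ⟶ S) (g : S' ⟶ S), SGA3x.IsEssentiallyFree f →
      SGA3x.IsEssentiallyFree (pullback.snd f g)) := by
  refine ⟨fun X S f hf => flat_of_essentiallyFree f hf, ?_, ?_, fun X S S' f g hf => essentiallyFree_baseChange f g hf⟩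
  · intro A _ _ X f hf
    exact essentiallyFree_of_flat f hf
  · intro k _ X f
    refine essentiallyFree_of_flat f ?_
    rw [IsZariskiLocalAtSource.iff_of_openCover (P := @Flat) X.affineCover]
    intro i
    obtain ⟨φ, hφ⟩ : ∃ φ, Spec.map φ = X.affineCover.f i ≫ f := ⟨_, Spec.map_preimage _⟩
    rw [← hφ]
    refine Flat.SpecMap_iff.2 ?_
    letI := φ.hom.toAlgebra
    exact Module.Flat.of_free

end Groth.Agent.S5356
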