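import Groth.Statements.S18070
import Groth.Agent.AlgGrpLib.AntiAffineSections
import Groth.Agent.AlgGrpLib.SubgroupCalc
import Mathlib.AlgebraicGeometry.EffectiveEpi
import Groth.Agent.SGA3xLib.SepFibre

set_option autoImplicit false
universe u
open CategoryTheory MonoidalCategory CartesianMonoidalCategory MonObj GrpObj AlgebraicGeometry CategoryTheory.Limits
open AlgGrp

namespace Groth.Agent.S18070

/-- A morphism invariant on the kernel pair of a faithfully flat quasi-compact morphism descends. -/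
theorem exists_desc_fpqc {S : Scheme.{u}} {X Y Z : Over S} (p : X ⟶ Y) [Flat p.left] [Surjective p.left] [QuasiCompact p.left]
    (f : X ⟶ Z) (h : ∀ {W : Over S} (a b : W ⟶ X), a ≫ p = b ≫ p → a ≫ f = b ≫ f) :
    ∃ g : Y ⟶ Z, p ≫ g = f := by
  haveI : EffectiveEpi p.left := inferInstance
  let g₀ : Y.left ⟶ Z.left := EffectiveEpi.desc p.left f.left (fun {W} a b hab => by
    let W' : Over S := Over.mk (a ≫ X.hom)
    let a' : W' ⟶ X := Over.homMk a rfl
    let b' : W' ⟶ X := Over.homMk b (by
      show b ≫ X.hom = a ≫ X.hom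
      rw [← Over.w p, ← Category.assoc, ← hab, Category.assoc])
    exact congrArg CommaMorphism.left (h a' b' (Over.OverMorphism.ext hab)))
  have hg : p.left ≫ g₀ = f.left := EffectiveEpi.fac _ _ _
  exact ⟨Over.homMk g₀ (by rw [← cancel_epi p.left, ← Category.assoc, hg, Over.w f, Over.w p]),
    Over.OverMorphism.ext hg⟩

/-- Let k be a field and 1 → G₁ → G → G₂ → 1 an exact sequence of k-group schemes of finite type with
G₁, G₂ connected (i : G₁ → G a homomorphism and closed immersion which is the kernel of the flat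
surjective homomorphism q : G → G₂). Anti-affineness passes from G to the quotient G₂; in the other
direction, G is anti-affine whenever G₁ and G₂ both are. -/
theorem result (k : Type u) [Field k]
    (G₁ G G₂ : Over (Spec (CommRingCat.of k))) [GrpObj G₁] [LocallyOfFiniteType G₁.hom] [QuasiCompact G₁.hom] [ConnectedSpace ↥G₁.left]
    [GrpObj G] [LocallyOfFiniteType G.hom] [QuasiCompact G.hom]
    [GrpObj G₂] [LocallyOfFiniteType G₂.hom] [QuasiCompact G₂.hom] [ConnectedSpace ↥G₂.left]
    (i : G₁ ⟶ G) [IsMonHom i] [IsClosedImmersion i.left] (q : G ⟶ G₂) [IsMonHom q] [Surjective q.left] [Flat q.left]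
    (hex : AlgGrp.IsKernel i q) :
    (Function.Bijective ((Scheme.ΓSpecIso (CommRingCat.of k)).inv ≫ G.hom.appTop).hom → Function.Bijective ((Scheme.ΓSpecIso (CommRingCat.of k)).inv ≫ G₂.hom.appTop).hom) ∧
    (Function.Bijective ((Scheme.ΓSpecIso (CommRingCat.of k)).inv ≫ G₁.hom.appTop).hom → Function.Bijective ((Scheme.ΓSpecIso (CommRingCat.of k)).inv ≫ G₂.hom.appTop).hom → Function.Bijective ((Scheme.ΓSpecIso (CommRingCat.of k)).inv ≫ G.hom.appTop).hom) := by
  haveI := SGA3xLib.isSeparated_of_grpObj G₂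
  haveI : QuasiCompact (q.left ≫ G₂.hom) := by rw [Over.w q]; infer_instance
  haveI : QuasiCompact q.left := QuasiCompact.of_comp q.left G₂.hom
  haveI : Epi q.left := Flat.epi_of_flat_of_surjective q.left
  haveI : Epi q := (Over.forget _).epi_of_epi_map (inferInstanceAs (Epi q.left))
  haveI : Nonempty G.left := ⟨η[G].left (IsLocalRing.closedPoint k)⟩
  haveI : Nonempty G₂.left := ⟨η[G₂].left (IsLocalRing.closedPoint k)⟩
  constructor
  · intro h
    haveI : CompactSpace G.left := QuasiCompact.compactSpace_of_compactSpace G.hom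
    haveI : IsLocallyNoetherian G.left := LocallyOfFiniteType.isLocallyNoetherian G.hom
    refine AlgGrpLib.bijective_of_toAffOf (η[G] ≫ q ≫ AlgGrpLib.toAffOf G₂) ?_
    rw [← cancel_epi q]
    conv_lhs => rw [AlgGrpLib.eq_const_of_affine (AlgGrpLib.bijective_appTop_of_const h) η[G] (q ≫ AlgGrpLib.toAffOf G₂)]
    rw [← Category.assoc q (toUnit G₂), comp_toUnit]
  · intro h₁ h₂
    haveI : CompactSpace G₁.left := QuasiCompact.compactSpace_of_compactSpace G₁.hom
    haveI : IsLocallyNoetherian G₁.left := LocallyOfFiniteType.isLocallyNoetherian G₁.hom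
    haveI : CompactSpace G₂.left := QuasiCompact.compactSpace_of_compactSpace G₂.hom
    haveI : IsLocallyNoetherian G₂.left := LocallyOfFiniteType.isLocallyNoetherian G₂.hom
    let F : G₁ ⊗ G ⟶ AlgGrpLib.affOf G := ((fst G₁ G ≫ i) * snd G₁ G) ≫ AlgGrpLib.toAffOf G
    have hF : F = snd G₁ G ≫ AlgGrpLib.toAffOf G := by
      rw [AlgGrpLib.eq_snd_of_affine (AlgGrpLib.bijective_appTop_of_const h₁) η[G₁] F]
      congr 1
      simp only [F, ← Category.assoc, MonObj.comp_mul, lift_fst, lift_snd]
      rw [Category.assoc, IsMonHom.one_hom i, ← Hom.one_def, _root_.one_mul, Category.id_comp]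
    obtain ⟨ψ, hψ⟩ := exists_desc_fpqc q (AlgGrpLib.toAffOf G) (fun {W} x y hxy => by
      obtain ⟨n, hn⟩ := AlgGrpLib.exists_lift_kernel hex (g := x * y⁻¹) (by
        rw [MonObj.mul_comp, GrpObj.inv_comp, hxy, mul_inv_cancel])
      have h := congrArg (lift n y ≫ ·) hF
      simp only [F, ← Category.assoc, MonObj.comp_mul, lift_fst, lift_snd, hn, inv_mul_cancel_right] at h
      exact h)
    refine AlgGrpLib.bijective_of_toAffOf (η[G₂] ≫ ψ) ?_
    rw [← hψ]
    conv_lhs => rw [AlgGrpLib.eq_const_of_affine (AlgGrpLib.bijective_appTop_of_const h₂) η[G₂] ψ]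
    rw [← Category.assoc, comp_toUnit]

end Groth.Agent.S18070
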