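import Groth.Statements.S5431
import Groth.Agent.IsoTriv.ExtensionMT
import Groth.Agent.AbVarLib.KernelTorsor
import Groth.Agent.Et18.Descent

set_option autoImplicit false
universe u
open CategoryTheory MonoidalCategory CartesianMonoidalCategory MonObj GrpObj AlgebraicGeometry CategoryTheory.Limits
open SGA3x

namespace Groth.Agent.S5431

/-- Let S be a scheme, H and K two S-groups of multiplicative type and of finite type, and E an S-group
scheme which is an extension of K by H: p : E → K is a surjective, flat, quasi-compact homomorphism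
(K is the fpqc quotient E/H) with kernel i : H → E. Then E is of multiplicative type (and of finite
type) in each of the two cases: a) E is commutative; b) the fibres of K are connected. -/
theorem result (S : Scheme.{u}) (E H K : Over S) [GrpObj E] [GrpObj H] [GrpObj K]
    (p : E ⟶ K) [IsMonHom p] [Surjective p.left] [Flat p.left] [QuasiCompact p.left]
    (i : H ⟶ E) [IsMonHom i] (hker : AlgGrp.IsKernel i p)
    (hH : SGA3x.IsMultTypeFT H) (hK : SGA3x.IsMultTypeFT K)
    (h : IsCommMonObj E ∨ ∀ s : S, _root_.IsConnected (K.hom.base ⁻¹' {s})) :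
    SGA3x.IsMultTypeFT E := by
  haveI := Agent.Et18.descends_isAffineHom.{u}
  haveI := Agent.IsoTriv.SchemeBridge.isAffineHom_of_multTypeFT H hH
  haveI := Agent.IsoTriv.SchemeBridge.isAffineHom_of_multTypeFT K hK
  haveI : LocallyOfFinitePresentation H.hom := Agent.SGA3cLib.TrivLocus.locallyOfFinitePresentation_of_multTypeFT H hH
  haveI : LocallyOfFinitePresentation K.hom := Agent.SGA3cLib.TrivLocus.locallyOfFinitePresentation_of_multTypeFT K hK
  haveI : IsAffineHom p.left := Agent.AbVarLib.of_kernel p i @IsAffineHom hker inferInstance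
  haveI : LocallyOfFinitePresentation p.left := Agent.AbVarLib.of_kernel p i @LocallyOfFinitePresentation hker inferInstance
  have hKf : Flat K.hom := Agent.IsoTriv.ExtensionMT.flat_of_multTypeFT K hK
  have hw : p.left ≫ K.hom = E.hom := Over.w p
  refine Agent.IsoTriv.ExtensionMT.isMultTypeFT_of_extension i p (hw ▸ inferInstance) (hw ▸ inferInstance)
    (hw ▸ inferInstance) hker hH hK fun s => ?_
  rcases h with h | h
  · refine Or.inr fun X a b => ?_
    obtain ⟨a, rfl⟩ := (Agent.SGA3cLib.BCPoints.pt (S.fromSpecResidueField s) E X).surjective a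
    obtain ⟨b, rfl⟩ := (Agent.SGA3cLib.BCPoints.pt (S.fromSpecResidueField s) E X).surjective b
    rw [← Agent.SGA3cLib.BCPoints.pt_mul, ← Agent.SGA3cLib.BCPoints.pt_mul]
    congr 1
    letI := Hom.commMonoid (M := E) (X := (Over.map (S.fromSpecResidueField s)).obj X)
    exact mul_comm a b
  · exact Or.inl (h s)

end Groth.Agent.S5431
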