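import Groth.Statements.S15604
import Groth.Agent.AlgGrpLib.OrbitSmooth

set_option autoImplicit false
universe u
open CategoryTheory MonoidalCategory CartesianMonoidalCategory MonObj GrpObj AlgebraicGeometry
open AlgGrp

namespace Groth.Agent.S15604
open Groth.Agent.AlgGrpLib.OrbitSmooth

/-- Let k be a field and f : G ⟶ G' a homomorphism of k-group schemes of finite type, with G smooth over
k. The image of f is closed (not asserted here); with its reduced induced structure it is smooth
over k: every reduced closed subscheme H of G' whose underlying set is the set-theoretic image of f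
is smooth over k. -/
theorem result (k : Type u) [Field k]
    (G G' : Over (Spec (CommRingCat.of k))) [GrpObj G] [GrpObj G'] [Smooth G.hom] [QuasiCompact G.hom]
    [LocallyOfFiniteType G'.hom] [QuasiCompact G'.hom] (f : G ⟶ G') [IsMonHom f]
    (H : Scheme.{u}) (i : H ⟶ G'.left) [IsClosedImmersion i] [IsReduced H]
    (hH : Set.range i.base = Set.range f.left.base) : Smooth (i ≫ G'.hom) := by
  let O' : Over (Spec (CommRingCat.of k)) := Over.mk (i ≫ G'.hom)
  let i' : O' ⟶ G' := Over.homMk i rfl
  haveI : IsImmersion i'.left := (inferInstance : IsImmersion i)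
  haveI : IsReduced O'.left := ‹IsReduced H›
  let a : AlgGrp.Action G G' :=
    { act := (f ▷ G') ≫ μ[G']
      one_act := by
        rw [← Category.assoc, ← comp_whiskerRight, IsMonHom.one_hom]
        exact MonObj.one_mul G'
      mul_act := by
        have hact : (f ▷ G') ≫ μ[G'] = (fst G G' ≫ f) * snd G G' := by
          rw [Hom.mul_def]
          congr 1
        have hmu : μ[G] = fst G G * snd G G := by rw [Hom.mul_def, lift_fst_snd, Category.id_comp]
        rw [hact, hmu]
        simp [MonObj.comp_mul, MonObj.mul_comp, _root_.mul_assoc] }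
  refine smooth_orbit a η[G'] i' (hH.trans ?_)
  have e : a.orbitMap η[G'] = f := by
    show lift (𝟙 G) (toUnit G ≫ η[G']) ≫ (f ▷ G') ≫ μ[G'] = f
    rw [lift_whiskerRight_assoc, Category.id_comp, ← Hom.one_def, ← Hom.mul_def, _root_.mul_one]
  rw [e]

end Groth.Agent.S15604
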