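import Groth.Statements.S18027
import Groth.Agent.AlgGrpLib.ConnComp
import Groth.Agent.AlgGrpLib.Equidim
import Groth.Agent.DimLib.Morphism
set_option backward.isDefEq.respectTransparency.types false

set_option autoImplicit false
universe u
open CategoryTheory MonoidalCategory CartesianMonoidalCategory MonObj GrpObj AlgebraicGeometry CategoryTheory.Limits
open AlgGrp

namespace Groth.Agent.S18027

/-- Let `k` be a field and `u : G ⟶ H` a homomorphism of smooth `k`-group schemes which is a closed
immersion, where `G` and `H` have the same dimension. Then `u` carries the connected component of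
the identity of `G` onto the connected component of the identity of `H`; as `u` is a closed
immersion and `H` is reduced, `u` therefore restricts to an isomorphism between the identity
components. (The second printed assertion, on the groups of components, is not included.) -/
theorem result (k : Type u) [Field k]
    (G H : Over (Spec (CommRingCat.of k))) [GrpObj G] [GrpObj H]
    [Smooth G.hom] [Smooth H.hom] (u : G ⟶ H) [IsMonHom u] [IsClosedImmersion u.left]
    (hdim : topologicalKrullDim ↥G.left = topologicalKrullDim ↥H.left)
    (t : ↥((𝟙_ (Over (Spec (CommRingCat.of k)))).left)) :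
    ⇑u.left.base '' connectedComponent (η[G].left.base t) = connectedComponent (η[H].left.base t) := by
  haveI : Subsingleton ↥((𝟙_ (Over (Spec (CommRingCat.of k)))).left) := inferInstanceAs (Subsingleton (PrimeSpectrum k))
  obtain rfl : t = IsLocalRing.closedPoint k := Subsingleton.elim (α := PrimeSpectrum k) _ _
  have hu : u.left.base (η[G].left.base (IsLocalRing.closedPoint k)) = η[H].left.base (IsLocalRing.closedPoint k) := by
    rw [← IsMonHom.one_hom (f := u)]
    rfl
  have hsub : ⇑u.left.base '' connectedComponent (η[G].left.base (IsLocalRing.closedPoint k)) ⊆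
      connectedComponent (η[H].left.base (IsLocalRing.closedPoint k)) := by
    rw [← hu]
    exact u.left.continuous.image_connectedComponent_subset _
  refine subset_antisymm hsub ?_
  obtain ⟨θG, hθG, hmG⟩ := DimLib.exists_genericPoint_of_mem_components
    (irreducibleComponent_mem_irreducibleComponents (AlgGrpLib.ConnComp.e₀ G))
  obtain ⟨θH, hθH, hmH⟩ := DimLib.exists_genericPoint_of_mem_components
    (irreducibleComponent_mem_irreducibleComponents (AlgGrpLib.ConnComp.e₀ H))
  have hG' := AlgGrpLib.ConnComp.connectedComponent_eq G
  have hH' := AlgGrpLib.ConnComp.connectedComponent_eq H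
  have hθw : θH ⤳ u.left.base θG := hθH.specializes (hH' ▸ hsub ⟨θG, hG'.ge hθG.mem, rfl⟩)
  have heq : θH = u.left.base θG := by
    by_contra hne
    have h1 := DimLib.ptDim_lt_of_specializes H.hom hθw hne
    have h2 := AlgGrpLib.ptDim_eq_topologicalKrullDim_of_maximal G hmG
    have h3 := AlgGrpLib.ptDim_eq_topologicalKrullDim_of_maximal H hmH
    rw [hdim, ← h3] at h2
    have h4 : DimLib.ptDim G.hom θG = DimLib.ptDim H.hom θH := by exact_mod_cast h2
    have h5 := DimLib.ptDim_comp_preimmersion H.hom u.left θG
    rw [Over.w u] at h5
    omega
  refine (hH'.le.trans hθH.def.ge).trans (closure_minimal (Set.singleton_subset_iff.2 ⟨θG, hG'.ge hθG.mem, heq.symm⟩) ?_)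
  exact u.left.isClosedEmbedding.isClosedMap _ isClosed_connectedComponent

end Groth.Agent.S18027
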