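import Groth.Statements.S0352
import Groth.Agent.SGA3cLib.SubgroupClosed
import Groth.Agent.SGA3cLib.Transporter
import Mathlib.CategoryTheory.Monoidal.Cartesian.Grp
import Mathlib.AlgebraicGeometry.Morphisms.UniversallyOpen
import Mathlib.CategoryTheory.Limits.Constructions.Over.Connected

set_option autoImplicit false
universe u v
open CategoryTheory MonoidalCategory CartesianMonoidalCategory MonObj GrpObj AlgebraicGeometry
open GrpSch

namespace Groth.Agent.S0352

theorem isPullback_whisker {S : Scheme.{u}} {A B : Over S} (p : A ⟶ B) (C : Over S) :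
    IsPullback (fst A C) (p ▷ C) p (fst B C) := by
  refine ⟨⟨by simp⟩, ⟨Limits.PullbackCone.IsLimit.mk (by simp) (fun c => lift c.fst (c.snd ≫ snd B C))
    (fun c => by simp) (fun c => ?_) (fun c s h1 h2 => ?_)⟩⟩
  · apply CartesianMonoidalCategory.hom_ext <;> simp [c.condition]
  · apply CartesianMonoidalCategory.hom_ext
    · rw [← h1]; simp
    · rw [← h2]; simp

theorem isPullback_whisker' {S : Scheme.{u}} {A B : Over S} (p : A ⟶ B) (C : Over S) :
    IsPullback (snd C A) (C ◁ p) p (snd C B) := by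
  refine ⟨⟨by simp⟩, ⟨Limits.PullbackCone.IsLimit.mk (by simp) (fun c => lift (c.snd ≫ fst C B) c.fst)
    (fun c => by simp) (fun c => ?_) (fun c s h1 h2 => ?_)⟩⟩
  · apply CartesianMonoidalCategory.hom_ext <;> simp [c.condition]
  · apply CartesianMonoidalCategory.hom_ext
    · rw [← h2]; simp
    · rw [← h1]; simp

/-- If the image of a homomorphism of group schemes over a field is open, it is also closed. -/
theorem result (K : Type u) [Field K] (H G : Over (Spec (CommRingCat.of K))) [GrpObj H] [GrpObj G] (ψ : H ⟶ G) [IsMonHom ψ] (h : IsOpen (Set.range ψ.left)) : IsClosed (Set.range ψ.left) := by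
  let U : G.left.Opens := ⟨Set.range ψ.left, h⟩
  let N : Over (Spec (CommRingCat.of K)) := Over.mk (U.ι ≫ G.hom)
  let n : N ⟶ G := Over.homMk U.ι
  haveI : IsOpenImmersion n.left := inferInstanceAs (IsOpenImmersion U.ι)
  haveI : Mono n := Over.mono_of_mono_left n
  have hn : Set.range n.left.base = Set.range ψ.left := U.range_ι
  let p : H ⟶ N := Over.homMk (IsOpenImmersion.lift U.ι ψ.left (by rw [U.range_ι]; exact subset_rfl)) (by
    change IsOpenImmersion.lift U.ι ψ.left _ ≫ U.ι ≫ G.hom = H.hom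
    rw [IsOpenImmersion.lift_fac_assoc]; exact Over.w ψ)
  have hp : p ≫ n = ψ := Over.OverMorphism.ext (IsOpenImmersion.lift_fac _ _ _)
  haveI : Surjective p.left := ⟨fun x => by
    obtain ⟨y, hy⟩ := hn.le ⟨x, rfl⟩
    refine ⟨y, n.left.isOpenEmbedding.injective ?_⟩
    change (p ≫ n).left.base y = _
    rw [hp]; exact hy⟩
  haveI : Surjective (p ▷ H).left := MorphismProperty.of_isPullback (P := @Surjective)
    ((isPullback_whisker p H).map (Over.forget _)) ‹_›
  haveI : Surjective (N ◁ p).left := MorphismProperty.of_isPullback (P := @Surjective)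
    ((isPullback_whisker' p N).map (Over.forget _)) ‹_›
  haveI : Surjective ((p ▷ H) ≫ (N ◁ p)).left :=
    inferInstanceAs (Surjective ((p ▷ H).left ≫ (N ◁ p).left))
  have key : ∀ {T : Over (Spec (CommRingCat.of K))} (φ : T ⟶ G), Set.range φ.left.base ⊆ Set.range ψ.left →
      ∃ z : T ⟶ N, z ≫ n = φ := fun {T} φ hφ => by
    have hr : Set.range φ.left.base ⊆ Set.range U.ι.base := by rwa [U.range_ι]
    refine ⟨Over.homMk (IsOpenImmersion.lift U.ι φ.left hr) ?_, Over.OverMorphism.ext (IsOpenImmersion.lift_fac _ _ _)⟩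
    change IsOpenImmersion.lift U.ι φ.left _ ≫ U.ι ≫ G.hom = T.hom
    rw [IsOpenImmersion.lift_fac_assoc]; exact Over.w φ
  obtain ⟨m, hm⟩ := key ((fst N N ≫ n) * (snd N N ≫ n)) (by
    rintro _ ⟨y, rfl⟩
    obtain ⟨x, rfl⟩ := ((p ▷ H) ≫ (N ◁ p)).left.surjective y
    refine ⟨(fst H H * snd H H).left.base x, ?_⟩
    change ((fst H H * snd H H) ≫ ψ).left.base x = (((p ▷ H) ≫ (N ◁ p)) ≫ ((fst N N ≫ n) * (snd N N ≫ n))).left.base x
    refine congrArg (fun e : H ⊗ H ⟶ G => e.left.base x) ?_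
    simp [MonObj.comp_mul, MonObj.mul_comp, hp])
  obtain ⟨v, hv⟩ := key (n⁻¹) (by
    rintro _ ⟨y, rfl⟩
    obtain ⟨x, rfl⟩ := p.left.surjective y
    refine ⟨((𝟙 H)⁻¹ : H ⟶ H).left.base x, ?_⟩
    change ((𝟙 H)⁻¹ ≫ ψ).left.base x = (p ≫ n⁻¹).left.base x
    refine congrArg (fun e : H ⟶ G => e.left.base x) ?_
    rw [GrpObj.inv_comp, GrpObj.comp_inv, hp, Category.id_comp])
  obtain ⟨_, hgrp⟩ := Groth.Agent.SGA3cLib.exists_grpObj_of_subgroup n
    (fun T => ⟨(1 : T ⟶ H) ≫ p, by rw [Category.assoc, hp, MonObj.one_comp]⟩)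
    (fun T a b => ⟨lift a b ≫ m, by rw [Category.assoc, hm, MonObj.comp_mul, lift_fst_assoc, lift_snd_assoc]⟩)
    (fun T a => ⟨a ≫ v, by rw [Category.assoc, hv, GrpObj.comp_inv]⟩)
  haveI := hgrp
  rw [← hn]
  exact Groth.Agent.SGA3cLib.isClosed_range_of_isImmersion n

end Groth.Agent.S0352
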