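import Groth.Statements.S18825
import Groth.Agent.HopfLib.GITPoints
import Groth.Agent.SGA3cLib.Transporter
import Groth.Agent.SGA3xLib.SepFibre
import Groth.Agent.AbVarLib.HomFlat
import Groth.Agent.S7823
import Groth.Agent.S0352
import Mathlib.CategoryTheory.Monoidal.Cartesian.Grp
import Mathlib.CategoryTheory.Limits.Constructions.Over.Connected
import Mathlib.AlgebraicGeometry.Morphisms.SchemeTheoreticallyDominant

set_option autoImplicit false
universe u
open CategoryTheory MonoidalCategory CartesianMonoidalCategory MonObj AlgebraicGeometry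
open AlgGrp

namespace Groth.Agent.S18825
open Limits

/-- Let k be a field and f : H → G a homomorphism of locally algebraic groups over k (group k-schemes
locally of finite type) which is of finite type (equivalently quasi-compact). Let H → K → G be the
factorization of f through its scheme-theoretic image: i : K → G a closed immersion and g : H → K
with g followed by i equal to f and O_K → g_*O_H injective. Then (1) K is a closed subgroup scheme
of G: the unit section of G factors through i and, for every k-scheme T and T-valued points k₁, k₂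
of K, the T-valued point (i k₁)⁻¹ · (i k₂) of G factors through i; and (2) g : H → K is surjective.
(The source also records that g is a homomorphism for the group structure induced on K; this row
does not state it.) -/
theorem result (k : Type u) [Field k]
    (H G K : Over (Spec (CommRingCat.of k))) [GrpObj H] [GrpObj G]
    [LocallyOfFiniteType H.hom] [LocallyOfFiniteType G.hom]
    (f : H ⟶ G) [IsMonHom f] [QuasiCompact f.left]
    (i : K ⟶ G) [IsClosedImmersion i.left] (g : H ⟶ K) (hgi : g ≫ i = f)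
    [IsSchemeTheoreticallyDominant g.left] :
    ((∃ e : 𝟙_ (Over (Spec (CommRingCat.of k))) ⟶ K, e ≫ i = η[G]) ∧
      ∀ (T : Over (Spec (CommRingCat.of k))) (k₁ k₂ : T ⟶ K),
        ∃ k₃ : T ⟶ K, k₃ ≫ i = (k₁ ≫ i)⁻¹ * (k₂ ≫ i)) ∧
    Surjective g.left := by
  haveI : IsSeparated G.hom := Groth.Agent.SGA3xLib.isSeparated_of_grpObj G
  haveI : Mono i := Over.mono_of_mono_left i
  haveI : LocallyOfFiniteType K.hom := by rw [← Over.w i]; infer_instance
  haveI : QuasiCompact g.left := by
    haveI : QuasiCompact (g.left ≫ i.left) := by rw [← Over.comp_left, hgi]; infer_instance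
    exact QuasiCompact.of_comp g.left i.left
  have hp1 : IsPullback (fst H H).left (g ▷ H).left g.left (fst K H).left :=
    (Groth.Agent.S0352.isPullback_whisker g H).map (Over.forget _)
  have hp2 : IsPullback (snd K H).left (K ◁ g).left g.left (snd K K).left :=
    (Groth.Agent.S0352.isPullback_whisker' g K).map (Over.forget _)
  haveI : Flat (fst K H).left := inferInstanceAs (Flat (pullback.fst K.hom H.hom))
  haveI : Flat (snd K K).left := inferInstanceAs (Flat (pullback.snd K.hom K.hom))
  haveI : IsSchemeTheoreticallyDominant (g ▷ H).left := IsSchemeTheoreticallyDominant.of_isPullback hp1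
  haveI : IsSchemeTheoreticallyDominant (K ◁ g).left := IsSchemeTheoreticallyDominant.of_isPullback hp2
  haveI : IsSchemeTheoreticallyDominant ((g ▷ H) ≫ (K ◁ g)).left :=
    inferInstanceAs (IsSchemeTheoreticallyDominant ((g ▷ H).left ≫ (K ◁ g).left))
  let θ : H ⊗ H ⟶ K ⊗ K := (g ▷ H) ≫ (K ◁ g)
  haveI : IsSchemeTheoreticallyDominant θ.left := ‹IsSchemeTheoreticallyDominant ((g ▷ H) ≫ (K ◁ g)).left›
  let ψ : K ⊗ K ⟶ G := (fst K K ≫ i)⁻¹ * (snd K K ≫ i)
  have hψ : θ ≫ ψ = ((fst H H)⁻¹ * snd H H) ≫ f := by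
    rw [MonObj.mul_comp, GrpObj.inv_comp, ← hgi]
    simp [θ, ψ, MonObj.comp_mul, GrpObj.comp_inv]
  haveI : IsClosedImmersion (pullback.fst ψ i).left := MorphismProperty.of_isPullback (P := @IsClosedImmersion)
    ((IsPullback.of_hasPullback ψ i).map (Over.forget _)).flip ‹_›
  haveI : IsIso (pullback.fst ψ i) := by
    have hle : (pullback.fst ψ i).left.ker ≤ θ.left.ker := by
      have e : θ = pullback.lift θ (((fst H H)⁻¹ * snd H H) ≫ g) (by rw [hψ, Category.assoc, hgi]) ≫ pullback.fst ψ i :=
        (pullback.lift_fst _ _ _).symm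
      rw [e, Over.comp_left]
      exact Scheme.Hom.le_ker_comp _ _
    rw [θ.left.ker_eq_bot] at hle
    haveI : IsIso (pullback.fst ψ i).left := IsClosedImmersion.isIso_iff_ker_eq_bot.2 (le_bot_iff.1 hle)
    haveI : IsIso ((Over.forget _).map (pullback.fst ψ i)) := ‹IsIso (pullback.fst ψ i).left›
    exact isIso_of_reflects_iso _ (Over.forget _)
  let d : K ⊗ K ⟶ K := inv (pullback.fst ψ i) ≫ pullback.snd ψ i
  have hd : d ≫ i = ψ := by simp [d, ← pullback.condition]
  have he : (η[H] ≫ g) ≫ i = η[G] := by rw [Category.assoc, hgi, IsMonHom.one_hom]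
  have hdiv : ∀ (T : Over (Spec (CommRingCat.of k))) (k₁ k₂ : T ⟶ K),
      ∃ k₃ : T ⟶ K, k₃ ≫ i = (k₁ ≫ i)⁻¹ * (k₂ ≫ i) := fun T k₁ k₂ => ⟨lift k₁ k₂ ≫ d, by
    rw [Category.assoc, hd, MonObj.comp_mul, GrpObj.comp_inv, lift_fst_assoc, lift_snd_assoc]⟩
  refine ⟨⟨⟨η[H] ≫ g, he⟩, hdiv⟩, ?_⟩
  have hone : ∀ T : Over (Spec (CommRingCat.of k)), ∃ z : T ⟶ K, z ≫ i = (1 : T ⟶ G) := fun T =>
    ⟨toUnit T ≫ η[H] ≫ g, by rw [Category.assoc, he]; rfl⟩
  have hinv : ∀ (T : Over (Spec (CommRingCat.of k))) (a : T ⟶ K), ∃ z : T ⟶ K, z ≫ i = (a ≫ i)⁻¹ := fun T a => by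
    obtain ⟨o, ho⟩ := hone T
    obtain ⟨z, hz⟩ := hdiv T a o
    exact ⟨z, by rw [hz, ho, _root_.mul_one]⟩
  obtain ⟨_, hi⟩ := Groth.Agent.SGA3cLib.exists_grpObj_of_subgroup i hone (fun T a b => by
    obtain ⟨z, hz⟩ := hinv T a
    obtain ⟨w, hw⟩ := hdiv T z b
    exact ⟨w, by rw [hw, hz, _root_.inv_inv]⟩) hinv
  haveI := hi
  -- the range contains a dense open
  haveI : IsLocallyNoetherian K.left := LocallyOfFiniteType.isLocallyNoetherian K.hom
  haveI : LocallyOfFinitePresentation g.left := by
    haveI : LocallyOfFinitePresentation (g.left ≫ K.hom) := by rw [Over.w g]; infer_instance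
    exact Groth.Agent.H8Lim.lfp_cancel_right g.left K.hom
  haveI : IsDominant g.left := inferInstance
  have hR : Topology.IsLocallyConstructible (Set.range g.left.base) :=
    Set.image_univ ▸ g.left.isLocallyConstructible_image Topology.IsLocallyConstructible.univ
  let U : K.left.Opens := ⟨interior (Set.range g.left.base), isOpen_interior⟩
  have hU : Dense (U : Set K.left) := by
    refine dense_iff_inter_open.2 fun W hW hne => ?_
    obtain ⟨x, hx⟩ := hne
    obtain ⟨A, (hA : IsAffineOpen A), hxA, hAW⟩ :=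
      TopologicalSpace.Opens.isBasis_iff_nbhd.1 K.left.isBasis_affineOpens (U := ⟨W, hW⟩) hx
    obtain ⟨y, hy⟩ := Groth.Agent.HopfLib.interior_nonempty_of_isConstructible
      (hR.inter_of_isOpen_isCompact A.isOpen hA.isCompact) ⟨x, by
        refine interior_maximal ?_ A.isOpen hxA
        rw [Set.inter_comm]
        exact A.isOpen.inter_closure.trans' fun a ha => ⟨ha, g.left.denseRange a⟩⟩
    exact ⟨y, hAW (interior_subset hy).2, interior_mono Set.inter_subset_left hy⟩
  refine ⟨fun z => ?_⟩
  obtain ⟨w, ⟨hw1, hw2⟩, hwz⟩ := (Groth.Agent.S7823.result k K U U hU hU).ge (Set.mem_univ z)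
  obtain ⟨a, ha⟩ := interior_subset hw1
  obtain ⟨b, hb⟩ := interior_subset hw2
  obtain ⟨y₀, hy1, hy2⟩ := Scheme.Pullback.exists_preimage_pullback (f := g.left) (g := (snd K K).left) b w hb
  let y := hp2.isoPullback.inv y₀
  have hy2' : (K ◁ g).left y = w := by
    change (hp2.isoPullback.inv ≫ (K ◁ g).left) y₀ = w
    rw [hp2.isoPullback_inv_snd]
    exact hy2
  have hy1' : (fst K H).left y = (fst K K).left w := by
    rw [← hy2']
    change _ = ((K ◁ g) ≫ fst K K).left y
    rw [whiskerLeft_fst]
  obtain ⟨x₀, hx1, hx2⟩ := Scheme.Pullback.exists_preimage_pullback (f := g.left) (g := (fst K H).left) a y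
    (ha.trans hy1'.symm)
  let x := hp1.isoPullback.inv x₀
  have hx2' : (g ▷ H).left x = y := by
    change (hp1.isoPullback.inv ≫ (g ▷ H).left) x₀ = y
    rw [hp1.isoPullback_inv_snd]
    exact hx2
  refine ⟨μ[H].left x, ?_⟩
  have hg : μ[H] ≫ g = θ ≫ μ[K] := by
    have h1 : IsMonHom g := by
      refine ⟨by rw [← cancel_mono i, he, IsMonHom.one_hom], ?_⟩
      rw [← cancel_mono i, Category.assoc, hgi, IsMonHom.mul_hom f, Category.assoc, IsMonHom.mul_hom i, ← hgi]
      simp [MonoidalCategory.tensorHom_comp_tensorHom_assoc]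
    rw [IsMonHom.mul_hom g, MonoidalCategory.tensorHom_def]
  change (μ[H] ≫ g).left x = z
  rw [hg]
  change μ[K].left ((K ◁ g).left ((g ▷ H).left x)) = z
  rw [hx2', hy2']
  exact hwz

end Groth.Agent.S18825
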