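import Groth.Statements.S5337
import Groth.Agent.SGA3Homog26.AtPoint
import Groth.Agent.S5336

set_option autoImplicit false
set_option linter.style.haveILetI false
set_option backward.isDefEq.respectTransparency.types false
universe u
open CategoryTheory CategoryTheory.Limits MonoidalCategory CartesianMonoidalCategory MonObj GrpObj AlgebraicGeometry
open SGA3

namespace Groth.Agent.S5337

/-- Quasi-finite, unramified, smooth and etale cases: let A be a local artinian ring, G an A-group
scheme which is flat and locally of finite type over A, and u : G → H a homomorphism of A-group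
schemes. If u is locally quasi-finite (resp. unramified, that is formally unramified and locally of
finite presentation, resp. smooth, resp. etale) on some nonempty open subscheme of G, then u is
locally quasi-finite (resp. unramified, resp. smooth, resp. etale). (Here u is automatically locally
of finite type.) -/
theorem result (A : Type u) [CommRing A] [IsArtinianRing A] [IsLocalRing A] (G H : Over (Spec (CommRingCat.of A))) [GrpObj G] [GrpObj H]
    [Flat G.hom] [LocallyOfFiniteType G.hom] (u : G ⟶ H) [IsMonHom u] (W : G.left.Opens) (hW : (W : Set G.left).Nonempty) :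
    (LocallyQuasiFinite (W.ι ≫ u.left) → LocallyQuasiFinite u.left) ∧
    (FormallyUnramified (W.ι ≫ u.left) → LocallyOfFinitePresentation (W.ι ≫ u.left) →
      FormallyUnramified u.left ∧ LocallyOfFinitePresentation u.left) ∧
    (Smooth (W.ι ≫ u.left) → Smooth u.left) ∧ (Etale (W.ι ≫ u.left) → Etale u.left) := by
  haveI : Subsingleton ↥(Spec (CommRingCat.of A)) := ⟨fun p q => PrimeSpectrum.ext
    ((IsLocalRing.eq_maximalIdeal inferInstance).trans (IsLocalRing.eq_maximalIdeal inferInstance).symm)⟩
  haveI : LocallyOfFiniteType (u.left ≫ H.hom) := by rw [Over.w u]; infer_instance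
  haveI : LocallyOfFiniteType u.left := locallyOfFiniteType_of_comp u.left H.hom
  obtain ⟨G', H', a, u', c, sq, hc, key⟩ := SGA3Homog26.exists_geom_pullback A u W hW
  have hfu : FormallyUnramified (W.ι ≫ u.left) → FormallyUnramified u.left := fun h =>
    SGA3UnitSec.formallyUnramified_of_fibres u.left
      (SGA3Homog26.fibre_descends @FormallyUnramified sq (key @FormallyUnramified h))
  have hflat : Flat (W.ι ≫ u.left) → Flat u.left := fun h => by
    obtain ⟨w, hw⟩ := hW
    exact S5336.result A G H u
      ⟨w, (Desc19b.flat_stalkMap_comp_iff W.ι u.left ⟨w, hw⟩ (Flat.stalkMap _ _)).mp (Flat.stalkMap _ _)⟩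
  have hsm : Smooth (W.ι ≫ u.left) → Smooth u.left := fun h => by
    haveI := hflat inferInstance
    haveI := SGA3Homog26.lfp_hom_of_open u W hW inferInstance
    exact Smooth.of_smooth_fiberToSpecResidueField u.left
      (SGA3Homog26.fibre_descends @Smooth sq (key @Smooth h))
  refine ⟨fun h => ?_, fun h h' => ⟨hfu h, SGA3Homog26.lfp_hom_of_open u W hW h'⟩, hsm, fun h => ?_⟩
  · haveI := key @LocallyQuasiFinite h
    exact SGA3Homog26.lqf_descends sq
  · haveI := hsm inferInstance
    haveI := hfu inferInstance
    exact Etale.of_formallyUnramified_of_flat _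

end Groth.Agent.S5337
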