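import Groth.Statements.S5338
import Mathlib.RingTheory.Flat.EquationalCriterion
import Mathlib.RingTheory.FinitePresentation

set_option autoImplicit false
universe u
open CategoryTheory CategoryTheory.Limits MonoidalCategory CartesianMonoidalCategory MonObj GrpObj AlgebraicGeometry
open SGA3

namespace Groth.Agent.S5338

open MvPolynomial in
theorem aux {A : Type*} [CommRing A] (n : Ideal A) (hn : IsNilpotent n) {M : Type*} [AddCommGroup M] [Module A M]
    {N L : Submodule A M} (h : N ≤ L ⊔ n • N) : N ≤ L := by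
  obtain ⟨m, hm⟩ := hn
  have key : ∀ k, N ≤ L ⊔ n ^ k • N := by
    intro k
    induction k with
    | zero => rw [pow_zero, Submodule.one_smul]; exact le_sup_right
    | succ k ih =>
      refine ih.trans (sup_le le_sup_left ((Submodule.smul_mono le_rfl h).trans ?_))
      rw [Submodule.smul_sup, ← Submodule.mul_smul, ← pow_succ]
      exact sup_le_sup_right Submodule.smul_le_right _
  refine (key m).trans ?_
  rw [hm]
  simp

/-- Let A → B → C be homomorphisms of commutative rings and n a nilpotent ideal of A; write nB and nC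
for the extended ideals. (i) If C/nC is a (B/nB)-algebra of finite type, then C is a B-algebra of
finite type. (ii) If moreover C is flat over A and C/nC is a (B/nB)-algebra of finite presentation,
then C is a B-algebra of finite presentation. -/
theorem result (A B C : Type u) [CommRing A] [CommRing B] [CommRing C]
    [Algebra A B] [Algebra B C] [Algebra A C] [IsScalarTower A B C] (n : Ideal A) (hn : IsNilpotent n) :
    (Algebra.FiniteType (B ⧸ n.map (algebraMap A B)) (C ⧸ (n.map (algebraMap A B)).map (algebraMap B C)) →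
      Algebra.FiniteType B C) ∧
    (Module.Flat A C →
      Algebra.FinitePresentation (B ⧸ n.map (algebraMap A B)) (C ⧸ (n.map (algebraMap A B)).map (algebraMap B C)) →
      Algebra.FinitePresentation B C) := by
  classical
  set m : Ideal B := n.map (algebraMap A B) with hm
  set mC : Ideal C := m.map (algebraMap B C) with hmC
  have hmC' : mC = n.map (algebraMap A C) := by
    rw [hmC, hm, Ideal.map_map, ← IsScalarTower.algebraMap_eq]
  have key : Algebra.FiniteType (B ⧸ m) (C ⧸ mC) →
      ∃ (N : ℕ) (φ : MvPolynomial (Fin N) B →ₐ[B] C) (f : MvPolynomial (Fin N) (B ⧸ m) →ₐ[B ⧸ m] C ⧸ mC),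
        Function.Surjective φ ∧ Function.Surjective f ∧
          ∀ p, f (MvPolynomial.map (Ideal.Quotient.mk m) p) = Ideal.Quotient.mk mC (φ p) := by
    intro h
    obtain ⟨N, f, hf⟩ := Algebra.FiniteType.iff_quotient_mvPolynomial''.mp h
    choose c hc using fun i => Ideal.Quotient.mk_surjective (f (MvPolynomial.X i))
    let φ : MvPolynomial (Fin N) B →ₐ[B] C := MvPolynomial.aeval c
    have hcomm : ∀ p, f (MvPolynomial.map (Ideal.Quotient.mk m) p) = Ideal.Quotient.mk mC (φ p) := by
      intro p
      refine RingHom.congr_fun (?_ : f.toRingHom.comp (MvPolynomial.map (Ideal.Quotient.mk m)) =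
        (Ideal.Quotient.mk mC).comp φ.toRingHom) p
      refine MvPolynomial.ringHom_ext (fun b => ?_) (fun i => ?_)
      · simp [φ]
        rfl
      · simp [φ, hc]
    refine ⟨N, φ, f, ?_, hf, hcomm⟩
    intro x
    have htop : (⊤ : Submodule A C) ≤ (φ.restrictScalars A).toLinearMap.range := by
      refine aux n hn fun x _ => ?_
      obtain ⟨q, hq⟩ := hf (Ideal.Quotient.mk mC x)
      obtain ⟨p, rfl⟩ := MvPolynomial.map_surjective _ Ideal.Quotient.mk_surjective q
      rw [hcomm, eq_comm, Ideal.Quotient.eq, hmC'] at hq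
      refine Submodule.mem_sup.mpr ⟨φ p, ⟨p, rfl⟩, x - φ p, ?_, add_sub_cancel _ _⟩
      rw [Ideal.smul_top_eq_map]
      exact hq
    exact htop (Submodule.mem_top (x := x))
  refine ⟨fun h => ?_, fun hflat h => ?_⟩
  · obtain ⟨N, φ, f, hφ, -, -⟩ := key h
    exact Algebra.FiniteType.iff_quotient_mvPolynomial''.mpr ⟨N, φ, hφ⟩
  obtain ⟨N, φ, f, hφ, hf, hcomm⟩ := key inferInstance
  refine Algebra.FinitePresentation.of_surjective (f := φ) hφ ?_
  set P := MvPolynomial (Fin N) B
  set K : Ideal P := RingHom.ker φ.toRingHom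
  have hmP : RingHom.ker (MvPolynomial.map (σ := Fin N) (Ideal.Quotient.mk m)) = n.map (algebraMap A P) := by
    rw [MvPolynomial.ker_map, Ideal.mk_ker, hm, Ideal.map_map]
    rfl
  obtain ⟨G, hG⟩ := Algebra.FinitePresentation.ker_fG_of_surjective f hf
  have hlift : ∀ g ∈ G, ∃ k ∈ K, MvPolynomial.map (Ideal.Quotient.mk m) k = g := fun g hg => by
    obtain ⟨p, rfl⟩ := MvPolynomial.map_surjective _ Ideal.Quotient.mk_surjective g
    have : φ p ∈ mC := by
      rw [← Ideal.Quotient.eq_zero_iff_mem, ← hcomm]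
      exact (RingHom.mem_ker).mp (hG ▸ Ideal.subset_span hg)
    rw [hmC', show algebraMap A C = φ.toRingHom.comp (algebraMap A P) from ((φ.restrictScalars A).comp_algebraMap).symm,
      ← Ideal.map_map, Ideal.mem_map_iff_of_surjective φ.toRingHom hφ] at this
    obtain ⟨r, hr, hrp⟩ := this
    refine ⟨p - r, ?_, ?_⟩
    · rw [RingHom.mem_ker, map_sub, hrp]; exact sub_self _
    · rw [map_sub, show MvPolynomial.map (Ideal.Quotient.mk m) r = 0 from (RingHom.mem_ker).mp (hmP ▸ hr), sub_zero]
  choose! k hkK hkg using hlift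
  refine ⟨G.image k, le_antisymm (Ideal.span_le.mpr ?_) ?_⟩
  · intro x hx
    obtain ⟨g, hg, rfl⟩ := Finset.mem_image.mp hx
    exact hkK g hg
  suffices K.restrictScalars A ≤ (Ideal.span (G.image k : Set P)).restrictScalars A from fun x hx => this hx
  refine aux n hn fun x (hx : φ x = 0) => ?_
  have h1 : MvPolynomial.map (Ideal.Quotient.mk m) x ∈
      Ideal.map (MvPolynomial.map (Ideal.Quotient.mk m)) (Ideal.span (G.image k : Set P)) := by
    have himg : (⇑(MvPolynomial.map (σ := Fin N) (Ideal.Quotient.mk m)) ∘ k) '' ↑G = (G : Set _) :=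
      (Set.image_congr (g := id) fun g hg => hkg g hg).trans (Set.image_id _)
    rw [Ideal.map_span, Finset.coe_image, ← Set.image_comp, himg]
    rw [hG, RingHom.mem_ker]
    change f _ = 0
    rw [hcomm, hx, map_zero]
  rw [Ideal.mem_map_iff_of_surjective _ (MvPolynomial.map_surjective _ Ideal.Quotient.mk_surjective)] at h1
  obtain ⟨a, ha, hax⟩ := h1
  refine Submodule.mem_sup.mpr ⟨a, ha, x - a, ?_, add_sub_cancel _ _⟩
  have haK : φ a = 0 := by
    have : a ∈ K := (Ideal.span_le.mpr (fun y hy => by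
      obtain ⟨g, hg, rfl⟩ := Finset.mem_image.mp hy
      exact hkK g hg)) ha
    exact this
  have hy : x - a ∈ n • (⊤ : Submodule A P) := by
    rw [Ideal.smul_top_eq_map]
    show x - a ∈ n.map (algebraMap A P)
    rw [← hmP, RingHom.mem_ker, map_sub, hax, sub_self]
  have hφy : φ (x - a) = 0 := by rw [map_sub, hx, haK, sub_zero]
  generalize x - a = y at hy hφy ⊢
  obtain ⟨l, a', p', ha', rfl⟩ : ∃ (l : ℕ) (a' : Fin l → A) (p' : Fin l → P), (∀ i, a' i ∈ n) ∧ y = ∑ i, a' i • p' i := by
    refine Submodule.smul_induction_on hy (fun r hr q _ => ⟨1, ![r], ![q], by simpa using hr, by simp⟩) ?_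
    rintro y₁ y₂ ⟨l₁, a₁, p₁, h₁, rfl⟩ ⟨l₂, a₂, p₂, h₂, rfl⟩
    refine ⟨l₁ + l₂, Fin.append a₁ a₂, Fin.append p₁ p₂, fun i => ?_, by simp [Fin.sum_univ_add]⟩
    induction i using Fin.addCases <;> simp [h₁, h₂]
  have hrel : ∑ i, a' i • φ (p' i) = 0 := by
    rw [← hφy, map_sum]
    exact Finset.sum_congr rfl fun i _ => ((φ.restrictScalars A).toLinearMap.map_smul _ _).symm
  obtain ⟨l', aa, cc, hcc, haa⟩ := Module.Flat.isTrivialRelation_of_sum_smul_eq_zero hrel
  choose q hq using fun j => hφ (cc j)
  have : ∑ i, a' i • p' i = ∑ i, a' i • (p' i - ∑ j, aa i j • q j) := by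
    simp_rw [smul_sub, Finset.sum_sub_distrib, Finset.smul_sum, smul_smul]
    rw [Finset.sum_comm]
    simp_rw [← Finset.sum_smul, haa, zero_smul, Finset.sum_const_zero, sub_zero]
  rw [this]
  refine Submodule.sum_mem _ fun i _ => Submodule.smul_mem_smul (ha' i) ?_
  change φ _ = 0
  rw [map_sub, map_sum, show φ (p' i) = _ from hcc i, sub_eq_zero]
  exact Finset.sum_congr rfl fun j _ => by
    rw [← hq j]; exact ((φ.restrictScalars A).toLinearMap.map_smul _ _).symm

end Groth.Agent.S5338
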