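import Groth.Statements.S5339
import Groth.Agent.SGA3Homog26.FTGroup
import Groth.Agent.S5338
import Groth.Agent.S5337

set_option autoImplicit false
set_option linter.style.haveILetI false
set_option backward.isDefEq.respectTransparency.types false
universe u
open CategoryTheory CategoryTheory.Limits MonoidalCategory CartesianMonoidalCategory MonObj GrpObj AlgebraicGeometry
open SGA3

namespace Groth.Agent.S5339

/-- Let A be a local artinian ring and G a flat A-group scheme (not assumed locally of finite type). If
G is locally quasi-finite and locally of finite type (resp. unramified, resp. smooth, resp. etale)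
over A on some nonempty open subscheme, then G is locally quasi-finite and locally of finite type
(resp. unramified, resp. smooth, resp. etale) over A. -/
theorem result (A : Type u) [CommRing A] [IsArtinianRing A] [IsLocalRing A] (G : Over (Spec (CommRingCat.of A))) [GrpObj G] [Flat G.hom]
    (W : G.left.Opens) (hW : (W : Set G.left).Nonempty) :
    (LocallyQuasiFinite (W.ι ≫ G.hom) → LocallyOfFiniteType (W.ι ≫ G.hom) → LocallyQuasiFinite G.hom ∧ LocallyOfFiniteType G.hom) ∧
    (FormallyUnramified (W.ι ≫ G.hom) → LocallyOfFinitePresentation (W.ι ≫ G.hom) →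
      FormallyUnramified G.hom ∧ LocallyOfFinitePresentation G.hom) ∧
    (Smooth (W.ι ≫ G.hom) → Smooth G.hom) ∧ (Etale (W.ι ≫ G.hom) → Etale G.hom) := by
  have hn : IsNilpotent (IsLocalRing.maximalIdeal A) := by
    rw [← IsLocalRing.jacobson_eq_maximalIdeal ⊥ bot_ne_top]
    exact IsArtinianRing.isNilpotent_jacobson_bot
  have hlft : LocallyOfFiniteType (W.ι ≫ G.hom) → LocallyOfFiniteType G.hom := fun _ =>
    SGA3Homog26.lft_of_open A G W hW fun C _ _ h => (S5338.result A A C (IsLocalRing.maximalIdeal A) hn).1 h
  have hu : (toUnit G).left = G.hom := rfl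
  haveI : IsMonHom (toUnit G) := ⟨toUnit_unique _ _, toUnit_unique _ _⟩
  have key := fun [LocallyOfFiniteType G.hom] => S5337.result A G (𝟙_ _) (toUnit G) W hW
  refine ⟨fun hq hf => ?_, fun hu' hp => ?_, fun h => ?_, fun h => ?_⟩
  · haveI := hlft hf
    exact ⟨hu ▸ key.1 (hu.symm ▸ hq), inferInstance⟩
  · haveI := hlft inferInstance
    have := key.2.1 (hu.symm ▸ hu') (hu.symm ▸ hp)
    exact ⟨hu ▸ this.1, hu ▸ this.2⟩
  · haveI := hlft inferInstance
    exact hu ▸ key.2.2.1 (hu.symm ▸ h)
  · haveI := hlft inferInstance
    exact hu ▸ key.2.2.2 (hu.symm ▸ h)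

end Groth.Agent.S5339
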