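import Groth.Statements.S5353
import Groth.Agent.S5339
import Groth.Agent.AlgSpLib.FppfSource
import Groth.Agent.Desc19b.Source
import Mathlib.AlgebraicGeometry.Morphisms.FlatDescent

set_option autoImplicit false
set_option linter.style.haveILetI false
set_option backward.isDefEq.respectTransparency.types false
universe u
open CategoryTheory CategoryTheory.Limits MonoidalCategory CartesianMonoidalCategory MonObj GrpObj AlgebraicGeometry
open SGA3

namespace Groth.Agent.S5353

/-- Let A be a local artinian ring, G an A-group scheme which is flat and locally of finite type, i : G⁰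
→ G an open subgroup scheme whose image is the connected component of the unit (the neutral
component), and p : G → Q a homomorphism of A-group schemes which is surjective, flat and locally of
finite presentation with kernel G⁰ (Q is the quotient of G by G⁰). Then Q is etale over A. -/
theorem result (A : Type u) [CommRing A] [IsArtinianRing A] [IsLocalRing A] (G0 G Q : Over (Spec (CommRingCat.of A))) [GrpObj G0] [GrpObj G] [GrpObj Q]
    [Flat G.hom] [LocallyOfFiniteType G.hom] (i : G0 ⟶ G) [IsMonHom i] [IsOpenImmersion i.left]
    (pt : ↥(𝟙_ (Over (Spec (CommRingCat.of A)))).left) (hi : Set.range i.left.base = connectedComponent (η[G].left.base pt))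
    (p : G ⟶ Q) [IsMonHom p] [Surjective p.left] [Flat p.left] [LocallyOfFinitePresentation p.left]
    (hK : AlgGrp.IsKernel i p) : Etale Q.hom := by
  have sq : IsPullback i.left G0.hom p.left η[Q].left := hK.map (Over.forget _)
  haveI : IsOpenImmersion η[Q].left :=
    MorphismProperty.of_isPullback_of_descendsAlong (P := @IsOpenImmersion)
      (Q := @Surjective ⊓ @Flat ⊓ @LocallyOfFinitePresentation) sq ⟨⟨inferInstance, inferInstance⟩, inferInstance⟩ ‹_›
  haveI : LocallyOfFiniteType Q.hom := AlgSpLib.lft_of_comp_fppf p.left Q.hom (by rw [Over.w p]; infer_instance)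
  haveI : Flat Q.hom := Flat.of_stalkMap _ fun y => by
    obtain ⟨x, rfl⟩ := p.left.surjective y
    haveI : Flat (p.left ≫ Q.hom) := by rw [Over.w p]; infer_instance
    have h := Flat.stalkMap (p.left ≫ Q.hom) x
    exact (Desc19b.flat_stalkMap_comp_iff p.left Q.hom x (Flat.stalkMap _ _)).mp h
  let W := η[Q].left.opensRange
  have e : W.ι ≫ Q.hom = η[Q].left.isoOpensRange.inv ≫ η[Q].left ≫ Q.hom := by
    rw [← Scheme.Hom.isoOpensRange_inv_comp η[Q].left, Category.assoc]
  refine (S5339.result A Q W ⟨η[Q].left pt, pt, rfl⟩).2.2.2 ?_
  rw [e, Over.w]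
  exact MorphismProperty.RespectsIso.precomp @Etale _ _ (inferInstanceAs (Etale (𝟙 _)))

end Groth.Agent.S5353
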