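import Groth.Statements.S5372
import Groth.Agent.SGA3cLib.FpqcEpi

set_option autoImplicit false
universe u
open CategoryTheory CategoryTheory.Limits MonoidalCategory CartesianMonoidalCategory MonObj GrpObj AlgebraicGeometry
open SGA3

namespace Groth.Agent.S5372

set_option backward.isDefEq.respectTransparency.types false

variable {S : Scheme.{u}}

theorem over_epi {X Y : Over S} (f : X ⟶ Y) (hf : SGA3cLib.HasCovLift f.left) : Epi f := by
  haveI := hf.epi
  exact (Over.forget S).epi_of_epi_map (inferInstanceAs (Epi f.left))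

theorem over_desc {X Y W : Over S} (f : X ⟶ Y) (hf : SGA3cLib.HasCovLift f.left) (g : X ⟶ W)
    (h : ∀ {T : Over S} (a b : T ⟶ X), a ≫ f = b ≫ f → a ≫ g = b ≫ g) : ∃ m, f ≫ m = g := by
  obtain ⟨m, hm⟩ := hf.exists_desc g.left fun {T} a b hab => by
    let T' : Over S := Over.mk (a ≫ X.hom)
    let a' : T' ⟶ X := Over.homMk a
    let b' : T' ⟶ X := Over.homMk b (by
      change b ≫ X.hom = a ≫ X.hom
      rw [← Over.w f, ← Category.assoc, ← hab, Category.assoc])
    exact congrArg CommaMorphism.left (h a' b' (Over.OverMorphism.ext hab))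
  haveI := hf.epi
  refine ⟨Over.homMk m ?_, Over.OverMorphism.ext hm⟩
  rw [← cancel_epi f.left, ← Category.assoc, hm, Over.w g, Over.w f]

theorem covLift_whiskerRight {X Y : Over S} (f : X ⟶ Y) (hf : SGA3cLib.HasCovLift f.left) (A : Over S) :
    SGA3cLib.HasCovLift (f ▷ A).left := by
  have h1 : IsPullback (f ▷ A).left (fst X A).left (fst Y A).left f.left := by
    refine IsPullback.of_right (h₁₂ := (snd Y A).left) (v₁₃ := A.hom) (h₂₂ := Y.hom) ?_
      (congrArg CommaMorphism.left (whiskerRight_fst f A)) (IsPullback.of_hasPullback Y.hom A.hom).flip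
    rw [show (f ▷ A).left ≫ (snd Y A).left = (snd X A).left from congrArg CommaMorphism.left (whiskerRight_snd f A), Over.w f]
    exact (IsPullback.of_hasPullback X.hom A.hom).flip
  exact hf.of_isPullback h1.flip

theorem covLift_whiskerLeft {X Y : Over S} (f : X ⟶ Y) (hf : SGA3cLib.HasCovLift f.left) (A : Over S) :
    SGA3cLib.HasCovLift (A ◁ f).left := by
  have h1 : IsPullback (A ◁ f).left (snd A X).left (snd A Y).left f.left := by
    refine IsPullback.of_right (h₁₂ := (fst A Y).left) (v₁₃ := A.hom) (h₂₂ := Y.hom) ?_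
      (congrArg CommaMorphism.left (whiskerLeft_snd A f)) (IsPullback.of_hasPullback A.hom Y.hom)
    rw [show (A ◁ f).left ≫ (fst A Y).left = (fst A X).left from congrArg CommaMorphism.left (whiskerLeft_fst A f), Over.w f]
    exact IsPullback.of_hasPullback A.hom X.hom
  exact hf.of_isPullback h1.flip

theorem covLift_tensor {X Y X' Y' : Over S} (f : X ⟶ Y) (hf : SGA3cLib.HasCovLift f.left) (g : X' ⟶ Y')
    (hg : SGA3cLib.HasCovLift g.left) : SGA3cLib.HasCovLift (f ⊗ₘ g).left := by
  rw [tensorHom_def]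
  exact (covLift_whiskerRight f hf X').comp (covLift_whiskerLeft g hg Y)

/-- Let u : G' → G be a monomorphism of S-group schemes which is normal, and p : G → G'' a morphism of
S-schemes which is covering for the fpqc topology (some Z → G'' which is flat, surjective, with
every affine open of G'' the image of a quasi-compact open of Z, factors through p) and such that
the square (g, h) ↦ g·u(h), first projection G ×_S G' → G, p, p is cartesian, so that G'' represents
the fpqc quotient sheaf G/G'. Then there is a structure of S-group scheme on G'' for which p is a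
homomorphism, and it is unique: any morphism m : G'' ×_S G'' → G'' with (p × p) followed by m equal
to the multiplication of G followed by p is its multiplication. -/
theorem result (S : Scheme.{u}) (G G' G'' : Over S) [GrpObj G] [GrpObj G']
    (u : G' ⟶ G) [IsMonHom u] [Mono u] (p : G ⟶ G'')
    (hcov : (∃ (Z : Scheme.{u}) (q : Z ⟶ G''.left) (r : Z ⟶ G.left), r ≫ p.left = q ∧ Surjective q ∧ Flat q ∧
        ∀ V : G''.left.Opens, IsAffineOpen V → ∃ W : Z.Opens, IsCompact (W : Set Z) ∧ q.base '' (W : Set Z) = (V : Set G''.left)))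
    (hsq : IsPullback ((G ◁ u) ≫ μ[G]) (fst G G') p p) (hN : AlgGrp.IsNormalHom u) :
    ∃ _ : GrpObj G'', IsMonHom p ∧ ∀ m : G'' ⊗ G'' ⟶ G'', (p ⊗ₘ p) ≫ m = μ[G] ≫ p → m = μ[G''] := by
  obtain ⟨Z, q, r, hr, hs, hf, hW⟩ := hcov
  have hp : SGA3cLib.HasCovLift p.left := ⟨Z, q, r, hr, SGA3cLib.IsFpqcCov.of_forall q hW⟩
  haveI : Epi p := over_epi p hp
  have hμ : (G ◁ u) ≫ μ[G] = fst G G' * (snd G G' ≫ u) := by
    rw [Hom.mul_def]; congr 1
  have hker : ∀ {T : Over S} (a b : T ⟶ G), a ≫ p = b ≫ p ↔ ∃ h : T ⟶ G', a = b * (h ≫ u) := by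
    intro T a b
    constructor
    · intro h
      obtain ⟨l, hl1, hl2⟩ := hsq.exists_lift a b h
      refine ⟨l ≫ snd G G', ?_⟩
      rw [← hl1, hμ, MonObj.comp_mul, hl2, ← Category.assoc]
    · rintro ⟨h, rfl⟩
      have h' := congrArg (lift b h ≫ ·) hsq.w
      simp only [← Category.assoc, lift_fst] at h'
      rw [Category.assoc (lift b h), hμ, MonObj.comp_mul, lift_fst, ← Category.assoc, lift_snd] at h'
      exact h'
  have hpp := covLift_tensor p hp p hp
  haveI : Epi (p ⊗ₘ p) := over_epi _ hpp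
  obtain ⟨m, hm⟩ := over_desc (p ⊗ₘ p) hpp (μ[G] ≫ p) (fun {T} a b hab => by
    have h1 := congrArg (· ≫ fst G'' G'') hab
    have h2 := congrArg (· ≫ snd G'' G'') hab
    simp only [Category.assoc, tensorHom_fst, tensorHom_snd] at h1 h2
    rw [← Category.assoc, ← Category.assoc] at h1 h2
    obtain ⟨c, hc⟩ := (hker _ _).1 h1
    obtain ⟨d, hd⟩ := (hker _ _).1 h2
    obtain ⟨c', hc'⟩ := hN T (b ≫ snd G G)⁻¹ c
    rw [← Category.assoc, ← Category.assoc]
    refine (hker _ _).2 ⟨c' * d, ?_⟩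
    have e : μ[G] = fst G G * snd G G := by rw [Hom.mul_def, lift_fst_snd, Category.id_comp]
    rw [e, MonObj.comp_mul, MonObj.comp_mul, hc, hd, MonObj.mul_comp, ← hc', _root_.inv_inv]
    group)
  obtain ⟨i, hi⟩ := over_desc p hp (ι[G] ≫ p) (fun {T} a b hab => by
    obtain ⟨c, hc⟩ := (hker _ _).1 hab
    rw [← Category.assoc, ← Category.assoc]
    obtain ⟨c', hc'⟩ := hN T b c
    refine (hker _ _).2 ⟨c'⁻¹, ?_⟩
    have e : ∀ x : T ⟶ G, x ≫ ι[G] = x⁻¹ := fun x => rfl
    rw [e, e, hc, GrpObj.inv_comp, ← hc']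
    group)
  have hppp : Epi ((p ⊗ₘ p) ⊗ₘ p) := over_epi _ (covLift_tensor _ hpp p hp)
  letI instM : MonObj G'' :=
    { one := η[G] ≫ p
      mul := m
      one_mul := by
        haveI : Epi (𝟙_ (Over S) ◁ p) := over_epi _ (covLift_whiskerLeft p hp _)
        rw [← cancel_epi (𝟙_ (Over S) ◁ p), ← Category.assoc,
          show (𝟙_ (Over S) ◁ p) ≫ (η[G] ≫ p) ▷ G'' = (η[G] ▷ G) ≫ (p ⊗ₘ p) by
            apply CartesianMonoidalCategory.hom_ext <;> simp [leftUnitor_hom, rightUnitor_hom] <;>
              exact congrArg (· ≫ η[G] ≫ p) (toUnit_unique _ _)]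
        rw [Category.assoc, hm, MonObj.one_mul_assoc]
        simp
      mul_one := by
        haveI : Epi (p ▷ 𝟙_ (Over S)) := over_epi _ (covLift_whiskerRight p hp _)
        rw [← cancel_epi (p ▷ 𝟙_ (Over S)), ← Category.assoc,
          show (p ▷ 𝟙_ (Over S)) ≫ G'' ◁ (η[G] ≫ p) = (G ◁ η[G]) ≫ (p ⊗ₘ p) by
            apply CartesianMonoidalCategory.hom_ext <;> simp [leftUnitor_hom, rightUnitor_hom] <;>
              exact congrArg (· ≫ η[G] ≫ p) (toUnit_unique _ _)]
        rw [Category.assoc, hm, MonObj.mul_one_assoc]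
        simp
      mul_assoc := by
        rw [← cancel_epi ((p ⊗ₘ p) ⊗ₘ p), ← Category.assoc,
          show ((p ⊗ₘ p) ⊗ₘ p) ≫ m ▷ G'' = (μ[G] ▷ G) ≫ (p ⊗ₘ p) by
            apply CartesianMonoidalCategory.hom_ext
            · simp only [Category.assoc, whiskerRight_fst, tensorHom_fst, tensorHom_fst_assoc, whiskerRight_fst_assoc, hm]
            · simp]
        rw [Category.assoc, hm, MonObj.mul_assoc_assoc]
        rw [← Category.assoc ((p ⊗ₘ p) ⊗ₘ p) (α_ G'' G'' G'').hom, associator_naturality, Category.assoc]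
        congr 1
        rw [← Category.assoc (p ⊗ₘ p ⊗ₘ p),
          show (p ⊗ₘ p ⊗ₘ p) ≫ G'' ◁ m = (G ◁ μ[G]) ≫ (p ⊗ₘ p) by
            apply CartesianMonoidalCategory.hom_ext
            · simp
            · simp only [Category.assoc, whiskerLeft_snd, tensorHom_snd, tensorHom_snd_assoc, whiskerLeft_snd_assoc, hm]]
        rw [Category.assoc, hm] }
  letI inst : GrpObj G'' :=
    { inv := i
      left_inv := by
        rw [← cancel_epi p, ← Category.assoc]
        change (p ≫ lift i (𝟙 G'')) ≫ m = p ≫ toUnit G'' ≫ η[G] ≫ p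
        rw [show p ≫ lift i (𝟙 G'') = lift ι[G] (𝟙 G) ≫ (p ⊗ₘ p) by
          apply CartesianMonoidalCategory.hom_ext <;> simp [hi]]
        rw [Category.assoc, hm, GrpObj.left_inv_assoc, ← Category.assoc p, comp_toUnit]
      right_inv := by
        rw [← cancel_epi p, ← Category.assoc]
        change (p ≫ lift (𝟙 G'') i) ≫ m = p ≫ toUnit G'' ≫ η[G] ≫ p
        rw [show p ≫ lift (𝟙 G'') i = lift (𝟙 G) ι[G] ≫ (p ⊗ₘ p) by
          apply CartesianMonoidalCategory.hom_ext <;> simp [hi]]
        rw [Category.assoc, hm, GrpObj.right_inv_assoc, ← Category.assoc p, comp_toUnit] }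
  refine ⟨inst, ⟨rfl, hm.symm⟩, fun m' hm' => ?_⟩
  rw [← cancel_epi (p ⊗ₘ p), hm']
  exact hm.symm

end Groth.Agent.S5372
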