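import Groth.Statements.S3006
import Groth.Agent.SGA3cLib.MTClosedSub

set_option autoImplicit false
universe u
open CategoryTheory MonoidalCategory CartesianMonoidalCategory MonObj GrpObj AlgebraicGeometry
open Red

namespace Groth.Agent.S3006

/-- Let S be a scheme, G an S-group scheme smooth and of finite presentation over S, and q : Q → G a
closed subgroup scheme which is a torus. Then the centralizer and the normalizer of Q in G exist as
closed subgroup schemes of G (characterized on points as in `Red.IsCentralizerOf` /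
`Red.IsNormalizerOf`) and are smooth over S. -/
theorem result (S : Scheme.{u}) (G Q : Over S) [GrpObj G] [GrpObj Q] [Smooth G.hom] [LocallyOfFinitePresentation G.hom] [QuasiCompact G.hom] [QuasiSeparated G.hom] (q : Q ⟶ G) [IsMonHom q] (hq : IsClosedImmersion q.left) (hQ : Red.IsTorus Q) : (∃ (Z : Over S) (_ : GrpObj Z) (z : Z ⟶ G), Red.IsCentralizerOf q z ∧ IsClosedImmersion z.left ∧ Smooth Z.hom) ∧ ∃ (N : Over S) (_ : GrpObj N) (n : N ⟶ G), Red.IsNormalizerOf q n ∧ IsClosedImmersion n.left ∧ Smooth N.hom := by
  open Groth.Agent.SGA3cLib in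
  have hFT : SGA3x.IsMultTypeFT Q := by
    obtain ⟨S', f, h1, h2, h3, h4⟩ := hQ
    exact ⟨S', f, h1, h2, h3, fun s' => by
      obtain ⟨U, hU, r, hr⟩ := h4 s'
      exact ⟨U, hU, Fin r → ℤ, inferInstance, Module.Finite.iff_addGroup_fg.1 inferInstance, hr⟩⟩
  haveI := torus_isSeparated hQ
  haveI : Mono q := (Over.forget S).mono_of_mono_map (inferInstanceAs (Mono q.left))
  exact ⟨MTClosedSub.exists_centralizer_closed q hFT, MTClosedSub.exists_normalizer_closed q hFT⟩

end Groth.Agent.S3006
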