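import Groth.Statements.S1994
import Groth.Agent.HenselLib.HullNoeth
import Groth.Agent.HenselLib.PairQuot

set_option autoImplicit false
universe u
open EtAlg

namespace Groth.Agent.S1994

/-- Let (A, I) be a pair with A Noetherian and B a henselization of the pair. Then B is Noetherian and
flat over A, and the induced map of adic completions, from the I-adic completion of A to the IB-adic
completion of B, is bijective. -/
theorem result (A : Type u) [CommRing A] [IsNoetherianRing A] (I : Ideal A)
    (B : Type u) [CommRing B] [Algebra A B] (hB : Hens2.IsPairHenselization A I B) :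
    IsNoetherianRing B ∧ Module.Flat A B ∧
      Function.Bijective (AdicCompletion.map I (Algebra.linearMap A B) :
        AdicCompletion I A → AdicCompletion I B) := by
  obtain ⟨e⟩ := Groth.Agent.HenselLib.IsPairHull.equiv_pairH hB
  have := Groth.Agent.HenselLib.isNoetherianRing_pairH I
  refine ⟨isNoetherianRing_of_ringEquiv _ e.toRingEquiv, Module.Flat.of_linearEquiv e.toLinearEquiv.symm, ?_⟩
  have hq : ∀ n : ℕ, Function.Bijective ((Algebra.linearMap A B).reduceModIdeal (I ^ n)) := fun n => by
    obtain ⟨hinj, hsurj⟩ := Groth.Agent.HenselLib.IsPairHull.bijective_quotientMap hB n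
    have hmem : ∀ b : B, b ∈ (I ^ n • ⊤ : Submodule A B) ↔ b ∈ (I ^ n).map (algebraMap A B) :=
      fun b => by rw [Ideal.smul_top_eq_map, Submodule.restrictScalars_mem]
    refine ⟨(injective_iff_map_eq_zero _).mpr fun x hx => ?_, fun y => ?_⟩
    · obtain ⟨r, rfl⟩ := Submodule.Quotient.mk_surjective _ x
      rw [LinearMap.reduceModIdeal_apply, Submodule.Quotient.mk_eq_zero, hmem] at hx
      rw [Submodule.Quotient.mk_eq_zero, smul_eq_mul, Ideal.mul_top, ← Ideal.Quotient.eq_zero_iff_mem]
      refine hinj ?_
      rw [map_zero, Ideal.quotientMap_mk]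
      exact Ideal.Quotient.eq_zero_iff_mem.mpr hx
    · obtain ⟨b, rfl⟩ := Submodule.Quotient.mk_surjective _ y
      obtain ⟨x, hx⟩ := hsurj (Ideal.Quotient.mk _ b)
      obtain ⟨r, rfl⟩ := Ideal.Quotient.mk_surjective x
      rw [Ideal.quotientMap_mk, Ideal.Quotient.eq] at hx
      refine ⟨Submodule.Quotient.mk r, ?_⟩
      rw [LinearMap.reduceModIdeal_apply]
      exact (Submodule.Quotient.eq _).mpr ((hmem _).mpr hx)
  refine ⟨fun x y h => AdicCompletion.ext fun {n} => (hq n).1 ?_, fun y => ?_⟩
  · rw [← AdicCompletion.map_val_apply, ← AdicCompletion.map_val_apply, h]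
  · choose x hx using fun n => (hq n).2 (y.val n)
    refine ⟨⟨x, fun {m n} hmn => (hq m).1 ?_⟩, AdicCompletion.ext fun {n} => hx n⟩
    rw [hx m, ← y.2 hmn, ← hx n]
    exact (LinearMap.congr_fun (AdicCompletion.transitionMap_comp_reduceModIdeal I
      (Algebra.linearMap A B) hmn) (x n)).symm

end Groth.Agent.S1994
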