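import Groth.Statements.S16030
import Mathlib.RingTheory.Derivation.Basic
import Mathlib.RingTheory.Flat.Equalizer
import Mathlib.RingTheory.Henselian
import Mathlib.RingTheory.Regular.RegularSequence
import Mathlib.RingTheory.RegularLocalRing.Defs
import Mathlib.RingTheory.SimpleRing.Principal
import Mathlib.RingTheory.Flat.FaithfullyFlat.Algebra
import Mathlib.RingTheory.Ideal.AssociatedPrime.Basic
import Mathlib.RingTheory.HopkinsLevitzki
import Mathlib.RingTheory.Support
import Mathlib.Tactic
import Groth.Agent.CommAlg4.Basic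

set_option linter.all false

set_option autoImplicit false
universe u
open CAlg

open Groth.Agent.CommAlg4

namespace Groth.Agent.S16030

/-- For a finite set F of points of the spectrum of a commutative ring A and an open subset U containing
F, some basic open D(a) contains F and is contained in U. -/
theorem result
    (A : Type u) [CommRing A] (F : Set (PrimeSpectrum A)) (hF : F.Finite)
    (U : TopologicalSpace.Opens (PrimeSpectrum A)) (hFU : F ⊆ (U : Set (PrimeSpectrum A))) :
    ∃ a : A, F ⊆ (PrimeSpectrum.basicOpen a : Set (PrimeSpectrum A)) ∧ PrimeSpectrum.basicOpen a ≤ U := by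
  obtain ⟨s, hs⟩ := (PrimeSpectrum.isOpen_iff _).mp U.isOpen
  have : ¬ ((Ideal.span s : Ideal A) : Set A) ⊆ ⋃ p ∈ F, (p.asIdeal : Set A) := by
    by_cases hne : F.Nonempty
    · obtain ⟨p0, _⟩ := hne
      rw [Ideal.subset_union_prime_finite hF p0 p0 (fun p _ _ _ => p.isPrime)]
      rintro ⟨p, hp, hle⟩
      have h1 : p ∈ PrimeSpectrum.zeroLocus s := fun x hx => hle (Ideal.subset_span hx)
      rw [← hs] at h1
      exact h1 (hFU hp)
    · simp only [Set.not_nonempty_iff_eq_empty.mp hne, Set.biUnion_empty, Set.subset_empty_iff]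
      exact (Submodule.nonempty _).ne_empty
  obtain ⟨a, ha, ha'⟩ := Set.not_subset.mp this
  refine ⟨a, fun p hp h => ha' (Set.mem_biUnion hp h), fun p hp => ?_⟩
  by_contra hpU
  have h1 : p ∈ PrimeSpectrum.zeroLocus s := hs ▸ hpU
  exact hp (Ideal.span_le.mpr h1 ha)

end Groth.Agent.S16030
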