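import Groth.Statements.S5260
import Groth.Agent.SGA3cLib.GroupCut

set_option autoImplicit false
open CategoryTheory MonoidalCategory CartesianMonoidalCategory MonObj GrpObj AlgebraicGeometry
universe u
open SGA3x

namespace Groth.Agent.S5260

/-- Normalizer: Let G be an S-group locally of finite type and quasi-separated over S, H an S-group
which is smooth and of finite presentation over S with connected fibres, and i : H ⟶ G a
homomorphism which is a monomorphism. Then the normalizer of H in G is representable by a closed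
subgroup scheme of G whose immersion into G is of finite presentation. -/
theorem result {S : Scheme.{u}} (G H : Over S) [GrpObj G] [GrpObj H]
    [LocallyOfFiniteType G.hom] [QuasiSeparated G.hom] [Smooth H.hom] [QuasiCompact H.hom] [QuasiSeparated H.hom]
    (hconn : ∀ s : S, ConnectedSpace ↥(Limits.pullback H.hom (S.fromSpecResidueField s)))
    (i : H ⟶ G) [IsMonHom i] [Mono i] :
    ∃ (N : Over S) (_ : GrpObj N) (j : N ⟶ G), Red.IsNormalizerOf i j ∧ IsClosedImmersion j.left ∧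
      LocallyOfFinitePresentation j.left := by
  classical
  haveI : LocallyOfFinitePresentation i.left := by
    haveI : LocallyOfFinitePresentation (i.left ≫ G.hom) := by rw [Over.w i]; infer_instance
    exact EGA43.Limit.locallyOfFinitePresentation_of_comp i.left G.hom
  obtain ⟨D₁, e₁, _, _, he₁⟩ := SGA3cLib.GroupLocus.exists_cut ((snd H G) * (fst H G ≫ i) * (snd H G)⁻¹) i
  obtain ⟨D, e₂, _, _, he₂⟩ := SGA3cLib.GroupLocus.exists_cut (e₁ ≫ ((snd H G)⁻¹ * (fst H G ≫ i) * snd H G)) i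
  haveI : LocallyOfFinitePresentation (e₂ ≫ e₁).left :=
    inferInstanceAs (LocallyOfFinitePresentation (e₂.left ≫ e₁.left))
  let P : ∀ (Y : Over S), (Y ⟶ G) → (Y ⟶ H) → Prop := fun Y g h =>
    (∃ h' : Y ⟶ H, g * (h ≫ i) * g⁻¹ = h' ≫ i) ∧ (∃ h' : Y ⟶ H, g⁻¹ * (h ≫ i) * g = h' ≫ i)
  have hmem : ∀ (Y : Over S) (g : Y ⟶ G) (h : Y ⟶ H),
      SGA3cLib.GroupLocus.Mem (e₂ ≫ e₁) h g ↔ P Y g h := by
    intro Y g h
    constructor
    · rintro ⟨z, hz⟩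
      obtain ⟨h₁, hh₁⟩ := (he₁ Y (lift h g)).1 ⟨z ≫ e₂, by rw [Category.assoc]; exact hz⟩
      obtain ⟨h₂, hh₂⟩ := (he₂ Y (z ≫ e₂)).1 ⟨z, rfl⟩
      rw [← Category.assoc (z ≫ e₂), Category.assoc z, hz] at hh₂
      simp only [MonObj.comp_mul, GrpObj.comp_inv, ← Category.assoc, lift_fst, lift_snd] at hh₁ hh₂
      exact ⟨⟨h₁, hh₁.symm⟩, ⟨h₂, hh₂.symm⟩⟩
    · rintro ⟨⟨h₁, hh₁⟩, ⟨h₂, hh₂⟩⟩
      obtain ⟨z₁, hz₁⟩ := (he₁ Y (lift h g)).2 ⟨h₁, by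
        simp only [MonObj.comp_mul, GrpObj.comp_inv, ← Category.assoc, lift_fst, lift_snd, hh₁]⟩
      obtain ⟨z, hz⟩ := (he₂ Y z₁).2 ⟨h₂, by
        rw [← Category.assoc, hz₁]
        simp only [MonObj.comp_mul, GrpObj.comp_inv, ← Category.assoc, lift_fst, lift_snd, hh₂]⟩
      exact ⟨z, by rw [← Category.assoc, hz, hz₁]⟩
  obtain ⟨N, j, hj, hj', hN⟩ := SGA3cLib.GroupLocus.exists_locus hconn (e₂ ≫ e₁)
    (fun Y g => (hmem _ _ _).2 ⟨⟨1, by rw [MonObj.one_comp]; group⟩, ⟨1, by rw [MonObj.one_comp]; group⟩⟩)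
    (fun Y g h h' a b => by
      obtain ⟨⟨a₁, ha₁⟩, ⟨a₂, ha₂⟩⟩ := (hmem _ _ _).1 a
      obtain ⟨⟨b₁, hb₁⟩, ⟨b₂, hb₂⟩⟩ := (hmem _ _ _).1 b
      exact (hmem _ _ _).2 ⟨⟨a₁ * b₁, by rw [MonObj.mul_comp, MonObj.mul_comp, ← ha₁, ← hb₁]; group⟩,
        ⟨a₂ * b₂, by rw [MonObj.mul_comp, MonObj.mul_comp, ← ha₂, ← hb₂]; group⟩⟩)
    (fun Y g h a => by
      obtain ⟨⟨a₁, ha₁⟩, ⟨a₂, ha₂⟩⟩ := (hmem _ _ _).1 a
      exact (hmem _ _ _).2 ⟨⟨a₁⁻¹, by rw [GrpObj.inv_comp, GrpObj.inv_comp, ← ha₁]; group⟩,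
        ⟨a₂⁻¹, by rw [GrpObj.inv_comp, GrpObj.inv_comp, ← ha₂]; group⟩⟩)
  simp only [hmem] at hN
  haveI : Mono j := (Over.forget S).mono_of_mono_map (inferInstanceAs (Mono j.left))
  have hn : ∀ {T : Over S} (z : T ⟶ N) (X' : Over S) (x : X' ⟶ T) (h : X' ⟶ H), P X' (x ≫ z ≫ j) h :=
    fun {T} z => (hN T (z ≫ j)).1 ⟨z, rfl⟩
  obtain ⟨_, hmon⟩ := SGA3cLib.exists_grpObj_of_subgroup j
    (fun T => (hN T 1).2 fun X' x h => ⟨⟨h, by rw [MonObj.comp_one]; group⟩, ⟨h, by rw [MonObj.comp_one]; group⟩⟩)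
    (fun T a b => (hN T _).2 fun X' x h => by
      obtain ⟨⟨b₁, hb₁⟩, -⟩ := hn b X' x h
      obtain ⟨⟨c₁, hc₁⟩, -⟩ := hn a X' x b₁
      obtain ⟨-, ⟨a₂, ha₂⟩⟩ := hn a X' x h
      obtain ⟨-, ⟨c₂, hc₂⟩⟩ := hn b X' x a₂
      exact ⟨⟨c₁, by rw [MonObj.comp_mul, ← hc₁, ← hb₁]; group⟩, ⟨c₂, by rw [MonObj.comp_mul, ← hc₂, ← ha₂]; group⟩⟩)
    (fun T a => (hN T _).2 fun X' x h => by
      obtain ⟨⟨a₁, ha₁⟩, ⟨a₂, ha₂⟩⟩ := hn a X' x h
      exact ⟨⟨a₂, by rw [GrpObj.comp_inv, ← ha₂]; group⟩, ⟨a₁, by rw [GrpObj.comp_inv, ← ha₁]; group⟩⟩)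
  exact ⟨N, inferInstance, j, ⟨hmon, inferInstance, hN⟩, hj, hj'⟩

end Groth.Agent.S5260
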