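import Groth.Statements.S1488
import Groth.Agent.FlatMorGeom.FormallyEtaleHom

set_option autoImplicit false
universe u
open FlatMor

namespace Groth.Agent.S1488

open AlgebraicGeometry CategoryTheory Limits in
/-- A morphism f : X → S is smooth if and only if it is locally of finite presentation and formally
smooth, i.e. has the lifting property against first order thickenings of affine schemes (rings in
the same universe). -/
theorem result {X S : Scheme.{u}} (f : X ⟶ S) :
    Smooth f ↔ LocallyOfFinitePresentation f ∧ MoreMor.IsFormallySmoothHom f := by
  constructor
  · intro h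
    refine ⟨inferInstance, FlatMorGeom.isFormallySmoothHom_of_appLE fun U V hU hV e => ?_⟩
    have := f.smooth_appLE hV hU e
    algebraize [(f.appLE V U e).hom]
    exact Algebra.Smooth.formallySmooth
  · rintro ⟨_, h⟩
    refine ⟨fun {V} hV {U} hU e => ?_⟩
    have h1 := f.finitePresentation_appLE hV hU e
    have h2 := FlatMorGeom.formallySmooth_appLE_of_isFormallySmoothHom f h hU hV e
    algebraize [(f.appLE V U e).hom]
    exact ⟨h2, h1⟩

end Groth.Agent.S1488
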