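import Groth.Statements.S5327
import Groth.Agent.SGA3cLib.OpenSubgroup

set_option autoImplicit false
universe u
open CategoryTheory CategoryTheory.Limits MonoidalCategory CartesianMonoidalCategory MonObj GrpObj AlgebraicGeometry
open SGA3

namespace Groth.Agent.S5327

/-- Let G be an S-group scheme whose fibres are locally of finite type over κ(s), and let i : H → G be a
homomorphism of S-group schemes which is an open immersion (an open subgroup scheme). Then the union
G⁰ of the neutral components of the fibres of G is contained in the image of i, and G⁰ is the image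
under i of the union H⁰ of the neutral components of the fibres of H. -/
theorem result (S : Scheme.{u}) (G H : Over S) [GrpObj G] [GrpObj H]
    (hG : ∀ s : S, LocallyOfFiniteType (G.hom.fiberToSpecResidueField s)) (i : H ⟶ G) [IsMonHom i]
    [IsOpenImmersion i.left] :
    SGA3x.neutralSet G ⊆ Set.range i.left.base ∧ i.left.base '' SGA3x.neutralSet H = SGA3x.neutralSet G := by
  have hηi : η[H].left ≫ i.left = η[G].left := by
    rw [← Over.comp_left, IsMonHom.one_hom]
  have hpt : ∀ p, η[G].left.base p = i.left.base (η[H].left.base p) := fun p => by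
    rw [← hηi]; rfl
  have hhom : ∀ x, G.hom.base (i.left.base x) = H.hom.base x := fun x => by
    change (i.left ≫ G.hom).base x = _
    rw [Over.w]
  have hsub : SGA3x.neutralSet G ⊆ Set.range i.left.base := by
    intro z hz
    obtain ⟨p, hp⟩ := Set.mem_iUnion.mp hz
    exact Groth.Agent.SGA3cLib.connectedComponentIn_subset_range i _ _ ⟨_, (hpt p).symm⟩ hp
  refine ⟨hsub, Set.Subset.antisymm ?_ ?_⟩
  · rintro _ ⟨x, hx, rfl⟩
    obtain ⟨p, hp⟩ := Set.mem_iUnion.mp hx
    refine Set.mem_iUnion.mpr ⟨p, ?_⟩
    have hmem : η[H].left.base p ∈ H.hom.base ⁻¹' {(𝟙_ (Over S)).hom.base p} := by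
      change (η[H].left ≫ H.hom).base p = _
      rw [Over.w]
    have himg := (isPreconnected_connectedComponentIn (x := η[H].left.base p)
      (F := H.hom.base ⁻¹' {(𝟙_ (Over S)).hom.base p})).image _ i.left.continuous.continuousOn
    refine himg.subset_connectedComponentIn ⟨_, mem_connectedComponentIn hmem, (hpt p).symm⟩ ?_ ⟨x, hp, rfl⟩
    rintro _ ⟨a, ha, rfl⟩
    change G.hom.base (i.left.base a) = _
    rw [hhom]
    exact connectedComponentIn_subset (H.hom.base ⁻¹' {(𝟙_ (Over S)).hom.base p}) _ ha
  · intro z hz
    obtain ⟨x, rfl⟩ := hsub hz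
    obtain ⟨p, hp⟩ := Set.mem_iUnion.mp hz
    refine ⟨x, Set.mem_iUnion.mpr ⟨p, ?_⟩, rfl⟩
    set C := connectedComponentIn (G.hom.base ⁻¹' {(𝟙_ (Over S)).hom.base p}) (η[G].left.base p) with hC
    have hCr : C ⊆ Set.range i.left.base := fun a ha => hsub (Set.mem_iUnion.mpr ⟨p, ha⟩)
    have hpre : _root_.IsPreconnected (i.left.base ⁻¹' C) := by
      refine i.left.isOpenEmbedding.isInducing.isPreconnected_image.mp ?_
      rw [Set.image_preimage_eq_inter_range, Set.inter_eq_left.mpr hCr]
      exact isPreconnected_connectedComponentIn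
    have he : η[H].left.base p ∈ i.left.base ⁻¹' C := by
      change i.left.base _ ∈ C
      rw [← hpt]
      refine mem_connectedComponentIn ?_
      change (η[G].left ≫ G.hom).base p = _
      rw [Over.w]
    refine hpre.subset_connectedComponentIn he ?_ hp
    intro a ha
    change H.hom.base a = _
    rw [← hhom]
    exact connectedComponentIn_subset (G.hom.base ⁻¹' {(𝟙_ (Over S)).hom.base p}) _ ha

end Groth.Agent.S5327
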