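import Groth.Statements.S5393
import Groth.Agent.S5327
import Groth.Agent.S1488
import Groth.Agent.EGA43.Limit.Basic
import Groth.Agent.EGA43.Cons.FibreCritScheme
import Mathlib.AlgebraicGeometry.Morphisms.FlatMono
import Mathlib.RingTheory.Spectrum.Prime.Topology

set_option autoImplicit false
set_option linter.style.haveILetI false
set_option backward.isDefEq.respectTransparency.types false
universe u
open CategoryTheory CategoryTheory.Limits MonoidalCategory CartesianMonoidalCategory MonObj GrpObj AlgebraicGeometry
open SGA3 CategoryTheory.Limits Groth.Agent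

namespace Groth.Agent.S5393

/-- Let G be an S-group scheme locally of finite presentation and quasi-separated over S, H an S-group
scheme smooth and of finite presentation over S with connected fibres, u : H → G a homomorphism
which is a monomorphism, n : N → G the normalizer of H in G (a closed subgroup scheme) and j : H → N
the homomorphism with j n = u. The following are equivalent: (i) j is an open immersion; (ii) H
represents the neutral component of N: a point g : T → N factors through j exactly when the image of
its underlying map lies in the union of the neutral components of the fibres of N; (iii) for every s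
in S, the fibre j_s : H_s → N_s is an open immersion whose image is the neutral component of N_s.
(The published statement asks H only to be smooth over S with connected fibres; this row also asks H
quasi-compact and quasi-separated over S, the hypotheses under which the normalizer is shown to be
representable.) -/
theorem result (S : Scheme.{u}) (G H N : Over S) [GrpObj G] [GrpObj H] [GrpObj N]
    [LocallyOfFinitePresentation G.hom] [QuasiSeparated G.hom] [Smooth H.hom] [QuasiCompact H.hom] [QuasiSeparated H.hom]
    (hconn : ∀ s : S, _root_.IsConnected (H.hom.base ⁻¹' {s})) (u : H ⟶ G) [IsMonHom u] [Mono u]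
    (n : N ⟶ G) [IsClosedImmersion n.left] (hN : Red.IsNormalizerOf u n) (j : H ⟶ N) [IsMonHom j] (hj : j ≫ n = u) :
    (IsOpenImmersion j.left ↔
      ∀ (T : Over S) (g : T ⟶ N), (∃ h : T ⟶ H, h ≫ j = g) ↔ Set.range g.left.base ⊆ SGA3x.neutralSet N) ∧
    (IsOpenImmersion j.left ↔
      ∀ s : S, IsOpenImmersion ((Over.pullback (S.fromSpecResidueField s)).map j).left ∧
        j.left.base '' (H.hom.base ⁻¹' {s}) = SGA3x.neutralSet N ∩ N.hom.base ⁻¹' {s}) := by
  haveI : LocallyOfFiniteType n.left := inferInstance
  haveI : LocallyOfFiniteType N.hom := by rw [← Over.w n]; infer_instance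
  haveI : LocallyOfFinitePresentation (j.left ≫ N.hom) := by rw [Over.w j]; infer_instance
  haveI : LocallyOfFinitePresentation j.left := EGA43.Limit.locallyOfFinitePresentation_of_comp j.left N.hom
  haveI : Mono j := by
    haveI : Mono (j ≫ n) := by rw [hj]; infer_instance
    exact mono_of_mono j n
  haveI : Mono j.left := Over.mono_left_of_mono j
  have hNfib : ∀ s : S, LocallyOfFiniteType (N.hom.fiberToSpecResidueField s) := fun s =>
    inferInstanceAs (LocallyOfFiniteType (pullback.snd N.hom (S.fromSpecResidueField s)))
  have hH : SGA3x.neutralSet H = Set.univ := by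
    refine Set.eq_univ_of_forall fun x => ?_
    refine Set.mem_iUnion.2 ⟨H.hom.base x, ?_⟩
    have hu : η[H].left.base (H.hom.base x) ∈ H.hom.base ⁻¹' {(𝟙_ (Over S)).hom.base (H.hom.base x)} := by
      show H.hom.base (η[H].left.base (H.hom.base x)) = _
      rw [← Scheme.Hom.comp_apply, Over.w η[H]]
    exact (hconn _).isPreconnected.subset_connectedComponentIn hu subset_rfl rfl
  have hrange : IsOpenImmersion j.left → Set.range j.left.base = SGA3x.neutralSet N := fun h => by
    haveI := h
    have h2 := (S5327.result S N H hNfib j).2
    rw [hH, Set.image_univ] at h2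
    exact h2
  refine ⟨⟨fun h => ?_, fun h => ?_⟩, ⟨fun h s => ?_, fun h => ?_⟩⟩
  · haveI := h
    intro T g
    constructor
    · rintro ⟨t, rfl⟩
      rw [← hrange h]
      rintro _ ⟨y, rfl⟩
      exact ⟨t.left.base y, rfl⟩
    · intro hg
      rw [← hrange h] at hg
      refine ⟨Over.homMk (IsOpenImmersion.lift j.left g.left hg) ?_, Over.OverMorphism.ext (IsOpenImmersion.lift_fac _ _ _)⟩
      rw [← Over.w j, IsOpenImmersion.lift_fac_assoc, Over.w g]
  · haveI : Smooth j.left := (S1488.result j.left).2 ⟨inferInstance, fun B _ I hI a b hab => by
      let T : Over S := Over.mk (b ≫ N.hom)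
      let g : T ⟶ N := Over.homMk b rfl
      obtain ⟨l, hl⟩ := (h T g).2 (by
        let T₀ : Over S := Over.mk (a ≫ H.hom)
        have h0 := (h T₀ (Over.homMk a rfl ≫ j)).1 ⟨_, rfl⟩
        rintro _ ⟨y, rfl⟩
        obtain ⟨y₀, rfl⟩ : ∃ y₀, (Spec.map (CommRingCat.ofHom (Ideal.Quotient.mk I))).base y₀ = y := by
          have : (y : PrimeSpectrum B) ∈ Set.range (PrimeSpectrum.comap (Ideal.Quotient.mk I)) := by
            rw [range_comap_of_surjective _ _ Ideal.Quotient.mk_surjective, Ideal.mk_ker]
            exact fun r hr => nilradical_le_prime _ (⟨2, by simpa [hI] using Ideal.pow_mem_pow hr 2⟩ : IsNilpotent r)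
          exact this
        refine h0 ⟨y₀, ?_⟩
        exact (congrArg (fun t : _ ⟶ N.left => t.base y₀) hab).symm)
      refine ⟨l.left, ?_, congrArg CommaMorphism.left hl⟩
      rw [← cancel_mono j.left, Category.assoc]
      exact (congrArg (_ ≫ ·) (congrArg CommaMorphism.left hl)).trans hab⟩
    exact IsOpenImmersion.of_flat_of_mono j.left
  · haveI := h
    refine ⟨?_, ?_⟩
    · show IsOpenImmersion ((Over.pullback (S.fromSpecResidueField s)).map j).left
      have sq : IsPullback (pullback.fst H.hom (S.fromSpecResidueField s)) ((Over.pullback (S.fromSpecResidueField s)).map j).left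
          j.left (pullback.fst N.hom (S.fromSpecResidueField s)) := by
        refine IsPullback.of_bot (v₂₁ := pullback.snd N.hom (S.fromSpecResidueField s)) (v₂₂ := N.hom)
          (h₃₁ := S.fromSpecResidueField s) ?_ ?_ (IsPullback.of_hasPullback N.hom _)
        · have e1 : ((Over.pullback (S.fromSpecResidueField s)).map j).left ≫ pullback.snd N.hom (S.fromSpecResidueField s) =
              pullback.snd H.hom (S.fromSpecResidueField s) := pullback.lift_snd _ _ _
          rw [e1, Over.w j]
          exact IsPullback.of_hasPullback H.hom _
        · exact (pullback.lift_fst _ _ _).symm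
      exact MorphismProperty.of_isPullback sq h
    · rw [← hrange h]
      ext y
      constructor
      · rintro ⟨x, hx, rfl⟩
        exact ⟨⟨x, rfl⟩, by
          show N.hom.base (j.left.base x) = s
          rw [← Scheme.Hom.comp_apply, Over.w j]; exact hx⟩
      · rintro ⟨⟨x, rfl⟩, hy⟩
        refine ⟨x, ?_, rfl⟩
        show H.hom.base x = s
        rw [← Over.w j, Scheme.Hom.comp_apply]; exact hy
  · haveI : Flat j.left := by
      refine Flat.iff_flat_stalkMap _ |>.2 fun x => ?_
      refine (EGA43.Cons.flat_stalkMap_of_isFibFlatMorAt j.left N.hom x ?_ ?_).1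
      · haveI : Flat (j.left ≫ N.hom) := by rw [Over.w j]; infer_instance
        exact Flat.stalkMap _ x
      · set s := (j.left ≫ N.hom).base x
        obtain ⟨z, hz⟩ : ∃ z, ((j.left ≫ N.hom).fiberι s).base z = x := by
          have : x ∈ Set.range ((j.left ≫ N.hom).fiberι s).base := by
            rw [Scheme.Hom.range_fiberι]; rfl
          exact this
        rw [← hz, ← EGA43.Cons.flat_stalkMap_fibMap_iff]
        let κ := pullback.congrHom (Over.w j) (rfl : S.fromSpecResidueField s = S.fromSpecResidueField s)
        have e : EGA43.Cons.fibMap j.left N.hom s = κ.hom ≫ ((Over.pullback (S.fromSpecResidueField s)).map j).left := by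
          refine pullback.hom_ext ?_ ?_
          · refine (pullback.lift_fst _ _ _).trans (((Category.assoc _ _ _).trans
              ((congrArg (κ.hom ≫ ·) (pullback.lift_fst _ _ _)).trans ((Category.assoc _ _ _).symm.trans
                (congrArg (· ≫ j.left) ((pullback.lift_fst _ _ _).trans (Category.comp_id _)))))).symm)
          · refine (pullback.lift_snd _ _ _).trans (((Category.assoc _ _ _).trans
              ((congrArg (κ.hom ≫ ·) (pullback.lift_snd _ _ _)).trans
                ((pullback.lift_snd _ _ _).trans (Category.comp_id _)))).symm)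
        haveI : IsOpenImmersion ((Over.pullback (S.fromSpecResidueField s)).map j).left := (h s).1
        haveI : IsOpenImmersion (EGA43.Cons.fibMap j.left N.hom s) := by
          rw [e]; exact MorphismProperty.comp_mem @IsOpenImmersion κ.hom _ inferInstance ‹_›
        exact Flat.stalkMap _ z
    exact IsOpenImmersion.of_flat_of_mono j.left

end Groth.Agent.S5393
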