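import Groth.Statements.S13605
import Groth.Agent.FlatMorPush.FiniteSet
import Groth.Agent.SGA1Quot.Affine
open Groth.Agent

set_option autoImplicit false
universe u
open CategoryTheory AlgebraicGeometry
open CategoryTheory.Limits
open SymProd

set_option backward.isDefEq.respectTransparency.types false
set_option backward.isDefEq.respectTransparency false

namespace Groth.Agent.S13605


/-- Let f : X ⟶ S be a morphism of schemes satisfying (AF) (every finite set of points of X over a
single point of S lies in an affine open of X), let 𝒮 be a cover of S by affine opens, let d ≥ 1 and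
let (Y, q, g) be a d-th symmetric power of X over S: q : X ×_S ⋯ ×_S X ⟶ Y is a quotient by the
symmetric group on d letters permuting the factors (affine, invariant, sections of O_Y = invariant
sections) and q ≫ g is the structure map of the fibre power. Then Y is covered by affine opens of
the form Sym^d(U/V) with V in the given cover: for every point y of Y there are V ∈ 𝒮 and an affine
open U ⊆ f⁻¹V of X such that the open W = ⋂_i pr_i⁻¹ U of the fibre power (the fibre power of U over
V) is affine and stable under every permutation of the factors, and an affine open W' of Y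
containing y with q⁻¹ W' = W. (The published statement also fixes an affine open cover of X
subordinate to the cover of S, in which any d points over a common point of a member V lie in a
common member mapping into V, and concludes that the corresponding opens Sym^d(U/V) cover Y; this
row states the pointwise form, producing U for each y.) -/
theorem result {X S Y : Scheme.{u}} (f : X ⟶ S) (hAF : SymProd.IsAF f)
    (𝒮 : Set S.Opens) (h𝒮 : ∀ V ∈ 𝒮, IsAffineOpen V) (hcov : ∀ s : S, ∃ V ∈ 𝒮, s ∈ V)
    (d : ℕ) (hd : 0 < d) (q : SymProd.fibPow f d ⟶ Y) (g : Y ⟶ S) (hq : SymProd.IsSymProd f d q g) (y : Y) :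
    ∃ V ∈ 𝒮, ∃ U : X.Opens, IsAffineOpen U ∧ U ≤ f ⁻¹ᵁ V ∧
      ∃ W : (SymProd.fibPow f d).Opens,
        (W : Set ↥(SymProd.fibPow f d)) =
          ⋂ i : Fin d, (WidePullback.π (fun _ : Fin d => f) i).base ⁻¹' (U : Set X) ∧
        IsAffineOpen W ∧ (∀ σ : Equiv.Perm (Fin d), (SymProd.permHom f d σ) ⁻¹ᵁ W = W) ∧
        ∃ W' : Y.Opens, y ∈ W' ∧ IsAffineOpen W' ∧ q ⁻¹ᵁ W' = W := by
  classical
  haveI : Surjective q := SGA1Quot.surjective hq.isQuot
  obtain ⟨x, rfl⟩ := q.surjective y
  let s := (WidePullback.base (fun _ : Fin d => f)).base x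
  let p : Fin d → ↥(SymProd.fibPow f d) → X := fun i z => (WidePullback.π (fun _ : Fin d => f) i).base z
  let T : Finset X := Finset.univ.image fun i => p i x
  have hT : ∀ y ∈ T, f.base y = s := by
    intro y hy
    obtain ⟨i, -, rfl⟩ := Finset.mem_image.1 hy
    show (WidePullback.π (fun _ : Fin d => f) i ≫ f).base x = _
    rw [WidePullback.π_arrow]
  obtain ⟨U₀, hU₀, hTU⟩ := hAF s T hT
  obtain ⟨V, hV𝒮, hsV⟩ := hcov s
  have hV := h𝒮 V hV𝒮
  obtain ⟨r, hgV, hgT⟩ := Groth.Agent.FlatMorPush.exists_basicOpen_finite hU₀ (f ⁻¹ᵁ V)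
    T.finite_toSet (fun y hy => show f.base y ∈ V from (hT y hy).symm ▸ hsV) hTU
  let U := X.basicOpen r
  have hU : IsAffineOpen U := hU₀.basicOpen r
  let Ω : (SymProd.fibPow f d).Opens :=
    (WidePullback.base (fun _ : Fin d => f) ⁻¹ᵁ V) ⊓ Finset.univ.inf fun i => WidePullback.π (fun _ : Fin d => f) i ⁻¹ᵁ U
  have hmem : ∀ z, z ∈ Ω ↔ (WidePullback.base (fun _ : Fin d => f)).base z ∈ V ∧ ∀ i, p i z ∈ U := fun z => by
    show z ∈ ((Ω : TopologicalSpace.Opens _) : Set _) ↔ _
    simp [Ω, TopologicalSpace.Opens.coe_finset_inf, p]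
  have hmem' : ∀ z, z ∈ Ω ↔ ∀ i, p i z ∈ U := fun z => by
    refine ⟨fun h => ((hmem z).1 h).2, fun h => (hmem z).2 ⟨?_, h⟩⟩
    rw [← WidePullback.π_arrow (fun _ : Fin d => f) ⟨0, hd⟩, Scheme.Hom.comp_apply]
    exact hgV (h ⟨0, hd⟩)
  have hΩa : IsAffineOpen Ω := by
    haveI : IsAffine U.toScheme := hU
    haveI : IsAffine V.toScheme := hV
    let h : U.toScheme ⟶ V.toScheme := f.resLE V U hgV
    let W : Scheme.{u} := widePullback V.toScheme (fun _ : Fin d => U.toScheme) (fun _ => h)
    haveI : IsAffine W := by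
      haveI : ∀ j, IsAffine ((WidePullbackShape.wideCospan V.toScheme (fun _ : Fin d => U.toScheme) fun _ => h).obj j) :=
        fun j => by cases j <;> assumption
      exact Scheme.isAffine_of_isLimit _ (limit.isLimit _)
    let a : W ⟶ SymProd.fibPow f d :=
      WidePullback.lift (WidePullback.base _ ≫ V.ι) (fun i => WidePullback.π _ i ≫ U.ι) (fun i => by
        rw [Category.assoc, ← Scheme.Hom.resLE_comp_ι (f := f) hgV, ← Category.assoc, WidePullback.π_arrow])
    have ha : Set.range a.base ⊆ Ω := by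
      rintro _ ⟨w, rfl⟩
      refine (hmem _).2 ⟨?_, fun i => ?_⟩
      · rw [← Scheme.Hom.comp_apply, WidePullback.lift_base, Scheme.Hom.comp_apply]
        exact ((WidePullback.base (fun _ : Fin d => h)).base w).2
      · show (WidePullback.π (fun _ : Fin d => f) i).base (a.base w) ∈ U
        rw [← Scheme.Hom.comp_apply, WidePullback.lift_π, Scheme.Hom.comp_apply]
        exact ((WidePullback.π (fun _ : Fin d => h) i).base w).2
    let a' : W ⟶ Ω.toScheme := IsOpenImmersion.lift Ω.ι a (by simpa using ha)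
    have e1 : Set.range (Ω.ι ≫ WidePullback.base (fun _ : Fin d => f)).base ⊆ Set.range V.ι.base := by
      rintro _ ⟨z, rfl⟩
      rw [Scheme.Opens.range_ι]
      exact ((hmem _).1 z.2).1
    have e2 : ∀ i, Set.range (Ω.ι ≫ WidePullback.π (fun _ : Fin d => f) i).base ⊆ Set.range U.ι.base := fun i => by
      rintro _ ⟨z, rfl⟩
      rw [Scheme.Opens.range_ι]
      exact ((hmem _).1 z.2).2 i
    let b : Ω.toScheme ⟶ W :=
      WidePullback.lift (IsOpenImmersion.lift V.ι _ e1) (fun i => IsOpenImmersion.lift U.ι _ (e2 i)) (fun i => by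
        rw [← cancel_mono V.ι, Category.assoc, Scheme.Hom.resLE_comp_ι, IsOpenImmersion.lift_fac_assoc,
          IsOpenImmersion.lift_fac, Category.assoc, WidePullback.π_arrow])
    have hab : b ≫ a' = 𝟙 _ := by
      rw [← cancel_mono Ω.ι, Category.assoc, IsOpenImmersion.lift_fac, Category.id_comp]
      apply WidePullback.hom_ext <;> intros <;>
        simp [a, b, IsOpenImmersion.lift_fac]
    have hba : a' ≫ b = 𝟙 _ := by
      apply WidePullback.hom_ext
      · intro i
        rw [← cancel_mono U.ι]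
        simp [a, a', b, IsOpenImmersion.lift_fac, IsOpenImmersion.lift_fac_assoc]
      · rw [← cancel_mono V.ι]
        simp [a, a', b, IsOpenImmersion.lift_fac, IsOpenImmersion.lift_fac_assoc]
    haveI : IsIso b := ⟨a', hab, hba⟩
    exact IsAffine.of_isIso b

  have hperm : ∀ σ : Equiv.Perm (Fin d), (SymProd.permHom f d σ) ⁻¹ᵁ Ω = Ω := fun σ => by
    ext z
    show (SymProd.permHom f d σ).base z ∈ Ω ↔ z ∈ Ω
    have hp : ∀ i, p i ((SymProd.permHom f d σ).base z) = p (σ.symm i) z := fun i => by
      show (SymProd.permHom f d σ ≫ WidePullback.π (fun _ : Fin d => f) i).base z = _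
      rw [SymProd.permHom_π]
    rw [hmem', hmem']
    exact ⟨fun h i => by simpa [hp] using h (σ i), fun h i => by rw [hp]; exact h _⟩
  have hpre : q ⁻¹' (q '' (Ω : Set _)) = Ω := by
    refine Set.Subset.antisymm ?_ (Set.subset_preimage_image _ _)
    rintro z ⟨w, hw, hwz⟩
    obtain ⟨σ, hσ⟩ := (SGA1Quot.eq_iff hq.isQuot w z).1 hwz
    rw [← hσ, SymProd.permActU_hom]
    exact (hperm σ.down).ge hw
  let W' : Y.Opens := ⟨q '' (Ω : Set _), (SGA1Quot.isQuotientMap hq.isQuot).isOpen_preimage.1 (by
    rw [hpre]; exact Ω.isOpen)⟩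
  have hW' : q ⁻¹ᵁ W' = Ω := TopologicalSpace.Opens.ext hpre
  refine ⟨V, hV𝒮, U, hU, hgV, Ω, ?_, hΩa, hperm, W', ⟨x, (hmem' x).2 fun i => hgT (Finset.mem_image.2 ⟨i, Finset.mem_univ _, rfl⟩), rfl⟩,
    SGA1Quot.isAffineOpen_of_preimage hq.isQuot (hW'.symm ▸ hΩa), hW'⟩
  ext z
  simp only [Set.mem_iInter, Set.mem_preimage, SetLike.mem_coe, hmem', p]

end Groth.Agent.S13605
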