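import Groth.Statements.S17692
import Groth.Agent.FlatMor12.MorSInj
-- import your own Groth.Agent.* helpers here

set_option autoImplicit false
set_option backward.isDefEq.respectTransparency false
set_option backward.isDefEq.respectTransparency.types false
universe u
open CategoryTheory CategoryTheory.Limits AlgebraicGeometry
open WeilRes

namespace Groth.Agent.S17692

open CategoryTheory Limits AlgebraicGeometry Opposite in
theorem injective_fst {S S' : Scheme.{u}} (f : S' ⟶ S) (hf : FlatMor.IsUnivHomeo f) (T : Over S) :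
    Function.Injective (pullback.fst T.hom f) :=
  (hf _ _ _ (IsPullback.of_hasPullback T.hom f)).bijective.1

open CategoryTheory Limits AlgebraicGeometry Opposite in
theorem exists_weilRes {S S' : Scheme.{u}} (f : S' ⟶ S) (hf : Mor2.IsFinLocFree f)
    (hi : ∀ T : Over S, Function.Injective (pullback.fst T.hom f)) (X' : Over S') :
    ∃ (R : Over S) (q : Red.bc f R ⟶ X'), WeilRes.IsWeilRes f X' R q := by
  haveI := hf.1
  obtain ⟨⟨W₁, ⟨e₁⟩⟩⟩ := Groth.Agent.FlatMor12.MorSInj.isRepresentable f (X'.hom ≫ f) hf hi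
  obtain ⟨W₂, -, ⟨e₂⟩⟩ := Groth.Agent.FlatMor12.MorSLocal.exists_representableBy f f hf
  have n₁ : ∀ {T T' : Over S} (t : T' ⟶ T) (a : T ⟶ W₁),
      (e₁.homEquiv (t ≫ a)).left = ((Over.pullback f).map t).left ≫ (e₁.homEquiv a).left := fun t a => by
    rw [e₁.homEquiv_comp]
    rfl
  have n₂ : ∀ {T T' : Over S} (t : T' ⟶ T) (a : T ⟶ W₂),
      (e₂.homEquiv (t ≫ a)).left = ((Over.pullback f).map t).left ≫ (e₂.homEquiv a).left := fun t a => by
    rw [e₂.homEquiv_comp]
    rfl
  let pp : (Flatn.morS f f).obj (op W₁) := Over.homMk ((e₁.homEquiv (𝟙 W₁)).left ≫ X'.hom)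
    ((Category.assoc _ _ _).trans (Over.w (e₁.homEquiv (𝟙 W₁))))
  let ee : (Flatn.morS f f).obj (op (Over.mk (𝟙 S))) := Over.homMk (pullback.snd (𝟙 S) f) rfl
  let m : W₁ ⟶ W₂ := e₂.homEquiv.symm pp
  let e : Over.mk (𝟙 S) ⟶ W₂ := e₂.homEquiv.symm ee
  have hm : ∀ {T : Over S} (a : T ⟶ W₁), (e₂.homEquiv (a ≫ m)).left = (e₁.homEquiv a).left ≫ X'.hom := fun {T} a => by
    rw [n₂, show (e₂.homEquiv m) = pp from e₂.homEquiv.apply_symm_apply pp]
    conv_rhs => rw [← Category.comp_id a, n₁]
    exact (Category.assoc _ _ _).symm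
  have he : ∀ {T : Over S} (t : T ⟶ Over.mk (𝟙 S)), (e₂.homEquiv (t ≫ e)).left = pullback.snd T.hom f := fun {T} t => by
    rw [n₂, show (e₂.homEquiv e) = ee from e₂.homEquiv.apply_symm_apply ee]
    exact Over.w ((Over.pullback f).map t)
  have key : ∀ {T : Over S} (a : T ⟶ W₁) (t : T ⟶ Over.mk (𝟙 S)),
      a ≫ m = t ≫ e ↔ (e₁.homEquiv a).left ≫ X'.hom = pullback.snd T.hom f := fun {T} a t => by
    rw [← hm a, ← he t]
    exact ⟨fun h => by rw [h], fun h => e₂.homEquiv.injective (Over.OverMorphism.ext h)⟩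
  let p₁ : pullback m e ⟶ W₁ := pullback.fst m e
  let q : Red.bc f (pullback m e) ⟶ X' :=
    Over.homMk (e₁.homEquiv p₁).left ((key p₁ (pullback.snd m e)).1 pullback.condition)
  have hr : ∀ {T : Over S} (h : T ⟶ pullback m e), (WeilRes.restr f q T h).left = (e₁.homEquiv (h ≫ p₁)).left :=
    fun h => (n₁ h p₁).symm
  refine ⟨pullback m e, q, fun T => ⟨fun h h' hh => ?_, fun ψ => ?_⟩⟩
  · refine pullback.hom_ext ?_ (Over.OverMorphism.ext ?_)
    · exact e₁.homEquiv.injective (Over.OverMorphism.ext ((hr h).symm.trans ((congrArg CommaMorphism.left hh).trans (hr h'))))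
    · exact ((Category.comp_id _).symm.trans (Over.w (h ≫ pullback.snd m e))).trans
        (((Category.comp_id _).symm.trans (Over.w (h' ≫ pullback.snd m e))).symm)
  · let φ : (Flatn.morS f (X'.hom ≫ f)).obj (op T) := Over.homMk ψ.left (by
      show ψ.left ≫ X'.hom ≫ f = pullback.snd T.hom f ≫ f
      rw [← Category.assoc, Over.w ψ]
      rfl)
    let t : T ⟶ Over.mk (𝟙 S) := Over.homMk T.hom (Category.comp_id _)
    have hφ : e₁.homEquiv.symm φ ≫ m = t ≫ e := (key _ t).2 (by
      rw [e₁.homEquiv.apply_symm_apply]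
      exact Over.w ψ)
    refine ⟨pullback.lift _ t hφ, Over.OverMorphism.ext ?_⟩
    rw [hr, pullback.lift_fst, e₁.homEquiv.apply_symm_apply]
    rfl

end Groth.Agent.S17692

namespace Groth.Agent.S17692

/-- Suppose f : S' → S is a finite, locally free morphism of schemes (i.e. finite, flat and locally of
finite presentation) that is also a universal homeomorphism, and let X' be an arbitrary scheme over
S' (no condition on finite sets of points lying in a common affine open). Then the Weil restriction
of X' along f is representable by an S-scheme: there exist an S-scheme R and an S'-morphism q from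
the base change R ×_S S' to X' such that, for every S-scheme T, sending an S-morphism g : T → R to
(g ×_S S') followed by q is a bijection onto the S'-morphisms T ×_S S' → X'. (The published
statement writes X' as a scheme over S; the proof treats an S'-scheme, as here.) -/
theorem result
    {S S' : Scheme.{u}} (f : S' ⟶ S) [IsFinite f] [Flat f] [LocallyOfFinitePresentation f]
    (hf : FlatMor.IsUnivHomeo f) (X' : Over S') :
    ∃ (R : Over S) (q : Red.bc f R ⟶ X'), WeilRes.IsWeilRes f X' R q := by
  exact Groth.Agent.S17692.exists_weilRes f ⟨inferInstance, inferInstance, inferInstance⟩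
    (fun T => Groth.Agent.S17692.injective_fst f hf T) X'


end Groth.Agent.S17692
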