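import Groth.Prelude.Def_CohTop
import Groth.Agent.SiteCoh.Cohomology

set_option autoImplicit false
universe u
open CategoryTheory
open CohTop

namespace Groth.Agent.S0460

open TopologicalSpace in
/-- Given an abelian sheaf F, an open U and a class ξ in H^(n+1)(U, F), there is an open covering of U
on each member of which ξ restricts to zero. -/
theorem result {X : TopCat.{u}} (F : CohTop.Ab X) (U : Opens X) (n : ℕ)
    (ξ : CohTop.HU F (n + 1) U) :
    ∃ (ι : Type u) (V : ι → Opens X) (hV : ∀ i, V i ≤ U), iSup V = U ∧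
      ∀ i, CohTop.res F (n + 1) (hV i) ξ = 0 := by
  obtain ⟨S, hS, h⟩ := Groth.Agent.SiteCoh.exists_cover_res_eq_zero F n ξ
  refine ⟨{W : Opens X // ∃ f : W ⟶ U, S.arrows f}, fun i => i.1, fun i => leOfHom i.2.choose,
    le_antisymm (iSup_le fun i => leOfHom i.2.choose) (fun x hx => ?_),
    fun i => h _ i.2.choose_spec⟩
  obtain ⟨W, f, hf, hxW⟩ := hS x hx
  exact TopologicalSpace.Opens.mem_iSup.2 ⟨⟨W, f, hf⟩, hxW⟩

end Groth.Agent.S0460
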