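import Groth.Statements.S14512
import Groth.Agent.CurveRR24.DegGroup
import Groth.Agent.CurveRR24.RatPoint
import Groth.Agent.VarietyLib.SmoothStalk
import Groth.Agent.P1Lib24.Basic
import Mathlib.AlgebraicGeometry.Morphisms.Smooth

set_option autoImplicit false
universe u
open CategoryTheory CategoryTheory.Limits AlgebraicGeometry
open Curves

namespace Groth.Agent.S14512

/-- Let k be an algebraically closed field and X a complete curve over k (integral, proper over k, of
dimension one) of arithmetic genus dim_k H^1(X, O_X) = 0. Then X is smooth over k. (Over a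
non-closed field an integral proper curve with vanishing H^1 need not be smooth, e.g. a projective
line over an inseparable extension of k viewed over k.) -/
theorem result (k : Type u) [Field k] [IsAlgClosed k] (X : Scheme.{u}) [X.Over (Spec (CommRingCat.of k))]
    [IsIntegral X] [IsProper (X ↘ (Spec (CommRingCat.of k)))] (hdim : topologicalKrullDim X = 1)
    (hg : Curv2.genus k X = 0) :
    Smooth (X ↘ (Spec (CommRingCat.of k))) := by
  classical
  set q := X ↘ Spec (CommRingCat.of k)
  haveI : LocallyOfFinitePresentation q := inferInstance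
  haveI : IsLocallyNoetherian X := Groth.Agent.CurveRR24.isLocallyNoetherian_of_proper k
  haveI := Groth.Agent.EulerLib.isNoetherian_of_proper k (X := X)
  haveI : JacobsonSpace X := LocallyOfFiniteType.jacobsonSpace q
  obtain ⟨P, hPU, hP⟩ := nonempty_inter_closedPoints (X := X)
    ⟨genericPoint X, q.genericPoint_mem_smoothLocus_of_perfectField⟩ q.smoothLocus.2.isLocallyClosed
  have hP' : IsClosed ({P} : Set X) := hP
  haveI : Smooth (q.smoothLocus.ι ≫ q) := by
    rw [← Scheme.Hom.smoothLocus_eq_top_iff, ← Scheme.Hom.preimage_smoothLocus_eq]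
    exact Scheme.Opens.ι_preimage_self _
  have hreg : IsRegularLocalRing (X.presheaf.stalk P) :=
    haveI := Groth.Agent.VarietyLib.isRegularLocalRing_stalk_of_smooth k _ (q.smoothLocus.ι ≫ q) ⟨P, hPU⟩
    IsRegularLocalRing.of_ringEquiv (q.smoothLocus.stalkIso ⟨P, hPU⟩).commRingCatIsoToRingEquiv
  obtain ⟨L, hL, hdeg⟩ : ∃ L : X.Modules, PicF.IsInvertible L ∧ Curv2.deg k X L 1 = 1 := by
    have h := (Groth.Agent.CurveRR24.degGroup k hdim.le).neg_mem
      ⟨_, Groth.Agent.CurveRR24.isInvertible_ptIdeal_of_regular k hP' hreg (Groth.Agent.CurveRR24.stalk_dim_eq_one hdim hP'),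
        Groth.Agent.CurveRR24.deg_ptIdeal k hP'⟩
    rw [neg_neg, Groth.Agent.CurveRR24.finrank_resField k hP'] at h
    exact h
  have h1 : Subsingleton (Coh.HH X (Coh.structureModule X) 1) := by
    haveI := Groth.Agent.CurveRR24.finite_HH_of_isCoh k (Groth.Agent.Coherent.isCoh_structureModule X) 1
    exact (Module.finrank_zero_iff (R := k)).1 hg
  obtain ⟨e, he⟩ := Groth.Agent.CurveRR24.exists_iso_projLine_of_h1 k hdim h1 hL hdeg
  haveI := Groth.Agent.P1Lib24.smooth_projLine k
  rw [show q = X ↘ Spec (CommRingCat.of k) from rfl, ← he]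
  infer_instance

end Groth.Agent.S14512
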