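import Groth.Statements.S3557
import Groth.Agent.ProjLib.MapLocal

set_option autoImplicit false
universe u
open CategoryTheory CategoryTheory.Limits AlgebraicGeometry
open EGA2

namespace Groth.Agent.S3557

/-- Let S be a graded ring which is essentially reduced (S_+ contains no nonzero nilpotent). Then Proj S
is an integral scheme if and only if S is essentially integral, i.e. S_+ is nonzero and the product
of two nonzero elements of S_+ is nonzero. -/
theorem result {R A : Type u} [CommRing R] [CommRing A] [Algebra R A] (𝒜 : ℕ → Submodule R A) [GradedAlgebra 𝒜]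
    (hred : ∀ f ∈ (HomogeneousIdeal.irrelevant 𝒜).toIdeal, IsNilpotent f → f = 0) :
    AlgebraicGeometry.IsIntegral (Proj 𝒜) ↔
      ((∃ f ∈ (HomogeneousIdeal.irrelevant 𝒜).toIdeal, f ≠ 0) ∧
        ∀ f ∈ (HomogeneousIdeal.irrelevant 𝒜).toIdeal, ∀ g ∈ (HomogeneousIdeal.irrelevant 𝒜).toIdeal,
          f * g = 0 → f = 0 ∨ g = 0) := by
  have hred' := Groth.Agent.ProjLib.proj_isReduced 𝒜 hred
  have hirr := Groth.Agent.ProjLib.isIrreducible_iff_prime_on_irrelevant 𝒜 Set.univ isClosed_univ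
  have hmem : ∀ f ∈ (HomogeneousIdeal.irrelevant 𝒜).toIdeal,
      (f ∈ (ProjectiveSpectrum.vanishingIdeal (𝒜 := 𝒜) Set.univ).toIdeal ↔ f = 0) := fun f hf =>
    ⟨fun h => hred f hf (Groth.Agent.ProjLib.isNilpotent_of_forall_mem 𝒜 hf fun x =>
        (ProjectiveSpectrum.mem_vanishingIdeal _ f).mp h x trivial),
      fun h => h ▸ zero_mem _⟩
  constructor
  · intro h
    have hS : IsIrreducible (Set.univ : Set (ProjectiveSpectrum 𝒜)) :=
      IrreducibleSpace.isIrreducible_univ (Proj 𝒜)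
    obtain ⟨h1, h2⟩ := hirr.mp hS
    obtain ⟨f, hf, hfI⟩ := SetLike.not_le_iff_exists.mp h1
    refine ⟨⟨f, hf, fun h0 => hfI ((hmem f hf).mpr h0)⟩, fun f hf g hg hfg => ?_⟩
    refine (h2 f hf g hg ?_).imp (hmem f hf).mp (hmem g hg).mp
    rw [hfg]; exact zero_mem _
  · rintro ⟨⟨f, hf, hf0⟩, hdom⟩
    have hS := hirr.mpr ⟨fun hle => hf0 ((hmem f hf).mp (hle hf)), fun a ha b hb hab =>
      (hdom a ha b hb ((hmem _ (Ideal.mul_mem_left _ a hb)).mp hab)).imp
        (hmem a ha).mpr (hmem b hb).mpr⟩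
    have : IrreducibleSpace (Proj 𝒜) := irreducibleSpace_def _ |>.mpr hS
    exact isIntegral_of_irreducibleSpace_of_isReduced _

end Groth.Agent.S3557
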