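import Groth.Statements.S4442
import Groth.Agent.DimLib.Maximal
import Groth.Agent.DimLib.OverBridge
import Groth.Agent.DimLib.Morphism

set_option autoImplicit false
universe u
open CategoryTheory CategoryTheory.Limits AlgebraicGeometry
attribute [local instance] Curv2.resAlgebra
open EGA2

namespace Groth.Agent.S4442

/-- (a) ⇔ (b): let X be a scheme of finite type over a field k. The residue fields of the generic points
of the irreducible components of X all have transcendence degree one over k if and only if the local
ring of X at every closed point has dimension one. (The published statement has a third equivalent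
condition: the irreducible closed subsets of X other than the irreducible components are exactly the
closed points of X. This row states only the equivalence of the first two.) -/
theorem result (k : Type u) [Field k] (X : Scheme.{u})
    [X.Over (Spec (CommRingCat.of k))] [LocallyOfFiniteType (X ↘ (Spec (CommRingCat.of k)))]
    [QuasiCompact (X ↘ (Spec (CommRingCat.of k)))] :
    (∀ x : X, closure ({x} : Set X) ∈ irreducibleComponents (X : Type u) → Algebra.trdeg k (X.residueField x) = 1) ↔
      ∀ x : X, IsClosed ({x} : Set X) → ringKrullDim (X.presheaf.stalk x) = 1 := by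
  let p := X ↘ Spec (CommRingCat.of k)
  have hpt : ∀ x : X, Algebra.trdeg k (X.residueField x) = 1 ↔ DimLib.ptDim p x = 1 := fun x ↦ by
    rw [DimLib.ptDim, DimLib.baseRingHom_eq_resMap]
    exact Cardinal.toNat_eq_one.symm
  have hmax : ∀ x : X, closure ({x} : Set X) ∈ irreducibleComponents (X : Type u) ↔ ∀ z, z ⤳ x → x = z :=
    fun x ↦ ⟨fun h z hz ↦ (((DimLib.mem_components_iff x).1 h z hz).antisymm hz).eq,
      DimLib.closure_mem_components⟩
  have hdim : ∀ x : X, ringKrullDim (X.presheaf.stalk x) = 1 ↔ ¬ IsMax x ∧ ∀ y > x, IsMax y := fun x ↦ by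
    rw [ringKrullDim_stalk_eq_coheight,
      show (Order.coheight x : WithBot ℕ∞) = 1 ↔ Order.coheight x = ((1 : ℕ) : ℕ∞) from
        WithBot.coe_eq_one.trans (by rw [Nat.cast_one]), le_antisymm_iff, Order.coheight_le_coe_iff,
      Nat.cast_one, Order.one_le_iff_pos, pos_iff_ne_zero, ne_eq, Order.coheight_eq_zero, and_comm]
    simp only [Order.lt_one_iff, Order.coheight_eq_zero]
  have hIsMax : ∀ x : X, IsMax x ↔ ∀ z, z ⤳ x → x = z := fun x ↦
    ⟨fun h z hz ↦ ((show x ⤳ z from h hz).antisymm hz).eq, fun h y hy ↦ h y hy ▸ le_rfl⟩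
  constructor
  · intro H c hc
    have hc0 := (DimLib.ptDim_eq_zero_iff p c).2 hc
    refine (hdim c).2 ⟨fun h ↦ ?_, fun y hy ↦ ?_⟩
    · have := (hpt c).1 (H c ((hmax c).2 ((hIsMax c).1 h)))
      omega
    · rw [hIsMax]
      intro z hz
      by_contra hne
      obtain ⟨η, hη, hηm⟩ := DimLib.exists_maximal_specializes z
      have h1 := (hpt η).1 (H η ((hmax η).2 hηm))
      have h2 := DimLib.ptDim_le_of_specializes p hη
      have h3 := DimLib.ptDim_lt_of_specializes p hz (Ne.symm hne)
      have h4 := DimLib.ptDim_lt_of_specializes p (show y ⤳ c from hy.le)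
        (fun e ↦ lt_irrefl c (e ▸ hy))
      omega
  · intro H x hx
    rw [hpt]
    replace hx := (hmax x).1 hx
    have : JacobsonSpace X := LocallyOfFiniteType.jacobsonSpace p
    obtain ⟨c, hcx, hc⟩ := nonempty_inter_closedPoints (X := X) (Z := closure {x})
      (Set.Nonempty.closure ⟨x, rfl⟩) isClosed_closure.isLocallyClosed
    have hxc : x ⤳ c := specializes_iff_mem_closure.2 hcx
    obtain ⟨hc1, hc2⟩ := (hdim c).1 (H c hc)
    have hne : x ≠ c := fun e ↦ hc1 ((hIsMax c).2 (e ▸ hx))
    obtain ⟨y, hxy, hyc, hy⟩ := DimLib.exists_specializes_ptDim_succ p hxc hne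
    rw [(DimLib.ptDim_eq_zero_iff p c).2 hc] at hy
    have hyne : ¬ y ≤ c := fun h ↦ by
      have := DimLib.ptDim_le_of_specializes p (show c ⤳ y from h)
      have := (DimLib.ptDim_eq_zero_iff p c).2 hc
      omega
    rw [← ((hIsMax y).1 (hc2 y (lt_of_le_not_ge hyc hyne)) x hxy)]
    exact hy

end Groth.Agent.S4442
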