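import Groth.Prelude.Def_CohCx
import Groth.Agent.SiteCoh.ExtAcyclic
import Mathlib.CategoryTheory.Sites.MayerVietorisSquare

set_option autoImplicit false
universe u
open CategoryTheory
open CohSite

namespace Groth.Agent.S0864

/-- A totally acyclic abelian sheaf F on a site satisfies H^p(U, F) = 0 for every object U and every p >
0. -/
theorem result {C : Type u} [SmallCategory C] {J : GrothendieckTopology C}
    (F : Sheaf J AddCommGrpCat.{u}) (hF : CohCx.IsTotallyAcyclic F) (U : C) (p : ℕ) :
    Subsingleton (CohSite.HU F (p + 1) U) := by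
  have : (AddCommGrpCat.free.{u}).IsLeftAdjoint := AddCommGrpCat.adj.isLeftAdjoint
  have := hF ((presheafToSheaf J (Type u)).obj (yoneda.obj U)) p
  have : Subsingleton (Abelian.Ext ((presheafToSheaf J (Type u) ⋙
      Sheaf.composeAndSheafify J AddCommGrpCat.free.{u}).obj (yoneda.obj U)) F (p + 1)) := this
  exact Groth.Agent.SiteCoh.subsingleton_ext_of_iso
    ((presheafToSheafCompComposeAndSheafifyIso J AddCommGrpCat.free.{u}).app (yoneda.obj U)).symm
    (p + 1)

end Groth.Agent.S0864
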