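import Groth.Statements.S5165
import Groth.Agent.LocCoh.FaltingsRegular

set_option autoImplicit false
universe u
open CategoryTheory
open LocCoh

namespace Groth.Agent.S5165

/-- Suppose A is a regular Noetherian ring and consider a finitely generated A-module M. Then some
natural number d bounds the projective dimension of M (equivalently, p ↦ proj.dim M_p stays bounded
as p ranges over Spec A, and this holds even if the Krull dimension of A is infinite). -/
theorem result (A : Type u) [CommRing A] [IsRegularRing A] (M : Type u) [AddCommGroup M] [Module A M] [Module.Finite A M] : ∃ d : ℕ, HasProjectiveDimensionLE (ModuleCat.of A M) d := by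
  obtain ⟨T, hT⟩ := Groth.Agent.LocCoh.exists_pdLE_bound (R := A) M
  refine ⟨T, ((ModuleCat.of A M).hasProjectiveDimensionLE_iff_forall_primeSpectrum T).2 fun p => ?_⟩
  exact (Groth.Agent.CommAlg6.pdLE_congr (M := ((ModuleCat.of A M).localizedModule p.asIdeal.primeCompl : Type u))
    (Shrink.linearEquiv (Localization.AtPrime p.asIdeal) (LocalizedModule p.asIdeal.primeCompl M)) T).2 (hT p)

end Groth.Agent.S5165
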