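import Groth.Statements.S0590
import Groth.Agent.H8Lim.Approximation
import Mathlib

set_option backward.isDefEq.respectTransparency.types false

set_option autoImplicit false
universe u
open CategoryTheory AlgebraicGeometry
open Lim

namespace Groth.Agent.S0590

/-- Every quasi-compact quasi-separated scheme is the limit of an inverse system, indexed by a nonempty
directed preorder, of quasi-compact schemes locally of finite type over the integers with affine
transition morphisms. -/
theorem result (S : Scheme.{u}) [CompactSpace S] [QuasiSeparatedSpace S] :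
    ∃ (I : Type u) (_ : Preorder I) (_ : IsDirected I (fun a b => a ≤ b)) (_ : Nonempty I)
      (D : Iᵒᵖ ⥤ Scheme.{u}) (c : Limits.Cone D) (_ : Limits.IsLimit c),
      (∀ (i j : Iᵒᵖ) (f : i ⟶ j), IsAffineHom (D.map f)) ∧
      (∀ i, CompactSpace (D.obj i) ∧
        LocallyOfFiniteType (Limits.IsTerminal.from specULiftZIsTerminal (D.obj i))) ∧
      Nonempty (c.pt ≅ S) := by
  have : IsNoetherianRing (ULift.{u} ℤ) := isNoetherianRing_of_ringEquiv ℤ ULift.ringEquiv.symm
  have : IsLocallyNoetherian (Spec (CommRingCat.of (ULift.{u} ℤ))) := inferInstance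
  obtain ⟨S₁, a, f₁, ha, hc, hqs, hlft, -⟩ :=
    H8Lim.exists_isAffineHom_locallyOfFiniteType (specULiftZIsTerminal.from S)
  refine ⟨H8Lim.Family a, inferInstance, inferInstance, inferInstance, H8Lim.Family.diagram a,
    H8Lim.Family.cone a, (H8Lim.Family.isLimit_cone a).some, fun i j f ↦ inferInstance, fun i ↦ ⟨?_, ?_⟩,
    ⟨Iso.refl _⟩⟩
  · show CompactSpace i.unop.alg.spec
    have : IsAffineHom i.unop.alg.π := i.unop.alg.isAffineHom_π
    exact QuasiCompact.compactSpace_of_compactSpace i.unop.alg.π
  · have h : LocallyOfFiniteType (i.unop.alg.π ≫ f₁) := inferInstance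
    rwa [specULiftZIsTerminal.hom_ext (i.unop.alg.π ≫ f₁) (specULiftZIsTerminal.from _)] at h

end Groth.Agent.S0590
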