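import Groth.Statements.S1530
import Groth.Agent.EulerLib.Positive
import Groth.Agent.CurveRR24.Ample

set_option autoImplicit false
universe u
open CategoryTheory CategoryTheory.Limits AlgebraicGeometry
open Variety
open Groth.Agent

namespace Groth.Agent.S1530

theorem support_structureModule_eq (X : Scheme.{u}) :
    CohB1.support (Coh.structureModule X) = Set.univ := by
  refine Set.eq_univ_of_forall fun x h => ?_
  haveI := h
  let P := (Coh.structureModule X).presheaf
  have h1 : P.germ ⊤ x trivial (1 : Γ(X, ⊤)) = P.germ ⊤ x trivial (0 : Γ(X, ⊤)) := Subsingleton.elim _ _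
  obtain ⟨W, hxW, i, i', hW⟩ := P.germ_eq x (U := ⊤) (V := ⊤) trivial trivial _ _ h1
  have h2 : X.presheaf.map i.op (1 : Γ(X, ⊤)) = X.presheaf.map i'.op (0 : Γ(X, ⊤)) := hW
  rw [map_one, map_zero] at h2
  haveI : Nonempty W := ⟨⟨x, hxW⟩⟩
  exact one_ne_zero h2

/-- On a proper curve over a field, an invertible module is ample if and only if its degree is positive. -/
theorem result (k : Type u) [Field k] (X : Scheme.{u}) [X.Over (Spec (CommRingCat.of k))]
    [IsIntegral X] [IsProper (X ↘ (Spec (CommRingCat.of k)))] (hdim : topologicalKrullDim X = 1)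
    (L : X.Modules) (hL : PicF.IsInvertible L) :
    CohB1.IsAmple L ↔ 0 < Curv2.deg k X L 1 := by
  haveI : IsNoetherian X := EulerLib.isNoetherian_of_proper (X := X) k
  haveI : IsLocallyNoetherian X := inferInstance
  refine ⟨fun h => ?_, fun h => CurveRR24.isAmple_of_deg_pos k hdim hL h⟩
  have hO : Coh.IsCoh (Coh.structureModule X) := Coherent.isCoh_structureModule X
  have hsupp : topologicalKrullDim (CohB1.support (Coh.structureModule X)) = (1 : ℕ) := by
    rw [support_structureModule_eq X]
    rw [(Homeomorph.Set.univ (X : Type u)).isHomeomorph.topologicalKrullDim_eq, hdim]; rfl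
  have hp := EulerLib.interDeg_pos k 1 (fun _ => L) (fun _ => h) (Coh.structureModule X) hO hsupp
  have e : (fun i : Fin 1 => EulerLib.InvCl.mk L hL) =
      Fin.cons (EulerLib.InvCl.mk L hL) (fun i : Fin 0 => i.elim0) := by
    funext i; fin_cases i; rfl
  rw [e, EulerLib.interDeg_cons, EulerLib.interDeg_zero, EulerLib.chiCl_mul, EulerLib.chiCl_one,
    EulerLib.chiCl_one, EulerLib.euler_congr k X (AmpleLib.unitTensorIso L)] at hp
  simpa [Curv2.deg] using hp

end Groth.Agent.S1530
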