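import Groth.Statements.S4466
import Mathlib.Algebra.Order.Antidiag.FinsuppEquiv
import Groth.Agent.S0843
import Groth.Agent.S0844
import Groth.Agent.S0845

set_option autoImplicit false
universe u
open Coherent

namespace Groth.Agent.PnChi
open MvPolynomial AlgebraicGeometry CategoryTheory
variable (k : Type u) [Field k] (r : ℕ)

theorem finrank_homogeneous (d : ℕ) :
    Module.finrank k (homogeneousSubmodule (Fin (r + 1)) k d) = Nat.choose (d + r) r := by
  classical
  have e : homogeneousSubmodule (Fin (r + 1)) k d = restrictSupport k {s | s.degree = d} :=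
    homogeneousSubmodule_eq_finsupp_supported _ _ d
  have hs : {s : Fin (r + 1) →₀ ℕ | s.degree = d} = ↑((Finset.univ : Finset (Fin (r + 1))).finsuppAntidiag d) := by
    ext s; simp [Finsupp.degree_eq_sum]
  rw [e, hs, Module.finrank_eq_card_basis (basisRestrictSupport k _)]
  simp only [Finset.coe_sort_coe, Fintype.card_coe]
  rw [Finset.card_finsuppAntidiag_nat_eq_choose, Finset.card_univ, Fintype.card_fin,
    show r + 1 + d - 1 = d + r by omega]
  exact Nat.choose_symm_of_eq_add rfl

theorem euler_twist (hr : 0 < r) (n : ℤ) :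
    ((Finset.range (r + 1)).sum fun j => (-1 : ℤ) ^ j *
        (Module.finrank k (Coh.HH (CohB1.ProjSpace r k) (Twist.twistProjSpace r k n) j) : ℤ)) =
      Ring.choose (n + r) r := by
  have hzero : ∀ j, ¬ (j = 0 ∧ 0 ≤ n) → ¬ (j = r ∧ n ≤ -((r : ℤ) + 1)) →
      (-1 : ℤ) ^ j * (Module.finrank k (Coh.HH (CohB1.ProjSpace r k) (Twist.twistProjSpace r k n) j) : ℤ) = 0 := by
    intro j h1 h2
    haveI := Groth.Agent.S0844.result k r n j h1 h2
    rw [Module.finrank_zero_of_subsingleton, Nat.cast_zero, mul_zero]
  by_cases hn : 0 ≤ n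
  · obtain ⟨d, rfl⟩ := Int.eq_ofNat_of_zero_le hn
    rw [Finset.sum_eq_single_of_mem 0 (by simp) fun j _ hj => hzero j (by simp [hj]) (by omega)]
    obtain ⟨e⟩ := Groth.Agent.S0843.result k r d
    rw [e.finrank_eq, finrank_homogeneous, pow_zero, one_mul, ← Nat.cast_add, Ring.choose_natCast]
  by_cases hn' : n ≤ -((r : ℤ) + 1)
  · obtain ⟨m, rfl⟩ : ∃ m : ℕ, n = -((r : ℤ) + 1 + m) :=
      ⟨(-((r : ℤ) + 1) - n).toNat, by omega⟩
    rw [Finset.sum_eq_single_of_mem r (by simp) fun j _ hj => hzero j (by omega) (by simp [hj])]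
    obtain ⟨e⟩ := Groth.Agent.S0845.result k r m
    rw [e.finrank_eq, finrank_homogeneous, show -((r : ℤ) + 1 + m) + r = -((m + 1 : ℕ) : ℤ) by push_cast; ring,
      Ring.choose_neg, show (((m + 1 : ℕ) : ℤ) + r - 1) = ((m + r : ℕ) : ℤ) by push_cast; ring,
      Ring.choose_natCast, Units.smul_def, smul_eq_mul, Int.coe_negOnePow_natCast]
  · obtain ⟨s, hs⟩ := Int.eq_ofNat_of_zero_le (show 0 ≤ n + r by omega)
    rw [Finset.sum_eq_zero fun j _ => hzero j (by omega) (by omega), hs, Ring.choose_natCast,
      Nat.choose_eq_zero_of_lt (by omega), Nat.cast_zero]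

end Groth.Agent.PnChi

namespace Groth.Agent.S4466

open AlgebraicGeometry CategoryTheory in
/-- Let k be a field, r > 0 and n any integer. Then the Euler characteristic of the twisting sheaf O(n)
on projective r-space over k, namely the alternating sum of the dimensions of H^j(P^r_k, O(n)) for 0
≤ j ≤ r, equals the binomial coefficient C(n+r, r), understood as the binomial polynomial evaluated
at the integer n+r (so that it makes sense and is correct for negative n too). -/
theorem result (k : Type u) [Field k] (r : ℕ) (hr : 0 < r)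
    (n : ℤ) :
    ((Finset.range (r + 1)).sum fun j => (-1 : ℤ) ^ j *
        (Module.finrank k (Coh.HH (CohB1.ProjSpace r k) (Twist.twistProjSpace r k n) j) : ℤ)) =
      Ring.choose (n + r) r := by
  open Groth.Agent.PnChi in
  exact euler_twist k r hr n

end Groth.Agent.S4466
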