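import Groth.Statements.S0054
import Groth.Agent.Coherent.Serre.SpreadAmple

set_option autoImplicit false
set_option backward.isDefEq.respectTransparency false
universe u
open Coherent

namespace Groth.Agent.S0054

open AlgebraicGeometry CategoryTheory in
/-- Let f : X → Y be proper with Y Noetherian, L invertible on X, and y a point such that the pullback
of L to the fibre X_y is ample. Then there is an open neighbourhood V of y such that L is ample on
f⁻¹(W) for every affine open W ⊆ V (i.e. L is relatively ample over V). -/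
theorem result {X Y : Scheme.{u}} (f : X ⟶ Y) [IsProper f] [IsNoetherian Y]
    (L : X.Modules) (hL : PicF.IsInvertible L) (y : Y)
    (hy : CohB1.IsAmple ((Scheme.Modules.pullback (f.fiberι y)).obj L)) :
    ∃ V : Y.Opens, y ∈ V ∧ ∀ W : Y.Opens, W ≤ V → IsAffineOpen W →
      CohB1.IsAmple (L.restrict (f ⁻¹ᵁ W).ι) := by
  classical
  obtain ⟨V₀, hV', hyV, -⟩ := TopologicalSpace.Opens.isBasis_iff_nbhd.mp Y.isBasis_affineOpens
    (TopologicalSpace.Opens.mem_top y)
  let V : Y.Opens := V₀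
  have hV : IsAffineOpen V := hV'
  let A := Γ(Y, V)
  let P : Scheme.{u} := (f ⁻¹ᵁ V).toScheme
  letI : P.Over (Spec (CommRingCat.of A)) := ⟨Coherent.toSpecSections f hV⟩
  have : IsNoetherianRing A := IsLocallyNoetherian.component_noetherian ⟨V, hV⟩
  have : IsProper (P ↘ Spec (CommRingCat.of A)) :=
    inferInstanceAs (IsProper ((f ∣_ V) ≫ hV.isoSpec.hom))
  let _ : Algebra A (Y.presheaf.stalk y) := (Y.presheaf.germ V y hyV).hom.toAlgebra
  let p := hV.primeIdealOf ⟨y, hyV⟩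
  have hloc : IsLocalization p.asIdeal.primeCompl (Y.presheaf.stalk y) :=
    hV.isLocalization_stalk ⟨y, hyV⟩
  let sG : Spec (CommRingCat.of (Y.presheaf.stalk y)) ⟶ Spec (CommRingCat.of A) :=
    Spec.map (CommRingCat.ofHom (algebraMap A (Y.presheaf.stalk y)))
  have hfac : sG ≫ hV.fromSpec = Y.fromSpecStalk y := by
    rw [← hV.fromSpecStalk_eq_fromSpecStalk hyV]
    rfl
  have hP := Coherent.isPullback_toSpecSections f hV
  have hsq := Coherent.Serre.isPullback_atPoint f y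
  let g₁ : Coherent.Serre.atPoint f y ⟶ P :=
    hP.lift (Coherent.Serre.atPointι f y)
      ((Coherent.Serre.atPoint f y ↘ Spec (CommRingCat.of (Y.presheaf.stalk y))) ≫ sG)
      (by rw [Category.assoc, hfac]; exact hsq.w)
  have hsq₁ : IsPullback g₁ (Coherent.Serre.atPoint f y ↘ Spec (CommRingCat.of (Y.presheaf.stalk y)))
      (P ↘ Spec (CommRingCat.of A)) sG := by
    refine IsPullback.of_right ?_ (hP.lift_snd _ _ _) hP
    rw [hP.lift_fst, hfac]
    exact hsq
  obtain ⟨s, hs, hAs⟩ := Coherent.Serre.exists_isAmple_basicOpen p hsq₁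
    (PicLoc.isInvertible_pullback (f ⁻¹ᵁ V).ι hL)
    (AmpleLib.isAmple_of_iso ((Scheme.Modules.pullbackComp g₁ (f ⁻¹ᵁ V).ι).app L ≪≫
      (Scheme.Modules.pullbackCongr (hP.lift_fst _ _ _)).app L).symm
      (Coherent.Serre.isAmple_atPoint f y hL hy))
  refine ⟨Y.basicOpen s, ?_, fun W hW hWa => ?_⟩
  · have h1 : p ∈ hV.fromSpec ⁻¹ᵁ Y.basicOpen s := by
      rw [hV.fromSpec_preimage_basicOpen]; exact hs
    have h2 : hV.fromSpec p ∈ Y.basicOpen s := h1
    rwa [hV.fromSpec_primeIdealOf] at h2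
  refine AmpleLib.isAmple_of_iso (AmpleLib.restrictIsoPullback (f ⁻¹ᵁ W).ι L).symm ?_
  have hle : f ⁻¹ᵁ W ≤ f ⁻¹ᵁ V := fun x hx => Y.basicOpen_le s (hW hx)
  let k : (f ⁻¹ᵁ W).toScheme ⟶ P := X.homOfLE hle
  have : CompactSpace (f ⁻¹ᵁ W).toScheme :=
    isCompact_iff_compactSpace.1 (f.isCompact_preimage hWa.isCompact)
  refine AmpleLib.isAmple_of_iso ((Scheme.Modules.pullbackComp k (f ⁻¹ᵁ V).ι).app L ≪≫
    (Scheme.Modules.pullbackCongr (X.homOfLE_ι hle)).app L) ?_
  refine AmpleLib.isAmple_pullback_of_range_subset k k.isOpenEmbedding.isEmbedding _ ?_ hAs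
  rintro _ ⟨z, rfl⟩
  rw [← Coherent.Serre.preimage_specBasicOpen_over]
  show (P ↘ Spec (CommRingCat.of A)) (k z) ∈ PrimeSpectrum.basicOpen s
  have h3 : hV.fromSpec ((P ↘ Spec (CommRingCat.of A)) (k z)) ∈ Y.basicOpen s := by
    have e : (f ⁻¹ᵁ V).ι ≫ f = (P ↘ Spec (CommRingCat.of A)) ≫ hV.fromSpec := hP.w
    have e2 : f ((f ⁻¹ᵁ V).ι (k z)) = hV.fromSpec ((P ↘ Spec (CommRingCat.of A)) (k z)) :=
      congrArg (fun φ : P ⟶ Y => φ (k z)) e
    rw [← e2, ← Scheme.Hom.comp_apply k, X.homOfLE_ι]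
    exact hW z.2
  have h4 : (P ↘ Spec (CommRingCat.of A)) (k z) ∈ hV.fromSpec ⁻¹ᵁ Y.basicOpen s := h3
  rwa [hV.fromSpec_preimage_basicOpen] at h4

end Groth.Agent.S0054
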