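import Groth.Statements.S1833
import Mathlib
import Groth.Agent.CycAlgLib.RLen
import Groth.Agent.AssSch12.Mult

set_option autoImplicit false
universe u v
open Pointwise
open CycAlg

namespace Groth.Agent.S1833

/-- Let R be Noetherian local, M a finite R-module whose support has dimension at most 1, and x an
element with M/xM supported in dimension ≤ 0. Then length(M/xM) = length(ker(x : M → M)) + Σ_q
ord_{R/q}(x) · length_{R_q}(M_q), the sum running over the primes q of the support other than the
maximal ideal (stated in ℕ∞; all terms are finite under the hypotheses). -/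
theorem result (R : Type u) [CommRing R] [IsNoetherianRing R] [IsLocalRing R] (M : Type u) [AddCommGroup M] [Module R M] [Module.Finite R M] (x : R) (h1 : Module.supportDim R M ≤ 1) (h0 : Module.supportDim R (M ⧸ x • (⊤ : Submodule R M)) ≤ 0) : Module.length R (M ⧸ x • (⊤ : Submodule R M)) = Module.length R (LinearMap.ker (LinearMap.lsmul R M x)) + ∑ᶠ (p : PrimeSpectrum R) (_ : p ∈ Module.support R M ∧ p.asIdeal ≠ IsLocalRing.maximalIdeal R), Ring.ord (R ⧸ p.asIdeal) (Ideal.Quotient.mk p.asIdeal x) * Module.length (Localization.AtPrime p.asIdeal) (LocalizedModule p.asIdeal.primeCompl M) := by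
  open Groth.Agent.AssSch12 in
    classical
    have hX : Module.length R (M ⧸ x • (⊤ : Submodule R M)) = Module.length R (coTor x M) := by
      refine (Submodule.quotEquivOfEq _ _ ?_).length_eq
      ext z
      rw [Submodule.mem_smul_pointwise_iff_exists]
      exact ⟨fun ⟨y, _, hy⟩ => ⟨y, hy⟩, fun ⟨y, hy⟩ => ⟨y, trivial, hy⟩⟩
    rw [hX]
    by_cases hx : IsUnit x
    · have hk : LinearMap.ker (LinearMap.lsmul R M x) = ⊥ := LinearMap.ker_eq_bot.mpr fun a b h => (hx.smul_left_cancel).mp (by simpa using h)
      have hr : LinearMap.range (LinearMap.lsmul R M x) = ⊤ := LinearMap.range_eq_top.mpr fun a =>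
        ⟨(↑hx.unit⁻¹ : R) • a, by rw [LinearMap.lsmul_apply, smul_smul, IsUnit.mul_val_inv, one_smul]⟩
      haveI : Subsingleton (coTor x M) := Submodule.Quotient.subsingleton_iff.mpr hr
      rw [Module.length_eq_zero, hk, Module.length_bot, zero_add, finsum_eq_zero_of_forall_eq_zero]
      intro p
      rw [finsum_eq_if]
      split_ifs
      · rw [Ring.ord_of_isUnit (hx.map _), zero_mul]
      · rfl
    by_cases hsupp : Module.support R M ⊆ {IsLocalRing.closedPoint R}
    · have hfin := Groth.Agent.CycAlgLib.length_lt_top_of_support_subset hsupp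
      have h1' : Module.length R M = Module.length R (LinearMap.ker (LinearMap.lsmul R M x)) +
          Module.length R (LinearMap.range (LinearMap.lsmul R M x)) :=
        Module.length_eq_add_of_exact (LinearMap.ker (LinearMap.lsmul R M x)).subtype (LinearMap.lsmul R M x).rangeRestrict
          Subtype.val_injective (LinearMap.surjective_rangeRestrict _)
          (fun y => by simp [Subtype.ext_iff, LinearMap.mem_ker])
      have h2' : Module.length R M = Module.length R (LinearMap.range (LinearMap.lsmul R M x)) +
          Module.length R (coTor x M) :=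
        Module.length_eq_add_of_exact (LinearMap.range (LinearMap.lsmul R M x)).subtype (LinearMap.range (LinearMap.lsmul R M x)).mkQ
          Subtype.val_injective (Submodule.mkQ_surjective _) (LinearMap.exact_subtype_mkQ _)
      have hne : Module.length R (LinearMap.range (LinearMap.lsmul R M x)) ≠ ⊤ := fun h => hfin.ne (by rw [h2', h, top_add])
      rw [finsum_eq_zero_of_forall_eq_zero, add_zero]
      · rw [h1', add_comm] at h2'
        exact ((ENat.addLECancellable_of_ne_top hne).inj.1 h2').symm
      · intro p
        rw [finsum_eq_if, if_neg]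
        rintro ⟨hp, hne'⟩
        exact hne' (congrArg PrimeSpectrum.asIdeal (Set.mem_singleton_iff.1 (hsupp hp)))
    have hmem : ∀ q : PrimeSpectrum R, q ∈ Module.support R M ↔ Module.annihilator R M ≤ q.asIdeal := by
      intro q
      rw [Module.support_eq_zeroLocus, PrimeSpectrum.mem_zeroLocus, SetLike.coe_subset_coe]
    have D : DimOne (Module.annihilator R M) x := by
      refine ⟨(IsLocalRing.mem_maximalIdeal x).mpr hx, fun q hq hIq hxq => ?_, fun hm => hsupp fun q hq => ?_⟩
      · by_contra hne
        have hqQ : (⟨q, hq⟩ : PrimeSpectrum R) ∈ Module.support R (M ⧸ x • (⊤ : Submodule R M)) := by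
          rw [← Submodule.ideal_span_singleton_smul, Module.support_quotient]
          exact ⟨(hmem _).2 hIq, by simpa using hxq⟩
        have hcQ : IsLocalRing.closedPoint R ∈ Module.support R (M ⧸ x • (⊤ : Submodule R M)) :=
          Module.mem_support_mono (show (⟨q, hq⟩ : PrimeSpectrum R) ≤ IsLocalRing.closedPoint R from
            IsLocalRing.le_maximalIdeal hq.ne_top) hqQ
        have hh : 1 ≤ Order.krullDim (Module.support R (M ⧸ x • (⊤ : Submodule R M))) :=
          Order.one_le_krullDim_iff.2 ⟨⟨_, hqQ⟩, ⟨_, hcQ⟩, lt_of_le_of_ne (IsLocalRing.le_maximalIdeal hq.ne_top)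
            fun h => hne (congrArg (fun z => z.1.asIdeal) h)⟩
        exact absurd (hh.trans h0) (by decide)
      · exact Set.mem_singleton_iff.2 (PrimeSpectrum.ext (le_antisymm (IsLocalRing.le_maximalIdeal q.isPrime.ne_top)
          (hm.2 ⟨q.isPrime, (hmem q).1 hq⟩ (IsLocalRing.le_maximalIdeal q.isPrime.ne_top))))
    haveI : Finite (Module.annihilator R M).minimalPrimes :=
      (Ideal.finite_minimalPrimes_of_isNoetherianRing R _).to_subtype
    haveI := Fintype.ofFinite (Module.annihilator R M).minimalPrimes
    rw [(D.length_eq M le_rfl).2.2.2]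
    congr 1
    rw [← finsum_subtype_eq_finsum_cond (p := fun p : PrimeSpectrum R =>
      p ∈ Module.support R M ∧ p.asIdeal ≠ IsLocalRing.maximalIdeal R), ← finsum_eq_sum_of_fintype]
    let e : (Module.annihilator R M).minimalPrimes ≃
        {p : PrimeSpectrum R // p ∈ Module.support R M ∧ p.asIdeal ≠ IsLocalRing.maximalIdeal R} :=
      { toFun := fun p => ⟨⟨p.1, p.2.isPrime⟩, (hmem _).2 p.2.1.2, fun h => D.pos (h ▸ p.2)⟩
        invFun := fun p => ⟨p.1.asIdeal, D.minimal p.1.isPrime ((hmem _).1 p.2.1)
          fun hxp => p.2.2 (D.fin _ p.1.isPrime ((hmem _).1 p.2.1) hxp)⟩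
        left_inv := fun _ => rfl
        right_inv := fun _ => rfl }
    refine finsum_eq_of_bijective e e.bijective fun p => ?_
    haveI := p.2.isPrime
    rw [mul_comm]
    have key : mult x p.1 = Ring.ord (R ⧸ p.1) (Ideal.Quotient.mk p.1 x) := by
      unfold Ring.ord
      rw [← Module.length_eq_of_surjective (S := R) (R := R ⧸ p.1)
        (M := (R ⧸ p.1) ⧸ Ideal.span {Ideal.Quotient.mk p.1 x}) Ideal.Quotient.mk_surjective]
      have hmap : (Ideal.span {x}).map (Ideal.Quotient.mk p.1) = Ideal.span {Ideal.Quotient.mk p.1 x} := by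
        rw [Ideal.map_span, Set.image_singleton]
      rw [← hmap]
      exact ((DoubleQuot.quotQuotEquivQuotSupₐ R p.1 (Ideal.span {x})).symm.toLinearEquiv).length_eq
    exact congrArg (fun z : ℕ∞ => z * locLen M p.1) key
end Groth.Agent.S1833
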