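import Groth.Statements.S14503
import Groth.Agent.LatticeLib24.Dist
import Mathlib

set_option autoImplicit false
universe u
open IntTh

namespace Groth.Agent.S14503

/-- Let A ⊆ B be a module-finite extension of domains with A Noetherian local of Krull dimension one, K
⊆ L their fraction fields, and r ∈ B nonzero. Then B/rB has finite length as an A-module and
length_A(B/rB) equals the order at the closed point of A of the norm N_{L/K}(r), i.e.
length_A(A/(a)) − length_A(A/(b)) for N_{L/K}(r) = a/b. -/
theorem result (A : Type u) [CommRing A] [IsDomain A]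
    [IsNoetherianRing A] [IsLocalRing A] (hA : ringKrullDim A = 1) (B : Type u) [CommRing B]
    [IsDomain B] [Algebra A B] (hinj : Function.Injective (algebraMap A B)) [Module.Finite A B]
    (K L : Type u) [Field K] [Field L] [Algebra A K] [IsFractionRing A K] [Algebra B L]
    [IsFractionRing B L] [Algebra K L] [Algebra A L] [IsScalarTower A B L] [IsScalarTower A K L]
    [FiniteDimensional K L] (r : B) (hr : r ≠ 0) :
    Module.length A (B ⧸ Ideal.span {r}) < ⊤ ∧
      ((Module.length A (B ⧸ Ideal.span {r})).toNat : ℤ) =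
        CycAlg.ordFrac A K (Algebra.norm K (algebraMap B L r)) := by
  haveI : Ring.KrullDimLE 1 A := Ring.krullDimLE_iff.mpr (by rw [hA]; norm_num)
  haveI : IsLocalHom (RingHom.id A) := ⟨fun a h ↦ h⟩
  let i : B →ₗ[A] L := (IsScalarTower.toAlgHom A B L).toLinearMap
  have hi : Function.Injective i := IsFractionRing.injective B L
  let M : Submodule A L := LinearMap.range i
  haveI : Submodule.IsLattice K M := by
    refine ⟨by rw [show M = Submodule.map i ⊤ from (Submodule.map_top i).symm]; exact Module.Finite.fg_top.map i, ?_⟩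
    haveI : Algebra.IsAlgebraic A B := inferInstance
    haveI : FaithfulSMul A B := (faithfulSMul_iff_algebraMap_injective A B).mpr hinj
    refine Submodule.eq_top_iff'.mpr fun x ↦ ?_
    obtain ⟨b, s, hs, rfl⟩ := IsFractionRing.div_surjective (A := B) x
    obtain ⟨c, hc, hdvd⟩ := (Algebra.IsAlgebraic.isAlgebraic (R := A) s).exists_nonzero_dvd
      (mem_nonZeroDivisors_of_ne_zero (nonZeroDivisors.ne_zero hs))
    obtain ⟨t, ht⟩ := hdvd
    have hs0 : algebraMap B L s ≠ 0 := (map_ne_zero_iff _ hi).mpr (nonZeroDivisors.ne_zero hs)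
    have hc0 : algebraMap A K c ≠ 0 := (map_ne_zero_iff _ (IsFractionRing.injective A K)).mpr hc
    have e : algebraMap B L b / algebraMap B L s = (algebraMap A K c)⁻¹ • i (b * t) := by
      have h1 : algebraMap K L (algebraMap A K c) = algebraMap B L s * algebraMap B L t := by
        rw [← IsScalarTower.algebraMap_apply A K L, IsScalarTower.algebraMap_apply A B L, ht, map_mul]
      rw [eq_inv_smul_iff₀ hc0, Algebra.smul_def, h1]
      show _ = algebraMap B L (b * t)
      rw [map_mul]
      field_simp
    rw [e]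
    exact Submodule.smul_mem _ _ (Submodule.subset_span ⟨_, rfl⟩)
  let φ : L ≃ₗ[K] L := LinearEquiv.ofBijective (Algebra.lmul K L (algebraMap B L r)) (by
    have : algebraMap B L r ≠ 0 := (map_ne_zero_iff _ hi).mpr hr
    exact ⟨mul_right_injective₀ this, fun y ↦ ⟨y / algebraMap B L r, mul_div_cancel₀ y this⟩⟩)
  haveI := Groth.Agent.LatticeLib24.isLattice_map (K := K) M φ
  have hmap : M.map (φ.toLinearMap.restrictScalars A) = ((Ideal.span {r}).restrictScalars A).map i := by
    ext x
    constructor
    · rintro ⟨_, ⟨b, rfl⟩, rfl⟩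
      exact ⟨r * b, Ideal.mem_span_singleton'.mpr ⟨b, mul_comm b r⟩, map_mul (algebraMap B L) r b⟩
    · rintro ⟨y, hy, rfl⟩
      obtain ⟨b, rfl⟩ := Ideal.mem_span_singleton'.mp hy
      exact ⟨i b, ⟨b, rfl⟩, by show algebraMap B L r * algebraMap B L b = algebraMap B L (b * r); rw [map_mul, mul_comm]⟩
  have hle : M.map (φ.toLinearMap.restrictScalars A) ≤ M := by
    rw [hmap]; exact LinearMap.map_le_range
  have hlen : Groth.Agent.CycAlgLib.rlen M (M.map (φ.toLinearMap.restrictScalars A)) =
      Module.length A (B ⧸ Ideal.span {r}) := by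
    rw [hmap, show M = Submodule.map i ⊤ from (Submodule.map_top i).symm, Groth.Agent.CycAlgLib.rlen_bot_map hi,
      Groth.Agent.CycAlgLib.rlen]
    refine (LinearEquiv.trans (Submodule.Quotient.equiv _ ((Ideal.span {r}).restrictScalars A) Submodule.topEquiv (by
        ext x
        exact ⟨fun ⟨y, hy, h⟩ ↦ h ▸ hy, fun hx ↦ ⟨⟨x, trivial⟩, hx, rfl⟩⟩))
      (Submodule.Quotient.restrictScalarsEquiv A (Ideal.span {r} : Submodule B B))).length_eq
  refine ⟨hlen ▸ Groth.Agent.LatticeLib24.rlen_lt_top (K := K) _ _, ?_⟩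
  have h := Groth.Agent.LatticeLib24.dist_eq_ordFrac_det (A := A) M φ
  rw [Groth.Agent.LatticeLib24.dist, inf_eq_right.mpr hle, Groth.Agent.CycAlgLib.rlen_eq_zero le_rfl, hlen,
    ENat.toNat_zero, Nat.cast_zero, sub_zero] at h
  rw [h, Algebra.norm_apply]
  rfl

end Groth.Agent.S14503
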