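import Groth.Statements.S0234
import Groth.Agent.UfdExt24.Dense
import Groth.Agent.UfdExt24.Extend

set_option autoImplicit false
universe u
open CategoryTheory CategoryTheory.Limits AlgebraicGeometry
open Curves Groth.Agent.UfdExt24

namespace Groth.Agent.S0234

/-- On a locally Noetherian scheme, an invertible module on an open U extends to an invertible module on
X provided the local rings at the points outside U are unique factorisation domains. -/
theorem result (X : Scheme.{u}) [IsLocallyNoetherian X] (U : X.Opens)
    (L : (U : Scheme.{u}).Modules) (hL : PicF.IsInvertible L)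
    (hufd : ∀ x : X, x ∉ U → UniqueFactorizationMonoid (X.presheaf.stalk x)) :
    ∃ L' : X.Modules, PicF.IsInvertible L' ∧ Nonempty (L'.restrict U.ι ≅ L) := by
  obtain ⟨U₁, M, hUU₁, hd, hgens, hbij, ⟨e⟩⟩ := exists_dense_extension U L hL
  obtain ⟨L', φ, hL', hφ⟩ := exists_invertible_extension hd (fun x hx => hufd x fun h => hx (hUU₁ h))
    hgens hbij
  refine ⟨L', hL', ⟨?_ ≪≫ e⟩⟩
  have : IsIso ((Scheme.Modules.restrictFunctor U.ι).map φ) := by
    rw [Scheme.Modules.Hom.isIso_iff_isIso_app]
    intro W
    rw [ConcreteCategory.isIso_iff_bijective]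
    refine hφ (U.ι ''ᵁ W) ?_
    rintro _ ⟨w, -, rfl⟩
    exact hUU₁ w.2
  exact asIso ((Scheme.Modules.restrictFunctor U.ι).map φ)

end Groth.Agent.S0234
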