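import Groth.Statements.S5767
import Groth.Agent.EGA41Lib.SupportDim
import Mathlib

set_option backward.isDefEq.respectTransparency.types false

set_option autoImplicit false
universe u
open EGA41

namespace Groth.Agent.S5767

/-- Let A be a semi-local Noetherian ring, M a finitely generated A-module and x an element of the
Jacobson radical of A. One always has dim(M/xM) ≥ dim(M) - 1; equality dim(M/xM) = dim(M) - 1 holds
if and only if x belongs to none of the prime ideals p of Supp(M) with dim(A/p) = dim(M). Stated as:
dim(M/xM) + 1 = dim(M) iff x avoids those primes. -/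
theorem result (A : Type u) [CommRing A] [IsNoetherianRing A]
    [Finite (MaximalSpectrum A)] (M : Type u) [AddCommGroup M] [Module A M] [Module.Finite A M] (x : A)
    (hx : x ∈ Ring.jacobson A) :
    Module.supportDim A (QuotSMulTop x M) + 1 = Module.supportDim A M ↔
      ∀ p : PrimeSpectrum A, p ∈ Module.support A M →
        ringKrullDim (A ⧸ p.asIdeal) = Module.supportDim A M → x ∉ p.asIdeal := by
  rcases subsingleton_or_nontrivial M with hM | hM
  · rw [Module.supportDim_eq_bot_of_subsingleton (R := A) (M := QuotSMulTop x M),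
      Module.supportDim_eq_bot_of_subsingleton (R := A) (M := M), WithBot.bot_add]
    simp [Module.support_eq_empty]
  obtain ⟨d, hd⟩ : ∃ d : ℕ, Module.supportDim A M = ((d : ℕ∞) : WithBot ℕ∞) := by
    have h1 := Module.supportDim_ne_bot_of_nontrivial A (M := M)
    have h2 : Module.supportDim A M < ⊤ :=
      (Module.supportDim_le_ringKrullDim A M).trans_lt (Groth.Agent.EGA41Lib.ringKrullDim_lt_top_of_semilocal A)
    obtain ⟨e, he⟩ := WithBot.ne_bot_iff_exists.1 h1
    rw [← he] at h2 ⊢
    exact ⟨e.toNat, by rw [ENat.coe_toNat (WithBot.coe_lt_coe.1 h2).ne]⟩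
  have hge := Module.supportDim_le_supportDim_quotSMulTop_succ_of_mem_jacobson (R := A) (M := M)
    (Ideal.mem_sInf.2 fun {J} hJ ↦ haveI := hJ.2; Ring.jacobson_le_of_isMaximal J hx)
  constructor
  · intro h p hp hpd hxp
    have hsupp : p ∈ Module.support A (QuotSMulTop x M) := by
      rw [Module.support_quotSMulTop]; exact ⟨hp, by simpa using hxp⟩
    have h1 : ringKrullDim (A ⧸ p.asIdeal) ≤ Module.supportDim A (QuotSMulTop x M) := by
      rw [Groth.Agent.EGA41Lib.ringKrullDim_quotient_eq_coheight p hsupp]
      exact Order.coheight_le_krullDim _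
    rw [hpd, ← h] at h1
    obtain ⟨e, he⟩ : ∃ e : ℕ∞, Module.supportDim A (QuotSMulTop x M) = e := by
      rcases eq_or_ne (Module.supportDim A (QuotSMulTop x M)) ⊥ with hb | hb
      · rw [hb, WithBot.bot_add, hd] at h; exact absurd h.symm (WithBot.coe_ne_bot)
      · exact ⟨_, (WithBot.ne_bot_iff_exists.1 hb).choose_spec.symm⟩
    rw [he, hd] at h
    rw [he] at h1
    have e1 : e + 1 = d := by exact_mod_cast h
    have e2 : e + 1 ≤ e := by exact_mod_cast h1
    rw [e1] at e2
    have e3 : (d : ℕ∞) + 1 ≤ d := by calc (d : ℕ∞) + 1 ≤ e + 1 := by gcongr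
                                             _ = d := e1
    exact absurd e3 (not_le.2 (by exact_mod_cast Nat.lt_succ_self d))
  · intro h
    refine le_antisymm ?_ hge
    rw [hd]
    rcases isEmpty_or_nonempty (Module.support A (QuotSMulTop x M)) with he | he
    · rw [Module.supportDim, Order.krullDim_eq_bot, WithBot.bot_add]; exact bot_le
    rw [Module.supportDim, Order.krullDim_eq_iSup_length, ← WithBot.coe_one, ← WithBot.coe_add,
      WithBot.coe_le_coe, ENat.iSup_add]
    refine iSup_le fun l ↦ ?_
    have hl : l.head.1 ∈ Module.support A M ∧ x ∈ l.head.1.asIdeal := by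
      have := (Set.ext_iff.1 (Module.support_quotSMulTop (R := A) (M := M) x) l.head.1).1 l.head.2
      exact ⟨this.1, by simpa using this.2⟩
    have h1 : ((l.length : ℕ∞) : WithBot ℕ∞) ≤ ringKrullDim (A ⧸ l.head.1.asIdeal) := by
      rw [Groth.Agent.EGA41Lib.ringKrullDim_quotient_eq_coheight l.head.1 l.head.2, WithBot.coe_le_coe]
      exact Order.length_le_coheight_head
    have h2 : ringKrullDim (A ⧸ l.head.1.asIdeal) ≤ Module.supportDim A M := by
      rw [Groth.Agent.EGA41Lib.ringKrullDim_quotient_eq_coheight l.head.1 hl.1]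
      exact Order.coheight_le_krullDim _
    have h3 : ringKrullDim (A ⧸ l.head.1.asIdeal) ≠ Module.supportDim A M :=
      fun e ↦ h l.head.1 hl.1 e hl.2
    have h4 := h1.trans_lt (lt_of_le_of_ne h2 h3)
    rw [hd] at h4
    have h5 : l.length < d := by exact_mod_cast h4
    exact_mod_cast h5

end Groth.Agent.S5767
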