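import Groth.Statements.S13864
import Groth.Agent.ASCoverLib.Twist
-- import your own Groth.Agent.* helpers here

set_option autoImplicit false
universe u
open ASCover

namespace Groth.Agent.S13864

/-- Let k be an algebraically closed field of characteristic p > 0, n ≥ 1 an integer prime to p, u ∈
k[[t]] the power series with constant term 1 and u^n · (1 + t^n) = 1 (so σ(t) = t·u is a
k-automorphism of k((t)) of order p), and a an integer; σ acts on I = t^a·k[[t]], and transported to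
B = k[[t]] along h ↦ t^a·h the action is h ↦ u^a · h(t·u). For 1 ≤ m ≤ n let c_m ∈ B be determined
by t^m · c_m = u^(a−m) − 1; this is the cocycle value σ(t^i) − t^i ∈ I of the element t^i, i = a −
m, divided by t^a. The published lemma says that the classes of the t^i with a − n ≤ i ≤ a − 1 and p
∤ i form a basis of H^1(⟨σ⟩, I); this row states their linear independence: if Σ λ_m c_m, summed
over 1 ≤ m ≤ n with p ∤ a − m, equals u^a · h(t·u) − h for some h ∈ B, then every such λ_m is 0.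
(Together with the dimension of this H^1, namely n − ⌊(a−1)/p⌋ + ⌊(a−1−n)/p⌋, this gives the basis
statement.) -/
theorem result {k : Type u} [Field k] [IsAlgClosed k] (p : ℕ)
    [Fact p.Prime] [CharP k p] (n : ℕ) (hn : 0 < n) (hpn : ¬ p ∣ n)
    (u : PowerSeries k) (hu1 : PowerSeries.constantCoeff u = 1)
    (hun : u ^ n * (1 + PowerSeries.X ^ n) = 1) (hu : IsUnit u) (a : ℤ)
    (c : ℕ → PowerSeries k)
    (hc : ∀ m : ℕ, 1 ≤ m → m ≤ n →
      PowerSeries.X ^ m * c m = ((hu.unit ^ (a - m) : (PowerSeries k)ˣ) : PowerSeries k) - 1)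
    (coef : ℕ → k) (h : PowerSeries k)
    (hh : ((hu.unit ^ a : (PowerSeries k)ˣ) : PowerSeries k) * PowerSeries.subst (PowerSeries.X * u) h - h =
      ∑ m ∈ (Finset.Icc 1 n).filter (fun m : ℕ => ¬ (p : ℤ) ∣ a - (m : ℤ)), coef m • c m) :
    ∀ m ∈ (Finset.Icc 1 n).filter (fun m : ℕ => ¬ (p : ℤ) ∣ a - (m : ℤ)), coef m = 0 := by
  classical
  have hn0 : (n : k) ≠ 0 := fun h => hpn ((CharP.cast_eq_zero_iff k p n).mp h)
  obtain ⟨r, hr, hrc⟩ := ASCoverLib.exists_eq_one_add hn0 hu1 (z := -u ^ n) (by linear_combination hun)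
  set F := (Finset.Icc 1 n).filter (fun m : ℕ => ¬ (p : ℤ) ∣ a - (m : ℤ)) with hF
  by_contra hne
  have hnon : (F.filter fun m => coef m ≠ 0).Nonempty := by
    simp only [not_forall] at hne
    obtain ⟨m, hm, hmc⟩ := hne
    exact ⟨m, Finset.mem_filter.mpr ⟨hm, hmc⟩⟩
  obtain ⟨M, hM, hmax⟩ := Finset.exists_max_image _ id hnon
  obtain ⟨hMF, hMc⟩ := Finset.mem_filter.mp hM
  obtain ⟨hMI, hMp⟩ := Finset.mem_filter.mp hMF
  rw [Finset.mem_Icc] at hMI
  have hl : PowerSeries.coeff (n - M) (((hu.unit ^ a : (PowerSeries k)ˣ) : PowerSeries k) *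
      PowerSeries.subst (PowerSeries.X * u) h - h) = 0 := by
    obtain ⟨t, ht, -⟩ := ASCoverLib.exists_zpow_eq_one_add hn hu.unit hr a
    obtain ⟨d, hd⟩ := ASCoverLib.dvd_subst_sub hr h
    refine (PowerSeries.X_pow_dvd_iff (n := n)).mp ⟨t * PowerSeries.subst (PowerSeries.X * u) h + d, ?_⟩ (n - M) (by omega)
    rw [ht]
    linear_combination hd
  rw [hh, map_sum] at hl
  have hcm : ∀ m, 1 ≤ m → m ≤ n → ∃ t, c m = PowerSeries.X ^ (n - m) * t ∧
      (n : k) * PowerSeries.constantCoeff t = -(((a - (m : ℤ) : ℤ)) : k) := by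
    intro m h1 h2
    obtain ⟨t, ht, htc⟩ := ASCoverLib.exists_zpow_eq_one_add hn hu.unit hr (a - (m : ℤ))
    refine ⟨t, mul_left_cancel₀ (pow_ne_zero m PowerSeries.X_ne_zero) ?_, ?_⟩
    · rw [hc m h1 h2, ht, ← mul_assoc, ← pow_add, Nat.add_sub_cancel' h2]
      ring
    · rw [htc, mul_left_comm, hrc]
      simp [hu1]
  rw [Finset.sum_eq_single_of_mem M hMF] at hl
  · obtain ⟨t, ht, htc⟩ := hcm M hMI.1 hMI.2
    rw [map_smul, ht, PowerSeries.coeff_X_pow_mul', if_pos le_rfl, Nat.sub_self,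
      PowerSeries.coeff_zero_eq_constantCoeff, smul_eq_mul] at hl
    rcases mul_eq_zero.mp hl with h0 | h0
    · exact hMc h0
    · rw [h0, mul_zero, eq_comm, neg_eq_zero] at htc
      exact hMp ((CharP.intCast_eq_zero_iff k p _).mp htc)
  · intro m hm hmM
    by_cases hm0 : coef m = 0
    · simp [hm0]
    have hlt : m < M := lt_of_le_of_ne (hmax m (Finset.mem_filter.mpr ⟨hm, hm0⟩)) hmM
    obtain ⟨hmI, -⟩ := Finset.mem_filter.mp hm
    rw [Finset.mem_Icc] at hmI
    obtain ⟨t, ht, -⟩ := hcm m hmI.1 hmI.2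
    rw [map_smul, ht, PowerSeries.coeff_X_pow_mul', if_neg (by omega), smul_zero]

end Groth.Agent.S13864
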