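import Groth.Statements.S5020
import Groth.Agent.OmegaLib.ConormalStalk
import Groth.Agent.CAlgH.CotangentResidue

set_option autoImplicit false
set_option backward.isDefEq.respectTransparency.types false
set_option backward.isDefEq.respectTransparency false
set_option linter.style.haveILetI false
universe u
open CategoryTheory CategoryTheory.Limits AlgebraicGeometry TopologicalSpace
open Unram17
open scoped TensorProduct

namespace Groth.Agent.S5020

open OmegaLib

theorem result {X' X Y : Scheme.{u}} (j : X' ⟶ X)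
    [IsImmersion j] [QuasiCompact j] (f : X ⟶ Y) (hf : MoreMor.IsFormallySmoothHom (j ≫ f))
    (Ω' : X.Modules) (d : OmegaSh.Der f Ω') (hd : OmegaSh.IsUniversal d)
    (φ : Omega.conormal j ⟶ (Scheme.Modules.pullback j).obj Ω') (hφ : OmegaSh.IsConormalDiff j d φ) :
    Mono φ := by
  refine mono_of_stalks_injective φ fun x => ?_
  obtain ⟨T, hT, hxT, -⟩ := Opens.isBasis_iff_nbhd.mp Y.isBasis_affineOpens (Opens.mem_top (f (j x)))
  letI : Algebra Γ(Y, T) (X.presheaf.stalk (j x)) :=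
    (Y.presheaf.germ T (f (j x)) hxT ≫ f.stalkMap (j x)).hom.toAlgebra
  letI : Algebra Γ(Y, T) (X'.presheaf.stalk x) :=
    ((Y.presheaf.germ T (f (j x)) hxT ≫ f.stalkMap (j x)) ≫ j.stalkMap x).hom.toAlgebra
  letI : Algebra (X.presheaf.stalk (j x)) (X'.presheaf.stalk x) := (j.stalkMap x).hom.toAlgebra
  haveI : IsScalarTower Γ(Y, T) (X.presheaf.stalk (j x)) (X'.presheaf.stalk x) :=
    IsScalarTower.of_algebraMap_eq fun _ => rfl
  have hsurj : Function.Surjective (algebraMap (X.presheaf.stalk (j x)) (X'.presheaf.stalk x)) :=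
    j.stalkMap_surjective x
  haveI : Algebra.FormallySmooth Γ(Y, T) (X'.presheaf.stalk x) := by
    letI : Algebra (Y.presheaf.stalk (f (j x))) (X'.presheaf.stalk x) := ((j ≫ f).stalkMap x).hom.toAlgebra
    haveI : Algebra.FormallySmooth (Y.presheaf.stalk (f (j x))) (X'.presheaf.stalk x) :=
      formallySmooth_stalkMap hf x
    letI : Algebra Γ(Y, T) (Y.presheaf.stalk (f (j x))) := (Y.presheaf.germ T (f (j x)) hxT).hom.toAlgebra
    haveI := hT.isLocalization_stalk ⟨f (j x), hxT⟩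
    haveI : Algebra.FormallyEtale Γ(Y, T) (Y.presheaf.stalk (f (j x))) :=
      .of_isLocalization (hT.primeIdealOf ⟨f (j x), hxT⟩).asIdeal.primeCompl
    haveI : IsScalarTower Γ(Y, T) (Y.presheaf.stalk (f (j x))) (X'.presheaf.stalk x) :=
      IsScalarTower.of_algebraMap_eq fun r => by
        change j.stalkMap x (f.stalkMap (j x) (Y.presheaf.germ T (f (j x)) hxT r)) =
          (j ≫ f).stalkMap x (Y.presheaf.germ T (f (j x)) hxT r)
        rw [Scheme.Hom.stalkMap_comp]
        rfl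
    exact .comp _ (Y.presheaf.stalk (f (j x))) _
  obtain ⟨EY, hEY⟩ := exists_stalk_equiv hd hT (j x) hxT fun _ => rfl
  obtain ⟨EP, hEP⟩ := exists_pullback_stalk_equiv j Ω' x
  obtain ⟨EC, hEC⟩ := exists_pullback_stalk_equiv j (ClSub.idealMod j.ker) x
  obtain ⟨ι, hιinj, hι⟩ := exists_idealStalkMap j.ker (j x)
  have hone : ∀ z : (DerSch.stalkFunctor X' x).obj (Omega.conormal j),
      ∃ m : (DerSch.stalkFunctor X (j x)).obj (ClSub.idealMod j.ker), EC (1 ⊗ₜ m) = z := by
    intro z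
    obtain ⟨t, rfl⟩ := EC.surjective z
    induction t using TensorProduct.induction_on with
    | zero => exact ⟨0, by rw [TensorProduct.tmul_zero]⟩
    | tmul b m =>
      obtain ⟨a, rfl⟩ := hsurj b
      exact ⟨a • m, by rw [TensorProduct.tmul_smul, TensorProduct.smul_tmul', Algebra.smul_def, mul_one]⟩
    | add s t hs ht =>
      obtain ⟨m, hm⟩ := hs
      obtain ⟨n, hn⟩ := ht
      exact ⟨m + n, by rw [TensorProduct.tmul_add, map_add, hm, hn, map_add]⟩
  have hval : ∀ m : (DerSch.stalkFunctor X (j x)).obj (ClSub.idealMod j.ker),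
      (DerSch.stalkFunctor X' x).map φ (EC (1 ⊗ₜ m)) =
        EP (1 ⊗ₜ EY (KaehlerDifferential.D Γ(Y, T) _ (ι m))) := by
    intro m
    obtain ⟨U, hU, s, rfl⟩ := exists_gm _ m
    rw [hEC, hι, hEY, hEP]
    refine (map_gm _ (show x ∈ j ⁻¹ᵁ U from hU) φ _).trans ?_
    exact congrArg (gm _ (j ⁻¹ᵁ U) x hU) (hφ U s)
  intro z z' hzz'
  obtain ⟨m, rfl⟩ := hone z
  obtain ⟨m', rfl⟩ := hone z'
  have hker : ι (m - m') ∈ RingHom.ker (algebraMap (X.presheaf.stalk (j x)) (X'.presheaf.stalk x)) :=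
    RingHom.mem_ker.2 ((mem_range_idealStalkMap j x hι _).1 ⟨_, rfl⟩)
  have h1 : KaehlerDifferential.kerCotangentToTensor Γ(Y, T) _ (X'.presheaf.stalk x)
      (Ideal.toCotangent _ ⟨ι (m - m'), hker⟩) = 0 := by
    rw [KaehlerDifferential.kerCotangentToTensor_toCotangent]
    show (1 : X'.presheaf.stalk x) ⊗ₜ[X.presheaf.stalk (j x)]
      KaehlerDifferential.D Γ(Y, T) _ (ι (m - m')) = 0
    rw [hval, hval] at hzz'
    have h2 := EP.injective hzz'
    have h3 := congrArg (LinearMap.lTensor (X'.presheaf.stalk x) EY.symm.toLinearMap) h2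
    rw [LinearMap.lTensor_tmul, LinearMap.lTensor_tmul, LinearEquiv.coe_coe, EY.symm_apply_apply,
      EY.symm_apply_apply] at h3
    rw [map_sub, map_sub, TensorProduct.tmul_sub, h3, sub_self]
  have h2 := CAlgH.kerCotangentToTensor_injective_of_formallySmooth Γ(Y, T) _ (X'.presheaf.stalk x) hsurj
    (h1.trans (map_zero _).symm)
  rw [Ideal.toCotangent_eq_zero, sq] at h2
  congr 1
  rw [← sub_eq_zero, ← TensorProduct.tmul_sub]
  suffices ∀ a ∈ RingHom.ker (algebraMap (X.presheaf.stalk (j x)) (X'.presheaf.stalk x)) *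
      RingHom.ker (algebraMap (X.presheaf.stalk (j x)) (X'.presheaf.stalk x)),
      ∃ n, ι n = a ∧ (1 : X'.presheaf.stalk x) ⊗ₜ[X.presheaf.stalk (j x)] n = 0 by
    obtain ⟨n, hn, hn0⟩ := this _ h2
    rw [← hιinj hn]; exact hn0
  intro a ha
  refine Submodule.mul_induction_on ha (fun p hp q hq => ?_) fun p q hp hq => ?_
  · obtain ⟨n, hn⟩ := (mem_range_idealStalkMap j x hι q).2 (RingHom.mem_ker.1 hq)
    refine ⟨p • n, by rw [map_smul, hn, smul_eq_mul], ?_⟩
    rw [TensorProduct.tmul_smul, TensorProduct.smul_tmul', Algebra.smul_def, RingHom.mem_ker.1 hp, zero_mul,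
      TensorProduct.zero_tmul]
  · obtain ⟨n, rfl, hn⟩ := hp
    obtain ⟨n', rfl, hn'⟩ := hq
    exact ⟨n + n', map_add _ _ _, by rw [TensorProduct.tmul_add, hn, hn', add_zero]⟩

end Groth.Agent.S5020
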