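import Groth.Statements.S5976
import Groth.Agent.OmegaLib.StalkLocal
import Groth.Agent.OmegaLib.ConormalStalk

set_option autoImplicit false
set_option backward.isDefEq.respectTransparency.types false
set_option backward.isDefEq.respectTransparency false
set_option linter.style.haveILetI false
universe u
open CategoryTheory CategoryTheory.Limits AlgebraicGeometry TopologicalSpace
open Nrm16
open scoped TensorProduct

namespace Groth.Agent.S5976

open OmegaLib

theorem result {X Y Z : Scheme.{u}} (f : Y ⟶ Z) (j : X ⟶ Y)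
    [IsImmersion j] [QuasiCompact j]
    (ΩY : Y.Modules) (dY : OmegaSh.Der f ΩY) (hY : OmegaSh.IsUniversal dY)
    (ΩX : X.Modules) (dX : OmegaSh.Der (j ≫ f) ΩX) (hX : OmegaSh.IsUniversal dX)
    (φ : Omega.conormal j ⟶ (Scheme.Modules.pullback j).obj ΩY) (hφ : OmegaSh.IsConormalDiff j dY φ)
    (c : (Scheme.Modules.pullback j).obj ΩY ⟶ ΩX) (hc : OmegaSh.IsDiffCompat j dY dX c) :
    Epi c ∧ imageSubobject φ = kernelSubobject c := by
  have key : ∀ x : X, Function.Exact ((DerSch.stalkFunctor X x).map φ) ((DerSch.stalkFunctor X x).map c) ∧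
      Function.Surjective ((DerSch.stalkFunctor X x).map c) := by
    intro x
    obtain ⟨T, hT, hxT, -⟩ := Opens.isBasis_iff_nbhd.mp Z.isBasis_affineOpens (Opens.mem_top (f (j x)))
    letI := (j.stalkMap x).hom.toAlgebra
    letI : Algebra Γ(Z, T) (Y.presheaf.stalk (j x)) :=
      (Z.presheaf.germ T (f (j x)) hxT ≫ f.stalkMap (j x)).hom.toAlgebra
    letI : Algebra Γ(Z, T) (X.presheaf.stalk x) :=
      ((Z.presheaf.germ T (f (j x)) hxT ≫ f.stalkMap (j x)) ≫ j.stalkMap x).hom.toAlgebra
    haveI : IsScalarTower Γ(Z, T) (Y.presheaf.stalk (j x)) (X.presheaf.stalk x) :=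
      IsScalarTower.of_algebraMap_eq fun _ => rfl
    have hsurj : Function.Surjective (algebraMap (Y.presheaf.stalk (j x)) (X.presheaf.stalk x)) :=
      j.stalkMap_surjective x
    obtain ⟨E₂, hE₂⟩ := exists_stalk_equiv hX hT x hxT fun r => by
      show j.stalkMap x (f.stalkMap (j x) (Z.presheaf.germ T (f (j x)) hxT r)) = _
      rw [Scheme.Hom.stalkMap_comp]
      rfl
    obtain ⟨EY, hEY⟩ := exists_stalk_equiv hY hT (j x) hxT fun _ => rfl
    obtain ⟨EP, hEP⟩ := exists_pullback_stalk_equiv j ΩY x
    obtain ⟨EC, hEC⟩ := exists_pullback_stalk_equiv j (ClSub.idealMod j.ker) x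
    obtain ⟨ι, -, hι⟩ := exists_idealStalkMap j.ker (j x)
    -- the stalk of `c` through `EP`
    have hc' : ∀ a : Y.presheaf.stalk (j x),
        (DerSch.stalkFunctor X x).map c (EP (1 ⊗ₜ EY (KaehlerDifferential.D Γ(Z, T) _ a))) =
          E₂ (KaehlerDifferential.mapBaseChange Γ(Z, T) (Y.presheaf.stalk (j x)) (X.presheaf.stalk x)
            (1 ⊗ₜ KaehlerDifferential.D Γ(Z, T) _ a)) := by
      intro a
      obtain ⟨U, hU, s, rfl⟩ := Y.presheaf.exists_germ_eq (x := j x) a
      rw [hEY, hEP, map_gm, hc, KaehlerDifferential.mapBaseChange_tmul, one_smul, KaehlerDifferential.map_D,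
        show algebraMap (Y.presheaf.stalk (j x)) (X.presheaf.stalk x) (Y.presheaf.germ U (j x) hU s) =
          X.presheaf.germ (j ⁻¹ᵁ U) x hU (j.app U s) from Scheme.Hom.germ_stalkMap_apply j U x hU s, hE₂]
    let cl : (DerSch.stalkFunctor X x).obj ((Scheme.Modules.pullback j).obj ΩY) →ₗ[X.presheaf.stalk x]
        (DerSch.stalkFunctor X x).obj ΩX := ((DerSch.stalkFunctor X x).map c).hom
    let G := ((LinearEquiv.baseChange (Y.presheaf.stalk (j x)) (X.presheaf.stalk x) _ _ EY).trans EP)
    have hG : ∀ t, cl (G t) =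
        E₂ (KaehlerDifferential.mapBaseChange Γ(Z, T) (Y.presheaf.stalk (j x)) (X.presheaf.stalk x) t) := by
      intro t
      induction t using TensorProduct.induction_on with
      | zero => simp only [map_zero]
      | add u v hu hv => simp only [map_add, hu, hv]
      | tmul b y =>
        have hy : y ∈ Submodule.span (Y.presheaf.stalk (j x))
            (Set.range (KaehlerDifferential.D Γ(Z, T) (Y.presheaf.stalk (j x)))) := by
          rw [KaehlerDifferential.span_range_derivation]; trivial
        induction hy using Submodule.span_induction generalizing b with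
        | mem y hy =>
          obtain ⟨a, rfl⟩ := hy
          rw [show (b ⊗ₜ[Y.presheaf.stalk (j x)] KaehlerDifferential.D Γ(Z, T) (Y.presheaf.stalk (j x)) a) =
            b • ((1 : X.presheaf.stalk x) ⊗ₜ[Y.presheaf.stalk (j x)]
              KaehlerDifferential.D Γ(Z, T) (Y.presheaf.stalk (j x)) a)
            by rw [TensorProduct.smul_tmul', smul_eq_mul, mul_one]]
          simp only [map_smul]
          exact congrArg _ (hc' a)
        | zero => simp only [TensorProduct.tmul_zero, map_zero]
        | add y z _ _ hy hz => simp only [TensorProduct.tmul_add, map_add, hy b, hz b]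
        | smul a y _ hy => rw [← TensorProduct.smul_tmul]; exact hy _
    have hval : ∀ m : (DerSch.stalkFunctor Y (j x)).obj (ClSub.idealMod j.ker),
        (DerSch.stalkFunctor X x).map φ (EC (1 ⊗ₜ m)) =
          G (1 ⊗ₜ KaehlerDifferential.D Γ(Z, T) _ (ι m)) := by
      intro m
      obtain ⟨U, hU, s, rfl⟩ := exists_gm _ m
      show _ = EP ((1 : X.presheaf.stalk x) ⊗ₜ EY (KaehlerDifferential.D Γ(Z, T) _ (ι _)))
      rw [hEC, hι, hEY, hEP]
      refine (map_gm _ (show x ∈ j ⁻¹ᵁ U from hU) φ _).trans ?_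
      exact congrArg (gm _ (j ⁻¹ᵁ U) x hU) (hφ U s)
    have hone : ∀ z : (DerSch.stalkFunctor X x).obj (Omega.conormal j),
        ∃ m : (DerSch.stalkFunctor Y (j x)).obj (ClSub.idealMod j.ker), EC (1 ⊗ₜ m) = z := by
      intro z
      obtain ⟨t, rfl⟩ := EC.surjective z
      induction t using TensorProduct.induction_on with
      | zero => exact ⟨0, by rw [TensorProduct.tmul_zero]⟩
      | tmul b m =>
        obtain ⟨a, rfl⟩ := hsurj b
        exact ⟨a • m, by rw [TensorProduct.tmul_smul, TensorProduct.smul_tmul', Algebra.smul_def, mul_one]⟩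
      | add s t hs ht =>
        obtain ⟨m, hm⟩ := hs
        obtain ⟨n, hn⟩ := ht
        exact ⟨m + n, by rw [TensorProduct.tmul_add, map_add, hm, hn, map_add]⟩
    have hex := KaehlerDifferential.exact_kerCotangentToTensor_mapBaseChange Γ(Z, T)
      (Y.presheaf.stalk (j x)) (X.presheaf.stalk x) hsurj
    refine ⟨fun y => ?_, fun w => ?_⟩
    · obtain ⟨t, rfl⟩ := G.surjective y
      show cl (G t) = 0 ↔ _
      rw [hG, LinearEquiv.map_eq_zero_iff, hex t]
      constructor
      · rintro ⟨q, rfl⟩
        obtain ⟨⟨i, hi⟩, rfl⟩ := Ideal.toCotangent_surjective _ q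
        obtain ⟨m, hm⟩ := (mem_range_idealStalkMap j x hι i).2 (RingHom.mem_ker.1 hi)
        refine ⟨EC (1 ⊗ₜ m), ?_⟩
        rw [hval, hm, KaehlerDifferential.kerCotangentToTensor_toCotangent]
      · rintro ⟨z, hz⟩
        obtain ⟨m, rfl⟩ := hone z
        refine ⟨Ideal.toCotangent _ ⟨ι m, RingHom.mem_ker.2
          ((mem_range_idealStalkMap j x hι _).1 ⟨m, rfl⟩)⟩, ?_⟩
        rw [KaehlerDifferential.kerCotangentToTensor_toCotangent]
        exact G.injective ((hval m).symm.trans hz)
    · obtain ⟨w, rfl⟩ := E₂.surjective w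
      obtain ⟨t, rfl⟩ := KaehlerDifferential.mapBaseChange_surjective Γ(Z, T) (Y.presheaf.stalk (j x))
        (X.presheaf.stalk x) hsurj w
      exact ⟨G t, hG t⟩
  exact ⟨epi_of_stalks_surjective c fun x => (key x).2, image_eq_kernel_of_stalks φ c fun x => (key x).1⟩

end Groth.Agent.S5976
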