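import Groth.Statements.S4710
import Groth.Agent.CAlgH.Nagata

set_option autoImplicit false
universe u
open EGA4

namespace Groth.Agent.S4710

/-- Last assertion, case of rings of fractions: if A is a Noetherian ring all of whose quotient domains
are Japanese (a Nagata ring), then so is every ring of fractions S⁻¹A. -/
theorem result (A : Type u) [CommRing A] (hA : CAlg.IsNagata A) (S : Submonoid A) :
    CAlg.IsNagata (Localization S) := by
  haveI := hA.1
  refine ⟨IsLocalization.isNoetherianRing S (Localization S) hA.1, fun P hP => ?_⟩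
  let p := P.under A
  letI : Algebra (A ⧸ p) (Localization S ⧸ P) :=
    (Ideal.quotientMap P (algebraMap A (Localization S)) le_rfl).toAlgebra
  have hmk : ∀ a : A, algebraMap (A ⧸ p) (Localization S ⧸ P) (Ideal.Quotient.mk p a) =
      Ideal.Quotient.mk P (algebraMap A (Localization S) a) := fun a => rfl
  have hinj : Function.Injective (algebraMap (A ⧸ p) (Localization S ⧸ P)) :=
    Ideal.quotientMap_injective
  let M := S.map (Ideal.Quotient.mk p)
  haveI : IsLocalization M (Localization S ⧸ P) := by
    refine ⟨?_, fun z => ?_, fun {x y} h => ⟨1, by rw [hinj h]⟩⟩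
    · rintro ⟨_, s, hs, rfl⟩
      rw [hmk]
      exact (IsLocalization.map_units (Localization S) ⟨s, hs⟩).map _
    · obtain ⟨z, rfl⟩ := Ideal.Quotient.mk_surjective z
      obtain ⟨⟨a, s⟩, has⟩ := IsLocalization.surj S z
      refine ⟨⟨Ideal.Quotient.mk p a, ⟨Ideal.Quotient.mk p s, Submonoid.mem_map_of_mem _ s.2⟩⟩, ?_⟩
      rw [hmk, hmk, ← map_mul, has]
  exact CAlgH.isN2_localization M (hA.2 p)

end Groth.Agent.S4710
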