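import Groth.Statements.S6333
import Mathlib

set_option linter.all false

set_option autoImplicit false
universe u
open Fields

open IntermediateField IntermediateField.algebraAdjoinAdjoin

namespace Groth.Agent.S6333

/-- For a finitely generated field extension K/k, the algebraic closure of k inside K is a finite
extension of k. -/
theorem result {k K : Type u} [Field k] [Field K] [Algebra k K]
    (hfg : (⊤ : IntermediateField k K).FG) :
    FiniteDimensional k (algebraicClosure k K) := by
  classical
  obtain ⟨s, hs⟩ := hfg
  have halg : Algebra.IsAlgebraic (Algebra.adjoin k (s : Set K)) K := by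
    have : Algebra.IsAlgebraic (IntermediateField.adjoin k (s : Set K)) K := by
      rw [hs]; exact ⟨fun x => isAlgebraic_algebraMap (⟨x, mem_top⟩ : (⊤ : IntermediateField k K))⟩
    exact (IsFractionRing.comap_isAlgebraic_iff (A := Algebra.adjoin k (s : Set K)) (K := IntermediateField.adjoin k (s : Set K)) (C := K)).mpr this
  obtain ⟨t, hts, ht⟩ := exists_isTranscendenceBasis_subset (R := k) (s : Set K)
  haveI : Finite t := (s.finite_toSet.subset hts).to_subtype
  let F := IntermediateField.adjoin k (Set.range ((↑) : t → K))
  haveI : Algebra.IsAlgebraic F K := ht.isAlgebraic_field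
  haveI : FiniteDimensional F K := by
    have h1 : FiniteDimensional F (IntermediateField.adjoin F (s : Set K)) :=
      IntermediateField.finiteDimensional_adjoin fun x _ => (Algebra.IsAlgebraic.isAlgebraic x).isIntegral
    have h2 : IntermediateField.adjoin F (s : Set K) = ⊤ := by
      refine restrictScalars_injective k ?_
      rw [restrictScalars_top, eq_top_iff, ← hs, adjoin_le_iff]
      exact fun x hx => subset_adjoin F _ hx
    rw [h2] at h1
    exact Module.Finite.equiv (topEquiv (F := F) (E := K)).toLinearEquiv
  let A := algebraicClosure k K
  have hind : AlgebraicIndependent A ((↑) : t → K) := ht.1.extendScalars A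
  refine Module.rank_lt_aleph0_iff.mp (lt_of_le_of_lt (rank_le (n := Module.finrank F K) fun u hu => ?_) (Cardinal.natCast_lt_aleph0))
  let a : {x // x ∈ u} → K := fun i => ((i : A) : K)
  let R := Algebra.adjoin k (Set.range ((↑) : t → K))
  have hR : LinearIndependent R a := by
    rw [Fintype.linearIndependent_iff]
    intro g hg i
    have hg' : ∀ i, ∃ f : MvPolynomial t k, MvPolynomial.aeval ((↑) : t → K) f = (g i : K) := fun i => by
      have h := (g i).2
      simp only [R, Algebra.adjoin_range_eq_range_aeval] at h
      exact h
    choose f hf using hg'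
    let P : MvPolynomial t A := ∑ i : {x // x ∈ u}, MvPolynomial.C (i.1 : A) * MvPolynomial.map (algebraMap k A) (f i)
    have hP : MvPolynomial.aeval ((↑) : t → K) P = 0 := by
      rw [← hg, map_sum]
      refine Finset.sum_congr rfl fun j _ => ?_
      rw [map_mul, MvPolynomial.aeval_C, MvPolynomial.aeval_map_algebraMap, hf, Algebra.smul_def, mul_comm]
      rfl
    have hP0 : P = 0 := hind (by rw [hP, map_zero])
    have hz : f i = 0 := by
      refine MvPolynomial.ext _ _ fun e => ?_
      have := congrArg (MvPolynomial.coeff e) hP0
      simp only [P, MvPolynomial.coeff_sum, MvPolynomial.coeff_C_mul, MvPolynomial.coeff_map, MvPolynomial.coeff_zero] at this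
      rw [MvPolynomial.coeff_zero]
      refine Fintype.linearIndependent_iff.mp hu (fun j => MvPolynomial.coeff e (f j)) ?_ i
      rw [← this]
      exact Finset.sum_congr rfl fun j _ => by rw [Algebra.smul_def, mul_comm]
    apply Subtype.ext
    rw [← hf, hz, map_zero]; rfl
  have hF : LinearIndependent F a := (LinearIndependent.iff_fractionRing R F).mp hR
  simpa using hF.fintype_card_le_finrank

end Groth.Agent.S6333
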