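import Groth.Statements.S17758
import Groth.Agent.LocCoh.ConnDimRing
import Mathlib

set_option autoImplicit false
universe u
open LocCoh

namespace Groth.Agent.S17758

/-- Let R be a complete Noetherian local domain of Krull dimension d with maximal ideal m, and I a
proper ideal of R of arithmetic rank at most d − 2: there are elements f_1, …, f_t with t + 2 ≤ d
such that I and (f_1, …, f_t) have the same radical. Then the punctured spectrum of R ⧸ I, viewed as
the set of prime ideals of R that contain I and differ from m, is a nonempty connected subset of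
Spec R. (Connectedness is taken here to include nonemptiness, so the unit ideal, whose punctured
spectrum is empty, is excluded; for a proper I nonemptiness is automatic, since otherwise I would be
m-primary and m would be minimal over an ideal generated by t ≤ d − 2 elements, against Krull's
height bound.) -/
theorem result (R : Type u) [CommRing R] [IsDomain R] [IsNoetherianRing R] [IsLocalRing R] [IsAdicComplete (IsLocalRing.maximalIdeal R) R] (d : ℕ) (hd : ringKrullDim R = d) (t : ℕ) (ht : t + 2 ≤ d) (f : Fin t → R) (I : Ideal R) (hItop : I ≠ ⊤) (hI : I.radical = (Ideal.span (Set.range f)).radical) : IsConnected {x : PrimeSpectrum R | I ≤ x.asIdeal ∧ x.asIdeal ≠ IsLocalRing.maximalIdeal R} := by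
  classical
  let s : Finset R := Finset.univ.image f
  have hs : (Ideal.span (s : Set R)).radical = I.radical := by
    rw [hI]; simp [s]
  have hcard : s.card ≤ t := Finset.card_image_le.trans (by simp)
  have h := Groth.Agent.LocCoh.min_connDim_subdim_le_connDim_quotient I hItop s hs
  haveI : IrreducibleSpace (PrimeSpectrum R) := inferInstance
  have hdimR : topologicalKrullDim (PrimeSpectrum R) = d := by
    rw [PrimeSpectrum.topologicalKrullDim_eq_ringKrullDim, hd]
  have h1 : ((d : ℕ) : WithBot ℕ∞) ≤ LocCoh.connDim (PrimeSpectrum R) := by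
    refine le_iInf₂ fun Z hZ => ?_
    by_cases hne : Zᶜ.Nonempty
    · exact absurd ⟨hne, ((IrreducibleSpace.isIrreducible_univ (PrimeSpectrum R)).2.open_subset
        hZ.1.isOpen_compl (Set.subset_univ _)).isPreconnected⟩ hZ.2
    · rw [Set.not_nonempty_iff_eq_empty, Set.compl_empty_iff] at hne
      rw [hne, Groth.Agent.LocCoh.topDim_univ, hdimR]
  have h2 : ((d : ℕ) : WithBot ℕ∞) ≤ LocCoh.subdim (PrimeSpectrum R) := by
    refine le_iInf₂ fun Z hZ => ?_
    rw [irreducibleComponents_eq_singleton] at hZ
    rw [Set.mem_singleton_iff.1 hZ, Groth.Agent.LocCoh.topDim_univ, hdimR]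
  have h3 : ((d : ℕ) : WithBot ℕ∞) ≤ LocCoh.connDim (PrimeSpectrum (R ⧸ I)) + (t : WithBot ℕ∞) + 1 :=
    ((le_min (h1.trans (le_add_of_nonneg_right zero_le_one)) h2).trans h).trans
      (add_le_add (add_le_add le_rfl (by exact_mod_cast hcard)) le_rfl)
  haveI : Nontrivial (R ⧸ I) := Ideal.Quotient.nontrivial_iff.2 hItop
  haveI : IsLocalRing (R ⧸ I) := .of_surjective' _ Ideal.Quotient.mk_surjective
  let π := Ideal.Quotient.mk I
  have hπ : Function.Surjective π := Ideal.Quotient.mk_surjective
  have hm : (IsLocalRing.maximalIdeal (R ⧸ I)).comap π = IsLocalRing.maximalIdeal R :=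
    IsLocalRing.eq_maximalIdeal (Ideal.comap_isMaximal_of_surjective π hπ)
  have hconn : IsConnected ({IsLocalRing.closedPoint (R ⧸ I)}ᶜ : Set (PrimeSpectrum (R ⧸ I))) := by
    by_contra hnc
    have hcl : IsClosed ({IsLocalRing.closedPoint (R ⧸ I)} : Set (PrimeSpectrum (R ⧸ I))) :=
      (PrimeSpectrum.isClosed_singleton_iff_isMaximal _).2 (IsLocalRing.maximalIdeal.isMaximal _)
    have h4 := (Groth.Agent.LocCoh.connDim_le_of_not_isConnected hcl hnc).trans
      (topologicalKrullDim_zero_of_discreteTopology
        (↥({IsLocalRing.closedPoint (R ⧸ I)} : Set (PrimeSpectrum (R ⧸ I)))))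
    have h5 := h3.trans (add_le_add (add_le_add h4 le_rfl) le_rfl)
    rw [zero_add] at h5
    have : d ≤ t + 1 := by exact_mod_cast h5
    omega
  have hset : {x : PrimeSpectrum R | I ≤ x.asIdeal ∧ x.asIdeal ≠ IsLocalRing.maximalIdeal R} =
      PrimeSpectrum.comap π '' {IsLocalRing.closedPoint (R ⧸ I)}ᶜ := by
    ext x
    constructor
    · rintro ⟨hIx, hxm⟩
      haveI : (x.asIdeal.map π).IsPrime := Ideal.map_isPrime_of_surjective hπ (by rwa [Ideal.mk_ker])
      have hx : (x.asIdeal.map π).comap π = x.asIdeal := by
        rw [Ideal.comap_map_of_surjective' _ hπ, Ideal.mk_ker, sup_eq_left.2 hIx]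
      refine ⟨⟨x.asIdeal.map π, inferInstance⟩, fun e => hxm ?_, PrimeSpectrum.ext hx⟩
      rw [← hx, ← hm]
      exact congrArg (Ideal.comap π) (congrArg PrimeSpectrum.asIdeal e)
    · rintro ⟨y, hy, rfl⟩
      refine ⟨fun a ha => ?_, fun e => hy (PrimeSpectrum.ext (Ideal.comap_injective_of_surjective π hπ ?_))⟩
      · show π a ∈ y.asIdeal
        rw [Ideal.Quotient.eq_zero_iff_mem.2 ha]
        exact zero_mem _
      · exact e.trans hm.symm
  rw [hset]
  exact hconn.image _ (PrimeSpectrum.continuous_comap π).continuousOn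

end Groth.Agent.S17758
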