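import Groth.Statements.S19478
import Groth.Agent.Dual6Lib.FundDerived
import Groth.Agent.DCat.ClosedShriek
import Groth.Agent.FundLocal.TopForms
import Groth.Agent.SerreDual.ExtShLowDeg
import Groth.Agent.AVExt16.RelDim
import Groth.Agent.S0348
import Groth.Agent.ExtPowEx28.Basic
import Groth.Agent.AlgGrpLib.Equidim
import Groth.Agent.CycLib28.MultLocal
import Groth.Agent.PicLib.PicMonoid
import Groth.Agent.FMK16.StalkLoc

set_option autoImplicit false
universe u
open CategoryTheory CategoryTheory.Limits MonoidalCategory CartesianMonoidalCategory MonObj GrpObj AlgebraicGeometry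
attribute [local instance] HasDerivedCategory.standard
open AbVar

namespace Groth.Agent.S19478

/-- Let k be an algebraically closed field of characteristic zero and A an abelian variety over k (a
proper smooth k-group scheme with geometrically connected fibres) of dimension g, with unit section
e : Spec k → A, and let k(0) = e_*O_{Spec k} be the skyscraper sheaf at the unit point. Regard k(0)
as a complex in degree 0 and form RHom(k(0), O_A) in the derived category of O_A-modules (the
derived functors involved are assumed to exist); its cohomology sheaves are the sheaves Ext^p(k(0),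
O_A). Then Ext^p(k(0), O_A) = 0 for every natural number p < g, and Ext^g(k(0), O_A) is isomorphic
to k(0) (existence of an isomorphism). -/
theorem result (k : Type u) [Field k] [IsAlgClosed k] [CharZero k]
    (A : Over (Spec (CommRingCat.of k))) [GrpObj A] [IsProper A.hom] [Smooth A.hom] [GeometricallyConnected A.hom]
    (g : ℕ) (hg : topologicalKrullDim ↥A.left = g)
    [DCoh.HasLTensorCx ((HomologicalComplex.single A.left.Modules (ComplexShape.up ℤ) 0).obj ((Scheme.Modules.pushforward η[A].left).obj (Coh.structureModule (Spec (CommRingCat.of k)))))] [DCoh.HasRSheafHom ((HomologicalComplex.single A.left.Modules (ComplexShape.up ℤ) 0).obj ((Scheme.Modules.pushforward η[A].left).obj (Coh.structureModule (Spec (CommRingCat.of k)))))] :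
    (∀ p : ℕ, p < g → IsZero (DCoh.HD ((DCoh.RSheafHom ((HomologicalComplex.single A.left.Modules (ComplexShape.up ℤ) 0).obj ((Scheme.Modules.pushforward η[A].left).obj (Coh.structureModule (Spec (CommRingCat.of k)))))).obj (DCoh.inD A.left (Coh.structureModule A.left))) (p : ℤ))) ∧
      Nonempty ((DCoh.HD ((DCoh.RSheafHom ((HomologicalComplex.single A.left.Modules (ComplexShape.up ℤ) 0).obj ((Scheme.Modules.pushforward η[A].left).obj (Coh.structureModule (Spec (CommRingCat.of k)))))).obj (DCoh.inD A.left (Coh.structureModule A.left))) (g : ℤ)) ≅ ((Scheme.Modules.pushforward η[A].left).obj (Coh.structureModule (Spec (CommRingCat.of k))))) := by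
  let e₀ : Spec (CommRingCat.of k) ⟶ A.left := η[A].left
  have hι : e₀ ≫ A.hom = 𝟙 _ := Over.w η[A]
  haveI : IsClosedImmersion (e₀ ≫ A.hom) := by rw [hι]; infer_instance
  haveI : IsClosedImmersion e₀ := IsClosedImmersion.of_comp e₀ A.hom
  haveI : ConnectedSpace A.left := GeometricallyConnected.connectedSpace_of_subsingleton A.hom
  haveI : IrreducibleSpace A.left := Groth.Agent.S0348.result k A
  haveI : SmoothOfRelativeDimension g A.hom := Groth.Agent.AVExt16.smoothOfRelativeDimension_of_dim A.hom g hg
  haveI : IsLocallyNoetherian A.left := LocallyOfFiniteType.isLocallyNoetherian A.hom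
  haveI : SmoothOfRelativeDimension 0 (𝟙 (Spec (CommRingCat.of k))) := inferInstance
  obtain ⟨hreg, -, -⟩ := Groth.Agent.FundLocal.regular_of_smooth e₀ A.hom (𝟙 _) hι g 0
  rw [Nat.sub_zero] at hreg
  haveI : Dual3.HasHomO e₀ := (Groth.Agent.SerreDual.shriekAdj e₀).isLeftAdjoint
  haveI := Groth.Agent.ExtSS.preservesFiniteLimits_pushforward e₀
  haveI := Groth.Agent.ExtSS.preservesFiniteColimits_pushforward e₀
  haveI := Groth.Agent.Coherent.hasInjectiveResolutions_modules A.left
  haveI : Coh.IsQCoh (Coh.structureModule A.left) := Groth.Agent.Coherent.isQCoh_structureModule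
  let I := injectiveResolution (Coh.structureModule A.left)
  haveI : DCoh.HasLTensorCx (Groth.Agent.DCat.ClosedShriek.pushOne e₀) :=
    ‹DCoh.HasLTensorCx ((HomologicalComplex.single A.left.Modules (ComplexShape.up ℤ) 0).obj
      ((Scheme.Modules.pushforward η[A].left).obj (Coh.structureModule (Spec (CommRingCat.of k)))))›
  haveI : DCoh.HasRSheafHom (Groth.Agent.DCat.ClosedShriek.pushOne e₀) :=
    ‹DCoh.HasRSheafHom ((HomologicalComplex.single A.left.Modules (ComplexShape.up ℤ) 0).obj
      ((Scheme.Modules.pushforward η[A].left).obj (Coh.structureModule (Spec (CommRingCat.of k)))))›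
  obtain ⟨b⟩ := Groth.Agent.DCat.ClosedShriek.nonempty_push_RHomOD e₀
  have hn : ∀ n : ℕ, Nonempty (DCoh.HD ((DCoh.RSheafHom (Groth.Agent.DCat.ClosedShriek.pushOne e₀)).obj
      (DCoh.inD A.left (Coh.structureModule A.left))) (n : ℤ) ≅
      (Groth.Agent.SerreDual.homCx ((Scheme.Modules.pushforward e₀).obj (Coh.structureModule _)) I).homology n) := by
    intro n
    obtain ⟨e⟩ := Groth.Agent.Dual6Lib.FundDerived.nonempty_push_HD e₀ (Coh.structureModule A.left) I n
    exact ⟨(DerivedCategory.homologyFunctor _ (n : ℤ)).mapIso (b.app _).symm ≪≫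
      Groth.Agent.DCat.SuppOpen.hdMapIso (Scheme.Modules.pushforward e₀) _ _ ≪≫ e⟩
  have hsmooth : Smooth A.hom := inferInstance
  refine ⟨fun p hp => ?_, ?_⟩
  · obtain ⟨e⟩ := hn p
    refine IsZero.of_iso ?_ e
    refine Groth.Agent.SerreDual.isZero_homology_of_codim e₀
      (fun z => Groth.Agent.CycLib28.isRegularLocalRing_stalk A.hom z) p (fun x => ⟨g, 0, ?_, ?_, by omega⟩)
      (Groth.Agent.PicLib.isFinLocFreeOfRank_one Groth.Agent.AmpleLib.isInvertible_structureModule) I
    · haveI : Subsingleton (Spec (CommRingCat.of k)) := inferInstanceAs (Subsingleton (PrimeSpectrum k))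
      refine (Groth.Agent.AlgGrpLib.ringKrullDim_stalk_of_isClosed A (e₀.base x) ?_).trans hg
      have hx : ({e₀.base x} : Set A.left) = e₀.base '' Set.univ := by
        rw [Set.image_univ]; ext z
        exact ⟨fun h => ⟨x, h.symm⟩, fun ⟨x', h⟩ => h ▸ congrArg e₀.base (Subsingleton.elim x' x)⟩
      rw [hx]
      exact e₀.isClosedEmbedding.isClosedMap _ isClosed_univ
    · obtain ⟨ψ⟩ := Groth.Agent.FMK16.nonempty_stalk_equiv (𝟙 (Spec (CommRingCat.of k))) x
      haveI : x.asIdeal.IsPrime := x.isPrime
      have hbot : x.asIdeal = ⊥ := (Ideal.eq_bot_or_top x.asIdeal).resolve_right x.isPrime.ne_top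
      refine (ringKrullDim_eq_of_ringEquiv ψ).symm.trans ?_
      rw [IsLocalization.AtPrime.ringKrullDim_eq_height x.asIdeal (Localization.AtPrime x.asIdeal), hbot, Ideal.height_bot]
      rfl
  · obtain ⟨e⟩ := hn g
    have hN := Groth.Agent.FundLocal.isFinLocFreeOfRank_conormal e₀ hreg
    obtain ⟨L, -, hL⟩ := Groth.Agent.ExtPowEx28.exists_isExtPow (Groth.Agent.LocFreeLib.isFinLocFree_of_rank hN) g
    have hLi : PicF.IsInvertible L := Groth.Agent.Canon15.isInvertible_of_isExtPow hN hL
    obtain ⟨eL⟩ := (Groth.Agent.PicLib.PicM.of_eq_one_iff hLi).1 (Groth.Agent.PicLib.PicM.eq_one_of_field k _)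
    obtain ⟨f⟩ := Groth.Agent.FundLocal.nonempty_homology_iso e₀ I hreg hL
    obtain ⟨v⟩ := Groth.Agent.FundLocal.nonempty_internalHom_cancel hLi
      (Groth.Agent.AmpleLib.tensorIso eL (Iso.refl (Coh.structureModule _)) ≪≫
        Groth.Agent.AmpleLib.unitTensorIso (Coh.structureModule _) ≪≫ (PicLoc.pullbackStructureIso e₀).symm)
    exact ⟨e ≪≫ f ≪≫ (Scheme.Modules.pushforward e₀).mapIso v⟩

end Groth.Agent.S19478
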