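import Groth.Statements.S1073
import Groth.Agent.DCat.TorSheaf
import Groth.Agent.Coherent.QcohOps

set_option autoImplicit false
set_option backward.isDefEq.respectTransparency false
set_option backward.defeqAttrib.useBackward true
universe u
open CategoryTheory CategoryTheory.Limits AlgebraicGeometry Opposite
attribute [local instance] HasDerivedCategory.standard
open Perf

namespace Groth.Agent.S1073

open MonoidalCategory HomologicalComplex Groth.Agent.ModStalk Groth.Agent.DCat Groth.Agent.Coherent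

/-- Sections of `tilde N` on preimages. -/
noncomputable def eta {X : Scheme.{u}} (x : X) (N : ModuleCat.{u} (X.presheaf.stalk x)) (W : X.Opens) (n : N) :
    Γ((Coh.push (X.fromSpecStalk x)).obj (tilde N), W) :=
  (tilde.toOpen N ((X.fromSpecStalk x) ⁻¹ᵁ W)).hom n

/-- Every module over a local ring of a quasi-separated scheme is the stalk of a quasi-coherent module. -/
lemma exists_qcoh_stalk {X : Scheme.{u}} [QuasiSeparatedSpace ↥X] (x : X) (N : ModuleCat.{u} (X.presheaf.stalk x)) :
    ∃ G : X.Modules, Coh.IsQCoh G ∧ Nonempty ((DerSch.stalkFunctor X x).obj G ≅ N) := by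
  let f := X.fromSpecStalk x
  haveI : QuasiCompact f := quasiCompact_of_compactSpace f
  haveI : Coh.IsQCoh (tilde N) := inferInstanceAs ((tilde N).IsQuasicoherent)
  let G := (Coh.push f).obj (tilde N)
  refine ⟨G, isQCoh_push f _, ?_⟩
  have hW : ∀ W : X.Opens, x ∈ W → f ⁻¹ᵁ W = ⊤ := fun W hx => top_le_iff.1 fun p _ => by
    have hp : f.base p ⤳ x := by
      have : f.base p ∈ Set.range f.base := ⟨p, rfl⟩
      rw [Scheme.range_fromSpecStalk] at this
      exact this
    exact hp.mem_open W.2 hx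
  have hbij : ∀ W : X.Opens, x ∈ W → Function.Bijective (eta x N W) := fun W hx => by
    show Function.Bijective (tilde.toOpen N (f ⁻¹ᵁ W)).hom
    rw [hW W hx]
    exact ConcreteCategory.bijective_of_isIso (tilde.toOpen N ⊤)
  have hadd : ∀ (W : X.Opens) (a b : N), eta x N W (a + b) = eta x N W a + eta x N W b := fun W a b =>
    map_add (tilde.toOpen N (f ⁻¹ᵁ W)).hom a b
  have hres : ∀ (W : X.Opens) (n : N), G.presheaf.map (homOfLE (le_top : W ≤ ⊤)).op (eta x N ⊤ n) = eta x N W n :=
    fun W n => ConcreteCategory.congr_hom (tilde.toOpen_res N (f ⁻¹ᵁ ⊤) (f ⁻¹ᵁ W)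
      (homOfLE ((TopologicalSpace.Opens.map f.base).map (homOfLE (le_top : W ≤ ⊤))).le)) n
  have hsmul : ∀ (W : X.Opens) (hx : x ∈ W) (r : Γ(X, W)) (n : N),
      eta x N W (X.presheaf.germ W x hx r • n) = r • eta x N W n := fun W hx r n => by
    refine (map_smul (tilde.toOpen N (f ⁻¹ᵁ W)).hom (X.presheaf.germ W x hx r) n).trans ?_
    refine (Scheme.Modules.smul_Spec_def (M := tilde N) (U := f ⁻¹ᵁ W) _ _).trans ?_
    show _ = f.app W r • (show Γ(tilde N, f ⁻¹ᵁ W) from eta x N W n)
    rw [Scheme.fromSpecStalk_app hx]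
    rfl
  let φ : N →ₗ[X.presheaf.stalk x] ((DerSch.stalkFunctor X x).obj G) :=
    { toFun := fun n => germP x (DCoh.toP.obj G) ⊤ trivial (eta x N ⊤ n)
      map_add' := fun a b => by rw [hadd]; exact germP_add (DCoh.toP.obj G) ⊤ trivial _ _
      map_smul' := fun r n => by
        obtain ⟨W, hW', s, rfl⟩ := X.presheaf.exists_germ_eq (x := x) r
        have e₁ : ∀ m : N, germP x (DCoh.toP.obj G) ⊤ trivial (eta x N ⊤ m) =
            germP x (DCoh.toP.obj G) W hW' (eta x N W m) := fun m =>
          (germP_res (DCoh.toP.obj G) (homOfLE le_top) hW' _).symm.trans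
            (congrArg (germP x (DCoh.toP.obj G) W hW') (hres W m))
        refine (e₁ _).trans (Eq.trans ?_ (congrArg (fun m => X.presheaf.germ W x hW' s • m) (e₁ n).symm))
        rw [hsmul W hW' s n]
        exact germP_smul (DCoh.toP.obj G) W hW' s _ }
  refine ⟨(LinearEquiv.ofBijective φ ⟨?_, ?_⟩).toModuleIso.symm⟩
  · intro a b hab
    obtain ⟨W, hW', i, j, hij⟩ := germP_eq_iff (DCoh.toP.obj G) (x := x) (U := ⊤) (V := ⊤) trivial trivial _ _ hab
    have : eta x N W a = eta x N W b := by
      rw [← hres W a, ← hres W b]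
      exact hij
    exact (hbij W hW').1 this
  · intro m
    obtain ⟨W, hW', s, rfl⟩ := exists_germP_eq (DCoh.toP.obj G) m
    obtain ⟨n, hn⟩ := (hbij W hW').2 s
    exact ⟨n, (germP_res (DCoh.toP.obj G) (homOfLE le_top) hW' _).symm.trans
      (congrArg (germP x (DCoh.toP.obj G) W hW') ((hres W n).trans hn))⟩

/-- Let X be a quasi-separated scheme, E ∈ D(O_X) with quasi-coherent cohomology sheaves, and a ≤ b.
Then E has tor amplitude in [a, b] (Hⁱ(E ⊗^L F) = 0 outside [a, b] for every O_X-module F, whenever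
the derived functor is available) if and only if the same vanishing holds for every quasi-coherent
O_X-module F. -/
theorem result (X : Scheme.{u}) [QuasiSeparatedSpace ↥X] (E : DCoh.D X) (hE : DCoh.IsQCohD E)
    (a b : ℤ) (hab : a ≤ b) :
    DCoh.HasTorAmplitudeIn a b E ↔
      ∀ (F : X.Modules), Coh.IsQCoh F → ∀ [DCoh.HasLTensorMod F] (i : ℤ), (i < a ∨ b < i) →
        IsZero (DCoh.HD ((DCoh.LTensorMod F).obj E) i) := by
  refine ⟨fun h F _ _ i hi => h F i hi, fun h F hF i hi => ?_⟩
  obtain ⟨L, ⟨e⟩⟩ : ∃ L, Nonempty (DCoh.toD X L ≅ E) :=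
    ⟨DerivedCategory.Q.objPreimage E, ⟨DerivedCategory.Q.objObjPreimageIso E⟩⟩
  obtain ⟨P, c, hP, -, hc, -⟩ := exists_kflat_sheaf L
  haveI := hc
  haveI := (DerivedCategory.isIso_Q_map_iff_quasiIso _ c).2 hc
  let e' := asIso (DerivedCategory.Q.map c) ≪≫ e
  rw [isZero_HD_ltensorMod_iff F hP e', ← DCat.exactAt_iff_stalks]
  intro x
  obtain ⟨G, hG, ⟨g⟩⟩ := exists_qcoh_stalk x ((DerSch.stalkFunctor X x).obj F)
  haveI := DCat.hasLTensorMod G
  have h₁ := (isZero_HD_ltensorMod_iff G hP e' i).1 (h G hG i hi)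
  have h₂ := ((DCat.exactAt_iff_stalks.2 h₁) x).of_iso (stalkTensorModCxIso G x P)
  let ε : tensorRight ((DerSch.stalkFunctor X x).obj G) ≅ tensorRight ((DerSch.stalkFunctor X x).obj F) :=
    NatIso.ofComponents (fun M => whiskerLeftIso M g) (fun f => (MonoidalCategory.whisker_exchange f g.hom).symm)
  exact (h₂.of_iso (Hom.isoOfComponents (fun n => ε.app _) (fun a b _ => (ε.hom.naturality _).symm) :
    ((tensorRight ((DerSch.stalkFunctor X x).obj G)).mapHomologicalComplex (ComplexShape.up ℤ)).obj ((stalkK x).obj P) ≅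
      ((tensorRight ((DerSch.stalkFunctor X x).obj F)).mapHomologicalComplex (ComplexShape.up ℤ)).obj ((stalkK x).obj P))).of_iso
    (stalkTensorModCxIso F x P).symm


end Groth.Agent.S1073
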