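import Groth.Statements.S7018
import Groth.Agent.DCat.LTensorModule

set_option autoImplicit false
set_option backward.isDefEq.respectTransparency false
set_option backward.defeqAttrib.useBackward true
universe u
open CategoryTheory CategoryTheory.Limits
attribute [local instance] HasDerivedCategory.standard
open DRing

namespace Groth.Agent.S7018

/-- Let R be a commutative ring such that the derived tensor product - ⊗^L_R M exists on D(R) for every
R-module M, let a, b be integers and K, L objects of D(R). Tor amplitude in [a, b] of the direct sum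
K ⊕ L implies tor amplitude in [a, b] of each summand K and L. -/
theorem result (R : Type u) [CommRing R] [∀ M : ModuleCat.{u} R, DRing.HasLTensor R M]
    (a b : ℤ) (K L : Dual.D R) [HasBinaryBiproduct K L] (h : DRing.HasTorAmplitudeIn R a b (K ⊞ L)) :
    DRing.HasTorAmplitudeIn R a b K ∧ DRing.HasTorAmplitudeIn R a b L := by
  have key : ∀ {M : Dual.D R} (s : M ⟶ K ⊞ L) (r : K ⊞ L ⟶ M), s ≫ r = 𝟙 M →
      DRing.HasTorAmplitudeIn R a b M := fun {M} s r hsr => by
    refine Groth.Agent.DCat.flatAmp_of_vanish fun A i hi => ?_
    have t := (Retract.map (Retract.map (⟨s, r, hsr⟩ : Retract M (K ⊞ L)) (DRing.LTensor R A))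
      (DerivedCategory.homologyFunctor (ModuleCat.{u} R) i))
    rw [IsZero.iff_id_eq_zero, ← t.retract, (Groth.Agent.DCat.vanish_of_flatAmp h A hi).eq_of_tgt t.i 0, zero_comp]
  exact ⟨key biprod.inl biprod.fst biprod.inl_fst, key biprod.inr biprod.snd biprod.inr_snd⟩


end Groth.Agent.S7018
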