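import Groth.Statements.S0924
import Groth.Agent.DQCoh.PerfectTor
import Groth.Agent.DQCoh.RelTorBC
import Groth.Agent.Dual22Lib.AdjGeom

set_option autoImplicit false
universe u
open CategoryTheory
attribute [local instance] HasDerivedCategory.standard
open DCoh

namespace Groth.Agent.S0924

open CategoryTheory CategoryTheory.Limits AlgebraicGeometry CategoryTheory.Pretriangulated Groth.Agent.DCat Groth.Agent.DCat.PerfLocal

/-- A perfect direct summand. -/
theorem left {X : Scheme.{u}} (K L : DCoh.D X) [HasBinaryBiproduct K L] (h : DCoh.IsPerfect (K ⊞ L)) :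
    DCoh.IsPerfect K := by
  let eb : K ⊞ L ≅ L ⊞ K := biprod.braiding K L
  have hpK : ∀ m : ℤ, DCoh.IsPseudoCoherentD m K := fun m => PCTriangle.psc_summand m K L (DQCoh.psc_of_perfect h m)
  refine DQCoh.isPerfect_of_local K fun x => ?_
  obtain ⟨R, k, hk, hx⟩ : ∃ (R : CommRingCat.{u}) (k : Spec R ⟶ X) (_ : IsOpenImmersion k), x ∈ k.opensRange :=
    ⟨_, (X.affineCover.f (X.affineCover.idx x)), X.affineCover.map_prop _, X.affineCover.covers x⟩
  refine ⟨_, k, inferInstance, hx, ?_⟩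
  haveI := AffSchLib.preservesFiniteLimits_tilde R
  haveI := DQCoh.preservesFiniteColimits_tilde R
  have hq : ∀ {M : DCoh.D X}, (∀ m : ℤ, DCoh.IsPseudoCoherentD m M) → DCoh.IsQCohD ((rd k).obj M) := fun hM =>
    Dual22Lib.AdjGeom.isQCohD_restrictD k (DQCoh.isQCohD_of_psc hM)
  obtain ⟨M, ⟨eM⟩⟩ := ((DQCoh.tildeD_main R).2.2 _).1 (hq hpK)
  obtain ⟨N, ⟨eN⟩⟩ := ((DQCoh.tildeD_main R).2.2 _).1 (hq (fun m => PCTriangle.psc_summand m L K
    (DQCoh.psc_of_perfect (PCTriangle.perfect_iso eb h) m)))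
  haveI := preservesBinaryBiproducts_of_preservesBiproducts (rd k)
  haveI := preservesBinaryBiproducts_of_preservesBiproducts (DCoh.tildeD R)
  have hP : DCoh.IsPerfect ((rd k).obj (K ⊞ L)) := (isPerfect_iff _).2 fun y => by
    obtain ⟨W', g, hg, hy, hP⟩ := (isPerfect_iff _).1 h (k y)
    let j := (k ⁻¹ᵁ g.opensRange).ι
    have hle : Set.range (j ≫ k) ⊆ Set.range g := by
      rintro _ ⟨z, rfl⟩
      exact z.2
    obtain ⟨E, hE, ⟨a⟩⟩ := perfAt_of_range_le hP (j ≫ k) hle
    obtain ⟨c⟩ := rd_comp j k (K ⊞ L)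
    exact ⟨_, j, inferInstance, by rw [Scheme.Opens.opensRange_ι]; exact hy, E, hE, ⟨c.symm ≪≫ a⟩⟩
  have hMN : DRing.IsPerfect (R : Type u) (M ⊞ N) := DQCoh.perfect_of_isPerfect_tildeD
    (PCTriangle.perfect_iso ((rd k).mapBiprod K L ≪≫ biprod.mapIso eM.symm eN.symm ≪≫
      ((DCoh.tildeD R).mapBiprod M N).symm) hP)
  exact PCTriangle.perfect_iso eM (DQCoh.isPerfect_tildeD
    (DRingLib.perfect_retract ⟨biprod.inl, biprod.fst, biprod.inl_fst⟩ hMN))


open AlgebraicGeometry CategoryTheory.Limits in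
/-- Perfectness of objects of D(O_X) passes to direct summands: K and L are perfect as soon as K ⊕ L is. -/
theorem result {X : Scheme.{u}} (K L : DCoh.D X) [HasBinaryBiproduct K L]
    (h : DCoh.IsPerfect (K ⊞ L)) : DCoh.IsPerfect K ∧ DCoh.IsPerfect L := by
  exact ⟨left K L h, left L K (DCat.PCTriangle.perfect_iso (biprod.braiding K L) h)⟩

end Groth.Agent.S0924
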