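import Groth.Statements.S7093
import Groth.Agent.DualLib.TorAmpOps
import Groth.Agent.DRingLib.PCMore
import Groth.Agent.DRingLib.PCRes

set_option autoImplicit false
universe u
attribute [local instance] HasDerivedCategory.standard
open CategoryTheory CategoryTheory.Limits
open Dual2

namespace Groth.Agent.S7093

/-- For a flat homomorphism of finite presentation R → A of commutative rings, the R-perfect objects of
D(A) (pseudo-coherent over A, finite tor dimension over R) form a strictly full, saturated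
triangulated subcategory: the property is a triangulated object property (contains zero, stable
under shifts and under extensions in distinguished triangles), is closed under isomorphisms, and
passes to direct summands. -/
theorem result (R A : Type u) [CommRing R] [CommRing A] [Algebra R A]
    [Module.Flat R A] [Algebra.FinitePresentation R A] :
    ObjectProperty.IsTriangulated (C := Dual.D A) (fun K => Dual2.IsRelPerfect R A K) ∧
      ObjectProperty.IsClosedUnderIsomorphisms (C := Dual.D A) (fun K => Dual2.IsRelPerfect R A K) ∧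
      ∀ X Y : Dual.D A, Dual2.IsRelPerfect R A (X ⊞ Y) → Dual2.IsRelPerfect R A X ∧ Dual2.IsRelPerfect R A Y := by
  open Groth.Agent CategoryTheory.Limits CategoryTheory.Pretriangulated ZeroObject in
  let P : ObjectProperty (Dual.D A) := fun K => Dual2.IsRelPerfect R A K
  let F := DRing.restrictD (algebraMap R A)
  haveI hiso : P.IsClosedUnderIsomorphisms := ⟨fun e h =>
    ⟨DRingLib.pc'_iff.2 fun m => DRingLib.pc_iso e (DRingLib.pc_of_pc' h.1 m),
      DualLib.TorAmpOps.finTor_iso (F.mapIso e) h.2⟩⟩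
  haveI h0 : P.ContainsZero := ⟨⟨0, isZero_zero _, DRingLib.pc'_iff.2 fun m => by
    haveI : (0 : Dual.D A).IsLE (m - 1) := (DRingLib.isLE_iff_HD _ _).2 fun i _ =>
      (DCat.subsingleton_HD_iff _ i).2 ((DerivedCategory.homologyFunctor (ModuleCat.{u} A) i).map_isZero (isZero_zero _))
    exact DRingLib.pc_of_isLE (n := m - 1) (by omega),
    0, 0, DualLib.TorAmpOps.amp_zero 0 0 (F.map_isZero (isZero_zero _))⟩⟩
  haveI hs : P.IsStableUnderShift ℤ := ⟨fun n => ⟨fun K h =>
    ⟨DRingLib.pc'_iff.2 fun m => DRingLib.pc_shift (DRingLib.pc_of_pc' h.1 (n + m)) n m rfl,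
      DualLib.TorAmpOps.finTor_iso ((F.commShiftIso n).app K).symm (DualLib.TorAmpOps.finTor_shift h.2 n)⟩⟩⟩
  haveI h2 : P.IsTriangulatedClosed₂ := ObjectProperty.IsTriangulatedClosed₂.mk' fun T hT h₁ h₃ =>
    ⟨DRingLib.pc'_iff.2 fun m => DRingLib.pc_ext hT (DRingLib.pc_of_pc' h₁.1 m) (DRingLib.pc_of_pc' h₃.1 m),
      DualLib.TorAmpOps.finTor_ext (F.map_distinguished T hT) h₁.2 h₃.2⟩
  refine ⟨{}, hiso, fun X Y h => ?_⟩
  exact ⟨⟨DRingLib.pc'_iff.2 fun m => DRingLib.pc_retract ⟨biprod.inl, biprod.fst, biprod.inl_fst⟩ (DRingLib.pc_of_pc' h.1 m),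
      DualLib.TorAmpOps.finTor_retract ((Retract.mk biprod.inl biprod.fst biprod.inl_fst : Retract X (X ⊞ Y)).map F) h.2⟩,
    ⟨DRingLib.pc'_iff.2 fun m => DRingLib.pc_retract ⟨biprod.inr, biprod.snd, biprod.inr_snd⟩ (DRingLib.pc_of_pc' h.1 m),
      DualLib.TorAmpOps.finTor_retract ((Retract.mk biprod.inr biprod.snd biprod.inr_snd : Retract Y (X ⊞ Y)).map F) h.2⟩⟩

end Groth.Agent.S7093
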