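import Mathlib.CategoryTheory.EquivalenceRelation
import Mathlib.CategoryTheory.Sites.Sheafification
import Mathlib.CategoryTheory.Sites.Limits
import Mathlib.CategoryTheory.EquivalenceRelation
import Mathlib.CategoryTheory.Sites.RegularEpi
import Mathlib.CategoryTheory.Sites.EpiMono
import Mathlib.CategoryTheory.Sites.LeftExact
import Mathlib.CategoryTheory.Limits.Shapes.Pullback.IsPullback.Basic

set_option autoImplicit false
namespace CategoryTheory
end CategoryTheory
namespace CategoryTheory.Limits
end CategoryTheory.Limits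
open CategoryTheory CategoryTheory.Limits
universe w v₁ u₁
namespace ShfCat
end ShfCat
open ShfCat

namespace Groth.Agent.S5217

variable {C : Type u₁} [Category.{v₁} C] {J : GrothendieckTopology C} [HasSheafify J (Type w)]
  {R X : Sheaf J (Type w)} (p₁ p₂ : R ⟶ X)

/-- sections form an equivalence relation -/
lemma equiv_sections (e : EquivalenceRelation p₁ p₂) (U : Cᵒᵖ) :
    (∀ r r' : R.obj.obj U, p₁.hom.app U r = p₁.hom.app U r' → p₂.hom.app U r = p₂.hom.app U r' →
      r = r') ∧ Equivalence (TypeCat.Rel.ofPair (p₁.hom.app U) (p₂.hom.app U)) := by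
  let F : Sheaf J (Type w) ⥤ Type w := sheafToPresheaf J (Type w) ⋙ (evaluation Cᵒᵖ (Type w)).obj U
  haveI : JointlyMono₂ p₁ p₂ := e.toReflexiveRelation.toJointlyMono₂
  have hm : Mono (prod.lift p₁ p₂) := ⟨fun a b h => JointlyMono₂.right_cancellation (p₁ := p₁) (p₂ := p₂) a b
    (by have := congrArg (· ≫ prod.fst) h; simpa only [Category.assoc, prod.lift_fst] using this) (by have := congrArg (· ≫ prod.snd) h; simpa only [Category.assoc, prod.lift_snd] using this)⟩
  have hinj : Function.Injective (F.map (prod.lift p₁ p₂)) := (mono_iff_injective _).1 inferInstance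
  have inj : ∀ r r' : R.obj.obj U, p₁.hom.app U r = p₁.hom.app U r' →
      p₂.hom.app U r = p₂.hom.app U r' → r = r' := by
    intro r r' h₁ h₂
    apply hinj
    apply (asIso (prodComparison F X X)).toEquiv.injective
    refine Limits.Types.limit_ext _ _ _ ?_
    rintro ⟨_ | _⟩
    · show ((F.map (prod.lift p₁ p₂)) ≫ prodComparison F X X ≫ prod.fst) r
        = ((F.map (prod.lift p₁ p₂)) ≫ prodComparison F X X ≫ prod.fst) r'
      rw [prodComparison_fst, ← F.map_comp, prod.lift_fst]
      exact h₁
    · show ((F.map (prod.lift p₁ p₂)) ≫ prodComparison F X X ≫ prod.snd) r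
        = ((F.map (prod.lift p₁ p₂)) ≫ prodComparison F X X ≫ prod.snd) r'
      rw [prodComparison_snd, ← F.map_comp, prod.lift_snd]
      exact h₂
  haveI : JointlyMono₂ (F.map p₁) (F.map p₂) :=
    ⟨fun _ a b h₁ h₂ => by ext y; exact inj _ _ (congr($h₁ y)) (congr($h₂ y))⟩
  exact ⟨inj, TypeCat.equivalence_of_equivalenceRelation
    { __ := e.toReflexiveRelation.map F
      __ := e.toSymmetricRelation.map F
      __ := e.toTransitiveRelation.map F }⟩

/-- the quotient presheaf -/
def Qpre : Cᵒᵖ ⥤ Type w where
  obj U := Quot (TypeCat.Rel.ofPair (p₁.hom.app U) (p₂.hom.app U))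
  map {U V} f := ↾(Quot.map (X.obj.map f) (by
    rintro a b ⟨r, rfl, rfl⟩
    exact ⟨R.obj.map f r, congr($(p₁.hom.naturality f) r), congr($(p₂.hom.naturality f) r)⟩))
  map_id U := by ext ⟨x⟩; exact congrArg (Quot.mk _) (by simp)
  map_comp f g := by ext ⟨x⟩; exact congrArg (Quot.mk _) (by simp)

/-- the quotient map -/
def qmap : X.obj ⟶ Qpre p₁ p₂ where
  app U := ↾(Quot.mk _)

lemma qmap_isPullback (e : EquivalenceRelation p₁ p₂) :
    IsPullback p₁.hom p₂.hom (qmap p₁ p₂) (qmap p₁ p₂) := by
  refine IsPullback.of_forall_isPullback_app fun U => ?_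
  rw [Types.isPullback_iff]
  obtain ⟨inj, heq⟩ := equiv_sections p₁ p₂ e U
  refine ⟨by ext r; exact Quot.sound ⟨r, rfl, rfl⟩, fun r r' h => inj r r' h.1 h.2, fun a b h => ?_⟩
  exact heq.eqvGen_iff.1 (Quot.eqvGen_exact h)

lemma qmap_isPushout (e : EquivalenceRelation p₁ p₂) :
    IsPushout p₁.hom p₂.hom (qmap p₁ p₂) (qmap p₁ p₂) := by
  have w₀ : p₁.hom ≫ qmap p₁ p₂ = p₂.hom ≫ qmap p₁ p₂ := by
    ext U r; exact Quot.sound ⟨r, rfl, rfl⟩
  have hr : ∀ {T : Cᵒᵖ ⥤ Type w} (c : PushoutCocone p₁.hom p₂.hom), c.inl = c.inr := fun c => by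
    have := congrArg (e.r.hom ≫ ·) c.condition
    simp only [← Category.assoc, ← ObjectProperty.FullSubcategory.comp_hom, e.reflexivity₁,
      e.reflexivity₂] at this
    simpa using this
  refine ⟨⟨w₀⟩, ⟨PushoutCocone.IsColimit.mk _ (fun c => ?_) ?_ ?_ ?_⟩⟩
  · exact
      { app := fun U => ↾(Quot.lift (c.inl.app U) (by
          rintro a b ⟨r, rfl, rfl⟩
          have := congr(($c.condition).app U r)
          rw [hr (T := c.pt) c] at this ⊢
          exact this))
        naturality := fun U V f => by
          ext ⟨x⟩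
          exact congr($(c.inl.naturality f) x) }
  · intro c; ext U x; rfl
  · intro c; exact Eq.trans (by ext U x; rfl) (hr (T := c.pt) c)
  · intro c m hm _
    ext U ⟨x⟩
    exact congr(($hm).app U x)

lemma epi_presheafToSheaf_map {A B : Sheaf J (Type w)} (f : A ⟶ B) :
    Epi ((presheafToSheaf J (Type w)).map f.hom) ↔ Epi f := by
  have h := (sheafificationAdjunction J (Type w)).counit_naturality f
  have h' : (presheafToSheaf J (Type w)).map f.hom =
      (sheafificationAdjunction J (Type w)).counit.app A ≫ f ≫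
        inv ((sheafificationAdjunction J (Type w)).counit.app B) := by
    simpa [← Category.assoc] using h
  refine ⟨fun hm => ?_, fun hf => by rw [h']; infer_instance⟩
  have h'' : f = inv ((sheafificationAdjunction J (Type w)).counit.app A) ≫
      (presheafToSheaf J (Type w)).map f.hom ≫ (sheafificationAdjunction J (Type w)).counit.app B := by
    simp [h']
  rw [h'']
  infer_instance

lemma effectiveEpi_of_epi_pullback {A B A' B' : Sheaf J (Type w)} {f' : A' ⟶ B'} {f : A ⟶ B}
    {i : A' ⟶ A} {j : B' ⟶ B} (sq : IsPullback i f' f j) [Epi f] : EffectiveEpi f' := by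
  suffices Epi f' from (isRegularEpi_iff_effectiveEpi f').1 (IsRegularEpiCategory.regularEpiOfEpi f')
  let a := presheafToSheaf J (Type w)
  have hap : Epi (a.map f.hom) := (epi_presheafToSheaf_map f).2 inferInstance
  rw [← image.fac f.hom, Functor.map_comp] at hap
  haveI : Epi (a.map (image.ι f.hom)) := epi_of_epi (a.map (factorThruImage f.hom)) _
  haveI : IsIso (a.map (image.ι f.hom)) := Balanced.isIso_of_mono_of_epi _
  let P := pullback (image.ι f.hom) j.hom
  let p' : A'.obj ⟶ P := pullback.lift (i.hom ≫ factorThruImage f.hom) f'.hom (by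
    rw [Category.assoc, image.fac]; exact congrArg (fun φ => φ.hom) sq.w)
  haveI : ∀ V, Epi (p'.app V) := fun V => by
    rw [epi_iff_surjective]
    intro t
    have hP := (IsPullback.of_hasPullback (image.ι f.hom) j.hom).app V
    obtain ⟨x, hx⟩ := (epi_iff_surjective ((factorThruImage f.hom).app V)).1 inferInstance
      ((pullback.fst (image.ι f.hom) j.hom).app V t)
    have hx' : f.hom.app V x = j.hom.app V ((pullback.snd (image.ι f.hom) j.hom).app V t) := by
      exact ((congr(($(image.fac f.hom)).app V x)).symm.trans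
        (congrArg ((image.ι f.hom).app V) hx)).trans (congr($(hP.w) t))
    obtain ⟨y, hy₁, hy₂⟩ := Types.exists_of_isPullback
      ((sq.map (sheafToPresheaf J (Type w))).app V) _ _ hx'
    refine ⟨y, Types.ext_of_isPullback hP ?_ ?_⟩
    · have h1 : p' ≫ pullback.fst _ _ = i.hom ≫ factorThruImage f.hom := pullback.lift_fst _ _ _
      refine (congr(($h1).app V y)).trans ?_
      show (factorThruImage f.hom).app V (i.hom.app V y) = _
      rw [← hx]; exact congrArg _ hy₁
    · have h2 : p' ≫ pullback.snd _ _ = f'.hom := pullback.lift_snd _ _ _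
      exact (congr(($h2).app V y)).trans hy₂
  haveI : Epi p' := NatTrans.epi_of_epi_app p'
  haveI : IsIso (a.map (pullback.snd (image.ι f.hom) j.hom)) :=
    ((IsPullback.of_hasPullback (image.ι f.hom) j.hom).map a).isIso_snd_of_isIso
  refine (epi_presheafToSheaf_map f').1 ?_
  rw [show f'.hom = p' ≫ pullback.snd _ _ from (pullback.lift_snd _ _ _).symm, Functor.map_comp]
  infer_instance

/-- In the category of sheaves of sets on a site, every equivalence relation is universally effective
(its quotient sheaf exists, the relation is the kernel pair of the quotient map, and that map is a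
universal effective epimorphism). Stated for sheaves valued in `Type w` whenever sheafification
exists. -/
theorem result {C : Type u₁} [Category.{v₁} C]
    (J : GrothendieckTopology C) [HasSheafify J (Type w)]
    {R X : Sheaf J (Type w)} (p₁ p₂ : R ⟶ X) [IsEquivalenceRelation p₁ p₂] :
    IsUniversallyEffectiveEquivalenceRelation p₁ p₂ := by
  obtain ⟨e⟩ := IsEquivalenceRelation.nonempty_equivalenceRelation (p₁ := p₁) (p₂ := p₂)
  let a := presheafToSheaf J (Type w)
  let adj := sheafificationAdjunction J (Type w)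
  let cR := asIso (adj.counit.app R)
  let cX := asIso (adj.counit.app X)
  let π : X ⟶ a.obj (Qpre p₁ p₂) := cX.inv ≫ a.map (qmap p₁ p₂)
  have h₁ : a.map p₁.hom ≫ cX.hom = cR.hom ≫ p₁ := adj.counit_naturality p₁
  have h₂ : a.map p₂.hom ≫ cX.hom = cR.hom ≫ p₂ := adj.counit_naturality p₂
  have hpb : IsPullback p₁ p₂ π π :=
    ((qmap_isPullback p₁ p₂ e).map a).of_iso cR cX cX (Iso.refl _) h₁ h₂
      (by simp [π]) (by simp [π])
  have hpo : IsPushout p₁ p₂ π π :=
    ((qmap_isPushout p₁ p₂ e).map a).of_iso cR cX cX (Iso.refl _) h₁ h₂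
      (by simp [π]) (by simp [π])
  haveI : Epi π := ⟨fun g h hgh => hpo.hom_ext hgh hgh⟩
  exact ⟨⟨{ toEffectiveEquivalenceRelation :=
              { toEquivalenceRelation := e, B := _, π := π, isKernelPair := hpb, isPushout := hpo }
            universally_effectiveEpi_π := fun A' B' i j f' sq =>
              effectiveEpi_of_epi_pullback sq.flip }⟩⟩

end Groth.Agent.S5217
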