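import Groth.Statements.S17253
import Groth.Agent.AbCubeLib.EpiPow
import Groth.Agent.AbVarLib.HomDim
import Groth.Agent.AbVarLib.GeomIntegralSmooth
-- import your own Groth.Agent.* helpers here

set_option autoImplicit false
universe u
open CategoryTheory CategoryTheory.Limits MonoidalCategory CartesianMonoidalCategory MonObj GrpObj AlgebraicGeometry
open AbVar

namespace Groth.Agent.S17253

/-- Let k be a field and A, B abelian varieties over k (smooth proper k-group schemes with geometrically
connected fibres), f : A → B a homomorphism, g : B → A an isogeny (a homomorphism which is finite,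
flat and surjective) and d a nonzero integer with g ∘ f = [d]_A, the d-th power of the identity in
the group of endomorphisms of A. Then f is an isogeny as well — finite, flat and surjective — and f
∘ g = [d]_B. -/
theorem result (k : Type u) [Field k]
    (A B : Over (Spec (CommRingCat.of k)))
    [GrpObj A] [Smooth A.hom] [IsProper A.hom] [GeometricallyConnected A.hom]
    [GrpObj B] [Smooth B.hom] [IsProper B.hom] [GeometricallyConnected B.hom]
    (f : A ⟶ B) [IsMonHom f] (g : B ⟶ A) [IsMonHom g] [IsFinite g.left] [Flat g.left] [Surjective g.left]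
    (d : ℤ) (hd : d ≠ 0) (h : f ≫ g = 𝟙 A ^ d) :
    IsFinite f.left ∧ Flat f.left ∧ Surjective f.left ∧ g ≫ f = 𝟙 B ^ d := by
  have : GeometricallyIntegral A.hom := Groth.Agent.AbVarLib.geometricallyIntegral_of_smooth A.hom
  have : GeometricallyIntegral B.hom := Groth.Agent.AbVarLib.geometricallyIntegral_of_smooth B.hom
  obtain ⟨hfin, -, -, -⟩ := Groth.Agent.AbCubeLib.zpow_properties (A := A) hd
  have : IsFinite (f.left ≫ g.left) := by
    rw [← Over.comp_left, h]; exact hfin
  have : IsFinite f.left := IsFinite.of_comp f.left g.left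
  obtain ⟨hs, hfl⟩ := Groth.Agent.AbVarLib.surjective_and_flat_of_isFinite f
    (Groth.Agent.AbVarLib.dim_eq_of_isFinite g).symm
  refine ⟨inferInstance, hfl, hs, ?_⟩
  have : IsIntegral B.left := GeometricallyIntegral.isIntegral_of_subsingleton B.hom
  refine Over.OverMorphism.ext (ext_of_isDominant_of_isSeparated B.hom ((Over.w (g ≫ f)).trans (Over.w (𝟙 B ^ d)).symm)
    f.left (congrArg CommaMorphism.left (show f ≫ g ≫ f = f ≫ (𝟙 B ^ d) from ?_)))
  rw [← Category.assoc, h, Groth.Agent.AbCubeLib.zpow_comp_hom, Category.id_comp, GrpObj.comp_zpow, Category.comp_id]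

end Groth.Agent.S17253
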