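import Groth.Statements.S17505
import Groth.Agent.S7859
import Groth.Agent.AbCubeLib.MulDegree
import Groth.Agent.AbCubeLib.Complement
import Groth.Agent.AbCubeLib.Subvariety
import Groth.Agent.AbCubeLib.FiniteProduct
import Groth.Agent.AbCubeLib.HomQuadratic
import Groth.Agent.AbCubeLib.FiniteQuotient
import Groth.Agent.EulerLib.Positive
import Groth.Agent.EulerLib.DegClass
-- import your own Groth.Agent.* helpers here

set_option autoImplicit false
universe u
open CategoryTheory CategoryTheory.Limits MonoidalCategory CartesianMonoidalCategory MonObj GrpObj AlgebraicGeometry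
open AbVar

namespace Groth.Agent.S17505

/-- The Euler characteristic of a class of invertible modules. -/
noncomputable def eul (k : Type u) [Field k] (X : Over (Spec (CommRingCat.of k))) (a : PicLib.PicM X.left) : ℤ :=
  letI : X.left.Over (Spec (CommRingCat.of k)) := ⟨X.hom⟩
  EulerLib.chiCl k (Coh.structureModule X.left) (AbCubeLib.invOf a)

theorem euler_pull (k : Type u) [Field k] {X Y : Over (Spec (CommRingCat.of k))}
    [GrpObj X] [IsProper X.hom] [GeometricallyIntegral X.hom] [GrpObj Y] [IsProper Y.hom] [GeometricallyIntegral Y.hom]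
    (f : X ⟶ Y) [IsFinite f.left] [Flat f.left] {d : ℕ} (hd : ∀ y : ↥Y.left, Scheme.Hom.finrank f.left y = d)
    (a : PicLib.PicM Y.left) : eul k X (AbCubeLib.pb f a) = (d : ℤ) * eul k Y a := by
  letI : X.left.Over (Spec (CommRingCat.of k)) := ⟨X.hom⟩
  letI : Y.left.Over (Spec (CommRingCat.of k)) := ⟨Y.hom⟩
  haveI : IsProper (Y.left ↘ Spec (CommRingCat.of k)) := ‹IsProper Y.hom›
  haveI := EulerLib.isNoetherian_of_proper (X := Y.left) k
  obtain ⟨N, hN, rfl⟩ := PicLib.PicM.exists_eq_of a
  have hq : Coh.IsCoh N :=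
    Coherent.isCoh_iso (AmpleLib.unitTensorIso _) (EulerLib.isCoh_twist hN (Coherent.isCoh_structureModule _))
  rw [eul, eul, AbCubeLib.pb, PicLib.PicM.pull_of, AbCubeLib.invOf_of, AbCubeLib.invOf_of, EulerLib.chiCl_mk,
    EulerLib.chiCl_mk, EulerLib.euler_congr k X.left (AmpleLib.unitTensorIso _),
    EulerLib.euler_congr k Y.left (AmpleLib.unitTensorIso _)]
  exact Groth.Agent.S7859.result k X Y f d hd N hq

/-- A class multiplied by `n` under multiplication by `n` does not affect the Euler characteristic. -/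
theorem euler_mul_invariant (k : Type u) [Field k] {P : Over (Spec (CommRingCat.of k))}
    [GrpObj P] [IsProper P.hom] [GeometricallyIntegral P.hom] (g : ℕ) (hg : topologicalKrullDim P.left = g)
    (a b : PicLib.PicM P.left) (ha : ∀ n : ℕ, AbCubeLib.pb ((𝟙 P) ^ n) a = a ^ n) :
    eul k P (a * b) = eul k P b := by
  classical
  letI : P.left.Over (Spec (CommRingCat.of k)) := ⟨P.hom⟩
  haveI : IsProper (P.left ↘ Spec (CommRingCat.of k)) := ‹IsProper P.hom›
  haveI := EulerLib.isNoetherian_of_proper (X := P.left) k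
  have hO : Coh.IsCoh (Coh.structureModule P.left) := Coherent.isCoh_structureModule _
  have hsupp : topologicalKrullDim (CohB1.support (Coh.structureModule P.left)) ≤ (g : WithBot ℕ∞) :=
    (Topology.IsInducing.subtypeVal.topologicalKrullDim_le).trans hg.le
  let b' := AbCubeLib.pb (𝟙 P)⁻¹ b
  obtain ⟨Q, hQdeg, hQ⟩ :=
    EulerLib.snapper k hO hsupp ![AbCubeLib.invOf a, AbCubeLib.invOf b, AbCubeLib.invOf b']
  have hQ' : ∀ x y z : ℕ, (eul k P (a ^ x * b ^ y * b' ^ z) : ℚ) =
      MvPolynomial.eval ![(x : ℚ), (y : ℚ), (z : ℚ)] Q := by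
    intro x y z
    have h := hQ ![x, y, z]
    rw [Fin.prod_univ_three] at h
    simp only [Matrix.cons_val_zero, Matrix.cons_val_one, Matrix.cons_val, ← map_pow, ← map_mul] at h
    rw [eul, h]
    refine congrArg (fun v => MvPolynomial.eval v Q) (funext fun i => ?_)
    fin_cases i <;> simp
  let v : ℕ → Fin 3 → Polynomial ℚ := fun e => ![Polynomial.C (e : ℚ) * Polynomial.X,
    Polynomial.C (1 / 2) * (Polynomial.X ^ 2 + Polynomial.X),
    Polynomial.C (1 / 2) * (Polynomial.X ^ 2 - Polynomial.X)]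
  have hR : ∀ e : ℕ, MvPolynomial.aeval (v e) Q =
      Polynomial.C (eul k P (a ^ e * b) : ℚ) * Polynomial.X ^ (2 * g) := by
    intro e
    refine Polynomial.eq_of_infinite_eval_eq _ _ (Set.Infinite.mono
      (s := Set.range fun j : ℕ => ((j + 1 : ℕ) : ℚ)) ?_
      (Set.infinite_range_of_injective fun a b hab => Nat.succ_injective (Nat.cast_injective hab)))
    rintro _ ⟨j, rfl⟩
    show Polynomial.eval _ _ = _
    haveI := AbCubeLib.isFinite_pow (A := P) (Nat.succ_pos j)
    haveI := AbCubeLib.flat_pow (A := P) (Nat.succ_pos j)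
    have hk := euler_pull k ((𝟙 P) ^ (j + 1)) (AbCubeLib.finrank_pow (Nat.succ_pos j) hg) (a ^ e * b)
    simp only [AbCubeLib.pb, map_mul, map_pow] at hk
    change eul k P (AbCubeLib.pb _ a ^ e * AbCubeLib.pb _ b) = _ at hk
    rw [ha, AbCubeLib.pb_pow, AbCubeLib.pb_id, ← pow_mul, ← _root_.mul_assoc] at hk
    have hk' := congrArg (fun z : ℤ => (z : ℚ)) hk
    simp only [b', hQ', Int.cast_mul, Int.cast_natCast] at hk'
    rw [Polynomial.eval_mul, Polynomial.eval_C, Polynomial.eval_pow, Polynomial.eval_X]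
    push_cast at hk' ⊢
    rw [mul_comm, ← hk']
    show (Polynomial.aeval _) ((MvPolynomial.aeval (v e)) Q) = _
    rw [MvPolynomial.comp_aeval_apply, MvPolynomial.aeval_eq_eval]
    refine congrArg (fun v => MvPolynomial.eval v Q) (funext fun i => ?_)
    fin_cases i
    · simp [v]; ring
    · simp [v, Nat.cast_choose_two]; ring
    · simp [v, Nat.cast_choose_two]; ring
  have hv1 : ∀ e, (v e 1).natDegree ≤ 2 := fun e => by simp only [v, Matrix.cons_val_one, Matrix.cons_val_zero]; refine (Polynomial.natDegree_C_mul_le _ _).trans ?_; compute_degree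
  have hv2 : ∀ e, (v e 2).natDegree ≤ 2 := fun e => by simp only [v, Matrix.cons_val]; refine (Polynomial.natDegree_C_mul_le _ _).trans ?_; compute_degree
  have hv0 : ∀ e, (v e 0).natDegree ≤ 1 := fun e => by simp only [v, Matrix.cons_val_zero]; compute_degree
  have key : (MvPolynomial.aeval (v 1) Q).coeff (2 * g) = (MvPolynomial.aeval (v 0) Q).coeff (2 * g) := by
    simp only [MvPolynomial.aeval_def, MvPolynomial.eval₂_eq', Polynomial.finsetSum_coeff]
    refine Finset.sum_congr rfl fun d hd => ?_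
    have hd' : d 0 + d 1 + d 2 ≤ g := by
      refine le_trans ?_ ((MvPolynomial.le_totalDegree hd).trans hQdeg)
      rw [Finsupp.sum_fintype _ _ (fun _ => rfl), Fin.sum_univ_three]
    simp only [Polynomial.algebraMap_eq, Polynomial.coeff_C_mul, Fin.prod_univ_three]
    by_cases h0 : d 0 = 0
    · simp [h0, v]
    · have hlt : ∀ e, (v e 0 ^ d 0 * v e 1 ^ d 1 * v e 2 ^ d 2).coeff (2 * g) = 0 := fun e => by
        refine Polynomial.coeff_eq_zero_of_natDegree_lt ((Polynomial.natDegree_mul_le.trans (add_le_add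
          (Polynomial.natDegree_mul_le.trans (add_le_add
            (Polynomial.natDegree_pow_le.trans (Nat.mul_le_mul le_rfl (hv0 e)))
            (Polynomial.natDegree_pow_le.trans (Nat.mul_le_mul le_rfl (hv1 e)))))
          (Polynomial.natDegree_pow_le.trans (Nat.mul_le_mul le_rfl (hv2 e))))).trans_lt (by omega))
      rw [hlt, hlt]
  rw [hR, hR] at key
  simp only [Polynomial.coeff_C_mul, Polynomial.coeff_X_pow_self, _root_.mul_one, pow_one, pow_zero,
    _root_.one_mul] at key
  exact_mod_cast key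


/-- In the Riemann–Roch formula χ(L)² = deg φ_L the degree is 0 by convention when φ_L is not finite,
i.e. when L is degenerate; this is that case. Let k be an algebraically closed field, X an abelian
variety over k (a proper, geometrically integral k-group scheme) and L an invertible O_X-module
which is degenerate: infinitely many k-rational points x of X satisfy t_x^*L ≅ L, where t_x : X → X
is translation by x (the product of the identity and the constant map x in the group of maps X → X).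
Then χ(X, L) = 0. (Stated over an algebraically closed field, where degeneracy of L, i.e. K(L) not
finite, amounts to infinitely many rational points x with t_x^*L ≅ L.) -/
theorem result
    (k : Type u) [Field k] [IsAlgClosed k] (X : Over (Spec (CommRingCat.of k))) [GrpObj X] [IsProper X.hom] [GeometricallyIntegral X.hom]
    (L : X.left.Modules) (hL : PicF.IsInvertible L)
    (hdeg : Set.Infinite {x : 𝟙_ (Over (Spec (CommRingCat.of k))) ⟶ X |
      Nonempty ((Scheme.Modules.pullback (𝟙 X * (toUnit X ≫ x)).left).obj L ≅ L)}) :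
    @Curv2.euler k _ X.left ⟨X.hom⟩ L = 0 := by
    classical
  letI : X.left.Over (Spec (CommRingCat.of k)) := ⟨X.hom⟩
  haveI : IsProper (X.left ↘ Spec (CommRingCat.of k)) := ‹IsProper X.hom›
  haveI : IsCommMonObj X := isCommMonObj_of_isProper_of_geometricallyIntegral X
  haveI : IsIntegral X.left := GeometricallyIntegral.isIntegral_of_subsingleton X.hom
  let ℓ := PicLib.PicM.of hL
  have hiff : ∀ x : 𝟙_ (Over (Spec (CommRingCat.of k))) ⟶ X,
      Nonempty ((Scheme.Modules.pullback (𝟙 X * (toUnit X ≫ x)).left).obj L ≅ L) ↔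
        AbCubeLib.pb (𝟙 X * (toUnit X ≫ x)) ℓ = ℓ := fun x => by
    show _ ↔ PicLib.PicM.pull (𝟙 X * (toUnit X ≫ x)).left _ = _
    rw [PicLib.PicM.pull_of, PicLib.PicM.of_eq_iff]
  -- the stabiliser and an abelian subvariety inside it
  have h1 : AbCubeLib.pb (𝟙 X * (toUnit X ≫ (1 : 𝟙_ (Over (Spec (CommRingCat.of k))) ⟶ X))) ℓ = ℓ := by
    rw [MonObj.comp_one, _root_.mul_one, AbCubeLib.pb_id]
  let H : Subgroup (𝟙_ (Over (Spec (CommRingCat.of k))) ⟶ X) :=
    { carrier := {x | AbCubeLib.pb (𝟙 X * (toUnit X ≫ x)) ℓ = ℓ}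
      mul_mem' := fun {a b} ha hb => by
        show AbCubeLib.pb _ ℓ = ℓ
        rw [← AbCubeLib.translate_comp_translate, ← AbCubeLib.pb_pb, hb]
        exact ha
      one_mem' := h1
      inv_mem' := fun {a} ha => by
        show AbCubeLib.pb _ ℓ = ℓ
        conv_lhs => rw [← show AbCubeLib.pb (𝟙 X * (toUnit X ≫ a)) ℓ = ℓ from ha]
        rw [AbCubeLib.pb_pb, AbCubeLib.translate_comp_translate, inv_mul_cancel]
        exact h1 }
  obtain ⟨B, hBG, i, H₁, hiMon, hiCl, hBgi, hBp, hH₁, hind, hrange⟩ :=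
    AbCubeLib.exists_subvariety_of_subgroup H
  obtain ⟨Z, hZ, hZx⟩ := AbCubeLib.exists_closed_fixing (A := X) ℓ
  have hiZ : Set.range i.left ⊆ Z := by
    rw [hrange]
    refine hZ.closure_subset_iff.2 ?_
    rintro _ ⟨x, hx, rfl⟩
    exact (hZx x).2 (hH₁ hx)
  haveI : IsCommMonObj B := isCommMonObj_of_isProper_of_geometricallyIntegral B
  haveI : IsIntegral B.left := GeometricallyIntegral.isIntegral_of_subsingleton B.hom
  obtain ⟨b, hb⟩ := AbCubeLib.exists_dim_eq B
  have hb0 : 0 < b := by
    by_contra h0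
    haveI : Subsingleton B.left :=
      AbCubeLib.subsingleton_of_dim_zero (by rw [hb, Nat.eq_zero_of_not_pos h0]; rfl)
    have hfin₁ : (H₁ : Set (𝟙_ (Over (Spec (CommRingCat.of k))) ⟶ X)).Finite := by
      refine Set.Finite.of_finite_image (f := AbCubeLib.ptOf) ?_ fun x _ y _ hxy => AbCubeLib.point_ext hxy
      refine ((Set.subsingleton_of_subsingleton (s := Set.univ)).image i.left).finite.subset ?_
      rw [Set.image_univ, hrange]
      exact subset_closure
    haveI : Finite H₁ := hfin₁.to_subtype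
    haveI : Finite (H₁.subgroupOf H) :=
      Finite.of_injective (fun x => (⟨x.1.1, Subgroup.mem_subgroupOf.1 x.2⟩ : H₁))
        fun x y hxy => Subtype.ext (Subtype.ext (congrArg (fun z : H₁ => z.1) hxy))
    haveI : (H₁.subgroupOf H).FiniteIndex := ⟨hind⟩
    have hfH : Finite H := Nat.finite_of_card_ne_zero (by
      rw [← (H₁.subgroupOf H).card_mul_index]
      exact Nat.mul_ne_zero Nat.card_pos.ne' hind)
    refine hdeg ((Set.toFinite (H : Set (𝟙_ (Over (Spec (CommRingCat.of k))) ⟶ X))).subset fun x hx => ?_)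
    exact (hiff x).1 hx
  obtain ⟨N₀, -, hamp⟩ := AbCubeLib.exists_ample X
  obtain ⟨C, hCG, j, hCp, hCgi, hjMon, hjCl, ⟨hfs, hff, hfl⟩, -⟩ := AbCubeLib.exists_complement_of_class i hamp
  haveI : IsCommMonObj C := isCommMonObj_of_isProper_of_geometricallyIntegral C
  haveI : IsProper (B ⊗ C).hom := inferInstanceAs (IsProper (pullback.fst B.hom C.hom ≫ B.hom))
  haveI : GeometricallyIntegral (B ⊗ C).hom := AbCubeLib.geometricallyIntegral_tensor' B C
  letI : (B ⊗ C).left.Over (Spec (CommRingCat.of k)) := ⟨(B ⊗ C).hom⟩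
  let f : B ⊗ C ⟶ X := (fst B C ≫ i) * (snd B C ≫ j)
  haveI : IsFinite f.left := hff
  haveI : Flat f.left := hfl
  haveI : Surjective f.left := hfs
  let α := AbCubeLib.pb i ℓ
  let β := AbCubeLib.pb j ℓ
  -- translations along `B` fix the class
  have hB : ∀ t : 𝟙_ (Over (Spec (CommRingCat.of k))) ⟶ B,
      AbCubeLib.pb (𝟙 X * (toUnit X ≫ t ≫ i)) ℓ = ℓ := fun t => (hZx _).1 (hiZ ⟨_, rfl⟩)
  have hαinv : ∀ t : 𝟙_ (Over (Spec (CommRingCat.of k))) ⟶ B,
      AbCubeLib.pb (𝟙 B * (toUnit B ≫ t)) α = α := fun t => by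
    show AbCubeLib.pb _ (AbCubeLib.pb i ℓ) = AbCubeLib.pb i ℓ
    conv_rhs => rw [← hB t]
    rw [AbCubeLib.pb_pb, AbCubeLib.pb_pb, MonObj.mul_comp, MonObj.comp_mul, Category.id_comp, Category.comp_id,
      Category.assoc, ← Category.assoc i, toUnit_unique (i ≫ toUnit X) (toUnit B)]
  have hsplit : AbCubeLib.pb f ℓ = AbCubeLib.pb (fst B C) α * AbCubeLib.pb (snd B C) β := by
    haveI : Smooth B.hom := AbVarLib.smooth_of_geometricallyReduced B
    refine AbCubeLib.eq_of_closed_fibres (1 : 𝟙_ (Over (Spec (CommRingCat.of k))) ⟶ C) ?_ fun t => ?_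
    · simp only [AbCubeLib.pb, map_mul]
      change AbCubeLib.pb _ (AbCubeLib.pb f ℓ) = AbCubeLib.pb _ (AbCubeLib.pb _ α) * AbCubeLib.pb _ (AbCubeLib.pb _ β)
      rw [AbCubeLib.pb_pb, AbCubeLib.pb_pb, AbCubeLib.pb_pb, AbCubeLib.pb_pb, AbCubeLib.pb_pb, lift_fst, lift_snd]
      have e : lift (𝟙 B) (toUnit B ≫ (1 : 𝟙_ (Over (Spec (CommRingCat.of k))) ⟶ C)) ≫ f = i := by
        show _ ≫ ((fst B C ≫ i) * (snd B C ≫ j)) = i
        rw [MonObj.comp_mul, lift_fst_assoc, lift_snd_assoc, Category.id_comp, Category.assoc, MonObj.one_comp,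
          MonObj.comp_one, _root_.mul_one]
      rw [e, Category.id_comp, Category.assoc, AbCubeLib.pb_const, _root_.mul_one]
    · simp only [AbCubeLib.pb, map_mul]
      change AbCubeLib.pb _ (AbCubeLib.pb f ℓ) = AbCubeLib.pb _ (AbCubeLib.pb _ α) * AbCubeLib.pb _ (AbCubeLib.pb _ β)
      rw [AbCubeLib.pb_pb, AbCubeLib.pb_pb, AbCubeLib.pb_pb, AbCubeLib.pb_pb, AbCubeLib.pb_pb, lift_fst, lift_snd]
      have e : lift (toUnit C ≫ t) (𝟙 C) ≫ f = j ≫ (𝟙 X * (toUnit X ≫ t ≫ i)) := by
        show _ ≫ ((fst B C ≫ i) * (snd B C ≫ j)) = _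
        rw [MonObj.comp_mul, MonObj.comp_mul, lift_fst_assoc, lift_snd_assoc, Category.id_comp, Category.comp_id,
          Category.assoc, ← Category.assoc j, toUnit_unique (j ≫ toUnit X) (toUnit C), _root_.mul_comm]
      rw [e, ← AbCubeLib.pb_pb, hB, Category.id_comp, Category.assoc, AbCubeLib.pb_const, _root_.one_mul]
  obtain ⟨c, hc⟩ := AbCubeLib.exists_dim_eq C
  have hP : topologicalKrullDim (B ⊗ C).left = ((b + c : ℕ) : WithBot ℕ∞) := AbCubeLib.dim_tensor hb hc
  -- the degree of the isogeny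
  haveI : IsIntegral (B ⊗ C).left := GeometricallyIntegral.isIntegral_of_subsingleton (B ⊗ C).hom
  haveI : LocallyOfFinitePresentation f.left := by
    haveI : LocallyOfFinitePresentation (f.left ≫ X.hom) := by
      rw [Over.w]; exact LocallyOfFinitePresentation.iff_locallyOfFiniteType.2 inferInstance
    exact H8Lim.lfp_cancel_right f.left X.hom
  let x₀ := f.left (genericPoint (B ⊗ C).left)
  have hd : ∀ y, Scheme.Hom.finrank f.left y = Scheme.Hom.finrank f.left x₀ := fun y =>
    (Scheme.Hom.isLocallyConstant_finrank f.left).apply_eq_of_preconnectedSpace y x₀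
  have hd1 : 0 < Scheme.Hom.finrank f.left x₀ := Scheme.Hom.one_le_finrank_map f.left _
  have hpull := euler_pull k f hd ℓ
  have hα : ∀ n : ℕ, AbCubeLib.pb ((𝟙 (B ⊗ C)) ^ n) (AbCubeLib.pb (fst B C) α) =
      AbCubeLib.pb (fst B C) α ^ n := by
    intro n
    rw [AbCubeLib.pb_pb, MonObj.pow_comp, Category.id_comp]
    induction n with
    | zero => rw [pow_zero, pow_zero, AbCubeLib.pb_one]
    | succ n ih => rw [pow_succ, pow_succ, AbCubeLib.pb_mul_of_invariant α hαinv, ih]
  have hsnd : eul k (B ⊗ C) (AbCubeLib.pb (snd B C) β) = 0 := by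
    let p2 := (𝟙 B) ^ 2
    haveI : IsFinite p2.left := AbCubeLib.isFinite_pow (A := B) two_pos
    haveI : Flat p2.left := AbCubeLib.flat_pow (A := B) two_pos
    let h : B ⊗ C ⟶ B ⊗ C := lift (fst B C ≫ p2) (snd B C)
    have sqO : IsPullback (fst B C) h p2 (fst B C) :=
      IsPullback.of_isLimit' ⟨(lift_fst _ _).symm⟩ (PullbackCone.IsLimit.mk _
        (fun s => lift s.fst (s.snd ≫ snd B C))
        (fun s => lift_fst _ _)
        (fun s => by
          refine CartesianMonoidalCategory.hom_ext _ _ ?_ ?_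
          · rw [Category.assoc, lift_fst, lift_fst_assoc, s.condition]
          · rw [Category.assoc, lift_snd, lift_snd])
        (fun s m hm₁ hm₂ => by
          refine CartesianMonoidalCategory.hom_ext _ _ (hm₁.trans (lift_fst _ _).symm) ?_
          rw [lift_snd, ← hm₂, Category.assoc, lift_snd]))
    have sq : IsPullback (fst B C).left h.left p2.left (fst B C).left := sqO.map (Over.forget _)
    haveI : IsFinite h.left := MorphismProperty.of_isPullback (P := @IsFinite) sq inferInstance
    haveI : Flat h.left := MorphismProperty.of_isPullback (P := @Flat) sq inferInstance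
    have hdh : ∀ y, Scheme.Hom.finrank h.left y = 2 ^ (2 * b) := fun y =>
      (Scheme.Hom.finrank_of_isPullback _ _ _ _ sq y).trans (AbCubeLib.finrank_pow two_pos hb _)
    have e := euler_pull k h hdh (AbCubeLib.pb (snd B C) β)
    rw [AbCubeLib.pb_pb, lift_snd] at e
    have h2 : (1 : ℤ) < ((2 ^ (2 * b) : ℕ) : ℤ) := by exact_mod_cast Nat.one_lt_two_pow (by omega)
    generalize ((2 ^ (2 * b) : ℕ) : ℤ) = D at e h2
    have : (D - 1) * eul k (B ⊗ C) (AbCubeLib.pb (snd B C) β) = 0 := by linear_combination -e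
    rcases mul_eq_zero.1 this with h3 | h3
    · omega
    · exact h3
  have hmain := euler_mul_invariant k (b + c) hP (AbCubeLib.pb (fst B C) α) (AbCubeLib.pb (snd B C) β) hα
  rw [hsnd, ← hsplit, hpull] at hmain
  have h0 : eul k X ℓ = 0 :=
    (mul_eq_zero.1 hmain).resolve_left (by exact_mod_cast hd1.ne')
  rw [← h0, eul, AbCubeLib.invOf_of, EulerLib.chiCl_mk]
  exact (EulerLib.euler_congr k X.left (AmpleLib.unitTensorIso _)).symm


end Groth.Agent.S17505
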