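import Groth.Statements.S14611
import Groth.Agent.FlatCx12.Cochain

set_option autoImplicit false
universe u
open FlatCx

namespace Groth.Agent.S14611

open CategoryTheory CategoryTheory.Limits in
/-- Let A be a Noetherian ring, Q a cochain complex whose terms are finitely generated projective
A-modules, and d an integer such that H^p(Q) = 0 for every p < d and H^p(Q ⊗_A A/m) = 0 for every p
< d and every maximal ideal m of A. Then Q^d / im(Q^{d-1} → Q^d), the degree-d term of the
truncation τ_{≥ d} Q, is a projective A-module, so that τ_{≥ d} Q is again a complex of projective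
modules. (The published statement also asserts that Q → τ_{≥ d} Q is a quasi-isomorphism when H^p(Q)
= 0 for p < d; this row omits that clause.) -/
theorem result (A : Type u) [CommRing A] [IsNoetherianRing A]
    (Q : CochainComplex (ModuleCat.{u} A) ℤ)
    (hQ : ∀ i, Module.Finite A (Q.X i) ∧ Module.Projective A (Q.X i)) (d : ℤ)
    (h1 : ∀ p < d, IsZero (Q.homology p))
    (h2 : ∀ (m : Ideal A) [m.IsMaximal], ∀ p < d,
      IsZero ((CohIII.tensorObj Q (ModuleCat.of A (A ⧸ m))).homology p)) :
    Module.Projective A (Q.opcycles d) := by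
  have := fun i => (hQ i).1
  have := fun i => (hQ i).2
  have hex : ∀ (m : Ideal A) [m.IsMaximal], Function.Exact ((Q.d (d - 1 - 1) (d - 1)).hom.rTensor (A ⧸ m))
      ((Q.d (d - 1) d).hom.rTensor (A ⧸ m)) := fun m _ =>
    Groth.Agent.FlatCx12.exact_d_of_isZero (CohIII.tensorObj Q (ModuleCat.of A (A ⧸ m))) (d - 1 - 1) (d - 1) d
      (by omega) (by omega) (h2 m (d - 1) (by omega))
  have hfl := Groth.Agent.FlatCx12.flat_coker_of_residue (Q.d (d - 1 - 1) (d - 1)).hom (Q.d (d - 1) d).hom
    (congrArg ModuleCat.Hom.hom (Q.d_comp_d _ _ _)) hex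
  have : Module.FinitePresentation A (Q.X d ⧸ LinearMap.range (Q.d (d - 1) d).hom) :=
    Module.finitePresentation_of_finite A _
  have hproj : Module.Projective A (Q.X d ⧸ LinearMap.range (Q.d (d - 1) d).hom) :=
    Module.Flat.projective_of_finitePresentation
  have hker : LinearMap.ker (Q.pOpcycles d).hom = LinearMap.range (Q.d (d - 1) d).hom :=
    LinearMap.exact_iff.mp ((ShortComplex.ShortExact.moduleCat_exact_iff_function_exact _).mp
      (ShortComplex.exact_of_g_is_cokernel
        (ShortComplex.mk (Q.d (d - 1) d) (Q.pOpcycles d) (Q.d_pOpcycles (d - 1) d))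
        (Q.opcyclesIsCokernel (d - 1) d (CochainComplex.prev ℤ d))))
  exact Module.Projective.of_equiv ((Submodule.quotEquivOfEq _ _ hker.symm).trans
    ((Q.pOpcycles d).hom.quotKerEquivOfSurjective ((ModuleCat.epi_iff_surjective _).mp inferInstance)))

end Groth.Agent.S14611
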