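import Groth.Statements.S17906
import Groth.Prelude.Def_PicLoc
open CategoryTheory CategoryTheory.Limits AlgebraicGeometry

set_option autoImplicit false
universe u
open CategoryTheory CategoryTheory.Limits AlgebraicGeometry
open PicRel

namespace Groth.Agent.S17906

/-- Let f : X → S be a morphism of schemes, g : S' → S a morphism and X' = X ×_S S'. If the relative
Picard functor of X over S, sheafified and described through a representing S-scheme P with maps φ_T
from classes of modules on X ×_S T to S-morphisms T → P, is represented by P, then the relative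
Picard functor of X' over S' is represented by P ×_S S': a class c on (X ×_S S') ×_{S'} T is sent,
after transport along the canonical isomorphism of this scheme with X ×_S T, to the S'-morphism T →
P ×_S S' whose components are φ(c) and the structure morphism of T. (The published statement is for
the fppf sheafification, asserts the isomorphism of functors Pic_{X/S} ×_S S' ≅ Pic_{X'/S'} in
general, and adds the compatibility of universal bundles and rigidifications; stated here is the
representability consequence for the étale sheafification, to which the same argument applies.) -/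
theorem result {X S S' : Scheme.{u}} (f : X ⟶ S) (g : S' ⟶ S)
    (P : Over S) (φ : ∀ T : Over S, PicF.Cl (PicF.XT f T) → (T ⟶ P)) (hP : PicRel.IsRelPic f P φ) :
    PicRel.IsRelPic (pullback.snd f g) (Over.mk (pullback.snd P.hom g))
      (fun T c => Over.homMk
        (pullback.lift (φ (Over.mk (T.hom ≫ g)) (PicF.pullCl (pullbackLeftPullbackSndIso f g T.hom).inv c)).left T.hom
          (Over.w (φ (Over.mk (T.hom ≫ g)) (PicF.pullCl (pullbackLeftPullbackSndIso f g T.hom).inv c))))
        (pullback.lift_snd _ _ _)) := by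
  let e := fun T : Over S' => pullbackLeftPullbackSndIso f g T.hom
  let Tg := fun T : Over S' => Over.mk (T.hom ≫ g)
  refine ⟨fun T T' h c hc => ?_, fun T h => ?_, fun T c c' hc hc' he => ?_⟩
  · let h' : Tg T' ⟶ Tg T := Over.homMk h.left (by simp [Tg, Over.w_assoc])
    have hmap : (e T').inv ≫ PicF.XTmap (pullback.snd f g) h = PicF.XTmap f h' ≫ (e T).inv := by
      rw [← Iso.cancel_iso_hom_right _ _ (e T), Category.assoc, Category.assoc, Iso.inv_hom_id, Category.comp_id]
      apply pullback.hom_ext <;> simp [e, h', Tg, PicF.XTmap, pullback.map] <;> (repeat erw [pullback.lift_fst_assoc]) <;> (repeat erw [pullback.lift_fst]) <;> (repeat erw [pullback.lift_snd_assoc]) <;> (repeat erw [pullback.lift_snd]) <;> simp [e, Tg]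
    have key : φ (Tg T') (PicF.pullCl (e T').inv (PicF.pullCl (PicF.XTmap (pullback.snd f g) h) c)) =
        h' ≫ φ (Tg T) (PicF.pullCl (e T).inv c) := by
      rw [← PicLoc.pullCl_comp, hmap, PicLoc.pullCl_comp]
      exact hP.natural _ _ h' _ (PicLoc.isInvertibleCl_pullCl _ hc)
    refine Over.OverMorphism.ext (pullback.hom_ext ?_ ?_)
    · simp only [Over.comp_left, Category.assoc, Over.homMk_left, pullback.lift_fst]
      exact congrArg CommaMorphism.left key
    · exact (pullback.lift_snd _ _ _).trans ((Over.w h).symm.trans (congrArg (h.left ≫ ·) (pullback.lift_snd _ _ _).symm))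
  · let h₀ : Tg T ⟶ P := Over.homMk (h.left ≫ pullback.fst P.hom g) (by
      have := Over.w h
      simp [Tg] at this ⊢
      rw [pullback.condition, reassoc_of% this])
    obtain ⟨ι, U, hU, hs⟩ := hP.locallySurjective (Tg T) h₀
    refine ⟨ι, U, hU, fun i => ?_⟩
    obtain ⟨c₀, hc₀, hφ⟩ := hs i
    let j : Tg (PicRel.ovr T (U i)) ⟶ PicRel.ovr (Tg T) (U i) :=
      Over.homMk (𝟙 _) (by simp [Tg, PicRel.ovr])
    refine ⟨PicF.pullCl ((e (PicRel.ovr T (U i))).hom ≫ PicF.XTmap f j) c₀,
      PicLoc.isInvertibleCl_pullCl _ hc₀, ?_⟩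
    have key : φ (Tg (PicRel.ovr T (U i))) (PicF.pullCl (e (PicRel.ovr T (U i))).inv
        (PicF.pullCl ((e (PicRel.ovr T (U i))).hom ≫ PicF.XTmap f j) c₀)) = j ≫ φ _ c₀ := by
      rw [← PicLoc.pullCl_comp, Iso.inv_hom_id_assoc]
      exact hP.natural _ _ j _ hc₀
    refine Over.OverMorphism.ext (pullback.hom_ext ?_ ?_)
    · simp only [Over.comp_left, Category.assoc, Over.homMk_left, pullback.lift_fst]
      refine (congrArg CommaMorphism.left key).trans ?_
      rw [hφ]
      simp [j, h₀, PicRel.ovrHom]
    · exact (pullback.lift_snd _ _ _).trans ((congrArg ((U i).hom ≫ ·) (Over.w h).symm).trans (Category.assoc _ _ _).symm)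
  · have he' : φ (Tg T) (PicF.pullCl (e T).inv c) = φ (Tg T) (PicF.pullCl (e T).inv c') := by
      refine Over.OverMorphism.ext ?_
      have h1 := congrArg (fun q => q.left ≫ pullback.fst P.hom g) he
      simpa only [Over.homMk_left, pullback.lift_fst] using h1
    obtain ⟨ι, U, hU, hs⟩ := hP.locallyInjective (Tg T) _ _ (PicLoc.isInvertibleCl_pullCl _ hc)
      (PicLoc.isInvertibleCl_pullCl _ hc') he'
    refine ⟨ι, U, hU, fun i => ?_⟩
    let j : Tg (PicRel.ovr T (U i)) ⟶ PicRel.ovr (Tg T) (U i) :=
      Over.homMk (𝟙 _) (by simp [Tg, PicRel.ovr])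
    have hmap : PicF.XTmap (pullback.snd f g) (PicRel.ovrHom T (U i)) =
        ((e (PicRel.ovr T (U i))).hom ≫ PicF.XTmap f j) ≫ PicF.XTmap f (PicRel.ovrHom (Tg T) (U i)) ≫ (e T).inv := by
      rw [← Iso.cancel_iso_hom_right _ _ (e T), Category.assoc, Category.assoc, Category.assoc, Iso.inv_hom_id,
        Category.comp_id]
      apply pullback.hom_ext <;> simp [e, j, Tg, PicF.XTmap, PicRel.ovrHom, PicRel.ovr, pullback.map] <;> (repeat erw [pullback.lift_fst_assoc]) <;> (repeat erw [pullback.lift_fst]) <;> (repeat erw [pullback.lift_snd_assoc]) <;> (repeat erw [pullback.lift_snd]) <;> first | rfl | (erw [pullback.lift_snd_assoc, pullbackLeftPullbackSndIso_hom_snd_assoc]; rfl) | exact (((congrArg (fun q => (pullbackLeftPullbackSndIso f g ((U i).hom ≫ T.hom)).hom ≫ q) ((Category.assoc _ _ _).symm.trans (congrArg (· ≫ (U i).hom) (pullback.lift_snd _ _ _)))).trans ((Category.assoc _ _ _).symm.trans (congrArg (· ≫ (U i).hom) (pullbackLeftPullbackSndIso_hom_snd f g _)))).symm)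
    rw [hmap]
    simp only [PicLoc.pullCl_comp]
    rw [hs i]

end Groth.Agent.S17906
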