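import Groth.Statements.S19923
import Groth.Agent.AbDualLib.Points
import Groth.Agent.AbCubeLib.CubeRel
import Mathlib.AlgebraicGeometry.Group.Abelian
import Groth.Agent.ParaF29.Basic
import Groth.Agent.AbCubeLib.Invariant
-- import your own Groth.Agent.* helpers here

set_option autoImplicit false
universe u
open CategoryTheory CategoryTheory.Limits MonoidalCategory CartesianMonoidalCategory MonObj GrpObj AlgebraicGeometry
open AbVar

namespace Groth.Agent.S19923

/-- Let A be an abelian variety over a field k (a proper, geometrically integral commutative k-group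
scheme; k arbitrary), given with a dual (Â, φ_A) and a dual (Â̂, φ_Â) of Â — each represents the
fppf-sheafified functor of invertible classes algebraically equivalent to zero on geometric fibres,
with φ multiplicative — and with a Poincaré class ξ on A ×_k Â whose transpose ξ' on Â ×_k A lies in
Pic⁰ on the fibres over A; put ι_A = φ_Â(ξ') : A → Â̂ (the double-duality morphism). Let L be an
invertible O_A-module with an inverse L⁻¹, and let Λ be a module on A ×_k A isomorphic to m^*L ⊗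
p₁^*L⁻¹ ⊗ p₂^*L⁻¹ (m the group law, p₁, p₂ the projections) whose class lies in Pic⁰ on the fibres
over the second factor, so that φ_L := φ_A(Λ) : A → Â is the homomorphism a ↦ t_a^*L ⊗ L⁻¹. If φ̂_L
: Â̂ → Â is a transpose of φ_L (φ_A of the pull-back of a Pic⁰ class c along (φ_L)_T equals φ_Â(c)
followed by φ̂_L), then φ_L = ι_A followed by φ̂_L: the homomorphism φ_L is symmetric. -/
theorem result (K : Type u) [Field K]
    (A At Att : Over (Spec (CommRingCat.of K)))
    [GrpObj A] [IsCommMonObj A] [IsProper A.hom] [GeometricallyIntegral A.hom]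
    [GrpObj At] [IsCommMonObj At] [IsProper At.hom] [GeometricallyIntegral At.hom]
    [GrpObj Att] [IsCommMonObj Att] [IsProper Att.hom] [GeometricallyIntegral Att.hom]
    (φA : ∀ T : Over (Spec (CommRingCat.of K)), PicF.Cl (PicF.XT A.hom T) → (T ⟶ At))
    (hAt : AbDual.IsDualAV Scheme.fppfPrecoverage A At φA)
    (φAt : ∀ T : Over (Spec (CommRingCat.of K)), PicF.Cl (PicF.XT At.hom T) → (T ⟶ Att))
    (hAtt : AbDual.IsDualAV Scheme.fppfPrecoverage At Att φAt)
    (ξ : PicF.Cl (PicF.XT A.hom At)) (hξ : AbDual.IsPoincareCl A At φA ξ)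
    (hξ' : AbDual.IsPicZeroCl At.hom A (PicF.pullCl (pullbackSymmetry At.hom A.hom).hom ξ))
    (L Linv : A.left.Modules) (hL : PicF.IsInvertible L)
    (hLinv : Nonempty (CohB1.tensorMod L Linv ≅ Coh.structureModule A.left))
    (Λ : (PicF.XT A.hom A).Modules)
    (hΛ : Nonempty (Λ ≅ CohB1.tensorMod (CohB1.tensorMod ((Scheme.Modules.pullback (μ[A]).left).obj L)
      ((Scheme.Modules.pullback (fst A A).left).obj Linv)) ((Scheme.Modules.pullback (snd A A).left).obj Linv)))
    (hΛ0 : AbDual.IsPicZeroCl A.hom A (PicF.cl Λ))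
    (tl : Att ⟶ At) [IsMonHom tl]
    (htl : AbDual.IsTranspose (φA A (PicF.cl Λ)) φA φAt tl) :
    φA A (PicF.cl Λ) = φAt A (PicF.pullCl (pullbackSymmetry At.hom A.hom).hom ξ) ≫ tl := by
  haveI : Smooth A.hom := NeronLib.smooth_of_geometricallyIntegral A
  haveI : GeometricallyConnected A.hom := CubeLib.geometricallyConnected_hom A
  obtain ⟨P, rfl, hP0, hPid, hPrig⟩ := AbDualLib.exists_poincare hξ
  obtain ⟨_, hΛcl, hΛi, -⟩ := id hΛ0
  have hΛinv : PicF.IsInvertible Λ := ParaF29.isInvertible_of_iso ((PicGrp.cl_eq_cl_iff _ _).1 hΛcl).some hΛi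
  obtain ⟨eLinv⟩ := hLinv
  have hLi : PicF.IsInvertible Linv := PicLib.PicM.isInvertible_of_tensor hL (ParaF29.isInvertible_of_iso eLinv.symm (PicLoc.isInvertible_structureModule _))
  let Λc : PicLib.PicM (A ⊗ A).left := PicLib.PicM.of hΛinv
  let a : PicLib.PicM A.left := PicLib.PicM.of hL
  let b : PicLib.PicM A.left := PicLib.PicM.of hLi
  have hΛ' : Λc = AbCubeLib.pb μ[A] a * AbCubeLib.pb (fst A A) b * AbCubeLib.pb (snd A A) b := by
    show PicLib.PicM.of hΛinv = PicLib.PicM.pull μ[A].left a * PicLib.PicM.pull _ b * PicLib.PicM.pull _ b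
    rw [PicLib.PicM.pull_of, PicLib.PicM.pull_of, PicLib.PicM.pull_of, PicLib.PicM.of_mul, PicLib.PicM.of_mul,
      PicLib.PicM.of_eq_iff]
    exact hΛ
  have hab : a * b = 1 := by
    rw [PicLib.PicM.of_mul, PicLib.PicM.of_eq_one_iff]
    exact ⟨eLinv⟩
  let lam : A ⟶ At := φA A Λc.val
  show lam = φAt A (PicF.pullCl (pullbackSymmetry At.hom A.hom).hom P.val) ≫ tl
  obtain ⟨q0, qφ, qrig⟩ := AbDualLib.poincare_point hAt hP0 hPid hPrig lam
  have hμ : μ[A] = fst A A * snd A A := by rw [Hom.mul_def, lift_fst_snd, Category.id_comp]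
  have hΛrig : PicLib.PicM.pull (lift (1 : A ⟶ A) (𝟙 A)).left Λc = 1 := by
    show AbCubeLib.pb (lift (1 : A ⟶ A) (𝟙 A)) Λc = 1
    rw [hΛ']
    simp only [AbCubeLib.pb, map_mul]
    show AbCubeLib.pb _ (AbCubeLib.pb _ a) * AbCubeLib.pb _ (AbCubeLib.pb _ b) * AbCubeLib.pb _ (AbCubeLib.pb _ b) = 1
    rw [AbCubeLib.pb_pb, AbCubeLib.pb_pb, AbCubeLib.pb_pb, lift_fst, lift_snd, hμ, MonObj.comp_mul, lift_fst, lift_snd,
      _root_.one_mul, AbCubeLib.pb_one, _root_.mul_one]
    show PicLib.PicM.pull _ a * PicLib.PicM.pull _ b = 1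
    rw [← map_mul, hab, map_one]
  have key : Λc = AbDualLib.ev P (fst A A) (snd A A ≫ lam) :=
    AbDualLib.eq_of_phi_eq hAt _ _ hΛ0 q0 hΛrig qrig qφ.symm
  have hsym : PicLib.PicM.pull (lift (snd A A) (fst A A)).left Λc = Λc := by
    show AbCubeLib.pb (lift (snd A A) (fst A A)) Λc = Λc
    rw [hΛ']
    simp only [AbCubeLib.pb, map_mul]
    show AbCubeLib.pb _ (AbCubeLib.pb _ a) * AbCubeLib.pb _ (AbCubeLib.pb _ b) * AbCubeLib.pb _ (AbCubeLib.pb _ b) = _
    rw [AbCubeLib.pb_pb, AbCubeLib.pb_pb, AbCubeLib.pb_pb, lift_fst, lift_snd, hμ, MonObj.comp_mul, lift_fst, lift_snd,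
      _root_.mul_comm (snd A A), _root_.mul_assoc, _root_.mul_comm (AbCubeLib.pb (snd A A) b), ← _root_.mul_assoc]
  rw [AbDualLib.pullCl_sym] at hξ' ⊢
  refine Eq.trans ?_ (htl A (AbDualLib.ev P (snd At A) (fst At A)).val hξ')
  show lam = φA A (PicLib.PicM.pull (AbDual.bcMap lam A) (AbDualLib.ev P (snd At A) (fst At A))).val
  rw [AbDualLib.pull_bcMap]
  conv_lhs => change φA A Λc.val; rw [← hsym, key, AbDualLib.pull_ev]
  congr 2
  show _ = PicLib.PicM.pull _ (AbDualLib.ev P _ _)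
  rw [AbDualLib.pull_ev]
  simp

end Groth.Agent.S19923
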