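import Groth.Statements.S6965
import Groth.Agent.DCat.Amplitude
import Groth.Agent.DCat.ProjHomology
import Mathlib.Algebra.Category.ModuleCat.AB
import Mathlib.CategoryTheory.Abelian.GrothendieckCategory.EnoughInjectives
import Mathlib.Algebra.Category.ModuleCat.Projective
import Mathlib.Algebra.Category.ModuleCat.Injective

set_option autoImplicit false
set_option backward.isDefEq.respectTransparency false
set_option backward.defeqAttrib.useBackward true
universe u
open CategoryTheory CategoryTheory.Limits
attribute [local instance] HasDerivedCategory.standard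
open DRing

namespace Groth.Agent.S6965

open CategoryTheory HomologicalComplex

lemma subsingleton_hd {R : Type u} [CommRing R] (K : Dual.D R) (i : ℤ)
    (h : Subsingleton (DRing.ExtD R (Dual.inD R (R ⧸ (⊥ : Ideal R))) K i)) :
    Subsingleton (Dual.HD R K i) := by
  let θ := ((DerivedCategory.homologyFunctor (ModuleCat.{u} R) 0).shiftIso i 0 i (by simp)).app K
  let e := Submodule.quotEquivOfEqBot (⊥ : Ideal R) rfl
  have : Module.Projective R (R ⧸ (⊥ : Ideal R)) := Module.Projective.of_equiv e.symm
  refine subsingleton_of_forall_eq 0 fun x => θ.symm.toLinearEquiv.injective ?_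
  obtain ⟨φ, hφ⟩ := (DCat.ProjHomology.bijective_toH (ModuleCat.of R (R ⧸ (⊥ : Ideal R))) (K⟦i⟧)).2
    (ModuleCat.ofHom (LinearMap.toSpanSingleton R _ (θ.inv x) ∘ₗ e.toLinearMap))
  have h0 := LinearMap.congr_fun (congrArg ModuleCat.Hom.hom hφ) (e.symm 1)
  rw [@Subsingleton.elim _ h φ 0] at h0
  simp only [DCat.ProjHomology.toH, Functor.map_zero, Limits.comp_zero] at h0
  refine Eq.trans ?_ (map_zero _).symm
  simpa using h0.symm

/-- Let R be a commutative ring, K an object of D(R) and a, b integers. These three conditions are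
equivalent: (1) the injective amplitude of K lies in [a, b], meaning K is isomorphic in D(R) to a
complex of injective R-modules vanishing outside [a, b]; (2) Hom(N[0], K[i]) = 0 in D(R) for every
R-module N and every integer i outside [a, b]; (3) Hom((R/I)[0], K[i]) = 0 in D(R) for every ideal I
of R and every integer i outside [a, b]. -/
theorem result (R : Type u) [CommRing R] (K : Dual.D R) (a b : ℤ) :
    [DRing.HasInjAmplitudeIn R a b K,
      ∀ (N : Type u) [AddCommGroup N] [Module R N] (i : ℤ), (i < a ∨ b < i) →
        Subsingleton (DRing.ExtD R (Dual.inD R N) K i),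
      ∀ (I : Ideal R) (i : ℤ), (i < a ∨ b < i) → Subsingleton (DRing.ExtD R (Dual.inD R (R ⧸ I)) K i)].TFAE := by
  have : EnoughInjectives (ModuleCat.{u} R) := inferInstance
  tfae_have 1 → 2 := by
    rintro ⟨E, hE, hEi, ⟨e⟩⟩ N _ _ i hi
    have hj : ∀ n, CategoryTheory.Injective (E.X n) := fun n =>
      (Module.injective_iff_injective_object R (E.X n)).1 (hEi n)
    have : E.IsStrictlyGE a := (CochainComplex.isStrictlyGE_iff E a).2 fun n hn => hE n (Or.inl hn)
    have : E.IsKInjective := CochainComplex.isKInjective_of_injective E a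
    refine subsingleton_of_forall_eq 0 ?_
    exact (DCat.Amplitude.from_shift_iff e.symm (ModuleCat.of R N) i).2
      ((DCat.Amplitude.from_single_iff E (ModuleCat.of R N) i).2 fun f _ =>
        ⟨0, by rw [(hE i hi).eq_of_tgt f 0, zero_comp]⟩)
  tfae_have 2 → 3 := fun h I i hi => h (R ⧸ I) i hi
  tfae_have 3 → 1 := by
    intro h
    have hz : ∀ i, i < a ∨ b < i → IsZero ((DerivedCategory.homologyFunctor (ModuleCat.{u} R) i).obj K) :=
      fun i hi => @ModuleCat.isZero_of_subsingleton R _ _ (subsingleton_hd K i (h ⊥ i hi))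
    have : K.IsGE a := (DerivedCategory.isGE_iff K a).2 fun i hi => hz i (Or.inl hi)
    have hKb : K.IsLE b := (DerivedCategory.isLE_iff K b).2 fun i hi => hz i (Or.inr hi)
    obtain ⟨J, hJa, hJk, hJi, ⟨e⟩⟩ := DCat.Amplitude.exists_kInjective_rep K a
    have : (DerivedCategory.Q.obj J).IsLE b := DerivedCategory.TStructure.t.isLE_of_iso e.symm b
    have : J.IsLE b := (DerivedCategory.isLE_Q_obj_iff J b).1 this
    refine ⟨J.truncLE b, fun i hi => ?_, fun i => ?_,
      ⟨asIso (DerivedCategory.Q.map (J.ιTruncLE b)) ≪≫ e⟩⟩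
    · rcases hi with hi | hi
      · rcases lt_trichotomy i b with hib | rfl | hib
        · exact (J.isZero_of_isStrictlyGE a i hi).of_iso (J.truncLEXIso b i hib)
        · refine IsZero.of_mono ((J.truncLEXIsoCycles i).hom ≫ J.iCycles i) (J.isZero_of_isStrictlyGE a i hi)
        · exact (J.truncLE b).isZero_of_isStrictlyLE b i hib
      · exact (J.truncLE b).isZero_of_isStrictlyLE b i hi
    · rw [Module.injective_iff_injective_object]
      show CategoryTheory.Injective ((J.truncLE b).X i)
      rcases lt_trichotomy i b with hib | rfl | hib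
      · exact CategoryTheory.Injective.of_iso (J.truncLEXIso b i hib).symm (hJi i)
      · refine CategoryTheory.Injective.of_iso (J.truncLEXIsoCycles i).symm ?_
        show CategoryTheory.Injective (ModuleCat.of R (J.cycles i))
        refine (Module.injective_iff_injective_object R _).1 (Module.Baer.injective fun I g => ?_)
        have := hJi i
        let G : ModuleCat.of R R ⟶ J.X i :=
          @CategoryTheory.Injective.factorThru _ _ (J.X i) _ _ (hJi i) (ModuleCat.ofHom g ≫ J.iCycles i)
            (ModuleCat.ofHom I.subtype) ((ModuleCat.mono_iff_injective _).2 Subtype.val_injective)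
        have hG : ModuleCat.ofHom I.subtype ≫ G = ModuleCat.ofHom g ≫ J.iCycles i :=
          @CategoryTheory.Injective.comp_factorThru _ _ (J.X i) _ _ (hJi i) (ModuleCat.ofHom g ≫ J.iCycles i)
            (ModuleCat.ofHom I.subtype) ((ModuleCat.mono_iff_injective _).2 Subtype.val_injective)
        let f : ModuleCat.of R (R ⧸ I) ⟶ J.X (i + 1) :=
          ModuleCat.ofHom (Submodule.liftQ I (G ≫ J.d i (i + 1)).hom fun x hx => by
            have := ConcreteCategory.congr_hom (hG =≫ J.d i (i + 1)) (⟨x, hx⟩ : I)
            simp only [Category.assoc, iCycles_d, comp_zero] at this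
            exact this)
        have hf : f ≫ J.d (i + 1) (i + 1 + 1) = 0 :=
          ModuleCat.hom_ext (Submodule.linearMap_qext _ (LinearMap.ext fun x =>
            ConcreteCategory.congr_hom (show (G ≫ J.d i (i + 1)) ≫ J.d (i + 1) (i + 1 + 1) = 0 by simp) x))
        obtain ⟨k, hk⟩ := (DCat.Amplitude.from_single_iff J (ModuleCat.of R (R ⧸ I)) (i + 1)).1
          ((DCat.Amplitude.from_shift_iff e.symm _ (i + 1)).1 fun φ =>
            @Subsingleton.elim _ (h I (i + 1) (Or.inr (lt_add_one i))) φ 0) f hf
        obtain ⟨k', hk'⟩ : ∃ k' : ModuleCat.of R (R ⧸ I) ⟶ J.X i, f = k' ≫ J.d i (i + 1) :=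
          ⟨k ≫ (J.XIsoOfEq (add_sub_cancel_right i 1)).hom, by simpa using hk⟩
        let G' : ModuleCat.of R R ⟶ J.X i := G - ModuleCat.ofHom (Submodule.mkQ I) ≫ k'
        refine ⟨(J.liftCycles G' (i + 1) (by simp) (by
          simp only [G', Preadditive.sub_comp, Category.assoc, ← hk']
          exact sub_eq_zero.2 (ModuleCat.hom_ext (LinearMap.ext fun x => rfl)))).hom, fun x hx => ?_⟩
        refine (ModuleCat.mono_iff_injective (J.iCycles i)).1 inferInstance ?_
        rw [← ConcreteCategory.comp_apply, HomologicalComplex.liftCycles_i]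
        show G x - k' (Submodule.Quotient.mk x) = _
        rw [(Submodule.Quotient.mk_eq_zero I).2 hx, map_zero, sub_zero]
        exact ConcreteCategory.congr_hom hG (⟨x, hx⟩ : I)
      · exact ((J.truncLE b).isZero_of_isStrictlyLE b i hib).injective
  tfae_finish


end Groth.Agent.S6965
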