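import Groth.Agent.CAlgH.CIImmersion
import Groth.Agent.CAlgH.KoszulDescent
import Groth.Agent.CAlgH.KoszulSeq
import Groth.Agent.SDiv28.KoszulH1
import Groth.Agent.CAlgH3.AssFlat
import Groth.Agent.CAlgH3.FiberMod
import Groth.Agent.CAlgH3.CMRing
import Groth.Agent.EGA41Lib.CMParameters
import Groth.Agent.Props12.FlatOver
import Groth.Prelude.Def_LCI2

/-!
# Relative local complete intersections with generically smooth fibres: `H₁` of the cotangent complex vanishes
-/

set_option autoImplicit false

universe u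

open IsLocalRing RingTheory.Sequence TensorProduct
open Groth.Agent.Disc12.Koszul Groth.Agent.CAlgH.KoszulRegular

noncomputable section

namespace Groth.Agent.LciGenSmooth29

theorem koszulH1Zero_of_isH1Regular {R : Type u} [CommRing R] {n : ℕ} {f : Fin n → R} (h : CAlgX.IsH1Regular f) :
    CInt.KoszulH1Zero f R := by
  intro m hm
  refine Submodule.span_mono ?_ (h m (by simpa [mul_comm, smul_eq_mul] using hm))
  rintro v ⟨i, j, rfl⟩
  refine ⟨i, j, 1, ?_⟩
  ext k
  simp [Pi.single_apply]

variable {A : Type u} [CommRing A] [IsNoetherianRing A]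

theorem exists_local_regular {S : Type u} [CommRing S] [IsNoetherianRing S] (I : Ideal S)
    (hI : LCI.IsKoszulRegularIdeal I) (q : Ideal S) [q.IsPrime] (hq : I ≤ q) :
    ∃ (c : ℕ) (r : Fin c → Localization.AtPrime q), KReg r ∧
      Ideal.span (Set.range r) = I.map (algebraMap S (Localization.AtPrime q)) ∧
      (∀ i, r i ∈ maximalIdeal (Localization.AtPrime q)) ∧ IsWeaklyRegular (Localization.AtPrime q) (List.ofFn r) := by
  obtain ⟨g, hg, l, hl, hspan⟩ := hI ⟨q, inferInstance⟩ hq
  let L := Localization.AtPrime q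
  letI : Algebra (Localization.Away g) L :=
    (IsLocalization.Away.lift g (IsLocalization.map_units L (⟨g, hg⟩ : q.primeCompl))).toAlgebra
  haveI : IsScalarTower S (Localization.Away g) L :=
    IsScalarTower.of_algebraMap_eq fun x => (IsLocalization.Away.lift_eq g _ x).symm
  haveI := IsLocalization.isLocalization_of_submonoid_le (Localization.Away g) L (Submonoid.powers g) q.primeCompl
    (Submonoid.powers_le.2 hg)
  haveI : Module.Flat (Localization.Away g) L :=
    IsLocalization.flat L (Submonoid.map (algebraMap S (Localization.Away g)) q.primeCompl)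
  have hk : KReg fun i => algebraMap (Localization.Away g) L (l.get i) :=
    KReg.map (CAlgH.KoszulDescent.kreg_get hl)
  have hs : Ideal.span (Set.range fun i => algebraMap (Localization.Away g) L (l.get i)) = I.map (algebraMap S L) := by
    rw [IsScalarTower.algebraMap_eq S (Localization.Away g) L, ← Ideal.map_map, hspan, Ideal.map_span]
    congr 1
    ext x
    simp only [Set.mem_range, Set.mem_image, Set.mem_setOf_eq]
    constructor
    · rintro ⟨i, rfl⟩
      exact ⟨_, List.get_mem _ _, rfl⟩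
    · rintro ⟨y, hy, rfl⟩
      obtain ⟨i, rfl⟩ := List.mem_iff_get.1 hy
      exact ⟨i, rfl⟩
  have hm : ∀ i, algebraMap (Localization.Away g) L (l.get i) ∈ maximalIdeal L := fun i => by
    have h1 : I.map (algebraMap S L) ≤ maximalIdeal L := by
      rw [← Localization.AtPrime.map_eq_maximalIdeal]
      exact Ideal.map_mono hq
    exact h1 (hs ▸ Ideal.subset_span ⟨i, rfl⟩)
  refine ⟨l.length, _, hk, hs, hm, ?_⟩
  haveI : IsNoetherianRing L := IsLocalization.isNoetherianRing q.primeCompl L inferInstance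
  exact CAlgH.KoszulSeq.isWeaklyRegular_of_koszulH1Zero _
    (fun i => by rw [IsLocalRing.jacobson_eq_maximalIdeal ⊥ bot_ne_top]; exact hm i) L
    (koszulH1Zero_of_isH1Regular (SDiv28.RegSeq.isH1Regular_of_kreg hk))

theorem eq_maximalIdeal_of_regular {R : Type u} [CommRing R] [IsRegularLocalRing R] (rs : List R)
    (hm : ∀ r ∈ rs, r ∈ maximalIdeal R) (hreg : IsWeaklyRegular R rs) (x : R) (hx : x ∉ Ideal.ofList rs)
    (hkill : ∀ t ∈ maximalIdeal R, t * x ∈ Ideal.ofList rs) (Pm : Ideal R) [Pm.IsPrime]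
    (hPm : Ideal.ofList rs ≤ Pm) : Pm = maximalIdeal R := by
  haveI := CAlgH3.isCohenMacaulayLocalRing_of_regular R
  obtain ⟨-, hCM⟩ := (EGA41Lib.cm_regular_sequence rs R
    ((CAlgH3.isCohenMacaulayLocalRing_iff _).1 inferInstance) hm).1 hreg
  let J : Submodule R R := Ideal.ofList rs • (⊤ : Submodule R R)
  have hJ : J = Ideal.ofList rs := by
    show Ideal.ofList rs • (⊤ : Submodule R R) = _
    rw [smul_eq_mul, Ideal.mul_top]
  have hmax : maximalIdeal R ∈ associatedPrimes R (R ⧸ J) := by
    refine isAssociatedPrime_iff.2 ⟨inferInstance, Submodule.Quotient.mk x, ?_⟩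
    refine ((maximalIdeal.isMaximal _).eq_of_le ?_ ?_)
    · intro h
      have h1 : (1 : R) ∈ (⊥ : Submodule R (R ⧸ J)).colon {Submodule.Quotient.mk x} := h ▸ trivial
      rw [Submodule.mem_colon_singleton, one_smul, Submodule.mem_bot, Submodule.Quotient.mk_eq_zero, hJ] at h1
      exact hx h1
    · intro t ht
      rw [Submodule.mem_colon_singleton, Submodule.mem_bot, ← Submodule.Quotient.mk_smul,
        Submodule.Quotient.mk_eq_zero, smul_eq_mul, hJ]
      exact hkill t ht
  have hdim : Module.supportDim R (R ⧸ J) = 0 := by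
    rw [← CAlgH3.ringKrullDim_quotient_eq_of_mem_associatedPrimes hCM hmax]
    letI := Ideal.Quotient.field (maximalIdeal R)
    exact ringKrullDim_eq_zero_of_field _
  have hmem : (⟨Pm, inferInstance⟩ : PrimeSpectrum R) ∈ Module.support R (R ⧸ J) := by
    rw [Module.support_eq_zeroLocus, Ideal.annihilator_quotient, PrimeSpectrum.mem_zeroLocus, SetLike.coe_subset_coe, hJ]
    exact hPm
  rw [support_of_supportDim_eq_zero _ _ hdim, PrimeSpectrum.mem_zeroLocus, SetLike.coe_subset_coe] at hmem
  exact ((maximalIdeal.isMaximal R).eq_of_le (Ideal.IsPrime.ne_top inferInstance) hmem).symm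

theorem minimal_in_fibre {n : ℕ} {P : Type u} [CommRing P] [Algebra A P] [Module.Flat A P]
    (f : MvPolynomial (Fin n) A →ₐ[A] P) (hf : Function.Surjective f)
    (hI : LCI.IsKoszulRegularIdeal (RingHom.ker f.toRingHom)) (Q : Ideal P) (hQ : Q ∈ associatedPrimes P P)
    (Q' : Ideal P) [Q'.IsPrime] (hle : Q' ≤ Q) (hcomap : Q'.comap (algebraMap A P) = Q.comap (algebraMap A P)) :
    Q' = Q := by
  classical
  haveI := IsAssociatedPrime.isPrime hQ
  haveI : IsNoetherianRing P := isNoetherianRing_of_surjective _ P f.toRingHom hf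
  let S := MvPolynomial (Fin n) A
  let I := RingHom.ker f.toRingHom
  let p := Q.comap (algebraMap A P)
  let q := Q.comap f.toRingHom
  have hIq : I ≤ q := fun x hx => show f x ∈ Q by rw [show f x = 0 from hx]; exact Q.zero_mem
  have hp : q.comap (algebraMap A S) = p := by
    ext a
    show f (algebraMap A S a) ∈ Q ↔ algebraMap A P a ∈ Q
    rw [AlgHom.commutes]
  obtain ⟨w, hw⟩ : ∃ w : P ⧸ p.map (algebraMap A P) • (⊤ : Submodule P P),
      Q = (⊥ : Submodule P (P ⧸ p.map (algebraMap A P) • (⊤ : Submodule P P))).colon {w} := by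
    have hQ' : Q ∈ associatedPrimes P (P ⊗[A] A) := by
      rw [LinearEquiv.AssociatedPrimes.eq (Algebra.TensorProduct.rid A P P).toLinearEquiv]
      exact hQ
    have h1 := (CAlgH3.AssFlat.mem_of_mem hQ').2
    rw [LinearEquiv.AssociatedPrimes.eq (CAlgH3.FiberMod.tensorQuotEquiv (S := P) (N := P) p)] at h1
    exact (isAssociatedPrime_iff.1 h1).2
  obtain ⟨w, rfl⟩ := Submodule.Quotient.mk_surjective _ w
  obtain ⟨s, rfl⟩ := hf w
  let L := Localization.AtPrime q
  obtain ⟨c, r, -, hspan, hrm, hwr⟩ := exists_local_regular I hI q hIq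
  let a := p.map (algebraMap A L)
  haveI : IsNoetherianRing L := IsLocalization.isNoetherianRing q.primeCompl L inferInstance
  haveI : IsRegularLocalRing (L ⧸ a) := by
    have h : IsRegularLocalRing (L ⧸ (q.comap (algebraMap A S)).map (algebraMap A L)) :=
      CAlgH.CIOpen.isRegularLocalRing_fib_mvPolynomial (R := A) n q
    rw [hp] at h
    exact h
  let rb : Fin c → L ⧸ a := fun i => Ideal.Quotient.mk a (r i)
  have hmaxeq : maximalIdeal (L ⧸ a) = (maximalIdeal L).map (Ideal.Quotient.mk a) := by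
    haveI := Ideal.comap_isMaximal_of_surjective (Ideal.Quotient.mk a) Ideal.Quotient.mk_surjective
      (K := maximalIdeal (L ⧸ a))
    rw [← IsLocalRing.eq_maximalIdeal (I := Ideal.comap (Ideal.Quotient.mk a) (maximalIdeal (L ⧸ a))) inferInstance,
      Ideal.map_comap_of_surjective _ Ideal.Quotient.mk_surjective]
  have hrbm : ∀ i, rb i ∈ maximalIdeal (L ⧸ a) := fun i => by
    rw [hmaxeq]
    exact Ideal.mem_map_of_mem _ (hrm i)
  haveI : Module.Flat A (L ⧸ Ideal.span (Set.range r)) := by
    rw [hspan]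
    refine CAlgH.CIOpen.flat_quotient_localization q I ?_
    haveI : Module.Flat A (S ⧸ I) := Module.Flat.of_linearEquiv
      (Ideal.quotientKerAlgEquivOfSurjective hf).toLinearEquiv
    exact Props12.flat_localizedModule q.primeCompl (S ⧸ I)
  have hreg : IsWeaklyRegular (L ⧸ a) (List.ofFn rb) :=
    CAlgH.CIImmersion.isWeaklyRegular_fibre_of_flat_quotient p r hwr hrbm
  let π : S →+* L ⧸ a := (Ideal.Quotient.mk a).comp (algebraMap S L)
  let J : Ideal (L ⧸ a) := Ideal.ofList (List.ofFn rb)
  have hJ : J = I.map π := by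
    show Ideal.ofList (List.ofFn rb) = _
    rw [← Ideal.map_map, ← hspan, Ideal.map_span, Ideal.ofList]
    congr 1
    ext x
    simp [rb, List.mem_ofFn]
  have hmemJ : ∀ t : S, π t ∈ J ↔ ∃ u ∉ q, f (u * t) ∈ p.map (algebraMap A P) := by
    intro t
    have hmap : (I ⊔ p.map (algebraMap A S)).map (algebraMap S L) = I.map (algebraMap S L) ⊔ a := by
      rw [Ideal.map_sup, Ideal.map_map, ← IsScalarTower.algebraMap_eq]
    have h1 : π t ∈ J ↔ algebraMap S L t ∈ (I ⊔ p.map (algebraMap A S)).map (algebraMap S L) := by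
      rw [hJ, hmap, ← Ideal.map_map]
      show Ideal.Quotient.mk a (algebraMap S L t) ∈ _ ↔ _
      rw [← Ideal.mem_comap, Ideal.comap_map_of_surjective' _ Ideal.Quotient.mk_surjective, Ideal.mk_ker]
    have h2 : ∀ z : S, z ∈ I ⊔ p.map (algebraMap A S) ↔ f z ∈ p.map (algebraMap A P) := by
      intro z
      rw [← f.comp_algebraMap, ← Ideal.map_map, sup_comm]
      show z ∈ p.map (algebraMap A S) ⊔ RingHom.ker f.toRingHom ↔ z ∈ ((p.map (algebraMap A S)).map f.toRingHom).comap f.toRingHom
      rw [Ideal.comap_map_of_surjective' f.toRingHom hf]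
    rw [h1, IsLocalization.algebraMap_mem_map_algebraMap_iff q.primeCompl]
    exact exists_congr fun u => and_congr Iff.rfl (h2 _)
  have hann : ∀ z : P, z ∈ Q ↔ z * f s ∈ p.map (algebraMap A P) := by
    intro z
    rw [hw, Submodule.mem_colon_singleton, Submodule.mem_bot, ← Submodule.Quotient.mk_smul,
      Submodule.Quotient.mk_eq_zero, smul_eq_mul, smul_eq_mul, Ideal.mul_top]
  have hx : π s ∉ J := fun h => by
    obtain ⟨u, hu, hus⟩ := (hmemJ s).1 h
    rw [map_mul, ← hann] at hus
    exact hu hus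
  have hkill : ∀ t ∈ maximalIdeal (L ⧸ a), t * π s ∈ J := by
    intro t ht
    rw [hmaxeq, ← Localization.AtPrime.map_eq_maximalIdeal, Ideal.map_map] at ht
    have hle : q.map π ≤ Submodule.comap (LinearMap.mulRight (L ⧸ a) (π s)) J := by
      refine Ideal.map_le_iff_le_comap.2 fun t ht => ?_
      show π t * π s ∈ J
      rw [← map_mul, hmemJ]
      refine ⟨1, q.primeCompl.one_mem, ?_⟩
      rw [one_mul, map_mul, ← hann]
      exact ht
    exact hle ht
  let q' := Q'.comap f.toRingHom
  have hq'q : q' ≤ q := Ideal.comap_mono hle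
  have hdisj : Disjoint (q.primeCompl : Set S) (q' : Set S) :=
    Set.disjoint_left.2 fun x hx hx' => hx (hq'q hx')
  let M' := q'.map (algebraMap S L)
  haveI : M'.IsPrime := IsLocalization.isPrime_of_isPrime_disjoint q.primeCompl L q' inferInstance hdisj
  have haM : a ≤ M' := by
    rw [Ideal.map_le_iff_le_comap]
    intro x hx
    rw [Ideal.mem_comap, IsScalarTower.algebraMap_apply A S L]
    refine Ideal.mem_map_of_mem _ ?_
    show f (algebraMap A S x) ∈ Q'
    rw [AlgHom.commutes]
    exact (hcomap.symm.le hx : x ∈ Q'.comap (algebraMap A P))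
  haveI : (M'.map (Ideal.Quotient.mk a)).IsPrime :=
    Ideal.map_isPrime_of_surjective Ideal.Quotient.mk_surjective (by rwa [Ideal.mk_ker])
  have hM' : M'.map (Ideal.Quotient.mk a) = maximalIdeal (L ⧸ a) := by
    refine eq_maximalIdeal_of_regular (List.ofFn rb)
      (fun x hx => by obtain ⟨i, rfl⟩ := List.mem_ofFn.1 hx; exact hrbm i) hreg (π s) hx hkill _ ?_
    show J ≤ _
    rw [hJ, ← Ideal.map_map]
    exact Ideal.map_mono (Ideal.map_mono fun x hx => show f x ∈ Q' by rw [show f x = 0 from hx]; exact Q'.zero_mem)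
  have hM'' : M' = maximalIdeal L := by
    have h := congrArg (Ideal.comap (Ideal.Quotient.mk a)) hM'
    rw [Ideal.comap_map_of_surjective' _ Ideal.Quotient.mk_surjective, Ideal.mk_ker, sup_eq_left.2 haM] at h
    rw [h]
    haveI := Ideal.comap_isMaximal_of_surjective (Ideal.Quotient.mk a) Ideal.Quotient.mk_surjective
      (K := maximalIdeal (L ⧸ a))
    exact IsLocalRing.eq_maximalIdeal inferInstance
  have hqq : q' = q := by
    rw [← IsLocalization.comap_map_of_isPrime_disjoint q.primeCompl L (inferInstance : q'.IsPrime) hdisj]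
    show M'.comap _ = _
    rw [hM'']
    exact IsLocalization.AtPrime.comap_maximalIdeal L q
  exact Ideal.comap_injective_of_surjective f.toRingHom hf hqq

theorem subsingleton_h1Cotangent (P : Type u) [CommRing P] [Algebra A P] [Module.Flat A P] (hlci : LCI.IsLCI A P)
    (hgs : ∀ 𝔓 : PrimeSpectrum P,
      (∀ 𝔔 : PrimeSpectrum P, 𝔔 ≤ 𝔓 →
          𝔔.asIdeal.comap (algebraMap A P) = 𝔓.asIdeal.comap (algebraMap A P) → 𝔔 = 𝔓) →
        𝔓 ∈ Algebra.smoothLocus A P) :
    Subsingleton (Algebra.H1Cotangent A P) := by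
  classical
  obtain ⟨hft, n, f, hf, hI⟩ := hlci
  haveI := hft
  haveI : IsNoetherianRing P := isNoetherianRing_of_surjective _ P f.toRingHom hf
  let G : Algebra.Generators A P (Fin n) := Algebra.Generators.ofSurjective (fun i => f (MvPolynomial.X i))
    (by rw [show MvPolynomial.aeval (R := A) (fun i => f (MvPolynomial.X i)) = f from MvPolynomial.algHom_ext fun i => by simp]; exact hf)
  have hfG : ∀ x, algebraMap G.toExtension.Ring P x = f x := fun x => by
    show MvPolynomial.aeval _ x = f x
    rw [show MvPolynomial.aeval (R := A) (fun i => f (MvPolynomial.X i)) = f from MvPolynomial.algHom_ext fun i => by simp]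
  by_contra hne
  rw [not_subsingleton_iff_nontrivial] at hne
  obtain ⟨Q, hQass⟩ := associatedPrimes.nonempty P (Algebra.H1Cotangent A P)
  haveI := IsAssociatedPrime.isPrime hQass
  obtain ⟨-, x, hx⟩ := isAssociatedPrime_iff.1 hQass
  have hxQ : ∀ t : P, t ∈ Q ↔ t • x = 0 := fun t => by rw [hx, Submodule.mem_colon_singleton, Submodule.mem_bot]
  let y : G.toExtension.Cotangent := G.toExtension.h1Cotangentι (G.equivH1Cotangent.symm x)
  have hyQ : ∀ t : P, t ∈ Q ↔ t • y = 0 := fun t => by
    rw [hxQ, ← map_smul, ← map_smul, map_eq_zero_iff _ Subtype.val_injective, LinearEquiv.map_eq_zero_iff]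
  let q := Q.comap f.toRingHom
  let S := MvPolynomial (Fin n) A
  let I := RingHom.ker f.toRingHom
  have hIq : I ≤ q := fun z hz => show f z ∈ Q by rw [show f z = 0 from hz]; exact Q.zero_mem
  obtain ⟨z, hz⟩ := Algebra.Extension.Cotangent.mk_surjective y
  let z0 : S := z.1
  have hker : G.toExtension.ker = I := by
    ext t
    show algebraMap G.toExtension.Ring P t = 0 ↔ f t = 0
    rw [hfG]
  have hzQ : ∀ t : S, f t ∈ Q ↔ t * z0 ∈ I ^ 2 := by
    intro t
    rw [hyQ, ← hz, ← hfG, algebraMap_smul, ← map_smul, ← hker]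
    constructor
    · intro h
      have h2 := congrArg Algebra.Extension.Cotangent.val h
      rw [Algebra.Extension.Cotangent.val_mk, Algebra.Extension.Cotangent.val_zero, Ideal.toCotangent_eq_zero] at h2
      exact h2
    · intro h
      refine Algebra.Extension.Cotangent.ext ?_
      rw [Algebra.Extension.Cotangent.val_mk, Algebra.Extension.Cotangent.val_zero, Ideal.toCotangent_eq_zero]
      exact h
  let L := Localization.AtPrime q
  obtain ⟨c, r, hk, hspan, -, -⟩ := exists_local_regular I hI q hIq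
  have hzI : algebraMap S L z0 ∈ Ideal.span (Set.range r) := hspan ▸ Ideal.mem_map_of_mem _ (show z0 ∈ I from hker.le z.2)
  obtain ⟨e, he⟩ := Ideal.mem_span_range_iff_exists_fun.1 hzI
  have hkill : ∀ t ∈ q, ∀ i, algebraMap S L t * e i ∈ I.map (algebraMap S L) := by
    intro t ht i
    rw [← hspan]
    refine CAlgH.KoszulRegular.coeff_mem_of_mem_sq hk (a := fun i => algebraMap S L t * e i) ?_ i
    simp only [mul_assoc, ← Finset.mul_sum, he, ← map_mul]
    rw [hspan, ← Ideal.map_pow]
    exact Ideal.mem_map_of_mem _ ((hzQ t).1 ht)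
  obtain ⟨i, hi⟩ : ∃ i, e i ∉ I.map (algebraMap S L) := by
    by_contra! hall
    have h1 : algebraMap S L z0 ∈ (I ^ 2).map (algebraMap S L) := by
      rw [← he, Ideal.map_pow, pow_two]
      exact Ideal.sum_mem _ fun i _ => Ideal.mul_mem_mul (hall i) (hspan ▸ Ideal.subset_span ⟨i, rfl⟩)
    obtain ⟨u, hu, huz⟩ := (IsLocalization.algebraMap_mem_map_algebraMap_iff q.primeCompl L _ _).1 h1
    exact hu ((hzQ u).2 huz)
  obtain ⟨⟨b, v⟩, hbv⟩ := IsLocalization.surj q.primeCompl (e i)
  have hb : algebraMap S L b ∉ I.map (algebraMap S L) := fun h => hi (by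
    rw [← hbv] at h
    exact (Ideal.mul_unit_mem_iff_mem _ (IsLocalization.map_units L v)).1 h)
  obtain ⟨G', hG'⟩ : q.FG := IsNoetherian.noetherian q
  have hex : ∀ t : G', ∃ u ∉ q, u * ((t : S) * b) ∈ I := by
    intro t
    refine (IsLocalization.algebraMap_mem_map_algebraMap_iff q.primeCompl L I _).1 ?_
    rw [map_mul, ← hbv, ← mul_assoc]
    exact Ideal.mul_mem_right _ _ (hkill t (hG' ▸ Submodule.subset_span t.2) i)
  choose u hu hut using hex
  let U := ∏ t, u t
  have hU : U ∉ q := fun h => by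
    obtain ⟨t, -, ht⟩ := Ideal.IsPrime.prod_mem_iff.1 h
    exact hu t ht
  have hassP : Q ∈ associatedPrimes P P := by
    refine isAssociatedPrime_iff.2 ⟨inferInstance, f (U * b), le_antisymm ?_ ?_⟩
    · intro t ht
      obtain ⟨t, rfl⟩ := hf t
      rw [Submodule.mem_colon_singleton, Submodule.mem_bot, smul_eq_mul, ← map_mul]
      show t * (U * b) ∈ I
      have hle : q ≤ Submodule.comap (LinearMap.mulRight S (U * b)) I := by
        rw [← hG', Submodule.span_le]
        intro s hs
        show s * (U * b) ∈ I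
        show s * ((∏ t, u t) * b) ∈ I
        rw [← Finset.mul_prod_erase Finset.univ u (Finset.mem_univ (⟨s, hs⟩ : G')),
          show s * ((u ⟨s, hs⟩ * ∏ x ∈ Finset.univ.erase ⟨s, hs⟩, u x) * b) =
            (u ⟨s, hs⟩ * (s * b)) * ∏ x ∈ Finset.univ.erase ⟨s, hs⟩, u x by ring]
        exact Ideal.mul_mem_right _ _ (hut ⟨s, hs⟩)
      exact hle ht
    · intro t ht
      obtain ⟨t, rfl⟩ := hf t
      rw [Submodule.mem_colon_singleton, Submodule.mem_bot, smul_eq_mul, ← map_mul] at ht
      by_contra htQ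
      refine hb ((IsLocalization.algebraMap_mem_map_algebraMap_iff q.primeCompl L I b).2 ⟨t * U, ?_, ?_⟩)
      · exact q.primeCompl.mul_mem htQ hU
      · rw [mul_assoc]; exact ht
  have hsm : (⟨Q, inferInstance⟩ : PrimeSpectrum P) ∈ Algebra.smoothLocus A P := by
    refine hgs _ fun R hR hRc => PrimeSpectrum.ext ?_
    exact minimal_in_fibre f hf hI Q hassP R.asIdeal hR hRc
  haveI : Algebra.EssFiniteType A P := inferInstance
  rw [Algebra.smoothLocus_eq_compl_support_inter] at hsm
  obtain ⟨m, hm, hmx⟩ := Module.notMem_support_iff'.1 hsm.1 x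
  exact hm ((hxQ m).2 hmx)

end Groth.Agent.LciGenSmooth29
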