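import Groth.Statements.S14733
import Groth.Agent.S4932
import Mathlib

set_option autoImplicit false
set_option backward.isDefEq.respectTransparency.types false
open CategoryTheory Limits AlgebraicGeometry
universe u
open ValPrufer

namespace Groth.Agent.S14733

/-- Fibres of a base change along a preimmersion have the same topological dimension. -/
theorem fibre_dim_eq {X Y Y' : Scheme.{u}} (f : X ⟶ Y) (j : Y' ⟶ Y) [IsPreimmersion j] (a : Y') :
    topologicalKrullDim ↥((pullback.snd f j).fiber a) = topologicalKrullDim ↥(f.fiber (j a)) := by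
  rw [((pullback.snd f j).fiberHomeo a).isHomeomorph.topologicalKrullDim_eq,
    (f.fiberHomeo (j a)).isHomeomorph.topologicalKrullDim_eq]
  have hc : ∀ z : ↥(pullback f j), f (pullback.fst f j z) = j (pullback.snd f j z) := fun z => by
    rw [← Scheme.Hom.comp_apply, pullback.condition, Scheme.Hom.comp_apply]
  let φ : ↥((pullback.snd f j).base ⁻¹' {a}) → ↥(f.base ⁻¹' {j a}) := fun z =>
    ⟨pullback.fst f j z.1, (hc z.1).trans (congrArg j z.2)⟩
  have hemb : Topology.IsEmbedding φ :=
    ((pullback.fst f j).isEmbedding.comp Topology.IsEmbedding.subtypeVal).codRestrict _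
      fun z => (φ z).2
  have hsurj : Function.Surjective φ := fun x => by
    have hx : x.1 ∈ Set.range (pullback.fst f j) := by
      rw [Scheme.Pullback.range_fst]
      exact ⟨a, x.2.symm⟩
    obtain ⟨z, hz⟩ := hx
    refine ⟨⟨z, j.isEmbedding.injective ?_⟩, Subtype.ext hz⟩
    exact ((hc z).symm.trans (by rw [hz])).trans x.2
  exact ((hemb.toHomeomorphOfSurjective hsurj).isHomeomorph).topologicalKrullDim_eq

/-- Let R be a Prüfer domain (an integral domain whose localisations at primes are valuation rings), X
an irreducible scheme and f : X ⟶ Spec R a dominant morphism of finite type. If the fibre of f over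
a point γ of Spec R is nonempty, then it has the same dimension as the fibre over the generic point. -/
theorem result
    (R : Type u) [CommRing R] [IsDomain R]
    (hR : ∀ (p : Ideal R) [p.IsPrime], ValuationRing (Localization.AtPrime p))
    (X : Scheme.{u}) [IrreducibleSpace X] (f : X ⟶ Spec (CommRingCat.of R))
    [LocallyOfFiniteType f] [QuasiCompact f] [IsDominant f] (γ : Spec (CommRingCat.of R))
    (h0 : Nonempty ↥(f.fiber γ)) :
    topologicalKrullDim ↥(f.fiber γ) =
      topologicalKrullDim ↥(f.fiber (genericPoint (Spec (CommRingCat.of R)))) := by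
  let A := Localization.AtPrime (γ : PrimeSpectrum R).asIdeal
  have := IsLocalization.isDomain_localization (R := R)
    (γ : PrimeSpectrum R).asIdeal.primeCompl_le_nonZeroDivisors
  have := hR (γ : PrimeSpectrum R).asIdeal
  let j : Spec (CommRingCat.of A) ⟶ Spec (CommRingCat.of R) :=
    Spec.map (CommRingCat.ofHom (algebraMap R A))
  have : IsPreimmersion j :=
    IsPreimmersion.of_isLocalization (γ : PrimeSpectrum R).asIdeal.primeCompl
  have hjc : j (IsLocalRing.closedPoint A) = γ :=
    PrimeSpectrum.ext (IsLocalization.AtPrime.under_maximalIdeal A (γ : PrimeSpectrum R).asIdeal)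
  have hjg : j (genericPoint (Spec (CommRingCat.of A))) = genericPoint (Spec (CommRingCat.of R)) := by
    rw [genericPoint_eq_bot_of_affine, genericPoint_eq_bot_of_affine]
    exact PrimeSpectrum.ext ((RingHom.injective_iff_ker_eq_bot _).1
      (IsLocalization.injective A (γ : PrimeSpectrum R).asIdeal.primeCompl_le_nonZeroDivisors))
  have hfη : f (genericPoint X) = genericPoint (Spec (CommRingCat.of R)) := by
    refine (IsGenericPoint.eq ?_ (genericPoint_spec _))
    have := (genericPoint_spec X).image f.continuous
    rwa [Set.image_univ, f.denseRange.closure_range] at this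
  obtain ⟨z, hz⟩ : genericPoint X ∈ Set.range (pullback.fst f j) := by
    rw [Scheme.Pullback.range_fst]
    exact ⟨_, hjg.trans hfη.symm⟩
  have hc : ∀ z : ↥(pullback f j), f (pullback.fst f j z) = j (pullback.snd f j z) := fun z => by
    rw [← Scheme.Hom.comp_apply, pullback.condition, Scheme.Hom.comp_apply]
  have hgen : IsGenericPoint z (Set.univ : Set ↥(pullback f j)) := by
    rw [IsGenericPoint, (pullback.fst f j).isEmbedding.closure_eq_preimage_closure_image,
      Set.image_singleton, hz, (genericPoint_spec X).def, Set.preimage_univ]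
  have hirr : IrreducibleSpace ↥(pullback f j) := by
    have : Nonempty ↥(pullback f j) := ⟨z⟩
    have := hgen.isIrreducible
    exact { toPreirreducibleSpace := ⟨this.2⟩, toNonempty := ⟨z⟩ }
  have hzg : pullback.snd f j z = genericPoint (Spec (CommRingCat.of A)) :=
    j.isEmbedding.injective (by rw [← hc, hz, hfη, hjg])
  have hdom : IsDominant (pullback.snd f j) := by
    refine ⟨fun a => closure_mono ?_ (((genericPoint_spec (Spec (CommRingCat.of A))).def.ge) (Set.mem_univ a))⟩
    rintro _ rfl
    exact ⟨z, hzg⟩
  have hne : Nonempty ↥((pullback.snd f j).fiber (IsLocalRing.closedPoint A)) := by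
    obtain ⟨w⟩ := h0
    have hw : f (f.fiberι γ w) = γ := (f.range_fiberι γ).le ⟨w, rfl⟩
    obtain ⟨y, hy⟩ : f.fiberι γ w ∈ Set.range (pullback.fst f j) := by
      rw [Scheme.Pullback.range_fst]
      exact ⟨_, hjc.trans hw.symm⟩
    exact ⟨((pullback.snd f j).fiberHomeo _).symm
      ⟨y, j.isEmbedding.injective (by rw [← hc, hy, hw, hjc])⟩⟩
  have h := S4932.result (pullback.snd f j) hne
  rwa [fibre_dim_eq, fibre_dim_eq, hjc, hjg] at h

end Groth.Agent.S14733
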