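import Groth.Statements.S16118
import Groth.Agent.AlgGrpLib.RatGroup
import Groth.Agent.PicNormal23.Product

set_option autoImplicit false
set_option backward.isDefEq.respectTransparency.types false
universe u
open CategoryTheory MonoidalCategory CartesianMonoidalCategory MonObj GrpObj AlgebraicGeometry CategoryTheory.Limits
open AlgGrp

namespace Groth.Agent.S16118

/-- Over an algebraically closed field k, let G be a connected linear algebraic group (an affine,
smooth, connected k-group scheme) acting by σ on a normal irreducible variety X (an integral normal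
separated k-scheme of finite type), and let L be an invertible O_X-module. Then L is G-invariant:
for every k-point g of G, with translation t_g : X → X, x ↦ g · x, the inverse image t_g^*(L) is
isomorphic to L. -/
theorem result (k : Type u) [Field k] [IsAlgClosed k]
    (G X : Over (Spec (CommRingCat.of k))) [GrpObj G] [IsAffine G.left] [Smooth G.hom] [ConnectedSpace ↥G.left]
    [IsIntegral X.left] [IsSeparated X.hom] [LocallyOfFiniteType X.hom] [QuasiCompact X.hom]
    (hX : Pi1.IsNormalScheme X.left) (a : AlgGrp.Action G X)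
    (g : 𝟙_ (Over (Spec (CommRingCat.of k))) ⟶ G) (L : X.left.Modules) (hL : PicF.IsInvertible L) :
    Nonempty ((Scheme.Modules.pullback (lift (toUnit X ≫ g) (𝟙 X) ≫ a.act).left).obj L ≅ L) := by
  classical
  have hmul : ∀ {T : Over (Spec (CommRingCat.of k))} (p q : T ⟶ G) (x : T ⟶ X),
      lift (p * q) x ≫ a.act = lift p (lift q x ≫ a.act) ≫ a.act := by
    intro T p q x
    have h := congrArg (lift (lift p q) x ≫ ·) a.mul_act
    simp only [lift_whiskerRight_assoc, lift_lift_associator_hom_assoc, lift_whiskerLeft_assoc] at h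
    rw [Hom.mul_def]
    exact h
  have hone : ∀ {T : Over (Spec (CommRingCat.of k))} (x : T ⟶ X), lift 1 x ≫ a.act = x := by
    intro T x
    have h := congrArg (lift (toUnit T) x ≫ ·) a.one_act
    simp only [lift_whiskerRight_assoc] at h
    rw [Hom.one_def]
    exact h.trans (by simp)
  let t : (𝟙_ (Over (Spec (CommRingCat.of k))) ⟶ G) → (X ⟶ X) := fun p => lift (toUnit X ≫ p) (𝟙 X) ≫ a.act
  have htmul : ∀ p q, t (p * q) = t q ≫ t p := fun p q => by
    show _ = _ ≫ lift (toUnit X ≫ p) (𝟙 X) ≫ a.act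
    rw [← Category.assoc, comp_lift, ← Category.assoc, toUnit_unique (_ ≫ toUnit X) (toUnit X), Category.comp_id,
      ← hmul, ← MonObj.comp_mul]
  have htone : t 1 = 𝟙 X := by
    show lift (toUnit X ≫ 1) (𝟙 X) ≫ a.act = 𝟙 X
    rw [MonObj.comp_one, hone]
  -- all translates by points of the chart agree
  obtain ⟨W, aW, n, b, ha, hb, hWne⟩ := Groth.Agent.AlgGrpLib.RatGroup.rat_group G
  haveI := ha; haveI := hWne
  haveI : @IsOpenImmersion W.left (𝔸(ULift.{u} (Fin n); Spec (CommRingCat.of k))) b.left := hb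
  haveI : LocallyOfFiniteType W.hom := by rw [← Over.w aW]; infer_instance
  haveI : IsNoetherian X.left :=
    { toIsLocallyNoetherian := LocallyOfFiniteType.isLocallyNoetherian X.hom
      toCompactSpace := QuasiCompact.compactSpace_of_compactSpace X.hom }
  obtain ⟨w₀⟩ : Nonempty (𝟙_ (Over (Spec (CommRingCat.of k))) ⟶ W) := by
    haveI : JacobsonSpace W.left := LocallyOfFiniteType.jacobsonSpace W.hom
    obtain ⟨x, -, hx⟩ := nonempty_inter_closedPoints (Z := (Set.univ : Set W.left)) Set.univ_nonempty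
      isOpen_univ.isLocallyClosed
    exact ⟨Over.homMk (pointOfClosedPoint W.hom x hx) (pointOfClosedPoint_comp W.hom x hx)⟩
  obtain ⟨bb, hbb⟩ : ∃ bb : W.left ⟶ 𝔸(ULift.{u} (Fin n); Spec (CommRingCat.of k)), bb = b.left := ⟨b.left, rfl⟩
  haveI : IsOpenImmersion bb := by rw [hbb]; assumption
  have hb' : bb ≫ (𝔸(ULift.{u} (Fin n); Spec (CommRingCat.of k)) ↘ Spec (CommRingCat.of k)) = W.hom :=
    hbb ▸ Over.w b
  have hagree : ∀ (M : X.left.Modules), PicF.IsInvertible M → ∀ w w' : 𝟙_ (Over (Spec (CommRingCat.of k))) ⟶ W,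
      PicF.pullCl (t (w ≫ aW)).left (PicF.cl M) = PicF.pullCl (t (w' ≫ aW)).left (PicF.cl M) := by
    intro M hM w w'
    let e : pullback X.hom (bb ≫ (𝔸(ULift.{u} (Fin n); Spec (CommRingCat.of k)) ↘ Spec (CommRingCat.of k))) ≅
        (X ⊗ W).left := pullback.congrHom rfl hb'
    let Φ : X ⊗ W ⟶ X := lift (snd X W ≫ aW) (fst X W) ≫ a.act
    obtain ⟨c, ⟨-, hc⟩, -⟩ := Groth.Agent.PicNormal23.existsUnique_pullCl_eq bb w₀.left
      ((congrArg (w₀.left ≫ ·) hb').trans (Over.w w₀)) X.hom hX (PicF.pullCl e.hom (PicF.pullCl Φ.left (PicF.cl M)))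
      (PicLoc.isInvertibleCl_pullCl _ (PicLoc.isInvertibleCl_pullCl _ ⟨M, rfl, hM⟩))
    have key : ∀ v : 𝟙_ (Over (Spec (CommRingCat.of k))) ⟶ W,
        PicF.pullCl (t (v ≫ aW)).left (PicF.cl M) = c := by
      intro v
      let s : X ⟶ X ⊗ W := lift (𝟙 X) (toUnit X ≫ v)
      have h1 : s ≫ Φ = t (v ≫ aW) := by
        simp only [s, Φ, t, ← Category.assoc, comp_lift, lift_fst, lift_snd]
      have h2 : (s.left ≫ e.inv) ≫ pullback.fst X.hom
          (bb ≫ (𝔸(ULift.{u} (Fin n); Spec (CommRingCat.of k)) ↘ Spec (CommRingCat.of k))) = 𝟙 X.left := by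
        rw [Category.assoc, show e.inv ≫ pullback.fst _ _ = (fst X W).left by
          rw [Iso.inv_comp_eq]
          show _ = (pullback.congrHom rfl hb').hom ≫ pullback.fst X.hom W.hom
          rw [pullback.congrHom_hom]
          exact ((pullback.lift_fst _ _ _).trans (Category.comp_id _)).symm]
        exact congrArg CommaMorphism.left (lift_fst (𝟙 X) (toUnit X ≫ v))
      have h3 := congrArg (PicF.pullCl (s.left ≫ e.inv)) hc
      rw [← PicLoc.pullCl_comp, h2, PicLoc.pullCl_id, ← PicLoc.pullCl_comp, Category.assoc, Iso.inv_hom_id, Category.comp_id] at h3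
      rw [h3, ← PicLoc.pullCl_comp, ← Over.comp_left, h1]
    rw [key, key]
  -- write the point as a quotient of two chart points
  haveI : IrreducibleSpace G.left := Groth.Agent.SGA3cLib.irreducibleSpace_of_connected G
  let R : G ⟶ G := 𝟙 G * (toUnit G ≫ g)
  let R' : G ⟶ G := 𝟙 G * (toUnit G ≫ g⁻¹)
  have hRR : R' ≫ R = 𝟙 G := by
    simp only [R, MonObj.comp_mul, Category.comp_id, ← Category.assoc, toUnit_unique (R' ≫ toUnit G) (toUnit G)]
    simp only [R']
    rw [_root_.mul_assoc, ← MonObj.comp_mul, inv_mul_cancel, MonObj.comp_one, _root_.mul_one]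
  let O : G.left.Opens := aW.left.opensRange ⊓ R.left ⁻¹ᵁ aW.left.opensRange
  have hO : (O : Set G.left).Nonempty := by
    obtain ⟨x⟩ := hWne
    refine nonempty_preirreducible_inter aW.left.opensRange.2 (R.left ⁻¹ᵁ aW.left.opensRange).2 ⟨_, x, rfl⟩
      ⟨R'.left (aW.left x), ?_⟩
    show R.left (R'.left (aW.left x)) ∈ aW.left.opensRange
    rw [← Scheme.Hom.comp_apply, ← Over.comp_left, hRR]
    exact ⟨x, rfl⟩
  haveI : JacobsonSpace G.left := LocallyOfFiniteType.jacobsonSpace G.hom
  obtain ⟨x, hxO, hx⟩ := nonempty_inter_closedPoints hO O.2.isLocallyClosed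
  let g₂ : 𝟙_ (Over (Spec (CommRingCat.of k))) ⟶ G :=
    Over.homMk (pointOfClosedPoint G.hom x hx) (pointOfClosedPoint_comp G.hom x hx)
  have hlift : ∀ p : 𝟙_ (Over (Spec (CommRingCat.of k))) ⟶ G,
      (∀ s, p.left s ∈ aW.left.opensRange) → ∃ w, w ≫ aW = p := by
    intro p hp
    refine ⟨Over.homMk (IsOpenImmersion.lift aW.left p.left (by rintro _ ⟨s, rfl⟩; exact hp s)) ?_,
      Over.OverMorphism.ext (IsOpenImmersion.lift_fac _ _ _)⟩
    rw [← Over.w aW, ← Category.assoc, IsOpenImmersion.lift_fac, Over.w p]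
  have hg₂ : ∀ s, g₂.left s = x := fun s => pointOfClosedPoint_apply G.hom x hx s
  obtain ⟨w₂, hw₂⟩ := hlift g₂ fun s => by rw [hg₂]; exact hxO.1
  obtain ⟨w₁, hw₁⟩ := hlift (g₂ * g) fun s => by
    have h : g₂ * g = g₂ ≫ R := by
      simp only [R, MonObj.comp_mul, Category.comp_id, ← Category.assoc,
        toUnit_unique (g₂ ≫ toUnit G) (toUnit _), toUnit_unique (toUnit (𝟙_ _)) (𝟙 _), Category.id_comp]
    rw [h, Over.comp_left, Scheme.Hom.comp_apply, hg₂]
    exact hxO.2
  have hinv := PicLoc.isInvertible_pullback (t g₂⁻¹).left hL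
  have key := hagree _ hinv w₁ w₂
  rw [hw₁, hw₂, ← PicLoc.pullCl_cl, ← PicLoc.pullCl_comp, ← PicLoc.pullCl_comp, ← Over.comp_left,
    ← Over.comp_left, ← htmul, ← htmul, inv_mul_cancel_left, inv_mul_cancel, htone, Over.id_left,
    PicLoc.pullCl_id] at key
  exact (PicGrp.cl_eq_cl_iff _ _).1 ((PicLoc.pullCl_cl _ _).symm.trans key)

end Groth.Agent.S16118
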