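import Groth.Statements.S7520
import Groth.Agent.AlgGrpLib.ConnComp
import Groth.Agent.AlgGrpLib.SubGrpMono
import Mathlib.RingTheory.Ideal.Pure
import Mathlib.AlgebraicGeometry.Morphisms.Flat

set_option autoImplicit false
universe u
open CategoryTheory MonoidalCategory CartesianMonoidalCategory MonObj GrpObj AlgebraicGeometry
open GrpSch

namespace Groth.Agent.S7520

open Groth.Agent.AlgGrpLib.ConnComp

set_option backward.isDefEq.respectTransparency.types false in
/-- A closed immersion given by a pure ideal on affines is flat. -/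
theorem flat_subschemeι {X : Scheme.{u}} (I : X.IdealSheafData) (h : ∀ U : X.affineOpens, (I.ideal U).Pure) :
    Flat I.subschemeι := by
  refine (IsZariskiLocalAtTarget.iff_of_iSup_eq_top (fun U : X.affineOpens => U.1) (iSup_affineOpens_eq_top X)).2
    fun U => ?_
  haveI : IsAffine (U.1 : Scheme.{u}) := U.2
  haveI : IsAffine (I.subschemeι ⁻¹ᵁ U.1 : Scheme.{u}) := (U.2.preimage I.subschemeι)
  rw [HasRingHomProperty.iff_of_isAffine (P := @Flat), morphismRestrict_appTop]
  refine (RingHom.Flat.respectsIso.cancel_right_isIso _ _).2 ?_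
  rw [show U.1.ι ''ᵁ ⊤ = U.1 from U.1.ι_image_top, I.subschemeι_app U]
  refine (RingHom.Flat.respectsIso.cancel_right_isIso _ _).2 ?_
  exact RingHom.flat_algebraMap_iff.2 (h U)

/-- The ideal of the intersection of all clopens containing the unit component. -/
theorem pure_of_iSup {R : Type u} [CommRing R] {J : Type*} (I : J → Ideal R) (h : ∀ j, (I j).Pure) :
    (⨆ j, I j).Pure := by
  have key : ∀ x ∈ ⨆ j, I j, ∃ y ∈ ⨆ j, I j, x = x * y := fun x hx => by
    refine Submodule.iSup_induction I (motive := fun x => ∃ y ∈ ⨆ j, I j, x = x * y) hx (fun j x hx => ?_)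
      ⟨0, Submodule.zero_mem _, (zero_mul _).symm⟩ (fun x y ⟨a, ha, hxa⟩ ⟨b, hb, hyb⟩ => ?_)
    · haveI := h j
      obtain ⟨y, hy, e⟩ := Ideal.exists_eq_mul_of_pure hx
      exact ⟨y, Submodule.mem_iSup_of_mem j hy, e⟩
    · refine ⟨a + b - a * b, Submodule.sub_mem _ (Submodule.add_mem _ ha hb) (Ideal.mul_mem_left _ a hb), ?_⟩
      calc x + y = x * a + y * b := by rw [← hxa, ← hyb]
        _ = _ := by linear_combination -(b * hxa) - a * hyb
  refine Ideal.Pure.of_inf_eq_mul _ fun J _ => le_antisymm (fun x ⟨hx, hxJ⟩ => ?_) Ideal.mul_le_inf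
  obtain ⟨y, hy, e⟩ := key x hx
  have := Ideal.mul_mem_mul hy hxJ
  rwa [mul_comm y x, ← e] at this

/-- The clopens containing the connected component of the unit. -/
abbrev Clop {K : Type u} [Field K] (G : Over (Spec (CommRingCat.of K))) [GrpObj G] :=
  {V : G.left.Opens // IsClosed (V : Set G.left) ∧ irreducibleComponent (e₀ G) ⊆ (V : Set G.left)}

set_option backward.isDefEq.respectTransparency.types false in
theorem pure_ker {X : Scheme.{u}} (V : X.Opens) (hV : IsClosed (V : Set X)) (U : X.affineOpens) :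
    (V.ι.ker.ideal U).Pure := by
  haveI : IsClosedImmersion V.ι := IsClosedImmersion.of_isPreimmersion V.ι (by rwa [V.range_ι])
  rw [Scheme.Hom.ker_apply]
  have hflat : (V.ι.app U.1).hom.Flat := by
    have := HasRingHomProperty.appLE (P := @Flat) V.ι inferInstance U ⟨_, U.2.preimage V.ι⟩ le_rfl
    rwa [← Scheme.Hom.app_eq_appLE] at this
  have hsurj : Function.Surjective (V.ι.app U.1).hom := V.ι.app_surjective U.1 U.2
  letI := (V.ι.app U.1).hom.toAlgebra
  haveI : Module.Flat Γ(X, U.1) Γ((V : Scheme.{u}), V.ι ⁻¹ᵁ U.1) := hflat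
  exact Module.Flat.of_linearEquiv
    (Ideal.quotientKerAlgEquivOfSurjective (f := Algebra.ofId Γ(X, U.1) Γ((V : Scheme.{u}), V.ι ⁻¹ᵁ U.1)) hsurj).toLinearEquiv

/-- Let G be a group scheme over a field k. Then there is a closed subgroup scheme G^0 of G, that is a
group scheme G^0 over k with a homomorphism G^0 -> G which is a closed immersion, such that (1) G^0
-> G is moreover flat, (2) its image is the connected component of the identity point, (3) G^0 is
geometrically irreducible over k, and (4) G^0 is quasi-compact. -/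
theorem result (K : Type u) [Field K] (G : Over (Spec (CommRingCat.of K))) [GrpObj G] : ∃ (G₀ : Over (Spec (CommRingCat.of K))) (_ : GrpObj G₀) (incl : G₀ ⟶ G) (_ : IsMonHom incl), IsClosedImmersion incl.left ∧ Flat incl.left ∧ Set.range ⇑incl.left = connectedComponent (η[G].left (IsLocalRing.closedPoint K)) ∧ GeometricallyIrreducible G₀.hom ∧ CompactSpace ↥G₀.left := by
  let I : G.left.IdealSheafData := ⨆ V : Clop G, V.1.ι.ker
  have hqc : ∀ V : Clop G, QuasiCompact V.1.ι := fun V => by
    haveI : IsClosedImmersion V.1.ι := IsClosedImmersion.of_isPreimmersion V.1.ι (by rw [V.1.range_ι]; exact V.2.1)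
    infer_instance
  have hflat : Flat I.subschemeι := flat_subschemeι I fun U => by
    simp only [I, Scheme.IdealSheafData.ideal_iSup, iSup_apply]
    exact pure_of_iSup _ fun V => pure_ker V.1 V.2.1 U
  have hrange : Set.range ⇑I.subschemeι = irreducibleComponent (e₀ G) := by
    rw [Scheme.IdealSheafData.range_subschemeι]
    simp only [I, Scheme.IdealSheafData.support_iSup, TopologicalSpace.Closeds.coe_iInf]
    refine Set.Subset.antisymm (fun y hy => ?_) (Set.subset_iInter fun V =>
      V.2.2.trans ((V.1.range_ι.symm.le).trans V.1.ι.range_subset_ker_support))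
    rw [← connectedComponent_eq G]
    by_contra hne
    haveI : IsSeparated G.hom := SGA3xLib.isSeparated_of_grpObj G
    obtain ⟨θ, hθ, hθmax⟩ := DimLib.exists_genericPoint_of_mem_components
      (irreducibleComponent_mem_irreducibleComponents (e₀ G))
    obtain ⟨θ', hθ', hθ'max⟩ := DimLib.exists_maximal_specializes y
    have hθne : ¬ θ' ⤳ θ := fun h => hne (by
      rw [connectedComponent_eq G, ← hθ.def, hθmax _ h]
      exact hθ'.mem_closure)
    obtain ⟨U, hU, hθU, hθ'U⟩ := not_specializes_iff_exists_open.1 hθne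
    obtain ⟨W, (hW : IsAffineOpen W), hθW, hWU⟩ :=
      TopologicalSpace.Opens.isBasis_iff_nbhd.1 G.left.isBasis_affineOpens (U := ⟨U, hU⟩) hθU
    let V : Clop G := ⟨⟨closure (W : Set G.left), isOpen_closure G W hW.isCompact⟩, isClosed_closure,
      hθ.def.symm.trans_subset (closure_mono (Set.singleton_subset_iff.2 hθW))⟩
    have hyV : y ∈ closure (W : Set G.left) := by
      haveI := hqc V
      have h1 := Set.mem_iInter.1 hy V
      rw [Scheme.Hom.support_ker] at h1
      change y ∈ closure (Set.range ⇑V.1.ι) at h1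
      rw [Scheme.Opens.range_ι] at h1
      change y ∈ closure (closure (W : Set G.left)) at h1
      rwa [closure_closure] at h1
    haveI : IsSeparated (Limits.terminal.from G.left) := by
      rw [← Limits.terminal.comp_from G.hom]; infer_instance
    haveI : G.left.IsSeparated := ⟨inferInstance⟩
    have hret : IsRetrocompact (W : Set G.left) := fun O hO hOo =>
      QuasiSeparatedSpace.inter_isCompact (W : Set G.left) O W.isOpen hW.isCompact hOo hO
    obtain ⟨z, hzW, hzy⟩ := SGA3cLib.exists_specializes_of_mem_closure W hret hyV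
    obtain ⟨θz, hθz, hθzmax⟩ := DimLib.exists_maximal_specializes z
    have := uniqueMax G y _ _ hθzmax hθ'max (hθz.trans hzy) hθ'
    exact hθ'U (hWU (this ▸ hθz.mem_open W.isOpen hzW))
  have hfac : ∀ {T : Over (Spec (CommRingCat.of K))} (x : T ⟶ G),
      Set.range ⇑x.left ⊆ irreducibleComponent (e₀ G) → ∃ x' : T ⟶ Over.mk (I.subschemeι ≫ G.hom),
        x' ≫ (Over.homMk I.subschemeι : Over.mk (I.subschemeι ≫ G.hom) ⟶ G) = x := by
    intro T x hx
    have hle : I.subschemeι.ker ≤ x.left.ker := by
      rw [Scheme.IdealSheafData.ker_subschemeι]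
      refine iSup_le fun V => ?_
      let l := IsOpenImmersion.lift V.1.ι x.left (by rw [V.1.range_ι]; exact hx.trans V.2.2)
      calc V.1.ι.ker ≤ (l ≫ V.1.ι).ker := Scheme.Hom.le_ker_comp _ _
        _ = x.left.ker := by rw [IsOpenImmersion.lift_fac]
    refine ⟨Over.homMk (IsClosedImmersion.lift I.subschemeι x.left hle) ?_, Over.OverMorphism.ext ?_⟩
    · change IsClosedImmersion.lift I.subschemeι x.left hle ≫ I.subschemeι ≫ G.hom = T.hom
      rw [IsClosedImmersion.lift_fac_assoc, Over.w x]
    · exact IsClosedImmersion.lift_fac _ _ _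
  let G₀ : Over (Spec (CommRingCat.of K)) := Over.mk (I.subschemeι ≫ G.hom)
  let incl : G₀ ⟶ G := Over.homMk I.subschemeι
  haveI : Mono incl.left := inferInstanceAs (Mono I.subschemeι)
  haveI : Mono incl := Over.mono_of_mono_left incl
  have hC : Set.range ⇑incl.left = irreducibleComponent (e₀ G) := hrange
  obtain ⟨inst, hmon⟩ := AlgGrpLib.exists_grpObj_of_mono incl
    (hfac (1 : 𝟙_ (Over (Spec (CommRingCat.of K))) ⟶ G) (by
      rintro _ ⟨o, rfl⟩
      change η[G].left ((toUnit (𝟙_ (Over (Spec (CommRingCat.of K))))).left o) ∈ _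
      rw [Subsingleton.elim (α := ↥(Spec (CommRingCat.of K))) ((toUnit (𝟙_ (Over (Spec (CommRingCat.of K))))).left o) (IsLocalRing.closedPoint K)]
      exact mem_irreducibleComponent))
    (hfac _ (by
      rintro _ ⟨q, rfl⟩
      let m : G₀ ⊗ G₀ ⟶ G ⊗ G := lift (fst G₀ G₀ ≫ incl) (snd G₀ G₀ ≫ incl)
      have e : (fst G₀ G₀ ≫ incl) * (snd G₀ G₀ ≫ incl) = m ≫ μ[G] := Hom.mul_def _ _
      rw [e]
      refine mul_mem G (m.left q) ?_ ?_
      · change (m ≫ fst G G).left q ∈ _
        rw [lift_fst]
        exact hC.le ⟨_, rfl⟩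
      · change (m ≫ snd G G).left q ∈ _
        rw [lift_snd]
        exact hC.le ⟨_, rfl⟩))
    (hfac _ (by
      rintro _ ⟨q, rfl⟩
      rw [← connectedComponent_eq G]
      have hinv : incl⁻¹ = incl ≫ GrpObj.inv := Hom.inv_def _
      rw [hinv]
      have hi : (GrpObj.inv : G ⟶ G).left (e₀ G) = e₀ G := by
        change (η[G] ≫ GrpObj.inv).left _ = _
        rw [show η[G] ≫ GrpObj.inv = η[G] by rw [← Hom.inv_def, MonObj.one_eq_one, inv_one]]
      rw [← hi]
      exact (GrpObj.inv : G ⟶ G).left.continuous.image_connectedComponent_subset _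
        ⟨incl.left q, (connectedComponent_eq G).ge (hC.le ⟨q, rfl⟩), rfl⟩))
  have hgi : GeometricallyIrreducible G₀.hom := by
    haveI : IrreducibleSpace ↥I.subscheme := by
      have h : IsIrreducible (Set.range ⇑I.subschemeι) := hrange ▸ isIrreducible_irreducibleComponent
      haveI : IrreducibleSpace ↥(Set.range ⇑I.subschemeι) := Subtype.irreducibleSpace h
      exact I.subschemeι.isClosedEmbedding.isEmbedding.toHomeomorph.symm.surjective.irreducibleSpace
        I.subschemeι.isClosedEmbedding.isEmbedding.toHomeomorph.symm.continuous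
    exact GrpdField.geometricallyIrreducible_component G.hom η[G].left (Over.w η[G])
      (fun _ _ g => uniqueMax_bc G g _) (uniqueMax G) I.subschemeι
      (hrange ▸ irreducibleComponent_mem_irreducibleComponents _) (hrange ▸ mem_irreducibleComponent)
  refine ⟨G₀, inst, incl, hmon, inferInstanceAs (IsClosedImmersion I.subschemeι), hflat,
    hC.trans (connectedComponent_eq G).symm, hgi, ?_⟩
  exact isCompact_univ_iff.1 (I.subschemeι.isClosedEmbedding.isEmbedding.isCompact_iff.2
    (by rw [Set.image_univ, hrange]; exact isCompact_component G))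

end Groth.Agent.S7520
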