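import Groth.Statements.S5939
import Groth.Agent.Et18.Descent

set_option autoImplicit false
universe u
open CategoryTheory AlgebraicGeometry
open Unram17

namespace Groth.Agent.S5939
open CategoryTheory CategoryTheory.Limits AlgebraicGeometry

/-- Let f : X ⟶ Y be faithfully flat, locally of finite presentation and quasi-compact, and let g : Y ⟶
Z be a morphism such that f ≫ g is of finite presentation (locally of finite presentation,
quasi-compact and quasi-separated). Then g is quasi-compact and quasi-separated; together with the
descent of local finite presentation along f this says that g is of finite presentation. This is the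
case f quasi-compact. -/
theorem result {X Y Z : Scheme.{u}} (f : X ⟶ Y) (g : Y ⟶ Z)
    [Surjective f] [Flat f] [LocallyOfFinitePresentation f] [QuasiCompact f]
    [LocallyOfFinitePresentation (f ≫ g)] [QuasiCompact (f ≫ g)] [QuasiSeparated (f ≫ g)] :
    QuasiCompact g ∧ QuasiSeparated g := by
  have key : ∀ {A B C : Scheme.{u}} (a : A ⟶ B) (b : B ⟶ C), Surjective a → QuasiCompact (a ≫ b) → QuasiCompact b :=
    fun a b ha hab => ⟨fun U hU hU' => by
      have h2 := (quasiCompact_iff (a ≫ b)).mp hab U hU hU'
      have : b ⁻¹' U = a '' ((a ≫ b) ⁻¹' U) := by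
        show _ = a '' (a ⁻¹' (b ⁻¹' U))
        rw [Set.image_preimage_eq _ ha.surj]
      rw [this]
      exact h2.image a.continuous⟩
  refine ⟨key f g inferInstance inferInstance, ⟨key f _ inferInstance ?_⟩⟩
  have e : f ≫ pullback.diagonal g =
      pullback.diagonal (f ≫ g) ≫ pullback.map (f ≫ g) (f ≫ g) g g f f (𝟙 Z) (by simp) (by simp) := by
    apply pullback.hom_ext
    · rw [Category.assoc, pullback.diagonal_fst, Category.comp_id, Category.assoc, pullback.lift_fst, pullback.diagonal_fst_assoc]
    · rw [Category.assoc, pullback.diagonal_snd, Category.comp_id, Category.assoc, pullback.lift_snd, pullback.diagonal_snd_assoc]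
  rw [e]
  have : QuasiCompact (pullback.map (f ≫ g) (f ≫ g) g g f f (𝟙 Z) (by simp) (by simp)) :=
    MorphismProperty.pullbackMap (P := @QuasiCompact) (i₁ := f) (i₂ := f) inferInstance inferInstance rfl rfl
  infer_instance

end Groth.Agent.S5939
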