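import Groth.Statements.S3030
import Groth.Agent.GrpQ26.Thick
import Groth.Agent.S5372
import Groth.Agent.AlgGrpLib.SubgroupCalc

set_option autoImplicit false
set_option linter.style.haveILetI false
set_option backward.isDefEq.respectTransparency.types false
universe u
open CategoryTheory MonoidalCategory CartesianMonoidalCategory MonObj GrpObj AlgebraicGeometry TensorProduct
open SGA3

namespace Groth.Agent.S3030

/-- Let A be a local artinian ring, F and G group schemes flat and locally of finite type over A, and u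
: F → G a homomorphism which is a quasi-compact monomorphism with F normal in G. Then there are a
group scheme Q over A and a homomorphism p : G → Q which is faithfully flat and locally of finite
presentation, with kernel F (the square u, p, unit is cartesian); Q is separated and flat over A,
and smooth over A when G is. -/
theorem result (A : Type u) [CommRing A] [IsArtinianRing A] [IsLocalRing A]
    (F G : Over (Spec (CommRingCat.of A))) [GrpObj F] [GrpObj G] [Flat F.hom] [LocallyOfFiniteType F.hom]
    [Flat G.hom] [LocallyOfFiniteType G.hom] (u : F ⟶ G) [IsMonHom u] [Mono u] [QuasiCompact u.left]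
    (hN : AlgGrp.IsNormalHom u) :
    ∃ (Q : Over (Spec (CommRingCat.of A))) (_ : GrpObj Q) (p : G ⟶ Q), IsMonHom p ∧
      Flat p.left ∧ Surjective p.left ∧ LocallyOfFinitePresentation p.left ∧ AlgGrp.IsKernel u p ∧
      IsSeparated Q.hom ∧ Flat Q.hom ∧ (Smooth G.hom → Smooth Q.hom) := by
  let cs : Spec (CommRingCat.of (IsLocalRing.ResidueField A)) ⟶ Spec (CommRingCat.of A) :=
    Spec.map (CommRingCat.ofHom (IsLocalRing.residue A))
  haveI : IsClosedImmersion cs := IsClosedImmersion.spec_of_surjective _ IsLocalRing.residue_surjective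
  haveI : Subsingleton ↥(Spec (CommRingCat.of A)) :=
    ⟨fun a b => PrimeSpectrum.ext ((IsLocalRing.eq_maximalIdeal (Ideal.isMaximal_of_isPrime a.asIdeal)).trans
      (IsLocalRing.eq_maximalIdeal (Ideal.isMaximal_of_isPrime b.asIdeal)).symm)⟩
  haveI : Surjective cs := ⟨fun x => ⟨IsLocalRing.closedPoint (IsLocalRing.ResidueField A), Subsingleton.elim _ _⟩⟩
  haveI : IsClosedImmersion u.left := Groth.Agent.GrpQ26.isClosedImmersion_of_mono_thick cs u
  haveI : LocallyOfFinitePresentation G.hom := LocallyOfFinitePresentation.iff_locallyOfFiniteType.2 inferInstance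
  haveI : LocallyOfFinitePresentation F.hom := LocallyOfFinitePresentation.iff_locallyOfFiniteType.2 inferInstance
  obtain ⟨Q, q, hf, hs, hl, sq, hsep, hfl, hsm⟩ := Groth.Agent.GrpQ26.exists_quotient_thick cs u
  haveI := hf
  haveI := hs
  haveI := hl
  haveI : Mono u := inferInstance
  obtain ⟨gQ, hq, -⟩ := Groth.Agent.S5372.result _ G F Q u q
    ⟨G.left, q.left, 𝟙 _, Category.id_comp _, hs, hf, fun V hV => by
      obtain ⟨W, hW, hWV⟩ := q.left.isOpenMap.exists_opens_image_eq_of_prespectralSpace
        q.left.continuous (by rw [q.left.surjective.range_eq]; exact Set.subset_univ _) V.isOpen hV.isCompact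
      exact ⟨W, hW, hWV⟩⟩ sq hN
  haveI := hq
  have hμ : ∀ (W : Over (Spec (CommRingCat.of A))) (r : W ⟶ G ⊗ F),
      r ≫ (G ◁ u) ≫ μ[G] = (r ≫ fst G F) * (r ≫ snd G F ≫ u) := fun W r => by
    rw [← MonObj.comp_mul]
    rfl
  refine ⟨Q, gQ, q, hq, hf, hs, hl, Groth.Agent.AlgGrpLib.isKernel_of_points u q ?_ fun W g hg => ?_, hsep, hfl inferInstance, hsm⟩
  · have h := congrArg (lift (1 : F ⟶ G) (𝟙 F) ≫ ·) sq.w
    rw [lift_fst_assoc, ← Category.assoc (f := lift (1 : F ⟶ G) (𝟙 F)), hμ, lift_fst, lift_snd_assoc,
      _root_.one_mul, Category.id_comp, MonObj.one_comp] at h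
    exact h
  · obtain ⟨r, hr1, hr2⟩ := sq.exists_lift g (1 : W ⟶ G) (by rw [MonObj.one_comp, hg])
    refine ⟨r ≫ snd G F, ?_⟩
    rw [hμ, hr2, _root_.one_mul] at hr1
    rw [Category.assoc, hr1]

end Groth.Agent.S3030
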