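import Groth.Statements.S13606
import Groth.Prelude.Def_SGA1
import Mathlib.AlgebraicGeometry.Restrict
import Groth.Agent.SGA1Quot.Factor

set_option autoImplicit false
set_option backward.isDefEq.respectTransparency.types false
universe u
open CategoryTheory AlgebraicGeometry
open SGA1

namespace Groth.Agent.S13606

/-- Let a finite group G act on a scheme X and let p : X ⟶ Y be a quotient of X by G (affine,
G-invariant, sections of O_Y over every open = G-invariant sections of O_X over its preimage). Then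
for every open U ⊆ Y, U is the quotient of p⁻¹U by G: the restriction p⁻¹U ⟶ U of p is again a
quotient in the same sense, for the action ρU of G on the G-stable open p⁻¹U induced by ρ (pinned by
compatibility with the inclusion p⁻¹U ⟶ X). -/
theorem result {X Y : Scheme.{u}} {G : Type u} [Group G] [Finite G]
    (ρ : G →* Aut X) (p : X ⟶ Y) (hp : SGA1.IsQuot ρ p) (U : Y.Opens)
    (ρU : G →* Aut (p ⁻¹ᵁ U).toScheme)
    (hρU : ∀ g : G, (ρU g).hom ≫ (p ⁻¹ᵁ U).ι = (p ⁻¹ᵁ U).ι ≫ (ρ g).hom) :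
    SGA1.IsQuot ρU (p ∣_ U) := by
  haveI := hp.affine
  refine ⟨MorphismProperty.of_isPullback (P := @IsAffineHom) (isPullback_morphismRestrict p U).flip inferInstance,
    fun g => ?_, fun W => ?_, fun W s => ?_⟩
  · rw [← cancel_mono U.ι, Category.assoc, morphismRestrict_ι, reassoc_of% (hρU g), hp.inv]
  · rw [morphismRestrict_app]
    exact (ConcreteCategory.bijective_of_isIso (X.presheaf.map (eqToHom (image_morphismRestrict_preimage p U W)).op)).1.comp
      (hp.injective _)
  · let F := X.presheaf.map (eqToHom (image_morphismRestrict_preimage p U W)).op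
    obtain ⟨t, rfl⟩ := (ConcreteCategory.bijective_of_isIso F).2 s
    rw [morphismRestrict_app]
    have h := hp.range_iff (U.ι ''ᵁ W) t
    have key : ∀ g : G,
        ((ρU g).hom.appLE ((p ∣_ U) ⁻¹ᵁ W) ((p ∣_ U) ⁻¹ᵁ W) (SGA1.preimage_le_of_inv ρU (p ∣_ U)
          (fun g => by rw [← cancel_mono U.ι, Category.assoc, morphismRestrict_ι, reassoc_of% (hρU g), hp.inv]) g W)).hom (F t) =
        F (((ρ g).hom.appLE _ _ (SGA1.preimage_le_of_inv ρ p hp.inv g (U.ι ''ᵁ W))).hom t) := fun g => by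
      have e1 : (p ∣_ U) ⁻¹ᵁ W ≤ (p ⁻¹ᵁ U).ι ⁻¹ᵁ (p ⁻¹ᵁ (U.ι ''ᵁ W)) := by
        rw [← Scheme.Hom.comp_preimage, ← morphismRestrict_ι, Scheme.Hom.comp_preimage, U.ι.preimage_image_eq]
      have hF : F = (p ⁻¹ᵁ U).ι.appLE _ _ e1 := by
        rw [Scheme.Opens.ι_appLE]
        rfl
      rw [hF]
      refine (CommRingCat.comp_apply _ _ t).symm.trans (Eq.trans ?_ (CommRingCat.comp_apply _ _ t))
      rw [Scheme.Hom.appLE_comp_appLE, Scheme.Hom.appLE_comp_appLE]
      exact congrArg (fun φ : Γ(X, p ⁻¹ᵁ (U.ι ''ᵁ W)) ⟶ Γ((p ⁻¹ᵁ U).toScheme, (p ∣_ U) ⁻¹ᵁ W) => φ.hom t)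
        (Groth.Agent.SGA1Quot.appLE_congr _ _ _ _ (hρU g))
    constructor
    · rintro ⟨a, ha⟩ g
      have := h.mp ⟨a, (ConcreteCategory.bijective_of_isIso F).1 ha⟩ g
      exact (key g).trans (congrArg F this)
    · intro hs
      obtain ⟨a, ha⟩ := h.mpr fun g => (ConcreteCategory.bijective_of_isIso F).1 ((key g).symm.trans (hs g))
      exact ⟨a, congrArg F ha⟩

end Groth.Agent.S13606
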