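import Groth.Statements.S2925
import Groth.Agent.SGA1Quot.Basic
import Groth.Agent.SGA1Quot.Factor

set_option autoImplicit false
set_option backward.isDefEq.respectTransparency.types false
open CategoryTheory CategoryTheory.Limits AlgebraicGeometry
universe u
open SGA1

namespace Groth.Agent.S2925

/-- Let a finite group G act on a scheme X and let p : X ⟶ Y be a quotient of X by G. Then every
G-invariant morphism X ⟶ Z factors uniquely through p. -/
theorem result {X Y : Scheme.{u}} {G : Type u} [Group G] [Finite G] (ρ : G →* Aut X)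
    (p : X ⟶ Y) (hp : SGA1.IsQuot ρ p) (Z : Scheme.{u}) (h : X ⟶ Z) (hh : ∀ g : G, (ρ g).hom ≫ h = h) :
    ∃! h' : Y ⟶ Z, p ≫ h' = h := by
  obtain ⟨m, hm⟩ := Groth.Agent.SGA1Quot.exists_factor (Groth.Agent.SGA1Quot.isQuotientMap hp) hp.injective h
    (fun x x' hx => by
      obtain ⟨g, hg⟩ := (Groth.Agent.SGA1Quot.eq_iff hp x x').mp hx
      rw [← hg, ← Scheme.Hom.comp_apply, hh g])
    (fun W V e a => (hp.range_iff V _).mpr fun g => by
      rw [← CommRingCat.comp_apply, Scheme.Hom.appLE_comp_appLE]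
      exact congrArg (fun φ : Γ(Z, W) ⟶ Γ(X, p ⁻¹ᵁ V) => φ a) (Groth.Agent.SGA1Quot.appLE_congr W _ _ _ (hh g)))
  exact ⟨m, hm, fun m' hm' => Groth.Agent.SGA1Quot.hom_ext (Groth.Agent.SGA1Quot.surjective hp).surj
    hp.injective m' m (hm'.trans hm.symm)⟩

end Groth.Agent.S2925
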