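import Groth.Statements.S9025
import Groth.Agent.S1219
import Groth.Agent.EGA43.Limit.Basic
-- import your own Groth.Agent.* helpers here

set_option autoImplicit false
universe u
open FlatMor

namespace Groth.Agent.S9025

open CategoryTheory CategoryTheory.Limits AlgebraicGeometry
open scoped TensorProduct

set_option backward.isDefEq.respectTransparency false

variable {A B : Type u} [CommRing A] [CommRing B] [Algebra A B]

/-- The coefficient ideal of a set along a section of a free presentation. -/
def coordIdeal (s : B →ₗ[A] B →₀ A) (G : Set B) : Ideal A :=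
  Ideal.span {a | ∃ g ∈ G, ∃ β, s g β = a}

theorem coordIdeal_le_ker_iff (s : B →ₗ[A] B →₀ A) (hs : Function.LeftInverse (Finsupp.linearCombination A id) s)
    (G : Set B) (R : Type u) [CommRing R] [Algebra A R] :
    coordIdeal s G ≤ RingHom.ker (algebraMap A R) ↔
      Ideal.span G ≤ RingHom.ker (algebraMap B (B ⊗[A] R)) := by
  constructor
  · refine fun h => Ideal.span_le.2 fun g hg => ?_
    show g ⊗ₜ[A] (1 : R) = 0
    conv_lhs => rw [← hs g]
    rw [Finsupp.linearCombination_apply, Finsupp.sum, TensorProduct.sum_tmul]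
    refine Finset.sum_eq_zero fun β _ => ?_
    rw [TensorProduct.smul_tmul, Algebra.smul_def, mul_one,
      RingHom.mem_ker.1 (h (Ideal.subset_span ⟨g, hg, β, rfl⟩)), TensorProduct.tmul_zero]
  · refine fun h => Ideal.span_le.2 ?_
    rintro _ ⟨g, hg, β, rfl⟩
    have h0 : g ⊗ₜ[A] (1 : R) = 0 := h (Ideal.subset_span hg)
    have := congrArg (fun z => TensorProduct.lid A R (LinearMap.rTensor R ((Finsupp.lapply β).comp s) z)) h0
    simp only [LinearMap.rTensor_tmul, TensorProduct.lid_tmul, map_zero] at this
    rw [Algebra.smul_def, mul_one] at this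
    exact this

/-- The base change of a closed immersion is an isomorphism iff the projection factors through it. -/
theorem isIso_snd_iff_factor {Y X W : Scheme.{u}} (i : Y ⟶ X) [Mono i] (p : W ⟶ X) :
    IsIso (pullback.snd i p) ↔ ∃ l : W ⟶ Y, l ≫ i = p := by
  refine ⟨fun h => ⟨inv (pullback.snd i p) ≫ pullback.fst i p, by
    rw [Category.assoc, pullback.condition, IsIso.inv_hom_id_assoc]⟩, fun ⟨l, hl⟩ => ?_⟩
  exact ⟨pullback.lift l (𝟙 W) (by rw [hl, Category.id_comp]),
    (cancel_mono (pullback.snd i p)).1 (by rw [Category.assoc, pullback.lift_snd, Category.comp_id, Category.id_comp]),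
    pullback.lift_snd _ _ _⟩

variable (A) in
/-- The condition that the structure map of `X ×_S T` to `X` factors through `i`. -/
def Fac {Y : Scheme.{u}} (i : Y ⟶ Spec (CommRingCat.of B)) {T : Scheme.{u}} (h : T ⟶ Spec (CommRingCat.of A)) : Prop :=
  ∃ l : pullback (Spec.map (CommRingCat.ofHom (algebraMap A B))) h ⟶ Y, l ≫ i = pullback.fst _ _

theorem Fac.precomp {Y : Scheme.{u}} {i : Y ⟶ Spec (CommRingCat.of B)} {T T' : Scheme.{u}}
    {h : T ⟶ Spec (CommRingCat.of A)} (hf : Fac A i h) (a : T' ⟶ T) : Fac A i (a ≫ h) := by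
  obtain ⟨l, hl⟩ := hf
  refine ⟨pullback.map _ (a ≫ h) _ h (𝟙 _) a (𝟙 _) (by simp) (by simp) ≫ l, ?_⟩
  rw [Category.assoc, hl, pullback.lift_fst, Category.comp_id]

theorem fac_spec_iff (J : Ideal B) {Y : Scheme.{u}} (e : Y ≅ Spec (CommRingCat.of (B ⧸ J))) (R : Type u)
    [CommRing R] [Algebra A R] :
    Fac A (e.hom ≫ Spec.map (CommRingCat.ofHom (Ideal.Quotient.mk J))) (Spec.map (CommRingCat.ofHom (algebraMap A R))) ↔
      J ≤ RingHom.ker (algebraMap B (B ⊗[A] R)) := by
  constructor
  · rintro ⟨l, hl⟩
    obtain ⟨ψ, hψ⟩ : ∃ ψ, Spec.map ψ = (pullbackSpecIso A B R).inv ≫ l ≫ e.hom := ⟨_, Spec.map_preimage _⟩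
    have : CommRingCat.ofHom (algebraMap B (B ⊗[A] R)) = CommRingCat.ofHom (Ideal.Quotient.mk J) ≫ ψ :=
      Spec.map_injective (by
        rw [Spec.map_comp, hψ, Category.assoc, Category.assoc, hl, pullbackSpecIso_inv_fst'])
    intro j hj
    rw [RingHom.mem_ker]
    refine (ConcreteCategory.congr_hom this j).trans ?_
    show ψ.hom (Ideal.Quotient.mk J j) = 0
    rw [Ideal.Quotient.eq_zero_iff_mem.2 hj, map_zero]
  · intro h
    refine ⟨(pullbackSpecIso A B R).hom ≫ Spec.map (CommRingCat.ofHom (Ideal.Quotient.lift J _ h)) ≫ e.inv, ?_⟩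
    simp only [Category.assoc, Iso.inv_hom_id_assoc]
    rw [← Spec.map_comp, ← CommRingCat.ofHom_comp, Ideal.Quotient.lift_comp_mk, pullbackSpecIso_hom_fst']


theorem exists_factor_spec (s : B →ₗ[A] B →₀ A) (hs : Function.LeftInverse (Finsupp.linearCombination A id) s)
    (G : Set B) {Y : Scheme.{u}} (e : Y ≅ Spec (CommRingCat.of (B ⧸ Ideal.span G))) (R : CommRingCat.{u})
    (h : Spec R ⟶ Spec (CommRingCat.of A))
    (hf : Fac A (e.hom ≫ Spec.map (CommRingCat.ofHom (Ideal.Quotient.mk (Ideal.span G)))) h) :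
    ∃ k, k ≫ Spec.map (CommRingCat.ofHom (algebraMap A (A ⧸ coordIdeal s G))) = h := by
  obtain ⟨ψ, rfl⟩ : ∃ ψ, Spec.map ψ = h := ⟨_, Spec.map_preimage h⟩
  letI := ψ.hom.toAlgebra
  have h2 := (coordIdeal_le_ker_iff s hs G R).2 ((fac_spec_iff _ e R).1 hf)
  refine ⟨Spec.map (CommRingCat.ofHom (Ideal.Quotient.lift (coordIdeal s G) ψ.hom h2)), ?_⟩
  rw [← Spec.map_comp]
  congr 1

theorem exists_factor (s : B →ₗ[A] B →₀ A) (hs : Function.LeftInverse (Finsupp.linearCombination A id) s)
    (G : Set B) {Y : Scheme.{u}} (e : Y ≅ Spec (CommRingCat.of (B ⧸ Ideal.span G))) {T : Scheme.{u}}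
    (h : T ⟶ Spec (CommRingCat.of A))
    (hf : Fac A (e.hom ≫ Spec.map (CommRingCat.ofHom (Ideal.Quotient.mk (Ideal.span G)))) h) :
    ∃ k, k ≫ Spec.map (CommRingCat.ofHom (algebraMap A (A ⧸ coordIdeal s G))) = h := by
  set z := Spec.map (CommRingCat.ofHom (algebraMap A (A ⧸ coordIdeal s G))) with hz
  haveI : IsClosedImmersion z := IsClosedImmersion.spec_of_surjective _ Ideal.Quotient.mk_surjective
  have hloc : ∀ j, ∃ k, k ≫ z = T.affineOpenCover.openCover.f j ≫ h := fun j =>
    exists_factor_spec s hs G e _ (T.affineOpenCover.f j ≫ h) (hf.precomp _)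
  choose k hk using hloc
  refine ⟨T.affineOpenCover.openCover.glueMorphisms k fun x y => ?_, ?_⟩
  · rw [← cancel_mono z, Category.assoc, Category.assoc, hk, hk, pullback.condition_assoc]
  · refine T.affineOpenCover.openCover.hom_ext _ _ fun j => ?_
    rw [Scheme.Cover.ι_glueMorphisms_assoc, hk]


theorem lfp_spec_quotient [Algebra.FinitePresentation A A] (I : Ideal A) (hI : I.FG) :
    LocallyOfFinitePresentation (Spec.map (CommRingCat.ofHom (algebraMap A (A ⧸ I)))) :=
  HasRingHomProperty.Spec_iff.2 (RingHom.finitePresentation_algebraMap.2 (Algebra.FinitePresentation.quotient hI))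

open CategoryTheory CategoryTheory.Limits AlgebraicGeometry Opposite in
/-- For X = Spec B and S = Spec A affine (purity of a morphism is available here only in ring form), let
A → B be a flat ring map of finite presentation such that the structure sheaf of X = Spec B is pure
relative to S = Spec A, and let i : Y → Spec B be a closed immersion (a closed subscheme Y of X).
Then the Weil restriction functor of Y along X → S, the functor on schemes over S with one point on
T when the base change Y_T → X_T of i is an isomorphism and empty otherwise (the subfunctor of the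
final functor generated by that condition), is representable by a scheme Z over S whose structure
morphism Z → S is a closed immersion. If moreover Y → S is locally of finite presentation (hence of
finite presentation) then Z → S is locally of finite presentation. -/
theorem result {A B : Type u} [CommRing A] [CommRing B] [Algebra A B] [Algebra.FinitePresentation A B] [Module.Flat A B]
    (hpure : FlatCA.IsPure A B B) {Y : Scheme.{u}} (i : Y ⟶ Spec (CommRingCat.of B)) [IsClosedImmersion i] :
    ∃ Z : Over (Spec (CommRingCat.of A)), IsClosedImmersion Z.hom ∧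
      Nonempty ((FlatFun.genPSp (Spec (CommRingCat.of A)) (fun T =>
        IsIso (pullback.snd i (pullback.fst (Spec.map (CommRingCat.ofHom (algebraMap A B))) T.hom)))).RepresentableBy Z) ∧
      (LocallyOfFinitePresentation (i ≫ Spec.map (CommRingCat.ofHom (algebraMap A B))) →
        LocallyOfFinitePresentation Z.hom) := by
  classical
  haveI : Module.Projective A B := (_root_.Groth.Agent.S1219.result B).2 hpure
  obtain ⟨sec, hsec⟩ := Module.Projective.out (R := A) (P := B)
  obtain ⟨J, e, rfl⟩ := IsClosedImmersion.Spec_iff.1 (inferInstance : IsClosedImmersion i)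
  obtain ⟨G, hG, hGfin⟩ : ∃ G : Set B, Ideal.span G = J ∧ (J.FG → G.Finite) := by
    by_cases hJ : J.FG
    · obtain ⟨G, hG⟩ := hJ
      exact ⟨G, hG, fun _ => G.finite_toSet⟩
    · exact ⟨J, Ideal.span_eq J, fun h => absurd h hJ⟩
  subst hG
  let I := coordIdeal sec G
  let π := Spec.map (CommRingCat.ofHom (algebraMap A B))
  let z : Spec (CommRingCat.of (A ⧸ I)) ⟶ Spec (CommRingCat.of A) := Spec.map (CommRingCat.ofHom (algebraMap A (A ⧸ I)))
  haveI : IsClosedImmersion z := IsClosedImmersion.spec_of_surjective _ Ideal.Quotient.mk_surjective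
  have hmem : Fac A (e.hom ≫ Spec.map (CommRingCat.ofHom (Ideal.Quotient.mk (Ideal.span G)))) z :=
    (fac_spec_iff _ e (A ⧸ I)).2 ((coordIdeal_le_ker_iff sec hsec G (A ⧸ I)).1
      (fun a ha => Ideal.Quotient.eq_zero_iff_mem.2 ha))
  have huniv : ∀ (T : Scheme.{u}) (h : T ⟶ Spec (CommRingCat.of A)),
      Fac A (e.hom ≫ Spec.map (CommRingCat.ofHom (Ideal.Quotient.mk (Ideal.span G)))) h → ∃ k, k ≫ z = h :=
    fun T h hf => exists_factor sec hsec G e h hf
  refine ⟨Over.mk z, ‹IsClosedImmersion z›, ⟨?_⟩, fun hlfp => ?_⟩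
  · refine { homEquiv := fun {T} => ⟨fun k => ⟨⟨Over.mk z, k, ?_⟩⟩, fun x => ?_, fun k => ?_, fun x => ?_⟩,
             homEquiv_comp := fun _ _ => Subsingleton.elim _ _ }
    · exact (isIso_snd_iff_factor _ _).2 hmem
    · have hf : Fac A (e.hom ≫ Spec.map (CommRingCat.ofHom (Ideal.Quotient.mk (Ideal.span G)))) T.hom := ?_
      refine Over.homMk (huniv T.left T.hom hf).choose (huniv T.left T.hom hf).choose_spec
      obtain ⟨T₀, k, hk⟩ := x.down.down
      obtain ⟨l, hl⟩ := (isIso_snd_iff_factor _ _).1 hk
      exact Over.w k ▸ Fac.precomp ⟨l, hl⟩ k.left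
    · exact Over.OverMorphism.ext ((cancel_mono z).1 ((Over.w _).trans (Over.w k).symm))
    · exact Subsingleton.elim _ _
  · haveI := hlfp
    haveI : LocallyOfFiniteType π := by
      haveI : LocallyOfFinitePresentation π :=
        HasRingHomProperty.Spec_iff.2 (RingHom.finitePresentation_algebraMap.2 inferInstance)
      infer_instance
    haveI : LocallyOfFinitePresentation (e.hom ≫ Spec.map (CommRingCat.ofHom (Ideal.Quotient.mk (Ideal.span G)))) :=
      EGA43.Limit.locallyOfFinitePresentation_of_comp _ π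
    have h2 : LocallyOfFinitePresentation (Spec.map (CommRingCat.ofHom (Ideal.Quotient.mk (Ideal.span G)))) :=
      (MorphismProperty.cancel_left_of_respectsIso @LocallyOfFinitePresentation e.hom _).1 ‹_›
    have h3 : (Ideal.Quotient.mk (Ideal.span G)).FinitePresentation := HasRingHomProperty.Spec_iff.1 h2
    have hJ : (Ideal.span G).FG := by
      haveI : Algebra.FinitePresentation B (B ⧸ Ideal.span G) := RingHom.finitePresentation_algebraMap.1 h3
      have := Algebra.FinitePresentation.ker_fG_of_surjective (Ideal.Quotient.mkₐ B (Ideal.span G)) (Ideal.Quotient.mkₐ_surjective B _)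
      rwa [show RingHom.ker (Ideal.Quotient.mkₐ B (Ideal.span G)).toRingHom = Ideal.span G from Ideal.mk_ker] at this
    have hI : I.FG := by
      refine Submodule.fg_span ?_
      refine (((hGfin hJ).biUnion fun g _ => ((sec g).support.finite_toSet.image (sec g)).union
        (Set.finite_singleton 0))).subset ?_
      rintro a ⟨g, hg, β, rfl⟩
      refine Set.mem_biUnion hg ?_
      by_cases hβ : β ∈ (sec g).support
      · exact Or.inl ⟨β, hβ, rfl⟩
      · exact Or.inr (Finsupp.notMem_support_iff.1 hβ)
    exact lfp_spec_quotient I hI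

end Groth.Agent.S9025
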