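import Groth.Statements.S7609
import Groth.Agent.VarietyLib.CMBaseChange
import Groth.Agent.S1549

set_option autoImplicit false
universe u
open CategoryTheory CategoryTheory.Limits AlgebraicGeometry
open Variety
open scoped TensorProduct
open Groth.Agent
attribute [local instance] Curv2.stalkAlgebra

namespace Groth.Agent.S7609

theorem exists_iso_stalk (k : Type u) [Field k] (X : Scheme.{u}) [X.Over (Spec (CommRingCat.of k))] (x : X) :
    ∃ α : CommRingCat.of k ⟶ (Spec (CommRingCat.of k)).presheaf.stalk ((X ↘ Spec (CommRingCat.of k)).base x),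
      IsIso α ∧ α ≫ (X ↘ Spec (CommRingCat.of k)).stalkMap x = CommRingCat.ofHom (algebraMap k (X.presheaf.stalk x)) :=
  S1549.exists_iso_stalk k X x


/-- Let X be a scheme locally of finite type over a field k, k' any extension field of k and x' a point
of X_{k'} with image x in X. Then the local ring O_{X, x} is Cohen-Macaulay if and only if
O_{X_{k'}, x'} is Cohen-Macaulay. -/
theorem result (k : Type u) [Field k] (X : Scheme.{u}) [X.Over (Spec (CommRingCat.of k))] [LocallyOfFiniteType (X ↘ (Spec (CommRingCat.of k)))]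
    (k' : Type u) [Field k'] [Algebra k k'] (x' : ↥(Curv2.bc k X k')) :
    LocCoh.IsCohenMacaulayLocalRing ↥(X.presheaf.stalk (Curv2.bcFst k X k' x')) ↔
      LocCoh.IsCohenMacaulayLocalRing ↥((Curv2.bc k X k').presheaf.stalk x') := by
  let q := X ↘ Spec (CommRingCat.of k)
  haveI : IsLocallyNoetherian X := LocallyOfFiniteType.isLocallyNoetherian q
  let x := Curv2.bcFst k X k' x'
  obtain ⟨α, hα, hcomp⟩ := exists_iso_stalk k X x
  haveI := hα
  haveI : Algebra.EssFiniteType k (X.presheaf.stalk x) := by
    rw [← RingHom.essFiniteType_algebraMap]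
    have e : (q.stalkMap x).hom.comp α.hom = algebraMap k (X.presheaf.stalk x) := congrArg CommRingCat.Hom.hom hcomp
    rw [← e]
    exact RingHom.EssFiniteType.comp
      (RingHom.FiniteType.essFiniteType (RingHom.FiniteType.of_surjective _ (ConcreteCategory.bijective_of_isIso α).2))
      (LocallyOfFiniteType.stalkMap q x)
  haveI : IsNoetherianRing (k' ⊗[k] X.presheaf.stalk x) := Algebra.EssFiniteType.isNoetherianRing k' _
  haveI : IsNoetherianRing (X.presheaf.stalk (Curv2.bcFst k X k' x') ⊗[k] k') :=
    isNoetherianRing_of_ringEquiv (k' ⊗[k] X.presheaf.stalk x) (Algebra.TensorProduct.comm k k' _).toRingEquiv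
  exact VarietyLib.isCM_stalk_bc_iff k X k' x'

end Groth.Agent.S7609
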