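import Groth.Statements.S7179
import Groth.Agent.SchMor12.WeaklyEtale
import Groth.Agent.S7128

set_option autoImplicit false
universe u
open FlatMor

namespace Groth.Agent.S7179

open AlgebraicGeometry CategoryTheory Limits in
/-- The source of a weakly étale morphism with reduced target is reduced. -/
theorem result {X Y : Scheme.{u}} (f : X ⟶ Y) [WeaklyEtale f] [IsReduced Y] : IsReduced X := by
  have : ∀ x : X, _root_.IsReduced (X.presheaf.stalk x) := fun x => by
    obtain ⟨V, hV, hxV, -⟩ := TopologicalSpace.Opens.isBasis_iff_nbhd.mp Y.isBasis_affineOpens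
      (TopologicalSpace.Opens.mem_top (f x))
    obtain ⟨U, hU, hxU, h⟩ := TopologicalSpace.Opens.isBasis_iff_nbhd.mp X.isBasis_affineOpens
      (show x ∈ f ⁻¹ᵁ V from hxV)
    let _ := (f.appLE V U h).hom.toAlgebra
    have : Algebra.WeaklyEtale Γ(Y, V) Γ(X, U) :=
      (Groth.Agent.SchMor12.weaklyEtale_iff_affineOpens f).1 inferInstance U V hU hV h
    have : _root_.IsReduced Γ(X, U) := Groth.Agent.S7128.result Γ(Y, V) Γ(X, U)
    let _ := TopCat.Presheaf.algebra_section_stalk X.presheaf (⟨x, hxU⟩ : U)
    have := hU.isLocalization_stalk ⟨x, hxU⟩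
    exact isReduced_of_injective (IsLocalization.algEquiv (hU.primeIdealOf ⟨x, hxU⟩).asIdeal.primeCompl
      (X.presheaf.stalk x) (Localization.AtPrime (hU.primeIdealOf ⟨x, hxU⟩).asIdeal))
      (AlgEquiv.injective _)
  exact isReduced_of_isReduced_stalk X

end Groth.Agent.S7179
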