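import Groth.Statements.S2344
import Groth.Agent.RatExtLib.DimOne

set_option autoImplicit false
universe u
open CategoryTheory CategoryTheory.Limits AlgebraicGeometry
open EGA2

namespace Groth.Agent.S2344

/-- Let X be a normal algebraic curve over k (separated, of finite type, nonempty, local rings at closed
points of dimension one, all local rings integrally closed domains), Y proper over k, U a dense open
of X and g : U → Y a k-morphism. Then g extends uniquely to a k-morphism X → Y. -/
theorem result (k : Type u) [Field k] (X Y : Scheme.{u}) [X.Over (Spec (CommRingCat.of k))] [Y.Over (Spec (CommRingCat.of k))]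
    [LocallyOfFiniteType (X ↘ (Spec (CommRingCat.of k)))] [QuasiCompact (X ↘ (Spec (CommRingCat.of k)))] [IsSeparated (X ↘ (Spec (CommRingCat.of k)))] [Nonempty X] (hcurve : (∀ x : X, IsClosed ({x} : Set X) → ringKrullDim (X.presheaf.stalk x) = 1)) (hnorm : Pi1.IsNormalScheme X)
    [IsProper (Y ↘ (Spec (CommRingCat.of k)))] (U : X.Opens) (hU : Dense (U : Set X)) (g : (U : Scheme.{u}) ⟶ Y)
    (hg : g ≫ (Y ↘ (Spec (CommRingCat.of k))) = U.ι ≫ (X ↘ (Spec (CommRingCat.of k)))) :
    ∃! g' : X ⟶ Y, U.ι ≫ g' = g ∧ g' ≫ (Y ↘ (Spec (CommRingCat.of k))) = X ↘ (Spec (CommRingCat.of k)) := by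
  let sX := X ↘ Spec (CommRingCat.of k)
  let sY := Y ↘ Spec (CommRingCat.of k)
  have : JacobsonSpace X := LocallyOfFiniteType.jacobsonSpace sX
  have : IsLocallyNoetherian X := LocallyOfFiniteType.isLocallyNoetherian sX
  have : ∀ x : X, _root_.IsReduced (X.presheaf.stalk x) := fun x ↦ by
    have := (hnorm x).1
    infer_instance
  have : AlgebraicGeometry.IsReduced X := isReduced_of_isReduced_stalk X
  have hdim : ∀ x : X, ringKrullDim (X.presheaf.stalk x) ≤ 1 := fun x ↦ by
    obtain ⟨c, hcx, hc⟩ := nonempty_inter_closedPoints (X := X) (Z := closure {x})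
      (Set.Nonempty.closure ⟨x, rfl⟩) isClosed_closure.isLocallyClosed
    refine le_trans ?_ (hcurve c hc).le
    rw [ringKrullDim_stalk_eq_coheight, ringKrullDim_stalk_eq_coheight]
    exact_mod_cast Order.coheight_anti (show c ≤ x from specializes_iff_mem_closure.mpr hcx)
  have hreg : ∀ x : X, ringKrullDim (X.presheaf.stalk x) ≤ 1 → IsRegularLocalRing (X.presheaf.stalk x) := by
    intro x hx
    have := (hnorm x).1
    have := (hnorm x).2
    have : IsPrincipalIdealRing (X.presheaf.stalk x) :=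
      ((tfae_of_isNoetherianRing_of_isLocalRing_of_isDomain (X.presheaf.stalk x)).out 3 0).mp
        (show IsIntegrallyClosed (X.presheaf.stalk x) ∧ ∀ P : Ideal (X.presheaf.stalk x), P ≠ ⊥ → P.IsPrime →
            P = IsLocalRing.maximalIdeal (X.presheaf.stalk x) from ⟨inferInstance, fun P hP hP' ↦ by
          have : Ring.KrullDimLE 1 (X.presheaf.stalk x) := Ring.krullDimLE_iff.mpr (by exact_mod_cast hx)
          exact IsLocalRing.eq_maximalIdeal (Ideal.isMaximal_of_isPrime_of_ne_bot P hP)⟩)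
    infer_instance
  obtain ⟨U', hUU', s', hs', hres, hmem⟩ := RatExtLib.exists_extension_dimOne hreg (pullback.snd sY sX)
    (pullback.snd sY sX).isClosedMap U hU (pullback.lift g U.ι hg) (pullback.lift_snd _ _ _)
  have htop : (⊤ : X.Opens) ≤ U' := fun x _ ↦ hmem x (hdim x)
  let g' : X ⟶ Y := X.topIso.inv ≫ X.homOfLE htop ≫ s' ≫ pullback.fst sY sX
  have hι : U.ι ≫ X.topIso.inv ≫ X.homOfLE htop = X.homOfLE hUU' := by
    rw [← cancel_mono U'.ι, Category.assoc, Category.assoc, Scheme.homOfLE_ι, Scheme.homOfLE_ι,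
      ← Scheme.topIso_hom, Iso.inv_hom_id, Category.comp_id]
  refine ⟨g', ⟨?_, ?_⟩, fun g'' h ↦ ?_⟩
  · show U.ι ≫ X.topIso.inv ≫ X.homOfLE htop ≫ s' ≫ pullback.fst sY sX = g
    rw [reassoc_of% hι, reassoc_of% hres, pullback.lift_fst]
  · show (X.topIso.inv ≫ X.homOfLE htop ≫ s' ≫ pullback.fst sY sX) ≫ sY = sX
    rw [Category.assoc, Category.assoc, Category.assoc, pullback.condition, reassoc_of% hs',
      X.homOfLE_ι_assoc htop, ← Scheme.topIso_hom, Iso.inv_hom_id_assoc]
  · refine NeronLib.ext_of_dense sY g'' g' ?_ U hU ?_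
    · rw [h.2]
      show sX = (X.topIso.inv ≫ X.homOfLE htop ≫ s' ≫ pullback.fst sY sX) ≫ sY
      rw [Category.assoc, Category.assoc, Category.assoc, pullback.condition, reassoc_of% hs',
        X.homOfLE_ι_assoc htop, ← Scheme.topIso_hom, Iso.inv_hom_id_assoc]
    · rw [h.1]
      show g = U.ι ≫ X.topIso.inv ≫ X.homOfLE htop ≫ s' ≫ pullback.fst sY sX
      rw [reassoc_of% hι, reassoc_of% hres, pullback.lift_fst]

end Groth.Agent.S2344
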