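import Groth.Statements.S4445
import Groth.Agent.S2344
import Groth.Agent.CurveLib.OverField
import Groth.Agent.DVRDom.Section

set_option autoImplicit false
universe u
open CategoryTheory CategoryTheory.Limits AlgebraicGeometry
attribute [local instance] Curv2.stalkAlgebra
open EGA2

namespace Groth.Agent.S4445

/-- Let X be a normal irreducible algebraic curve over a field k with field of rational functions K, and
Y an integral complete (proper over k) algebraic curve with field of rational functions L. Dominant
k-morphisms X ⟶ Y correspond bijectively to k-embeddings L → K: for every k-algebra homomorphism φ :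
L → K there is exactly one k-morphism u : X ⟶ Y mapping the generic point of X to the generic point
of Y and inducing φ on the stalks at the generic points. -/
theorem result (k : Type u) [Field k] (X Y : Scheme.{u})
    [X.Over (Spec (CommRingCat.of k))] [LocallyOfFiniteType (X ↘ (Spec (CommRingCat.of k)))]
    [QuasiCompact (X ↘ (Spec (CommRingCat.of k)))] [IsSeparated (X ↘ (Spec (CommRingCat.of k)))] [IsIntegral X]
    (hX : ∀ x : X, IsClosed ({x} : Set X) → ringKrullDim (X.presheaf.stalk x) = 1) (hnorm : Pi1.IsNormalScheme X)
    [Y.Over (Spec (CommRingCat.of k))] [IsProper (Y ↘ (Spec (CommRingCat.of k)))] [IsIntegral Y]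
    (hY : ∀ y : Y, IsClosed ({y} : Set Y) → ringKrullDim (Y.presheaf.stalk y) = 1)
    (φ : Y.functionField →ₐ[k] X.functionField) :
    ∃! u : X ⟶ Y, u ≫ (Y ↘ (Spec (CommRingCat.of k))) = X ↘ (Spec (CommRingCat.of k)) ∧
      ∃ hu : u.base (genericPoint X) = genericPoint Y,
        (Y.presheaf.stalkSpecializes (specializes_of_eq hu) ≫ u.stalkMap (genericPoint X)).hom = (φ : Y.functionField →+* X.functionField) := by
  let sX := X ↘ Spec (CommRingCat.of k)
  let sY := Y ↘ Spec (CommRingCat.of k)
  let m : Spec X.functionField ⟶ Y :=
    Spec.map (CommRingCat.ofHom (φ : Y.functionField →+* X.functionField)) ≫ Y.fromSpecStalk (genericPoint Y)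
  have hm : m ≫ sY = X.fromSpecStalk (genericPoint X) ≫ sX := by
    rw [Category.assoc, ← CurveLib.specMap_stalkMap k Y, ← CurveLib.specMap_stalkMap k X, ← Spec.map_comp]
    congr 1
    exact CommRingCat.hom_ext φ.comp_algebraMap
  obtain ⟨U, hηU, f, hf, hfs⟩ := spread_out_of_isGermInjective' sX sY m hm
  have hU : Dense (U : Set X) := by
    rw [dense_iff_closure_eq, ← Set.univ_subset_iff]
    exact fun x _ ↦ closure_mono (Set.singleton_subset_iff.mpr hηU)
      (specializes_iff_mem_closure.mp (genericPoint_specializes x))
  obtain ⟨u, ⟨hu1, hu2⟩, -⟩ := S2344.result k X Y hX hnorm U hU f hfs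
  have hgen : X.fromSpecStalk (genericPoint X) ≫ u = m := by
    rw [← Scheme.Opens.fromSpecStalkOfMem_ι U (genericPoint X) hηU, Category.assoc, hu1, ← hf]
  have hu : u.base (genericPoint X) = genericPoint Y := by
    have h := congrArg (fun t : Spec X.functionField ⟶ Y ↦ t (IsLocalRing.closedPoint X.functionField)) hgen
    simp only [Scheme.Hom.comp_apply, Scheme.fromSpecStalk_closedPoint, m] at h
    refine h.trans ?_
    have hcl : (Spec.map (CommRingCat.ofHom (φ : Y.functionField →+* X.functionField)))
        (IsLocalRing.closedPoint X.functionField) = IsLocalRing.closedPoint Y.functionField :=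
      (inferInstance : Subsingleton (PrimeSpectrum Y.functionField)).elim _ _
    exact (congrArg (Y.fromSpecStalk (genericPoint Y)) hcl).trans Scheme.fromSpecStalk_closedPoint
  have key : ∀ (v : X ⟶ Y) (hv : v.base (genericPoint X) = genericPoint Y),
      Spec.map (Y.presheaf.stalkSpecializes (specializes_of_eq hv) ≫ v.stalkMap (genericPoint X)) ≫
        Y.fromSpecStalk (genericPoint Y) = X.fromSpecStalk (genericPoint X) ≫ v := fun v hv ↦ by
    rw [Spec.map_comp, Category.assoc, Scheme.SpecMap_stalkSpecializes_fromSpecStalk,
      Scheme.SpecMap_stalkMap_fromSpecStalk]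
  refine ⟨u, ⟨hu2, hu, ?_⟩, ?_⟩
  · exact congrArg CommRingCat.Hom.hom (DVRDom.spec_map_eq_iff _
      (CommRingCat.ofHom (φ : Y.functionField →+* X.functionField)) ((key u hu).trans hgen))
  · rintro v ⟨hv1, hv, hvφ⟩
    have hd : IsDominant (X.fromSpecStalk (genericPoint X)) := ⟨by
      rw [DenseRange, dense_iff_closure_eq, ← Set.univ_subset_iff]
      exact fun x _ ↦ closure_mono (Set.singleton_subset_iff.mpr
        (by rw [Scheme.range_fromSpecStalk]; exact specializes_rfl))
        (specializes_iff_mem_closure.mp (genericPoint_specializes x))⟩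
    refine ext_of_isDominant_of_isSeparated sY (hv1.trans hu2.symm) (X.fromSpecStalk (genericPoint X)) ?_
    rw [hgen, ← key v hv]
    exact congrArg (fun t ↦ Spec.map t ≫ Y.fromSpecStalk (genericPoint Y))
      (CommRingCat.hom_ext (g := CommRingCat.ofHom (φ : Y.functionField →+* X.functionField)) hvφ)

end Groth.Agent.S4445
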