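import Groth.Statements.S16126
import Groth.Agent.HopfLib.Comod
import Groth.Agent.SGA3Union.MatrixCorep
import Groth.Agent.HopfQuot.SchemeQuot
import Groth.Agent.HopfLib.SpPoints

set_option autoImplicit false
universe u
open CategoryTheory MonoidalCategory CartesianMonoidalCategory MonObj GrpObj AlgebraicGeometry CategoryTheory.Limits
open AlgGrp

namespace Groth.Agent.S16126

section Algebra
open TensorProduct HopfRep Groth.Agent.HopfLib
open Coalgebra (comul counit)

variable {k : Type u} [Field k] {A : Type u} [CommRing A] [HopfAlgebra k A]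

theorem exists_groupLike_of_central (π : A →ₐc[k] MonoidAlgebra k (Multiplicative ℤ))
    (hπ : Function.Surjective π)
    (hc : ∀ a : A, (π.toLinearMap).lTensor A (comul (R := k) a) =
      TensorProduct.comm k _ _ ((π.toLinearMap).rTensor A (comul (R := k) a))) :
    ∃ (N : ℤ) (d : Aˣ), N ≠ 0 ∧ comul (R := k) (d : A) = (d : A) ⊗ₜ (d : A) ∧
      π (d : A) = MonoidAlgebra.single (Multiplicative.ofAdd N) 1 := by
  classical
  let B := MonoidAlgebra k (Multiplicative ℤ)
  let bb := MonoidAlgebra.basis (Multiplicative ℤ) k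
  let cm : Multiplicative ℤ → B →ₗ[k] k := fun g => bb.coord g
  let f : Multiplicative ℤ → A →ₗ[k] k := fun g => cm g ∘ₗ π.toLinearMap
  let P : Multiplicative ℤ → A →ₗ[k] A := fun g => hit (V := A) (f g)
  have hcm : ∀ g h, cm g (MonoidAlgebra.single h 1) = if h = g then 1 else 0 := fun g h => by
    have : MonoidAlgebra.single h (1 : k) = bb h := by simp [bb]
    show bb.coord g _ = _
    rw [this, Module.Basis.coord_apply, Module.Basis.repr_self, Finsupp.single_apply]
  have hmul : ∀ h g, formMul (f h) (f g) = if h = g then f g else 0 := by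
    intro h g
    have hB : ∀ y : B, LinearMap.mul' k k (TensorProduct.map (cm h) (cm g) (comul (R := k) y)) =
        if h = g then cm g y else 0 := by
      intro y
      induction y using MonoidAlgebra.induction_on with
      | of m =>
        rw [MonoidAlgebra.of_apply, MonoidAlgebra.comul_single]
        simp [hcm]
        grind
      | add p q hp hq => simp only [map_add, hp, hq]; split_ifs <;> simp
      | smul c p hp => simp only [map_smul, hp]; split_ifs <;> simp
    apply LinearMap.ext
    intro a
    show LinearMap.mul' k k (TensorProduct.map (f h) (f g) (comul (R := k) a)) = _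
    rw [show TensorProduct.map (f h) (f g) = TensorProduct.map (cm h) (cm g) ∘ₗ TensorProduct.map π.toLinearMap π.toLinearMap from TensorProduct.map_comp _ _ _ _, LinearMap.comp_apply]
    have h1 : TensorProduct.map π.toLinearMap π.toLinearMap (comul (R := k) a) = comul (π a) :=
      CoalgHomClass.map_comp_comul_apply π a
    rw [h1, hB]
    split_ifs with e
    · rfl
    · rfl
  have hPL : ∀ g a, P g a = hitL (f g) a := by
    intro g a
    have e := congrArg (TensorProduct.rid k A ∘ (cm g).lTensor A) (hc a)
    simp only [Function.comp] at e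
    show sliceR (f g) (comul (R := k) a) = sliceL (f g) (comul (R := k) a)
    have e1 : ∀ t : A ⊗[k] A, TensorProduct.rid k A ((cm g).lTensor A (π.toLinearMap.lTensor A t)) = sliceR (f g) t := fun t => by
      induction t using TensorProduct.induction_on with
      | zero => simp
      | add p q hp hq => simp only [map_add, hp, hq]
      | tmul x y => simp [f]
    have e2 : ∀ t : A ⊗[k] A, TensorProduct.rid k A ((cm g).lTensor A (TensorProduct.comm k _ _ (π.toLinearMap.rTensor A t))) = sliceL (f g) t := fun t => by
      induction t using TensorProduct.induction_on with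
      | zero => simp
      | add p q hp hq => simp only [map_add, hp, hq]
      | tmul x y => simp [f]
    rw [← e1, ← e2]; exact e
  have hP : ∀ g, Hoch.IsComodHom (k := k) A (P g) := fun g => by
    rw [isComodHom_iff_hit]
    intro φ x
    show P g (hit (V := A) φ x) = hit (V := A) φ (P g x)
    rw [hPL, hPL]
    exact (hitR_hitL φ (f g) x).symm
  obtain ⟨a₁, ha₁⟩ := hπ (MonoidAlgebra.single (Multiplicative.ofAdd (1 : ℤ)) 1)
  let g : Multiplicative ℤ := Multiplicative.ofAdd 1
  let x₀ := P g a₁
  have hεP : ∀ g a, counit (R := k) (P g a) = f g a := fun g a => by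
    rw [hPL]; exact counit_cf (V := A) (f g) a
  have hx₀ : x₀ ≠ 0 := fun h => by
    have := hεP g a₁
    rw [show P g a₁ = 0 from h, map_zero] at this
    apply one_ne_zero (α := k)
    calc (1 : k) = cm g (π a₁) := by rw [ha₁, hcm]; simp [g]
      _ = 0 := this.symm
  let V : Submodule k A := orbit k A x₀
  haveI : Module.Finite k V := finite_orbit x₀
  have hV : IsSubcomod (k := k) (A := A) V := isSubcomod_orbit x₀
  have hVW : V ≤ LinearMap.range (P g) := orbit_le (isSubcomod_range (hP g)) ⟨a₁, rfl⟩
  have hfix : ∀ v ∈ V, ∀ h, P h v = if h = g then v else 0 := by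
    intro v hv h
    obtain ⟨a, rfl⟩ := hVW hv
    show hit (V := A) (f h) (hit (V := A) (f g) a) = _
    rw [hit_hit, hmul]
    split_ifs with e
    · rfl
    · exact (congrArg (fun F => F a) (show hit (V := A) (0 : A →ₗ[k] k) = 0 by ext; simp [hit_apply, sliceR]))
  let d := Module.finrank k V
  let b : Module.Basis (Fin d) k V := Module.finBasis k V
  letI := ComodSub.Comod.restr (Comod.regular k A) V hV
  let c : Matrix (Fin d) (Fin d) A := fun j i => cf (V := V) (b.coord j) (b i)
  have hΔ : ∀ j i, comul (R := k) (c j i) = ∑ l, c j l ⊗ₜ c l i := by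
    intro j i
    rw [sliceL_coact_comul]
    have e : Comod.coact (k := k) (A := A) (b i) = ∑ l, b l ⊗ₜ[k] c l i := by
      have h : ∀ t : V ⊗[k] A, t = ∑ l, b l ⊗ₜ[k] sliceL (b.coord l) t := fun t => by
        induction t using TensorProduct.induction_on with
        | zero => simp
        | add p q hp hq =>
          conv_lhs => rw [hp, hq]
          simp [map_add, TensorProduct.tmul_add, Finset.sum_add_distrib]
        | tmul x y =>
          simp only [sliceL_tmul, Module.Basis.coord_apply, TensorProduct.tmul_smul, TensorProduct.smul_tmul']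
          rw [← TensorProduct.sum_tmul, b.sum_repr]
      exact h _
    rw [e]
    simp [c]
  have hε : ∀ j i, counit (R := k) (c j i) = if j = i then 1 else 0 := by
    intro j i
    rw [counit_cf, Module.Basis.coord_apply, Module.Basis.repr_self, Finsupp.single_apply]
    exact if_congr eq_comm rfl rfl
  have hπc : ∀ j i, π (c j i) = if j = i then MonoidAlgebra.single g 1 else 0 := by
    intro j i
    apply bb.ext_elem
    intro h
    show f h (c j i) = _
    rw [show f h (c j i) = b.coord j (hit (V := V) (f h) (b i)) by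
      show f h (sliceL _ (Comod.coact (k := k) (A := A) (b i))) = b.coord j (sliceR _ _)
      generalize Comod.coact (k := k) (A := A) (b i) = t
      induction t using TensorProduct.induction_on with
      | zero => simp
      | add p q hp hq => simp only [map_add, hp, hq]
      | tmul x y => simp [mul_comm]]
    have e : hit (V := V) (f h) (b i) = if h = g then b i else 0 := by
      apply Subtype.ext
      rw [hit_restr hV]
      refine (hfix _ (b i).2 h).trans ?_
      split_ifs <;> rfl
    rw [e]
    have e2 : bb.repr (MonoidAlgebra.single g (1 : k)) h = if g = h then 1 else 0 := hcm h g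
    by_cases hji : j = i
    · subst hji
      by_cases hh : h = g
      · subst hh; simp [e2]
      · simp [e2, hh, Ne.symm hh]
    · by_cases hh : h = g
      · simp [hh, hji, Ne.symm hji]
      · simp [hh, hji]
  have hdet : π c.det = MonoidAlgebra.single (Multiplicative.ofAdd (d : ℤ)) 1 := by
    rw [show π c.det = Matrix.det ((π : A →ₐ[k] B).mapMatrix c) from AlgHom.map_det (π : A →ₐ[k] B) c]
    have : (π : A →ₐ[k] B).mapMatrix c = Matrix.diagonal fun _ => MonoidAlgebra.single g 1 := by
      refine Matrix.ext fun j i => ?_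
      rw [Matrix.diagonal_apply]; exact hπc j i
    rw [this, Matrix.det_diagonal, Finset.prod_const, MonoidAlgebra.single_pow, one_pow, Finset.card_univ, Fintype.card_fin]
    simp [g, ← ofAdd_nsmul]
  refine ⟨d, (Groth.Agent.SGA3Union.isUnit_det_corep hΔ hε).unit, ?_, ?_, hdet⟩
  · have : Nontrivial V := ⟨⟨⟨x₀, mem_orbit_self x₀⟩, 0, fun h => hx₀ (congrArg Subtype.val h)⟩⟩
    have := Module.finrank_pos (R := k) (M := V)
    omega
  · show comul (R := k) c.det = c.det ⊗ₜ c.det
    let L : A →ₐ[k] A ⊗[k] A := Algebra.TensorProduct.includeLeft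
    let Rr : A →ₐ[k] A ⊗[k] A := Algebra.TensorProduct.includeRight
    show Bialgebra.comulAlgHom k A c.det = _
    rw [AlgHom.map_det]
    have : (Bialgebra.comulAlgHom k A).mapMatrix c = L.mapMatrix c * Rr.mapMatrix c := by
      ext i j
      simp [Matrix.mul_apply, hΔ, L, Rr]
    rw [this, Matrix.det_mul, ← AlgHom.map_det, ← AlgHom.map_det]
    simp [L, Rr]

/-- The character of a group-like unit. -/
theorem exists_bialgHom (d : Aˣ) (hd : comul (R := k) (d : A) = (d : A) ⊗ₜ (d : A)) :
    ∃ ψ : MonoidAlgebra k (Multiplicative ℤ) →ₐc[k] A,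
      ∀ z : ℤ, ψ (MonoidAlgebra.single (Multiplicative.ofAdd z) 1) = ((d ^ z : Aˣ) : A) := by
  let F : Multiplicative ℤ →* A := (Units.coeHom A).comp (zpowersHom Aˣ d)
  let ψ := MonoidAlgebra.lift k A (Multiplicative ℤ) F
  have hF1 : F (Multiplicative.ofAdd 1) = (d : A) := by simp [F]
  have hεd : counit (R := k) (d : A) = 1 := by
    have h := Coalgebra.lTensor_counit_comul (R := k) (d : A)
    rw [hd, LinearMap.lTensor_tmul] at h
    have h2 := congrArg (TensorProduct.rid k A) h
    rw [TensorProduct.rid_tmul, TensorProduct.rid_tmul, _root_.one_smul, Algebra.smul_def] at h2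
    have h3 : algebraMap k A (counit (R := k) (d : A)) = 1 := d.isUnit.mul_eq_right.1 h2
    exact by simpa using congrArg (counit (R := k)) h3
  have hc : ∀ x, comul (R := k) (F x) = F x ⊗ₜ[k] F x := by
    have h : ((Bialgebra.comulAlgHom k A).toMonoidHom.comp F) =
        (((Algebra.TensorProduct.includeLeft : A →ₐ[k] A ⊗[k] A).toMonoidHom.comp F) *
          ((Algebra.TensorProduct.includeRight : A →ₐ[k] A ⊗[k] A).toMonoidHom.comp F)) := by
      refine MonoidHom.ext_mint ?_
      simp [hF1, hd]
    intro x
    exact (DFunLike.congr_fun h x).trans (by simp)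
  have he : ∀ x, counit (R := k) (F x) = 1 := by
    have h : ((Bialgebra.counitAlgHom k A).toMonoidHom.comp F) = 1 := by
      refine MonoidHom.ext_mint ?_
      simp [hF1, hεd]
    intro x
    exact DFunLike.congr_fun h x
  have hψ : ∀ x, ψ (MonoidAlgebra.single x 1) = F x := fun x => by simp [ψ]
  refine ⟨BialgHom.ofAlgHom ψ (MonoidAlgebra.algHom_ext (fun x => ?_) (Subsingleton.elim _ _))
    (MonoidAlgebra.algHom_ext (fun x => ?_) (Subsingleton.elim _ _)), fun z => ?_⟩
  · simp [hψ, he]
  · simp [hψ, hc]
  · exact (hψ _).trans (by simp [F])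

theorem pow_single {T : Type u} [CommRing T] [Algebra k T]
    (f : WithConv (MonoidAlgebra k (Multiplicative ℤ) →ₐ[k] T)) (n : ℕ) (x : Multiplicative ℤ) :
    (f ^ n).ofConv (MonoidAlgebra.single x 1) = f.ofConv (MonoidAlgebra.single x 1) ^ n := by
  induction n with
  | zero => simp [AlgHom.convOne_apply]
  | succ n ih => simp [pow_succ, AlgHom.convMul_apply, ih]

end Algebra


/-- Over an algebraically closed field k, let E and G be linear algebraic groups (affine smooth k-group
schemes) with G connected, i : 𝔾_m → E a homomorphism which is a closed immersion with central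
image, and f : E → G a flat surjective homomorphism with kernel i (a central extension 1 → 𝔾_m → E →
G → 1). Then there exist a character χ : E → 𝔾_m and an integer n ≥ 1 such that χ ∘ i is the n-th
power map of 𝔾_m: for every point t of 𝔾_m with values in a k-scheme T, χ(i(t)) = tⁿ in the group of
T-points of 𝔾_m. (The published lemma is stated in a setting where all groups are linear; for a
connected G that is not linear the conclusion can fail.) -/
theorem result (k : Type u) [Field k] [IsAlgClosed k]
    (E G : Over (Spec (CommRingCat.of k))) [GrpObj E] [IsAffine E.left] [Smooth E.hom]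
    [GrpObj G] [IsAffine G.left] [Smooth G.hom] [ConnectedSpace ↥G.left]
    (i : Red.Gm (Spec (CommRingCat.of k)) ⟶ E) [IsMonHom i] [IsClosedImmersion i.left]
    (hcent : ∀ (T : Over (Spec (CommRingCat.of k))) (t : T ⟶ Red.Gm (Spec (CommRingCat.of k))) (g : T ⟶ E),
      (t ≫ i) * g = g * (t ≫ i))
    (f : E ⟶ G) [IsMonHom f] [Flat f.left] [Surjective f.left] (hker : AlgGrp.IsKernel i f) :
    ∃ (χ : E ⟶ Red.Gm (Spec (CommRingCat.of k))) (n : ℕ), IsMonHom χ ∧ 1 ≤ n ∧
      ∀ (T : Over (Spec (CommRingCat.of k))) (t : T ⟶ Red.Gm (Spec (CommRingCat.of k))), (t ≫ i) ≫ χ = t ^ n := by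
  classical
  obtain ⟨A, _, _, e, _, _⟩ := HopfQuot.exists_spec (k := k) E
  obtain ⟨ds, hds⟩ := HopfLib.SpPoints.exists_dsIso (k := k) ℤ
  haveI : IsIso e.left := inferInstanceAs (IsIso ((Over.forget _).map e))
  haveI : IsIso ds.hom.left := inferInstanceAs (IsIso ((Over.forget _).map ds.hom))
  haveI : IsIso (CategoryTheory.inv e).left := inferInstanceAs (IsIso ((Over.forget _).map (CategoryTheory.inv e)))
  haveI : IsMonHom (CategoryTheory.inv e) := inferInstanceAs (IsMonHom (asIso e).inv)
  haveI : IsMonHom ds.hom := hds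
  haveI : IsMonHom (ds.hom ≫ i ≫ CategoryTheory.inv e) := inferInstance
  obtain ⟨π, hπj⟩ := HopfQuot.exists_specHom (k := k) (A := A) (B := MonoidAlgebra k (Multiplicative ℤ))
    (ds.hom ≫ i ≫ CategoryTheory.inv e)
  have hci : IsClosedImmersion (Spec.map (CommRingCat.ofHom (π : A →+* MonoidAlgebra k (Multiplicative ℤ)))) := by
    rw [← HopfQuot.specHom_left, hπj, Over.comp_left, Over.comp_left]
    haveI h2 : IsClosedImmersion (i.left ≫ (CategoryTheory.inv e).left) := inferInstance
    haveI h3 : IsClosedImmersion ds.hom.left := inferInstance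
    exact MorphismProperty.comp_mem @IsClosedImmersion _ _ h3 h2
  have hπ : Function.Surjective π := by
    have h := Scheme.Hom.app_surjective (Spec.map (CommRingCat.ofHom (π : A →+* MonoidAlgebra k (Multiplicative ℤ)))) ⊤
      (isAffineOpen_top _)
    have e0 := Scheme.ΓSpecIso_inv_naturality (CommRingCat.ofHom (π : A →+* MonoidAlgebra k (Multiplicative ℤ)))
    intro y
    obtain ⟨z, hz⟩ := h ((Scheme.ΓSpecIso (CommRingCat.of (MonoidAlgebra k (Multiplicative ℤ)))).inv y)
    obtain ⟨x, rfl⟩ := (ConcreteCategory.bijective_of_isIso (Scheme.ΓSpecIso (CommRingCat.of A)).inv).2 z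
    refine ⟨x, (ConcreteCategory.bijective_of_isIso (Scheme.ΓSpecIso (CommRingCat.of (MonoidAlgebra k (Multiplicative ℤ)))).inv).1 ?_⟩
    exact (congrArg (fun f => f.hom x) e0).trans hz
  have hc : ∀ a : A, (π.toLinearMap).lTensor A (CoalgebraStruct.comul (R := k) a) =
      TensorProduct.comm k _ _ ((π.toLinearMap).rTensor A (CoalgebraStruct.comul (R := k) a)) := by
    intro a
    let g0 : HopfQuot.Pt k A (TensorProduct k A (MonoidAlgebra k (Multiplicative ℤ))) :=
      WithConv.toConv Algebra.TensorProduct.includeLeft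
    let t0 : HopfQuot.Pt k (MonoidAlgebra k (Multiplicative ℤ)) (TensorProduct k A (MonoidAlgebra k (Multiplicative ℤ))) :=
      WithConv.toConv Algebra.TensorProduct.includeRight
    have h := hcent _ (HopfQuot.ptSpec t0 ≫ ds.hom) (HopfQuot.ptSpec g0 ≫ e)
    have e1 : (HopfQuot.ptSpec t0 ≫ ds.hom) ≫ i =
        HopfQuot.ptSpec (WithConv.toConv (t0.ofConv.comp (π : A →ₐ[k] _))) ≫ e := by
      rw [← HopfQuot.ptSpec_comp, hπj]; simp
    rw [e1, ← MonObj.mul_comp, ← MonObj.mul_comp, cancel_mono, ← map_mul, ← map_mul] at h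
    have h2 := congrArg (fun p => p.ofConv a) ((HopfQuot.ptSpec (k := k)).injective h)
    simp only [AlgHom.convMul_def, WithConv.ofConv_toConv, AlgHom.comp_apply, t0, g0] at h2
    have eL : ∀ x : TensorProduct k A A, (π.toLinearMap).lTensor A x =
        Algebra.TensorProduct.lmul' k (Algebra.TensorProduct.map (Algebra.TensorProduct.includeLeft : A →ₐ[k] _)
          (Algebra.TensorProduct.includeRight.comp (π : A →ₐ[k] MonoidAlgebra k (Multiplicative ℤ))) x) := fun x => by
      induction x using TensorProduct.induction_on with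
      | zero => simp
      | add p q hp hq => simp only [map_add, hp, hq]
      | tmul p q => simp; rfl
    have eR : ∀ x : TensorProduct k A A, TensorProduct.comm k _ _ ((π.toLinearMap).rTensor A x) =
        Algebra.TensorProduct.lmul' k (Algebra.TensorProduct.map
          (Algebra.TensorProduct.includeRight.comp (π : A →ₐ[k] MonoidAlgebra k (Multiplicative ℤ)))
          (Algebra.TensorProduct.includeLeft : A →ₐ[k] _) x) := fun x => by
      induction x using TensorProduct.induction_on with
      | zero => simp
      | add p q hp hq => simp only [map_add, hp, hq]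
      | tmul p q => simp; rfl
    exact (eL _).trans (h2.symm.trans (eR _).symm)
  obtain ⟨N, d, hN, hd, hπd⟩ := exists_groupLike_of_central π hπ hc
  obtain ⟨ψ₀, hψ₀⟩ := exists_bialgHom (k := k) d hd
  have hπz : ∀ z : ℤ, π ((d ^ z : Aˣ) : A) = MonoidAlgebra.single (Multiplicative.ofAdd (N * z)) 1 := by
    have h : (MonoidHomClass.toMonoidHom π).comp ((Units.coeHom A).comp (zpowersHom Aˣ d)) =
        (MonoidAlgebra.of k (Multiplicative ℤ)).comp (zpowersHom _ (Multiplicative.ofAdd N)) := by
      refine MonoidHom.ext_mint ?_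
      simpa using hπd
    intro z
    exact (DFunLike.congr_fun h (Multiplicative.ofAdd z)).trans (by simp [← ofAdd_zsmul, mul_comm])
  obtain ⟨s, hs⟩ : ∃ s : ℤ, N * s = N.natAbs := ⟨N.sign, Int.mul_sign_self N⟩
  obtain ⟨ψ, hψ⟩ := exists_bialgHom (k := k) (d ^ s) (by
    rw [← hψ₀ s]
    exact (CoalgHomClass.map_comp_comul_apply ψ₀ _).symm.trans (by simp))
  refine ⟨CategoryTheory.inv e ≫ HopfQuot.specHom ψ ≫ ds.hom, N.natAbs, inferInstance, Int.natAbs_pos.2 hN, fun T t => ?_⟩
  have hp : HopfQuot.specHom π ≫ HopfQuot.specHom ψ =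
      (𝟙 (HopfQuot.spec (k := k) (MonoidAlgebra k (Multiplicative ℤ)))) ^ N.natAbs := by
    let idp : HopfQuot.Pt k (MonoidAlgebra k (Multiplicative ℤ)) (MonoidAlgebra k (Multiplicative ℤ)) :=
      WithConv.toConv (AlgHom.id k _)
    have h1 : HopfQuot.ptSpec idp = 𝟙 (HopfQuot.spec (k := k) (MonoidAlgebra k (Multiplicative ℤ))) :=
      Over.OverMorphism.ext (Spec.map_id _)
    rw [← h1, ← map_pow, ← Category.id_comp (HopfQuot.specHom π), ← h1, Category.assoc, ← Category.assoc,
      HopfQuot.ptSpec_comp, HopfQuot.ptSpec_comp]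
    refine congrArg _ (congrArg WithConv.toConv (MonoidAlgebra.algHom_ext (fun z => ?_) (Subsingleton.elim _ _)))
    obtain ⟨z, rfl⟩ := Multiplicative.ofAdd.surjective z
    show π (ψ (MonoidAlgebra.single (Multiplicative.ofAdd z) 1)) = (idp ^ N.natAbs).ofConv _
    rw [hψ, pow_single, ← zpow_mul, hπz, ← _root_.mul_assoc, hs]
    simp [idp, MonoidAlgebra.single_pow, ← ofAdd_nsmul]
  have hi : i ≫ CategoryTheory.inv e = ds.inv ≫ HopfQuot.specHom π := by rw [hπj]; simp
  calc (t ≫ i) ≫ CategoryTheory.inv e ≫ HopfQuot.specHom ψ ≫ ds.hom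
      = (t ≫ ds.inv) ≫ (HopfQuot.specHom π ≫ HopfQuot.specHom ψ) ≫ ds.hom := by
        simp only [Category.assoc]
        rw [reassoc_of% hi]
    _ = t ^ N.natAbs := by
        rw [hp, ← Category.assoc, MonObj.comp_pow, Category.comp_id]
        haveI : IsMonHom ds.hom := hds
        refine (MonObj.pow_comp (t ≫ ds.inv) N.natAbs ds.hom).trans ?_
        simp

end Groth.Agent.S16126
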