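import Groth.Statements.S13470
import Groth.Agent.HopfLib.GroupLikeLift
import Groth.Agent.IsoTriv.SchemeSpec
import Groth.Agent.UnipStruct.Basic
import Groth.Agent.S16126

set_option autoImplicit false
universe u
open GmDual

namespace Groth.Agent.S13470

open CategoryTheory MonoidalCategory CartesianMonoidalCategory MonObj AlgebraicGeometry Opposite CoactBr in
/-- Characters of a closed subgroup of a commutative affine group over an algebraically closed field extend. -/
theorem exists_extend (k : Type u) [Field k] [IsAlgClosed k]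
    (H G : Over (Spec (CommRingCat.of k))) [GrpObj H] [GrpObj G] [IsCommMonObj G]
    [IsAffine H.left] [IsAffine G.left]
    (i : H ⟶ G) [IsMonHom i] [IsClosedImmersion i.left]
    (χ : H ⟶ Red.Gm (Spec (CommRingCat.of k))) [IsMonHom χ] :
    ∃ (χ' : G ⟶ Red.Gm (Spec (CommRingCat.of k))) (_ : IsMonHom χ'), i ≫ χ' = χ := by
  obtain ⟨A, _, _, ⟨eG⟩⟩ := Groth.Agent.IsoTriv.SchemeSpec.exists_spec G
  obtain ⟨B, _, _, ⟨eH⟩⟩ := Groth.Agent.IsoTriv.SchemeSpec.exists_spec H
  obtain ⟨eM⟩ := Groth.Agent.IsoTriv.SchemeSpec.nonempty_DS k ℤ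
  let gI : G ≅ sp k A := (Grp.forget _).mapIso eG
  let hI : H ≅ sp k B := (Grp.forget _).mapIso eH
  let mI : Red.Gm (Spec (CommRingCat.of k)) ≅ sp k (MonoidAlgebra k (Multiplicative ℤ)) := (Grp.forget _).mapIso eM
  haveI : IsMonHom gI.hom := eG.hom.hom.isMonHom_hom
  haveI : IsMonHom gI.inv := eG.inv.hom.isMonHom_hom
  haveI : IsMonHom hI.inv := eH.inv.hom.isMonHom_hom
  haveI : IsMonHom mI.hom := eM.hom.hom.isMonHom_hom
  haveI : IsMonHom mI.inv := eM.inv.hom.isMonHom_hom
  haveI : IsCommMonObj (sp k A) := ⟨by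
    rw [← cancel_mono gI.inv, Category.assoc, IsMonHom.mul_hom (f := gI.inv),
      ← BraidedCategory.braiding_naturality_assoc, IsCommMonObj.mul_comm]⟩
  haveI : Coalgebra.IsCocomm k A := Groth.Agent.UnipStruct.isCocomm_of_comm
  obtain ⟨π, hπ⟩ := Groth.Agent.IsoTriv.SchemeSpec.exists_bialgHom (hI.inv ≫ i ≫ gI.hom)
  obtain ⟨φ, hφ⟩ := Groth.Agent.IsoTriv.SchemeSpec.exists_bialgHom (hI.inv ≫ χ ≫ mI.hom)
  have hπs : Function.Surjective π := by
    haveI : IsIso hI.inv.left := (inferInstance : IsIso ((Over.forget _).map hI.inv))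
    haveI : IsIso gI.hom.left := (inferInstance : IsIso ((Over.forget _).map gI.hom))
    haveI : IsClosedImmersion (hI.inv ≫ i ≫ gI.hom).left := by
      rw [Over.comp_left, Over.comp_left]; infer_instance
    rw [hπ] at this
    haveI : IsClosedImmersion (Spec.map (CommRingCat.ofHom (π : A →+* B))) := by exact this
    have h := (IsClosedImmersion.isAffine_surjective_of_isAffine (Spec.map (CommRingCat.ofHom (π : A →+* B)))).2
    intro b
    obtain ⟨y, hy⟩ := h ((Scheme.ΓSpecIso (CommRingCat.of B)).inv b)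
    refine ⟨(Scheme.ΓSpecIso (CommRingCat.of A)).hom y, ?_⟩
    have hn := ConcreteCategory.congr_hom (Scheme.ΓSpecIso_naturality (CommRingCat.ofHom (π : A →+* B))) y
    simp only [CommRingCat.comp_apply] at hn
    exact hn.symm.trans ((congrArg (Scheme.ΓSpecIso (CommRingCat.of B)).hom hy).trans (Iso.inv_hom_id_apply _ _))
  have hχ : IsGroupLikeElem k (φ (MonoidAlgebra.single (Multiplicative.ofAdd (1 : ℤ)) 1)) :=
    (MonoidAlgebra.isGroupLikeElem_single_one _).map φ
  obtain ⟨g, hg, hπg⟩ := Groth.Agent.HopfLib.exists_groupLike_preimage π hπs hχ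
  have hu : IsUnit g := hg.isUnit
  obtain ⟨ψ, hψ⟩ := Groth.Agent.S16126.exists_bialgHom hu.unit hg.comul_eq_tmul_self
  have hcomp : π.comp ψ = φ := by
    refine BialgHom.coe_algHom_injective (MonoidAlgebra.algHom_ext (fun x => ?_) (Subsingleton.elim _ _))
    obtain ⟨z, rfl⟩ := Multiplicative.ofAdd.surjective x
    let F : Multiplicative ℤ →* B := (π.toAlgHom.toMonoidHom.comp ψ.toAlgHom.toMonoidHom).comp (MonoidAlgebra.of k _)
    have h := MonoidHom.ext_mint (f := F) (g := φ.toAlgHom.toMonoidHom.comp (MonoidAlgebra.of k _)) (by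
      show π (ψ (MonoidAlgebra.single _ 1)) = φ (MonoidAlgebra.single _ 1)
      rw [hψ, zpow_one, IsUnit.unit_spec, hπg])
    exact DFunLike.congr_fun h (Multiplicative.ofAdd z)
  let Ψ : Grp.mk (sp k A) ⟶ Grp.mk (sp k (MonoidAlgebra k (Multiplicative ℤ))) :=
    (hopfSpec (CommRingCat.of k)).map
      (CommHopfAlgCat.ofHom ψ : CommHopfAlgCat.of k (MonoidAlgebra k (Multiplicative ℤ)) ⟶ CommHopfAlgCat.of k A).op
  haveI : IsMonHom Ψ.hom.hom := Ψ.hom.isMonHom_hom
  have hΨ : Ψ.hom.hom.left = Spec.map (CommRingCat.ofHom (ψ : MonoidAlgebra k (Multiplicative ℤ) →+* A)) := rfl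
  refine ⟨gI.hom ≫ Ψ.hom.hom ≫ mI.inv, inferInstance, ?_⟩
  rw [← cancel_epi hI.inv, ← cancel_mono mI.hom]
  simp only [Category.assoc, Iso.inv_hom_id, Category.comp_id]
  refine Over.OverMorphism.ext ?_
  have e1 : (hI.inv ≫ i ≫ gI.hom ≫ Ψ.hom.hom).left = (hI.inv ≫ i ≫ gI.hom).left ≫ Ψ.hom.hom.left := by
    simp only [Over.comp_left, Category.assoc]
  rw [e1, hπ, hΨ, hφ, ← hcomp]
  exact (Spec.map_comp (CommRingCat.ofHom (ψ : MonoidAlgebra k (Multiplicative ℤ) →+* A)) (CommRingCat.ofHom (π : A →+* B))).symm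

open CategoryTheory AlgebraicGeometry MonObj in
/-- Let k be an algebraically closed field and i : H → G a homomorphism of affine commutative k-group
schemes of finite type which is a closed immersion. Then the restriction map Ĝ(k) → Ĥ(k) on
characters defined over k (morphisms of abelian sheaves on the big fppf site of Spec k from the
sheaf of points to the multiplicative group, restricted along i) is surjective. -/
theorem result (k : Type u) [Field k] [IsAlgClosed k]
    (H G : Over (Spec (CommRingCat.of k))) [GrpObj H] [IsCommMonObj H] [GrpObj G] [IsCommMonObj G]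
    [IsAffine H.left] [LocallyOfFiniteType H.hom] [IsAffine G.left] [LocallyOfFiniteType G.hom]
    (i : H ⟶ G) [IsMonHom i] [IsClosedImmersion i.left] :
    Function.Surjective (Preadditive.leftComp (CGrpSh2.Gm Scheme.fppfPrecoverage (Spec (CommRingCat.of k)))
      (CGrpSh.ptsMap Scheme.fppfPrecoverage i)) := by
  intro c
  let χ : H ⟶ Red.Gm (Spec (CommRingCat.of k)) := (c.hom.app (Opposite.op H) (ULift.up (Additive.ofMul (𝟙 H)))).down.toMul
  have hc : ∀ (T : Over (Spec (CommRingCat.of k))) (x : T ⟶ H),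
      (c.hom.app (Opposite.op T) (ULift.up (Additive.ofMul x))).down = Additive.ofMul (x ≫ χ) := by
    intro T x
    have hnat := ConcreteCategory.congr_hom (c.hom.naturality x.op) (ULift.up (Additive.ofMul (𝟙 H)))
    refine Eq.trans ?_ (congrArg ULift.down hnat)
    show _ = (c.hom.app (Opposite.op T) (ULift.up (Additive.ofMul (x ≫ 𝟙 H)))).down
    rw [Category.comp_id]
  have hmul : ∀ {T : Over (Spec (CommRingCat.of k))} (x y : T ⟶ H), (x * y) ≫ χ = x ≫ χ * y ≫ χ := fun {T} x y => by
    have h := congrArg ULift.down ((c.hom.app (Opposite.op T)).hom.map_add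
      (ULift.up (Additive.ofMul x)) (ULift.up (Additive.ofMul y)))
    exact (hc T (x * y)).symm.trans (h.trans (congrArg₂ (· + ·) (hc T x) (hc T y)))
  haveI : IsMonHom χ :=
    { one_hom := by
        have h := hmul (1 : MonoidalCategoryStruct.tensorUnit _ ⟶ H) 1
        rw [_root_.mul_one] at h
        letI : Group (MonoidalCategoryStruct.tensorUnit (Over (Spec (CommRingCat.of k))) ⟶ Red.Gm (Spec (CommRingCat.of k))) := Hom.group
        have h' := left_eq_mul.1 h
        rw [Hom.one_def, Category.assoc] at h'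
        simpa [Hom.one_def] using h'
      mul_hom := by
        rw [MonObj.mul_eq_mul, hmul, MonObj.mul_eq_mul, MonObj.comp_mul]
        simp }
  obtain ⟨χ', hχ', hi⟩ := exists_extend k H G i χ
  refine ⟨CGrpSh.ptsMap Scheme.fppfPrecoverage χ', ?_⟩
  refine Sheaf.hom_ext (NatTrans.ext (funext fun T => AddCommGrpCat.ext fun x => ULift.ext _ _ ?_))
  obtain ⟨T⟩ := T
  show Additive.ofMul ((x.down.toMul ≫ i) ≫ χ') = _
  rw [Category.assoc, hi]
  exact (hc T x.down.toMul).symm

end Groth.Agent.S13470
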