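import Groth.Statements.S7601
import Groth.Agent.VarietyLib.NormalBaseChange

set_option autoImplicit false
universe u
open CategoryTheory CategoryTheory.Limits AlgebraicGeometry
open Variety
open Groth.Agent
open scoped TensorProduct
attribute [local instance] Curv2.stalkAlgebra

namespace Groth.Agent.S7601

/-- Let X be a geometrically normal scheme over a field k (X_K is a normal scheme for every extension
field K of k) and Y a normal scheme over k. Then X ×_k Y is a normal scheme. -/
theorem result (k : Type u) [Field k] (X : Scheme.{u}) [X.Over (Spec (CommRingCat.of k))] (Y : Scheme.{u}) [Y.Over (Spec (CommRingCat.of k))]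
    (hX : ∀ (K : Type u) [Field K] [Algebra k K], Pi1.IsNormalScheme (Curv2.bc k X K)) (hY : Pi1.IsNormalScheme Y) :
    Pi1.IsNormalScheme (pullback (X ↘ (Spec (CommRingCat.of k))) (Y ↘ (Spec (CommRingCat.of k)))) := by
  intro z
  obtain ⟨P, ⟨e⟩⟩ := VarietyLib.exists_stalk_prod_equiv k X Y z
  have hG : EGA4.IsGeomNormal k (X.presheaf.stalk (pullback.fst (X ↘ Spec (CommRingCat.of k)) (Y ↘ Spec (CommRingCat.of k)) z)) := by
    intro L _ _ _
    exact CommAlg6.isNormalRing_of_ringEquiv (Algebra.TensorProduct.comm k _ L).toRingEquiv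
      (VarietyLib.isNormalRing_tensor_of_stalks k X L _ fun w _ => hX L w)
  obtain ⟨h1, h2⟩ := CommAlg6.NormalTensor.isNormalRing_tensor_of_isGeomNormal k _
    (Y.presheaf.stalk (pullback.snd (X ↘ Spec (CommRingCat.of k)) (Y ↘ Spec (CommRingCat.of k)) z)) hG
    (VarietyLib.isNormalRing_stalk hY _) P.asIdeal
  haveI := h1
  haveI := h2
  exact ⟨e.injective.isDomain, IsIntegrallyClosed.of_equiv e.symm⟩

end Groth.Agent.S7601
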