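import Groth.Statements.S18975
import Groth.Agent.AlgGrpLib.TorsorQuot
import Groth.Agent.Desc19b.CoverLocal
import Groth.Agent.Et18.Descent
import Groth.Agent.AlgSpLib.FppfLocal

set_option autoImplicit false
set_option backward.isDefEq.respectTransparency.types false

universe u
open CategoryTheory MonoidalCategory CartesianMonoidalCategory MonObj AlgebraicGeometry
open GIT

namespace Groth.Agent.S18975

/-- Over an algebraically closed field k of characteristic zero, let G be an affine group scheme of
finite type over k acting on a k-scheme X, and let φ : X → Y be a morphism of k-schemes which is a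
G-torsor over Y: the square formed by the action G ×_k X → X, the second projection and φ (twice) is
cartesian, and φ acquires sections on the members of some fpqc covering family of Y. Then φ is
affine and (Y, φ) is a geometric quotient: φ is invariant and surjective, G ×_k X → X ×_Y X is
surjective, φ is universally submersive, and over every open of Y the functions on Y are exactly the
invariant functions on its preimage. (The source defines a torsor by the existence of one fpqc
morphism to Y trivialising it and defines geometric quotients with φ affine and submersive;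
universal submersiveness follows because every base change of a torsor is a torsor.) -/
theorem result
    (k : Type u) [Field k] [IsAlgClosed k] [CharZero k]
    (G X Y : Over (Spec (CommRingCat.of k))) [GrpObj G] [IsAffine G.left] [LocallyOfFiniteType G.hom]
    (a : AlgGrp.Action G X) (φ : X ⟶ Y)
    (hcart : IsPullback a.act (snd G X) φ φ)
    (hloc : NonAbH1.IsLocallyTrivialFor Scheme.fpqcPrecoverage (Over.mk φ.left : Over Y.left)) :
    IsAffineHom φ.left ∧ GIT.IsGeomQuot a φ := by
  have hsq : IsPullback a.act.left (snd G X).left φ.left φ.left := (Over.forget _).map_isPullback hcart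
  obtain ⟨R, hR, hsec⟩ := hloc
  obtain ⟨I, Z, g, rfl⟩ := R.exists_eq_ofArrows
  let 𝒰 : Scheme.Cover Scheme.fpqcPrecoverage Y.left := ⟨⟨I, Z, g⟩, hR⟩
  have desc : ∀ (P : MorphismProperty Scheme.{u}) [P.IsStableUnderBaseChange] [P.RespectsIso] [IsZariskiLocalAtTarget P],
      P.DescendsAlong (@Surjective ⊓ @Flat ⊓ @QuasiCompact : MorphismProperty Scheme.{u}) → P (snd G X).left → P φ.left := by
    intro P _ _ _ hP hsnd
    refine Groth.Agent.Desc19b.of_fpqcCover P hP φ.left 𝒰 fun i => ?_
    obtain ⟨σ, hσ⟩ := hsec (g i) ⟨i⟩
    have h := (IsPullback.of_hasPullback (snd G X).left σ).paste_horiz hsq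
    have hσ' : σ ≫ φ.left = g i := hσ
    rw [hσ'] at h
    change P (Limits.pullback.snd φ.left (g i))
    rw [← h.isoPullback_inv_snd, MorphismProperty.cancel_left_of_respectsIso P]
    exact MorphismProperty.pullback_snd _ _ hsnd
  haveI hflatG : Flat G.hom := inferInstance
  haveI : IsAffineHom G.hom := inferInstance
  haveI : Surjective G.hom := ⟨fun x => ⟨η[G].left.base x, by
    have h := congrArg (fun t => t.base x) (Over.w η[G])
    exact h⟩⟩
  haveI hA : IsAffineHom φ.left := desc @IsAffineHom Groth.Agent.Et18.descends_isAffineHom
    (MorphismProperty.pullback_snd (P := @IsAffineHom) G.hom X.hom inferInstance)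
  haveI : Flat φ.left := desc @Flat Groth.Agent.AlgSpLib.descends_flat
    (MorphismProperty.pullback_snd (P := @Flat) G.hom X.hom hflatG)
  haveI : Surjective φ.left := desc @Surjective inferInstance
    (MorphismProperty.pullback_snd (P := @Surjective) G.hom X.hom inferInstance)
  exact ⟨hA, Groth.Agent.AlgGrpLib.TorsorQuot.isGeomQuot_of_torsor a φ hcart.w hsq⟩

end Groth.Agent.S18975
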