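import Groth.Statements.S14584
import Groth.Agent.AlgGrpLib.CrossProduct

set_option backward.isDefEq.respectTransparency.types false

set_option autoImplicit false
universe u
open CategoryTheory MonoidalCategory CartesianMonoidalCategory MonObj GrpObj AlgebraicGeometry CategoryTheory.Limits
open AlgGrp

namespace Groth.Agent.S14584

/-- Let k be a field, X and Y varieties over k (separated, geometrically integral k-schemes of finite
type) with rational points x₀ and y₀, A an abelian variety (a proper, smooth, connected k-group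
scheme) and f : X × Y → A a k-morphism. Then, in the group of morphisms X × Y → A, f(x, y) = f(x₀,
y₀)⁻¹ · f(x₀, y) · f(x, y₀) identically; additively, f(x, y) − f(x₀, y) − f(x, y₀) + f(x₀, y₀) = 0.
Neither smoothness nor properness of X, Y is assumed. -/
theorem result (k : Type u) [Field k]
    (X Y A : Over (Spec (CommRingCat.of k)))
    [LocallyOfFiniteType X.hom] [QuasiCompact X.hom] [IsSeparated X.hom] [GeometricallyIntegral X.hom]
    [LocallyOfFiniteType Y.hom] [QuasiCompact Y.hom] [IsSeparated Y.hom] [GeometricallyIntegral Y.hom]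
    [GrpObj A] [IsProper A.hom] [Smooth A.hom] [ConnectedSpace ↥A.left]
    (x₀ : 𝟙_ (Over (Spec (CommRingCat.of k))) ⟶ X) (y₀ : 𝟙_ (Over (Spec (CommRingCat.of k))) ⟶ Y) (f : X ⊗ Y ⟶ A) :
    f = (toUnit (X ⊗ Y) ≫ lift x₀ y₀ ≫ f)⁻¹ * (snd X Y ≫ lift (toUnit Y ≫ x₀) (𝟙 Y) ≫ f) *
      (fst X Y ≫ lift (𝟙 X) (toUnit X ≫ y₀) ≫ f) := by
  let g : Spec (CommRingCat.of (AlgebraicClosure k)) ⟶ Spec (CommRingCat.of k) :=
    Spec.map (CommRingCat.ofHom (algebraMap k (AlgebraicClosure k)))
  let F := Over.pullback g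
  haveI : IsProper (F.obj A).hom := MorphismProperty.pullback_snd (P := @IsProper) A.hom g inferInstance
  haveI : GeometricallyIntegral A.hom := Groth.Agent.GaGmQuot.geometricallyIntegral_of_connected A
  haveI : GeometricallyIntegral (F.obj A).hom := MorphismProperty.pullback_snd A.hom g inferInstance
  haveI : GeometricallyIntegral (F.obj X).hom := MorphismProperty.pullback_snd X.hom g inferInstance
  haveI : GeometricallyIntegral (F.obj Y).hom := MorphismProperty.pullback_snd Y.hom g inferInstance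
  haveI : LocallyOfFiniteType (F.obj X).hom := MorphismProperty.pullback_snd (P := @LocallyOfFiniteType) X.hom g inferInstance
  haveI : LocallyOfFiniteType (F.obj Y).hom := MorphismProperty.pullback_snd (P := @LocallyOfFiniteType) Y.hom g inferInstance
  letI : GrpObj (F.obj A) := Functor.grpObjObj
  haveI : IsCommMonObj (F.obj A) := isCommMonObj_of_isProper_of_geometricallyIntegral (F.obj A)
  refine Groth.Agent.AlgGrpLib.TorusToProper.eq_of_bc g ?_
  rw [← cancel_epi (Functor.LaxMonoidal.μ F X Y)]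
  have h := Groth.Agent.AlgGrpLib.CrossProduct.eq_of_algClosed (Functor.LaxMonoidal.ε F ≫ F.map x₀)
    (Functor.LaxMonoidal.ε F ≫ F.map y₀) (Functor.LaxMonoidal.μ F X Y ≫ F.map f)
  refine h.trans ?_
  show _ = Functor.LaxMonoidal.μ F X Y ≫ F.map _
  have hl1 : F.map (lift (toUnit Y ≫ x₀) (𝟙 Y)) = lift (toUnit (F.obj Y) ≫ Functor.LaxMonoidal.ε F ≫ F.map x₀) (𝟙 (F.obj Y)) ≫ Functor.LaxMonoidal.μ F X Y := by
    rw [← Functor.Monoidal.lift_μ, Functor.map_comp, CategoryTheory.Functor.map_id, ← Functor.Monoidal.toUnit_ε, Category.assoc]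
  have hl2 : F.map (lift (𝟙 X) (toUnit X ≫ y₀)) = lift (𝟙 (F.obj X)) (toUnit (F.obj X) ≫ Functor.LaxMonoidal.ε F ≫ F.map y₀) ≫ Functor.LaxMonoidal.μ F X Y := by
    rw [← Functor.Monoidal.lift_μ, Functor.map_comp, CategoryTheory.Functor.map_id, ← Functor.Monoidal.toUnit_ε, Category.assoc]
  have hl0 : Functor.LaxMonoidal.μ F X Y ≫ F.map (toUnit (X ⊗ Y)) ≫ F.map (lift x₀ y₀) = toUnit (F.obj X ⊗ F.obj Y) ≫ lift (Functor.LaxMonoidal.ε F ≫ F.map x₀) (Functor.LaxMonoidal.ε F ≫ F.map y₀) ≫ Functor.LaxMonoidal.μ F X Y := by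
    rw [← Functor.Monoidal.lift_μ, ← Functor.Monoidal.toUnit_ε, Category.assoc, ← comp_lift_assoc,
      ← Category.assoc, comp_toUnit]
  simp only [Functor.map_mul, Functor.map_inv', MonObj.comp_mul, GrpObj.comp_inv, Functor.map_comp]
  rw [hl1, hl2, reassoc_of% hl0]
  simp only [Functor.Monoidal.μ_fst_assoc, Functor.Monoidal.μ_snd_assoc, Category.assoc]

end Groth.Agent.S14584
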