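import Groth.Statements.S14595
import Groth.Agent.AlgGrpLib.AxesTorus
import Groth.Agent.S14584

set_option backward.isDefEq.respectTransparency.types false

set_option autoImplicit false
universe u
open CategoryTheory MonoidalCategory CartesianMonoidalCategory MonObj GrpObj AlgebraicGeometry CategoryTheory.Limits
open AlgGrp

namespace Groth.Agent.S14595

/-- Let k be a field, X and Y varieties over k (separated, geometrically integral, of finite type) with
rational points x₀, y₀, G a semi-abelian variety (an extension of a proper smooth connected k-group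
scheme by a torus) and f : X × Y → G a k-morphism. Then f(x, y) f(x, y₀)⁻¹ f(x₀, y)⁻¹ f(x₀, y₀) = e
identically, in the group of morphisms X × Y → G. -/
theorem result (k : Type u) [Field k]
    (X Y G : Over (Spec (CommRingCat.of k)))
    [LocallyOfFiniteType X.hom] [QuasiCompact X.hom] [IsSeparated X.hom] [GeometricallyIntegral X.hom]
    [LocallyOfFiniteType Y.hom] [QuasiCompact Y.hom] [IsSeparated Y.hom] [GeometricallyIntegral Y.hom]
    [GrpObj G] [LocallyOfFiniteType G.hom] [QuasiCompact G.hom] (hG : (∃ (T : Over (Spec (CommRingCat.of k))) (_ : GrpObj T) (i : T ⟶ G) (A : Over (Spec (CommRingCat.of k))) (_ : GrpObj A) (q : G ⟶ A),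
        IsMonHom i ∧ IsClosedImmersion i.left ∧ Red.IsTorus T ∧ IsMonHom q ∧ Surjective q.left ∧ Flat q.left ∧
        AlgGrp.IsKernel i q ∧ IsProper A.hom ∧ Smooth A.hom ∧ ConnectedSpace ↥A.left))
    (x₀ : 𝟙_ (Over (Spec (CommRingCat.of k))) ⟶ X) (y₀ : 𝟙_ (Over (Spec (CommRingCat.of k))) ⟶ Y) (f : X ⊗ Y ⟶ G) :
    f * (fst X Y ≫ lift (𝟙 X) (toUnit X ≫ y₀) ≫ f)⁻¹ * (snd X Y ≫ lift (toUnit Y ≫ x₀) (𝟙 Y) ≫ f)⁻¹ *
      (toUnit (X ⊗ Y) ≫ lift x₀ y₀ ≫ f) = 1 := by
  obtain ⟨T, _, i, A, _, q, _, _, hT, _, _, _, hk, _, _, _⟩ := hG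
  haveI : IsCommMonObj G := Groth.Agent.AlgGrpLib.AxesTorus.isCommMonObj_of_extension i q hT hk
  haveI : GeometricallyIntegral A.hom := Groth.Agent.GaGmQuot.geometricallyIntegral_of_connected A
  haveI : IsCommMonObj A := isCommMonObj_of_isProper_of_geometricallyIntegral A
  haveI : Mono i := Over.mono_of_mono_left _
  set Φ := f * (fst X Y ≫ lift (𝟙 X) (toUnit X ≫ y₀) ≫ f)⁻¹ * (snd X Y ≫ lift (toUnit Y ≫ x₀) (𝟙 Y) ≫ f)⁻¹ *
      (toUnit (X ⊗ Y) ≫ lift x₀ y₀ ≫ f) with hΦ
  have hq : Φ ≫ q = 1 := by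
    have h := Groth.Agent.S14584.result k X Y A x₀ y₀ (f ≫ q)
    simp only [hΦ, MonObj.mul_comp, GrpObj.inv_comp, Category.assoc]
    conv_lhs => arg 1; arg 1; arg 1; rw [h]
    simp [mul_comm, mul_left_comm]
  obtain ⟨ψ, hψ, -⟩ := hk.exists_lift Φ (toUnit _) (hq.trans Hom.one_def)
  have hψ1 : ψ = 1 := by
    refine Groth.Agent.AlgGrpLib.AxesTorus.eq_one_of_axes hT x₀ y₀ ψ ?_ ?_ <;>
    · rw [← cancel_mono i, Category.assoc, hψ, MonObj.one_comp]
      simp only [hΦ, MonObj.comp_mul, GrpObj.comp_inv, lift_fst_assoc, lift_snd_assoc, ← Category.assoc, comp_lift,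
        Category.comp_id, comp_toUnit, toUnit_unique (toUnit _ ≫ toUnit _) (toUnit _)]
      simp [mul_comm, mul_left_comm]
  rw [← hψ, hψ1, MonObj.one_comp]

end Groth.Agent.S14595
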