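import Groth.Statements.S9355
import Groth.Agent.FlatMor12.DimRetro

set_option autoImplicit false
universe u
open FibDim

namespace Groth.Agent.S9355

open AlgebraicGeometry CategoryTheory in
/-- For f : X → S locally of finite presentation and n ≥ 0, the open set U_n of points x with dim_x(X_{f
x}) ≤ n is retrocompact in X. -/
theorem result {X S : Scheme.{u}} (f : X ⟶ S) [LocallyOfFinitePresentation f] (n : ℕ) :
    IsRetrocompact {x : ↑X | FlatMor.fibreDimAt f x ≤ n} := by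
  intro W hWc hWo
  have hcover : ∀ x ∈ W, ∃ (V : S.Opens) (U : X.Opens), IsAffineOpen V ∧ IsAffineOpen U ∧ x ∈ U ∧
      U ≤ f ⁻¹ᵁ V ∧ (U : Set X) ⊆ W := fun x hx => by
    obtain ⟨V, hV, hxV, -⟩ := exists_isAffineOpen_mem_and_subset (x := f x) (U := ⊤) (Set.mem_univ _)
    obtain ⟨U, hU, hxU, hUV⟩ := exists_isAffineOpen_mem_and_subset (x := x)
      (U := f ⁻¹ᵁ V ⊓ ⟨W, hWo⟩) ⟨hxV, hx⟩
    exact ⟨V, U, hV, hU, hxU, fun y hy => (hUV hy).1, fun y hy => (hUV hy).2⟩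
  choose V U hV hU hxU hUV hUW using hcover
  obtain ⟨c, hc⟩ := hWc.elim_finite_subcover (fun x : W => (U x.1 x.2 : Set X)) (fun x => (U _ _).2)
    (fun x hx => Set.mem_iUnion.2 ⟨⟨x, hx⟩, hxU x hx⟩)
  have key : {x : X | FlatMor.fibreDimAt f x ≤ (n : WithBot ℕ∞)} ∩ W =
      ⋃ x ∈ c, {x : X | FlatMor.fibreDimAt f x ≤ (n : WithBot ℕ∞)} ∩ (U x.1 x.2 : Set X) := by
    ext y
    simp only [Set.mem_inter_iff, Set.mem_iUnion, exists_prop]
    constructor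
    · rintro ⟨h1, h2⟩
      obtain ⟨x, hx, hy⟩ := Set.mem_iUnion₂.1 (hc h2)
      exact ⟨x, hx, h1, hy⟩
    · rintro ⟨x, -, h1, hy⟩
      exact ⟨h1, hUW _ _ hy⟩
  show IsCompact ({x : X | FlatMor.fibreDimAt f x ≤ (n : WithBot ℕ∞)} ∩ W)
  rw [key]
  exact c.finite_toSet.isCompact_biUnion fun x _ =>
    Groth.Agent.FlatMor12.isCompact_fibreDimAt_le_inter f (hV _ x.2) (hU _ x.2) (hUV _ x.2) n

end Groth.Agent.S9355
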