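import Groth.Statements.S5322
import Groth.Agent.SGA3cLib.GeomConn

set_option autoImplicit false
universe u
open CategoryTheory CategoryTheory.Limits MonoidalCategory CartesianMonoidalCategory MonObj GrpObj AlgebraicGeometry
open SGA3

namespace Groth.Agent.S5322

open CategoryTheory Limits AlgebraicGeometry MonoidalCategory MonObj

theorem range_pt {X : Scheme.{u}} (x : X) : Set.range (X.fromSpecResidueField x).base = {x} :=
  X.range_fromSpecResidueField x

/-- Let G be an S-group scheme and f : S' → S a morphism. Then the subset of G ×_S S' formed by the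
neutral components of its fibres over S' is the inverse image, under the first projection G ×_S S' →
G, of the subset of G formed by the neutral components of the fibres G_s: the formation of the
neutral component commutes with base change. -/
theorem result (S S' : Scheme.{u}) (f : S' ⟶ S) (G : Over S) [GrpObj G] :
    SGA3x.neutralSet (Red.bc f G) = (pullback.fst G.hom f).base ⁻¹' SGA3x.neutralSet G := by
  set h := G.hom with hh
  let η₀ : S ⟶ G.left := η[G].left
  let η' : S' ⟶ pullback h f := η[Red.bc f G].left
  have hη : η₀ ≫ h = 𝟙 S := Over.w η[G]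
  have hη2 : η' ≫ pullback.snd h f = 𝟙 S' := Over.w η[Red.bc f G]
  have hη1 : η' ≫ pullback.fst h f = f ≫ η₀ := by
    have e : η[Red.bc f G] = Functor.LaxMonoidal.ε (Over.pullback f) ≫ (Over.pullback f).map η[G] := rfl
    have e1 : ((Over.pullback f).map η[G]).left ≫ pullback.fst h f =
        pullback.fst (𝟙_ (Over S)).hom f ≫ η[G].left := pullback.lift_fst _ _ _
    let ee : S' ⟶ pullback (𝟙 S) f := (Functor.LaxMonoidal.ε (Over.pullback f)).left
    have e2 : ee ≫ pullback.snd (𝟙 S) f = 𝟙 S' := Over.w (Functor.LaxMonoidal.ε (Over.pullback f))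
    have e3 : ee ≫ pullback.fst (𝟙 S) f = f := by
      calc ee ≫ pullback.fst (𝟙 S) f = ee ≫ pullback.fst (𝟙 S) f ≫ 𝟙 S := by rw [Category.comp_id]
        _ = ee ≫ pullback.snd (𝟙 S) f ≫ f := by rw [pullback.condition]
        _ = f := by rw [reassoc_of% e2]
    calc η' ≫ pullback.fst h f = ee ≫ ((Over.pullback f).map η[G]).left ≫ pullback.fst h f := by
          change η[Red.bc f G].left ≫ _ = _
          rw [e, Over.comp_left, Category.assoc]
      _ = (ee ≫ pullback.fst (𝟙 S) f) ≫ η₀ := by rw [e1, Category.assoc]; rfl
      _ = f ≫ η₀ := by rw [e3]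
  have hN : SGA3x.neutralSet G = ⋃ q : S, connectedComponentIn (h.base ⁻¹' {q}) (η₀.base q) := rfl
  have hN' : SGA3x.neutralSet (Red.bc f G) = ⋃ q : S',
      connectedComponentIn ((pullback.snd h f).base ⁻¹' {q}) (η'.base q) := rfl
  rw [hN, hN']
  apply Set.eq_of_subset_of_subset
  · intro z' hz'
    obtain ⟨q, hq⟩ := Set.mem_iUnion.mp hz'
    refine Set.mem_iUnion.mpr ⟨f.base q, ?_⟩
    have hmaps : Set.MapsTo (pullback.fst h f).base ((pullback.snd h f).base ⁻¹' {q})
        (h.base ⁻¹' {f.base q}) := by
      intro a ha
      change (pullback.fst h f ≫ h).base a = f.base q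
      rw [pullback.condition]
      exact congrArg f.base ha
    have hmem : η'.base q ∈ (pullback.snd h f).base ⁻¹' {q} := by
      change (η' ≫ pullback.snd h f).base q = q
      rw [hη2]; rfl
    have himg := (isPreconnected_connectedComponentIn (x := η'.base q)
      (F := (pullback.snd h f).base ⁻¹' {q})).image _ (pullback.fst h f).continuous.continuousOn
    have hsub : (pullback.fst h f).base '' connectedComponentIn ((pullback.snd h f).base ⁻¹' {q}) (η'.base q)
        ⊆ connectedComponentIn (h.base ⁻¹' {f.base q}) (η₀.base (f.base q)) := by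
      refine himg.subset_connectedComponentIn ⟨_, mem_connectedComponentIn hmem, ?_⟩ ?_
      · change (η' ≫ pullback.fst h f).base q = _
        rw [hη1]; rfl
      · rintro _ ⟨a, ha, rfl⟩
        exact hmaps (connectedComponentIn_subset _ _ ha)
    exact hsub ⟨z', hq, rfl⟩
  · intro z' hz'
    obtain ⟨q, hq⟩ := Set.mem_iUnion.mp hz'
    set z : G.left := (pullback.fst h f).base z' with hz
    set s' : S' := (pullback.snd h f).base z' with hs'
    obtain rfl : q = f.base s' := by
      have h1 : h.base z = q := connectedComponentIn_subset (h.base ⁻¹' {q}) (η₀.base q) hq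
      rw [← h1, hz, hs']
      change (pullback.fst h f ≫ h).base z' = (pullback.snd h f ≫ f).base z'
      rw [pullback.condition]
    refine Set.mem_iUnion.mpr ⟨s', ?_⟩
    set s : S := f.base s' with hsdef
    let hs : h.fiber s ⟶ Spec (CommRingCat.of (S.residueField s)) := h.fiberToSpecResidueField s
    let g : Spec (S'.residueField s') ⟶ Spec (CommRingCat.of (S.residueField s)) :=
      Spec.map (f.residueFieldMap s')
    let x₀ : Spec (CommRingCat.of (S.residueField s)) ⟶ h.fiber s :=
      pullback.lift (S.fromSpecResidueField s ≫ η₀) (𝟙 _)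
        (by rw [Category.assoc, hη, Category.comp_id, Category.id_comp])
    have hx₀ : x₀ ≫ hs = 𝟙 _ := pullback.lift_snd _ _ _
    have hpts : ∀ a, (h.fiberι s).base (x₀.base a) = η₀.base s := by
      intro a
      change (x₀ ≫ pullback.fst h (S.fromSpecResidueField s)).base a = _
      erw [pullback.lift_fst]
      change η₀.base ((S.fromSpecResidueField s).base a) = _
      rw [show (S.fromSpecResidueField s).base a = s from (range_pt s).le ⟨a, rfl⟩]
    obtain ⟨a₀⟩ : Nonempty ↥(Spec (CommRingCat.of (S.residueField s))) := inferInstance
    set e₀ := x₀.base a₀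
    haveI : ConnectedSpace ↥(Spec (S'.residueField s')) :=
      inferInstanceAs (ConnectedSpace (PrimeSpectrum (S'.residueField s')))
    have hpre := Groth.Agent.SGA3cLib.isPreconnected_preimage_connectedComponent
      (S.residueField s) hs x₀ hx₀ e₀ ⟨a₀, rfl⟩ g
    let m : pullback hs g ⟶ pullback h f :=
      pullback.lift (pullback.fst hs g ≫ h.fiberι s) (pullback.snd hs g ≫ S'.fromSpecResidueField s')
        (by
          rw [Category.assoc, Category.assoc, show h.fiberι s ≫ h = hs ≫ S.fromSpecResidueField s from
            pullback.condition, ← Category.assoc, pullback.condition, Category.assoc,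
            Scheme.Hom.SpecMap_residueFieldMap_fromSpecResidueField])
    have hm1 : ∀ w, (pullback.fst h f).base (m.base w) = (h.fiberι s).base ((pullback.fst hs g).base w) := by
      intro w
      change (m ≫ pullback.fst h f).base w = (pullback.fst hs g ≫ h.fiberι s).base w
      rw [pullback.lift_fst]
    have hm2 : ∀ w, (pullback.snd h f).base (m.base w) = s' := by
      intro w
      change (m ≫ pullback.snd h f).base w = s'
      rw [pullback.lift_snd]
      exact (range_pt s').le ⟨(pullback.snd hs g).base w, rfl⟩
    have hlift : ∀ y : ↥(pullback h f), (pullback.snd h f).base y = s' → y ∈ Set.range m.base := by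
      intro y hy
      have hR : y ∈ Set.range (pullback.fst (pullback.snd h f) (S'.fromSpecResidueField s')).base := by
        rw [Scheme.Pullback.range_fst, range_pt]; exact hy
      obtain ⟨b, rfl⟩ := hR
      let R := pullback (pullback.snd h f) (S'.fromSpecResidueField s')
      let r1 : R ⟶ pullback h f := pullback.fst _ _
      let r2 : R ⟶ Spec (S'.residueField s') := pullback.snd _ _
      have hc : (r1 ≫ pullback.fst h f) ≫ h = (r2 ≫ g) ≫ S.fromSpecResidueField s := by
        rw [Category.assoc, Category.assoc, pullback.condition, ← Category.assoc,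
          show r1 ≫ pullback.snd h f = r2 ≫ S'.fromSpecResidueField s' from pullback.condition,
          Category.assoc, Scheme.Hom.SpecMap_residueFieldMap_fromSpecResidueField]
      let l : R ⟶ pullback hs g := pullback.lift (pullback.lift _ _ hc) r2 (pullback.lift_snd _ _ _)
      refine ⟨l.base b, ?_⟩
      change (l ≫ m).base b = r1.base b
      suffices hlm : l ≫ m = r1 by rw [hlm]
      apply pullback.hom_ext
      · rw [Category.assoc, pullback.lift_fst]
        erw [pullback.lift_fst_assoc]
        exact pullback.lift_fst _ _ _
      · rw [Category.assoc, pullback.lift_snd]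
        erw [pullback.lift_snd_assoc]
        exact pullback.condition.symm
    -- the component in the fibre
    set C := connectedComponentIn (h.base ⁻¹' {s}) (η₀.base s) with hC
    have hC0 : ∀ w : h.fiber s, (h.fiberι s).base w ∈ C → w ∈ connectedComponent e₀ := by
      intro w hw
      have hsub : C ⊆ Set.range (h.fiberι s).base := by
        rw [h.range_fiberι]; exact connectedComponentIn_subset _ _
      have hp : _root_.IsPreconnected ((h.fiberι s).base ⁻¹' C) := by
        refine (h.fiberι s).isEmbedding.isInducing.isPreconnected_image.mp ?_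
        rw [Set.image_preimage_eq_inter_range, Set.inter_eq_left.mpr hsub]
        exact isPreconnected_connectedComponentIn
      have he : e₀ ∈ (h.fiberι s).base ⁻¹' C := by
        change (h.fiberι s).base e₀ ∈ C
        rw [hpts]
        refine mem_connectedComponentIn ?_
        change (η₀ ≫ h).base s = s
        rw [hη]; rfl
      exact hp.subset_connectedComponent he hw
    have himg := hpre.image _ m.continuous.continuousOn
    obtain ⟨w, hw⟩ := hlift z' hs'.symm
    have hzmem : z' ∈ m.base '' ((pullback.fst hs g).base ⁻¹' connectedComponent e₀) := by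
      refine ⟨w, hC0 _ ?_, hw⟩
      rw [← hm1, hw]; exact hq
    have hemem : η'.base s' ∈ m.base '' ((pullback.fst hs g).base ⁻¹' connectedComponent e₀) := by
      obtain ⟨w', hw'⟩ := hlift (η'.base s') (by
        change (η' ≫ pullback.snd h f).base s' = s'
        rw [hη2]; rfl)
      refine ⟨w', hC0 _ ?_, hw'⟩
      rw [← hm1, hw']
      change (η' ≫ pullback.fst h f).base s' ∈ C
      rw [hη1]
      refine mem_connectedComponentIn ?_
      change (η₀ ≫ h).base s = s
      rw [hη]; rfl
    refine himg.subset_connectedComponentIn hemem ?_ hzmem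
    rintro _ ⟨w', -, rfl⟩
    exact hm2 w'

end Groth.Agent.S5322
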