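import Groth.Statements.S3039
import Groth.Agent.SGA3cLib.NeutralOrbit

set_option autoImplicit false
universe u
open CategoryTheory MonoidalCategory CartesianMonoidalCategory MonObj GrpObj AlgebraicGeometry TensorProduct
open SGA3

namespace Groth.Agent.S3039

theorem connectedComponent_eq (k : Type u) [Field k] (G X : Over (Spec (CommRingCat.of k))) [GrpObj G]
    [QuasiSeparatedSpace X.left] (a : AlgGrp.Action G X) (hΦ : Surjective (lift a.act (snd G X)).left)
    (x ξ : X.left) (hξ : ξ ∈ genericPoints X.left) (hξx : ξ ⤳ x) : connectedComponent x = closure {ξ} := by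
  refine Set.Subset.antisymm (fun v hv => ?_)
    ((isIrreducible_singleton.closure.isConnected.isPreconnected).subset_connectedComponent
      (specializes_iff_mem_closure.1 hξx))
  obtain ⟨θ, hθ, hθe⟩ := VarietyLib.exists_genericPoints_specializes (η[G].left.base (IsLocalRing.closedPoint k))
  obtain ⟨ξ', hξ', hξ'v⟩ := VarietyLib.exists_genericPoints_specializes v
  suffices h : ξ ⤳ ξ' by
    rw [VarietyLib.eq_of_specializes_genericPoints hξ' h]
    exact specializes_iff_mem_closure.1 hξ'v
  by_contra hcon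
  obtain ⟨O, hO, hξ'O, hξO⟩ : ∃ O, IsOpen O ∧ ξ' ∈ O ∧ ξ ∉ O := by
    rw [specializes_iff_forall_open] at hcon
    push Not at hcon
    exact hcon
  -- an open-closed set around `x` avoiding `v`
  obtain ⟨U, hU, hξU, -⟩ := exists_isAffineOpen_mem_and_subset (U := (⊤ : X.left.Opens)) (x := ξ) trivial
  have hnot : ξ' ⤳ ξ → False := fun h => hξO (VarietyLib.eq_of_specializes_genericPoints hξ h ▸ hξ'O)
  obtain ⟨O', hO', hξO', hξ'O'⟩ : ∃ O', IsOpen O' ∧ ξ ∈ O' ∧ ξ' ∉ O' := by
    by_contra hno
    push Not at hno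
    exact hnot (specializes_iff_forall_open.2 hno)
  obtain ⟨W, hW, hξW, hWO⟩ := exists_isAffineOpen_mem_and_subset (U := (⟨O', hO'⟩ : X.left.Opens)) (x := ξ) hξO'
  have hret : IsRetrocompact (W : Set X.left) := fun {T} hT hTo =>
    QuasiSeparatedSpace.inter_isCompact _ _ W.isOpen hW.isCompact hTo hT
  let E := {v : X.left | ∃ ξ ∈ genericPoints X.left, ξ ⤳ v ∧ ξ ∈ W}
  have hclopen : IsClopen E := by
    refine ⟨?_, SGA3cLib.isOpen_setOf_max_mem a hΦ hθ hθe W⟩
    rw [← closure_subset_iff_isClosed]
    intro v hv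
    have : v ∈ closure (W : Set X.left) := by
      refine closure_minimal ?_ isClosed_closure hv
      rintro v ⟨ξ, -, hξv, hξW⟩
      exact closure_mono (Set.singleton_subset_iff.2 hξW) (specializes_iff_mem_closure.1 hξv)
    obtain ⟨y, hyW, hyv⟩ := SGA3cLib.exists_specializes_of_mem_closure W hret this
    obtain ⟨ζ, hζ, hζy⟩ := VarietyLib.exists_genericPoints_specializes y
    exact ⟨ζ, hζ, hζy.trans hyv, hζy.mem_open W.isOpen hyW⟩
  obtain ⟨ζ, hζ, hζv, hζW⟩ := (hclopen.connectedComponent_subset (x := x) ⟨ξ, hξ, hξx, hξW⟩) hv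
  rw [SGA3cLib.eq_of_specializes_of_homogeneous a hΦ hζ hξ' hζv hξ'v] at hζW
  exact hξ'O' (hWO hζW)

/-- Let G be a group scheme over a field k acting on a quasi-separated k-scheme X in such a way that the
morphism G ×_k X → X ×_k X, (g, x) ↦ (g·x, x) is surjective. Then every connected component of X is
irreducible. -/
theorem result (k : Type u) [Field k] (G X : Over (Spec (CommRingCat.of k))) [GrpObj G]
    [QuasiSeparatedSpace X.left] (a : AlgGrp.Action G X) (hΦ : Surjective (lift a.act (snd G X)).left) (x : X.left) :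
    IsPreirreducible (connectedComponent x) := by
  obtain ⟨ξ, hξ, hξx⟩ := VarietyLib.exists_genericPoints_specializes x
  rw [connectedComponent_eq k G X a hΦ x ξ hξ hξx]
  exact isIrreducible_singleton.closure.isPreirreducible

end Groth.Agent.S3039
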