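import Groth.Statements.S5397
import Groth.Agent.SGA3cLib.TransitiveSep
import Groth.Agent.SGA3cLib.NeutralOrbit
import Groth.Agent.S3039

set_option autoImplicit false
universe u
open CategoryTheory CategoryTheory.Limits MonoidalCategory CartesianMonoidalCategory MonObj GrpObj AlgebraicGeometry
open SGA3

namespace Groth.Agent.S5397

set_option backward.isDefEq.respectTransparency.types false

theorem surjective_bc_fibre {S : Scheme.{u}} {G X : Over S} [GrpObj G] (a : AlgGrp.Action G X)
    (hΦ : Surjective (lift a.act (snd G X)).left) (s : S) :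
    Surjective (lift (a.bc (S.fromSpecResidueField s)).act
      (snd (Red.bc (S.fromSpecResidueField s) G) (Red.bc (S.fromSpecResidueField s) X))).left :=
  SGA3cLib.surjective_bc a hΦ _

theorem fibre_irreducible {S : Scheme.{u}} {G X : Over S} [GrpObj G] (a : AlgGrp.Action G X)
    (hΦ : Surjective (lift a.act (snd G X)).left) (s : S)
    (hqs : QuasiSeparatedSpace ↥(X.hom.base ⁻¹' {s})) (hconn : _root_.IsPreconnected (X.hom.base ⁻¹' {s}))
    {ξ₁ ξ₂ : ↥(X.hom.fiber s)} (h₁ : ξ₁ ∈ genericPoints ↥(X.hom.fiber s))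
    (h₂ : ξ₂ ∈ genericPoints ↥(X.hom.fiber s)) : ξ₁ = ξ₂ := by
  haveI : QuasiSeparatedSpace ↥(Red.bc (S.fromSpecResidueField s) X).left :=
    (X.hom.fiberHomeo s).isOpenEmbedding.quasiSeparatedSpace
  haveI : PreconnectedSpace ↥(X.hom.fiber s) := by
    refine ⟨(X.hom.fiberι s).isEmbedding.isInducing.isPreconnected_image.mp ?_⟩
    rw [Set.image_univ, X.hom.range_fiberι]
    exact hconn
  have h := S3039.connectedComponent_eq (S.residueField s) _ _ (a.bc (S.fromSpecResidueField s))
    (surjective_bc_fibre a hΦ s) ξ₁ ξ₁ h₁ specializes_rfl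
  have hm : ξ₂ ∈ closure {ξ₁} := h.le
    ((isPreconnected_univ (α := ↥(X.hom.fiber s))).subset_connectedComponent (Set.mem_univ ξ₁) (Set.mem_univ ξ₂))
  exact (VarietyLib.eq_of_specializes_genericPoints h₂ (specializes_iff_mem_closure.2 hm))

theorem fibre_max_unique {S : Scheme.{u}} {G X : Over S} [GrpObj G] (a : AlgGrp.Action G X)
    (hΦ : Surjective (lift a.act (snd G X)).left) (s : S)
    (hqs : QuasiSeparatedSpace ↥(X.hom.base ⁻¹' {s})) (hconn : _root_.IsPreconnected (X.hom.base ⁻¹' {s}))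
    (ξ : X.left) (hξ : ∀ y, X.hom.base y = X.hom.base ξ → y ⤳ ξ → y = ξ) (hs : X.hom.base ξ = s)
    (ξ' : ↥(X.hom.fiber s)) (hξ' : ξ' ∈ genericPoints ↥(X.hom.fiber s)) :
    (X.hom.fiberι s).base ξ' = ξ := by
  obtain ⟨wf, rfl⟩ : ξ ∈ Set.range (X.hom.fiberι s).base := by rw [X.hom.range_fiberι]; exact hs
  have hη : wf ∈ genericPoints ↥(X.hom.fiber s) := by
    rw [VarietyLib.mem_genericPoints_iff]
    intro y hy
    exact (X.hom.fiberι s).isEmbedding.injective
      (hξ _ (((X.hom.range_fiberι s).le ⟨y, rfl⟩ : _ = s).trans hs.symm) (hy.map (X.hom.fiberι s).continuous))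
  rw [fibre_irreducible a hΦ s hqs hconn hξ' hη]

theorem exists_point {S : Scheme.{u}} {G X : Over S} [GrpObj G] (a : AlgGrp.Action G X)
    (hΦ : Surjective (lift a.act (snd G X)).left) (s : S) (z' : ↥(X.hom.fiber s))
    (ξ : ↥(X.hom.fiber s)) (hξ : ξ ∈ genericPoints ↥(X.hom.fiber s)) (hξz : ξ ⤳ z') :
    ∃ p : ↥(G ⊗ X).left, (fst G X).left.base p ⤳ η[G].left.base s ∧
      (snd G X).left.base p = (X.hom.fiberι s).base z' ∧ a.act.left.base p = (X.hom.fiberι s).base ξ := by
  let f := S.fromSpecResidueField s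
  letI : GrpObj (Red.bc f G) := Red.grpObj_bc f G
  let a' := a.bc f
  let pt : ↥(Spec (S.residueField s)) := IsLocalRing.closedPoint (S.residueField s)
  obtain ⟨θ, hθ, hθe⟩ := VarietyLib.exists_genericPoints_specializes
    (α := ↥(Red.bc f G).left) (η[Red.bc f G].left.base pt)
  obtain ⟨w, hw1, hw2, hw3⟩ := SGA3cLib.exists_orbit_point (k := S.residueField s) (G := Red.bc f G) (X := Red.bc f X) a' (surjective_bc_fibre a hΦ s) hθ hθe hξ hξz
  let F := Over.pullback f
  let q : (Red.bc f G ⊗ Red.bc f X).left ⟶ (G ⊗ X).left :=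
    (Functor.LaxMonoidal.μ F G X).left ≫ pullback.fst (G ⊗ X).hom f
  have hmap : ∀ {Y Z : Over S} (h : Y ⟶ Z), (F.map h).left ≫ pullback.fst Z.hom f = pullback.fst Y.hom f ≫ h.left :=
    fun h => pullback.lift_fst _ _ _
  have key : ∀ {Z : Over S} (h : G ⊗ X ⟶ Z), q ≫ h.left =
      (Functor.LaxMonoidal.μ F G X ≫ F.map h).left ≫ pullback.fst Z.hom f := fun h =>
    (Category.assoc _ _ _).trans ((congrArg ((Functor.LaxMonoidal.μ F G X).left ≫ ·) (hmap h).symm).trans
      (Category.assoc _ _ _).symm)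
  have e1 : q ≫ (fst G X).left = (fst (Red.bc f G) (Red.bc f X)).left ≫ pullback.fst G.hom f :=
    (key (fst G X)).trans (congrArg (fun t : Red.bc f G ⊗ Red.bc f X ⟶ Red.bc f G => t.left ≫ pullback.fst G.hom f)
      (Functor.Monoidal.μ_fst F G X))
  have e2 : q ≫ (snd G X).left = (snd (Red.bc f G) (Red.bc f X)).left ≫ pullback.fst X.hom f :=
    (key (snd G X)).trans (congrArg (fun t : Red.bc f G ⊗ Red.bc f X ⟶ Red.bc f X => t.left ≫ pullback.fst X.hom f)
      (Functor.Monoidal.μ_snd F G X))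
  have e3 : q ≫ a.act.left = a'.act.left ≫ pullback.fst X.hom f := key a.act
  refine ⟨q.base w, ?_, ?_, ?_⟩
  · have h1 : (fst G X).left.base (q.base w) = (pullback.fst G.hom f).base θ := by
      change (q ≫ (fst G X).left).base w = _
      rw [e1, ← hw1]
      rfl
    rw [h1]
    have h2 := hθe.map (pullback.fst G.hom f).continuous
    have h3 : (pullback.fst G.hom f).base (η[Red.bc f G].left.base pt) = η[G].left.base s := by
      have e' : η[Red.bc f G].left ≫ pullback.fst G.hom f =
          ((Functor.LaxMonoidal.ε F).left ≫ pullback.fst (𝟙_ (Over S)).hom f) ≫ η[G].left :=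
        (Category.assoc _ _ _).trans ((congrArg ((Functor.LaxMonoidal.ε F).left ≫ ·) (hmap η[G])).trans
          (Category.assoc _ _ _).symm)
      have h4 : (pullback.fst G.hom f).base (η[Red.bc f G].left.base pt) =
          η[G].left.base (((Functor.LaxMonoidal.ε F).left ≫ pullback.fst (𝟙_ (Over S)).hom f).base pt) := by
        change (η[Red.bc f G].left ≫ pullback.fst G.hom f).base pt = _
        rw [e']; rfl
      rw [h4]
      congr 1
      have h5 : G.hom.base ((pullback.fst G.hom f).base (η[Red.bc f G].left.base pt)) = s := by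
        change (pullback.fst G.hom f ≫ G.hom).base _ = s
        rw [pullback.condition]
        exact (S.range_fromSpecResidueField s).le ⟨_, rfl⟩
      rw [h4] at h5
      exact (congrArg (fun t : S ⟶ S => t.base (((Functor.LaxMonoidal.ε F).left ≫ pullback.fst (𝟙_ (Over S)).hom f).base pt))
        (Over.w η[G])).symm.trans h5
    rwa [h3] at h2
  · change (q ≫ (snd G X).left).base w = _
    rw [e2, ← hw2]
    rfl
  · change (q ≫ a.act.left).base w = _
    rw [e3, ← hw3]
    rfl

theorem compact_preimage {S : Scheme.{u}} {G X : Over S} [GrpObj G] (a : AlgGrp.Action G X)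
    (hΦ : Surjective (lift a.act (snd G X)).left)
    (hqs : ∀ s : S, QuasiSeparatedSpace ↥(X.hom.base ⁻¹' {s}))
    (hconn : ∀ s : S, _root_.IsPreconnected (X.hom.base ⁻¹' {s}))
    (V : X.left.Opens) (hV : QuasiCompact (V.ι ≫ X.hom))
    (hmeet : ∀ s : S, (X.hom.base ⁻¹' {s}).Nonempty → ((V : Set X.left) ∩ X.hom.base ⁻¹' {s}).Nonempty)
    (B : S.Opens) (hB : IsCompact (B : Set S)) : IsCompact ((X.hom ⁻¹ᵁ B : X.left.Opens) : Set X.left) := by
  obtain ⟨W, hW, hWB, hBW⟩ : ∃ W : G.left.Opens, IsCompact (W : Set G.left) ∧ W ≤ G.hom ⁻¹ᵁ B ∧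
      η[G].left.base '' (B : Set S) ⊆ W := by
    obtain ⟨t, ht⟩ := (hB.image η[G].left.continuous).elim_finite_subcover
      (fun U : {U : G.left.Opens // IsAffineOpen U ∧ U ≤ G.hom ⁻¹ᵁ B} => (U.1 : Set G.left)) (fun U => U.1.isOpen) (by
        rintro _ ⟨b, hb, rfl⟩
        have hb' : η[G].left.base b ∈ G.hom ⁻¹ᵁ B := by
          change (η[G].left ≫ G.hom).base b ∈ B
          rw [Over.w η[G]]; exact hb
        obtain ⟨U, hU, hxU, hUB⟩ := exists_isAffineOpen_mem_and_subset hb'
        exact Set.mem_iUnion.2 ⟨⟨U, hU, hUB⟩, hxU⟩)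
    refine ⟨⨆ U ∈ t, U.1, ?_, iSup₂_le fun U _ => U.2.2, ?_⟩
    · simp only [TopologicalSpace.Opens.coe_iSup]
      exact t.finite_toSet.isCompact_biUnion fun U _ => U.2.1.isCompact
    · intro x hx
      obtain ⟨U, hU, hxU⟩ := Set.mem_iUnion₂.1 (ht hx)
      exact TopologicalSpace.Opens.mem_iSup.2 ⟨U, TopologicalSpace.Opens.mem_iSup.2 ⟨hU, hxU⟩⟩
  haveI : CompactSpace ↥(W : Scheme.{u}) := isCompact_iff_compactSpace.mp hW
  haveI : QuasiCompact (pullback.fst (W.ι ≫ G.hom) (V.ι ≫ X.hom)) :=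
    MorphismProperty.pullback_fst (P := @QuasiCompact) _ _ hV
  haveI : CompactSpace ↥(pullback (W.ι ≫ G.hom) (V.ι ≫ X.hom)) :=
    QuasiCompact.compactSpace_of_compactSpace (pullback.fst (W.ι ≫ G.hom) (V.ι ≫ X.hom))
  let m := pullback.map (W.ι ≫ G.hom) (V.ι ≫ X.hom) G.hom X.hom W.ι V.ι (𝟙 _) (by simp) (by simp)
  let m' : G ⊗ X ⟶ X := SGA3cLib.smulPt a (fst G X)⁻¹ (snd G X)
  let Ω := (fst G X).left.base ⁻¹' (W : Set G.left) ∩ (snd G X).left.base ⁻¹' (V : Set X.left)
  have hΩ : IsCompact Ω := by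
    have : Ω = Set.range m.base := by
      rw [Scheme.Pullback.range_map]
      simp only [Scheme.Opens.range_ι]
      rfl
    rw [this]; exact isCompact_range m.continuous
  convert hΩ.image m'.left.continuous
  ext z
  constructor
  · intro hz
    have hzB : X.hom.base z ∈ B := hz
    obtain ⟨z', hz'⟩ : z ∈ Set.range (X.hom.fiberι (X.hom.base z)).base := by
      rw [X.hom.range_fiberι]; rfl
    obtain ⟨ξ, hξ, hξz⟩ := VarietyLib.exists_genericPoints_specializes z'
    obtain ⟨p, hp1, hp2, hp3⟩ := exists_point a hΦ (X.hom.base z) z' ξ hξ hξz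
    obtain ⟨y, hyV, hys⟩ := hmeet (X.hom.base z) ⟨z, rfl⟩
    obtain ⟨y', rfl⟩ : y ∈ Set.range (X.hom.fiberι (X.hom.base z)).base := by
      rw [X.hom.range_fiberι]; exact hys
    obtain ⟨ξy, hξy, hξyy⟩ := VarietyLib.exists_genericPoints_specializes y'
    have hV' := (hξyy.map (X.hom.fiberι (X.hom.base z)).continuous).mem_open V.isOpen hyV
    rw [fibre_irreducible a hΦ _ (hqs _) (hconn _) hξy hξ, ← hp3] at hV'
    let ψ : G ⊗ X ⟶ G ⊗ X := lift (fst G X) a.act
    have h : a.act = SGA3cLib.smulPt a (fst G X) (snd G X) := by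
      rw [SGA3cLib.smulPt, lift_fst_snd, Category.id_comp]
    refine ⟨ψ.left.base p, ⟨?_, ?_⟩, ?_⟩
    · change (ψ ≫ fst G X).left.base p ∈ W
      rw [lift_fst]
      exact hp1.mem_open W.isOpen (hBW ⟨_, hzB, rfl⟩)
    · change (ψ ≫ snd G X).left.base p ∈ V
      rw [lift_snd]
      exact hV'
    · change (ψ ≫ m').left.base p = z
      have : ψ ≫ m' = snd G X := by
        simp only [m', SGA3cLib.comp_smulPt, GrpObj.comp_inv, ψ, lift_fst, lift_snd]
        rw [h, SGA3cLib.inv_smulPt]
      rw [this, hp2, hz']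
  · rintro ⟨p, ⟨hpW, -⟩, rfl⟩
    change (m'.left ≫ X.hom).base p ∈ B
    have e : m'.left ≫ X.hom = (fst G X).left ≫ G.hom := (Over.w m').trans (Over.w (fst G X)).symm
    rw [e]
    exact hWB hpW

/-- Let G be an S-group scheme locally of finite presentation over S and universally open over S on some
open containing the unit section, acting on an S-scheme X so that G ×_S X → X ×_S X, (g, x) ↦ (gx,
x), is surjective, and suppose every fibre X_s is a quasi-separated and connected space. Then X is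
separated over S; and if there is an open subscheme V of X, quasi-compact over S, meeting every
nonempty fibre X_s, then X is quasi-compact over S. (The published statement concludes that X is
quasi-compact over S without the open V; for a local scheme S whose punctured spectrum is not
quasi-compact, the trivial group acting on the disjoint union of the closed point and the punctured
spectrum satisfies every hypothesis and is not quasi-compact over S, so the open V is required
here.) -/
theorem result (S : Scheme.{u}) (G X : Over S) [GrpObj G]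
    [LocallyOfFinitePresentation G.hom]
    (hGo : ∃ W : G.left.Opens, (∀ p : ↥(𝟙_ (Over S)).left, η[G].left.base p ∈ W) ∧ UniversallyOpen (W.ι ≫ G.hom))
    (a : AlgGrp.Action G X) (hΦ : Surjective (lift a.act (snd G X)).left)
    (hqs : ∀ s : S, QuasiSeparatedSpace ↥(X.hom.base ⁻¹' {s}))
    (hconn : ∀ s : S, _root_.IsPreconnected (X.hom.base ⁻¹' {s})) :
    IsSeparated X.hom ∧
    ((∃ V : X.left.Opens, QuasiCompact (V.ι ≫ X.hom) ∧
        ∀ s : S, (X.hom.base ⁻¹' {s}).Nonempty → ((V : Set X.left) ∩ X.hom.base ⁻¹' {s}).Nonempty) →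
      QuasiCompact X.hom) := by
  refine ⟨SGA3cLib.isSeparated_of_transitive a inferInstance hGo hΦ fun s => ?_, fun ⟨V, hV, hmeet⟩ => ?_⟩
  · by_cases hne : Nonempty ↥(X.hom.fiber s)
    · obtain ⟨ξ', hξ', -⟩ := VarietyLib.exists_genericPoints_specializes hne.some
      obtain ⟨U, hU, hξU, -⟩ := exists_isAffineOpen_mem_and_subset (U := (⊤ : X.left.Opens))
        (x := (X.hom.fiberι s).base ξ') trivial
      refine ⟨U, ?_, fun ξ h1 h2 => ?_⟩
      · haveI : IsAffine (U : Scheme.{u}) := hU
        exact IsSeparated.of_comp (U.ι ≫ X.hom) (Limits.terminal.from S)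
      · rw [← fibre_max_unique a hΦ s (hqs s) (hconn s) ξ h1 h2 ξ' hξ']
        exact hξU
    · refine ⟨⊥, ?_, fun ξ _ h2 => absurd ?_ hne⟩
      · haveI : IsAffine ((⊥ : X.left.Opens) : Scheme.{u}) := isAffineOpen_bot X.left
        exact IsSeparated.of_comp ((⊥ : X.left.Opens).ι ≫ X.hom) (Limits.terminal.from S)
      · obtain ⟨w, -⟩ : ξ ∈ Set.range (X.hom.fiberι s).base := by rw [X.hom.range_fiberι]; exact h2
        exact ⟨w⟩
  · rw [quasiCompact_iff_forall_isAffineOpen]
    exact fun B hB => compact_preimage a hΦ hqs hconn V hV hmeet B hB.isCompact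

end Groth.Agent.S5397
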