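import Groth.Statements.S5323
import Groth.Agent.SGA3cLib.Components
import Groth.Agent.S5397

set_option autoImplicit false
universe u
open CategoryTheory CategoryTheory.Limits MonoidalCategory CartesianMonoidalCategory MonObj GrpObj AlgebraicGeometry
open SGA3

namespace Groth.Agent.S5323

set_option backward.isDefEq.respectTransparency.types false

/-- Let S be a quasi-compact quasi-separated scheme and G an S-group scheme whose fibres G_s are locally
of finite type over κ(s). Then there is a quasi-compact open subset of G containing the union of the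
neutral components of the fibres G_s. -/
theorem result (S : Scheme.{u}) [CompactSpace S] [QuasiSeparatedSpace S]
    (G : Over S) [GrpObj G] (hG : ∀ s : S, LocallyOfFiniteType (G.hom.fiberToSpecResidueField s)) :
    ∃ U : G.left.Opens, IsCompact (U : Set G.left) ∧ SGA3x.neutralSet G ⊆ U := by
  let a := SGA3cLib.regAction G
  have hΦ := SGA3cLib.surjective_regAction G
  obtain ⟨W, hW, heW⟩ : ∃ W : G.left.Opens, IsCompact (W : Set G.left) ∧
      ∀ s : S, η[G].left.base s ∈ W := by
    obtain ⟨t, ht⟩ := ((isCompact_univ (X := ↥S)).image η[G].left.continuous).elim_finite_subcover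
      (fun U : {U : G.left.Opens // IsAffineOpen U} => (U.1 : Set G.left)) (fun U => U.1.isOpen) (by
        rintro x -
        obtain ⟨U, hU, hxU, -⟩ := exists_isAffineOpen_mem_and_subset (U := ⊤) (x := x) trivial
        exact Set.mem_iUnion.2 ⟨⟨U, hU⟩, hxU⟩)
    refine ⟨⨆ U ∈ t, U.1, ?_, fun s => ?_⟩
    · simp only [TopologicalSpace.Opens.coe_iSup]
      exact t.finite_toSet.isCompact_biUnion fun U _ => U.2.isCompact
    · obtain ⟨U, hU, hxU⟩ := Set.mem_iUnion₂.1 (ht ⟨s, trivial, rfl⟩)
      exact TopologicalSpace.Opens.mem_iSup.2 ⟨U, TopologicalSpace.Opens.mem_iSup.2 ⟨hU, hxU⟩⟩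
  haveI : CompactSpace ↥(W : Scheme.{u}) := isCompact_iff_compactSpace.mp hW
  have hWq : QuasiCompact (W.ι ≫ G.hom) := inferInstance
  haveI : QuasiCompact (pullback.fst (W.ι ≫ G.hom) (W.ι ≫ G.hom)) :=
    MorphismProperty.pullback_fst (P := @QuasiCompact) _ _ hWq
  haveI : CompactSpace ↥(pullback (W.ι ≫ G.hom) (W.ι ≫ G.hom)) :=
    QuasiCompact.compactSpace_of_compactSpace (pullback.fst (W.ι ≫ G.hom) (W.ι ≫ G.hom))
  let m := pullback.map (W.ι ≫ G.hom) (W.ι ≫ G.hom) G.hom G.hom W.ι W.ι (𝟙 _) (by simp) (by simp)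
  let Ω := (fst G G).left.base ⁻¹' (W : Set G.left) ∩ (snd G G).left.base ⁻¹' (W : Set G.left)
  have hΩ : IsCompact Ω := by
    have : Ω = Set.range m.base := by
      rw [Scheme.Pullback.range_map]
      simp only [Scheme.Opens.range_ι]
      rfl
    rw [this]; exact isCompact_range m.continuous
  let m' : G ⊗ G ⟶ G := SGA3cLib.smulPt a (fst G G)⁻¹ (snd G G)
  have hsub : SGA3x.neutralSet G ⊆ m'.left.base '' Ω := by
    intro z hz
    obtain ⟨s, hz⟩ := Set.mem_iUnion.1 hz
    have hes : η[G].left.base s ∈ G.hom.base ⁻¹' {(𝟙_ (Over S)).hom.base s} := by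
      change (η[G].left ≫ G.hom).base s = _
      rw [Over.w η[G]]
    rw [connectedComponentIn_eq_image hes] at hz
    obtain ⟨zF, hzF, rfl⟩ := hz
    let h := G.hom.fiberHomeo s
    have hcont := h.symm.continuous.image_connectedComponent_subset _ ⟨zF, hzF, rfl⟩
    obtain ⟨ξ, hξ, hξe⟩ := VarietyLib.exists_genericPoints_specializes (h.symm ⟨η[G].left.base s, hes⟩)
    haveI : LocallyOfFiniteType (Red.bc (S.fromSpecResidueField s) G).hom := hG s
    haveI : IsLocallyNoetherian (Red.bc (S.fromSpecResidueField s) G).left :=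
      LocallyOfFiniteType.isLocallyNoetherian (Red.bc (S.fromSpecResidueField s) G).hom
    have hm : h.symm zF ∈ closure {ξ} :=
      (S3039.connectedComponent_eq (S.residueField s) _ _ (a.bc (S.fromSpecResidueField s))
        (S5397.surjective_bc_fibre a hΦ s) _ ξ hξ hξe).le hcont
    obtain ⟨p, hp1, hp2, hp3⟩ := S5397.exists_point a hΦ s (h.symm zF) ξ hξ (specializes_iff_mem_closure.2 hm)
    let ψ : G ⊗ G ⟶ G ⊗ G := lift (fst G G) a.act
    have h' : a.act = SGA3cLib.smulPt a (fst G G) (snd G G) := by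
      rw [SGA3cLib.smulPt, lift_fst_snd, Category.id_comp]
    have hι : ∀ q : ↥(G.hom.base ⁻¹' {s}), (G.hom.fiberι s).base (h.symm q) = q.1 := fun q => by
      exact G.hom.fiberι_fiberHomeo_symm s q
    refine ⟨ψ.left.base p, ⟨?_, ?_⟩, ?_⟩
    · change (ψ ≫ fst G G).left.base p ∈ W
      rw [lift_fst]
      exact hp1.mem_open W.isOpen (heW s)
    · change (ψ ≫ snd G G).left.base p ∈ W
      rw [lift_snd, hp3]
      have := hξe.map (G.hom.fiberι s).continuous
      rw [hι] at this
      exact this.mem_open W.isOpen (heW s)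
    · change (ψ ≫ m').left.base p = zF.1
      have : ψ ≫ m' = snd G G := by
        simp only [m', SGA3cLib.comp_smulPt, GrpObj.comp_inv, ψ, lift_fst, lift_snd]
        rw [h', SGA3cLib.inv_smulPt]
      rw [this, hp2, hι]
  obtain ⟨t, ht⟩ := (hΩ.image m'.left.continuous).elim_finite_subcover
    (fun U : {U : G.left.Opens // IsAffineOpen U} => (U.1 : Set G.left)) (fun U => U.1.isOpen) (by
      rintro x -
      obtain ⟨U, hU, hxU, -⟩ := exists_isAffineOpen_mem_and_subset (U := ⊤) (x := x) trivial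
      exact Set.mem_iUnion.2 ⟨⟨U, hU⟩, hxU⟩)
  refine ⟨⨆ U ∈ t, U.1, ?_, ?_⟩
  · simp only [TopologicalSpace.Opens.coe_iSup]
    exact t.finite_toSet.isCompact_biUnion fun U _ => U.2.isCompact
  · intro z hz
    obtain ⟨U, hU, hxU⟩ := Set.mem_iUnion₂.1 (ht (hsub hz))
    exact TopologicalSpace.Opens.mem_iSup.2 ⟨U, TopologicalSpace.Opens.mem_iSup.2 ⟨hU, hxU⟩⟩

end Groth.Agent.S5323
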