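import Groth.Statements.S0215
import Groth.Agent.UnitsFG.Algebra

set_option autoImplicit false
universe u
open CategoryTheory CategoryTheory.Limits AlgebraicGeometry TopologicalSpace
open Curves

namespace Groth.Agent.S0215

/-- For a connected reduced scheme locally of finite type over a field k with finitely many irreducible
components, in which every global function integral over k is a constant, the group of invertible
global functions modulo nonzero constants is finitely generated. -/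
theorem result (k : Type u) [Field k] (X : Scheme.{u}) (f : X ⟶ Spec (CommRingCat.of k))
    [LocallyOfFiniteType f] [IsReduced X] [ConnectedSpace X] (hirr : (irreducibleComponents (X : Type u)).Finite)
    (hint : ∀ x : Γ(X, ⊤), (f.appTop.hom.comp (Scheme.ΓSpecIso (CommRingCat.of k)).inv.hom).IsIntegralElem x →
      x ∈ Set.range (f.appTop.hom.comp (Scheme.ΓSpecIso (CommRingCat.of k)).inv.hom)) :
    Group.FG ((Γ(X, ⊤))ˣ ⧸ (Units.map ((f.appTop.hom.comp (Scheme.ΓSpecIso (CommRingCat.of k)).inv.hom : k →+* Γ(X, ⊤)) : k →* Γ(X, ⊤))).range) := by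
  classical
  set φ : k →+* Γ(X, ⊤) := f.appTop.hom.comp (Scheme.ΓSpecIso (CommRingCat.of k)).inv.hom with hφ
  have := hirr.to_subtype
  have key : ∀ Z : irreducibleComponents (X : Type u), ∃ (U : X.Opens) (ι : Type) (_ : Finite ι)
      (Φ : (Γ(X, ⊤))ˣ →* (ι → Multiplicative ℤ)), ((U : Set X)).Nonempty ∧ (U : Set X) ⊆ (Z : Set X) ∧
        ∀ u, Φ u = 1 → ∃ P : Polynomial k, P.Monic ∧
          (X.presheaf.map (homOfLE (le_top : U ≤ ⊤)).op).hom (P.eval₂ φ (u : Γ(X, ⊤))) = 0 := by
    intro Z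
    set T : Set X := ⋃₀ (irreducibleComponents (X : Type u) \ {(Z : Set X)}) with hT
    have hTc : IsClosed T := by
      rw [hT, Set.sUnion_eq_biUnion]
      exact (hirr.sdiff (t := {(Z : Set X)})).isClosed_biUnion fun s hs => isClosed_of_mem_irreducibleComponents s hs.1
    have hWZ : Tᶜ ⊆ (Z : Set X) := fun x hx => by
      by_contra hxZ
      refine hx ⟨irreducibleComponent x, ⟨irreducibleComponent_mem_irreducibleComponents x, ?_⟩, mem_irreducibleComponent⟩
      intro h
      exact hxZ (h ▸ mem_irreducibleComponent)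
    have hWne : Tᶜ.Nonempty := by
      rw [Set.nonempty_compl]
      intro h
      have hsub : (Z : Set X) ⊆ T := h ▸ Set.subset_univ _
      obtain ⟨s, hs, hZs⟩ : ∃ s ∈ hirr.toFinset.erase (Z : Set X), (Z : Set X) ⊆ s := by
        refine isIrreducible_iff_sUnion_isClosed.mp Z.2.1 _ (fun s hs => ?_) ?_
        · exact isClosed_of_mem_irreducibleComponents s (hirr.mem_toFinset.mp (Finset.mem_of_mem_erase hs))
        · convert hsub using 2
          ext s
          simp [and_comm]
      obtain ⟨hne, hs⟩ := Finset.mem_erase.mp hs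
      have hsC := hirr.mem_toFinset.mp hs
      exact hne (le_antisymm (Z.2.2 hsC.1 hZs) hZs)
    obtain ⟨x, hx⟩ := hWne
    obtain ⟨U, hU, hxU, hUW⟩ := exists_isAffineOpen_mem_and_subset (U := ⟨Tᶜ, hTc.isOpen_compl⟩) (x := x) hx
    have hUZ : (U : Set X) ⊆ (Z : Set X) := fun y hy => hWZ (hUW hy)
    have hirrU : IsIrreducible (U : Set X) :=
      ⟨⟨x, hxU⟩, Z.2.1.isPreirreducible.open_subset U.isOpen hUZ⟩
    have : IrreducibleSpace (U : Scheme.{u}) := Subtype.irreducibleSpace hirrU
    have : IsIntegral (U : Scheme.{u}) := isIntegral_of_irreducibleSpace_of_isReduced _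
    have : IsDomain Γ(X, U) :=
      MulEquiv.isDomain Γ((U : Scheme.{u}), ⊤) U.topIso.commRingCatIsoToRingEquiv.symm.toMulEquiv
    let res : Γ(X, ⊤) →+* Γ(X, U) := (X.presheaf.map (homOfLE (le_top : U ≤ ⊤)).op).hom
    let := (res.comp φ).toAlgebra
    have : Algebra.FiniteType k Γ(X, U) := by
      have h1 : (f.appLE ⊤ U le_top).hom.FiniteType := f.finiteType_appLE (isAffineOpen_top _) hU _
      have h2 := h1.comp (RingHom.FiniteType.of_surjective _
        (Scheme.ΓSpecIso (CommRingCat.of k)).commRingCatIsoToRingEquiv.symm.surjective)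
      exact h2
    obtain ⟨ι, hι, Φ, hΦ⟩ := Groth.Agent.UnitsFG.exists_hom k Γ(X, U)
    refine ⟨U, ι, hι, Φ.comp (Units.map res.toMonoidHom), ⟨x, hxU⟩, hUZ, fun u hu => ?_⟩
    obtain ⟨P, hP, hP0⟩ := hΦ _ hu
    refine ⟨P, hP, ?_⟩
    show res (P.eval₂ φ (u : Γ(X, ⊤))) = 0
    rw [Polynomial.hom_eval₂]
    exact hP0
  choose U ι hι Φ hne hUZ hΦ using key
  let Ψ : (Γ(X, ⊤))ˣ →* ((Σ Z, ι Z) → Multiplicative ℤ) :=
    Pi.monoidHom fun p => (Pi.evalMonoidHom (fun _ : ι p.1 => Multiplicative ℤ) p.2).comp (Φ p.1)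
  set N := (Units.map (φ : k →* Γ(X, ⊤))).range
  have hker : Ψ.ker ≤ N := by
    intro u hu
    have hu' : ∀ Z, Φ Z u = 1 := fun Z => funext fun i => congr_fun (MonoidHom.mem_ker.mp hu) ⟨Z, i⟩
    choose P hPm hP using fun Z => hΦ Z u (hu' Z)
    have := Fintype.ofFinite (irreducibleComponents (X : Type u))
    have hint' : φ.IsIntegralElem (u : Γ(X, ⊤)) := by
      refine ⟨∏ Z, P Z, Polynomial.monic_prod_of_monic _ _ fun Z _ => hPm Z, ?_⟩
      set s := (∏ Z, P Z).eval₂ φ (u : Γ(X, ⊤))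
      have hs : ∀ Z, (X.presheaf.map (homOfLE (le_top : U Z ≤ ⊤)).op).hom s = 0 := fun Z => by
        obtain ⟨R, hR⟩ : P Z ∣ ∏ Z, P Z := Finset.dvd_prod_of_mem P (Finset.mem_univ Z)
        show (X.presheaf.map (homOfLE (le_top : U Z ≤ ⊤)).op).hom ((∏ Z, P Z).eval₂ φ (u : Γ(X, ⊤))) = 0
        rw [hR, Polynomial.eval₂_mul, map_mul, hP, zero_mul]
      refine eq_zero_of_basicOpen_eq_bot s (eq_bot_iff.mpr fun x hx => ?_)
      let Z : irreducibleComponents (X : Type u) := ⟨_, irreducibleComponent_mem_irreducibleComponents x⟩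
      obtain ⟨y, -, hy1, hy2⟩ := Z.2.1.isPreirreducible _ _ (X.basicOpen s).isOpen (U Z).isOpen
        ⟨x, mem_irreducibleComponent, hx⟩ (let ⟨y, hy⟩ := hne Z; ⟨y, hUZ Z hy, hy⟩)
      have h0 := Scheme.basicOpen_res X s (homOfLE (le_top : U Z ≤ ⊤)).op
      rw [show (X.presheaf.map (homOfLE (le_top : U Z ≤ ⊤)).op) s = 0 from hs Z, Scheme.basicOpen_zero] at h0
      exact (h0.symm.le ⟨hy2, hy1⟩).elim
    obtain ⟨c, hc⟩ := hint _ hint'
    have : Nontrivial Γ(X, ⊤) := by
      obtain ⟨x⟩ := (inferInstance : ConnectedSpace X).toNonempty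
      exact (X.presheaf.germ ⊤ x trivial).hom.domain_nontrivial
    have hc0 : c ≠ 0 := fun h => u.ne_zero (by rw [← hc, h]; exact map_zero _)
    exact ⟨Units.mk0 c hc0, Units.ext hc⟩
  have : Finite (Σ Z, ι Z) := Finite.instSigma
  have hfgR : Group.FG Ψ.range := by
    let e : Additive ((Σ Z, ι Z) → Multiplicative ℤ) ≃+ ((Σ Z, ι Z) → ℤ) :=
      { toFun := fun a i => (a.toMul i).toAdd
        invFun := fun a => Additive.ofMul fun i => Multiplicative.ofAdd (a i)
        left_inv := fun _ => rfl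
        right_inv := fun _ => rfl
        map_add' := fun _ _ => rfl }
    have : IsNoetherian ℤ (Additive ((Σ Z, ι Z) → Multiplicative ℤ)) :=
      isNoetherian_of_linearEquiv e.toIntLinearEquiv.symm
    rw [Group.fg_iff_subgroup_fg, Subgroup.fg_iff_add_fg]
    exact (Submodule.fg_iff_addSubgroup_fg (AddSubgroup.toIntSubmodule Ψ.range.toAddSubgroup)).mp (IsNoetherian.noetherian _)
  have : Group.FG ((Γ(X, ⊤))ˣ ⧸ Ψ.ker) :=
    Group.fg_of_surjective (f := (QuotientGroup.quotientKerEquivRange Ψ).symm.toMonoidHom)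
      (QuotientGroup.quotientKerEquivRange Ψ).symm.surjective
  exact Group.fg_of_surjective (f := QuotientGroup.map Ψ.ker N (MonoidHom.id _) hker) (fun q => by
    induction q using QuotientGroup.induction_on with
    | H u => exact ⟨QuotientGroup.mk u, rfl⟩)

end Groth.Agent.S0215
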