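import Groth.Statements.S16113
import Groth.Agent.S0215
import Mathlib.LinearAlgebra.FreeModule.PID
import Mathlib.FieldTheory.IsAlgClosed.Basic
import Mathlib.RingTheory.IntegralClosure.IntegralRestrict

set_option autoImplicit false
universe u
open CategoryTheory MonoidalCategory CartesianMonoidalCategory MonObj GrpObj AlgebraicGeometry CategoryTheory.Limits
open AlgGrp

namespace Groth.Agent.S16113

/-- Over an algebraically closed field k, let X be an irreducible variety (an integral separated
k-scheme of finite type) and R = Γ(X, O_X). Then the quotient of the unit group R^× by the subgroup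
k^× of nonzero constants is a free abelian group of finite rank: for some n there is a surjective
group homomorphism from R^× onto ℤⁿ (written multiplicatively) whose kernel is exactly the image of
k^× under the structure map k → R. -/
theorem result (k : Type u) [Field k] [IsAlgClosed k]
    (X : Over (Spec (CommRingCat.of k))) [IsIntegral X.left] [IsSeparated X.hom] [LocallyOfFiniteType X.hom] [QuasiCompact X.hom] :
    ∃ (n : ℕ) (v : (Γ(X.left, ⊤))ˣ →* Multiplicative (Fin n → ℤ)), Function.Surjective v ∧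
      v.ker = (Units.map (((Scheme.ΓSpecIso (CommRingCat.of k)).inv ≫ X.hom.appTop).hom : k →* Γ(X.left, ⊤))).range := by
  classical
  haveI : Nonempty X.left := inferInstance
  generalize hφ : ((Scheme.ΓSpecIso (CommRingCat.of k)).inv ≫ X.hom.appTop).hom = φ
  have hφ' : X.hom.appTop.hom.comp (Scheme.ΓSpecIso (CommRingCat.of k)).inv.hom = φ := by
    rw [← hφ, CommRingCat.hom_comp]
  haveI : IsDomain Γ(X.left, ⊤) := inferInstance
  letI : Algebra k Γ(X.left, ⊤) := φ.toAlgebra
  have hint : ∀ x : Γ(X.left, ⊤), φ.IsIntegralElem x → x ∈ Set.range φ := by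
    intro x hx
    have hx' : _root_.IsIntegral k x := hx
    obtain ⟨c, hc⟩ := (IsAlgClosed.algebraMap_bijective_of_isIntegral (k := k)
      (K := ↥(integralClosure k Γ(X.left, ⊤)))).2 ⟨x, hx'⟩
    exact ⟨c, congrArg Subtype.val hc⟩
  have hirr : (irreducibleComponents (X.left : Type u)).Finite := by
    rw [irreducibleComponents_eq_singleton]; exact Set.finite_singleton _
  have hfg := Groth.Agent.S0215.result k X.left X.hom hirr (by rw [hφ']; exact hint)
  rw [hφ'] at hfg
  generalize hH : (Units.map (φ : k →* Γ(X.left, ⊤))).range = H at hfg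
  have htf : ∀ (m : ℕ), 0 < m → ∀ y : (Γ(X.left, ⊤))ˣ, y ^ m ∈ H → y ∈ H := by
    intro m hm y hy
    rw [← hH] at hy ⊢
    obtain ⟨c, hc⟩ := hy
    have hi : φ.IsIntegralElem (y : Γ(X.left, ⊤)) := by
      refine ⟨Polynomial.X ^ m - Polynomial.C (c : k), Polynomial.monic_X_pow_sub_C _ hm.ne', ?_⟩
      have := congrArg (Units.val) hc
      simp only [Units.coe_map, Units.val_pow_eq_pow_val] at this
      simp only [Polynomial.eval₂_sub, Polynomial.eval₂_X_pow, Polynomial.eval₂_C, ← this]
      exact sub_self _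
    obtain ⟨d, hd⟩ := hint _ hi
    have hd0 : d ≠ 0 := fun h => y.ne_zero (by rw [← hd, h, map_zero])
    exact ⟨Units.mk0 d hd0, Units.ext hd⟩
  letI : CommGroup ((Γ(X.left, ⊤))ˣ ⧸ H) := QuotientGroup.Quotient.commGroup H
  letI : Module ℤ (Additive ((Γ(X.left, ⊤))ˣ ⧸ H)) := AddCommGroup.toIntModule _
  haveI : Module.Finite ℤ (Additive ((Γ(X.left, ⊤))ˣ ⧸ H)) :=
    Module.Finite.iff_addGroup_fg.2 (AddGroup.fg_of_group_fg)
  haveI : Module.IsTorsionFree ℤ (Additive ((Γ(X.left, ⊤))ˣ ⧸ H)) :=
    Module.isTorsionFree_iff_smul_eq_zero.2 fun z x hzx => by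
      by_contra hne
      rw [not_or] at hne
      obtain ⟨hz0, hx0⟩ := hne
      obtain ⟨y, hy⟩ := QuotientGroup.mk_surjective (Additive.toMul x)
      have h1 : y ^ z ∈ H := by
        rw [← QuotientGroup.eq_one_iff, QuotientGroup.mk_zpow, hy]
        exact congrArg Additive.toMul hzx
      have h2 : y ^ z.natAbs ∈ H := by
        rcases Int.natAbs_eq z with h | h
        · rwa [← zpow_natCast, ← h]
        · rw [← zpow_natCast, ← inv_mem_iff, ← zpow_neg, ← h]; exact h1
      refine hx0 (Additive.toMul.injective ?_)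
      rw [← hy]
      exact (QuotientGroup.eq_one_iff _).2 (htf _ (Int.natAbs_pos.2 hz0) y h2)
  obtain ⟨n, b⟩ := Module.basisOfFiniteTypeTorsionFree' (R := ℤ) (M := Additive ((Γ(X.left, ⊤))ˣ ⧸ H))
  let E : ((Γ(X.left, ⊤))ˣ ⧸ H) ≃* Multiplicative (Fin n → ℤ) :=
    AddEquiv.toMultiplicativeRight b.equivFun.toAddEquiv
  refine ⟨n, E.toMonoidHom.comp (QuotientGroup.mk' H), ?_, ?_⟩
  · exact E.surjective.comp (QuotientGroup.mk'_surjective H)
  · ext y
    rw [MonoidHom.mem_ker, MonoidHom.comp_apply]
    change E (QuotientGroup.mk' H y) = 1 ↔ _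
    rw [EmbeddingLike.map_eq_one_iff, QuotientGroup.mk'_apply, QuotientGroup.eq_one_iff]

end Groth.Agent.S16113
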