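import Groth.Statements.S10736
import Groth.Agent.AlgSpLib.CechWeakFinal
import Groth.Agent.AlgSpLib.QCohEtPushQcqs
import Groth.Agent.AlgSpLib.PointsCompact
import Groth.Agent.AlgSpLib.Diag
import Groth.Agent.AlgSpLib.QCohEtCech
-- import your own Groth.Agent.* helpers here

set_option autoImplicit false
universe u
open CategoryTheory CategoryTheory.Limits AlgebraicGeometry Opposite
open AlgSp

namespace Groth.Agent.S10736

open CategoryTheory.Limits Groth.Agent Groth.Agent.AlgSpLib Groth.Agent.AlgSpLib.QCohEt AlgSp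

set_option backward.isDefEq.respectTransparency false
set_option maxHeartbeats 1000000

/-- quasi-compact and quasi-separated objects -/
def IsQcqs {S : Scheme.{u}} {X : Sp S} (E : EtOver X) : Prop :=
  CompactSpace E.obj.left.left ∧ QuasiSeparatedSpace E.obj.left.left

theorem isQcqs_of_iso {S : Scheme.{u}} {X : Sp S} {U V : EtOver X} (e : U ≅ V) (h : IsQcqs U) : IsQcqs V := by
  obtain ⟨_, _⟩ := h
  let f : V.obj.left.left ⟶ U.obj.left.left := e.inv.hom.left.left
  haveI : IsIso f := (EtOver.toScheme X).map_isIso e.inv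
  exact ⟨QuasiCompact.compactSpace_of_compactSpace (Y := U.obj.left.left) f,
    quasiSeparatedSpace_of_quasiSeparated (Y := U.obj.left.left) f⟩

theorem isQcqs_overProd {S : Scheme.{u}} {X : Sp S} {U : EtOver X} (hU : IsQcqs U) {A B : CategoryTheory.Over U}
    (hA : IsQcqs A.left) (hB : IsQcqs B.left) {c : BinaryFan A B} (hc : IsLimit c) : IsQcqs c.pt.left := by
  obtain ⟨_, _⟩ := hU
  obtain ⟨_, _⟩ := hA
  obtain ⟨_, _⟩ := hB
  haveI : QuasiCompact B.hom.hom.left.left := quasiCompact_of_compactSpace _
  haveI : QuasiSeparated B.hom.hom.left.left := QuasiSeparated.of_quasiSeparatedSpace _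
  have h := (Over.isPullback_of_binaryFan_isLimit c hc).map (EtOver.toScheme X)
  haveI h1 : QuasiCompact c.fst.left.hom.left.left := MorphismProperty.of_isPullback (P := @QuasiCompact) h.flip
    (inferInstanceAs (QuasiCompact B.hom.hom.left.left))
  haveI h2 : QuasiSeparated c.fst.left.hom.left.left := MorphismProperty.of_isPullback (P := @QuasiSeparated) h.flip
    (inferInstanceAs (QuasiSeparated B.hom.hom.left.left))
  exact ⟨QuasiCompact.compactSpace_of_compactSpace (Y := A.left.obj.left.left) c.fst.left.hom.left.left,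
    quasiSeparatedSpace_of_quasiSeparated (Y := A.left.obj.left.left) c.fst.left.hom.left.left⟩

theorem isQcqs_fan {S : Scheme.{u}} {X : Sp S} {U : EtOver X} (hU : IsQcqs U) :
    ∀ {n : ℕ} (f : Fin n → CategoryTheory.Over U), (∀ k, IsQcqs (f k).left) → ∀ {c : Fan f}, IsLimit c → IsQcqs c.pt.left := by
  intro n
  induction n with
  | zero =>
    intro f _ c hc
    have hT : IsTerminal c.pt := IsTerminal.ofUniqueHom
      (fun Z => hc.lift (Fan.mk Z (fun k => Fin.elim0 k)))
      (fun Z m => hc.hom_ext fun ⟨k⟩ => Fin.elim0 k)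
    exact isQcqs_of_iso ((Over.forget U).mapIso (Over.mkIdTerminal.uniqueUpToIso hT)) hU
  | succ n ih =>
    intro f hf c hc
    let c₁ : Fan fun i : Fin n => f i.succ := Fan.mk _ (Pi.π fun i : Fin n => f i.succ)
    let t₁ : IsLimit c₁ := productIsProduct _
    let t₂ := prodIsProd (f 0) c₁.pt
    have h₁ := ih _ (fun k => hf k.succ) t₁
    have h₂ := isQcqs_overProd hU (hf 0) h₁ t₂
    exact isQcqs_of_iso ((Over.forget U).mapIso ((extendFanIsLimit f t₁ t₂).conePointUniqueUpToIso hc)) h₂

theorem exists_finite_refinement {S : Scheme.{u}} {X : Sp S} {E : EtOver X} [CompactSpace E.obj.left.left]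
    {T : Sieve E} (hT : T ∈ etTop X E) :
    ∃ (ι : Type) (_ : Finite ι) (W : ι → EtOver X) (g : ∀ i, W i ⟶ E),
      (∀ i, IsAff (W i)) ∧ (∀ i, T (g i)) ∧ ∀ x, ∃ i, x ∈ Set.range (g i).hom.left.left := by
  obtain ⟨ι, hι, Z, z, hZ, hc⟩ := exists_finite_affine_cover E
  choose κ hκ W g hW hg hcW using fun i =>
    haveI := hZ i; exists_finite_affine_refinement ((etTop X).pullback_stable (z i) hT)
  refine ⟨Σ i, κ i, inferInstance, fun p => W p.1 p.2, fun p => g p.1 p.2 ≫ z p.1, fun p => hW _ _,
    fun p => hg _ _, fun x => ?_⟩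
  obtain ⟨i, y, rfl⟩ := hc x
  obtain ⟨k, w, rfl⟩ := hcW i y
  exact ⟨⟨i, k⟩, w, rfl⟩

/-- qcqs objects with finite coverings -/
noncomputable def qcqsBasis {S : Scheme.{u}} (X : Sp S) : EtCechLib.Basis.{u + 1} (etTop X) where
  B := IsQcqs
  Cov U ι Y := IsQcqs U ∧ Finite ι ∧ (∀ i, IsQcqs (Y i).left) ∧
    ∀ x, ∃ i, x ∈ Set.range (Y i).hom.hom.left.left
  mem U ι Y h := ofArrows_mem_etTop (fun i => (Y i).left) (fun i => (Y i).hom) h.2.2.2
  inter U ι Y h p a := isQcqs_fan h.1 _ (fun k => h.2.2.1 (a k)) (productIsProduct _)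
  refine_ U hU T hT := by
    haveI := hU.1
    obtain ⟨ι, hι, W, g, hW, hg, hc⟩ := exists_finite_refinement hT
    refine ⟨ULift.{u + 1} ι, fun i => CategoryTheory.Over.mk (g i.down),
      ⟨hU, inferInstance, fun i => ?_, fun x => (hc x).elim fun i hi => ⟨⟨i⟩, hi⟩⟩, fun i => hg i.down⟩
    haveI : IsAffine (W i.down).obj.left.left := hW i.down
    exact ⟨inferInstanceAs (CompactSpace (W i.down).obj.left.left),
      inferInstanceAs (QuasiSeparatedSpace (W i.down).obj.left.left)⟩

theorem isQcqs_prod {S : Scheme.{u}} [QuasiSeparatedSpace ↥S] {X : Sp S} (hqs : IsQuasiSeparatedSp X)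
    {U E : EtOver X} (hU : IsQcqs U) (hE : IsQcqs E) : IsQcqs (U ⨯ E) := by
  obtain ⟨_, _⟩ := hU
  obtain ⟨_, _⟩ := hE
  refine isQcqs_of_iso ((EtOver.prodIsLimit U E).conePointUniqueUpToIso (limit.isLimit (pair U E))) ?_
  have sq : IsPullback ((yon S).map (E.property.1.fst' U.obj.hom)) ((yon S).map (E.property.1.snd U.obj.hom))
      E.obj.hom U.obj.hom := by
    rw [Functor.relativelyRepresentable.map_fst']
    exact E.property.1.isPullback U.obj.hom
  let j : E.property.1.pullback U.obj.hom ⟶ E.obj.left ⨯ U.obj.left :=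
    prod.lift (E.property.1.fst' U.obj.hom) (E.property.1.snd U.obj.hom)
  have e : prod.lift ((yon S).map (E.property.1.fst' U.obj.hom)) ((yon S).map (E.property.1.snd U.obj.hom)) =
      (yon S).map j ≫ prodComparison (yon S) E.obj.left U.obj.left := by
    apply Limits.prod.hom_ext <;> simp [j, prod.lift_fst, prod.lift_snd, ← Functor.map_comp]
  have h := RepWith.baseChange (P := @QuasiCompact) (isPullback_diag_prod_map sq) hqs
  have hm : Mono (prod.lift ((yon S).map (E.property.1.fst' U.obj.hom)) ((yon S).map (E.property.1.snd U.obj.hom))) :=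
    MorphismProperty.of_isPullback (P := MorphismProperty.monomorphisms (Sp S)) (isPullback_diag_prod_map sq)
      (⟨fun a b h => by simpa [prod.lift_fst] using congrArg (· ≫ prod.fst) h⟩ : Mono (Limits.diag X))
  rw [e, MorphismProperty.cancel_right_of_respectsIso (RepWith @QuasiCompact),
    repWith_yon_map_iff (P := @QuasiCompact)] at h
  rw [e] at hm
  have : Mono ((yon S).map j) := mono_of_mono _ (prodComparison (yon S) E.obj.left U.obj.left)
  have : Mono j := (yon S).mono_of_mono_map this
  have : Mono j.left := (inferInstance : Mono ((Over.forget S).map j))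
  have : QuasiCompact j.left := h
  have : QuasiCompact U.obj.left.hom := quasiCompact_of_compactSpace _
  have : QuasiSeparated U.obj.left.hom := QuasiSeparated.of_quasiSeparatedSpace _
  have : CompactSpace ↥(pullback E.obj.left.hom U.obj.left.hom) :=
    QuasiCompact.compactSpace_of_compactSpace (pullback.fst E.obj.left.hom U.obj.left.hom)
  have : QuasiSeparatedSpace ↥(pullback E.obj.left.hom U.obj.left.hom) :=
    quasiSeparatedSpace_of_quasiSeparated (pullback.fst E.obj.left.hom U.obj.left.hom)
  let l : (E.property.1.pullback U.obj.hom).left ⟶ pullback E.obj.left.hom U.obj.left.hom :=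
    j.left ≫ (Over.prodLeftIsoPullback E.obj.left U.obj.left).hom
  have : QuasiCompact l := inferInstance
  have : IsSeparated l := inferInstance
  exact ⟨QuasiCompact.compactSpace_of_compactSpace l, quasiSeparatedSpace_of_quasiSeparated l⟩

theorem isWeakFinal_of_surjective {S : Scheme.{u}} {X : Sp S} (U : EtOver X) (hU : RepWith @Surjective U.obj.hom) :
    WeakFinal.IsWeakFinal (etTop X) U := fun E => by
  have hc : Sieve.ofArrows (fun _ : PUnit.{u + 2} => EtOver.prodObj E U) (fun _ => EtOver.prodFst E U) ∈ etTop X E := by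
    refine ofArrows_mem_etTop _ _ fun x => ⟨PUnit.unit, ?_⟩
    haveI : Surjective (U.property.1.snd E.obj.hom).left := hU.property _ _ _ (U.property.1.isPullback E.obj.hom)
    exact (U.property.1.snd E.obj.hom).left.surjective x
  refine GrothendieckTopology.superset_covering _ ?_ hc
  rw [Sieve.generate_le_iff, Presieve.ofArrows_le_iff]
  intro i
  refine ⟨_, prod.lift (EtOver.prodFst E U) (EtOver.prodSnd E U), _, Presieve.ofArrows.mk PUnit.unit, ?_⟩
  exact prod.lift_fst _ _

/-- Let X be a quasi-compact algebraic space, quasi-separated over a quasi-separated base scheme S. Then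
for every p and every small filtered category J, the functor F ↦ H^p(X_et, F) on abelian sheaves on
the small etale site of X preserves colimits of shape J: for a filtered diagram (F_i) the canonical
map colim_i H^p(X, F_i) ⟶ H^p(X, colim_i F_i) is an isomorphism. (Quasi-separatedness is relative to
S with S quasi-separated, giving the absolute notion of the published statement.) -/
theorem result {S : Scheme.{u}}
    [QuasiSeparatedSpace ↥S] (X : AlgSp.Space S) (hqc : AlgSp.IsQuasiCompactSp X.obj)
    (hqs : AlgSp.IsQuasiSeparatedSp X.obj) (J : Type (u + 1)) [SmallCategory J] [IsFiltered J] (p : ℕ) :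
    PreservesColimitsOfShape J (AlgSp.HEtF X.obj p) := by
  haveI := compactSpace_points_of_isQuasiCompactSp hqc
  obtain ⟨T, a, hT, he, hs⟩ := AlgSpLib.exists_affine_chart X.property
  let U : EtOver X.obj := EtOver.mk a he
  haveI : IsAffine U.obj.left.left := hT
  have hU : IsQcqs U := ⟨inferInstanceAs (CompactSpace U.obj.left.left),
    inferInstanceAs (QuasiSeparatedSpace U.obj.left.left)⟩
  have h := WeakFinal.preservesColimitsOfShape_H (𝔅 := qcqsBasis X.obj) (U := U) (Λ := J)
    (fun U ι Y hY => hY.2.1) (isWeakFinal_of_surjective U hs) hU (fun c hc => isQcqs_prod hqs hU hc) p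
  exact @preservesColimitsOfShape_of_natIso _ _ _ _ J _ _ (AlgSp.HEtF X.obj p)
    (NatIso.ofComponents (fun F => Iso.refl _) (fun f => by ext; rfl)) h

end Groth.Agent.S10736
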