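import Groth.Statements.S0593
import Groth.Agent.H8Lim.NormalizationImmersion
import Groth.Agent.FlatMorWeight.Chevalley
import Mathlib

set_option backward.isDefEq.respectTransparency.types false
set_option backward.isDefEq.respectTransparency false

set_option autoImplicit false
universe u
open CategoryTheory AlgebraicGeometry
open Lim

namespace Groth.Agent.S0593

/-- If `f : X → S` is surjective and universally closed with `X` affine, then `S` is affine. -/
theorem result (X S : Scheme.{u}) (f : X ⟶ S)
    [IsAffine X] [Surjective f] [UniversallyClosed f] : IsAffine S := by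
  have : CompactSpace S := ⟨by
    rw [← f.surjective.range_eq]; exact isCompact_range f.continuous⟩
  let a := Limits.terminal.from X
  let b := Limits.terminal.from S
  let P : Limits.pullback a a ⟶ Limits.pullback b b :=
    Limits.pullback.map a a b b f f (𝟙 _) (Limits.terminal.hom_ext _ _) (Limits.terminal.hom_ext _ _)
  have hab : f ≫ b = a := Limits.terminal.hom_ext _ _
  have : UniversallyClosed P :=
    MorphismProperty.pullbackMap (P := @UniversallyClosed) ‹_› ‹_› hab.symm hab.symm
  have hP : Limits.pullback.diagonal a ≫ P = f ≫ Limits.pullback.diagonal b := by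
    apply Limits.pullback.hom_ext <;> simp [P, Limits.pullback.lift_fst, Limits.pullback.lift_snd, Limits.pullback.diagonal, Limits.pullback.lift_fst_assoc, Limits.pullback.lift_snd_assoc, CategoryTheory.Category.id_comp] <;> exact Category.id_comp f
  have hrange : Set.range (Limits.pullback.diagonal b) = P '' Set.range (Limits.pullback.diagonal a) := by
    rw [← Set.range_comp, show (P ∘ Limits.pullback.diagonal a) = (Limits.pullback.diagonal b) ∘ f from
      funext fun x => by
        show P (Limits.pullback.diagonal a x) = Limits.pullback.diagonal b (f x)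
        rw [← Scheme.Hom.comp_apply, hP, Scheme.Hom.comp_apply],
      Set.range_comp, f.surjective.range_eq, Set.image_univ]
  have : IsSeparated a := inferInstance
  have : IsClosedImmersion (Limits.pullback.diagonal b) := IsClosedImmersion.of_isPreimmersion _ (by
    rw [hrange]
    exact P.isClosedMap _ (Limits.pullback.diagonal a).isClosedEmbedding.isClosed_range)
  have : S.IsSeparated := ⟨⟨this⟩⟩
  have : IsAffineHom (f ≫ b) := by rw [hab]; infer_instance
  have : IsAffineHom f := IsAffineHom.of_comp f b
  have : IsIntegralHom f := IsIntegralHom.iff_universallyClosed_and_isAffineHom.mpr ⟨‹_›, ‹_›⟩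
  obtain ⟨hc⟩ := Groth.Agent.H8Lim.Family.isLimit_cone f
  have : ∀ {i j : (Groth.Agent.H8Lim.Family f)ᵒᵖ} (φ : i ⟶ j),
      IsAffineHom ((Groth.Agent.H8Lim.Family.diagram f).map φ) :=
    fun φ => Groth.Agent.H8Lim.Family.isAffineHom_map φ
  have hfin : ∀ i : (Groth.Agent.H8Lim.Family f)ᵒᵖ, IsFinite i.unop.alg.π :=
    fun i => i.unop.isFinite_π_of_isIntegralHom
  have : ∀ i, CompactSpace ((Groth.Agent.H8Lim.Family.diagram f).obj i) := fun i =>
    have := i.unop.alg.isAffineHom_π
    QuasiCompact.compactSpace_of_compactSpace i.unop.alg.π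
  have : ∀ i, QuasiSeparatedSpace ((Groth.Agent.H8Lim.Family.diagram f).obj i) := fun i =>
    have := i.unop.alg.isAffineHom_π
    quasiSeparatedSpace_of_quasiSeparated i.unop.alg.π
  have : IsAffine (Groth.Agent.H8Lim.Family.cone f).pt := ‹IsAffine X›
  obtain ⟨i, hi⟩ := Scheme.exists_isAffine_of_isLimit _ _ hc
  have : IsAffine i.unop.alg.spec := hi
  have := hfin i
  have : Surjective i.unop.alg.π := by
    refine ⟨fun s => ?_⟩
    obtain ⟨x, rfl⟩ := f.surjective s
    exact ⟨i.unop.toModel x, by rw [← Scheme.Hom.comp_apply, i.unop.toModel_π]⟩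
  exact Groth.Agent.FlatMorWeight.isAffine_of_finite_surjective i.unop.alg.π

end Groth.Agent.S0593
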