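import Groth.Statements.S10006
import Groth.Agent.AlgSpLib.LimitAffine
import Groth.Agent.AlgSpLib.PointsCompact
import Groth.Agent.AlgSpLib.Filtration
-- import your own Groth.Agent.* helpers here

set_option autoImplicit false
universe u
open CategoryTheory CategoryTheory.Limits AlgebraicGeometry
open AlgSp

namespace Groth.Agent.S10006

/-- Let `S` be a quasi-separated scheme and `X` the limit, in fppf sheaves over `S`, of a cofiltered
system `(X_i)` of quasi-compact algebraic spaces over `S`, each quasi-separated over `S`, whose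
transition maps are affine. If `X` is (representable by) an affine scheme, then so is `X_i` for some
`i`. (The published statement allows any base scheme and uses absolute quasi-separatedness; this row
assumes the base quasi-separated, over which quasi-separatedness relative to the base is the
absolute notion.) -/
theorem result (S : Scheme.{u}) [QuasiSeparatedSpace S] {I : Type u} [SmallCategory I] [IsCofiltered I]
    (D : I ⥤ AlgSp.Sp S) (hD : ∀ i, AlgSp.IsAlgSpace (D.obj i))
    (hDa : ∀ (i j : I) (φ : i ⟶ j), AlgSp.IsAffineMor (D.map φ))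
    (hqc : ∀ i, AlgSp.IsQuasiCompactSp (D.obj i)) (hqs : ∀ i, AlgSp.IsQuasiSeparatedSp (D.obj i))
    (c : Cone D) (hc : IsLimit c)
    (T : Over S) (hT : IsAffine T.left) (e : (AlgSp.yon S).obj T ≅ c.pt) :
    ∃ (i : I) (T' : Over S), IsAffine T'.left ∧ Nonempty ((AlgSp.yon S).obj T' ≅ D.obj i) := by
---
  obtain ⟨i₀⟩ := IsCofiltered.nonempty (C := I)
  have := (Groth.Agent.AlgSpLib.isQuasiCompactSp_iff_compactSpace (hD i₀)).1 (hqc i₀)
  obtain ⟨U, v, hU, hve, hvs⟩ := Groth.Agent.AlgSpLib.exists_affine_chart (hD i₀)
  have hr := (hD i₀).representable_from_yon v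
  have sq := hr.isPullback' v
  have h1 : QuasiCompact (hr.snd v).left :=
    (Groth.Agent.AlgSpLib.repWith_qc_chart (hD i₀) (hqs i₀) v).2 _ _ _ sq
  have h2 : QuasiSeparated (hr.snd v).left :=
    (Groth.Agent.AlgSpLib.repWith_qs_chart (hD i₀) (hqs i₀) v v hve hvs).2 _ _ _ sq
  have : CompactSpace (hr.pullback v).left := QuasiCompact.compactSpace_of_compactSpace (hr.snd v).left
  have : QuasiSeparatedSpace (hr.pullback v).left := quasiSeparatedSpace_of_quasiSeparated (hr.snd v).left
  obtain ⟨i, -, T', hT', he⟩ :=
    Groth.Agent.AlgSpLib.LimitAffine.exists_stage_affine D hDa c hc e v hve hvs sq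
  exact ⟨i, T', hT', he⟩

end Groth.Agent.S10006
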