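import Groth.Statements.S10086
import Groth.Agent.AlgSpLib.InductPrinciple
import Groth.Agent.AlgSpLib.LimitSystem
import Groth.Agent.AlgSpLib.PointsCompact
import Mathlib.AlgebraicGeometry.AffineTransitionLimit
-- import your own Groth.Agent.* helpers here

set_option autoImplicit false
universe u
open CategoryTheory CategoryTheory.Limits AlgebraicGeometry Opposite
open AlgSp

namespace Groth.Agent.S10086

open Groth.Agent.AlgSpLib

/-- Let `S` be a quasi-separated scheme and `X` the limit, in fppf sheaves over `S`, of a cofiltered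
system `(X_i)` of algebraic spaces over `S`, each quasi-compact and quasi-separated over `S`, whose
transition maps are affine. Then every quasi-compact open subspace `U ⟶ X` is the inverse image of a
quasi-compact open subspace `U_i ⟶ X_i` for some index `i` (a pullback square over the projection `X
⟶ X_i`). (The published statement allows any base scheme and uses absolute quasi-separatedness; this
row assumes the base quasi-separated, over which quasi-separatedness relative to the base is the
absolute notion.) -/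
theorem result (S : Scheme.{u}) [QuasiSeparatedSpace ↥S] {I : Type u} [SmallCategory I] [IsCofiltered I]
    (D : I ⥤ AlgSp.Sp S) (hD : ∀ i, AlgSp.IsAlgSpace (D.obj i))
    (hDa : ∀ (i j : I) (φ : i ⟶ j), AlgSp.IsAffineMor (D.map φ))
    (hqc : ∀ i, AlgSp.IsQuasiCompactSp (D.obj i)) (hqs : ∀ i, AlgSp.IsQuasiSeparatedSp (D.obj i))
    (c : Cone D) (hc : IsLimit c)
    (U : AlgSp.Sp S) (j : U ⟶ c.pt) (hj : AlgSp.RepWith @IsOpenImmersion j) (hU : AlgSp.IsQuasiCompactSp U) :
    ∃ (i : I) (Ui : AlgSp.Sp S) (ji : Ui ⟶ D.obj i) (q : U ⟶ Ui),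
      AlgSp.RepWith @IsOpenImmersion ji ∧ AlgSp.IsQuasiCompactSp Ui ∧ IsPullback j q (c.π.app i) ji := by
  have hX := isAlgSpace_limit D hD hDa c hc
  haveI := Induct.mono_openImm hj
  obtain ⟨i₀⟩ := IsCofiltered.nonempty (C := I)
  haveI := (isQuasiCompactSp_iff_compactSpace (hD i₀)).1 (hqc i₀)
  obtain ⟨V, v, hV, hve, hvs⟩ := exists_affine_chart (hD i₀)
  obtain ⟨E, η, pr, cE, hcE, θ, haff, hnat, hsq, hpr, hη, hθe, hθs, hπ⟩ :=
    exists_chart_system D hDa c hc v hve hvs
  have hUa : AlgSp.IsAlgSpace U := isAlgSpace_of_representable hX hj.1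
  have hOo : IsOpen (Set.range (AlgSp.Points.map j)) := Induct.isOpen_range_map hUa hj
  have hOc : IsCompact (Set.range (AlgSp.Points.map j)) := Induct.isCompact_range_map hU j
  have hXs : AlgSp.IsQuasiSeparatedSp c.pt := by
    obtain ⟨q, -⟩ := exists_to_base (D.obj i₀)
    exact (isQuasiSeparatedMor_iff_sp (c.π.app i₀ ≫ q)).1 (isQuasiSeparatedMor_comp
      ((repWith_diagonal_iff ((isAffineMor_iff_repWith _).1 (isAffineMor_π D hDa c hc i₀)).1).2
        (RepWith.mono (fun _ _ m (_ : IsAffineHom m) => (inferInstance : QuasiSeparated m).quasiCompact_diagonal)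
          ((isAffineMor_iff_repWith _).1 (isAffineMor_π D hDa c hc i₀))))
      ((isQuasiSeparatedMor_iff_sp q).2 (hqs i₀)))
  haveI := hV
  have hEaff : ∀ k, IsAffine (E.obj k).left := fun k => by
    haveI := hpr k
    exact isAffine_of_isAffineHom (pr k).left
  haveI : ∀ k, IsAffine ((E ⋙ Over.forget S).obj k) := hEaff
  haveI : ∀ {a b} (φ : a ⟶ b), IsAffineHom ((E ⋙ Over.forget S).map φ) := fun φ => haff φ
  haveI : IsAffine ((Over.forget S).mapCone cE).pt := Scheme.isAffine_of_isLimit _ hcE
  haveI : IsAffine cE.pt.left := ‹IsAffine ((Over.forget S).mapCone cE).pt›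
  let U' : cE.pt.left.Opens := ⟨AlgSp.Points.ofPt θ ⁻¹' Set.range (AlgSp.Points.map j),
    hOo.preimage (AlgSp.Points.continuous_ofPt θ)⟩
  have hU' : IsCompact (U' : Set cE.pt.left) := by
    have h := Induct.isCompact_preimage hX hXs θ hOo hOc
    have e : (U' : Set cE.pt.left) =
        (AlgSp.Points.schemeHomeo cE.pt) ⁻¹' (AlgSp.Points.map θ ⁻¹' Set.range (AlgSp.Points.map j)) := by
      ext z
      show AlgSp.Points.ofPt θ z ∈ Set.range (AlgSp.Points.map j) ↔
        AlgSp.Points.map θ (AlgSp.Points.schemeHomeo cE.pt z) ∈ Set.range (AlgSp.Points.map j)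
      rw [AlgSp.Points.ofPt_eq_map_ofScheme]
      rfl
    rw [e]
    exact (AlgSp.Points.schemeHomeo cE.pt).isCompact_preimage.2 h
  obtain ⟨k, W₀, hWc, hW⟩ := exists_preimage_eq (E ⋙ Over.forget S) ((Over.forget S).mapCone cE) hcE U' hU'
  let W : (E.obj k).left.Opens := W₀
  let O : Set (AlgSp.Points (D.obj k.left)) := AlgSp.Points.ofPt (η k) '' (W : Set (E.obj k).left)
  have hO : IsOpen O := isOpenMap_ofPt (η k) (hη k).1 _ W.2
  have hOcpt : IsCompact O := (show IsCompact (W : Set (E.obj k).left) from hWc).image (AlgSp.Points.continuous_ofPt (η k))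
  have hmem : ∀ z : cE.pt.left, (cE.π.app k).left z ∈ W ↔ AlgSp.Points.ofPt θ z ∈ Set.range (AlgSp.Points.map j) :=
    fun z => by
      show z ∈ (((Over.forget S).mapCone cE).π.app k ⁻¹ᵁ W₀) ↔ z ∈ U'
      exact iff_of_eq (congrArg (z ∈ ·) hW)
  have hrange : AlgSp.Points.map (c.π.app k.left) ⁻¹' O = Set.range (AlgSp.Points.map j) := by
    refine Set.Subset.antisymm ?_ fun x hx => ?_
    · rintro x ⟨w, hw, hwx⟩
      rw [AlgSp.Points.ofPt_eq_map_ofScheme] at hwx
      obtain ⟨p, hp1, hp2⟩ := exists_point_of_isPullback (hπ k) hwx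
      obtain ⟨z, rfl⟩ := (AlgSp.Points.schemeEquiv _).surjective p
      have hz : (cE.π.app k).left z = w :=
        (AlgSp.Points.schemeEquiv (E.obj k)).injective ((map_yon_map_ofScheme _ z).symm.trans hp1)
      have h := (hmem z).1 (show (cE.π.app k).left z ∈ W from hz ▸ hw)
      rw [← hp2]
      rw [AlgSp.Points.ofPt_eq_map_ofScheme] at h
      exact h
    · obtain ⟨z, rfl⟩ := surjective_ofPt θ hθs x
      refine ⟨(cE.π.app k).left z, (hmem z).2 hx, ?_⟩
      rw [AlgSp.Points.map_ofPt, ← (hπ k).w]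
      exact (ofPt_map _ _ _).symm
  have hρ : AlgSp.RepWith @IsOpenImmersion (openSubspaceι (D.obj k.left) O) := repWith_openSubspaceι _ hO
  let P := pullback (c.π.app k.left) (openSubspaceι (D.obj k.left) O)
  have sq := IsPullback.of_hasPullback (c.π.app k.left) (openSubspaceι (D.obj k.left) O)
  have hP : AlgSp.RepWith @IsOpenImmersion (pullback.fst (c.π.app k.left) (openSubspaceι (D.obj k.left) O)) :=
    RepWith.baseChange sq.flip hρ
  have hPr : Set.range (AlgSp.Points.map j) =
      Set.range (AlgSp.Points.map (pullback.fst (c.π.app k.left) (openSubspaceι (D.obj k.left) O))) := by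
    rw [← hrange]
    refine Set.Subset.antisymm (fun x hx => ?_) ?_
    · obtain ⟨y, hy⟩ : AlgSp.Points.map (c.π.app k.left) x ∈
          Set.range (AlgSp.Points.map (openSubspaceι (D.obj k.left) O)) := by
        rw [range_openSubspaceι]; exact hx
      obtain ⟨p, hp, -⟩ := exists_point_of_isPullback sq hy.symm
      exact ⟨p, hp⟩
    · rintro _ ⟨p, rfl⟩
      show AlgSp.Points.map _ (AlgSp.Points.map _ p) ∈ O
      rw [← AlgSp.Points.map_comp, sq.w, AlgSp.Points.map_comp]
      exact (range_openSubspaceι (D.obj k.left) O).subset ⟨_, rfl⟩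
  obtain ⟨e, he⟩ := Induct.exists_iso_of_range_eq hj hP hPr
  refine ⟨k.left, openSubspace (D.obj k.left) O, openSubspaceι _ O, e.hom ≫ pullback.snd _ _, hρ,
    Induct.isQuasiCompactSp_openImm (isAlgSpace_openSubspace (hD k.left) hO) (hD k.left) hρ
      ((range_openSubspaceι _ O).symm ▸ hOcpt), ?_⟩
  exact sq.of_iso e.symm (Iso.refl _) (Iso.refl _) (Iso.refl _) (by simp [← he]) (by simp) (by simp) (by simp)

end Groth.Agent.S10086
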