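import Groth.Statements.S10007
import Groth.Agent.S10086
import Groth.Agent.S10006
import Groth.Agent.AlgSpLib.SheafCoprod2
import Groth.Agent.AlgSpLib.InductPrinciple
-- import your own Groth.Agent.* helpers here

set_option autoImplicit false
universe u
open CategoryTheory CategoryTheory.Limits AlgebraicGeometry
open AlgSp

namespace Groth.Agent.S10007

open Groth.Agent.AlgSpLib

theorem affine_of_affineMor {S : Scheme.{u}} {F G : AlgSp.Sp S} {f : F ⟶ G} (hf : AlgSp.IsAffineMor f)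
    {T : Over S} (hT : IsAffine T.left) (e : (AlgSp.yon S).obj T ≅ G) :
    ∃ W : Over S, IsAffine W.left ∧ Nonempty ((AlgSp.yon S).obj W ≅ F) := by
  obtain ⟨W, w, fst, sq, hW⟩ := hf hT e.hom
  haveI : IsIso fst := sq.isIso_fst_of_isIso
  exact ⟨W, hW, ⟨asIso fst⟩⟩

theorem qc_qs_of_affineMor {S : Scheme.{u}} [QuasiSeparatedSpace ↥S] {F G : AlgSp.Sp S} (hF : AlgSp.IsAlgSpace F) (hG : AlgSp.IsAlgSpace G) {f : F ⟶ G}
    (hf : AlgSp.IsAffineMor f) :
    (AlgSp.IsQuasiCompactSp G → AlgSp.IsQuasiCompactSp F) ∧ (AlgSp.IsQuasiSeparatedSp G → AlgSp.IsQuasiSeparatedSp F) := by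
  have h := (isAffineMor_iff_repWith _).1 hf
  refine ⟨fun hq => (repWith_quasiCompact_iff hF hG h.1).1 (RepWith.mono (fun _ _ q (_ : IsAffineHom q) =>
    (inferInstance : QuasiCompact q)) h) hG hq (𝟙 _) (𝟙 _) f (IsPullback.of_horiz_isIso ⟨by simp⟩), fun hs => ?_⟩
  obtain ⟨q, -⟩ := exists_to_base G
  exact (isQuasiSeparatedMor_iff_sp (f ≫ q)).1 (isQuasiSeparatedMor_comp
    ((repWith_diagonal_iff h.1).2 (RepWith.mono (fun _ _ m (_ : IsAffineHom m) =>
      (inferInstance : QuasiSeparated m).quasiCompact_diagonal) h)) ((isQuasiSeparatedMor_iff_sp q).2 hs))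
theorem exists_affine_cover {S : Scheme.{u}} {X : AlgSp.Sp S} (hXqc : AlgSp.IsQuasiCompactSp X) (T : Over S)
    (e : (AlgSp.yon S).obj T ≅ X) : ∃ (σ : Type u) (_ : Fintype σ) (V : σ → Over S) (j : ∀ a, (AlgSp.yon S).obj (V a) ⟶ X),
      (∀ a, IsAffine (V a).left) ∧ (∀ a, AlgSp.RepWith @IsOpenImmersion (j a)) ∧
      (∀ a, AlgSp.IsQuasiCompactSp ((AlgSp.yon S).obj (V a))) ∧ ∀ x, ∃ a, x ∈ Set.range (AlgSp.Points.map (j a)) := by
  classical
  haveI := compactSpace_points_of_isQuasiCompactSp hXqc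
  let h : AlgSp.Points X ≃ₜ AlgSp.Points ((AlgSp.yon S).obj T) :=
    { toFun := AlgSp.Points.map e.inv
      invFun := AlgSp.Points.map e.hom
      left_inv := fun x => by rw [← AlgSp.Points.map_comp, e.inv_hom_id, AlgSp.Points.map_id]
      right_inv := fun x => by rw [← AlgSp.Points.map_comp, e.hom_inv_id, AlgSp.Points.map_id]
      continuous_toFun := AlgSp.Points.continuous_map _
      continuous_invFun := AlgSp.Points.continuous_map _ }
  haveI hTc : CompactSpace T.left := (h.trans (AlgSp.Points.schemeHomeo T).symm).compactSpace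
  -- finitely many affine opens
  obtain ⟨σ, hσ⟩ := isCompact_univ.elim_finite_subcover (fun O : T.left.affineOpens => (O.1 : Set T.left))
    (fun O => O.1.2) (fun z _ => by
      obtain ⟨O, hO, -⟩ := exists_affine_mem (O := ⊤) (x := z) trivial
      exact Set.mem_iUnion.2 ⟨O, hO⟩)
  let V : σ → Over S := fun a => restrictOver T a.1.1
  let j : ∀ a, (AlgSp.yon S).obj (V a) ⟶ X := fun a => (AlgSp.yon S).map (restrictOverι T a.1.1) ≫ e.hom
  have hj : ∀ a, AlgSp.RepWith @IsOpenImmersion (j a) := fun a =>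
    RepWith.comp ((AlgSp.repWith_yon_map_iff _ _).2 inferInstance) (repWith_of_isIso _ e.hom)
  have hcov : ∀ x : AlgSp.Points X, ∃ a, x ∈ Set.range (AlgSp.Points.map (j a)) := fun x => by
    obtain ⟨z, hz⟩ := (AlgSp.Points.schemeEquiv T).surjective (AlgSp.Points.map e.inv x)
    obtain ⟨O, hO, hzO⟩ := Set.mem_iUnion₂.1 (hσ (Set.mem_univ z))
    obtain ⟨z', hz'⟩ : z ∈ Set.range (restrictOverι T O.1).left := by
      rw [range_restrictOverι]; exact hzO
    refine ⟨⟨O, hO⟩, ?_⟩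
    rw [Induct.range_map_yon]
    refine ⟨z', ?_⟩
    refine (ofPt_map (restrictOverι T O.1) e.hom z').trans ?_
    rw [hz', AlgSp.Points.ofPt_eq_map_ofScheme]
    refine (congrArg (AlgSp.Points.map e.hom) hz).trans ?_
    rw [← AlgSp.Points.map_comp, e.inv_hom_id, AlgSp.Points.map_id]
  have hVqc : ∀ a, AlgSp.IsQuasiCompactSp ((AlgSp.yon S).obj (V a)) := fun a =>
    haveI : IsAffine (V a).left := a.1.2
    ⟨V a, 𝟙 _, repWith_of_isIso _ (𝟙 _), repWith_of_isIso _ (𝟙 _), inferInstance⟩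
  exact ⟨σ, inferInstance, V, j, fun a => a.1.2, hj, hVqc, hcov⟩

theorem exists_stage_covered {S : Scheme.{u}} {I : Type u} [SmallCategory I] [IsCofiltered I]
    (D : I ⥤ AlgSp.Sp S) (hD : ∀ i, AlgSp.IsAlgSpace (D.obj i))
    (hDa : ∀ (i j : I) (φ : i ⟶ j), AlgSp.IsAffineMor (D.map φ)) (c : Cone D) (hc : IsLimit c) (k : I)
    (hqc : AlgSp.IsQuasiCompactSp (D.obj k)) (O : Set (AlgSp.Points (D.obj k))) (hO : IsOpen O)
    (hOtop : ∀ x, AlgSp.Points.map (c.π.app k) x ∈ O) :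
    ∃ (m : I) (ψ : m ⟶ k), ∀ y, AlgSp.Points.map (D.map ψ) y ∈ O := by
  -- a stage covered by the opens
  haveI := (isQuasiCompactSp_iff_compactSpace (hD k)).1 hqc
  obtain ⟨B, v, hB, hve, hvs⟩ := exists_affine_chart (hD k)
  obtain ⟨E, η, pr, cE, hcE, θ, haff, hnat, hsqE, hpr, hη, hθe, hθs, hπ⟩ :=
    exists_chart_system D hDa c hc v hve hvs
  have hEaff : ∀ l, IsAffine (E.obj l).left := fun l => by
    haveI := hpr l
    exact isAffine_of_isAffineHom (pr l).left
  haveI : ∀ l, IsAffine ((E ⋙ Over.forget S).obj l) := hEaff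
  haveI : ∀ {a b} (ψ : a ⟶ b), IsAffineHom ((E ⋙ Over.forget S).map ψ) := fun ψ => haff ψ
  let top : Over k := Over.mk (𝟙 k)
  let W : ((E ⋙ Over.forget S).obj top).Opens :=
    ⟨AlgSp.Points.ofPt (η top) ⁻¹' O, hO.preimage (AlgSp.Points.continuous_ofPt _)⟩
  obtain ⟨m, ψ, hm⟩ := exists_map_eq_top (E ⋙ Over.forget S) ((Over.forget S).mapCone cE) hcE W (by
    refine eq_top_iff.2 fun z _ => ?_
    let z' : cE.pt.left := z
    show AlgSp.Points.ofPt (η top) ((cE.π.app top).left z') ∈ O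
    rw [← ofPt_map, (hπ top).w, ← AlgSp.Points.map_ofPt]
    exact hOtop _)
  have hmO : ∀ y, AlgSp.Points.map (D.map ψ.left) y ∈ O := fun y => by
    obtain ⟨z, rfl⟩ := surjective_ofPt (η m) (hη m).2 y
    have hz : z ∈ (E.map ψ).left ⁻¹' (AlgSp.Points.ofPt (η top) ⁻¹' O) := (eq_top_iff.1 hm) (show z ∈ ⊤ from trivial)
    rw [AlgSp.Points.map_ofPt, ← (hnat ψ).w, ofPt_map]
    exact hz
  exact ⟨m.left, ψ.left, hmO⟩

theorem exists_stage_affine_open {S : Scheme.{u}} [QuasiSeparatedSpace S] {I : Type u} [SmallCategory I] [IsCofiltered I]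
    (D : I ⥤ AlgSp.Sp S) (hD : ∀ i, AlgSp.IsAlgSpace (D.obj i))
    (hDa : ∀ (i j : I) (φ : i ⟶ j), AlgSp.IsAffineMor (D.map φ)) (c : Cone D) (hc : IsLimit c)
    {k ia : I} (φ : k ⟶ ia) {U : AlgSp.Sp S} (ji : U ⟶ D.obj ia) (hji : AlgSp.RepWith @IsOpenImmersion ji)
    (hUa : AlgSp.IsAlgSpace U) (hUqc : AlgSp.IsQuasiCompactSp U) (hqs' : AlgSp.IsQuasiSeparatedSp (D.obj ia))
    {V : Over S} (hV : IsAffine V.left) {j : (AlgSp.yon S).obj V ⟶ c.pt} {q : (AlgSp.yon S).obj V ⟶ U}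
    (hsq : IsPullback j q (c.π.app ia) ji) :
    ∃ (l : Over k) (T' : Over S), IsAffine T'.left ∧
      Nonempty ((AlgSp.yon S).obj T' ≅ (spStage D (pullback.snd ji (D.map φ))).obj l) := by
  let g := pullback.snd ji (D.map φ)
  have hU' : AlgSp.IsAlgSpace (pullback ji (D.map φ)) :=
    isAlgSpace_of_isPullback (hD ia).diag hUa (hD k) (IsPullback.of_hasPullback _ _)
  have hst : ∀ l, AlgSp.IsAlgSpace ((spStage D g).obj l) := fun l =>
    isAlgSpace_of_isPullback (hD k).diag hU' (hD l.left) (IsPullback.of_hasPullback g (D.map l.hom))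
  have hfst : ∀ l : Over k, AlgSp.IsAffineMor (pullback.fst g (D.map l.hom) ≫ pullback.fst ji (D.map φ)) := fun l =>
    (isAffineMor_iff_repWith _).2 (RepWith.comp
      ((isAffineMor_iff_repWith _).1 (isAffineMor_of_isPullback (IsPullback.of_hasPullback _ _).flip (hDa _ _ l.hom)))
      ((isAffineMor_iff_repWith _).1 (isAffineMor_of_isPullback (IsPullback.of_hasPullback _ _).flip (hDa _ _ φ))))
  obtain ⟨hcl⟩ := isLimit_spStageCone D g c hc
  have sqa : IsPullback (pullback.fst g (c.π.app k) ≫ pullback.fst ji (D.map φ))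
      (pullback.snd g (c.π.app k)) ji (c.π.app ia) := by
    rw [← c.w φ]
    exact ((IsPullback.of_hasPullback g (c.π.app k)).flip.paste_vert
      (IsPullback.of_hasPullback ji (D.map φ)).flip).flip
  haveI : Mono ji := Induct.mono_openImm hji
  exact Groth.Agent.S10006.result S (spStage D g) hst
    (fun l l' ξ => isAffineMor_of_isPullback (spStage_isPullback D g ξ).flip (hDa _ _ ξ.left))
    (fun l => (qc_qs_of_affineMor (hst l) hUa (hfst l)).1 hUqc)
    (fun l => (qc_qs_of_affineMor (hst l) hUa (hfst l)).2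
      (Groth.Agent.Stk19b.ZarQs.isQuasiSeparatedSp_of_mono ji hqs'))
    (spStageCone D g c) hcl V hV (hsq.flip.isoIsPullback _ _ sqa)

/-- Let `S` be a quasi-separated scheme and `X` the limit, in fppf sheaves over `S`, of a cofiltered
system `(X_i)` of quasi-compact algebraic spaces over `S`, each quasi-separated over `S`, whose
transition maps are affine. If `X` is a scheme (its sheaf is representable), then `X_i` is a scheme
for some `i`. (The published statement allows any base scheme and uses absolute quasi-separatedness;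
this row assumes the base quasi-separated, over which quasi-separatedness relative to the base is
the absolute notion.) -/
theorem result (S : Scheme.{u}) [QuasiSeparatedSpace S] {I : Type u} [SmallCategory I] [IsCofiltered I]
    (D : I ⥤ AlgSp.Sp S) (hD : ∀ i, AlgSp.IsAlgSpace (D.obj i))
    (hDa : ∀ (i j : I) (φ : i ⟶ j), AlgSp.IsAffineMor (D.map φ))
    (hqc : ∀ i, AlgSp.IsQuasiCompactSp (D.obj i)) (hqs : ∀ i, AlgSp.IsQuasiSeparatedSp (D.obj i))
    (c : Cone D) (hc : IsLimit c)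
    (hX : c.pt.obj.IsRepresentable) : ∃ i, (D.obj i).obj.IsRepresentable := by
  classical
  have hXa := isAlgSpace_limit D hD hDa c hc
  obtain ⟨i₀⟩ := IsCofiltered.nonempty (C := I)
  obtain ⟨hXqc, -⟩ := qc_qs_of_affineMor hXa (hD i₀) (isAffineMor_π D hDa c hc i₀)
  obtain ⟨T, ⟨e⟩⟩ := exists_iso_yon_of_isRepresentable hX
  obtain ⟨σ, _, V, j, hVaff, hj, hVqc, hcov⟩ := exists_affine_cover (hXqc (hqc i₀)) T e
  choose ia Ua ji q hji hUqc hsq using fun a =>
    Groth.Agent.S10086.result S D hD hDa hqc hqs c hc _ (j a) (hj a) (hVqc a)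
  obtain ⟨k, hk⟩ := IsCofiltered.inf_objs_exists (Finset.univ.image ia)
  have φ : ∀ a, k ⟶ ia a := fun a => (hk (Finset.mem_image.2 ⟨a, Finset.mem_univ _, rfl⟩)).some
  let g : ∀ a, pullback (ji a) (D.map (φ a)) ⟶ D.obj k := fun a => pullback.snd _ _
  have hg : ∀ a, AlgSp.RepWith @IsOpenImmersion (g a) := fun a =>
    RepWith.baseChange (IsPullback.of_hasPullback _ _) (hji a)
  have hUa : ∀ a, AlgSp.IsAlgSpace (Ua a) := fun a => isAlgSpace_of_representable (hD (ia a)) (hji a).1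
  have hU' : ∀ a, AlgSp.IsAlgSpace (pullback (ji a) (D.map (φ a))) := fun a =>
    isAlgSpace_of_isPullback (hD (ia a)).diag (hUa a) (hD k) (IsPullback.of_hasPullback _ _)
  let O : Set (AlgSp.Points (D.obj k)) := ⋃ a, Set.range (AlgSp.Points.map (g a))
  have hO : IsOpen O := isOpen_iUnion fun a => Induct.isOpen_range_map (hU' a) (hg a)
  have hOtop : ∀ x, AlgSp.Points.map (c.π.app k) x ∈ O := fun x => by
    obtain ⟨a, y, hy⟩ := hcov x
    obtain ⟨p, -, hp⟩ := exists_point_of_isPullback (IsPullback.of_hasPullback (ji a) (D.map (φ a)))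
      (x := AlgSp.Points.map (q a) y) (y := AlgSp.Points.map (c.π.app k) x) (by
        rw [← AlgSp.Points.map_comp, ← (hsq a).w, AlgSp.Points.map_comp, hy, ← AlgSp.Points.map_comp, c.w])
    exact Set.mem_iUnion.2 ⟨a, p, hp⟩
  obtain ⟨m₀, ψ₀, hmO⟩ := exists_stage_covered D hD hDa c hc k (hqc k) O hO hOtop
  let m : Over k := Over.mk ψ₀
  have haffst := fun a => exists_stage_affine_open D hD hDa c hc (φ a) (ji a) (hji a) (hUa a) (hUqc a)
    (hqs (ia a)) (hVaff a) (hsq a)
  choose la Ta hTa he using haffst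
  obtain ⟨l, hl⟩ := IsCofiltered.inf_objs_exists (insert m (Finset.univ.image la))
  have ξ : ∀ a, l ⟶ la a := fun a => (hl (Finset.mem_insert_of_mem (Finset.mem_image.2 ⟨a, Finset.mem_univ _, rfl⟩))).some
  have ξm : l ⟶ m := (hl (Finset.mem_insert_self _ _)).some
  refine ⟨l.left, ?_⟩
  let p : ∀ a, (spStage D (g a)).obj l ⟶ D.obj l.left := fun a => pullback.snd (g a) (D.map l.hom)
  have hp : ∀ a, AlgSp.RepWith @IsOpenImmersion (p a) := fun a =>
    RepWith.baseChange (IsPullback.of_hasPullback _ _) (hg a)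
  have hrep : ∀ a, ((spStage D (g a)).obj l).obj.IsRepresentable := fun a => by
    obtain ⟨⟨e'⟩, hT'⟩ := And.intro (he a) (hTa a)
    obtain ⟨W', -, ⟨eW⟩⟩ := affine_of_affineMor
      (isAffineMor_of_isPullback (spStage_isPullback D (g a) (ξ a)).flip (hDa _ _ (ξ a).left)) hT' e'
    exact isRepresentable_of_iso_yon eW
  obtain ⟨W', hW'o, hW'r, hW'max⟩ := exists_largest_scheme_open (hD l.left)
  have huniv : W' = Set.univ := Set.eq_univ_of_forall fun y => by
    have hy : AlgSp.Points.map (D.map l.hom) y ∈ O := by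
      rw [← Over.w ξm, D.map_comp, AlgSp.Points.map_comp]
      exact hmO _
    obtain ⟨a, z, hz⟩ := Set.mem_iUnion.1 hy
    obtain ⟨w, -, hw⟩ := exists_point_of_isPullback (IsPullback.of_hasPullback (g a) (D.map l.hom)) hz
    exact hW'max _ (p a) (hp a) (hrep a) ⟨w, hw⟩
  obtain ⟨ε, -⟩ := Induct.exists_iso_of_range_eq (repWith_openSubspaceι _ hW'o) (repWith_of_isIso _ (𝟙 (D.obj l.left)))
    (by rw [range_openSubspaceι, huniv]; exact (Set.range_eq_univ.2 fun y => ⟨y, AlgSp.Points.map_id y⟩).symm)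
  obtain ⟨Y, ⟨eY⟩⟩ := exists_iso_yon_of_isRepresentable hW'r
  exact isRepresentable_of_iso_yon (eY ≪≫ ε)

end Groth.Agent.S10007
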