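import Groth.Statements.S10049
import Groth.Agent.S10007
import Groth.Agent.AlgSpLib.CutOut
import Groth.Agent.AlgSpLib.LimitClosed
import Groth.Agent.AlgSpLib.WeakAssEtSite
-- import your own Groth.Agent.* helpers here

set_option autoImplicit false
universe u
open CategoryTheory CategoryTheory.Limits AlgebraicGeometry
open AlgSp

namespace Groth.Agent.S10049

open Groth.Agent.AlgSpLib Groth.Agent.AlgSpLib.QCohEt

/-- factorisation through a monomorphism is detected on schemes -/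
theorem exists_fac_of_yon {S : Scheme.{u}} {T X Y : AlgSp.Sp S} (f : X ⟶ Y) [Mono f] (g : T ⟶ Y)
    (h : ∀ (U : Over S) (x : (AlgSp.yon S).obj U ⟶ T), ∃ k, k ≫ f = x ≫ g) : ∃ k, k ≫ f = g := by
  choose k hk using h
  refine ⟨⟨{ app := fun U => ↾fun t =>
      (AlgSp.J S).uliftYonedaEquiv (k U.unop ((AlgSp.J S).uliftYonedaEquiv.symm t))
             naturality := fun U U' m => ?_ }⟩, ?_⟩
  · ext t
    show (AlgSp.J S).uliftYonedaEquiv (k U'.unop ((AlgSp.J S).uliftYonedaEquiv.symm (T.obj.map m t))) =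
      X.obj.map m ((AlgSp.J S).uliftYonedaEquiv (k U.unop ((AlgSp.J S).uliftYonedaEquiv.symm t)))
    rw [GrothendieckTopology.uliftYonedaEquiv_naturality']
    congr 1
    rw [← cancel_mono f, Category.assoc, hk, hk, ← Category.assoc]
    congr 1
    exact ((AlgSp.J S).uliftYonedaEquiv_symm_naturality_left m.unop T t).symm
  · ext U t
    show f.hom.app U ((AlgSp.J S).uliftYonedaEquiv (k U.unop ((AlgSp.J S).uliftYonedaEquiv.symm t))) = g.hom.app U t
    rw [← GrothendieckTopology.uliftYonedaEquiv_comp, hk, GrothendieckTopology.uliftYonedaEquiv_comp,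
      Equiv.apply_symm_apply]

/-- quasi-coherent ideals are compared on an atlas -/
theorem ideal_le_of_chart {S : Scheme.{u}} {Y : AlgSp.Sp S} (hY : AlgSp.IsAlgSpace Y) {B : Over S}
    (b : (AlgSp.yon S).obj B ⟶ Y) (hbe : AlgSp.RepWith @Etale b) (hbs : AlgSp.RepWith @Surjective b)
    (hB : IsAffine B.left) {J K : AlgSp.IdealEt Y} (hJ : J.IsQCoh) (hK : K.IsQCoh)
    (h : J.ideal (AlgSp.EtOver.mk b hbe) hB ≤ K.ideal (AlgSp.EtOver.mk b hbe) hB) : J ≤ K := by
  obtain ⟨Z, i, -, hi⟩ := exists_isCutOutBy hY J hJ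
  obtain ⟨Z', i', -, hi'⟩ := exists_isCutOutBy hY K hK
  refine (le_iff_factors hY hi hi').2 ((factors_closed_iff hi'.1 hi.1 hbe hbs).2 ?_)
  haveI := hB
  refine Scheme.IdealSheafData.le_of_isAffine ?_
  have e := idealOfRep_eq_chartIdeal hi.1 (AlgSp.EtOver.mk b hbe) hB
  have e' := idealOfRep_eq_chartIdeal hi'.1 (AlgSp.EtOver.mk b hbe) hB
  rw [hi.2] at e
  rw [hi'.2] at e'
  exact e.symm.le.trans (h.trans e'.le)

/-- the supremum of a family of ideals -/
def supIdeal {S : Scheme.{u}} {X : AlgSp.Sp S} {ι : Type*} (J : ι → AlgSp.IdealEt X) : AlgSp.IdealEt X where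
  ideal E hE := ⨆ a, (J a).ideal E hE
  map_le g hE hE' := by
    rw [Ideal.map_iSup]
    exact iSup_mono fun a => (J a).map_le g hE hE'

theorem isQCoh_supIdeal {S : Scheme.{u}} {X : AlgSp.Sp S} {ι : Type*} (J : ι → AlgSp.IdealEt X)
    (h : ∀ a, (J a).IsQCoh) : (supIdeal J).IsQCoh := by
  intro E E' g hE hE'
  show ⨆ a, (J a).ideal E' hE' ≤ (⨆ a, (J a).ideal E hE).map _
  rw [Ideal.map_iSup]
  exact iSup_mono fun a => h a g hE hE'

theorem isRepresentable_of_iso {S : Scheme.{u}} {F G : AlgSp.Sp S} (h : F.obj.IsRepresentable) (e : F ≅ G) :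
    G.obj.IsRepresentable := by
  obtain ⟨Y, ⟨eY⟩⟩ := exists_iso_yon_of_isRepresentable h
  exact isRepresentable_of_iso_yon (eY ≪≫ e)

/-- Let `X` be an algebraic space, quasi-compact and quasi-separated over the scheme `S`, which is not a
scheme. Then there is a closed subspace `Z ⊂ X` which is not a scheme such that every proper closed
subspace `Z' ⊊ Z` is a scheme. (The published statement allows any base scheme and uses absolute
quasi-separatedness; this row assumes the base quasi-separated, over which quasi-separatedness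
relative to the base is the absolute notion.) -/
theorem result (S : Scheme.{u}) [QuasiSeparatedSpace S]
    (X : AlgSp.Space S) (hXqc : AlgSp.IsQuasiCompactSp X.obj) (hXqs : AlgSp.IsQuasiSeparatedSp X.obj) (hX : ¬ X.obj.obj.IsRepresentable) :
    ∃ (Z : AlgSp.Space S) (i : Z ⟶ X), AlgSp.RepWith @IsClosedImmersion i.hom ∧ ¬ Z.obj.obj.IsRepresentable ∧
      ∀ (Z' : AlgSp.Space S) (i' : Z' ⟶ Z), AlgSp.RepWith @IsClosedImmersion i'.hom → ¬ IsIso i' → Z'.obj.obj.IsRepresentable := by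
  classical
  haveI := compactSpace_points_of_isQuasiCompactSp hXqc
  obtain ⟨B, b, hB, hbe, hbs⟩ := Groth.Agent.AlgSpLib.exists_affine_chart X.property
  let E₀ : AlgSp.EtOver X.obj := AlgSp.EtOver.mk b hbe
  let T : Set (Ideal Γ(B.left, ⊤)) := {a | ∃ J : AlgSp.IdealEt X.obj, J.IsQCoh ∧ J.ideal E₀ hB = a ∧
    ∃ (Z : AlgSp.Sp S) (i : Z ⟶ X.obj), AlgSp.IsAlgSpace Z ∧ AlgSp.IsCutOutBy J i ∧ ¬ Z.obj.IsRepresentable}
  have hid : AlgSp.RepWith @IsClosedImmersion (𝟙 X.obj) := repWith_of_isIso _ _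
  have h0 : ((AlgSp.idealOfRep hid.1).ideal E₀ hB) ∈ T :=
    ⟨_, isQCoh_idealOfRep hid, rfl, X.obj, 𝟙 _, X.property, ⟨hid, rfl⟩, hX⟩
  have hzorn : ∀ c ⊆ T, IsChain (· ≤ ·) c → ∀ y ∈ c, ∃ ub ∈ T, ∀ z ∈ c, z ≤ ub := by
    intro c hcT hchain y hy
    let ι : Type u := {a // a ∈ c}
    choose J hJq hJ₀ Z i hZ hi hrep using fun a : ι => hcT a.2
    letI : Preorder ι := Preorder.lift (fun a : ι => a.1)
    haveI : Nonempty ι := ⟨⟨y, hy⟩⟩
    haveI : IsDirected ι (fun a a' => a ≤ a') := ⟨fun a a' => by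
      rcases hchain.total a.2 a'.2 with h | h
      · exact ⟨a', h, le_refl _⟩
      · exact ⟨a, le_refl _, h⟩⟩
    have hmono : ∀ a a' : ι, a ≤ a' → J a ≤ J a' := fun a a' haa =>
      ideal_le_of_chart X.property b hbe hbs hB (hJq a) (hJq a') (by rw [hJ₀, hJ₀]; exact haa)
    haveI : ∀ a, Mono (i a) := fun a => mono_closedImmersion (hi a).1
    choose k hk using fun (a a' : ι) (h : a ≤ a') => (le_iff_factors X.property (hi a) (hi a')).1 (hmono a a' h)
    let J' := supIdeal J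
    have hJ'q := isQCoh_supIdeal J hJq
    obtain ⟨Z', i', hZ', hi'⟩ := exists_isCutOutBy X.property J' hJ'q
    haveI : Mono i' := mono_closedImmersion hi'.1
    choose p hp using fun a : ι => (le_iff_factors X.property (hi a) hi').1
      fun E hE => le_iSup (fun a => (J a).ideal E hE) a
    let D : ιᵒᵖ ⥤ AlgSp.Sp S :=
      { obj := fun a => Z a.unop
        map := fun φ => k _ _ (leOfHom φ.unop)
        map_id := fun a => by rw [← cancel_mono (i a.unop), hk, Category.id_comp]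
        map_comp := fun {a b c} φ ψ => by rw [← cancel_mono (i c.unop), Category.assoc, hk, hk, hk] }
    let cn : Cone D :=
      { pt := Z'
        π :=
          { app := fun a => p a.unop
            naturality := fun a b φ => by
              rw [← cancel_mono (i b.unop)]
              erw [Category.id_comp, Category.assoc, hk, hp, hp] } }
    let a₀ : ι := ⟨y, hy⟩
    have hsame : ∀ (s : Cone D) (a : ι), s.π.app ⟨a⟩ ≫ i a = s.π.app ⟨a₀⟩ ≫ i a₀ := by
      intro s a
      obtain ⟨c', hc, hc'⟩ := directed_of (fun a a' : ι => a ≤ a') a a₀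
      rw [← s.w (homOfLE hc).op, ← s.w (homOfLE hc').op, Category.assoc, Category.assoc]
      exact congrArg (s.π.app ⟨c'⟩ ≫ ·) ((hk _ _ hc).trans (hk _ _ hc').symm)
    have hg : ∀ s : Cone D, ∃ l : s.pt ⟶ Z', l ≫ i' = s.π.app ⟨a₀⟩ ≫ i a₀ := fun s => by
      refine exists_fac_of_yon i' _ fun U x => ?_
      have hrep := X.property.representable_from_yon (x ≫ s.π.app ⟨a₀⟩ ≫ i a₀)
      refine (factors_iff_le_idealOfRep X.property hi' hrep).2 fun E hE => iSup_le fun a => ?_
      exact (factors_iff_le_idealOfRep X.property (hi a) hrep).1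
        ⟨x ≫ s.π.app ⟨a⟩, by rw [Category.assoc, hsame]⟩ E hE
    choose l hl using hg
    have hcn : IsLimit cn :=
      { lift := l
        fac := fun s a => by
          rw [← cancel_mono (i a.unop)]
          show (l s ≫ p a.unop) ≫ i a.unop = s.π.app a ≫ i a.unop
          rw [Category.assoc, hp, hl]
          exact (hsame s a.unop).symm
        uniq := fun s m hm => by
          rw [← cancel_mono i', hl, ← hm ⟨a₀⟩]
          exact (congrArg (m ≫ ·) (hp a₀).symm).trans (Category.assoc _ _ _).symm }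
    have hcl : ∀ (a a' : ιᵒᵖ) (φ : a ⟶ a'), AlgSp.RepWith @IsClosedImmersion (D.map φ) := fun a a' φ => by
      refine repWith_of_comp_mono _ (i a'.unop) ?_
      rw [show D.map φ ≫ i a'.unop = i a.unop from hk _ _ _]
      exact (hi a.unop).1
    have hqq := fun a => Groth.Agent.S10007.qc_qs_of_affineMor (hZ a) X.property (isAffineMor_of_closedImmersion (hi a).1)
    have hnot : ¬ Z'.obj.IsRepresentable := fun h => by
      obtain ⟨a, ha⟩ := Groth.Agent.S10007.result S D (fun a => hZ a.unop)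
        (fun a a' φ => isAffineMor_of_closedImmersion (hcl a a' φ))
        (fun a => (hqq a.unop).1 hXqc) (fun a => (hqq a.unop).2 hXqs) cn hcn h
      exact hrep a.unop ha
    refine ⟨J'.ideal E₀ hB, ⟨J', hJ'q, rfl, Z', i', hZ', hi', hnot⟩, fun z hz => ?_⟩
    exact (hJ₀ ⟨z, hz⟩).ge.trans (le_iSup (fun a => (J a).ideal E₀ hB) (⟨z, hz⟩ : ι))
  obtain ⟨m, -, ⟨J, hJq, hJ₀, Z, i, hZ, hi, hnrep⟩, hmax⟩ := zorn_le_nonempty₀ T hzorn _ h0
  refine ⟨⟨Z, hZ⟩, ObjectProperty.homMk i, hi.1, hnrep, fun Z₂ i₂ hi₂ hni => ?_⟩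
  by_contra hn₂
  haveI : Mono i := mono_closedImmersion hi.1
  haveI : Mono i₂.hom := mono_closedImmersion hi₂
  have hc₂ : AlgSp.RepWith @IsClosedImmersion (i₂.hom ≫ i) := RepWith.comp hi₂ hi.1
  let K := AlgSp.idealOfRep hc₂.1
  have hle : J ≤ K := (le_iff_factors X.property hi ⟨hc₂, rfl⟩).2 ⟨i₂.hom, rfl⟩
  have hKq : K.IsQCoh := isQCoh_idealOfRep hc₂
  have hKm : K.ideal E₀ hB ≤ m := hmax ⟨K, hKq, rfl, Z₂.obj, _, Z₂.property, ⟨hc₂, rfl⟩, hn₂⟩ (hJ₀.ge.trans (hle E₀ hB))
  obtain ⟨r, hr⟩ := (le_iff_factors X.property ⟨hc₂, rfl⟩ hi).1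
    (ideal_le_of_chart X.property b hbe hbs hB hKq hJq (hKm.trans hJ₀.ge))
  have hr' : r ≫ i₂.hom = 𝟙 _ := by rw [← cancel_mono i, Category.assoc, hr, Category.id_comp]
  refine hni ⟨ObjectProperty.homMk r, ?_, ?_⟩
  · ext : 1
    show i₂.hom ≫ r = 𝟙 _
    rw [← cancel_mono i₂.hom, Category.assoc, hr', Category.comp_id, Category.id_comp]
  · ext : 1
    exact hr'

end Groth.Agent.S10049
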