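import Groth.Statements.S9798
import Mathlib.AlgebraicGeometry.Noetherian
import Mathlib.Topology.KrullDimension
import Groth.Agent.Props12.Topo

set_option autoImplicit false
universe u
open CategoryTheory AlgebraicGeometry TopologicalSpace
open Props

namespace Groth.Agent.S9798

/-- A point of a locally Noetherian scheme has local dimension zero exactly when it is isolated. -/
theorem result (X : Scheme.{u}) [IsLocallyNoetherian X] (x : X) :
    FlatMor.localDim X x = 0 ↔ IsOpen ({x} : Set X) := by
  unfold FlatMor.localDim
  have hnonneg : ∀ U : {U : TopologicalSpace.Opens X // x ∈ U},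
      0 ≤ topologicalKrullDim (U.1 : Set X) := fun U => by
    have : Nonempty (TopologicalSpace.IrreducibleCloseds ↥(U.1 : Set X)) :=
      ⟨⟨closure {⟨x, U.2⟩}, isIrreducible_singleton.closure, isClosed_closure⟩⟩
    exact Order.krullDim_nonneg
  constructor
  · intro h
    obtain ⟨U, hU⟩ : ∃ U : {U : TopologicalSpace.Opens X // x ∈ U},
        topologicalKrullDim (U.1 : Set X) < 1 := by
      refine iInf_lt_iff.1 ?_
      rw [h]; exact zero_lt_one
    obtain ⟨V, hV, hxV, hVU⟩ := TopologicalSpace.Opens.isBasis_iff_nbhd.mp X.isBasis_affineOpens U.2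
    have : IsNoetherianRing Γ(X, V) := IsLocallyNoetherian.component_noetherian ⟨V, hV⟩
    have : TopologicalSpace.NoetherianSpace V := noetherianSpace_of_isAffineOpen V hV
    have hd : topologicalKrullDim V ≤ 0 := by
      have h1 : topologicalKrullDim V ≤ topologicalKrullDim (U.1 : Set X) :=
        ((Topology.IsEmbedding.inclusion hVU).isInducing).topologicalKrullDim_le
      have h2 := lt_of_le_of_lt h1 hU
      generalize topologicalKrullDim V = d at h2
      induction d using WithBot.recBotCoe with
      | bot => exact bot_le
      | coe n =>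
        have : n < 1 := WithBot.coe_lt_coe.1 h2
        exact WithBot.coe_le_coe.2 (ENat.lt_one_iff_eq_zero.1 this).le
    have hclosed : ∀ v : V, IsClosed ({v} : Set V) := fun v => by
      refine isClosed_of_closure_subset fun w hw => ?_
      exact (Groth.Agent.Props12.eq_of_specializes_of_dim_le_zero (X := AlgebraicGeometry.Scheme.Opens.toScheme V) hd
        (specializes_iff_mem_closure.2 hw)).symm
    have : T1Space V := ⟨hclosed⟩
    have hf : Finite V := by
      have hfin := TopologicalSpace.NoetherianSpace.finite_irreducibleComponents (α := V)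
      refine Set.finite_univ_iff.1 ?_
      rw [← sUnion_irreducibleComponents (X := V)]
      refine hfin.sUnion fun Z hZ => ?_
      have hg := hZ.1.isGenericPoint_genericPoint_closure (α := AlgebraicGeometry.Scheme.Opens.toScheme V)
      rw [(isClosed_of_mem_irreducibleComponents Z hZ).closure_eq] at hg
      rw [← hg.def]
      exact (Set.finite_singleton _).subset (closure_minimal subset_rfl (hclosed _))
    have hopen := (isOpen_discrete ({⟨x, hxV⟩} : Set V))
    have h3 := V.2.isOpenEmbedding_subtypeVal.isOpenMap _ hopen
    convert h3 using 1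
    ext y
    exact ⟨fun hy => ⟨⟨x, hxV⟩, rfl, hy.symm⟩, fun ⟨_, rfl, e⟩ => e.symm⟩
  · intro h
    refine le_antisymm ((iInf_le _ ⟨⟨{x}, h⟩, rfl⟩).trans ?_) (le_iInf hnonneg)
    have : Subsingleton ↥({x} : Set X) := ⟨fun a b => Subtype.ext (a.2.trans b.2.symm)⟩
    exact topologicalKrullDim_zero_of_discreteTopology _

end Groth.Agent.S9798
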