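import Groth.Statements.S10035
import Groth.Agent.AlgSpLib.QCohEtExtend
import Groth.Agent.AlgSpLib.CutOut
import Groth.Agent.AlgSpLib.MorQC
import Groth.Agent.AlgSpLib.MorSep
import Groth.Agent.AlgSpLib.FpqcBaseImm
-- import your own Groth.Agent.* helpers here

set_option autoImplicit false
universe u
open CategoryTheory CategoryTheory.Limits AlgebraicGeometry
open AlgSp

namespace Groth.Agent.S10035

open Groth.Agent.AlgSpLib Groth.Agent.AlgSpLib.QCohEt

/-- lifting of functions -/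
abbrev up {S : Scheme.{u}} {X : AlgSp.Sp S} (E : AlgSp.EtOver X) (a : Γ(E.obj.left.left, ⊤)) :
    Sec (AlgSp.unitModEt X) E :=
  (show ΓE E from (ULift.up a : ULift.{u + 1} Γ(E.obj.left.left, ⊤)))

/-- the value of a function -/
abbrev dn {S : Scheme.{u}} {X : AlgSp.Sp S} (E : AlgSp.EtOver X) (s : Sec (AlgSp.unitModEt X) E) :
    Γ(E.obj.left.left, ⊤) :=
  (show ULift.{u + 1} Γ(E.obj.left.left, ⊤) from (show ΓE E from s)).down

theorem mapSec_unit {S : Scheme.{u}} {X : AlgSp.Sp S} {E W : AlgSp.EtOver X} (g : W ⟶ E) (a : Γ(E.obj.left.left, ⊤)) :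
    mapSec (AlgSp.unitModEt X) g (up E a) = up W (g.hom.left.left.appTop.hom a) := rfl

theorem dn_smul {S : Scheme.{u}} {X : AlgSp.Sp S} (E : AlgSp.EtOver X) (r : ΓE E) (s : Sec (AlgSp.unitModEt X) E) :
    dn E (r • s) = (show ULift.{u + 1} Γ(E.obj.left.left, ⊤) from r).down * dn E s := rfl

theorem isQuasicoherent_unitModEt {S : Scheme.{u}} {X : AlgSp.Sp S} : (AlgSp.unitModEt X).IsQuasicoherent :=
  isQuasicoherent_of_forall _ fun E hE W hW => by
    have h : ∀ x, bcMap (AlgSp.unitModEt X) E W x =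
        (show Sec (AlgSp.unitModEt X) W.left from
          TensorProduct.rid (ΓE E) (ΓE W.left) x) := by
      intro x
      induction x using TensorProduct.induction_on with
      | zero => exact (map_zero _).trans (map_zero (TensorProduct.rid (ΓE E) (ΓE W.left))).symm
      | tmul a m =>
        refine (bcMap_tmul _ E W a m).trans (Eq.trans ?_ (TensorProduct.rid_tmul a (show ΓE E from m)).symm)
        show (a : ΓE W.left) * (ΓMap W.hom).hom (m : ΓE E) = (ΓMap W.hom).hom (m : ΓE E) * a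
        exact mul_comm _ _
      | add x y hx hy =>
        exact (map_add _ x y).trans ((congrArg₂ (· + ·) hx hy).trans
          (map_add (TensorProduct.rid (ΓE E) (ΓE W.left)) x y).symm)
    rw [show ⇑(bcMap (AlgSp.unitModEt X) E W) = fun x => (show Sec (AlgSp.unitModEt X) W.left from
      TensorProduct.rid (ΓE E) (ΓE W.left) x) from funext h]
    exact (TensorProduct.rid (ΓE E) (ΓE W.left)).bijective

/-- a quasi-coherent ideal as a submodule of the structure sheaf -/
def ofIdeal {S : Scheme.{u}} {X : AlgSp.Sp S} (I : AlgSp.IdealEt X) (hI : I.IsQCoh) :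
    QSub (AlgSp.unitModEt X) where
  P E hE :=
    { carrier := {s | dn E s ∈ I.ideal E hE}
      add_mem' := fun ha hb => (I.ideal E hE).add_mem ha hb
      zero_mem' := (I.ideal E hE).zero_mem
      smul_mem' := fun _ _ ha => (I.ideal E hE).mul_mem_left _ ha }
  span_eq {E W} hE hW g := by
    refine le_antisymm (Submodule.span_le.2 ?_) fun s hs => ?_
    · rintro _ ⟨s, hs, rfl⟩
      exact I.map_le g hE hW (Ideal.mem_map_of_mem g.hom.left.left.appTop.hom hs)
    · suffices hh : ∀ a ∈ (I.ideal E hE).map g.hom.left.left.appTop.hom, up W a ∈ Submodule.span (ΓE W)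
          (mapSec (AlgSp.unitModEt X) g '' {s | dn E s ∈ I.ideal E hE}) from
        hh _ (hI g hE hW (show dn W s ∈ I.ideal W hW from hs))
      intro a h
      induction h using Submodule.span_induction with
      | mem v hv =>
        obtain ⟨a, ha, rfl⟩ := hv
        exact Submodule.subset_span ⟨up E a, ha, mapSec_unit g a⟩
      | zero => exact zero_mem (Submodule.span _ _)
      | add v w _ _ hv hw => exact add_mem (S := Submodule (ΓE W) (Sec (AlgSp.unitModEt X) W)) hv hw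
      | smul r v _ hv =>
        exact Submodule.smul_mem _ (show ΓE W from (ULift.up r : ULift.{u + 1} Γ(W.obj.left.left, ⊤))) hv

theorem exists_fg_ideal {S : Scheme.{u}} [QuasiSeparatedSpace ↥S] (X : AlgSp.Space S)
    (hqc : AlgSp.IsQuasiCompactSp X.obj) (hqs : AlgSp.IsQuasiSeparatedSp X.obj) (I : AlgSp.IdealEt X.obj)
    (hI : I.IsQCoh) (E₀ : AlgSp.EtOver X.obj) (hE₀ : IsAffine E₀.obj.left.left)
    (t : Finset Γ(E₀.obj.left.left, ⊤)) (ht : (t : Set Γ(E₀.obj.left.left, ⊤)) ⊆ I.ideal E₀ hE₀) :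
    ∃ J : AlgSp.IdealEt X.obj, J.IsQCoh ∧ (∀ E hE, (J.ideal E hE).FG) ∧ (∀ E hE, J.ideal E hE ≤ I.ideal E hE) ∧
      (t : Set Γ(E₀.obj.left.left, ⊤)) ⊆ J.ideal E₀ hE₀ := by
  classical
  haveI := isQuasicoherent_unitModEt (X := X.obj)
  let Qi := ofIdeal I hI
  haveI := Qi.isQuasicoherent_obj
  obtain ⟨R, hR, hRt⟩ := exists_fg_containing hqc hqs Qi.obj (fun _ : Fin t.card => E₀) (fun _ => hE₀)
    (fun l => ⟨up E₀ (t.equivFin.symm l).1, (Qi.mem_sub_iff hE₀ _).2 (ht (t.equivFin.symm l).2)⟩)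
  haveI := R.isQuasicoherent_obj
  haveI := R.isFiniteType_obj hR
  let Q := QSub.image (R.incl ≫ Qi.incl)
  let J : ∀ E : AlgSp.EtOver X.obj, IsAffine E.obj.left.left → Ideal Γ(E.obj.left.left, ⊤) := fun E hE =>
    { carrier := {a | up E a ∈ Q.P E hE}
      add_mem' := fun ha hb => (Q.P E hE).add_mem ha hb
      zero_mem' := (Q.P E hE).zero_mem
      smul_mem' := fun r a ha =>
        (Q.P E hE).smul_mem (show ΓE E from (ULift.up r : ULift.{u + 1} Γ(E.obj.left.left, ⊤))) ha }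
  refine ⟨⟨J, fun {E E'} g hE hE' => Ideal.map_le_iff_le_comap.2 fun a ha => ?_⟩, fun E E' g hE hE' a ha => ?_,
    fun E hE => ?_, fun E hE a ha => ?_, fun a ha => ?_⟩
  · exact Q.map_mem hE hE' g (show up E a ∈ Q.P E hE from ha)
  · have h : up E' a ∈ Submodule.span (ΓE E') (mapSec (AlgSp.unitModEt X.obj) g '' (Q.P E hE : Set _)) :=
      (Q.span_eq hE hE' g).symm ▸ ha
    have : ∀ s ∈ Submodule.span (ΓE E') (mapSec (AlgSp.unitModEt X.obj) g '' (Q.P E hE : Set _)),
        dn E' s ∈ (J E hE).map g.hom.left.left.appTop.hom := by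
      intro s hs
      induction hs using Submodule.span_induction with
      | mem v hv =>
        obtain ⟨b, hb, rfl⟩ := hv
        exact Ideal.mem_map_of_mem g.hom.left.left.appTop.hom (show dn E b ∈ J E hE from hb)
      | zero => exact Ideal.zero_mem _
      | add v w _ _ hv hw => exact Ideal.add_mem _ hv hw
      | smul r v _ hv => exact Ideal.mul_mem_left _ _ hv
    exact this _ h
  · obtain ⟨g, hg⟩ := QSub.fg_image (R.incl ≫ Qi.incl) E hE
    refine ⟨g.image (dn E), le_antisymm (Ideal.span_le.2 ?_) fun a ha => ?_⟩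
    · intro b hb
      obtain ⟨s, hs, rfl⟩ := Finset.mem_image.1 (Finset.mem_coe.1 hb)
      exact (show s ∈ Q.P E hE from hg.le (Submodule.subset_span hs))
    · have ha' : up E a ∈ Submodule.span (ΓE E) (g : Set _) := hg.symm ▸ ha
      have : ∀ s ∈ Submodule.span (ΓE E) (g : Set (Sec (AlgSp.unitModEt X.obj) E)),
          dn E s ∈ Ideal.span ((g.image (dn E) : Finset _) : Set Γ(E.obj.left.left, ⊤)) := by
        intro s hs
        induction hs using Submodule.span_induction with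
        | mem v hv => exact Ideal.subset_span (Finset.mem_coe.2 (Finset.mem_image_of_mem _ hv))
        | zero => exact Ideal.zero_mem _
        | add v w _ _ hv hw => exact Ideal.add_mem _ hv hw
        | smul r v _ hv => exact Ideal.mul_mem_left _ _ hv
      exact this _ ha'
  · obtain ⟨b, hb⟩ := (show up E a ∈ Q.P E hE from ha)
    have h : up E a ∈ Qi.P E hE := (Qi.range_incl hE).subset ⟨secMap R.incl E b, hb⟩
    exact h
  · obtain ⟨b, hb⟩ := (R.range_incl (E := E₀) hE₀).symm.subset (hRt (t.equivFin ⟨a, ha⟩))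
    refine ⟨b, (congrArg Subtype.val hb).trans ?_⟩
    show up E₀ _ = up E₀ a
    rw [Equiv.symm_apply_apply]

/-- factorisation through a monomorphism is detected on schemes -/
theorem exists_fac_of_yon {S : Scheme.{u}} {T X Y : AlgSp.Sp S} (f : X ⟶ Y) [Mono f] (g : T ⟶ Y)
    (h : ∀ (U : Over S) (x : (AlgSp.yon S).obj U ⟶ T), ∃ k, k ≫ f = x ≫ g) : ∃ k, k ≫ f = g := by
  choose k hk using h
  refine ⟨⟨{ app := fun U => ↾fun t =>
      (AlgSp.J S).uliftYonedaEquiv (k U.unop ((AlgSp.J S).uliftYonedaEquiv.symm t))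
             naturality := fun U U' m => ?_ }⟩, ?_⟩
  · ext t
    show (AlgSp.J S).uliftYonedaEquiv (k U'.unop ((AlgSp.J S).uliftYonedaEquiv.symm (T.obj.map m t))) =
      X.obj.map m ((AlgSp.J S).uliftYonedaEquiv (k U.unop ((AlgSp.J S).uliftYonedaEquiv.symm t)))
    rw [GrothendieckTopology.uliftYonedaEquiv_naturality']
    congr 1
    rw [← cancel_mono f, Category.assoc, hk, hk, ← Category.assoc]
    congr 1
    exact ((AlgSp.J S).uliftYonedaEquiv_symm_naturality_left m.unop T t).symm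
  · ext U t
    show f.hom.app U ((AlgSp.J S).uliftYonedaEquiv (k U.unop ((AlgSp.J S).uliftYonedaEquiv.symm t))) = g.hom.app U t
    rw [← GrothendieckTopology.uliftYonedaEquiv_comp, hk, GrothendieckTopology.uliftYonedaEquiv_comp,
      Equiv.apply_symm_apply]

/-- quasi-coherent ideals are compared on an atlas -/
theorem ideal_le_of_chart {S : Scheme.{u}} {Y : AlgSp.Sp S} (hY : AlgSp.IsAlgSpace Y) {B : Over S}
    (b : (AlgSp.yon S).obj B ⟶ Y) (hbe : AlgSp.RepWith @Etale b) (hbs : AlgSp.RepWith @Surjective b)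
    (hB : IsAffine B.left) {J K : AlgSp.IdealEt Y} (hJ : J.IsQCoh) (hK : K.IsQCoh)
    (h : J.ideal (AlgSp.EtOver.mk b hbe) hB ≤ K.ideal (AlgSp.EtOver.mk b hbe) hB) : J ≤ K := by
  obtain ⟨Z, i, -, hi⟩ := exists_isCutOutBy hY J hJ
  obtain ⟨Z', i', -, hi'⟩ := exists_isCutOutBy hY K hK
  refine (le_iff_factors hY hi hi').2 ((factors_closed_iff hi'.1 hi.1 hbe hbs).2 ?_)
  haveI := hB
  refine Scheme.IdealSheafData.le_of_isAffine ?_
  have e := idealOfRep_eq_chartIdeal hi.1 (AlgSp.EtOver.mk b hbe) hB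
  have e' := idealOfRep_eq_chartIdeal hi'.1 (AlgSp.EtOver.mk b hbe) hB
  rw [hi.2] at e
  rw [hi'.2] at e'
  exact e.symm.le.trans (h.trans e'.le)

theorem isQCoh_sup {S : Scheme.{u}} {Y : AlgSp.Sp S} {J K : AlgSp.IdealEt Y} (hJ : J.IsQCoh) (hK : K.IsQCoh) :
    (J ⊔ K).IsQCoh := by
  intro E E' g hE hE'
  show J.ideal E' hE' ⊔ K.ideal E' hE' ≤ (J.ideal E hE ⊔ K.ideal E hE).map _
  rw [Ideal.map_sup]
  exact sup_le_sup (hJ g hE hE') (hK g hE hE')

/-- a closed subspace cut out by finitely generated ideals is of finite presentation -/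
theorem isFinitePresentationMor_of_cutOut {S : Scheme.{u}} {Y Z : AlgSp.Sp S} (hY : AlgSp.IsAlgSpace Y)
    (hZ : AlgSp.IsAlgSpace Z) {i : Z ⟶ Y} {J : AlgSp.IdealEt Y} (h : AlgSp.IsCutOutBy J i)
    {B : Over S} (b : (AlgSp.yon S).obj B ⟶ Y) (hbe : AlgSp.RepWith @Etale b) (hbs : AlgSp.RepWith @Surjective b)
    (hB : IsAffine B.left) (hfg : (J.ideal (AlgSp.EtOver.mk b hbe) hB).FG) :
    AlgSp.IsFinitePresentationMor i := by
  have hi := h.1
  haveI := mono_closedImmersion hi
  have := etLocal_lfp.bc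
  have := etLocal_lfp.localTarget
  have : IsClosedImmersion (hi.1.snd b).left := hi.property_snd _
  have e := idealOfRep_eq_chartIdeal hi (AlgSp.EtOver.mk b hbe) hB
  rw [h.2] at e
  refine ⟨locP_of_repWith etLocal_lfp hZ ?_,
    (repWith_quasiCompact_iff hZ hY hi.1).1 (RepWith.mono (fun _ _ g (_ : IsClosedImmersion g) =>
      (inferInstance : QuasiCompact g)) hi), isQuasiSeparatedMor_of_mono i⟩
  have := isLocallySurjective_of_etale hbe hbs
  refine repWith_of_isLocallySurjective hi.1 b (hi.1.isPullback b) _ ((AlgSp.repWith_yon_map_iff _ _).2 ?_)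
  haveI : IsAffine B.left := hB
  obtain ⟨haff, hsurj⟩ := IsClosedImmersion.isAffine_surjective_of_isAffine (hi.1.snd b).left
  rw [HasRingHomProperty.iff_of_isAffine (P := @LocallyOfFinitePresentation)]
  refine RingHom.FinitePresentation.of_surjective _ hsurj ?_
  have hker : (chartIdeal hi b).ideal ⟨⊤, isAffineOpen_top B.left⟩ = RingHom.ker (hi.1.snd b).left.appTop.hom :=
    (hi.1.snd b).left.ker_apply _
  rw [← hker]
  exact e ▸ hfg

/-- Let `Y` be an algebraic space, quasi-compact and quasi-separated over the scheme `S`, and `f : X ⟶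
Y` a closed immersion from another algebraic space. Then `X` is the limit of a directed system of
closed subspaces `X_i ⟶ Y` of finite presentation whose transition maps are closed immersions (limit
in fppf sheaves, indexed by a nonempty directed preorder, compatible with `f`). (The published
statement allows any base scheme and uses absolute quasi-separatedness; this row assumes the base
quasi-separated, over which quasi-separatedness relative to the base is the absolute notion.) -/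
theorem result (S : Scheme.{u}) [QuasiSeparatedSpace S]
    {X Y : AlgSp.Space S} (f : X ⟶ Y) (hf : AlgSp.RepWith @IsClosedImmersion f.hom) (hYqc : AlgSp.IsQuasiCompactSp Y.obj) (hYqs : AlgSp.IsQuasiSeparatedSp Y.obj) :
    ∃ (I : Type u) (_ : Preorder I) (_ : IsDirected I (fun a b => a ≤ b)) (_ : Nonempty I) (D : Iᵒᵖ ⥤ AlgSp.Sp S)
      (t : D ⟶ (Functor.const Iᵒᵖ).obj Y.obj) (c : Cone D) (_ : IsLimit c) (e : c.pt ≅ X.obj),
      (∀ i, AlgSp.IsAlgSpace (D.obj i)) ∧ (∀ (i j : Iᵒᵖ) (φ : i ⟶ j), AlgSp.RepWith @IsClosedImmersion (D.map φ)) ∧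
      (∀ i, AlgSp.RepWith @IsClosedImmersion (t.app i) ∧ AlgSp.IsFinitePresentationMor (t.app i)) ∧ (∀ i, e.inv ≫ c.π.app i ≫ t.app i = f.hom) := by
  classical
  haveI : Mono f.hom := mono_closedImmersion hf
  let Iₓ := AlgSp.idealOfRep hf.1
  have hIq : Iₓ.IsQCoh := isQCoh_idealOfRep hf
  have hcut : AlgSp.IsCutOutBy Iₓ f.hom := ⟨hf, rfl⟩
  haveI := compactSpace_points_of_isQuasiCompactSp hYqc
  obtain ⟨B, b, hB, hbe, hbs⟩ := Groth.Agent.AlgSpLib.exists_affine_chart Y.property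
  let E₀ : AlgSp.EtOver Y.obj := AlgSp.EtOver.mk b hbe
  let Idx : Type u := {a : Ideal Γ(B.left, ⊤) // ∃ J : AlgSp.IdealEt Y.obj, J.IsQCoh ∧ (∀ E hE, (J.ideal E hE).FG) ∧
    J ≤ Iₓ ∧ J.ideal E₀ hB = a}
  choose J hJq hJfg hJle hJ₀ using fun a : Idx => a.2
  letI : Preorder Idx := Preorder.lift (fun a : Idx => a.1)
  have hmono : ∀ a a' : Idx, a ≤ a' → J a ≤ J a' := fun a a' haa =>
    ideal_le_of_chart Y.property b hbe hbs hB (hJq a) (hJq a') (by rw [hJ₀, hJ₀]; exact haa)
  have hgot : ∀ (K : AlgSp.IdealEt Y.obj), K.IsQCoh → (∀ E hE, (K.ideal E hE).FG) → K ≤ Iₓ →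
      ∃ a : Idx, a.1 = K.ideal E₀ hB ∧ K ≤ J a := fun K h1 h2 h3 => ⟨⟨K.ideal E₀ hB, K, h1, h2, h3, rfl⟩, rfl,
    ideal_le_of_chart Y.property b hbe hbs hB h1 (hJq _) (hJ₀ ⟨K.ideal E₀ hB, K, h1, h2, h3, rfl⟩).ge⟩
  obtain ⟨J₀, hJ₀q, hJ₀fg, hJ₀le, -⟩ := exists_fg_ideal Y hYqc hYqs Iₓ hIq E₀ hB ∅ (by simp)
  obtain ⟨a₀, -⟩ := hgot J₀ hJ₀q hJ₀fg hJ₀le
  choose Z i hZ hi using fun a : Idx => exists_isCutOutBy Y.property (J a) (hJq a)
  haveI : ∀ a, Mono (i a) := fun a => mono_closedImmersion (hi a).1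
  have hdir : ∀ a a' : Idx, ∃ c, a ≤ c ∧ a' ≤ c := by
    intro a a'
    obtain ⟨c, hc, -⟩ := hgot (J a ⊔ J a') (isQCoh_sup (hJq a) (hJq a'))
      (fun E hE => Submodule.FG.sup (hJfg a E hE) (hJfg a' E hE)) (fun E hE => sup_le (hJle a E hE) (hJle a' E hE))
    exact ⟨c, (hJ₀ a).ge.trans ((le_sup_left).trans hc.ge), (hJ₀ a').ge.trans ((le_sup_right).trans hc.ge)⟩
  choose k hk using fun (a a' : Idx) (h : a ≤ a') => (le_iff_factors Y.property (hi a) (hi a')).1 (hmono a a' h)
  choose p hp using fun a : Idx => (le_iff_factors Y.property (hi a) hcut).1 (hJle a)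
  let D : Idxᵒᵖ ⥤ AlgSp.Sp S :=
    { obj := fun a => Z a.unop
      map := fun φ => k _ _ (leOfHom φ.unop)
      map_id := fun a => by rw [← cancel_mono (i a.unop), hk, Category.id_comp]
      map_comp := fun {a b c} φ ψ => by rw [← cancel_mono (i c.unop), Category.assoc, hk, hk, hk] }
  let t : D ⟶ (Functor.const Idxᵒᵖ).obj Y.obj :=
    { app := fun a => i a.unop
      naturality := fun a b φ => (hk _ _ (leOfHom φ.unop)).trans (Category.comp_id _).symm }
  let c : Cone D :=
    { pt := X.obj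
      π :=
        { app := fun a => p a.unop
          naturality := fun a b φ => by
            rw [← cancel_mono (i b.unop)]
            erw [Category.id_comp, Category.assoc, hk, hp, hp] } }
  have hg : ∀ s : Cone D, ∃ l : s.pt ⟶ X.obj, l ≫ f.hom = s.π.app ⟨a₀⟩ ≫ i a₀ := by
    intro s
    have hsame : ∀ a : Idx, s.π.app ⟨a⟩ ≫ i a = s.π.app ⟨a₀⟩ ≫ i a₀ := by
      intro a
      obtain ⟨c', hc, hc'⟩ := hdir a a₀
      rw [← s.w (homOfLE hc).op, ← s.w (homOfLE hc').op, Category.assoc, Category.assoc]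
      exact congrArg (s.π.app ⟨c'⟩ ≫ ·) ((hk _ _ hc).trans (hk _ _ hc').symm)
    refine exists_fac_of_yon f.hom _ fun U x => ?_
    have hrep := Y.property.representable_from_yon (x ≫ s.π.app ⟨a₀⟩ ≫ i a₀)
    refine (factors_iff_le_idealOfRep Y.property hcut hrep).2 fun E hE v hv => ?_
    obtain ⟨K, hK1, hK2, hK3, hK4⟩ := exists_fg_ideal Y hYqc hYqs Iₓ hIq E hE {v} (by simpa using hv)
    obtain ⟨a, -, haK⟩ := hgot K hK1 hK2 hK3
    exact (factors_iff_le_idealOfRep Y.property (hi a) hrep).1 ⟨x ≫ s.π.app ⟨a⟩, by rw [Category.assoc, hsame]⟩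
      E hE (haK E hE (hK4 (by simp)))
  choose l hl using hg
  refine ⟨Idx, inferInstance, ⟨hdir⟩, ⟨a₀⟩, D, t, c,
    { lift := l
      fac := fun s a => ?_
      uniq := fun s m hm => ?_ }, Iso.refl _, fun a => hZ a.unop, fun a a' φ => ?_, fun a => ?_, fun a => ?_⟩
  · rw [← cancel_mono (i a.unop)]
    obtain ⟨c', hc, hc'⟩ := hdir a.unop a₀
    show (l s ≫ p a.unop) ≫ i a.unop = s.π.app a ≫ i a.unop
    rw [Category.assoc, hp, hl, ← s.w (homOfLE hc).op, ← s.w (homOfLE hc').op, Category.assoc, Category.assoc]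
    exact congrArg (s.π.app ⟨c'⟩ ≫ ·) ((hk _ _ hc').trans (hk _ _ hc).symm)
  · rw [← cancel_mono f.hom, hl, ← hm ⟨a₀⟩]
    exact (congrArg (m ≫ ·) (hp a₀).symm).trans (Category.assoc _ _ _).symm
  · refine repWith_of_comp_mono _ (i a'.unop) ?_
    rw [show D.map φ ≫ i a'.unop = i a.unop from hk _ _ _]
    exact (hi a.unop).1
  · exact ⟨(hi a.unop).1, isFinitePresentationMor_of_cutOut Y.property (hZ a.unop) (hi a.unop) b hbe hbs hB
      (hJfg a.unop E₀ hB)⟩
  · exact (Category.id_comp _).trans (hp a.unop)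

end Groth.Agent.S10035
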