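import Groth.Statements.S9960
import Groth.Agent.AlgSpLib.MorProper
import Groth.Agent.EGA43.Limit.Basic
-- import your own Groth.Agent.* helpers here

set_option autoImplicit false
universe u
open CategoryTheory CategoryTheory.Limits AlgebraicGeometry
open AlgSp

namespace Groth.Agent.S9960

open Groth.Agent.AlgSpLib

/-- The diagonal of a morphism locally of finite type is locally of finite presentation, and of finite
presentation when the morphism is also quasi-separated. -/
theorem result {S : Scheme.{u}} {X Y : AlgSp.Space S} (f : X ⟶ Y)
    (hf : AlgSp.LocP @LocallyOfFiniteType f.hom) :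
    AlgSp.LocP @LocallyOfFinitePresentation (pullback.diagonal f.hom) ∧
    (AlgSp.IsQuasiSeparatedMor f.hom → AlgSp.IsFinitePresentationMor (pullback.diagonal f.hom)) := by
  have hP := isAlgSpace_pullback f.hom f.hom
  have hd := representable_diagonal X.property f.hom
  have h1 : AlgSp.LocP @LocallyOfFinitePresentation (pullback.diagonal f.hom) := by
    refine locP_of_comp' etLocal_lfp X.property hP X.property (g := pullback.fst f.hom f.hom)
      (fun _ _ _ a b h1 h2 =>
        @Groth.Agent.EGA43.Limit.locallyOfFinitePresentation_of_comp _ _ _ a b h2 h1) ?_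
      (locP_of_isPullback etLocal_lft X.property Y.property hP
        (IsPullback.of_hasPullback f.hom f.hom).flip hf)
    rw [pullback.diagonal_fst]
    exact locP_id etLocal_lfp X.property
  refine ⟨h1, fun hqs => ⟨h1, (repWith_quasiCompact_iff X.property hP hd).1 hqs, ?_⟩⟩
  exact isQuasiSeparatedMor_of_mono _

end Groth.Agent.S9960
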