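import Groth.Statements.S10048
import Groth.Agent.AlgSpLib.SchemeStage
import Groth.Agent.AlgSpLib.FpqcBaseAffine2
import Groth.Agent.S10033
import Groth.Agent.S10375
-- import your own Groth.Agent.* helpers here

set_option autoImplicit false
universe u
open CategoryTheory CategoryTheory.Limits AlgebraicGeometry
open AlgSp

namespace Groth.Agent.S10048

open Groth.Agent.AlgSpLib

/-- Let `X` be an algebraic space, quasi-compact and quasi-separated over the scheme `S`, and `U ⟶ X` a
surjective etale morphism from a scheme. Then there are a scheme `Y` and a finite surjective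
morphism `Y ⟶ X` of finite presentation such that every point of `Y` has an open neighbourhood whose
map to `X` factors through `U`. (The published statement lets `U` be any algebraic space; this row
takes `U` a scheme, which is equivalent after composing with an etale atlas of `U`; its part (1), a
finite surjective finitely presented cover of `X` by a scheme, is the case where `U` is an etale
atlas of `X`.) (The published statement allows any base scheme and uses absolute
quasi-separatedness; this row assumes the base quasi-separated, over which quasi-separatedness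
relative to the base is the absolute notion.) -/
theorem result (S : Scheme.{u}) [QuasiSeparatedSpace S]
    (X : AlgSp.Space S) (hXqc : AlgSp.IsQuasiCompactSp X.obj) (hXqs : AlgSp.IsQuasiSeparatedSp X.obj)
    (U : Over S) (p : (AlgSp.yon S).obj U ⟶ X.obj) (hpe : AlgSp.RepWith @Etale p) (hps : AlgSp.RepWith @Surjective p) :
    ∃ (Y : Over S) (g : (AlgSp.yon S).obj Y ⟶ X.obj),
      AlgSp.IsFiniteMor g ∧ AlgSp.IsSurjectiveMor g ∧ AlgSp.IsFinitePresentationMor g ∧
      ∀ y : ↥Y.left, ∃ (V : Y.left.Opens), y ∈ V ∧
        ∃ k : Over.mk (V.ι ≫ Y.hom) ⟶ U, (AlgSp.yon S).map k ≫ p = (AlgSp.yon S).map (Over.homMk V.ι) ≫ g := by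
  classical
  obtain ⟨Y₀, g₀, hgi, hgs, hloc⟩ := S10375.result X hXqc hXqs p hpe hps
  obtain ⟨I, _, _, _, D, t, c, hc, e, hD, hDa, hDt, hce⟩ := S10033.result S
    (X := ⟨(AlgSp.yon S).obj Y₀, IsAlgSpace.yon_obj _⟩) (Y := X) (ObjectProperty.homMk g₀)
    ((isIntegralMor_iff_repWith g₀).2 hgi) hXqc hXqs
  have hta : ∀ i, AlgSp.IsAffineMor (t.app i) := fun i => VCart.isAffineMor_of_finiteMor (hDt i).1
  obtain ⟨i, Y, ε, hY⟩ := SchStage.exists_scheme_stage hXqc hXqs D t c hc hD hDa hta e g₀ hce p hpe hloc
  refine ⟨Y, ε.hom ≫ t.app i, ?_, fun x => ?_, ?_, hY⟩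
  · exact (isFiniteMor_iff_repWith _).2
      (RepWith.comp (repWith_of_isIso @IsFinite ε.hom) ((isFiniteMor_iff_repWith _).1 (hDt i).1))
  · obtain ⟨y, rfl⟩ := surjective_map_of_repWith hgs x
    refine ⟨AlgSp.Points.map (e.inv ≫ c.π.app i ≫ ε.inv) y, ?_⟩
    rw [← AlgSp.Points.map_comp]
    simp only [Category.assoc, Iso.inv_hom_id_assoc]
    exact congrArg (fun q => AlgSp.Points.map q y) (hce i)
  · haveI : Mono ε.hom := inferInstance
    refine ⟨locP_comp etLocal_lfp (IsAlgSpace.yon_obj _) (hD i) X.property
      (locP_of_repWith etLocal_lfp (IsAlgSpace.yon_obj _) (RepWith.mono (fun _ _ q (_ : IsOpenImmersion q) => (inferInstance : LocallyOfFinitePresentation q)) (repWith_of_isIso @IsOpenImmersion ε.hom)))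
      (hDt i).2.1, ?_, isQuasiSeparatedMor_comp (isQuasiSeparatedMor_of_mono _) (hDt i).2.2.2⟩
    exact isQuasiCompactMor_comp (IsAlgSpace.yon_obj _) (hD i) X.property
      ((repWith_quasiCompact_iff (IsAlgSpace.yon_obj _) (hD i) (repWith_of_isIso @QuasiCompact ε.hom).1).1
        (repWith_of_isIso @QuasiCompact ε.hom)) (hDt i).2.2.1

end Groth.Agent.S10048
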