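import Groth.Statements.S10271
import Groth.Agent.AlgSpLib.MorMore
import Groth.Agent.AlgSpLib.FpqcBaseImm
-- import your own Groth.Agent.* helpers here

set_option autoImplicit false
universe u
open CategoryTheory CategoryTheory.Limits AlgebraicGeometry
open AlgSp

namespace Groth.Agent.S10271

/-- A morphism of algebraic spaces is finite if and only if it is affine and proper. -/
theorem result {S : Scheme.{u}} {X Y : AlgSp.Space S} (f : X ⟶ Y) :
    AlgSp.IsFiniteMor f.hom ↔ (AlgSp.IsAffineMor f.hom ∧ AlgSp.IsProperMor f.hom) := by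
  rw [Groth.Agent.AlgSpLib.isFiniteMor_iff_repWith, Groth.Agent.AlgSpLib.isAffineMor_iff_repWith]
  constructor
  · intro h
    exact ⟨Groth.Agent.AlgSpLib.RepWith.mono (fun _ _ g (_ : IsFinite g) => (inferInstance : IsAffineHom g)) h,
      Groth.Agent.AlgSpLib.isProperMor_of_repWith X.property Y.property
        (Groth.Agent.AlgSpLib.RepWith.mono (fun _ _ g (_ : IsFinite g) => (inferInstance : IsProper g)) h)⟩
  · rintro ⟨h, hp⟩
    have hu := (Groth.Agent.AlgSpLib.repWith_universallyClosed_iff h.1).2 hp.2.2
    have hl := (Groth.Agent.AlgSpLib.repWith_iff_locP Groth.Agent.AlgSpLib.etLocal_lft X.property Y.property h.1).2 hp.2.1.1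
    refine ⟨h.1, fun U V g fst snd sq => ?_⟩
    have : UniversallyClosed snd.left := hu.2 g fst snd sq
    have : LocallyOfFiniteType snd.left := hl.2 g fst snd sq
    have : IsAffineHom snd.left := h.2 g fst snd sq
    have : IsIntegralHom snd.left :=
      IsIntegralHom.iff_universallyClosed_and_isAffineHom.2 ⟨inferInstance, inferInstance⟩
    exact (IsFinite.iff_isIntegralHom_and_locallyOfFiniteType _).2 ⟨‹IsIntegralHom snd.left›, ‹LocallyOfFiniteType snd.left›⟩

end Groth.Agent.S10271
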