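import Groth.Statements.S10274
import Groth.Agent.AlgSpLib.MorProper
-- import your own Groth.Agent.* helpers here

set_option autoImplicit false
universe u
open CategoryTheory CategoryTheory.Limits AlgebraicGeometry
open AlgSp

namespace Groth.Agent.S10274

open Groth.Agent.AlgSpLib

/-- (4) ⇒ (1): properness of a morphism of algebraic spaces descends along a surjective etale base
change from a scheme. -/
theorem result {S : Scheme.{u}} {X Y : AlgSp.Space S} (f : X ⟶ Y) (V : Over S)
    (p : (AlgSp.yon S).obj V ⟶ Y.obj) (hp : AlgSp.RepWith @Etale p) (hps : AlgSp.RepWith @Surjective p)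
    {P : AlgSp.Sp S} (fst : P ⟶ X.obj) (snd : P ⟶ (AlgSp.yon S).obj V) (sq : IsPullback fst snd f.hom p)
    (h : AlgSp.IsProperMor snd) : AlgSp.IsProperMor f.hom := by
  obtain ⟨h1, ⟨h2, h3⟩, h4⟩ := h
  refine ⟨repWith_diagonal_of_cover X.property hp hps sq _ h1,
    ⟨locP_of_target_cover etLocal_lft X.property Y.property p hp hps sq h2,
    isQuasiCompactMor_of_univOpen_cover X.property Y.property (AlgSp.IsAlgSpace.yon_obj V) sq
      (isUnivOpenMor_of_isEtaleMor (AlgSp.IsAlgSpace.yon_obj V) Y.property
        ((isEtaleMor_iff_locP etLocal_etale (AlgSp.IsAlgSpace.yon_obj V) Y.property p).2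
          (locP_of_repWith etLocal_etale (AlgSp.IsAlgSpace.yon_obj V) hp)))
      (surjective_map_of_repWith hps) h3⟩,
    isUnivClosedMor_of_cover X.property Y.property p hp hps sq h4⟩

end Groth.Agent.S10274
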