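import Groth.Statements.S10032
import Groth.Agent.AlgSpLib.VCartLimit
-- import your own Groth.Agent.* helpers here

set_option autoImplicit false
universe u
open CategoryTheory CategoryTheory.Limits AlgebraicGeometry
open AlgSp

namespace Groth.Agent.S10032

open Groth.Agent.AlgSpLib Groth.Agent.AlgSpLib.VCart

/-- Let `Y` be an algebraic space, quasi-compact and quasi-separated over the scheme `S`, and `f : X ⟶
Y` an affine morphism from another algebraic space. Then `X` is the limit of a directed system of
algebraic spaces `X_i`, each affine over `Y` and of finite presentation over `Y` (limit in fppf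
sheaves, indexed by a nonempty directed preorder, affine transition maps, compatible with `f`). (The
published statement allows any base scheme and uses absolute quasi-separatedness; this row assumes
the base quasi-separated, over which quasi-separatedness relative to the base is the absolute
notion.) -/
theorem result (S : Scheme.{u}) [QuasiSeparatedSpace S]
    {X Y : AlgSp.Space S} (f : X ⟶ Y) (hf : AlgSp.IsAffineMor f.hom) (hYqc : AlgSp.IsQuasiCompactSp Y.obj) (hYqs : AlgSp.IsQuasiSeparatedSp Y.obj) :
    ∃ (I : Type u) (_ : Preorder I) (_ : IsDirected I (fun a b => a ≤ b)) (_ : Nonempty I) (D : Iᵒᵖ ⥤ AlgSp.Sp S)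
      (t : D ⟶ (Functor.const Iᵒᵖ).obj Y.obj) (c : Cone D) (_ : IsLimit c) (e : c.pt ≅ X.obj),
      (∀ i, AlgSp.IsAlgSpace (D.obj i)) ∧ (∀ (i j : Iᵒᵖ) (φ : i ⟶ j), AlgSp.IsAffineMor (D.map φ)) ∧
      (∀ i, AlgSp.IsAffineMor (t.app i) ∧ AlgSp.IsFinitePresentationMor (t.app i)) ∧ (∀ i, e.inv ≫ c.π.app i ≫ t.app i = f.hom) := by
  haveI := compactSpace_points_of_isQuasiCompactSp hYqc
  obtain ⟨B, b, hB, hbe, hbs⟩ := Groth.Agent.AlgSpLib.exists_affine_chart Y.property
  let E₀ : AlgSp.EtOver Y.obj := AlgSp.EtOver.mk b hbe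
  have hr : AlgSp.Representable f.hom := ((isAffineMor_iff_repWith _).1 hf).1
  obtain ⟨g⟩ := exists_gens hr hf hYqc hYqs E₀ hB
  obtain ⟨hc⟩ := Gens.nonempty_isLimit (g := g) (h₀ := hB) X.property hf hYqs hbs
  exact ⟨g.Idx hB, inferInstance, Gens.isDirected_idx hbs, Gens.nonempty_idx X.property hf hYqs hbs, Gens.sysD,
    Gens.sysT, Gens.sysC hbs, hc, Iso.refl _, fun i => i.unop.sub.alg, Gens.isAffineMor_sysD hbs,
    fun i => ⟨Gens.isAffineMor_sysT hbs i, Gens.isFinitePresentationMor_sysT hbs i⟩,
    fun i => (Category.id_comp _).trans (Gens.sysC_sysT X.property hf hYqs hbs i)⟩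

end Groth.Agent.S10032
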