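import Groth.Statements.S9678
import Mathlib
import Groth.Agent.Misc15.SpreadIso
import Groth.Agent.Misc15.GenericPoints
-- import your own Groth.Agent.* helpers here

set_option autoImplicit false
universe u
open CategoryTheory CategoryTheory.Limits AlgebraicGeometry
open Mor

namespace Groth.Agent.S9678
set_option backward.isDefEq.respectTransparency false

/-- Suppose X and Y have finitely many irreducible components and f : X ⟶ Y is birational, i.e. f
restricts to a bijection between the generic points of the irreducible components of X and those of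
Y and induces an isomorphism of local rings at every generic point of an irreducible component of X.
Suppose moreover that Y is reduced and f is locally of finite type, or alternatively that f is
locally finitely presented. Then there are dense opens U ⊆ X and V ⊆ Y with f(U) ⊆ V such that the
restriction U ⟶ V of f is an isomorphism. -/
theorem result {X Y : Scheme.{u}} (f : X ⟶ Y)
    (hXfin : (irreducibleComponents ↥X).Finite) (hYfin : (irreducibleComponents ↥Y).Finite)
    (hbij : Set.BijOn (fun x : X => f.base x) {x : X | closure {x} ∈ irreducibleComponents ↥X}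
      {y : Y | closure {y} ∈ irreducibleComponents ↥Y})
    (hiso : ∀ x : X, closure {x} ∈ irreducibleComponents ↥X → IsIso (f.stalkMap x))
    (hf : (LocallyOfFiniteType f ∧ IsReduced Y) ∨ LocallyOfFinitePresentation f) :
    ∃ (U : X.Opens) (V : Y.Opens) (hUV : U ≤ f ⁻¹ᵁ V), Dense (U : Set ↥X) ∧ Dense (V : Set ↥Y) ∧
      IsIso (f.resLE V U hUV) := by
  classical
  -- local inverses
  have hloc : ∀ x : X, closure {x} ∈ irreducibleComponents ↥X →
      ∃ (V : Y.Opens) (_ : f x ∈ V) (g : V.toScheme ⟶ X), IsOpenImmersion g ∧ g ≫ f = V.ι ∧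
        x ∈ Set.range g := by
    intro x hx
    haveI := hiso x hx
    haveI : LocallyOfFiniteType f := hf.elim (·.1) (fun h => by infer_instance)
    have h1 := H8Lim.spread_out f (𝟙 Y) (x := x) (y := f x) rfl (f.stalkMap x) (by simp)
    have hpre : f.stalkMap x ≫ inv (f.stalkMap x) =
        Y.presheaf.stalkSpecializes (Inseparable.of_eq (rfl : (𝟙 Y : Y ⟶ Y) (f x) = f x)).specializes ≫
          (𝟙 Y : Y ⟶ Y).stalkMap (f x) := by simp
    have h2 : ∃ (V : Y.Opens) (hyV : f x ∈ V) (g : V.toScheme ⟶ X),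
        Spec.map (inv (f.stalkMap x)) ≫ X.fromSpecStalk x = V.fromSpecStalkOfMem (f x) hyV ≫ g ∧
          g ≫ f = V.ι ≫ 𝟙 Y := by
      rcases hf with ⟨_, _⟩ | _
      · haveI := Misc15.isGermInjectiveAt_of_finite hYfin (f x)
        exact spread_out_of_isGermInjective (𝟙 Y) f rfl (inv (f.stalkMap x)) hpre
      · exact H8Lim.spread_out (𝟙 Y) f rfl (inv (f.stalkMap x)) hpre
    obtain ⟨U, hxU, V, e, _, he1, he2⟩ := Misc15.spread_out_isIso_of_exists f (𝟙 Y) rfl (f.stalkMap x) h1 h2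
    rw [Category.comp_id] at he2
    refine ⟨V, ?_, inv e ≫ U.ι, inferInstance, ?_, ?_⟩
    · have : f x = V.ι (e ⟨x, hxU⟩) := (congr($he2 ⟨x, hxU⟩)).symm
      rw [this]; exact (e ⟨x, hxU⟩).2
    · rw [Category.assoc, ← he2, IsIso.inv_hom_id_assoc]
    · refine ⟨e ⟨x, hxU⟩, ?_⟩
      rw [← Scheme.Hom.comp_apply, IsIso.hom_inv_id_assoc]; rfl
  -- disjointify
  obtain ⟨W, hW, hWd⟩ := Misc15.exists_disjoint_nhds hYfin
  let G := {x : X // closure {x} ∈ irreducibleComponents ↥X}
  choose V₀ hV₀ g₀ hg₀ hgf₀ hxg₀ using hloc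
  let Vx : G → Y.Opens := fun x => V₀ x.1 x.2 ⊓ W (f x.1)
  let gx : ∀ x : G, (Vx x).toScheme ⟶ X := fun x => Y.homOfLE inf_le_left ≫ g₀ x.1 x.2
  have hgx : ∀ x : G, gx x ≫ f = (Vx x).ι := fun x => by
    simp only [gx, Category.assoc, hgf₀, Scheme.homOfLE_ι]
  let V : Y.Opens := ⨆ x : G, Vx x
  have hdisj : ∀ a b : G, a ≠ b → Disjoint (Vx a) (Vx b) := fun a b hab =>
    (hWd (f a.1) (f b.1) (hbij.mapsTo a.2) (hbij.mapsTo b.2) fun h => hab (Subtype.ext (hbij.injOn a.2 b.2 h))).mono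
      inf_le_right inf_le_right
  let c : V.toScheme.OpenCover := V.toScheme.openCoverOfIsOpenCover (fun x : G => V.ι ⁻¹ᵁ Vx x) (TopologicalSpace.IsOpenCover.mk (by
    rw [← Scheme.Hom.preimage_iSup, Scheme.Opens.ι_preimage_self]))
  let gc : ∀ x : G, (V.ι ⁻¹ᵁ Vx x).toScheme ⟶ X := fun x => (V.ι ∣_ Vx x) ≫ gx x
  have hgc : ∀ x : G, gc x ≫ f = (V.ι ⁻¹ᵁ Vx x).ι ≫ V.ι := fun x => by
    simp only [gc, Category.assoc, hgx, morphismRestrict_ι]
  have hcompat : ∀ a b : c.I₀, pullback.fst (c.f a) (c.f b) ≫ gc a = pullback.snd (c.f a) (c.f b) ≫ gc b := by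
    intro a b
    by_cases hab : a = b
    · subst hab
      haveI : Mono (c.f a) := inferInstance
      rw [(cancel_mono (c.f a)).1 pullback.condition]
    · have : IsEmpty ↥(pullback (c.f a) (c.f b)) := ⟨fun z => by
        have h1 : V.ι (c.f a (pullback.fst (c.f a) (c.f b) z)) ∈ Vx a :=
          (pullback.fst (c.f a) (c.f b) z).2
        have h2 : V.ι (c.f b (pullback.snd (c.f a) (c.f b) z)) ∈ Vx b :=
          (pullback.snd (c.f a) (c.f b) z).2
        rw [← Scheme.Hom.comp_apply (pullback.snd (c.f a) (c.f b)) (c.f b), ← pullback.condition,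
          Scheme.Hom.comp_apply] at h2
        exact (hdisj a b hab).le_bot ⟨h1, h2⟩⟩
      exact (isInitialOfIsEmpty (X := pullback (c.f a) (c.f b))).hom_ext _ _
  let g : V.toScheme ⟶ X := c.glueMorphisms gc hcompat
  have hgι : ∀ x : G, c.f x ≫ g = gc x := c.ι_glueMorphisms gc hcompat
  have hgf : g ≫ f = V.ι := by
    refine c.hom_ext _ _ fun x => ?_
    rw [← Category.assoc, hgι x]
    exact hgc x
  haveI : Mono g := by
    haveI : Mono (g ≫ f) := by rw [hgf]; infer_instance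
    exact mono_of_mono g f
  haveI hflat : Flat g := IsZariskiLocalAtSource.of_openCover c fun x => by rw [hgι]; infer_instance
  haveI hlfp : LocallyOfFinitePresentation g :=
    IsZariskiLocalAtSource.of_openCover c fun x => by rw [hgι]; infer_instance
  haveI := IsOpenImmersion.of_flat_of_mono g
  refine ⟨g.opensRange, V, ?_, ?_, ?_, ?_⟩
  · rintro _ ⟨v, rfl⟩
    show f (g v) ∈ V
    rw [← Scheme.Hom.comp_apply, hgf]; exact v.2
  · refine Misc15.dense_of_generic_mem hXfin fun x hx => ?_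
    have hy : f x ∈ Vx ⟨x, hx⟩ := ⟨hV₀ x hx, hW _ (hbij.mapsTo hx)⟩
    obtain ⟨v, hv⟩ := hxg₀ x hx
    have hfv : (V₀ x hx).ι v = f x := by
      exact (congr($(hgf₀ x hx) v)).symm.trans (congrArg f hv)
    let v' : (Vx ⟨x, hx⟩).toScheme := ⟨f x, hy⟩
    have hv' : Y.homOfLE inf_le_left v' = v := Subtype.ext ((Y.homOfLE_apply _ _).trans hfv.symm)
    let w : V.toScheme := ⟨f x, le_iSup Vx ⟨x, hx⟩ hy⟩
    refine ⟨w, ?_⟩
    have e1 := hgι ⟨x, hx⟩
    have e2 : g w = gc ⟨x, hx⟩ ⟨w, hy⟩ := congr($e1 (⟨w, hy⟩ : (V.ι ⁻¹ᵁ Vx ⟨x, hx⟩).toScheme))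
    rw [e2]
    show g₀ x hx (Y.homOfLE inf_le_left ((V.ι ∣_ Vx ⟨x, hx⟩) ⟨w, hy⟩)) = x
    rw [show (V.ι ∣_ Vx ⟨x, hx⟩) ⟨w, hy⟩ = v' from Subtype.ext (morphismRestrict_base_coe ..), hv', hv]
  · refine Misc15.dense_of_generic_mem hYfin fun y hy => ?_
    obtain ⟨x, hx, rfl⟩ := hbij.surjOn hy
    exact le_iSup Vx ⟨x, hx⟩ ⟨hV₀ x hx, hW _ hy⟩
  · have h : g.isoOpensRange.hom ≫ f.resLE V g.opensRange (by
        rintro _ ⟨v, rfl⟩
        show f (g v) ∈ V
        rw [← Scheme.Hom.comp_apply, hgf]; exact v.2) = 𝟙 _ := by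
      rw [← cancel_mono V.ι, Category.assoc, Scheme.Hom.resLE_comp_ι, ← Category.assoc,
        Scheme.Hom.isoOpensRange_hom_ι, hgf, Category.id_comp]
    exact IsIso.of_isIso_fac_left h

end Groth.Agent.S9678
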