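import Groth.Statements.S10855
import Groth.Agent.ProjLib.IdealComap
import Mathlib.RingTheory.Flat.TorsionFree

set_option autoImplicit false
universe u
open BlowUp

namespace Groth.Agent.S10855

open AlgebraicGeometry CategoryTheory in
/-- Let f : X → Y be a flat morphism of schemes and 𝓘 the quasi-coherent ideal sheaf of an effective
Cartier divisor on Y (near every point generated on an affine open by one non-zero-divisor). Then
the inverse image ideal sheaf of 𝓘 on X is again the ideal of an effective Cartier divisor: the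
subscheme f⁻¹(Z) is an effective Cartier divisor on X. (The published corollary also identifies this
divisor with the pullback of Z as a divisor; that clause is not included here.) -/
theorem result {X Y : Scheme.{u}} (f : X ⟶ Y) [Flat f]
    (𝓘 : Y.IdealSheafData) (hD : BlowUp.IsEffCartierIdeal 𝓘) :
    BlowUp.IsEffCartierIdeal (𝓘.comap f) := by
  intro x
  obtain ⟨U, hxU, a, ha, hI⟩ := hD (f x)
  obtain ⟨_, ⟨V, hV, rfl⟩, hxV, hVU⟩ :=
    X.isBasis_affineOpens.exists_subset_of_mem_open (show x ∈ f ⁻¹ᵁ U.1 from hxU) (f ⁻¹ᵁ U.1).isOpen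
  refine ⟨⟨V, hV⟩, hxV, (f.appLE U.1 V hVU).hom a, ?_, ?_⟩
  · have hflat : (f.appLE U.1 V hVU).hom.Flat := f.flat_appLE U.2 hV hVU
    algebraize [(f.appLE U.1 V hVU).hom]
    have : Module.Flat Γ(Y, U.1) Γ(X, V) := hflat
    rw [mem_nonZeroDivisors_iff_right]
    intro z hz
    have hinj := Module.Flat.isSMulRegular_of_nonZeroDivisors (M := Γ(X, V)) (r := a) ha
    refine hinj ?_
    show a • z = a • 0
    rw [smul_zero, Algebra.smul_def, mul_comm]
    exact hz
  · rw [ProjLib.comap_ideal_eq 𝓘 f U ⟨V, hV⟩ hVU, hI, Ideal.map_span, Set.image_singleton]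

end Groth.Agent.S10855
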