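import Groth.Statements.S9997
import Groth.Agent.AlgSpLib.LocP
import Groth.Agent.AlgSpLib.EtLocalInst
-- import your own Groth.Agent.* helpers here

set_option autoImplicit false
universe u
open CategoryTheory CategoryTheory.Limits AlgebraicGeometry Opposite
open AlgSp

namespace Groth.Agent.S9997

set_option backward.isDefEq.respectTransparency false

/-- A closed immersion i : Z ⟶ X of algebraic spaces is (locally) of finite presentation if and only if
its sheaf of ideals is of finite type; finite type is rendered chart by chart, as finite generation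
of the kernel ideal Ker(Γ(U, O_U) → Γ(Z ×_X U, O)) for every affine etale chart U of X (for a
quasi-coherent sheaf of ideals the two readings agree by descent of finite generation along etale
coverings). -/
theorem result {S : Scheme.{u}} {Z X : AlgSp.Space S} (i : Z ⟶ X)
    (hi : AlgSp.RepWith @IsClosedImmersion i.hom) :
    AlgSp.LocP @LocallyOfFinitePresentation i.hom ↔
      ∀ (E : AlgSp.EtOver X.obj) (hE : IsAffine E.obj.left.left), ((AlgSp.idealOfRep hi.1).ideal E hE).FG := by
  rw [← AlgSpLib.repWith_iff_locP AlgSpLib.etLocal_lfp Z.property X.property hi.1]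
  have hci : ∀ E : AlgSp.EtOver X.obj, IsClosedImmersion (AlgSp.EtOver.bcπ hi.1 E).left :=
    fun E => hi.property_snd E.obj.hom
  constructor
  · intro h E hE
    have := hci E
    haveI : LocallyOfFinitePresentation (AlgSp.EtOver.bcπ hi.1 E).left := h.property_snd E.obj.hom
    obtain ⟨hA, hsurj⟩ := IsClosedImmersion.isAffine_surjective_of_isAffine (AlgSp.EtOver.bcπ hi.1 E).left
    have hfp : (AlgSp.EtOver.bcπ hi.1 E).left.appTop.hom.FinitePresentation :=
      HasRingHomProperty.appTop (P := @LocallyOfFinitePresentation) _ ‹_›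
    let := (AlgSp.EtOver.bcπ hi.1 E).left.appTop.hom.toAlgebra
    have : Algebra.FinitePresentation Γ(E.obj.left.left, ⊤) Γ((AlgSp.EtOver.bcObj hi.1 E).obj.left.left, ⊤) := hfp
    exact Algebra.FinitePresentation.ker_fG_of_surjective (R := Γ(E.obj.left.left, ⊤)) (Algebra.ofId _ _) hsurj
  · intro h
    have := AlgSpLib.etLocal_lfp.localTarget
    obtain ⟨U, a, hae, has⟩ := X.property.atlas
    have := AlgSpLib.isLocallySurjective_of_etale hae has
    have sq := hi.1.isPullback a
    refine AlgSpLib.repWith_of_isLocallySurjective hi.1 a sq @LocallyOfFinitePresentation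
      ((AlgSp.repWith_yon_map_iff _ _).2 ?_)
    refine (IsZariskiLocalAtTarget.iff_of_openCover U.left.affineCover).2 fun j => ?_
    let o : Over.mk (U.left.affineCover.f j ≫ U.hom) ⟶ U := Over.homMk (U.left.affineCover.f j)
    have ho : AlgSp.RepWith @Etale ((AlgSp.yon S).map o ≫ a) :=
      AlgSpLib.RepWith.comp ((AlgSp.repWith_yon_map_iff _ o).2 (inferInstanceAs (Etale (U.left.affineCover.f j)))) hae
    let E : AlgSp.EtOver X.obj := AlgSp.EtOver.mk ((AlgSp.yon S).map o ≫ a) ho
    have := hci E
    have hE : IsAffine E.obj.left.left := inferInstanceAs (IsAffine (U.left.affineCover.X j))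
    obtain ⟨hA, hsurj⟩ := IsClosedImmersion.isAffine_surjective_of_isAffine (AlgSp.EtOver.bcπ hi.1 E).left
    have hP : LocallyOfFinitePresentation (AlgSp.EtOver.bcπ hi.1 E).left :=
      (HasRingHomProperty.iff_of_isAffine (P := @LocallyOfFinitePresentation)).2
        (RingHom.FinitePresentation.of_surjective _ hsurj (h E hE))
    have sqE := hi.1.isPullback ((AlgSp.yon S).map o ≫ a)
    let m := hi.1.lift (g := a) (hi.1.fst ((AlgSp.yon S).map o ≫ a)) (hi.1.snd ((AlgSp.yon S).map o ≫ a) ≫ o)
      (by rw [sqE.w, Functor.map_comp, Category.assoc])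
    have hm2 : m ≫ hi.1.snd a = hi.1.snd ((AlgSp.yon S).map o ≫ a) ≫ o := hi.1.lift_snd _ _ _
    have s1 : IsPullback ((AlgSp.yon S).map m) ((AlgSp.yon S).map (hi.1.snd ((AlgSp.yon S).map o ≫ a)))
        ((AlgSp.yon S).map (hi.1.snd a)) ((AlgSp.yon S).map o) :=
      IsPullback.of_right (by rw [hi.1.lift_fst]; exact sqE) (by rw [← Functor.map_comp, ← Functor.map_comp, hm2]) sq
    have s2 := (IsPullback.of_map (AlgSp.yon S) hm2 s1).map (Over.forget S)
    have s3 : IsPullback m.left (AlgSp.EtOver.bcπ hi.1 E).left (hi.1.snd a).left (U.left.affineCover.f j) := s2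
    show LocallyOfFinitePresentation (pullback.snd (hi.1.snd a).left (U.left.affineCover.f j))
    rw [← s3.isoPullback_inv_snd]
    exact (MorphismProperty.cancel_left_of_respectsIso @LocallyOfFinitePresentation _ _).2 hP

end Groth.Agent.S9997
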