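import Groth.Statements.S2076
import Groth.Agent.H8Lim.ClosedIntoStage

set_option autoImplicit false
universe u
open CategoryTheory AlgebraicGeometry
open Lim

namespace Groth.Agent.S2076

/-- Let `X = lim X_i` be a cofiltered limit of quasi-compact schemes over `S` with affine transition
morphisms and `h : Y → X` a closed immersion with `Y → S` locally of finite type. Then `Y → X_i` is
a closed immersion for some `i`. -/
theorem result {I : Type u} [SmallCategory I] [IsCofiltered I] (S : Scheme.{u})
    (D : I ⥤ Over S) (c : Limits.Cone D) (hc : Limits.IsLimit c)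
    [∀ (i j : I) (f : i ⟶ j), IsAffineHom (D.map f).left] [∀ i, CompactSpace (D.obj i).left]
    {Y : Scheme.{u}} (h : Y ⟶ c.pt.left) [IsClosedImmersion h] [LocallyOfFiniteType (h ≫ c.pt.hom)] :
    ∃ i : I, IsClosedImmersion (h ≫ (c.π.app i).left) := by
  let t : D ⋙ Over.forget S ⟶ (Functor.const I).obj S :=
    { app := fun i ↦ (D.obj i).hom, naturality := fun i j f ↦ by simp }
  have : IsConnected I := IsCofiltered.isConnected _
  have : ∀ i, CompactSpace ((D ⋙ Over.forget S).obj i) :=
    fun i ↦ inferInstanceAs (CompactSpace (D.obj i).left)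
  have : ∀ {i j : I} (f : i ⟶ j), IsAffineHom ((D ⋙ Over.forget S).map f) :=
    fun f ↦ inferInstanceAs (IsAffineHom (D.map f).left)
  obtain ⟨i⟩ := IsCofiltered.nonempty (C := I)
  let h' : Y ⟶ ((Over.forget S).mapCone c).pt := h
  have : IsClosedImmersion h' := ‹IsClosedImmersion h›
  have : LocallyOfFiniteType ((h' ≫ ((Over.forget S).mapCone c).π.app i) ≫ t.app i) := by
    rw [Category.assoc]
    change LocallyOfFiniteType (h ≫ (c.π.app i).left ≫ (D.obj i).hom)
    rw [Over.w]
    exact ‹LocallyOfFiniteType (h ≫ c.pt.hom)›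
  exact H8Lim.exists_isClosedImmersion_comp_π (Limits.isLimitOfPreserves (Over.forget S) hc) t h' i

end Groth.Agent.S2076
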