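import Groth.Statements.S10050
import Groth.Agent.AlgSpLib.ClosedUnion
import Groth.Agent.S10192
import Groth.Agent.S10045

set_option autoImplicit false
universe u
open CategoryTheory CategoryTheory.Limits AlgebraicGeometry
open AlgSp

namespace Groth.Agent.S10050

/-- Let `X` be an algebraic space, quasi-compact and quasi-separated over the scheme `S`, which is not a
scheme although every proper closed subspace of `X` is one. Then `X` is reduced and irreducible.
(The published statement allows any base scheme and uses absolute quasi-separatedness; this row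
assumes the base quasi-separated, over which quasi-separatedness relative to the base is the
absolute notion.) -/
theorem result (S : Scheme.{u}) [QuasiSeparatedSpace S]
    (X : AlgSp.Space S) (hXqc : AlgSp.IsQuasiCompactSp X.obj) (hXqs : AlgSp.IsQuasiSeparatedSp X.obj) (hX : ¬ X.obj.obj.IsRepresentable)
    (hmin : ∀ (Z : AlgSp.Space S) (i : Z ⟶ X), AlgSp.RepWith @IsClosedImmersion i.hom → ¬ IsIso i → Z.obj.obj.IsRepresentable) :
    AlgSp.IsReducedSp X.obj ∧ IrreducibleSpace (AlgSp.Points X.obj) := by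
  classical
  open Groth.Agent.AlgSpLib in
  refine ⟨?_, ?_⟩
  · obtain ⟨Z, i, hi⟩ := Groth.Agent.S10192.result X Set.univ isClosed_univ
    by_cases h : IsIso i
    · haveI : IsIso i.hom := (ObjectProperty.ι AlgSp.IsAlgSpace).map_isIso i
      obtain ⟨U, a, hae, has, hU⟩ := hi.2.2
      exact ⟨U, a ≫ i.hom, Groth.Agent.AlgSpLib.RepWith.comp hae (Groth.Agent.AlgSpLib.repWith_of_isIso _ _),
        Groth.Agent.AlgSpLib.RepWith.comp has (Groth.Agent.AlgSpLib.repWith_of_isIso _ _), hU⟩
    · exact absurd (Groth.Agent.S10045.result S X Z i hi (hmin Z i hi.1 h)) hX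
  · have hne : Nonempty (AlgSp.Points X.obj) := by
      by_contra h
      rw [not_nonempty_iff] at h
      obtain ⟨Y, ⟨e⟩⟩ := Groth.Agent.AlgSpLib.exists_iso_yon_of_openCover (ι := PEmpty.{u + 1})
        (F := X.obj) (X := fun i => i.elim) (f := fun i => i.elim) (fun i => i.elim) fun x => isEmptyElim x
      exact hX (Groth.Agent.AlgSpLib.isRepresentable_of_iso_yon (F := X.obj) e)
    haveI := hne
    have hp : IsPreirreducible (Set.univ : Set (AlgSp.Points X.obj)) := by
      rw [isPreirreducible_iff_isClosed_union_isClosed]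
      intro z₁ z₂ hz₁ hz₂ hu
      by_contra h
      rw [not_or] at h
      obtain ⟨Z₁, i₁, hi₁⟩ := Groth.Agent.S10192.result X z₁ hz₁
      obtain ⟨Z₂, i₂, hi₂⟩ := Groth.Agent.S10192.result X z₂ hz₂
      have key : ∀ (Z : AlgSp.Space S) (i : Z ⟶ X) (z : Set (AlgSp.Points X.obj)), ¬ Set.univ ⊆ z →
          Set.range (AlgSp.Points.map i.hom) = z → ¬ IsIso i := fun Z i z hz hr hi => by
        haveI : IsIso i.hom := (ObjectProperty.ι AlgSp.IsAlgSpace).map_isIso i
        refine hz fun x _ => hr ▸ ⟨AlgSp.Points.map (inv i.hom) x, ?_⟩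
        rw [← AlgSp.Points.map_comp, IsIso.inv_hom_id, AlgSp.Points.map_id]
      obtain ⟨T₁, ⟨e₁⟩⟩ := Groth.Agent.AlgSpLib.exists_iso_yon_of_isRepresentable
        (hmin Z₁ i₁ hi₁.1 (key _ _ _ h.1 hi₁.2.1))
      obtain ⟨T₂, ⟨e₂⟩⟩ := Groth.Agent.AlgSpLib.exists_iso_yon_of_isRepresentable
        (hmin Z₂ i₂ hi₂.1 (key _ _ _ h.2 hi₂.2.1))
      refine hX (Groth.Agent.AlgSpLib.ClosedUnion.isRepresentable_of_union X (e₁.hom ≫ i₁.hom) (e₂.hom ≫ i₂.hom)
        (Groth.Agent.AlgSpLib.RepWith.comp (Groth.Agent.AlgSpLib.repWith_of_isIso _ _) hi₁.1)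
        (Groth.Agent.AlgSpLib.RepWith.comp (Groth.Agent.AlgSpLib.repWith_of_isIso _ _) hi₂.1) fun x => ?_)
      rw [← Groth.Agent.AlgSpLib.Induct.range_map_yon, ← Groth.Agent.AlgSpLib.Induct.range_map_yon]
      have hsurj : ∀ {F : AlgSp.Sp S} {T : Over S} (e : (AlgSp.yon S).obj T ≅ F) (i : F ⟶ X.obj),
          Set.range (AlgSp.Points.map (e.hom ≫ i)) = Set.range (AlgSp.Points.map i) := fun e i => by
        ext y
        constructor
        · rintro ⟨w, rfl⟩; exact ⟨_, (AlgSp.Points.map_comp _ _ _).symm⟩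
        · rintro ⟨w, rfl⟩; exact ⟨AlgSp.Points.map e.inv w, by rw [← AlgSp.Points.map_comp, e.inv_hom_id_assoc]⟩
      rw [hsurj, hsurj, hi₁.2.1, hi₂.2.1]
      exact hu (Set.mem_univ x)
    haveI : PreirreducibleSpace (AlgSp.Points X.obj) := ⟨hp⟩
    exact ⟨hne⟩

end Groth.Agent.S10050
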