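import Groth.Statements.S10440
import Groth.Agent.AlgSpLib.StalkEssEt
import Groth.Agent.HenselLib.EssEtMaps
import Groth.Agent.AlgSpLib.LocP
import Groth.Agent.AlgSpLib.EtLocalInst
import Mathlib.AlgebraicGeometry.Morphisms.FlatMono
import Groth.Agent.SchMor12.MonoDiscrete
-- import your own Groth.Agent.* helpers here

set_option autoImplicit false
universe u
open CategoryTheory CategoryTheory.Limits AlgebraicGeometry Topology TopologicalSpace
open AlgSp

namespace Groth.Agent.S10440

open Groth.Agent.AlgSpLib
open IsLocalRing

theorem henselization_down {A B R : Type u} [CommRing A] [IsLocalRing A] [CommRing B] [IsLocalRing B]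
    [CommRing R] [IsLocalRing R] [Algebra A B] [IsLocalHom (algebraMap A B)] [Algebra B R]
    [IsLocalHom (algebraMap B R)] [Algebra A R] [IsScalarTower A B R] [IsLocalHom (algebraMap A R)]
    (h : EGA4loc.IsStrictlyEssentiallyEtale A B) [hR : Hensel.IsHenselization B R] :
    Hensel.IsHenselization A R where
  henselian := hR.henselian
  universal T _ _ f hf := by
    letI : Algebra A T := f.toAlgebra
    have : IsLocalHom (algebraMap A T) := hf
    obtain ⟨φ, ⟨hφl, hφ⟩, -⟩ := HenselLib.EssEtMaps.existsUnique_lift_strict h T f
    obtain ⟨g, hg, hgu⟩ := hR.universal T φ hφl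
    refine ⟨g, ?_, fun g' hg' => hgu g' ?_⟩
    · show g.comp (algebraMap A R) = f
      rw [IsScalarTower.algebraMap_eq A B R, ← RingHom.comp_assoc, hg, hφ]
    · have := HenselLib.EssEtMaps.subsingleton_algHom (A₂ := T) h
      let u : B →ₐ[A] T :=
        { g'.comp (algebraMap B R) with
          commutes' := fun a => by
            show g' (algebraMap B R (algebraMap A B a)) = f a
            rw [← IsScalarTower.algebraMap_apply]
            exact RingHom.congr_fun hg' a }
      let v : B →ₐ[A] T := { φ with commutes' := fun a => RingHom.congr_fun hφ a }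
      exact congrArg AlgHom.toRingHom (Subsingleton.elim u v)

theorem surjective_of_mono_spec {K L : CommRingCat.{u}} (hK : IsField K) (hL : IsField L)
    (φ : K ⟶ L) [Mono (Spec.map φ)] : Function.Surjective φ := by
  letI := hK.toField
  letI := hL.toField
  have : Subsingleton ↥(Spec K) := inferInstanceAs (Subsingleton (PrimeSpectrum K))
  have : Flat (Spec.map φ) := by
    rw [Flat.iff_flat_stalkMap]
    intro x
    have hk : IsField ((Spec K).presheaf.stalk (Spec.map φ x)) :=
      Groth.Agent.SchMor12.isField_stalk_of_discrete _ _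
    let _ := hk.toField
    let _ := ((Spec.map φ).stalkMap x).hom.toAlgebra
    exact (inferInstance : Module.Flat ((Spec K).presheaf.stalk (Spec.map φ x)) ((Spec L).presheaf.stalk x))
  have : Surjective (Spec.map φ) :=
    ⟨fun z => ⟨(Nonempty.some (inferInstanceAs (Nonempty (PrimeSpectrum L)))), Subsingleton.elim _ _⟩⟩
  have := Flat.isIso_of_surjective_of_mono (Spec.map φ)
  exact (isIso_SpecMap_iff.1 this).2

/-- For a decent algebraic space X over a scheme S and x ∈ |X|, let g : (U', u') ⟶ (U, u) be a morphism
of elementary etale neighbourhoods of (X, x). If R is a henselization of O_{U', u'} then, through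
the local ring map O_{U, u} ⟶ O_{U', u'} induced by g, R is a henselization of O_{U, u} as well.
(The published statement identifies the henselian local ring at x, defined as the colimit of global
sections over all elementary etale neighbourhoods, with the henselization of O_{U, u}; that ring is
not a separate construction here, and this row states the resulting independence of the
henselization from the chosen neighbourhood.) -/
theorem result {S : Scheme.{u}} (X : AlgSp.Space S)
    (hX : AlgSp.IsDecent X.obj) (x : AlgSp.Points X.obj) {U U' : Over S}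
    (a : (AlgSp.yon S).obj U ⟶ X.obj) (a' : (AlgSp.yon S).obj U' ⟶ X.obj) (g : U' ⟶ U) (u' : ↥U'.left)
    (hg : (AlgSp.yon S).map g ≫ a = a') (ha : AlgSp.IsElemEtaleNbhd a (g.left.base u') x)
    (ha' : AlgSp.IsElemEtaleNbhd a' u' x) (R : Type u) [CommRing R] [IsLocalRing R]
    [Algebra ↥(U'.left.presheaf.stalk u') R] [IsLocalHom (algebraMap ↥(U'.left.presheaf.stalk u') R)]
    [Hensel.IsHenselization ↥(U'.left.presheaf.stalk u') R] :
    letI : Algebra ↥(U.left.presheaf.stalk (g.left.base u')) R :=
      ((algebraMap ↥(U'.left.presheaf.stalk u') R).comp (g.left.stalkMap u').hom).toAlgebra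
    ∃ (_ : IsLocalHom (algebraMap ↥(U.left.presheaf.stalk (g.left.base u')) R)),
      Hensel.IsHenselization ↥(U.left.presheaf.stalk (g.left.base u')) R := by
  have := ha.mono
  have hget : Etale g.left := by
    have h1 : AlgSp.RepWith @Etale ((AlgSp.yon S).map g ≫ a) := hg.symm ▸ ha'.etale
    have := property_of_repWith_comp etLocal_etale g a ha.etale h1
    exact this
  let K := U.left.presheaf.stalk (g.left.base u')
  let L := U'.left.presheaf.stalk u'
  letI : Algebra K L := (g.left.stalkMap u').hom.toAlgebra
  have hloc : IsLocalHom (algebraMap K L) := g.left.toLRSHom.prop u'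
  letI : Algebra K R := ((algebraMap L R).comp (g.left.stalkMap u').hom).toAlgebra
  have : IsScalarTower K L R := IsScalarTower.of_algebraMap_eq fun _ => rfl
  have hl : IsLocalHom (algebraMap K R) := RingHom.isLocalHom_comp (algebraMap L R) (algebraMap K L)
  refine ⟨hl, henselization_down ⟨isEssentiallyEtale_stalkMap g.left u', RingHom.injective _, ?_⟩⟩
  let pK : Over S := Over.mk (U.left.fromSpecResidueField (g.left.base u') ≫ U.hom)
  let pL : Over S := Over.mk (U'.left.fromSpecResidueField u' ≫ U'.hom)
  let r : pL ⟶ pK := Over.homMk (Spec.map (g.left.residueFieldMap u')) (by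
    show _ ≫ U.left.fromSpecResidueField _ ≫ U.hom = _
    rw [Scheme.Hom.SpecMap_residueFieldMap_fromSpecResidueField_assoc, Over.w g]
    rfl)
  have e : (AlgSp.yon S).map r ≫ (AlgSp.FieldPt.ofPt a (g.left.base u')).toHom =
      (AlgSp.FieldPt.ofPt a' u').toHom := by
    rw [AlgSp.FieldPt.toHom_ofPt, AlgSp.FieldPt.toHom_ofPt, ← hg]
    refine ((Category.assoc _ _ _).symm.trans (congrArg (· ≫ a) ?_)).trans (Category.assoc _ _ _)
    exact (((AlgSp.yon S).map_comp _ _).symm.trans (congrArg (AlgSp.yon S).map
      (Over.OverMorphism.ext (Scheme.Hom.SpecMap_residueFieldMap_fromSpecResidueField _ _)))).trans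
      ((AlgSp.yon S).map_comp _ _)
  have hm : Mono (AlgSp.FieldPt.ofPt a' u').toHom := ha'.mono
  have : Mono ((AlgSp.yon S).map r) := @mono_of_mono_fac _ _ _ _ _ _ _ _ hm e
  have : Mono r := (AlgSp.yon S).mono_of_mono_map this
  have : Mono (Spec.map (g.left.residueFieldMap u')) := inferInstanceAs (Mono r.left)
  have hs := surjective_of_mono_spec (Field.toIsField (U.left.residueField (g.left.base u')))
    (Field.toIsField (U'.left.residueField u')) (g.left.residueFieldMap u')
  exact hs

end Groth.Agent.S10440
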