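import Groth.Statements.S10754
import Groth.Agent.AlgSpLib.QCohEtAcyclic
-- import your own Groth.Agent.* helpers here

set_option autoImplicit false
universe u
open CategoryTheory CategoryTheory.Limits AlgebraicGeometry Opposite
open AlgSp

namespace Groth.Agent.S10754

open Groth.Agent.AlgSpLib Groth.Agent.AlgSpLib.QCohEt
set_option backward.isDefEq.respectTransparency false

/-- Consider an algebraic space X over S that happens to be an affine scheme, meaning X ≅ h_T where T is
an affine scheme over S. Then for each i > 0 and each quasi-coherent O_X-module M on the small etale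
site of X, the cohomology H^i(X, M) vanishes. -/
theorem result {S : Scheme.{u}} (X : AlgSp.Space S) (T : Over S)
    (hT : IsAffine T.left) (e : (AlgSp.yon S).obj T ≅ X.obj) (M : AlgSp.ModEt X.obj) [M.IsQuasicoherent]
    (i : ℕ) (hi : 0 < i) :
    Subsingleton (AlgSp.HModEt X.obj M i) := by
  obtain ⟨n, rfl⟩ : ∃ n, i = n + 1 := ⟨i - 1, by omega⟩
  have he : RepWith @Etale e.hom := MorphismProperty.of_isIso (RepWith (S := S) @Etale) e.hom
  let E₀ : EtOver X.obj := EtOver.mk e.hom he
  have hT : IsTerminal E₀ := IsTerminal.ofUniqueHom
    (fun E => EtOver.homMk ((yon S).preimage (E.obj.hom ≫ e.inv)) (by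
      change (yon S).map ((yon S).preimage (E.obj.hom ≫ e.inv)) ≫ e.hom = E.obj.hom
      rw [(yon S).map_preimage, Category.assoc, Iso.inv_hom_id, Category.comp_id]))
    (fun E m => EtOver.hom_ext _ _ ((yon S).map_injective (by
      refine Eq.trans ?_ ((yon S).map_preimage _).symm
      have hw : (yon S).map m.hom.left ≫ e.hom = E.obj.hom := EtOver.w m
      rw [← hw, Category.assoc, Iso.hom_inv_id, Category.comp_id])))
  exact subsingleton_HEt_of_terminal hT (show IsAff E₀ from ‹IsAffine T.left›) (affBasis_acyclic M) n

end Groth.Agent.S10754
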