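import Groth.Statements.S1545
import Groth.Agent.VarietyLib.GeomReducedPt
import Mathlib

set_option autoImplicit false
universe u
open CategoryTheory CategoryTheory.Limits AlgebraicGeometry
open Variety
open Groth.Agent
attribute [local instance] Curv2.stalkAlgebra
set_option backward.isDefEq.respectTransparency.types false

namespace Groth.Agent.S1545

open TensorProduct


/-- For a field extension k' of k, a point x of X and a point x' of X_{k'} over x, X is geometrically
reduced at x if and only if X_{k'} is geometrically reduced at x' (over k'). -/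
theorem result (k : Type u) [Field k] (X : Scheme.{u}) [X.Over (Spec (CommRingCat.of k))] (k' : Type u) [Field k'] [Algebra k k']
    (x : X) (x' : Curv2.bc k X k') (hx : Curv2.bcFst k X k' x' = x) :
    Curv2.IsGeomReducedAt k X x ↔
      @Curv2.IsGeomReducedAt k' _ (Curv2.bc k X k') ⟨Curv2.bcSnd k X k'⟩ x' := by
  letI : (Curv2.bc k X k').Over (Spec (CommRingCat.of k')) := ⟨Curv2.bcSnd k X k'⟩
  let X' := Curv2.bc k X k'
  let q := X ↘ Spec (CommRingCat.of k)
  let y' := Spec.map (CommRingCat.ofHom (algebraMap k k'))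
  constructor
  · intro h K _ _ z hz
    letI : Algebra k K := ((algebraMap k' K).comp (algebraMap k k')).toAlgebra
    let yK' := Spec.map (CommRingCat.ofHom (algebraMap k' K))
    have hcomp : yK' ≫ y' = Spec.map (CommRingCat.ofHom (algebraMap k K)) := by
      rw [← Spec.map_comp]; rfl
    let e : Curv2.bc k' X' K ≅ Curv2.bc k X K :=
      pullbackLeftPullbackSndIso q y' yK' ≪≫ pullback.congrHom rfl hcomp
    have he : e.hom ≫ Curv2.bcFst k X K = Curv2.bcFst k' X' K ≫ Curv2.bcFst k X k' := by
      simp only [e, Iso.trans_hom, Category.assoc, pullback.congrHom_hom]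
      erw [pullback.lift_fst, Category.comp_id, pullbackLeftPullbackSndIso_hom_fst]
      rfl
    haveI := h K (e.hom z) (by rw [← Scheme.Hom.comp_apply, he, Scheme.Hom.comp_apply, hz, hx])
    exact isReduced_of_injective (asIso (e.hom.stalkMap z)).commRingCatIsoToRingEquiv.symm.toRingHom
      (asIso (e.hom.stalkMap z)).commRingCatIsoToRingEquiv.symm.injective
  · intro h L _ _ w hw
    let yL := Spec.map (CommRingCat.ofHom (algebraMap k L))
    obtain ⟨t, ht1, ht2⟩ := Scheme.Pullback.exists_preimage_pullback (f := Curv2.bcFst k X L) (g := Curv2.bcFst k X k') w x'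
      (hw.trans hx.symm)
    let P := pullback (Curv2.bcFst k X L) (Curv2.bcFst k X k')
    let Ω := P.residueField t
    let a : Spec Ω ⟶ X' := P.fromSpecResidueField t ≫ pullback.snd (Curv2.bcFst k X L) (Curv2.bcFst k X k')
    let b : Spec Ω ⟶ Curv2.bc k X L := P.fromSpecResidueField t ≫ pullback.fst (Curv2.bcFst k X L) (Curv2.bcFst k X k')
    have hab : b ≫ Curv2.bcFst k X L = a ≫ Curv2.bcFst k X k' := by
      simp only [a, b, Category.assoc, pullback.condition]
    obtain ⟨ι', hι'⟩ := Spec.map_surjective (a ≫ Curv2.bcSnd k X k')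
    obtain ⟨ιL, hιL⟩ := Spec.map_surjective (b ≫ Curv2.bcSnd k X L)
    letI : Algebra k' Ω := ι'.hom.toAlgebra
    let yΩ := Spec.map (CommRingCat.ofHom (algebraMap k' Ω))
    have hcond : Spec.map ιL ≫ yL = yΩ ≫ y' := by
      show _ = Spec.map ι' ≫ _
      have c1 : Curv2.bcSnd k X L ≫ yL = Curv2.bcFst k X L ≫ q := pullback.condition.symm
      have c2 : Curv2.bcSnd k X k' ≫ y' = Curv2.bcFst k X k' ≫ q := pullback.condition.symm
      rw [hι', hιL, Category.assoc b, Category.assoc a, c1, c2, ← Category.assoc, hab, Category.assoc]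
    let w' : Spec Ω ⟶ Curv2.bc k' X' Ω := pullback.lift a (𝟙 _) (by
      rw [Category.id_comp]; exact hι'.symm)
    let m : Curv2.bc k' X' Ω ⟶ Curv2.bc k X L :=
      pullback.lift (Curv2.bcFst k' X' Ω ≫ Curv2.bcFst k X k') (Curv2.bcSnd k' X' Ω ≫ Spec.map ιL) (by
        erw [Category.assoc, Category.assoc, pullback.condition, hcond, pullback.condition_assoc])
    have hm : IsPullback m (Curv2.bcSnd k' X' Ω) (Curv2.bcSnd k X L) (Spec.map ιL) := by
      refine IsPullback.of_right (h₁₁ := m) ?_ (pullback.lift_snd _ _ _) (IsPullback.of_hasPullback q yL)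
      have e1 : m ≫ pullback.fst q yL = Curv2.bcFst k' X' Ω ≫ Curv2.bcFst k X k' := pullback.lift_fst _ _ _
      rw [e1, hcond]
      exact (IsPullback.of_hasPullback (X' ↘ Spec (CommRingCat.of k')) yΩ).paste_horiz (IsPullback.of_hasPullback q y')
    haveI : Flat (Spec.map ιL) := by
      rw [Flat.SpecMap_iff]
      letI := ιL.hom.toAlgebra
      exact inferInstanceAs (Module.Flat L Ω)
    haveI : Flat m := MorphismProperty.of_isPullback hm.flip inferInstance
    have hmw : m (w' (IsLocalRing.closedPoint Ω)) = w := by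
      have e1 : w' ≫ m = b := by
        apply pullback.hom_ext
        · rw [Category.assoc, pullback.lift_fst]
          show w' ≫ Curv2.bcFst k' X' Ω ≫ _ = _
          erw [pullback.lift_fst_assoc]
          exact hab.symm
        · rw [Category.assoc, pullback.lift_snd]
          show w' ≫ Curv2.bcSnd k' X' Ω ≫ _ = _
          erw [pullback.lift_snd_assoc]
          rw [Category.id_comp]
          exact hιL
      rw [← Scheme.Hom.comp_apply, e1]
      show (pullback.fst (Curv2.bcFst k X L) (Curv2.bcFst k X k')) (P.fromSpecResidueField t _) = w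
      rw [Scheme.fromSpecResidueField_apply, ht1]
    have hred := h Ω (w' (IsLocalRing.closedPoint Ω)) (by
      rw [← Scheme.Hom.comp_apply]
      show (w' ≫ pullback.fst _ _) _ = x'
      rw [pullback.lift_fst]
      show (pullback.snd (Curv2.bcFst k X L) (Curv2.bcFst k X k')) (P.fromSpecResidueField t _) = x'
      rw [Scheme.fromSpecResidueField_apply, ht2])
    subst hmw
    set z := w' (IsLocalRing.closedPoint Ω)
    have hflat : (m.stalkMap z).hom.Flat := Flat.stalkMap m z
    algebraize [(m.stalkMap z).hom]
    haveI : IsLocalHom (algebraMap ((Curv2.bc k X L).presheaf.stalk (m z)) ((Curv2.bc k' X' Ω).presheaf.stalk z)) :=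
      inferInstanceAs (IsLocalHom (m.stalkMap z).hom)
    haveI : Module.Flat ((Curv2.bc k X L).presheaf.stalk (m z)) ((Curv2.bc k' X' Ω).presheaf.stalk z) := hflat
    haveI := Module.FaithfullyFlat.of_flat_of_isLocalHom (A := (Curv2.bc k X L).presheaf.stalk (m z))
      (B := (Curv2.bc k' X' Ω).presheaf.stalk z)
    exact isReduced_of_injective (algebraMap _ ((Curv2.bc k' X' Ω).presheaf.stalk z))
      (FaithfulSMul.algebraMap_injective _ _)

end Groth.Agent.S1545
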