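import Groth.Statements.S10727
import Groth.Agent.HenselLib.BLModule

set_option autoImplicit false
universe u
open TensorProduct
open EtAlg

namespace Groth.Agent.S10727

/-- Glueing affine schemes along a glueing pair, stated for their coordinate rings. Let `(R → R', f)` be
a glueing pair, `A₁` an `R`-algebra in which `f` is invertible, `A'` an `R'`-algebra and `φ : A'_f ≅
R' ⊗_R A₁` an isomorphism of `R'`-algebras. Then there is an `R`-algebra `A`, glueable as an
`R`-module, with isomorphisms `A_f ≅ A₁` of `R`-algebras and `R' ⊗_R A ≅ A'` of `R'`-algebras under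
which `φ` is the canonical identification `(R' ⊗_R A)_f = R' ⊗_R A_f`. (The published statement is
that base change is an equivalence between affine schemes over `Spec R` that are glueable and
triples of affine schemes over `Spec R_f`, `Spec R'_f`, `Spec R'` with cartesian squares; this row
states only that every such triple arises, on coordinate rings.) -/
theorem result (R : Type u) [CommRing R] (R' : Type u) [CommRing R'] [Algebra R R']
    (f : R) (hRR' : EtGlue.IsGlueingPair R R' f) (A₁ : Type u) [CommRing A₁] [Algebra R A₁]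
    (h₁ : IsUnit (algebraMap R A₁ f)) (A' : Type u) [CommRing A'] [Algebra R A'] [Algebra R' A']
    [IsScalarTower R R' A'] (φ : Localization.Away (algebraMap R A' f) ≃ₐ[R'] R' ⊗[R] A₁) :
    ∃ (A : Type u) (_ : CommRing A) (_ : Algebra R A) (_ : EtGlue.IsGlueable R R' f A)
      (e₁ : Localization.Away (algebraMap R A f) ≃ₐ[R] A₁) (e' : R' ⊗[R] A ≃ₐ[R'] A'),
      ∀ a : A, φ (algebraMap A' (Localization.Away (algebraMap R A' f)) (e' ((1 : R') ⊗ₜ[R] a))) =
        (1 : R') ⊗ₜ[R] e₁ (algebraMap A (Localization.Away (algebraMap R A f)) a) := by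
  let H : A' →ₐ[R'] R' ⊗[R] A₁ :=
    φ.toAlgHom.comp (IsScalarTower.toAlgHom R' A' (Localization.Away (algebraMap R A' f)))
  have hf : Function.Bijective fun x : A₁ => f • x := by
    simpa [Algebra.smul_def] using h₁.unit.mulLeft_bijective
  have hker : ∀ x : A', H.toLinearMap x = 0 → HenselLib.BL.IsTors f x := by
    intro x hx
    have h0 : algebraMap A' (Localization.Away (algebraMap R A' f)) x = 0 :=
      φ.injective (hx.trans (map_zero φ).symm)
    obtain ⟨⟨_, n, rfl⟩, hn⟩ :=
      (IsLocalization.map_eq_zero_iff (Submonoid.powers (algebraMap R A' f)) _ x).mp h0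
    exact ⟨n, by rw [Algebra.smul_def, map_pow]; exact hn⟩
  have hsurj : ∀ z : R' ⊗[R] A₁, ∃ (n : ℕ) (x : A'), H.toLinearMap x = f ^ n • z := by
    intro z
    obtain ⟨n, x, hx⟩ := IsLocalization.Away.surj (algebraMap R A' f) (φ.symm z)
    refine ⟨n, x, ?_⟩
    have hφf : φ (algebraMap A' (Localization.Away (algebraMap R A' f)) (algebraMap R A' f)) =
        algebraMap R (R' ⊗[R] A₁) f := by
      rw [← IsScalarTower.algebraMap_apply, IsScalarTower.algebraMap_apply R R' (Localization.Away (algebraMap R A' f)),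
        φ.commutes, ← IsScalarTower.algebraMap_apply]
    change φ (algebraMap A' (Localization.Away (algebraMap R A' f)) x) = f ^ n • z
    rw [← hx, map_mul, map_pow, φ.apply_symm_apply, hφf, ← map_pow, Algebra.smul_def, mul_comm]
  let G : Subalgebra R (A' × A₁) := AlgHom.equalizer ((H.restrictScalars R).comp (AlgHom.fst R A' A₁))
    ((Algebra.TensorProduct.includeRight : A₁ →ₐ[R] R' ⊗[R] A₁).comp (AlgHom.snd R A' A₁))
  let e : G ≃ₗ[R] HenselLib.BL.glued H.toLinearMap :=
    { toFun := fun z => ⟨z.1, (HenselLib.BL.mem_glued H.toLinearMap).mpr z.2⟩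
      invFun := fun z => ⟨z.1, (HenselLib.BL.mem_glued H.toLinearMap).mp z.2⟩
      map_add' := fun _ _ => rfl
      map_smul' := fun _ _ => rfl }
  have hG : EtGlue.IsGlueable R R' f G := by
    refine (HenselLib.BL.isGlueable_iff hRR'.1).mpr ⟨fun t ⟨k, hk⟩ h0 => ?_, HenselLib.BL.torsSurj_of_pair _ hRR'⟩
    apply e.injective
    rw [map_zero]
    refine ((HenselLib.BL.isGlueable_iff hRR'.1).mp
      (HenselLib.BL.isGlueable_glued H.toLinearMap hf hker hsurj hRR')).1 (e t) ⟨k, ?_⟩ ?_
    · rw [← map_smul, hk, map_zero]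
    · have := congrArg (e.toLinearMap.lTensor R') h0
      simpa using this
  let fstG : G →ₐ[R] A' := (AlgHom.fst R A' A₁).comp G.val
  let Φ : R' ⊗[R] G →ₐ[R'] A' := Algebra.TensorProduct.lift (Algebra.ofId R' A') fstG fun _ _ => Commute.all _ _
  have hΦe : ∀ z, Φ z = (HenselLib.BL.gluedFst H.toLinearMap).liftBaseChange R' (e.toLinearMap.lTensor R' z) := by
    intro z
    induction z with
    | zero => simp
    | add a b ha hb => simp only [map_add, ha, hb]
    | tmul s m => simp [Φ, fstG, e, HenselLib.BL.gluedFst, Algebra.smul_def]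
  have hΦ : Function.Bijective Φ := by
    rw [show (Φ : R' ⊗[R] G → A') = (HenselLib.BL.gluedFst H.toLinearMap).liftBaseChange R' ∘
      (e.lTensor R') from funext hΦe]
    exact Function.Bijective.comp
      ⟨HenselLib.BL.injective_liftBaseChange_gluedFst H.toLinearMap hf hker hsurj hRR',
        HenselLib.BL.surjective_liftBaseChange_gluedFst H.toLinearMap hf hsurj hRR'⟩
      (e.lTensor R').bijective
  let sndG : G →ₐ[R] A₁ := (AlgHom.snd R A' A₁).comp G.val
  letI : Algebra G A₁ := sndG.toRingHom.toAlgebra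
  haveI : IsScalarTower R G A₁ := IsScalarTower.of_algebraMap_eq fun r => (sndG.commutes r).symm
  have hfG : ∀ n, algebraMap G A₁ (algebraMap R G f ^ n) = algebraMap R A₁ f ^ n := fun n => by
    rw [map_pow, ← IsScalarTower.algebraMap_apply]
  haveI : IsLocalization.Away (algebraMap R G f) A₁ := by
    refine IsLocalization.Away.mk _ (by rw [← IsScalarTower.algebraMap_apply]; exact h₁) (fun y => ?_) fun a b hab => ?_
    · obtain ⟨n, x, hx⟩ := hsurj ((1 : R') ⊗ₜ[R] y)
      refine ⟨n, ⟨(x, f ^ n • y), ?_⟩, ?_⟩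
      · change H x = (1 : R') ⊗ₜ[R] (f ^ n • y)
        rw [TensorProduct.tmul_smul]; exact hx
      · rw [← map_pow, hfG, ← map_pow, mul_comm, ← Algebra.smul_def]; rfl
    · have h0 : H.toLinearMap (a.1.1 - b.1.1) = 0 := by
        have ea : H.toLinearMap a.1.1 = (1 : R') ⊗ₜ[R] a.1.2 := a.2
        have eb : H.toLinearMap b.1.1 = (1 : R') ⊗ₜ[R] b.1.2 := b.2
        rw [map_sub, ea, eb, show a.1.2 = b.1.2 from hab, sub_self]
      obtain ⟨n, hn⟩ := hker _ h0
      refine ⟨n, Subtype.ext (Prod.ext ?_ ?_)⟩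
      · rw [smul_sub, sub_eq_zero, Algebra.smul_def, Algebra.smul_def, map_pow] at hn; exact hn
      · exact congrArg (fun y => algebraMap R A₁ f ^ n * y) hab
  let e₁ : Localization.Away (algebraMap R G f) ≃ₐ[G] A₁ :=
    IsLocalization.algEquiv (Submonoid.powers (algebraMap R G f)) _ _
  refine ⟨G, inferInstance, inferInstance, hG, e₁.restrictScalars R, AlgEquiv.ofBijective Φ hΦ, fun a => ?_⟩
  have h1 : AlgEquiv.ofBijective Φ hΦ ((1 : R') ⊗ₜ[R] a) = a.1.1 := by simp [Φ, fstG]
  have h2 : e₁.restrictScalars R (algebraMap G (Localization.Away (algebraMap R G f)) a) = a.1.2 :=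
    e₁.commutes a
  rw [h1, h2]
  exact a.2

end Groth.Agent.S10727
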