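import Groth.Statements.S10706
import Groth.Agent.HenselLib.BL
import Groth.Agent.AlgSpLib.PointsTop
import Mathlib.RingTheory.Flat.FaithfullyFlat.Algebra
import Mathlib.RingTheory.RingHom.Flat
-- import your own Groth.Agent.* helpers here

set_option autoImplicit false
universe u
open CategoryTheory CategoryTheory.Limits AlgebraicGeometry TensorProduct
open AlgSp

namespace Groth.Agent.S10706

set_option backward.isDefEq.respectTransparency.types false

open scoped TensorProduct
open Groth.Agent.HenselLib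

theorem isGlueable_iff_torsInj {R R' : Type u} [CommRing R] [CommRing R'] [Algebra R R'] {f : R}
    (h : EtGlue.IsGlueingPair R R' f) (M : Type u) [AddCommGroup M] [Module R M] :
    EtGlue.IsGlueable R R' f M ↔ BL.TorsInj R' f M :=
  (BL.isGlueable_iff h.1).trans (and_iff_left (BL.torsSurj_of_pair M h))

theorem torsInj_of_flat {R R' : Type u} [CommRing R] [CommRing R'] [Algebra R R'] {f : R}
    (A B : Type u) [CommRing A] [CommRing B] [Algebra R A] [Algebra R B] [Algebra A B] [IsScalarTower R A B]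
    [Module.Flat A B] (hA : BL.TorsInj R' f A) : BL.TorsInj R' f B := by
  rintro b ⟨n, hn⟩ hb
  let F : A →ₗ[A] (A ⊗[R] R') × A :=
    (Algebra.linearMap A (A ⊗[R] R')).prod (algebraMap R A (f ^ n) • LinearMap.id)
  have hF : Function.Injective F := by
    rw [← LinearMap.ker_eq_bot, LinearMap.ker_eq_bot']
    intro a ha
    refine hA a ⟨n, ?_⟩ ?_
    · have h2 : algebraMap R A (f ^ n) * a = 0 := congrArg Prod.snd ha
      rwa [Algebra.smul_def]
    · have h1 : a ⊗ₜ[R] (1 : R') = 0 := congrArg Prod.fst ha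
      simpa using congrArg (TensorProduct.comm R A R') h1
  have hFB := Module.Flat.lTensor_preserves_injective_linearMap (M := B) F hF
  have h2 : LinearMap.lTensor B F (b ⊗ₜ 1) = 0 := by
    rw [LinearMap.lTensor_tmul]
    apply (TensorProduct.prodRight A A B (A ⊗[R] R') A).injective
    rw [map_zero, TensorProduct.prodRight_tmul]
    refine Prod.ext ?_ ?_
    · show b ⊗ₜ[A] (algebraMap A (A ⊗[R] R') 1) = 0
      apply (TensorProduct.AlgebraTensorModule.cancelBaseChange R A A B R').injective
      rw [map_zero, map_one, Algebra.TensorProduct.one_def, TensorProduct.AlgebraTensorModule.cancelBaseChange_tmul,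
        one_smul]
      simpa using congrArg (TensorProduct.comm R R' B) hb
    · show b ⊗ₜ[A] (algebraMap R A (f ^ n) * 1) = 0
      rw [mul_one, ← one_mul (algebraMap R A (f ^ n)), mul_comm, ← smul_eq_mul, ← TensorProduct.smul_tmul,
        algebraMap_smul, hn, TensorProduct.zero_tmul]
  have h3 := congrArg (TensorProduct.rid A B) (hFB (h2.trans (map_zero _).symm))
  simpa using h3

theorem eq_zero_of_flat_cover {A : Type u} [CommRing A] {m : A}
    (h : ∀ p : PrimeSpectrum A, ∃ (B : Type u) (_ : CommRing B) (φ : A →+* B) (q : PrimeSpectrum B),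
      φ.Flat ∧ q.comap φ = p ∧ φ m = 0) : m = 0 := by
  by_contra hm
  let I : Ideal A :=
    { carrier := {a | a * m = 0}
      zero_mem' := zero_mul m
      add_mem' := fun {a b} (ha : a * m = 0) (hb : b * m = 0) => by
        show (a + b) * m = 0
        rw [add_mul, ha, hb, add_zero]
      smul_mem' := fun c a (ha : a * m = 0) => by
        show c * a * m = 0
        rw [mul_assoc, ha, mul_zero] }
  have hI : I ≠ ⊤ := fun e => hm (by
    have : (1 : A) ∈ I := e ▸ Submodule.mem_top
    exact (one_mul m).symm.trans this)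
  obtain ⟨P, hP, hle⟩ := Ideal.exists_le_maximal I hI
  obtain ⟨B, _, φ, q, hφ, hq, hm0⟩ := h ⟨P, hP.isPrime⟩
  have e : P = q.asIdeal.comap φ := (congrArg PrimeSpectrum.asIdeal hq).symm
  let L := Localization.localRingHom P q.asIdeal φ e
  have hL : L.Flat := RingHom.Flat.localRingHom hφ q.asIdeal P e
  letI := L.toAlgebra
  haveI : Module.Flat (Localization.AtPrime P) (Localization.AtPrime q.asIdeal) := hL
  haveI : IsLocalHom (algebraMap (Localization.AtPrime P) (Localization.AtPrime q.asIdeal)) :=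
    inferInstanceAs (IsLocalHom L)
  haveI := Module.FaithfullyFlat.of_flat_of_isLocalHom (A := Localization.AtPrime P)
    (B := Localization.AtPrime q.asIdeal)
  have hinj := FaithfulSMul.algebraMap_injective (Localization.AtPrime P) (Localization.AtPrime q.asIdeal)
  have hzero : algebraMap A (Localization.AtPrime P) m = 0 := by
    apply hinj
    rw [map_zero]
    show L (algebraMap A (Localization.AtPrime P) m) = 0
    rw [Localization.localRingHom_to_map, hm0, map_zero]
  obtain ⟨⟨s, hs⟩, hsm⟩ := (IsLocalization.map_eq_zero_iff P.primeCompl _ m).1 hzero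
  exact hs (hle hsm)

/-- Let `(R → R', f)` be a glueing pair and `Y` an algebraic space over `Spec R`. The following are
equivalent: (1) there is an etale covering of `Y` by affine schemes `Spec A_k` with every `A_k`
glueable as an `R`-module; (2) for every affine scheme `Spec A` etale over `Y`, the `R`-module `A`
is glueable. -/
theorem result (R : Type u) [CommRing R] (R' : Type u) [CommRing R'] [Algebra R R']
    (f : R) (hRR' : EtGlue.IsGlueingPair R R' f) (Y : AlgSp.Space (Spec (CommRingCat.of R))) :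
    (∃ (ι : Type u) (A : ι → Type u) (_ : ∀ k, CommRing (A k)) (_ : ∀ k, Algebra R (A k))
        (g : ∀ k, (AlgSp.yon (Spec (CommRingCat.of R))).obj (Over.mk (Spec.map (CommRingCat.ofHom (algebraMap R (A k)))) : Over (Spec (CommRingCat.of R))) ⟶ Y.obj),
        (∀ k, AlgSp.RepWith @Etale (g k)) ∧ (∀ y : AlgSp.Points Y.obj, ∃ k, y ∈ Set.range (AlgSp.Points.map (g k))) ∧
          ∀ k, EtGlue.IsGlueable R R' f (A k)) ↔
      (∀ (A : Type u) [CommRing A] [Algebra R A]
      (g : (AlgSp.yon (Spec (CommRingCat.of R))).obj (Over.mk (Spec.map (CommRingCat.ofHom (algebraMap R A))) : Over (Spec (CommRingCat.of R))) ⟶ Y.obj),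
      AlgSp.RepWith @Etale g → EtGlue.IsGlueable R R' f A) := by
  constructor
  · rintro ⟨ι, Ak, _, _, g, hg, hsur, hgl⟩ A _ _ a ha
    refine (isGlueable_iff_torsInj hRR' A).2 fun m hm h0 => eq_zero_of_flat_cover fun p => ?_
    obtain ⟨k, hk⟩ := hsur (AlgSp.Points.ofPt a p)
    obtain ⟨y, hy⟩ := hk
    obtain ⟨t, rfl⟩ := (AlgSp.Points.schemeEquiv _).surjective y
    have hr := Y.property.representable_from_yon (g k)
    have sq := hr.isPullback' a
    have : Etale (hr.snd a).left := (hg k).property_snd a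
    have : Etale (hr.fst' a).left := ha.property _ _ _ sq.flip
    obtain ⟨w, -, hw⟩ := (Groth.Agent.AlgSpLib.ofPt_eq_ofPt_iff sq t p).1
      ((AlgSp.Points.ofPt_eq_map_ofScheme (g k) t).trans hy)
    obtain ⟨O, hO, hwO, -⟩ := exists_isAffineOpen_mem_and_subset (x := w) (U := ⊤) trivial
    let W := (hr.pullback a).left
    let φ : CommRingCat.of A ⟶ Γ(W, O) := Spec.preimage (hO.fromSpec ≫ (hr.snd a).left)
    let ψ : CommRingCat.of (Ak k) ⟶ Γ(W, O) := Spec.preimage (hO.fromSpec ≫ (hr.fst' a).left)
    have hφ : Spec.map φ = hO.fromSpec ≫ (hr.snd a).left := Spec.map_preimage _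
    have hψ : Spec.map ψ = hO.fromSpec ≫ (hr.fst' a).left := Spec.map_preimage _
    have hφf : φ.hom.Flat := Flat.SpecMap_iff.1 (by rw [hφ]; infer_instance)
    have hψf : ψ.hom.Flat := Flat.SpecMap_iff.1 (by rw [hψ]; infer_instance)
    have hcomp : CommRingCat.ofHom (algebraMap R A) ≫ φ = CommRingCat.ofHom (algebraMap R (Ak k)) ≫ ψ :=
      Spec.map_injective (by
        rw [Spec.map_comp, Spec.map_comp, hφ, hψ, Category.assoc, Category.assoc]
        exact congrArg (hO.fromSpec ≫ ·) ((Over.w (hr.snd a)).trans (Over.w (hr.fst' a)).symm))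
    refine ⟨Γ(W, O), inferInstance, φ.hom, hO.primeIdealOf ⟨w, hwO⟩, hφf, ?_, ?_⟩
    · have e1 : (Spec.map φ) (hO.primeIdealOf ⟨w, hwO⟩) = p := by
        rw [hφ, Scheme.Hom.comp_apply, hO.fromSpec_primeIdealOf]
        exact hw
      exact e1
    · letI : Algebra R Γ(W, O) := (φ.hom.comp (algebraMap R A)).toAlgebra
      letI : Algebra (Ak k) Γ(W, O) := ψ.hom.toAlgebra
      haveI : IsScalarTower R (Ak k) Γ(W, O) := IsScalarTower.of_algebraMap_eq fun r =>
        congrArg (fun t : CommRingCat.of R ⟶ Γ(W, O) => t.hom r) hcomp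
      haveI : Module.Flat (Ak k) Γ(W, O) := hψf
      let Φ : A →ₐ[R] Γ(W, O) := { φ.hom with commutes' := fun r => rfl }
      refine torsInj_of_flat (Ak k) Γ(W, O) ((isGlueable_iff_torsInj hRR' _).1 (hgl k)) (Φ m) ?_ ?_
      · obtain ⟨n, hn⟩ := hm
        exact ⟨n, by rw [← map_smul, hn, map_zero]⟩
      · simpa using congrArg (LinearMap.lTensor R' Φ.toLinearMap) h0
  · intro H
    obtain ⟨U, a, hae, has⟩ := Y.property.atlas
    letI inst : ∀ O : U.left.affineOpens, Algebra R Γ(U.left, O.1) := fun O =>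
      (Spec.preimage (O.2.fromSpec ≫ U.hom)).hom.toAlgebra
    let e : ∀ O : U.left.affineOpens,
        (Over.mk (Spec.map (CommRingCat.ofHom (algebraMap R Γ(U.left, O.1)))) : Over (Spec (CommRingCat.of R))) ⟶ U :=
      fun O => Over.homMk O.2.fromSpec (by
        show O.2.fromSpec ≫ U.hom = Spec.map (CommRingCat.ofHom (algebraMap R Γ(U.left, O.1)))
        exact (Spec.map_preimage _).symm)
    refine ⟨U.left.affineOpens, fun O => Γ(U.left, O.1), inferInstance, inst,
      fun O => (AlgSp.yon _).map (e O) ≫ a, fun O => Groth.Agent.AlgSpLib.RepWith.comp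
        ((AlgSp.repWith_yon_map_iff _ _).2 (inferInstanceAs (Etale O.2.fromSpec))) hae, fun y => ?_, ?_⟩
    · obtain ⟨u, rfl⟩ := Groth.Agent.AlgSpLib.surjective_ofPt a has y
      obtain ⟨O, hO, huO, -⟩ := exists_isAffineOpen_mem_and_subset (x := u) (U := ⊤) trivial
      refine ⟨⟨O, hO⟩, AlgSp.Points.ofScheme _ (hO.primeIdealOf ⟨u, huO⟩), ?_⟩
      rw [← AlgSp.Points.ofPt_eq_map_ofScheme, Groth.Agent.AlgSpLib.ofPt_map]
      exact congrArg (AlgSp.Points.ofPt a) (hO.fromSpec_primeIdealOf ⟨u, huO⟩)
    · exact fun O => H Γ(U.left, O.1) ((AlgSp.yon _).map (e O) ≫ a) (Groth.Agent.AlgSpLib.RepWith.comp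
        ((AlgSp.repWith_yon_map_iff _ _).2 (inferInstanceAs (Etale O.2.fromSpec))) hae)

end Groth.Agent.S10706
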