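import Groth.Statements.S0342
import Groth.Agent.LocCoh.GorensteinCriteria

set_option autoImplicit false
universe u v
open Goren

namespace Groth.Agent.S0342

/-- Regular local rings have finite injective dimension over themselves, i.e. are Gorenstein. -/
theorem result (A : Type u) [CommRing A] [IsRegularLocalRing A] : LocCoh.IsGorensteinLocalRing A := by
  refine Groth.Agent.LocCoh.gorenstein_of_forall_ext
    ((IsLocalRing.maximalIdeal A).spanFinrank + 1) fun i hi => ?_
  haveI := CAlgH3.pd_all (R := A) (A ⧸ IsLocalRing.maximalIdeal A)
  exact CategoryTheory.HasProjectiveDimensionLT.subsingleton (ModuleCat.of A (A ⧸ IsLocalRing.maximalIdeal A)) _ _ hi _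

end Groth.Agent.S0342
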