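import Groth.Statements.S10084
import Groth.Agent.AlgSpLib.QCohEtExtend
import Groth.Agent.AlgSpLib.CutOut
import Groth.Agent.Stk19b.RedInd
-- import your own Groth.Agent.* helpers here

set_option autoImplicit false
universe u
open CategoryTheory CategoryTheory.Limits AlgebraicGeometry Opposite
open AlgSp

namespace Groth.Agent.S10084

open Groth.Agent.AlgSpLib Groth.Agent.AlgSpLib.QCohEt

theorem preimage_eq_zeroLocus {S : Scheme.{u}} {X Z : AlgSp.Sp S} {i : Z ⟶ X} {I : AlgSp.IdealEt X}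
    (h : AlgSp.IsCutOutBy I i) (E : AlgSp.EtOver X) (hE : IsAffine E.obj.left.left) :
    AlgSp.Points.ofPt E.obj.hom ⁻¹' Set.range (AlgSp.Points.map i) =
      E.obj.left.left.zeroLocus (U := ⊤) (I.ideal E hE : Set Γ(E.obj.left.left, ⊤)) := by
  obtain ⟨hi, rfl⟩ := h
  have : IsClosedImmersion (hi.1.snd E.obj.hom).left := hi.property_snd _
  have hr : Set.range (hi.1.snd E.obj.hom).left = ((chartIdeal hi E.obj.hom).support : Set E.obj.left.left) := by
    rw [chartIdeal, Scheme.Hom.support_ker]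
    exact (hi.1.snd E.obj.hom).left.isClosedEmbedding.isClosed_range.closure_eq.symm
  have hz := (chartIdeal hi E.obj.hom).coe_support_inter ⟨⊤, isAffineOpen_top _⟩
  simp only [TopologicalSpace.Opens.coe_top, Set.inter_univ] at hz
  rw [idealOfRep_eq_chartIdeal hi E hE, ← hz, ← hr]
  ext e
  constructor
  · rintro ⟨z, hz'⟩
    rw [AlgSp.Points.ofPt_eq_map_ofScheme] at hz'
    obtain ⟨w, -, hw⟩ := exists_point_of_isPullback (hi.1.isPullback E.obj.hom) hz'
    obtain ⟨p, rfl⟩ := (AlgSp.Points.schemeEquiv _).surjective w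
    exact ⟨p, (AlgSp.Points.schemeEquiv E.obj.left).injective ((map_yon_map_ofScheme _ p).symm.trans hw)⟩
  · rintro ⟨p, rfl⟩
    exact ⟨AlgSp.Points.ofPt (hi.1.fst E.obj.hom) p, by
      rw [AlgSp.Points.map_ofPt, (hi.1.isPullback E.obj.hom).w, ofPt_map]⟩

theorem compl_zeroLocus_span_compact {T : Scheme.{u}} [IsAffine T] (t : Finset Γ(T, ⊤)) :
    IsCompact (T.zeroLocus (U := ⊤) (Ideal.span (t : Set Γ(T, ⊤)) : Set Γ(T, ⊤)))ᶜ := by
  rw [Scheme.zeroLocus_span, Scheme.zeroLocus_def]
  simp only [Set.compl_iInter, compl_compl, Finset.mem_coe]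
  exact t.isCompact_biUnion fun f _ => ((isAffineOpen_top T).basicOpen f).isCompact

theorem exists_fg_subset {T : Scheme.{u}} (I : Ideal Γ(T, ⊤)) {K : Set T} (hK : IsCompact K)
    (h : K ⊆ (T.zeroLocus (U := ⊤) (I : Set Γ(T, ⊤)))ᶜ) :
    ∃ t : Finset Γ(T, ⊤), (t : Set Γ(T, ⊤)) ⊆ I ∧ K ⊆ ⋃ f ∈ t, (T.basicOpen f : Set T) := by
  classical
  obtain ⟨σ, hσ⟩ := hK.elim_finite_subcover (fun f : I => (T.basicOpen (f : Γ(T, ⊤)) : Set T))
    (fun f => (T.basicOpen (f : Γ(T, ⊤))).2) fun x hx => by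
      have h' := h hx
      rw [Scheme.zeroLocus_def, Set.compl_iInter₂] at h'
      obtain ⟨f, hf, hxf⟩ := Set.mem_iUnion₂.1 h'
      exact Set.mem_iUnion.2 ⟨⟨f, hf⟩, not_not.1 hxf⟩
  refine ⟨σ.image Subtype.val, fun f hf => ?_, hσ.trans (Set.iUnion₂_subset fun f hf => ?_)⟩
  · obtain ⟨g, -, rfl⟩ := Finset.mem_image.1 (Finset.mem_coe.1 hf); exact g.2
  · exact Set.subset_biUnion_of_mem (u := fun g : Γ(T, ⊤) => (T.basicOpen g : Set T))
      (Finset.mem_coe.2 (Finset.mem_image_of_mem Subtype.val hf))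

/-- lifting of functions -/
abbrev up {S : Scheme.{u}} {X : AlgSp.Sp S} (E : AlgSp.EtOver X) (a : Γ(E.obj.left.left, ⊤)) :
    Sec (AlgSp.unitModEt X) E :=
  (show ΓE E from (ULift.up a : ULift.{u + 1} Γ(E.obj.left.left, ⊤)))

/-- the value of a function -/
abbrev dn {S : Scheme.{u}} {X : AlgSp.Sp S} (E : AlgSp.EtOver X) (s : Sec (AlgSp.unitModEt X) E) :
    Γ(E.obj.left.left, ⊤) :=
  (show ULift.{u + 1} Γ(E.obj.left.left, ⊤) from (show ΓE E from s)).down

theorem mapSec_unit {S : Scheme.{u}} {X : AlgSp.Sp S} {E W : AlgSp.EtOver X} (g : W ⟶ E) (a : Γ(E.obj.left.left, ⊤)) :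
    mapSec (AlgSp.unitModEt X) g (up E a) = up W (g.hom.left.left.appTop.hom a) := rfl

theorem dn_smul {S : Scheme.{u}} {X : AlgSp.Sp S} (E : AlgSp.EtOver X) (r : ΓE E) (s : Sec (AlgSp.unitModEt X) E) :
    dn E (r • s) = (show ULift.{u + 1} Γ(E.obj.left.left, ⊤) from r).down * dn E s := rfl

theorem isQuasicoherent_unitModEt {S : Scheme.{u}} {X : AlgSp.Sp S} : (AlgSp.unitModEt X).IsQuasicoherent :=
  isQuasicoherent_of_forall _ fun E hE W hW => by
    have h : ∀ x, bcMap (AlgSp.unitModEt X) E W x =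
        (show Sec (AlgSp.unitModEt X) W.left from
          TensorProduct.rid (ΓE E) (ΓE W.left) x) := by
      intro x
      induction x using TensorProduct.induction_on with
      | zero => exact (map_zero _).trans (map_zero (TensorProduct.rid (ΓE E) (ΓE W.left))).symm
      | tmul a m =>
        refine (bcMap_tmul _ E W a m).trans (Eq.trans ?_ (TensorProduct.rid_tmul a (show ΓE E from m)).symm)
        show (a : ΓE W.left) * (ΓMap W.hom).hom (m : ΓE E) = (ΓMap W.hom).hom (m : ΓE E) * a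
        exact mul_comm _ _
      | add x y hx hy =>
        exact (map_add _ x y).trans ((congrArg₂ (· + ·) hx hy).trans
          (map_add (TensorProduct.rid (ΓE E) (ΓE W.left)) x y).symm)
    rw [show ⇑(bcMap (AlgSp.unitModEt X) E W) = fun x => (show Sec (AlgSp.unitModEt X) W.left from
      TensorProduct.rid (ΓE E) (ΓE W.left) x) from funext h]
    exact (TensorProduct.rid (ΓE E) (ΓE W.left)).bijective

/-- a quasi-coherent ideal as a submodule of the structure sheaf -/
def ofIdeal {S : Scheme.{u}} {X : AlgSp.Sp S} (I : AlgSp.IdealEt X) (hI : I.IsQCoh) :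
    QSub (AlgSp.unitModEt X) where
  P E hE :=
    { carrier := {s | dn E s ∈ I.ideal E hE}
      add_mem' := fun ha hb => (I.ideal E hE).add_mem ha hb
      zero_mem' := (I.ideal E hE).zero_mem
      smul_mem' := fun _ _ ha => (I.ideal E hE).mul_mem_left _ ha }
  span_eq {E W} hE hW g := by
    refine le_antisymm (Submodule.span_le.2 ?_) fun s hs => ?_
    · rintro _ ⟨s, hs, rfl⟩
      exact I.map_le g hE hW (Ideal.mem_map_of_mem g.hom.left.left.appTop.hom hs)
    · suffices hh : ∀ a ∈ (I.ideal E hE).map g.hom.left.left.appTop.hom, up W a ∈ Submodule.span (ΓE W)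
          (mapSec (AlgSp.unitModEt X) g '' {s | dn E s ∈ I.ideal E hE}) from
        hh _ (hI g hE hW (show dn W s ∈ I.ideal W hW from hs))
      intro a h
      induction h using Submodule.span_induction with
      | mem v hv =>
        obtain ⟨a, ha, rfl⟩ := hv
        exact Submodule.subset_span ⟨up E a, ha, mapSec_unit g a⟩
      | zero => exact zero_mem (Submodule.span _ _)
      | add v w _ _ hv hw => exact add_mem (S := Submodule (ΓE W) (Sec (AlgSp.unitModEt X) W)) hv hw
      | smul r v _ hv =>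
        exact Submodule.smul_mem _ (show ΓE W from (ULift.up r : ULift.{u + 1} Γ(W.obj.left.left, ⊤))) hv

theorem exists_fg_ideal {S : Scheme.{u}} [QuasiSeparatedSpace ↥S] (X : AlgSp.Space S)
    (hqc : AlgSp.IsQuasiCompactSp X.obj) (hqs : AlgSp.IsQuasiSeparatedSp X.obj) (I : AlgSp.IdealEt X.obj)
    (hI : I.IsQCoh) (E₀ : AlgSp.EtOver X.obj) (hE₀ : IsAffine E₀.obj.left.left)
    (t : Finset Γ(E₀.obj.left.left, ⊤)) (ht : (t : Set Γ(E₀.obj.left.left, ⊤)) ⊆ I.ideal E₀ hE₀) :
    ∃ J : AlgSp.IdealEt X.obj, J.IsQCoh ∧ (∀ E hE, (J.ideal E hE).FG) ∧ (∀ E hE, J.ideal E hE ≤ I.ideal E hE) ∧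
      (t : Set Γ(E₀.obj.left.left, ⊤)) ⊆ J.ideal E₀ hE₀ := by
  classical
  haveI := isQuasicoherent_unitModEt (X := X.obj)
  let Qi := ofIdeal I hI
  haveI := Qi.isQuasicoherent_obj
  obtain ⟨R, hR, hRt⟩ := exists_fg_containing hqc hqs Qi.obj (fun _ : Fin t.card => E₀) (fun _ => hE₀)
    (fun l => ⟨up E₀ (t.equivFin.symm l).1, (Qi.mem_sub_iff hE₀ _).2 (ht (t.equivFin.symm l).2)⟩)
  haveI := R.isQuasicoherent_obj
  haveI := R.isFiniteType_obj hR
  let Q := QSub.image (R.incl ≫ Qi.incl)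
  let J : ∀ E : AlgSp.EtOver X.obj, IsAffine E.obj.left.left → Ideal Γ(E.obj.left.left, ⊤) := fun E hE =>
    { carrier := {a | up E a ∈ Q.P E hE}
      add_mem' := fun ha hb => (Q.P E hE).add_mem ha hb
      zero_mem' := (Q.P E hE).zero_mem
      smul_mem' := fun r a ha =>
        (Q.P E hE).smul_mem (show ΓE E from (ULift.up r : ULift.{u + 1} Γ(E.obj.left.left, ⊤))) ha }
  refine ⟨⟨J, fun {E E'} g hE hE' => Ideal.map_le_iff_le_comap.2 fun a ha => ?_⟩, fun E E' g hE hE' a ha => ?_,
    fun E hE => ?_, fun E hE a ha => ?_, fun a ha => ?_⟩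
  · exact Q.map_mem hE hE' g (show up E a ∈ Q.P E hE from ha)
  · have h : up E' a ∈ Submodule.span (ΓE E') (mapSec (AlgSp.unitModEt X.obj) g '' (Q.P E hE : Set _)) :=
      (Q.span_eq hE hE' g).symm ▸ ha
    have : ∀ s ∈ Submodule.span (ΓE E') (mapSec (AlgSp.unitModEt X.obj) g '' (Q.P E hE : Set _)),
        dn E' s ∈ (J E hE).map g.hom.left.left.appTop.hom := by
      intro s hs
      induction hs using Submodule.span_induction with
      | mem v hv =>
        obtain ⟨b, hb, rfl⟩ := hv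
        exact Ideal.mem_map_of_mem g.hom.left.left.appTop.hom (show dn E b ∈ J E hE from hb)
      | zero => exact Ideal.zero_mem _
      | add v w _ _ hv hw => exact Ideal.add_mem _ hv hw
      | smul r v _ hv => exact Ideal.mul_mem_left _ _ hv
    exact this _ h
  · obtain ⟨g, hg⟩ := QSub.fg_image (R.incl ≫ Qi.incl) E hE
    refine ⟨g.image (dn E), le_antisymm (Ideal.span_le.2 ?_) fun a ha => ?_⟩
    · intro b hb
      obtain ⟨s, hs, rfl⟩ := Finset.mem_image.1 (Finset.mem_coe.1 hb)
      exact (show s ∈ Q.P E hE from hg.le (Submodule.subset_span hs))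
    · have ha' : up E a ∈ Submodule.span (ΓE E) (g : Set _) := hg.symm ▸ ha
      have : ∀ s ∈ Submodule.span (ΓE E) (g : Set (Sec (AlgSp.unitModEt X.obj) E)),
          dn E s ∈ Ideal.span ((g.image (dn E) : Finset _) : Set Γ(E.obj.left.left, ⊤)) := by
        intro s hs
        induction hs using Submodule.span_induction with
        | mem v hv => exact Ideal.subset_span (Finset.mem_coe.2 (Finset.mem_image_of_mem _ hv))
        | zero => exact Ideal.zero_mem _
        | add v w _ _ hv hw => exact Ideal.add_mem _ hv hw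
        | smul r v _ hv => exact Ideal.mul_mem_left _ _ hv
      exact this _ ha'
  · obtain ⟨b, hb⟩ := (show up E a ∈ Q.P E hE from ha)
    have h : up E a ∈ Qi.P E hE := (Qi.range_incl hE).subset ⟨secMap R.incl E b, hb⟩
    exact h
  · obtain ⟨b, hb⟩ := (R.range_incl (E := E₀) hE₀).symm.subset (hRt (t.equivFin ⟨a, ha⟩))
    refine ⟨b, (congrArg Subtype.val hb).trans ?_⟩
    show up E₀ _ = up E₀ a
    rw [Equiv.symm_apply_apply]

/-- Let `S` be a quasi-separated scheme, `X` an algebraic space over `S`, quasi-compact and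
quasi-separated over `S`, and `j : U ⟶ X` an open subspace. Then `U` is quasi-compact exactly when
there are a quasi-coherent sheaf of ideals `I` of finite type on the small etale site of `X`
(finitely generated ideal of sections on every affine object) and a closed subspace `Z ⟶ X` cut out
by `I` whose points are exactly the points of `X` outside the image of `U`. (The further equivalent
condition that `j` is quasi-compact is not included.) (The published statement allows any base
scheme and uses absolute quasi-separatedness; this row assumes the base quasi-separated, over which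
quasi-separatedness relative to the base is the absolute notion.) -/
theorem result {S : Scheme.{u}} [QuasiSeparatedSpace ↥S] (X : AlgSp.Space S)
    (hqc : AlgSp.IsQuasiCompactSp X.obj) (hqs : AlgSp.IsQuasiSeparatedSp X.obj)
    (U : AlgSp.Space S) (j : U ⟶ X) (hj : AlgSp.RepWith @IsOpenImmersion j.hom) :
    AlgSp.IsQuasiCompactSp U.obj ↔
      ∃ (I : AlgSp.IdealEt X.obj), I.IsQCoh ∧
        (∀ (E : AlgSp.EtOver X.obj) (hE : IsAffine E.obj.left.left), (I.ideal E hE).FG) ∧
        ∃ (Z : AlgSp.Space S) (i : Z ⟶ X), AlgSp.IsCutOutBy I i.hom ∧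
          Set.range (AlgSp.Points.map i.hom) = (Set.range (AlgSp.Points.map j.hom))ᶜ := by
  constructor
  · intro hU
    haveI := compactSpace_points_of_isQuasiCompactSp hqc
    obtain ⟨B, b, hB, hbe, hbs⟩ := Groth.Agent.AlgSpLib.exists_affine_chart X.property
    let E₀ : AlgSp.EtOver X.obj := AlgSp.EtOver.mk b hbe
    have hOo := Induct.isOpen_range_map U.property hj
    have hOc := Induct.isCompact_range_map hU j.hom
    obtain ⟨Z₁, i₁, hi₁⟩ := Groth.Agent.Stk19b.RedInd.exists_isRedInduced X _ (isClosed_compl_iff.2 hOo)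
    obtain ⟨hi₁c, hi₁r, -⟩ := hi₁
    let I := AlgSp.idealOfRep hi₁c.1
    have hK : AlgSp.Points.ofPt E₀.obj.hom ⁻¹' Set.range (AlgSp.Points.map j.hom) =
        (E₀.obj.left.left.zeroLocus (U := ⊤) (I.ideal E₀ hB : Set Γ(E₀.obj.left.left, ⊤)))ᶜ := by
      rw [← preimage_eq_zeroLocus ⟨hi₁c, rfl⟩, hi₁r, Set.preimage_compl, compl_compl]
    haveI : IsAff E₀ := hB
    obtain ⟨t, ht, htK⟩ := exists_fg_subset (I.ideal E₀ hB)
      (hK ▸ isCompact_locus X.property hqs hOo hOc E₀) subset_rfl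
    obtain ⟨J, hJ, hJfg, hJI, htJ⟩ := exists_fg_ideal X hqc hqs I (isQCoh_idealOfRep hi₁c) E₀ hB t ht
    obtain ⟨Z, i, hZ, hcut⟩ := exists_isCutOutBy X.property J hJ
    refine ⟨J, hJ, hJfg, ⟨Z, hZ⟩, ObjectProperty.homMk i, hcut, ?_⟩
    refine (Set.preimage_eq_preimage (f := AlgSp.Points.ofPt E₀.obj.hom) (surjective_ofPt b hbs)).1 ?_
    rw [Set.preimage_compl, hK, compl_compl]
    refine (preimage_eq_zeroLocus hcut E₀ hB).trans ?_
    refine Set.Subset.antisymm ?_ (Scheme.zeroLocus_mono _ (hJI E₀ hB))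
    intro x hx
    by_contra hx'
    obtain ⟨f, hf, hxf⟩ := Set.mem_iUnion₂.1 (htK hx')
    exact (Scheme.mem_zeroLocus_iff _ _ x).1 hx f (htJ hf) hxf
  · rintro ⟨I, -, hfg, Z, i, hcut, hr⟩
    haveI := compactSpace_points_of_isQuasiCompactSp hqc
    obtain ⟨B, b, hB, hbe, hbs⟩ := Groth.Agent.AlgSpLib.exists_affine_chart X.property
    let E₀ : AlgSp.EtOver X.obj := AlgSp.EtOver.mk b hbe
    refine Induct.isQuasiCompactSp_openImm U.property X.property hj ?_
    rw [← Set.image_preimage_eq (Set.range (AlgSp.Points.map j.hom)) (surjective_ofPt b hbs)]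
    refine IsCompact.image ?_ (AlgSp.Points.continuous_ofPt b)
    have e : AlgSp.Points.ofPt b ⁻¹' Set.range (AlgSp.Points.map j.hom) =
        (AlgSp.Points.ofPt E₀.obj.hom ⁻¹' Set.range (AlgSp.Points.map i.hom))ᶜ := by
      rw [hr, Set.preimage_compl, compl_compl]
      rfl
    obtain ⟨t, ht⟩ := hfg E₀ hB
    rw [e, preimage_eq_zeroLocus hcut E₀ hB, ← ht]
    haveI : IsAffine E₀.obj.left.left := hB
    exact compl_zeroLocus_span_compact t

end Groth.Agent.S10084
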