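import Groth.Statements.S9991
import Groth.Agent.AlgSpLib.QCohEtClosedImage
-- import your own Groth.Agent.* helpers here

set_option autoImplicit false
universe u
open CategoryTheory CategoryTheory.Limits AlgebraicGeometry Opposite
open AlgSp

namespace Groth.Agent.S9991

open Groth.Agent.AlgSpLib Groth.Agent.AlgSpLib.QCohEt
set_option backward.isDefEq.respectTransparency false

/-- For a closed immersion i : Z ⟶ X of algebraic spaces over S cut out by the sheaf of ideals I, the
direct image i_* sends every O_Z-module to an O_X-module annihilated by I, and every quasi-coherent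
O_X-module annihilated by I is isomorphic to i_* G for some quasi-coherent O_Z-module G. (The
published statement also records that i_* carries quasi-coherent modules to quasi-coherent modules
and is exact and fully faithful on them; the first is the closed-immersion case of the fact that
direct images along quasi-compact quasi-separated morphisms preserve quasi-coherence, full
faithfulness follows from the adjunction map i^* i_* G ⟶ G being an isomorphism, and none of these
clauses is restated here.) -/
theorem result {S : Scheme.{u}} {Z X : AlgSp.Space S} (i : Z ⟶ X)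
    (hi : AlgSp.RepWith @IsClosedImmersion i.hom) (I : AlgSp.IdealEt X.obj) (hZ : AlgSp.IsCutOutBy I i.hom) :
    (∀ (G : AlgSp.ModEt Z.obj) (E : AlgSp.EtOver X.obj) (hE : IsAffine E.obj.left.left)
        (s : AlgSp.sectModEt ((AlgSp.pushModEt hi.1).obj G) E), I.ideal E hE ≤ AlgSp.annSect s) ∧
      ∀ F : AlgSp.ModEt X.obj, F.IsQuasicoherent →
        (∀ (E : AlgSp.EtOver X.obj) (hE : IsAffine E.obj.left.left) (s : AlgSp.sectModEt F E),
            I.ideal E hE ≤ AlgSp.annSect s) →
          ∃ G : AlgSp.ModEt Z.obj, G.IsQuasicoherent ∧ Nonempty ((AlgSp.pushModEt hi.1).obj G ≅ F) := by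
  obtain ⟨hi', rfl⟩ := hZ
  refine ⟨fun G E hE s a ha => ?_, fun F hF hk => ?_⟩
  · rw [mem_annSect_iff]
    have h0 : bcΓ hi.1 E (upΓ E a) = 0 := congrArg ULift.up ((mem_idealOfRep_iff hi'.1 E hE a).1 ha)
    change (bcΓ hi.1 E (upΓ E a)) • (show Sec G (EtOver.bcObj hi.1 E) from s) = 0
    rw [h0, zero_smul]
  · haveI := hF
    have hM : Kills hi F := fun E hE r hr m => by
      have h1 : r.down ∈ (idealOfRep hi'.1).ideal E hE :=
        (mem_idealOfRep_iff hi'.1 E hE r.down).2 (congrArg ULift.down hr)
      exact hk E hE m h1
    obtain ⟨G, ⟨e⟩⟩ := exists_iso_push hi X.property F hM Z.property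
    haveI : ((pushModEt hi.1).obj G).IsQuasicoherent :=
      ObjectProperty.prop_of_iso (SheafOfModules.isQuasicoherent (OEtRing X.obj)) e.symm hF
    exact ⟨G, isQuasicoherent_of_push hi X.property G, ⟨e⟩⟩

end Groth.Agent.S9991
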