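import Groth.Statements.S8658
import Groth.Agent.CAlgH.KoszulImmersion
-- import your own Groth.Agent.* helpers here

set_option autoImplicit false
universe u
open CategoryTheory CategoryTheory.Limits AlgebraicGeometry
open Synt

namespace Groth.Agent.S8658

/-- Let f : X ⟶ Y be a local complete intersection morphism in the factorisation sense (around each
point of X, f is locally of finite type and factors as a Koszul-regular immersion followed by a
smooth morphism), and let g : Y' ⟶ Y be flat. Then for any cartesian square, the base change f' : X'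
⟶ Y' is a local complete intersection morphism in the same sense. -/
theorem result {X Y X' Y' : Scheme.{u}} (f : X ⟶ Y) (g : Y' ⟶ Y) [Flat g]
    (f' : X' ⟶ Y') (g' : X' ⟶ X) (hsq : IsPullback g' f' f g)
    (hf : ∀ x : X, Synt.IsKoszulAt f x) : ∀ x' : X', Synt.IsKoszulAt f' x' := by
  intro x'
  obtain ⟨U, P, i, π, hxU, hft, hi, hπ, hfac⟩ := hf (g' x')
  let U' := g' ⁻¹ᵁ U
  have hsU : IsPullback (g' ∣_ U) U'.ι U.ι g' := (isPullback_morphismRestrict g' U).flip.flip
  have h1 : IsPullback (g' ∣_ U) (U'.ι ≫ f') (U.ι ≫ f) g := hsU.paste_vert hsq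
  let P' := Limits.pullback π g
  let i' : (U' : Scheme.{u}) ⟶ P' := Limits.pullback.lift ((g' ∣_ U) ≫ i) (U'.ι ≫ f') (by
    rw [Category.assoc, hfac]; exact h1.w)
  have h2 : IsPullback (g' ∣_ U) i' i (Limits.pullback.fst π g) := by
    refine IsPullback.of_bot ?_ (Limits.pullback.lift_fst _ _ _).symm (IsPullback.of_hasPullback π g)
    rw [hfac]
    convert h1 using 1
    exact Limits.pullback.lift_snd _ _ _
  have : Smooth (Limits.pullback.snd π g) := inferInstance
  have : LocallyOfFiniteType (U'.ι ≫ f') := MorphismProperty.of_isPullback h1 hft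
  exact ⟨U', P', i', Limits.pullback.snd π g, hxU, this,
    Groth.Agent.CAlgH.KoszulImmersion.baseChange_flat i _ i' _ h2 hi, inferInstance, Limits.pullback.lift_snd _ _ _⟩

end Groth.Agent.S8658
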