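import Groth.Statements.S1492
import Groth.Agent.FlatMorKoszul.Descent

set_option autoImplicit false
universe u
attribute [local instance] HasDerivedCategory.standard
open FlatMor

namespace Groth.Agent.S1492

open AlgebraicGeometry CategoryTheory Limits in
/-- Let S' → S be flat, surjective and quasi-compact and f' : X' → S' the base change of f : X → S. If
f' is a local complete intersection morphism (affine-locally: local complete intersection ring maps)
then so is f. -/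
theorem result {X S X' S' : Scheme.{u}} (f : X ⟶ S) (f' : X' ⟶ S') (g' : X' ⟶ X) (g : S' ⟶ S)
    [Flat g] [Surjective g] [QuasiCompact g] (hc : IsPullback g' f' f g)
    (hf' : (∀ (U : X'.Opens) (V : S'.Opens) (hU : IsAffineOpen U) (hV : IsAffineOpen V) (hUV : U ≤ f' ⁻¹ᵁ V),
        letI := (f'.appLE V U hUV).hom.toAlgebra
        LCI.IsLCI Γ(S', V) Γ(X', U))) :
    (∀ (U : X.Opens) (V : S.Opens) (hU : IsAffineOpen U) (hV : IsAffineOpen V) (hUV : U ≤ f ⁻¹ᵁ V),
        letI := (f.appLE V U hUV).hom.toAlgebra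
        LCI.IsLCI Γ(S, V) Γ(X, U)) := by
  intro U V hU hV hUV
  classical
  let _algU := (f.appLE V U hUV).hom.toAlgebra
  have hVc : IsCompact ((g ⁻¹ᵁ V : S'.Opens) : Set S') := QuasiCompact.isCompact_preimage (f := g) _ V.2 (IsAffineOpen.isCompact hV)
  obtain ⟨t, ht, hteq⟩ := (TopologicalSpace.Opens.isBasis_iff_cover.1 S'.isBasis_affineOpens) (g ⁻¹ᵁ V)
  obtain ⟨t', ht'⟩ := hVc.elim_finite_subcover (fun W : t => ((W : S'.Opens) : Set S')) (fun W => (W : S'.Opens).2) (by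
    rw [hteq]
    intro x hx
    obtain ⟨W, hW, hxW⟩ := TopologicalSpace.Opens.mem_sSup.1 hx
    exact Set.mem_iUnion.2 ⟨⟨W, hW⟩, hxW⟩)
  let W : t' → S'.Opens := fun i => (i.1 : S'.Opens)
  have hW : ∀ i, IsAffineOpen (W i) := fun i => ht i.1.2
  have hWle : ∀ i, W i ≤ g ⁻¹ᵁ V := fun i => hteq ▸ le_sSup i.1.2
  let UY : t' → X'.Opens := fun i => g' ⁻¹ᵁ U ⊓ f' ⁻¹ᵁ W i
  have hUYa : ∀ i, IsAffineOpen (UY i) := fun i => by
    have : IsAffine _ := hV
    have : IsAffine _ := hW i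
    have : IsAffine _ := hU
    exact .of_isIso (Scheme.Hom.isPullback_resLE hc.flip.flip (hWle i) hUV (UY := UY i) rfl).isoPullback.hom
  let R' : t' → Type u := fun i => Γ(S', W i)
  let S'' : t' → Type u := fun i => Γ(X', UY i)
  let _a1 : ∀ i, Algebra Γ(S, V) (R' i) := fun i => (g.appLE V (W i) (hWle i)).hom.toAlgebra
  let _a2 : ∀ i, Algebra (R' i) (S'' i) := fun i => (f'.appLE (W i) (UY i) inf_le_right).hom.toAlgebra
  let _a3 : ∀ i, Algebra Γ(X, U) (S'' i) := fun i => (g'.appLE U (UY i) inf_le_left).hom.toAlgebra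
  let _a4 : ∀ i, Algebra Γ(S, V) (S'' i) := fun i =>
    ((g.appLE V (W i) (hWle i)) ≫ f'.appLE (W i) (UY i) inf_le_right).hom.toAlgebra
  have hsq : ∀ i, g.appLE V (W i) (hWle i) ≫ f'.appLE (W i) (UY i) inf_le_right =
      f.appLE V U hUV ≫ g'.appLE U (UY i) inf_le_left := fun i => by
    simp only [Scheme.Hom.appLE_comp_appLE, hc.w]
  have : ∀ i, IsScalarTower Γ(S, V) (R' i) (S'' i) := fun i => .of_algebraMap_eq' rfl
  have : ∀ i, IsScalarTower Γ(S, V) Γ(X, U) (S'' i) := fun i => .of_algebraMap_eq' (congrArg CommRingCat.Hom.hom (hsq i))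
  have : ∀ i, Algebra.IsPushout Γ(S, V) (R' i) Γ(X, U) (S'' i) := fun i =>
    CommRingCat.isPushout_iff_isPushout.1
      ((isIso_pushoutSection_iff hc (hWle i) hUV rfl).1
        (isIso_pushoutSection_of_isAffineOpen hc (hWle i) hUV rfl hV (hW i) hU)).flip
  have : ∀ i, Module.Flat Γ(S, V) (R' i) := fun i =>
    HasRingHomProperty.appLE @Flat g ‹_› ⟨V, hV⟩ ⟨W i, hW i⟩ (hWle i)
  refine Groth.Agent.FlatMorKoszul.isLCI_of_faithfullyFlat R' S'' (fun p => ?_)
    fun i => hf' (UY i) (W i) (hUYa i) (hW i) inf_le_right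
  have hpV : IsAffineOpen.fromSpec hV p ∈ V := (IsAffineOpen.range_fromSpec hV).le ⟨p, rfl⟩
  obtain ⟨x, hx⟩ := Surjective.surj (f := g) ((IsAffineOpen.fromSpec hV) p)
  obtain ⟨i, hi, hxi⟩ := Set.mem_iUnion₂.1 (ht' (show x ∈ g ⁻¹ᵁ V from by show g x ∈ V; rwa [hx]))
  obtain ⟨q, hq⟩ := (IsAffineOpen.range_fromSpec (hW ⟨i, hi⟩)).ge hxi
  refine ⟨⟨i, hi⟩, q, (IsAffineOpen.fromSpec hV).isOpenEmbedding.injective ?_⟩
  show (IsAffineOpen.fromSpec hV) (Spec.map (g.appLE V (W ⟨i, hi⟩) (hWle _)) q) = _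
  rw [← Scheme.Hom.comp_apply, IsAffineOpen.SpecMap_appLE_fromSpec g hV (hW _), Scheme.Hom.comp_apply, hq, hx]

end Groth.Agent.S1492
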