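import Groth.Statements.S8662
import Groth.Agent.S1492
import Groth.Agent.Synt15.LCIBridge
-- import your own Groth.Agent.* helpers here

set_option autoImplicit false
universe u
open CategoryTheory CategoryTheory.Limits AlgebraicGeometry
open Synt

namespace Groth.Agent.S8662

/-- Let f : X ⟶ Y be a morphism, g : Y' ⟶ Y flat, surjective and quasi-compact, and f' : X' ⟶ Y' the
base change of f along g (a cartesian square). If f' is a local complete intersection morphism in
the factorisation sense (around each point, locally of finite type and factoring as a Koszul-regular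
immersion followed by a smooth morphism), then so is f. -/
theorem result {X Y X' Y' : Scheme.{u}} (f : X ⟶ Y) (g : Y' ⟶ Y) [Flat g] [Surjective g] [QuasiCompact g]
    (f' : X' ⟶ Y') (g' : X' ⟶ X) (hsq : IsPullback g' f' f g)
    (hf' : ∀ x' : X', Synt.IsKoszulAt f' x') : ∀ x : X, Synt.IsKoszulAt f x := by
  intro x
  exact Groth.Agent.Synt15.isKoszulAt_of_isKoszulPt f (Groth.Agent.Synt15.isKoszulPt_of_isLCI_appLE f
    (Groth.Agent.S1492.result f f' g' g hsq
      (Groth.Agent.Synt15.isLCI_appLE_of_isKoszulPt f' fun z => Groth.Agent.Synt15.isKoszulPt_of_isKoszulAt f' (hf' z))) x)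

end Groth.Agent.S8662
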