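import Groth.Statements.S9699
import Groth.Agent.Synt15.SmoothSyntomic
-- import your own Groth.Agent.* helpers here

set_option autoImplicit false
universe u
open CategoryTheory CategoryTheory.Limits AlgebraicGeometry
open Synt

namespace Groth.Agent.S9699

/-- A smooth morphism of schemes is syntomic (flat, locally of finite presentation, with local complete
intersection fibres, in the affine-local sense of Synt.IsSyntomicMor). -/
theorem result {X S : Scheme.{u}} (f : X ⟶ S) [Smooth f] :
    Synt.IsSyntomicMor f := by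
  intro x
  obtain ⟨V, hV, hxV, -⟩ := AlgebraicGeometry.exists_isAffineOpen_mem_and_subset (x := f x) (U := ⊤) (Set.mem_univ _)
  obtain ⟨U, hU, hxU, hUV⟩ := AlgebraicGeometry.exists_isAffineOpen_mem_and_subset (x := x) (U := f ⁻¹ᵁ V) hxV
  refine ⟨⟨U, hU⟩, ⟨V, hV⟩, hUV, hxU, ?_⟩
  letI := (f.appLE V U hUV).hom.toAlgebra
  haveI : Algebra.Smooth Γ(S, V) Γ(X, U) := Smooth.smooth_appLE f hV hU hUV
  exact Groth.Agent.Synt15.isSyntomic_of_smooth Γ(S, V) Γ(X, U)

end Groth.Agent.S9699
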