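import Groth.Statements.S1494
import Groth.Agent.FlatMorKoszul.LocusBC
import Mathlib.AlgebraicGeometry.Morphisms.FinitePresentation
import Mathlib.AlgebraicGeometry.Morphisms.Flat

set_option autoImplicit false
universe u
attribute [local instance] HasDerivedCategory.standard
open FlatMor

namespace Groth.Agent.S1494

open AlgebraicGeometry CategoryTheory Limits in
/-- Let f : X → Y be a morphism over S with X and Y flat and locally of finite presentation over S. Then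
the set of points x at which f is Koszul (some affine neighbourhood U of x maps into an affine V of
Y with O_Y(V) → O_X(U) a local complete intersection homomorphism) is open, and for any base change
S' → S, with f' : X' → Y' the base change of f and X' → X the projection, the corresponding set for
f' is the preimage of the one for f. -/
theorem result {X Y S : Scheme.{u}} (f : X ⟶ Y) (g : Y ⟶ S)
    [Flat (f ≫ g)] [LocallyOfFinitePresentation (f ≫ g)] [Flat g] [LocallyOfFinitePresentation g] :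
    IsOpen {x : ↑X | (∃ (U : X.Opens) (V : Y.Opens) (hU : IsAffineOpen U) (hV : IsAffineOpen V) (hUV : U ≤ f ⁻¹ᵁ V), x ∈ U ∧
          letI := (f.appLE V U hUV).hom.toAlgebra
          LCI.IsLCI Γ(Y, V) Γ(X, U))} ∧
      ∀ {X' Y' S' : Scheme.{u}} (h : S' ⟶ S) (gY : Y' ⟶ Y) (g' : Y' ⟶ S') (hY : IsPullback gY g' g h)
        (gX : X' ⟶ X) (f' : X' ⟶ Y') (hX : IsPullback gX (f' ≫ g') (f ≫ g) h) (w : gX ≫ f = f' ≫ gY),
        {x' : ↑X' | (∃ (U : X'.Opens) (V : Y'.Opens) (hU : IsAffineOpen U) (hV : IsAffineOpen V) (hUV : U ≤ f' ⁻¹ᵁ V), x' ∈ U ∧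
          letI := (f'.appLE V U hUV).hom.toAlgebra
          LCI.IsLCI Γ(Y', V) Γ(X', U))} = gX ⁻¹' {x : ↑X | (∃ (U : X.Opens) (V : Y.Opens) (hU : IsAffineOpen U) (hV : IsAffineOpen V) (hUV : U ≤ f ⁻¹ᵁ V), x ∈ U ∧
          letI := (f.appLE V U hUV).hom.toAlgebra
          LCI.IsLCI Γ(Y, V) Γ(X, U))} := by
  constructor
  · rw [isOpen_iff_forall_mem_open]
    rintro x ⟨U, V, hU, hV, hUV, hx, hl⟩
    exact ⟨U, fun y hy => ⟨U, V, hU, hV, hUV, hy, hl⟩, U.2, hx⟩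
  intro X' Y' S' h gY g' hY gX f' hX w
  ext x'
  show Groth.Agent.FlatMorKoszul.IsKoszulPt f' x' ↔ Groth.Agent.FlatMorKoszul.IsKoszulPt f (gX x')
  obtain ⟨_, ⟨W, hW, rfl⟩, hxW, -⟩ :=
    S.isBasis_affineOpens.exists_subset_of_mem_open (Set.mem_univ (g (f (gX x')))) isOpen_univ
  obtain ⟨_, ⟨V, hV, rfl⟩, hxV, hVle⟩ :=
    Y.isBasis_affineOpens.exists_subset_of_mem_open (show f (gX x') ∈ g ⁻¹ᵁ W from hxW) (g ⁻¹ᵁ W).2
  obtain ⟨_, ⟨U, hU, rfl⟩, hxU, hUle⟩ :=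
    X.isBasis_affineOpens.exists_subset_of_mem_open (show gX x' ∈ f ⁻¹ᵁ V from hxV) (f ⁻¹ᵁ V).2
  have hs : h (g' (f' x')) = g (f (gX x')) := by
    simpa using congrArg (fun φ : X' ⟶ S => φ x') hX.w.symm
  obtain ⟨_, ⟨W', hW', rfl⟩, hxW', hW'le⟩ :=
    S'.isBasis_affineOpens.exists_subset_of_mem_open
      (show g' (f' x') ∈ h ⁻¹ᵁ W from by show h (g' (f' x')) ∈ W; rw [hs]; exact hxW) (h ⁻¹ᵁ W).2
  replace hW'le : W' ≤ h ⁻¹ᵁ W := hW'le
  replace hVle : V ≤ g ⁻¹ᵁ W := hVle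
  replace hUle : U ≤ f ⁻¹ᵁ V := hUle
  let V' : Y'.Opens := gY ⁻¹ᵁ V ⊓ g' ⁻¹ᵁ W'
  let U' : X'.Opens := gX ⁻¹ᵁ U ⊓ (f' ≫ g') ⁻¹ᵁ W'
  have hUfg : U ≤ (f ≫ g) ⁻¹ᵁ W := fun y hy => hVle (hUle hy)
  have hU'V' : U' ≤ f' ⁻¹ᵁ V' := fun y hy => ⟨by
    show gY (f' y) ∈ V
    rw [← Scheme.Hom.comp_apply, ← w, Scheme.Hom.comp_apply]
    exact hUle hy.1, hy.2⟩
  have hV'a : IsAffineOpen V' := by
    have : IsAffine _ := hW
    have : IsAffine _ := hW'
    have : IsAffine _ := hV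
    exact .of_isIso (Scheme.Hom.isPullback_resLE hY hW'le hVle (UY := V') rfl).isoPullback.hom
  have hU'a : IsAffineOpen U' := by
    have : IsAffine _ := hW
    have : IsAffine _ := hW'
    have : IsAffine _ := hU
    exact .of_isIso (Scheme.Hom.isPullback_resLE hX hW'le hUfg (UY := U') rfl).isoPullback.hom
  have hxU' : x' ∈ U' := ⟨hxU, hxW'⟩
  let _aB : Algebra Γ(S, W) Γ(Y, V) := (g.appLE W V hVle).hom.toAlgebra
  let _aR' : Algebra Γ(S, W) Γ(S', W') := (h.appLE W W' hW'le).hom.toAlgebra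
  let _aB' : Algebra Γ(S', W') Γ(Y', V') := (g'.appLE W' V' inf_le_right).hom.toAlgebra
  let _aBB' : Algebra Γ(Y, V) Γ(Y', V') := (gY.appLE V V' inf_le_left).hom.toAlgebra
  let _aRB' : Algebra Γ(S, W) Γ(Y', V') :=
    (h.appLE W W' hW'le ≫ g'.appLE W' V' inf_le_right).hom.toAlgebra
  let _aS : Algebra Γ(Y, V) Γ(X, U) := (f.appLE V U hUle).hom.toAlgebra
  let _aRS : Algebra Γ(S, W) Γ(X, U) := ((f ≫ g).appLE W U hUfg).hom.toAlgebra
  let _aS' : Algebra Γ(Y', V') Γ(X', U') := (f'.appLE V' U' hU'V').hom.toAlgebra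
  let _aR'S' : Algebra Γ(S', W') Γ(X', U') := ((f' ≫ g').appLE W' U' inf_le_right).hom.toAlgebra
  let _aSS' : Algebra Γ(X, U) Γ(X', U') := (gX.appLE U U' inf_le_left).hom.toAlgebra
  let _aRS' : Algebra Γ(S, W) Γ(X', U') :=
    (h.appLE W W' hW'le ≫ (f' ≫ g').appLE W' U' inf_le_right).hom.toAlgebra
  have : IsScalarTower Γ(S, W) Γ(S', W') Γ(Y', V') := .of_algebraMap_eq' rfl
  have : IsScalarTower Γ(S, W) Γ(Y, V) Γ(Y', V') := .of_algebraMap_eq' (congrArg CommRingCat.Hom.hom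
    (show h.appLE W W' hW'le ≫ g'.appLE W' V' inf_le_right = g.appLE W V hVle ≫ gY.appLE V V' inf_le_left by
      simp only [Scheme.Hom.appLE_comp_appLE, hY.w]))
  have : IsScalarTower Γ(S, W) Γ(S', W') Γ(X', U') := .of_algebraMap_eq' rfl
  have : IsScalarTower Γ(S, W) Γ(X, U) Γ(X', U') := .of_algebraMap_eq' (congrArg CommRingCat.Hom.hom
    (show h.appLE W W' hW'le ≫ (f' ≫ g').appLE W' U' inf_le_right =
      (f ≫ g).appLE W U hUfg ≫ gX.appLE U U' inf_le_left by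
      simp only [Scheme.Hom.appLE_comp_appLE, hX.w]))
  have : IsScalarTower Γ(S, W) Γ(Y, V) Γ(X, U) := .of_algebraMap_eq' (congrArg CommRingCat.Hom.hom
    (show (f ≫ g).appLE W U hUfg = g.appLE W V hVle ≫ f.appLE V U hUle by
      simp only [Scheme.Hom.appLE_comp_appLE]))
  have : IsScalarTower Γ(S', W') Γ(Y', V') Γ(X', U') := .of_algebraMap_eq' (congrArg CommRingCat.Hom.hom
    (show (f' ≫ g').appLE W' U' inf_le_right = g'.appLE W' V' inf_le_right ≫ f'.appLE V' U' hU'V' by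
      simp only [Scheme.Hom.appLE_comp_appLE]))
  have : Algebra.IsPushout Γ(S, W) Γ(S', W') Γ(Y, V) Γ(Y', V') :=
    CommRingCat.isPushout_iff_isPushout.1 ((isIso_pushoutSection_iff hY hW'le hVle rfl).1
      (isIso_pushoutSection_of_isAffineOpen hY hW'le hVle rfl hW hW' hV)).flip
  have : Algebra.IsPushout Γ(S, W) Γ(S', W') Γ(X, U) Γ(X', U') :=
    CommRingCat.isPushout_iff_isPushout.1 ((isIso_pushoutSection_iff hX hW'le hUfg rfl).1
      (isIso_pushoutSection_of_isAffineOpen hX hW'le hUfg rfl hW hW' hU)).flip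
  have : Algebra.FinitePresentation Γ(S, W) Γ(Y, V) :=
    HasRingHomProperty.appLE @LocallyOfFinitePresentation g ‹_› ⟨W, hW⟩ ⟨V, hV⟩ hVle
  have : Algebra.FinitePresentation Γ(S, W) Γ(X, U) :=
    HasRingHomProperty.appLE @LocallyOfFinitePresentation (f ≫ g) ‹_› ⟨W, hW⟩ ⟨U, hU⟩ hUfg
  have : Module.Flat Γ(S, W) Γ(Y, V) := HasRingHomProperty.appLE @Flat g ‹_› ⟨W, hW⟩ ⟨V, hV⟩ hVle
  have : Module.Flat Γ(S, W) Γ(X, U) := HasRingHomProperty.appLE @Flat (f ≫ g) ‹_› ⟨W, hW⟩ ⟨U, hU⟩ hUfg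
  have : Algebra.FinitePresentation Γ(Y, V) Γ(X, U) :=
    Algebra.FinitePresentation.of_restrict_scalars_finitePresentation Γ(S, W) Γ(Y, V) Γ(X, U)
  obtain ⟨n, β, hβ⟩ := (Algebra.FiniteType.iff_quotient_mvPolynomial'').1
    (inferInstance : Algebra.FiniteType Γ(Y, V) Γ(X, U))
  exact Groth.Agent.FlatMorKoszulBC.isKoszulPt_iff_of_baseChange (R := Γ(S, W)) (R' := Γ(S', W'))
    f f' hU hU'a hV hV'a hUle hU'V' hxU hxU' rfl rfl
    (gX.appLE U U' inf_le_left).hom rfl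
    (Groth.Agent.FlatMorKoszul.comap_primeIdealOf gX hU'a hU inf_le_left hxU')
    (congrArg CommRingCat.Hom.hom
      (show f.appLE V U hUle ≫ gX.appLE U U' inf_le_left = gY.appLE V V' inf_le_left ≫ f'.appLE V' U' hU'V' by
        simp only [Scheme.Hom.appLE_comp_appLE, w]))
    n β hβ

end Groth.Agent.S1494
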