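import Groth.Statements.S9183
import Groth.Agent.CAlgH.UnderColimit

set_option autoImplicit false
universe u
open CategoryTheory CategoryTheory.Limits
open CAlg

namespace Groth.Agent.S9183

/-- Every R-algebra A, with no finiteness assumption, is the colimit of a filtered system of finitely
presented R-algebras. (The published statement asserts that the category of all finitely presented
R-algebras with a map to A is filtered with colimit A; this row states that some small filtered
system of finitely presented R-algebras has colimit A.) -/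
theorem result (R A : Type u) [CommRing R] [CommRing A] [Algebra R A] :
    ∃ (I : Type u) (_ : SmallCategory I) (_ : IsFiltered I) (D : I ⥤ Under (CommRingCat.of R))
      (c : Cocone D) (_ : IsColimit c),
      (∀ i, (D.obj i).hom.hom.FinitePresentation) ∧
      Nonempty (c.pt ≅ Under.mk (CommRingCat.ofHom (algebraMap R A))) := by
  classical
  let ev : ∀ s : Finset A, MvPolynomial s R →ₐ[R] A := fun s => MvPolynomial.aeval fun a : s => (a : A)
  let I := Groth.Agent.CAlgH.FPIdx R A
  let rn : ∀ {s t : Finset A}, s ⊆ t → (MvPolynomial s R →ₐ[R] MvPolynomial t R) := fun h =>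
    MvPolynomial.rename (fun a => ⟨a.1, h a.2⟩)
  have rn_comp : ∀ {s t w : Finset A} (h1 : s ⊆ t) (h2 : t ⊆ w), (rn h2).comp (rn h1) = rn (h1.trans h2) :=
    fun h1 h2 => MvPolynomial.algHom_ext fun a => by simp [rn]
  have rn_id : ∀ (s : Finset A), rn (subset_refl s) = AlgHom.id R _ := fun s =>
    MvPolynomial.algHom_ext fun a => by simp [rn]
  have ev_rn : ∀ {s t : Finset A} (h : s ⊆ t), (ev t).comp (rn h) = ev s := fun h =>
    MvPolynomial.algHom_ext fun a => by simp [ev, rn]
  letI : Preorder I :=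
    { le := fun a b => ∃ h : a.s ⊆ b.s, a.J.map (rn h) ≤ b.J
      le_refl := fun a => ⟨subset_refl _, by rw [rn_id]; exact (Ideal.map_id _).le⟩
      le_trans := fun a b c h1 h2 => by
        obtain ⟨p, hp⟩ := h1; obtain ⟨q, hq⟩ := h2
        refine ⟨p.trans q, ?_⟩
        rw [← rn_comp p q, show Ideal.map ((rn q).comp (rn p)) a.J = (a.J.map (rn p)).map (rn q) from
          (Ideal.map_map _ _).symm]
        exact (Ideal.map_mono hp).trans hq }
  have hker : ∀ {s t : Finset A} (h : s ⊆ t) (J : Ideal (MvPolynomial s R)),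
      J ≤ RingHom.ker (ev s).toRingHom → J.map (rn h) ≤ RingHom.ker (ev t).toRingHom := fun h J hJ => by
    rw [Ideal.map_le_iff_le_comap]
    intro x hx
    show ev _ (rn h x) = 0
    rw [← AlgHom.comp_apply, ev_rn]; exact hJ hx
  have : Nonempty I := ⟨⟨∅, ⊥, Submodule.fg_bot, bot_le⟩⟩
  have : IsDirected I (· ≤ ·) := ⟨fun a b => by
    let pa := Finset.subset_union_left (s₁ := a.s) (s₂ := b.s)
    let pb := Finset.subset_union_right (s₁ := a.s) (s₂ := b.s)
    exact ⟨⟨a.s ∪ b.s, a.J.map (rn pa) ⊔ b.J.map (rn pb), Submodule.FG.sup (Ideal.FG.map a.fg _) (Ideal.FG.map b.fg _),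
      sup_le (hker pa _ a.le) (hker pb _ b.le)⟩, ⟨pa, le_sup_left⟩, ⟨pb, le_sup_right⟩⟩⟩
  let G : I → Type u := fun a => MvPolynomial a.s R ⧸ a.J
  let f : ∀ a b : I, a ≤ b → (G a →ₐ[R] G b) := fun a b h =>
    Ideal.Quotient.liftₐ a.J ((Ideal.Quotient.mkₐ R b.J).comp (rn h.choose)) (fun x hx =>
      Ideal.Quotient.eq_zero_iff_mem.mpr (h.choose_spec (Ideal.mem_map_of_mem _ hx)))
  let g : ∀ a : I, G a →ₐ[R] A := fun a => Ideal.Quotient.liftₐ a.J (ev a.s) (fun x hx => a.le hx)
  obtain ⟨D, c, hc, hD, -, hiso⟩ := Groth.Agent.CAlgH.under_colimit (I := I) G f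
    (fun a => Ideal.Quotient.algHom_ext R (AlgHom.ext fun x => by
      show Ideal.Quotient.mk _ (rn _ x) = Ideal.Quotient.mk _ x
      rw [rn_id]; rfl))
    (fun a b d h1 h2 => Ideal.Quotient.algHom_ext R (AlgHom.ext fun x => by
      show Ideal.Quotient.mk _ (rn _ (rn _ x)) = Ideal.Quotient.mk _ (rn _ x)
      rw [← AlgHom.comp_apply, rn_comp]))
    g
    (fun a b h => Ideal.Quotient.algHom_ext R (AlgHom.ext fun x => by
      show ev _ (rn _ x) = ev _ x
      rw [← AlgHom.comp_apply, ev_rn]))
    (fun z => ⟨⟨{z}, ⊥, Submodule.fg_bot, bot_le⟩, Ideal.Quotient.mk _ (MvPolynomial.X ⟨z, Finset.mem_singleton_self z⟩),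
      by show ev _ (MvPolynomial.X _) = z; simp [ev]⟩)
    (fun a x hx => by
      obtain ⟨p, rfl⟩ := Ideal.Quotient.mk_surjective x
      refine ⟨⟨a.s, a.J ⊔ Ideal.span {p}, Submodule.FG.sup a.fg (Submodule.fg_span_singleton p),
        sup_le a.le ((Ideal.span_singleton_le_iff_mem _).mpr hx)⟩, ⟨subset_refl _, by rw [rn_id]; exact (Ideal.map_id _).le.trans le_sup_left⟩, ?_⟩
      show Ideal.Quotient.mk _ (rn _ p) = 0
      rw [rn_id]
      exact Ideal.Quotient.eq_zero_iff_mem.mpr (Ideal.mem_sup_right (Ideal.mem_span_singleton_self p)))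
  refine ⟨I, inferInstance, inferInstance, D, c, hc, fun a => ?_, hiso⟩
  rw [hD a]
  exact (RingHom.finitePresentation_algebraMap).mpr (Algebra.FinitePresentation.quotient a.fg)

end Groth.Agent.S9183
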