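import Groth.Statements.S9805
import Groth.Agent.Props12.FinLocFree

set_option autoImplicit false
universe u
open CategoryTheory AlgebraicGeometry TopologicalSpace
open Props

namespace Groth.Agent.S9805

/-- A quasi-coherent module on a scheme is flat and of finite presentation if and only if it is finite
locally free. -/
theorem result (X : Scheme.{u}) (M : X.Modules) (hM : Coh.IsQCoh M) :
    (FlatMod.IsFlat M ∧ CohB1.IsFP M) ↔ FlatMod.IsFinLocFree M := by
  constructor
  · rintro ⟨hflat, hfp⟩
    have : SheafOfModules.IsFinitePresentation (R := X.ringCatSheaf) M := hfp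
    refine Groth.Agent.Props12.isFinLocFree_of_isFP_of_free_stalks M hfp fun x => ?_
    have hFT : CohB1.IsFT M := inferInstance
    have := Groth.Agent.Props12.finite_stalk_of_isFT M hFT x
    have : Module.Flat (X.presheaf.stalk x) (M.presheaf.stalk x) := hflat x
    exact Module.free_of_flat_of_isLocalRing
  · exact fun h => ⟨Groth.Agent.Props12.isFlat_of_isFinLocFree M h,
      Groth.Agent.Props12.isFP_of_isFinLocFree M h⟩

end Groth.Agent.S9805
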