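import Groth.Statements.S10704
import Groth.Agent.AlgSpLib.ModifCover
import Groth.Agent.AlgSpLib.InjEtale
-- import your own Groth.Agent.* helpers here

set_option autoImplicit false
universe u
open CategoryTheory CategoryTheory.Limits AlgebraicGeometry
open AlgSp

namespace Groth.Agent.S10704

set_option backward.isDefEq.respectTransparency.types false

open Groth.Agent.AlgSpLib in
theorem isClosed_range_map {S : Scheme.{u}} {G F : Sp S} (hF : IsAlgSpace F) {i : G ⟶ F}
    (hi : RepWith @IsClosedImmersion i) : IsClosed (Set.range (Points.map i)) := by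
  obtain ⟨W, t, hte, hts⟩ := hF.atlas
  rw [← (isOpenQuotientMap_ofPt t hte hts).isQuotientMap.isClosed_preimage]
  have : IsClosedImmersion (hi.1.snd t).left := hi.property_snd t
  rw [← show Set.range (hi.1.snd t).left = Points.ofPt t ⁻¹' Set.range (Points.map i) from
    Set.ext fun u => ⟨?_, ?_⟩]
  · exact (hi.1.snd t).left.isClosedEmbedding.isClosed_range
  · rintro ⟨r, rfl⟩
    exact ⟨Points.ofPt (hi.1.fst t) r, by rw [Points.map_ofPt, hi.1.w, ofPt_map]⟩
  · rintro ⟨z, hz⟩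
    obtain ⟨v, -, hv⟩ := exists_point_of_isPullback (hi.1.isPullback t)
      (show Points.map i z = Points.map t (Points.ofScheme W u) by rw [hz, Points.ofPt_eq_map_ofScheme])
    obtain ⟨r, rfl⟩ := (Points.schemeEquiv _).surjective v
    exact ⟨r, (Points.schemeEquiv W).injective ((map_yon_map_ofScheme _ r).symm.trans hv)⟩

/-- Let `f : Y → X` be a quasi-compact quasi-separated morphism of algebraic spaces over `S`, `i : Z →
X` a closed immersion of finite presentation such that `f⁻¹Z → Z` is an isomorphism and `f` is flat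
at every point of `|f⁻¹Z|`, and let `U ⊂ X` be the open subspace complementary to `Z`. Then there is
an fpqc covering `{X_k → X}` refining the family `{U → X, Y → X}`: every `X_k → X` factors through
`U` or through `Y`. -/
theorem result {S : Scheme.{u}} {X Y Z FZ U : AlgSp.Space S} (f : Y ⟶ X)
    (hqc : AlgSp.IsQuasiCompactMor f.hom) (hqs : AlgSp.IsQuasiSeparatedMor f.hom) (i : Z ⟶ X)
    (hi : AlgSp.RepWith @IsClosedImmersion i.hom) (hifp : AlgSp.LocP @LocallyOfFinitePresentation i.hom)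
    (iY : FZ ⟶ Y) (fZ : FZ ⟶ Z) (hFZ : IsPullback iY.hom fZ.hom f.hom i.hom) [IsIso fZ]
    (hflat : ∀ y ∈ Set.range (AlgSp.Points.map iY.hom), AlgSp.IsFlatAtMor f.hom y) (j : U ⟶ X)
    (hj : AlgSp.RepWith @IsOpenImmersion j.hom)
    (hU : Set.range (AlgSp.Points.map j.hom) = (Set.range (AlgSp.Points.map i.hom))ᶜ) :
    ∃ (ι : Type u) (W : ι → AlgSp.Space S) (w : ∀ k, W k ⟶ X),
      AlgSp.IsFpqcCover (fun k => (W k).obj) (fun k => (w k).hom) ∧
        ∀ k, (∃ l : W k ⟶ U, l ≫ j = w k) ∨ (∃ l : W k ⟶ Y, l ≫ f = w k) := by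
  have hZp : AlgSp.IsAlgSpace Z.obj := Z.property
  obtain ⟨W, t, hte, hts⟩ := X.property.atlas
  let Zr : Set (AlgSp.Points X.obj) := Set.range (AlgSp.Points.map i.hom)
  have hZr : IsClosed Zr := isClosed_range_map X.property hi
  have hfl : ∀ y, AlgSp.Points.map f.hom y ∈ Zr → AlgSp.IsFlatAtMor f.hom y := by
    rintro y ⟨z, hz⟩
    obtain ⟨w, hw, -⟩ := Groth.Agent.AlgSpLib.exists_point_of_isPullback hFZ hz.symm
    exact hflat y ⟨w, hw⟩
  let P : W.left.affineOpens → Over S := fun O => Over.mk (O.1.ι ≫ W.hom)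
  let jO : ∀ O, P O ⟶ W := fun O => Over.homMk O.1.ι rfl
  let tO := fun O => (AlgSp.yon S).map (jO O) ≫ t
  have htO : ∀ O, AlgSp.RepWith @Etale (tO O) := fun O => Groth.Agent.AlgSpLib.RepWith.comp
    ((AlgSp.repWith_yon_map_iff _ _).2 (inferInstanceAs (Etale O.1.ι))) hte
  choose D dT l hD hdT hl hcov using fun O => Groth.Agent.AlgSpLib.exists_flat_chart X.property Y.property f.hom
    hqc hZr hfl (T := P O) O.2 (tO O) (htO O)
  let Wk : Option W.left.affineOpens → AlgSp.Space S := fun k => Option.elim k U fun O => (AlgSp.ofScheme S).obj (D O)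
  let wk : ∀ k, Wk k ⟶ X := fun k => match k with
    | none => j
    | some O => ObjectProperty.homMk (l O ≫ f.hom)
  refine ⟨Option W.left.affineOpens, Wk, wk, ⟨?_, ?_⟩, ?_⟩
  · rintro (_ | O)
    · exact Groth.Agent.AlgSpLib.locP_of_repWith Groth.Agent.AlgSpLib.etLocal_flat U.property
        (Groth.Agent.AlgSpLib.RepWith.mono (fun _ _ g (_ : IsOpenImmersion g) => (inferInstance : Flat g)) hj)
    · show AlgSp.LocP @Flat (l O ≫ f.hom)
      rw [hl]
      exact Groth.Agent.AlgSpLib.locP_of_repWith Groth.Agent.AlgSpLib.etLocal_flat (AlgSp.IsAlgSpace.yon_obj _)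
        (Groth.Agent.AlgSpLib.RepWith.comp ((AlgSp.repWith_yon_map_iff _ _).2 (hdT O))
          (Groth.Agent.AlgSpLib.RepWith.mono Groth.Agent.AlgSpLib.etale_le_flat (htO O)))
  · intro Z hZ k
    have hr := X.property.representable_from_yon t
    have sqR := hr.isPullback' k
    let π := (hr.snd k).left
    let ρ := (hr.fst' k).left
    have : Etale π := hte.property_snd k
    have : Surjective π := hts.property _ _ _ (hr.isPullback k)
    have : IsAffine Z.left := hZ
    let K := {B : (hr.pullback k).left.affineOpens × W.left.affineOpens // B.1.1 ≤ ρ ⁻¹ᵁ B.2.1}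
    obtain ⟨σ, hσ⟩ := isCompact_univ.elim_finite_subcover (fun B : K => π '' (B.1.1.1 : Set (hr.pullback k).left))
      (fun B => π.isOpenMap _ B.1.1.1.2) (fun z _ => by
        obtain ⟨r, rfl⟩ := π.surjective z
        obtain ⟨O, hO, hrO, -⟩ := exists_isAffineOpen_mem_and_subset (x := ρ r) (U := ⊤) trivial
        obtain ⟨Q, hQ, hrQ, hle⟩ := exists_isAffineOpen_mem_and_subset (x := r) (U := ρ ⁻¹ᵁ O) hrO
        exact Set.mem_iUnion.2 ⟨⟨(⟨Q, hQ⟩, ⟨O, hO⟩), hle⟩, r, hrQ, rfl⟩)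
    -- the open part is quasi-compact
    have sqi := hi.1.isPullback k
    let e := (hi.1.snd k).left
    have : IsClosedImmersion e := hi.property_snd k
    have hifp' : AlgSp.RepWith @LocallyOfFinitePresentation i.hom :=
      (Groth.Agent.AlgSpLib.repWith_iff_locP Groth.Agent.AlgSpLib.etLocal_lfp hZp X.property hi.1).2 hifp
    have : LocallyOfFinitePresentation e := hifp'.property_snd k
    have hce : IsCompact (Set.range e)ᶜ := Groth.Agent.FlatMor12.IsoLocusMod.isCompact_of_isConstructible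
      ((e.isConstructible_image Topology.IsConstructible.univ).compl) |> fun h => by simpa using h
    have hrange : ∀ z, z ∈ Set.range e ↔ AlgSp.Points.ofPt k z ∈ Zr := by
      intro z
      constructor
      · rintro ⟨r, rfl⟩
        exact ⟨AlgSp.Points.ofPt (hi.1.fst k) r, by
          rw [AlgSp.Points.map_ofPt, hi.1.w, Groth.Agent.AlgSpLib.ofPt_map]⟩
      · rintro ⟨z', hz'⟩
        obtain ⟨v, -, hv⟩ := Groth.Agent.AlgSpLib.exists_point_of_isPullback sqi
          (show AlgSp.Points.map i.hom z' = AlgSp.Points.map k (AlgSp.Points.ofScheme Z z) by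
            rw [hz', AlgSp.Points.ofPt_eq_map_ofScheme])
        obtain ⟨r, rfl⟩ := (AlgSp.Points.schemeEquiv _).surjective v
        exact ⟨r, (AlgSp.Points.schemeEquiv Z).injective
          ((Groth.Agent.AlgSpLib.map_yon_map_ofScheme _ r).symm.trans hv)⟩
    let ZU : Z.left.Opens := ⟨(Set.range e)ᶜ, e.isClosedEmbedding.isClosed_range.isOpen_compl⟩
    obtain ⟨τ, hτ⟩ := hce.elim_finite_subcover
      (fun Q : {Q : Z.left.affineOpens // Q.1 ≤ ZU} => (Q.1.1 : Set Z.left)) (fun Q => Q.1.1.2) (fun z hz => by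
        obtain ⟨Q, hQ, hzQ, hle⟩ := exists_isAffineOpen_mem_and_subset (x := z) (U := ZU) hz
        exact Set.mem_iUnion.2 ⟨⟨⟨Q, hQ⟩, hle⟩, hzQ⟩)
    -- the members
    let A₁ : σ → Over S := fun B => Over.mk (B.1.1.1.1.ι ≫ (hr.pullback k).hom)
    let a₁ : ∀ B : σ, A₁ B ⟶ hr.pullback k := fun B => Over.homMk B.1.1.1.1.ι rfl
    let ρ₁ : ∀ B : σ, A₁ B ⟶ P B.1.1.2 := fun B => Over.homMk (ρ.resLE B.1.1.2.1 B.1.1.1.1 B.1.2) (by
      show _ ≫ B.1.1.2.1.ι ≫ W.hom = B.1.1.1.1.ι ≫ (hr.pullback k).hom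
      rw [← Category.assoc, Scheme.Hom.resLE_comp_ι, Category.assoc]
      exact congrArg (B.1.1.1.1.ι ≫ ·) (Over.w (hr.fst' k)))
    let M₁ : σ → Over S := fun B => Over.mk (pullback.fst (ρ₁ B).left (dT B.1.1.2).left ≫ (A₁ B).hom)
    let c₁ : ∀ B, M₁ B ⟶ Z := fun B =>
      (Over.homMk (pullback.fst (ρ₁ B).left (dT B.1.1.2).left) rfl : M₁ B ⟶ A₁ B) ≫ a₁ B ≫ hr.snd k
    let g₁ : ∀ B, M₁ B ⟶ D B.1.1.2 := fun B => Over.homMk (pullback.snd (ρ₁ B).left (dT B.1.1.2).left) (by
      show _ = pullback.fst (ρ₁ B).left (dT B.1.1.2).left ≫ (A₁ B).hom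
      rw [← Over.w (dT B.1.1.2), ← Over.w (ρ₁ B), pullback.condition_assoc])
    let A₂ : τ → Over S := fun Q => Over.mk (Q.1.1.1.ι ≫ Z.hom)
    let c₂ : ∀ Q : τ, A₂ Q ⟶ Z := fun Q => Over.homMk Q.1.1.1.ι rfl
    obtain ⟨n₁, ⟨e₁⟩⟩ := Finite.exists_equiv_fin σ
    obtain ⟨n₂, ⟨e₂⟩⟩ := Finite.exists_equiv_fin τ
    refine Groth.Agent.AlgSpLib.mk_standard (ι' := Fin n₁ ⊕ Fin n₂)
      (fun x => match x with | .inl a => M₁ (e₁.symm a) | .inr b => A₂ (e₂.symm b))
      (fun x => match x with | .inl a => c₁ (e₁.symm a) | .inr b => c₂ (e₂.symm b)) ?_ ?_ ?_ ?_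
    · rintro (a | b)
      · have : IsAffine (A₁ (e₁.symm a)).left := (e₁.symm a).1.1.1.2
        have : IsAffine (P (e₁.symm a).1.1.2).left := (e₁.symm a).1.1.2.2
        have := hD (e₁.symm a).1.1.2
        exact inferInstanceAs (IsAffine (pullback _ _))
      · exact (e₂.symm b).1.1.2
    · rintro (a | b)
      · have := hdT (e₁.symm a).1.1.2
        show Flat (pullback.fst _ _ ≫ (e₁.symm a).1.1.1.1.ι ≫ π)
        infer_instance
      · exact inferInstanceAs (Flat (e₂.symm b).1.1.1.ι)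
    · intro z
      by_cases hz : z ∈ Set.range e
      · obtain ⟨B, hB, r, hrB, rfl⟩ := Set.mem_iUnion₂.1 (hσ (Set.mem_univ z))
        have hpt : AlgSp.Points.ofPt (tO B.1.2) ((ρ₁ ⟨B, hB⟩).left (⟨r, hrB⟩ : B.1.1.1.toScheme)) =
            AlgSp.Points.ofPt k (π r) := by
          rw [Groth.Agent.AlgSpLib.ofPt_map]
          rw [← Groth.Agent.AlgSpLib.ofPt_map (hr.snd k) k]
          rw [← sqR.w, Groth.Agent.AlgSpLib.ofPt_map]
          refine congrArg (AlgSp.Points.ofPt t) ?_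
          show ((ρ.resLE B.1.2.1 B.1.1.1 B.2) ≫ B.1.2.1.ι) _ = _
          rw [Scheme.Hom.resLE_comp_ι]
          rfl
        obtain ⟨z', hz'⟩ := (hrange _).1 hz
        let w := AlgSp.Points.map (inv fZ).hom z'
        have hw : AlgSp.Points.map f.hom (AlgSp.Points.map iY.hom w) = AlgSp.Points.ofPt k (π r) := by
          rw [← AlgSp.Points.map_comp, hFZ.w, AlgSp.Points.map_comp, ← AlgSp.Points.map_comp (inv fZ).hom,
            ← ObjectProperty.FullSubcategory.comp_hom, IsIso.inv_hom_id]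
          erw [AlgSp.Points.map_id]
          exact hz'
        obtain ⟨d, hd⟩ := hcov B.1.2 _ (by rw [hpt]; exact ⟨z', hz'⟩) ⟨_, by rw [hpt]; exact hw⟩
        obtain ⟨m, hm, -⟩ := Scheme.Pullback.exists_preimage_pullback (f := (ρ₁ ⟨B, hB⟩).left)
          (g := (dT B.1.2).left) (⟨r, hrB⟩ : B.1.1.1.toScheme) d hd.symm
        refine ⟨Sum.inl (e₁ ⟨B, hB⟩), ?_⟩
        show π r ∈ Set.range (c₁ (e₁.symm (e₁ ⟨B, hB⟩))).left
        rw [e₁.symm_apply_apply]
        refine ⟨m, ?_⟩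
        show π (B.1.1.1.ι ((pullback.fst (ρ₁ ⟨B, hB⟩).left (dT B.1.2).left) m)) = π r
        rw [hm]
        rfl
      · obtain ⟨Q, hQ, hzQ⟩ := Set.mem_iUnion₂.1 (hτ hz)
        refine ⟨Sum.inr (e₂ ⟨Q, hQ⟩), ?_⟩
        show z ∈ Set.range (c₂ (e₂.symm (e₂ ⟨Q, hQ⟩))).left
        rw [e₂.symm_apply_apply]
        exact ⟨⟨z, hzQ⟩, rfl⟩
    · rintro (a | b)
      · let B := e₁.symm a
        refine ⟨some B.1.1.2, (AlgSp.yon S).map (g₁ B), ?_⟩
        have e1 : g₁ B ≫ dT B.1.1.2 ≫ jO B.1.1.2 =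
            (Over.homMk (pullback.fst (ρ₁ B).left (dT B.1.1.2).left) rfl : M₁ B ⟶ A₁ B) ≫ a₁ B ≫ hr.fst' k :=
          Over.OverMorphism.ext (by
            show pullback.snd _ _ ≫ (dT B.1.1.2).left ≫ B.1.1.2.1.ι = pullback.fst _ _ ≫ B.1.1.1.1.ι ≫ ρ
            rw [← Category.assoc, ← pullback.condition, Category.assoc]
            exact congrArg (pullback.fst _ _ ≫ ·) (Scheme.Hom.resLE_comp_ι _ _))
        show (AlgSp.yon S).map (g₁ B) ≫ l B.1.1.2 ≫ f.hom = (AlgSp.yon S).map (c₁ B) ≫ k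
        rw [hl]
        simp only [tO, c₁, ← Functor.map_comp_assoc]
        rw [← Category.assoc (g₁ B), Category.assoc (g₁ B), e1]
        simp only [Functor.map_comp, Category.assoc, sqR.w]
      · let Q := e₂.symm b
        obtain ⟨lu, hlu⟩ := (Groth.Agent.AlgSpLib.exists_lift_iff_range_subset hj
          ((AlgSp.yon S).map (c₂ Q) ≫ k)).2 (by
            rintro _ ⟨y, rfl⟩
            obtain ⟨q, rfl⟩ := (AlgSp.Points.schemeEquiv _).surjective y
            rw [hU]
            intro hmem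
            have hq : Q.1.1.1.ι q ∈ ZU := Q.1.2 q.2
            refine hq ((hrange _).2 ?_)
            rw [← show AlgSp.Points.ofPt ((AlgSp.yon S).map (c₂ Q) ≫ k) q = AlgSp.Points.ofPt k (Q.1.1.1.ι q) from
              Groth.Agent.AlgSpLib.ofPt_map _ _ _, AlgSp.Points.ofPt_eq_map_ofScheme]
            exact hmem)
        exact ⟨none, lu, hlu⟩
  · rintro (_ | O)
    · exact Or.inl ⟨𝟙 U, Category.id_comp _⟩
    · exact Or.inr ⟨ObjectProperty.homMk (l O), rfl⟩

end Groth.Agent.S10704
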