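import Groth.Statements.S10298
import Groth.Agent.AlgSpLib.MorMore
import Groth.Agent.AlgSpLib.FpqcBaseImm
import Mathlib.AlgebraicGeometry.Normalization
-- import your own Groth.Agent.* helpers here

set_option autoImplicit false
universe u
open CategoryTheory CategoryTheory.Limits AlgebraicGeometry
open AlgSp

namespace Groth.Agent.S10298

set_option backward.isDefEq.respectTransparency.types false

/-- For a quasi-compact quasi-separated morphism of schemes, the relative normalization of schemes is
the normalization in the sense of algebraic spaces. -/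
theorem result {S : Scheme.{u}} {V U N : Over S} (g : V ⟶ U)
    [QuasiCompact g.left] [QuasiSeparated g.left] (f' : V ⟶ N) (ν : N ⟶ U)
    (e : N.left ≅ g.left.normalization) (he1 : f'.left ≫ e.hom = g.left.toNormalization)
    (he2 : e.hom ≫ g.left.fromNormalization = ν.left) :
    AlgSp.IsRelNormalization ((AlgSp.yon S).map g) ((AlgSp.yon S).map ν) ((AlgSp.yon S).map f') := by
  have hint : IsIntegralHom ν.left := by rw [← he2]; infer_instance
  have hc : f' ≫ ν = g := Over.OverMorphism.ext (by
    show f'.left ≫ ν.left = g.left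
    rw [← he2, reassoc_of% he1, g.left.toNormalization_fromNormalization])
  refine ⟨by rw [← Functor.map_comp, hc],
    (AlgSpLib.isIntegralMor_iff_repWith _).2 ((repWith_yon_map_iff @IsIntegralHom ν).2 hint),
    fun Z _ π q hπ hq => ?_⟩
  have hπ' := (AlgSpLib.isIntegralMor_iff_repWith π).1 hπ
  have sq := hπ'.1.isPullback (𝟙 ((AlgSp.yon S).obj U))
  let W := hπ'.1.pullback (𝟙 ((AlgSp.yon S).obj U))
  let w := hπ'.1.snd (𝟙 ((AlgSp.yon S).obj U))
  let p := hπ'.1.fst (𝟙 ((AlgSp.yon S).obj U))
  have hw : IsIntegralHom w.left := hπ'.property_snd _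
  have : IsIso p := sq.isIso_fst_of_isIso
  have hpw : p ≫ π = (AlgSp.yon S).map w := sq.w.trans (Category.comp_id _)
  obtain ⟨q₀, hq₀⟩ := (AlgSp.yon S).map_surjective (q ≫ inv p)
  have hq₁ : q₀ ≫ w = g := (AlgSp.yon S).map_injective (by
    rw [Functor.map_comp, hq₀, Category.assoc, ← hpw, IsIso.inv_hom_id_assoc, hq])
  have H : g.left = q₀.left ≫ w.left := congrArg (fun k : V ⟶ U => k.left) hq₁.symm
  let d : N ⟶ W := Over.homMk (e.hom ≫ g.left.normalizationDesc q₀.left w.left H) (by
    show _ ≫ W.hom = N.hom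
    rw [← Over.w w, Category.assoc, g.left.normalizationDesc_comp_assoc, reassoc_of% he2, Over.w ν])
  have hd1 : f' ≫ d = q₀ := Over.OverMorphism.ext (by
    show f'.left ≫ e.hom ≫ _ = _
    rw [reassoc_of% he1, g.left.toNormalization_normalizationDesc])
  have hd2 : d ≫ w = ν := Over.OverMorphism.ext (by
    show (e.hom ≫ _) ≫ w.left = _
    rw [Category.assoc, g.left.normalizationDesc_comp, he2])
  refine ⟨(AlgSp.yon S).map d ≫ p, ⟨?_, ?_⟩, fun m hm => ?_⟩
  · rw [← Category.assoc, ← Functor.map_comp, hd1, hq₀, Category.assoc, IsIso.inv_hom_id, Category.comp_id]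
  · rw [Category.assoc, hpw, ← Functor.map_comp, hd2]
  · obtain ⟨m₀, hm₀⟩ := (AlgSp.yon S).map_surjective (m ≫ inv p)
    have k1 : f' ≫ m₀ = q₀ := (AlgSp.yon S).map_injective (by
      rw [Functor.map_comp, hm₀, ← Category.assoc, hm.1, hq₀])
    have k2 : m₀ ≫ w = ν := (AlgSp.yon S).map_injective (by
      rw [Functor.map_comp, hm₀, Category.assoc, ← hpw, IsIso.inv_hom_id_assoc, hm.2])
    have hmd : m₀ = d := by
      refine Over.OverMorphism.ext ((cancel_epi e.inv).1 ?_)
      refine Scheme.Hom.normalization.hom_ext g.left _ _ w.left ?_ ?_ ?_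
      · rw [← he1, Category.assoc, Category.assoc, e.hom_inv_id_assoc, e.hom_inv_id_assoc,
          ← Over.comp_left, ← Over.comp_left, k1, hd1]
      · rw [Category.assoc, ← Over.comp_left, k2, ← he2, e.inv_hom_id_assoc]
      · rw [Category.assoc, ← Over.comp_left, hd2, ← he2, e.inv_hom_id_assoc]
    rw [← hmd, hm₀, Category.assoc, IsIso.inv_hom_id, Category.comp_id]

end Groth.Agent.S10298
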