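import Groth.Statements.S10300
import Groth.Agent.AlgSpLib.NormCompare
import Groth.Agent.AlgSpLib.SchemeDescent
import Groth.Agent.AlgSpLib.LqfScheme
import Groth.Agent.AlgSpLib.MorMore2
import Groth.Agent.AlgSpLib.MorSep
import Groth.Agent.S10298
import Mathlib.AlgebraicGeometry.ZariskisMainTheorem
-- import your own Groth.Agent.* helpers here

set_option autoImplicit false
universe u
open CategoryTheory CategoryTheory.Limits AlgebraicGeometry
open AlgSp

namespace Groth.Agent.S10300

open Groth.Agent.AlgSpLib in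
theorem iso_of_relNormalization {S : Scheme.{u}} {F G A B : Sp S} {f : F ⟶ G} {νA : A ⟶ G} {fA : F ⟶ A}
    {νB : B ⟶ G} {fB : F ⟶ B} (hA : IsAlgSpace A) (hB : IsAlgSpace B)
    (ha : IsRelNormalization f νA fA) (hb : IsRelNormalization f νB fB) :
    ∃ e : A ≅ B, fA ≫ e.hom = fB := by
  obtain ⟨h, ⟨h1, h2⟩, -⟩ := ha.2.2 hB νB fB hb.2.1 hb.1
  obtain ⟨g, ⟨g1, g2⟩, -⟩ := hb.2.2 hA νA fA ha.2.1 ha.1
  exact ⟨⟨h, g, (ha.2.2 hA νA fA ha.2.1 ha.1).unique
      ⟨by rw [reassoc_of% h1, g1], by rw [Category.assoc, g2, h2]⟩ ⟨Category.comp_id _, Category.id_comp _⟩,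
    (hb.2.2 hB νB fB hb.2.1 hb.1).unique
      ⟨by rw [reassoc_of% g1, h1], by rw [Category.assoc, h2, g2]⟩ ⟨Category.comp_id _, Category.id_comp _⟩⟩, h1⟩

set_option backward.isDefEq.respectTransparency.types false
set_option backward.isDefEq.respectTransparency false

/-- For f quasi-finite and separated, the map from X to the normalization of Y in X is a quasi-compact
open immersion, and f is quasi-affine. -/
theorem result {S : Scheme.{u}} {X Y Y' : AlgSp.Space S}
    (f : X ⟶ Y) (hqf : AlgSp.LocP (@LocallyQuasiFinite ⊓ @LocallyOfFiniteType) f.hom)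
    (hqc : AlgSp.IsQuasiCompactMor f.hom) (hsep : AlgSp.IsSeparatedMor f.hom) (ν : Y' ⟶ Y) (f' : X ⟶ Y')
    (hn : AlgSp.IsRelNormalization f.hom ν.hom f'.hom) :
    AlgSp.RepWith @IsOpenImmersion f'.hom ∧ AlgSp.IsQuasiCompactMor f'.hom ∧ AlgSp.IsQuasiAffineMor f.hom := by
  have hrep := Groth.Agent.AlgSpLib.representable_of_lqf_separated' X.property Y.property f.hom hsep hqf
  have hlqf : AlgSp.RepWith (@LocallyQuasiFinite ⊓ @LocallyOfFiniteType) f.hom :=
    (Groth.Agent.AlgSpLib.repWith_iff_locP Groth.Agent.AlgSpLib.etLocal_lqf X.property Y.property hrep).2 hqf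
  have hqcr : AlgSp.RepWith @QuasiCompact f.hom :=
    (Groth.Agent.AlgSpLib.repWith_quasiCompact_iff X.property Y.property hrep).2 hqc
  have props : ∀ (T : Over S) (a : (AlgSp.yon S).obj T ⟶ Y.obj),
      ∃ (W : Over S) (w : W ⟶ T) (fst : (AlgSp.yon S).obj W ⟶ X.obj), IsPullback fst ((AlgSp.yon S).map w) f.hom a ∧
        IsSeparated w.left ∧ LocallyQuasiFinite w.left ∧ LocallyOfFiniteType w.left ∧ QuasiCompact w.left := by
    intro T a
    have sq := hrep.isPullback a
    exact ⟨hrep.pullback a, hrep.snd a, hrep.fst a, sq,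
      (AlgSp.isSeparatedMor_yon_map_iff _).1 (Groth.Agent.AlgSpLib.isSeparatedMor_of_isPullback sq hsep),
      (hlqf.property _ _ _ sq).1, (hlqf.property _ _ _ sq).2, hqcr.property _ _ _ sq⟩
  have hqs : AlgSp.IsQuasiSeparatedMor f.hom := Groth.Agent.AlgSpLib.isQuasiSeparatedMor_of_isSeparatedMor hsep
  refine ⟨?_, ?_, ?_⟩
  rotate_left 2
  · intro Z hZ g
    obtain ⟨W, w, fst, sq, hw1, hw2, hw3, hw4⟩ := props Z g
    haveI := hw1; haveI := hw2; haveI := hw3; haveI := hw4; haveI := hZ
    haveI : CompactSpace ↥W.left := QuasiCompact.compactSpace_of_compactSpace w.left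
    exact ⟨W, w, fst, sq, Groth.Agent.AlgSpLib.isQuasiAffine_of_lqf w.left⟩
  all_goals
    have H := Groth.Agent.AlgSpLib.locNorm_of_isRelNormalization f hqc hqs hn
    obtain ⟨U, p, hpe, hps⟩ := Y.property.atlas
    obtain ⟨W, w, fst, sqW, hw1, hw2, hw3, hw4⟩ := props U p
    haveI := hw1; haveI := hw2; haveI := hw3; haveI := hw4
    have sqN := IsPullback.of_hasPullback ν.hom p
    let k : (AlgSp.yon S).obj W ⟶ pullback ν.hom p := pullback.lift (fst ≫ f'.hom) ((AlgSp.yon S).map w)
      (by rw [Category.assoc, H.fac, sqW.w])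
    have HU := (H.baseChange p (fun T a ha => Groth.Agent.AlgSpLib.RepWith.comp ha
        (Groth.Agent.AlgSpLib.RepWith.mono Groth.Agent.AlgSpLib.etale_smooth hpe))
      sqN sqW (pullback.lift_fst _ _ _ : k ≫ pullback.fst ν.hom p = fst ≫ f'.hom) (pullback.lift_snd _ _ _)).isRelNormalization
      (IsAlgSpace.yon_obj U)
    let NS : Over S := Over.mk (w.left.fromNormalization ≫ U.hom)
    let νS : NS ⟶ U := Over.homMk w.left.fromNormalization
    let fS : W ⟶ NS := Over.homMk w.left.toNormalization (by simp [NS])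
    have hS := Groth.Agent.S10298.result w fS νS (Iso.refl _) (by simp [fS, NS]) (by simp [νS, NS])
    obtain ⟨e, he⟩ := iso_of_relNormalization (IsAlgSpace.yon_obj NS)
      (Groth.Agent.AlgSpLib.isAlgSpace_pullback (X := Y') (Y := ⟨_, IsAlgSpace.yon_obj U⟩) (Z := Y) ν.hom p) hS HU
    have hsq : IsPullback fst k f'.hom (pullback.fst ν.hom p) :=
      IsPullback.of_bot (by rw [pullback.lift_snd, H.fac]; exact sqW) (pullback.lift_fst _ _ _).symm sqN
    have hfr : AlgSp.Representable f'.hom := by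
      have h1 : AlgSp.RepWith ⊤ (f'.hom ≫ ν.hom) := by rw [H.fac]; exact ⟨hrep, fun _ _ _ _ _ _ => trivial⟩
      exact (Groth.Agent.AlgSpLib.repWith_of_comp (⊤ : MorphismProperty Scheme.{u}) h1
        (Groth.Agent.AlgSpLib.repWith_diagonal ν.hom ⟨Y'.property.diag, fun _ _ _ _ _ _ => trivial⟩)).1
    haveI : Sheaf.IsLocallySurjective (pullback.fst ν.hom p) := Groth.Agent.AlgSpLib.isLocallySurjective_of_etale
      (Groth.Agent.AlgSpLib.RepWith.baseChange sqN.flip hpe) (Groth.Agent.AlgSpLib.RepWith.baseChange sqN.flip hps)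
    have hq : QuasiCompact fS.left := inferInstanceAs (QuasiCompact w.left.toNormalization)
    have ho : IsOpenImmersion fS.left := inferInstanceAs (IsOpenImmersion w.left.toNormalization)
  · refine Groth.Agent.AlgSpLib.repWith_of_isLocallySurjective hfr _ hsq @IsOpenImmersion ?_
    have he' : (AlgSp.yon S).map fS ≫ e.hom = k := he
    rw [← he']
    exact Groth.Agent.AlgSpLib.RepWith.comp ((repWith_yon_map_iff @IsOpenImmersion fS).2 ho)
      (Groth.Agent.AlgSpLib.repWith_of_isIso _ _)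
  · refine (Groth.Agent.AlgSpLib.repWith_quasiCompact_iff X.property Y'.property hfr).1
      (Groth.Agent.AlgSpLib.repWith_of_isLocallySurjective hfr _ hsq @QuasiCompact ?_)
    have he' : (AlgSp.yon S).map fS ≫ e.hom = k := he
    rw [← he']
    exact Groth.Agent.AlgSpLib.RepWith.comp ((repWith_yon_map_iff @QuasiCompact fS).2 hq)
      (Groth.Agent.AlgSpLib.repWith_of_isIso _ _)

end Groth.Agent.S10300
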