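import Groth.Statements.S7661

set_option autoImplicit false
universe u
open CategoryTheory CategoryTheory.Limits AlgebraicGeometry
open Variety

namespace Groth.Agent.S7661

/-- Let A be a ring, I an ideal, p_1, …, p_r prime ideals with I ⊄ p_i for all i, and let f̄ ∈ A/I. Then
f̄ lifts to an element f ∈ A with f ∉ p_i for all i. -/
theorem result (A : Type u) [CommRing A] (I : Ideal A)
    (s : Finset (Ideal A)) (hs : ∀ p ∈ s, p.IsPrime) (hI : ∀ p ∈ s, ¬ I ≤ p) (fbar : A ⧸ I) :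
    ∃ f : A, Ideal.Quotient.mk I f = fbar ∧ ∀ p ∈ s, f ∉ p := by
  classical
  obtain ⟨f₀, rfl⟩ := Ideal.Quotient.mk_surjective fbar
  -- maximal elements of `s`
  let M := s.filter fun p => ∀ q ∈ s, p ≤ q → q = p
  have hM : ∀ p ∈ s, ∃ q ∈ M, p ≤ q := fun p hp => by
    obtain ⟨q, hpq, hq⟩ := s.exists_le_maximal hp
    exact ⟨q, Finset.mem_filter.2 ⟨hq.prop, fun r hr hqr => (hq.le_of_ge hr hqr).antisymm hqr⟩, hpq⟩
  let S₁ := M.filter fun p => f₀ ∈ p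
  let S₂ := M.filter fun p => f₀ ∉ p
  let J := I * ∏ p ∈ S₂, p
  have hJ : ∀ q ∈ S₁, ¬ J ≤ q := fun q hq hle => by
    obtain ⟨hqM, hfq⟩ := Finset.mem_filter.1 hq
    obtain ⟨hqs, hqmax⟩ := Finset.mem_filter.1 hqM
    have := hs q hqs
    rcases (Ideal.IsPrime.mul_le this).1 hle with h | h
    · exact hI q hqs h
    · obtain ⟨p, hp, hpq⟩ := (Ideal.IsPrime.prod_le this).1 h
      obtain ⟨hpM, hfp⟩ := Finset.mem_filter.1 hp
      obtain ⟨hps, hpmax⟩ := Finset.mem_filter.1 hpM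
      obtain rfl := hpmax q hqs hpq
      exact hfp hfq
  obtain ⟨i, hi, hni⟩ : ∃ i ∈ J, ∀ q ∈ S₁, i ∉ q := by
    by_contra hcon
    push Not at hcon
    by_cases he : S₁ = ∅
    · obtain ⟨q, hq, -⟩ := hcon 0 J.zero_mem
      simp [he] at hq
    · have hsub : (J : Set A) ⊆ ⋃ q ∈ (↑S₁ : Set (Ideal A)), (q : Set A) := fun x hx => by
        obtain ⟨q, hq, hxq⟩ := hcon x hx
        exact Set.mem_iUnion₂.2 ⟨q, hq, hxq⟩
      obtain ⟨q, hq, hle⟩ := (Ideal.subset_union_prime (f := id) ⊤ ⊤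
        (fun q hq _ _ => hs q (Finset.mem_filter.1 (Finset.mem_filter.1 hq).1).1)).1 hsub
      exact hJ q hq hle
  refine ⟨f₀ + i, ?_, fun p hp hfp => ?_⟩
  · rw [map_add, Ideal.Quotient.eq_zero_iff_mem.2 (Ideal.mul_le_left (I := I) (J := ∏ p ∈ S₂, p) hi), add_zero]
  · obtain ⟨q, hqM, hpq⟩ := hM p hp
    by_cases hf : f₀ ∈ q
    · exact hni q (Finset.mem_filter.2 ⟨hqM, hf⟩) ((q.add_mem_iff_right hf).1 (hpq hfp))
    · refine hf ((q.add_mem_iff_left ?_).1 (hpq hfp))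
      have hq2 : q ∈ S₂ := Finset.mem_filter.2 ⟨hqM, hf⟩
      have h1 : (∏ p ∈ S₂, p) ≤ q := (Ideal.prod_le_inf (s := S₂) (f := fun p => p)).trans (Finset.inf_le hq2)
      exact h1 (Ideal.mul_le_right (I := I) (J := ∏ p ∈ S₂, p) hi)

end Groth.Agent.S7661
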