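import Groth.Statements.S7662
import Groth.Agent.VarietyLib.AffineMerge

set_option autoImplicit false
set_option backward.isDefEq.respectTransparency.types false
universe u
open CategoryTheory CategoryTheory.Limits AlgebraicGeometry
open Groth.Agent.VarietyLib
open Variety

namespace Groth.Agent.S7662

/-- Let X be a scheme with finitely many irreducible components Z_1, …, Z_t and T ⊆ X a finite set of
points such that, for each i, some affine open of Z_i with its reduced closed subscheme structure
contains the points of T on Z_i. Then some affine open of X contains every point of T. -/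
theorem result (X : Scheme.{u})
    (hX : (irreducibleComponents (X : Type u)).Finite) (T : Finset X)
    (h : ∀ (Z : Set X) (hZ : Z ∈ irreducibleComponents (X : Type u)),
      ∃ V : (Scheme.IdealSheafData.vanishingIdeal
          (⟨Z, isClosed_of_mem_irreducibleComponents Z hZ⟩ : TopologicalSpace.Closeds X)).subscheme.Opens,
        IsAffineOpen V ∧ ∀ t ∈ T, t ∈ Z → t ∈ (Scheme.IdealSheafData.vanishingIdeal
          (⟨Z, isClosed_of_mem_irreducibleComponents Z hZ⟩ : TopologicalSpace.Closeds X)).subschemeι.base '' (V : Set _)) :
    ∃ U : X.Opens, IsAffineOpen U ∧ ∀ t ∈ T, t ∈ U := by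
  classical
  let cl : {Z // Z ∈ hX.toFinset} → TopologicalSpace.Closeds X := fun Z =>
    ⟨Z.1, isClosed_of_mem_irreducibleComponents Z.1 (hX.mem_toFinset.1 Z.2)⟩
  have hall : ∀ s : Finset {Z // Z ∈ hX.toFinset}, HasAffineNhd T (s.sup cl) := by
    intro s
    induction s using Finset.induction_on with
    | empty => rw [Finset.sup_empty]; exact hasAffineNhd_bot T
    | insert Z s _ ih =>
      rw [Finset.sup_insert]
      obtain ⟨V, hV, hVT⟩ := h Z.1 (hX.mem_toFinset.1 Z.2)
      exact (hasAffineNhd_of_opens (A := cl Z) hV hVT).sup ih
  refine exists_affineOpen_of_hasAffineNhd ?_ (hall Finset.univ)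
  refine Set.eq_univ_of_forall fun x => ?_
  have hle : cl ⟨irreducibleComponent x, hX.mem_toFinset.2 (irreducibleComponent_mem_irreducibleComponents x)⟩ ≤
      Finset.univ.sup cl := Finset.le_sup (Finset.mem_univ _)
  exact hle mem_irreducibleComponent

end Groth.Agent.S7662
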