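import Groth.Statements.S7663
import Groth.Agent.VarietyLib.DimOne

set_option autoImplicit false
universe u
open CategoryTheory CategoryTheory.Limits AlgebraicGeometry
open Variety

namespace Groth.Agent.S7663

/-- Let K be a field and A, B ⊆ K subrings with fraction field K, with A Noetherian of dimension one.
Then A ⊗ B → K is not surjective (equivalently, the subring generated by A and B is not K) if and
only if some discrete valuation ring O ⊆ K with fraction field K contains both A and B. -/
theorem result (K : Type u) [Field K]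
    (A : Subring K) [IsFractionRing A K] (B : Subring K) [IsFractionRing B K] [IsNoetherianRing A] (hdim : ringKrullDim A = 1) :
    A ⊔ B ≠ ⊤ ↔ ∃ O : ValuationSubring K, IsDiscreteValuationRing O ∧ A ≤ O.toSubring ∧ B ≤ O.toSubring := by
  refine ⟨fun h => ?_, fun ⟨O, hO, hA, hB⟩ h => ?_⟩
  · have := Groth.Agent.VarietyLib.DimOne.isFractionRing_of_le A (A ⊔ B) le_sup_left
    obtain ⟨O, hO, hle⟩ := Groth.Agent.VarietyLib.DimOne.exists_valuationSubring_of_ne_top (A ⊔ B) h
    exact ⟨O, Groth.Agent.VarietyLib.DimOne.isDVR_of_le A hdim O (le_sup_left.trans hle) hO, le_sup_left.trans hle,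
      le_sup_right.trans hle⟩
  · have ht : O.toSubring = ⊤ := top_le_iff.1 (h ▸ sup_le hA hB)
    refine IsDiscreteValuationRing.not_isField O ⟨⟨0, 1, zero_ne_one⟩, mul_comm, fun {a} ha => ?_⟩
    exact ⟨⟨(a : K)⁻¹, (SetLike.ext_iff.1 ht _).2 (Subring.mem_top _)⟩,
      Subtype.ext (mul_inv_cancel₀ fun h => ha (Subtype.ext h))⟩

end Groth.Agent.S7663
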