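import Groth.Statements.S10068
import Groth.Agent.AlgSpLib.VCartIso
import Groth.Agent.AlgSpLib.DirectedCofinal
import Groth.Agent.AlgSpLib.OpenFac
-- import your own Groth.Agent.* helpers here

set_option autoImplicit false
universe u
open CategoryTheory CategoryTheory.Limits AlgebraicGeometry
open AlgSp

namespace Groth.Agent.S10068

open Groth.Agent.AlgSpLib Groth.Agent.AlgSpLib.VCart

/-- Let `f : X ⟶ Y`, a morphism of algebraic spaces over `S`, be integral, with `Y` quasi-compact and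
quasi-separated over `S`, and let `V ⊂ Y` be an open subspace, quasi-compact, over which the base
change `f⁻¹(V) ⟶ V` is finite as well as of finite presentation. Then `X` is the limit of a directed
system of algebraic spaces `X_i`, each finite and of finite presentation over `Y` (limit in fppf
sheaves, indexed by a nonempty directed preorder, affine transitions, compatible with `f`), such
that `f⁻¹(V) ⟶ f_i⁻¹(V)` is an isomorphism for every `i`. (The published statement allows any base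
scheme and uses absolute quasi-separatedness; this row assumes the base quasi-separated, over which
quasi-separatedness relative to the base is the absolute notion.) -/
theorem result (S : Scheme.{u}) [QuasiSeparatedSpace S]
    {X Y : AlgSp.Space S} (f : X ⟶ Y) (hf : AlgSp.IsIntegralMor f.hom)
    (hYqc : AlgSp.IsQuasiCompactSp Y.obj) (hYqs : AlgSp.IsQuasiSeparatedSp Y.obj)
    (V : AlgSp.Space S) (j : V ⟶ Y) (hj : AlgSp.RepWith @IsOpenImmersion j.hom) (hVqc : AlgSp.IsQuasiCompactSp V.obj)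
    (PV : AlgSp.Sp S) (pv₁ : PV ⟶ X.obj) (pv₂ : PV ⟶ V.obj) (hPV : IsPullback pv₁ pv₂ f.hom j.hom)
    (hfin : AlgSp.IsFiniteMor pv₂) (hfp : AlgSp.IsFinitePresentationMor pv₂) :
    ∃ (I : Type u) (_ : Preorder I) (_ : IsDirected I (fun a b => a ≤ b)) (_ : Nonempty I) (D : Iᵒᵖ ⥤ AlgSp.Sp S)
      (t : D ⟶ (Functor.const Iᵒᵖ).obj Y.obj) (c : Cone D) (_ : IsLimit c) (e : c.pt ≅ X.obj),
      (∀ i, AlgSp.IsAlgSpace (D.obj i)) ∧ (∀ (i j : Iᵒᵖ) (φ : i ⟶ j), AlgSp.IsAffineMor (D.map φ)) ∧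
      (∀ i, AlgSp.IsFiniteMor (t.app i) ∧ AlgSp.IsFinitePresentationMor (t.app i)) ∧ (∀ i, e.inv ≫ c.π.app i ≫ t.app i = f.hom) ∧
      (∀ (i : Iᵒᵖ) (Pi : AlgSp.Sp S) (q₁ : Pi ⟶ D.obj i) (q₂ : Pi ⟶ V.obj), IsPullback q₁ q₂ (t.app i) j.hom →
        ∀ k : PV ⟶ Pi, k ≫ q₁ = pv₁ ≫ e.inv ≫ c.π.app i → k ≫ q₂ = pv₂ → IsIso k) := by
  classical
  haveI := compactSpace_points_of_isQuasiCompactSp hYqc
  obtain ⟨B, b, hB, hbe, hbs⟩ := Groth.Agent.AlgSpLib.exists_affine_chart Y.property
  let E₀ : AlgSp.EtOver Y.obj := AlgSp.EtOver.mk b hbe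
  haveI : IsAffine E₀.obj.left.left := hB
  have hfa : AlgSp.IsAffineMor f.hom := Gens.isAffineMor_of_integralMor' hf
  have hr : AlgSp.Representable f.hom := ((isAffineMor_iff_repWith _).1 hfa).1
  obtain ⟨g⟩ := exists_gens hr hfa hYqc hYqs E₀ hB
  haveI := Gens.isDirected_idx (g := g) (h₀ := hB) hbs
  haveI := Gens.nonempty_idx (g := g) (h₀ := hB) X.property hfa hYqs hbs
  obtain ⟨hc⟩ := Gens.nonempty_isLimit (g := g) (h₀ := hB) X.property hfa hYqs hbs
  -- the open of the chart is quasi-compact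
  have hP : AlgSp.IsQuasiCompactSp ((AlgSp.yon S).obj (hj.1.pullback E₀.obj.hom)) :=
    OpenFac.isQuasiCompactSp_of_mor (IsAlgSpace.yon_obj _) V.property
      ((repWith_quasiCompact_iff (IsAlgSpace.yon_obj _) V.property
        (RepWith.baseChange (hj.1.isPullback E₀.obj.hom).flip (repWith_qc_chart Y.property hYqs E₀.obj.hom)).1).1
        (RepWith.baseChange (hj.1.isPullback E₀.obj.hom).flip (repWith_qc_chart Y.property hYqs E₀.obj.hom)))
      hVqc
  haveI := compactSpace_points_of_isQuasiCompactSp hP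
  haveI : CompactSpace ↥(hj.1.pullback E₀.obj.hom).left :=
    (Points.schemeHomeo (hj.1.pullback E₀.obj.hom)).symm.compactSpace
  haveI : IsOpenImmersion (hj.1.snd E₀.obj.hom).left := hj.property_snd _
  obtain ⟨G, hG, hOG⟩ := exists_basicOpen_cover (Gens.chartOpen hj (E₀ := E₀)) (by
    show IsCompact ((hj.1.snd E₀.obj.hom).left.opensRange : Set E₀.obj.left.left)
    rw [Scheme.Hom.coe_opensRange]
    exact isCompact_range (hj.1.snd E₀.obj.hom).left.continuous)
  let P : g.Idx hB → Prop := fun a => AlgSp.IsFiniteMor (Gens.sysT.app (Opposite.op a)) ∧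
    a.sub.IsoOn hB (Gens.chartOpen hj (E₀ := E₀))
  have hP' : ∀ a, ∃ c, a ≤ c ∧ P c := fun a => by
    obtain ⟨c, hac, hfinc, hiso⟩ := Gens.exists_idx_iso hB X.property hf hYqs hbs a G fun x hx =>
      finitePresentation_appLE_of_open hB hj hPV hfp.1 hfa x (hG x hx)
    refine ⟨c, hac, hfinc, fun κ hκ => ?_⟩
    rw [hOG]
    exact isIso_restrict_iSup κ.left _ _ fun x : G => hiso x.1 x.2 κ hκ
  obtain ⟨hc'⟩ := DirCof.nonempty_isLimit_restrict P hP' _ hc
  exact ⟨_, inferInstance, DirCof.isDirected P hP', DirCof.nonempty P hP', DirCof.incl P ⋙ Gens.sysD,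
    Functor.whiskerLeft (DirCof.incl P) Gens.sysT, _, hc', Iso.refl _, fun i => i.unop.1.sub.alg,
    fun i k φ => Gens.isAffineMor_sysD hbs _ _ ((DirCof.incl P).map φ),
    fun i => ⟨i.unop.2.1, Gens.isFinitePresentationMor_sysT hbs _⟩,
    fun i => (Category.id_comp _).trans (Gens.sysC_sysT X.property hfa hYqs hbs _),
    fun i Pi q₁ q₂ hq k hk₁ hk₂ => Gens.isIso_of_isoOn hB hj hbs i.unop.1.sub i.unop.2.2 hPV hq k
      (hk₁.trans (congrArg (pv₁ ≫ ·) (Category.id_comp _))) hk₂⟩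

end Groth.Agent.S10068
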