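import Groth.Statements.S10421
import Groth.Agent.AlgSpLib.NormImage
import Groth.Agent.AlgSpLib.SplitDense
import Groth.Agent.AlgSpLib.NormInj
import Groth.Agent.AlgSpLib.ChevEquiv
import Groth.Agent.AlgSpLib.WhereLocus
import Groth.Agent.AlgSpLib.ProperImage

set_option autoImplicit false
universe u
open CategoryTheory CategoryTheory.Limits AlgebraicGeometry Topology TopologicalSpace
open AlgSp

namespace Groth.Agent.S10421

set_option backward.isDefEq.respectTransparency.types false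
set_option backward.isDefEq.respectTransparency false

open Groth.Agent.AlgSpLib

variable {S : Scheme.{u}}

theorem exists_affine_refinement [QuasiSeparatedSpace ↥S] (X : AlgSp.Space S) (hqc : AlgSp.IsQuasiCompactSp X.obj)
    (hqs : AlgSp.IsQuasiSeparatedSp X.obj)
    {V : Over S} (b : (AlgSp.yon S).obj V ⟶ X.obj) (hb : AlgSp.RepWith @Etale b) (hbs : AlgSp.RepWith @Surjective b) :
    ∃ (V' : Over S) (c : V' ⟶ V), AlgSp.RepWith @Etale ((AlgSp.yon S).map c ≫ b) ∧
      AlgSp.RepWith @Surjective ((AlgSp.yon S).map c ≫ b) ∧ IsSeparatedMor ((AlgSp.yon S).map c ≫ b) ∧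
      AlgSp.RepWith @QuasiCompact ((AlgSp.yon S).map c ≫ b) := by
  classical
  haveI : CompactSpace (AlgSp.Points X.obj) := compactSpace_points_of_isQuasiCompactSp hqc
  obtain ⟨T, hT⟩ := isCompact_univ.elim_finite_subcover
    (fun O : V.left.affineOpens => Points.ofPt b '' (O.1 : Set ↥V.left))
    (fun O => isOpenMap_ofPt b hb _ O.1.2) (fun x _ => by
      obtain ⟨v, rfl⟩ := surjective_ofPt b hbs x
      obtain ⟨O, hO, hv, -⟩ := exists_isAffineOpen_mem_and_subset (x := v) (U := ⊤) trivial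
      exact Set.mem_iUnion.2 ⟨⟨O, hO⟩, v, hv, rfl⟩)
  let W : T → Over S := fun O => Over.mk (O.1.1.ι ≫ V.hom)
  let V' := sigmaOver W
  let c : V' ⟶ V := Over.homMk (Sigma.desc fun O : T => O.1.1.ι)
    (Sigma.hom_ext _ _ fun O => by simp [V', sigmaOver, W])
  haveI : ∀ O : T, IsAffine (W O).left := fun O => O.1.2
  haveI : IsAffine V'.left := inferInstanceAs (IsAffine (∐ fun O => (W O).left))
  have hce : Etale c.left := IsZariskiLocalAtSource.sigmaDesc fun O : T => (inferInstance : Etale O.1.1.ι)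
  have he : AlgSp.RepWith @Etale ((AlgSp.yon S).map c ≫ b) :=
    RepWith.comp ((repWith_yon_map_iff (P := @Etale) c).2 hce) hb
  have hc : IsQuasiCompactSp ((AlgSp.yon S).obj V') :=
    ⟨_, 𝟙 _, repWith_id _ _, repWith_id _ _, (inferInstance : CompactSpace ↥V'.left)⟩
  refine ⟨V', c, he, ?_, ?_, ?_⟩
  · refine repWith_surjective_of_surjective_map he.1 fun x => ?_
    obtain ⟨O, hO, v, hv, rfl⟩ : ∃ O ∈ T, x ∈ Points.ofPt b '' (O.1 : Set ↥V.left) := by
      simpa using hT (Set.mem_univ x)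
    refine ⟨Points.ofScheme V' ((sigmaOverι W ⟨O, hO⟩).left ⟨v, hv⟩), ?_⟩
    rw [← Points.ofPt_eq_map_ofScheme, ← ofPt_map (sigmaOverι W ⟨O, hO⟩), ← Functor.map_comp_assoc, ofPt_map,
      show sigmaOverι W ⟨O, hO⟩ ≫ c = (Over.homMk O.1.ι rfl : W ⟨O, hO⟩ ⟶ V) from
        Over.OverMorphism.ext (Sigma.ι_desc _ _)]
    rfl
  · obtain ⟨q₀, -⟩ := exists_to_base X.obj
    refine isSeparatedMor_of_comp (q := q₀) ?_
    rw [show ((AlgSp.yon S).map c ≫ b) ≫ q₀ =
      (AlgSp.yon S).map (Over.homMk V'.hom (Category.comp_id _) : V' ⟶ Over.mk (𝟙 S)) from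
      (isTerminal_yon_base S).some.hom_ext _ _]
    exact (isSeparatedMor_yon_map_iff _).2 (inferInstanceAs (IsSeparated V'.hom))
  · exact (repWith_quasiCompact_iff (IsAlgSpace.yon_obj V') X.property he.1).2
      (isQuasiCompactMor_of_qc_qs (IsAlgSpace.yon_obj V') X.property _ hc hqs)

theorem dense_range_normalization {Y X X' : AlgSp.Space S} (f : Y ⟶ X) (hqc : IsQuasiCompactMor f.hom)
    (hqs : IsQuasiSeparatedMor f.hom) (ν : X' ⟶ X) (f' : Y ⟶ X') (hn : IsRelNormalization f.hom ν.hom f'.hom) :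
    Dense (Set.range (Points.map f'.hom)) := by
  refine dense_iff_inter_open.2 fun O hO ⟨x, hx⟩ => ?_
  obtain ⟨C, P, sC, sP, φ, cC, cP, c, m, hφ, -, -, rfl, hm, hcomp⟩ := exists_injChart_point f hqc hqs ν f' hn x
  have hd : DenseRange (Spec.map φ) := by
    refine (PrimeSpectrum.denseRange_comap_iff_ker_le_nilRadical φ.hom).2 ?_
    rw [(RingHom.injective_iff_ker_eq_bot φ.hom).1 hφ]
    exact bot_le
  obtain ⟨p, hp⟩ := hd.exists_mem_open (hO.preimage (Points.continuous_ofPt cC)) ⟨c, hx⟩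
  refine ⟨_, hp, Points.ofPt cP p, ?_⟩
  rw [Points.map_ofPt, hcomp, ofPt_map, hm]
  rfl


/-- Let S be a scheme and X an algebraic space over S which is quasi-compact and quasi-separated (where
S has quasi-separated underlying space and X is quasi-separated over S), assume that |X| has only
finitely many irreducible components, and let V ⟶ X be an etale surjective morphism whose source V
is a scheme. Then there exist a scheme Y and an integral surjective morphism Y ⟶ X such that, over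
some dense quasi-compact open U ⊆ X, Y is finite etale, and such that Y ⟶ X factors through V
Zariski locally on Y. -/
theorem result {S : Scheme.{u}} [QuasiSeparatedSpace ↥S]
    (X : AlgSp.Space S) (hqc : AlgSp.IsQuasiCompactSp X.obj) (hqs : AlgSp.IsQuasiSeparatedSp X.obj)
    (hirr : (irreducibleComponents (AlgSp.Points X.obj)).Finite)
    {V : Over S} (b : (AlgSp.yon S).obj V ⟶ X.obj) (hb : AlgSp.RepWith @Etale b) (hbs : AlgSp.RepWith @Surjective b) :
    ∃ (Y : Over S) (g : (AlgSp.yon S).obj Y ⟶ X.obj) (U : AlgSp.Space S) (jU : U ⟶ X),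
      AlgSp.RepWith @IsIntegralHom g ∧ AlgSp.RepWith @Surjective g ∧
      AlgSp.RepWith @IsOpenImmersion jU.hom ∧ AlgSp.IsQuasiCompactSp U.obj ∧ Dense (Set.range (AlgSp.Points.map jU.hom)) ∧
      (∀ (P : AlgSp.Sp S) (fst : P ⟶ (AlgSp.yon S).obj Y) (snd : P ⟶ U.obj), IsPullback fst snd g jU.hom →
        AlgSp.RepWith @IsFinite snd ∧ AlgSp.RepWith @Etale snd) ∧
      ∀ y : ↥Y.left, ∃ (W : Y.left.Opens) (c : Over.mk (W.ι ≫ Y.hom) ⟶ V), y ∈ W ∧
        (AlgSp.yon S).map c ≫ b = (AlgSp.yon S).map (Over.homMk W.ι rfl : Over.mk (W.ι ≫ Y.hom) ⟶ Y) ≫ g := by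
  obtain ⟨V', cV, he, hes, hsep, hvc⟩ := exists_affine_refinement X hqc hqs b hb hbs
  obtain ⟨G, Y₀, τ, j, n, σ, hτf, hτe, hτs, hG, hj, hdense, hσ, hsplit⟩ :=
    exists_split_dense X hqs hirr ((AlgSp.yon S).map cV ≫ b) he hes hsep hvc
  haveI := hτf
  haveI := Induct.mono_openImm hj
  haveI : CompactSpace ↥Y₀.left := QuasiCompact.compactSpace_of_compactSpace τ.left
  let YS : AlgSp.Space S := ⟨(AlgSp.yon S).obj Y₀, IsAlgSpace.yon_obj Y₀⟩
  let GS : AlgSp.Space S := ⟨(AlgSp.yon S).obj G, IsAlgSpace.yon_obj G⟩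
  let jS : GS ⟶ X := ObjectProperty.homMk j
  let τS : YS ⟶ GS := ObjectProperty.homMk ((AlgSp.yon S).map τ)
  let ρ : YS ⟶ X := τS ≫ jS
  have hρc : IsQuasiCompactMor ρ.hom := isQuasiCompactMor_of_qc_qs YS.property X.property _
    ⟨_, 𝟙 _, repWith_id _ _, repWith_id _ _, (inferInstance : CompactSpace ↥Y₀.left)⟩ hqs
  have hρs : IsQuasiSeparatedMor ρ.hom := isQuasiSeparatedMor_of_isSeparatedMor
    (isSeparatedMor_comp ((isSeparatedMor_yon_map_iff τ).2 inferInstance) (isSeparatedMor_of_mono j))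
  obtain ⟨X', ν, f', hn⟩ := Groth.Agent.S10295.result ρ hρc hρs
  have hν := (isIntegralMor_iff_repWith ν.hom).1 hn.2.1
  obtain ⟨W, w, fst, sq, -⟩ := exists_yon_of_repWith hν ((AlgSp.yon S).map cV ≫ b)
  have hp : AlgSp.RepWith @Etale fst := RepWith.baseChange sq.flip he
  have hps : AlgSp.RepWith @Surjective fst := RepWith.baseChange sq.flip hes
  have hpc : AlgSp.RepWith @QuasiCompact fst := RepWith.baseChange sq.flip hvc
  choose l hl using fun k => (AlgSp.yon S).map_surjective (sq.lift f'.hom ((AlgSp.yon S).map (σ k))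
    (by rw [hn.1, hσ]; rfl))
  have hl1 : ∀ k, (AlgSp.yon S).map (l k) ≫ fst = f'.hom := fun k => by rw [hl, sq.lift_fst]
  have hl2 : ∀ k, l k ≫ w = σ k := fun k => (AlgSp.yon S).map_injective (by
    rw [Functor.map_comp, hl, sq.lift_snd])
  let q : ∀ k : ULift.{u} (Fin n), (AlgSp.yon S).obj (imgOver (l k.down)) ⟶ X'.obj := fun k =>
    (AlgSp.yon S).map (imgOverι (l k.down)) ≫ fst
  have hq : ∀ k, AlgSp.RepWith @IsOpenImmersion (q k) := fun k =>
    repWith_openImmersion_img ρ ν f' hn (l k.down) fst hp hpc (isSeparatedMor_of_isPullback sq.flip hsep) (hl1 _)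
  have hcov : ∀ z : ↥W.left, ∃ k, z ∈ Set.range (imgOverι (l k)).left := by
    have hcl : IsClosed (⋃ k, Set.range (imgOverι (l k)).left) :=
      isClosed_iUnion_of_finite fun k => (l k).left.imageι.isClosedEmbedding.isClosed_range
    have hd : Dense (⋃ k, Set.range (imgOverι (l k)).left) := by
      refine dense_iff_inter_open.2 fun O hO ⟨z, hz⟩ => ?_
      obtain ⟨_, ⟨z', hz', rfl⟩, p, hp'⟩ := (dense_range_normalization ρ hρc hρs ν f' hn).inter_open_nonempty
        _ (isOpenMap_ofPt fst hp _ hO) ⟨_, z, hz, rfl⟩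
      rw [Points.ofPt_eq_map_ofScheme] at hp'
      obtain ⟨r, hr1, hr2⟩ := exists_point_of_isPullback (hp.1.isPullback f'.hom) hp'.symm
      obtain ⟨r₀, rfl⟩ := (Points.schemeEquiv _).surjective r
      obtain ⟨Q₁, hQ₁⟩ := (AlgSp.yon S).map_surjective (hp.1.fst f'.hom)
      let Q₂ : hp.1.pullback f'.hom ⟶ Y₀ := hp.1.snd f'.hom
      obtain ⟨Ω, _, _, ζ, hζ⟩ := FEtSect.exists_geomPoint r₀
      let sΩ : Spec (CommRingCat.of Ω) ⟶ S := ζ ≫ (hp.1.pullback f'.hom).hom
      let ζ' : Over.mk sΩ ⟶ hp.1.pullback f'.hom := Over.homMk ζ rfl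
      have hw : (AlgSp.yon S).map Q₁ ≫ fst = (AlgSp.yon S).map Q₂ ≫ f'.hom := by
        rw [hQ₁]; exact (hp.1.isPullback f'.hom).w
      obtain ⟨k, hk⟩ := hsplit Ω sΩ (ζ' ≫ Q₂) (ζ' ≫ Q₁ ≫ w) (by
        have := congrArg (fun t => (AlgSp.yon S).map ζ' ≫ t ≫ ν.hom) hw
        simp only [Category.assoc] at this
        rw [sq.w, hn.1] at this
        simp only [Functor.map_comp, Category.assoc]
        exact this.symm)
      have hk' : ζ' ≫ Q₁ = (ζ' ≫ Q₂) ≫ l k := (AlgSp.yon S).map_injective (sq.hom_ext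
        (by simp only [Functor.map_comp, Category.assoc, hl1, hw])
        (by rw [← Functor.map_comp, ← Functor.map_comp, Category.assoc, Category.assoc (ζ' ≫ Q₂), hl2, hk]))
      have hz'' : z' = Q₁.left r₀ := (Points.schemeEquiv W).injective (by
        show Points.ofScheme W z' = Points.ofScheme W _
        rw [← map_yon_map_ofScheme, hQ₁]
        exact hr1.symm)
      refine ⟨z', hz', Set.mem_iUnion.2 ⟨k, (toImgOver (l k)).left ((ζ' ≫ Q₂).left (IsLocalRing.closedPoint Ω)), ?_⟩⟩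
      rw [hz'', ← hζ (IsLocalRing.closedPoint Ω)]
      have := congrArg (fun t => t.left (IsLocalRing.closedPoint Ω)) hk'
      simp only [Over.comp_left, Scheme.Hom.comp_apply] at this
      show (imgOverι (l k)).left ((toImgOver (l k)).left _) = _
      rw [← Scheme.Hom.comp_apply, ← Over.comp_left, toImgOver_ι]
      exact this.symm
    intro z
    exact Set.mem_iUnion.1 (hcl.closure_eq ▸ hd z)
  have hcovX : ∀ x : AlgSp.Points X'.obj, ∃ k, x ∈ Set.range (Points.map (q k)) := fun x => by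
    obtain ⟨z, rfl⟩ := surjective_ofPt fst hps x
    obtain ⟨k, t, rfl⟩ := hcov z
    refine ⟨⟨k⟩, ?_⟩
    rw [Induct.range_map_yon]
    exact ⟨t, ofPt_map _ _ _⟩
  obtain ⟨Y, ⟨iY⟩⟩ := exists_iso_yon_of_openCover q hq hcovX
  have hint : AlgSp.RepWith @IsIntegralHom (iY.hom ≫ ν.hom) := RepWith.comp (repWith_of_isIso _ _) hν
  refine ⟨Y, iY.hom ≫ ν.hom, GS, jS, hint, ?_, hj,
    ⟨_, 𝟙 _, repWith_id _ _, repWith_id _ _, (hG : CompactSpace ↥G.left)⟩, hdense, fun P pY pG sqP => ?_, fun y => ?_⟩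
  · refine repWith_surjective_of_surjective_map hint.1 fun x => ?_
    have hsub : Set.range (Points.map j) ⊆ Set.range (Points.map ν.hom) := by
      rw [Induct.range_map_yon]
      rintro _ ⟨t, rfl⟩
      obtain ⟨p, rfl⟩ := τ.left.surjective t
      refine ⟨Points.ofPt f'.hom p, ?_⟩
      rw [Points.map_ofPt, hn.1, ← ofPt_map]
      rfl
    obtain ⟨z, hz⟩ := closure_minimal hsub
      (isClosedMap_of_univClosed X.property (ChevGen.isUnivClosedMor_of_integral hn.2.1)).isClosed_range (hdense x)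
    refine ⟨Points.map iY.inv z, ?_⟩
    rw [← Points.map_comp, iY.inv_hom_id_assoc, hz]
  · -- over the open the normalisation is the given cover
    have hP : IsAlgSpace P :=
      isAlgSpace_of_isPullback X.property.diag (IsAlgSpace.yon_obj Y) GS.property sqP
    let PS : AlgSp.Space S := ⟨P, hP⟩
    let ν₂ : PS ⟶ GS := ObjectProperty.homMk pG
    let r : PS ⟶ X' := ObjectProperty.homMk (pY ≫ iY.hom)
    have sqP' : IsPullback r.hom ν₂.hom ν.hom jS.hom :=
      sqP.of_iso (Iso.refl _) iY (Iso.refl _) (Iso.refl _) (by simp [r]) (by simp [ν₂]) (by simp) (by simp [jS])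
    let k : YS ⟶ PS := ObjectProperty.homMk (sqP'.lift f'.hom τS.hom (by rw [hn.1]; rfl))
    have hk1 : k.hom ≫ r.hom = f'.hom := sqP'.lift_fst _ _ _
    have hk2 : k.hom ≫ ν₂.hom = τS.hom := sqP'.lift_snd _ _ _
    have hsq : IsPullback (𝟙 YS : YS ⟶ YS).hom τS.hom ρ.hom jS.hom := by
      refine isPullback_of_yon (Category.id_comp _) fun T x y h => ⟨x, ⟨Category.comp_id x, ?_⟩, ?_⟩
      · exact (cancel_mono j).1 (by rw [Category.assoc]; exact h)
      · rintro z ⟨hz, -⟩
        exact (Category.comp_id z).symm.trans hz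
    have hjsm : LocP @Smooth jS.hom := locP_of_repWith etLocal_smooth GS.property
      (RepWith.mono (fun _ _ g (hg : IsOpenImmersion g) => (inferInstance : Smooth g)) hj)
    obtain ⟨-, hn₂⟩ := isRelNormalization_baseChange_smooth ρ jS τS (𝟙 YS) hsq hρc hρs hjsm hn sqP'
      (f₂' := k) (InducedCategory.hom_ext hk2) (InducedCategory.hom_ext (by
        show k.hom ≫ r.hom = (𝟙 YS.obj) ≫ f'.hom
        rw [Category.id_comp, hk1]))
    have hτi : IsIntegralMor τS.hom :=
      (isIntegralMor_iff_repWith _).2 ((repWith_yon_map_iff (P := @IsIntegralHom) τ).2 inferInstance)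
    obtain ⟨h, ⟨h1, h2⟩, -⟩ := hn₂.2.2 YS.property τS.hom (𝟙 _) hτi (Category.id_comp _)
    have h3 : h ≫ k.hom = 𝟙 _ := (hn₂.2.2 PS.property ν₂.hom k.hom hn₂.2.1 hn₂.1).unique
      ⟨by rw [reassoc_of% h1], by rw [Category.assoc, hk2, h2]⟩ ⟨Category.comp_id _, Category.id_comp _⟩
    haveI : IsIso h := ⟨k.hom, h3, h1⟩
    have hpG : pG = h ≫ (AlgSp.yon S).map τ := h2.symm
    rw [hpG]
    exact ⟨RepWith.comp (repWith_of_isIso _ h) ((repWith_yon_map_iff (P := @IsFinite) τ).2 hτf),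
      RepWith.comp (repWith_of_isIso _ h) ((repWith_yon_map_iff (P := @Etale) τ).2 hτe)⟩
  · obtain ⟨k, hk⟩ := hcovX (Points.ofPt iY.hom y)
    obtain ⟨jY, hjY⟩ := (AlgSp.yon S).map_surjective (q k ≫ iY.inv)
    haveI : IsOpenImmersion jY.left := (repWith_yon_map_iff _ jY).1 (by
      rw [hjY]; exact RepWith.comp (hq k) (repWith_of_isIso _ _))
    let i := jY.left.isoOpensRange
    let c₀ : Over.mk (jY.left.opensRange.ι ≫ Y.hom) ⟶ imgOver (l k.down) := Over.homMk i.inv (by
      show i.inv ≫ (imgOver (l k.down)).hom = jY.left.opensRange.ι ≫ Y.hom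
      rw [Iso.inv_comp_eq, ← Category.assoc, Scheme.Hom.isoOpensRange_hom_ι]
      exact (Over.w jY).symm)
    refine ⟨jY.left.opensRange, c₀ ≫ imgOverι (l k.down) ≫ w ≫ cV, ?_, ?_⟩
    · rw [Induct.range_map_yon] at hk
      obtain ⟨t, ht⟩ := hk
      refine ⟨t, ?_⟩
      have h := congrArg (Points.map iY.inv) ht
      rw [Points.map_ofPt, Points.map_ofPt, ← hjY, iY.hom_inv_id] at h
      have h' := congrArg (Points.toScheme Y) h
      rw [← CategoryTheory.Functor.map_id, Points.toScheme_ofPt, Points.toScheme_ofPt] at h'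
      simpa using h'
    · have hc₀ : c₀ ≫ jY = (Over.homMk jY.left.opensRange.ι rfl : Over.mk (jY.left.opensRange.ι ≫ Y.hom) ⟶ Y) :=
        Over.OverMorphism.ext (Scheme.Hom.isoOpensRange_inv_comp _)
      rw [← hc₀]
      simp only [Functor.map_comp, Category.assoc, hjY, iY.inv_hom_id_assoc, q, sq.w]

end Groth.Agent.S10421
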