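import Groth.Statements.S10647
import Groth.Agent.S10295
import Groth.Agent.S10300
import Groth.Agent.AlgSpLib.SubAlg
import Groth.Agent.AlgSpLib.SubOpen
import Groth.Agent.AlgSpLib.FpqcBaseAffine2
-- import your own Groth.Agent.* helpers here

set_option autoImplicit false
universe u
open CategoryTheory CategoryTheory.Limits AlgebraicGeometry
open AlgSp

namespace Groth.Agent.S10647

open Groth.Agent.AlgSpLib Groth.Agent.AlgSpLib.QCohEt

set_option backward.isDefEq.respectTransparency.types false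
set_option backward.isDefEq.respectTransparency false

variable {S : Scheme.{u}}

theorem exists_affine_atlas (X : AlgSp.Space S) (hqc : IsQuasiCompactSp X.obj) :
    ∃ (U : Over S) (p : (yon S).obj U ⟶ X.obj), IsAffine U.left ∧ RepWith @Etale p ∧ RepWith @Surjective p := by
  classical
  obtain ⟨V, b, hb, hbs⟩ := X.property.atlas
  haveI : CompactSpace (AlgSp.Points X.obj) := compactSpace_points_of_isQuasiCompactSp hqc
  obtain ⟨T, hT⟩ := isCompact_univ.elim_finite_subcover
    (fun O : V.left.affineOpens => Points.ofPt b '' (O.1 : Set ↥V.left))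
    (fun O => isOpenMap_ofPt b hb _ O.1.2) (fun x _ => by
      obtain ⟨v, rfl⟩ := surjective_ofPt b hbs x
      obtain ⟨O, hO, hv, -⟩ := exists_isAffineOpen_mem_and_subset (x := v) (U := ⊤) trivial
      exact Set.mem_iUnion.2 ⟨⟨O, hO⟩, v, hv, rfl⟩)
  let W : T → Over S := fun O => Over.mk (O.1.1.ι ≫ V.hom)
  let V' := sigmaOver W
  let c : V' ⟶ V := Over.homMk (Sigma.desc fun O : T => O.1.1.ι)
    (Sigma.hom_ext _ _ fun O => by simp [V', sigmaOver, W])
  haveI : ∀ O : T, IsAffine (W O).left := fun O => O.1.2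
  have hV' : IsAffine V'.left := inferInstanceAs (IsAffine (∐ fun O => (W O).left))
  have hce : Etale c.left := IsZariskiLocalAtSource.sigmaDesc fun O : T => (inferInstance : Etale O.1.1.ι)
  have he : RepWith @Etale ((yon S).map c ≫ b) := RepWith.comp ((repWith_yon_map_iff (P := @Etale) c).2 hce) hb
  refine ⟨V', _, hV', he, repWith_surjective_of_surjective_map he.1 fun x => ?_⟩
  obtain ⟨O, hO, v, hv, rfl⟩ : ∃ O ∈ T, x ∈ Points.ofPt b '' (O.1 : Set ↥V.left) := by
    simpa using hT (Set.mem_univ x)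
  refine ⟨Points.ofScheme V' ((sigmaOverι W ⟨O, hO⟩).left ⟨v, hv⟩), ?_⟩
  rw [← Points.ofPt_eq_map_ofScheme, ← ofPt_map (sigmaOverι W ⟨O, hO⟩), ← Functor.map_comp_assoc, ofPt_map,
    show sigmaOverι W ⟨O, hO⟩ ≫ c = (Over.homMk O.1.ι rfl : W ⟨O, hO⟩ ⟶ V) from
      Over.OverMorphism.ext (Sigma.ι_desc _ _)]
  rfl

theorem finite_of_sub {N V U : Scheme.{u}} [IsAffine N] [IsAffine V] [IsAffine U] (d : N ⟶ V) (v : V ⟶ U)
    (hd : Function.Injective d.appTop) (hi : IsIntegralHom (d ≫ v)) (hv : v.appTop.hom.FiniteType) : IsFinite v := by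
  haveI := hi
  have h1 : (d ≫ v).appTop.hom.IsIntegral := IsIntegralHom.isIntegral_app _ _ (isAffineOpen_top U)
  rw [HasAffineProperty.iff_of_isAffine (P := @IsFinite)]
  refine ⟨inferInstance, RingHom.IsIntegral.to_finite (fun b => ?_) hv⟩
  obtain ⟨P, hP, h0⟩ := h1 (d.appTop b)
  refine ⟨P, hP, hd ?_⟩
  show d.appTop.hom _ = d.appTop.hom 0
  rw [map_zero, Polynomial.hom_eval₂]
  exact h0

/-- (Zariski's Main Theorem for algebraic spaces) a quasi-finite separated morphism f : X ⟶ Y of
algebraic spaces over S whose target Y is quasi-compact and quasi-separated factors as a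
quasi-compact representable open immersion j : X ⟶ T followed by a finite morphism π : T ⟶ Y. (The
published statement asks Y to be quasi-separated in the absolute sense and puts no condition on S;
this row assumes S quasi-separated and Y quasi-separated over S, which together imply it.) -/
theorem result {S : Scheme.{u}} [QuasiSeparatedSpace ↥S] {X Y : AlgSp.Space S} (f : X ⟶ Y)
    (hf1 : AlgSp.LocP (@LocallyQuasiFinite ⊓ @LocallyOfFiniteType) f.hom) (hf2 : AlgSp.IsQuasiCompactMor f.hom)
    (hf3 : AlgSp.IsSeparatedMor f.hom) (hY1 : AlgSp.IsQuasiCompactSp Y.obj) (hY2 : AlgSp.IsQuasiSeparatedSp Y.obj) :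
    ∃ (T : AlgSp.Space S) (j : X ⟶ T) (π : T ⟶ Y), j ≫ π = f ∧
      AlgSp.RepWith @IsOpenImmersion j.hom ∧ AlgSp.IsQuasiCompactMor j.hom ∧ AlgSp.IsFiniteMor π.hom := by
  obtain ⟨N, ν, f', hn⟩ := Groth.Agent.S10295.result f hf2 (isQuasiSeparatedMor_of_isSeparatedMor hf3)
  obtain ⟨hop, hqcop, -⟩ := Groth.Agent.S10300.result f hf1 hf2 hf3 ν f' hn
  have hint := hn.2.1
  have hνi : RepWith @IsIntegralHom ν.hom := (isIntegralMor_iff_repWith _).1 hint
  have hνa : IsAffineMor ν.hom := fun T hT g => by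
    obtain ⟨W, i, fst, sq, hW, -⟩ := hint hT g
    exact ⟨W, i, fst, sq, hW⟩
  obtain ⟨U, p, hU, hpe, hps⟩ := exists_affine_atlas Y hY1
  haveI := hU
  have hr : Representable ν.hom := hνi.1
  let NU : Over S := hr.pullback p
  haveI hE : IsAff (EtOver.mk p hpe) := hU
  haveI hNU : IsAffine NU.left := isAff_bcObj hr hνa (EtOver.mk p hpe)
  have hNi : IsIntegralHom (hr.snd p).left := hνi.property _ _ _ (hr.isPullback p)
  let XU : Over S := hop.1.pullback (hr.fst p)
  let j₀ : XU ⟶ NU := hop.1.snd (hr.fst p)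
  have hj₀ : IsOpenImmersion j₀.left := hop.property _ _ _ (hop.1.isPullback (hr.fst p))
  have hj₀q : QuasiCompact j₀.left :=
    ((repWith_quasiCompact_iff X.property N.property hop.1).2 hqcop).property _ _ _ (hop.1.isPullback (hr.fst p))
  haveI : CompactSpace ↥XU.left := QuasiCompact.compactSpace_of_compactSpace j₀.left
  have sqX : IsPullback (hop.1.fst (hr.fst p)) ((yon S).map (j₀ ≫ hr.snd p)) f.hom p := by
    rw [← hn.1, Functor.map_comp]
    exact (hop.1.isPullback (hr.fst p)).paste_vert (hr.isPullback p)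
  have hrep := representable_of_lqf_separated' X.property Y.property f.hom hf3 hf1
  have hlft : LocallyOfFiniteType (j₀.left ≫ (hr.snd p).left) :=
    (((repWith_iff_locP etLocal_lqf X.property Y.property hrep).2 hf1).property _ _ _ sqX).2
  obtain ⟨seeds, hseeds⟩ := SubOpen.exists_seeds (hr.snd p).left j₀.left
  obtain ⟨Z, hZ, μ, h, V, v, d, q, hμ, sqV, hqe, hqs, hfac, hdv, hV, hdinj, hds, hvft⟩ :=
    SubAlg.exists_sub hr hνa hY1 hY2 hpe hps seeds
  haveI := hV
  have hoi : IsOpenImmersion (j₀ ≫ d).left :=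
    hseeds v.left d.left (congrArg (fun m => m.left) hdv) hdinj hds
  have hfin : IsFinite v.left :=
    finite_of_sub d.left v.left hdinj (by rw [← Over.comp_left, hdv]; exact hNi) hvft
  have hμf : IsFiniteMor μ :=
    (iff_of_etale_cover isLocalOnBase_fpqc_finite hZ Y.property μ p hpe hps sqV).2
      ((isFiniteMor_iff_repWith _).2 ((repWith_yon_map_iff (P := @IsFinite) v).2 hfin))
  let j : X.obj ⟶ Z := f'.hom ≫ h
  have hjμ : j ≫ μ = f.hom := by rw [Category.assoc, hμ, hn.1]
  have hjr : Representable j := by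
    have h1 : RepWith ⊤ (j ≫ μ) := by rw [hjμ]; exact ⟨hrep, fun _ _ _ _ _ _ => trivial⟩
    exact (repWith_of_comp (⊤ : MorphismProperty Scheme.{u}) h1
      (repWith_diagonal μ ⟨hZ.diag, fun _ _ _ _ _ _ => trivial⟩)).1
  have hsq : IsPullback (hop.1.fst (hr.fst p)) ((yon S).map (j₀ ≫ d)) j q := by
    refine IsPullback.of_bot ?_ ?_ sqV
    · rw [← Functor.map_comp, Category.assoc, hdv, hjμ]
      exact sqX
    · show _ = (yon S).map (j₀ ≫ d) ≫ q
      rw [Functor.map_comp, Category.assoc, ← hfac, ← Category.assoc ((yon S).map j₀), ← (hop.1.isPullback (hr.fst p)).w]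
      simp only [j, Category.assoc]
  haveI : Sheaf.IsLocallySurjective q := isLocallySurjective_of_etale hqe hqs
  have hjo : RepWith @IsOpenImmersion j :=
    repWith_of_isLocallySurjective hjr _ hsq @IsOpenImmersion ((repWith_yon_map_iff (P := @IsOpenImmersion) _).2 hoi)
  have hjq : RepWith @QuasiCompact j :=
    repWith_of_isLocallySurjective hjr _ hsq @QuasiCompact
      ((repWith_yon_map_iff (P := @QuasiCompact) _).2 (quasiCompact_of_compactSpace _))
  exact ⟨⟨Z, hZ⟩, ObjectProperty.homMk j, ObjectProperty.homMk μ, ObjectProperty.hom_ext _ hjμ, hjo,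
    (repWith_quasiCompact_iff X.property hZ hjr).1 hjq, hμf⟩

end Groth.Agent.S10647
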