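import Groth.Statements.S7689
import Groth.Agent.VarietyLib.NormStalk
import Groth.Agent.ModStalk.Exact
import Groth.Agent.Coherent.Devissage
import Mathlib

set_option autoImplicit false
universe u
open CategoryTheory CategoryTheory.Limits AlgebraicGeometry
open Variety

namespace Groth.Agent.S7689

open Groth.Agent.VarietyLib Groth.Agent.VarietyLib.NormStalk TopologicalSpace
  TopCat

theorem tdim_eq_krullDim {α : Type*} [TopologicalSpace α] [QuasiSober α] [T0Space α] :
    topologicalKrullDim α = @Order.krullDim α (specializationOrder α).toPreorder :=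
  let _ : PartialOrder α := specializationOrder α
  Order.krullDim_eq_of_orderIso irreducibleSetEquivPoints

theorem le_tdim {α : Type*} [TopologicalSpace α] [QuasiSober α] [T0Space α] {n : ℕ} (f : Fin (n + 1) → α)
    (hm : ∀ i j, i < j → f j ⤳ f i) (hi : Function.Injective f) : (n : WithBot ℕ∞) ≤ topologicalKrullDim α := by
  let _ : PartialOrder α := specializationOrder α
  rw [tdim_eq_krullDim]
  exact Order.LTSeries.length_le_krullDim (LTSeries.mk n f fun i j h => lt_of_le_of_ne (hm i j h) fun e => h.ne (hi e))

theorem isClosed_singleton_of_ne {X : Scheme.{u}} [IsIntegral X] (hdim : topologicalKrullDim X = 1)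
    {x : X} (hx : x ≠ genericPoint X) : IsClosed ({x} : Set X) := by
  refine isClosed_of_closure_subset fun x' hx' => ?_
  by_contra hne
  have hne : x' ≠ x := hne
  have hsp : x ⤳ x' := specializes_iff_mem_closure.2 hx'
  have hne2 : x' ≠ genericPoint X := fun e => hx ((e ▸ hsp).antisymm (genericPoint_specializes x)).eq
  have := le_tdim (n := 2) ![x', x, genericPoint X] (fun i j hij => by
    fin_cases i <;> fin_cases j <;> simp at hij ⊢ <;>
      first | exact hsp | exact genericPoint_specializes _) (fun i j => by
    fin_cases i <;> fin_cases j <;> simp [hne, hne.symm, hne2, hne2.symm, hx, Ne.symm hx])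
  rw [hdim] at this
  exact absurd this (by decide)

variable {X : Scheme.{u}} [IsIntegral X]
  [QuasiCompact (X.fromSpecStalk (genericPoint X))] [QuasiSeparated (X.fromSpecStalk (genericPoint X))]

theorem fg_integralClosure {A : Type u} [CommRing A] [IsDomain A] {K : Type u} [Field K] [Algebra A K]
    [IsFractionRing A K] (hN : CAlg.IsNagata A) : (integralClosure A K).toSubmodule.FG := by
  letI : Algebra (A ⧸ (⊥ : Ideal A)) K :=
    ((algebraMap A K).comp (RingEquiv.quotientBot A).toRingHom).toAlgebra
  haveI : IsScalarTower A (A ⧸ (⊥ : Ideal A)) K := IsScalarTower.of_algebraMap_eq fun a => by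
    show algebraMap A K a = algebraMap A K ((RingEquiv.quotientBot A) (Ideal.Quotient.mk _ a))
    rfl
  haveI : IsFractionRing (A ⧸ (⊥ : Ideal A)) K :=
    IsFractionRing.of_ringEquiv_left (RingEquiv.quotientBot A) fun _ => rfl
  letI : Algebra (FractionRing (A ⧸ (⊥ : Ideal A))) K := FractionRing.liftAlgebra _ _
  haveI : FiniteDimensional (FractionRing (A ⧸ (⊥ : Ideal A))) K := by
    refine Module.Finite.of_surjective (Algebra.linearMap (FractionRing (A ⧸ (⊥ : Ideal A))) K) fun z => ?_
    obtain ⟨a, b, -, rfl⟩ := IsFractionRing.div_surjective (A ⧸ (⊥ : Ideal A)) z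
    exact ⟨algebraMap _ _ a / algebraMap _ _ b, by
      simp [IsScalarTower.algebraMap_apply (A ⧸ (⊥ : Ideal A)) (FractionRing (A ⧸ (⊥ : Ideal A))) K]⟩
  haveI h1 : Module.Finite (A ⧸ (⊥ : Ideal A)) (integralClosure (A ⧸ (⊥ : Ideal A)) K) :=
    @hN.2 (⊥ : Ideal A) Ideal.isPrime_bot K _ _ _ _ inferInstance
  obtain ⟨S, hS⟩ := Module.Finite.iff_fg.1
    (show Module.Finite (A ⧸ (⊥ : Ideal A)) ↥(integralClosure (A ⧸ (⊥ : Ideal A)) K).toSubmodule from h1)
  refine ⟨S, ?_⟩
  have h := Submodule.restrictScalars_span A (A ⧸ (⊥ : Ideal A))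
    Ideal.Quotient.mk_surjective (S : Set K)
  rw [hS] at h
  refine h.symm.trans (Submodule.ext fun y => ?_)
  show IsIntegral (A ⧸ (⊥ : Ideal A)) y ↔ IsIntegral A y
  exact ⟨fun h' => by
      obtain ⟨q, hq, hqy⟩ := h'
      refine ⟨q.map (RingEquiv.quotientBot A).toRingHom, hq.map _, ?_⟩
      rw [Polynomial.eval₂_map]; exact hqy,
    IsIntegral.tower_top⟩

theorem sec_range {U : X.Opens} (hU : IsAffineOpen U) [Nonempty U] :
    letI : Algebra Γ(X, U) X.functionField := (X.germToFunctionField U).hom.toAlgebra
    ∀ y, y ∈ integralClosure Γ(X, U) X.functionField ↔ y ∈ Set.range (sec X U) :=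
  fun y => (mem_range_sec X hU y).symm

theorem finite_app (hN : ∀ U : X.affineOpens, CAlg.IsNagata Γ(X, (U : X.Opens)))
    (U : X.Opens) (hU : IsAffineOpen U) : ((Curv2.normalizationι X).app U).hom.Finite := by
  by_cases hne : Nonempty U
  · letI alg : Algebra Γ(X, U) X.functionField := (X.germToFunctionField U).hom.toAlgebra
    haveI : IsFractionRing Γ(X, U) X.functionField := functionField_isFractionRing_of_isAffineOpen X U hU
    have hfg := fg_integralClosure (K := X.functionField) (hN ⟨U, hU⟩)
    letI algC := ((Curv2.normalizationι X).app U).hom.toAlgebra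
    let L : Γ(Curv2.normalization X, Curv2.normalizationι X ⁻¹ᵁ U) →ₗ[Γ(X, U)] X.functionField :=
      { toFun := sec X U
        map_add' := map_add _
        map_smul' := fun a b => by
          show sec X U ((Curv2.normalizationι X).app U a * b) = X.germToFunctionField U a * sec X U b
          rw [map_mul, sec_app] }
    have hr : LinearMap.range L = (integralClosure Γ(X, U) X.functionField).toSubmodule :=
      Submodule.ext fun y => ⟨fun ⟨b, hb⟩ => (sec_range hU y).2 ⟨b, hb⟩, fun h => (sec_range hU y).1 h⟩
    haveI : Module.Finite Γ(X, U) (LinearMap.range L) := Module.Finite.iff_fg.2 (hr ▸ hfg)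
    exact Module.Finite.equiv (LinearEquiv.ofInjective L (sec_injective X U)).symm
  · have : U = ⊥ := le_bot_iff.1 fun x hx => (hne ⟨⟨x, hx⟩⟩).elim
    subst this
    exact RingHom.Finite.of_surjective _ fun b =>
      ⟨0, @Subsingleton.elim _ (by
        show Subsingleton Γ(Curv2.normalization X, (⊥ : (Curv2.normalization X).Opens))
        infer_instance) _ _⟩

theorem birational (hN : ∀ U : X.affineOpens, CAlg.IsNagata Γ(X, (U : X.Opens))) :
    ∃ U : X.Opens, Dense ((U : Set X)) ∧ IsIso (Curv2.normalizationι X ∣_ U) := by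
  classical
  obtain ⟨U, hU, hηU, -⟩ := exists_affine_le X (Opens.mem_top (genericPoint X))
  haveI : Nonempty U := ⟨⟨_, hηU⟩⟩
  letI alg : Algebra Γ(X, U) X.functionField := (X.germToFunctionField U).hom.toAlgebra
  haveI : IsFractionRing Γ(X, U) X.functionField := functionField_isFractionRing_of_isAffineOpen X U hU
  obtain ⟨S, hS⟩ := fg_integralClosure (K := X.functionField) (hN ⟨U, hU⟩)
  obtain ⟨⟨s, hs⟩, hint⟩ := IsLocalization.exist_integer_multiples_of_finset (nonZeroDivisors Γ(X, U)) S
  have hmul : ∀ y ∈ (integralClosure Γ(X, U) X.functionField).toSubmodule,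
      ∃ a, algebraMap Γ(X, U) X.functionField a = s • y := by
    intro y hy
    rw [← hS] at hy
    induction hy using Submodule.span_induction with
    | mem y hy => exact hint y hy
    | zero => exact ⟨0, by simp⟩
    | add y z _ _ hy hz => obtain ⟨a, ha⟩ := hy; obtain ⟨b, hb⟩ := hz; exact ⟨a + b, by rw [map_add, ha, hb, smul_add]⟩
    | smul c y _ hy => obtain ⟨a, ha⟩ := hy; exact ⟨c * a, by rw [map_mul, ha, smul_comm, Algebra.smul_def c]⟩
  let W := X.basicOpen s
  have hW : IsAffineOpen W := hU.basicOpen s
  have hηW : genericPoint X ∈ W := (X.mem_basicOpen s _ hηU).2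
    ((IsFractionRing.to_map_ne_zero_of_mem_nonZeroDivisors (K := X.functionField) hs).isUnit)
  haveI : Nonempty W := ⟨⟨_, hηW⟩⟩
  let r := X.presheaf.map (homOfLE (X.basicOpen_le s)).op
  have hres : ∀ a, X.germToFunctionField W (r a) = X.germToFunctionField U a := fun a =>
    X.presheaf.germ_res_apply (homOfLE (X.basicOpen_le s)) (genericPoint X) _ a
  haveI := hU.isLocalization_basicOpen s
  letI algW : Algebra Γ(X, W) X.functionField := (X.germToFunctionField W).hom.toAlgebra
  haveI : IsScalarTower Γ(X, U) Γ(X, W) X.functionField :=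
    IsScalarTower.of_algebraMap_eq fun a => (hres a).symm
  have hsurj : ∀ y, IsIntegral Γ(X, W) y → ∃ a, algebraMap Γ(X, W) X.functionField a = y := by
    intro y hy
    obtain ⟨⟨_, n, rfl⟩, hm⟩ := IsIntegral.exists_multiple_integral_of_isLocalization (Submonoid.powers s) y hy
    obtain ⟨a, ha⟩ := hmul _ hm
    have hu : IsUnit (r s) := RingedSpace.isUnit_res_basicOpen _ s
    obtain ⟨i, hi⟩ := isUnit_iff_exists_inv.1 hu
    refine ⟨r a * i ^ (n + 1), ?_⟩
    show X.germToFunctionField W _ = y
    have h1 : X.germToFunctionField U a = X.germToFunctionField U s ^ (n + 1) * y := by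
      refine ha.trans ?_
      rw [Algebra.smul_def, Submonoid.smul_def, Algebra.smul_def]
      show X.germToFunctionField U s * (X.germToFunctionField U (s ^ n) * y) = _
      rw [map_pow, pow_succ]
      ring
    rw [map_mul, map_pow, hres, h1, ← hres s, mul_right_comm, ← mul_pow, ← map_mul]
    erw [hi]
    rw [map_one, one_pow, one_mul]
  have hbij : Function.Bijective ((Curv2.normalizationι X).app W).hom := by
    refine ⟨fun a b h => X.germToFunctionField_injective W ?_, fun b => ?_⟩
    · rw [← sec_app X W a, ← sec_app X W b]; exact congrArg _ h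
    · obtain ⟨a, ha⟩ := hsurj _ ((sec_range hW _).2 ⟨b, rfl⟩)
      exact ⟨a, sec_injective X W ((sec_app X W a).trans ha)⟩
  haveI : IsIso ((Curv2.normalizationι X).app W) := (ConcreteCategory.isIso_iff_bijective _).2 hbij
  refine ⟨W, W.isOpen.dense ⟨_, hηW⟩, ?_⟩
  haveI : IsAffine W.toScheme := hW
  haveI : IsAffine (Curv2.normalizationι X ⁻¹ᵁ W).toScheme := hW.preimage _
  have hiso : IsIso (Curv2.normalizationι X ∣_ W).appTop := by
    rw [morphismRestrict_appTop]
    have h1 : IsIso ((Curv2.normalizationι X).app (W.ι ''ᵁ ⊤)) := by rw [W.ι_image_top]; infer_instance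
    exact @IsIso.comp_isIso _ _ _ _ _ _ _ h1 (Functor.map_isIso _ _)
  exact ((MorphismProperty.arrow_mk_iso_iff (MorphismProperty.isomorphisms Scheme.{u})
    (arrowIsoSpecΓOfIsAffine (Curv2.normalizationι X ∣_ W))).mpr
      (inferInstanceAs (IsIso (Spec.map (Curv2.normalizationι X ∣_ W).appTop))) :)

/-- The push forward of the structure sheaf. -/
noncomputable abbrev pushO (X : Scheme.{u}) [IsIntegral X]
    [QuasiCompact (X.fromSpecStalk (genericPoint X))] [QuasiSeparated (X.fromSpecStalk (genericPoint X))] : X.Modules :=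
  (Scheme.Modules.pushforward (Curv2.normalizationι X)).obj (Coh.structureModule (Curv2.normalization X))

/-- The cocone to rational functions. -/
noncomputable def pushCocone (x : X) :
    Limits.Cocone ((OpenNhds.inclusion x).op ⋙ (pushO X).presheaf) where
  pt := AddCommGrpCat.of X.functionField
  ι :=
    { app := fun U => haveI : Nonempty U.unop.1 := ⟨⟨x, U.unop.2⟩⟩
        AddCommGrpCat.ofHom (sec X U.unop.1).toAddMonoidHom
      naturality := fun U V i => by
        haveI hU' : Nonempty U.unop.1 := ⟨⟨x, U.unop.2⟩⟩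
        haveI hV' : Nonempty V.unop.1 := ⟨⟨x, V.unop.2⟩⟩
        ext b
        exact @sec_res X _ _ _ V.unop.1 U.unop.1 hV' hU' (leOfHom ((OpenNhds.inclusion x).map i.unop)) b }

/-- The stalk of the pushforward inside rational functions. -/
noncomputable def pushToFF (x : X) : (pushO X).presheaf.stalk x →+ X.functionField :=
  (Limits.colimit.desc _ (pushCocone x)).hom

theorem pushToFF_germ (x : X) (W : X.Opens) (hx : x ∈ W) [Nonempty W]
    (s : Γ(Curv2.normalization X, Curv2.normalizationι X ⁻¹ᵁ W)) :
    pushToFF x ((pushO X).presheaf.germ W x hx s) = sec X W s :=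
  by
    have h := ConcreteCategory.congr_hom (Limits.colimit.ι_desc (pushCocone x) (Opposite.op ⟨W, hx⟩)) s
    change (pushToFF x) ((pushO X).presheaf.germ W x hx s) = _ at h
    exact h

theorem pushToFF_smul (x : X) (r : X.presheaf.stalk x) (m : (pushO X).presheaf.stalk x) :
    pushToFF x (r • m) = algebraMap (X.presheaf.stalk x) X.functionField r * pushToFF x m := by
  obtain ⟨U, hxU, a, rfl⟩ := X.presheaf.exists_germ_eq r
  obtain ⟨V, hxV, b, rfl⟩ := (pushO X).presheaf.exists_germ_eq m
  have hxW : x ∈ U ⊓ V := ⟨hxU, hxV⟩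
  haveI : Nonempty (U ⊓ V : X.Opens) := ⟨⟨x, hxW⟩⟩
  rw [← X.presheaf.germ_res_apply (homOfLE (inf_le_left : U ⊓ V ≤ U)) x hxW,
    ← (pushO X).presheaf.germ_res_apply (homOfLE (inf_le_right : U ⊓ V ≤ V)) x hxW]
  generalize X.presheaf.map (homOfLE (inf_le_left : U ⊓ V ≤ U)).op a = a'
  generalize (pushO X).presheaf.map (homOfLE (inf_le_right : U ⊓ V ≤ V)).op b = b'
  erw [← PresheafOfModules.germ_smul]
  erw [pushToFF_germ, pushToFF_germ, algebraMap_germ X x hxW a']
  let b'' : Γ(Curv2.normalization X, Curv2.normalizationι X ⁻¹ᵁ (U ⊓ V)) := b'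
  show sec X (U ⊓ V) ((Curv2.normalizationι X).app (U ⊓ V) a' * b'') = X.germToFunctionField _ a' * sec X (U ⊓ V) b''
  rw [map_mul, sec_app]

/-- The stalk of the pushforward inside rational functions, linearly. -/
noncomputable def pushLin (x : X) :
    (DerSch.stalkFunctor X x).obj (pushO X) →ₗ[X.presheaf.stalk x] X.functionField where
  toFun := pushToFF x
  map_add' := map_add _
  map_smul' r m := (pushToFF_smul x r m).trans (Algebra.smul_def r (pushToFF x m)).symm

theorem pushLin_injective (x : X) : Function.Injective (pushLin x) := by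
  refine (injective_iff_map_eq_zero (pushToFF x)).2 fun m hm => ?_
  obtain ⟨V, hxV, b, rfl⟩ := (pushO X).presheaf.exists_germ_eq m
  haveI : Nonempty V := ⟨⟨x, hxV⟩⟩
  erw [pushToFF_germ] at hm
  have : b = (0 : Γ(Curv2.normalization X, Curv2.normalizationι X ⁻¹ᵁ V)) :=
    sec_injective X V (hm.trans (map_zero _).symm)
  rw [this]
  exact map_zero _

theorem range_pushLin (x : X) : LinearMap.range (pushLin x) = (clo X x).toSubmodule := by
  refine Submodule.ext fun y => ⟨?_, fun hy => ?_⟩
  · rintro ⟨m, rfl⟩
    obtain ⟨V, hxV, b, rfl⟩ := (pushO X).presheaf.exists_germ_eq m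
    obtain ⟨W, hW, hxW, hWV⟩ := exists_affine_le X hxV
    haveI : Nonempty W := ⟨⟨x, hxW⟩⟩
    rw [← (pushO X).presheaf.germ_res_apply (homOfLE hWV) x hxW]
    show pushToFF x _ ∈ clo X x
    erw [pushToFF_germ]
    exact sec_mem_clo x hW hxW _
  · obtain ⟨W, hW, hxW, b, hb⟩ := exists_sec_of_mem_clo x hy
    haveI : Nonempty W := ⟨⟨x, hxW⟩⟩
    exact ⟨_, (pushToFF_germ x W hxW b).trans hb⟩

theorem pushLin_unit (x : X) {W : X.Opens} (hxW : x ∈ W) (a : Γ(X, W)) :
    pushLin x ((DerSch.stalkFunctor X x).map (ClSub.unitToPush (Curv2.normalizationι X))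
        ((Coh.structureModule X).presheaf.germ W x hxW a)) =
      algebraMap (X.presheaf.stalk x) X.functionField (X.presheaf.germ W x hxW a) := by
  haveI : Nonempty W := ⟨⟨x, hxW⟩⟩
  erw [Groth.Agent.Coherent.stalk_map_germ, pushToFF_germ, algebraMap_germ X x hxW a]
  exact sec_app X W a

theorem unit_stalk_injective (x : X) :
    Function.Injective ((DerSch.stalkFunctor X x).map (ClSub.unitToPush (Curv2.normalizationι X))) := by
  refine (injective_iff_map_eq_zero _).2 fun r hr => ?_
  obtain ⟨W, hxW, a, rfl⟩ := (Coh.structureModule X).presheaf.exists_germ_eq r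
  haveI : Nonempty W := ⟨⟨x, hxW⟩⟩
  have h := pushLin_unit x hxW a
  erw [hr, map_zero, algebraMap_germ X x hxW a] at h
  have : a = (0 : Γ(X, W)) := X.germToFunctionField_injective W (h.symm.trans (map_zero _).symm)
  rw [this]
  exact map_zero _

theorem range_pushLin_unit (x : X) :
    LinearMap.range ((pushLin x).comp
        ((DerSch.stalkFunctor X x).map (ClSub.unitToPush (Curv2.normalizationι X))).hom) =
      LinearMap.range (Algebra.linearMap (X.presheaf.stalk x) X.functionField) := by
  refine Submodule.ext fun y => ⟨?_, ?_⟩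
  · rintro ⟨r, rfl⟩
    obtain ⟨W, hxW, a, rfl⟩ := (Coh.structureModule X).presheaf.exists_germ_eq r
    exact ⟨X.presheaf.germ W x hxW a, (pushLin_unit x hxW a).symm⟩
  · rintro ⟨o, rfl⟩
    obtain ⟨W, hxW, a, rfl⟩ := X.presheaf.exists_germ_eq o
    exact ⟨_, pushLin_unit x hxW a⟩


/-- For an integral X: let X be an integral Nagata scheme of dimension one (every affine open has a
Nagata coordinate ring) with normalization ν : X^ν → X. Then ν is finite and birational (an
isomorphism over a dense open), O_X ⊆ ν_*O_{X^ν}, and the quotient ν_*O_{X^ν}/O_X is supported at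
closed points, its stalk at a closed point x having length equal to the δ-invariant of O_{X,x}. (The
published statement is for reduced Nagata schemes of dimension one; it also says that ν is
surjective and that the quotient is nonzero exactly at the singular points, and it describes the
stalk A' of ν_*O_{X^ν} at x, namely the integral closure of O_{X,x} in its total fraction ring, a
semi-local ring that is a finite product of Dedekind domains, together with the completions of
O_{X,x} and A'. This row takes X integral, does not restate surjectivity, which holds for the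
normalization of every integral scheme, and keeps the finiteness, birationality, injectivity and
length clauses.) -/
theorem result (X : Scheme.{u}) [IsIntegral X]
    [QuasiCompact (X.fromSpecStalk (genericPoint X))] [QuasiSeparated (X.fromSpecStalk (genericPoint X))]
    (hN : ∀ U : X.affineOpens, CAlg.IsNagata Γ(X, (U : X.Opens))) (hdim : topologicalKrullDim X = 1) :
    IsFinite (Curv2.normalizationι X) ∧
      (∃ U : X.Opens, Dense ((U : Set X)) ∧ IsIso (Curv2.normalizationι X ∣_ U)) ∧
      Mono (ClSub.unitToPush (Curv2.normalizationι X)) ∧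
      (∀ x : X, IsClosed ({x} : Set X) →
        Module.length (X.presheaf.stalk x) ((cokernel (ClSub.unitToPush (Curv2.normalizationι X))).presheaf.stalk x) =
          Curv2.deltaInv (X.presheaf.stalk x)) ∧
      (∀ x : X, ¬ IsClosed ({x} : Set X) →
        Subsingleton ((cokernel (ClSub.unitToPush (Curv2.normalizationι X))).presheaf.stalk x)) := by
  let ν := Curv2.normalizationι X
  let u := ClSub.unitToPush ν
  have hmono : Mono u := Preadditive.mono_of_isZero_kernel _ (Groth.Agent.ModStalk.isZero_of_stalks fun x => by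
    haveI : Mono ((DerSch.stalkFunctor X x).map u) := (ModuleCat.mono_iff_injective _).2 (unit_stalk_injective x)
    exact Limits.IsZero.of_iso (Limits.isZero_kernel_of_mono ((DerSch.stalkFunctor X x).map u))
      (Limits.PreservesKernel.iso (DerSch.stalkFunctor X x) u))
  have hequiv : ∀ x : X, Nonempty (
      (DerSch.stalkFunctor X x).obj (Limits.cokernel u) ≃ₗ[X.presheaf.stalk x]
        (↥(integralClosure (X.presheaf.stalk x) X.functionField) ⧸
          LinearMap.range (Algebra.linearMap (X.presheaf.stalk x) ↥(integralClosure (X.presheaf.stalk x) X.functionField)))) := by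
    intro x
    let F := DerSch.stalkFunctor X x
    let S := ShortComplex.mk u (Limits.cokernel.π u) (Limits.cokernel.condition u)
    have hS : S.Exact := S.exact_of_g_is_cokernel (Limits.cokernelIsCokernel u)
    have hF := (hS.map F).moduleCat_range_eq_ker
    haveI : Epi (F.map (Limits.cokernel.π u)) := inferInstance
    have hsurj : Function.Surjective (F.map (Limits.cokernel.π u)) := (ModuleCat.epi_iff_surjective _).1 inferInstance
    let e0 : F.obj (pushO X) ≃ₗ[X.presheaf.stalk x] ↥(clo X x) :=
      (LinearEquiv.ofInjective (pushLin x) (pushLin_injective x)).trans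
        (LinearEquiv.ofEq _ _ (range_pushLin x))
    have hmap : (LinearMap.ker (F.map (Limits.cokernel.π u)).hom).map (e0 : F.obj (pushO X) →ₗ[_] ↥(clo X x)) =
        LinearMap.range (Algebra.linearMap (X.presheaf.stalk x) ↥(clo X x)) := by
      rw [show LinearMap.ker (F.map (Limits.cokernel.π u)).hom = LinearMap.range (F.map u).hom from hF.symm,
        ← LinearMap.range_comp]
      apply Submodule.map_injective_of_injective (f := (clo X x).val.toLinearMap) Subtype.val_injective
      rw [← LinearMap.range_comp, ← LinearMap.range_comp]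
      exact range_pushLin_unit x
    exact ⟨((F.map (Limits.cokernel.π u)).hom.quotKerEquivOfSurjective hsurj).symm.trans
      (Submodule.Quotient.equiv _ _ e0 hmap)⟩
  refine ⟨⟨fun U hU => finite_app hN U hU⟩, birational hN, hmono, fun x _ => ?_, fun x hx => ?_⟩
  · refine ((hequiv x).some.length_eq).trans ?_
    let e := (FractionRing.algEquiv (X.presheaf.stalk x) X.functionField).mapIntegralClosure
    refine ((Submodule.Quotient.equiv _ _ e.toLinearEquiv ?_).length_eq).symm
    refine Submodule.ext fun y => ⟨?_, ?_⟩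
    · rintro ⟨_, ⟨o, rfl⟩, rfl⟩
      exact ⟨o, (e.commutes o).symm⟩
    · rintro ⟨o, rfl⟩
      exact ⟨_, ⟨o, rfl⟩, e.commutes o⟩
  · have hxη : x = genericPoint X := by
      by_contra h; exact hx (isClosed_singleton_of_ne hdim h)
    subst hxη
    refine @Equiv.subsingleton _ _ (hequiv _).some.toEquiv ?_
    refine Submodule.Quotient.subsingleton_iff.2 (Submodule.eq_top_iff'.2 fun y => ⟨y.1, Subtype.ext ?_⟩)
    show (X.presheaf.stalkSpecializes _) y.1 = y.1
    exact ConcreteCategory.congr_hom (X.presheaf.stalkSpecializes_refl _) y.1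

end Groth.Agent.S7689
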