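import Groth.Statements.S1585
import Groth.Agent.S7689
import Groth.Agent.NormalizationLib.Finite

set_option autoImplicit false
universe u
open CategoryTheory CategoryTheory.Limits AlgebraicGeometry
open Variety

namespace Groth.Agent.S1585

open Groth.Agent.VarietyLib

/-- Part (1): and (4), for an integral scheme locally of finite type over a field: the normalization
morphism ν (normalization of X in its function field) is finite, dominant and an isomorphism over a
nonempty open, and the normalization is an integral scheme all of whose local rings are integrally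
closed domains. (The quasi-compactness/quasi-separatedness binders on Spec K(X) → X always hold;
they are needed only to form Mathlib's relative normalization.) -/
theorem result (k : Type u) [Field k] (X : Scheme.{u}) [X.Over (Spec (CommRingCat.of k))] [IsIntegral X] [LocallyOfFiniteType (X ↘ (Spec (CommRingCat.of k)))]
    [QuasiCompact (X.fromSpecStalk (genericPoint X))] [QuasiSeparated (X.fromSpecStalk (genericPoint X))] :
    IsFinite (Curv2.normalizationι X) ∧ IsDominant (Curv2.normalizationι X) ∧
      (∃ V : X.Opens, (V : Set X).Nonempty ∧ IsIso (Curv2.normalizationι X ∣_ V)) ∧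
      IsIntegral (Curv2.normalization X) ∧ Pi1.IsNormalScheme (Curv2.normalization X) := by
  let s : X ⟶ Spec (CommRingCat.of k) := X ↘ (Spec (CommRingCat.of k))
  have hN : ∀ U : X.affineOpens, CAlg.IsNagata Γ(X, (U : X.Opens)) := fun U => by
    let c : k →+* Γ(X, U.1) :=
      (s.appLE ⊤ U.1 le_top).hom.comp (Scheme.ΓSpecIso (CommRingCat.of k)).inv.hom
    have hc : c.FiniteType := (s.finiteType_appLE (isAffineOpen_top _) U.2 le_top).comp
      (RingHom.FiniteType.of_surjective _
        (ConcreteCategory.bijective_of_isIso (Scheme.ΓSpecIso (CommRingCat.of k)).inv).2)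
    letI := c.toAlgebra
    haveI : Algebra.FiniteType k Γ(X, U.1) := hc
    exact Groth.Agent.CAlgH.isNagata_of_finiteType (Groth.Agent.NormalizationLib.isNagata_field k) Γ(X, U.1)
  obtain ⟨V, hV, hiso⟩ := Groth.Agent.S7689.birational hN
  refine ⟨⟨fun U hU => Groth.Agent.S7689.finite_app hN U hU⟩, ?_, ⟨V, ?_, hiso⟩, inferInstance, ?_⟩
  · refine ⟨?_⟩
    rw [denseRange_iff_closure_range, ← Set.univ_subset_iff, ← genericPoint_closure X]
    refine closure_mono (Set.singleton_subset_iff.2 ⟨genericPoint (Curv2.normalization X), ?_⟩)
    exact Groth.Agent.NormalizationLib.fromNormalization_genericPoint (RingHom.id X.functionField) _ (NormStalk.hg X)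
  · exact hV.nonempty
  · exact Groth.Agent.NormalizationLib.isNormal (RingHom.id X.functionField) _ (NormStalk.hg X)

end Groth.Agent.S1585
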