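import Groth.Statements.S4719
import Groth.Agent.InvLib.DepthLocalize

set_option autoImplicit false
universe u
open EGA4

namespace Groth.Agent.S4719

/-- Let A → B be a homomorphism of Noetherian rings and M a B-module which is finite as an A-module. (i)
If M satisfies (S_k) as an A-module, it satisfies (S_k) as a B-module. (ii) If for every two primes
q, q' of B in the support of M having the same contraction to A the modules M_q and M_{q'} have the
same dimension, then (S_k) for M as a B-module implies (S_k) for M as an A-module. (The published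
statement asks the equal-dimension condition for all pairs of primes of B with the same contraction;
this row asks it only for primes in the support of M, which is all its proof uses.) -/
theorem result (k : ℕ) (A B : Type u) [CommRing A] [CommRing B] [IsNoetherianRing A]
    [IsNoetherianRing B] [Algebra A B] (M : Type u) [AddCommGroup M] [Module B M] [Module A M]
    [IsScalarTower A B M] [Module.Finite A M] :
    (LocCoh.HasSk k A M → LocCoh.HasSk k B M) ∧
      ((∀ q ∈ Module.support B M, ∀ q' ∈ Module.support B M,
          q.asIdeal.comap (algebraMap A B) = q'.asIdeal.comap (algebraMap A B) →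
            Module.supportDim (Localization.AtPrime q.asIdeal) (LocalizedModule q.asIdeal.primeCompl M) =
              Module.supportDim (Localization.AtPrime q'.asIdeal) (LocalizedModule q'.asIdeal.primeCompl M)) →
        LocCoh.HasSk k B M → LocCoh.HasSk k A M) := by
  refine ⟨fun h q _ => ?_, fun heq h p _ => ?_⟩
  · obtain ⟨hd, hp⟩ := InvLib.supportDim_depth_eq (B := B) M (q.comap (algebraMap A B))
    by_cases hq : (⟨q, inferInstance⟩ : PrimeSpectrum B) ∈ Module.support B M
    · refine le_trans (min_le_min le_rfl ?_) (le_trans (h (q.comap (algebraMap A B))) ?_)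
      · rw [hd]
        exact le_iSup₂_of_le (⟨q, inferInstance⟩ : PrimeSpectrum B) ⟨rfl, hq⟩ le_rfl
      · rw [hp]
        exact WithBot.coe_le_coe.2 (iInf₂_le_of_le (⟨q, inferInstance⟩ : PrimeSpectrum B) ⟨rfl, hq⟩ le_rfl)
    · have : Subsingleton (LocalizedModule q.primeCompl M) :=
        Module.notMem_support_iff (p := (⟨q, inferInstance⟩ : PrimeSpectrum B)).1 hq
      rw [Module.supportDim_eq_bot_of_subsingleton]
      simp
  · obtain ⟨hd, hp⟩ := InvLib.supportDim_depth_eq (B := B) M p
    rw [hd, hp]
    by_cases hne : ∃ q₀ : PrimeSpectrum B, q₀.asIdeal.comap (algebraMap A B) = p ∧ q₀ ∈ Module.support B M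
    · obtain ⟨q₀, hq₀, hs₀⟩ := hne
      rw [le_antisymm (iSup₂_le fun q hq => (heq q hq.2 q₀ hs₀ (hq.1.trans hq₀.symm)).le)
        (le_iSup₂_of_le q₀ ⟨hq₀, hs₀⟩ le_rfl)]
      have hne' : ((min (k : WithBot ℕ∞)
          (Module.supportDim (Localization.AtPrime q₀.asIdeal) (LocalizedModule q₀.asIdeal.primeCompl M)))) ≠ ⊥ := by
        have : Nontrivial (LocalizedModule q₀.asIdeal.primeCompl M) := Module.mem_support_iff.1 hs₀
        intro h0
        rcases le_total ((k : ℕ) : WithBot ℕ∞) (Module.supportDim (Localization.AtPrime q₀.asIdeal)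
            (LocalizedModule q₀.asIdeal.primeCompl M)) with h1 | h1
        · rw [min_eq_left h1] at h0; exact absurd h0 (WithBot.natCast_ne_bot k)
        · rw [min_eq_right h1] at h0; exact Module.supportDim_ne_bot_of_nontrivial _ _ h0
      obtain ⟨c, hc⟩ := WithBot.ne_bot_iff_exists.1 hne'
      rw [← hc]
      refine WithBot.coe_le_coe.2 (le_iInf₂ fun q hq => WithBot.coe_le_coe.1 ?_)
      rw [hc, ← heq q hq.2 q₀ hs₀ (hq.1.trans hq₀.symm)]
      exact h q.asIdeal
    · rw [le_bot_iff.1 (iSup₂_le fun q hq => (hne ⟨q, hq.1, hq.2⟩).elim)]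
      simp

end Groth.Agent.S4719
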