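import Groth.Statements.S0369
import Groth.Agent.DualLib.SerreLoci
import Groth.Agent.DualLib.TopDegree

set_option autoImplicit false
universe u v
open CategoryTheory
attribute [local instance] HasDerivedCategory.standard
open Dual

namespace Groth.Agent.S0369

/-- For a Noetherian local ring of dimension d with normalized dualizing complex ω, the module ω_A =
H^{−d}(ω) has support equal to the union of those irreducible components of Spec A whose dimension
is d, and satisfies Serre's condition (S_2). -/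
theorem result (A : Type u) [CommRing A] [IsLocalRing A] [IsNoetherianRing A] (ω : Dual.D A) (hω : Dual.IsDualizing A ω) (hn : Dual.IsNormalized A ω) (d : ℕ) (hd : ringKrullDim A = d) : Module.support A (Dual.HD A ω (-(d : ℤ))) = {p : PrimeSpectrum A | ∃ q ∈ minimalPrimes A, q ≤ p.asIdeal ∧ ringKrullDim (A ⧸ q) = d} ∧ LocCoh.HasSk 2 A (Dual.HD A ω (-(d : ℤ))) := by
  let K := Groth.Agent.DualLib.E ω A (-(d : ℤ))
  let eK : K ≃ₗ[A] Dual.HD A ω (-(d : ℤ)) := Groth.Agent.DualLib.eSelf ω _
  haveI hKfin : Module.Finite A K := Groth.Agent.DualLib.finite hω A _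
  haveI hHfin : Module.Finite A (Dual.HD A ω (-(d : ℤ))) := Module.Finite.equiv eK
  have hco : ∀ p : PrimeSpectrum A, Order.coheight p ≤ d := fun p => by
    have h : (Order.coheight p : WithBot ℕ∞) ≤ ringKrullDim A := Order.coheight_le_krullDim p
    rw [hd] at h
    exact_mod_cast h
  have hdeg : ∀ p : PrimeSpectrum A, ∃ e : ℕ, Order.coheight p = e ∧ e ≤ d ∧
      Groth.Agent.DualLib.deg hω p = -(e : ℤ) := by
    intro p
    obtain ⟨e, he⟩ := Groth.Agent.DualLib.exists_coheight_eq p
    have h := hco p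
    rw [he, Nat.cast_le] at h
    exact ⟨e, he, h, ((Groth.Agent.DualLib.deg_spec hω p _).1
      (Groth.Agent.DualLib.mem_support_quotient hω hn e p he)).symm⟩
  have hsA : ∀ p : PrimeSpectrum A, p ∈ Module.support A A := fun p => by
    rw [Module.support_eq_zeroLocus, Module.annihilator_eq_bot.2 inferInstance]
    exact fun a ha => by simp [(Submodule.mem_bot A).1 ha]
  have hsupp : ∀ p : PrimeSpectrum A, p ∈ Module.support A (Dual.HD A ω (-(d : ℤ))) ↔
      ∃ q : PrimeSpectrum A, q ≤ p ∧ (∀ r : PrimeSpectrum A, r ≤ q → r = q) ∧ Order.coheight q = d := by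
    intro p
    rw [← eK.support_eq]
    constructor
    · intro hp
      obtain ⟨dd, nn, hdd, -, -, hr, -, -⟩ := Groth.Agent.DualLib.local_degrees hω A p (hsA p)
      obtain ⟨d', hd', -, q, -, hqp, hqm, hqd⟩ := Groth.Agent.DualLib.exists_localDim hω p A (hsA p)
      rw [hdd] at hd'
      have : dd = d' := by exact_mod_cast hd'
      have := (hr _ hp).1
      obtain ⟨e, he, hed, hde⟩ := hdeg q
      exact ⟨q, hqp, fun r hr' => hqm r (hsA r) hr', by rw [he]; exact_mod_cast (show e = d by omega)⟩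
    · rintro ⟨q, hqp, hqm, hqc⟩
      exact Module.mem_support_mono hqp
        (Groth.Agent.DualLib.mem_support_of_minimal hω hn hqc A (fun r _ h => hqm r h) (hsA q))
  refine ⟨Set.ext fun p => (hsupp p).trans ⟨?_, ?_⟩, fun p hp' => ?_⟩
  · rintro ⟨q, hqp, hqm, hqc⟩
    refine ⟨q.asIdeal, ⟨⟨q.2, bot_le⟩, fun r hr hrq =>
      le_of_eq (congrArg PrimeSpectrum.asIdeal (hqm ⟨r, hr.1⟩ hrq)).symm⟩, hqp, ?_⟩
    rw [Groth.Agent.DualLib.ringKrullDim_quotient_eq_coheight, hqc]
    rfl
  · rintro ⟨q, hq, hqp, hqd⟩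
    refine ⟨⟨q, hq.1.1⟩, hqp, fun r hr => PrimeSpectrum.ext (le_antisymm hr (hq.2 ⟨r.2, bot_le⟩ hr)), ?_⟩
    have h := Groth.Agent.DualLib.ringKrullDim_quotient_eq_coheight (A := A) ⟨q, hq.1.1⟩
    rw [show ringKrullDim (A ⧸ (⟨q, hq.1.1⟩ : PrimeSpectrum A).asIdeal) = d from hqd] at h
    exact_mod_cast h.symm
  · let P : PrimeSpectrum A := ⟨p, hp'⟩
    by_cases hP : P ∈ Module.support A (Dual.HD A ω (-(d : ℤ)))
    swap
    · haveI := Module.notMem_support_iff.1 hP
      rw [Module.supportDim_eq_bot_of_subsingleton]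
      exact min_le_of_right_le bot_le
    obtain ⟨d', hd', -, q, -, -, -, hqd⟩ :=
      Groth.Agent.DualLib.exists_localDim hω P (Dual.HD A ω (-(d : ℤ))) hP
    obtain ⟨e, he, hed, hde⟩ := hdeg P
    obtain ⟨e', he', hed', hde'⟩ := hdeg q
    have hbound : d' ≤ d - e := by omega
    rw [show Module.supportDim (Localization.AtPrime p)
      (LocalizedModule p.primeCompl (Dual.HD A ω (-(d : ℤ)))) = d' from hd']
    have hge : ∀ rs : List A, RingTheory.Sequence.IsWeaklyRegular K rs → (∀ r ∈ rs, r ∈ p) →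
        (rs.length : ℕ∞) ≤ LocCoh.depth (Localization.AtPrime p)
          (LocalizedModule p.primeCompl (Dual.HD A ω (-(d : ℤ)))) := by
      intro rs hreg hmem
      unfold LocCoh.depth LocCoh.idealDepth
      split_ifs with htop
      · exact le_top
      · have h2 := RingTheory.Sequence.IsWeaklyRegular.of_isLocalizedModule (Localization.AtPrime p) p.primeCompl
          (LocalizedModule.mkLinearMap p.primeCompl (Dual.HD A ω (-(d : ℤ))))
          ((LinearEquiv.isWeaklyRegular_congr eK rs).1 hreg)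
        refine le_trans (le_of_eq ?_) (le_iSup₂_of_le (rs.map (algebraMap A _)) ⟨h2, ?_⟩ le_rfl)
        · rw [List.length_map]
        · intro r hr
          obtain ⟨a, ha, rfl⟩ := List.mem_map.1 hr
          exact (IsLocalization.AtPrime.to_map_mem_maximal_iff _ p a).2 (hmem a ha)
    have hnotle : ∀ (c : ℕ), e < c → ∀ q : PrimeSpectrum A, Order.coheight q = c → ¬ P ≤ q := by
      intro c hc r hrc hle
      have h := Order.coheight_anti hle
      rw [he, hrc, Nat.cast_le] at h
      omega
    rcases Nat.lt_or_ge e d with h1 | h1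
    swap
    · exact min_le_of_right_le (by
        obtain rfl : d' = 0 := by omega
        exact WithBot.coe_le_coe.2 zero_le)
    obtain ⟨x, hxp, hx⟩ := Groth.Agent.DualLib.exists_avoid A (fun r _ => hco r) P (fun r _ => hnotle d h1 r)
    obtain ⟨hinj, f, hf⟩ := Groth.Agent.DualLib.top_degree_exact hω hn A (fun r _ => hco r) x hx
    have hregx : IsSMulRegular K x := hinj
    rcases Nat.lt_or_ge (e + 1) d with h2 | h2
    swap
    · refine min_le_of_right_le (le_trans ?_ (WithBot.coe_le_coe.2 (hge [x] ?_ (by simpa using hxp))))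
      · exact_mod_cast (show d' ≤ 1 by omega)
      · exact (RingTheory.Sequence.isWeaklyRegular_cons_iff K x []).2 ⟨hregx, RingTheory.Sequence.IsWeaklyRegular.nil _ _⟩
    obtain ⟨c, rfl⟩ : ∃ c, d = c + 1 := ⟨d - 1, by omega⟩
    let M1 := A ⧸ LinearMap.range (x • (LinearMap.id : A →ₗ[A] A))
    have hM1 : ∀ r ∈ Module.support A M1, Order.coheight r ≤ c := by
      intro r hr
      obtain ⟨e1, he1⟩ := Groth.Agent.DualLib.exists_coheight_eq r
      have h3 := hco r
      have h4 := hx r (hsA r)
      rw [he1, Nat.cast_le] at h3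
      rw [he1, Nat.cast_le]
      by_contra hlt
      exact h4 (by rw [he1]; exact_mod_cast (show e1 = c + 1 by omega))
        (Groth.Agent.DualLib.range_smul_id_le_support hr).2
    obtain ⟨y, hyp, hy⟩ := Groth.Agent.DualLib.exists_avoid M1 hM1 P (fun r _ => hnotle c (by omega) r)
    obtain ⟨hinjy, -⟩ := Groth.Agent.DualLib.top_degree_exact hω hn M1 hM1 y hy
    rw [show (-(c : ℤ)) = -((c + 1 : ℕ) : ℤ) + 1 by push_cast; ring] at hinjy
    have hfx : ∀ w, f (x • w) = 0 := fun w => by
      rw [map_smul]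
      refine Groth.Agent.DualLib.smul_eq_zero_of_kills ω x (fun m => ?_) _ _
      obtain ⟨a, rfl⟩ := Submodule.mkQ_surjective _ m
      rw [← map_smul, Submodule.mkQ_apply, Submodule.Quotient.mk_eq_zero]
      exact ⟨a, rfl⟩
    refine min_le_of_left_le (le_trans (le_of_eq ?_) (WithBot.coe_le_coe.2 (hge [x, y] ?_ (by simp; exact ⟨hxp, hyp⟩))))
    · rfl
    · refine (RingTheory.Sequence.isWeaklyRegular_cons_iff K x [y]).2 ⟨hregx,
        (RingTheory.Sequence.isWeaklyRegular_cons_iff _ y []).2 ⟨?_, RingTheory.Sequence.IsWeaklyRegular.nil _ _⟩⟩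
      refine isSMulRegular_iff_right_eq_zero_of_smul.2 fun z hz => ?_
      obtain ⟨z, rfl⟩ := Submodule.Quotient.mk_surjective _ z
      rw [← Submodule.Quotient.mk_smul, Submodule.Quotient.mk_eq_zero,
        Submodule.mem_smul_pointwise_iff_exists] at hz
      obtain ⟨w, -, hw⟩ := hz
      have h0 : y • f z = 0 := by rw [← map_smul, ← hw, hfx]
      have h3 : f z = 0 := hinjy (h0.trans (smul_zero y).symm)
      obtain ⟨v, rfl⟩ := hf z h3
      rw [Submodule.Quotient.mk_eq_zero]
      exact Submodule.smul_mem_pointwise_smul _ x ⊤ trivial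

end Groth.Agent.S0369
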