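import Groth.Statements.S0301
import Groth.Agent.InjHullLib.Basic

set_option autoImplicit false
universe u v
open InjHull

namespace Groth.Agent.S0301

/-- Over a Noetherian ring, the submodule of an injective module consisting of the elements killed by
some power of a given ideal is again injective. -/
theorem result (R : Type u) [CommRing R] [IsNoetherianRing R] (I : Type u) [AddCommGroup I] [Module R I] (hI : Module.Injective R I) (J : Ideal R) : Module.Injective R ↥(⨆ n : ℕ, Submodule.torsionBySet R I ((J ^ n : Ideal R) : Set R)) := by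
  set T : Submodule R I := ⨆ n : ℕ, Submodule.torsionBySet R I ((J ^ n : Ideal R) : Set R)
  have hdir : Directed (· ≤ ·) fun n : ℕ => Submodule.torsionBySet R I ((J ^ n : Ideal R) : Set R) :=
    Monotone.directed_le fun p q h => Submodule.torsionBySet_le_torsionBySet_of_subset (Ideal.pow_le_pow_right h)
  have hT : ∀ x : T, ∃ n : ℕ, ∀ a ∈ J ^ n, a • x = 0 := by
    intro x
    obtain ⟨n, hn⟩ := (Submodule.mem_iSup_of_directed _ hdir).1 x.2
    exact ⟨n, fun a ha => Subtype.ext ((Submodule.mem_torsionBySet_iff _ _).1 hn ⟨a, ha⟩)⟩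
  refine Module.Baer.injective fun 𝔞 g => ?_
  obtain ⟨k, hk⟩ := Groth.Agent.InjHullLib.exists_pow_inf_le_ker J 𝔞 hT g
  obtain ⟨g', hg'⟩ := Groth.Agent.InjHullLib.exists_factor_quotient J 𝔞 (T.subtype ∘ₗ g) (k := k)
    (fun a ha => by simp [hk a ha])
  obtain ⟨h, hh⟩ := hI.out (Submodule.map (Submodule.mkQ (J ^ k)) 𝔞).subtype Subtype.val_injective g'
  set y := h (Submodule.Quotient.mk 1)
  have hy : y ∈ T := by
    refine Submodule.mem_iSup_of_mem k ((Submodule.mem_torsionBySet_iff _ _).2 fun a => ?_)
    rw [← map_smul, ← Submodule.Quotient.mk_smul, smul_eq_mul, mul_one,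
      (Submodule.Quotient.mk_eq_zero _).2 a.2, map_zero]
  refine ⟨LinearMap.toSpanSingleton R T ⟨y, hy⟩, fun a ha => Subtype.ext ?_⟩
  show a • y = (g ⟨a, ha⟩ : I)
  have := hg' a ha
  rw [← hh] at this
  rw [← map_smul, ← Submodule.Quotient.mk_smul, smul_eq_mul, mul_one]
  exact this

end Groth.Agent.S0301
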