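import Groth.Statements.S0307
import Groth.Agent.InjHullLib.Basic
import Mathlib.RingTheory.Ideal.AssociatedPrime.Basic
import Mathlib.Order.CompactlyGenerated.Basic
import Mathlib.RingTheory.Finiteness.Basic

set_option autoImplicit false
universe u v
open InjHull

namespace Groth.Agent.S0307

open Classical in
/-- Over a Noetherian ring every injective module is an internal direct sum of indecomposable injective
submodules. -/
theorem result (R : Type u) [CommRing R] [IsNoetherianRing R] (I : Type u) [AddCommGroup I] [Module R I] (hI : Module.Injective R I) : ∃ (ι : Type u) (E : ι → Submodule R I), DirectSum.IsInternal E ∧ ∀ i, InjHull.IsIndecomposable R ↥(E i) ∧ Module.Injective R ↥(E i) := by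
  classical
  let P : Set (Set (Submodule R I)) := {s | sSupIndep s ∧
    ∀ N ∈ s, InjHull.IsIndecomposable R ↥N ∧ Module.Injective R ↥N}
  obtain ⟨s, hs⟩ := zorn_subset P fun c hc hchain => by
    refine ⟨⋃₀ c, ⟨sSupIndep_iff_finite.2 fun t ht => ?_, fun N ⟨y, hy, hN⟩ => (hc hy).2 N hN⟩,
      fun y hy => Set.subset_sUnion_of_mem hy⟩
    rcases c.eq_empty_or_nonempty with rfl | hne
    · simp only [Set.sUnion_empty, Set.subset_empty_iff] at ht
      rw [ht]; exact sSupIndep_empty
    · obtain ⟨y, hy, hty⟩ := DirectedOn.exists_mem_subset_of_finite_of_subset_sUnion hne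
        hchain.directedOn t.finite_toSet ht
      exact (hc hy).1.mono hty
  obtain ⟨hind, hmem⟩ := hs.1
  let E : s → Submodule R I := fun N => N.1
  letI : DecidableEq s := Classical.decEq _
  have hindep : iSupIndep E := (sSupIndep_iff s).1 hind
  suffices htop : ⨆ N, E N = ⊤ by
    exact ⟨s, E, DirectSum.isInternal_submodule_of_iSupIndep_of_iSup_eq_top hindep htop,
      fun N => hmem N.1 N.2⟩
  let T := ⨆ N, E N
  have hT : Module.Injective R T :=
    Groth.Agent.InjHullLib.injective_of_equiv
      ((LinearEquiv.ofInjective (DFinsupp.lsum ℕ fun N => (E N).subtype)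
        hindep.dfinsupp_lsum_injective).trans
        (LinearEquiv.ofEq _ _ (Submodule.iSup_eq_range_dfinsupp_lsum E).symm))
      (Groth.Agent.InjHullLib.injective_directSum (fun N => ↥(E N)) fun N => (hmem N.1 N.2).2)
  obtain ⟨Q, hQ⟩ := Groth.Agent.InjHullLib.exists_isCompl_range hT T.subtype Subtype.val_injective
  rw [Submodule.range_subtype] at hQ
  by_contra htop
  have hQ0 : Q ≠ ⊥ := fun h => htop (eq_top_of_isCompl_bot (h ▸ hQ))
  haveI : Nontrivial Q := Submodule.nontrivial_iff_ne_bot.2 hQ0
  obtain ⟨p, hp⟩ := associatedPrimes.nonempty R Q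
  haveI := hp.isPrime
  obtain ⟨x, hx⟩ := ((isAssociatedPrime_iff_exists_injective_linearMap _ _).1 hp).2
  obtain ⟨H, _, _, f, hf⟩ := Groth.Agent.Matlis6.exists_isInjectiveHull R (R ⧸ p)
  have hQinj : Module.Injective R Q := Groth.Agent.InjHullLib.injective_of_isCompl hI hQ.symm
  obtain ⟨α, hα⟩ := hQinj.out f hf.injective x
  have hαi : Function.Injective α := Groth.Agent.InjHullLib.injective_of_comp_injective hf.toIsEssentialInj α
    (by rw [show α ∘ₗ f = x from LinearMap.ext hα]; exact hx)
  let β : H →ₗ[R] I := Q.subtype ∘ₗ α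
  have hβ : Function.Injective β := Subtype.val_injective.comp hαi
  set N₀ : Submodule R I := LinearMap.range β
  have hN₀Q : N₀ ≤ Q := by rintro _ ⟨h, rfl⟩; exact (α h).2
  have hind₀ := Groth.Agent.InjHullLib.isIndecomposable_hull_quotient_prime p hf.toIsEssentialInj
  have hN₀ne : N₀ ≠ ⊥ := fun h => by
    haveI := hind₀.1
    obtain ⟨z, hz⟩ := exists_ne (0 : H)
    exact hz (hβ (((Submodule.eq_bot_iff _).1 h _ ⟨z, rfl⟩).trans (map_zero β).symm))
  have hN₀ : InjHull.IsIndecomposable R ↥N₀ := by
    let e : H ≃ₗ[R] N₀ := LinearEquiv.ofInjective β hβ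
    refine ⟨Submodule.nontrivial_iff_ne_bot.2 hN₀ne, fun A B hAB => ?_⟩
    have := hind₀.2 _ _ ((Submodule.orderIsoMapComap e.symm).isCompl_iff.1 hAB)
    simpa using this
  have hnew : insert N₀ s ∈ P := by
    refine ⟨fun N hN => ?_, fun N hN => ?_⟩
    · have hle : ∀ M ∈ s, M ≤ T := fun M hM => le_iSup E ⟨M, hM⟩
      rcases hN with rfl | hN
      · refine Disjoint.mono hN₀Q (sSup_le ?_) hQ.symm.disjoint
        rintro M ⟨hM, hM0⟩
        exact hle M (hM.resolve_left hM0)
      · refine Disjoint.mono_right (?_ : _ ≤ sSup (s \ {N}) ⊔ N₀) ?_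
        · refine sSup_le ?_
          rintro M ⟨hM, hM0⟩
          rcases hM with rfl | hM
          · exact le_sup_right
          · exact le_sup_of_le_left (le_sSup ⟨hM, hM0⟩)
        rw [Submodule.disjoint_def]
        intro z hzN hz
        obtain ⟨y, hy, h, hh, rfl⟩ := Submodule.mem_sup.1 hz
        have hyT : y ∈ T := (sSup_le fun M hM => hle M hM.1 : _ ≤ T) hy
        have h0 : h = 0 := Submodule.disjoint_def.1 hQ.disjoint h
          (by simpa using sub_mem (hle N hN hzN) hyT) (hN₀Q hh)
        rw [h0, add_zero] at hzN ⊢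
        exact Submodule.disjoint_def.1 (hind hN) y hzN hy
    · rcases hN with rfl | hN
      · exact ⟨hN₀, Groth.Agent.InjHullLib.injective_of_equiv (LinearEquiv.ofInjective β hβ) hf.isInjective⟩
      · exact hmem N hN
  have hN₀s : N₀ ∈ s := hs.2 hnew (Set.subset_insert _ _) (Set.mem_insert _ _)
  exact hN₀ne (disjoint_self.1 (Disjoint.mono (le_iSup E ⟨N₀, hN₀s⟩) hN₀Q hQ.disjoint))

end Groth.Agent.S0307
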