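import Groth.Statements.S4700
import Groth.Agent.CommAlg6.RegularLocus

set_option autoImplicit false
universe u
open EGA4

namespace Groth.Agent.S4700

/-- Let A be a Noetherian ring. Suppose that for every prime p of A such that A_p is regular, the
regular locus of the domain A/p contains a nonempty open subset of Spec(A/p) (equivalently, is a
neighbourhood of the generic point). Then the regular locus of A is open in Spec A. -/
theorem result (A : Type u) [CommRing A] [IsNoetherianRing A]
    (h : ∀ p : PrimeSpectrum A, p ∈ EGA4.regLocus A →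
      ∃ U : Set (PrimeSpectrum (A ⧸ p.asIdeal)), IsOpen U ∧ U.Nonempty ∧ U ⊆ EGA4.regLocus (A ⧸ p.asIdeal)) :
    IsOpen (EGA4.regLocus A) := by
  refine CommAlg6.isOpen_regLocus_iff.mpr fun p hp => ?_
  haveI : IsRegularLocalRing (Localization.AtPrime p.asIdeal) := hp
  obtain ⟨U, hU, ⟨u, hu⟩, hsub⟩ := h p hp
  obtain ⟨T, f, hcard, hf, hT, hgen⟩ := CommAlg6.exists_generators p.asIdeal
  have hind : Topology.IsInducing (PrimeSpectrum.comap (Ideal.Quotient.mk p.asIdeal)) :=
    (PrimeSpectrum.isClosedEmbedding_comap_of_surjective _ _ Ideal.Quotient.mk_surjective).isInducing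
  obtain ⟨W, hW, rfl⟩ := hind.isOpen_iff.mp hU
  have hgeneric : p ∈ W := by
    have hpu : p ⤳ PrimeSpectrum.comap (Ideal.Quotient.mk p.asIdeal) u := by
      rw [← PrimeSpectrum.le_iff_specializes]
      intro x hx
      show Ideal.Quotient.mk p.asIdeal x ∈ u.asIdeal
      rw [Ideal.Quotient.eq_zero_iff_mem.mpr hx]
      exact zero_mem _
    exact hpu.mem_open hW hu
  refine ⟨W ∩ (PrimeSpectrum.basicOpen f : Set (PrimeSpectrum A)),
    hW.inter (PrimeSpectrum.basicOpen f).isOpen,
    ⟨p, ⟨hgeneric, hf⟩, (PrimeSpectrum.mem_zeroLocus _ _).mpr le_rfl⟩, ?_⟩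
  rintro q ⟨⟨hqW, hfq⟩, hpq⟩
  haveI : (q.asIdeal.map (Ideal.Quotient.mk p.asIdeal)).IsPrime :=
    Ideal.map_isPrime_of_surjective Ideal.Quotient.mk_surjective (by rw [Ideal.mk_ker]; exact hpq)
  refine CommAlg6.isRegularLocalRing_atPrime_of_generators p.asIdeal q.asIdeal hpq T f hcard hfq hT hgen
    (hsub (a := ⟨q.asIdeal.map (Ideal.Quotient.mk p.asIdeal), inferInstance⟩) ?_)
  show PrimeSpectrum.comap _ _ ∈ W
  convert hqW using 1
  exact PrimeSpectrum.ext (by
    show (q.asIdeal.map _).comap _ = _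
    rw [Ideal.comap_map_of_surjective' _ Ideal.Quotient.mk_surjective, Ideal.mk_ker,
      sup_eq_left.mpr hpq])

end Groth.Agent.S4700
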