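import Groth.Statements.S9127
import Groth.Agent.S9125
import Mathlib.RingTheory.Spectrum.Prime.Topology
import Mathlib.RingTheory.Ideal.MinimalPrime.Basic

set_option autoImplicit false
universe u
open CAlg

namespace Groth.Agent.S9127

/-- A Noetherian ring is catenary if and only if its quotient by every minimal prime is catenary. -/
theorem result (R : Type u) [CommRing R] [IsNoetherianRing R] :
    CAlg.IsCatenary R ↔ ∀ p ∈ minimalPrimes R, CAlg.IsCatenary (R ⧸ p) := by
  refine ⟨fun h p _ => Groth.Agent.S9125.result R p h, fun h => ?_⟩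
  have key : ∀ p : PrimeSpectrum R, ∃ P, P ∈ minimalPrimes R ∧ P ≤ p.asIdeal := fun p => by
    obtain ⟨P, h1, h2⟩ := Ideal.exists_minimalPrimes_le (bot_le : ⊥ ≤ p.asIdeal)
    exact ⟨P, h1, h2⟩
  choose P hPm hPle using key
  have lift : ∀ (s : LTSeries (PrimeSpectrum R)) (p : PrimeSpectrum R), p ≤ s.head →
      ∃ s' : LTSeries (PrimeSpectrum (R ⧸ P p)), ∃ hl : s'.length = s.length,
        ∀ i, PrimeSpectrum.comap (Ideal.Quotient.mk (P p)) (s' i) = s (i.cast (by rw [hl])) := by
    intro s p hp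
    have hmem : ∀ i, s i ∈ Set.range (PrimeSpectrum.comap (Ideal.Quotient.mk (P p))) := fun i => by
      rw [range_comap_of_surjective _ _ Ideal.Quotient.mk_surjective, Ideal.mk_ker]
      exact fun y hy => (hp.trans (s.monotone (Fin.zero_le i))) (hPle p hy)
    choose g hg using hmem
    refine ⟨⟨s.length, g, fun i => ?_⟩, rfl, fun i => hg i⟩
    have h1 := s.step i
    change s i.castSucc < s i.succ at h1
    change g i.castSucc < g i.succ
    refine lt_of_le_of_ne ?_ fun he => h1.ne (by rw [← hg, ← hg, he])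
    refine (Ideal.comap_le_comap_iff_of_surjective _ Ideal.Quotient.mk_surjective _ _).mp ?_
    have := h1.le
    rw [← hg, ← hg] at this
    exact this
  have inj : ∀ (p : PrimeSpectrum R), Function.Injective (PrimeSpectrum.comap (Ideal.Quotient.mk (P p))) := fun p =>
    PrimeSpectrum.comap_injective_of_surjective _ Ideal.Quotient.mk_surjective
  refine ⟨fun p q hpq => ?_, fun s t hh hl hs ht => ?_⟩
  · have hex : ∀ r : PrimeSpectrum R, p ≤ r → ∃ r' : PrimeSpectrum (R ⧸ P p), PrimeSpectrum.comap (Ideal.Quotient.mk (P p)) r' = r := fun r hr => by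
      show r ∈ Set.range _
      rw [range_comap_of_surjective _ _ Ideal.Quotient.mk_surjective, Ideal.mk_ker]
      exact fun y hy => hr (hPle p hy)
    obtain ⟨p', hp'⟩ := hex p le_rfl
    obtain ⟨q', hq'⟩ := hex q hpq
    obtain ⟨n, hn⟩ := (h _ (hPm p)).1 p' q' (by
      refine (Ideal.comap_le_comap_iff_of_surjective _ Ideal.Quotient.mk_surjective _ _).mp ?_
      exact le_of_eq_of_le (congrArg PrimeSpectrum.asIdeal hp') (le_of_le_of_eq hpq (congrArg PrimeSpectrum.asIdeal hq').symm))
    refine ⟨n, fun s h1 h2 => ?_⟩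
    obtain ⟨s', hl, hs'⟩ := lift s p h1.ge
    rw [← hl]
    refine hn s' (inj p ?_) (inj p ?_)
    · rw [hp']
      exact ((hs' 0).trans (congrArg s (Fin.ext (by simp)))).trans h1
    · rw [hq']
      exact ((hs' (Fin.last _)).trans (congrArg s (Fin.ext (by simp [hl])))).trans h2
  obtain ⟨s', hls, hs'⟩ := lift s s.head le_rfl
  obtain ⟨t', hlt, ht'⟩ := lift t s.head hh.le
  rw [← hls, ← hlt]
  have hcov : ∀ (s : LTSeries (PrimeSpectrum R)) (p : PrimeSpectrum R) (s' : LTSeries (PrimeSpectrum (R ⧸ P p)))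
      (hl : s'.length = s.length) (_ : ∀ i, PrimeSpectrum.comap (Ideal.Quotient.mk (P p)) (s' i) = s (i.cast (by rw [hl])))
      (_ : ∀ i : Fin s.length, s (Fin.castSucc i) ⋖ s (Fin.succ i)), ∀ i : Fin s'.length, s' (Fin.castSucc i) ⋖ s' (Fin.succ i) := by
    intro s p s' hl hs' hs i
    refine ⟨s'.step i, fun x h1 h2 => ?_⟩
    have hm : StrictMono (PrimeSpectrum.comap (Ideal.Quotient.mk (P p))) := fun a b hab =>
      lt_of_le_of_ne (Ideal.comap_mono hab.le) fun he => hab.ne (inj p he)
    have := (hs (i.cast hl)).2 (c := PrimeSpectrum.comap (Ideal.Quotient.mk (P p)) x)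
      (lt_of_eq_of_lt (hs' i.castSucc).symm (hm h1))
      (lt_of_lt_of_eq (hm h2) (hs' i.succ))
    exact this
  refine (h _ (hPm s.head)).2 s' t' (inj _ ?_) (inj _ ?_) (hcov s _ s' hls hs' hs) (hcov t _ t' hlt ht' ht)
  · exact (hs' 0).trans (Eq.trans (congrArg s (Fin.ext (by simp))) (hh.trans (Eq.trans (congrArg t (Fin.ext (by simp))) (ht' 0).symm)))
  · exact (hs' (Fin.last _)).trans (Eq.trans (congrArg s (Fin.ext (by simp [hls]))) (hl.trans (Eq.trans (congrArg t (Fin.ext (by simp [hlt]))) (ht' (Fin.last _)).symm)))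

end Groth.Agent.S9127
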