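import Groth.Statements.S14138
import Groth.Agent.VB5.Endo
import Groth.Agent.SGA3cLib.CentralDescent
import Groth.Agent.AbVarLib.GeomIntegralSmooth

set_option autoImplicit false
set_option linter.all false
universe u
open CategoryTheory CategoryTheory.Limits AlgebraicGeometry
open VBCurve

namespace Groth.Agent.S14138

/-- Let C be a smooth proper geometrically connected curve over a field k (proper, smooth and
geometrically connected over k, of dimension one) of genus one, i.e. dim_k H^1(C, O_C) = 1, and E a
finite locally free O_C-module of rank r ≥ 1 which is indecomposable: E is nonzero and whenever E ≅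
E₁ ⊕ E₂ one of the summands is zero. Then E is semistable: for every finite locally free submodule G
of E of rank r' ≥ 1 one has deg G · r ≤ deg E · r', the degree of a rank-n locally free module being
χ(G) − n·χ(O_C). (The published statement is for an elliptic curve; its proof, that the
Harder–Narasimhan filtration splits, uses only genus one, so no rational point is assumed here.) -/
theorem result (k : Type u) [Field k] (X : Scheme.{u}) [X.Over (Spec (CommRingCat.of k))]
    [IsProper (X ↘ Spec (CommRingCat.of k))] [Smooth (X ↘ Spec (CommRingCat.of k))]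
    [GeometricallyConnected (X ↘ Spec (CommRingCat.of k))] (hdim : topologicalKrullDim ↥X = 1)
    (hg : Curv2.genus k X = 1)
    (r : ℕ) (hr : 0 < r) (E : X.Modules) (hE : FlatMod.IsFinLocFreeOfRank r E)
    (hind : ¬ IsZero E ∧ ∀ (E₁ E₂ : X.Modules), Nonempty (E ≅ E₁ ⊞ E₂) → IsZero E₁ ∨ IsZero E₂) :
    (∀ (G : X.Modules) (r' : ℕ) (i : G ⟶ E), Mono i → 0 < r' → FlatMod.IsFinLocFreeOfRank r' G →
      Curv2.deg k X G r' * (r : ℤ) ≤ Curv2.deg k X E r * (r' : ℤ)) := by
  haveI : ConnectedSpace X := GeometricallyConnected.connectedSpace_of_subsingleton (f := X ↘ Spec (CommRingCat.of k))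
  haveI : IsIntegral X := AbVarLib.isIntegral_of_smooth_connected (X ↘ Spec (CommRingCat.of k))
  haveI := CurveRR24.isLocallyNoetherian_of_proper k (X := X)
  have hn := VB5.isIntegrallyClosed_stalk k (X := X)
  haveI : GeometricallyIntegral (X ↘ Spec (CommRingCat.of k)) := AbVarLib.geometricallyIntegral_of_smooth _
  rw [← VB5.ss_iff k hdim hn hE]
  have hEc := SplitP1.isCoh_of_rank hE
  obtain ⟨E₁, i, hi, hE₁c, hpos, hE₁, hmax⟩ := VB5.exists_max_destab k hdim hn hr hE
  haveI := hi
  have hΩ := VB5.omega_line k hdim (X := X)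
  have hΩ0 : VB5.gdeg k (VB5.omega k (X := X)) ≤ 0 := by rw [VB5.gdeg_omega k hdim, hg]; simp
  have hr1 : (0 : ℤ) < (VB5.grk E₁ : ℤ) := by exact_mod_cast hpos
  have hQ := VB5.bundle_cokernel_of_max k hdim hn hE i hE₁c fun P jP hjP hP hPr => by
    have := (hmax P jP hjP hP).1
    rw [hPr] at this
    exact le_of_mul_le_mul_right this hr1
  have hS := EulerLib.shortExact_cokernel i
  have hsp := VB5.isSplitEpi_of_hom_eq_zero k hdim hS (VB5.exists_rank_free hE₁) (VB5.exists_rank_free hQ)
    fun g => VB5.hom_twist_eq_zero_of_max hΩ k hdim hn hE i hE₁c hpos hmax hΩ0 g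
  obtain ⟨⟨σ, hσ⟩⟩ := hsp.exists_splitEpi
  rcases hind.2 _ _ ⟨(ShortComplex.Splitting.ofExactOfSection _ hS.exact σ hσ hi).isoBinaryBiproduct⟩ with hz | hz
  · exact absurd hz (VB5.not_isZero_of_grk hE₁ hpos)
  · haveI : Epi i := Preadditive.epi_of_isZero_cokernel _ hz
    haveI := isIso_of_mono_of_epi i
    intro G j hj hG
    rw [← VB5.gdeg_congr k (asIso i), ← VB5.grk_congr (asIso i)]
    exact (hmax G j hj hG).1

end Groth.Agent.S14138
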