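import Groth.Statements.S3330
import Groth.Agent.Models7.MinimalModel
-- import your own Groth.Agent.* helpers here

set_option autoImplicit false
set_option linter.style.haveILetI false
set_option backward.isDefEq.respectTransparency false
universe u
open CategoryTheory CategoryTheory.Limits AlgebraicGeometry
open Models

namespace Groth.Agent.S3330

/-- Let R be a discrete valuation ring with fraction field K and C a smooth proper curve over K with
H^0(C, O_C) = K and positive genus dim_K H^1(C, O_C) > 0. If X₁ and X₂ are minimal models of C with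
generic-fibre inclusions g₁, g₂, then there is a unique isomorphism X₁ ≅ X₂ of models (over R,
carrying g₁ to g₂). -/
theorem result (R : Type u) [CommRing R] [IsDomain R] [IsDiscreteValuationRing R]
    (C X₁ X₂ : Scheme.{u}) (f : C ⟶ Spec (CommRingCat.of (FractionRing R)))
    (p₁ : X₁ ⟶ Spec (CommRingCat.of R)) (p₂ : X₂ ⟶ Spec (CommRingCat.of R))
    (hC : Curve.IsSmoothProperCurve (FractionRing R) C f) (hH0 : IsIso f.appTop)
    (hg : 0 < Models.curveGenus (FractionRing R) C f)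
    (h₁ : Models.IsMinimalModel R X₁ p₁ C f) (h₂ : Models.IsMinimalModel R X₂ p₂ C f)
    (g₁ : C ⟶ X₁) (hg₁ : IsPullback g₁ f p₁ (Spec.map (CommRingCat.ofHom (algebraMap R (FractionRing R)))))
    (g₂ : C ⟶ X₂) (hg₂ : IsPullback g₂ f p₂ (Spec.map (CommRingCat.ofHom (algebraMap R (FractionRing R))))) :
    ∃! e : X₁ ≅ X₂, e.hom ≫ p₂ = p₁ ∧ g₁ ≫ e.hom = g₂ := by
  haveI := hC.2.2.1
  have m₁ : Groth.Agent.Models7.GenModel R C f X₁ p₁ g₁ := ⟨h₁.1, hg₁⟩
  have m₂ : Groth.Agent.Models7.GenModel R C f X₂ p₂ g₂ := ⟨h₂.1, hg₂⟩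
  obtain ⟨a, ⟨ha, ha'⟩, hua⟩ := Groth.Agent.Models7.existsUnique_to_minimal hC hH0 hg m₂ m₁ h₂.2
  obtain ⟨b, ⟨hb, hb'⟩, -⟩ := Groth.Agent.Models7.existsUnique_to_minimal hC hH0 hg m₁ m₂ h₁.2
  obtain ⟨i, -, hi⟩ := Groth.Agent.Models7.existsUnique_to_minimal hC hH0 hg m₁ m₁ h₁.2
  obtain ⟨j, -, hj⟩ := Groth.Agent.Models7.existsUnique_to_minimal hC hH0 hg m₂ m₂ h₂.2
  have hab : a ≫ b = 𝟙 X₁ :=
    (hi (a ≫ b) ⟨by rw [Category.assoc, hb, ha], by rw [reassoc_of% ha', hb']⟩).trans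
      (hi (𝟙 X₁) ⟨Category.id_comp _, Category.comp_id _⟩).symm
  have hba : b ≫ a = 𝟙 X₂ :=
    (hj (b ≫ a) ⟨by rw [Category.assoc, ha, hb], by rw [reassoc_of% hb', ha']⟩).trans
      (hj (𝟙 X₂) ⟨Category.id_comp _, Category.comp_id _⟩).symm
  exact ⟨⟨a, b, hab, hba⟩, ⟨ha, ha'⟩, fun e he => Iso.ext (hua e.hom he)⟩

end Groth.Agent.S3330
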