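import Groth.Statements.S3338
import Groth.Agent.Inters29.Connected
import Groth.Agent.Inters29.Model
import Groth.Agent.Inters29.Class
import Groth.Agent.Inters29.FibrePullback
import Groth.Agent.Inters29.Matrix
import Groth.Agent.Inters29.ModelCurve
import Groth.Agent.NeronLib.Regular
import Groth.Agent.AbVarLib.GeomIntegralSmooth
import Groth.Agent.EGA43.DimFormula.ValFibre
import Groth.Agent.Models7.ExcCurveAux
-- import your own Groth.Agent.* helpers here

set_option autoImplicit false
set_option backward.isDefEq.respectTransparency false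
universe u
open CategoryTheory CategoryTheory.Limits AlgebraicGeometry
open Models

namespace Groth.Agent.S3338

/-- The step (1) implies (2) as proved there: let R be a discrete valuation ring with fraction field K,
C a smooth proper curve over K with H^0(C, O_C) = K, and X a proper smooth model of C over R. Then X
is a minimal model (regular, proper, with no exceptional curve of the first kind in its closed
fibre). -/
theorem result (R : Type u) [CommRing R] [IsDomain R] [IsDiscreteValuationRing R]
    (C X : Scheme.{u}) (f : C ⟶ Spec (CommRingCat.of (FractionRing R))) (p : X ⟶ Spec (CommRingCat.of R))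
    (hC : Curve.IsSmoothProperCurve (FractionRing R) C f) (hH0 : IsIso f.appTop)
    (hX : Models.IsModel R X p C f) [IsProper p] [Smooth p] :
    Models.IsMinimalModel R X p C f := by
  obtain ⟨hflat, hlft, hqc, g, hg⟩ := hX
  haveI := hflat
  haveI := hC.2.2.1
  haveI : IsNoetherianRing R := inferInstance
  have hreg : Models.IsRegularScheme X := fun x => NeronLib.isRegularLocalRing_stalk_of_smooth p x
  haveI : IsIntegral X := Inters29.isIntegral_model R ⟨hflat, hlft, hqc, g, hg⟩ hreg
  haveI : IsLocallyNoetherian X := LocallyOfFiniteType.isLocallyNoetherian p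
  refine ⟨⟨⟨hflat, hlft, hqc, g, hg⟩, ‹IsProper p›, hreg⟩, fun Γ hexc => ?_⟩
  let c := Spec.map (CommRingCat.ofHom (IsLocalRing.residue R))
  haveI : IsClosedImmersion c := Inters29.isClosedImmersion_residue R
  let j := Limits.pullback.fst p c
  let q := Limits.pullback.snd p c
  haveI : IsClosedImmersion j := MorphismProperty.pullback_fst _ _ inferInstance
  haveI : Smooth q := MorphismProperty.pullback_snd _ _ inferInstance
  have hc : c (IsLocalRing.closedPoint (IsLocalRing.ResidueField R)) = IsLocalRing.closedPoint R :=
    IsLocalRing.comap_closedPoint (IsLocalRing.residue R)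
  have hrj : Set.range j.base = p.base ⁻¹' {IsLocalRing.closedPoint R} := by
    ext x
    constructor
    · rintro ⟨z, rfl⟩
      show p (j z) = IsLocalRing.closedPoint R
      rw [← Scheme.Hom.comp_apply, show j ≫ p = q ≫ c from Limits.pullback.condition, Scheme.Hom.comp_apply,
        Subsingleton.elim (q z) (IsLocalRing.closedPoint (IsLocalRing.ResidueField R)), hc]
    · intro hx
      obtain ⟨z, hz, -⟩ := Scheme.Pullback.exists_preimage_pullback (f := p) (g := c) x
        (IsLocalRing.closedPoint (IsLocalRing.ResidueField R)) ((show p x = IsLocalRing.closedPoint R from hx).trans hc.symm)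
      exact ⟨z, hz⟩
  haveI : ConnectedSpace ↥(Limits.pullback p c) := by
    have h := Inters29.isConnected_specialFibreSet R hH0 g hg
    rw [← hrj] at h
    rw [connectedSpace_iff_univ]
    exact ⟨Set.Nonempty.mono (Set.subset_univ _) ((Set.range_nonempty_iff_nonempty.1 h.1).elim fun z => ⟨z, rfl⟩ :
      ({z | z = z} : Set ↥(Limits.pullback p c)).Nonempty),
      (j.isEmbedding.isInducing.isPreconnected_image).1 (by rw [Set.image_univ]; exact h.2)⟩
  haveI : IsIntegral (Limits.pullback p c) := AbVarLib.isIntegral_of_smooth_connected q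
  -- the special fibre is one dimensional
  have hdim : topologicalKrullDim ↥(Limits.pullback p c) = 1 := by
    haveI : IsDominant p := by
      refine ⟨?_⟩
      have hb : (p (g (genericPoint C)) : PrimeSpectrum R) = ⟨⊥, Ideal.isPrime_bot⟩ := by
        rw [← Scheme.Hom.comp_apply, hg.w, Scheme.Hom.comp_apply,
          Subsingleton.elim (f (genericPoint C)) (⟨⊥, Ideal.isPrime_bot⟩ : PrimeSpectrum (FractionRing R))]
        exact PrimeSpectrum.ext (Ideal.comap_bot_of_injective _ (IsFractionRing.injective R (FractionRing R)))
      intro t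
      refine closure_mono (Set.singleton_subset_iff.2 (show (⟨⊥, Ideal.isPrime_bot⟩ : PrimeSpectrum R) ∈ Set.range p from ⟨_, hb⟩)) ?_
      exact specializes_iff_mem_closure.1 ((PrimeSpectrum.le_iff_specializes _ _).1 bot_le)
    obtain ⟨z⟩ := (inferInstance : Nonempty ↥(Limits.pullback p c))
    have h1 := EGA43.DimFormula.fiber_dim_eq_of_valuationRing p (j z) (hrj.le ⟨z, rfl⟩)
    have hK : IsOpenImmersion (Spec.map (CommRingCat.ofHom (algebraMap R (FractionRing R)))) :=
      Inters29.isOpenImmersion_generic R
    haveI : IsOpenImmersion g := MorphismProperty.of_isPullback (P := @IsOpenImmersion) hg.flip hK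
    have hgp : ∀ t : Spec (CommRingCat.of (FractionRing R)),
        (Spec.map (CommRingCat.ofHom (algebraMap R (FractionRing R))) t : Spec (CommRingCat.of R)) =
          genericPoint (Spec (CommRingCat.of R)) := by
      intro t
      rw [genericPoint_eq_bot_of_affine, Subsingleton.elim t (⟨⊥, Ideal.isPrime_bot⟩ : PrimeSpectrum (FractionRing R))]
      exact PrimeSpectrum.ext (Ideal.comap_bot_of_injective _ (IsFractionRing.injective R (FractionRing R)))
    have hrg : Set.range g.base = p.base ⁻¹' {genericPoint (Spec (CommRingCat.of R))} := by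
      ext x
      constructor
      · rintro ⟨w, rfl⟩
        show p (g w) = _
        rw [← Scheme.Hom.comp_apply, hg.w, Scheme.Hom.comp_apply]
        exact hgp _
      · intro hx
        obtain ⟨w, hw, -⟩ := Scheme.exists_preimage_of_isPullback hg x (IsLocalRing.closedPoint (FractionRing R))
          ((show p x = _ from hx).trans (hgp _).symm)
        exact ⟨w, hw⟩
    have e1 : topologicalKrullDim ↥(Limits.pullback p c) =
        topologicalKrullDim ↥(p.fiber (IsLocalRing.closedPoint R)) :=
      (j.isEmbedding.toHomeomorph.trans ((Homeomorph.setCongr (hrj.trans (p.range_fiberι _).symm)).trans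
        (p.fiberι _).isEmbedding.toHomeomorph.symm)).isHomeomorph.topologicalKrullDim_eq
    have e2 : topologicalKrullDim ↥(p.fiber (genericPoint (Spec (CommRingCat.of R)))) = topologicalKrullDim ↥C :=
      ((p.fiberι _).isEmbedding.toHomeomorph.trans ((Homeomorph.setCongr ((p.range_fiberι _).trans hrg.symm)).trans
        g.isEmbedding.toHomeomorph.symm)).isHomeomorph.topologicalKrullDim_eq
    rw [e1, h1, e2, hC.2.2.2]
  -- the component is the whole special fibre
  let Γ' : Γ.curve.left ⟶ X := Γ.ι
  have hw : Γ' ≫ p = Γ.curve.hom ≫ c := Γ.w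
  let l : Γ.curve.left ⟶ Limits.pullback p c := Limits.pullback.lift Γ' Γ.curve.hom hw
  have hl : l ≫ j = Γ' := Limits.pullback.lift_fst _ _ _
  haveI : IsClosedImmersion (l ≫ j) := by rw [hl]; exact Γ.isClosedImmersion
  haveI : IsClosedImmersion l := IsClosedImmersion.of_comp l j
  haveI : Surjective l := ⟨Set.range_eq_univ.1 (Models7.range_eq_univ_of_dim l Γ.dim_eq hdim.le)⟩
  haveI : IsIso l := isIso_of_isClosedImmersion_of_surjective l
  haveI : QuasiCompact (Over.mk p).hom := hqc
  have hker : Γ.ι.ker = Models.specialFibreIdeal R (Over.mk p) := by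
    have h := Inters29.ker_fst_specialFibre R (X := Over.mk p)
    show Γ'.ker = _
    rw [← hl, Scheme.Hom.ker_comp_of_isIso, ← h]
    rfl
  haveI : IsIntegral (Over.mk p).left := ‹IsIntegral X›
  haveI : IsLocallyNoetherian (Over.mk p).left := ‹IsLocallyNoetherian X›
  haveI : Flat (Over.mk p).hom := hflat
  obtain ⟨s, hs⟩ := Inters29.exists_specialFibreIdeal_gen R (X := Over.mk p)
  obtain ⟨e₀⟩ := Inters29.nonempty_iso_of_principal _ s hs
  obtain ⟨-, k, hk, e, ⟨φ⟩⟩ := hexc
  rw [hker] at φ
  exact Models7.not_iso_twist_one k ((Scheme.Modules.pullback (e.hom ≫ Γ.ι)).mapIso e₀.symm ≪≫ φ)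

end Groth.Agent.S3338
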