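import Groth.Statements.S18894
import Groth.Agent.CurveModel24.FieldPoint
import Groth.Agent.S3338
import Groth.Agent.S3330
-- import your own Groth.Agent.* helpers here

set_option autoImplicit false
universe u
open CategoryTheory CategoryTheory.Limits AlgebraicGeometry
open Curves

set_option backward.isDefEq.respectTransparency.types false
namespace Groth.Agent.S18894

/-- Together with the accompanying claim: let R be a discrete valuation ring with fraction field K, η :
Spec K → Spec R the generic point, and f : X → Spec R, g : Y → Spec R two smooth curves of genus n ≥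
1 (proper and smooth, with geometrically connected fibres of dimension one and genus n). Then
restriction to the generic fibre is a bijection from R-isomorphisms X ≅ Y onto K-isomorphisms X_η ≅
Y_η: every isomorphism φ of the generic fibres over Spec K is induced by a unique morphism e : X → Y
compatible with the first projections, and this e is an isomorphism over Spec R. -/
theorem result {R : Type u} [CommRing R] [IsDomain R]
    [IsDiscreteValuationRing R] {X Y : Scheme.{u}}
    (f : X ⟶ Spec (CommRingCat.of R)) (g : Y ⟶ Spec (CommRingCat.of R))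
    [IsProper f] [Smooth f] [GeometricallyConnected f] [IsProper g] [Smooth g] [GeometricallyConnected g]
    (hXdim : ∀ s : ↥(Spec (CommRingCat.of R)), topologicalKrullDim ↥(f.fiber s) = 1)
    (hYdim : ∀ s : ↥(Spec (CommRingCat.of R)), topologicalKrullDim ↥(g.fiber s) = 1)
    (n : ℕ) (hn : 1 ≤ n)
    (hXgen : ∀ s : ↥(Spec (CommRingCat.of R)),
      letI : (f.fiber s).Over (Spec ((Spec (CommRingCat.of R)).residueField s)) := ⟨f.fiberToSpecResidueField s⟩
      Curv2.genus ((Spec (CommRingCat.of R)).residueField s) (f.fiber s) = n)
    (hYgen : ∀ s : ↥(Spec (CommRingCat.of R)),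
      letI : (g.fiber s).Over (Spec ((Spec (CommRingCat.of R)).residueField s)) := ⟨g.fiberToSpecResidueField s⟩
      Curv2.genus ((Spec (CommRingCat.of R)).residueField s) (g.fiber s) = n)
    (η : Spec (CommRingCat.of (FractionRing R)) ⟶ Spec (CommRingCat.of R))
    (hη : η = Spec.map (CommRingCat.ofHom (algebraMap R (FractionRing R))))
    (φ : pullback f η ≅ pullback g η) (hφ : φ.hom ≫ pullback.snd g η = pullback.snd f η) :
    ∃ e : X ≅ Y, e.hom ≫ g = f ∧ pullback.fst f η ≫ e.hom = φ.hom ≫ pullback.fst g η ∧
      ∀ e' : X ⟶ Y, pullback.fst f η ≫ e' = φ.hom ≫ pullback.fst g η → e' = e.hom := by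
  subst hη
  let η := Spec.map (CommRingCat.ofHom (algebraMap R (FractionRing R)))
  let C := pullback f η
  let p : C ⟶ Spec (CommRingCat.of (FractionRing R)) := pullback.snd f η
  haveI : IsProper p := MorphismProperty.pullback_snd (P := @IsProper) _ _ inferInstance
  haveI : Smooth p := MorphismProperty.pullback_snd (P := @Smooth) _ _ inferInstance
  haveI : GeometricallyConnected p := MorphismProperty.pullback_snd (P := @GeometricallyConnected) _ _ inferInstance
  haveI : ConnectedSpace C := GeometricallyConnected.connectedSpace_of_subsingleton p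
  haveI : IsIntegral C := AbVarLib.isIntegral_of_smooth_connected p
  have hH0 : IsIso p.appTop := CurveModel24.isIso_appTop p
  obtain ⟨s, hd, hgs⟩ := CurveModel24.fibre_invariants f η
  have hC : Curve.IsSmoothProperCurve (FractionRing R) C p :=
    ⟨inferInstance, inferInstance, inferInstance, hd.trans (hXdim s)⟩
  have hg0 : 0 < Models.curveGenus (FractionRing R) C p := by
    show 0 < (letI : C.Over (Spec (CommRingCat.of (FractionRing R))) := ⟨p⟩; Curv2.genus (FractionRing R) C)
    rw [hgs, hXgen s]
    omega
  have sqX : IsPullback (pullback.fst f η) p f η := IsPullback.of_hasPullback f η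
  have sqY : IsPullback (φ.hom ≫ pullback.fst g η) p g η :=
    (IsPullback.of_hasPullback g η).of_iso φ.symm (Iso.refl _) (Iso.refl _) (Iso.refl _)
      (by simp) (by simp only [Iso.refl_hom, Category.comp_id, Iso.symm_hom]; rw [Iso.eq_inv_comp]; exact hφ)
      (by simp) (by simp)
  have mX : Models.IsModel R X f C p := ⟨inferInstance, inferInstance, inferInstance, _, sqX⟩
  have mY : Models.IsModel R Y g C p := ⟨inferInstance, inferInstance, inferInstance, _, sqY⟩
  have hX := Groth.Agent.S3338.result R C X p f hC hH0 mX
  have hY := Groth.Agent.S3338.result R C Y p g hC hH0 mY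
  obtain ⟨e, ⟨he, he'⟩, -⟩ := Groth.Agent.S3330.result R C X Y p f g hC hH0 hg0 hX hY _ sqX _ sqY
  refine ⟨e, he, he', fun e' h' => ?_⟩
  haveI : IsIntegral X := Inters29.isIntegral_model R mX hX.1.2.2
  haveI : IsOpenImmersion η := Inters29.isOpenImmersion_generic R
  haveI : IsOpenImmersion (pullback.fst f η) := MorphismProperty.of_isPullback (P := @IsOpenImmersion) sqX.flip inferInstance
  haveI : IsDominant (pullback.fst f η) :=
    ⟨(pullback.fst f η).isOpenEmbedding.isOpen_range.dense (Set.range_nonempty _)⟩
  haveI : Y.IsSeparated := ⟨by rw [← terminal.comp_from g]; infer_instance⟩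
  exact ext_of_isDominant (pullback.fst f η) (h'.trans he'.symm)

end Groth.Agent.S18894
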