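import Groth.Statements.S5720
import Mathlib
import Groth.Agent.CSA.EtaleSpread

set_option autoImplicit false
universe u v
open TensorProduct
open Dix

namespace Groth.Agent.S5720

/-- (ii) ⇒ (iii), over an affine base X = Spec R. Let A be an Azumaya algebra over the commutative ring
R and p a prime ideal of R. Then there exist f ∈ R with f ∉ p, a finite étale and faithfully flat
R_f-algebra R' (a finite étale surjective cover of the neighbourhood D(f) of p) and an integer r ≥ 1
such that R' ⊗_R A is isomorphic as an R'-algebra to the matrix algebra M_r(R'). (Existence of the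
isomorphism only.) -/
theorem result (R : Type u) [CommRing R] (A : Type u) [Ring A] [Algebra R A] [IsAzumaya R A] (p : Ideal R) [p.IsPrime] : ∃ f : R, f ∉ p ∧ ∃ (R' : Type u) (_ : CommRing R') (_ : Algebra R R') (_ : Algebra (Localization.Away f) R') (_ : IsScalarTower R (Localization.Away f) R'), Module.Finite (Localization.Away f) R' ∧ Algebra.Etale (Localization.Away f) R' ∧ Module.FaithfullyFlat (Localization.Away f) R' ∧ ∃ r : ℕ, 1 ≤ r ∧ Nonempty ((R' ⊗[R] A) ≃ₐ[R'] Matrix (Fin r) (Fin r) R') := by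
  open Groth.Agent.CSA Polynomial IsLocalRing in
    classical
    let Rp := Localization.AtPrime p
    haveI : IsAzumaya Rp (Rp ⊗[R] A) := isAzumaya_baseChange Rp A
    haveI : Module.Free Rp (Rp ⊗[R] A) := Module.free_of_flat_of_isLocalRing
    let k := ResidueField Rp
    haveI : IsAzumaya k (k ⊗[Rp] (Rp ⊗[R] A)) := isAzumaya_baseChange k (Rp ⊗[R] A)
    obtain ⟨_, _⟩ := (isAzumaya_iff_centralSimple (k := k) (k ⊗[Rp] (Rp ⊗[R] A))).mp inferInstance
    obtain ⟨r, hr, hrA, -⟩ := exists_splitting_of_isSepClosed (k := k) (AlgebraicClosure k) (k ⊗[Rp] (Rp ⊗[R] A))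
    have hA : Module.finrank Rp (Rp ⊗[R] A) = r ^ 2 := by rw [hrA]; exact Module.finrank_baseChange.symm
    obtain ⟨q, ξ, g, hq, hqd, hq0, hsep, hg⟩ := exists_element_spread (R := R) (A := A) p hr.ne' hA
    let qp := q.map (algebraMap R Rp)
    have hqp : qp.Monic := hq.map _
    haveI := Groth.Agent.SmoothLib.etale_adjoinRoot_of_separable qp hqp hsep
    haveI := hqp.finite_adjoinRoot
    haveI := hqp.free_adjoinRoot
    let up := rootHom Rp q ξ hq0
    let pb := AdjoinRoot.powerBasis' hqp
    have hpd : pb.dim = r := (hq.natDegree_map (algebraMap R Rp)).trans hqd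
    have hup := lTensor_injective_of_adjoinRoot hqp ((hq.natDegree_map (algebraMap R Rp)).trans hqd) g hg up
      (rootHom_root q ξ hq0) (ResidueField Rp)
    letI := rightModule up
    haveI : IsScalarTower Rp (AdjoinRoot qp) (Rp ⊗[R] A) :=
      ⟨fun c e a => show a * up (c • e) = c • (a * up e) by rw [map_smul, mul_smul_comm]⟩
    obtain ⟨b⟩ := exists_basis_of_etale hA (by rw [pb.finrank, hpd]) up hup (fun _ _ => rfl)
    haveI : IsLocalizedModule p.primeCompl (TensorProduct.mk R Rp A 1) :=
      (isLocalizedModule_iff_isBaseChange p.primeCompl Rp _).mpr (TensorProduct.isBaseChange R A Rp)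
    choose vt hvt using fun l => IsLocalizedModule.surj p.primeCompl (TensorProduct.mk R Rp A 1) (b l)
    let v : Fin r → A := fun l => (vt l).1
    let w : Fin r × Fin r → A := fun j => v j.2 * ξ ^ (j.1 : ℕ)
    let b' := b.unitsSMul fun l => ((IsLocalization.map_units Rp (vt l).2).map (algebraMap Rp (AdjoinRoot qp))).unit
    have hb' : ∀ l, b' l = (1 : Rp) ⊗ₜ[R] v l := fun l => by
      rw [Module.Basis.unitsSMul_apply, Units.smul_def, IsUnit.unit_spec, algebraMap_smul, algebraMap_smul]
      exact hvt l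
    let B := (pb.basis.smulTower b').reindex ((finCongr hpd).prodCongr (Equiv.refl (Fin r)))
    have hB : ∀ j, B j = (1 : Rp) ⊗ₜ[R] w j := by
      rintro ⟨i, l⟩
      rw [Module.Basis.reindex_apply, Module.Basis.smulTower_apply, hb', PowerBasis.basis_eq_pow]
      show ((1 : Rp) ⊗ₜ[R] v l) * up (pb.gen ^ (i : ℕ)) = _
      rw [AdjoinRoot.powerBasis'_gen, map_pow, rootHom_root, Algebra.TensorProduct.tmul_pow, one_pow,
        Algebra.TensorProduct.tmul_mul_tmul, one_mul]
    haveI : Module.FinitePresentation R A := Module.finitePresentation_of_projective R A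
    obtain ⟨f₁, hf₁, hbij⟩ := exists_bijective_lTensor (Fintype.linearCombination R w) p
      ((bijective_lTensor_linearCombination_iff (S := Rp) w).mpr (by
        rw [show ⇑(Fintype.linearCombination Rp fun j => (1 : Rp) ⊗ₜ[R] w j) = ⇑B.equivFun.symm from funext fun x => by
          rw [Fintype.linearCombination_apply, Module.Basis.equivFun_symm_apply]; simp only [hB]]
        exact LinearEquiv.bijective _))
    obtain ⟨s, hs, hsp⟩ := exists_C_mem_span_pair p q hsep
    have hf : f₁ * s ∉ p := fun h => (Ideal.IsPrime.mem_or_mem inferInstance h).elim hf₁ hs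
    refine ⟨f₁ * s, hf, ?_⟩
    let R₁ := Localization.Away (f₁ * s)
    haveI : Nontrivial R₁ := by
      rw [← not_subsingleton_iff_nontrivial, IsLocalization.subsingleton_iff (S := R₁) (M := Submonoid.powers (f₁ * s))]
      rintro ⟨n, hn⟩
      exact hf (Ideal.IsPrime.mem_of_pow_mem inferInstance n (by simp only at hn; rw [hn]; exact p.zero_mem))
    let q₁ := q.map (algebraMap R R₁)
    have hq₁ : q₁.Monic := hq.map _
    haveI := Groth.Agent.SmoothLib.etale_adjoinRoot_of_separable q₁ hq₁ (hsp R₁ (algebraMap R R₁)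
      (isUnit_of_mul_isUnit_right ((map_mul (algebraMap R R₁) f₁ s) ▸
        IsLocalization.Away.algebraMap_isUnit (S := R₁) (f₁ * s))))
    haveI := hq₁.finite_adjoinRoot
    haveI := hq₁.free_adjoinRoot
    let u₁ := rootHom R₁ q ξ hq0
    let pb₁ := AdjoinRoot.powerBasis' hq₁
    have hpd₁ : pb₁.dim = r := (hq.natDegree_map (algebraMap R R₁)).trans hqd
    letI := rightModule u₁
    haveI : IsScalarTower R₁ (AdjoinRoot q₁) (R₁ ⊗[R] A) :=
      ⟨fun c e a => show a * u₁ (c • e) = c • (a * u₁ e) by rw [map_smul, mul_smul_comm]⟩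
    let B₁ : Module.Basis (Fin r × Fin r) R₁ (R₁ ⊗[R] A) := Module.Basis.ofEquivFun (LinearEquiv.ofBijective _
      ((bijective_lTensor_linearCombination_iff (S := R₁) w).mp (hbij _ (dvd_mul_right _ _)))).symm
    have hB₁ : ∀ j, B₁ j = (1 : R₁) ⊗ₜ[R] w j := fun j => by
      simp [B₁, Module.Basis.coe_ofEquivFun, LinearEquiv.ofBijective_apply, Fintype.linearCombination_apply_single]
    let b₁ : Module.Basis (Fin r) (AdjoinRoot q₁) (R₁ ⊗[R] A) := Module.Basis.ofEquivFun (LinearEquiv.ofBijective _
      (bijective_linearCombination_of_tower (pb₁.basis.reindex (finCongr hpd₁)) B₁ (fun l => (1 : R₁) ⊗ₜ[R] v l)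
        (fun i l => by
          rw [hB₁, Module.Basis.reindex_apply, PowerBasis.basis_eq_pow]
          show _ = ((1 : R₁) ⊗ₜ[R] v l) * u₁ (pb₁.gen ^ (i : ℕ))
          rw [AdjoinRoot.powerBasis'_gen, map_pow, rootHom_root, Algebra.TensorProduct.tmul_pow, one_pow,
            Algebra.TensorProduct.tmul_mul_tmul, one_mul]))).symm
    haveI : IsAzumaya R₁ (R₁ ⊗[R] A) := isAzumaya_baseChange R₁ A
    obtain ⟨e⟩ := nonempty_split_of_basis (R := R₁) (A := R₁ ⊗[R] A) (E := AdjoinRoot q₁) (r := r)
      (by rw [Module.finrank_eq_card_basis B₁, Fintype.card_prod, Fintype.card_fin, sq])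
      (by rw [pb₁.finrank, hpd₁]) u₁ (fun _ _ => rfl) b₁
    haveI : Nontrivial (AdjoinRoot q₁) := by
      rw [← Module.finrank_pos_iff_of_free (R := R₁), pb₁.finrank, hpd₁]
      exact hr
    let E₀ : (AdjoinRoot q₁) ⊗[R] A ≃ₐ[AdjoinRoot q₁] (AdjoinRoot q₁) ⊗[R₁] (R₁ ⊗[R] A) :=
      AlgEquiv.ofLinearEquiv
        (TensorProduct.AlgebraTensorModule.cancelBaseChange R R₁ (AdjoinRoot q₁) (AdjoinRoot q₁) A).symm
        (by simp [Algebra.TensorProduct.one_def]) (LinearMap.map_mul_of_map_mul_tmul (fun _ _ _ _ => by simp))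
    exact ⟨AdjoinRoot q₁, inferInstance, inferInstance, inferInstance, inferInstance, inferInstance, inferInstance,
      inferInstance, r, hr, ⟨(E₀.trans e).trans (algEquivMatrix b₁)⟩⟩
end Groth.Agent.S5720
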