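import Groth.Statements.S1127
import Groth.Agent.Desc19b.EffQuasiAffine

set_option autoImplicit false
set_option linter.style.haveILetI false
set_option backward.isDefEq.respectTransparency false
set_option backward.isDefEq.respectTransparency.types false
open CategoryTheory CategoryTheory.Limits AlgebraicGeometry Opposite
universe u
open Desc

namespace Groth.Agent.S1127

theorem isQuasiAffine_of_fpqc_affine {S : Scheme.{u}} [IsAffine S] {X Y : Scheme.{u}} [IsAffine X] (f : X ⟶ S)
    (g : Y ⟶ S) [Surjective f] [Flat f] [(pullback f g).IsQuasiAffine]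
    [CompactSpace Y] [QuasiSeparatedSpace Y] : Y.IsQuasiAffine := by
  let h : Spec Γ(Y, ⊤) ⟶ S := Spec.map g.appTop ≫ S.isoSpec.inv
  have hh : Y.toSpecΓ ≫ h = g := by
    simp [h, ← Scheme.toSpecΓ_naturality_assoc]
  let q : pullback f g ⟶ pullback h f :=
    pullback.lift (pullback.snd f g ≫ Y.toSpecΓ) (pullback.fst f g)
      (by rw [Category.assoc, hh, pullback.condition])
  have hsq : IsPullback (pullback.snd f g) q Y.toSpecΓ (pullback.fst h f) := by
    refine IsPullback.of_bot (v₂₁ := pullback.snd h f) (v₂₂ := h) (h₃₁ := f) ?_ ?_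
      (IsPullback.of_hasPullback h f)
    · rw [hh, pullback.lift_snd]
      exact (IsPullback.of_hasPullback f g).flip
    · rw [pullback.lift_fst]
  have hout := Et18.isPushout_appTop_of_flat (IsPullback.of_hasPullback f g).flip
  have htop := Et18.isPushout_appTop_of_flat (IsPullback.of_hasPullback h f)
  have hsqΓ : IsPushout (pullback.fst h f).appTop Y.toSpecΓ.appTop q.appTop
      (pullback.snd f g).appTop := by
    refine (htop.flip.paste_vert_iff ?_).mp ?_
    · rw [← Scheme.Hom.comp_appTop, ← Scheme.Hom.comp_appTop, pullback.lift_fst]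
    · rw [← Scheme.Hom.comp_appTop, ← Scheme.Hom.comp_appTop, hh, pullback.lift_snd]
      exact hout.flip
  have : IsIso Y.toSpecΓ.appTop := by rw [Scheme.toSpecΓ_appTop]; infer_instance
  have : IsIso q.appTop := hsqΓ.isIso_inl_of_isIso
  have hq : IsOpenImmersion q := by
    have e : q = ((pullback f g).toSpecΓ ≫ Spec.map q.appTop) ≫ (pullback h f).isoSpec.inv := by
      rw [← Scheme.toSpecΓ_naturality, Category.assoc, ← Scheme.isoSpec_hom, Iso.hom_inv_id, Category.comp_id]
    rw [e]
    infer_instance
  haveI : Surjective (pullback.fst h f) := MorphismProperty.pullback_fst _ _ inferInstance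
  haveI : IsOpenImmersion Y.toSpecΓ := MorphismProperty.of_isPullback_of_descendsAlong (P := @IsOpenImmersion)
    (Q := @Surjective ⊓ @Flat ⊓ @QuasiCompact) hsq.flip ⟨⟨inferInstance, inferInstance⟩, inferInstance⟩ hq
  exact { }

/-- If the base change of a morphism along a quasi-compact, flat, surjective morphism is quasi-affine
(quasi-compact, with quasi-affine preimages of affine opens), then the morphism is quasi-affine.
(The published statement is the fpqc-local form; stated here for a single quasi-compact flat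
surjective base change, from which that form follows by Zariski-locality on the target.) -/
theorem result :
    MorphismProperty.DescendsAlong (fun _ _ f => Mor2.IsQuasiAffine f : MorphismProperty Scheme.{u})
      (@Surjective ⊓ @Flat ⊓ @QuasiCompact : MorphismProperty Scheme.{u}) := by
  haveI hres : MorphismProperty.RespectsIso (fun _ _ f => Mor2.IsQuasiAffine f : MorphismProperty Scheme.{u}) :=
    MorphismProperty.RespectsIso.mk _
      (fun e g hg => QuasiAffLib.isQuasiAffine_comp _ _
        (QuasiAffLib.isQuasiAffine_of_isEmbedding e.hom e.hom.isOpenEmbedding.toIsEmbedding) hg)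
      (fun e g hg => QuasiAffLib.isQuasiAffine_comp _ _ hg
        (QuasiAffLib.isQuasiAffine_of_isEmbedding e.hom e.hom.isOpenEmbedding.toIsEmbedding))
  refine MorphismProperty.DescendsAlong.mk' fun {X' Y X} g f _ hg hfst => ?_
  have hg' : Et18.FPQC.{u} g := hg
  haveI := hg.1.1
  haveI := hg.1.2
  haveI := hg.2
  haveI := Et18.descends_quasiCompact.{u}
  haveI := Et18.descends_quasiSeparated.{u}
  haveI hqc : QuasiCompact f :=
    MorphismProperty.of_pullback_fst_of_descendsAlong (P := @QuasiCompact) (Q := Et18.FPQC.{u}) hg' hfst.1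
  haveI hqs : QuasiSeparated f := by
    refine MorphismProperty.of_pullback_fst_of_descendsAlong (P := @QuasiSeparated) (Q := Et18.FPQC.{u}) hg' ?_
    refine IsZariskiLocalAtTarget.of_iSup_eq_top (P := @QuasiSeparated) (fun V : X'.affineOpens => V.1)
      (iSup_affineOpens_eq_top _) fun V => ?_
    haveI : IsAffine V.1.toScheme := V.2
    rw [HasAffineProperty.iff_of_isAffine (P := @QuasiSeparated)]
    haveI := hfst.2 V.1 V.2
    infer_instance
  refine ⟨hqc, fun W hW => ?_⟩
  have hmem : Presieve.ofArrows (fun _ : PUnit.{u + 1} => X') (fun _ => g) ∈ Scheme.fpqcPrecoverage X := by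
    rw [Presieve.ofArrows_pUnit]; exact g.singleton_mem_fpqcPrecoverage
  obtain ⟨n, a, V, hV, e, hfl, hsurj⟩ := Desc19b.exists_affine_pieces hmem ⟨W, hW⟩
  let w : ∀ k, Spec Γ(X', V k) ⟶ W.toScheme := fun k => Spec.map (g.appLE W (V k) (e k)) ≫ hW.isoSpec.inv
  have hw : ∀ k, w k ≫ W.ι = (hV k).fromSpec ≫ g := fun k => by
    rw [Category.assoc, IsAffineOpen.isoSpec_inv_ι, IsAffineOpen.SpecMap_appLE_fromSpec _ hW (hV k) (e k)]
  let c : (∐ fun k => Spec Γ(X', V k)) ⟶ X' := Sigma.desc fun k => (hV k).fromSpec
  have hc : Sigma.desc w ≫ W.ι = c ≫ g := Sigma.hom_ext _ _ fun k => by simp [c, hw]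
  haveI : Flat (Sigma.desc w) := IsZariskiLocalAtSource.sigmaDesc fun k => by
    haveI : Flat (Spec.map (g.appLE W (V k) (e k))) := (HasRingHomProperty.Spec_iff (P := @Flat)).2 (hfl k)
    infer_instance
  haveI : Surjective (Sigma.desc w) := ⟨fun y => by
    obtain ⟨k, z, hz⟩ := hsurj y
    refine ⟨Sigma.ι (fun k => Spec Γ(X', V k)) k z, ?_⟩
    rw [← Scheme.Hom.comp_apply, Sigma.ι_desc]
    exact hz⟩
  have h1 := (IsPullback.of_hasPullback (Sigma.desc w) (f ∣_ W)).paste_vert (isPullback_morphismRestrict f W)
  haveI : (pullback c (pullback.fst g f)).IsQuasiAffine := by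
    have h2 := (QuasiAffLib.isQuasiAffine_baseChange _ hfst c).2 ⊤ (isAffineOpen_top _)
    haveI : ((⊤ : (pullback (pullback.fst g f) c).Opens).toScheme).IsQuasiAffine := h2
    exact Scheme.IsQuasiAffine.of_isAffineHom
      ((pullbackSymmetry _ _).hom ≫ (pullback (pullback.fst g f) c).topIso.inv)
  haveI : (pullback (Sigma.desc w) (f ∣_ W)).IsQuasiAffine := by
    have h3 := IsPullback.of_hasPullback c (pullback.fst g f)
    have h4 := (h3.flip.paste_horiz (IsPullback.of_hasPullback g f).flip).flip
    rw [hc] at h1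
    exact Scheme.IsQuasiAffine.of_isAffineHom (h1.isoIsPullback _ _ h4).hom
  haveI : IsAffine W.toScheme := hW
  haveI : CompactSpace (f ⁻¹ᵁ W).toScheme := isCompact_iff_compactSpace.mp (f.isCompact_preimage hW.isCompact)
  haveI : QuasiSeparatedSpace (f ⁻¹ᵁ W).toScheme := quasiSeparatedSpace_of_quasiSeparated (f ∣_ W)
  exact isQuasiAffine_of_fpqc_affine (Sigma.desc w) (f ∣_ W)

end Groth.Agent.S1127
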