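import Groth.Statements.S1923
import Mathlib
import Groth.Agent.CycLib28.SecOrd

set_option autoImplicit false
universe u
open CategoryTheory AlgebraicGeometry
open Cyc

namespace Groth.Agent.S1923

/-- Let X be integral with δ(η) = n, L an invertible O_X-module and s a global section of L whose germ
at η is nonzero. Then div_L(s) = [Z(s)]_{n−1} as (n − 1)-cycles, where s is viewed as a rational
section through its image in L(η). Here L(ξ) = L_ξ/𝔪_ξ L_ξ is the space of rational sections of L on
the closure of ξ, div_{L|W}(s) and c_1(L) ∩ α are computed as coefficient functions from chosen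
nonzero rational sections (Cyc.secDivFun, Cyc.c1CapFun), and results are compared up to rational
equivalence for any cycles with those coefficients. A pair (X, δ) with Cyc.IsSetup plays the role of
a scheme locally of finite type over a fixed base with a dimension function (X locally Noetherian
with universally catenary local rings, δ a dimension function), and Cyc.DeltaCompat records that the
dimension function upstairs is the induced one. -/
theorem result (X : Scheme.{u}) [IsIntegral X] (δ : X → ℤ) (hX : Cyc.IsSetup X δ) (n : ℤ) (hn : δ (genericPoint X) = n) (L : X.Modules) (hL : PicF.IsInvertible L) (s : L.presheaf.obj (Opposite.op ⊤)) (hs : (L.presheaf.germ ⊤ (genericPoint X) trivial) s ≠ 0) : Cyc.secDivFun δ L (genericPoint X) (Submodule.Quotient.mk ((L.presheaf.germ ⊤ (genericPoint X) trivial) s)) = Cyc.zeroSectionFun δ (n - 1) L s := by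
  have := hX.1
  funext x
  by_cases hx : δ x + 1 = δ (genericPoint X)
  · have hgx : genericPoint X ⤳ x := genericPoint_specializes x
    obtain ⟨ht, f, hf⟩ := Groth.Agent.CycLib28.exists_choose_coeff hL x ((L.presheaf.germ ⊤ x trivial) s)
    obtain ⟨hs', hord⟩ := Groth.Agent.CycLib28.secOrdAt_germ hL hgx ht s f hf
    simp only [Cyc.secDivFun, Cyc.zeroSectionFun]
    rw [dif_pos ⟨hgx, hx⟩, if_pos (by omega), dif_pos ht, dif_pos ⟨f, hf⟩, hord]
    have hne : Cyc.specMap x (genericPoint X) hgx f ≠ 0 := by
      intro h0
      have hk : f ∈ RingHom.ker (Cyc.specMap x (genericPoint X) hgx) := h0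
      rw [Groth.Agent.CycLib28.ker_specMap_genericPoint] at hk
      rw [Ideal.mem_bot.mp hk, map_zero, zero_smul] at hs'
      exact hs hs'
    rw [Groth.Agent.CycLib28.ordAt_formula hX.2.2 hgx hx f hne,
      Groth.Agent.CycLib28.ker_specMap_genericPoint, bot_sup_eq]
    have hc : Classical.choose (⟨f, hf⟩ : ∃ f' : X.presheaf.stalk x,
        (L.presheaf.germ ⊤ x trivial) s = f' • ht.choose) = f :=
      (Groth.Agent.CycLib28.gen_bijective hL ht.choose_spec).1.1
        ((Classical.choose_spec (⟨f, hf⟩ : ∃ f' : X.presheaf.stalk x,
          (L.presheaf.germ ⊤ x trivial) s = f' • ht.choose)).symm.trans hf)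
    rw [hc]
  · simp only [Cyc.secDivFun, Cyc.zeroSectionFun]
    rw [dif_neg (fun h ↦ hx h.2), if_neg (by omega)]
end Groth.Agent.S1923
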