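import Groth.Statements.S9390
import Groth.Agent.QCohLoc.Basic

set_option autoImplicit false
universe u
open QCohSub

namespace Groth.Agent.S9390

open AlgebraicGeometry CategoryTheory in
/-- For a quasi-coherent O_X-module F, an affine open U = Spec A of X, M = F(U) and x ∈ U with prime p ⊆
A, the prime p is in Supp(M) if and only if x is in Supp(F). -/
theorem result (X : Scheme.{u}) (F : X.Modules) (hF : Coh.IsQCoh F)
    (U : X.affineOpens) (x : X) (hx : x ∈ U.1) :
    U.2.primeIdealOf ⟨x, hx⟩ ∈ Module.support Γ(X, U.1) Γ(F, U.1) ↔ x ∈ CohB1.support F := by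
  have : F.IsQuasicoherent := hF
  have hmem : ∀ f : Γ(X, U.1), x ∈ X.basicOpen f ↔
      f ∉ (U.2.primeIdealOf ⟨x, hx⟩).asIdeal := fun f => by
    rw [← PrimeSpectrum.mem_basicOpen]
    have := U.2.fromSpec_preimage_basicOpen f
    refine Iff.trans ?_ (SetLike.ext_iff.1 this (U.2.primeIdealOf ⟨x, hx⟩))
    exact iff_of_eq (congrArg (· ∈ X.basicOpen f) (U.2.fromSpec_primeIdealOf ⟨x, hx⟩).symm)
  rw [Module.mem_support_iff']
  constructor
  · rintro ⟨m, hm⟩ hsub
    obtain ⟨f, hf, hfm⟩ := Groth.Agent.QCohLoc.exists_smul_eq_zero_of_germ F U.2 hx m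
      (hsub.elim _ _)
    exact hm f ((hmem f).1 hf) hfm
  · intro hns
    by_contra h
    push_neg at h
    refine hns (subsingleton_of_forall_eq 0 fun z => ?_)
    obtain ⟨f, m, hf, hfz⟩ := Groth.Agent.QCohLoc.exists_smul_stalk_eq_germ F U.2 hx z
    obtain ⟨r, hr, hrm⟩ := h m
    have hu : IsUnit (X.presheaf.germ U.1 x hx f * X.presheaf.germ U.1 x hx r) :=
      ((Scheme.mem_basicOpen _ _ _ hx).1 hf).mul
        ((Scheme.mem_basicOpen _ _ _ hx).1 ((hmem r).2 hr))
    refine (hu.smul_eq_zero).1 ?_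
    rw [mul_comm, mul_smul, hfz, ← Groth.Agent.QCohLoc.germ_smul', hrm, map_zero]

end Groth.Agent.S9390
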