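import Groth.Statements.S14698
import Groth.Agent.RatSplit13.Cover
import Groth.Agent.Resolve13.CurveBlowUp
import Groth.Agent.Coherent.BirationalFibre
import Groth.Agent.Coherent.ProjSpaceFinite
import Groth.Agent.SDiv28.LocalDim

set_option autoImplicit false
set_option linter.style.haveILetI false
set_option backward.isDefEq.respectTransparency.types false
set_option maxHeartbeats 1000000
universe u
open CategoryTheory CategoryTheory.Limits AlgebraicGeometry
open Resolve TopologicalSpace

namespace Groth.Agent.S14698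

theorem le_one_of_add_one_le {d : WithBot ℕ∞} (h : d + 1 ≤ 2) : d ≤ 1 := by
  induction d using WithBot.recBotCoe with
  | bot => exact bot_le
  | coe d =>
    cases d with
    | top => exact absurd h (by decide)
    | coe d =>
      have h' : ((d + 1 : ℕ) : ℕ∞) ≤ ((2 : ℕ) : ℕ∞) := WithBot.coe_le_coe.1 (by simpa using h)
      have : d + 1 ≤ 2 := ENat.coe_le_coe.1 h'
      exact_mod_cast (show d ≤ 1 by omega)

theorem le_zero_of_not_one_le {d : WithBot ℕ∞} (h : ¬ 1 ≤ d) : d ≤ 0 := by
  induction d using WithBot.recBotCoe with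
  | bot => exact bot_le
  | coe d =>
    cases d with
    | top => exact absurd (le_top : (1 : ℕ∞) ≤ ⊤) (fun h' => h (WithBot.coe_le_coe.2 h'))
    | coe d =>
      have : ¬ 1 ≤ d := fun h' => h (by exact_mod_cast h')
      exact_mod_cast (show d ≤ 0 by omega)

theorem subsingleton_of_dim_le_zero {T : Type*} [TopologicalSpace T] [T0Space T] [IrreducibleSpace T]
    (h : topologicalKrullDim T ≤ 0) (a c : T) : a = c := by
  have key : ∀ z : T, closure ({z} : Set T) = Set.univ := fun z => by
    let C : IrreducibleCloseds T := ⟨closure {z}, isIrreducible_singleton.closure, isClosed_closure⟩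
    let D : IrreducibleCloseds T := ⟨Set.univ, IrreducibleSpace.isIrreducible_univ T, isClosed_univ⟩
    have hCD : C ≤ D := fun w _ => Set.mem_univ w
    exact congrArg (fun E : IrreducibleCloseds T => (E : Set T))
      (le_antisymm hCD (Order.krullDim_nonpos_iff_forall_isMin.1 h D hCD))
  exact ((specializes_iff_mem_closure.2 (key a ▸ Set.mem_univ c)).antisymm
    (specializes_iff_mem_closure.2 (key c ▸ Set.mem_univ a))).eq

theorem isClosed_singleton_of_finite {T : Type*} [TopologicalSpace T] [T0Space T] [JacobsonSpace T]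
    {F : Set T} (hF : IsClosed F) (hfin : F.Finite) {x : T} (hx : x ∈ F) : IsClosed ({x} : Set T) := by
  let D := closure {x} \ {x}
  have hD : D.Finite := (hfin.subset (closure_minimal (Set.singleton_subset_iff.2 hx) hF)).sdiff
  have hDc : IsClosed D := by
    have : D = ⋃ z ∈ D, closure {z} := by
      refine Set.Subset.antisymm (fun z hz => Set.mem_biUnion hz (subset_closure rfl)) ?_
      refine Set.iUnion₂_subset fun z hz w hw => ⟨?_, fun hwx => hz.2 ?_⟩
      · exact closure_minimal (Set.singleton_subset_iff.2 hz.1) isClosed_closure hw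
      · have h1 : x ⤳ z := specializes_iff_mem_closure.2 hz.1
        have h2 : z ⤳ x := specializes_iff_mem_closure.2 ((Set.mem_singleton_iff.1 hwx) ▸ hw)
        exact (h2.antisymm h1).eq
    rw [this]
    exact hD.isClosed_biUnion fun _ _ => isClosed_closure
  refine isClosed_singleton_of_isLocallyClosed_singleton ⟨Dᶜ, closure {x}, hDc.isOpen_compl, isClosed_closure, ?_⟩
  ext z
  refine ⟨fun hz => ?_, fun hz => not_not.1 fun h => hz.1 ⟨hz.2, h⟩⟩
  rw [Set.mem_singleton_iff] at hz
  subst hz
  exact ⟨fun h => h.2 rfl, subset_closure rfl⟩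

/-- Let k be an algebraically closed field and X an integral normal scheme of dimension two admitting a
closed immersion into some P^n_k over k. Let φ : Y → X be a k-morphism from an integral scheme Y of
dimension two with all local rings regular, itself admitting a closed immersion into some P^m_k over
k, which restricts to an isomorphism over an open subset U of X with finite complement. Then for
every point x of X at which the local ring is not regular, the fibre φ⁻¹(x) (with the topology
induced from Y) is nonempty and every irreducible component of it has dimension one: such a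
desingularization is a monoidal model. (The published statement takes φ an isomorphism exactly over
the complement of the singular points; this row allows any open U with finite complement over which
φ is an isomorphism.) -/
theorem result (k : Type u) [Field k] [IsAlgClosed k] (X : Scheme.{u}) [X.Over (Spec (CommRingCat.of k))]
    [IsIntegral X] (hdim : topologicalKrullDim X = 2)
    (hproj : ∃ (n : ℕ) (ι : X ⟶ CohB1.ProjSpace n k), IsClosedImmersion ι ∧ ι ≫ CohB1.ProjSpace.toSpec n k = (X ↘ (Spec (CommRingCat.of k))))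
    (hnorm : Pi1.IsNormalScheme X) (U : X.Opens) (hU : ((U : Set X)ᶜ).Finite)
    (Y : Scheme.{u}) (φ : Y ⟶ X) [IsIntegral Y] (hdimY : topologicalKrullDim Y = 2)
    (hregY : ∀ y : Y, IsRegularLocalRing (Y.presheaf.stalk y))
    (hprojY : ∃ (n : ℕ) (ι : Y ⟶ CohB1.ProjSpace n k), IsClosedImmersion ι ∧ ι ≫ CohB1.ProjSpace.toSpec n k = φ ≫ (X ↘ (Spec (CommRingCat.of k))))
    (hisoY : IsIso (φ ∣_ U))
    (x : X) (hx : ¬ IsRegularLocalRing (X.presheaf.stalk x)) :
    (φ.base ⁻¹' ({x} : Set X)).Nonempty ∧
      ∀ Z ∈ irreducibleComponents ↥(φ.base ⁻¹' ({x} : Set X)), topologicalKrullDim ↥Z = 1 := by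
  haveI := hisoY
  obtain ⟨n, ι, hι, hιs⟩ := hproj
  obtain ⟨m, ι', hι', hι's⟩ := hprojY
  haveI := hι
  haveI := hι'
  haveI : IsProper (CohB1.ProjSpace.toSpec n k) := Coherent.isProper_projSpace_toSpec n k
  haveI : IsProper (CohB1.ProjSpace.toSpec m k) := Coherent.isProper_projSpace_toSpec m k
  haveI : IsProper (X ↘ Spec (CommRingCat.of k)) := hιs ▸ inferInstance
  haveI : IsProper (φ ≫ (X ↘ Spec (CommRingCat.of k))) := hι's ▸ inferInstance
  haveI : IsProper φ := IsProper.of_comp φ (X ↘ Spec (CommRingCat.of k))
  haveI : IsLocallyNoetherian X := LocallyOfFiniteType.isLocallyNoetherian (X ↘ Spec (CommRingCat.of k))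
  haveI : CompactSpace X := QuasiCompact.compactSpace_of_compactSpace (X ↘ Spec (CommRingCat.of k))
  haveI : AlgebraicGeometry.IsNoetherian X := {}
  haveI : IsLocallyNoetherian Y := LocallyOfFiniteType.isLocallyNoetherian φ
  haveI : CompactSpace Y := QuasiCompact.compactSpace_of_compactSpace φ
  haveI : AlgebraicGeometry.IsNoetherian Y := {}
  haveI : JacobsonSpace X := LocallyOfFiniteType.jacobsonSpace (X ↘ Spec (CommRingCat.of k))
  have hUne : (U : Set X).Nonempty := by
    by_contra h
    rw [Set.not_nonempty_iff_eq_empty] at h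
    rw [h, Set.compl_empty] at hU
    have hc := isClosed_singleton_of_finite isClosed_univ hU (Set.mem_univ (genericPoint X))
    haveI : Subsingleton X := ⟨fun a b => by
      have h1 : ∀ z : X, z = genericPoint X := fun z => (genericPoint_specializes z).mem_closed hc rfl
      rw [h1 a, h1 b]⟩
    have h0 : topologicalKrullDim X ≤ 0 := Order.krullDim_nonpos_iff_forall_isMin.2 fun C D hDC z hz =>
      (Subsingleton.elim D.2.nonempty.choose z) ▸ D.2.nonempty.choose_spec
    rw [hdim] at h0
    exact absurd h0 (by decide)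
  have hgen := RatSplit13.map_genericPoint φ U hUne
  have hηU : genericPoint X ∈ U :=
    ((genericPoint_spec X).mem_open_set_iff U.2).2 ⟨hUne.choose, trivial, hUne.choose_spec⟩
  have hgU : genericPoint Y ∈ φ ⁻¹ᵁ U := by
    show φ (genericPoint Y) ∈ U
    rw [hgen]; exact hηU
  have hbir : IsIso (φ.stalkMap (genericPoint Y)) := by
    have hi : IsIso ((φ ∣_ U).stalkMap ⟨genericPoint Y, hgU⟩) := inferInstance
    exact ((MorphismProperty.isomorphisms CommRingCat).arrow_mk_iso_iff
      (morphismRestrictStalkMap φ U ⟨genericPoint Y, hgU⟩)).1 hi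
  -- the point is not in `U`
  have hxU : x ∉ U := fun hxU => by
    obtain ⟨a, ha⟩ := (φ ∣_ U).homeomorph.surjective ⟨x, hxU⟩
    have ha' : φ a.1 = x := (morphismRestrict_base_coe φ U a).symm.trans (congrArg Subtype.val ha)
    have hi : IsIso ((φ ∣_ U).stalkMap a) := inferInstance
    haveI : IsIso (φ.stalkMap a.1) :=
      ((MorphismProperty.isomorphisms CommRingCat).arrow_mk_iso_iff (morphismRestrictStalkMap φ U a)).1 hi
    subst ha'
    haveI := hregY a.1
    exact hx (IsRegularLocalRing.of_ringEquiv (asIso (φ.stalkMap a.1)).commRingCatIsoToRingEquiv.symm)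
  have hxc : IsClosed ({x} : Set X) := isClosed_singleton_of_finite U.2.isClosed_compl hU hxU
  -- surjectivity
  have hne : (φ.base ⁻¹' ({x} : Set X)).Nonempty := by
    obtain ⟨a, ha⟩ : x ∈ Set.range φ :=
      (genericPoint_specializes x).mem_closed φ.isClosedMap.isClosed_range ⟨_, hgen⟩
    exact ⟨a, ha⟩
  -- the fibre is not finite
  have hinf : ¬ (φ.base ⁻¹' ({x} : Set X)).Finite := fun hfin => by
    obtain ⟨V, hxV, hV⟩ := exists_isFinite_morphismRestrict_of_finite_preimage_singleton (f := φ) x hfin
    haveI := hV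
    haveI : IsIso (φ ∣_ V) := Resolve13.isIso_of_app_bijective (φ ∣_ V) (fun W : V.toScheme.affineOpens => W.1)
      (fun W => W.2) (iSup_affineOpens_eq_top _) fun W => by
        rw [morphismRestrict_app]
        exact (ConcreteCategory.isIso_iff_bijective _).1 (@IsIso.comp_isIso _ _ _ _ _ _ _
          (Coherent.isIso_app_of_birational φ hnorm hgen hbir (V.ι ''ᵁ W.1)) (Functor.map_isIso _ _))
    obtain ⟨a, ha⟩ := (φ ∣_ V).homeomorph.surjective ⟨x, hxV⟩
    have ha' : φ a.1 = x := (morphismRestrict_base_coe φ V a).symm.trans (congrArg Subtype.val ha)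
    have hi : IsIso ((φ ∣_ V).stalkMap a) := inferInstance
    haveI : IsIso (φ.stalkMap a.1) :=
      ((MorphismProperty.isomorphisms CommRingCat).arrow_mk_iso_iff (morphismRestrictStalkMap φ V a)).1 hi
    subst ha'
    haveI := hregY a.1
    exact hx (IsRegularLocalRing.of_ringEquiv (asIso (φ.stalkMap a.1)).commRingCatIsoToRingEquiv.symm)
  refine ⟨hne, fun Z hZ => ?_⟩
  let F := φ.base ⁻¹' ({x} : Set X)
  have hFc : IsClosed F := hxc.preimage φ.continuous
  have hgF : genericPoint Y ∉ F := fun h => by
    have h1 : genericPoint X = x := hgen.symm.trans h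
    exact hxU (h1 ▸ hηU)
  haveI : Nonempty ↥Z := hZ.1.nonempty.to_subtype
  haveI : QuasiSober ↥F := hFc.isClosedEmbedding_subtypeVal.quasiSober
  haveI : QuasiSober ↥Z := (isClosed_of_mem_irreducibleComponents Z hZ).isClosedEmbedding_subtypeVal.quasiSober
  refine le_antisymm ?_ ?_
  · have hj : Topology.IsClosedEmbedding (fun z : ↥Z => (z.1.1 : Y)) :=
      hFc.isClosedEmbedding_subtypeVal.comp (isClosed_of_mem_irreducibleComponents Z hZ).isClosedEmbedding_subtypeVal
    have h := SDiv28.topologicalKrullDim_add_one_le hj fun z =>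
      ⟨genericPoint Y, genericPoint_specializes _, fun ⟨w, hw⟩ => hgF (hw ▸ w.1.2)⟩
    rw [hdimY] at h
    exact le_one_of_add_one_le h
  · by_contra hlt
    -- a component of dimension zero is an isolated point of the connected fibre
    have h0 : topologicalKrullDim ↥Z ≤ 0 := le_zero_of_not_one_le hlt
    haveI : IrreducibleSpace ↥Z := Subtype.irreducibleSpace hZ.1
    have hsub : ∀ a c : ↥Z, a = c := subsingleton_of_dim_le_zero h0
    let C : Set ↥F := ⋃ W ∈ irreducibleComponents ↥F \ {Z}, W
    haveI : NoetherianSpace ↥F := inferInstance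
    have hC : IsClosed C := (NoetherianSpace.finite_irreducibleComponents.sdiff).isClosed_biUnion
      fun W hW => isClosed_of_mem_irreducibleComponents W hW.1
    have hZC : Z = Cᶜ := by
      ext z
      refine ⟨fun hz h => ?_, fun h => ?_⟩
      · obtain ⟨W, hW, hzW⟩ := Set.mem_iUnion₂.1 h
        have hle : Z ≤ W := fun w hw => by
          rwa [show w = z from congrArg Subtype.val (hsub ⟨w, hw⟩ ⟨z, hz⟩)]
        exact hW.2 (hle.antisymm (hZ.2 hW.1.1 hle)).symm
      · obtain ⟨W, hW, hzW⟩ := Set.mem_iUnion₂.1 (show z ∈ ⋃ W ∈ irreducibleComponents ↥F, W from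
          Set.mem_iUnion₂.2 ⟨irreducibleComponent z, irreducibleComponent_mem_irreducibleComponents z,
            mem_irreducibleComponent⟩)
        by_cases hWZ : W = Z
        · exact hWZ ▸ hzW
        · exact absurd (Set.mem_biUnion (show W ∈ irreducibleComponents ↥F \ {Z} from ⟨hW, hWZ⟩) hzW) h
    haveI : ConnectedSpace ↥F :=
      haveI := Coherent.connectedSpace_fiber_of_birational φ hnorm hgen hbir x
      (φ.fiberHomeo x).surjective.connectedSpace (φ.fiberHomeo x).continuous
    have huniv : Z = Set.univ :=
      (IsClopen.eq_univ ⟨isClosed_of_mem_irreducibleComponents Z hZ, hZC ▸ hC.isOpen_compl⟩ hZ.1.nonempty)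
    apply hinf
    refine Set.Subsingleton.finite fun a ha c hc => ?_
    exact congrArg (fun t : ↥Z => t.1.1) (hsub ⟨⟨a, ha⟩, huniv ▸ trivial⟩ ⟨⟨c, hc⟩, huniv ▸ trivial⟩)

end Groth.Agent.S14698
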