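import Groth.Statements.S5673
import Mathlib
import Groth.Prelude
import Groth.Agent.CommAlg4.DerivedLES

set_option linter.all false

set_option autoImplicit false
universe u
open CategoryTheory
open Dual


set_option backward.isDefEq.respectTransparency false
set_option backward.isDefEq.respectTransparency.types false
set_option backward.defeqAttrib.useBackward true

open CategoryTheory.Limits TensorProduct

namespace Groth.Agent.S5673

open CategoryTheory.MonoidalCategory in
noncomputable abbrev torF (A : Type u) [CommRing A] (M : Type u) [AddCommGroup M] [Module A M] :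
    ModuleCat.{u} A ⥤ ModuleCat.{u} A := (tensoringRight (ModuleCat.{u} A)).obj (ModuleCat.of A M)

theorem leftDerived_map_smul_id {A : Type u} [CommRing A] (F : ModuleCat.{u} A ⥤ ModuleCat.{u} A)
    [F.Additive] [F.Linear A] (n : ℕ) (X : ModuleCat.{u} A) (x : A) :
    (F.leftDerived n).map (x • 𝟙 X) = x • 𝟙 _ := by
  let P := projectiveResolution X
  have h := ProjectiveResolution.isoLeftDerivedObj_hom_naturality (x • 𝟙 X) P P (x • 𝟙 P.complex)
    (by simp) F n
  rw [← cancel_mono (P.isoLeftDerivedObj F n).hom, h]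
  dsimp only [Functor.comp_map, HomologicalComplex.homologyFunctor_map]
  simp [show ∀ (K : HomologicalComplex (ModuleCat.{u} A) (ComplexShape.down ℕ)),
    HomologicalComplex.homologyMap (x • 𝟙 K) n = x • 𝟙 _ from fun K => (ShortComplex.homologyMap_smul
      (S₁ := K.sc n) (S₂ := K.sc n) (φ := 𝟙 _) (a := x)).trans (by rw [ShortComplex.homologyMap_id]; rfl)]

/-- homomorphisms out of the quotient by `J ⊔ (x)` are those killed by `x` -/
noncomputable def homQuotKerEquiv {A : Type u} [CommRing A] (M : Type u) [AddCommGroup M] [Module A M]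
    (J : Ideal A) (x : A) :
    ((A ⧸ (J ⊔ Ideal.span {x})) →ₗ[A] M) ≃ₗ[A] LinearMap.ker (LinearMap.lsmul A ((A ⧸ J) →ₗ[A] M) x) :=
  LinearEquiv.ofBijective
    (LinearMap.codRestrict _ (LinearMap.lcomp A M (Submodule.factor (le_sup_left : J ≤ J ⊔ Ideal.span {x}))) (by
      intro φ
      rw [LinearMap.mem_ker]
      refine Submodule.linearMap_qext _ (LinearMap.ext_ring ?_)
      show x • φ (Submodule.Quotient.mk 1) = 0
      rw [← map_smul, ← Submodule.Quotient.mk_smul, smul_eq_mul, mul_one,
        (Submodule.Quotient.mk_eq_zero _).2 (Ideal.mem_sup_right (Ideal.mem_span_singleton_self x)), map_zero]))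
    ⟨fun φ ψ h => by
      refine Submodule.linearMap_qext _ (LinearMap.ext fun a => ?_)
      exact LinearMap.congr_fun (congrArg Subtype.val h) (Submodule.Quotient.mk a),
    fun ψ => by
      have hx : x • ψ.1 = 0 := ψ.2
      refine ⟨Submodule.liftQ _ (ψ.1.comp (Submodule.mkQ J)) (sup_le ?_ ?_), ?_⟩
      · intro a ha
        rw [LinearMap.mem_ker, LinearMap.comp_apply, Submodule.mkQ_apply, (Submodule.Quotient.mk_eq_zero J).2 ha, map_zero]
      · rw [Ideal.span_le]
        rintro a rfl
        show ψ.1 (Submodule.Quotient.mk a) = 0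
        have h1 := LinearMap.congr_fun hx (Submodule.Quotient.mk 1)
        simp only [LinearMap.smul_apply, LinearMap.zero_apply] at h1
        rwa [← map_smul, ← Submodule.Quotient.mk_smul, smul_eq_mul, mul_one] at h1
      · apply Subtype.ext
        refine Submodule.linearMap_qext _ (LinearMap.ext fun a => ?_)
        rfl⟩

theorem tor_regular_induction (A : Type u) [CommRing A] (M : Type u) [AddCommGroup M] [Module A M]
    (xs : List A) (hreg : RingTheory.Sequence.IsWeaklyRegular A xs) :
    (∀ n, xs.length < n → IsZero (((torF A M).leftDerived n).obj (ModuleCat.of A (A ⧸ Ideal.ofList xs)))) ∧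
    Nonempty ((((torF A M).leftDerived xs.length).obj (ModuleCat.of A (A ⧸ Ideal.ofList xs))) ≅
      ModuleCat.of A ((A ⧸ Ideal.ofList xs) →ₗ[A] M)) := by
  induction xs using List.reverseRecOn with
  | nil =>
    let e : (A ⧸ Ideal.ofList ([] : List A)) ≃ₗ[A] A := Submodule.quotEquivOfEqBot _ Ideal.ofList_nil
    haveI : Module.Projective A (A ⧸ Ideal.ofList ([] : List A)) := Module.Projective.of_equiv e.symm
    haveI : Projective (ModuleCat.of A (A ⧸ Ideal.ofList ([] : List A))) :=
      (IsProjective.iff_projective _).1 inferInstance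
    constructor
    · rintro (_ | n) hn
      · simp at hn
      · exact Functor.isZero_leftDerived_obj_projective_succ _ n _
    · refine ⟨(torF A M).leftDerivedZeroIsoSelf.app _ ≪≫ LinearEquiv.toModuleIso ?_⟩
      exact (TensorProduct.congr e (LinearEquiv.refl A M)).trans ((TensorProduct.lid A M).trans
        ((LinearMap.ringLmapEquivSelf A A M).symm.trans (LinearEquiv.congrLeft M A e.symm)))
  | append_singleton ys x ih =>
    rw [RingTheory.Sequence.isWeaklyRegular_append_iff] at hreg
    obtain ⟨hys, hx⟩ := hreg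
    obtain ⟨hz, ⟨e⟩⟩ := ih hys
    have hx' : IsSMulRegular (A ⧸ Ideal.ofList ys) x := by
      have := ((RingTheory.Sequence.isWeaklyRegular_cons_iff _ _ _).1 hx).1
      have q : (Ideal.ofList ys • ⊤ : Submodule A A) = Ideal.ofList ys := by simp
      exact (LinearEquiv.isSMulRegular_congr (Submodule.quotEquivOfEq _ _ q) x).1 this
    have hJ : Ideal.ofList (ys ++ [x]) = Ideal.ofList ys ⊔ Ideal.span {x} := by
      rw [Ideal.ofList_append, Ideal.ofList_singleton]
    rw [hJ, List.length_append, List.length_singleton]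
    let J := Ideal.ofList ys
    let f : ModuleCat.of A (A ⧸ J) ⟶ ModuleCat.of A (A ⧸ J) := x • 𝟙 _
    let g : ModuleCat.of A (A ⧸ J) ⟶ ModuleCat.of A (A ⧸ (J ⊔ Ideal.span {x})) :=
      ModuleCat.ofHom (Submodule.factor le_sup_left)
    have w : f ≫ g = 0 := by
      refine ModuleCat.hom_ext (Submodule.linearMap_qext _ (LinearMap.ext fun a => ?_))
      show Submodule.factor (le_sup_left : J ≤ J ⊔ Ideal.span {x}) (x • Submodule.Quotient.mk a) = 0
      rw [← Submodule.Quotient.mk_smul]
      exact (Submodule.Quotient.mk_eq_zero _).2 (Ideal.mem_sup_right (Ideal.mem_span_singleton.2 ⟨a, by simp [mul_comm]⟩))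
    have hS : (ShortComplex.mk f g w).ShortExact := by
      refine ShortComplex.ShortExact.mk' ?_ ((ModuleCat.mono_iff_injective _).2 hx')
        ((ModuleCat.epi_iff_surjective _).2 (Submodule.factor_surjective (le_sup_left : J ≤ J ⊔ Ideal.span {x})))
      rw [ShortComplex.moduleCat_exact_iff]
      intro z hz'
      obtain ⟨z, rfl⟩ := Submodule.Quotient.mk_surjective _ z
      have : z ∈ J ⊔ Ideal.span {x} := (Submodule.Quotient.mk_eq_zero _).1 hz'
      obtain ⟨j, hj, y, hy, rfl⟩ := Submodule.mem_sup.1 this
      obtain ⟨c, rfl⟩ := Ideal.mem_span_singleton.1 hy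
      refine ⟨Submodule.Quotient.mk c, ?_⟩
      show x • (Submodule.Quotient.mk c : A ⧸ J) = _
      rw [← Submodule.Quotient.mk_smul]
      exact (Submodule.Quotient.eq _).2 (by simpa using J.neg_mem hj)
    refine ⟨fun n hn => ?_, ?_⟩
    · obtain ⟨n, rfl⟩ : ∃ m, n = m + 1 := ⟨n - 1, by omega⟩
      obtain ⟨-, δ, w₁, w₂, h₁, -⟩ := Groth.Agent.CommAlg4.DerivedLES.les hS (torF A M) n
      exact h₁.isZero_of_both_zeros ((hz (n + 1) (by omega)).eq_of_src _ _) ((hz n (by omega)).eq_of_tgt _ _)
    · obtain ⟨-, δ, w₁, w₂, h₁, h₂⟩ := Groth.Agent.CommAlg4.DerivedLES.les hS (torF A M) ys.length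
      have inj : Function.Injective δ := by
        rw [← ModuleCat.mono_iff_injective]
        exact h₁.mono_g ((hz (ys.length + 1) (by omega)).eq_of_src _ _)
      have hf : ((torF A M).leftDerived ys.length).map f = x • 𝟙 _ := leftDerived_map_smul_id _ _ _ x
      let T := LinearMap.lsmul A ((A ⧸ J) →ₗ[A] M) x
      let ψ : ((torF A M).leftDerived (ys.length + 1)).obj (ModuleCat.of A (A ⧸ (J ⊔ Ideal.span {x}))) →ₗ[A] ((A ⧸ J) →ₗ[A] M) :=
        e.toLinearEquiv.toLinearMap ∘ₗ δ.hom
      have hψ : LinearMap.range ψ = LinearMap.ker T := by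
        apply le_antisymm
        · rintro _ ⟨a, rfl⟩
          rw [LinearMap.mem_ker]
          show x • e.toLinearEquiv (δ a) = 0
          have h' : x • δ a = 0 := (ConcreteCategory.congr_hom hf _).symm.trans (ConcreteCategory.congr_hom w₂ a)
          rw [← map_smul, h', map_zero]
        · intro φ hφ
          have h' : x • e.toLinearEquiv.symm φ = 0 := by
            rw [← map_smul, show x • φ = 0 from hφ, map_zero]
          obtain ⟨a, ha⟩ := (ShortComplex.moduleCat_exact_iff _).1 h₂ (e.toLinearEquiv.symm φ) (by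
            refine (ConcreteCategory.congr_hom hf _).trans ?_; exact h')
          exact ⟨a, by show e.toLinearEquiv (δ a) = φ; erw [ha]; simp⟩
      exact ⟨LinearEquiv.toModuleIso (((LinearEquiv.ofInjective ψ (e.toLinearEquiv.injective.comp inj)).trans
        (LinearEquiv.ofEq _ _ hψ)).trans (homQuotKerEquiv M J x).symm)⟩

/-- Let `A` be a commutative ring, `xs = (x_1, …, x_p)` a sequence in `A` such that each `x_i` is a
non-zero-divisor on `A/(x_1, …, x_{i-1})`, `J` the ideal generated by the `x_i` and `M` any
`A`-module. Then `Tor_p^A(A/J, M)` (Mathlib's `Tor'`, the left derived functors of `- ⊗ M` evaluated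
at `A/J`, i.e. computed from a resolution of `A/J`) is isomorphic as an `A`-module to `Hom_A(A/J,
M)`, i.e. to the elements of `M` killed by `J`. (Existence of an `A`-linear isomorphism only; the
published one is induced by the Koszul complex of `xs`.) -/
theorem result (A : Type u) [CommRing A] (xs : List A) (hreg : RingTheory.Sequence.IsWeaklyRegular A xs) (M : Type u) [AddCommGroup M] [Module A M] : Nonempty (↑(((Tor' (ModuleCat.{u} A) xs.length).obj (ModuleCat.of A (A ⧸ Ideal.ofList xs))).obj (ModuleCat.of A M)) ≃ₗ[A] ((A ⧸ Ideal.ofList xs) →ₗ[A] M)) := by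
  exact (tor_regular_induction A M xs hreg).2.elim fun e => ⟨e.toLinearEquiv⟩

end Groth.Agent.S5673
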