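import Groth.Statements.S0055
import Groth.Agent.Coherent.Serre.Vanishing
import Groth.Agent.Coherent.RpushVanish
import Groth.Agent.Coherent.CohBC.LocalModules
import Groth.Agent.AmpleLib.CounitEpi
import Groth.Agent.Coherent.RestrictTensorIso

set_option autoImplicit false
universe u
open Coherent

open Groth.Agent.AmpleLib Groth.Agent.PicLib Groth.Agent.Coherent

namespace Groth.Agent.S0055

open AlgebraicGeometry CategoryTheory CategoryTheory.Limits in
theorem isZero_rpush_of_cover {X S : Scheme.{u}} (f : X ⟶ S) [QuasiCompact f] [QuasiSeparated f]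
    [HasInjectiveResolutions X.Modules] (F : X.Modules) [Coh.IsQCoh F] (p : ℕ) (t : Finset S.affineOpens)
    (ht : ∀ x : S, ∃ V, V ∈ t ∧ x ∈ V.1)
    (h : ∀ V ∈ t, Subsingleton Γ((Coh.Rpush f p).obj F, V.1)) :
    IsZero ((Coh.Rpush f p).obj F) := by
  have := isQCoh_rpush f F p
  refine (IsZero.iff_id_eq_zero _).2 (Scheme.Modules.hom_ext _ _ fun U => ?_)
  ext z
  show (z : Γ((Coh.Rpush f p).obj F, U)) = 0
  refine Groth.Agent.Props12.eq_of_nhds _ _ _ fun y hy => ?_
  obtain ⟨V, hV, hyV⟩ := ht y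
  obtain ⟨r, hr, hyr⟩ := V.2.exists_basicOpen_le ⟨y, hy⟩ hyV
  have := h V hV
  refine ⟨_, hr, hyr, ?_⟩
  have hloc := localizesOn_of_isQCoh ((Coh.Rpush f p).obj F) V.2
  obtain ⟨n, w, hw⟩ := hloc.exists_pow_smul r (resM _ hr z)
  rw [Subsingleton.elim w 0, map_zero] at hw
  rw [map_zero]
  have hu : IsUnit (S.presheaf.map (homOfLE (S.basicOpen_le r)).op (r ^ n)) := by
    rw [map_pow]
    exact (RingedSpace.isUnit_res_basicOpen _ r).pow n
  exact (hu.smul_eq_zero).1 hw.symm

open AlgebraicGeometry CategoryTheory CategoryTheory.Limits in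
/-- Let S be Noetherian, f : X → S proper, F coherent on X and L invertible on X, ample on f⁻¹(W) for
every affine open W of S (relatively ample). Then there is n₀ with R^p f_*(F ⊗ L^{⊗n}) = 0 for all n
≥ n₀ and p > 0. -/
theorem result {X S : Scheme.{u}} (f : X ⟶ S) [IsProper f]
    [IsNoetherian S] (L : X.Modules) (hL : PicF.IsInvertible L)
    (ha : ∀ W : S.Opens, IsAffineOpen W → CohB1.IsAmple (L.restrict (f ⁻¹ᵁ W).ι))
    (M : X.Modules) (hM : Coh.IsCoh M) :
    ∃ n₀ : ℕ, ∀ n : ℕ, n₀ ≤ n → ∀ p : ℕ, 0 < p →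
      Limits.IsZero ((Coh.RpushAb f p).obj (Coh.toAb (CohB1.tensorMod M (CohB1.tensorPow L n)))) := by
  classical
  have : IsLocallyNoetherian X := LocallyOfFiniteType.isLocallyNoetherian f
  have := hasInjectiveResolutions_modules X
  have := hasInjectiveResolutions_modules S
  obtain ⟨t, ht⟩ := isCompact_univ.elim_finite_subcover (fun V : S.affineOpens => ((V.1 : S.Opens) : Set S))
    (fun V => V.1.2) fun x _ => by
      obtain ⟨V, hV, hxV, -⟩ := exists_isAffineOpen_mem_and_subset (x := x) (U := ⊤) trivial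
      exact Set.mem_iUnion.2 ⟨⟨V, hV⟩, hxV⟩
  have key : ∀ V : S.affineOpens, ∃ N : ℕ, ∀ n, N ≤ n → ∀ p, 0 < p → Subsingleton
      Γ((Coh.Rpush f p).obj (CohB1.tensorMod M (CohB1.tensorPow L n)), V.1) := fun V => by
    let P := f ⁻¹ᵁ V.1
    let _ : P.toScheme.Over (Spec (CommRingCat.of Γ(S, V.1))) := ⟨toSpecSections f V.2⟩
    have : IsProper (P.toScheme ↘ Spec (CommRingCat.of Γ(S, V.1))) :=
      inferInstanceAs (IsProper ((f ∣_ V.1) ≫ V.2.isoSpec.hom))
    have : IsNoetherianRing Γ(S, V.1) := IsLocallyNoetherian.component_noetherian V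
    have hA : CohB1.IsAmple (L.restrict P.ι) := ha V.1 V.2
    obtain ⟨N, hN⟩ := Serre.exists_subsingleton_HH_twist Γ(S, V.1) hA (M.restrict P.ι)
      (AmpleLib.isCoh_restrict P.ι M hM)
    refine ⟨N, fun n hn p hp => ?_⟩
    obtain ⟨e, -⟩ := exists_pullPowIso P.ι hL n
    let e' : CohB1.tensorPow (L.restrict P.ι) n ≅ (CohB1.tensorPow L n).restrict P.ι :=
      powIsoOfIso (restrictIsoPullback P.ι L) n ≪≫ e.symm ≪≫ (restrictIsoPullback P.ι _).symm
    have h := Serre.HH_subsingleton_of_iso Γ(S, V.1)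
      (tensorIso (Iso.refl (M.restrict P.ι)) e' ≪≫ restrictTensorIso P.ι M (CohB1.tensorPow L n))
      p (hN n hn p hp)
    have : Coh.IsQCoh (CohB1.tensorMod M (CohB1.tensorPow L n)) :=
      (EulerLib.isCoh_twist (isInvertible_tensorPow hL n) hM).1
    obtain ⟨ψ⟩ := exists_rpush_sections_equiv f V.2 (CohB1.tensorMod M (CohB1.tensorPow L n)) p
    exact ψ.symm.toEquiv.subsingleton
  choose N hN using key
  refine ⟨t.sup N, fun n hn p hp => ?_⟩
  let R := (Coh.Rpush f p).obj (CohB1.tensorMod M (CohB1.tensorPow L n))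
  have : Coh.IsQCoh (CohB1.tensorMod M (CohB1.tensorPow L n)) :=
    (EulerLib.isCoh_twist (isInvertible_tensorPow hL n) hM).1
  have hR : IsZero R := isZero_rpush_of_cover f _ p t (fun x => by obtain ⟨V, hV, hx⟩ := Set.mem_iUnion₂.1 (ht (Set.mem_univ x)); exact ⟨V, hV, hx⟩)
    fun V hV => hN V n ((Finset.le_sup hV).trans hn) p hp
  exact IsZero.of_iso (Functor.map_isZero (toAbFunctor S) hR)
    (toAbRpushIso f _ p).symm

end Groth.Agent.S0055
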