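import Groth.Statements.S9431
import Groth.Agent.CommAlg6.GenericRegular
import Mathlib.FieldTheory.IntermediateField.Adjoin.Algebra

set_option autoImplicit false
universe u
open CAlg

namespace Groth.Agent.S9431

open scoped IntermediateField.algebraAdjoinAdjoin

/-- For a separable (geometrically reduced) field extension K/k, every finite subset of K lies in a
k-subalgebra of K which is smooth over k; in particular K is a filtered colimit of smooth
k-algebras. -/
theorem result (k : Type u) [Field k]
    (K : Type u) [Field K] [Algebra k K] [Algebra.IsGeometricallyReduced k K] (E : Finset K) :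
    ∃ A : Subalgebra k K, (↑E : Set K) ⊆ (A : Set K) ∧ Algebra.Smooth k A := by
  classical
  let A : Subalgebra k K := Algebra.adjoin k (E : Set K)
  let F : IntermediateField k K := IntermediateField.adjoin k (E : Set K)
  haveI : Algebra.FiniteType k A := .adjoin_of_finite E.finite_toSet
  haveI : Algebra.FinitePresentation k A := Algebra.FinitePresentation.of_finiteType.1 inferInstance
  haveI : Algebra.EssFiniteType k F := IntermediateField.essFiniteType_iff.2 ⟨E, rfl⟩
  haveI : Algebra.IsGeometricallyReduced k F :=
    Algebra.IsGeometricallyReduced.of_injective F.val F.val.injective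
  haveI hFS : Algebra.FormallySmooth k F := CommAlg6.formallySmooth_of_isGeometricallyReduced k F
  have hbot : (⊥ : Ideal A).primeCompl = nonZeroDivisors A := by
    ext x; simp [Ideal.primeCompl]
  haveI : IsLocalization (⊥ : Ideal A).primeCompl F :=
    hbot ▸ (inferInstance : IsLocalization (nonZeroDivisors A) F)
  haveI : Algebra.IsSmoothAt k (⊥ : Ideal A) := (Algebra.FormallySmooth.iff_of_equiv
    ((IsLocalization.algEquiv (⊥ : Ideal A).primeCompl (Localization.AtPrime (⊥ : Ideal A)) F).restrictScalars k)).2
      hFS
  obtain ⟨f, hf, hsm⟩ := Algebra.IsSmoothAt.exists_notMem_smooth k (⊥ : Ideal A)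
  have hf0 : (f : K) ≠ 0 := fun h => hf (by
    rw [show f = 0 from Subtype.ext h]; exact Submodule.zero_mem _)
  have hu : IsUnit (A.val f) := hf0.isUnit
  have hunit : ∀ y : Submonoid.powers f, IsUnit (A.val y) := by
    rintro ⟨_, n, rfl⟩
    simpa using hu.pow n
  let ψ : Localization.Away f →ₐ[k] K := IsLocalization.liftAlgHom (f := A.val) hunit
  have hψ : ∀ a : A, ψ (algebraMap A (Localization.Away f) a) = (a : K) := fun a =>
    IsLocalization.lift_eq _ a
  have hinj : Function.Injective ψ := by
    intro x y hxy
    obtain ⟨a, s, rfl⟩ := IsLocalization.exists_mk'_eq (Submonoid.powers f) x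
    obtain ⟨b, t, rfl⟩ := IsLocalization.exists_mk'_eq (Submonoid.powers f) y
    rw [IsLocalization.mk'_eq_iff_eq]
    have h1 : ψ (IsLocalization.mk' (Localization.Away f) a s) * (s : A) = (a : K) := by
      rw [← hψ, ← map_mul, IsLocalization.mk'_spec, hψ]
    have h2 : ψ (IsLocalization.mk' (Localization.Away f) b t) * (t : A) = (b : K) := by
      rw [← hψ, ← map_mul, IsLocalization.mk'_spec, hψ]
    congr 1
    apply Subtype.ext
    simp only [Subalgebra.coe_mul]
    rw [← h1, ← h2, hxy]
    ring
  haveI : Algebra.Smooth k (Localization.Away f) := hsm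
  refine ⟨ψ.range, fun x hx => ⟨algebraMap A _ ⟨x, Algebra.subset_adjoin hx⟩, hψ _⟩,
    Algebra.Smooth.of_equiv (AlgEquiv.ofInjective ψ hinj)⟩

end Groth.Agent.S9431
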