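import Groth.Statements.S5802
import Groth.Agent.QReg6.Regular
import Mathlib

set_option backward.isDefEq.respectTransparency.types false

set_option autoImplicit false
universe u
open EGA41

namespace Groth.Agent.S5802

/-- First assertion: case M = A: in a ring A, every A-regular sequence (f_i)_{1 ≤ i ≤ c} is
quasi-regular, i.e. the canonical surjection (A/J)[T_1, ..., T_c] → gr_J(A), J = f_1 A + ... + f_c
A, is bijective. -/
theorem result (A : Type u) [CommRing A] (c : ℕ) (f : Fin c → A)
    (hf : RingTheory.Sequence.IsWeaklyRegular A (List.ofFn f)) : CAlgX.IsQuasiRegular f := by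
  refine Groth.Agent.QReg6.isQuasiRegular_of_regular fun k a ha => ?_
  rw [RingTheory.Sequence.isWeaklyRegular_iff_Fin] at hf
  have hk := hf ⟨k, by simp⟩
  have e1 : (Ideal.ofList ((List.ofFn f).take k) : Ideal A) = Ideal.span (f '' Set.Iio k) := by
    rw [Ideal.ofList]
    congr 1
    ext x
    constructor
    · intro hx
      obtain ⟨i, hi, rfl⟩ := List.mem_take_iff_getElem.mp hx
      rw [List.length_ofFn] at hi
      exact ⟨⟨i, by omega⟩, Fin.lt_def.mpr (lt_min_iff.mp hi).1, (List.getElem_ofFn _).symm⟩
    · rintro ⟨i, hi, rfl⟩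
      exact List.mem_take_iff_getElem.mpr ⟨i, by rw [List.length_ofFn]; exact lt_min hi i.2,
        List.getElem_ofFn _⟩
  simp only [List.getElem_ofFn, Fin.getElem_fin, e1, smul_eq_mul, Ideal.mul_top,
    isSMulRegular_quotient_iff_mem_of_smul_mem] at hk
  exact hk a (by rw [mul_comm] at ha; exact ha)

end Groth.Agent.S5802
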