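import Groth.Statements.S3202
import Groth.Agent.BlowUpKoszul.Relations
import Groth.Agent.SDiv28.Charts

set_option autoImplicit false
set_option backward.isDefEq.respectTransparency.types false
set_option maxHeartbeats 800000
universe u
open CategoryTheory AlgebraicGeometry
open SGA6

namespace Groth.Agent.S3202

open Groth.Agent TopologicalSpace

/-- Let i : Y ⟶ X be a regular closed immersion (locally cut out by a regular sequence) and f : X' ⟶ X
the blow-up of X along Y. Then f is a perfect morphism: affine-locally the ring maps O_X(V) →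
O_{X'}(U) are pseudo-coherent and of finite tor-dimension. (The source's regular immersions are the
Koszul-regular ones, a weaker hypothesis in the non-Noetherian case; it also records that i itself
is perfect.) -/
theorem result {Y X X' : Scheme.{u}} (i : Y ⟶ X) (hi : Mor2.IsRegularClosedImmersion i)
    (f : X' ⟶ X) (hf : BlowUp.IsBlowUp f i.ker) : MoreMor.IsPerfectMor f := by
  obtain ⟨hcl, hloc⟩ := hi
  haveI := hcl
  have hU : ∀ x : X, ∃ (U : X.affineOpens) (rs : List Γ(X, U.1)), x ∈ U.1 ∧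
      RingTheory.Sequence.IsWeaklyRegular Γ(X, U.1) rs ∧ i.ker.ideal U = Ideal.ofList rs := by
    intro x
    by_cases hx : x ∈ Set.range i
    · obtain ⟨z, rfl⟩ := hx
      obtain ⟨U, hU, hz, rs, hrs, hker⟩ := hloc z
      exact ⟨⟨U, hU⟩, rs, hz, hrs.toIsWeaklyRegular, hker⟩
    · let O : X.Opens := ⟨(Set.range i)ᶜ, i.isClosedEmbedding.isClosed_range.isOpen_compl⟩
      obtain ⟨U, hU, hxU, hUO⟩ := exists_isAffineOpen_mem_and_subset (x := x) (U := O) hx
      refine ⟨⟨U, hU⟩, [1], hxU, ?_, ?_⟩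
      · rw [RingTheory.Sequence.isWeaklyRegular_cons_iff]
        exact ⟨(IsSMulRegular.one _), RingTheory.Sequence.IsWeaklyRegular.nil _ _⟩
      · have htop : i.ker.ideal ⟨U, hU⟩ = ⊤ := by
          rw [Ideal.eq_top_iff_one, Scheme.Hom.ker_apply, RingHom.mem_ker, map_one]
          haveI : IsEmpty ↥(i ⁻¹ᵁ U) := ⟨fun z => hUO z.2 ⟨z.1, rfl⟩⟩
          have hbot : i ⁻¹ᵁ U = ⊥ := Opens.ext (Set.eq_empty_of_forall_notMem fun z hz => IsEmpty.false (⟨z, hz⟩ : ↥(i ⁻¹ᵁ U)))
          haveI : Subsingleton Γ(Y, i ⁻¹ᵁ U) := by rw [hbot]; infer_instance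
          exact Subsingleton.elim _ _
        rw [htop, Ideal.ofList_singleton, Ideal.span_singleton_one]
  haveI : IsZariskiLocalAtSource @MoreMor.IsPerfectMor := inferInstance
  have key : ∀ x' : X', ∃ V : X'.Opens, x' ∈ V ∧ MoreMor.IsPerfectMor (V.ι ≫ f) := by
    intro x'
    obtain ⟨U, rs, hxU, hrs, hker⟩ := hU (f x')
    obtain ⟨a, ha, hmem⟩ := BlowUpLib.exists_mem_locus f hf.1 U (show x' ∈ f ⁻¹ᵁ U.1 from hxU)
      (Set.range rs.get) (by rw [hker, Ideal.ofList, Set.range_list_get])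
    obtain ⟨k, rfl⟩ := ha
    obtain ⟨m, hm⟩ : ∃ m, rs.length = m + 1 := ⟨rs.length - 1, by have := k.2; omega⟩
    let F : Fin (m + 1) → Γ(X, U.1) := fun j => rs.get (j.cast hm.symm)
    have hF : Ideal.span (Set.range F) = i.ker.ideal U := by
      rw [hker, Ideal.ofList]
      refine congrArg Ideal.span (Set.ext fun z => ⟨?_, fun hz => ?_⟩)
      · rintro ⟨j, rfl⟩; exact List.get_mem _ _
      · obtain ⟨j, rfl⟩ := List.get_of_mem hz
        exact ⟨j.cast hm, rfl⟩
    have hreg : CAlgH.KoszulRegular.KReg F := by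
      refine CAlgH.KoszulH1.kreg_of_isWeaklyRegular ?_
      rwa [List.ofFn_congr hm.symm, show List.ofFn (fun j : Fin rs.length => F (j.cast hm)) = rs from
        List.ofFn_get rs]
    have ha : rs.get k ∈ i.ker.ideal U := hker ▸ Ideal.subset_span (List.get_mem rs k)
    obtain ⟨e, he⟩ := SDiv28.exists_locus_iso hf U ha
    refine ⟨_, hmem, ?_⟩
    rw [← he]
    refine FlatMorPerfect.perfectMor_comp _ _ (FlatMorPerfect.perfectMor_of_flat e.hom) ?_
    refine FlatMorPerfect.perfectMor_comp _ _ ?_ (FlatMorPerfect.perfectMor_of_flat U.2.fromSpec)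
    rw [HasRingHomProperty.Spec_iff (P := @MoreMor.IsPerfectMor)]
    exact BlowUpKoszul.ringPerf_chart F (k.cast hm) hreg hF.symm
  choose V hV hP using key
  exact (IsZariskiLocalAtSource.iff_of_iSup_eq_top (P := @MoreMor.IsPerfectMor) V
    (eq_top_iff.2 fun x _ => Opens.mem_iSup.2 ⟨x, hV x⟩)).2 hP

end Groth.Agent.S3202
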