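import Groth.Statements.S9372
import Groth.Agent.Omega15.ConormalBC
import Groth.Agent.Thick15.Sequence
-- import your own Groth.Agent.* helpers here

set_option autoImplicit false
universe u
open OmegaSh

open scoped TensorProduct
namespace Groth.Agent.S9372

open AlgebraicGeometry CategoryTheory in
/-- In a cartesian square with i : Z → X, i' : Z' → X' quasi-compact immersions, g : X → X', gZ : Z →
Z', the canonical map gZ^* C_{Z'/X'} → C_{Z/X} is surjective, and an isomorphism when g is flat.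
(The published statement allows arbitrary immersions; this row assumes i and i' quasi-compact.) -/
theorem result {Z X Z' X' : Scheme.{u}} (i : Z ⟶ X) (i' : Z' ⟶ X') [IsImmersion i] [IsImmersion i']
    [QuasiCompact i] [QuasiCompact i'] (g : X ⟶ X') (gZ : Z ⟶ Z') (hsq : IsPullback i gZ g i')
    (φ : (Scheme.Modules.pullback gZ).obj (Omega.conormal i') ⟶ Omega.conormal i) (hφ : OmegaSh.IsConormalMap i i' g gZ φ) :
    Epi φ ∧ (Flat g → IsIso φ) := by
  have setup : ∀ z : Z, ∃ (π : RingHom.ker (Thick15.tm i (x := z) rfl).hom →+ (DerSch.stalkFunctor Z z).obj (Omega.conormal i))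
      (π' : RingHom.ker (Thick15.tm i' (x := gZ z) rfl).hom →+ (DerSch.stalkFunctor Z' (gZ z)).obj (Omega.conormal i')),
      Omega15.IsPi i z rfl π ∧ Omega15.IsPi i' (gZ z) rfl π' := fun z =>
    ⟨_, _, (Omega15.exists_pi i z rfl).choose_spec, (Omega15.exists_pi i' (gZ z) rfl).choose_spec⟩
  have pg : ∀ z : Z, g (i z) = i' (gZ z) := fun z => congrArg (fun f : Z ⟶ X' => f z) hsq.w
  have hepi : Epi φ := Thick15.epi_of_stalks _ fun z v => by
    obtain ⟨π, π', hπ, hπ'⟩ := setup z
    letI := (gZ.stalkMap z).hom.toAlgebra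
    obtain ⟨E, hE⟩ := OmegaLib.exists_pullback_stalk_equiv gZ (Omega.conormal i') z
    obtain ⟨⟨a, ha⟩, rfl⟩ := hπ.1 v
    have ha' := ha
    rw [Omega15.ker_tm_of_isPullback hsq z rfl (pg z) rfl, Ideal.map] at ha'
    induction ha' using Submodule.span_induction with
    | mem a h =>
      obtain ⟨b, hb, rfl⟩ := h
      exact ⟨E (1 ⊗ₜ π' ⟨b, hb⟩), Omega15.pi_conormalMap hφ z rfl (pg z) rfl hπ hπ'
        (P := AddMonoidHom.mk' (fun m => E (1 ⊗ₜ m)) fun m m' =>
          (congrArg E (TensorProduct.tmul_add _ _ _)).trans (map_add E _ _)) (fun U hU s => hE U hU s) ⟨b, hb⟩⟩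
    | zero => exact ⟨0, by rw [map_zero]; exact (map_zero π).symm⟩
    | add p q hp hq hp' hq' =>
      have hp1 : p ∈ RingHom.ker (Thick15.tm i (x := z) rfl).hom := by
        rw [Omega15.ker_tm_of_isPullback hsq z rfl (pg z) rfl]; exact hp
      have hq1 : q ∈ RingHom.ker (Thick15.tm i (x := z) rfl).hom := by
        rw [Omega15.ker_tm_of_isPullback hsq z rfl (pg z) rfl]; exact hq
      obtain ⟨u, hu⟩ := hp' hp1
      obtain ⟨w, hw⟩ := hq' hq1
      exact ⟨u + w, by rw [map_add, hu, hw, ← map_add]; rfl⟩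
    | smul r p hp hp' =>
      have hp1 : p ∈ RingHom.ker (Thick15.tm i (x := z) rfl).hom := by
        rw [Omega15.ker_tm_of_isPullback hsq z rfl (pg z) rfl]; exact hp
      obtain ⟨u, hu⟩ := hp' hp1
      exact ⟨(Thick15.tm i (x := z) rfl) r • u, by rw [map_smul, hu]; exact (hπ.2.2.1 r ⟨p, hp1⟩).symm⟩
  refine ⟨hepi, fun hflat => ?_⟩
  haveI := hepi
  suffices h0 : ∀ z, Function.Injective ((DerSch.stalkFunctor Z z).map φ) by
    haveI := OmegaLib.mono_of_stalks_injective φ h0
    exact isIso_of_mono_of_epi φ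
  intro z
  obtain ⟨π, π', hπ, hπ'⟩ := setup z
  letI := (gZ.stalkMap z).hom.toAlgebra
  obtain ⟨E, hE⟩ := OmegaLib.exists_pullback_stalk_equiv gZ (Omega.conormal i') z
  let Φ : Z.presheaf.stalk z ⊗[Z'.presheaf.stalk (gZ z)] (DerSch.stalkFunctor Z' (gZ z)).obj (Omega.conormal i')
      →ₗ[Z.presheaf.stalk z] (DerSch.stalkFunctor Z z).obj (Omega.conormal i) :=
    ((DerSch.stalkFunctor Z z).map φ).hom ∘ₗ E.toLinearMap
  have hinj : Function.Injective Φ := by
    refine Omega15.bc_injective (Thick15.tm g (pg z)).hom (Omega15.flat_tm g (pg z))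
      (Thick15.tm i (x := z) rfl).hom (by rw [Thick15.tm_self]; exact i.stalkMap_surjective z)
      (Thick15.tm i' (x := gZ z) rfl).hom (fun r => ?_) π' hπ'.1 (fun x h => (hπ'.2.1 x).2 h) hπ'.2.2.1
      (Omega15.ker_tm_of_isPullback hsq z rfl (pg z) rfl) π (fun x h => (hπ.2.1 x).1 h) hπ.2.2.1 Φ ?_
    · have := congr($(Thick15.tm_comm hsq.w rfl (pg z) (x := z) (y' := gZ z) rfl rfl) r)
      simp only [CommRingCat.comp_apply] at this
      refine Eq.trans ?_ this.symm
      exact (congr($(Thick15.tm_self gZ z) _)).symm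
    · intro x h
      exact Omega15.pi_conormalMap hφ z rfl (pg z) rfl hπ hπ'
        (P := AddMonoidHom.mk' (fun m => E (1 ⊗ₜ m)) fun m m' =>
          (congrArg E (TensorProduct.tmul_add _ _ _)).trans (map_add E _ _)) (fun U hU s => hE U hU s) x
  intro a b hab
  apply E.symm.injective
  apply hinj
  show (DerSch.stalkFunctor Z z).map φ (E (E.symm a)) = (DerSch.stalkFunctor Z z).map φ (E (E.symm b))
  rw [E.apply_symm_apply, E.apply_symm_apply, hab]

end Groth.Agent.S9372
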