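import Groth.Statements.S0321
import Groth.Agent.LocCoh.Depth

set_option autoImplicit false
universe u v
open LocCoh

namespace Groth.Agent.S0321

/-- Depth inequalities along a short exact sequence 0 → N' → N → N'' → 0 of finite modules over a
Noetherian ring: depth N ≥ min(depth N', depth N''), depth N'' ≥ min(depth N, depth N' − 1), depth
N' ≥ min(depth N, depth N'' + 1). -/
theorem result (R : Type u) [CommRing R] [IsNoetherianRing R] (I : Ideal R) (N' : Type u) [AddCommGroup N'] [Module R N'] [Module.Finite R N'] (N : Type u) [AddCommGroup N] [Module R N] [Module.Finite R N] (N'' : Type u) [AddCommGroup N''] [Module R N''] [Module.Finite R N''] (f : N' →ₗ[R] N) (g : N →ₗ[R] N'') (hf : Function.Injective f) (hg : Function.Surjective g) (hfg : Function.Exact f g) : min (LocCoh.idealDepth I N') (LocCoh.idealDepth I N'') ≤ LocCoh.idealDepth I N ∧ min (LocCoh.idealDepth I N) (LocCoh.idealDepth I N' - 1) ≤ LocCoh.idealDepth I N'' ∧ min (LocCoh.idealDepth I N) (LocCoh.idealDepth I N'' + 1) ≤ LocCoh.idealDepth I N' := by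
  exact Groth.Agent.LocCoh.idealDepth_shortExact I N' N N'' f g hf hg hfg

end Groth.Agent.S0321
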