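import Mathlib.RingTheory.Flat.Basic
import Groth.Agent.CAlgH3.FlatExt

set_option autoImplicit false
universe u
namespace CAlg
end CAlg
open CAlg

namespace Groth.Agent.S6304

/-- In a short exact sequence 0 → M' → M → M'' → 0 of R-modules whose right-hand term M'' is flat, the
middle term M is flat when M' is, and M' is flat when M is. -/
theorem result {R : Type u} [CommRing R] {M' M M'' : Type u} [AddCommGroup M'] [Module R M'] [AddCommGroup M] [Module R M] [AddCommGroup M''] [Module R M''] (f : M' →ₗ[R] M) (g : M →ₗ[R] M'') (hf : Function.Injective f) (hexact : Function.Exact f g) (hg : Function.Surjective g) [Module.Flat R M''] : (Module.Flat R M' → Module.Flat R M) ∧ (Module.Flat R M → Module.Flat R M') := by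
  refine ⟨fun _ => Groth.Agent.CAlgH3.flat_of_extension f g hf hg hexact, fun _ => ?_⟩
  rw [Module.Flat.iff_rTensor_preserves_injective_linearMap]
  intro A B _ _ _ _ i hi
  have h1 : Function.Injective (f.lTensor A) :=
    LinearMap.lTensor_injective_of_exact_of_flat g hg f hf hexact A
  refine Function.Injective.of_comp (f := f.lTensor B) ?_
  rw [← LinearMap.coe_comp, LinearMap.lTensor_comp_rTensor, ← LinearMap.rTensor_comp_lTensor,
    LinearMap.coe_comp]
  exact (Module.Flat.rTensor_preserves_injective_linearMap (M := M) i hi).comp h1

end Groth.Agent.S6304
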