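import Groth.Statements.S9442
import Groth.Agent.CAlgH.AdicSmoothRegularField
import Groth.Agent.CAlgH.AdicSmoothCotangent
import Groth.Agent.CommAlg6.GenericRegular


set_option autoImplicit false
universe u
open CAlg

namespace Groth.Agent.S9442

/-- For a finite type algebra S over a field k and a prime q of S with κ(q) separable over k, S is
smooth over k at q if and only if S_q is a regular local ring. -/
theorem result (k : Type u) [Field k]
    (S : Type u) [CommRing S] [Algebra k S] [Algebra.FiniteType k S] (q : Ideal S) [q.IsPrime]
    [Algebra.IsGeometricallyReduced k q.ResidueField] :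
    Algebra.IsSmoothAt k q ↔ IsRegularLocalRing (Localization.AtPrime q) := by
  haveI : IsNoetherianRing S := Algebra.FiniteType.isNoetherianRing k S
  haveI : IsNoetherianRing (Localization.AtPrime q) := IsLocalization.isNoetherianRing q.primeCompl _ inferInstance
  constructor
  · intro h
    haveI : Algebra.FormallySmooth k (Localization.AtPrime q) := h
    exact CAlgH.AdicSmooth.isRegularLocalRing_of_adicSmooth (k := k) CAlgH.AdicSmooth.of_formallySmooth
  · intro h
    haveI : Algebra.EssFiniteType S (Localization.AtPrime q) := Algebra.EssFiniteType.of_isLocalization _ q.primeCompl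
    haveI : Algebra.EssFiniteType k (Localization.AtPrime q) := Algebra.EssFiniteType.comp k S _
    haveI : Algebra.EssFiniteType k q.ResidueField := Algebra.EssFiniteType.comp k (Localization.AtPrime q) _
    haveI : Algebra.FormallySmooth k (IsLocalRing.ResidueField (Localization.AtPrime q)) :=
      CommAlg6.formallySmooth_of_isGeometricallyReduced k q.ResidueField
    exact CAlgH.AdicSmooth.formallySmooth_localization q CAlgH.AdicSmooth.of_regular_formallySmooth_residueField

end Groth.Agent.S9442
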