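import Groth.Statements.S6928
import Groth.Agent.FlatMor12.FlatAtColimit

set_option autoImplicit false
set_option backward.isDefEq.respectTransparency false
universe u
open FlatMor

namespace Groth.Agent.S6928

/-- Let `R → S` be a ring map that is essentially of finite presentation, `J ⊆ S` an ideal and `M` a
finitely presented `S`-module. Let `(R_λ)` be a directed system of `R`-algebras with colimit `R'`,
and `I_λ ⊆ R_λ` ideals with `I_λ R_μ ⊆ I_μ`, `I' = colim I_λ`, `S' = S ⊗_R R'`, `M' = M ⊗_R R'`. If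
`M'_{𝔮'}` is flat over `R'` for every prime `𝔮' ⊇ I'S' + JS'`, then there is `λ` such that, with
`S_λ = S ⊗_R R_λ` and `M_λ = M ⊗_R R_λ`, `(M_λ)_𝔮` is flat over `R_λ` for every prime `𝔮 ⊇ I_λ S_λ +
J S_λ`. -/
theorem result {R S : Type u} [CommRing R] [CommRing S] [Algebra R S] (hS : FlatCA.EssFinitePresentation R S)
    {M : Type u} [AddCommGroup M] [Module S M] [Module R M] [IsScalarTower R S M] [Module.FinitePresentation S M]
    {ι : Type u} [Preorder ι] (G : ι → Type u) [∀ i, CommRing (G i)] [∀ i, Algebra R (G i)]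
    (g : ∀ i j, i ≤ j → G i →+* G j) (hgR : ∀ i j (h : i ≤ j), (g i j h).comp (algebraMap R (G i)) = algebraMap R (G j))
    (R' : Type u) [CommRing R'] [Algebra R R'] [∀ i, Algebra (G i) R'] [∀ i, IsScalarTower R (G i) R']
    (hcolim : FlatCA.IsDirectedColimitRing G g R')
    (Il : ∀ i, Ideal (G i)) (hIl : ∀ i j (h : i ≤ j), (Il i).map (g i j h) ≤ Il j)
    {S' : Type u} [CommRing S'] [Algebra S S'] [Algebra R' S'] [Algebra R S'] [IsScalarTower R S S']
    [IsScalarTower R R' S'] [Algebra.IsPushout R S R' S']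
    {M' : Type u} [AddCommGroup M'] [Module S' M'] [Module R' M'] [IsScalarTower R' S' M'] [Module S M']
    [IsScalarTower S S' M'] (f : M →ₗ[S] M') (hf : IsBaseChange S' f)
    (J : Ideal S)
    (h : ∀ (q' : Ideal S') [q'.IsPrime],
      (⨆ i, (Il i).map (algebraMap (G i) R')).map (algebraMap R' S') ⊔ J.map (algebraMap S S') ≤ q' →
        FlatCA.FlatAt R' q' M') :
    ∃ i : ι, ∀ (Si Mi : Type u) [CommRing Si] [Algebra S Si] [Algebra (G i) Si] [Algebra R Si] [IsScalarTower R S Si]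
      [IsScalarTower R (G i) Si] [Algebra.IsPushout R S (G i) Si] [AddCommGroup Mi] [Module Si Mi] [Module (G i) Mi]
      [IsScalarTower (G i) Si Mi] [Module S Mi] [IsScalarTower S Si Mi] (fi : M →ₗ[S] Mi), IsBaseChange Si fi →
      ∀ (q : Ideal Si) [q.IsPrime], (Il i).map (algebraMap (G i) Si) ⊔ J.map (algebraMap S Si) ≤ q → FlatCA.FlatAt (G i) q Mi := by
  let g' : ∀ i j, i ≤ j → G i →ₐ[R] G j := fun i j h =>
    { g i j h with commutes' := fun r => RingHom.congr_fun (hgR i j h) r }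
  obtain ⟨ψ, hψ, htr⟩ := FlatMor12.FlatteningUniversal.exists_transport (R := R) (R' := R') f hf
  obtain ⟨i, hi⟩ := FlatMor12.FlatAtColimit.exists_badIdeal_eq_top M g' hcolim Il hIl J hS fun Q _ hQI hQJ => by
    let q' : Ideal S' := Q.comap ψ.symm.toRingEquiv.toRingHom
    have hq' : q'.comap ψ.toRingEquiv.toRingHom = Q := by
      ext z
      show ψ.symm (ψ z) ∈ Q ↔ _
      rw [ψ.symm_apply_apply]
    have := (htr q').1 (h q' ?_)
    · convert this using 1
      exact hq'.symm
    refine sup_le (Ideal.map_le_iff_le_comap.2 (iSup_le fun i a ha => ?_)) (Ideal.map_le_iff_le_comap.2 fun s hs => ?_)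
    · show ψ.symm (algebraMap R' S' a) ∈ Q
      rw [ψ.symm.commutes]
      exact hQI i ha
    · show ψ.symm (algebraMap S S' s) ∈ Q
      rw [show algebraMap S S' s = ψ ((1 : R') ⊗ₜ[R] s) by rw [hψ, one_smul], ψ.symm_apply_apply]
      exact hQJ hs
  refine ⟨i, ?_⟩
  intro Si Mi _ _ _ _ _ _ _ _ _ _ _ _ _ fi hfi q _ hq
  obtain ⟨χ, hχ, htr'⟩ := FlatMor12.FlatteningUniversal.exists_transport (R := R) (R' := G i) fi hfi
  rw [htr']
  refine FlatMor12.FlatAtColimit.flatAt_of_badIdeal_eq_top M Il J hi _ (fun a ha => ?_) (fun s hs => ?_)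
  · show χ (algebraMap (G i) (TensorProduct R (G i) S) a) ∈ q
    rw [χ.commutes]
    exact hq (Ideal.mem_sup_left (Ideal.mem_map_of_mem _ ha))
  · show χ ((1 : G i) ⊗ₜ[R] s) ∈ q
    rw [hχ, one_smul]
    exact hq (Ideal.mem_sup_right (Ideal.mem_map_of_mem _ hs))

end Groth.Agent.S6928
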