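import Groth.Statements.S1993
import Groth.Agent.HenselLib.LocalHens
import Groth.Agent.HenselLib.Perm

set_option autoImplicit false
universe u
open EtAlg

namespace Groth.Agent.S1993

/-- Let A be a local ring with maximal ideal m and B a local A-algebra with local structure map. Then B
is a henselization of the pair (A, m) if and only if B is a henselization of the local ring A (both
in the sense of the universal properties). -/
theorem result (A B : Type u) [CommRing A] [IsLocalRing A] [CommRing B]
    [IsLocalRing B] [Algebra A B] [IsLocalHom (algebraMap A B)] :
    Hens2.IsPairHenselization A (IsLocalRing.maximalIdeal A) B ↔ Hensel.IsHenselization A B := by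
  refine ⟨fun hB => ?_, fun hB => ?_⟩
  · have := hB.1
    have hB' : HenselianLocalRing B := by
      have hle := ((IsLocalRing.local_hom_TFAE (algebraMap A B)).out 0 2).mp ‹_›
      obtain ⟨e⟩ := Groth.Agent.HenselLib.IsPairHull.equiv_pairH hB
      have hm : (IsLocalRing.maximalIdeal A).map (algebraMap A B) = IsLocalRing.maximalIdeal B := by
        rw [← e.toAlgHom.comp_algebraMap, ← Ideal.map_map,
          Groth.Agent.HenselLib.map_maximalIdeal_localH]
        exact IsLocalRing.map_ringEquiv_maximalIdeal e.toRingEquiv
      have : HenselianRing B (IsLocalRing.maximalIdeal B) := hm ▸ hB.1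
      exact Groth.Agent.HenselLib.henselianLocalRing_of_henselianRing B
    exact ⟨hB', fun T _ _ f hf => hB.2 T (IsLocalRing.maximalIdeal T) f
      (Groth.Agent.HenselLib.henselianRing_maximalIdeal T)
      (((IsLocalRing.local_hom_TFAE f).out 0 2).mp hf)⟩
  · exact Groth.Agent.HenselLib.isPairHull_of_isHenselization B

end Groth.Agent.S1993
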