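import Groth.Statements.S0335
import Groth.Agent.LocCoh.Depth
import Groth.Agent.EGA41Lib.RegularPow
import Mathlib

set_option autoImplicit false
universe u v
open LocCoh

namespace Groth.Agent.S0335

/-- For the ring itself; Hartshorne's connectedness: if a Noetherian local ring has depth at least 2
then its punctured spectrum is connected. -/
theorem result (R : Type u) [CommRing R] [IsLocalRing R] [IsNoetherianRing R] (h : 2 ≤ LocCoh.depth R R) : IsConnected {x : PrimeSpectrum R | x.asIdeal ≠ IsLocalRing.maximalIdeal R} := by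
  classical
  let m := IsLocalRing.maximalIdeal R
  have htop : m • (⊤ : Submodule R R) ≠ ⊤ :=
    Groth.Agent.LocCoh.smul_top_ne_top_of_nontrivial R (IsLocalRing.maximalIdeal.isMaximal R).ne_top
  obtain ⟨rs, hlen, hmem, hreg⟩ :=
    (Groth.Agent.LocCoh.natCast_le_idealDepth_iff_exists m R htop 2).mp h
  obtain ⟨x, y, rest, rfl⟩ : ∃ x y rest, rs = x :: y :: rest := by
    rcases rs with _ | ⟨x, _ | ⟨y, rest⟩⟩
    · simp at hlen
    · simp at hlen
    · exact ⟨x, y, rest, rfl⟩
  have hw := hreg.toIsWeaklyRegular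
  rw [RingTheory.Sequence.isWeaklyRegular_cons_iff, RingTheory.Sequence.isWeaklyRegular_cons_iff] at hw
  have hxy : RingTheory.Sequence.IsWeaklyRegular R (List.ofFn ![x, y]) := by
    simp only [List.ofFn_succ, List.ofFn_zero]
    simp only [Matrix.cons_val_zero, Matrix.cons_val_succ]
    rw [RingTheory.Sequence.isWeaklyRegular_cons_iff, RingTheory.Sequence.isWeaklyRegular_cons_iff]
    exact ⟨hw.1, hw.2.1, RingTheory.Sequence.IsWeaklyRegular.nil R _⟩
  have hpow : ∀ k, 1 ≤ k → IsSMulRegular R (x ^ k) ∧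
      ∀ u w : R, y ^ k * u = x ^ k * w → ∃ e, u = x ^ k * e := by
    intro k hk
    have hk' := Groth.Agent.EGA41Lib.isWeaklyRegular_pow 2 ![x, y] (fun _ => k)
      (fun _ => hk) hxy
    simp only [List.ofFn_succ, List.ofFn_zero, Matrix.cons_val_zero, Matrix.cons_val_succ] at hk'
    rw [RingTheory.Sequence.isWeaklyRegular_cons_iff, RingTheory.Sequence.isWeaklyRegular_cons_iff] at hk'
    refine ⟨hk'.1, fun u w huw => ?_⟩
    have h0 : (y ^ k) • (Submodule.Quotient.mk u : QuotSMulTop (x ^ k) R) = 0 := by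
      rw [← Submodule.Quotient.mk_smul, Submodule.Quotient.mk_eq_zero, smul_eq_mul, huw]
      exact Submodule.smul_mem_pointwise_smul w (x ^ k) ⊤ trivial
    have h1 := hk'.2.1 (h0.trans (smul_zero _).symm)
    rw [Submodule.Quotient.mk_eq_zero, Submodule.mem_smul_pointwise_iff_exists] at h1
    obtain ⟨e, -, he⟩ := h1
    exact ⟨e, he.symm⟩
  refine ⟨?_, ?_⟩
  · by_contra hne
    rw [Set.not_nonempty_iff_eq_empty] at hne
    have hnil : x ∈ nilradical R := by
      rw [nilradical_eq_sInf, Ideal.mem_sInf]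
      intro P hP
      have : (⟨P, hP⟩ : PrimeSpectrum R).asIdeal = m := by
        by_contra hc
        exact (Set.eq_empty_iff_forall_notMem.mp hne) _ hc
      simp only at this
      rw [this]
      exact hmem x (by simp)
    obtain ⟨k, hk⟩ := hnil
    have hk0 : x ^ k = 0 := by simpa using hk
    have h1 := (hw.1.pow k) (show x ^ k • (1 : R) = x ^ k • 0 by simp [hk0])
    exact one_ne_zero h1
  rw [isPreconnected_closed_iff]
  intro t t' ht ht' hcov hst hst'
  obtain ⟨a, rfl⟩ := (PrimeSpectrum.isClosed_iff_zeroLocus_ideal t).mp ht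
  obtain ⟨b, rfl⟩ := (PrimeSpectrum.isClosed_iff_zeroLocus_ideal t').mp ht'
  by_contra hne
  rw [Set.not_nonempty_iff_eq_empty, Set.eq_empty_iff_forall_notMem] at hne
  have key : ∀ P : PrimeSpectrum R, a ≤ P.asIdeal → b ≤ P.asIdeal → P.asIdeal = m := by
    intro P h1 h2
    by_contra hc
    exact hne P ⟨hc, by simpa using h1, by simpa using h2⟩
  obtain ⟨P₀, hP₀, ha₀⟩ := hst
  obtain ⟨P₁, hP₁, hb₁⟩ := hst'
  rw [PrimeSpectrum.mem_zeroLocus, SetLike.coe_subset_coe] at ha₀ hb₁
  have ham : a ≤ m := ha₀.trans (IsLocalRing.le_maximalIdeal P₀.isPrime.ne_top)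
  have hbm : b ≤ m := hb₁.trans (IsLocalRing.le_maximalIdeal P₁.isPrime.ne_top)
  have hab : a * b ≤ nilradical R := by
    rw [nilradical_eq_sInf]
    refine le_sInf fun P hP => ?_
    by_cases hPm : P = m
    · rw [hPm]; exact Ideal.mul_le_right.trans hbm
    · rcases hcov (show (⟨P, hP⟩ : PrimeSpectrum R) ∈ _ from hPm) with h' | h' <;>
        rw [PrimeSpectrum.mem_zeroLocus, SetLike.coe_subset_coe] at h'
      · exact Ideal.mul_le_left.trans h'
      · exact Ideal.mul_le_right.trans h'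
  obtain ⟨N, hN⟩ := IsNoetherianRing.isNilpotent_nilradical R
  have hab0 : ∀ u ∈ a ^ (N + 1), ∀ v ∈ b ^ (N + 1), u * v = 0 := by
    intro u hu v hv
    have h1 : u * v ∈ (a * b) ^ (N + 1) := by rw [mul_pow]; exact Ideal.mul_mem_mul hu hv
    have h2 := Ideal.pow_right_mono hab (N + 1) h1
    rw [pow_succ, hN] at h2
    simpa using h2
  set A := a ^ (N + 1) with hA
  set B := b ^ (N + 1) with hB
  have hrad : m ≤ (A ⊔ B).radical := by
    rw [Ideal.radical_eq_sInf]
    refine le_sInf ?_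
    rintro P ⟨hle, hP⟩
    have := key ⟨P, hP⟩ (hP.le_of_pow_le (le_sup_left.trans hle))
      (hP.le_of_pow_le (le_sup_right.trans hle))
    exact this.ge
  obtain ⟨n, hn⟩ := Ideal.exists_pow_le_of_le_radical_of_fg hrad (IsNoetherian.noetherian m)
  have hn1 : m ^ (n + 1) ≤ A ⊔ B := (Ideal.pow_le_pow_right (by omega)).trans hn
  obtain ⟨hXreg, hYreg⟩ := hpow (n + 1) (by omega)
  obtain ⟨α, hα, β, hβ, hαβ⟩ := Submodule.mem_sup.mp
    (hn1 (Ideal.pow_mem_pow (hmem x (by simp)) (n + 1)))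
  obtain ⟨α', hα', β', hβ', hαβ'⟩ := Submodule.mem_sup.mp
    (hn1 (Ideal.pow_mem_pow (hmem y (by simp)) (n + 1)))
  obtain ⟨e, he⟩ := hYreg α α' (by
    rw [← hαβ, ← hαβ']
    linear_combination hab0 α hα β' hβ' - hab0 α' hα' β hβ)
  have split : ∀ s ∈ A ⊔ B, e * s ∈ A ∧ (1 - e) * s ∈ B := by
    intro s hs
    obtain ⟨γ, hγ, δ, hδ, rfl⟩ := Submodule.mem_sup.mp hs
    have h1 : x ^ (n + 1) • (e * (γ + δ)) = x ^ (n + 1) • γ := by
      rw [smul_eq_mul, smul_eq_mul, ← mul_assoc, ← he, ← hαβ]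
      linear_combination hab0 α hα δ hδ - hab0 γ hγ β hβ
    have h2 : e * (γ + δ) = γ := hXreg h1
    exact ⟨by rw [h2]; exact hγ, by rw [sub_mul, one_mul, h2, add_sub_cancel_left]; exact hδ⟩
  rcases IsLocalRing.isUnit_or_isUnit_one_sub_self e with he' | he'
  · have hle : m ^ (n + 1) ≤ A := fun s hs => (Ideal.unit_mul_mem_iff_mem _ he').mp (split s (hn1 hs)).1
    refine hP₀ (le_antisymm (IsLocalRing.le_maximalIdeal P₀.isPrime.ne_top) ?_)
    exact P₀.isPrime.le_of_pow_le (hle.trans ((Ideal.pow_le_self (by omega)).trans ha₀))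
  · have hle : m ^ (n + 1) ≤ B := fun s hs => (Ideal.unit_mul_mem_iff_mem _ he').mp (split s (hn1 hs)).2
    refine hP₁ (le_antisymm (IsLocalRing.le_maximalIdeal P₁.isPrime.ne_top) ?_)
    exact P₁.isPrime.le_of_pow_le (hle.trans ((Ideal.pow_le_self (by omega)).trans hb₁))

end Groth.Agent.S0335
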