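import Groth.Statements.S0841
import Groth.Agent.Formal2Lib.PuncturedMod
import Groth.Agent.Coherent.Existence.AffineLimit

set_option autoImplicit false
universe u
open Formal2

namespace Groth.Agent.S0841

open CategoryTheory CategoryTheory.Limits AlgebraicGeometry Opposite TopologicalSpace
open Groth.Agent.Formal2Lib Groth.Agent.Coherent Groth.Agent.Coherent.Existence

set_option backward.isDefEq.respectTransparency false

section

variable {R : CommRingCat.{u}} [IsNoetherianRing R] {I : Ideal R} (𝔞 : Ideal R)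

theorem isAffineOpen_pre {a : R} (ha : a ∈ 𝔞) : IsAffineOpen (Punct.jU 𝔞 ⁻¹ᵁ Punct.D a) := by
  have hle : Punct.D a ≤ (Punct.jU 𝔞).opensRange := by
    rw [Scheme.Opens.opensRange_ι]; exact Punct.D_le 𝔞 ha
  have hDa : IsAffineOpen (Punct.D a) := by
    have := (isAffineOpen_top (Spec R)).basicOpen ((Scheme.ΓSpecIso R).inv a)
    rwa [basicOpen_eq_of_affine] at this
  exact hDa.preimage_of_isOpenImmersion _ hle

variable (F : ℕᵒᵖ ⥤ (Punct.US 𝔞).Modules)

/-- The map on modules of sections. -/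
noncomputable abbrev q (n : ℕ) : Punct.N 𝔞 (F.obj (op (n + 1))) →ₗ[R] Punct.N 𝔞 (F.obj (op n)) :=
  (Punct.Nmap 𝔞 (Serre.tr F n)).hom

variable {F}

theorem exists_submodules (hF : Formal.IsCohFormal I F) :
    ∃ M : ∀ n, Submodule R (Punct.N 𝔞 (F.obj (op n))), (∀ n, (M n).FG) ∧
      (∀ n, M (n + 1) ≤ (M n).comap (q 𝔞 F n)) ∧
      ∀ (n) (x : Punct.N 𝔞 (F.obj (op n))), ∃ m : ℕ, ∀ b ∈ 𝔞 ^ m, b • x ∈ M n := by
  obtain ⟨S, hS⟩ : ∃ S : ∀ n, Submodule R (Punct.N 𝔞 (F.obj (op n))), ∀ n, (S n).FG ∧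
      ∀ x : Punct.N 𝔞 (F.obj (op n)), ∃ m : ℕ, ∀ b ∈ 𝔞 ^ m, b • x ∈ S n :=
    ⟨fun n => (Punct.exists_fg_torsion 𝔞 _ (hF.1 n)).choose,
      fun n => (Punct.exists_fg_torsion 𝔞 _ (hF.1 n)).choose_spec⟩
  let M : ∀ n, Submodule R (Punct.N 𝔞 (F.obj (op n))) := fun n =>
    Nat.rec (motive := fun n => Submodule R (Punct.N 𝔞 (F.obj (op n)))) (S 0)
      (fun n Mn => S (n + 1) ⊓ Mn.comap (q 𝔞 F n)) n
  refine ⟨M, fun n => ?_, fun n => inf_le_right, fun n => ?_⟩
  · cases n with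
    | zero => exact (hS 0).1
    | succ n => exact Submodule.FG.of_le (hS (n + 1)).1 inf_le_left
  · induction n with
    | zero => exact (hS 0).2
    | succ n ih =>
      intro x
      obtain ⟨m, hm⟩ := (hS (n + 1)).2 x
      obtain ⟨m', hm'⟩ := ih (q 𝔞 F n x)
      refine ⟨m + m', fun b hb => ⟨hm b (Ideal.pow_le_pow_right (by omega) hb), ?_⟩⟩
      show q 𝔞 F n (b • x) ∈ M n
      rw [map_smul]
      exact hm' b (Ideal.pow_le_pow_right (by omega) hb)

theorem smul_eq_zero (hF : Formal.IsCohFormal I F) (n : ℕ) {c : R} (hc : c ∈ I ^ (n + 1))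
    (x : Punct.N 𝔞 (F.obj (op n))) : c • x = 0 :=
  (Punct.smul_app 𝔞 (F.obj (op n)) c ⊤ x).symm.trans
    (congrArg (fun ψ : F.obj (op n) ⟶ F.obj (op n) => ψ.app (Punct.jU 𝔞 ⁻¹ᵁ ⊤) x) (hF.2.1 n c hc))

variable {M : ∀ n, Submodule R (Punct.N 𝔞 (F.obj (op n)))}
  (hM : ∀ (n) (x : Punct.N 𝔞 (F.obj (op n))), ∃ m : ℕ, ∀ b ∈ 𝔞 ^ m, b • x ∈ M n)

include hM in
theorem exists_pow_mem_smul {a : R} (ha : a ∈ 𝔞) (n : ℕ) (hF : Formal.IsCohFormal I F)
    {x : Punct.N 𝔞 (F.obj (op (n + 1)))} (hx : q 𝔞 F n x = 0) :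
    ∃ k : ℕ, a ^ k • x ∈ I ^ (n + 1) • M (n + 1) := by
  have := (hF.1 (n + 1)).1
  let G := F.obj (op (n + 1))
  let W := Punct.jU 𝔞 ⁻¹ᵁ Punct.D a
  let T := (I ^ (n + 1) • M (n + 1)).map (Punct.ρ 𝔞 G (Punct.D a))
  have hker : (Serre.tr F n).app W (Punct.ρ 𝔞 G (Punct.D a) x) = 0 := by
    rw [← Punct.pApp_eq, ← Punct.ρ_map]
    exact (congrArg _ hx).trans (map_zero _)
  have hmem := (tr_app_eq_zero_iff hF W (isAffineOpen_pre 𝔞 ha) n _).1 hker
  have hc : ∀ c ∈ I ^ (n + 1), ∀ w : Γ(Punct.P 𝔞 G, Punct.D a), ∃ k : ℕ, a ^ k • (c • w) ∈ T := by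
    intro c hc w
    obtain ⟨k, y, hy⟩ := Punct.exists_num 𝔞 G a w
    obtain ⟨m, hm⟩ := hM (n + 1) y
    refine ⟨m + k, c • (a ^ m • y), Submodule.smul_mem_smul hc (hm _ (Ideal.pow_mem_pow ha m)), ?_⟩
    rw [map_smul, map_smul, hy, pow_add, mul_smul, smul_comm c, smul_comm c]
  have hadd : ∀ u v : Γ(Punct.P 𝔞 G, Punct.D a), (∃ k : ℕ, a ^ k • u ∈ T) → (∃ k : ℕ, a ^ k • v ∈ T) →
      ∃ k : ℕ, a ^ k • (u + v) ∈ T := by
    rintro u v ⟨k, hk⟩ ⟨k', hk'⟩
    refine ⟨k + k', ?_⟩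
    rw [smul_add]
    refine add_mem ?_ ?_
    · rw [add_comm, pow_add, mul_smul]; exact T.smul_mem _ hk
    · rw [pow_add, mul_smul]; exact T.smul_mem _ hk'
  have key : ∀ r ∈ openIdeal I W ^ (n + 1), ∀ w : Γ(G, W),
      ∃ k : ℕ, a ^ k • (show Γ(Punct.P 𝔞 G, Punct.D a) from r • w) ∈ T := by
    intro r hr
    rw [openIdeal, ← Ideal.map_pow] at hr
    induction hr using Submodule.span_induction with
    | mem r hr =>
      obtain ⟨c, hc', rfl⟩ := hr
      intro w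
      obtain ⟨k, hk⟩ := hc c hc' w
      refine ⟨k, ?_⟩
      rw [← Punct.smul_app 𝔞 G c (Punct.D a) w, smulMod_app] at hk
      exact hk
    | zero => exact fun w => ⟨0, by
        rw [zero_smul]
        show a ^ 0 • (0 : Γ(Punct.P 𝔞 G, Punct.D a)) ∈ T
        rw [smul_zero]
        exact zero_mem T⟩
    | add r s _ _ hr hs => exact fun w => by rw [add_smul]; exact hadd _ _ (hr w) (hs w)
    | smul s r _ hr => exact fun w => by rw [smul_eq_mul, mul_comm, mul_smul]; exact hr (s • w)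
  obtain ⟨k, y, hy, hky⟩ : ∃ k : ℕ, a ^ k • Punct.ρ 𝔞 G (Punct.D a) x ∈ T :=
    Submodule.smul_induction_on hmem (fun r hr w _ => key r hr w) hadd
  obtain ⟨l, hl⟩ := Punct.exists_pow_zero 𝔞 G a (a ^ k • x - y) (by
    rw [map_sub, map_smul, hky]; exact sub_self _)
  refine ⟨l + k, ?_⟩
  rw [pow_add a l k, mul_smul, sub_eq_zero.1 ((smul_sub _ _ _).symm.trans hl)]
  exact Submodule.smul_mem _ _ hy

include hM in
theorem exists_pow_mem_range {a : R} (ha : a ∈ 𝔞) (n : ℕ) (hF : Formal.IsCohFormal I F)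
    (y : Punct.N 𝔞 (F.obj (op n))) :
    ∃ (k : ℕ) (z : Punct.N 𝔞 (F.obj (op (n + 1)))), z ∈ M (n + 1) ∧ q 𝔞 F n z = a ^ k • y := by
  have := (hF.1 (n + 1)).1
  have := (hF.1 n).1
  obtain ⟨w, hw⟩ := tr_app_surjective hF (Punct.jU 𝔞 ⁻¹ᵁ Punct.D a) (isAffineOpen_pre 𝔞 ha) n
    (Punct.ρ 𝔞 (F.obj (op n)) (Punct.D a) y)
  obtain ⟨k, z, hz⟩ := Punct.exists_num 𝔞 (F.obj (op (n + 1))) a w
  obtain ⟨m, hm⟩ := hM (n + 1) z
  obtain ⟨l, hl⟩ := Punct.exists_pow_zero 𝔞 (F.obj (op n)) a (q 𝔞 F n (a ^ m • z) - a ^ (m + k) • y) (by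
    rw [map_sub, Punct.ρ_map, map_smul, map_smul, map_smul, hz, map_smul, Punct.pApp_eq, hw,
      ← mul_smul, ← pow_add]
    exact sub_self _)
  refine ⟨l + (m + k), a ^ l • (a ^ m • z), Submodule.smul_mem _ _ (hm _ (Ideal.pow_mem_pow ha m)), ?_⟩
  rw [map_smul, sub_eq_zero.1 ((smul_sub _ _ _).symm.trans hl), ← mul_smul, ← pow_add]

end


open CategoryTheory AlgebraicGeometry Opposite in
/-- Let A be a Noetherian ring, I ⊆ 𝔞 ideals of A and U = Spec A ∖ V(𝔞). For every coherent formal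
module (F_n) for I on U there are finite A-modules M_n with I^(n+1) M_n = 0 and A-linear maps
M_{n+1} → M_n for which each induced map M_{n+1}/I^(n+1)M_{n+1} → M_n has 𝔞-power-torsion kernel and
cokernel (every element is killed by some power of 𝔞), together with an isomorphism between (F_n)
and the inverse system of restrictions to U of the quasi-coherent modules M̃_n on Spec A. Indexing:
position n here corresponds to index n + 1 of the published statement, so that M_n is killed by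
I^(n+1). Only this direction (every coherent formal module arises in this manner) is stated; the
converse, that every such system of modules yields a coherent formal module, is not stated here. -/
theorem result (A : Type u) [CommRing A] [IsNoetherianRing A]
    (I 𝔞 : Ideal A) (hI : I ≤ 𝔞) (F : ℕᵒᵖ ⥤ (↑(LocCoh.puncturedOpen A 𝔞) : Scheme.{u}).Modules)
    (hF : Formal.IsCohFormal I F) :
    ∃ (M : ℕ → Type u) (_ : ∀ n, AddCommGroup (M n)) (_ : ∀ n, Module A (M n)) (g : ∀ n, M (n + 1) →ₗ[A] M n),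
      (∀ n, Module.Finite A (M n)) ∧ (∀ n, I ^ (n + 1) • (⊤ : Submodule A (M n)) = ⊥) ∧
      (∀ n (x : M (n + 1)), g n x = 0 → ∃ m : ℕ, ∀ a ∈ 𝔞 ^ m, a • x ∈ I ^ (n + 1) • (⊤ : Submodule A (M (n + 1)))) ∧
      (∀ n (y : M n), ∃ m : ℕ, ∀ a ∈ 𝔞 ^ m, a • y ∈ LinearMap.range (g n)) ∧
      Nonempty (F ≅ Functor.ofOpSequence
        (X := fun n => (Scheme.Modules.restrictFunctor (LocCoh.puncturedOpen A 𝔞).ι).obj (Formal2.tmod A (M n)))
        (fun n => (Scheme.Modules.restrictFunctor (LocCoh.puncturedOpen A 𝔞).ι).map (Formal2.tmodMap A (g n)))) := by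
  let R : CommRingCat.{u} := CommRingCat.of A
  obtain ⟨M, hfg, hle, hM⟩ := exists_submodules (R := R) 𝔞 hF
  obtain ⟨t, ht⟩ := IsNoetherian.noetherian 𝔞
  have htop : ∀ a ∈ (t : Set A), a ∈ 𝔞 := fun a ha => ht ▸ Submodule.subset_span ha
  let g : ∀ n, M (n + 1) →ₗ[A] M n := fun n => (q (R := R) 𝔞 F n).restrict fun x hx => hle n hx
  let e : ∀ n, (Scheme.Modules.restrictFunctor (LocCoh.puncturedOpen A 𝔞).ι).obj (Formal2.tmod A (M n)) ⟶
      F.obj (op n) := fun n =>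
    (Scheme.Modules.restrictFunctor (Punct.jU (R := R) 𝔞)).map
      (tilde.map (R := R) (ModuleCat.ofHom (M n).subtype)) ≫ Punct.θ (R := R) 𝔞 (F.obj (op n))
  have he : ∀ n, IsIso (e n) := fun n => by
    have := (hF.1 n).1
    have := Punct.isIso_restrict_tilde_subtype (R := R) 𝔞 (M n) (hM n)
    have := Punct.isIso_θ (R := R) 𝔞 (F.obj (op n))
    exact IsIso.comp_isIso
  refine ⟨fun n => M n, fun n => inferInstance, fun n => inferInstance, g,
    fun n => Module.Finite.iff_fg.2 (hfg n), fun n => ?_, fun n x hx => ?_, fun n y => ?_, ?_⟩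
  · refine eq_bot_iff.2 (Submodule.smul_le.2 fun c hc x _ => ?_)
    exact Subtype.ext (smul_eq_zero (R := R) 𝔞 hF n hc x.1)
  · refine Punct.torsion_of_gens (R := R) 𝔞 (le_of_eq ht.symm) _ x fun a ha => ?_
    obtain ⟨k, hk⟩ := exists_pow_mem_smul (R := R) 𝔞 hM (htop a ha) n hF (congrArg Subtype.val hx)
    refine ⟨k, ?_⟩
    have h2 : (a ^ k • x).1 ∈ (I ^ (n + 1) • (⊤ : Submodule A (M (n + 1)))).map (M (n + 1)).subtype := by
      rw [Submodule.map_smul'', Submodule.map_top, Submodule.range_subtype]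
      exact hk
    obtain ⟨z, hz, hzx⟩ := h2
    exact Subtype.ext hzx ▸ hz
  · refine Punct.torsion_of_gens (R := R) 𝔞 (le_of_eq ht.symm) _ y fun a ha => ?_
    obtain ⟨k, z, hz, hzy⟩ := exists_pow_mem_range (R := R) 𝔞 hM (htop a ha) n hF y.1
    exact ⟨k, ⟨z, hz⟩, Subtype.ext hzy⟩
  · let η : Functor.ofOpSequence
        (X := fun n => (Scheme.Modules.restrictFunctor (LocCoh.puncturedOpen A 𝔞).ι).obj (Formal2.tmod A (M n)))
        (fun n => (Scheme.Modules.restrictFunctor (LocCoh.puncturedOpen A 𝔞).ι).map (Formal2.tmodMap A (g n))) ⟶ F :=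
      NatTrans.ofOpSequence e fun n => by
        rw [Functor.ofOpSequence_map_homOfLE_succ]
        show _ ≫ (_ ≫ _) = (_ ≫ _) ≫ _
        rw [Category.assoc, ← Punct.θ_natural (R := R) 𝔞 (Serre.tr F n), ← Category.assoc, ← Category.assoc,
          ← Functor.map_comp, ← Functor.map_comp]
        congr 2
        show tilde.map (R := R) (ModuleCat.ofHom (g n)) ≫ _ = _
        rw [← tilde.map_comp, ← tilde.map_comp]
        rfl
    have : ∀ j, IsIso (η.app j) := fun j => he j.unop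
    have := NatIso.isIso_of_isIso_app η
    exact ⟨(asIso η).symm⟩

end Groth.Agent.S0841
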