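import Groth.Prelude.Def_CohTop
import Groth.Agent.SiteCoh.CechAcyclic

set_option autoImplicit false
universe u
open CategoryTheory
open CohTop CategoryTheory

namespace Groth.Agent.S0464

open TopologicalSpace in
/-- Let U_i be a family of opens with union U. If H^(q+1)(U_{i_0} ∩ … ∩ U_{i_p}, F) = 0 for all q and
all finite tuples of indices, then the p-th Cech cohomology of F for this family is isomorphic to
H^p(U, F). -/
theorem result {X : TopCat.{u}} (F : CohTop.Ab X) {ι : Type u}
    (U : ι → Opens X)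
    (h : ∀ (p : ℕ) (a : Fin (p + 1) → ι) (q : ℕ), Subsingleton (CohTop.HU F (q + 1) (iInf fun k => U (a k))))
    (p : ℕ) : Nonempty (CohTop.cechH F.obj U p ≃+ CohTop.HU F p (iSup U)) := by
  exact Groth.Agent.SiteCoh.nonempty_cech_equiv (𝟭 (Opens X)) U
    (fun i => CategoryTheory.homOfLE (le_iSup U i))
    (fun _ _ _ _ _ => rfl)
    (Groth.Agent.SiteCoh.ofArrows_mem_of_le U (le_iSup U) le_rfl)
    (fun Z i j f g _ => ⟨Z, 𝟙 Z, f, g, Category.id_comp _, Category.id_comp _⟩)
    (fun I _ q => Groth.Agent.SiteCoh.isZero_cechHTop_of_injective I U q) F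
    (fun q a n => (Groth.Agent.SiteCoh.inter_eq_iInf U a).symm ▸ h q a n) p

end Groth.Agent.S0464
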