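import Groth.Statements.S16430
import Groth.Agent.HenselLib.PolyLocal
import Mathlib.RingTheory.Etale.StandardEtale
import Mathlib.FieldTheory.PrimitiveElement

set_option autoImplicit false
universe u
open Hensel

namespace Groth.Agent.S16430

/-- For a Noetherian local ring A with residue field k and a finite separable field extension l of k,
there is a local ring E, finite and etale over A with local structure map, whose residue field is
k-isomorphic to l. -/
theorem result (A : Type u)
    [CommRing A] [IsLocalRing A] [IsNoetherianRing A] (l : Type u) [Field l]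
    [Algebra (IsLocalRing.ResidueField A) l] [FiniteDimensional (IsLocalRing.ResidueField A) l]
    [Algebra.IsSeparable (IsLocalRing.ResidueField A) l] :
    ∃ (E : Type u) (_ : CommRing E) (_ : IsLocalRing E) (_ : Algebra A E)
      (_ : IsLocalHom (algebraMap A E)),
      Module.Finite A E ∧ Algebra.Etale A E ∧
        Nonempty (IsLocalRing.ResidueField E ≃ₐ[IsLocalRing.ResidueField A] l) := by
  set m := IsLocalRing.maximalIdeal A
  let k := IsLocalRing.ResidueField A
  obtain ⟨z, hz⟩ := Field.exists_primitive_element k l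
  have hint : IsIntegral k z := Algebra.IsIntegral.isIntegral z
  obtain ⟨f, hfm, -, hf⟩ := Polynomial.lifts_and_natDegree_eq_and_monic
    (f := IsLocalRing.residue A) (p := minpoly k z)
    (Polynomial.mem_lifts_of_surjective IsLocalRing.residue_surjective _) (minpoly.monic hint)
  let : Algebra A l := ((algebraMap k l).comp (IsLocalRing.residue A)).toAlgebra
  have : IsScalarTower A k l := IsScalarTower.of_algebraMap_eq fun _ => rfl
  let E := AdjoinRoot f
  have hfin : Module.Finite A E := hf.finite_adjoinRoot
  have hfz : Polynomial.aeval z f = 0 := by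
    rw [← Polynomial.aeval_map_algebraMap k z f, show algebraMap A k = IsLocalRing.residue A from rfl, hfm]
    exact minpoly.aeval _ _
  let φ : E →ₐ[A] l := AdjoinRoot.liftAlgHom f (Algebra.ofId A l) z (by exact hfz)
  have hφsurj : Function.Surjective φ := fun y => by
    have hy : y ∈ Algebra.adjoin k ({z} : Set l) := by
      rw [← IntermediateField.adjoin_simple_toSubalgebra_of_isAlgebraic hint.isAlgebraic, hz,
        IntermediateField.top_toSubalgebra]
      trivial
    rw [Algebra.adjoin_singleton_eq_range_aeval] at hy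
    obtain ⟨p, rfl⟩ := hy
    obtain ⟨q, rfl⟩ := Polynomial.map_surjective _ IsLocalRing.residue_surjective p
    refine ⟨AdjoinRoot.mk f q, ?_⟩
    show φ (AdjoinRoot.mk f q) = Polynomial.aeval z (q.map (IsLocalRing.residue A))
    rw [← AdjoinRoot.aeval_eq, ← Polynomial.aeval_algHom_apply,
      show φ (AdjoinRoot.root f) = z from AdjoinRoot.liftAlgHom_root _ _ _ _,
      show IsLocalRing.residue A = algebraMap A k from rfl, Polynomial.aeval_map_algebraMap]
  have hkerφ : RingHom.ker φ ≤ m.map (algebraMap A E) := fun y hy => by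
    obtain ⟨q, rfl⟩ := AdjoinRoot.mk_surjective y
    have h0 : Polynomial.aeval z q = 0 := by
      have h := hy
      rw [RingHom.mem_ker, ← AdjoinRoot.aeval_eq, ← Polynomial.aeval_algHom_apply,
        show φ (AdjoinRoot.root f) = z from AdjoinRoot.liftAlgHom_root _ _ _ _] at h
      exact h
    rw [← Polynomial.aeval_map_algebraMap k z q] at h0
    obtain ⟨c, hc⟩ := minpoly.dvd k z h0
    obtain ⟨c, rfl⟩ := Polynomial.map_surjective _ IsLocalRing.residue_surjective c
    have hz0 : (q - f * c).map (IsLocalRing.residue A) = 0 := by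
      rw [Polynomial.map_sub, Polynomial.map_mul, hfm, sub_eq_zero]
      exact hc
    have h1 := Groth.Agent.HenselLib.mk_mem_map_of_map_eq_zero m f hz0
    rwa [map_sub, map_mul, AdjoinRoot.mk_self, zero_mul, sub_zero] at h1
  have hmaxker : (RingHom.ker φ).IsMaximal := RingHom.ker_isMaximal_of_surjective φ hφsurj
  have hjac : m.map (algebraMap A E) ≤ Ideal.jacobson ⊥ :=
    Groth.Agent.HenselLib.map_maximalIdeal_le_jacobson A E
  have hloc : IsLocalRing E := IsLocalRing.of_unique_max_ideal ⟨_, hmaxker, fun M hM =>
    (hmaxker.eq_of_le hM.ne_top (hkerφ.trans (hjac.trans (sInf_le ⟨bot_le, hM⟩)))).symm⟩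
  have hlh : IsLocalHom (algebraMap A E) :=
    ((IsLocalRing.local_hom_TFAE (algebraMap A E)).out 4 0).mp
      (IsLocalRing.eq_maximalIdeal (Ideal.isMaximal_comap_of_isIntegral_of_isMaximal _))
  have hmax : IsLocalRing.maximalIdeal E = RingHom.ker φ := (IsLocalRing.eq_maximalIdeal hmaxker).symm
  let S : StandardEtalePair A :=
    { f := f, monic_f := hf, g := Polynomial.derivative f, cond := ⟨1, 0, 1, by ring⟩ }
  have hder : IsUnit (Polynomial.aeval (AdjoinRoot.root f) (Polynomial.derivative f)) := by
    by_contra hu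
    have h1 : Polynomial.aeval (AdjoinRoot.root f) (Polynomial.derivative f) ∈ RingHom.ker φ := by
      rw [← hmax]; exact hu
    rw [RingHom.mem_ker, ← Polynomial.aeval_algHom_apply,
      show φ (AdjoinRoot.root f) = z from AdjoinRoot.liftAlgHom_root _ _ _ _,
      ← Polynomial.aeval_map_algebraMap k z, ← Polynomial.derivative_map,
      show algebraMap A k = IsLocalRing.residue A from rfl, hfm] at h1
    exact (Algebra.IsSeparable.isSeparable k z).aeval_derivative_ne_zero (minpoly.aeval _ _) h1
  have hS : S.HasMap (AdjoinRoot.root f) := ⟨(AdjoinRoot.aeval_eq f).trans AdjoinRoot.mk_self, hder⟩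
  let ψ : E →ₐ[A] S.Ring := AdjoinRoot.liftAlgHom f (Algebra.ofId A S.Ring) S.X (by exact S.hasMap_X.1)
  let ε : S.Ring ≃ₐ[A] E := AlgEquiv.ofAlgHom (S.lift _ hS) ψ
    (AdjoinRoot.algHom_ext ((congrArg (S.lift _ hS) (AdjoinRoot.liftAlgHom_root f (Algebra.ofId A S.Ring) S.X (by exact S.hasMap_X.1))).trans (S.lift_X _ hS)))
    (S.hom_ext (by simp [ψ]; exact AdjoinRoot.liftAlgHom_root _ _ _ _))
  have : Algebra.Etale A E := Algebra.Etale.of_equiv ε
  refine ⟨E, inferInstance, hloc, inferInstance, hlh, hfin, inferInstance,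
    ⟨AlgEquiv.ofRingEquiv (f := (Ideal.quotEquivOfEq hmax).trans (RingHom.quotientKerEquivOfSurjective hφsurj))
      fun x => ?_⟩⟩
  obtain ⟨a, rfl⟩ := IsLocalRing.residue_surjective x
  exact φ.commutes a

end Groth.Agent.S16430
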