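import Groth.Prelude.Def_Hensel
import Groth.Prelude.Def_CAlg2
import Groth.Prelude.Def_CAlgX
import Groth.Agent.CAlgSmall.UnibranchHull

set_option autoImplicit false
universe u
namespace CAlg
end CAlg
open CAlg

namespace Groth.Agent.S2052

/-- A local ring `A` is unibranch (its reduction is a domain with local integral closure) if and only if
the henselization of `A` has a unique minimal prime ideal. -/
theorem result {A Ah : Type u} [CommRing A] [IsLocalRing A]
    [CommRing Ah] [IsLocalRing Ah] [Algebra A Ah] [IsLocalHom (algebraMap A Ah)]
    [Hensel.IsHenselization A Ah] :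
    CAlg2.IsUnibranch A ↔ CAlgX.HasUniqueMinimalPrime Ah := by
  exact CAlgSmall.UnibranchHull.isUnibranch_iff

end Groth.Agent.S2052
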