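import Groth.Statements.S7457
import Groth.Agent.GrpdLib.Orbits

set_option autoImplicit false
universe u
open CategoryTheory CategoryTheory.Limits AlgebraicGeometry
open Grpd

namespace Groth.Agent.S7457

/-- Let (U, R, s, t, c) be a groupoid scheme over S. Let φ : R x_(t,U,t) R -> R x_(s,U,t) R be the
morphism sending a pair (a, b) with the same target to (a, a^{-1} composed with b), that is, the
morphism whose first component is the first projection and whose second component is c applied to (i
composed after the first projection, second projection). Then φ is an isomorphism and composed with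
c it gives the second projection. Moreover the square with sides c, the second projection R
x_(s,U,t) R -> R, s and s is cartesian. (A groupoid scheme carries U, R, s, t, c, e, i over S with
the groupoid axioms on T-points; c is defined on the fibre product of s and t and sends a pair (a,
b) with s(a) = t(b) to a composed with b.) -/
theorem result (S : Scheme.{u}) (G : Grpd.GroupoidScheme S) : (∀ φ : pullback G.t G.t ⟶ pullback G.s G.t, φ ≫ pullback.fst G.s G.t = pullback.fst G.t G.t → φ ≫ pullback.snd G.s G.t = pullback.lift (pullback.fst G.t G.t ≫ G.i) (pullback.snd G.t G.t) ((Category.assoc _ _ _).trans ((congrArg (fun x => pullback.fst G.t G.t ≫ x) G.i_s).trans pullback.condition)) ≫ G.c → IsIso φ ∧ φ ≫ G.c = pullback.snd G.t G.t) ∧ IsPullback G.c (pullback.snd G.s G.t) G.s G.s := by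
  constructor
  · intro φ h₁ h₂
    let a := pullback.fst G.s G.t
    let b := pullback.snd G.s G.t
    have hab : a ≫ G.s = b ≫ G.t := pullback.condition
    have hφc : φ ≫ G.c = pullback.snd G.t G.t := by
      have hlift : φ = pullback.lift (φ ≫ a) (φ ≫ b) (by rw [Category.assoc, hab, Category.assoc]) := by
        apply pullback.hom_ext
        · exact (pullback.lift_fst _ _ _).symm
        · exact (pullback.lift_snd _ _ _).symm
      rw [hlift]
      refine (Groth.Agent.GrpdLib.cmp_congr G h₁ h₂ _ ?_).trans
        (Groth.Agent.GrpdLib.cmp_cmp_inv G _ _ _ _)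
      · exact ((G.comp_t _ _ _).trans (Groth.Agent.GrpdLib.i_comp_t G _)).symm
    refine ⟨⟨pullback.lift a (Groth.Agent.GrpdLib.cmp G a b hab) (Groth.Agent.GrpdLib.cmp_t G a b hab).symm, ?_, ?_⟩, hφc⟩
    · apply pullback.hom_ext
      · rw [Category.assoc, pullback.lift_fst, Category.id_comp]
        exact h₁
      · rw [Category.assoc, pullback.lift_snd, Category.id_comp, Groth.Agent.GrpdLib.cmp, ← hφc]
        congr 1
        rw [show pullback.lift a b hab = 𝟙 _ from pullback.hom_ext ((pullback.lift_fst _ _ _).trans (Category.id_comp _).symm) ((pullback.lift_snd _ _ _).trans (Category.id_comp _).symm)]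
        exact Category.id_comp _
    · apply pullback.hom_ext
      · rw [Category.assoc, h₁, pullback.lift_fst, Category.id_comp]
      · rw [Category.assoc, h₂, Category.id_comp]
        refine (Groth.Agent.GrpdLib.comp_cmp G _ _ _ _).trans ?_
        refine (Groth.Agent.GrpdLib.cmp_congr G ?_ ?_ _ ?_).trans (Groth.Agent.GrpdLib.cmp_inv_cmp G a b hab ?_)
        · rw [← Category.assoc, pullback.lift_fst]
        · rw [pullback.lift_snd]
        all_goals rw [Groth.Agent.GrpdLib.i_comp_s]; exact (Groth.Agent.GrpdLib.cmp_t G a b hab).symm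
  · let a := pullback.fst G.s G.t
    let b := pullback.snd G.s G.t
    have hab : a ≫ G.s = b ≫ G.t := pullback.condition
    have hc : G.c = Groth.Agent.GrpdLib.cmp G a b hab := by
      rw [Groth.Agent.GrpdLib.cmp, show pullback.lift a b hab = 𝟙 _ from pullback.hom_ext ((pullback.lift_fst _ _ _).trans (Category.id_comp _).symm) ((pullback.lift_snd _ _ _).trans (Category.id_comp _).symm),
        Category.id_comp]
    refine ⟨⟨by rw [hc]; exact Groth.Agent.GrpdLib.cmp_s G a b hab⟩, ⟨PullbackCone.IsLimit.mk _
      (fun w => pullback.lift (Groth.Agent.GrpdLib.cmp G w.fst (w.snd ≫ G.i)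
        (by rw [Groth.Agent.GrpdLib.i_comp_t]; exact w.condition)) w.snd
        (by rw [Groth.Agent.GrpdLib.cmp_s, Groth.Agent.GrpdLib.i_comp_s])) (fun w => ?_) (fun w => pullback.lift_snd _ _ _) ?_⟩⟩
    · rw [hc, Groth.Agent.GrpdLib.comp_cmp]
      refine (Groth.Agent.GrpdLib.cmp_congr G (pullback.lift_fst _ _ _) (pullback.lift_snd _ _ _) _ ?_).trans ?_
      · rw [Groth.Agent.GrpdLib.cmp_s, Groth.Agent.GrpdLib.i_comp_s]
      refine (G.assoc _ _ _ ?_ (Groth.Agent.GrpdLib.i_comp_s G w.snd)).trans ?_
      refine (Groth.Agent.GrpdLib.cmp_congr G rfl ((G.i_comp w.snd).trans (show w.snd ≫ G.s ≫ G.e = w.fst ≫ G.s ≫ G.e by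
        rw [← Category.assoc, ← w.condition, Category.assoc])) _ ?_).trans (G.comp_e w.fst)
      rw [Category.assoc, Category.assoc, G.e_t, Category.comp_id]
    · intro w m hm₁ hm₂
      apply pullback.hom_ext
      · rw [pullback.lift_fst]
        have h1 : m ≫ G.c = Groth.Agent.GrpdLib.cmp G (m ≫ a) (m ≫ b) (by rw [Category.assoc, hab, Category.assoc]) := by
          rw [hc, Groth.Agent.GrpdLib.comp_cmp]
        refine Eq.symm ((Groth.Agent.GrpdLib.cmp_congr G (hm₁.symm.trans h1)
          (congrArg (· ≫ G.i) hm₂.symm) _ ?_).trans (Groth.Agent.GrpdLib.cmp_cmp_inv_right G _ _ _ ?_))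
        all_goals rw [Groth.Agent.GrpdLib.cmp_s, Groth.Agent.GrpdLib.i_comp_t]
      · rw [pullback.lift_snd]; exact hm₂

end Groth.Agent.S7457
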