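import Groth.Statements.S1779
import Groth.Agent.DualLib.FlatApps
import Groth.Agent.Matlis6.CompletionNoetherian
import Mathlib.RingTheory.AdicCompletion.Completeness

set_option autoImplicit false
universe u
open CategoryTheory
attribute [local instance] HasDerivedCategory.standard
open Dual

namespace Groth.Agent.S1779

/-- Let A be a Noetherian ring, I an ideal and ω a dualizing complex for A. Assuming the derived base
change functor to the I-adic completion exists, the base change of ω is a dualizing complex for the
I-adic completion of A. -/
theorem result (A : Type u) [CommRing A] [IsNoetherianRing A] (I : Ideal A) [DRing.HasLBaseChange (algebraMap A (AdicCompletion I A))] (ω : Dual.D A) (hω : Dual.IsDualizing A ω) : Dual.IsDualizing (AdicCompletion I A) ((DRing.LBaseChange (algebraMap A (AdicCompletion I A))).obj ω) := by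
  haveI := Groth.Agent.Matlis6.isNoetherianRing_adicCompletion I
  have hfg : I.FG := IsNoetherian.noetherian I
  haveI : IsAdicComplete (I.map (algebraMap A (AdicCompletion I A))) (AdicCompletion I A) :=
    (IsAdicComplete.map_algebraMap_iff I (AdicCompletion I A)).2 (AdicCompletion.isAdicComplete hfg)
  refine Groth.Agent.DualLib.isDualizing_LBaseChange_iso_mod (I := I) ?_ (IsAdicComplete.le_jacobson_bot _) hω
  intro y
  obtain ⟨x, rfl⟩ := Ideal.Quotient.mk_surjective y
  obtain ⟨a, ha⟩ := Ideal.Quotient.mk_surjective (AdicCompletion.evalOneₐ I x)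
  refine ⟨a, ?_⟩
  rw [RingHom.comp_apply, Ideal.Quotient.eq]
  refine (AdicCompletion.ker_evalOneₐ_eq_map (I := I) hfg).le ?_
  rw [RingHom.mem_ker, map_sub]
  show (AdicCompletion.evalOneₐ I) (algebraMap A _ a) - (AdicCompletion.evalOneₐ I) x = 0
  rw [AlgHom.commutes, ← ha]
  exact sub_self _

end Groth.Agent.S1779
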