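import Groth.Statements.S4689
import Groth.Agent.CommAlg6.CatenaryHeight
import Groth.Agent.DimLib.Algebra
import Mathlib.RingTheory.Polynomial.Quotient

set_option autoImplicit false
universe u
open EGA4

namespace Groth.Agent.S4689

theorem isMaximal_of_integral {K : Type u} [Field K] {n : ℕ} (J : Ideal (MvPolynomial (Fin n) K))
    (hJ : J.IsPrime) (h : ∀ i, IsIntegral K (Ideal.Quotient.mk J (MvPolynomial.X i))) : J.IsMaximal := by
  haveI := hJ
  haveI : IsDomain (MvPolynomial (Fin n) K ⧸ J) := Ideal.Quotient.isDomain J
  haveI : Algebra.IsIntegral K (MvPolynomial (Fin n) K ⧸ J) := ⟨fun x => by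
    obtain ⟨f, rfl⟩ := Ideal.Quotient.mk_surjective x
    induction f using MvPolynomial.induction_on with
    | C a => exact isIntegral_algebraMap (R := K) (A := MvPolynomial (Fin n) K ⧸ J) (x := a)
    | add f g hf hg => rw [map_add]; exact hf.add hg
    | mul_X f i hf => rw [map_mul]; exact hf.mul (h i)⟩
  exact Ideal.Quotient.maximal_of_isField _ (isField_of_isIntegral_of_isField' (R := K) (Field.toIsField K))

open CommAlg6 in
open Groth.Agent.LocCoh (hq isPrime_map_mk) in
theorem key (A B : Type u) [CommRing A] [IsDomain A]
    [IsNoetherianRing A] [IsLocalRing A] (hA : CAlg.IsUniversallyCatenary A) [CommRing B] [IsDomain B]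
    [Algebra A B] [FaithfulSMul A B] [Module.Finite A B] (N : Ideal B) [N.IsMaximal] :
    ringKrullDim (Localization.AtPrime N) = ringKrullDim A := by
  obtain ⟨n, π, hπ⟩ := Algebra.FiniteType.iff_quotient_mvPolynomial''.1
    (inferInstance : Algebra.FiniteType A B)
  let S := MvPolynomial (Fin n) A
  let K := FractionRing A
  let P : Ideal S := RingHom.ker π
  haveI : P.IsPrime := RingHom.ker_isPrime _
  let M : Ideal S := N.comap π
  haveI : M.IsMaximal := Ideal.comap_isMaximal_of_surjective π hπ
  have hPM : P ≤ M := fun x hx => by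
    show π x ∈ N
    rw [RingHom.mem_ker.1 hx]; exact N.zero_mem
  -- the height of `P` is `n`
  have hP : P.height = n := by
    let S' := MvPolynomial (Fin n) K
    letI : Algebra S S' := MvPolynomial.algebraMvPolynomial
    haveI : IsLocalization ((nonZeroDivisors A).map (MvPolynomial.C : A →+* S)) S' :=
      MvPolynomial.isLocalization (nonZeroDivisors A) K
    have hdisj : Disjoint (((nonZeroDivisors A).map (MvPolynomial.C : A →+* S) : Submonoid S) : Set S)
        (P : Set S) := by
      rw [Set.disjoint_left]
      rintro x ⟨a, ha, rfl⟩ hx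
      have : algebraMap A B a = 0 := by
        rw [← π.commutes, MvPolynomial.algebraMap_eq]; exact hx
      exact nonZeroDivisors.ne_zero ha ((injective_iff_map_eq_zero _).1
        (FaithfulSMul.algebraMap_injective A B) a this)
    haveI hprime := IsLocalization.isPrime_of_isPrime_disjoint _ S' P inferInstance hdisj
    haveI : (P.map (algebraMap S S')).IsMaximal := by
      refine isMaximal_of_integral _ hprime fun i => ?_
      obtain ⟨g, hg, hg0⟩ := Algebra.IsIntegral.isIntegral (R := A) (π (MvPolynomial.X i))
      refine ⟨g.map (algebraMap A K), hg.map _, ?_⟩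
      have hmem : Polynomial.aeval (MvPolynomial.X i : S) g ∈ P := by
        show π _ = 0
        rw [← Polynomial.aeval_algHom_apply]
        exact hg0
      have h0 : Ideal.Quotient.mk (P.map (algebraMap S S'))
          (algebraMap S S' (Polynomial.aeval (MvPolynomial.X i : S) g)) = 0 :=
        Ideal.Quotient.eq_zero_iff_mem.2 (Ideal.mem_map_of_mem _ hmem)
      rw [Polynomial.eval₂_map, ← h0, Polynomial.aeval_def, Polynomial.hom_eval₂, Polynomial.hom_eval₂]
      congr 1
      · ext a
        show Ideal.Quotient.mk _ (algebraMap K S' (algebraMap A K a)) =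
          Ideal.Quotient.mk _ (algebraMap S S' (algebraMap A S a))
        congr 1
        exact (MvPolynomial.map_C (algebraMap A K) a).symm
      · simp [S, S']
    rw [← IsLocalization.height_map_of_disjoint _ P hdisj (S := S')]
    exact DimLib.height_eq_of_isMaximal_mvPolynomial n _
  -- the height of `M` is `dim A + n`
  let m := IsLocalRing.maximalIdeal A
  haveI : (N.under A).IsMaximal := Ideal.isMaximal_comap_of_isIntegral_of_isMaximal N
  haveI : M.LiesOver m := ⟨by
    refine (IsLocalRing.eq_maximalIdeal (inferInstance : (N.under A).IsMaximal)).symm.trans ?_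
    ext a
    show algebraMap A B a ∈ N ↔ π (algebraMap A S a) ∈ N
    rw [π.commutes]⟩
  have hM : M.height = m.height + n := by
    rw [Ideal.height_eq_height_add_of_liesOver_of_hasGoingDown m M]
    congr 1
    letI : Field (A ⧸ m) := Ideal.Quotient.field m
    let e : MvPolynomial (Fin n) (A ⧸ m) ≃+* S ⧸ m.map (algebraMap A S) :=
      (MvPolynomial.quotientEquivQuotientMvPolynomial m).toRingEquiv.trans
        (Ideal.quotEquivOfEq (by rw [MvPolynomial.algebraMap_eq]))
    haveI : (M.map (Ideal.Quotient.mk (m.map (algebraMap A S)))).IsMaximal :=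
      Ideal.IsMaximal.map_of_surjective_of_ker_le Ideal.Quotient.mk_surjective
        (by rw [Ideal.mk_ker]; exact Ideal.map_le_iff_le_comap.2 (Ideal.LiesOver.over (P := M) (p := m)).le)
    rw [← e.height_comap]
    haveI := Ideal.comap_isMaximal_of_surjective (f := e) e.surjective
      (K := M.map (Ideal.Quotient.mk (m.map (algebraMap A S))))
    exact DimLib.height_eq_of_isMaximal_mvPolynomial n _
  -- catenarity
  have hcat : CAlg.IsCatenary S := hA.2 S inferInstance
  have hsum := hq_add_eq hcat (p := (⊥ : Ideal S)) (s := P) (q := M) bot_le hPM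
  have hb : ∀ I : Ideal S, hq (⊥ : Ideal S) I = I.height := fun I => by
    show (I.map (Ideal.Quotient.mk (⊥ : Ideal S))).height = I.height
    rw [← (RingEquiv.quotientBot S).height_map (I.map (Ideal.Quotient.mk (⊥ : Ideal S)))]
    congr 1
    refine (Ideal.map_map (Ideal.Quotient.mk ⊥) (RingEquiv.quotientBot S).toRingHom (I := I)).trans ?_
    convert Ideal.map_id I
    ext <;> rfl
  rw [hb, hb, hM, hP, add_comm m.height] at hsum
  have hx : hq P M = m.height := WithTop.add_left_cancel (ENat.natCast_ne_top n) hsum
  rw [IsLocalization.AtPrime.ringKrullDim_eq_height N, ← IsLocalRing.maximalIdeal_height_eq_ringKrullDim]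
  show (N.height : WithBot ℕ∞) = (m.height : WithBot ℕ∞)
  rw [← hx]
  congr 1
  show N.height = (M.map (Ideal.Quotient.mk P)).height
  let e : S ⧸ P ≃+* B := RingHom.quotientKerEquivOfSurjective (f := π.toRingHom) hπ
  rw [← e.height_comap N]
  congr 1
  ext x
  obtain ⟨y, rfl⟩ := Ideal.Quotient.mk_surjective x
  rw [Ideal.mem_comap, show e (Ideal.Quotient.mk P y) = π y from rfl, Ideal.mem_quotient_iff_mem_sup,
    sup_eq_left.2 hPM]
  rfl


/-- Let A be a universally catenary Noetherian local domain and B a domain containing A which is a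
finite A-algebra. Then for every maximal ideal n of B the local ring B_n has the same Krull
dimension as A. -/
theorem result (A B : Type u) [CommRing A] [IsDomain A]
    [IsNoetherianRing A] [IsLocalRing A] (hA : CAlg.IsUniversallyCatenary A) [CommRing B] [IsDomain B]
    [Algebra A B] [FaithfulSMul A B] [Module.Finite A B] (n : Ideal B) [n.IsMaximal] :
    ringKrullDim (Localization.AtPrime n) = ringKrullDim A := by
  exact key A B hA n

end Groth.Agent.S4689
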