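import Groth.Statements.S9124
import Groth.Agent.CAlgH.Catenary
import Mathlib.RingTheory.Spectrum.Prime.Topology

set_option autoImplicit false
universe u
open CAlg

namespace Groth.Agent.S9124

/-- A localization of a catenary ring is catenary. -/
theorem result (A : Type u) [CommRing A] (S : Submonoid A)
    (B : Type u) [CommRing B] [Algebra A B] [IsLocalization S B]
    (hA : CAlg.IsCatenary A) : CAlg.IsCatenary B := by
  let e : PrimeSpectrum B ↪o PrimeSpectrum A := OrderEmbedding.ofMapLEIff (PrimeSpectrum.comap (algebraMap A B))
    fun a b => by
      constructor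
      · intro h
        show a.asIdeal ≤ b.asIdeal
        rw [← IsLocalization.map_under S B a.asIdeal, ← IsLocalization.map_under S B b.asIdeal]
        exact Ideal.map_mono h
      · exact fun h => Ideal.comap_mono h
  refine Groth.Agent.CAlgH.isCatenary_of_embedding e (fun a b x _ h2 => ?_) hA
  show x ∈ Set.range (PrimeSpectrum.comap (algebraMap A B))
  rw [PrimeSpectrum.localization_comap_range B S]
  exact Set.disjoint_left.mpr fun s hs hx => by
    have hb : s ∈ (Ideal.comap (algebraMap A B) b.asIdeal) := h2 hx
    exact b.isPrime.ne_top (Ideal.eq_top_of_isUnit_mem _ hb (IsLocalization.map_units B ⟨s, hs⟩))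

end Groth.Agent.S9124
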