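import Groth.Statements.S0376
import Groth.Agent.DualLib.FiniteAdjoint
import Groth.Agent.DualLib.RelExists
import Groth.Agent.DualLib.Self
import Groth.Agent.CAlgH.CompleteLocal
import Groth.Agent.DRingLib.GlobalDim
import Groth.Agent.CAlgH3.RegularHom
import Groth.Agent.LocCoh.Gorenstein

set_option autoImplicit false
universe u v
open CategoryTheory
attribute [local instance] HasDerivedCategory.standard
open Dual

namespace Groth.Agent.S0376

/-- A complete Noetherian local ring has a dualizing complex. -/
theorem result (A : Type u) [CommRing A] [IsLocalRing A] [IsNoetherianRing A] [IsAdicComplete (IsLocalRing.maximalIdeal A) A] : ∃ ω : Dual.D A, Dual.IsDualizing A ω := by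
  obtain ⟨Λ, _, n, f, hΛ, hf⟩ := Groth.Agent.CAlgH.exists_surjective_mvPowerSeries A (IsNoetherian.noetherian _)
  haveI : IsRegularLocalRing Λ := by
    rcases hΛ with h | h
    · letI := h.toField
      infer_instance
    · obtain ⟨hdom, hdvr, -⟩ := h
      infer_instance
  let S := MvPowerSeries (Fin n) Λ
  haveI : IsRegularLocalRing S := (Groth.Agent.CAlgH.isRegularLocalRing_mvPowerSeries Λ n).1
  obtain ⟨d, hd⟩ := Groth.Agent.LocCoh.exists_dim_eq (R := S)
  have hS := Groth.Agent.DualLib.isDualizing_self (A := S) (d + 1)
    (Groth.Agent.DRingLib.injDim_of_regular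
      (fun p => Groth.Agent.CAlgH3.isRegularLocalRing_localization p.asIdeal) d hd.le (ModuleCat.of S S))
  letI : Algebra S A := f.toAlgebra
  haveI : Module.Finite S A := Module.Finite.of_surjective (Algebra.linearMap S A) hf
  haveI := Groth.Agent.DualLib.hasRHomRel (algebraMap S A)
  exact ⟨_, Groth.Agent.DualLib.FiniteAdjoint.isDualizing_obj (DTen.relAdj (algebraMap S A)) hS⟩

end Groth.Agent.S0376
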