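import Groth.Statements.S8796
import Groth.Agent.CAlgH3.DT.AdicPoint
import Groth.Agent.CommAlg6.SerreOpen
-- import your own Groth.Agent.* helpers here

set_option autoImplicit false
universe u
open CategoryTheory
open Dual2

namespace Groth.Agent.S8796

/-- Let A be a Noetherian ring with a dualizing complex, I an ideal with cd(A, I) ≤ d, M a finite
A-module, T ⊆ V(I) a subset stable under specialization and s a natural, satisfying: (4) for primes
p ⊆ r ⊆ q with p ∉ V(I), r ∈ V(I) ∖ T and q ∈ T, either depth(M_p) ≥ s or depth(M_p) + dim((A/p)_q)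
> d + s; (6) for q ∈ T, writing A', I', M' for the I-adic completions of A_q, IA_q, M_q, one has
depth(M'_{p'}) > s for every prime p' of A' not containing I' such that the only primes containing
both p' and I' are maximal. Let p ⊆ q be primes with p ∉ V(I) and q ∈ T such that no prime r with p
⊆ r ⊆ q lies in V(I) ∖ T. Then depth(M_p) > s. -/
theorem result (A : Type u) [CommRing A] [IsNoetherianRing A] (hdc : ∃ ω : Dual.D A, Dual.IsDualizing A ω) (I : Ideal A) (d : ℕ) (hcd : LocCoh.CdLE A I d) (M : Type u) [AddCommGroup M] [Module A M] [Module.Finite A M] (T : Set (PrimeSpectrum A)) (hTI : T ⊆ PrimeSpectrum.zeroLocus (I : Set A)) (hT : StableUnderSpecialization T) (s : ℕ) (h4 : ∀ p r q : PrimeSpectrum A, p ≤ r → r ≤ q → ¬ I ≤ p.asIdeal → I ≤ r.asIdeal → r ∉ T → q ∈ T → (s : ℕ∞) ≤ LocCoh.depth (Localization.AtPrime p.asIdeal) (LocalizedModule p.asIdeal.primeCompl M) ∨ ((d + s : ℕ) : WithBot ℕ∞) < (LocCoh.depth (Localization.AtPrime p.asIdeal) (LocalizedModule p.asIdeal.primeCompl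 M) : WithBot ℕ∞) + Formal2.dimBetween A p.asIdeal q.asIdeal) (h6 : ∀ q : PrimeSpectrum A, q ∈ T → ∀ p' : PrimeSpectrum (AdicCompletion (I.map (algebraMap A (Localization.AtPrime q.asIdeal))) (Localization.AtPrime q.asIdeal)), ¬ (I.map (algebraMap A (AdicCompletion (I.map (algebraMap A (Localization.AtPrime q.asIdeal))) (Localization.AtPrime q.asIdeal)))) ≤ p'.asIdeal → (∀ q' : PrimeSpectrum (AdicCompletion (I.map (algebraMap A (Localization.AtPrime q.asIdeal))) (Localization.AtPrime q.asIdeal)), p' ≤ q' → (I.map (algebraMap A (AdicCompletion (I.map (algebraMap A (Localization.AtPrime q.asIdeal))) (Localization.AtPrime q.asIdeal)))) ≤ q'.asIdeal → q'.asIdeal.IsMaximal) → (s : ℕ∞) < LocCoh.depth (Localization.AtPrime p'.asIdeal) (LocalizedModule p'.asIdeal.primeCompl (AdicCompletion (I.map (algebraMap A (Localization.AtPrime q.asIdeal))) (LocalizedModule q.asIdeal.primeCompl M)))) (p q : PrimeSpectrum A) (hpq : p ≤ q) (hp : ¬ I ≤ p.asIdeal) (hq : q ∈ T) (hr : ∀ r : PrimeSpectrum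 A, p ≤ r → r ≤ q → I ≤ r.asIdeal → r ∈ T) : (s : ℕ∞) < LocCoh.depth (Localization.AtPrime p.asIdeal) (LocalizedModule p.asIdeal.primeCompl M) := by
  obtain ⟨r₀, hr₀, hrq⟩ := Ideal.exists_minimalPrimes_le
    (sup_le hpq (show I ≤ q.asIdeal from hTI hq) : p.asIdeal ⊔ I ≤ q.asIdeal)
  obtain ⟨r, rfl⟩ : ∃ r : PrimeSpectrum A, r.asIdeal = r₀ := ⟨⟨r₀, hr₀.1.1⟩, rfl⟩
  have hpr : p.asIdeal ≤ r.asIdeal := le_sup_left.trans hr₀.1.2
  have hIr : I ≤ r.asIdeal := le_sup_right.trans hr₀.1.2
  have hrT : r ∈ T := hr r hpr hrq hIr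
  let Ar := Localization.AtPrime r.asIdeal
  haveI : IsNoetherianRing Ar := IsLocalization.isNoetherianRing r.asIdeal.primeCompl _ inferInstance
  haveI : Module.Finite Ar (LocalizedModule r.asIdeal.primeCompl M) :=
    Module.Finite.of_isLocalizedModule r.asIdeal.primeCompl (LocalizedModule.mkLinearMap r.asIdeal.primeCompl M)
  have hdisj : Disjoint (r.asIdeal.primeCompl : Set A) (p.asIdeal : Set A) :=
    Set.disjoint_left.2 fun x hx hxp => hx (hpr hxp)
  let P : Ideal Ar := p.asIdeal.map (algebraMap A Ar)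
  haveI : P.IsPrime := IsLocalization.isPrime_of_isPrime_disjoint r.asIdeal.primeCompl _ _ p.isPrime hdisj
  have hPu : P.under A = p.asIdeal :=
    IsLocalization.under_map_of_isPrime_disjoint r.asIdeal.primeCompl _ p.isPrime hdisj
  have hu : (IsLocalRing.maximalIdeal Ar).under A = r.asIdeal :=
    IsLocalization.AtPrime.under_maximalIdeal Ar r.asIdeal
  obtain ⟨p', hp', hq', hdepth⟩ := Groth.Agent.CAlgH3.DT.exists_point (I.map (algebraMap A Ar))
    (LocalizedModule r.asIdeal.primeCompl M) (IsLocalRing.maximalIdeal Ar)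
    (Ideal.map_le_iff_le_comap.2 (hIr.trans hu.ge)) P (Ideal.map_le_iff_le_comap.2 (hpr.trans hu.ge))
    (fun h => hp ((Ideal.map_le_iff_le_comap.1 h).trans hPu.le))
    (fun Q hQ hPQ hIQ => by
      haveI := hQ
      have hQm : Q ≤ IsLocalRing.maximalIdeal Ar := IsLocalRing.le_maximalIdeal hQ.ne_top
      have h1 : Q.under A ≤ r.asIdeal := (Ideal.comap_mono hQm).trans hu.le
      have h2 : r.asIdeal ≤ Q.under A := hr₀.2 ⟨inferInstance, sup_le (hPu.ge.trans (Ideal.comap_mono hPQ))
        (Ideal.map_le_iff_le_comap.1 hIQ)⟩ h1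
      rw [← IsLocalization.map_under r.asIdeal.primeCompl Ar Q,
        ← IsLocalization.map_under r.asIdeal.primeCompl Ar (IsLocalRing.maximalIdeal Ar), hu,
        le_antisymm h1 h2])
  have e : I.map (algebraMap A (AdicCompletion (I.map (algebraMap A Ar)) Ar)) =
      (I.map (algebraMap A Ar)).map (algebraMap Ar (AdicCompletion (I.map (algebraMap A Ar)) Ar)) := by
    rw [Ideal.map_map, ← IsScalarTower.algebraMap_eq]
  have h := h6 r hrT p' (fun h => hp' (e.ge.trans h)) (fun x hx hxI => hq' x hx (e.ge.trans hxI))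
  rw [hdepth, (Groth.Agent.CommAlg6.localized_localized r.asIdeal M P).2] at h
  rw [← show (⟨P.under A, inferInstance⟩ : PrimeSpectrum A) = p from PrimeSpectrum.ext hPu]
  exact h


end Groth.Agent.S8796
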