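import Groth.Statements.S8914
import Groth.Agent.CurveRR24.PointInv
import Mathlib

set_option autoImplicit false
universe u
open CategoryTheory CategoryTheory.Limits AlgebraicGeometry TopologicalSpace
open SDiv Groth.Agent.Coherent

namespace Groth.Agent.S8914

/-- Let S be a scheme and D ⊆ S a closed subscheme with quasi-coherent ideal sheaf 𝓘. Then the ideal
sheaf of D is an invertible O_S-module (that is, D is an effective Cartier divisor) if and only if
every point has an affine open neighbourhood Spec A in S with D ∩ Spec A = Spec A/(f) for a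
nonzerodivisor f ∈ A. -/
theorem result {S : Scheme.{u}} (𝓘 : S.IdealSheafData) :
    PicF.IsInvertible (ClSub.idealMod 𝓘) ↔ BlowUp.IsEffCartierIdeal 𝓘 := by
  haveI := AmpleLib.mono_idealModι 𝓘
  constructor
  · intro h x
    obtain ⟨V, hxV, k₀, hk₀⟩ := PicLib.exists_isGen h x
    obtain ⟨_, ⟨W, hW, rfl⟩, hxW, hWV⟩ := S.isBasis_affineOpens.exists_subset_of_mem_open hxV V.isOpen
    let k := resM _ (show W ≤ V from hWV) k₀
    have hb := hk₀ W hWV
    have key : ∀ r : Γ(S, W), (ClSub.idealModι 𝓘).app W (r • k) =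
        r * (show Γ(S, W) from (ClSub.idealModι 𝓘).app W k) := fun r => by
      rw [Scheme.Modules.Hom.app_smul]; rfl
    refine ⟨⟨W, hW⟩, hxW, (ClSub.idealModι 𝓘).app W k, ?_, le_antisymm (fun a ha => ?_) ?_⟩
    · refine mem_nonZeroDivisors_iff_right.2 fun (r : Γ(S, W)) hr => ?_
      refine hb.1 (a₁ := r) (a₂ := 0) ?_
      refine Coherent.app_injective_of_mono (ClSub.idealModι 𝓘) W ?_
      show (ClSub.idealModι 𝓘).app W (r • k) = (ClSub.idealModι 𝓘).app W ((0 : Γ(S, W)) • k)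
      rw [key, key, zero_mul]
      exact hr
    · obtain ⟨m, hm⟩ := (AmpleLib.mem_range_idealModι 𝓘 W a).2
        (RingHom.mem_ker.1 ((𝓘.ker_subschemeι_app ⟨W, hW⟩).symm ▸ ha))
      obtain ⟨r, hr⟩ := hb.2 m
      exact Ideal.mem_span_singleton'.2 ⟨r, (key r).symm.trans ((congrArg _ hr).trans hm)⟩
    · refine Ideal.span_le.2 (Set.singleton_subset_iff.2 ?_)
      exact (𝓘.ker_subschemeι_app ⟨W, hW⟩).le (RingHom.mem_ker.2 ((AmpleLib.mem_range_idealModι 𝓘 W _).1 ⟨k, rfl⟩))
  · intro h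
    refine PicLib.isInvertible_of_gens fun x => ?_
    obtain ⟨U, hxU, f, hf, hfI⟩ := h x
    obtain ⟨k, hk⟩ := (AmpleLib.mem_range_idealModι 𝓘 U.1 f).2
      (RingHom.mem_ker.1 ((𝓘.ker_subschemeι_app U).symm ▸ hfI.ge (Ideal.mem_span_singleton_self f)))
    exact ⟨U.1, hxU, k, CurveRR24.bijective_smul_of_affine_gen 𝓘 U.2 hk
      (isRegular_iff_mem_nonZeroDivisors.2 hf).left hfI⟩
end Groth.Agent.S8914
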