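import Groth.Statements.S3852
import Groth.Agent.FSchLib.Systems

set_option autoImplicit false
universe u
open FCompl

namespace Groth.Agent.S3852

open AlgebraicGeometry in
/-- Second assertion; stated for quasi-coherent ideal sheaves, with the condition on supports as an
inclusion, which is what the proof uses: Let X be a Noetherian scheme and I, J ideal sheaves such
that the zero locus of J is contained in the zero locus of I. Then I^n ≤ J for some n ≥ 1. -/
theorem result
    (X : Scheme.{u}) [IsNoetherian X] (I J : X.IdealSheafData)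
    (h : (J.support : Set X) ⊆ I.support) :
    ∃ n : ℕ, I ^ (n + 1) ≤ J := by
  open Classical in
  obtain ⟨t, ht⟩ := isCompact_univ.elim_finite_subcover
    (fun U : X.affineOpens => (U.1 : Set X)) (fun U => U.1.2) (fun x _ => by
      obtain ⟨U, hU, hxU, -⟩ := exists_isAffineOpen_mem_and_subset (x := x) (U := ⊤) (Set.mem_univ _)
      exact Set.mem_iUnion.2 ⟨⟨U, hU⟩, hxU⟩)
  have key : ∀ U : X.affineOpens, ∃ n : ℕ, I.ideal U ^ n ≤ J.ideal U := by
    intro U
    have := IsLocallyNoetherian.component_noetherian U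
    refine Ideal.exists_pow_le_of_le_radical_of_fg ?_ (IsNoetherian.noetherian _)
    have h1 : X.zeroLocus (U := U.1) (J.ideal U) ∩ U.1 ⊆ X.zeroLocus (U := U.1) (I.ideal U) ∩ U.1 := by
      rw [← Scheme.IdealSheafData.coe_support_inter, ← Scheme.IdealSheafData.coe_support_inter]
      exact Set.inter_subset_inter_left _ h
    have hU : IsAffineOpen U.1 := U.2
    rw [← hU.fromSpec_image_zeroLocus, ← hU.fromSpec_image_zeroLocus] at h1
    exact (PrimeSpectrum.zeroLocus_subset_zeroLocus_iff _ _).1
      ((Set.image_subset_image_iff hU.fromSpec.isOpenEmbedding.injective).1 h1)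
  choose n hn using key
  refine ⟨t.sup n, Scheme.IdealSheafData.le_of_iSup_eq_top (fun U : t => U.1)
    (top_le_iff.1 fun x _ => ?_) fun U => ?_⟩
  · obtain ⟨U, hU, hxU⟩ := Set.mem_iUnion₂.1 (ht (Set.mem_univ x))
    exact TopologicalSpace.Opens.mem_iSup.2 ⟨⟨U, hU⟩, hxU⟩
  · rw [Scheme.IdealSheafData.ideal_pow, Pi.pow_apply]
    exact (Ideal.pow_le_pow_right (Nat.le_succ_of_le (Finset.le_sup U.2))).trans (hn U)

end Groth.Agent.S3852
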