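import Groth.Statements.S17768
import Groth.Agent.GrLib.GradedDim
import Groth.Agent.GrLib.Positive
import Groth.Agent.LocCoh.Finiteness

set_option autoImplicit false
set_option linter.style.haveILetI false
universe u
open GrLC

namespace Groth.Agent.S17768

theorem isArtinian_of_pow_smul {R : Type u} [CommRing R] [IsNoetherianRing R] {m : Ideal R} [m.IsMaximal]
    (T : Type u) [AddCommGroup T] [Module R T] [Module.Finite R T] {n : ℕ} (hn : ∀ r ∈ m ^ n, ∀ t : T, r • t = 0) :
    IsArtinian R T := by
  haveI : Ring.KrullDimLE 0 (R ⧸ m ^ n) := Ring.KrullDimLE.mk₀ fun p hp => by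
    haveI := hp
    have hle : m ≤ p.comap (Ideal.Quotient.mk (m ^ n)) := fun a ha => hp.mem_of_pow_mem n (by
      rw [← map_pow, Ideal.Quotient.eq_zero_iff_mem.2 (Ideal.pow_mem_pow ha n)]
      exact zero_mem _)
    have heq := (inferInstance : m.IsMaximal).eq_of_le (Ideal.IsPrime.ne_top inferInstance) hle
    haveI : (p.comap (Ideal.Quotient.mk (m ^ n))).IsMaximal := heq ▸ inferInstance
    rw [← Ideal.map_comap_of_surjective _ Ideal.Quotient.mk_surjective p]
    exact Ideal.IsMaximal.map_of_surjective_of_ker_le Ideal.Quotient.mk_surjective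
      (by
        intro a ha
        rw [Ideal.mem_comap, RingHom.mem_ker.1 ha]
        exact zero_mem _)
  haveI : IsArtinianRing (R ⧸ m ^ n) := IsNoetherianRing.isArtinianRing_of_krullDimLE_zero
  have htor : Module.IsTorsionBySet R T (m ^ n : Ideal R) := fun t r => hn r r.2 t
  letI : Module (R ⧸ m ^ n) T := htor.module
  haveI : IsScalarTower R (R ⧸ m ^ n) T := htor.isScalarTower
  haveI : Module.Finite (R ⧸ m ^ n) T := Module.Finite.of_restrictScalars_finite R _ T
  haveI : IsArtinian (R ⧸ m ^ n) T := isArtinian_of_fg_of_artinian'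
  exact isArtinian_of_surjective_algebraMap (R := R ⧸ m ^ n) Ideal.Quotient.mk_surjective

theorem isArtinian_H_maximal {R : Type u} [CommRing R] [IsNoetherianRing R] (m : Ideal R) [m.IsMaximal] :
    ∀ (i : ℕ) (M : Type u) [AddCommGroup M] [Module R M] [Module.Finite R M],
      IsArtinian R (_root_.LocCoh.H m i M) := by
  intro i
  induction i with
  | zero =>
    intro M _ _ _
    let T := Groth.Agent.LocCoh.powTorsion m M
    haveI : Module.Finite R T := Module.Finite.iff_fg.2 (IsNoetherian.noetherian T)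
    obtain ⟨n, hn⟩ := GrLib.exists_pow_kill m T fun x => by
      obtain ⟨j, hj⟩ := x.2
      exact ⟨j, fun r hr => Subtype.ext (hj r hr)⟩
    haveI : IsArtinian R T := isArtinian_of_pow_smul T hn
    exact isArtinian_of_linearEquiv (Groth.Agent.LocCoh.H0Equiv _ M).symm
  | succ i ih =>
    intro M _ _ _
    obtain ⟨x, hx, hreg⟩ := Groth.Agent.LocCoh.exists_regular_quot m M
    haveI := Groth.Agent.LocCoh.isArtinian_H_succ_of_regular hx hreg i (ih (QuotSMulTop x _))
    exact isArtinian_of_linearEquiv (Groth.Agent.LocCoh.HquotEquiv _ M i).symm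



/-- Let R = ⊕_{n ≥ 0} R_n be a Noetherian positively ℤ-graded ring which is *local with unique
homogeneous maximal ideal m (equivalently R_0 is local), and let M be a finitely generated graded
R-module. Then for every i and every n the homogeneous piece H^i_m(M)_n of the graded local
cohomology with support in m, computed from any *injective resolution of M in the graded category,
is an Artinian R_0-module. -/
theorem result (R : Type u) [CommRing R] [IsNoetherianRing R] (𝒜 : ℤ → AddSubgroup R) [GradedRing 𝒜] (hpos : ∀ n : ℤ, n < 0 → 𝒜 n = ⊥) (m : HomogeneousIdeal 𝒜) (hm : GrLC.IsStarLocal 𝒜 m) (M : Type u) [AddCommGroup M] [Module R M] [Module.Finite R M] (ℳ : ℤ → AddSubgroup M) [DirectSum.Decomposition ℳ] [SetLike.GradedSMul 𝒜 ℳ] (E : GrLC.StarInjRes 𝒜 ℳ) (i : ℕ) (n : ℤ) : IsArtinian (GrLC.deg0 𝒜) (E.Hcomp m i n) := by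
  have hpos' : ∀ n : ℤ, n < 0 → ∀ r ∈ 𝒜 n, r = 0 := fun n hn r hr => by
    rw [hpos n hn] at hr
    exact hr
  haveI := GrLib.isMaximal_starMaximal hpos' hm
  haveI := isArtinian_H_maximal m.toIdeal i M
  obtain ⟨e⟩ := GrLib.nonempty_H_equiv E m i
  haveI : IsArtinian R (E.H m i) := isArtinian_of_linearEquiv e.symm
  letI := GrLib.Hdecomp E m i
  exact GrLib.isArtinian_piece 𝒜 (E.Hgr m i) n

end Groth.Agent.S17768
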