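import Groth.Statements.S1885
import Groth.Agent.GrpdLib.GenericThickMain

set_option autoImplicit false
universe u
open CategoryTheory CategoryTheory.Limits AlgebraicGeometry
open Grpd

namespace Groth.Agent.S1885

/-- For a groupoid scheme (U, R, s, t, c) over S whose source and target maps are finite and of finite
presentation, take u₁, …, u_m points of U such that every point in their R-orbits is generic in an
irreducible component of U; j : U → Spec A an immersion; I ⊆ A an ideal with j(U) ∩ V(I) = ∅ and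
V(I) ∪ j(U) closed. Then for some h ∈ I the preimage j⁻¹D(h) is an R-invariant affine open of U
containing u₁, …, u_m. (A groupoid scheme carries U, R, s, t, c, e, i over S with the groupoid
axioms on T-points; 'finite locally free' is finite, flat and locally of finite presentation; C ⊂
Γ(U) is the ring of functions a with s♯(a) = t♯(a) and M = Spec C.) -/
theorem result (S : Scheme.{u}) (G : Grpd.GroupoidScheme S) [IsFinite G.s] [LocallyOfFinitePresentation G.s] [IsFinite G.t] [LocallyOfFinitePresentation G.t] (m : ℕ) (u : Fin m → G.U) (hu : ∀ i (r : G.R), G.s r = u i → ∀ x : G.U, x ⤳ G.t r → x = G.t r) (A : Type u) [CommRing A] (j : G.U ⟶ Spec (CommRingCat.of A)) [IsImmersion j] (I : Ideal A) (hI : ∀ x : G.U, j x ∉ PrimeSpectrum.zeroLocus (I : Set A)) (hcl : IsClosed (PrimeSpectrum.zeroLocus (I : Set A) ∪ Set.range j)) : ∃ h ∈ I, IsAffineOpen (j ⁻¹ᵁ PrimeSpectrum.basicOpen h) ∧ (∀ i, u i ∈ j ⁻¹ᵁ PrimeSpectrum.basicOpen h) ∧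 G.s ⁻¹ᵁ (j ⁻¹ᵁ PrimeSpectrum.basicOpen h) = G.t ⁻¹ᵁ (j ⁻¹ᵁ PrimeSpectrum.basicOpen h) := by
  classical
  have : QuasiSeparatedSpace G.U := quasiSeparatedSpace_of_quasiSeparated (X := G.U) (Y := Spec (CommRingCat.of A)) j
  obtain ⟨V, V', hV, huV, hinv, hsupp, -, -, hfree, -⟩ := GrpdLib.GenericThick.exists_thickening G (fun r U => by
    let _ := (G.s.app U.1).hom.toAlgebra
    have h1 : Module.Finite Γ(G.U, U.1) Γ(G.R, G.s ⁻¹ᵁ U.1) := IsFinite.finite_app G.s U.1 U.2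
    have h2 : Algebra.FinitePresentation Γ(G.U, U.1) Γ(G.R, G.s ⁻¹ᵁ U.1) := by
      show (G.s.app U.1).hom.FinitePresentation
      rw [Scheme.Hom.app_eq_appLE]
      exact HasRingHomProperty.appLE @LocallyOfFinitePresentation G.s inferInstance U ⟨_, U.2.preimage G.s⟩ _
    have := Module.FinitePresentation.of_finite_of_finitePresentation (R := Γ(G.U, U.1)) (S := Γ(G.R, G.s ⁻¹ᵁ U.1))
    exact FittLib.ideal_fg (R := Γ(G.U, U.1)) (M := Γ(G.R, G.s ⁻¹ᵁ U.1)) r) u hu
  -- the orbit and a function in `I` cutting down into `V`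
  let O : Set G.U := ⋃ i, ⇑G.t '' (⇑G.s ⁻¹' {u i})
  have hOfin : O.Finite := Set.finite_iUnion fun i => (G.s.finite_preimage_singleton (u i)).image _
  have hO : ∀ x ∈ O, ∀ q : G.R, G.s q = x → G.t q ∈ O := fun x hx q hq => by
    obtain ⟨i, q', hq', rfl⟩ := Set.mem_iUnion.1 hx
    obtain ⟨m', hm, hm'⟩ := GrpdLib.saturation_eq G hq' hq
    exact Set.mem_iUnion.2 ⟨i, m', hm, hm'⟩
  have hOV : O ⊆ V := fun x hx => by
    obtain ⟨i, q, hq, rfl⟩ := Set.mem_iUnion.1 hx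
    exact GrpdLib.GenericThick.orbit_subset_of_invariant G hinv q (by rw [Set.mem_preimage, Set.mem_singleton_iff] at hq; rw [hq]; exact huV i)
  let C : Set (Spec (CommRingCat.of A)) := closure (⇑j '' (V : Set G.U)ᶜ)
  have hOC : ∀ x ∈ O, j x ∉ C := fun x hx hC => by
    have : x ∈ closure (V : Set G.U)ᶜ := by rw [j.isEmbedding.closure_eq_preimage_closure_image]; exact hC
    exact (V.isOpen.isClosed_compl.closure_eq.subset this) (hOV hx)
  let K : Ideal A := I ⊓ PrimeSpectrum.vanishingIdeal C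
  obtain ⟨b, hbK, hb⟩ : ∃ b ∈ K, ∀ x ∈ O, b ∉ (j x).asIdeal := by
    by_contra hcon
    push Not at hcon
    have hsub : (K : Set A) ⊆ ⋃ x ∈ (hOfin.toFinset : Set G.U), ((j x).asIdeal : Set A) := fun a ha => by
      obtain ⟨x, hx, hax⟩ := hcon a ha
      exact Set.mem_iUnion₂.2 ⟨x, by simpa using hx, hax⟩
    rcases hOfin.toFinset.eq_empty_or_nonempty with he | ⟨a, ha⟩
    · have := hsub K.zero_mem
      simp [he] at this
    · obtain ⟨x, hx, hle⟩ := (Ideal.subset_union_prime a a fun x _ _ _ => (j x).isPrime).1 hsub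
      rcases (j x).isPrime.inf_le.1 hle with h | h
      · exact hI x h
      · refine hOC x (by simpa using hx) (isClosed_closure.closure_eq.subset ?_)
        exact (PrimeSpectrum.zeroLocus_vanishingIdeal_eq_closure C).subset h
  let B : (Spec (CommRingCat.of A)).Opens := PrimeSpectrum.basicOpen b
  have hB : IsAffineOpen B := IsAffineOpen.Spec_basicOpen (R := CommRingCat.of A) b
  let D : G.U.Opens := j ⁻¹ᵁ B
  have hclo : IsClosedImmersion (j ∣_ B) := by
    refine IsClosedImmersion.of_isPreimmersion _ ?_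
    have h1 : Set.range (j ∣_ B) = ⇑B.ι ⁻¹' Set.range j := by
      ext y
      constructor
      · rintro ⟨z, rfl⟩
        exact ⟨(j ⁻¹ᵁ B).ι z, by rw [← Scheme.Hom.comp_apply, ← Scheme.Hom.comp_apply, morphismRestrict_ι]⟩
      · rintro ⟨x, hx⟩
        refine ⟨⟨x, show j x ∈ B by rw [hx]; exact y.2⟩, B.ι.isOpenEmbedding.injective ?_⟩
        refine (Scheme.Hom.comp_apply _ _ _).symm.trans ?_
        refine (congrArg (fun r : (j ⁻¹ᵁ B).toScheme ⟶ Spec (CommRingCat.of A) => r _)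
          (morphismRestrict_ι j B)).trans ?_
        refine (Scheme.Hom.comp_apply _ _ _).trans ?_
        exact hx
    rw [h1]
    have h2 : ⇑B.ι ⁻¹' Set.range j = ⇑B.ι ⁻¹' (PrimeSpectrum.zeroLocus (I : Set A) ∪ Set.range j) := by
      ext y
      refine ⟨Or.inr, fun h => h.resolve_left fun hy => ?_⟩
      exact y.2 ((hbK.1 : b ∈ I) |> fun hbI => hy hbI)
    rw [h2]
    exact hcl.preimage B.ι.continuous
  have : IsAffine B.toScheme := hB
  have hD : IsAffineOpen D := isAffine_of_isAffineHom (j ∣_ B)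
  have : IsAffine D.toScheme := hD
  have hDV : D ≤ V := fun x hx => by_contra fun hxV =>
    (show b ∉ (j x).asIdeal from hx) ((PrimeSpectrum.mem_vanishingIdeal _ _).1 hbK.2 (j x) (subset_closure ⟨x, hxV, rfl⟩))
  -- the norm trick with the function `b`
  let f : Γ((⊤ : G.U.Opens).toScheme, ⊤) :=
    ((⊤ : G.U.Opens).ι ≫ j).appTop.hom ((Scheme.ΓSpecIso (CommRingCat.of A)).inv.hom b)
  have hDf : (⊤ : G.U.Opens).ι ''ᵁ (⊤ : G.U.Opens).toScheme.basicOpen f = D := by
    rw [← Scheme.preimage_basicOpen_top, basicOpen_eq_of_affine']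
    refine TopologicalSpace.Opens.ext (Set.ext fun x => ⟨?_, fun hx => ⟨⟨x, trivial⟩, ?_, rfl⟩⟩)
    · rintro ⟨y, hy, rfl⟩
      simp [D, B] at hy ⊢
      exact hy
    · simp [D, B] at hx ⊢
      exact hx
  obtain ⟨g, hg⟩ := GrpdLib.GenericThick.exists_basicOpen_orbit_subset G V hinv V' hsupp hfree ⊤ le_top f
    (hDf ▸ hD) (hDf ▸ hDV)
  obtain ⟨W, hWaff, hW⟩ : ∃ W : D.toScheme.Opens, (∃ g : Γ(D.toScheme, ⊤), W = D.toScheme.basicOpen g) ∧
      ∀ x : G.U, x ∈ D.ι ''ᵁ W ↔ ∀ q : G.R, G.s q = x → G.t q ∈ D := by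
    have key : ∀ (E E' : G.U.Opens), E = E' → ∀ g : Γ(E.toScheme, ⊤),
        (∀ x : G.U, x ∈ E.ι ''ᵁ E.toScheme.basicOpen g ↔ ∀ q : G.R, G.s q = x → G.t q ∈ E) →
        ∃ W : E'.toScheme.Opens, (∃ g' : Γ(E'.toScheme, ⊤), W = E'.toScheme.basicOpen g') ∧
          ∀ x : G.U, x ∈ E'.ι ''ᵁ W ↔ ∀ q : G.R, G.s q = x → G.t q ∈ E' := by
      intro E E' hE g hg
      subst hE
      exact ⟨_, ⟨g, rfl⟩, hg⟩
    exact key _ D hDf g hg
  obtain ⟨g', hg'⟩ := hWaff
  subst hg'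
  -- lift `g'` to a fraction `a / b ^ n`
  obtain ⟨a₀, ha₀⟩ := (IsClosedImmersion.isAffine_surjective_of_isAffine (j ∣_ B)).2 g'
  obtain ⟨a, ha⟩ : ∃ a : A, ∀ y : B.toScheme, y ∈ B.toScheme.basicOpen a₀ ↔ a ∉ (B.ι y).asIdeal := by
    let e : Γ(B.toScheme, ⊤) ≅ Γ(Spec (CommRingCat.of A), B) := B.topIso
    let b' : Γ(Spec (CommRingCat.of A), ⊤) := (Scheme.ΓSpecIso (CommRingCat.of A)).inv.hom b
    let _ : Algebra Γ(Spec (CommRingCat.of A), ⊤) Γ(Spec (CommRingCat.of A), B) :=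
      ((Spec (CommRingCat.of A)).presheaf.map (homOfLE (le_top : B ≤ ⊤)).op).hom.toAlgebra
    have : IsLocalization.Away b' Γ(Spec (CommRingCat.of A), B) :=
      (isAffineOpen_top (Spec (CommRingCat.of A))).isLocalization_of_eq_basicOpen b' (homOfLE le_top)
        (AlgebraicGeometry.basicOpen_eq_of_affine (R := CommRingCat.of A) b).symm
    obtain ⟨⟨a', s⟩, has⟩ := IsLocalization.surj (Submonoid.powers b') (e.hom.hom a₀)
    refine ⟨(Scheme.ΓSpecIso (CommRingCat.of A)).hom.hom a', fun y => ?_⟩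
    have hu := IsLocalization.map_units Γ(Spec (CommRingCat.of A), B) s
    have h3 : (Spec (CommRingCat.of A)).basicOpen (e.hom.hom a₀) =
        (Spec (CommRingCat.of A)).basicOpen (algebraMap _ Γ(Spec (CommRingCat.of A), B) a') := by
      rw [← has, Scheme.basicOpen_mul, Scheme.basicOpen_of_isUnit _ hu, inf_eq_left.2 (Scheme.basicOpen_le _ _)]
    have h4 : B.ι ''ᵁ B.toScheme.basicOpen a₀ = (Spec (CommRingCat.of A)).basicOpen (e.hom.hom a₀) := by
      rw [Scheme.image_basicOpen]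
      simp only [e, Scheme.Opens.topIso_hom, Scheme.Opens.ι_appIso, Iso.refl_inv]
      exact ((Spec (CommRingCat.of A)).basicOpen_res_eq _ _).symm
    have h5 : y ∈ B.toScheme.basicOpen a₀ ↔ B.ι y ∈ B.ι ''ᵁ B.toScheme.basicOpen a₀ :=
      ⟨fun h => ⟨y, h, rfl⟩, fun ⟨z, hz, hzy⟩ =>
        (congrArg (· ∈ B.toScheme.basicOpen a₀) (B.ι.isOpenEmbedding.injective hzy)).mp hz⟩
    rw [h5, h4, h3]
    show B.ι y ∈ (Spec (CommRingCat.of A)).basicOpen (((Spec (CommRingCat.of A)).presheaf.map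
      (homOfLE (le_top : B ≤ ⊤)).op).hom a') ↔ _
    rw [Scheme.basicOpen_res, AlgebraicGeometry.basicOpen_eq_of_affine']
    exact ⟨fun h => h.2, fun h => ⟨y.2, h⟩⟩
  refine ⟨b * a, Ideal.mul_mem_right a I hbK.1, ?_⟩
  have hDW : j ⁻¹ᵁ PrimeSpectrum.basicOpen (b * a) = D.ι ''ᵁ D.toScheme.basicOpen g' := by
    refine TopologicalSpace.Opens.ext (Set.ext fun x => ?_)
    have hmem : ∀ z : D.toScheme, z ∈ D.toScheme.basicOpen g' ↔ a ∉ (j (D.ι z)).asIdeal := fun z => by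
      rw [← ha₀, ← Scheme.preimage_basicOpen_top]
      refine (ha _).trans (Iff.of_eq (congrArg (fun p => a ∉ PrimeSpectrum.asIdeal p) ?_))
      rw [← Scheme.Hom.comp_apply, morphismRestrict_ι, Scheme.Hom.comp_apply]
    show b * a ∉ (j x).asIdeal ↔ _
    rw [(j x).isPrime.mul_mem_iff_mem_or_mem, not_or]
    constructor
    · rintro ⟨h1, h2⟩
      exact ⟨⟨x, h1⟩, (hmem ⟨x, h1⟩).2 h2, rfl⟩
    · rintro ⟨z, hz, rfl⟩
      exact ⟨z.2, (hmem z).1 hz⟩
  have one : ∀ q : G.R, G.s q ∈ D.ι ''ᵁ D.toScheme.basicOpen g' → G.t q ∈ D.ι ''ᵁ D.toScheme.basicOpen g' :=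
    fun q hq => (hW _).2 fun q' hq' => by
      obtain ⟨m', hm, hm'⟩ := GrpdLib.saturation_eq G (u := G.s q) rfl hq'
      exact hm' ▸ (hW _).1 hq m' hm
  rw [hDW]
  refine ⟨((isAffineOpen_top D.toScheme).basicOpen g').image_of_isOpenImmersion D.ι, fun i => (hW _).2 fun q hq =>
    hb _ (Set.mem_iUnion.2 ⟨i, q, hq, rfl⟩), TopologicalSpace.Opens.ext (Set.ext fun q => ⟨one q, fun hq => ?_⟩)⟩
  have := one (G.i q) (by rw [GrpdLib.s_i_apply]; exact hq)
  rwa [GrpdLib.t_i_apply] at this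

end Groth.Agent.S1885
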