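import Groth.Statements.S4723
import Groth.Agent.S4689
import Groth.Agent.CAlgMisc2.CatenaryLocal
import Groth.Agent.CAlgMisc2.Normal
import Groth.Agent.CAlgH3.CMRing
import Groth.Agent.EGA41Lib.CMParameters

set_option autoImplicit false
universe u
open EGA4

namespace Groth.Agent.S4723

/-- Prime avoidance. -/
theorem exists_avoid {R : Type u} [CommRing R] {s : Set (Ideal R)} (hs : s.Finite)
    (hp : ∀ Q ∈ s, Q.IsPrime) {I : Ideal R} (h : ∀ Q ∈ s, ¬ I ≤ Q) : ∃ x ∈ I, ∀ Q ∈ s, x ∉ Q := by
  classical
  by_contra hne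
  push Not at hne
  have hsub : (I : Set R) ⊆ ⋃ Q ∈ (hs.toFinset : Set (Ideal R)), (Q : Set R) := fun x hx => by
    obtain ⟨Q, hQ, hxQ⟩ := hne x hx
    exact Set.mem_biUnion (hs.mem_toFinset.mpr hQ) hxQ
  obtain ⟨Q, hQ, hle⟩ := (Ideal.subset_union_prime (f := fun Q : Ideal R => Q) ⊥ ⊥
    fun Q hQ _ _ => hp Q (hs.mem_toFinset.mp hQ)).mp hsub
  exact h Q (hs.mem_toFinset.mp hQ) hle

/-- Avoiding the associated primes gives regular elements. -/
theorem regular_of_avoid {R M : Type u} [CommRing R] [IsNoetherianRing R] [AddCommGroup M] [Module R M]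
    {x : R} (hx : ∀ Q ∈ associatedPrimes R M, x ∉ Q) : IsSMulRegular M x := by
  rw [isSMulRegular_iff_right_eq_zero_of_smul]
  intro m hm
  by_contra hne
  have h1 : x ∈ ⋃ Q ∈ associatedPrimes R M, (Q : Set R) := by
    rw [biUnion_associatedPrimes_eq_zero_divisors]
    exact ⟨m, hne, hm⟩
  obtain ⟨Q, hQ, hxQ⟩ := Set.mem_iUnion₂.mp h1
  exact hx Q hQ hxQ

theorem quotient_catenary {A : Type u} [CommRing A] (h : CAlg.IsUniversallyCatenary A) (q : Ideal A) :
    CAlg.IsUniversallyCatenary (A ⧸ q) := by
  haveI := h.1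
  refine ⟨inferInstance, fun S _ _ hS => ?_⟩
  letI : Algebra A S := ((algebraMap (A ⧸ q) S).comp (Ideal.Quotient.mk q)).toAlgebra
  haveI : IsScalarTower A (A ⧸ q) S := IsScalarTower.of_algebraMap_eq fun _ => rfl
  haveI := hS
  exact h.2 S (Algebra.FiniteType.trans (R := A) (S := A ⧸ q) inferInstance inferInstance)

open IsLocalRing RingTheory.Sequence nonZeroDivisors in
/-- Associated primes of a quotient by a regular sequence of a regular ring have height its length. -/
theorem height_of_associated {R : Type u} [CommRing R] [IsRegularRing R] {rs : List R}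
    (hrs : IsWeaklyRegular R rs) {Q : Ideal R}
    (hQ : Q ∈ associatedPrimes R (R ⧸ Ideal.ofList rs)) : Q.height = rs.length := by
  haveI : Q.IsPrime := IsAssociatedPrime.isPrime hQ
  obtain ⟨-, y, hy⟩ := isAssociatedPrime_iff.mp hQ
  obtain ⟨y, rfl⟩ := Ideal.Quotient.mk_surjective y
  have hy' : ∀ r, r ∈ Q ↔ r * y ∈ Ideal.ofList rs := fun r => by
    rw [hy, Submodule.mem_colon_singleton, Submodule.mem_bot,
      show r • Ideal.Quotient.mk (Ideal.ofList rs) y = Ideal.Quotient.mk _ (r * y) from rfl,
      Ideal.Quotient.eq_zero_iff_mem]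
  have hIQ : Ideal.ofList rs ≤ Q := fun r hr => (hy' r).mpr (Ideal.mul_mem_right _ _ hr)
  let L := Localization.AtPrime Q
  haveI : Module.Flat R L := IsLocalization.flat L Q.primeCompl
  let ls := rs.map (algebraMap R L)
  have hls : IsWeaklyRegular L ls := hrs.of_flat
  have hlm : ∀ z ∈ ls, z ∈ maximalIdeal L := fun z hz => by
    obtain ⟨r, hr, rfl⟩ := List.mem_map.mp hz
    exact (IsLocalization.AtPrime.to_map_mem_maximal_iff L Q r).mpr (hIQ (Ideal.subset_span hr))
  have hCM : LocCoh.IsCohenMacaulayModule L L :=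
    (Groth.Agent.CAlgH3.isCohenMacaulayLocalRing_iff L).1
      (Groth.Agent.CAlgH3.isCohenMacaulayLocalRing_of_regular L)
  obtain ⟨h1, h2⟩ := (Groth.Agent.EGA41Lib.cm_regular_sequence ls L hCM hlm).1 hls
  let N := L ⧸ (Ideal.ofList ls • (⊤ : Submodule L L))
  have hI : (Ideal.ofList ls • (⊤ : Submodule L L)) = Ideal.ofList ls := Ideal.mul_top _
  have hmap : Ideal.ofList ls = (Ideal.ofList rs).map (algebraMap R L) := (Ideal.map_ofList _ _).symm
  have hass : maximalIdeal L ∈ associatedPrimes L N := by
    refine isAssociatedPrime_iff.mpr ⟨inferInstance, Submodule.Quotient.mk (algebraMap R L y), ?_⟩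
    ext z
    rw [Submodule.mem_colon_singleton, Submodule.mem_bot, ← Submodule.Quotient.mk_smul,
      Submodule.Quotient.mk_eq_zero, hI, hmap, smul_eq_mul]
    refine ⟨fun hz => ?_, fun hz => ?_⟩
    · obtain ⟨r, s, rfl⟩ := IsLocalization.exists_mk'_eq Q.primeCompl z
      have hr := (IsLocalization.AtPrime.mk'_mem_maximal_iff L Q r s).mp hz
      rw [show IsLocalization.mk' L r s * algebraMap R L y = IsLocalization.mk' L (r * y) s by
        rw [mul_comm, IsLocalization.mul_mk'_eq_mk'_of_mul, mul_comm]]
      rw [IsLocalization.mk'_mem_map_algebraMap_iff]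
      exact ⟨1, one_mem _, by rw [one_mul]; exact (hy' r).mp hr⟩
    · by_contra hne
      rw [mem_maximalIdeal, mem_nonunits_iff, not_not] at hne
      rw [Ideal.unit_mul_mem_iff_mem _ hne, IsLocalization.algebraMap_mem_map_algebraMap_iff Q.primeCompl] at hz
      obtain ⟨s, hs, hsy⟩ := hz
      exact hs ((hy' s).mpr hsy)
  have h3 := Groth.Agent.CAlgH3.ringKrullDim_quotient_eq_of_mem_associatedPrimes h2 hass
  letI := Ideal.Quotient.field (maximalIdeal L)
  rw [ringKrullDim_eq_zero_of_field] at h3
  rw [← h3, zero_add, Module.supportDim_self_eq_ringKrullDim,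
    IsLocalization.AtPrime.ringKrullDim_eq_height Q L, List.length_map] at h1
  exact_mod_cast h1.symm

open RingTheory.Sequence in
/-- Primes contain regular sequences of length their height. -/
theorem exists_regular_of_height {R : Type u} [CommRing R] [IsRegularRing R] (P : Ideal R) [P.IsPrime]
    (i : ℕ) (hi : (i : ℕ∞) ≤ P.height) :
    ∃ rs : List R, rs.length = i ∧ (∀ r ∈ rs, r ∈ P) ∧ IsWeaklyRegular R rs := by
  induction i with
  | zero => exact ⟨[], rfl, by simp, IsWeaklyRegular.nil R R⟩
  | succ i ih =>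
    obtain ⟨rs, hl, hP, hreg⟩ := ih (le_trans (by exact_mod_cast Nat.le_succ i) hi)
    obtain ⟨x, hxP, hx⟩ : ∃ x ∈ P, ∀ Q ∈ associatedPrimes R (R ⧸ Ideal.ofList rs), x ∉ Q := by
      refine exists_avoid (associatedPrimes.finite R _) (fun Q hQ => IsAssociatedPrime.isPrime hQ)
        fun Q hQ hle => ?_
      have h1 := hi.trans (Ideal.height_mono hle)
      rw [height_of_associated hreg hQ, hl] at h1
      exact absurd (Nat.cast_le.mp h1) (Nat.not_succ_le_self i)
    refine ⟨rs ++ [x], by simp [hl], fun r hr => ?_, ?_⟩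
    · rcases List.mem_append.mp hr with h | h
      · exact hP r h
      · rw [List.mem_singleton.mp h]; exact hxP
    · rw [isWeaklyRegular_append_iff, isWeaklyRegular_singleton_iff]
      refine ⟨hreg, ?_⟩
      rw [show (Ideal.ofList rs • (⊤ : Submodule R R)) = Ideal.ofList rs from Ideal.mul_top _]
      exact regular_of_avoid hx

open IsLocalRing RingTheory.Sequence nonZeroDivisors in
/-- Sections over the complement of a height two closed set of an integral quotient of a regular
ring. -/
theorem finite_of_regular {R B : Type u} [CommRing R] [IsRegularRing R] [CommRing B] [IsDomain B]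
    [Algebra R B] (hsurj : Function.Surjective (algebraMap R B)) (J : Ideal B) (hJ : (2 : ℕ∞) ≤ J.height)
    (B' : Subalgebra B (FractionRing B))
    (hB' : ∀ x ∈ B', ∀ p : Ideal B, p.IsPrime → ¬ J ≤ p → ∃ s : B, s ∉ p ∧ ∃ a : B,
      algebraMap B (FractionRing B) a = algebraMap B (FractionRing B) s * x) :
    Module.Finite B B' := by
  classical
  let K := FractionRing B
  let π := algebraMap R B
  let P : Ideal R := RingHom.ker π
  haveI : P.IsPrime := RingHom.ker_isPrime π
  obtain ⟨h, hh⟩ : ∃ h : ℕ, (h : ℕ∞) = P.height :=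
    ENat.ne_top_iff_exists.mp (Ideal.height_ne_top (I := P) (Ideal.IsPrime.ne_top inferInstance))
  obtain ⟨rs, hl, hPrs, hreg⟩ := exists_regular_of_height P h hh.le
  let I := Ideal.ofList rs
  let G := R ⧸ I
  have hIP : I ≤ P := Ideal.span_le.mpr fun r hr => hPrs r hr
  have hPass : P ∈ associatedPrimes R G := by
    have h1 : P ∈ I.minimalPrimes := by
      refine ⟨⟨inferInstance, hIP⟩, fun Q hQ hQP => ?_⟩
      by_contra hne
      haveI := hQ.1
      obtain ⟨Q', hQ', hQ'Q⟩ := Ideal.exists_minimalPrimes_le hQ.2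
      have h2 : Q' ∈ associatedPrimes R G :=
        Module.associatedPrimes.minimalPrimes_annihilator_subset_associatedPrimes R G
          (by rwa [Ideal.annihilator_quotient])
      haveI := hQ'.1.1
      have h3 := Ideal.height_strict_mono_of_isPrime (I := Q') (J := P)
        (lt_of_le_of_lt hQ'Q (lt_of_le_not_ge hQP hne))
      rw [height_of_associated hreg h2, hl, hh] at h3
      exact lt_irrefl _ h3
    exact Module.associatedPrimes.minimalPrimes_annihilator_subset_associatedPrimes R G
      (by rwa [Ideal.annihilator_quotient])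
  obtain ⟨-, y, hy⟩ := isAssociatedPrime_iff.mp hPass
  have hy' : ∀ r : R, r • y = 0 ↔ r ∈ P := fun r => by
    rw [hy, Submodule.mem_colon_singleton, Submodule.mem_bot]
  let J' := J.comap π
  have hbig : ∀ Q : Ideal R, Q.IsPrime → J' ≤ Q → ((h + 2 : ℕ) : ℕ∞) ≤ Q.height := by
    intro Q hQ hJQ
    haveI := hQ
    have hPQ : P ≤ Q := fun r hr => hJQ (show π r ∈ J by rw [show π r = 0 from hr]; exact zero_mem _)
    let Qb := Q.map π
    haveI : Qb.IsPrime := Ideal.map_isPrime_of_surjective hsurj hPQ
    have hcm : Qb.comap π = Q := by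
      rw [Ideal.comap_map_of_surjective π hsurj, ← RingHom.ker_eq_comap_bot]
      exact sup_eq_left.mpr hPQ
    have h1 : (2 : ℕ∞) ≤ Qb.height := hJ.trans (Ideal.height_mono fun b hb => by
      obtain ⟨r, rfl⟩ := hsurj b
      exact Ideal.mem_map_of_mem π (hJQ hb))
    rw [show Qb.height = Order.height (⟨Qb, inferInstance⟩ : PrimeSpectrum B) from
      PrimeSpectrum.height_eq_orderHeight ⟨Qb, inferInstance⟩] at h1
    obtain ⟨s, hs, hsl⟩ := Order.exists_series_of_le_height (⟨Qb, inferInstance⟩ : PrimeSpectrum B) (n := 2) h1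
    haveI := (s 0).2
    haveI := (s 1).2
    have hlt : ∀ a b : Fin (s.length + 1), a < b → (s a).asIdeal.comap π < (s b).asIdeal.comap π := fun a b hab =>
      lt_of_le_not_ge (Ideal.comap_mono (s.strictMono hab).le) fun hge =>
        not_le_of_gt (show (s a).asIdeal < (s b).asIdeal from s.strictMono hab)
          ((Ideal.comap_le_comap_iff_of_surjective π hsurj _ _).mp hge)
    have l0 : P ≤ (s 0).asIdeal.comap π := fun r hr => by
      show π r ∈ (s 0).asIdeal
      rw [show π r = 0 from hr]; exact zero_mem _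
    let c0 := (s ⟨0, by omega⟩).asIdeal.comap π
    let c1 := (s ⟨1, by omega⟩).asIdeal.comap π
    let c2 := (s ⟨2, by omega⟩).asIdeal.comap π
    haveI : c0.IsPrime := Ideal.comap_isPrime π _ (H := (s _).2)
    haveI : c1.IsPrime := Ideal.comap_isPrime π _ (H := (s _).2)
    haveI : c2.IsPrime := Ideal.comap_isPrime π _ (H := (s _).2)
    have e2 : c2 = Q := by
      show (s ⟨2, by omega⟩).asIdeal.comap π = Q
      rw [show (⟨2, by omega⟩ : Fin (s.length + 1)) = Fin.last _ from Fin.ext (by simpa using hsl.symm)]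
      show s.last.asIdeal.comap π = Q
      rw [hs]; exact hcm
    have a0 : (h : ℕ∞) ≤ c0.height := hh.le.trans (Ideal.height_mono l0)
    have a1 : c0.height < c1.height := Ideal.height_strict_mono_of_isPrime (hlt _ _ (by simp [Fin.lt_def]))
    have a2 : c1.height < c2.height := Ideal.height_strict_mono_of_isPrime (hlt _ _ (by simp [Fin.lt_def]))
    rw [e2] at a2
    have b1 : ((h + 1 : ℕ) : ℕ∞) ≤ c1.height := by
      push_cast; exact Order.add_one_le_of_lt (a0.trans_lt a1)
    have b2 := Order.add_one_le_of_lt (b1.trans_lt a2)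
    exact_mod_cast b2
  -- the denominators of a section
  let den : K → Ideal R := fun x => Ideal.comap π ((⊥ : Subalgebra B K).toSubmodule.comap
    ((LinearMap.mulRight B x) ∘ₗ Algebra.linearMap B K))
  have hden : ∀ x t, t ∈ den x ↔ ∃ c : R, algebraMap B K (π t) * x = algebraMap B K (π c) := by
    intro x t
    show algebraMap B K (π t) * x ∈ (⊥ : Subalgebra B K) ↔ _
    rw [Algebra.mem_bot]
    constructor
    · rintro ⟨b, hb⟩
      obtain ⟨c, rfl⟩ := hsurj b
      exact ⟨c, hb.symm⟩
    · rintro ⟨c, hc⟩
      exact ⟨π c, hc.symm⟩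
  have havoid : ∀ x ∈ B', ∀ Q : Ideal R, Q.IsPrime → den x ≤ Q → J' ≤ Q := by
    intro x hx Q hQ hle
    haveI := hQ
    have hPQ : P ≤ Q := fun r hr => hle ((hden x r).mpr ⟨0, by
      rw [show π r = 0 from hr, map_zero π, map_zero, zero_mul]⟩)
    by_contra hJQ
    haveI : (Q.map π).IsPrime := Ideal.map_isPrime_of_surjective hsurj hPQ
    have hcm : (Q.map π).comap π = Q := by
      rw [Ideal.comap_map_of_surjective π hsurj, ← RingHom.ker_eq_comap_bot]
      exact sup_eq_left.mpr hPQ
    obtain ⟨s, hs, a, ha⟩ := hB' x hx (Q.map π) inferInstance fun h' => hJQ fun r hr => hcm.le (h' hr)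
    obtain ⟨t, rfl⟩ := hsurj s
    obtain ⟨c, rfl⟩ := hsurj a
    exact hs (Ideal.mem_map_of_mem π (hle ((hden x t).mpr ⟨c, ha.symm⟩)))
  have hregden : ∀ x ∈ B', ∃ a ∈ den x, IsSMulRegular G a ∧ ∃ b ∈ den x,
      IsSMulRegular (R ⧸ Ideal.ofList (rs ++ [a])) b := by
    intro x hx
    have step : ∀ ss : List R, ss.length ≤ h + 1 → IsWeaklyRegular R ss →
        ∃ a ∈ den x, IsSMulRegular (R ⧸ Ideal.ofList ss) a := by
      intro ss hss hssreg
      obtain ⟨a, ha, hav⟩ := exists_avoid (I := den x) (associatedPrimes.finite R (R ⧸ Ideal.ofList ss))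
        (fun Q hQ => IsAssociatedPrime.isPrime hQ) fun Q hQ hle => by
          have hQp := IsAssociatedPrime.isPrime hQ
          have h1 := hbig Q hQp (havoid x hx Q hQp hle)
          rw [height_of_associated hssreg hQ] at h1
          have := Nat.cast_le.mp h1
          omega
      exact ⟨a, ha, regular_of_avoid hav⟩
    obtain ⟨a, ha, hareg⟩ := step rs (by omega) hreg
    refine ⟨a, ha, hareg, step (rs ++ [a]) (by simp [hl]) ?_⟩
    rw [isWeaklyRegular_append_iff, isWeaklyRegular_singleton_iff,
      show (Ideal.ofList rs • (⊤ : Submodule R R)) = Ideal.ofList rs from Ideal.mul_top _]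
    exact ⟨hreg, hareg⟩
  have hexists : ∀ x : B', ∃ w : G, ∀ t c : R,
      algebraMap B K (π t) * (x : K) = algebraMap B K (π c) → t • w = c • y := by
    rintro ⟨x, hx⟩
    obtain ⟨a, ha, hareg, b, hb, hbreg⟩ := hregden x hx
    obtain ⟨ca, hca⟩ := (hden x a).mp ha
    obtain ⟨cb, hcb⟩ := (hden x b).mp hb
    have h1 : b • (ca • y) = a • (cb • y) := by
      rw [smul_smul, smul_smul, ← sub_eq_zero, ← sub_smul, hy', RingHom.mem_ker]
      refine IsFractionRing.injective B K ?_
      rw [map_sub π, map_mul π, map_mul π, map_sub, map_mul, map_mul, map_zero, ← hca, ← hcb]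
      ring
    obtain ⟨v, hv⟩ := Ideal.Quotient.mk_surjective (ca • y)
    obtain ⟨v', hv'⟩ := Ideal.Quotient.mk_surjective (cb • y)
    have h2 : v ∈ Ideal.ofList (rs ++ [a]) := by
      rw [← Ideal.Quotient.eq_zero_iff_mem]
      refine hbreg ?_
      show b • Ideal.Quotient.mk _ v = b • (0 : R ⧸ Ideal.ofList (rs ++ [a]))
      rw [smul_zero, show b • Ideal.Quotient.mk (Ideal.ofList (rs ++ [a])) v = Ideal.Quotient.mk _ (b * v)
        from rfl, Ideal.Quotient.eq_zero_iff_mem]
      have h3 : b * v - a * v' ∈ I := by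
        rw [← Ideal.Quotient.eq_zero_iff_mem, map_sub, sub_eq_zero]
        show b • Ideal.Quotient.mk I v = a • Ideal.Quotient.mk I v'
        rw [hv, hv', h1]
      have h4 : a * v' ∈ Ideal.ofList (rs ++ [a]) := by
        rw [Ideal.ofList_append, Ideal.ofList_singleton]
        exact Ideal.mem_sup_right (Ideal.mul_mem_right _ _ (Ideal.subset_span rfl))
      have h5 : b * v - a * v' ∈ Ideal.ofList (rs ++ [a]) := by
        rw [Ideal.ofList_append]; exact Ideal.mem_sup_left h3
      simpa using add_mem h5 h4
    rw [Ideal.ofList_append, Ideal.ofList_singleton, Submodule.mem_sup] at h2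
    obtain ⟨i, hi, j, hj, hij⟩ := h2
    obtain ⟨w, rfl⟩ := Ideal.mem_span_singleton'.mp hj
    refine ⟨Ideal.Quotient.mk I w, fun t c htc => hareg ?_⟩
    have hw : a • Ideal.Quotient.mk I w = ca • y := by
      rw [← hv, show a • Ideal.Quotient.mk I w = Ideal.Quotient.mk I (a * w) from rfl, Ideal.Quotient.eq]
      rw [← hij, show a * w - (i + w * a) = -i by ring]
      exact neg_mem hi
    show a • (t • Ideal.Quotient.mk I w) = a • (c • y)
    rw [smul_comm a t, hw, smul_smul, smul_smul, ← sub_eq_zero, ← sub_smul, hy', RingHom.mem_ker]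
    refine IsFractionRing.injective B K ?_
    simp only [map_sub, map_mul, map_zero] at htc hca ⊢
    rw [← htc, ← hca]; ring
  choose Φ hΦ using hexists
  have huniq : ∀ (x : B') (w : G),
      (∀ t c : R, algebraMap B K (π t) * (x : K) = algebraMap B K (π c) → t • w = c • y) → Φ x = w := by
    intro x w hw
    obtain ⟨a, ha, hareg, -⟩ := hregden x x.2
    obtain ⟨ca, hca⟩ := (hden x a).mp ha
    exact hareg ((hΦ x a ca hca).trans (hw a ca hca).symm)
  let L : B' →ₗ[R] G :=
    { toFun := Φ
      map_add' := fun x x' => huniq _ _ fun t c htc => by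
        obtain ⟨a, ha, hareg, -⟩ := hregden x x.2
        obtain ⟨a', ha', hareg', -⟩ := hregden x' x'.2
        obtain ⟨ca, hca⟩ := (hden x a).mp ha
        obtain ⟨ca', hca'⟩ := (hden x' a').mp ha'
        apply hareg'
        apply hareg
        show a • (a' • (t • (Φ x + Φ x'))) = a • (a' • (c • y))
        rw [show a • (a' • (t • (Φ x + Φ x'))) = (a' * t) • (a • Φ x) + (a * t) • (a' • Φ x') by
          simp only [smul_add, smul_smul]; congr 2 <;> ring, hΦ x a ca hca, hΦ x' a' ca' hca']
        simp only [smul_smul, ← add_smul]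
        rw [← sub_eq_zero, ← sub_smul, hy', RingHom.mem_ker]
        refine IsFractionRing.injective B K ?_
        rw [AddMemClass.coe_add] at htc
        simp only [map_sub, map_add, map_mul, map_zero]
        linear_combination (algebraMap B K (π a) * algebraMap B K (π a')) * htc -
          (algebraMap B K (π a') * algebraMap B K (π t)) * hca -
          (algebraMap B K (π a) * algebraMap B K (π t)) * hca'
      map_smul' := fun r x => huniq _ _ fun t c htc => by
        rw [RingHom.id_apply, smul_smul, hΦ x (t * r) c]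
        rw [map_mul, map_mul, mul_assoc]
        rw [show ((r • x : B') : K) = algebraMap B K (π r) * x from by
          rw [SetLike.val_smul_of_tower, Algebra.smul_def, IsScalarTower.algebraMap_apply R B K]] at htc
        exact htc }
  have hL : Function.Injective L := by
    rw [injective_iff_map_eq_zero]
    intro x hx
    obtain ⟨a, ha, hareg, -⟩ := hregden x x.2
    obtain ⟨ca, hca⟩ := (hden x a).mp ha
    have h1 := hΦ x a ca hca
    rw [show Φ x = 0 from hx, smul_zero, eq_comm, hy', RingHom.mem_ker] at h1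
    rw [h1, map_zero] at hca
    refine Subtype.ext ((mul_eq_zero.mp hca).resolve_left fun h0 => ?_)
    have h2 : a • y = 0 := (hy' a).mpr (IsFractionRing.injective B K (h0.trans (map_zero _).symm))
    have h3 : y = 0 := hareg (h2.trans (smul_zero a).symm)
    exact one_ne_zero (α := B) (by rw [← map_one π]; exact (hy' 1).mp (by rw [h3, smul_zero]))
  haveI : Module.Finite R B' := Module.Finite.of_injective L hL
  exact Module.Finite.of_restrictScalars_finite R B B'

open nonZeroDivisors in
/-- Height one primes of a finite birational extension lie over height one primes. -/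
theorem height_comap_eq_one {B C : Type u} [CommRing B] [IsDomain B] [IsNoetherianRing B]
    (hB : CAlg.IsUniversallyCatenary B) [CommRing C] [IsDomain C] [Algebra B C] [FaithfulSMul B C]
    [Module.Finite B C] (Q : Ideal C) [Q.IsPrime] (hQ : Q.height = 1) :
    (Q.comap (algebraMap B C)).height = 1 := by
  let q := Q.comap (algebraMap B C)
  let M := Algebra.algebraMapSubmonoid C q.primeCompl
  let A' := Localization.AtPrime q
  let C' := Localization M
  have hM : M ≤ C⁰ := le_nonZeroDivisors_of_noZeroDivisors fun h0 => by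
    obtain ⟨s, hs, hs0⟩ := h0
    exact hs ((FaithfulSMul.algebraMap_injective B C (hs0.trans (map_zero _).symm)) ▸ zero_mem q)
  haveI : IsDomain C' := IsLocalization.isDomain_localization hM
  haveI : Module.Finite A' C' := Module.Finite.of_isLocalization B C q.primeCompl
  haveI : FaithfulSMul A' C' := (faithfulSMul_iff_algebraMap_injective A' C').mpr <| by
    rw [injective_iff_map_eq_zero]
    intro z hz
    obtain ⟨b, s, rfl⟩ := IsLocalization.exists_mk'_eq q.primeCompl z
    have h1 : algebraMap A' C' (algebraMap B A' b) = 0 := by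
      rw [← IsLocalization.mk'_spec A' b s, map_mul, hz, zero_mul]
    rw [← IsScalarTower.algebraMap_apply, IsScalarTower.algebraMap_apply B C C',
      ← map_zero (algebraMap C C')] at h1
    rw [FaithfulSMul.algebraMap_injective B C
      ((IsLocalization.injective C' hM h1).trans (map_zero _).symm), IsLocalization.mk'_zero]
  have hdisj : Disjoint (M : Set C) Q := Set.disjoint_left.mpr fun z hz hzQ => by
    obtain ⟨s, hs, rfl⟩ := hz
    exact hs hzQ
  let n := Q.map (algebraMap C C')
  haveI : n.IsPrime := IsLocalization.isPrime_of_isPrime_disjoint M C' Q inferInstance hdisj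
  have hn : n.comap (algebraMap C C') = Q :=
    IsLocalization.comap_map_of_isPrime_disjoint M C' inferInstance hdisj
  have hnmax : n.IsMaximal := by
    refine Ideal.isMaximal_of_isIntegral_of_isMaximal_comap (R := A') n ?_
    have h1 : (n.comap (algebraMap A' C')).comap (algebraMap B A') = q := by
      rw [Ideal.comap_comap, ← IsScalarTower.algebraMap_eq, IsScalarTower.algebraMap_eq B C C',
        ← Ideal.comap_comap, hn]
    haveI : (n.comap (algebraMap A' C')).IsPrime := Ideal.comap_isPrime _ _
    rw [← IsLocalization.map_comap q.primeCompl A' (n.comap (algebraMap A' C'))]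
    change ((Ideal.comap (algebraMap B A') (n.comap (algebraMap A' C'))).map (algebraMap B A')).IsMaximal
    rw [h1,
      Localization.AtPrime.map_eq_maximalIdeal]
    exact IsLocalRing.maximalIdeal.isMaximal _
  haveI := hnmax
  have hA' : CAlg.IsUniversallyCatenary A' :=
    Groth.Agent.CAlgMisc2.isUniversallyCatenary_localization q.primeCompl A' hB
  have h2 := Groth.Agent.S4689.result A' C' hA' n
  rw [IsLocalization.AtPrime.ringKrullDim_eq_height n, IsLocalization.AtPrime.ringKrullDim_eq_height q A',
    ← IsLocalization.height_comap M n] at h2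
  rw [show Ideal.under C n = Q from hn, hQ] at h2
  exact_mod_cast h2.symm

/-- Let A be a Noetherian ring which is either a quotient of a regular Noetherian ring or universally
catenary and universally Japanese. Then for every prime q of A, writing B = A/q with fraction field
K, and every ideal J of B of height at least 2, the subring of K consisting of the elements lying in
B_p for every prime p of B not containing J (the ring of sections of the structure sheaf of Spec B
over the open complement of V(J)) is a finite B-algebra (some B-subalgebra of K with exactly this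
underlying set is a finitely generated B-module). -/
theorem result (A : Type u) [CommRing A] [IsNoetherianRing A]
    (hA : (∃ (R : Type u) (_ : CommRing R), IsNoetherianRing R ∧ IsRegularRing R ∧
        ∃ f : R →+* A, Function.Surjective f) ∨
      (CAlg.IsUniversallyCatenary A ∧ CAlg.IsUniversallyJapanese A))
    (q : Ideal A) [q.IsPrime] (J : Ideal (A ⧸ q)) (hJ2 : (2 : ℕ∞) ≤ J.height) :
    ∃ B' : Subalgebra (A ⧸ q) (FractionRing (A ⧸ q)),
      (B' : Set (FractionRing (A ⧸ q))) =
          {x | ∀ (p : Ideal (A ⧸ q)) [p.IsPrime], ¬ J ≤ p →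
            ∃ s : A ⧸ q, s ∉ p ∧ ∃ a : A ⧸ q,
              algebraMap (A ⧸ q) (FractionRing (A ⧸ q)) a = algebraMap (A ⧸ q) (FractionRing (A ⧸ q)) s * x} ∧
        Module.Finite (A ⧸ q) B' := by
  classical

  haveI : IsDomain (A ⧸ q) := inferInstance
  let B := A ⧸ q
  let K := FractionRing B
  let S : Subalgebra B K :=
    { carrier := {x | ∀ (p : Ideal B) [p.IsPrime], ¬ J ≤ p →
        ∃ s : B, s ∉ p ∧ ∃ a : B, algebraMap B K a = algebraMap B K s * x}
      mul_mem' := fun {x y} hx hy p _ hp => by
        obtain ⟨s, hs, a, ha⟩ := hx p hp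
        obtain ⟨t, ht, b, hb⟩ := hy p hp
        exact ⟨s * t, fun h => (Ideal.IsPrime.mem_or_mem ‹_› h).elim hs ht, a * b, by
          rw [map_mul, map_mul, ha, hb]; ring⟩
      one_mem' := fun p hp' _ => ⟨1, (Ideal.ne_top_iff_one p).mp hp'.ne_top, 1, by rw [map_one, one_mul]⟩
      add_mem' := fun {x y} hx hy p _ hp => by
        obtain ⟨s, hs, a, ha⟩ := hx p hp
        obtain ⟨t, ht, b, hb⟩ := hy p hp
        exact ⟨s * t, fun h => (Ideal.IsPrime.mem_or_mem ‹_› h).elim hs ht, a * t + s * b, by
          rw [map_add, map_mul, map_mul, map_mul, ha, hb]; ring⟩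
      zero_mem' := fun p hp' _ => ⟨1, (Ideal.ne_top_iff_one p).mp hp'.ne_top, 0, by rw [map_zero, mul_zero]⟩
      algebraMap_mem' := fun r p hp' _ => ⟨1, (Ideal.ne_top_iff_one p).mp hp'.ne_top, r, by
        rw [map_one, one_mul]⟩ }
  refine ⟨S, rfl, ?_⟩
  rcases hA with ⟨R, _, -, hR, f, hf⟩ | ⟨hcat, hjap⟩
  · haveI := hR
    letI : Algebra R B := ((Ideal.Quotient.mk q).comp f).toAlgebra
    exact finite_of_regular (Ideal.Quotient.mk_surjective.comp hf) J hJ2 S fun x hx p hp hJp =>
      @hx p hp hJp
  · let C := integralClosure B K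
    have hN2 : CAlg.IsN2 B :=
      @hjap B _ _ (Ideal.Quotient.algebra A) (Module.Finite.finiteType B)
    haveI : Module.Finite B C := hN2 K (inferInstance)
    haveI : IsNoetherianRing C := IsNoetherianRing.of_finite B C
    haveI : IsFractionRing C K := integralClosure.isFractionRing_of_finite_extension K K
    haveI : IsIntegrallyClosed C :=
      (isIntegrallyClosed_iff K).mpr fun {x} hx =>
        ⟨⟨x, isIntegral_trans (R := B) (A := C) x hx⟩, rfl⟩
    have hBcat : CAlg.IsUniversallyCatenary B := quotient_catenary hcat q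
    have hle : S ≤ C := by
      intro x hx
      let e := IsLocalization.algEquiv (nonZeroDivisors C) (FractionRing C) K
      suffices h : e.symm x ∈ Set.range (algebraMap C (FractionRing C)) by
        obtain ⟨z, hz⟩ := h
        have := congrArg e hz
        rw [e.commutes, e.apply_symm_apply] at this
        rw [← this]; exact z.2
      refine Groth.Agent.CAlgMisc2.mem_range_of_forall_height_one (R := C) _ fun Q _ hQ => ?_
      have hq := height_comap_eq_one hBcat Q hQ
      obtain ⟨s, hs, a, ha⟩ := hx (Q.comap (algebraMap B C)) fun hle => by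
        have h1 := hJ2.trans (Ideal.height_mono hle)
        rw [hq] at h1
        exact absurd h1 (by decide)
      refine ⟨algebraMap B C a, algebraMap B C s, hs, e.injective ?_⟩
      rw [map_mul, e.apply_symm_apply, e.commutes, e.commutes, ← IsScalarTower.algebraMap_apply,
        ← IsScalarTower.algebraMap_apply, ha, mul_comm]
    exact Module.Finite.of_injective (Subalgebra.inclusion hle).toLinearMap
      (Subalgebra.inclusion_injective hle)

end Groth.Agent.S4723
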