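import Groth.Statements.S4735
import Groth.Agent.CommAlg4.FormalFibreS1
import Groth.Agent.S2637
import Groth.Agent.S9228
import Groth.Agent.S9126
-- import your own Groth.Agent.* helpers here

set_option autoImplicit false
universe u
open EGA4

namespace Groth.Agent.S4735

/-- Let A be a strictly formally catenary Noetherian local ring. Then every Noetherian local ring B
which is an A-algebra essentially of finite type is strictly formally catenary. -/
theorem result (A : Type u) [CommRing A] [IsNoetherianRing A] [IsLocalRing A]
    (hA : EGA4.IsFormallyStrictlyCatenary A) (B : Type u) [CommRing B] [IsNoetherianRing B] [IsLocalRing B]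
    [Algebra A B] [Algebra.EssFiniteType A B] : EGA4.IsFormallyStrictlyCatenary B := by
  exact Groth.Agent.CommAlg4.formallyStrictlyCatenary_of_fibS1 B
    (Groth.Agent.S9228.result B (Groth.Agent.S9126.result A B ((Groth.Agent.S2637.result A).1 hA).1))
    (Groth.Agent.CommAlg4.fibS1_essFiniteType A (Groth.Agent.CommAlg4.fibS1_of_formallyStrictlyCatenary A hA) B)

end Groth.Agent.S4735
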