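import Groth.Statements.S0305
import Groth.Agent.InjHullLib.Basic
import Mathlib.RingTheory.LocalRing.ResidueField.Ideal

set_option autoImplicit false
universe u v
open InjHull

namespace Groth.Agent.S0305

theorem exists_hull_residueField (R : Type u) [CommRing R] (p : Ideal R) [p.IsPrime] (E : Type u)
    [AddCommGroup E] [Module R E] {f : (R ⧸ p) →ₗ[R] E} (hf : InjHull.IsInjectiveHull f) :
    ∃ g : p.ResidueField →ₗ[R] E, InjHull.IsInjectiveHull g := by
  let i : (R ⧸ p) →ₗ[R] p.ResidueField :=
    (IsScalarTower.toAlgHom R (R ⧸ p) p.ResidueField).toLinearMap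
  have hi : Function.Injective i := IsFractionRing.injective (R ⧸ p) p.ResidueField
  obtain ⟨g, hg⟩ := hf.isInjective.out i hi f
  have hess : InjHull.IsEssentialInj i := by
    rw [Groth.Agent.InjHullLib.essential_iff]
    refine ⟨hi, fun x hx => ?_⟩
    obtain ⟨a, b, hb, rfl⟩ := IsFractionRing.div_surjective (R ⧸ p) x
    obtain ⟨b, rfl⟩ := Ideal.Quotient.mk_surjective b
    have hb0 : algebraMap (R ⧸ p) p.ResidueField (Ideal.Quotient.mk p b) ≠ 0 :=
      fun h => nonZeroDivisors.ne_zero hb (hi (h.trans (map_zero i).symm))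
    have hmul : b • (algebraMap (R ⧸ p) p.ResidueField a /
        algebraMap (R ⧸ p) p.ResidueField (Ideal.Quotient.mk p b)) =
        algebraMap (R ⧸ p) p.ResidueField a := by
      rw [← algebraMap_smul (R ⧸ p) b, Algebra.smul_def]
      exact mul_div_cancel₀ _ hb0
    refine ⟨b, ⟨a, hmul.symm⟩, ?_⟩
    rw [hmul]
    exact fun h => hx (by rw [h, zero_div])
  refine ⟨g, ⟨⟨Groth.Agent.InjHullLib.injective_of_comp_injective hess g ?_, fun N hN => ?_⟩, hf.isInjective⟩⟩
  · rw [show g ∘ₗ i = f from LinearMap.ext hg]; exact hf.injective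
  · exact ne_bot_of_le_ne_bot (hf.essential N hN)
      (inf_le_inf_left _ (by rintro _ ⟨y, rfl⟩; exact ⟨i y, hg y⟩))

/-- Let R be a commutative ring, p a prime ideal, and E an injective hull of R/p. Then E is
indecomposable, and E is also an injective hull of the residue field κ(p). -/
theorem result (R : Type u) [CommRing R] (p : Ideal R) [p.IsPrime] (E : Type u) [AddCommGroup E] [Module R E] (f : (R ⧸ p) →ₗ[R] E) (hf : InjHull.IsInjectiveHull f) : InjHull.IsIndecomposable R E ∧ ∃ g : p.ResidueField →ₗ[R] E, InjHull.IsInjectiveHull g := by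
  exact ⟨Groth.Agent.InjHullLib.isIndecomposable_hull_quotient_prime p hf.toIsEssentialInj, exists_hull_residueField R p E hf⟩

end Groth.Agent.S0305
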