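import Groth.Statements.S0306
import Groth.Agent.InjHullLib.Basic
import Mathlib.RingTheory.LocalRing.ResidueField.Ideal
import Groth.Agent.S0305
import Mathlib.RingTheory.Ideal.AssociatedPrime.Basic

set_option autoImplicit false
universe u v
open InjHull

namespace Groth.Agent.S0306

/-- Over a Noetherian ring every indecomposable injective module is an injective hull of the residue
field of some prime. -/
theorem result (R : Type u) [CommRing R] [IsNoetherianRing R] (E : Type u) [AddCommGroup E] [Module R E] (hE : InjHull.IsIndecomposable R E) (hinj : Module.Injective R E) : ∃ (p : Ideal R) (_ : p.IsPrime) (g : p.ResidueField →ₗ[R] E), InjHull.IsInjectiveHull g := by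
  obtain ⟨⟨x₀, y₀, hne⟩⟩ := hE.1
  haveI : Nontrivial E := ⟨⟨x₀, y₀, hne⟩⟩
  obtain ⟨p, hp⟩ := associatedPrimes.nonempty R E
  haveI := hp.isPrime
  obtain ⟨x, hx⟩ := ((isAssociatedPrime_iff_exists_injective_linearMap _ _).1 hp).2
  obtain ⟨f, hf⟩ : ∃ f : (R ⧸ p) →ₗ[R] E, InjHull.IsInjectiveHull f := by
    refine ⟨x, ⟨⟨hx, fun N hN => ?_⟩, hinj⟩⟩
    refine Groth.Agent.InjHullLib.inf_ne_bot_of_indecomposable hE hinj _ _ hN fun h => ?_
    have : Nontrivial (R ⧸ p) := Ideal.Quotient.nontrivial_iff.2 hp.isPrime.ne_top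
    exact one_ne_zero (hx (((Submodule.eq_bot_iff _).1 h _ ⟨1, rfl⟩).trans (map_zero x).symm))
  obtain ⟨g, hg⟩ := Groth.Agent.S0305.exists_hull_residueField R p E hf
  exact ⟨p, hp.isPrime, g, hg⟩

end Groth.Agent.S0306
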