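import Groth.Statements.S5090
import Groth.Agent.Misc15.StalkLoc

set_option autoImplicit false
universe u
open CategoryTheory CategoryTheory.Limits AlgebraicGeometry TopologicalSpace
open Div21

namespace Groth.Agent.S5090

theorem isOpen_singleton_of_isolated {T : Type*} [TopologicalSpace T] [QuasiSober T]
    [NoetherianSpace T] {x : T} (hgen : ∀ y, y ⤳ x → y = x) (hcl : ∀ y, x ⤳ y → y = x) :
    IsOpen ({x} : Set T) := by
  have hS : {C ∈ irreducibleComponents T | x ∉ C}.Finite :=
    NoetherianSpace.finite_irreducibleComponents.subset fun C hC => hC.1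
  rw [← isClosed_compl_iff]
  convert hS.isClosed_biUnion (f := fun C => C) fun C hC => isClosed_of_mem_irreducibleComponents C hC.1 using 1
  ext y
  simp only [Set.mem_compl_iff, Set.mem_singleton_iff, Set.mem_iUnion, exists_prop]
  refine ⟨fun hy => ?_, fun ⟨C, hC, hyC⟩ h => hC.2 (h ▸ hyC)⟩
  refine ⟨irreducibleComponent y, ⟨irreducibleComponent_mem_irreducibleComponents y, fun hx => hy ?_⟩,
    mem_irreducibleComponent⟩
  obtain ⟨η, hη⟩ := QuasiSober.sober (S := irreducibleComponent y)
    isIrreducible_irreducibleComponent isClosed_irreducibleComponent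
  have := hgen η (hη.specializes hx)
  subst this
  exact hcl y (hη.specializes mem_irreducibleComponent)

theorem exists_height_one {R : Type u} [CommRing R] [IsNoetherianRing R] (P : Ideal R) [P.IsPrime]
    (h : (1 : ℕ∞) ≤ P.height) : ∃ p : Ideal R, p ≤ P ∧ p.IsPrime ∧ p.height = 1 := by
  obtain ⟨n, hn⟩ := ENat.ne_top_iff_exists.1 (Ideal.height_ne_top_of_isPrime (I := P))
  induction n using Nat.strong_induction_on generalizing P with
  | _ n ih =>
    rcases Nat.lt_or_ge 1 n with h2 | h2
    · obtain ⟨q, hqP, hq, hqh⟩ : ∃ q : Ideal R, q < P ∧ q.IsPrime ∧ (1 : ℕ∞) ≤ q.height := by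
        by_contra! hcon
        have : P.height ≤ (1 : ℕ) := Ideal.height_le_iff.2 fun q hq hlt => hcon q hlt hq
        rw [← hn] at this
        exact absurd (Nat.cast_le.1 this) (by omega)
      obtain ⟨m, hm⟩ := ENat.ne_top_iff_exists.1 (Ideal.height_ne_top_of_isPrime (I := q))
      have hlt : m < n := by
        have := Ideal.height_strict_mono_of_isPrime (J := P) hqP
        rw [← hm, ← hn] at this
        exact_mod_cast this
      obtain ⟨p, hp, hp'⟩ := ih m hlt q hqh hm
      exact ⟨p, hp.trans hqP.le, hp'⟩
    · refine ⟨P, le_rfl, inferInstance, le_antisymm ?_ h⟩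
      rw [← hn]; exact_mod_cast h2

variable {X : Scheme.{u}}

/-- Every prime of the local ring comes from a generization, whose stalk is the localisation. -/
theorem exists_gen (x : X) (p : PrimeSpectrum (X.presheaf.stalk x)) :
    ∃ (ζ : X) (h : ζ ⤳ x),
      (IsLocalRing.maximalIdeal (X.presheaf.stalk ζ)).comap (X.presheaf.stalkSpecializes h).hom = p.asIdeal := by
  have hmem : X.fromSpecStalk x p ∈ Set.range (X.fromSpecStalk x) := ⟨p, rfl⟩
  rw [Scheme.range_fromSpecStalk] at hmem
  refine ⟨_, hmem, ?_⟩
  have h := congrArg (fun g => g (IsLocalRing.closedPoint (X.presheaf.stalk (X.fromSpecStalk x p))))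
    (Scheme.SpecMap_stalkSpecializes_fromSpecStalk hmem)
  simp only [Scheme.fromSpecStalk_closedPoint, Scheme.Hom.comp_apply] at h
  exact congrArg PrimeSpectrum.asIdeal ((X.fromSpecStalk x).isEmbedding.injective h)

theorem comap_ne (x ζ : X) (h : ζ ⤳ x) (hne : ζ ≠ x) :
    (IsLocalRing.maximalIdeal (X.presheaf.stalk ζ)).comap (X.presheaf.stalkSpecializes h).hom ≠
      IsLocalRing.maximalIdeal (X.presheaf.stalk x) := by
  intro e
  have h' := congrArg (fun g => g (IsLocalRing.closedPoint (X.presheaf.stalk ζ)))
    (Scheme.SpecMap_stalkSpecializes_fromSpecStalk h)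
  simp only [Scheme.fromSpecStalk_closedPoint, Scheme.Hom.comp_apply] at h'
  apply hne
  rw [← h']
  change X.fromSpecStalk x (Spec.map (X.presheaf.stalkSpecializes h) (IsLocalRing.closedPoint (X.presheaf.stalk ζ))) = x
  exact (congrArg (X.fromSpecStalk x) (PrimeSpectrum.ext e : Spec.map (X.presheaf.stalkSpecializes h) (IsLocalRing.closedPoint (X.presheaf.stalk ζ)) = IsLocalRing.closedPoint (X.presheaf.stalk x))).trans Scheme.fromSpecStalk_closedPoint

theorem dim_eq_height {x ζ : X} (h : ζ ⤳ x) :
    ringKrullDim (X.presheaf.stalk ζ) =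
      ((IsLocalRing.maximalIdeal (X.presheaf.stalk ζ)).comap (X.presheaf.stalkSpecializes h).hom).height := by
  letI := (X.presheaf.stalkSpecializes h).hom.toAlgebra
  have := Misc15.isLocalization_stalkSpecializes h
  rw [← IsLocalRing.maximalIdeal_height_eq_ringKrullDim]
  congr 1
  exact (IsLocalization.height_under ((IsUnit.submonoid (X.presheaf.stalk ζ)).comap (X.presheaf.stalkSpecializes h).hom)
    (IsLocalRing.maximalIdeal (X.presheaf.stalk ζ))).symm


/-- Equivalence of conditions a'') and c): let X be a locally Noetherian scheme which is reduced at each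
of its isolated points (for every point x such that {x} is open, the local ring O_{X,x} is reduced).
Then the following are equivalent. (a'') Every integral closed subscheme of X of codimension 1 is
regularly immersed in X: for every point ζ whose local ring has dimension 1 and every specialization
x of ζ, the ideal of O_{X,x} defining the closure of ζ with its reduced structure (the preimage of
the maximal ideal of O_{X,ζ} under the specialization map) is generated by one non-zero-divisor of
O_{X,x}. (c) X is locally factorial: every local ring of X is a unique factorisation domain. -/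
theorem result (X : Scheme.{u}) [IsLocallyNoetherian X]
    (hred : ∀ x : ↥X, IsOpen ({x} : Set ↥X) → IsReduced ↑(X.presheaf.stalk x)) :
    (∀ ζ : ↥X, ringKrullDim ↑(X.presheaf.stalk ζ) = 1 → ∀ (x : ↥X) (h : ζ ⤳ x),
        ∃ t : ↑(X.presheaf.stalk x), t ∈ nonZeroDivisors ↑(X.presheaf.stalk x) ∧
          (IsLocalRing.maximalIdeal ↑(X.presheaf.stalk ζ)).comap (X.presheaf.stalkSpecializes h).hom =
            Ideal.span {t}) ↔
      ∀ x : ↥X, ∃ _ : IsDomain ↑(X.presheaf.stalk x), UniqueFactorizationMonoid ↑(X.presheaf.stalk x) := by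
  constructor
  · intro H
    have hdom : ∀ x : X, (1 : WithBot ℕ∞) ≤ ringKrullDim (X.presheaf.stalk x) → IsDomain (X.presheaf.stalk x) := by
      intro x hx
      let R := X.presheaf.stalk x
      have hh : (1 : ℕ∞) ≤ (IsLocalRing.maximalIdeal R).height := by
        rw [← IsLocalRing.maximalIdeal_height_eq_ringKrullDim] at hx
        exact WithBot.coe_le_coe.1 hx
      obtain ⟨q, hq, hqm⟩ : ∃ q : Ideal R, q.IsPrime ∧ q < IsLocalRing.maximalIdeal R := by
        by_contra! hcon
        have : (IsLocalRing.maximalIdeal R).height ≤ (0 : ℕ) := Ideal.height_le_iff.2 fun q hq hlt => (hcon q hq hlt).elim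
        exact absurd (hh.trans this) (by norm_num)
      -- a height-one prime, principal by hypothesis
      obtain ⟨p, hp, hp1⟩ : ∃ p : Ideal R, p.IsPrime ∧ p.height = 1 := by
        obtain ⟨p, -, hp, hp1⟩ := Groth.Agent.S5090.exists_height_one (IsLocalRing.maximalIdeal R) hh
        exact ⟨p, hp, hp1⟩
      obtain ⟨ζ, hζ, hc⟩ := exists_gen x ⟨p, hp⟩
      obtain ⟨t, ht, htp⟩ := H ζ (by rw [dim_eq_height hζ, hc, hp1]; rfl) x hζ
      rw [hc] at htp
      replace htp : p = Ideal.span {t} := htp
      have hne0 : ∃ q : Ideal R, q.IsPrime ∧ q < p := by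
        by_contra! hcon
        have : p.height ≤ (0 : ℕ) := Ideal.height_le_iff.2 fun q hq hlt => (hcon q hq hlt).elim
        rw [hp1] at this
        exact absurd this (by norm_num)
      obtain ⟨r, hr, hrp⟩ := hne0
      have hrt : r ≤ IsLocalRing.maximalIdeal R • r := by
        intro a ha
        obtain ⟨b, rfl⟩ := Ideal.mem_span_singleton.1 (htp ▸ hrp.le ha)
        have htr : t ∉ r := fun h => hrp.not_ge (by rw [htp, Ideal.span_singleton_le_iff_mem]; exact h)
        exact Submodule.smul_mem_smul (IsLocalRing.le_maximalIdeal hp.ne_top (htp ▸ Ideal.mem_span_singleton_self t))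
          ((hr.mem_or_mem ha).resolve_left htr)
      have hr0 : r = ⊥ := Submodule.eq_bot_of_le_smul_of_le_jacobson_bot _ _ (IsNoetherian.noetherian r) hrt
        (IsLocalRing.maximalIdeal_le_jacobson _)
      have : (⊥ : Ideal R).IsPrime := hr0 ▸ hr
      exact IsDomain.of_bot_isPrime R
    intro x
    have hD : IsDomain (X.presheaf.stalk x) := by
      by_cases hx : (1 : WithBot ℕ∞) ≤ ringKrullDim (X.presheaf.stalk x)
      · exact hdom x hx
      have hgen : ∀ y, y ⤳ x → y = x := by
        intro y hy
        by_contra hne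
        refine hx ?_
        rw [← IsLocalRing.maximalIdeal_height_eq_ringKrullDim]
        refine WithBot.coe_le_coe.2 (Order.one_le_iff_ne_zero.2 fun h0 => comap_ne x y hy hne ?_)
        exact le_antisymm (IsLocalRing.le_maximalIdeal (Ideal.IsPrime.comap _).ne_top)
          ((Ideal.height_eq_zero_iff.1 h0).2 ⟨inferInstance, bot_le⟩ (IsLocalRing.le_maximalIdeal (Ideal.IsPrime.comap _).ne_top))
      by_cases hcl : ∀ y, x ⤳ y → y = x
      · obtain ⟨U, hU, hxU, -⟩ := exists_isAffineOpen_mem_and_subset (x := x) (U := ⊤) trivial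
        haveI : IsNoetherianRing Γ(X, U) := IsLocallyNoetherian.component_noetherian ⟨U, hU⟩
        haveI : NoetherianSpace ↥(U : Set X) := noetherianSpace_of_isAffineOpen U hU
        haveI : QuasiSober ↥(U : Set X) := U.2.isOpenEmbedding_subtypeVal.quasiSober
        have ho := isOpen_singleton_of_isolated (x := (⟨x, hxU⟩ : ↥(U : Set X)))
          (fun y hy => Subtype.ext (hgen _ (hy.map continuous_subtype_val)))
          (fun y hy => Subtype.ext (hcl _ (hy.map continuous_subtype_val)))
        have ho' := U.2.isOpenEmbedding_subtypeVal.isOpenMap _ ho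
        rw [Set.image_singleton] at ho'
        have := hred x ho'
        have : Ring.KrullDimLE 0 (X.presheaf.stalk x) := by
          refine Ring.KrullDimLE.mk₀ fun q hq => ?_
          obtain ⟨y, hy, hc⟩ := exists_gen x ⟨q, hq⟩
          have hyx := hgen y hy
          subst hyx
          have : q = IsLocalRing.maximalIdeal (X.presheaf.stalk y) := by rw [X.presheaf.stalkSpecializes_refl] at hc; exact hc.symm
          rw [this]; exact IsLocalRing.maximalIdeal.isMaximal _
        exact (Ring.KrullDimLE.isField_of_isReduced).isDomain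
      · push Not at hcl
        obtain ⟨y, hxy, hne⟩ := hcl
        have hdy : (1 : WithBot ℕ∞) ≤ ringKrullDim (X.presheaf.stalk y) := by
          rw [← IsLocalRing.maximalIdeal_height_eq_ringKrullDim]
          refine WithBot.coe_le_coe.2 (Order.one_le_iff_ne_zero.2 fun h0 => comap_ne y x hxy (Ne.symm hne) ?_)
          exact le_antisymm (IsLocalRing.le_maximalIdeal (Ideal.IsPrime.comap _).ne_top)
            ((Ideal.height_eq_zero_iff.1 h0).2 ⟨inferInstance, bot_le⟩ (IsLocalRing.le_maximalIdeal (Ideal.IsPrime.comap _).ne_top))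
        have := hdom y hdy
        letI := (X.presheaf.stalkSpecializes hxy).hom.toAlgebra
        have := Misc15.isLocalization_stalkSpecializes hxy
        refine IsLocalization.isDomain_of_le_nonZeroDivisors (X.presheaf.stalk x) (M := (IsUnit.submonoid (X.presheaf.stalk x)).comap (X.presheaf.stalkSpecializes hxy).hom) ?_
        intro a ha
        refine mem_nonZeroDivisors_of_ne_zero fun h0 => ?_
        rw [h0] at ha
        have ha' : IsUnit ((X.presheaf.stalkSpecializes hxy).hom 0) := ha
        rw [map_zero] at ha'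
        exact not_isUnit_zero ha'
    refine ⟨hD, UniqueFactorizationMonoid.of_forall_isPrincipal_of_height_eq_one fun p _ hp => ?_⟩
    obtain ⟨ζ, hζ, hc⟩ := exists_gen x ⟨p, inferInstance⟩
    obtain ⟨t, -, ht⟩ := H ζ (by rw [dim_eq_height hζ, hc, hp]; rfl) x hζ
    exact ⟨t, hc.symm.trans ht⟩
  · intro H ζ hdim x h
    obtain ⟨hD, hU⟩ := H x
    have h1 : ((IsLocalRing.maximalIdeal (X.presheaf.stalk ζ)).comap (X.presheaf.stalkSpecializes h).hom).height = 1 := by
      rw [dim_eq_height h] at hdim
      exact WithBot.coe_injective hdim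
    have hprime := Ideal.IsPrime.comap (K := IsLocalRing.maximalIdeal (X.presheaf.stalk ζ)) (X.presheaf.stalkSpecializes h).hom
    obtain ⟨t, ht⟩ := UniqueFactorizationMonoid.isPrincipal_of_height_eq_one h1
    refine ⟨t, mem_nonZeroDivisors_of_ne_zero fun h0 => Ideal.ne_bot_of_height_eq_one h1 ?_, ht⟩
    rw [ht, h0]
    exact Submodule.span_zero_singleton _

end Groth.Agent.S5090
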