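import Groth.Statements.S5105
import Groth.Agent.CAlgH3.InvertibleDivisor
import Groth.Agent.S5090

set_option autoImplicit false
universe u
open CategoryTheory CategoryTheory.Limits AlgebraicGeometry TopologicalSpace
open Div21

namespace Groth.Agent.S5105

open CAlgH3.InvertibleDivisor RefHullLib

variable {X : Scheme.{u}} [IsIntegral X] [IsLocallyNoetherian X]

theorem coheight_eq_one (hX : Pi1.IsNormalScheme X) {x y : X} (h : y ⤳ x)
    (hq : ((IsLocalRing.maximalIdeal (X.presheaf.stalk y)).comap (X.presheaf.stalkSpecializes h).hom).height = 1) :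
    Order.coheight y = 1 := by
  refine (ringKrullDim_eq_one_iff_coheight y).1 ?_
  rw [S5090.dim_eq_height h, hq]
  rfl

/-- A height-one prime of the local ring of a point is principal if the prime divisor is cut out by an invertible module. -/
theorem isPrincipal (hX : Pi1.IsNormalScheme X) {L : X.Modules} (hL : PicF.IsInvertible L)
    {s : L.presheaf.stalk (genericPoint X)} (hs : s ≠ 0) (ζ : X) (hζ : Order.coheight ζ = 1)
    (h1 : sOrd L ζ s = 1) (h0 : ∀ y : X, y ≠ ζ → Order.coheight y = 1 → sOrd L y s = 0) {x : X} (h : ζ ⤳ x) :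
    ((IsLocalRing.maximalIdeal (X.presheaf.stalk ζ)).comap (X.presheaf.stalkSpecializes h).hom).IsPrincipal := by
  haveI := (hX x).1
  haveI := (hX x).2
  classical
  obtain ⟨U, hU, g, hg⟩ := PicLib.exists_isGen hL x
  have hqc := AmpleLib.isQCoh_of_isInvertible hL
  obtain ⟨φ, hφ0, hφ⟩ := exists_coord hqc (SDiv28.bijective_smul_germ_gen hg hU) hs
  have hord : ∀ y : X, y ⤳ x → Order.coheight y = 1 → sOrd L y s = Scheme.ord φ y := by
    intro y hy hy1
    refine sOrd_eq hqc hy1 (SDiv28.bijective_smul_germ_gen hg (hy.mem_open U.isOpen hU)) φ s ?_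
    rw [toGen_germ]
    rw [toGen_germ] at hφ
    exact hφ
  -- integrality through height-one primes
  have hint : ∀ ψ : X.functionField, ψ ≠ 0 → (∀ y : X, y ⤳ x → Order.coheight y = 1 → 0 ≤ Scheme.ord ψ y) →
      ∃ a : X.presheaf.stalk x, algebraMap (X.presheaf.stalk x) X.functionField a = ψ := by
    intro ψ hψ0 hψ
    let e := FractionRing.algEquiv (X.presheaf.stalk x) X.functionField
    obtain ⟨d, hd⟩ := CAlgMisc2.mem_range_of_forall_height_one (R := X.presheaf.stalk x) (e.symm ψ) (fun q _ hq => by
      obtain ⟨y, hy, hc⟩ := S5090.exists_gen x ⟨q, inferInstance⟩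
      replace hc : (IsLocalRing.maximalIdeal (X.presheaf.stalk y)).comap (X.presheaf.stalkSpecializes hy).hom = q := hc
      have hy1 := coheight_eq_one hX hy (hc.symm ▸ hq)
      obtain ⟨b, hb, -⟩ := exists_of_ord_nonneg hX hy1 hψ0 (hψ y hy hy1)
      letI := (X.presheaf.stalkSpecializes hy).hom.toAlgebra
      have := Misc15.isLocalization_stalkSpecializes hy
      obtain ⟨⟨a, s, hsu⟩, hbs⟩ := IsLocalization.surj ((IsUnit.submonoid (X.presheaf.stalk y)).comap (X.presheaf.stalkSpecializes hy).hom) b
      refine ⟨a, s, fun hsq => ?_, ?_⟩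
      · rw [← hc] at hsq
        exact (IsLocalRing.mem_maximalIdeal _).1 hsq hsu
      · apply e.injective
        rw [map_mul, AlgEquiv.apply_symm_apply, e.commutes, e.commutes, ← hb, ← algebraMap_stalkSpecializes hy s,
          ← algebraMap_stalkSpecializes hy a, ← map_mul]
        exact congrArg _ hbs)
    exact ⟨d, by rw [← e.commutes, hd, AlgEquiv.apply_symm_apply]⟩
  have hφord : ∀ y : X, y ⤳ x → Order.coheight y = 1 → Scheme.ord φ y = if y = ζ then 1 else 0 := by
    intro y hy hy1
    rw [← hord y hy hy1]
    split_ifs with e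
    · rw [e]; exact h1
    · exact h0 y e hy1
  obtain ⟨a, ha⟩ := hint φ hφ0 fun y hy hy1 => by rw [hφord y hy hy1]; split_ifs <;> norm_num
  have ha0 : a ≠ 0 := fun e => hφ0 (by rw [← ha, e, map_zero])
  haveI := (hX ζ).1
  refine ⟨a, le_antisymm ?_ ?_⟩
  · intro b hb
    by_cases hb0 : b = 0
    · rw [hb0]; exact Submodule.zero_mem _
    have hbK : algebraMap (X.presheaf.stalk x) X.functionField b ≠ 0 :=
      (map_ne_zero_iff _ (IsFractionRing.injective _ _)).2 hb0
    obtain ⟨c, hc⟩ := hint (algebraMap (X.presheaf.stalk x) X.functionField b / φ) (div_ne_zero hbK hφ0) fun y hy hy1 => by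
      have hm := Scheme.ord_mul (x := y) (div_ne_zero hbK hφ0) hφ0
      rw [div_mul_cancel₀ _ hφ0, hφord y hy hy1] at hm
      haveI := (hX y).1
      have hby0 : (X.presheaf.stalkSpecializes hy).hom b ≠ 0 := fun e => hbK (by
        rw [← algebraMap_stalkSpecializes hy b, e, map_zero])
      have hn := ord_nonneg hX hy1 _ hby0
      rw [algebraMap_stalkSpecializes hy b] at hn
      split_ifs at hm with e
      · subst e
        have := hn.2 hb
        omega
      · have := hn.1
        omega
    refine Ideal.mem_span_singleton'.2 ⟨c, IsFractionRing.injective (X.presheaf.stalk x) X.functionField ?_⟩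
    rw [map_mul, hc, ha, div_mul_cancel₀ _ hφ0]
  · refine Submodule.span_le.2 (Set.singleton_subset_iff.2 ?_)
    obtain ⟨b, hb, hbm⟩ := exists_of_ord_nonneg hX hζ hφ0 (by rw [hφord ζ h hζ, if_pos rfl]; norm_num)
    have : b = (X.presheaf.stalkSpecializes h).hom a := IsFractionRing.injective _ X.functionField (by
      rw [hb, algebraMap_stalkSpecializes h, ha])
    have hmem := hbm (by rw [hφord ζ h hζ, if_pos rfl])
    rw [this] at hmem
    exact hmem


/-- For an integral scheme (X is locally factorial exactly when the canonical map Pic(X) → Cl(X) is a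
bijection; in the presence of (i), being bijective means that each codimension-1 cycle arises as the
Weil divisor of some rational section of an invertible module): suppose X is an integral scheme that
is normal and locally Noetherian. Then these two conditions are equivalent: (1) whenever Z is a
function from the points of X to the integers that is zero away from the points of codimension 1
(coheight 1) and whose support is locally finite, one can find an invertible O_X-module L together
with a nonzero rational section s of L (a nonzero element of the generic fibre of L) such that, at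
each point of codimension 1, the order of s equals the value Z takes there; (2) each local ring of X
is a unique factorisation domain. -/
theorem result (X : Scheme.{u}) [IsIntegral X]
    [IsLocallyNoetherian X] (hX : Pi1.IsNormalScheme X) :
    (∀ Z : ↥X → ℤ, (∀ x : ↥X, Order.coheight x ≠ 1 → Z x = 0) →
        (∀ x : ↥X, ∃ W : X.Opens, x ∈ W ∧ {z : ↥X | z ∈ W ∧ Z z ≠ 0}.Finite) →
        ∃ (L : X.Modules) (_ : PicF.IsInvertible L) (s : Cyc.secFibre L (genericPoint ↥X)), s ≠ 0 ∧
          ∀ x : ↥X, Order.coheight x = 1 →
            Cyc.secOrdAt L (genericPoint ↥X) x (genericPoint_specializes x) s = Z x) ↔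
      ∀ x : ↥X, UniqueFactorizationMonoid ↑(X.presheaf.stalk x) := by
  classical
  constructor
  · intro H x
    haveI := (hX x).1
    refine UniqueFactorizationMonoid.of_forall_isPrincipal_of_height_eq_one fun p _ hp => ?_
    obtain ⟨ζ, hζ, hc⟩ := S5090.exists_gen x ⟨p, inferInstance⟩
    replace hc : (IsLocalRing.maximalIdeal (X.presheaf.stalk ζ)).comap (X.presheaf.stalkSpecializes hζ).hom = p := hc
    have h1 := coheight_eq_one hX hζ (hc.symm ▸ hp)
    obtain ⟨L, hL, s, hs, hord⟩ := H (fun y => if y = ζ then 1 else 0) (fun y hy => if_neg fun e : y = ζ => hy (e ▸ h1))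
      (fun y => ⟨⊤, trivial, (Set.finite_singleton ζ).subset fun z hz => by
        by_contra hne
        exact hz.2 (if_neg hne)⟩)
    obtain ⟨s, rfl⟩ := Submodule.Quotient.mk_surjective _ s
    rw [← hc]
    refine isPrincipal hX hL (s := s) (fun e => hs (by rw [e]; rfl)) ζ h1 ?_ (fun y hy hy1 => ?_) hζ
    · exact (hord ζ h1).trans (if_pos rfl)
    · exact (hord y hy1).trans (if_neg hy)
  · intro hufd Z hZ hfin
    let D : AlgebraicCycle X ℤ :=
      { toFun := Z
        supportWithinDomain' := Set.subset_univ _
        supportLocallyFiniteWithinDomain' := fun z _ => by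
          obtain ⟨W, hzW, hW⟩ := hfin z
          exact ⟨W, W.isOpen.mem_nhds hzW, hW.subset fun y hy => ⟨hy.1, hy.2⟩⟩ }
    obtain ⟨F, hF, s, hs, hord⟩ := exists_ref1_of_cycle hX D
    refine ⟨F, isInvertible_of_isReflexive_of_genInvertible hufd hF.1 ((isReflexive_iff_stalks hF.1).1 hF.2.1) hF.2.2,
      Submodule.Quotient.mk s, fun e => hs ((fibreMk_bijective _).1 (e.trans (Submodule.Quotient.mk_zero _).symm)),
      fun x hx => (hord x hx).symm⟩

end Groth.Agent.S5105
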