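import Groth.Statements.S3841
import Groth.Agent.CAlgH3.InvertibleDivisor
import Groth.Agent.S5090
import Groth.Agent.S5105
import Groth.Agent.TwistLib.G.RelGenLocal
import Groth.Agent.EtDeg8.Degree

set_option autoImplicit false
universe u
open CategoryTheory CategoryTheory.Limits AlgebraicGeometry TopologicalSpace
open Div21

namespace Groth.Agent.S3841

open CAlgH3.InvertibleDivisor RefHullLib

/-- Condition (1). -/
def CutOut (X : Scheme.{u}) : Prop :=
  ∀ ζ : ↥X, Order.coheight ζ = 1 → ∃ g : Γ(X, ⊤),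
        (∀ (x : ↥X) (h : ζ ⤳ x),
          (IsLocalRing.maximalIdeal ↑(X.presheaf.stalk ζ)).comap (X.presheaf.stalkSpecializes h).hom =
            Ideal.span {X.presheaf.germ ⊤ x trivial g}) ∧
        ∀ x : ↥X, ¬ ζ ⤳ x → IsUnit (X.presheaf.germ ⊤ x trivial g)

/-- Every prime divisor is principal. -/
def Princ (X : Scheme.{u}) [IsIntegral X] [IsLocallyNoetherian X] : Prop :=
  ∀ x₀ : ↥X, Order.coheight x₀ = 1 → ∃ f : ↑X.functionField, f ≠ 0 ∧
        Scheme.ord f x₀ = 1 ∧ ∀ x : ↥X, x ≠ x₀ → Order.coheight x = 1 → Scheme.ord f x = 0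

variable {X : Scheme.{u}} [IsIntegral X] [IsLocallyNoetherian X]

/-- Integrality at a point from the codimension-one generizations. -/
theorem exists_integral (hX : Pi1.IsNormalScheme X) {x : X} (ψ : X.functionField) (hψ0 : ψ ≠ 0)
    (hψ : ∀ y : X, y ⤳ x → Order.coheight y = 1 → 0 ≤ Scheme.ord ψ y) :
    ∃ a : X.presheaf.stalk x, algebraMap (X.presheaf.stalk x) X.functionField a = ψ := by
  haveI := (hX x).1
  haveI := (hX x).2
  let e := FractionRing.algEquiv (X.presheaf.stalk x) X.functionField
  obtain ⟨d, hd⟩ := CAlgMisc2.mem_range_of_forall_height_one (R := X.presheaf.stalk x) (e.symm ψ) (fun q _ hq => by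
    obtain ⟨y, hy, hc⟩ := S5090.exists_gen x ⟨q, inferInstance⟩
    replace hc : (IsLocalRing.maximalIdeal (X.presheaf.stalk y)).comap (X.presheaf.stalkSpecializes hy).hom = q := hc
    have hy1 := S5105.coheight_eq_one hX hy (hc.symm ▸ hq)
    obtain ⟨b, hb, -⟩ := exists_of_ord_nonneg hX hy1 hψ0 (hψ y hy hy1)
    letI := (X.presheaf.stalkSpecializes hy).hom.toAlgebra
    have := Misc15.isLocalization_stalkSpecializes hy
    obtain ⟨⟨a, s, hsu⟩, hbs⟩ := IsLocalization.surj ((IsUnit.submonoid (X.presheaf.stalk y)).comap (X.presheaf.stalkSpecializes hy).hom) b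
    refine ⟨a, s, fun hsq => ?_, ?_⟩
    · rw [← hc] at hsq
      exact (IsLocalRing.mem_maximalIdeal _).1 hsq hsu
    · apply e.injective
      rw [map_mul, AlgEquiv.apply_symm_apply, e.commutes, e.commutes, ← hb, ← algebraMap_stalkSpecializes hy s,
        ← algebraMap_stalkSpecializes hy a, ← map_mul]
      exact congrArg _ hbs)
  exact ⟨d, by rw [← e.commutes, hd, AlgEquiv.apply_symm_apply]⟩

theorem cutOut_of_princ (hX : Pi1.IsNormalScheme X) (H : Princ X) : CutOut X := by
  classical
  intro ζ hζ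
  obtain ⟨f, hf, h1, h0⟩ := H ζ hζ
  have hord : ∀ y : X, Order.coheight y = 1 → Scheme.ord f y = if y = ζ then 1 else 0 := by
    intro y hy
    split_ifs with e
    · rw [e]; exact h1
    · exact h0 y e hy
  have hO := Coherent.isCoh_structureModule X
  obtain ⟨n, hn⟩ := exists_section_of_codimOne (F := Coh.structureModule X) (U := ⊤) hX hO
    (fun y => isReflexiveAt_of_gen (bijective_smul_unitOne y)) (show genericPoint X ∈ (⊤ : X.Opens) from trivial)
    ((show X.presheaf.stalk (genericPoint X) from f) • AssSch12.unitOne (genericPoint X)) (fun y _ hd => by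
      have hy1 := (ringKrullDim_eq_one_iff_coheight y).1 hd
      obtain ⟨a, ha, -⟩ := exists_of_ord_nonneg hX hy1 hf (by rw [hord y hy1]; split_ifs <;> norm_num)
      refine ⟨a • AssSch12.unitOne y, ?_⟩
      rw [toGen_smul, toGen_unitOne]
      congr 1)
  have hg : (X.presheaf.germ ⊤ (genericPoint X) trivial (show Γ(X, ⊤) from n) : X.functionField) = f := by
    have := (AssSch12.germ_eq_smul_unitOne (genericPoint X) (U := ⊤) trivial (show Γ(X, ⊤) from n)).symm.trans hn
    exact (bijective_smul_unitOne (genericPoint X)).1 this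
  refine ⟨(show Γ(X, ⊤) from n), ?_⟩
  have hgx : ∀ x : X, algebraMap (X.presheaf.stalk x) X.functionField
      (X.presheaf.germ ⊤ x trivial (show Γ(X, ⊤) from n)) = f := fun x =>
    (algebraMap_germ (U := ⊤) trivial (show Γ(X, ⊤) from n)).trans hg
  generalize (show Γ(X, ⊤) from n) = g at hgx
  refine ⟨fun x h => ?_, fun x h => ?_⟩
  · haveI := (hX x).1
    haveI := (hX ζ).1
    refine le_antisymm ?_ ?_
    · intro b hb
      by_cases hb0 : b = 0
      · rw [hb0]; exact Submodule.zero_mem _
      have hbK : algebraMap (X.presheaf.stalk x) X.functionField b ≠ 0 :=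
        (map_ne_zero_iff _ (IsFractionRing.injective _ _)).2 hb0
      obtain ⟨c, hc⟩ := exists_integral hX (x := x) (algebraMap (X.presheaf.stalk x) X.functionField b / f)
        (div_ne_zero hbK hf) fun y hy hy1 => by
          have hm := Scheme.ord_mul (x := y) (div_ne_zero hbK hf) hf
          rw [div_mul_cancel₀ _ hf, hord y hy1] at hm
          haveI := (hX y).1
          have hby0 : (X.presheaf.stalkSpecializes hy).hom b ≠ 0 := fun e => hbK (by
            rw [← algebraMap_stalkSpecializes hy b, e, map_zero])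
          have hn := ord_nonneg hX hy1 _ hby0
          rw [algebraMap_stalkSpecializes hy b] at hn
          split_ifs at hm with e
          · subst e
            have := hn.2 hb
            omega
          · have := hn.1
            omega
      refine Ideal.mem_span_singleton'.2 ⟨c, IsFractionRing.injective (X.presheaf.stalk x) X.functionField ?_⟩
      rw [map_mul, hc, hgx x, div_mul_cancel₀ _ hf]
    · refine Submodule.span_le.2 (Set.singleton_subset_iff.2 ?_)
      obtain ⟨b, hb, hbm⟩ := exists_of_ord_nonneg hX hζ hf (by rw [h1]; norm_num)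
      have : b = (X.presheaf.stalkSpecializes h).hom (X.presheaf.germ ⊤ x trivial g) :=
        IsFractionRing.injective _ X.functionField (by rw [hb, algebraMap_stalkSpecializes h, hgx x])
      have hmem := hbm (by rw [h1])
      rw [this] at hmem
      exact hmem
  · obtain ⟨c, hc⟩ := exists_integral hX (x := x) f⁻¹ (inv_ne_zero hf) fun y hy hy1 => by
      have hm := Scheme.ord_mul (x := y) hf (inv_ne_zero hf)
      rw [mul_inv_cancel₀ hf, (Scheme.ord_eq_iff hy1 one_ne_zero (n := 0)).2 (map_one _),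
        h0 y (fun e => h (e ▸ hy)) hy1] at hm
      omega
    haveI := (hX x).1
    refine IsUnit.of_mul_eq_one c (IsFractionRing.injective (X.presheaf.stalk x) X.functionField ?_)
    rw [map_mul, hgx x, hc, mul_inv_cancel₀ hf, map_one]

theorem normal_princ_of_cutOut (H : CutOut X) : Pi1.IsNormalScheme X ∧ Princ X := by
  have hu : ∀ x : X, UniqueFactorizationMonoid (X.presheaf.stalk x) := by
    intro x
    refine UniqueFactorizationMonoid.of_forall_isPrincipal_of_height_eq_one fun p _ hp => ?_
    obtain ⟨ζ, hζ, hc⟩ := S5090.exists_gen x ⟨p, inferInstance⟩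
    replace hc : (IsLocalRing.maximalIdeal (X.presheaf.stalk ζ)).comap (X.presheaf.stalkSpecializes hζ).hom = p := hc
    obtain ⟨g, hg, -⟩ := H ζ ((ringKrullDim_eq_one_iff_coheight ζ).1 (by rw [S5090.dim_eq_height hζ, hc, hp]; rfl))
    exact ⟨_, hc.symm.trans (hg x hζ)⟩
  have hX : Pi1.IsNormalScheme X := fun x => ⟨inferInstance, by haveI := hu x; infer_instance⟩
  refine ⟨hX, fun ζ hζ => ?_⟩
  obtain ⟨g, hg, hgu⟩ := H ζ hζ
  haveI := (hX ζ).2
  have hdim : ringKrullDim (X.presheaf.stalk ζ) = 1 := (ringKrullDim_eq_one_iff_coheight ζ).2 hζ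
  haveI : IsRegularLocalRing (X.presheaf.stalk ζ) := CAlgH3.isRegularLocalRing_of_normal_dim_le_one hdim.le
  obtain ⟨_, hdvr⟩ := CAlgMisc2.dvr_iff.2
    ⟨spanFinrank_le_of_dim_le (R := X.presheaf.stalk ζ) (k := 1) (by exact_mod_cast hdim.le), hdim⟩
  haveI : Ring.KrullDimLE 1 (X.presheaf.stalk ζ) := krullDimLE_of_coheight_le hζ.le
  have hmax : IsLocalRing.maximalIdeal (X.presheaf.stalk ζ) = Ideal.span {X.presheaf.germ ⊤ ζ trivial g} := by
    rw [← hg ζ specializes_rfl, X.presheaf.stalkSpecializes_refl]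
    rfl
  have hirr : Irreducible (X.presheaf.germ ⊤ ζ trivial g) :=
    (IsDiscreteValuationRing.irreducible_iff_uniformizer _).2 hmax
  let f : X.functionField := X.presheaf.germ ⊤ (genericPoint X) trivial g
  have hfy : ∀ y : X, algebraMap (X.presheaf.stalk y) X.functionField (X.presheaf.germ ⊤ y trivial g) = f := fun y =>
    algebraMap_germ _ _
  have hf : f ≠ 0 := by
    rw [← hfy ζ]
    exact (map_ne_zero_iff _ (IsFractionRing.injective _ _)).2 hirr.ne_zero
  refine ⟨f, hf, (Scheme.ord_eq_iff hζ hf).2 (hfy ζ ▸ Ring.ordFrac_irreducible hirr), fun y hne hy => ?_⟩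
  have hnot : ¬ ζ ⤳ y := fun h => by
    refine S5090.comap_ne y ζ h (Ne.symm hne) ?_
    have h1 : (IsLocalRing.maximalIdeal (X.presheaf.stalk y)).height = 1 := by
      have := (ringKrullDim_eq_one_iff_coheight y).2 hy
      rw [← IsLocalRing.maximalIdeal_height_eq_ringKrullDim] at this
      exact WithBot.coe_injective this
    have h2 : ((IsLocalRing.maximalIdeal (X.presheaf.stalk ζ)).comap (X.presheaf.stalkSpecializes h).hom).height = 1 := by
      rw [S5090.dim_eq_height h] at hdim
      exact WithBot.coe_injective hdim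
    rcases eq_or_lt_of_le (IsLocalRing.le_maximalIdeal
      (J := (IsLocalRing.maximalIdeal (X.presheaf.stalk ζ)).comap (X.presheaf.stalkSpecializes h).hom)
      (Ideal.IsPrime.comap _).ne_top) with e | e
    · exact e
    · have := Ideal.height_strict_mono_of_isPrime e
      rw [h1, h2] at this
      exact absurd this (lt_irrefl _)
  obtain ⟨u, hu'⟩ := hgu y hnot
  haveI := (hX y).1
  have hn := ord_nonneg hX hy _ u.ne_zero
  have hn' := ord_nonneg hX hy _ u⁻¹.ne_zero
  rw [hu', hfy y] at hn
  have hne' : algebraMap (X.presheaf.stalk y) X.functionField ↑u⁻¹ ≠ 0 :=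
    (map_ne_zero_iff _ (IsFractionRing.injective _ _)).2 u⁻¹.ne_zero
  have hm := Scheme.ord_mul (x := y) hf hne'
  rw [← hfy y, ← hu', ← map_mul, Units.mul_inv, map_one, (Scheme.ord_eq_iff hy one_ne_zero (n := 0)).2 (map_one _),
    hu', hfy y] at hm
  have := hn.1
  have := hn'.1
  omega

theorem ord_zpow {y : X} (hy : Order.coheight y = 1) {f : X.functionField} (hf : f ≠ 0) (k : ℤ) :
    Scheme.ord (f ^ k) y = k * Scheme.ord f y := by
  induction k using Int.induction_on with
  | zero => rw [zpow_zero, zero_mul]; exact (Scheme.ord_eq_iff hy one_ne_zero).2 (map_one _)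
  | succ i ih => rw [zpow_add_one₀ hf, Scheme.ord_mul (zpow_ne_zero _ hf) hf, ih]; ring
  | pred i ih =>
    have := Scheme.ord_mul (x := y) (zpow_ne_zero (-(i : ℤ) - 1) hf) hf
    rw [← zpow_add_one₀ hf, sub_add_cancel, ih] at this
    linarith

theorem ufd_pic_of_princ [CompactSpace X] (hX : Pi1.IsNormalScheme X) (H : Princ X) :
    (∀ x : X, UniqueFactorizationMonoid (X.presheaf.stalk x)) ∧
      ∀ L : X.Modules, PicF.IsInvertible L → Nonempty (L ≅ Coh.structureModule X) := by
  classical
  refine ⟨fun x => ?_, fun L hL => ?_⟩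
  · haveI := (hX x).1
    refine UniqueFactorizationMonoid.of_forall_isPrincipal_of_height_eq_one fun p _ hp => ?_
    obtain ⟨ζ, hζ, hc⟩ := S5090.exists_gen x ⟨p, inferInstance⟩
    replace hc : (IsLocalRing.maximalIdeal (X.presheaf.stalk ζ)).comap (X.presheaf.stalkSpecializes hζ).hom = p := hc
    have h1 := S5105.coheight_eq_one hX hζ (hc.symm ▸ hp)
    obtain ⟨f, hf, hf1, hf0⟩ := H ζ h1
    rw [← hc]
    refine S5105.isPrincipal hX AmpleLib.isInvertible_structureModule
      (s := f • AssSch12.unitOne (genericPoint X)) ?_ ζ h1 ?_ (fun y hy hy1 => ?_) hζ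
    · exact fun e => unitOne_ne_zero (by rw [← inv_smul_smul₀ hf (AssSch12.unitOne (genericPoint X)), e]; exact smul_zero _)
    · rw [sOrd_smul_unitOne hf h1]; exact hf1
    · rw [sOrd_smul_unitOne hf hy1]; exact hf0 y hy hy1
  · obtain ⟨t, ht⟩ := CAlgH3.InvertibleDivisor.exists_gen hL (genericPoint X)
    have ht0 : t ≠ 0 := fun e => one_ne_zero (α := X.presheaf.stalk (genericPoint X)) (ht.1 (by simp [e]))
    obtain ⟨D, hD0, hD⟩ := exists_cycle_sOrd (isRef1 hL) ht0
    have hfin : (Function.support D).Finite := by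
      choose W hW hWfin using fun z : X => D.supportLocallyFiniteWithinDomain' z (Set.mem_univ z)
      obtain ⟨T, hT⟩ := isCompact_univ.elim_nhds_subcover W fun z _ => hW z
      refine (T.finite_toSet.biUnion fun z _ => hWfin z).subset fun y hy => ?_
      obtain ⟨z, hz, hyz⟩ := Set.mem_iUnion₂.1 (hT.2 (Set.mem_univ y))
      exact Set.mem_biUnion hz ⟨hyz, hy⟩
    have hex : ∀ z : X, ∃ f : X.functionField, f ≠ 0 ∧ (Order.coheight z = 1 →
        ∀ y : X, Order.coheight y = 1 → Scheme.ord f y = if y = z then 1 else 0) := by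
      intro z
      by_cases hz : Order.coheight z = 1
      · obtain ⟨f, hf, hf1, hf0⟩ := H z hz
        refine ⟨f, hf, fun _ y hy => ?_⟩
        split_ifs with e
        · rw [e]; exact hf1
        · exact hf0 y e hy
      · exact ⟨1, one_ne_zero, fun h => absurd h hz⟩
    choose F hF hFord using hex
    have hne : ∀ S : Finset X, (∏ z ∈ S, F z ^ D z) ≠ 0 := fun S =>
      Finset.prod_ne_zero_iff.2 fun z _ => zpow_ne_zero _ (hF z)
    have hprod : ∀ S : Finset X, (∀ z ∈ S, Order.coheight z = 1) → ∀ y : X, Order.coheight y = 1 →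
        Scheme.ord (∏ z ∈ S, F z ^ D z) y = if y ∈ S then D y else 0 := by
      intro S hS y hy
      induction S using Finset.induction_on with
      | empty => simp only [Finset.prod_empty, Finset.notMem_empty, if_false]; exact (Scheme.ord_eq_iff hy one_ne_zero).2 (map_one _)
      | @insert a S ha ih =>
        rw [Finset.prod_insert ha, Scheme.ord_mul (zpow_ne_zero _ (hF a)) (hne S), ord_zpow hy (hF a),
          hFord a (hS a (Finset.mem_insert_self a S)) y hy, ih fun z hz => hS z (Finset.mem_insert_of_mem hz)]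
        by_cases hya : y = a
        · subst hya; simp [ha]
        · simp [hya]
    let S := hfin.toFinset
    have hS : ∀ z ∈ S, Order.coheight z = 1 := fun z hz => by
      by_contra h
      exact hfin.mem_toFinset.1 hz (hD0 z h)
    let f := ∏ z ∈ S, F z ^ D z
    have ht' : f • AssSch12.unitOne (genericPoint X) ≠ 0 := fun e =>
      unitOne_ne_zero (by rw [← inv_smul_smul₀ (hne S) (AssSch12.unitOne (genericPoint X)), e]; exact smul_zero _)
    refine nonempty_iso_of_isDiv hX (isRef1 hL) isRef1_structureModule ht0 ht' fun y hy => ?_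
    rw [sOrd_smul_unitOne (hne S) hy, hprod S hS y hy, ← hD y hy]
    split_ifs with h
    · rfl
    · by_contra hne'
      exact h (hfin.mem_toFinset.2 hne')

theorem princ_of_ufd_pic (hX : Pi1.IsNormalScheme X) (hu : ∀ x : X, UniqueFactorizationMonoid (X.presheaf.stalk x))
    (hp : ∀ L : X.Modules, PicF.IsInvertible L → Nonempty (L ≅ Coh.structureModule X)) : Princ X := by
  classical
  intro ζ hζ
  obtain ⟨L, hL, s, hs, hord⟩ := (S5105.result X hX).2 hu (fun y => if y = ζ then 1 else 0)
    (fun y hy => if_neg fun e : y = ζ => hy (e ▸ hζ))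
    (fun y => ⟨⊤, trivial, (Set.finite_singleton ζ).subset fun z hz => by
      by_contra hne
      exact hz.2 (if_neg hne)⟩)
  obtain ⟨s, rfl⟩ := Submodule.Quotient.mk_surjective _ s
  obtain ⟨f, hf, hfs⟩ := (nonempty_iso_iff hX (isRef1 hL) isRef1_structureModule (s := s)
    (fun e => hs (by rw [e]; rfl)) unitOne_ne_zero).1 (hp L hL)
  have key : ∀ y : X, Order.coheight y = 1 → Scheme.ord f y = if y = ζ then 1 else 0 := fun y hy => by
    have := hfs y hy
    rw [sOrd_unitOne hy, zero_add] at this
    rw [← this]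
    exact hord y hy
  exact ⟨f, hf, (key ζ hζ).trans (if_pos rfl), fun y hne hy => (key y hy).trans (if_neg hne)⟩

theorem princ_of_pic_opens (hX : Pi1.IsNormalScheme X)
    (hp : ∀ (U : X.Opens) (L : (U : Scheme.{u}).Modules),
        PicF.IsInvertible L → Nonempty (L ≅ Coh.structureModule (U : Scheme.{u}))) : Princ X := by
  classical
  intro ζ hζ
  let D : AlgebraicCycle X ℤ :=
    { toFun := fun y => if y = ζ then 1 else 0
      supportWithinDomain' := Set.subset_univ _
      supportLocallyFiniteWithinDomain' := fun z _ => ⟨Set.univ, Filter.univ_mem, (Set.finite_singleton ζ).subset fun y hy => by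
        by_contra hne
        exact hy.2 (if_neg hne)⟩ }
  obtain ⟨F, hF, s, hs, hord⟩ := exists_ref1_of_cycle hX D
  let U : X.Opens := ⨆ (W : X.Opens) (_ : ∃ m : Γ(F, W), PicLib.IsGen F W m), W
  have hgood : ∀ y : X, ringKrullDim (X.presheaf.stalk y) ≤ 1 → y ∈ U := fun y hy => by
    obtain ⟨t, ht⟩ := exists_gen_codimOne hX hF hy
    obtain ⟨W, hW, m, hm, -⟩ := exists_isGen_near hF.1 t ht
    exact TopologicalSpace.Opens.mem_iSup.2 ⟨W, TopologicalSpace.Opens.mem_iSup.2 ⟨⟨m, hm⟩, hW⟩⟩
  have hinv : PicF.IsInvertible (F.restrict U.ι) := Groth.Agent.TwistLib.G.isInvertible_restrict_of_gens U fun y hy => by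
    obtain ⟨W, hW⟩ := TopologicalSpace.Opens.mem_iSup.1 hy
    obtain ⟨⟨m, hm⟩, hyW⟩ := TopologicalSpace.Opens.mem_iSup.1 hW
    exact ⟨W, hyW, m, hm⟩
  obtain ⟨e⟩ := hp U _ hinv
  obtain ⟨m, hm⟩ := PicLib.exists_isGen_of_iso e
  have hη : genericPoint X ∈ U := genericPoint_mem_of_mem (hgood ζ ((ringKrullDim_eq_one_iff_coheight ζ).2 hζ).le)
  obtain ⟨φ, hφ⟩ := (SDiv28.bijective_smul_germ_gen hm hη).2 s
  have hφ0 : (φ : X.functionField) ≠ 0 := fun e => hs (by
    rw [← hφ]; exact (congrArg (· • _) (e : φ = 0)).trans (zero_smul _ _))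
  have key : ∀ y : X, Order.coheight y = 1 → Scheme.ord (φ : X.functionField) y = if y = ζ then 1 else 0 := fun y hy => by
    have hyU : y ∈ U := hgood y ((ringKrullDim_eq_one_iff_coheight y).2 hy).le
    rw [← sOrd_eq hF.1.1 hy (SDiv28.bijective_smul_germ_gen hm hyU) (φ : X.functionField) s (by rw [toGen_germ]; exact hφ),
      ← hord y hy]
    rfl
  exact ⟨φ, hφ0, (key ζ hζ).trans (if_pos rfl), fun y hne hy => (key y hy).trans (if_neg hne)⟩

theorem cutOut_opens (H : CutOut X) (U : X.Opens) : CutOut (U : Scheme.{u}) := by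
  intro ζ hζ
  have hdim : ∀ y : (U : Scheme.{u}), Order.coheight y = 1 → Order.coheight (U.ι y) = 1 := by
    intro y hy
    haveI : Nonempty U := ⟨y⟩
    refine (ringKrullDim_eq_one_iff_coheight _).1 ?_
    rw [ringKrullDim_eq_of_ringEquiv (asIso (U.ι.stalkMap y)).commRingCatIsoToRingEquiv]
    exact (ringKrullDim_eq_one_iff_coheight y).2 hy
  obtain ⟨g, hg, hgu⟩ := H (U.ι ζ) (hdim ζ hζ)
  refine ⟨U.ι.app ⊤ g, fun x h => ?_, fun x h => ?_⟩
  · have h' : U.ι ζ ⤳ U.ι x := h.map U.ι.continuous
    have hgx : (U.ι.stalkMap x).hom (X.presheaf.germ ⊤ (U.ι x) trivial g) =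
        (U : Scheme.{u}).presheaf.germ ⊤ x trivial (U.ι.app ⊤ g) := Scheme.Hom.germ_stalkMap_apply U.ι ⊤ x trivial g
    have hbij : Function.Bijective (U.ι.stalkMap x).hom := ConcreteCategory.bijective_of_isIso _
    rw [← hgx, ← Set.image_singleton, ← Ideal.map_span, ← hg (U.ι x) h']
    ext b
    obtain ⟨a, rfl⟩ := hbij.2 b
    rw [Ideal.mem_map_iff_of_surjective _ hbij.2, Ideal.mem_comap]
    have hsq : (U : Scheme.{u}).presheaf.stalkSpecializes h (U.ι.stalkMap x a) =
        U.ι.stalkMap ζ (X.presheaf.stalkSpecializes h' a) :=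
      (Scheme.Hom.stalkSpecializes_stalkMap_apply U.ι ζ x h a).symm
    have hiff : ((U : Scheme.{u}).presheaf.stalkSpecializes h).hom ((U.ι.stalkMap x).hom a) ∈
          IsLocalRing.maximalIdeal ((U : Scheme.{u}).presheaf.stalk ζ) ↔
        (X.presheaf.stalkSpecializes h').hom a ∈ IsLocalRing.maximalIdeal (X.presheaf.stalk (U.ι ζ)) := by
      rw [IsLocalRing.mem_maximalIdeal, IsLocalRing.mem_maximalIdeal, mem_nonunits_iff, mem_nonunits_iff]
      refine not_congr ?_
      change IsUnit ((U : Scheme.{u}).presheaf.stalkSpecializes h (U.ι.stalkMap x a)) ↔ _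
      rw [hsq]
      exact isUnit_map_iff (U.ι.stalkMap ζ).hom _
    rw [hiff]
    refine ⟨fun ha => ⟨a, Ideal.mem_comap.2 ha, rfl⟩, fun ⟨a', ha', e⟩ => ?_⟩
    rw [← hbij.1 e]
    exact Ideal.mem_comap.1 ha'
  · have h' : ¬ U.ι ζ ⤳ U.ι x := fun e => h (U.ι.isEmbedding.isInducing.specializes_iff.1 e)
    have := (hgu (U.ι x) h').map (U.ι.stalkMap x).hom
    rwa [Scheme.Hom.germ_stalkMap_apply U.ι ⊤ x trivial g] at this


/-- Let X be a Noetherian (locally Noetherian and quasi-compact) integral scheme; points of codimension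
1 are the points of coheight 1 in the specialization order. The following are equivalent. (1) For
every point ζ of codimension 1 there is a global section g of O_X cutting out the closure of ζ with
its reduced structure: at each specialization x of ζ the ideal of that closure in O_{X,x} (the prime
ideal of O_{X,x} corresponding to ζ, the preimage of the maximal ideal of O_{X,ζ}) is generated by
the germ of g, and g is invertible at the points outside the closure. (2) X is normal and every
prime cycle of codimension 1 is principal: for every point x₀ of codimension 1 there is a nonzero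
rational function with order of vanishing 1 at x₀ and 0 at every other point of codimension 1. (3)
Every local ring of X is a unique factorisation domain and every invertible O_X-module is trivial.
(4) X is normal and for every open subset U of X every invertible O_U-module is trivial. (The
published statement assumes X only locally Noetherian; quasi-compactness, which its published proof
uses, is added here.) -/
theorem result (X : Scheme.{u}) [IsIntegral X]
    [IsLocallyNoetherian X] [CompactSpace X] :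
    List.TFAE [
      ∀ ζ : ↥X, Order.coheight ζ = 1 → ∃ g : Γ(X, ⊤),
        (∀ (x : ↥X) (h : ζ ⤳ x),
          (IsLocalRing.maximalIdeal ↑(X.presheaf.stalk ζ)).comap (X.presheaf.stalkSpecializes h).hom =
            Ideal.span {X.presheaf.germ ⊤ x trivial g}) ∧
        ∀ x : ↥X, ¬ ζ ⤳ x → IsUnit (X.presheaf.germ ⊤ x trivial g),
      Pi1.IsNormalScheme X ∧ ∀ x₀ : ↥X, Order.coheight x₀ = 1 → ∃ f : ↑X.functionField, f ≠ 0 ∧
        Scheme.ord f x₀ = 1 ∧ ∀ x : ↥X, x ≠ x₀ → Order.coheight x = 1 → Scheme.ord f x = 0,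
      (∀ x : ↥X, UniqueFactorizationMonoid ↑(X.presheaf.stalk x)) ∧
        ∀ L : X.Modules, PicF.IsInvertible L → Nonempty (L ≅ Coh.structureModule X),
      Pi1.IsNormalScheme X ∧ ∀ (U : X.Opens) (L : (U : Scheme.{u}).Modules),
        PicF.IsInvertible L → Nonempty (L ≅ Coh.structureModule (U : Scheme.{u}))] := by
  tfae_have 1 → 2 := fun h => normal_princ_of_cutOut h
  tfae_have 2 → 3 := fun ⟨h, h'⟩ => ufd_pic_of_princ h h'
  tfae_have 3 → 1 := fun ⟨hu, hp⟩ =>
    have hX : Pi1.IsNormalScheme X := fun x => ⟨inferInstance, by haveI := hu x; infer_instance⟩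
    cutOut_of_princ hX (princ_of_ufd_pic hX hu hp)
  tfae_have 4 → 2 := fun ⟨h, hp⟩ => ⟨h, princ_of_pic_opens h hp⟩
  tfae_have 1 → 4 := fun h => ⟨(normal_princ_of_cutOut h).1, fun U L hL => by
    haveI : CompactSpace X := inferInstance
    haveI : IsNoetherian X := ⟨⟩
    haveI : CompactSpace (U : Scheme.{u}) := isCompact_iff_compactSpace.1 (NoetherianSpace.isCompact _)
    rcases isEmpty_or_nonempty U with hU | hU
    · exact ⟨(EtDeg8.isZero_of_isEmpty L).iso (EtDeg8.isZero_of_isEmpty _)⟩
    obtain ⟨hn, hp⟩ := normal_princ_of_cutOut (cutOut_opens h U)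
    exact (ufd_pic_of_princ hn hp).2 L hL⟩
  tfae_finish

end Groth.Agent.S3841
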