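import Groth.Statements.S6032
import Groth.Agent.S2439
import Groth.Agent.S2442
import Groth.Agent.CAlgH3.SupportLES
import Groth.Agent.Misc15.KoszulScheme
-- import your own Groth.Agent.* helpers here

set_option autoImplicit false
universe u
open CategoryTheory CategoryTheory.Limits TopologicalSpace AlgebraicGeometry
open LocCohZ

open Opposite

namespace Groth.Agent.S6032

open Groth.Agent.Misc15.Koszul (nonempty_bridge nonempty_congr res)

/-- The canonical map to the global functions of the spectrum. -/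
noncomputable def phi (A : Type u) [CommRing A] : A →+* Γ(Spec (CommRingCat.of A), ⊤) :=
  (Scheme.ΓSpecIso (CommRingCat.of A)).inv.hom

set_option backward.isDefEq.respectTransparency false in
theorem nonempty_global {R : CommRingCat.{u}} (N : ModuleCat.{u} R) :
    Nonempty (res (Scheme.ΓSpecIso R).inv.hom
      (ModuleCat.of Γ(Spec R, ⊤) ((tilde N).val.obj (op ⊤))) ≅ N) := by
  have : IsIso (tilde.toOpen N ⊤) := inferInstance
  refine ⟨Iso.trans ?_ (asIso (tilde.toOpen N ⊤)).symm⟩
  refine LinearEquiv.toModuleIso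
    (X₁ := res (Scheme.ΓSpecIso R).inv.hom (ModuleCat.of Γ(Spec R, ⊤) ((tilde N).val.obj (op ⊤))))
    (X₂ := (modulesSpecToSheaf.obj (tilde N)).presheaf.obj (op ⊤))
    { __ := AddEquiv.refl _
      map_smul' := fun r m => by
        show (Scheme.ΓSpecIso R).inv r • (show Γ(tilde N, ⊤) from m) =
          ((Spec R).presheaf.map (homOfLE (le_top : (⊤ : (Spec R).Opens) ≤ ⊤)).op) ((Scheme.ΓSpecIso R).inv r) • (show Γ(tilde N, ⊤) from m)
        rw [show (homOfLE (le_top (a := (⊤ : (Spec R).Opens)))) = 𝟙 _ from Subsingleton.elim _ _,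
          op_id, CategoryTheory.Functor.map_id]
        rfl }

/-- Let A be a commutative ring, f = (f_1, …, f_r) a finite family of elements of A with zero locus Y in
X = Spec A, and M an A-module with associated sheaf M~. For every i the group colim_n H^i(f^n, M)
(direct limit of Koszul cohomology of the powers) is isomorphic to H^i_Y(X, M~). (Existence of an
additive isomorphism in each degree; the published statement has an isomorphism of ∂-functors in M.) -/
theorem result (A : Type u) [CommRing A] (fs : List A) (M : Type u)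
    [AddCommGroup M] [Module A M] (i : ℕ) :
    Nonempty (CohIII.koszulHLim fs (ModuleCat.of A M) i ≃+
      LocCohZ.HZM (Spec (CommRingCat.of A)) (AlgebraicGeometry.tilde (R := CommRingCat.of A) (ModuleCat.of A M)) i
        (LocCoh.puncturedOpen A (Ideal.span {a | a ∈ fs}))) := by
  let X : Scheme.{u} := Spec (CommRingCat.of A)
  let F : X.Modules := tilde (R := CommRingCat.of A) (ModuleCat.of A M)
  haveI : Coh.IsQCoh F := inferInstance
  let fs' : List Γ(X, ⊤) := fs.map (phi A)
  let P := LocCoh.puncturedOpen A (Ideal.span {a | a ∈ fs})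
  let U : X.Opens := ⨆ k : Fin fs'.length, X.basicOpen (fs'.get k)
  have hU : U = P := by
    apply Opens.ext
    ext x
    change x ∈ U ↔ ¬ (((Ideal.span {a | a ∈ fs} : Ideal A) : Set A) ⊆ (x.asIdeal : Ideal A))
    rw [Opens.mem_iSup, SetLike.coe_subset_coe, Ideal.span_le, Set.not_subset]
    constructor
    · rintro ⟨k, hk⟩
      obtain ⟨a, ha, hak⟩ := List.mem_map.1 (List.get_mem fs' k)
      rw [← hak, phi, basicOpen_eq_of_affine'] at hk
      simp only [Iso.inv_hom_id_apply] at hk
      exact ⟨a, ha, hk⟩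
    · rintro ⟨a, ha, hax⟩
      obtain ⟨k, hk⟩ := List.get_of_mem (List.mem_map_of_mem (f := phi A) ha : phi A a ∈ fs')
      refine ⟨k, ?_⟩
      rw [hk, phi, basicOpen_eq_of_affine']
      simp only [Iso.inv_hom_id_apply]
      exact hax
  obtain ⟨g⟩ := nonempty_global (R := CommRingCat.of A) (ModuleCat.of A M)
  have hb : ∀ p, Nonempty (CohIII.koszulHLim fs (ModuleCat.of A M) p ≃+
      CohIII.koszulHLim fs' (ModuleCat.of Γ(X, ⊤) (F.val.obj (op ⊤))) p) := fun p => by
    obtain ⟨b⟩ := nonempty_bridge (phi A) (ModuleCat.of Γ(X, ⊤) (F.val.obj (op ⊤))) fs p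
    obtain ⟨c⟩ := nonempty_congr g fs p
    exact ⟨c.toAddEquiv.symm.trans b.symm⟩
  obtain ⟨b⟩ := hb i
  suffices h : Nonempty (CohIII.koszulHLim fs' (ModuleCat.of Γ(X, ⊤) (F.val.obj (op ⊤))) i ≃+
      LocCohZ.HZM X F i U) by
    obtain ⟨e⟩ := h
    show Nonempty (_ ≃+ LocCohZ.HZM X F i P)
    rw [← hU]
    exact ⟨b.trans e⟩
  have hv : ∀ n, 1 ≤ n → Subsingleton (CohTop.HU (X := X.carrier) (Coh.toAb F) n ⊤) := fun n hn =>
    Groth.Agent.Coherent.subsingleton_H'_qcoh_pos F (isAffineOpen_top X) hn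
  match i with
  | 0 =>
    obtain ⟨⟨e⟩, -⟩ := Groth.Agent.S2442.result X fs' F
    exact ⟨e.symm.trans (LocCohZ.sect0Equiv (X := X.carrier) (Coh.toAb F) (le_top : U ≤ ⊤)).symm⟩
  | 1 =>
    obtain ⟨-, ⟨e⟩⟩ := Groth.Agent.S2442.result X fs' F
    obtain ⟨d⟩ := CAlgH3.SupportLES.nonempty_one (X := X.carrier) (Coh.toAb F) (le_top : U ≤ ⊤) (hv 1 le_rfl)
    exact ⟨e.symm.trans d⟩
  | q + 1 + 1 =>
    obtain ⟨e⟩ := Groth.Agent.S2439.result X fs' (fun k => (isAffineOpen_top X).basicOpen _) F (q + 1) (by omega)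
    obtain ⟨d⟩ := CAlgH3.SupportLES.nonempty_shift (X := X.carrier) (Coh.toAb F) (le_top : U ≤ ⊤) (q + 1)
      (hv _ (by omega)) (hv _ (by omega))
    exact ⟨(e.symm.trans (Groth.Agent.Coherent.HHonEquiv F U (q + 1))).trans d⟩

end Groth.Agent.S6032
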