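import Groth.Statements.S17539
import Groth.Agent.CommAlg4.DecayingNoetherian
import Groth.Agent.CommAlg4.DecayingSpan
import Mathlib.RingTheory.AdicCompletion.AsTensorProduct
import Mathlib.RingTheory.LocalRing.Module
import Mathlib.LinearAlgebra.TensorProduct.Quotient
import Mathlib.Tactic

set_option linter.all false

set_option autoImplicit false
universe u v w
open W4c5adicflatcompl
open CAlg

open Groth.Agent.CommAlg4
open scoped TensorProduct

namespace Groth.Agent.S17539

/-- For a commutative ring A, an ideal I, a set Z and an A-module M whose I-adic completion M^ is itself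
I-adically complete, the canonical map from the I-adic completion of Z →₀ M to the functions Z → M^,
whose z-th coordinate is the completion of evaluation at z, is injective with image the I-adically
decaying functions Z → M^. (The source states bijectivity of the inverse map, from decaying
functions to the limit of the finitely supported functions Z → M/I^n M, induced by the projections
M^ → M/I^n M; the two formulations are equivalent.) -/
theorem result {A : Type u} [CommRing A] (I : Ideal A) (Z : Type v)
    (M : Type w) [AddCommGroup M] [Module A M] [IsAdicComplete I (AdicCompletion I M)] :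
    Function.Injective
        (LinearMap.pi fun z : Z =>
          (AdicCompletion.map I (Finsupp.lapply (M := M) (R := A) z)).restrictScalars A) ∧
      LinearMap.range
        (LinearMap.pi fun z : Z =>
          (AdicCompletion.map I (Finsupp.lapply (M := M) (R := A) z)).restrictScalars A) =
        decaying I Z (AdicCompletion I M) := by
  classical
  set Φ := LinearMap.pi fun z : Z => (AdicCompletion.map I (Finsupp.lapply (M := M) (R := A) z)).restrictScalars A with hΦdef
  have hmem : ∀ (h : Z →₀ M) n, (∀ z, h z ∈ (I ^ n • ⊤ : Submodule A M)) → h ∈ (I ^ n • ⊤ : Submodule A (Z →₀ M)) := fun h n hh => by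
    rw [← h.sum_single]; exact sum_mem fun z _ => map_mem_pow (Finsupp.lsingle z) (hh z)
  have hval : ∀ (x : AdicCompletion I (Z →₀ M)) (z : Z) n (h : Z →₀ M), Submodule.Quotient.mk h = x.val n →
      (Φ x z).val n = Submodule.Quotient.mk (h z) := by
    intro x z n h hh
    show (AdicCompletion.map I (Finsupp.lapply (M := M) (R := A) z) x).val n = _
    rw [AdicCompletion.map_val_apply, ← hh]; rfl
  have hkereq := pow_smul_top_eq_ker_eval_iff.mp (inferInstance : IsAdicComplete I (AdicCompletion I M))
  refine ⟨?_, le_antisymm ?_ fun g hg => ?_⟩
  · rw [← LinearMap.ker_eq_bot, LinearMap.ker_eq_bot']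
    intro x hx
    refine AdicCompletion.ext fun n => ?_
    obtain ⟨h, hh⟩ := Submodule.Quotient.mk_surjective _ (x.val n)
    rw [← hh, AdicCompletion.val_zero_apply, Submodule.Quotient.mk_eq_zero]
    refine hmem h n fun z => (Submodule.Quotient.mk_eq_zero _).mp ?_
    rw [← hval x z n h hh, hx]; rfl
  · rintro _ ⟨x, rfl⟩ n
    obtain ⟨h, hh⟩ := Submodule.Quotient.mk_surjective _ (x.val n)
    refine h.support.finite_toSet.subset fun z hz => ?_
    by_contra h0
    simp only [Finset.mem_coe, Finsupp.mem_support_iff, not_not] at h0
    refine hz (hkereq n ?_)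
    rw [LinearMap.mem_ker, AdicCompletion.eval_apply, hval x z n h hh, h0, Submodule.Quotient.mk_zero]
  · choose y hy using fun n z => Submodule.Quotient.mk_surjective _ ((g z).val n)
    let h : ℕ → Z →₀ M := fun n => Finsupp.onFinset (hg n).toFinset
      (fun z => if g z ∈ (I ^ n • ⊤ : Submodule A (AdicCompletion I M)) then 0 else y n z)
      (fun z hz => by simp only [Set.Finite.mem_toFinset, Set.mem_ofPred_eq]; intro h; simp [h] at hz)
    have hh : ∀ n z, Submodule.Quotient.mk (h n z) = (g z).val n := by
      intro n z
      simp only [h, Finsupp.onFinset_apply]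
      split_ifs with h1
      · rw [Submodule.Quotient.mk_zero]
        exact (LinearMap.mem_ker.mp (AdicCompletion.pow_smul_top_le_ker_eval (I := I) (M := M) n h1)).symm
      · exact hy n z
    refine ⟨⟨fun n => Submodule.Quotient.mk (h n), fun {a b} hab => ?_⟩, funext fun z => AdicCompletion.ext fun n => ?_⟩
    · show Submodule.Quotient.mk (h b) = Submodule.Quotient.mk (h a)
      refine (Submodule.Quotient.eq _).mpr (hmem _ a fun z => ?_)
      rw [Finsupp.sub_apply, ← Submodule.Quotient.eq, hh a z, ← (g z).2 hab, ← hh b z]; rfl
    · exact (hval _ z n (h n) (by exact rfl)).trans (hh n z)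

end Groth.Agent.S17539
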