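import Groth.Statements.S4537
import Groth.Agent.EGA41Lib.RegularPow
import Mathlib

set_option backward.isDefEq.respectTransparency.types false

set_option autoImplicit false
universe u
open EGA41

namespace Groth.Agent.S4537

/-- For a discrete base and an adic algebra: let A be a discrete ring and B an A-algebra with the 𝔫-adic
topology. If every continuous A-algebra map from B to a quotient C/J with J² = 0 lifts to C, then
the same holds for every nilpotent J; hence the square-zero and the nilpotent forms of adic formal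
smoothness agree. -/
theorem result {A B : Type u} [CommRing A] [CommRing B] [Algebra A B]
    (𝔫 : Ideal B) :
    CAlgX.IsAdicFormallySmooth A B 𝔫 ↔ EGA41.IsFormallySmoothAdic A ⊥ B 𝔫 := by
  constructor
  · intro h C _ _ J hJ _ u hu
    revert u
    refine Ideal.IsNilpotent.induction_on
      (P := fun {S} _ I ↦ IsNilpotent I → ∀ [Algebra A S] (u : B →ₐ[A] S ⧸ I),
        (∃ k : ℕ, ∀ x ∈ 𝔫 ^ k, u x = 0) →
          ∃ v : B →ₐ[A] S, (Ideal.Quotient.mkₐ A I).comp v = u) J hJ ?_ ?_ hJ
    · intro S _ I hI _ _ u hu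
      exact h S I hI u hu
    · intro S _ I J hIJ h₁ h₂ hJn _ u hu
      let e := DoubleQuot.quotQuotEquivQuotOfLEₐ A hIJ
      obtain ⟨k, hk⟩ := hu
      obtain ⟨m, hm⟩ := hJn
      have hJm : J.map (Ideal.Quotient.mk I) ^ m = ⊥ := by
        rw [← Ideal.map_pow, hm, Ideal.zero_eq_bot, Ideal.map_bot]
      obtain ⟨v, hv⟩ := h₂ ⟨m, hJm⟩ (e.symm.toAlgHom.comp u) ⟨k, fun x hx ↦ by
        change e.symm (u x) = 0
        rw [hk x hx, map_zero]⟩
      have hle : (𝔫 ^ k).map v ≤ J.map (Ideal.Quotient.mk I) :=
        Ideal.map_le_iff_le_comap.2 fun x hx ↦ by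
          rw [Ideal.mem_comap, ← Ideal.Quotient.eq_zero_iff_mem]
          have := congr($hv x)
          simp only [AlgHom.comp_apply, Ideal.Quotient.mkₐ_eq_mk, hk x hx, map_zero] at this
          exact this
      have hI : IsNilpotent I := by
        refine ⟨m, eq_bot_iff.2 ?_⟩
        rw [← Ideal.zero_eq_bot, ← hm]
        exact Ideal.pow_right_mono hIJ m
      obtain ⟨w, hw⟩ := h₁ hI v ⟨k * m, fun x hx ↦ by
        have : v x ∈ ((𝔫 ^ k).map v) ^ m := by
          rw [← Ideal.map_pow, ← pow_mul]; exact Ideal.mem_map_of_mem _ hx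
        have := Ideal.pow_right_mono hle m this
        rw [hJm] at this
        exact this⟩
      refine ⟨w, AlgHom.ext fun x ↦ ?_⟩
      have h3 := congr(e $(congr($hv x)))
      rw [← hw] at h3
      simp only [AlgHom.comp_apply] at h3 ⊢
      exact h3.trans (e.apply_symm_apply _)
  · intro h C _ _ J hJ u hu
    exact h C J ⟨2, hJ⟩ ⟨1, by simp⟩ u hu

end Groth.Agent.S4537
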