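import Groth.Statements.S4808
import Mathlib

set_option autoImplicit false
set_option backward.isDefEq.respectTransparency.types false
universe u
open CategoryTheory AlgebraicGeometry
open Lim8

namespace Groth.Agent.S4808

/-- Let Y' and Y be integral schemes, Y normal (every local ring of Y is integrally closed), and u : Y'
⟶ Y a finite morphism which is birational: u maps the generic point of Y' to the generic point of Y
and the stalk map of u at the generic point of Y', which is the induced homomorphism of function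
fields, is an isomorphism. Then u is an isomorphism. -/
theorem result {Y' Y : Scheme.{u}} [IsIntegral Y'] [IsIntegral Y]
    (hN : ∀ y : Y, IsIntegrallyClosed (Y.presheaf.stalk y)) (u : Y' ⟶ Y) [IsFinite u]
    (hgen : u (genericPoint Y') = genericPoint Y)
    (hbir : IsIso (u.stalkMap (genericPoint Y'))) : IsIso u := by
  have hy₀ : u (genericPoint Y') = genericPoint Y := hgen
  have hsurj : ∀ U : Y.Opens, IsAffineOpen U → Function.Surjective (u.app U).hom := by
    intro U hU
    by_cases hne : (U : Set Y).Nonempty
    swap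
    · have : u ⁻¹ᵁ U = ⊥ := by
        ext x; simp only [TopologicalSpace.Opens.coe_bot, Set.mem_empty_iff_false, iff_false]
        exact fun h ↦ hne ⟨u x, h⟩
      intro b
      refine ⟨0, ?_⟩
      have : Subsingleton Γ(Y', u ⁻¹ᵁ U) := by
        rw [this]; exact (inferInstance : Subsingleton Γ(Y', ⊥))
      exact Subsingleton.elim _ _
    obtain ⟨x₀, hx₀⟩ := hne
    have : Nonempty U := ⟨⟨x₀, hx₀⟩⟩
    have hηU : genericPoint Y ∈ U := (genericPoint_specializes x₀).mem_open U.isOpen hx₀
    let y := u (genericPoint Y')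
    have hyU : y ∈ U := by show u _ ∈ U; rw [hy₀]; exact hηU
    let : Algebra Γ(Y, U) (Y.presheaf.stalk y) := (Y.presheaf.germ U y hyU).hom.toAlgebra
    have hfr : IsFractionRing Γ(Y, U) (Y.presheaf.stalk y) := by
      have key : ∀ (z : Y) (hz : z ∈ U), z = genericPoint Y →
          letI : Algebra Γ(Y, U) (Y.presheaf.stalk z) := (Y.presheaf.germ U z hz).hom.toAlgebra
          IsFractionRing Γ(Y, U) (Y.presheaf.stalk z) := by
        rintro z hz rfl
        exact functionField_isFractionRing_of_isAffineOpen Y U hU
      exact key y hyU hy₀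
    have : IsDomain Γ(Y, U) := inferInstance
    have : IsIntegrallyClosed Γ(Y, U) := IsIntegrallyClosed.of_localization_maximal fun p _ hp ↦ by
      let P : PrimeSpectrum Γ(Y, U) := ⟨p, hp.isPrime⟩
      obtain ⟨z, hz, hzP⟩ : ∃ (z : Y) (hz : z ∈ U), hU.primeIdealOf ⟨z, hz⟩ = P := by
        refine ⟨hU.fromSpec P, hU.range_fromSpec.le (Set.mem_range_self _), ?_⟩
        exact hU.fromSpec.isOpenEmbedding.injective (hU.fromSpec_primeIdealOf _)
      let : Algebra Γ(Y, U) (Y.presheaf.stalk z) := (Y.presheaf.germ U z hz).hom.toAlgebra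
      have hloc := hU.isLocalization_stalk ⟨z, hz⟩
      rw [hzP] at hloc
      have := hN z
      exact IsIntegrallyClosed.of_equiv
        (@IsLocalization.algEquiv Γ(Y, U) _ p.primeCompl (Y.presheaf.stalk z) _ _ hloc (Localization p.primeCompl) _ _ _).toRingEquiv
    intro b
    have hmem : genericPoint Y' ∈ u ⁻¹ᵁ U := hyU
    obtain ⟨x, hx⟩ := ((ConcreteCategory.isIso_iff_bijective (u.stalkMap (genericPoint Y'))).mp hbir).2
      (Y'.presheaf.germ (u ⁻¹ᵁ U) _ hmem b)
    have hint : IsIntegral Γ(Y, U) x := by
      obtain ⟨q, hq, hqb⟩ := (IsFinite.finite_app (f := u) U hU).to_isIntegral b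
      refine ⟨q, hq, ?_⟩
      apply ((ConcreteCategory.isIso_iff_bijective (u.stalkMap (genericPoint Y'))).mp hbir).1
      rw [map_zero]
      refine (Polynomial.hom_eval₂ q _ (u.stalkMap (genericPoint Y')).hom x).trans ?_
      have : (u.stalkMap (genericPoint Y')).hom.comp (algebraMap Γ(Y, U) (Y.presheaf.stalk y)) =
          (Y'.presheaf.germ (u ⁻¹ᵁ U) _ hmem).hom.comp (u.app U).hom := by
        ext a; exact Scheme.Hom.germ_stalkMap_apply u U (genericPoint Y') hmem a
      rw [this, hx]
      refine (Polynomial.hom_eval₂ q (u.app U).hom (Y'.presheaf.germ (u ⁻¹ᵁ U) _ hmem).hom b).symm.trans ?_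
      rw [hqb, map_zero]
    obtain ⟨a, ha⟩ := IsIntegrallyClosed.isIntegral_iff.mp hint
    refine ⟨a, germ_injective_of_isIntegral Y' (genericPoint Y') hmem ?_⟩
    rw [← hx, ← ha]
    exact (Scheme.Hom.germ_stalkMap_apply u U (genericPoint Y') hmem a).symm
  have : IsClosedImmersion u := by
    rw [HasAffineProperty.eq_targetAffineLocally (P := @IsClosedImmersion)]
    intro U
    have : IsAffine (u ⁻¹ᵁ U.1 : Scheme.{u}) := U.2.preimage u
    refine ⟨inferInstance, ?_⟩
    rw [Scheme.Hom.appTop, morphismRestrict_app]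
    refine (RingHom.surjective_respectsIso.cancel_right_isIso _ _).mpr (hsurj _ ?_)
    rw [U.1.ι_image_top]; exact U.2
  have : Surjective u := by
    refine ⟨fun y ↦ ?_⟩
    have hc : IsClosed (Set.range u) := u.isClosedEmbedding.isClosed_range
    have : genericPoint Y ∈ Set.range u := ⟨_, hy₀⟩
    exact (genericPoint_specializes y).mem_closed hc this
  exact isIso_of_isClosedImmersion_of_surjective u

end Groth.Agent.S4808
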