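import Groth.Statements.S14990
import Groth.Agent.BertiniLib.Affine
import Groth.Agent.ZeroSchLib.Basic
import Mathlib.AlgebraicGeometry.Morphisms.Smooth

set_option autoImplicit false
set_option backward.isDefEq.respectTransparency.types false
universe u
open CategoryTheory CategoryTheory.Limits AlgebraicGeometry
open Variety
open scoped KaehlerDifferential
open Groth.Agent.Coherent Groth.Agent.PicLib Groth.Agent

namespace Groth.Agent.S14990

theorem germ_smul' {Y : Scheme.{u}} (M : Y.Modules) {W : Y.Opens} {p : Y} (hp : p ∈ W) (r : Γ(Y, W))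
    (m : Γ(M, W)) :
    M.presheaf.germ W p hp (r • m) = Y.presheaf.germ W p hp r • M.presheaf.germ W p hp m :=
  PresheafOfModules.germ_smul M.val p W hp r m

theorem germ_gen_bijective {Y : Scheme.{u}} {L : Y.Modules} {U : Y.Opens} {e : Γ(L, U)}
    (he : IsGen L U e) {p : Y} (hp : p ∈ U) :
    Function.Bijective (fun r : Y.presheaf.stalk p => r • L.presheaf.germ U p hp e) := by
  constructor
  · intro r r' h
    obtain ⟨W, hW, a, rfl⟩ := Y.presheaf.exists_germ_eq r
    obtain ⟨W', hW', a', rfl⟩ := Y.presheaf.exists_germ_eq r'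
    let V := W ⊓ W' ⊓ U
    have hV : p ∈ V := ⟨⟨hW, hW'⟩, hp⟩
    have key : ∀ {W₀ : Y.Opens} (hW₀ : p ∈ W₀) (hle : V ≤ W₀) (b : Γ(Y, W₀)),
        Y.presheaf.germ W₀ p hW₀ b • L.presheaf.germ U p hp e =
          L.presheaf.germ V p hV (PicLib.res hle b • resM L (inf_le_right : V ≤ U) e) := by
      intro W₀ hW₀ hle b
      rw [germ_smul' L hV]
      exact congrArg₂ (· • ·) (TopCat.Presheaf.germ_res_apply Y.presheaf (homOfLE hle) p hV b).symm
        (TopCat.Presheaf.germ_res_apply L.presheaf (homOfLE inf_le_right) p hV e).symm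
    simp only [key hW (inf_le_left.trans inf_le_left) a, key hW' (inf_le_left.trans inf_le_right) a'] at h
    obtain ⟨V', hpV', i₁, i₂, h'⟩ := L.presheaf.germ_eq p hV hV _ _ h
    have h'' : resM L i₁.le _ = resM L i₁.le _ := h'
    rw [resM_smul, resM_smul, resM_resM] at h''
    have h3 := (he V' (i₁.le.trans inf_le_right)).1 h''
    rw [← TopCat.Presheaf.germ_res_apply Y.presheaf
      (homOfLE (i₁.le.trans (inf_le_left.trans inf_le_left))) p hpV' a,
      ← TopCat.Presheaf.germ_res_apply Y.presheaf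
      (homOfLE (i₁.le.trans (inf_le_left.trans inf_le_right))) p hpV' a']
    congr 1
    simp only [PicLib.res_res] at h3
    exact h3
  · intro l
    obtain ⟨W, hW, m, rfl⟩ := TopCat.Presheaf.exists_germ_eq L.presheaf l
    let V := W ⊓ U
    refine ⟨Y.presheaf.germ V p ⟨hW, hp⟩ (he.coef inf_le_right (resM L (inf_le_left : V ≤ W) m)), ?_⟩
    show _ • _ = _
    rw [← TopCat.Presheaf.germ_res_apply L.presheaf (homOfLE (inf_le_right : V ≤ U)) p ⟨hW, hp⟩ e]
    refine (germ_smul' L _ _ _).symm.trans ?_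
    rw [show (L.presheaf.map (homOfLE (inf_le_right : V ≤ U)).op) e = resM L inf_le_right e from rfl,
      he.coef_spec]
    exact TopCat.Presheaf.germ_res_apply L.presheaf (homOfLE inf_le_left) p ⟨hW, hp⟩ m

/-- Jets at closed points generate first jets. -/
theorem span_pairs_of_sq {k A : Type u} [Field k] [IsAlgClosed k] [CommRing A] [Algebra k A]
    [Algebra.FiniteType k A] [Algebra.Smooth k A] {m : ℕ} (s : Fin m → A)
    (h : ∀ q : Ideal A, q.IsMaximal → ∀ z : A, ∃ c : Fin m → k,
      ∑ i, algebraMap k A (c i) * s i - z ∈ q ^ 2) :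
    Submodule.span A (Set.range fun j => (s j, KaehlerDifferential.D k A (s j))) = ⊤ := by
  set S := Submodule.span A (Set.range fun j => (s j, KaehlerDifferential.D k A (s j)))
  refine BertiniLib.eq_top_of_forall_maximal S fun q hq => ?_
  set T := S ⊔ q • (⊤ : Submodule A (A × Ω[A⁄k]))
  have hqT : ∀ a ∈ q, ∀ z : A × Ω[A⁄k], a • z ∈ T := fun a ha z =>
    Submodule.mem_sup_right (Submodule.smul_mem_smul ha trivial)
  have key : ∀ z : A, (z, KaehlerDifferential.D k A z) ∈ T := by
    intro z
    obtain ⟨c, hc⟩ := h q hq z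
    set v := ∑ i, algebraMap k A (c i) * s i with hv
    have hvS : (v, KaehlerDifferential.D k A v) ∈ S := by
      have : (v, KaehlerDifferential.D k A v) =
          ∑ i, algebraMap k A (c i) • (s i, KaehlerDifferential.D k A (s i)) := by
        ext <;> simp [hv, Prod.fst_sum, Prod.snd_sum, Algebra.smul_def]
      rw [this]
      exact S.sum_mem fun i _ => S.smul_mem _ (Submodule.subset_span ⟨i, rfl⟩)
    have hd : (v - z, KaehlerDifferential.D k A (v - z)) ∈ T := by
      generalize v - z = d at hc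
      rw [sq] at hc
      induction hc using Submodule.mul_induction_on' with
      | mem_mul_mem a ha b hb =>
        rw [Derivation.leibniz]
        have h1 := hqT a ha (b, KaehlerDifferential.D k A b)
        have h2 := hqT b hb ((0 : A), KaehlerDifferential.D k A a)
        simpa using T.add_mem h1 h2
      | add a _ b _ ha hb => simpa using T.add_mem ha hb
    simpa using T.sub_mem (Submodule.mem_sup_left hvS) hd
  have h10 : ((1 : A), (0 : Ω[A⁄k])) ∈ T := by simpa using key 1
  have hres : Function.Surjective (algebraMap k (A ⧸ q)) := by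
    letI : Field (A ⧸ q) := Ideal.Quotient.field q
    have : Module.Finite k (A ⧸ q) := finite_of_finite_type_of_isJacobsonRing k (A ⧸ q)
    exact (IsAlgClosed.algebraMap_bijective_of_isIntegral (k := k) (K := A ⧸ q)).2
  have hD : ∀ a : A, ((0 : A), KaehlerDifferential.D k A a) ∈ T := by
    intro a
    obtain ⟨l, hl⟩ := hres (Ideal.Quotient.mk q a)
    have ht : a - algebraMap k A l ∈ q := by
      rw [← Ideal.Quotient.eq, ← hl]; rfl
    have h1 := key (a - algebraMap k A l)
    rw [map_sub, Derivation.map_algebraMap, sub_zero] at h1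
    simpa using T.sub_mem h1 (hqT _ ht ((1 : A), (0 : Ω[A⁄k])))
  rintro ⟨a, w⟩
  have hw : ((0 : A), w) ∈ T := by
    have : w ∈ Submodule.span A (Set.range (KaehlerDifferential.D k A)) := by
      rw [KaehlerDifferential.span_range_derivation]; trivial
    induction this using Submodule.span_induction with
    | mem y hy => obtain ⟨c, rfl⟩ := hy; exact hD c
    | zero => exact T.zero_mem
    | add y z _ _ hy hz => simpa using T.add_mem hy hz
    | smul c y _ hy => simpa using T.smul_mem c hy
  simpa using T.add_mem (T.smul_mem a h10) hw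


/-- Let k be an algebraically closed field, Y a scheme smooth and of finite type over k, L an invertible
O_Y-module, s_1, …, s_m global sections of L (morphisms O_Y ⟶ L) such that at every closed point p
the span of the s_i maps onto L_p/m_p^2 L_p, and f a further global section of L. Then the zero
scheme of f + Σ c_i s_i is smooth over k for all c outside the zero set of some nonzero polynomial
in m variables. (The published hypothesis is stated at every point of Y; it can only hold at closed
points, which is where the argument uses it, so this row asks it at closed points.) -/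
theorem result (k : Type u) [Field k] [IsAlgClosed k]
    (Y : Scheme.{u}) [Y.Over (Spec (CommRingCat.of k))] [Smooth (Y ↘ Spec (CommRingCat.of k))]
    [QuasiCompact (Y ↘ Spec (CommRingCat.of k))]
    (L : Y.Modules) (hL : FlatMod.IsFinLocFreeOfRank 1 L) (m : ℕ)
    (s : Fin m → (Coh.structureModule Y ⟶ L)) (f : Coh.structureModule Y ⟶ L)
    (hjet : ∀ p : Y, IsClosed ({p} : Set Y) → ∀ l : ↥(L.presheaf.stalk p), ∃ c : Fin m → k,
      (L.presheaf.germ ⊤ p trivial)
          (PicF2.secVal L (∑ i : Fin m, Formal.smulMod k (Coh.structureModule Y) (c i) ≫ s i) ⊤) - l ∈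
        (IsLocalRing.maximalIdeal ↥(Y.presheaf.stalk p)) ^ 2 •
          (⊤ : Submodule ↥(Y.presheaf.stalk p) ↥(L.presheaf.stalk p))) :
    ∃ q : MvPolynomial (Fin m) k, q ≠ 0 ∧ ∀ c : Fin m → k, MvPolynomial.eval c q ≠ 0 →
      Smooth ((PicF2.zeroScheme L (f + ∑ i : Fin m, Formal.smulMod k (Coh.structureModule Y) (c i) ≫ s i)).subschemeι ≫
        (Y ↘ Spec (CommRingCat.of k))) := by
  classical
  let str := Y ↘ Spec (CommRingCat.of k)
  have : JacobsonSpace Y := LocallyOfFiniteType.jacobsonSpace str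
  have hinv : PicF.IsInvertible L := fun y => by
    obtain ⟨U, hy, ⟨e⟩⟩ := hL y
    exact ⟨U, hy, ⟨e ≪≫ coproductUniqueIso _⟩⟩
  have hch : ∀ y : Y, ∃ U : Y.affineOpens, y ∈ U.1 ∧ ∃ e : Γ(L, U.1), IsGen L U.1 e := by
    intro y
    obtain ⟨W, hy, e, he⟩ := exists_isGen hinv y
    obtain ⟨_, ⟨U, hU, rfl⟩, hyU, hUW⟩ :=
      Y.isBasis_affineOpens.exists_subset_of_mem_open hy W.isOpen
    exact ⟨⟨U, hU⟩, hyU, resM L hUW e, he.restrict hUW⟩
  choose U hyU e he using hch
  have : CompactSpace Y := QuasiCompact.compactSpace_of_compactSpace str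
  obtain ⟨t, ht⟩ := isCompact_univ.elim_finite_subcover (fun y => ((U y).1 : Set Y))
    (fun y => (U y).1.isOpen) fun y _ => Set.mem_iUnion.2 ⟨y, hyU y⟩
  let κ : k →+* Γ(Y, ⊤) := Coh.toGlobal str
  let σ : (Fin m → k) → (Coh.structureModule Y ⟶ L) := fun c =>
    f + ∑ i : Fin m, Formal.smulMod k (Coh.structureModule Y) (c i) ≫ s i
  have hval : ∀ (c : Fin m → k) (V : Y.Opens), unitVal (σ c) V =
      unitVal f V + ∑ i, PicLib.res (le_top : V ≤ ⊤) (κ (c i)) • unitVal (s i) V := by
    intro c V
    show (σ c).app V _ = _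
    simp only [σ]
    rw [show (f + ∑ i, Formal.smulMod k (Coh.structureModule Y) (c i) ≫ s i).app V (1 : Γ(Y, V)) =
      f.app V (1 : Γ(Y, V)) + (∑ i, Formal.smulMod k (Coh.structureModule Y) (c i) ≫ s i).app V
        (1 : Γ(Y, V)) from rfl, app_sum]
    congr 1
    refine Finset.sum_congr rfl fun i _ => ?_
    refine Eq.trans ?_ (app_unit (s i) (PicLib.res (le_top : V ≤ ⊤) (κ (c i))))
    show (s i).app V ((Formal.smulMod k (Coh.structureModule Y) (c i)).app V (1 : Γ(Y, V))) = _
    congr 1
    exact mul_one (PicLib.res (le_top : V ≤ ⊤) (κ (c i)))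
  have key : ∀ y : Y, ∃ g : MvPolynomial (Fin m) k, g ≠ 0 ∧ ∀ c : Fin m → k,
      MvPolynomial.eval c g ≠ 0 →
        Smooth (((PicF2.zeroScheme L (σ c)).subschemeι ⁻¹ᵁ (U y).1).ι ≫
          (PicF2.zeroScheme L (σ c)).subschemeι ≫ str) := by
    intro y
    set V := U y
    let A := Γ(Y, V.1)
    let alg : Algebra k A := ((PicLib.res (le_top : V.1 ≤ ⊤)).comp κ).toAlgebra
    have hstr : (Scheme.ΓSpecIso (CommRingCat.of k)).inv ≫ str.appLE ⊤ V.1 le_top =
        CommRingCat.ofHom (algebraMap k A) := rfl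
    have hsm : Algebra.Smooth k A := by
      rw [← RingHom.smooth_algebraMap]
      have h1 := HasRingHomProperty.appLE @Smooth str ‹_› ⟨⊤, isAffineOpen_top _⟩ V le_top
      have h2 := RingHom.Smooth.propertyIsLocal.respectsIso.2 (str.appLE ⊤ V.1 le_top).hom
        (Scheme.ΓSpecIso (CommRingCat.of k)).commRingCatIsoToRingEquiv.symm h1
      exact h2
    let v : Fin m → A := fun i => (he y).coef le_rfl (unitVal (s i) V.1)
    have hjet' : ∀ q : Ideal A, q.IsMaximal → ∀ z : A, ∃ c : Fin m → k,
        ∑ i, algebraMap k A (c i) * v i - z ∈ q ^ 2 := by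
      intro q hq z
      let pq : PrimeSpectrum A := ⟨q, hq.isPrime⟩
      let p := V.2.fromSpec pq
      have hpV : p ∈ V.1 := by
        rw [← SetLike.mem_coe, ← V.2.range_fromSpec]; exact ⟨pq, rfl⟩
      have hpc : IsClosed ({p} : Set Y) := by
        have h1 : pq ∈ closedPoints ↥(Spec Γ(Y, V.1)) :=
          (PrimeSpectrum.isClosed_singleton_iff_isMaximal pq).2 hq
        rw [← V.2.fromSpec.isOpenEmbedding.preimage_closedPoints] at h1
        exact h1
      letI algS := TopCat.Presheaf.algebra_section_stalk Y.presheaf (⟨p, hpV⟩ : V.1)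
      have hloc : IsLocalization.AtPrime (Y.presheaf.stalk p) q := V.2.isLocalization_stalk' pq hpV
      let ge := L.presheaf.germ V.1 p hpV (e y)
      obtain ⟨c, hc⟩ := hjet p hpc (Y.presheaf.germ V.1 p hpV z • ge)
      refine ⟨c, ?_⟩
      set w := ∑ i, algebraMap k A (c i) * v i
      have hsum : (∑ i : Fin m, Formal.smulMod k (Coh.structureModule Y) (c i) ≫ s i).app V.1
          (1 : Γ(Y, V.1)) = w • e y := by
        rw [app_sum]
        simp only [w, Finset.sum_smul]
        refine Finset.sum_congr rfl fun i _ => ?_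
        refine Eq.trans ?_ (show algebraMap k A (c i) • unitVal (s i) V.1 = _ from by
          conv_lhs => rw [← (he y).coef_spec le_rfl (unitVal (s i) V.1), resM_self, smul_smul])
        refine Eq.trans ?_ (app_unit (s i) (algebraMap k A (c i)))
        show (s i).app V.1 ((Formal.smulMod k (Coh.structureModule Y) (c i)).app V.1 (1 : Γ(Y, V.1))) = _
        congr 1
        exact mul_one (algebraMap k A (c i))
      have hgl : (L.presheaf.germ ⊤ p trivial)
          (PicF2.secVal L (∑ i : Fin m, Formal.smulMod k (Coh.structureModule Y) (c i) ≫ s i) ⊤) =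
          Y.presheaf.germ V.1 p hpV w • ge := by
        rw [← germ_smul' L hpV, ← hsum]
        rw [show PicF2.secVal L (∑ i : Fin m, Formal.smulMod k (Coh.structureModule Y) (c i) ≫ s i) ⊤ =
          unitVal (∑ i : Fin m, Formal.smulMod k (Coh.structureModule Y) (c i) ≫ s i) ⊤ from rfl]
        refine (TopCat.Presheaf.germ_res_apply L.presheaf (homOfLE (le_top : V.1 ≤ ⊤)) p hpV _).symm.trans ?_
        exact congrArg _ (resM_unitVal _ (le_top : V.1 ≤ ⊤))
      rw [hgl, ← sub_smul, ← map_sub] at hc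
      have hm2 : Y.presheaf.germ V.1 p hpV (w - z) ∈
          (IsLocalRing.maximalIdeal (Y.presheaf.stalk p)) ^ 2 := by
        set M2 := (IsLocalRing.maximalIdeal (Y.presheaf.stalk p)) ^ 2
        have hall : ∀ x ∈ M2 • (⊤ : Submodule (Y.presheaf.stalk p) (L.presheaf.stalk p)),
            ∃ r ∈ M2, r • ge = x := by
          intro x hx
          refine Submodule.smul_induction_on hx (fun a ha n _ => ?_) (fun x₁ x₂ h₁ h₂ => ?_)
          · obtain ⟨b, rfl⟩ := (germ_gen_bijective (he y) hpV).2 n
            exact ⟨a * b, Ideal.mul_mem_right b _ ha, mul_smul a b ge⟩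
          · obtain ⟨r₁, hr₁, rfl⟩ := h₁
            obtain ⟨r₂, hr₂, rfl⟩ := h₂
            exact ⟨r₁ + r₂, add_mem hr₁ hr₂, add_smul r₁ r₂ ge⟩
        obtain ⟨r, hr, hre⟩ := hall _ hc
        exact (germ_gen_bijective (he y) hpV).1 hre ▸ hr
      rw [← IsLocalization.AtPrime.map_eq_maximalIdeal q (Y.presheaf.stalk p), ← Ideal.map_pow] at hm2
      obtain ⟨r, hr, hrz⟩ := (IsLocalization.algebraMap_mem_map_algebraMap_iff q.primeCompl
        (Y.presheaf.stalk p) (q ^ 2) (w - z)).1 hm2
      obtain ⟨r', hr'⟩ : ∃ r', r * r' - 1 ∈ q ^ 2 := by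
        obtain ⟨a, b, hb, hab⟩ := Ideal.IsMaximal.exists_inv hq hr
        refine ⟨a * (1 + b), ?_⟩
        have : r * (a * (1 + b)) - 1 = -(b ^ 2) := by linear_combination (1 + b) * hab
        rw [this]
        exact (q ^ 2).neg_mem (Ideal.pow_mem_pow hb 2)
      have : w - z = r' * (r * (w - z)) - (r * r' - 1) * (w - z) := by ring
      rw [this]
      exact (q ^ 2).sub_mem (Ideal.mul_mem_left _ _ hrz) (Ideal.mul_mem_right _ _ hr')
    obtain ⟨g, hg0, hg⟩ := BertiniLib.exists_poly_smooth_quotient v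
      ((he y).coef le_rfl (unitVal f V.1)) (span_pairs_of_sq v hjet')
    refine ⟨g, hg0, fun c hc => ?_⟩
    have hsmq := hg c hc
    have hl : (PicF2.zeroScheme L (σ c)).ideal V =
        Ideal.span {(he y).coef le_rfl (unitVal f V.1) + ∑ i, algebraMap k A (c i) * v i} := by
      rw [ZeroSchLib.zeroScheme_ideal_eq_span (σ c) hinv V (he y)]
      congr 2
      refine (he y).coef_eq le_rfl ?_
      rw [hval, add_smul, Finset.sum_smul, (he y).coef_spec]
      congr 1
      refine Finset.sum_congr rfl fun i _ => ?_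
      rw [mul_smul, (he y).coef_spec]
      rfl
    rw [← hl] at hsmq
    set I := PicF2.zeroScheme L (σ c)
    have haff : IsAffineOpen (I.subschemeι ⁻¹ᵁ V.1) := V.2.preimage _
    have : IsAffine (I.subschemeι ⁻¹ᵁ V.1).toScheme := haff
    rw [← haff.isoSpec.hom_inv_id_assoc (((I.subschemeι ⁻¹ᵁ V.1).ι) ≫ I.subschemeι ≫ str),
      MorphismProperty.cancel_left_of_respectsIso @Smooth, IsAffineOpen.isoSpec_inv_ι_assoc]
    have e2 : haff.fromSpec ≫ I.subschemeι ≫ str =
        Spec.map ((Scheme.ΓSpecIso (CommRingCat.of k)).inv ≫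
          (I.subschemeι ≫ str).appLE ⊤ (I.subschemeι ⁻¹ᵁ V.1) le_top) := by
      rw [Spec.map_comp, ← IsAffineOpen.SpecMap_appLE_fromSpec (I.subschemeι ≫ str)
        (isAffineOpen_top _) haff le_top, IsAffineOpen.fromSpec_top, Scheme.isoSpec_Spec_inv]
    have e1 : (Scheme.ΓSpecIso (CommRingCat.of k)).inv ≫
        (I.subschemeι ≫ str).appLE ⊤ (I.subschemeι ⁻¹ᵁ V.1) le_top =
        CommRingCat.ofHom ((I.subschemeObjIso V).commRingCatIsoToRingEquiv.symm.toRingHom.comp
          (algebraMap k (A ⧸ I.ideal V))) := by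
      rw [← Scheme.Hom.appLE_comp_appLE I.subschemeι str ⊤ V.1 _ le_top le_rfl, ← Category.assoc,
        hstr, ← Scheme.Hom.app_eq_appLE, Scheme.IdealSheafData.subschemeι_app]
      rfl
    rw [e2, HasRingHomProperty.Spec_iff (P := @Smooth), e1]
    exact RingHom.Smooth.propertyIsLocal.respectsIso.1 _ _
      (RingHom.smooth_algebraMap.2 hsmq)
  choose g hg0 hg using key
  refine ⟨∏ y ∈ t, g y, Finset.prod_ne_zero_iff.2 fun y _ => hg0 y, fun c hc => ?_⟩
  rw [map_prod, Finset.prod_ne_zero_iff] at hc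
  set I := PicF2.zeroScheme L (σ c)
  let 𝒰 : I.subscheme.OpenCover := Scheme.openCoverOfIsOpenCover _
    (fun y : t => I.subschemeι ⁻¹ᵁ (U y.1).1) (by
      refine top_le_iff.1 fun x _ => ?_
      obtain ⟨y, hy, hxy⟩ := Set.mem_iUnion₂.1 (ht (Set.mem_univ (I.subschemeι x)))
      exact TopologicalSpace.Opens.mem_iSup.2 ⟨⟨y, hy⟩, hxy⟩)
  exact IsZariskiLocalAtSource.of_openCover (P := @Smooth) 𝒰 fun y => hg y.1 c (hc y.1 y.2)

end Groth.Agent.S14990
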