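import Groth.Statements.S0639
import Groth.Agent.CdCurve24.Basic
import Groth.Agent.GalEt.AdjInjective
import Groth.Agent.Et18.CompCrit.Nice
import Groth.Agent.Et18.StrataApps
import Groth.Agent.GalEt.GmUnit

/-!
Restriction to an open subscheme is surjective on `H²` of torsion sheaves on a curve over an algebraically closed
field.  Dévissage to direct images from non-closed points and to sheaves supported in closed points, for which
global sections over the open extend.
-/

set_option autoImplicit false
set_option linter.all false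
set_option backward.isDefEq.respectTransparency.types false
set_option backward.isDefEq.respectTransparency false
set_option backward.defeqAttrib.useBackward true
set_option synthInstance.maxHeartbeats 400000
set_option maxHeartbeats 1000000
universe u
open CategoryTheory CategoryTheory.Limits CategoryTheory.Abelian AlgebraicGeometry Opposite
open Groth.Agent.Et18 Groth.Agent.CdCurve24
open EtCore

namespace Groth.Agent.S0639

/-- The short exact sequence of image and cokernel. -/
theorem image_cokernel {C : Type*} [Category C] [Abelian C] {A B : C} (u : A ⟶ B) :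
    (ShortComplex.mk (Abelian.image.ι u) (cokernel.π u) (kernel.condition _)).ShortExact :=
  { exact := ShortComplex.exact_kernel _
    mono_f := inferInstanceAs (Mono (Abelian.image.ι u))
    epi_g := inferInstanceAs (Epi (cokernel.π u)) }

theorem factor_zero {C : Type*} [Category C] [Abelian C] {K A B : C} (a : K ⟶ A) (u : A ⟶ B) (h : a ≫ u = 0) :
    a ≫ Abelian.factorThruImage u = 0 := by
  rw [← cancel_mono (Abelian.image.ι u), Category.assoc, Abelian.image.fac, h, zero_comp]

/-- An exact sequence ending in `u` gives one ending in the image of `u`. -/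
theorem factor_shortExact {C : Type*} [Category C] [Abelian C] {K A B : C} (a : K ⟶ A) (u : A ⟶ B) (h : a ≫ u = 0)
    [Mono a] (he : (ShortComplex.mk a u h).Exact) :
    (ShortComplex.mk a (Abelian.factorThruImage u) (factor_zero a u h)).ShortExact := by
  let φ : ShortComplex.mk a (Abelian.factorThruImage u) (factor_zero a u h) ⟶ ShortComplex.mk a u h :=
    { τ₁ := 𝟙 _
      τ₂ := 𝟙 _
      τ₃ := Abelian.image.ι u
      comm₁₂ := (Category.id_comp _).trans (Category.comp_id _).symm
      comm₂₃ := (Category.id_comp _).trans (Abelian.image.fac u).symm }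
  haveI : Epi φ.τ₁ := inferInstanceAs (Epi (𝟙 _))
  haveI : IsIso φ.τ₂ := inferInstanceAs (IsIso (𝟙 _))
  haveI : Mono φ.τ₃ := inferInstanceAs (Mono (Abelian.image.ι u))
  exact
  { exact := (ShortComplex.exact_iff_of_epi_of_isIso_of_mono φ).2 he
    mono_f := inferInstance
    epi_g := inferInstanceAs (Epi (Abelian.factorThruImage u)) }

section Open

variable {X : Scheme.{u}} [IsNoetherian X] (U : X.Opens)

/-- For sheaves supported in closed points, `C ⟶ ι_* ι^* C` is an epimorphism. -/
theorem epi_unit (C : EtCoh.Ab X) (hC : ∀ y ∈ EtPBC.supp C, IsClosed ({y} : Set X)) :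
    Epi ((EtCoh.pullPushAdj U.ι).unit.app C) := by
  let ι := U.ι
  let η := (EtCoh.pullPushAdj ι).unit.app C
  haveI : IsIso (EtCoh.pullPushAdj ι).counit := isIso_counit (bcLiftsEtale_of_isImmersion ι)
  haveI : IsIso ((EtCoh.pull ι).map η) := isIso_pull_map_unit_of_counit ι C
  suffices hsupp : EtPBC.supp (cokernel η) = ∅ from
    Abelian.epi_of_cokernel_π_eq_zero η
      ((ClosedPointSupport.isZero_of_supp_empty hsupp).eq_of_tgt _ _)
  refine Set.eq_empty_iff_forall_notMem.2 fun z hz => ?_
  by_cases hzU : z ∈ U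
  · exact ClosedPointSupport.supp_subset_of_isZero_pull ι
      (IsZero.of_iso (isZero_cokernel_of_epi _) (PreservesCokernel.iso _ η)) hz
      ⟨⟨z, hzU⟩, rfl⟩
  refine (mem_supp_iff _ (sepPoint X z) (sepPoint_default X z)).1 hz ?_
  refine IsZero.of_epi ((EtCoh.stalk (sepPoint X z)).map (cokernel.π η)) ?_
  let Φ := Scheme.pointSmallEtale (sepPoint X z)
  let G := (EtCoh.pull ι).obj C
  let P := (EtCoh.push ι).obj G
  have key : ∀ t : ((EtCoh.stalk (sepPoint X z)).obj P : Type (u + 1)), t = 0 := by
    intro t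
    obtain ⟨V₀, v₀, s₀, rfl⟩ := Φ.toPresheafFiber_jointly_surjective (P := P.obj) t
    haveI : Etale V₀.hom := V₀.prop
    obtain ⟨_, ⟨(A : V₀.left.Opens), hA, rfl⟩, hvA, -⟩ :=
      V₀.left.isBasis_affineOpens.exists_subset_of_mem_open (Set.mem_univ (fiberPt v₀)) isOpen_univ
    obtain ⟨v, hv⟩ := GalEt.GmUnit.exists_lift_point (sepPoint X z) V₀ v₀ A hvA
    subst hv
    let V := GalEt.GmUnit.openObj V₀ A
    let s : EtCoh.sect P V := P.obj.map (GalEt.GmUnit.openIncl V₀ A).op s₀
    haveI : Etale V.hom := V.prop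
    haveI : IsAffine V.left := hA
    let W := (EtCoh.bc ι).obj V
    haveI : IsLocallyNoetherian ((Functor.fromPUnit X).obj V.right) := ‹IsNoetherian X›.1
    haveI : IsLocallyNoetherian V.left := LocallyOfFiniteType.isLocallyNoetherian V.hom
    haveI : IsNoetherian V.left := ⟨⟩
    let p : W.left ⟶ V.left := pullback.fst V.hom ι
    haveI : IsOpenImmersion p := MorphismProperty.pullback_fst (P := @IsOpenImmersion) _ _ inferInstance
    let T : Set V.left := p '' EtShriek.sectSupp G W (show EtCoh.sect G W from s)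
    have hT : ∀ y ∈ T, IsClosed ({V.hom y} : Set X) ∧ V.hom y ∈ U := by
      rintro _ ⟨w, hw, rfl⟩
      have e : V.hom (p w) = ι (W.hom w) :=
        congrArg (fun k : W.left ⟶ X => k w) (pullback.condition (f := V.hom) (g := ι))
      have h1 : W.hom w ∈ EtPBC.supp G := by
        rw [supp_eq_union]
        exact Set.mem_iUnion.2 ⟨W, Set.mem_iUnion.2 ⟨_, w, hw, rfl⟩⟩
      rw [supp_pull] at h1
      rw [e]
      exact ⟨hC _ h1, (W.hom w).2⟩
    have hTpt : ∀ y ∈ T, IsClosed ({y} : Set V.left) := fun y hy => by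
      let P' := V.hom ⁻¹' {V.hom y}
      haveI := isDiscrete_iff_discreteTopology.mp (V.hom.isDiscrete_preimage_singleton (V.hom y))
      have hP : IsClosed P' := (hT y hy).1.preimage V.hom.continuous
      have := hP.isClosedMap_subtype_val _ (isClosed_discrete ({⟨y, rfl⟩} : Set P'))
      simpa using this
    haveI : CompactSpace W.left :=
      isCompact_univ_iff.1 (p.isOpenEmbedding.isInducing.isCompact_iff.2
        (TopologicalSpace.NoetherianSpace.isCompact _))
    haveI : IsLocallyNoetherian W.left := LocallyOfFiniteType.isLocallyNoetherian p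
    haveI : IsNoetherian W.left := ⟨⟩
    have hSfin : (EtShriek.sectSupp G W (show EtCoh.sect G W from s)).Finite := by
      refine VarietyLib.finite_of_forall_isClosed (isClosed_sectSupp G W _) fun w hw => ?_
      have h := (hTpt (p w) ⟨w, hw, rfl⟩).preimage p.continuous
      rwa [← Set.image_singleton, p.isOpenEmbedding.injective.preimage_image] at h
    have hTcl : IsClosed T := by
      rw [← Set.biUnion_of_singleton T]
      exact (hSfin.image p).isClosed_biUnion hTpt
    let O : V.left.Opens := ⟨Tᶜ, hTcl.isOpen_compl⟩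
    have hvO : fiberPt v ∈ O := fun h => hzU (by
      have e : V.hom (fiberPt v) = z :=
        (congrArg (fun k : Spec _ ⟶ X => k default) (Over.w v)).trans (sepPoint_default X z)
      exact e ▸ (hT _ h).2)
    obtain ⟨v', hv'⟩ := GalEt.GmUnit.exists_lift_point (sepPoint X z) V v O hvO
    let a := GalEt.GmUnit.openIncl V O
    have hs : P.obj.map a.op s = 0 := by
      refine eq_zero_of_sectSupp_eq_empty G ((EtCoh.bc ι).obj (GalEt.GmUnit.openObj V O)) _
        (Set.eq_empty_iff_forall_notMem.2 fun w hw => ?_)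
      let b := (EtCoh.bc ι).map a
      have hpb : p (b.left w) ∉ T := by
        have e : p (b.left w) = O.ι (pullback.fst (GalEt.GmUnit.openObj V O).hom ι w) :=
          congrArg (fun k : _ ⟶ V.left => k w) (pullback.lift_fst _ _ _)
        rw [e]
        exact (pullback.fst (GalEt.GmUnit.openObj V O).hom ι w).2
      have hbw : b.left w ∉ EtShriek.sectSupp G W (show EtCoh.sect G W from s) := fun h => hpb ⟨_, h, rfl⟩
      change ¬ ∀ (W' : U.toScheme.Etale) (g : W' ⟶ W), (∃ w', g.left w' = b.left w) → G.obj.map g.op s ≠ 0 at hbw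
      push Not at hbw
      obtain ⟨V', r, ⟨u', hu'⟩, hr⟩ := hbw
      obtain ⟨q, hq₁, hq₂⟩ := Scheme.Pullback.exists_preimage_pullback (f := b.left) (g := r.left) w u' hu'.symm
      let Q : U.toScheme.Etale := MorphismProperty.Over.mk ⊤ (pullback.snd b.left r.left ≫ V'.hom) (by
        haveI : Etale V'.hom := V'.prop
        haveI : Etale ((EtCoh.bc ι).obj (GalEt.GmUnit.openObj V O)).hom := ((EtCoh.bc ι).obj _).prop
        haveI : Etale W.hom := W.prop
        haveI : Etale b.left := by
          haveI : Etale (b.left ≫ W.hom) := by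
            rw [show b.left ≫ W.hom = _ from Over.w b.hom]; infer_instance
          exact Etale.of_comp b.left W.hom
        exact inferInstanceAs (Etale (pullback.snd b.left r.left ≫ V'.hom)))
      let q₁ : Q ⟶ (EtCoh.bc ι).obj (GalEt.GmUnit.openObj V O) :=
        MorphismProperty.Over.homMk (pullback.fst b.left r.left) (by
          show pullback.fst b.left r.left ≫ _ = pullback.snd b.left r.left ≫ V'.hom
          exact (congrArg (pullback.fst b.left r.left ≫ ·) (show b.left ≫ W.hom = _ from Over.w b.hom).symm).trans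
            ((Category.assoc _ _ _).symm.trans ((congrArg (· ≫ W.hom) pullback.condition).trans
              ((Category.assoc _ _ _).trans
                (congrArg (pullback.snd b.left r.left ≫ ·) (show r.left ≫ W.hom = V'.hom from Over.w r.hom)))))) trivial
      let q₂ : Q ⟶ V' := MorphismProperty.Over.homMk (pullback.snd b.left r.left) rfl trivial
      have hcomm : q₁ ≫ b = q₂ ≫ r := MorphismProperty.Over.Hom.ext pullback.condition
      refine hw Q q₁ ⟨q, hq₁⟩ ?_
      show G.obj.map q₁.op (G.obj.map b.op (show EtCoh.sect G W from s)) = 0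
      rw [← ConcreteCategory.comp_apply, ← Functor.map_comp, ← op_comp, hcomm, op_comp, Functor.map_comp,
        ConcreteCategory.comp_apply, hr, map_zero]
    refine (Φ.toPresheafFiber_w_apply (GalEt.GmUnit.openIncl V₀ A) v P.obj s₀).symm.trans ?_
    rw [← hv']
    refine (Φ.toPresheafFiber_w_apply a v' P.obj s).symm.trans ?_
    exact (congrArg _ hs).trans (map_zero _)
  exact @AddCommGrpCat.isZero_of_subsingleton _ ⟨fun x y => (key x).trans (key y).symm⟩

/-- Sections over an open of a sheaf supported in closed points extend. -/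
theorem surjective_Hpull_zero [PreservesFiniteLimits (EtCoh.pull U.ι)] {k : Type u} [Field k] [IsAlgClosed k]
    (f : X ⟶ Spec (CommRingCat.of k)) [LocallyOfFiniteType f] [QuasiCompact f] (C : EtCoh.Ab X)
    (hC : ∀ y ∈ EtPBC.supp C, IsClosed ({y} : Set X)) :
    Function.Surjective (EtCore.Hpull U.ι C 0) := by
  intro c
  obtain ⟨c', rfl⟩ := (Ext.mk₀_bijective _ _).2 c
  let ι := U.ι
  let e := EtCore.pullConst ι ℤ
  let η := (EtCoh.pullPushAdj ι).unit.app C
  haveI := epi_unit U C hC
  let k' := (EtCoh.pullPushAdj ι).homEquiv _ _ (e.hom ≫ c')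
  let S := ShortComplex.mk (kernel.ι η) η (kernel.condition η)
  have hS : S.ShortExact :=
    { exact := ShortComplex.exact_kernel η
      mono_f := inferInstanceAs (Mono (kernel.ι η))
      epi_g := inferInstanceAs (Epi η) }
  have h1 : Subsingleton (EtCoh.H X S.X₁ 1) := ClosedPointSupport.subsingleton_H f _
    (fun y hy => hC y (ClosedPointSupport.supp_mono (kernel.ι η) hy)) 1 one_pos
  obtain ⟨y, hy⟩ := Ext.covariant_sequence_exact₃ _ hS (Ext.mk₀ k') (zero_add 1) (@Subsingleton.elim _ h1 _ _)
  obtain ⟨k₀, rfl⟩ := (Ext.mk₀_bijective _ _).2 y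
  rw [Ext.mk₀_comp_mk₀] at hy
  have hk : (EtCoh.pull ι).map k₀ = e.hom ≫ c' := by
    apply ((EtCoh.pullPushAdj ι).homEquiv _ _).injective
    refine Eq.trans ?_ ((Ext.mk₀_bijective _ _).1 hy)
    rw [Adjunction.homEquiv_unit]
    exact ((EtCoh.pullPushAdj ι).unit.naturality k₀).symm
  refine ⟨Ext.mk₀ k₀, ?_⟩
  show (Ext.mk₀ e.inv).comp ((Ext.mk₀ k₀).mapExactFunctor (EtCoh.pull ι)) (zero_add 0) = _
  rw [Ext.mapExactFunctor_mk₀, Ext.mk₀_comp_mk₀, hk, Iso.inv_hom_id_assoc]

theorem pull_push_iso {K : Scheme.{u}} (j' : K ⟶ U.toScheme) (j : K ⟶ X) (h : j' ≫ U.ι = j) (M : EtCoh.Ab K) :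
    Nonempty ((EtCoh.pull U.ι).obj ((EtCoh.push j).obj M) ≅ (EtCoh.push j').obj M) := by
  subst h
  haveI : IsIso (EtCoh.pullPushAdj U.ι).counit := isIso_counit (bcLiftsEtale_of_isImmersion U.ι)
  exact ⟨(EtCoh.pull U.ι).mapIso ((EtCoh.pushComp U.ι j').app M).symm ≪≫
    asIso ((EtCoh.pullPushAdj U.ι).counit.app ((EtCoh.push j').obj M))⟩

end Open

section Curve

variable {k : Type u} [Field k] [IsAlgClosed k] {X : Scheme.{u}} (f : X ⟶ Spec (CommRingCat.of k))
  [LocallyOfFiniteType f] [QuasiCompact f] [IsNoetherian X] (hdim : topologicalKrullDim X ≤ 1) (U : X.Opens)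

theorem isClosed_of_supp_pull (F : EtCoh.Ab X) (hF : ∀ y ∈ EtPBC.supp F, y ∈ U → IsClosed ({y} : Set X))
    (y : U.toScheme) (hy : y ∈ EtPBC.supp ((EtCoh.pull U.ι).obj F)) : IsClosed ({y} : Set U.toScheme) := by
  rw [supp_pull] at hy
  have h := (hF _ hy y.2).preimage U.ι.continuous
  rwa [← Set.image_singleton, U.ι.isOpenEmbedding.injective.preimage_image] at h

include f hdim in
/-- Supports of the cokernels of the dévissage. -/
theorem isClosed_of_supp_coker (η : X) (hη : ¬ IsClosed ({η} : Set X)) {A : EtCoh.Ab X}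
    (M : EtCoh.Ab (Spec (X.residueField η))) (u : A ⟶ (EtCoh.push (X.fromSpecResidueField η)).obj M)
    [Epi ((EtCoh.pull (X.fromSpecResidueField η)).map u)] :
    ∀ y ∈ EtPBC.supp (cokernel u), IsClosed ({y} : Set X) := fun y hy => by
  have hy' : y ∈ EtPBC.supp ((EtCoh.push (X.fromSpecResidueField η)).obj M) := by
    rw [mem_supp_iff _ (sepPoint X y) (sepPoint_default X y)] at hy ⊢
    exact fun h => hy (IsZero.of_epi ((EtCoh.stalk (sepPoint X y)).map (cokernel.π u)) h)
  refine (isClosed_of_mem_supp_push f hdim η hη M y hy').resolve_left fun e => ?_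
  subst e
  exact ClosedPointSupport.supp_subset_of_isZero_pull (X.fromSpecResidueField y)
    (IsZero.of_iso (isZero_cokernel_of_epi _) (PreservesCokernel.iso _ u)) hy
    ⟨default, Scheme.fromSpecResidueField_apply _ _⟩

variable [PreservesFiniteLimits (EtCoh.pull U.ι)]

include f hdim in
theorem surjective_push (η : X) (hη : ¬ IsClosed ({η} : Set X)) (G : EtCoh.Ab (Spec (X.residueField η)))
    (hG : EtCoh.IsTorsion G) :
    Function.Surjective (EtCore.Hpull U.ι ((EtCoh.push (X.fromSpecResidueField η)).obj G) 2) := by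
  let ι := U.ι
  haveI : CompactSpace U.toScheme :=
    isCompact_iff_compactSpace.1 (TopologicalSpace.NoetherianSpace.isCompact (U : Set X))
  haveI : CompactSpace (Spec (CommRingCat.of k)) := inferInstance
  let f' := ι ≫ f
  haveI : QuasiCompact f' := (quasiCompact_iff_compactSpace f').2 inferInstance
  let j := X.fromSpecResidueField η
  by_cases hηU : η ∈ U
  swap
  · intro z
    have h : Subsingleton (EtCoh.H U.toScheme ((EtCoh.pull ι).obj ((EtCoh.push j).obj G)) 2) :=
      ClosedPointSupport.subsingleton_H f' _ (isClosed_of_supp_pull U _ fun y hy hyU =>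
        (isClosed_of_mem_supp_push f hdim η hη G y hy).resolve_left fun e => hηU (e ▸ hyU)) 2 two_pos
    exact ⟨0, @Subsingleton.elim _ h _ _⟩
  let j' : Spec (X.residueField η) ⟶ U.toScheme := IsOpenImmersion.lift ι j (by
    rw [Scheme.range_fromSpecResidueField, Scheme.Opens.range_ι, Set.singleton_subset_iff]
    exact hηU)
  have hj : j' ≫ ι = j := IsOpenImmersion.lift_fac _ _ _
  let π := cokernel.π (Injective.ι G)
  let Q := cokernel (Injective.ι G)
  let S := ShortComplex.mk (Injective.ι G) π (cokernel.condition _)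
  have hS : S.ShortExact :=
    { exact := ShortComplex.exact_cokernel _
      mono_f := inferInstanceAs (Mono (Injective.ι G))
      epi_g := inferInstanceAs (Epi (cokernel.π (Injective.ι G))) }
  have hQ : Subsingleton (EtCoh.H (Spec (X.residueField η)) Q 1) :=
    subsingleton_right hS (subsingleton_H_injective _ 0)
      (GalEt.subsingleton_H_torsion (K := (X.residueField η : Type u)) (brTrivial_residueField f hdim η) G hG 2 le_rfl)
  haveI : (EtCoh.pull j).PreservesMonomorphisms := inferInstance
  haveI : (EtCoh.pull j').PreservesMonomorphisms := inferInstance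
  haveI : PreservesFiniteLimits (EtCoh.pull j') := inferInstance
  haveI : Injective ((EtCoh.push j').obj (Injective.under G)) := Injective.injective_of_adjoint (EtCoh.pullPushAdj j') _
  have h2 : Subsingleton (EtCoh.H U.toScheme ((EtCoh.pull ι).obj ((EtCoh.push j).obj (Injective.under G))) 2) := by
    obtain ⟨e⟩ := pull_push_iso U j' j hj (Injective.under G)
    haveI : Injective ((EtCoh.pull ι).obj ((EtCoh.push j).obj (Injective.under G))) := Injective.of_iso e.symm inferInstance
    exact subsingleton_H_injective _ 1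
  have h1 : Subsingleton (EtCoh.H U.toScheme ((EtCoh.pull ι).obj ((EtCoh.push j).obj Q)) 1) := by
    obtain ⟨e⟩ := pull_push_iso U j' j hj Q
    refine (((EtCoh.HF U.toScheme 1).mapIso e).addCommGroupIsoToAddEquiv.toEquiv.subsingleton_congr).2 ?_
    exact (GalEt.injective_HofPush j' Q 1 (GalEt.injective_adjExtHom_one (EtCoh.pullPushAdj j') _ Q)).subsingleton
  let u := (EtCoh.push j).map π
  haveI := isIso_counit (bcLiftsEtale_fromSpecResidueField (X := X) η)
  haveI : Epi ((EtCoh.pull j).map u) := by
    have e : (EtCoh.pull j).map u ≫ (EtCoh.pullPushAdj j).counit.app Q =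
        (EtCoh.pullPushAdj j).counit.app _ ≫ π := (EtCoh.pullPushAdj j).counit.naturality π
    rw [← IsIso.eq_comp_inv] at e
    rw [e]
    infer_instance
  have hC := isClosed_of_supp_coker f hdim η hη Q u
  haveI : Mono ((EtCoh.push j).map (Injective.ι G)) := inferInstance
  have hz : (EtCoh.push j).map (Injective.ι G) ≫ u = 0 := by
    rw [← Functor.map_comp, cokernel.condition, Functor.map_zero]
  have hS₁ := factor_shortExact ((EtCoh.push j).map (Injective.ι G)) u hz
    (hS.exact.map_of_mono_of_preservesKernel (EtCoh.push j) inferInstance inferInstance)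
  have hS₂ := image_cokernel u
  have hT₁ := hS₁.map_of_exact (EtCoh.pull ι)
  have hT₂ := hS₂.map_of_exact (EtCoh.pull ι)
  intro z
  obtain ⟨a, ha⟩ := Ext.covariant_sequence_exact₁ _ hT₁ z (@Subsingleton.elim _ h2 _ _) (rfl : 1 + 1 = 2)
  obtain ⟨c, hc⟩ := Ext.covariant_sequence_exact₁ _ hT₂ a (@Subsingleton.elim _ h1 _ _) (rfl : 0 + 1 = 1)
  obtain ⟨c₀, hc₀⟩ := surjective_Hpull_zero U f (cokernel u) hC c
  refine ⟨(c₀.comp hS₂.extClass (rfl : 0 + 1 = 1)).comp hS₁.extClass (rfl : 1 + 1 = 2), ?_⟩
  show HpullExact.pullExt (EtCoh.pull ι) (EtCore.pullConst ι ℤ).inv _ = z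
  rw [HpullExact.pullExt_comp, HpullExact.pullExt_comp, Ext.mapExactFunctor_extClass, Ext.mapExactFunctor_extClass,
    show HpullExact.pullExt (EtCoh.pull ι) (EtCore.pullConst ι ℤ).inv c₀ = c from hc₀]
  exact (congrArg (fun w => Ext.comp w hT₁.extClass (rfl : 1 + 1 = 2)) hc).trans ha

include f hdim in
theorem surjective_Hpull_two (F : EtCoh.Ab X) (hF : EtCoh.IsTorsion F) :
    Function.Surjective (EtCore.Hpull U.ι F 2) := by
  classical
  haveI : CompactSpace U.toScheme :=
    isCompact_iff_compactSpace.1 (TopologicalSpace.NoetherianSpace.isCompact (U : Set X))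
  let f' := U.ι ≫ f
  haveI : QuasiCompact f' := (quasiCompact_iff_compactSpace f').2 inferInstance
  suffices key : ∀ (T : Finset X) (F : EtCoh.Ab X), EtCoh.IsTorsion F →
      (∀ y ∈ EtPBC.supp F, y ∈ T ∨ IsClosed ({y} : Set X)) → Function.Surjective (EtCore.Hpull U.ι F 2) by
    have hfin : {y : X | ¬ IsClosed ({y} : Set X)}.Finite := by
      refine Set.Finite.of_finite_image (f := fun y => closure ({y} : Set X))
        ((TopologicalSpace.NoetherianSpace.finite_irreducibleComponents (α := X)).subset ?_) ?_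
      · rintro _ ⟨y, hy, rfl⟩
        refine ⟨isIrreducible_singleton.closure, fun Z hZ hle => ?_⟩
        obtain ⟨z, hz⟩ := QuasiSober.sober hZ.closure isClosed_closure
        have hzy : z ⤳ y := hz.specializes (subset_closure (hle (subset_closure rfl)))
        have e : z = y := by
          by_contra hne
          exact hy (VarietyLib.isClosed_of_specializes_ne hdim hzy hne)
        subst e
        exact (subset_closure (s := Z)).trans hz.def.symm.le
      · intro a _ b _ hab
        exact (Inseparable.eq (inseparable_iff_closure_eq.2 hab))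
    exact key hfin.toFinset F hF fun y _ =>
      (Classical.em (IsClosed ({y} : Set X))).symm.imp (fun h => hfin.mem_toFinset.2 h) id
  intro T
  induction T using Finset.induction_on with
  | empty =>
    intro F _ h z
    have h2 : Subsingleton (EtCoh.H U.toScheme ((EtCoh.pull U.ι).obj F) 2) :=
      ClosedPointSupport.subsingleton_H f' _ (isClosed_of_supp_pull U _ fun y hy _ =>
        (h y hy).resolve_left (by simp)) 2 two_pos
    exact ⟨0, @Subsingleton.elim _ h2 _ _⟩
  | insert η T _ ih =>
    intro F hF h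
    by_cases hη : IsClosed ({η} : Set X)
    · exact ih F hF fun y hy => (h y hy).elim
        (fun h => (Finset.mem_insert.1 h).elim (fun e => Or.inr (e ▸ hη)) Or.inl) Or.inr
    let j := X.fromSpecResidueField η
    haveI := isIso_counit (bcLiftsEtale_fromSpecResidueField (X := X) η)
    let u := (EtCoh.pullPushAdj j).unit.app F
    haveI : IsIso ((EtCoh.pull j).map u) := isIso_pull_map_unit_of_counit j F
    have hFl := (TorsionColim.isTorsion_iff F).1 hF
    have hGt : EtCoh.IsTorsion ((EtCoh.pull j).obj F) :=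
      (TorsionColim.isTorsion_iff _).2 (CdField.isLTorsion_pull' j hFl)
    have hKt : EtCoh.IsTorsion (kernel u) :=
      (TorsionColim.isTorsion_iff _).2 (CdField.isLTorsion_of_mono (kernel.ι u) hFl)
    have hKs : ∀ y ∈ EtPBC.supp (kernel u), y ∈ T ∨ IsClosed ({y} : Set X) := fun y hy => by
      rcases h y (ClosedPointSupport.supp_mono (kernel.ι u) hy) with h' | h'
      · refine (Finset.mem_insert.1 h').elim (fun e => ?_) Or.inl
        subst e
        exact absurd ⟨default, Scheme.fromSpecResidueField_apply _ _⟩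
          (ClosedPointSupport.supp_subset_of_isZero_pull j
            (IsZero.of_iso (isZero_kernel_of_mono _) (PreservesKernel.iso _ u)) hy)
      · exact Or.inr h'
    have hC := isClosed_of_supp_coker f hdim η hη ((EtCoh.pull j).obj F) u
    have hS₁ := factor_shortExact (kernel.ι u) u (kernel.condition u) (ShortComplex.exact_kernel _)
    have hS₂ := image_cokernel u
    have hT₁ := hS₁.map_of_exact (EtCoh.pull U.ι)
    have hT₂ := hS₂.map_of_exact (EtCoh.pull U.ι)
    intro z
    let φ := (EtCore.pullConst U.ι ℤ).inv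
    let pU := (EtCoh.pull U.ι).map (Abelian.factorThruImage u)
    let iU := (EtCoh.pull U.ι).map (Abelian.image.ι u)
    obtain ⟨yP, hyP⟩ := surjective_push f hdim U η hη _ hGt
      ((z.comp (Ext.mk₀ pU) (add_zero 2)).comp (Ext.mk₀ iU) (add_zero 2))
    have hX2 : Subsingleton (EtCoh.H X (cokernel u) 2) := ClosedPointSupport.subsingleton_H f _ hC 2 two_pos
    obtain ⟨yI, hyI⟩ := Ext.covariant_sequence_exact₂ _ hS₂ yP (@Subsingleton.elim _ hX2 _ _)
    have hU1 : Subsingleton (EtCoh.H U.toScheme ((EtCoh.pull U.ι).obj (cokernel u)) 1) :=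
      ClosedPointSupport.subsingleton_H f' _ (isClosed_of_supp_pull U _ fun y hy _ => hC y hy) 1 one_pos
    have hI : HpullExact.pullExt (EtCoh.pull U.ι) φ yI = z.comp (Ext.mk₀ pU) (add_zero 2) := by
      rw [← sub_eq_zero]
      have h0 : (HpullExact.pullExt (EtCoh.pull U.ι) φ yI - z.comp (Ext.mk₀ pU) (add_zero 2)).comp
          (Ext.mk₀ iU) (add_zero 2) = 0 := by
        rw [sub_eq_add_neg, Ext.add_comp, Ext.neg_comp, ← sub_eq_add_neg, sub_eq_zero]
        refine Eq.trans ?_ hyP
        rw [← hyI]
        show _ = HpullExact.pullExt (EtCoh.pull U.ι) φ _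
        rw [HpullExact.pullExt_comp, Ext.mapExactFunctor_mk₀]
      obtain ⟨w, hw⟩ := Ext.covariant_sequence_exact₁ _ hT₂ _ h0 (rfl : 1 + 1 = 2)
      rw [← hw, show w = 0 from @Subsingleton.elim _ hU1 _ _, Ext.zero_comp]
    have hX3 : Subsingleton (EtCoh.H X (kernel u) 3) := subsingleton_H_three f hdim _ hKt 0
    obtain ⟨yF₀, hyF⟩ := Ext.covariant_sequence_exact₃ _ hS₁ yI (rfl : 2 + 1 = 3) (@Subsingleton.elim _ hX3 _ _)
    let yF : EtCoh.H X F 2 := yF₀
    let zF : EtCoh.H U.toScheme ((EtCoh.pull U.ι).obj F) 2 := HpullExact.pullExt (EtCoh.pull U.ι) φ yF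
    have hd : (z - zF).comp (Ext.mk₀ pU) (add_zero 2) = 0 := by
      rw [sub_eq_add_neg, Ext.add_comp, Ext.neg_comp, ← sub_eq_add_neg, sub_eq_zero, ← hI, ← hyF,
        HpullExact.pullExt_comp, Ext.mapExactFunctor_mk₀]
    obtain ⟨zK, hzK⟩ := Ext.covariant_sequence_exact₂ _ hT₁ _ hd
    obtain ⟨yK, hyK⟩ := ih (kernel u) hKt hKs zK
    let yK' : EtCoh.H X F 2 := yK.comp (Ext.mk₀ (kernel.ι u)) (add_zero 2)
    refine ⟨yF + yK', ?_⟩
    rw [map_add]
    have e : EtCore.Hpull U.ι F 2 yK' =
        z - zF := by
      show HpullExact.pullExt (EtCoh.pull U.ι) φ _ = _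
      rw [HpullExact.pullExt_comp, Ext.mapExactFunctor_mk₀,
        show HpullExact.pullExt (EtCoh.pull U.ι) φ yK = zK from hyK]
      exact hzK
    rw [e, show EtCore.Hpull U.ι F 2 yF = zF from rfl, add_sub_cancel]

end Curve

/-- Let k be an algebraically closed field, X a separated scheme of finite type over k with dim X ≤ 1, F
a torsion abelian sheaf and U an open subscheme.  Then H^2(X, F) → H^2(U, F|_U) is surjective. -/
theorem result (k : Type u) [Field k] [IsAlgClosed k] (X : Scheme.{u})
    (f : X ⟶ Spec (CommRingCat.of k)) [IsSeparated f] [LocallyOfFiniteType f] [QuasiCompact f]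
    (hdim : topologicalKrullDim X ≤ 1) (F : EtCoh.Ab X) (hF : EtCoh.IsTorsion F) (U : X.Opens)
    [PreservesFiniteLimits (EtCoh.pull U.ι)] :
    Function.Surjective (EtCore.Hpull U.ι F 2) := by
  haveI : IsLocallyNoetherian X := LocallyOfFiniteType.isLocallyNoetherian f
  haveI : CompactSpace X := QuasiCompact.compactSpace_of_compactSpace f
  haveI : IsNoetherian X := {}
  exact surjective_Hpull_two f hdim U F hF

end Groth.Agent.S0639
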