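import Groth.Statements.S14179
import Groth.Agent.S1585
import Groth.Agent.S0639

/-!
`H²` of `μ_n` is unchanged by normalisation of an integral curve over an algebraically closed field: the unit
`F → ν_* ν^* F` is bijective on stalks at the generic point, and higher cohomology of sheaves supported in
closed points vanishes.
-/

set_option autoImplicit false
set_option linter.all false
set_option backward.isDefEq.respectTransparency.types false
set_option backward.isDefEq.respectTransparency false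
set_option synthInstance.maxHeartbeats 400000
set_option maxHeartbeats 1000000
universe u
open CategoryTheory CategoryTheory.Limits CategoryTheory.Abelian AlgebraicGeometry Opposite
open Groth.Agent.Et18
open EtCore

namespace Groth.Agent.S14179

/-- The counit of `pull f ⊣ push f` is bijective on stalks at geometric points of an open on which `f` is an
open immersion containing the whole preimage of its image. -/
theorem isIso_stalk_counit_local {X Y : Scheme.{u}} (f : X ⟶ Y) (V₀ : Y.Opens) (hiso : IsIso (f ∣_ V₀))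
    {Ω : Type u} [Field Ω] [IsSepClosed Ω] (ξ : Spec (CommRingCat.of Ω) ⟶ X) (hξ : f (ξ default) ∈ V₀)
    (G : EtCoh.Ab X) : IsIso ((EtCoh.stalk ξ).map ((EtCoh.pullPushAdj f).counit.app G)) := by
  let O := f ⁻¹ᵁ V₀
  haveI : IsOpenImmersion (O.ι ≫ f) := by rw [← morphismRestrict_ι]; infer_instance
  have key : ∀ (V : Y.Etale) (W : X.Etale) (g : W ⟶ (EtCoh.bc f).obj V)
      (w : (Scheme.pointSmallEtale ξ).fiber.obj W),
      ∃ (V' : Y.Etale) (a : V' ⟶ V) (x : (Scheme.pointSmallEtale ξ).fiber.obj ((EtCoh.bc f).obj V'))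
        (h : (EtCoh.bc f).obj V' ⟶ W),
          h ≫ g = (EtCoh.bc f).map a ∧ (Scheme.pointSmallEtale ξ).fiber.map h x = w := by
    intro V W g w
    haveI : Etale W.hom := W.prop
    obtain ⟨w', hw'⟩ := exists_fiber_etaleAway ξ W O hξ w
    let i : (W.hom ⁻¹ᵁ O : Scheme.{u}) ⟶ W.left := (W.hom ⁻¹ᵁ O).ι
    have hfac : (W.hom ∣_ O) ≫ O.ι = i ≫ W.hom := morphismRestrict_ι _ _
    haveI : Etale (W.hom ∣_ O) := IsZariskiLocalAtTarget.restrict (P := @Etale) ‹Etale W.hom› O
    haveI : Etale (i ≫ W.hom ≫ f) := by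
      rw [← reassoc_of% hfac]
      infer_instance
    let V' : Y.Etale := Scheme.Etale.mk (i ≫ W.hom ≫ f)
    have hg₁ : (g.left ≫ pullback.fst V.hom f) ≫ V.hom = W.hom ≫ f :=
      (Category.assoc _ _ _).trans ((congrArg (g.left ≫ ·) pullback.condition).trans
        ((Category.assoc _ _ _).symm.trans (congrArg (· ≫ f) (Over.w g.hom))))
    let a : V' ⟶ V := MorphismProperty.Over.homMk (i ≫ g.left ≫ pullback.fst V.hom f)
      ((Category.assoc _ _ _).trans (congrArg (i ≫ ·) hg₁)) trivial
    let pr₁ : pullback V'.hom f ⟶ (W.hom ⁻¹ᵁ O : Scheme.{u}) := pullback.fst V'.hom f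
    let pr₂ : pullback V'.hom f ⟶ X := pullback.snd V'.hom f
    have hcond : pr₁ ≫ i ≫ W.hom ≫ f = pr₂ ≫ f := pullback.condition
    have hran : ∀ t : ↥(pullback V'.hom f), pr₂ t ∈ Set.range O.ι := fun t => by
      rw [Scheme.Opens.range_ι]
      show f (pr₂ t) ∈ V₀
      rw [← Scheme.Hom.comp_apply, ← hcond]
      show f (W.hom (i (pr₁ t))) ∈ V₀
      exact (pr₁ t).2
    let c := IsOpenImmersion.lift O.ι pr₂ (Set.range_subset_iff.2 hran)
    have hc : c ≫ O.ι = pr₂ := IsOpenImmersion.lift_fac _ _ _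
    have hsnd : pr₁ ≫ i ≫ W.hom = pr₂ := by
      rw [← hfac, ← hc, ← Category.assoc]
      congr 1
      rw [← cancel_mono (O.ι ≫ f), Category.assoc, reassoc_of% hfac, hcond, reassoc_of% hc]
    let h : (EtCoh.bc f).obj V' ⟶ W :=
      MorphismProperty.Over.homMk (pr₁ ≫ i) ((Category.assoc _ _ _).trans hsnd) trivial
    have hhg : h ≫ g = (EtCoh.bc f).map a := by
      refine MorphismProperty.Over.Hom.ext (pullback.hom_ext ?_ ?_)
      · refine Eq.trans ?_ (pullback.lift_fst _ _ _).symm
        exact (Category.assoc _ _ _).trans (Category.assoc _ _ _)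
      · exact (Over.w (h ≫ g).hom).trans (Over.w ((EtCoh.bc f).map a).hom).symm
    let wl : Spec (CommRingCat.of Ω) ⟶ (W.hom ⁻¹ᵁ O : Scheme.{u}) := w'.left
    have hwl : wl ≫ i ≫ W.hom = ξ := Over.w w'
    let x : Spec (CommRingCat.of Ω) ⟶ pullback V'.hom f := pullback.lift wl ξ (by
      show wl ≫ i ≫ W.hom ≫ f = ξ ≫ f
      rw [reassoc_of% hwl])
    refine ⟨V', a, Over.homMk x (pullback.lift_snd _ _ _), h, hhg, Over.OverMorphism.ext ?_⟩
    have e : wl ≫ i = w.left := congrArg (fun k => k.left) hw'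
    exact (Category.assoc _ _ _).symm.trans
      ((congrArg (· ≫ i) (pullback.lift_fst (f := V'.hom) (g := f) wl ξ _)).trans e)
  refine isIso_sheafFiber_map_counit (Scheme.pointSmallEtale ξ) (EtCoh.bc f)
    (EtCoh.coverPreserving_bc f) AddCommGrpCat.{u + 1} (fun W w => ?_) (fun V W g w => ?_) G
  · obtain ⟨V', -, x, h, -, hx⟩ := key (EtCoh.top Y) W ((EtCore.bcTopIsTerminal f).from W) w
    exact ⟨V', x, h, hx⟩
  · obtain ⟨V', a, x, h, hg, hx⟩ := key V W g w
    refine ⟨V', a, x, h, hg, ?_⟩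
    rw [← hg, Functor.map_comp, ConcreteCategory.comp_apply, hx]

/-- The unit of `pull f ⊣ push f` is bijective on stalks at images of such points. -/
theorem isIso_stalk_unit_local {X Y : Scheme.{u}} (f : X ⟶ Y) (V₀ : Y.Opens) (hiso : IsIso (f ∣_ V₀))
    {Ω : Type u} [Field Ω] [IsSepClosed Ω] (ξ : Spec (CommRingCat.of Ω) ⟶ X) (hξ : f (ξ default) ∈ V₀)
    (F : EtCoh.Ab Y) : IsIso ((EtCoh.stalk (ξ ≫ f)).map ((EtCoh.pullPushAdj f).unit.app F)) := by
  have := isIso_stalk_counit_local f V₀ hiso ξ hξ ((EtCoh.pull f).obj F)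
  have h : (EtCoh.stalk ξ).map ((EtCoh.pull f).map ((EtCoh.pullPushAdj f).unit.app F)) ≫
      (EtCoh.stalk ξ).map ((EtCoh.pullPushAdj f).counit.app ((EtCoh.pull f).obj F)) = 𝟙 _ := by
    refine ((EtCoh.stalk ξ).map_comp _ _).symm.trans ?_
    exact (congrArg (EtCoh.stalk ξ).map ((EtCoh.pullPushAdj f).left_triangle_components F)).trans
      ((EtCoh.stalk ξ).map_id _)
  haveI : IsIso ((EtCoh.pull f ⋙ EtCoh.stalk ξ).map ((EtCoh.pullPushAdj f).unit.app F)) := by
    rw [Functor.comp_map, IsIso.eq_comp_inv _ |>.2 h]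
    exact IsIso.comp_isIso' (IsIso.id _) inferInstance
  exact (NatIso.isIso_map_iff (stalkPullIso f ξ) _).1 this

/-- Let `k` be an algebraically closed field, `X` an integral separated scheme of finite type over `k` of
dimension `1` and `n ≥ 1` invertible in `k`. Pullback along the normalisation `ν : X^ν → X` gives a bijection
`H²(X, μ_n) → H²(X^ν, ν^* μ_n)`. -/
theorem result
    (k : Type u) [Field k] [IsAlgClosed k] (X : Scheme.{u}) (f : X ⟶ Spec (CommRingCat.of k))
    [IsSeparated f] [LocallyOfFiniteType f] [QuasiCompact f] [IsIntegral X]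
    (hdim : topologicalKrullDim X = 1)
    [QuasiCompact (X.fromSpecStalk (genericPoint X))] [QuasiSeparated (X.fromSpecStalk (genericPoint X))]
    [PreservesFiniteLimits (EtCoh.pull (Curv2.normalizationι X))]
    (n : ℕ) (hn : 1 ≤ n) (hnk : (n : k) ≠ 0) :
    Function.Bijective (EtCore.Hpull (Curv2.normalizationι X) (EtCoh.mu X n) 2) := by
  letI : X.Over (Spec (CommRingCat.of k)) := ⟨f⟩
  haveI : LocallyOfFiniteType (X ↘ Spec (CommRingCat.of k)) := ‹LocallyOfFiniteType f›
  haveI : IsLocallyNoetherian X := LocallyOfFiniteType.isLocallyNoetherian f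
  haveI : CompactSpace X := QuasiCompact.compactSpace_of_compactSpace f
  haveI : IsNoetherian X := {}
  let ν := Curv2.normalizationι X
  obtain ⟨hfin, -, ⟨V₀, hV₀, hiso⟩, hint, -⟩ := Groth.Agent.S1585.result k X
  haveI : IsFinite ν := hfin
  let F := EtCoh.mu X n
  let ι := EtCoh.muι X n
  have htor : EtCoh.IsTorsion F := by
    have h0 : n • ι = 0 := by
      have : ι ≫ EtCoh.powMap X n = 0 := kernel.condition _
      rwa [EtCoh.powMap, Preadditive.comp_nsmul, Category.comp_id] at this
    haveI : Mono ι := inferInstanceAs (Mono (kernel.ι _))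
    have h1 : n • 𝟙 F = 0 := by rw [← cancel_mono ι, Preadditive.nsmul_comp, Category.id_comp, h0, zero_comp]
    intro U s x
    refine ⟨U, 𝟙 U, ⟨x, rfl⟩, isOfFinAddOrder_iff_nsmul_eq_zero.2 ⟨n, hn, ?_⟩⟩
    rw [op_id, CategoryTheory.Functor.map_id]
    show n • s = 0
    have h2 : ∀ m : ℕ, ((m • 𝟙 F).hom.app (op U)).hom s = m • s := fun m => by
      induction m with
      | zero => simp
      | succ m ih => rw [succ_nsmul, succ_nsmul, ← ih]; rfl
    rw [← h2, h1]
    rfl
  let u := (EtCoh.pullPushAdj ν).unit.app F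
  -- the stalks at the generic point
  let η := genericPoint X
  have hηV : η ∈ V₀ := by
    obtain ⟨x, hx⟩ := hV₀
    exact (genericPoint_specializes x).mem_open V₀.isOpen hx
  obtain ⟨s, hs⟩ : ∃ s : Curv2.normalization X, ν s = η := by
    haveI := hiso
    obtain ⟨t, ht⟩ := (Scheme.homeoOfIso (asIso (ν ∣_ V₀))).surjective ⟨η, hηV⟩
    exact ⟨t.1, (morphismRestrict_base_coe ν V₀ t).symm.trans (congrArg Subtype.val ht)⟩
  let ξ := sepPoint (Curv2.normalization X) s
  have hξ : (ξ ≫ ν) default = η := by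
    rw [Scheme.Hom.comp_apply, sepPoint_default, hs]
  haveI hu : IsIso ((EtCoh.stalk (ξ ≫ ν)).map u) :=
    isIso_stalk_unit_local ν V₀ hiso ξ (by rw [← Scheme.Hom.comp_apply, hξ]; exact hηV) F
  have hclosed : ∀ y : X, y ≠ η → IsClosed ({y} : Set X) := fun y hy =>
    VarietyLib.isClosed_of_specializes_ne hdim.le (genericPoint_specializes y) (Ne.symm hy)
  have hK : ∀ y ∈ EtPBC.supp (kernel u), IsClosed ({y} : Set X) := fun y hy => hclosed y fun e => by
    subst e
    exact (mem_supp_iff _ (ξ ≫ ν) hξ).1 hy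
      (IsZero.of_iso (isZero_kernel_of_mono _) (PreservesKernel.iso _ u))
  have hC : ∀ y ∈ EtPBC.supp (cokernel u), IsClosed ({y} : Set X) := fun y hy => hclosed y fun e => by
    subst e
    exact (mem_supp_iff _ (ξ ≫ ν) hξ).1 hy
      (IsZero.of_iso (isZero_cokernel_of_epi _) (PreservesCokernel.iso _ u))
  have hv : ∀ {M : EtCoh.Ab X}, (∀ y ∈ EtPBC.supp M, IsClosed ({y} : Set X)) → ∀ q, 0 < q →
      Subsingleton (EtCoh.H X M q) := fun {M} hM q hq => ClosedPointSupport.subsingleton_H f M hM q hq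
  have hS₁ := S0639.factor_shortExact (kernel.ι u) u (kernel.condition u) (ShortComplex.exact_kernel _)
  have hS₂ := S0639.image_cokernel u
  let Φ : EtCoh.H X F 2 → EtCoh.H X ((EtCoh.push ν).obj ((EtCoh.pull ν).obj F)) 2 :=
    fun z => (EtCoh.HF X 2).map u z
  have hΦ : Function.Bijective Φ := by
    have hp : Function.Bijective (fun z : Ext (EtCoh.const X ℤ) F 2 =>
        z.comp (Ext.mk₀ (Abelian.factorThruImage u)) (add_zero 2)) := by
      constructor
      · intro a b hab
        rw [← sub_eq_zero]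
        have h0 : (a - b).comp (Ext.mk₀ (Abelian.factorThruImage u)) (add_zero 2) = 0 := by
          rw [sub_eq_add_neg, Ext.add_comp, Ext.neg_comp, ← sub_eq_add_neg, sub_eq_zero]
          exact hab
        obtain ⟨w, hw⟩ := Ext.covariant_sequence_exact₂ _ hS₁ (a - b) h0
        rw [← hw, show w = 0 from @Subsingleton.elim _ (hv hK 2 two_pos) _ _, Ext.zero_comp]
      · intro z
        exact Ext.covariant_sequence_exact₃ _ hS₁ z (rfl : 2 + 1 = 3)
          (@Subsingleton.elim _ (hv hK 3 (by omega)) _ _)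
    have hi : Function.Bijective (fun z : Ext (EtCoh.const X ℤ) (Abelian.image u) 2 =>
        z.comp (Ext.mk₀ (Abelian.image.ι u)) (add_zero 2)) := by
      constructor
      · intro a b hab
        rw [← sub_eq_zero]
        have h0 : (a - b).comp (Ext.mk₀ (Abelian.image.ι u)) (add_zero 2) = 0 := by
          rw [sub_eq_add_neg, Ext.add_comp, Ext.neg_comp, ← sub_eq_add_neg, sub_eq_zero]
          exact hab
        obtain ⟨w, hw⟩ := Ext.covariant_sequence_exact₁ _ hS₂ (a - b) h0 (rfl : 1 + 1 = 2)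
        rw [← hw, show w = 0 from @Subsingleton.elim _ (hv hC 1 one_pos) _ _, Ext.zero_comp]
      · intro z
        exact Ext.covariant_sequence_exact₂ _ hS₂ z (@Subsingleton.elim _ (hv hC 2 two_pos) _ _)
    have e : Φ = (fun z => z.comp (Ext.mk₀ (Abelian.image.ι u)) (add_zero 2)) ∘
        (fun z => z.comp (Ext.mk₀ (Abelian.factorThruImage u)) (add_zero 2)) := funext fun z => by
      show z.comp (Ext.mk₀ u) (add_zero 2) = _
      rw [Function.comp_apply, Ext.comp_assoc_of_second_deg_zero, Ext.mk₀_comp_mk₀, Abelian.image.fac]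
    rw [e]
    exact hi.comp hp
  have hH : ∀ z, EtCore.Hpull ν F 2 z = EtLim.HofPush ν ((EtCoh.pull ν).obj F) 2 (Φ z) := fun z => by
    refine Eq.symm ((congrArg ((EtCoh.HF _ 2).map ((EtCoh.pullPushAdj ν).counit.app _)) (CompCrit.Hpull_natural ν u 2 z)).trans ?_)
    refine (CompCrit.HF_map_comp_apply _ _ _ _).trans ?_
    refine (congrArg (fun m => (EtCoh.HF _ 2).map m (EtCore.Hpull ν F 2 z))
      ((EtCoh.pullPushAdj ν).left_triangle_components F)).trans ?_
    exact ConcreteCategory.congr_hom (CategoryTheory.Functor.map_id (EtCoh.HF _ 2) _) _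
  show Function.Bijective (EtCore.Hpull ν F 2)
  rw [show (EtCore.Hpull ν F 2 : EtCoh.H X F 2 → _) = EtLim.HofPush ν ((EtCoh.pull ν).obj F) 2 ∘ Φ from funext hH]
  exact (CompCrit.bijective_HofPush ν _ 2).comp hΦ

end Groth.Agent.S14179
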