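import Groth.Statements.S7181
import Groth.Agent.FlatMorPush.Props

set_option autoImplicit false
universe u
open FlatMor
set_option backward.isDefEq.respectTransparency.types false

namespace Groth.Agent.S7181

open AlgebraicGeometry CategoryTheory Limits in
/-- In the pushout P = Y ⨿_Z X of a closed immersion i : Z → X and an integral morphism j : Z → Y over a
base S (each fibre of j contained in the preimage of an affine open of X), if X and Y are separated
(resp. quasi-separated) over S then so is P. -/
theorem result {X Y Z P S : Scheme.{u}} (i : Z ⟶ X) (j : Z ⟶ Y) [IsClosedImmersion i] [IsIntegralHom j]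
    (haff : ∀ y : Y, ∃ U : X.Opens, IsAffineOpen U ∧ j ⁻¹' {y} ⊆ (i ⁻¹ᵁ U : Set ↑Z))
    (a : X ⟶ P) (b : Y ⟶ P) (hP : IsPushout i j a b) (p : X ⟶ S) (q : Y ⟶ S) (r : P ⟶ S)
    (hp : a ≫ r = p) (hq : b ≫ r = q) :
    ((IsSeparated p ∧ IsSeparated q) → IsSeparated r) ∧ ((QuasiSeparated p ∧ QuasiSeparated q) → QuasiSeparated r) := by
  have := FlatMorPush.hasPairs_of_integral i j haff
  let e := (FlatMorPush.isPushout i j).isoIsPushout _ _ hP
  have hea : FlatMorPush.inl i j ≫ e.hom = a := (FlatMorPush.isPushout i j).inl_isoIsPushout_hom _ _ hP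
  have heb : FlatMorPush.inr i j ≫ e.hom = b := (FlatMorPush.isPushout i j).inr_isoIsPushout_hom _ _ hP
  have := FlatMorPush.surjective_coprod' (i := i) (j := j)
  have := FlatMorPush.isIntegralHom_inl i j
  have := FlatMorPush.isClosedImmersion_inr i j
  let m := coprod.desc (FlatMorPush.inl i j) (FlatMorPush.inr i j)
  have hm : m ≫ e.hom ≫ r = coprod.desc p q := by
    rw [coprod.desc_comp, ← Category.assoc, hea, hp, ← Category.assoc, heb, hq]
  have hfac : coprod.desc p q = coprod.map p q ≫ coprod.desc (𝟙 S) (𝟙 S) := by simp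
  constructor
  · rintro ⟨hp', hq'⟩
    have : IsSeparated (coprod.map p q) := IsZariskiLocalAtTarget.coprodMap p q hp' hq'
    have : IsSeparated (m ≫ e.hom ≫ r) := by rw [hm, hfac]; infer_instance
    have : IsSeparated (e.hom ≫ r) := Stk19b.SepQuot.isSeparated_of_comp m _
    exact (MorphismProperty.cancel_left_of_respectsIso @IsSeparated e.hom r).mp this
  · rintro ⟨hp', hq'⟩
    have : QuasiSeparated (coprod.map p q) := IsZariskiLocalAtTarget.coprodMap p q hp' hq'
    have : QuasiSeparated (m ≫ e.hom ≫ r) := by rw [hm, hfac]; infer_instance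
    have : QuasiSeparated (e.hom ≫ r) := Stk19b.SepQuot.quasiSeparated_of_comp m _
    exact (MorphismProperty.cancel_left_of_respectsIso @QuasiSeparated e.hom r).mp this

end Groth.Agent.S7181
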