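import Groth.Statements.S0236
import Groth.Agent.CAlgH3.EtPic
import Groth.Agent.AmpleLib.Power
-- import your own Groth.Agent.* helpers here

set_option autoImplicit false
universe u
open CategoryTheory CategoryTheory.Limits AlgebraicGeometry
open Curves

namespace Groth.Agent.S0236

/-- For any scheme X, the first étale cohomology of G_m (small site) vanishes exactly when every
invertible O_X-module is isomorphic to the structure sheaf — the part of the identification
H^1_et(X, G_m) = Pic(X) that can be stated without a group structure on Pic. -/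
theorem result (X : Scheme.{u}) :
    Subsingleton (EtCoh.H X (EtCoh.Gm X) 1) ↔
      ∀ L : X.Modules, PicF.IsInvertible L → Nonempty (L ≅ Coh.structureModule X) := by
  obtain ⟨_⟩ := Groth.Agent.PicH127.nonempty_law X
  obtain ⟨e⟩ := Groth.Agent.CAlgH3.EtPic.nonempty_pic_addEquiv X
  have h1 : Subsingleton (EtCoh.H X (EtCoh.Gm X) 1) ↔ Subsingleton (PicLoc.PicSet X) :=
    ⟨fun _ => (Additive.ofMul.trans e.toEquiv).subsingleton,
      fun _ => (Additive.ofMul.trans e.toEquiv).symm.subsingleton⟩
  rw [h1]
  constructor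
  · intro _ L hL
    exact (PicGrp.cls_eq_cls_iff hL Groth.Agent.AmpleLib.isInvertible_structureModule).1 (Subsingleton.elim _ _)
  · intro h
    refine ⟨fun a b => ?_⟩
    obtain ⟨L, hL, rfl⟩ := PicGrp.exists_eq_cls a
    obtain ⟨M, hM, rfl⟩ := PicGrp.exists_eq_cls b
    obtain ⟨i⟩ := h L hL
    obtain ⟨j⟩ := h M hM
    exact (PicGrp.cls_eq_cls_iff hL hM).2 ⟨i ≪≫ j.symm⟩

end Groth.Agent.S0236
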