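import Groth.Statements.S0148
import Groth.Agent.CdDev9.TranscStep

set_option autoImplicit false
universe u
open CategoryTheory CategoryTheory.Limits AlgebraicGeometry Opposite
open EtPBC
open CategoryTheory.Abelian
open Groth.Agent.Et18

namespace Groth.Agent.S0148

theorem cdKilled_of_cohDimLE {X : Scheme.{u}} {d : ℕ} (h : EtCoh.CohDimLE X d) {m : ℕ} (hm : 0 < m) :
    GalEt.CdKilled X m d := fun F hF q hq => by
  refine h F ?_ q hq
  rw [TorsionColim.isTorsion_iff, isLTorsion_iff_stalks]
  intro Ω _ _ ξ t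
  refine ⟨m, ⟨hm, fun _ _ _ => trivial⟩, ?_⟩
  haveI : (EtCoh.stalk ξ).Additive := Functor.additive_of_preserves_binary_products _
  exact congrArg (fun φ => φ t) (GalEt.map_killed (EtCoh.stalk ξ) hF)

theorem cohDimLE_of_cdKilled {X : Scheme.{u}} [CompactSpace X] [QuasiSeparatedSpace X] {d : ℕ}
    (h : ∀ m : ℕ, 0 < m → GalEt.CdKilled X m d) : EtCoh.CohDimLE X d := by
  intro F hF q hq
  have := EtCechLib.preservesColimitsOfShape_HF (X := X) q (TorsionColim.LNum.{u} Set.univ)
  refine subsingleton_of_forall_eq 0 fun z => ?_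
  obtain ⟨m, b, hb⟩ := Concrete.isColimit_exists_rep _
    (isColimitOfPreserves (EtCoh.HF X q) (TorsionColim.isColimit Set.univ F ((TorsionColim.isTorsion_iff F).1 hF)))
    (show ((EtCoh.HF X q).obj F : Type (u + 1)) from z)
  let κ : kernel (m.val • 𝟙 F) ⟶ F := kernel.ι _
  have hK : m.val • 𝟙 (kernel (m.val • 𝟙 F)) = 0 := by
    rw [← cancel_mono κ, Preadditive.nsmul_comp, Category.id_comp, zero_comp]
    exact (TorsionColim.nsmul_id_comp _ _).symm.trans (kernel.condition _)
  have hv : Subsingleton (EtCoh.H X (kernel (m.val • 𝟙 F)) q) := h m.val m.prop.1 _ hK q hq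
  show (show ((EtCoh.HF X q).obj F : Type (u + 1)) from z) = 0
  rw [← hb]
  exact (congrArg _ (@Subsingleton.elim _ hv (show EtCoh.H X (kernel (m.val • 𝟙 F)) q from b) 0)).trans
    (map_zero _)

/-- For a field extension L/K with cd(K) <= e and transcendence degree <= n one has cd(L) <= e + n. -/
theorem result (K L : Type u) [Field K] [Field L] [Algebra K L]
    (e n : ℕ) (hK : EtCoh.CohDimLE (Spec (CommRingCat.of K)) e) (htr : Algebra.trdeg K L ≤ n) :
    EtCoh.CohDimLE (Spec (CommRingCat.of L)) (e + n) := by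
  classical
  obtain ⟨t, ht⟩ := Cardinal.lt_aleph0.1 (htr.trans_lt (Cardinal.natCast_lt_aleph0 (n := n)))
  obtain ⟨s, hs⟩ := exists_isTranscendenceBasis K L
  haveI : Finite s := Cardinal.lt_aleph0_iff_finite.mp
    ((hs.cardinalMk_eq_trdeg.trans ht) ▸ Cardinal.natCast_lt_aleph0)
  haveI : Fintype s := Fintype.ofFinite s
  let F := IntermediateField.adjoin K (s : Set L)
  haveI : Algebra.IsAlgebraic F L := by
    have := hs.isAlgebraic_field
    rwa [Subtype.range_coe_subtype] at this
  let g : Finset F := (Finset.univ : Finset s).image fun a => ⟨a.1, IntermediateField.subset_adjoin K _ a.2⟩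
  have hg : IntermediateField.adjoin K (g : Set F) = ⊤ := by
    apply IntermediateField.lift_injective
    rw [IntermediateField.lift_adjoin, IntermediateField.lift_top]
    congr 1
    ext z
    simp [g]
    exact fun hz => IntermediateField.subset_adjoin K _ hz
  refine cohDimLE_of_cdKilled fun m hm => ?_
  obtain ⟨t', ht', h⟩ := CdDev9.Transc.exists_trdeg_cdKilled hm g.card K F g le_rfl hg e
    (cdKilled_of_cohDimLE hK hm)
  have hadd : Algebra.trdeg K L = Algebra.trdeg K F := by
    rw [← trdeg_add_eq K F (A := L), trdeg_eq_zero (R := F) (A := L), add_zero]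
  have hle : t' ≤ n := by
    rw [hadd, ht'] at htr
    exact_mod_cast htr
  let π : Spec (CommRingCat.of L) ⟶ Spec (CommRingCat.of F) := H8Lim.algSpec F L
  haveI : IsIntegralHom π := IsIntegralHom.SpecMap_iff.2 (algebraMap_isIntegral_iff.2 inferInstance)
  exact fun G hG q hq => h.of_finite π G hG q (lt_of_le_of_lt (Nat.add_le_add_left hle e) hq)

end Groth.Agent.S0148
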