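import Groth.Statements.S19255
import Groth.Agent.GalEt.CdDimOne
import Groth.Agent.CdCurve24.Basic

/-!
Uniquely divisible étale sheaves on a Noetherian scheme of dimension `≤ d` have no cohomology above degree `d`.
Positive degree cohomology of direct images from points is torsion; sheaves supported on points of height `≤ n`
are filtered colimits of sheaves supported on closed sets of dimension `≤ n`, which are compared with the sum
of the direct images from their finitely many points of height `n`.
-/

set_option autoImplicit false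
set_option linter.all false
set_option backward.isDefEq.respectTransparency.types false
set_option backward.isDefEq.respectTransparency false
set_option synthInstance.maxHeartbeats 400000
set_option maxHeartbeats 1000000
universe u
open CategoryTheory CategoryTheory.Limits CategoryTheory.Abelian AlgebraicGeometry Opposite TopologicalSpace
open Groth.Agent.Et18
open EtCd

noncomputable section

namespace Groth.Agent.S19255

variable {X : Scheme.{u}}

/-- Finitely many points of a closed subset generate all of it. -/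
theorem exists_finite_generic {W : Set X} [NoetherianSpace X] (hW : IsClosed W) :
    ∃ G : Set X, G.Finite ∧ G ⊆ W ∧ ∀ y ∈ W, ∃ g ∈ G, g ⤳ y := by
  classical
  obtain ⟨S, hSi, hsup⟩ := NoetherianSpace.exists_finset_irreducible (α := X) (⟨W, hW⟩ : Closeds X)
  have hgen : ∀ C : S, ∃ g : X, closure ({g} : Set X) = (C.1 : Set X) := fun C =>
    QuasiSober.sober (hSi C) C.1.isClosed
  choose g hg using hgen
  have hmem : ∀ y, y ∈ W ↔ ∃ C ∈ S, y ∈ (C : Set X) := fun y => by
    have h := congrArg (fun C : Closeds X => (C : Set X)) hsup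
    simp only [Closeds.coe_mk, Closeds.coe_finset_sup] at h
    rw [h, Finset.sup_set_eq_biUnion]
    simp
  refine ⟨Set.range g, Set.finite_range g, ?_, fun y hy => ?_⟩
  · rintro _ ⟨C, rfl⟩
    exact (hmem _).2 ⟨C.1, C.2, hg C ▸ subset_closure rfl⟩
  · obtain ⟨C, hC, hyC⟩ := (hmem y).1 hy
    exact ⟨g ⟨C, hC⟩, ⟨_, rfl⟩, specializes_iff_mem_closure.2 ((hg ⟨C, hC⟩).symm ▸ hyC)⟩

section Colimit

variable (S : Set X)

/-- Closed subsets inside `S`. -/
abbrev Idx := ULift.{u + 1} {W : Closeds X // (W : Set X) ⊆ S}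

instance : IsDirectedOrder (Idx S) := ⟨fun a b =>
  ⟨⟨⟨a.down.1 ⊔ b.down.1, by rw [Closeds.coe_sup]; exact Set.union_subset a.down.2 b.down.2⟩⟩,
    (le_sup_left : a.down.1 ≤ a.down.1 ⊔ b.down.1), (le_sup_right : b.down.1 ≤ a.down.1 ⊔ b.down.1)⟩⟩

instance : Nonempty (Idx S) := ⟨⟨⟨⊥, by simp⟩⟩⟩

variable {S}

/-- The complement. -/
def away (W : Idx S) : X.Opens := ⟨((W.down.1 : Set X))ᶜ, W.down.1.isClosed.isOpen_compl⟩

theorem away_antitone {W W' : Idx S} (h : W ≤ W') : away W' ≤ away W :=
  Set.compl_subset_compl.2 h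

variable (S) (F : EtCoh.Ab X)

/-- The parts supported in closed subsets inside `S`. -/
def diag : Idx S ⥤ EtCoh.Ab X where
  obj W := kernel (ClosedPointSupport.unitAt F (away W))
  map {W W'} f := kernel.lift _ (kernel.ι _) (ClosedPointSupport.kernel_comp_unitAt F (away_antitone (leOfHom f)))
  map_id W := by rw [← cancel_mono (kernel.ι _)]; simp
  map_comp f g := by rw [← cancel_mono (kernel.ι _)]; simp

/-- The cocone. -/
def cocone : Cocone (diag S F) where
  pt := F
  ι :=
    { app := fun W => kernel.ι _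
      naturality := fun W W' f => (kernel.lift_ι _ _ _).trans (Category.comp_id _).symm }

theorem supp_diag_subset (W : Idx S) : EtPBC.supp ((diag S F).obj W) ⊆ (W.down.1 : Set X) := by
  refine (ClosedPointSupport.supp_subset_of_isZero_pull (away W).ι
    (IsZero.of_iso (isZero_kernel_of_mono _)
      (PreservesKernel.iso _ (ClosedPointSupport.unitAt F (away W))))).trans ?_
  rw [Scheme.Opens.range_ι]
  exact (compl_compl _).le

theorem nonempty_isColimit [IsNoetherian X] (hS : ∀ y z : X, y ∈ S → y ⤳ z → z ∈ S)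
    (hF : EtPBC.supp F ⊆ S) : Nonempty (IsColimit (cocone S F)) := by
  classical
  refine nonempty_isColimit_of_stalks _ (fun y t => ?_) fun y W b hb => ?_
  · let Φ := Scheme.pointSmallEtale (sepPoint X y)
    obtain ⟨W, v, s, rfl⟩ := Φ.toPresheafFiber_jointly_surjective (P := F.obj) t
    haveI : Etale W.hom := W.prop
    obtain ⟨_, ⟨(V : W.left.Opens), hV, rfl⟩, hv, -⟩ :=
      W.left.isBasis_affineOpens.exists_subset_of_mem_open (Set.mem_univ (fiberPt v)) isOpen_univ
    let W' : X.Etale := MorphismProperty.Over.mk ⊤ (V.ι ≫ W.hom) (inferInstanceAs (Etale (V.ι ≫ W.hom)))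
    let g : W' ⟶ W := MorphismProperty.Over.homMk V.ι rfl
    obtain ⟨v', rfl⟩ := UnitConst.exists_lift_nhd g v ⟨⟨_, hv⟩, rfl⟩
    let s' : EtCoh.sect F W' := F.obj.map g.op s
    haveI : Etale W'.hom := W'.prop
    haveI : IsAffine W'.left := hV
    haveI : IsLocallyNoetherian ((Functor.fromPUnit X).obj W'.right) := ‹IsNoetherian X›.1
    haveI : IsLocallyNoetherian W'.left := LocallyOfFiniteType.isLocallyNoetherian W'.hom
    haveI : IsNoetherian W'.left := ⟨⟩
    let Z := EtShriek.sectSupp F W' s'
    have hZmem : ∀ z ∈ Z, W'.hom z ∈ EtPBC.supp F := fun z hz => by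
      rw [supp_eq_union]
      exact Set.mem_iUnion.2 ⟨W', Set.mem_iUnion.2 ⟨s', z, hz, rfl⟩⟩
    obtain ⟨G, hGf, hGZ, hG⟩ := exists_finite_generic (X := W'.left) (isClosed_sectSupp F W' s')
    let C : Set X := ⋃ z ∈ G, closure {W'.hom z}
    have hCcl : IsClosed C := hGf.isClosed_biUnion fun _ _ => isClosed_closure
    have hCS : C ⊆ S := fun x hx => by
      obtain ⟨z, hz, hxz⟩ := Set.mem_iUnion₂.1 hx
      exact hS _ _ (hF (hZmem z (hGZ hz))) (specializes_iff_mem_closure.2 hxz)
    have hZC : ∀ z ∈ Z, W'.hom z ∈ C := fun z hz => by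
      obtain ⟨w, hw, hwz⟩ := hG z hz
      exact Set.mem_iUnion₂.2 ⟨w, hw, (hwz.map W'.hom.continuous).mem_closure⟩
    let I : Idx S := ⟨⟨⟨C, hCcl⟩, hCS⟩⟩
    let j := (away I).ι
    have hs : (ClosedPointSupport.unitAt F (away I)).hom.app (op W') s' = 0 := by
      refine eq_zero_of_sectSupp_eq_empty _ W' _ (Set.eq_empty_iff_forall_notMem.2 fun w hw => ?_)
      by_cases hwZ : w ∈ Z
      · refine hw W' (𝟙 W') ⟨w, rfl⟩ ?_
        rw [op_id, CategoryTheory.Functor.map_id]
        change (ClosedPointSupport.unitAt F (away I)).hom.app (op W') s' = 0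
        refine eq_zero_of_sectSupp_eq_empty ((EtCoh.pull j).obj F) ((EtCoh.bc j).obj W') _
          (Set.eq_empty_iff_forall_notMem.2 fun p hp => ?_)
        have hpZ : (pullback.fst W'.hom j p) ∉ Z := fun h => by
          have h1 : W'.hom (pullback.fst W'.hom j p) = j (pullback.snd W'.hom j p) :=
            congrArg (fun k : pullback W'.hom j ⟶ X => k p) pullback.condition
          have h2 : j (pullback.snd W'.hom j p) ∈ (away I : Set X) := (pullback.snd W'.hom j p).2
          exact h2 (h1 ▸ hZC _ h)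
        change ¬ ∀ (W : X.Etale) (g : W ⟶ W'), (∃ w, g.left w = pullback.fst W'.hom j p) → F.obj.map g.op s' ≠ 0 at hpZ
        push Not at hpZ
        obtain ⟨V', r, ⟨u', hu'⟩, hr⟩ := hpZ
        obtain ⟨q, -, hq⟩ := Scheme.Pullback.exists_preimage_pullback (f := r.left)
          (g := pullback.fst W'.hom j) u' p hu'
        let m : pullback r.left (pullback.fst W'.hom j) ⟶ pullback V'.hom j :=
          pullback.lift (pullback.fst _ _) (pullback.snd _ _ ≫ pullback.snd _ _) (by
            have hw' : r.left ≫ W'.hom = V'.hom := Over.w r.hom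
            refine (congrArg (pullback.fst _ _ ≫ ·) hw'.symm).trans ?_
            refine (pullback.condition_assoc _).trans ?_
            exact (congrArg (pullback.snd _ _ ≫ ·) pullback.condition).trans (Category.assoc _ _ _).symm)
        refine hp ((EtCoh.bc j).obj V') ((EtCoh.bc j).map r) ⟨m q, ?_⟩ ?_
        · have hm : m ≫ ((EtCoh.bc j).map r).left = pullback.snd r.left (pullback.fst W'.hom j) := by
            refine pullback.hom_ext ?_ ?_
            · refine (Category.assoc _ _ _).trans ((congrArg (m ≫ ·) (pullback.lift_fst _ _ _)).trans ?_)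
              refine (Category.assoc _ _ _).symm.trans ((congrArg (· ≫ r.left) (pullback.lift_fst _ _ _)).trans ?_)
              exact pullback.condition
            · refine (Category.assoc _ _ _).trans ((congrArg (m ≫ ·) (pullback.lift_snd _ _ _)).trans ?_)
              exact pullback.lift_snd _ _ _
          exact (congrArg (fun k : pullback r.left (pullback.fst W'.hom j) ⟶ _ => k q) hm).trans hq
        · refine (NatTrans.naturality_apply (ClosedPointSupport.unitAt F (away I)).hom r.op s').symm.trans ?_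
          rw [hr, map_zero]
      · change ¬ ∀ (W : X.Etale) (g : W ⟶ W'), (∃ w', g.left w' = w) → F.obj.map g.op s' ≠ 0 at hwZ
        push Not at hwZ
        obtain ⟨V', r, hr, hr0⟩ := hwZ
        refine hw V' r hr ((NatTrans.naturality_apply (ClosedPointSupport.unitAt F (away I)).hom r.op s').symm.trans ?_)
        rw [hr0, map_zero]
    have ht : (EtCoh.stalk (sepPoint X y)).map (ClosedPointSupport.unitAt F (away I))
        (Φ.toPresheafFiber W' v' F.obj s') = 0 := by
      refine (Φ.toPresheafFiber_naturality_apply (ClosedPointSupport.unitAt F (away I)).hom _ _ _).trans ?_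
      rw [hs, map_zero]
    obtain ⟨k, hk⟩ := stalk_exact_kernel (ClosedPointSupport.unitAt F (away I)) (sepPoint X y) _ ht
    exact ⟨I, k, hk.trans (Φ.toPresheafFiber_w_apply g v' F.obj s)⟩
  · refine ⟨W, 𝟙 W, ?_⟩
    have : Mono ((cocone S F).ι.app W) := inferInstanceAs (Mono (kernel.ι _))
    rw [CategoryTheory.Functor.map_id, CategoryTheory.Functor.map_id]
    exact (AddCommGrpCat.mono_iff_injective ((EtCoh.stalk (sepPoint X y)).map ((cocone S F).ι.app W))).1
      inferInstance (hb.trans (map_zero _).symm)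

end Colimit

variable [IsNoetherian X]

/-- Points of height `< n`. -/
def low (n : ℕ) : Set X := {y | ∃ m : ℕ, Order.height y = (m : ℕ∞) ∧ m < n}

theorem low_down (n : ℕ) (y z : X) (hy : y ∈ low n) (h : y ⤳ z) : z ∈ low n := by
  obtain ⟨m, hm, hmn⟩ := hy
  obtain ⟨a, ha, ham⟩ := ENat.le_natCast_iff.1 ((Order.height_mono (Scheme.le_iff_specializes.2 h)).trans_eq hm)
  exact ⟨a, ha, by omega⟩

theorem eq_of_specializes_height {y z : X} (h : y ⤳ z) (n : ℕ) (hy : y ∈ low (n + 1))
    (hz : Order.height z = (n : ℕ∞)) : y = z := by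
  obtain ⟨m, hm, hmn⟩ := hy
  by_contra hne
  have hlt : z < y := lt_iff_le_not_ge.2
    ⟨Scheme.le_iff_specializes.2 h, fun h' => hne (h.antisymm (Scheme.le_iff_specializes.1 h')).eq⟩
  have h1 := Order.height_strictMono hlt (by rw [hz]; exact ENat.natCast_lt_top n)
  rw [hm, hz, Nat.cast_lt] at h1
  omega

theorem isIso_stalk_biproduct_π {ι : Type u} [Fintype ι] (P : ι → EtCoh.Ab X) {Ω : Type u} [Field Ω] [IsSepClosed Ω]
    (ζ : Spec (CommRingCat.of Ω) ⟶ X) (a : ι)
    (hP : ∀ b, b ≠ a → IsZero ((EtCoh.stalk ζ).obj (P b))) :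
    IsIso ((EtCoh.stalk ζ).map (biproduct.π P a)) := by
  classical
  let T := EtCoh.stalk ζ
  haveI : PreservesLimitsOfShape (Discrete WalkingPair) T := inferInstance
  haveI : T.Additive := Functor.additive_of_preserves_binary_products T
  have htot : ∑ b, biproduct.π P b ≫ biproduct.ι P b = 𝟙 (⨁ P) := by
    refine biproduct.hom_ext' _ _ fun j => ?_
    rw [Preadditive.comp_sum, Finset.sum_eq_single j (fun b _ h => by
      rw [biproduct.ι_π_ne_assoc _ (Ne.symm h), zero_comp]) (by simp), biproduct.ι_π_self_assoc, Category.comp_id]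
  refine ⟨T.map (biproduct.ι P a), ?_, by rw [← T.map_comp, biproduct.ι_π_self, CategoryTheory.Functor.map_id]⟩
  have h1 : T.map (∑ b, biproduct.π P b ≫ biproduct.ι P b) = T.map (𝟙 (⨁ P)) := by rw [htot]
  rw [Functor.map_sum, Finset.sum_eq_single a (fun b _ h => ?_) (by simp), Functor.map_comp,
    CategoryTheory.Functor.map_id] at h1
  · exact h1
  · rw [Functor.map_comp, (hP b h).eq_of_tgt (T.map (biproduct.π P b)) 0, zero_comp]

theorem isZero_stalk_biproduct {ι : Type u} [Fintype ι] (P : ι → EtCoh.Ab X) (y : X)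
    (hP : ∀ b, IsZero ((EtCoh.stalk (sepPoint X y)).obj (P b))) :
    IsZero ((EtCoh.stalk (sepPoint X y)).obj (⨁ P)) := by
  classical
  let T := EtCoh.stalk (sepPoint X y)
  haveI : PreservesLimitsOfShape (Discrete WalkingPair) T := inferInstance
  haveI : T.Additive := Functor.additive_of_preserves_binary_products T
  rw [IsZero.iff_id_eq_zero]
  have htot : ∑ b, biproduct.π P b ≫ biproduct.ι P b = 𝟙 (⨁ P) := by
    refine biproduct.hom_ext' _ _ fun j => ?_
    rw [Preadditive.comp_sum, Finset.sum_eq_single j (fun b _ h => by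
      rw [biproduct.ι_π_ne_assoc _ (Ne.symm h), zero_comp]) (by simp), biproduct.ι_π_self_assoc, Category.comp_id]
  refine (CategoryTheory.Functor.map_id T (⨁ P)).symm.trans ?_
  rw [← htot, Functor.map_sum]
  exact Finset.sum_eq_zero fun b _ => by
    rw [Functor.map_comp, (hP b).eq_of_tgt (T.map (biproduct.π P b)) 0, zero_comp]

theorem isZero_stalk_push_point (η y : X) (h : ¬ η ⤳ y) (G : EtCoh.Ab (Spec (X.residueField η)))
    {Ω : Type u} [Field Ω] [IsSepClosed Ω] (ζ : Spec (CommRingCat.of Ω) ⟶ X) (hζ : ζ default = y) :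
    IsZero ((EtCoh.stalk ζ).obj ((EtCoh.push (X.fromSpecResidueField η)).obj G)) := by
  let U : X.Opens := ⟨(closure {η})ᶜ, isClosed_closure.isOpen_compl⟩
  refine isZero_stalk_push_of_disjoint (X.fromSpecResidueField η) G _ U ?_ ?_
  · rw [hζ]
    exact fun h' => h (specializes_iff_mem_closure.2 h')
  · rw [Scheme.range_fromSpecResidueField, Set.disjoint_singleton_right]
    exact fun h' => h' (subset_closure rfl)

/-- The chosen geometric point at `η`, through the residue field. -/
def pt (η : X) :=
  sepPoint (Spec (X.residueField η)) default ≫ X.fromSpecResidueField η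

theorem pt_default (η : X) : pt η default = η :=
  (Scheme.Hom.comp_apply _ _ _).trans (Scheme.fromSpecResidueField_apply _ _)

theorem isIso_stalk_unit_point (η : X) (G : EtCoh.Ab X) :
    IsIso ((EtCoh.stalk (pt η)).map ((EtCoh.pullPushAdj (X.fromSpecResidueField η)).unit.app G)) := by
  let j := X.fromSpecResidueField η
  haveI := isIso_counit (CdCurve24.bcLiftsEtale_fromSpecResidueField (X := X) η)
  haveI : IsIso ((EtCoh.pull j).map ((EtCoh.pullPushAdj j).unit.app G)) := isIso_pull_map_unit_of_counit j G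
  let ξ := sepPoint (Spec (X.residueField η)) default
  have h : IsIso ((EtCoh.pull j ⋙ EtCoh.stalk ξ).map ((EtCoh.pullPushAdj j).unit.app G)) :=
    inferInstanceAs (IsIso ((EtCoh.stalk ξ).map ((EtCoh.pull j).map ((EtCoh.pullPushAdj j).unit.app G))))
  exact (NatIso.isIso_map_iff (stalkPullIso j ξ) _).1 h

theorem isAddTorsion_H_of_low : ∀ (n : ℕ) (F : EtCoh.Ab X), EtPBC.supp F ⊆ low n →
    ∀ i, n ≤ i → IsAddTorsion (EtCoh.H X F i) := by
  classical
  intro n
  induction n with
  | zero =>
    intro F hF i _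
    refine @GalEt.isAddTorsion_of_subsingleton _ _ (Sheaf.subsingleton_H_of_isZero
      (ClosedPointSupport.isZero_of_supp_empty (Set.eq_empty_of_subset_empty (hF.trans ?_))) i)
    rintro y ⟨m, -, hm⟩
    exact absurd hm (Nat.not_lt_zero m)
  | succ n ih =>
    intro F hF i hi
    obtain ⟨p, rfl⟩ : ∃ p, i = p + 1 := ⟨i - 1, by omega⟩
    suffices key : ∀ (G : EtCoh.Ab X) (W : Set X), IsClosed W → W ⊆ low (n + 1) → EtPBC.supp G ⊆ W →
        IsAddTorsion (EtCoh.H X G (p + 1)) by
      obtain ⟨hc⟩ := nonempty_isColimit (low (n + 1)) F (low_down (n + 1)) hF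
      have := EtCechLib.preservesColimitsOfShape_HF (X := X) (p + 1) (Idx (low (X := X) (n + 1)))
      intro z
      obtain ⟨W, b, hb⟩ := Concrete.isColimit_exists_rep _ (isColimitOfPreserves (EtCoh.HF X (p + 1)) hc)
        (show ((EtCoh.HF X (p + 1)).obj F : Type (u + 1)) from z)
      obtain ⟨m, hm, h0⟩ := isOfFinAddOrder_iff_nsmul_eq_zero.1
        (key _ _ W.down.1.isClosed W.down.2 (supp_diag_subset (low (n + 1)) F W)
          (show EtCoh.H X ((diag (low (n + 1)) F).obj W) (p + 1) from b))
      refine isOfFinAddOrder_iff_nsmul_eq_zero.2 ⟨m, hm, ?_⟩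
      show m • (show ((EtCoh.HF X (p + 1)).obj F : Type (u + 1)) from z) = 0
      rw [← hb]
      exact (map_nsmul _ m b).symm.trans (by rw [h0]; exact map_zero _)
    intro G W hW hWn hG
    obtain ⟨gen, hgenf, hgenW, hgen⟩ := exists_finite_generic hW
    let T : Set X := {y | y ∈ W ∧ Order.height y = (n : ℕ∞)}
    have hT : T.Finite := hgenf.subset fun y hy => by
      obtain ⟨g, hg, hgy⟩ := hgen y hy.1
      have hgW : g ∈ low (X := X) (n + 1) := hWn (hgenW hg)
      exact (eq_of_specializes_height hgy n hgW hy.2) ▸ hg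
    haveI : Fintype T := hT.fintype
    let j : ∀ η : T, Spec (X.residueField η.1) ⟶ X := fun η => X.fromSpecResidueField η.1
    let P : T → EtCoh.Ab X := fun η => (EtCoh.push (j η)).obj ((EtCoh.pull (j η)).obj G)
    let u : G ⟶ ⨁ P := biproduct.lift fun η => (EtCoh.pullPushAdj (j η)).unit.app G
    have hiso : ∀ η : T, IsIso ((EtCoh.stalk (pt η.1)).map u) := fun η => by
      haveI := isIso_stalk_biproduct_π P (pt η.1) η fun b hb => by
        refine isZero_stalk_push_point b.1 η.1 (fun h => hb (Subtype.ext ?_)) _ _ (pt_default η.1)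
        exact eq_of_specializes_height h n (hWn b.2.1) η.2.2
      haveI : IsIso ((EtCoh.stalk (pt η.1)).map u ≫ (EtCoh.stalk (pt η.1)).map (biproduct.π P η)) := by
        rw [← Functor.map_comp, biproduct.lift_π]
        exact isIso_stalk_unit_point η.1 G
      exact IsIso.of_isIso_comp_right _ ((EtCoh.stalk (pt η.1)).map (biproduct.π P η))
    have hlow : ∀ (M : EtCoh.Ab X), (∀ η : T, IsZero ((EtCoh.stalk (pt η.1)).obj M)) →
        (∀ y ∈ EtPBC.supp M, y ∈ low (X := X) (n + 1) ∧ (Order.height y = (n : ℕ∞) → y ∈ W)) →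
        EtPBC.supp M ⊆ low n := fun M hM hM' y hy => by
      obtain ⟨⟨m, hm, hmn⟩, hyW⟩ := hM' y hy
      by_cases h : m = n
      · subst h
        exact absurd (hM ⟨y, hyW hm, hm⟩) ((mem_supp_iff _ _ (pt_default y)).1 hy)
      · exact ⟨m, hm, by omega⟩
    have hK : EtPBC.supp (kernel u) ⊆ low n := hlow _
      (fun η => by
        haveI := hiso η
        exact IsZero.of_iso (isZero_kernel_of_mono _) (PreservesKernel.iso _ u))
      fun y hy => by
        have := hG (ClosedPointSupport.supp_mono (kernel.ι u) hy)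
        exact ⟨hWn this, fun _ => this⟩
    have hC : EtPBC.supp (cokernel u) ⊆ low n := hlow _
      (fun η => by
        haveI := hiso η
        exact IsZero.of_iso (isZero_cokernel_of_epi _) (PreservesCokernel.iso _ u))
      fun y hy => by
        have hy' : y ∈ EtPBC.supp (⨁ P) := by
          rw [mem_supp_iff _ (sepPoint X y) (sepPoint_default X y)] at hy ⊢
          exact fun h => hy (IsZero.of_epi ((EtCoh.stalk (sepPoint X y)).map (cokernel.π u)) h)
        obtain ⟨η, hη⟩ : ∃ η : T, η.1 ⤳ y := by
          by_contra hno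
          push Not at hno
          exact (mem_supp_iff _ (sepPoint X y) (sepPoint_default X y)).1 hy'
            (isZero_stalk_biproduct P y fun b => isZero_stalk_push_point b.1 y (hno b) _ _ (sepPoint_default X y))
        have hyW : y ∈ W := hη.mem_closed hW η.2.1
        exact ⟨hWn hyW, fun _ => hyW⟩
    have hP : IsAddTorsion (EtCoh.H X (⨁ P) (p + 1)) := GalEt.isAddTorsion_H_biproduct P (p + 1) fun η =>
      GalEt.isAddTorsion_H_push_field (K := X.residueField η.1) (j η) p _
    let ι' := Abelian.image.ι u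
    let π' := Abelian.factorThruImage u
    have hz : kernel.ι u ≫ π' = 0 := by
      rw [← cancel_mono ι', Category.assoc, Abelian.image.fac, kernel.condition, zero_comp]
    have hS₂ : (ShortComplex.mk ι' (cokernel.π u) (kernel.condition _)).ShortExact :=
      { exact := ShortComplex.exact_kernel _
        mono_f := inferInstanceAs (Mono (Abelian.image.ι u))
        epi_g := inferInstanceAs (Epi (cokernel.π u)) }
    let φ : ShortComplex.mk (kernel.ι u) π' hz ⟶ ShortComplex.mk (kernel.ι u) u (kernel.condition u) :=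
      { τ₁ := 𝟙 _
        τ₂ := 𝟙 _
        τ₃ := ι'
        comm₁₂ := (Category.id_comp _).trans (Category.comp_id _).symm
        comm₂₃ := (Category.id_comp _).trans (Abelian.image.fac u).symm }
    haveI : Epi φ.τ₁ := inferInstanceAs (Epi (𝟙 _))
    haveI : IsIso φ.τ₂ := inferInstanceAs (IsIso (𝟙 _))
    haveI : Mono φ.τ₃ := inferInstanceAs (Mono (Abelian.image.ι u))
    have hS₁ : (ShortComplex.mk (kernel.ι u) π' hz).ShortExact :=
      { exact := (ShortComplex.exact_iff_of_epi_of_isIso_of_mono φ).2 (ShortComplex.exact_kernel _)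
        mono_f := inferInstanceAs (Mono (kernel.ι u))
        epi_g := inferInstanceAs (Epi (Abelian.factorThruImage u)) }
    exact GalEt.isAddTorsion_of_shortExact hS₁ (ih _ hK (p + 1) (by omega))
      (GalEt.isAddTorsion_left hS₂ (ih _ hC p (by omega)) hP)

/-- Let X be a Noetherian scheme of dimension ≤ d and F an abelian étale sheaf whose sections are uniquely
divisible. Then H^i(X, F) = 0 for i > d. -/
theorem result (X : Scheme.{u}) [IsNoetherian X] (d : ℕ)
    (hd : topologicalKrullDim ↥X ≤ d) (F : EtCoh.Ab X)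
    (hF : ∀ (U : X.Etale) (m : ℕ), 0 < m → Function.Bijective (fun s : EtCoh.sect F U => m • s))
    (i : ℕ) (hi : d < i) : Subsingleton (EtCoh.H X F i) := by
  have hdiv : ∀ m : ℕ, 0 < m → IsIso (m • 𝟙 F) := fun m hm => by
    have h2 : ∀ (U : X.Etale) (k : ℕ) (s : EtCoh.sect F U), ((k • 𝟙 F).hom.app (op U)).hom s = k • s := fun U k s => by
      induction k with
      | zero => simp
      | succ k ih => rw [succ_nsmul, succ_nsmul, ← ih]; rfl
    haveI : ∀ U, IsIso ((m • 𝟙 F).hom.app U) := fun U => by
      refine (ConcreteCategory.isIso_iff_bijective _).2 ?_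
      have e : ⇑(AddCommGrpCat.Hom.hom ((m • 𝟙 F).hom.app U)) = fun s => m • s :=
        funext fun s => h2 U.unop m s
      exact e ▸ hF U.unop m hm
    haveI : IsIso (m • 𝟙 F).hom := NatIso.isIso_of_isIso_app _
    haveI : IsIso ((sheafToPresheaf _ _).map (m • 𝟙 F)) := ‹IsIso (m • 𝟙 F).hom›
    exact isIso_of_reflects_iso (m • 𝟙 F) (sheafToPresheaf _ _)
  refine GalEt.subsingleton_of_isAddTorsion F hdiv i (isAddTorsion_H_of_low (d + 1) F (fun y _ => ?_) i hi)
  have h : (Order.height y : WithBot ℕ∞) ≤ (d : ℕ∞) := by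
    rw [DimLib.topologicalKrullDim_eq_krullDim] at hd
    exact (Order.height_le_krullDim y).trans hd
  obtain ⟨a, ha, had⟩ := ENat.le_natCast_iff.1 (WithBot.coe_le_coe.1 h)
  exact ⟨a, ha, by omega⟩

end Groth.Agent.S19255
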