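import Groth.Statements.S0754
import Groth.Agent.HenselLib.LocalHens
import Groth.Agent.HenselLib.HullWEt
import Groth.Agent.SchMor12.WeaklyEtale
import Groth.Agent.VarietyLib.AffineNhd

set_option autoImplicit false
open CategoryTheory CategoryTheory.Limits AlgebraicGeometry Opposite
universe u
open ProEtS

namespace Groth.Agent.S0754

/-- For a point x of a scheme X and a strict henselization R of the local ring of X at x, the canonical
morphism Spec R -> X is weakly etale, so that Spec R is an object of the small pro-etale site of X. -/
theorem result (X : Scheme.{u}) (x : ↥X) (R : Type u) [CommRing R]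
    [IsLocalRing R] [Algebra (X.presheaf.stalk x) R] [IsLocalHom (algebraMap (X.presheaf.stalk x) R)]
    [Hensel.IsStrictHenselization (X.presheaf.stalk x) R] :
    WeaklyEtale (Hens2.specOf X x R) := by
  haveI := Groth.Agent.VarietyLib.flat_fromSpecStalk' x
  haveI : WeaklyEtale (X.fromSpecStalk x) := ⟨inferInstance, inferInstance⟩
  obtain ⟨e⟩ := Groth.Agent.HenselLib.exists_equiv_localSH (R := X.presheaf.stalk x) R
  haveI : Algebra.WeaklyEtale (X.presheaf.stalk x) R := Groth.Agent.HenselLib.weaklyEtale_of_equiv e
  haveI := (Groth.Agent.SchMor12.weaklyEtale_SpecMap_iff (X.presheaf.stalk x) R).2 inferInstance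
  exact (inferInstance : WeaklyEtale (Spec.map (CommRingCat.ofHom (algebraMap (X.presheaf.stalk x) R)) ≫ X.fromSpecStalk x))

end Groth.Agent.S0754
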