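import Groth.Statements.S0642
import Groth.Agent.Et18.IntegralPush
-- import your own Groth.Agent.* helpers here

set_option autoImplicit false
open CategoryTheory CategoryTheory.Limits AlgebraicGeometry Opposite
universe u
open EtCore

namespace Groth.Agent.S0642

/-- Let X_0 -> X be integral, universally injective and surjective (a universal homeomorphism). Then for
every abelian sheaf F on the small etale site of X and every q the pullback map from H^q(X, F) to
H^q(X_0, F|_{X_0}) is bijective. (Exactness of pullback of abelian sheaves, which always holds, is
carried as an instance hypothesis.) -/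
theorem result {X₀ X : Scheme.{u}} (i : X₀ ⟶ X) [IsIntegralHom i]
    [UniversallyInjective i] [Surjective i] [PreservesFiniteLimits (EtCoh.pull i)] (F : EtCoh.Ab X) (q : ℕ) :
    Function.Bijective (EtCore.Hpull i F q) := by
  have := Groth.Agent.Et18.pull_isEquivalence_of_universalHomeomorph i
  have hb := (EtCoh.pull i).mapExt_bijective_of_preservesInjectiveObjects
    (EtCoh.const X ℤ) F q
  change Function.Bijective ((fun e => (Abelian.Ext.mk₀ (EtCore.pullConst i ℤ).inv).comp e (zero_add q)) ∘
    (EtCoh.pull i).mapExtAddHom (EtCoh.const X ℤ) F q)
  refine Function.Bijective.comp ?_ hb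
  refine Function.bijective_iff_has_inverse.mpr
    ⟨fun e => (Abelian.Ext.mk₀ (EtCore.pullConst i ℤ).hom).comp e (zero_add q), fun e => ?_, fun e => ?_⟩
  · simp
  · simp

end Groth.Agent.S0642
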