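import Groth.Statements.S18247
import Mathlib

set_option autoImplicit false
universe u
open W4c5m1nsnscurves
open Curves

namespace Groth.Agent.S18247

/-- Case n = 5: the coordinate ring of U_5 over ℤ (m = 2 indices, standing for the points 4 and 5;
generators a, c, c̄, c_4, c̄_4, c_5, c̄_5, c_{45}, c_{54} with the linear and the two quadratic
relations for the one pair of indices, and no triple) is the polynomial ring on a, c_4, c̄_4, c_5,
c̄_5, c_{45}: the ℤ-algebra map from the polynomial ring in six variables sending the variables to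
these six classes, in this order, is bijective. -/
theorem result :
    Function.Bijective (MvPolynomial.aeval (R := ℤ) (S₁ := URing ℤ 2)
      ![ugen ℤ 2 .a, ugen ℤ 2 (.ci 0), ugen ℤ 2 (.cbi 0), ugen ℤ 2 (.ci 1), ugen ℤ 2 (.cbi 1),
        ugen ℤ 2 (.cij 0 1 Fin.zero_ne_one)]) := by
  classical
  let v : Fin 6 → URing ℤ 2 := ![ugen ℤ 2 .a, ugen ℤ 2 (.ci 0), ugen ℤ 2 (.cbi 0), ugen ℤ 2 (.ci 1), ugen ℤ 2 (.cbi 1),
        ugen ℤ 2 (.cij 0 1 Fin.zero_ne_one)]
  let P := MvPolynomial (Fin 6) ℤ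
  let Y : Fin 6 → P := MvPolynomial.X
  let c10 : P := Y 0 + Y 1 + Y 2 + Y 3 + Y 4 - Y 5
  let w : UGen 2 → P := fun g => match g with
    | .a => Y 0
    | .c => c10 * Y 3 + Y 5 * Y 1 - Y 1 * Y 3
    | .cb => c10 * Y 2 + Y 5 * Y 4 - Y 2 * Y 4
    | .ci i => ![Y 1, Y 3] i
    | .cbi i => ![Y 2, Y 4] i
    | .cij i _ _ => ![Y 5, c10] i
  have hrel : ∀ p ∈ URel ℤ 2, MvPolynomial.aeval w p = 0 := by
    intro p hp
    simp only [URel, Set.mem_union, Set.mem_range] at hp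
    rcases hp with ((⟨⟨⟨i, j⟩, h⟩, rfl⟩ | ⟨⟨⟨i, j⟩, h⟩, rfl⟩) | ⟨⟨⟨i, j⟩, h⟩, rfl⟩) | ⟨⟨⟨i, j, l⟩, h⟩, rfl⟩
    · simp only [map_sub, map_add, map_mul, MvPolynomial.aeval_X, w]
      fin_cases i <;> fin_cases j <;> first | exact absurd rfl h | (simp [c10] <;> ring)
    · simp only [map_sub, map_add, map_mul, MvPolynomial.aeval_X, w]
      fin_cases i <;> fin_cases j <;> first | exact absurd rfl h | (simp [c10] <;> ring)
    · simp only [map_sub, map_add, map_mul, MvPolynomial.aeval_X, w]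
      fin_cases i <;> fin_cases j <;> first | exact absurd rfl h | (simp [c10] <;> ring)
    · exfalso
      rcases h with ⟨h1, h2, h3⟩
      fin_cases i <;> fin_cases j <;> fin_cases l <;> simp at h1 h2 h3
  let ψ : URing ℤ 2 →ₐ[ℤ] P := Ideal.Quotient.liftₐ _ (MvPolynomial.aeval w) (fun p hp =>
    (Ideal.span_le.mpr (fun q hq => RingHom.mem_ker.mpr (hrel q hq)) : Ideal.span (URel ℤ 2) ≤
      RingHom.ker (MvPolynomial.aeval w)) hp)
  have hψ : ∀ g, ψ (ugen ℤ 2 g) = w g := fun g => MvPolynomial.aeval_X w g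
  have h1 : ψ.comp (MvPolynomial.aeval v) = AlgHom.id ℤ P := by
    refine MvPolynomial.algHom_ext fun i => ?_
    fin_cases i <;> simp [v, hψ, w, Y] <;> rfl
  have hz : ∀ p ∈ URel ℤ 2, Ideal.Quotient.mk (Ideal.span (URel ℤ 2)) p = 0 := fun p hp =>
    Ideal.Quotient.eq_zero_iff_mem.mpr (Ideal.subset_span hp)
  have e10 : ugen ℤ 2 (.cij 1 0 Fin.zero_ne_one.symm) = ugen ℤ 2 .a + ugen ℤ 2 (.ci 0) +
      ugen ℤ 2 (.cbi 0) + ugen ℤ 2 (.ci 1) + ugen ℤ 2 (.cbi 1) - ugen ℤ 2 (.cij 0 1 Fin.zero_ne_one) := by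
    have := hz _ (Or.inl (Or.inl (Or.inl ⟨⟨(0, 1), Fin.zero_ne_one⟩, rfl⟩)))
    simp only [map_sub, map_add] at this
    simp only [ugen]
    linear_combination this
  have ec : ugen ℤ 2 .c = ugen ℤ 2 (.cij 1 0 Fin.zero_ne_one.symm) * ugen ℤ 2 (.ci 1) +
      ugen ℤ 2 (.cij 0 1 Fin.zero_ne_one) * ugen ℤ 2 (.ci 0) - ugen ℤ 2 (.ci 0) * ugen ℤ 2 (.ci 1) := by
    have := hz _ (Or.inl (Or.inl (Or.inr ⟨⟨(0, 1), Fin.zero_ne_one⟩, rfl⟩)))
    simp only [map_sub, map_add, map_mul] at this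
    simp only [ugen]
    linear_combination -this
  have ecb : ugen ℤ 2 .cb = ugen ℤ 2 (.cij 1 0 Fin.zero_ne_one.symm) * ugen ℤ 2 (.cbi 0) +
      ugen ℤ 2 (.cij 0 1 Fin.zero_ne_one) * ugen ℤ 2 (.cbi 1) - ugen ℤ 2 (.cbi 0) * ugen ℤ 2 (.cbi 1) := by
    have := hz _ (Or.inl (Or.inr ⟨⟨(0, 1), Fin.zero_ne_one⟩, rfl⟩))
    simp only [map_sub, map_add, map_mul] at this
    simp only [ugen]
    linear_combination -this
  have h2 : (MvPolynomial.aeval v).comp ψ = AlgHom.id ℤ (URing ℤ 2) := by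
    refine Ideal.Quotient.algHom_ext _ (MvPolynomial.algHom_ext fun g => ?_)
    show MvPolynomial.aeval v (ψ (ugen ℤ 2 g)) = ugen ℤ 2 g
    rw [hψ]
    cases g with
    | a => simp [w, Y, v]
    | c => rw [ec, e10]; simp [w, Y, v, c10]
    | cb => rw [ecb, e10]; simp [w, Y, v, c10]
    | ci i => fin_cases i <;> simp [w, Y, v]
    | cbi i => fin_cases i <;> simp [w, Y, v]
    | cij i j h =>
      fin_cases i <;> fin_cases j
      · exact absurd rfl h
      · simp [w, Y, v]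
      · show _ = ugen ℤ 2 (.cij 1 0 Fin.zero_ne_one.symm)
        rw [e10]; simp [w, Y, v, c10]
      · exact absurd rfl h
  exact Function.bijective_iff_has_inverse.mpr ⟨ψ, fun x => AlgHom.congr_fun h1 x, fun x => AlgHom.congr_fun h2 x⟩

end Groth.Agent.S18247
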