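import Groth.Statements.S5273
import Groth.Agent.S5272
import Groth.Agent.S1488
import Groth.Agent.SGA3cLib.BCPoints

set_option autoImplicit false
open CategoryTheory MonoidalCategory CartesianMonoidalCategory MonObj GrpObj AlgebraicGeometry
universe u
open SGA3x

namespace Groth.Agent.S5273

open Groth.Agent.SGA3cLib in
theorem step {R : Type u} [CommRing R] (J : Ideal R) (hJ : J ^ 2 = ⊥)
    (H G : Over (Spec (CommRingCat.of R))) [GrpObj H] [GrpObj G]
    (hH : TwC.Locally (Spec (CommRingCat.of R)) TwC.Topology.fpqc (fun S' f => ∃ (M : Type) (_ : AddCommGroup M), Nonempty (Grp.mk (Red.bc f H) ≅ Grp.mk (Red.DS S' M))))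
    (hG : Smooth G.hom) (u v : H ⟶ G) [IsMonHom u] [IsMonHom v]
    (g₀ : (Over.mk (Spec.map (CommRingCat.ofHom (Ideal.Quotient.mk J))) : Over (Spec (CommRingCat.of R))) ⟶ G)
    (h0 : ∀ (X : Over (Spec (CommRingCat.of R))) (p : X ⟶ (Over.mk (Spec.map (CommRingCat.ofHom (Ideal.Quotient.mk J))) : Over (Spec (CommRingCat.of R)))) (h : X ⟶ H), h ≫ v = (p ≫ g₀) * (h ≫ u) * (p ≫ g₀)⁻¹) :
    ∃ g : 𝟙_ (Over (Spec (CommRingCat.of R))) ⟶ G, toUnit (Over.mk (Spec.map (CommRingCat.ofHom (Ideal.Quotient.mk J))) : Over (Spec (CommRingCat.of R))) ≫ g = g₀ ∧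
      ∀ (X : Over (Spec (CommRingCat.of R))) (h : X ⟶ H), h ≫ v = (toUnit X ≫ g) * (h ≫ u) * (toUnit X ≫ g)⁻¹ := by
  obtain ⟨l, hl₁, hl₂⟩ := ((S1488.result G.hom).1 hG).2 R J hJ g₀.left (𝟙 _)
    ((Category.comp_id _).trans (Over.w g₀).symm)
  let g' : 𝟙_ (Over (Spec (CommRingCat.of R))) ⟶ G := Over.homMk l hl₂
  have hg' : toUnit (Over.mk (Spec.map (CommRingCat.ofHom (Ideal.Quotient.mk J))) : Over (Spec (CommRingCat.of R))) ≫ g' = g₀ := by
    apply Over.OverMorphism.ext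
    exact hl₁
  let u' : H ⟶ G := (toUnit H ≫ g') * u * (toUnit H ≫ g')⁻¹
  have hu' : ∀ {X : Over (Spec (CommRingCat.of R))} (h : X ⟶ H), h ≫ u' = (toUnit X ≫ g') * (h ≫ u) * (toUnit X ≫ g')⁻¹ := by
    intro X h
    simp [u', MonObj.comp_mul, GrpObj.comp_inv]
  haveI : IsMonHom u' := BCPoints.isMonHom_of_mul u' fun X x y => by
    rw [hu', hu', hu', MonObj.mul_comp]
    group
  obtain ⟨g₂, hg₂, hconj⟩ := S5272.result J hJ H G hH u' v fun X p h => by
    rw [hu', h0 X p h, show p ≫ g₀ = toUnit X ≫ g' by rw [← hg', comp_toUnit_assoc]]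
  refine ⟨g₂ * g', ?_, fun X h => ?_⟩
  · rw [MonObj.comp_mul, hg₂, hg', _root_.one_mul]
  · rw [hconj X h, hu', MonObj.comp_mul]
    group

open Groth.Agent.SGA3cLib in
theorem general (k : ℕ) : ∀ {R : Type u} [CommRing R] (J : Ideal R) (_ : J ^ 2 ^ k = ⊥)
    (H G : Over (Spec (CommRingCat.of R))) [GrpObj H] [GrpObj G]
    (_ : TwC.Locally (Spec (CommRingCat.of R)) TwC.Topology.fpqc (fun S' f => ∃ (M : Type) (_ : AddCommGroup M), Nonempty (Grp.mk (Red.bc f H) ≅ Grp.mk (Red.DS S' M))))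
    (_ : Smooth G.hom) (u v : H ⟶ G) [IsMonHom u] [IsMonHom v]
    (g₀ : (Over.mk (Spec.map (CommRingCat.ofHom (Ideal.Quotient.mk J))) : Over (Spec (CommRingCat.of R))) ⟶ G)
    (_ : ∀ (X : Over (Spec (CommRingCat.of R))) (p : X ⟶ (Over.mk (Spec.map (CommRingCat.ofHom (Ideal.Quotient.mk J))) : Over (Spec (CommRingCat.of R)))) (h : X ⟶ H), h ≫ v = (p ≫ g₀) * (h ≫ u) * (p ≫ g₀)⁻¹),
    ∃ g : 𝟙_ (Over (Spec (CommRingCat.of R))) ⟶ G, toUnit (Over.mk (Spec.map (CommRingCat.ofHom (Ideal.Quotient.mk J))) : Over (Spec (CommRingCat.of R))) ≫ g = g₀ ∧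
      ∀ (X : Over (Spec (CommRingCat.of R))) (h : X ⟶ H), h ≫ v = (toUnit X ≫ g) * (h ≫ u) * (toUnit X ≫ g)⁻¹ := by
  induction k with
  | zero =>
    intro R _ J hJ H G _ _ hH hG u v _ _ g₀ h0
    exact step J (by rw [pow_zero, pow_one] at hJ; rw [hJ, ← Ideal.zero_eq_bot, zero_pow two_ne_zero]) H G hH hG u v g₀ h0
  | succ k ih =>
    intro R _ J hJ H G _ _ hH hG u v _ _ g₀ h0
    let K : Ideal R := J ^ 2
    have hKJ : K ≤ J := Ideal.pow_le_self two_ne_zero
    have hK : K ^ 2 ^ k = ⊥ := by rw [← pow_mul, ← pow_succ']; exact hJ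
    let mkK : R →+* R ⧸ K := Ideal.Quotient.mk K
    let f : Spec (CommRingCat.of (R ⧸ K)) ⟶ Spec (CommRingCat.of R) := Spec.map (CommRingCat.ofHom mkK)
    let J' : Ideal (R ⧸ K) := J.map mkK
    have hJ' : J' ^ 2 = ⊥ := by rw [← Ideal.map_pow]; exact Ideal.map_quotient_self _
    let α : R ⧸ J →+* (R ⧸ K) ⧸ J' := Ideal.Quotient.lift J ((Ideal.Quotient.mk J').comp mkK) fun r hr => by
      rw [RingHom.comp_apply, Ideal.Quotient.eq_zero_iff_mem]; exact Ideal.mem_map_of_mem _ hr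
    let β : (R ⧸ K) ⧸ J' →+* R ⧸ J := Ideal.Quotient.lift J' (Ideal.Quotient.factor hKJ) fun x hx => by
      have h1 : J'.map (Ideal.Quotient.factor hKJ) ≤ ⊥ := by
        rw [Ideal.map_map, show (Ideal.Quotient.factor hKJ).comp mkK = Ideal.Quotient.mk J from Ideal.Quotient.factor_comp_mk hKJ,
          Ideal.map_quotient_self]
      exact h1 (Ideal.mem_map_of_mem _ hx)
    have hα : CommRingCat.ofHom (Ideal.Quotient.mk J) ≫ CommRingCat.ofHom α = CommRingCat.ofHom mkK ≫ CommRingCat.ofHom (Ideal.Quotient.mk J') :=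
      CommRingCat.hom_ext (Ideal.Quotient.lift_comp_mk _ _ _)
    have hβ : CommRingCat.ofHom (Ideal.Quotient.mk J') ≫ CommRingCat.ofHom β = CommRingCat.ofHom (Ideal.Quotient.factor hKJ) :=
      CommRingCat.hom_ext (Ideal.Quotient.lift_comp_mk _ _ _)
    have hKfac : CommRingCat.ofHom mkK ≫ CommRingCat.ofHom (Ideal.Quotient.factor hKJ) = CommRingCat.ofHom (Ideal.Quotient.mk J) :=
      CommRingCat.hom_ext (Ideal.Quotient.factor_comp_mk hKJ)
    have hαβ : CommRingCat.ofHom α ≫ CommRingCat.ofHom β = 𝟙 _ := by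
      refine CommRingCat.hom_ext (Ideal.Quotient.ringHom_ext ?_)
      exact RingHom.ext fun r => rfl
    let PJ : Over (Spec (CommRingCat.of R)) := Over.mk (Spec.map (CommRingCat.ofHom (Ideal.Quotient.mk J)))
    let PK : Over (Spec (CommRingCat.of R)) := Over.mk f
    let PJ' : Over (Spec (CommRingCat.of (R ⧸ K))) := Over.mk (Spec.map (CommRingCat.ofHom (Ideal.Quotient.mk J')))
    let a : (Over.map f).obj PJ' ⟶ PJ := Over.homMk (Spec.map (CommRingCat.ofHom α)) (by
      show Spec.map _ ≫ Spec.map _ = Spec.map _ ≫ Spec.map _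
      rw [← Spec.map_comp, ← Spec.map_comp, hα])
    let b : PJ ⟶ (Over.map f).obj PJ' := Over.homMk (Spec.map (CommRingCat.ofHom β)) (by
      show Spec.map _ ≫ Spec.map _ ≫ Spec.map _ = Spec.map _
      rw [← Category.assoc, ← Spec.map_comp, hβ, ← Spec.map_comp, hKfac])
    let q : PJ ⟶ PK := Over.homMk (Spec.map (CommRingCat.ofHom (Ideal.Quotient.factor hKJ))) (by
      show Spec.map _ ≫ Spec.map _ = Spec.map _
      rw [← Spec.map_comp, hKfac])
    let c : PK ⟶ (Over.map f).obj (𝟙_ (Over (Spec (CommRingCat.of (R ⧸ K))))) := Over.homMk (𝟙 _) (by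
      show 𝟙 _ ≫ 𝟙 _ ≫ f = f
      rw [Category.id_comp, Category.id_comp])
    haveI : Smooth G.hom := hG
    have hG' : Smooth (Red.bc f G).hom := inferInstanceAs (Smooth (Limits.pullback.snd G.hom f))
    let u' : Red.bc f H ⟶ Red.bc f G := (Over.pullback f).map u
    let v' : Red.bc f H ⟶ Red.bc f G := (Over.pullback f).map v
    haveI : IsMonHom u' := inferInstanceAs (IsMonHom ((Over.pullback f).map u))
    haveI : IsMonHom v' := inferInstanceAs (IsMonHom ((Over.pullback f).map v))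
    obtain ⟨g', hg', hconj'⟩ := step J' hJ' (Red.bc f H) (Red.bc f G) (BCPoints.locally_bc f H hH) hG' u' v'
      (BCPoints.pt f G PJ' (a ≫ g₀)) fun X' p' h' => by
        obtain ⟨h, rfl⟩ := (BCPoints.pt f H X').surjective h'
        rw [← BCPoints.pt_comp, ← BCPoints.pt_comp, ← BCPoints.pt_map_comp, ← BCPoints.pt_mul, ← BCPoints.pt_inv,
          ← BCPoints.pt_mul, h0 _ ((Over.map f).map p' ≫ a) h, Category.assoc]
    obtain ⟨g₁, rfl⟩ := (BCPoints.pt f G _).surjective g'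
    rw [← BCPoints.pt_map_comp] at hg'
    replace hg' := (BCPoints.pt f G PJ').injective hg'
    have key : ∀ (X' : Over (Spec (CommRingCat.of (R ⧸ K)))) (h : (Over.map f).obj X' ⟶ H),
        h ≫ v = ((Over.map f).map (toUnit X') ≫ g₁) * (h ≫ u) * ((Over.map f).map (toUnit X') ≫ g₁)⁻¹ := fun X' h => by
      apply (BCPoints.pt f G X').injective
      rw [BCPoints.pt_mul, BCPoints.pt_mul, BCPoints.pt_inv, BCPoints.pt_map_comp, BCPoints.pt_comp, BCPoints.pt_comp]
      exact hconj' X' _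
    obtain ⟨g, hg, hconj⟩ := ih K hK H G hH hG u v (c ≫ g₁) fun X p h => by
      let κ : X ⟶ (Over.map f).obj (Over.mk p.left) := Over.homMk (𝟙 _) ((Category.id_comp _).trans (Over.w p))
      let κ' : (Over.map f).obj (Over.mk p.left) ⟶ X := Over.homMk (𝟙 _) ((Category.id_comp _).trans (Over.w p).symm)
      have hκ : κ ≫ κ' = 𝟙 X := Over.OverMorphism.ext (Category.id_comp _)
      have hp : κ ≫ (Over.map f).map (toUnit (Over.mk p.left)) = p ≫ c := by
        apply Over.OverMorphism.ext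
        show 𝟙 _ ≫ p.left = p.left ≫ 𝟙 _
        rw [Category.id_comp, Category.comp_id]
      have := congrArg (κ ≫ ·) (key _ (κ' ≫ h))
      simp only [MonObj.comp_mul, GrpObj.comp_inv, ← Category.assoc, hκ, hp, Category.id_comp] at this
      simpa only [Category.assoc] using this
    refine ⟨g, ?_, hconj⟩
    have hq : b ≫ (Over.map f).map (toUnit PJ') = q ≫ c := by
      apply Over.OverMorphism.ext
      show Spec.map _ ≫ Spec.map _ = Spec.map _ ≫ 𝟙 _
      rw [Category.comp_id, ← Spec.map_comp, hβ]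
    have hab : b ≫ a = 𝟙 PJ := by
      apply Over.OverMorphism.ext
      show Spec.map _ ≫ Spec.map _ = 𝟙 _
      rw [← Spec.map_comp, hαβ, Spec.map_id]
    show toUnit PJ ≫ g = g₀
    rw [← comp_toUnit q, Category.assoc, hg, ← Category.assoc, ← hq, Category.assoc, hg', reassoc_of% hab]

/-- Let S = Spec R be affine, J a nilpotent ideal of R and S₀ = Spec (R/J); let H be an S-group of
multiplicative type (fpqc-locally on S isomorphic, as a group, to diagonalisable groups D(M), M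
allowed to vary and taken in Type 0), G an S-group which is smooth over S, u, v : H ⟶ G two
homomorphisms, and g₀ an S₀-valued point of G such that v = int(g₀) ∘ u over S₀ (v(h) = g₀ u(h) g₀⁻¹
for every point h of H defined over an S₀-scheme). Then g₀ lifts to an S-point g of G with v =
int(g) ∘ u. -/
theorem result {R : Type u} [CommRing R] (J : Ideal R) (hJ : IsNilpotent J)
    (H G : Over (Spec (CommRingCat.of R))) [GrpObj H] [GrpObj G]
    (hH : TwC.Locally (Spec (CommRingCat.of R)) TwC.Topology.fpqc (fun S' f => ∃ (M : Type) (_ : AddCommGroup M), Nonempty (Grp.mk (Red.bc f H) ≅ Grp.mk (Red.DS S' M))))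
    (hG : Smooth G.hom) (u v : H ⟶ G) [IsMonHom u] [IsMonHom v]
    (g₀ : (Over.mk (Spec.map (CommRingCat.ofHom (Ideal.Quotient.mk J))) : Over (Spec (CommRingCat.of R))) ⟶ G)
    (h0 : ∀ (X : Over (Spec (CommRingCat.of R))) (p : X ⟶ (Over.mk (Spec.map (CommRingCat.ofHom (Ideal.Quotient.mk J))) : Over (Spec (CommRingCat.of R)))) (h : X ⟶ H), h ≫ v = (p ≫ g₀) * (h ≫ u) * (p ≫ g₀)⁻¹) :
    ∃ g : 𝟙_ (Over (Spec (CommRingCat.of R))) ⟶ G, toUnit (Over.mk (Spec.map (CommRingCat.ofHom (Ideal.Quotient.mk J))) : Over (Spec (CommRingCat.of R))) ≫ g = g₀ ∧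
      ∀ (X : Over (Spec (CommRingCat.of R))) (h : X ⟶ H), h ≫ v = (toUnit X ≫ g) * (h ≫ u) * (toUnit X ≫ g)⁻¹ := by
  obtain ⟨n, hn⟩ := hJ
  refine general n J (bot_unique ?_) H G hH hG u v g₀ h0
  exact (Ideal.pow_le_pow_right Nat.lt_two_pow_self.le).trans hn.le

end Groth.Agent.S5273
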