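import Groth.Statements.S7016
import Mathlib.Algebra.Homology.Monoidal
import Mathlib.RingTheory.Finiteness.Projective

set_option autoImplicit false
set_option backward.isDefEq.respectTransparency false
set_option backward.defeqAttrib.useBackward true
universe u
open CategoryTheory CategoryTheory.Limits
attribute [local instance] HasDerivedCategory.standard
open DRing

namespace Groth.Agent.S7016

open MonoidalCategory HomologicalComplex TensorProduct

variable {R : Type u} [CommRing R]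

lemma mem_span_range (K L : DRing.Cx R) (j : ℤ) (z : ((HomologicalComplex.tensorObj K L).X j : ModuleCat.{u} R)) :
    z ∈ Submodule.span R {w | ∃ (p q : ℤ) (h : p + q = j) (a : K.X p) (b : L.X q),
      (ιTensorObj K L p q j h).hom (a ⊗ₜ[R] b) = w} := by
  let W : Submodule R ((HomologicalComplex.tensorObj K L).X j) := Submodule.span R {w | ∃ (p q : ℤ) (h : p + q = j) (a : K.X p) (b : L.X q),
      (ιTensorObj K L p q j h).hom (a ⊗ₜ[R] b) = w}
  have h0 : (ModuleCat.ofHom W.mkQ : (HomologicalComplex.tensorObj K L).X j ⟶ ModuleCat.of R _) = 0 := by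
    refine mapBifunctor.hom_ext (fun p q h => ModuleCat.hom_ext (TensorProduct.ext' fun a b => ?_))
    exact (Submodule.Quotient.mk_eq_zero W).2 (Submodule.subset_span ⟨p, q, h, a, b, rfl⟩)
  exact (Submodule.Quotient.mk_eq_zero W).1 (congr($h0 z))

lemma exists_sum (K L : DRing.Cx R) (j : ℤ) (z : ((HomologicalComplex.tensorObj K L).X j : ModuleCat.{u} R)) :
    ∃ (n : ℕ) (c : Fin n → R) (p q : Fin n → ℤ) (h : ∀ k, p k + q k = j) (a : ∀ k, K.X (p k)) (b : ∀ k, L.X (q k)),
      z = ∑ k, c k • (ιTensorObj K L (p k) (q k) j (h k)).hom (a k ⊗ₜ[R] b k) := by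
  obtain ⟨n, c, g, hg⟩ := (Submodule.mem_span_set' (R := R)).1 (mem_span_range K L j z)
  choose p q h a b hab using fun k => (g k).2
  exact ⟨n, c, p, q, h, a, b, by rw [← hg]; exact Finset.sum_congr rfl fun k _ => by rw [hab]⟩

/-- The basis element of the unit complex. -/
noncomputable def e₀ (R : Type u) [CommRing R] : ((𝟙_ (DRing.Cx R)).X 0 : ModuleCat.{u} R) :=
  (singleObjXSelf (ComplexShape.up ℤ) 0 (𝟙_ (ModuleCat.{u} R))).inv.hom (1 : R)

lemma leftUnitor_inv_apply (M : DRing.Cx R) (i : ℤ) (x : M.X i) :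
    ((λ_ M).inv.f i).hom x = (ιTensorObj (𝟙_ (DRing.Cx R)) M 0 i i (zero_add i)).hom (e₀ R ⊗ₜ[R] x) := by
  show ((leftUnitor' M).inv i).hom x = _
  rw [leftUnitor'_inv]
  rfl

lemma rightUnitor_inv_apply (M : DRing.Cx R) (i : ℤ) (x : M.X i) :
    ((ρ_ M).inv.f i).hom x = (ιTensorObj M (𝟙_ (DRing.Cx R)) i 0 i (add_zero i)).hom (x ⊗ₜ[R] e₀ R) := by
  show ((rightUnitor' M).inv i).hom x = _
  rw [rightUnitor'_inv]
  rfl

lemma whiskerRight_apply {K K' : DRing.Cx R} (f : K ⟶ K') (L : DRing.Cx R) (p q j : ℤ) (h : p + q = j)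
    (a : K.X p) (b : L.X q) :
    ((f ▷ L).f j).hom ((ιTensorObj K L p q j h).hom (a ⊗ₜ[R] b)) =
      (ιTensorObj K' L p q j h).hom ((f.f p).hom a ⊗ₜ[R] b) := by
  have e := ι_mapBifunctorMap f (𝟙 L) (curriedTensor (ModuleCat.{u} R)) (ComplexShape.up ℤ) p q j h
  exact congr($(e) (a ⊗ₜ[R] b))

lemma whiskerLeft_apply (K : DRing.Cx R) {L L' : DRing.Cx R} (f : L ⟶ L') (p q j : ℤ) (h : p + q = j)
    (a : K.X p) (b : L.X q) :
    ((K ◁ f).f j).hom ((ιTensorObj K L p q j h).hom (a ⊗ₜ[R] b)) =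
      (ιTensorObj K L' p q j h).hom (a ⊗ₜ[R] (f.f q).hom b) := by
  have e := ι_mapBifunctorMap (𝟙 K) f (curriedTensor (ModuleCat.{u} R)) (ComplexShape.up ℤ) p q j h
  exact congr($(e) (a ⊗ₜ[R] b))

lemma associator_hom_apply (K L P : DRing.Cx R) (p q r pq qr j : ℤ) (h₁ : p + q = pq) (h₂ : q + r = qr)
    (hj : pq + r = j) (hj' : p + qr = j) (a : K.X p) (b : L.X q) (c : P.X r) :
    ((α_ K L P).hom.f j).hom ((ιTensorObj (HomologicalComplex.tensorObj K L) P pq r j hj).hom
        ((ιTensorObj K L p q pq h₁).hom (a ⊗ₜ[R] b) ⊗ₜ[R] c)) =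
      (ιTensorObj K (HomologicalComplex.tensorObj L P) p qr j hj').hom
        (a ⊗ₜ[R] (ιTensorObj L P q r qr h₂).hom (b ⊗ₜ[R] c)) := by
  have e := ι_mapBifunctorAssociatorX_hom (associator := curriedAssociatorNatIso (ModuleCat.{u} R))
    (K₁ := K) (K₂ := L) (K₃ := P) (c₁₂ := ComplexShape.up ℤ) (c₂₃ := ComplexShape.up ℤ) (c₄ := ComplexShape.up ℤ)
    p q r j (by show p + q + r = j; omega)
  rw [mapBifunctor₁₂.ι_eq _ _ _ _ _ _ _ p q r pq j h₁ hj,
    mapBifunctor₂₃.ι_eq _ _ _ _ _ _ _ _ p q r qr j h₂ hj'] at e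
  exact congr($(e) ((a ⊗ₜ[R] b) ⊗ₜ[R] c))

lemma associator_inv_apply (K L P : DRing.Cx R) (p q r pq qr j : ℤ) (h₁ : p + q = pq) (h₂ : q + r = qr)
    (hj : pq + r = j) (hj' : p + qr = j) (a : K.X p) (b : L.X q) (c : P.X r) :
    ((α_ K L P).inv.f j).hom ((ιTensorObj K (HomologicalComplex.tensorObj L P) p qr j hj').hom
        (a ⊗ₜ[R] (ιTensorObj L P q r qr h₂).hom (b ⊗ₜ[R] c))) =
      (ιTensorObj (HomologicalComplex.tensorObj K L) P pq r j hj).hom ((ιTensorObj K L p q pq h₁).hom (a ⊗ₜ[R] b) ⊗ₜ[R] c) := by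
  rw [← associator_hom_apply K L P p q r pq qr j h₁ h₂ hj hj']
  exact congr($(congrFun (congrArg HomologicalComplex.Hom.f (α_ K L P).hom_inv_id) j)
    ((ιTensorObj (HomologicalComplex.tensorObj K L) P pq r j hj).hom ((ιTensorObj K L p q pq h₁).hom (a ⊗ₜ[R] b) ⊗ₜ[R] c)))

/-- Evaluation at a pair of degrees as a scalar. -/
noncomputable def sc (v : ((𝟙_ (DRing.Cx R)).X 0 : ModuleCat.{u} R)) : R :=
  ((singleObjXSelf (ComplexShape.up ℤ) 0 (𝟙_ (ModuleCat.{u} R))).hom.hom v : R)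

lemma sc_smul (r : R) (v : ((𝟙_ (DRing.Cx R)).X 0 : ModuleCat.{u} R)) : sc (r • v) = r * sc v := map_smul _ r v

lemma smul_e₀ (v : ((𝟙_ (DRing.Cx R)).X 0 : ModuleCat.{u} R)) : sc v • e₀ R = v := by
  show sc v • (singleObjXSelf (ComplexShape.up ℤ) 0 (𝟙_ (ModuleCat.{u} R))).inv.hom (1 : R) = v
  rw [← map_smul]
  refine Eq.trans (congrArg (fun w => (singleObjXSelf (ComplexShape.up ℤ) 0 (𝟙_ (ModuleCat.{u} R))).inv.hom w)
    (show sc v • (1 : R) = sc v from mul_one (sc v))) ?_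
  exact congr($((singleObjXSelf (ComplexShape.up ℤ) 0 (𝟙_ (ModuleCat.{u} R))).hom_inv_id) v)

lemma right_tmul (M : DRing.Cx R) (i p q : ℤ) (h : p + q = i) (a : M.X p) (v : ((𝟙_ (DRing.Cx R)).X q : ModuleCat.{u} R)) :
    (p ≠ i → ((ρ_ M).hom.f i).hom ((ιTensorObj M (𝟙_ (DRing.Cx R)) p q i h).hom (a ⊗ₜ[R] v)) = 0) ∧
      ∀ (hp : p = i), ((ρ_ M).hom.f i).hom ((ιTensorObj M (𝟙_ (DRing.Cx R)) p q i h).hom (a ⊗ₜ[R] v)) =
        sc ((((𝟙_ (DRing.Cx R)).XIsoOfEq (show q = 0 by omega)).hom).hom v) • ((M.XIsoOfEq hp).hom).hom a := by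
  refine ⟨fun hp => ?_, fun hp => ?_⟩
  · have hz : IsZero ((𝟙_ (DRing.Cx R)).X q) := isZero_single_obj_X _ _ _ _ (by omega)
    haveI := ModuleCat.subsingleton_of_isZero hz
    rw [Subsingleton.elim v 0, TensorProduct.tmul_zero, map_zero, map_zero]
  · subst hp
    obtain rfl : q = 0 := by omega
    simp only [XIsoOfEq_rfl, Iso.refl_hom]
    show _ = sc v • a
    conv_lhs => rw [← smul_e₀ v, TensorProduct.tmul_smul, map_smul, map_smul, ← rightUnitor_inv_apply M p a]
    exact congrArg (sc v • ·) (congr($(congrFun (congrArg HomologicalComplex.Hom.f (ρ_ M).inv_hom_id) p) a))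

lemma left_tmul (M : DRing.Cx R) (i p q : ℤ) (h : q + p = i) (a : M.X p) (v : ((𝟙_ (DRing.Cx R)).X q : ModuleCat.{u} R)) :
    (p ≠ i → ((λ_ M).hom.f i).hom ((ιTensorObj (𝟙_ (DRing.Cx R)) M q p i h).hom (v ⊗ₜ[R] a)) = 0) ∧
      ∀ (hp : p = i), ((λ_ M).hom.f i).hom ((ιTensorObj (𝟙_ (DRing.Cx R)) M q p i h).hom (v ⊗ₜ[R] a)) =
        sc ((((𝟙_ (DRing.Cx R)).XIsoOfEq (show q = 0 by omega)).hom).hom v) • ((M.XIsoOfEq hp).hom).hom a := by
  refine ⟨fun hp => ?_, fun hp => ?_⟩
  · have hz : IsZero ((𝟙_ (DRing.Cx R)).X q) := isZero_single_obj_X _ _ _ _ (by omega)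
    haveI := ModuleCat.subsingleton_of_isZero hz
    rw [Subsingleton.elim v 0, TensorProduct.zero_tmul, map_zero, map_zero]
  · subst hp
    obtain rfl : q = 0 := by omega
    simp only [XIsoOfEq_rfl, Iso.refl_hom]
    show _ = sc v • a
    conv_lhs => rw [← smul_e₀ v, ← TensorProduct.smul_tmul', map_smul, map_smul, ← leftUnitor_inv_apply M p a]
    exact congrArg (sc v • ·) (congr($(congrFun (congrArg HomologicalComplex.Hom.f (λ_ M).inv_hom_id) p) a))

lemma finite_projective_of_rel {ι : Type} [Fintype ι] {X : ModuleCat.{u} R} (m : ι → X) (f : ι → X →ₗ[R] R)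
    (h : ∀ x, x = ∑ k, f k x • m k) : Module.Finite R X ∧ Module.Projective R X := by
  let s : (X : Type u) →ₗ[R] (ι → R) := LinearMap.pi f
  let π : (ι → R) →ₗ[R] X := Fintype.linearCombination R m
  have hπ : π ∘ₗ s = LinearMap.id := LinearMap.ext fun x => by
    simp [π, s, Fintype.linearCombination_apply, ← h x]
  exact ⟨Module.Finite.of_surjective π fun x => ⟨s x, LinearMap.congr_fun hπ x⟩, Module.Projective.of_split s π hπ⟩

lemma key_left (M N : DRing.Cx R) [ExactPairing M N] :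
    ∃ S : Finset ℤ, ∀ i, (i ∉ S → IsZero (M.X i)) ∧ (Module.Finite R (M.X i) ∧ Module.Projective R (M.X i)) := by
  classical
  obtain ⟨n, c, p, q, hpq, a, b, hz⟩ := exists_sum M N 0 (((η_ M N).f 0).hom (e₀ R))
  refine ⟨Finset.univ.image p, fun i => ?_⟩
  let J := {k : Fin n // p k = i}
  let g : ∀ k : J, (M.X i : Type u) →ₗ[R] R := fun k =>
    { toFun := fun x => c k.1 * sc ((((𝟙_ (DRing.Cx R)).XIsoOfEq (show q k.1 + i = 0 by have := hpq k.1; have := k.2; omega)).hom).hom
        (((ε_ M N).f (q k.1 + i)).hom ((ιTensorObj N M (q k.1) i _ rfl).hom (b k.1 ⊗ₜ[R] x))))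
      map_add' := fun x y => by simp [sc, TensorProduct.tmul_add, mul_add]
      map_smul' := fun r x => by
        rw [TensorProduct.tmul_smul, map_smul, map_smul, map_smul, sc_smul, RingHom.id_apply, smul_eq_mul, mul_left_comm] }
  have hrel : ∀ x : M.X i, x = ∑ k : J, g k x • ((M.XIsoOfEq k.2).hom).hom (a k.1) := by
    intro x
    have h1 : η_ M N ▷ M ≫ (α_ M N M).hom ≫ M ◁ ε_ M N ≫ (ρ_ M).hom = (λ_ M).hom := by
      rw [ExactPairing.evaluation_coevaluation_assoc, Iso.inv_hom_id, Category.comp_id]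
    have h3 : ((ρ_ M).hom.f i).hom (((M ◁ ε_ M N).f i).hom (((α_ M N M).hom.f i).hom
        (((η_ M N ▷ M).f i).hom (((λ_ M).inv.f i).hom x)))) = x :=
      (congr($(congrFun (congrArg HomologicalComplex.Hom.f h1) i) (((λ_ M).inv.f i).hom x))).trans
        (congr($(congrFun (congrArg HomologicalComplex.Hom.f (λ_ M).inv_hom_id) i) x))
    rw [leftUnitor_inv_apply, whiskerRight_apply, hz, TensorProduct.sum_tmul] at h3
    simp only [map_sum, ← TensorProduct.smul_tmul', map_smul] at h3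
    rw [Finset.sum_congr rfl fun k _ => by
      erw [associator_hom_apply M N M (p k) (q k) i 0 (q k + i) i (hpq k) rfl (zero_add i)
        (by have := hpq k; omega), whiskerLeft_apply]] at h3
    refine h3.symm.trans ?_
    refine (Finset.sum_subset (Finset.subset_univ (Finset.univ.filter fun k => p k = i)) fun k _ hk => ?_).symm.trans ?_
    · rw [(right_tmul M i (p k) _ _ _ _).1 (by simpa using hk), smul_zero]
    · rw [← Finset.sum_subtype_eq_sum_filter]
      refine Finset.sum_congr (by ext k; simp) fun k _ => ?_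
      rw [(right_tmul M i (p k.1) _ _ _ _).2 k.2, ← mul_smul]
      rfl
  refine ⟨fun hi => ?_, finite_projective_of_rel _ g hrel⟩
  have : Subsingleton (M.X i) := ⟨fun x y => by
    haveI : IsEmpty J := ⟨fun k => hi (Finset.mem_image.2 ⟨k.1, Finset.mem_univ _, k.2⟩)⟩
    rw [hrel x, hrel y]; simp⟩
  exact ModuleCat.isZero_of_subsingleton _

lemma key_right (M N : DRing.Cx R) [ExactPairing M N] :
    ∃ S : Finset ℤ, ∀ i, (i ∉ S → IsZero (N.X i)) ∧ (Module.Finite R (N.X i) ∧ Module.Projective R (N.X i)) := by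
  classical
  obtain ⟨n, c, p, q, hpq, a, b, hz⟩ := exists_sum M N 0 (((η_ M N).f 0).hom (e₀ R))
  refine ⟨Finset.univ.image q, fun i => ?_⟩
  let J := {k : Fin n // q k = i}
  let g : ∀ k : J, (N.X i : Type u) →ₗ[R] R := fun k =>
    { toFun := fun x => c k.1 * sc ((((𝟙_ (DRing.Cx R)).XIsoOfEq (show i + p k.1 = 0 by have := hpq k.1; have := k.2; omega)).hom).hom
        (((ε_ M N).f (i + p k.1)).hom ((ιTensorObj N M i (p k.1) _ rfl).hom (x ⊗ₜ[R] a k.1))))
      map_add' := fun x y => by simp [sc, TensorProduct.add_tmul, mul_add]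
      map_smul' := fun r x => by
        rw [← TensorProduct.smul_tmul', map_smul, map_smul, map_smul, sc_smul, RingHom.id_apply, smul_eq_mul, mul_left_comm] }
  have hrel : ∀ x : N.X i, x = ∑ k : J, g k x • ((N.XIsoOfEq k.2).hom).hom (b k.1) := by
    intro x
    have h1 : N ◁ η_ M N ≫ (α_ N M N).inv ≫ ε_ M N ▷ N ≫ (λ_ N).hom = (ρ_ N).hom := by
      rw [ExactPairing.coevaluation_evaluation_assoc, Iso.inv_hom_id, Category.comp_id]
    have h3 : ((λ_ N).hom.f i).hom (((ε_ M N ▷ N).f i).hom (((α_ N M N).inv.f i).hom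
        (((N ◁ η_ M N).f i).hom (((ρ_ N).inv.f i).hom x)))) = x :=
      (congr($(congrFun (congrArg HomologicalComplex.Hom.f h1) i) (((ρ_ N).inv.f i).hom x))).trans
        (congr($(congrFun (congrArg HomologicalComplex.Hom.f (ρ_ N).inv_hom_id) i) x))
    rw [rightUnitor_inv_apply, whiskerLeft_apply, hz, TensorProduct.tmul_sum] at h3
    simp only [map_sum, TensorProduct.tmul_smul, map_smul] at h3
    rw [Finset.sum_congr rfl fun k _ => by
      erw [associator_inv_apply N M N i (p k) (q k) (i + p k) 0 i rfl (hpq k)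
        (by have := hpq k; omega) (add_zero i), whiskerRight_apply]] at h3
    refine h3.symm.trans ?_
    refine (Finset.sum_subset (Finset.subset_univ (Finset.univ.filter fun k => q k = i)) fun k _ hk => ?_).symm.trans ?_
    · rw [(left_tmul N i (q k) _ _ _ _).1 (by simpa using hk), smul_zero]
    · rw [← Finset.sum_subtype_eq_sum_filter]
      refine Finset.sum_congr (by ext k; simp) fun k _ => ?_
      rw [(left_tmul N i (q k.1) _ _ _ _).2 k.2, ← mul_smul]
      rfl
  refine ⟨fun hi => ?_, finite_projective_of_rel _ g hrel⟩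
  have : Subsingleton (N.X i) := ⟨fun x y => by
    haveI : IsEmpty J := ⟨fun k => hi (Finset.mem_image.2 ⟨k.1, Finset.mem_univ _, k.2⟩)⟩
    rw [hrel x, hrel y]; simp⟩
  exact ModuleCat.isZero_of_subsingleton _

lemma bounded_of_finset {X : DRing.Cx R} (S : Finset ℤ) (h : ∀ i, i ∉ S → IsZero (X.X i)) :
    ∃ a b : ℤ, DRing.VanishesOutside X a b := by
  obtain ⟨b, hb⟩ := S.bddAbove
  obtain ⟨a, ha⟩ := S.bddBelow
  exact ⟨a, b, fun i hi => h i fun hS => by
    have := hb (Finset.mem_coe.2 hS); have := ha (Finset.mem_coe.2 hS); omega⟩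

open MonoidalCategory in
/-- Let R be a commutative ring and M, N cochain complexes of R-modules such that N is a left dual of M
for the tensor product of cochain complexes of R-modules (coevaluation R[0] → M ⊗ N and evaluation N
⊗ M → R[0] with the triangle identities, an exact pairing). Then M and N are bounded and every term
M^n, N^n is a finitely generated projective R-module. -/
theorem result (R : Type u) [CommRing R] (M N : DRing.Cx R)
    [ExactPairing M N] :
    (∃ a b : ℤ, DRing.VanishesOutside M a b) ∧ (∃ a b : ℤ, DRing.VanishesOutside N a b) ∧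
      DRing.TermwiseFiniteProjective M ∧ DRing.TermwiseFiniteProjective N := by
  obtain ⟨S, hS⟩ := key_left M N
  obtain ⟨T, hT⟩ := key_right M N
  exact ⟨bounded_of_finset S fun i => (hS i).1, bounded_of_finset T fun i => (hT i).1,
    fun i => (hS i).2, fun i => (hT i).2⟩


end Groth.Agent.S7016
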