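import Groth.Statements.S7055
import Groth.Agent.DCat.DCNakayama

set_option autoImplicit false
set_option backward.isDefEq.respectTransparency false
set_option backward.defeqAttrib.useBackward true
universe u
attribute [local instance] HasDerivedCategory.standard
open CategoryTheory
open DRing

namespace Groth.Agent.S7055

/-- For a commutative ring A, a finitely generated ideal I and an object K of D(A) which is derived
complete with respect to I, if K ⊗^L_A A/I vanishes then K vanishes. The derived tensor product with
the module A/I is the total left derived functor, assumed to exist. -/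
theorem result {A : Type u} [CommRing A] (I : Ideal A) (hI : I.FG)
    [DRing.HasLTensor A (ModuleCat.of A (A ⧸ I))]
    (K : Dual.D A) (hc : DRing.IsDerivedComplete I K)
    (h0 : Limits.IsZero ((DRing.LTensor A (ModuleCat.of A (A ⧸ I))).obj K)) : Limits.IsZero K := by
  obtain ⟨s, hs⟩ := hI
  refine DCat.DC.isZero_of_z fun n => (DCat.DC.z_iff n K).2 ?_
  refine DCat.DC.subsingleton_hd_of_noHom (I := I) (-n - 1) s.toList K
    (fun a ha => hs ▸ Ideal.subset_span (Finset.mem_toList.1 ha)) hc (fun N hN k hk φ => ?_) (-n) (by omega)
  refine DCat.DC.noHom_of_ltensor I (-n - 1) K (fun i _ => ?_) N (fun a ha x => ?_) k hk φ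
  · exact ModuleCat.subsingleton_of_isZero ((DerivedCategory.homologyFunctor (ModuleCat.{u} A) i).map_isZero h0)
  · rw [SetLike.mem_coe, ← hs] at ha
    induction ha using Submodule.span_induction with
    | mem a ha => exact hN a (Finset.mem_toList.2 ha) x
    | zero => exact zero_smul A x
    | add a b _ _ h1 h2 => rw [add_smul, h1, h2, add_zero]
    | smul c a _ h1 => rw [smul_eq_mul, mul_smul, h1, smul_zero]


end Groth.Agent.S7055
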