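import Groth.Statements.S4997
import Groth.Agent.SmoothLib.QuasiFinite
import Mathlib.AlgebraicGeometry.Morphisms.Etale
import Mathlib.AlgebraicGeometry.Morphisms.QuasiFinite
import Mathlib.RingTheory.Unramified.Finite
import Mathlib.RingTheory.Finiteness.ModuleFinitePresentation
import Mathlib.RingTheory.Smooth.Fiber
import Mathlib.RingTheory.Ideal.Cotangent

set_option autoImplicit false
universe u
open CategoryTheory CategoryTheory.Limits AlgebraicGeometry TopologicalSpace
open Unram17

namespace Groth.Agent.S4997
open CategoryTheory AlgebraicGeometry TensorProduct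

/-- A morphism of schemes is etale if and only if it is smooth and locally quasi-finite. -/
theorem result {X Y : Scheme.{u}} (f : X ⟶ Y) :
    Etale f ↔ Smooth f ∧ LocallyQuasiFinite f := by
  rw [HasRingHomProperty.iff_appLE (P := @Etale), HasRingHomProperty.iff_appLE (P := @Smooth),
    HasRingHomProperty.iff_appLE (P := @LocallyQuasiFinite)]
  constructor
  · intro h
    refine ⟨fun U V e => ?_, fun U V e => ?_⟩ <;>
      have h' := h U V e <;>
      algebraize [(f.appLE U V e).hom] <;>
      have := RingHom.etale_algebraMap.mp h'
    · exact RingHom.smooth_algebraMap.mpr inferInstance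
    · show Algebra.QuasiFinite _ _
      infer_instance
  · rintro ⟨h₁, h₂⟩ U V e
    have h1 := h₁ U V e
    have h2 := h₂ U V e
    algebraize [(f.appLE U V e).hom]
    haveI := RingHom.smooth_algebraMap.mp h1
    haveI : Algebra.QuasiFinite Γ(Y, U.1) Γ(X, V.1) := h2
    exact RingHom.etale_algebraMap.mpr (Groth.Agent.SmoothLib.etale_of_smooth_of_quasiFinite _ _)

end Groth.Agent.S4997
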