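import Groth.Statements.S0389
import Groth.Agent.EGA43.FlatDescent.GenFreeGeneral

set_option autoImplicit false
set_option backward.isDefEq.respectTransparency false
universe u
open FlatMor

namespace Groth.Agent.S0389

open TensorProduct Function in
theorem free_mono {R : Type u} [CommRing R] {M : Type u} [AddCommGroup M] [Module R M] (f g : R)
    (h : Module.Free (Localization.Away f) (Localization.Away f ⊗[R] M)) :
    Module.Free (Localization.Away (f * g)) (Localization.Away (f * g) ⊗[R] M) :=
  Groth.Agent.EGA43.GenFree.free_refine f g M h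

open TensorProduct Function in
/-- The algebra part. -/
theorem algebra_part {R S : Type u} [CommRing R] [IsDomain R] [CommRing S] [Algebra R S]
    (n : ℕ) (π : MvPolynomial (Fin n) R →ₐ[R] S) (hπ : Surjective π) :
    ∃ f : R, f ≠ 0 ∧ ∀ g : R, Module.Free (Localization.Away (f * g)) (Localization.Away (f * g) ⊗[R] S) ∧
      Algebra.FinitePresentation (Localization.Away (f * g)) (Localization.Away (f * g) ⊗[R] S) := by
  classical
  let e₁ := LinearEquiv.funUnique (Fin 1) (MvPolynomial (Fin n) R) (MvPolynomial (Fin n) R)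
  let W : Submodule (MvPolynomial (Fin n) R) (Fin 1 → MvPolynomial (Fin n) R) :=
    Submodule.comap e₁.toLinearMap (RingHom.ker π.toRingHom)
  obtain ⟨f, s, hf, hsW, hfree, hpow⟩ :=
    Groth.Agent.EGA43.FlatDescent.exists_free_and_pow_smul_mem n 1 W
  let τ : (Fin 1 → MvPolynomial (Fin n) R) →ₗ[R] S := π.toLinearMap ∘ₗ e₁.toLinearMap.restrictScalars R
  have hτ : Surjective τ := hπ.comp e₁.surjective
  have hker : LinearMap.ker τ = W.restrictScalars R := Submodule.ext fun _ => Iff.rfl
  let eS : ((Fin 1 → MvPolynomial (Fin n) R) ⧸ W) ≃ₗ[R] S :=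
    (Submodule.Quotient.restrictScalarsEquiv R W).symm ≪≫ₗ
      Submodule.quotEquivOfEq _ _ hker.symm ≪≫ₗ τ.quotKerEquivOfSurjective hτ
  refine ⟨f, hf, fun g => ⟨free_mono f g (.of_equiv (AlgebraTensorModule.congr (LinearEquiv.refl (Localization.Away f) _) eS)), ?_⟩⟩
  let L := Localization.Away (f * g)
  let Φ : L ⊗[R] MvPolynomial (Fin n) R →ₐ[L] L ⊗[R] S := Algebra.TensorProduct.map (AlgHom.id L L) π
  have hΦ : Surjective Φ := fun z => by
    induction z using TensorProduct.induction_on with
    | zero => exact ⟨0, map_zero _⟩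
    | add a b ha hb =>
      obtain ⟨a, rfl⟩ := ha
      obtain ⟨b, rfl⟩ := hb
      exact ⟨a + b, map_add _ _ _⟩
    | tmul c x =>
      obtain ⟨x, rfl⟩ := hπ x
      exact ⟨c ⊗ₜ x, rfl⟩
  have : Algebra.FinitePresentation L (L ⊗[R] MvPolynomial (Fin n) R) :=
    Algebra.FinitePresentation.equiv (MvPolynomial.algebraTensorAlgEquiv R L).symm
  refine Algebra.FinitePresentation.of_surjective (f := Φ) hΦ
    ⟨s.image fun w => (1 : L) ⊗ₜ e₁ w, le_antisymm ?_ ?_⟩
  · rw [Submodule.span_le]
    intro z hz
    obtain ⟨w, hw, rfl⟩ := Finset.mem_image.1 hz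
    show Φ ((1 : L) ⊗ₜ e₁ w) = 0
    have : π (e₁ w) = 0 := hsW w hw
    simp [Φ, this]
  · intro z hz
    have he : ∀ y, π.toLinearMap.lTensor L y = Φ y := fun y => by
      induction y using TensorProduct.induction_on with
      | zero => exact (map_zero (π.toLinearMap.lTensor L)).trans (map_zero Φ).symm
      | add a b ha hb => rw [map_add, ha, hb, map_add]
      | tmul c x => rfl
    obtain ⟨u, rfl⟩ := (lTensor_exact L (LinearMap.exact_subtype_ker_map π.toLinearMap) hπ z).1
      ((he z).trans (RingHom.mem_ker.1 hz))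
    clear hz
    induction u using TensorProduct.induction_on with
    | zero => simp
    | add a b ha hb => rw [map_add]; exact add_mem ha hb
    | tmul c x =>
      obtain ⟨x, hx⟩ := x
      obtain ⟨m, hm⟩ := hpow (e₁.symm x) (show e₁ (e₁.symm x) ∈ RingHom.ker π.toRingHom by
        rw [LinearEquiv.apply_symm_apply]; exact hx)
      have hu : IsUnit (algebraMap R L (f ^ m)) := by
        rw [map_pow]
        exact (isUnit_of_mul_isUnit_left (y := algebraMap R L g)
          (by rw [← map_mul]; exact IsLocalization.Away.algebraMap_isUnit (f * g))).pow m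
      obtain ⟨v, hv⟩ := hu
      have h1 : c ⊗ₜ[R] x =
          ((c * (↑v⁻¹ : L)) ⊗ₜ[R] (1 : MvPolynomial (Fin n) R)) * ((1 : L) ⊗ₜ[R] (f ^ m • x)) := by
        rw [Algebra.TensorProduct.tmul_mul_tmul, mul_one, one_mul, TensorProduct.tmul_smul,
          TensorProduct.smul_tmul', Algebra.smul_def, ← hv, mul_left_comm, Units.mul_inv, mul_one]
      rw [LinearMap.lTensor_tmul, Submodule.subtype_apply, h1]
      refine Ideal.mul_mem_left _ _ ?_
      have h2 : f ^ m • x = e₁ (f ^ m • e₁.symm x) := by
        rw [← LinearEquiv.restrictScalars_apply R e₁, map_smul]; simp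
      rw [h2]
      generalize f ^ m • e₁.symm x = y at hm ⊢
      induction hm using Submodule.span_induction with
      | mem w hw => exact Submodule.subset_span (Finset.mem_coe.2 (Finset.mem_image_of_mem _ hw))
      | zero => simp
      | add a b _ _ ha hb => rw [map_add, TensorProduct.tmul_add]; exact add_mem ha hb
      | smul p a _ ha =>
        rw [map_smul, smul_eq_mul,
          show (1 : L) ⊗ₜ[R] (p * e₁ a) = ((1 : L) ⊗ₜ[R] p) * ((1 : L) ⊗ₜ[R] e₁ a) by
            rw [Algebra.TensorProduct.tmul_mul_tmul, one_mul]]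
        exact Ideal.mul_mem_left _ _ ha

open TensorProduct Function in
/-- The module part. -/
theorem module_part {R S M : Type u} [CommRing R] [CommRing S] [Algebra R S] [AddCommGroup M]
    [Module S M] [Module R M] [IsScalarTower R S M] (f g : R)
    (n k : ℕ) (π : MvPolynomial (Fin n) R →ₐ[R] S) (hπ : Surjective π)
    (σ : (Fin k → MvPolynomial (Fin n) R) →ₗ[R] M) (hσ : Surjective σ)
    (hσp : ∀ p x, σ (p • x) = π p • σ x)
    (s : Finset (Fin k → MvPolynomial (Fin n) R)) (hs0 : ∀ w ∈ s, σ w = 0)
    (hs : ∀ w, σ w = 0 → ∃ m : ℕ, f ^ m • w ∈ Submodule.span (MvPolynomial (Fin n) R) (s : Set _)) :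
    Module.FinitePresentation (Localization.Away (algebraMap R S (f * g)))
      (LocalizedModule (Submonoid.powers (algebraMap R S (f * g))) M) := by
  let T := Submonoid.powers (algebraMap R S (f * g))
  let π' : (Fin k → MvPolynomial (Fin n) R) →ₗ[R] (Fin k → S) :=
    LinearMap.pi fun j => π.toLinearMap ∘ₗ LinearMap.proj j
  have hπ' : Surjective π' := fun y => by
    choose x hx using fun j => hπ (y j)
    exact ⟨x, funext hx⟩
  have hπ'p : ∀ p x, π' (p • x) = π p • π' x := fun p x => funext fun j => map_mul π p (x j)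
  let σS : (Fin k → S) →ₗ[S] M :=
    Fintype.linearCombination S (fun j => σ (Pi.single j 1))
  have hσS : ∀ x, σS (π' x) = σ x := fun x => by
    conv_rhs => rw [pi_eq_sum_univ' x, map_sum]
    simp only [σS, Fintype.linearCombination_apply, hσp]
    rfl
  let W := Submodule.span S (π' '' (s : Set (Fin k → MvPolynomial (Fin n) R)))
  have : Module.FinitePresentation S ((Fin k → S) ⧸ W) :=
    Module.finitePresentation_of_surjective W.mkQ W.mkQ_surjective
      (by rw [Submodule.ker_mkQ]; exact Submodule.fg_span (s.finite_toSet.image _))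
  let q : ((Fin k → S) ⧸ W) →ₗ[S] M := W.liftQ σS (Submodule.span_le.2 fun y hy => by
    obtain ⟨w, hw, rfl⟩ := hy
    exact (hσS w).trans (hs0 w hw))
  have hq : Surjective q := fun x => by
    obtain ⟨x, rfl⟩ := hσ x
    exact ⟨Submodule.Quotient.mk (π' x), hσS x⟩
  have hker : ∀ z, q z = 0 → ∃ t : T, t • z = 0 := fun z hz => by
    obtain ⟨y, rfl⟩ := Submodule.Quotient.mk_surjective W z
    obtain ⟨x, rfl⟩ := hπ' y
    obtain ⟨m, hm⟩ := hs x ((hσS x).symm.trans hz)
    refine ⟨⟨algebraMap R S (f * g) ^ m, m, rfl⟩, ?_⟩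
    rw [Submonoid.smul_def, ← Submodule.Quotient.mk_smul, Submodule.Quotient.mk_eq_zero]
    show (algebraMap R S (f * g)) ^ m • π' x ∈ W
    rw [← map_pow, algebraMap_smul, mul_pow, mul_comm, mul_smul]
    refine W.smul_of_tower_mem _ ?_
    rw [← map_smul]
    generalize f ^ m • x = v at hm ⊢
    induction hm using Submodule.span_induction with
    | mem w hw => exact Submodule.subset_span ⟨w, hw, rfl⟩
    | zero => simp
    | add a b _ _ ha hb => rw [map_add]; exact add_mem ha hb
    | smul p a _ ha => rw [hπ'p]; exact W.smul_mem _ ha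
  let ι := (LocalizedModule.mkLinearMap T M) ∘ₗ q
  have hι : IsLocalizedModule T ι := by
    refine { map_units := fun x => IsLocalizedModule.map_units (LocalizedModule.mkLinearMap T M) x,
             surj := fun y => ?_, exists_of_eq := fun {a b} h => ?_ }
    · obtain ⟨⟨x, t⟩, hx⟩ := IsLocalizedModule.surj T (LocalizedModule.mkLinearMap T M) y
      obtain ⟨z, rfl⟩ := hq x
      exact ⟨⟨z, t⟩, hx⟩
    · obtain ⟨t, ht⟩ := IsLocalizedModule.exists_of_eq (S := T) (f := LocalizedModule.mkLinearMap T M) h
      rw [Submonoid.smul_def, Submonoid.smul_def, ← map_smul, ← map_smul] at ht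
      obtain ⟨t', ht'⟩ := hker ((t : S) • a - (t : S) • b) (by rw [map_sub, ht, sub_self])
      refine ⟨t' * t, ?_⟩
      rw [smul_sub, sub_eq_zero] at ht'
      simpa [Submonoid.smul_def, mul_smul] using ht'
  exact Module.FinitePresentation.of_equiv
    ((isLocalizedModule_iff_isBaseChange T (Localization T) ι).1 hι).equiv

open TensorProduct in
theorem aux {R S M : Type u} [CommRing R] [IsDomain R] [CommRing S] [Algebra R S]
    [Algebra.FiniteType R S] [AddCommGroup M] [Module S M] [Module R M] [IsScalarTower R S M]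
    [Module.Finite S M] :
    ∃ f : R, f ≠ 0 ∧ Module.Free (Localization.Away f) (Localization.Away f ⊗[R] M) ∧
      Module.Free (Localization.Away f) (Localization.Away f ⊗[R] S) ∧
      Algebra.FinitePresentation (Localization.Away f) (Localization.Away f ⊗[R] S) ∧
      Module.FinitePresentation (Localization.Away (algebraMap R S f))
        (LocalizedModule (Submonoid.powers (algebraMap R S f)) M) := by
  obtain ⟨-, g, hg, n, k, π, σ, s, hπ, hσ, hσp, hs0, hfree, hs⟩ :=
    Groth.Agent.EGA43.FlatDescent.gFree_general (R := R) (S := S) (M := M)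
  obtain ⟨f, hf, H⟩ := algebra_part n π hπ
  refine ⟨f * g, mul_ne_zero hf hg, ?_, (H g).1, (H g).2, ?_⟩
  · exact Groth.Agent.EGA43.GenFree.free_refine' f g M hfree
  · rw [mul_comm]
    exact module_part g f n k π hπ σ hσ hσp s hs0 hs

open TensorProduct in
/-- Generic freeness: over a domain, for a finite type algebra and a finite module over it, after
inverting one nonzero element of the base the algebra and the module become free over the base, the
algebra becomes finitely presented over the base and the module finitely presented over the algebra. -/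
theorem result {R S M : Type u} [CommRing R] [IsDomain R] [CommRing S] [Algebra R S] [Algebra.FiniteType R S] [AddCommGroup M] [Module S M] [Module R M] [IsScalarTower R S M] [Module.Finite S M] :
    ∃ f : R, f ≠ 0 ∧ Module.Free (Localization.Away f) (Localization.Away f ⊗[R] M) ∧
      Module.Free (Localization.Away f) (Localization.Away f ⊗[R] S) ∧
      Algebra.FinitePresentation (Localization.Away f) (Localization.Away f ⊗[R] S) ∧
      Module.FinitePresentation (Localization.Away (algebraMap R S f)) (LocalizedModule (Submonoid.powers (algebraMap R S f)) M) := by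
  exact aux

end Groth.Agent.S0389
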