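import Groth.Statements.S16717
import Groth.Agent.HopfLib.Reductive

set_option autoImplicit false
universe u v
open HopfRep

namespace Groth.Agent.S16717

open TensorProduct in
/-- Equivalence of the exactness of invariants with complete reducibility of finite-dimensional
representations. Let k be a field and A a finitely generated commutative Hopf algebra over k (the
coordinate ring of an affine algebraic group G). Then every finite-dimensional A-comodule is
semisimple if and only if taking fixed vectors is exact, i.e. for every surjective comodule map φ :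
V → W between A-comodules (of any dimension; φ k-linear with (φ ⊗ id) ∘ ρ_V = ρ_W ∘ φ) every fixed
vector of W is the image of a fixed vector of V. -/
theorem result (k : Type u) [Field k] (A : Type v)
    [CommRing A] [HopfAlgebra k A] (hA : Algebra.FiniteType k A) :
    HopfRep.IsLinearlyReductive k A ↔
      ∀ (V W : Type v) [AddCommGroup V] [Module k V] [HopfRep.Comod k A V]
        [AddCommGroup W] [Module k W] [HopfRep.Comod k A W] (φ : V →ₗ[k] W),
        LinearMap.rTensor A φ ∘ₗ HopfRep.Comod.coact (k := k) (A := A) (V := V) =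
            HopfRep.Comod.coact (k := k) (A := A) (V := W) ∘ₗ φ →
          Function.Surjective φ →
            ∀ w ∈ HopfRep.fixedPts k A W, ∃ v ∈ HopfRep.fixedPts k A V, φ v = w := by
  constructor
  · intro hG V W _ _ _ _ _ _ φ hφ hsurj w hw
    obtain ⟨α, hα, h1⟩ := Groth.Agent.HopfLib.exists_integral hG
    have hφ' : Hoch.IsComodHom A φ := hφ.symm
    obtain ⟨v, rfl⟩ := hsurj w
    refine ⟨Groth.Agent.HopfLib.hit α v, Groth.Agent.HopfLib.reynolds_mem_fixedPts hα h1 v, ?_⟩
    rw [Groth.Agent.HopfLib.IsComodHom.hit_apply hφ', Groth.Agent.HopfLib.hit_eq_self_of_mem_fixedPts h1 hw]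
  · intro H
    obtain ⟨α, hα, h1⟩ := Groth.Agent.HopfLib.exists_integral_of_fixedPt_criterion (k := k) (A := A)
      (fun V _ _ cV hfin π hsurj hπ => by
        have hK : HopfRep.IsSubcomod (k := k) (A := A) (LinearMap.ker π) :=
          Groth.Agent.HopfLib.isSubcomod_iff_hit.2 fun g v hv => by
            rw [LinearMap.mem_ker] at hv ⊢
            rw [Groth.Agent.HopfLib.sliceR_rTensor_eq_of_trivial hπ, hv, mul_zero]
        let cQ := ComodSub.Comod.quot cV (LinearMap.ker π) hK
        obtain ⟨v₀, hv₀⟩ := hsurj 1
        have hfix : (LinearMap.ker π).mkQ v₀ ∈ HopfRep.fixedPts k A (V ⧸ LinearMap.ker π) := by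
          refine Groth.Agent.HopfLib.eq_of_forall_sliceR_eq fun g => ?_
          rw [← Groth.Agent.HopfLib.hit_apply, Groth.Agent.HopfLib.hit_quot hK,
            Groth.Agent.HopfLib.sliceR_tmul, ← map_smul, ← sub_eq_zero, ← map_sub,
            Submodule.mkQ_apply, Submodule.Quotient.mk_eq_zero, LinearMap.mem_ker, map_sub, map_smul,
            Groth.Agent.HopfLib.sliceR_rTensor_eq_of_trivial hπ, smul_eq_mul, sub_self]
        obtain ⟨v, hv, hveq⟩ := H V (V ⧸ LinearMap.ker π) (LinearMap.ker π).mkQ
          (ComodSub.isComodHom_mkQ cV (LinearMap.ker π) hK).symm (Submodule.mkQ_surjective _) _ hfix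
        refine ⟨v, hv, ?_⟩
        have h : π (v - v₀) = 0 := by
          rw [← LinearMap.mem_ker, ← Submodule.Quotient.eq]
          exact hveq
        rw [map_sub, hv₀, sub_eq_zero] at h
        rw [h]
        exact one_ne_zero)
    exact Groth.Agent.HopfLib.isLinearlyReductive_of_integral hα h1

end Groth.Agent.S16717
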