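import Groth.Statements.S14616


set_option autoImplicit false
universe u
open Formal2

namespace Groth.Agent.S14616

open CategoryTheory in
/-- Let … → G_2 → G_1 → G_0 be an inverse system of abelian groups with transition maps t_n : G_{n+1} →
G_n which satisfies the Mittag-Leffler condition: for every i there is j ≥ i such that for all k ≥ j
the images of G_k → G_i and G_j → G_i coincide. Then lim¹ G_n = 0, i.e. the map (x_n) ↦ (x_n −
t_n(x_{n+1})) on ∏ G_n is surjective. -/
theorem result (G : ℕ → Type u) [∀ n, AddCommGroup (G n)]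
    (t : ∀ n, G (n + 1) →+ G n)
    (h : (Functor.ofOpSequence (X := fun n => AddCommGrpCat.of (G n))
      (fun n => AddCommGrpCat.ofHom (t n)) ⋙ forget AddCommGrpCat).IsMittagLeffler) :
    Function.Surjective (Formal2.towerDiff G t) := by
  intro y
  let F0 : ℕᵒᵖ ⥤ AddCommGrpCat.{u} := Functor.ofOpSequence (X := fun n => AddCommGrpCat.of (G n))
    (fun n => AddCommGrpCat.ofHom (t n))
  let F := F0 ⋙ forget AddCommGrpCat.{u}
  let E : ∀ n : ℕ, Set (G n) := fun n => F.eventualRange (Opposite.op n)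
  have hstep : ∀ (n : ℕ) (h : n ≤ n + 1) (x : G (n + 1)),
      (F0.map (homOfLE h).op).hom x = t n x := by
    intro n h x
    exact congrArg (fun φ : AddCommGrpCat.of (G (n + 1)) ⟶ AddCommGrpCat.of (G n) => φ.hom x)
      (Functor.ofOpSequence_map_homOfLE_succ (X := fun n => AddCommGrpCat.of (G n)) (fun n => AddCommGrpCat.ofHom (t n)) n)
  have hiter : ∀ (d : ∀ n, G n) (n k : ℕ) (hnk : n ≤ k),
      (∀ m, n ≤ m → m < k → d m = t m (d (m + 1))) → d n = (F0.map (homOfLE hnk).op).hom (d k) := by
    intro d n k hnk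
    induction k, hnk using Nat.le_induction with
    | base =>
      intro _
      exact (congrArg (fun φ : F0.obj (Opposite.op n) ⟶ F0.obj (Opposite.op n) => φ.hom (d n))
        (F0.map_id (Opposite.op n))).symm
    | succ k hk ih =>
      intro hd
      have e : (homOfLE (Nat.le_succ_of_le hk)).op = (homOfLE (Nat.le_add_right k 1)).op ≫ (homOfLE hk).op := rfl
      rw [e, F0.map_comp, ih fun m h1 h2 => hd m h1 (by omega), hd k hk (by omega)]
      exact congrArg _ (hstep k _ _).symm
  have hEsub : ∀ n, ∀ a ∈ E n, ∀ b ∈ E n, a - b ∈ E n := by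
    intro n a ha b hb
    refine F.mem_eventualRange_iff.2 fun i f => ?_
    obtain ⟨a', rfl⟩ := F.mem_eventualRange_iff.1 ha f
    obtain ⟨b', rfl⟩ := F.mem_eventualRange_iff.1 hb f
    exact ⟨(a' - b' : G i.unop), (F0.map f).hom.map_sub a' b'⟩
  have hE0 : ∀ n, (0 : G n) ∈ E n := fun n =>
    F.mem_eventualRange_iff.2 fun i f => ⟨(0 : G i.unop), (F0.map f).hom.map_zero⟩
  have hEadd : ∀ n, ∀ a ∈ E n, ∀ b ∈ E n, a + b ∈ E n := fun n a ha b hb => by
    simpa using hEsub n a ha _ (hEsub n 0 (hE0 n) b hb)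
  have hEt : ∀ n, ∀ a ∈ E (n + 1), t n a ∈ E n := fun n a ha => by
    have := F.eventualRange_mapsTo (homOfLE (Nat.le_add_right n 1)).op ha
    exact hstep n (Nat.le_add_right n 1) a ▸ this
  have hEsurj : ∀ n, ∀ a ∈ E n, ∃ b ∈ E (n + 1), t n b = a := fun n a ha => by
    obtain ⟨b, hb, hab⟩ := h.subset_image_eventualRange F (homOfLE (Nat.le_add_right n 1)).op ha
    exact ⟨b, hb, (hstep n (Nat.le_add_right n 1) b).symm.trans hab⟩
  have hj : ∀ n, ∃ j, n ≤ j ∧ ∀ d : ∀ m, G m,
      (∀ m, n ≤ m → m < j → d m = t m (d (m + 1))) → d n ∈ E n := by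
    intro n
    obtain ⟨i, f, hf⟩ := F.isMittagLeffler_iff_eventualRange.1 h (Opposite.op n)
    refine ⟨i.unop, leOfHom f.unop, fun d hd => ?_⟩
    change d n ∈ F.eventualRange (Opposite.op n)
    rw [hf]
    exact ⟨d i.unop, (hiter d n i.unop (leOfHom f.unop) hd).symm⟩
  choose j hij hj using hj
  let step : ℕ → ℕ → ∀ n, G n := fun N m =>
    Nat.rec 0 (fun d z => Function.update z (N - (d + 1)) (y (N - (d + 1)) + t _ (z (N - (d + 1) + 1)))) m
  let Φ : ℕ → ∀ n, G n := fun N => step N N
  have hΦ : ∀ N n, n < N → Φ N n = y n + t n (Φ N (n + 1)) := by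
    intro N
    have key : ∀ d, d ≤ N → ∀ n, N - d ≤ n → n < N → step N d n = y n + t n (step N d (n + 1)) := by
      intro d
      induction d with
      | zero => intro _ n h1 h2; omega
      | succ d ih =>
        intro hd n h1 h2
        change Function.update (step N d) _ _ n = y n + t n (Function.update (step N d) _ _ (n + 1))
        rcases eq_or_ne n (N - (d + 1)) with rfl | hne
        · rw [Function.update_self, Function.update_of_ne (by omega)]
        · rw [Function.update_of_ne hne, Function.update_of_ne (by omega)]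
          exact ih (by omega) n (by omega) h2
    exact fun n hn => key N le_rfl n (by omega) hn
  have hdiff : ∀ n N M, j n ≤ N → j n ≤ M → Φ N n - Φ M n ∈ E n := fun n N M hN hM =>
    hj n (Φ N - Φ M) fun m h1 h2 => by
      simp only [Pi.sub_apply, map_sub]
      rw [hΦ N m (by omega), hΦ M m (by omega)]
      abel
  let x : ∀ n, G n := fun n => Φ (j n) n
  have hr : ∀ n, y n - (x n - t n (x (n + 1))) ∈ E n := fun n => by
    let M := max (max (j n) (j (n + 1))) (n + 1)
    have h1 : Φ M n - x n ∈ E n := hdiff n _ _ (by omega) le_rfl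
    have h2 := hEt n _ (hdiff (n + 1) M (j (n + 1)) (by omega) le_rfl)
    have := hEsub n _ h1 _ h2
    rwa [hΦ M n (by omega), map_sub,
      show y n + t n (Φ M (n + 1)) - x n - (t n (Φ M (n + 1)) - t n (Φ (j (n + 1)) (n + 1))) =
        y n - (x n - t n (x (n + 1))) by simp only [x]; abel] at this
  let z : ∀ n, E n := fun n => Nat.rec ⟨0, hE0 0⟩ (fun n z =>
    ⟨(hEsurj n _ (hEsub n _ z.2 _ (hr n))).choose,
      (hEsurj n _ (hEsub n _ z.2 _ (hr n))).choose_spec.1⟩) n
  refine ⟨fun n => x n + (z n).1, funext fun n => ?_⟩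
  change x n + (z n).1 - t n (x (n + 1) + (z (n + 1)).1) = y n
  have := (hEsurj n _ (hEsub n _ (z n).2 _ (hr n))).choose_spec.2
  rw [map_add, show t n (z (n + 1)).1 = (z n).1 - (y n - (x n - t n (x (n + 1)))) from this]
  abel

end Groth.Agent.S14616
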