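import Groth.Statements.S17329
import Groth.Agent.HopfQuot.FiniteQuotRank

set_option autoImplicit false
universe u v
open scoped TensorProduct
open Hopf

namespace Groth.Agent.S17329
open Groth.Agent.HopfQuot

/-- Let k be an algebraically closed field, A a commutative Hopf algebra over k which is
finite-dimensional as a k-vector space (a finite group scheme G = Spec A), and I a Hopf ideal of A
(a subgroup scheme H = Spec (A/I) of G, of order dim_k (A/I)). Let B ⊆ A be the k-subalgebra of
functions invariant under right multiplication by H: the equaliser of the two algebra maps A → A ⊗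
(A/I), a ↦ (id ⊗ π)(Δ a) and a ↦ a ⊗ 1, so that Spec B is the quotient G/H. Then the quotient
morphism G → G/H is finite locally free of rank |H|: A is a free B-module of rank dim_k (A/I) (B
being a finite product of local rings, locally free of constant rank is the same as free of that
rank). -/
theorem result (k : Type u) [Field k] [IsAlgClosed k]
    (A : Type v) [CommRing A] [HopfAlgebra k A] [Module.Finite k A] (I : Ideal A) [I.IsHopfIdeal k] :
    Module.Free
        ↥(AlgHom.equalizer
          ((Algebra.TensorProduct.map (AlgHom.id k A) (Ideal.Quotient.mkₐ k I)).comp (Bialgebra.comulAlgHom k A))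
          (Algebra.TensorProduct.includeLeft : A →ₐ[k] A ⊗[k] (A ⧸ I))) A ∧
      Module.finrank
        ↥(AlgHom.equalizer
          ((Algebra.TensorProduct.map (AlgHom.id k A) (Ideal.Quotient.mkₐ k I)).comp (Bialgebra.comulAlgHom k A))
          (Algebra.TensorProduct.includeLeft : A →ₐ[k] A ⊗[k] (A ⧸ I))) A =
        Module.finrank k (A ⧸ I) := by
  show Module.Free ↥(FinQuot.inv k I) A ∧ Module.finrank ↥(FinQuot.inv k I) A = Module.finrank k (A ⧸ I)
  haveI : Module.Finite k (A ⧸ I) :=
    Module.Finite.of_surjective (Ideal.Quotient.mkₐ k I).toLinearMap Ideal.Quotient.mk_surjective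
  haveI := FinQuot.faithfullyFlat (R := k) I
  haveI := FinQuot.finite (R := k) I
  haveI : Module.Finite k ↥(FinQuot.inv k I) :=
    Module.Finite.of_injective (FinQuot.inv k I).val.toLinearMap Subtype.val_injective
  haveI : IsArtinianRing ↥(FinQuot.inv k I) := IsArtinianRing.of_finite k _
  haveI : Nontrivial A := (Bialgebra.counitAlgHom k A).toRingHom.domain_nontrivial
  obtain ⟨b⟩ := Module.nonempty_basis_of_flat_of_finrank_eq (↥(FinQuot.inv k I)) A (Module.finrank k (A ⧸ I))
    fun P => by
      haveI := P.isMaximal
      rw [FinQuot.finrank_quot_tensor, FinQuot.rankAtStalk_inv, Module.rankAtStalk_eq_finrank_of_free]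
      rfl
  exact ⟨Module.Free.of_basis b, by rw [Module.finrank_eq_card_basis b, Fintype.card_fin]⟩

end Groth.Agent.S17329
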