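import Groth.Statements.S9287
import Groth.Agent.Synt15.LCIBridge
import Groth.Agent.Synt15.KoszulCI
import Groth.Agent.CAlgH.KoszulDescent
-- import your own Groth.Agent.* helpers here

set_option autoImplicit false
universe u
attribute [local instance] HasDerivedCategory.standard
open CategoryTheory
open Synt

namespace Groth.Agent.S9287

/-- A ring map R → S is syntomic if and only if it is flat and a local complete intersection
homomorphism. -/
theorem result (R S : Type u) [CommRing R] [CommRing S] [Algebra R S] :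
    Synt.IsSyntomic R S ↔ Module.Flat R S ∧ LCI.IsLCI R S := by
  refine ⟨fun h => ⟨h.1, Groth.Agent.Synt15.isLCI_of_isSyntomic h⟩, fun h => ?_⟩
  obtain ⟨hflat, -, n, α, hα, hI⟩ := h
  have hfp : Algebra.FinitePresentation R S :=
    Algebra.FinitePresentation.of_surjective hα (Groth.Agent.CAlgH.KoszulDescent.fg_of_isKoszulRegularIdeal hI)
  let f := AlgebraicGeometry.Spec.map (CommRingCat.ofHom (algebraMap R S))
  let π := AlgebraicGeometry.Spec.map (CommRingCat.ofHom (algebraMap R (MvPolynomial (Fin n) R)))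
  let i := AlgebraicGeometry.Spec.map (CommRingCat.ofHom α.toRingHom)
  haveI : AlgebraicGeometry.Flat f :=
    (AlgebraicGeometry.HasRingHomProperty.Spec_iff (P := @AlgebraicGeometry.Flat)).2
      (RingHom.flat_algebraMap_iff.2 hflat)
  haveI : AlgebraicGeometry.LocallyOfFinitePresentation f :=
    (AlgebraicGeometry.HasRingHomProperty.Spec_iff (P := @AlgebraicGeometry.LocallyOfFinitePresentation)).2
      (RingHom.finitePresentation_algebraMap.2 hfp)
  haveI : AlgebraicGeometry.Smooth π :=
    (AlgebraicGeometry.HasRingHomProperty.Spec_iff (P := @AlgebraicGeometry.Smooth)).2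
      ((RingHom.smooth_algebraMap (R := R) (S := MvPolynomial (Fin n) R)).2 ⟨inferInstance, inferInstance⟩)
  have hfac : i ≫ π = f := by
    rw [← AlgebraicGeometry.Spec.map_comp, ← CommRingCat.ofHom_comp]
    exact congrArg (fun φ => AlgebraicGeometry.Spec.map (CommRingCat.ofHom φ)) α.comp_algebraMap
  have hk : ∀ x, Synt.IsKoszulAt f x := fun x => by
    refine ⟨⊤, _, (AlgebraicGeometry.Scheme.Opens.ι _) ≫ i, π, trivial, inferInstance, ?_, inferInstance,
      by rw [Category.assoc, hfac]⟩
    haveI : IsIso ((⊤ : (AlgebraicGeometry.Spec (CommRingCat.of S)).Opens).ι) :=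
      ((AlgebraicGeometry.Spec (CommRingCat.of S)).topIso).isIso_hom
    exact Groth.Agent.Synt15.isRegularImmersion_iso_comp _ _
      (Groth.Agent.Synt15.isRegularImmersion_SpecMap_of_ideal _ hα hI)
  have hCI := (Groth.Agent.Synt15.isSyntomicMor_iff f).1 (Groth.Agent.Synt15.isSyntomicMor_of_isKoszulAt f hk)
  have hs := Groth.Agent.Synt15.isSyntomic_appLE f hCI ⟨⊤, AlgebraicGeometry.isAffineOpen_top _⟩
    ⟨⊤, AlgebraicGeometry.isAffineOpen_top _⟩ le_top
  letI := (f.appLE ⊤ ⊤ le_top).hom.toAlgebra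
  refine Groth.Agent.Synt15.isSyntomic_of_ringEquiv (AlgebraicGeometry.Scheme.ΓSpecIso (CommRingCat.of R)).commRingCatIsoToRingEquiv
    (AlgebraicGeometry.Scheme.ΓSpecIso (CommRingCat.of S)).commRingCatIsoToRingEquiv (fun r => ?_) hs
  have h1 : f.appLE ⊤ ⊤ le_top ≫ (AlgebraicGeometry.Scheme.ΓSpecIso (CommRingCat.of S)).hom =
      (AlgebraicGeometry.Scheme.ΓSpecIso (CommRingCat.of R)).hom ≫ CommRingCat.ofHom (algebraMap R S) := by
    rw [show f.appLE ⊤ ⊤ le_top = f.app ⊤ from AlgebraicGeometry.Scheme.Hom.appLE_eq_app _]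
    exact AlgebraicGeometry.Scheme.ΓSpecIso_naturality _
  exact ConcreteCategory.congr_hom h1 r

end Groth.Agent.S9287
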