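import Groth.Statements.S4490
import Groth.Agent.FlatCxLib.Exact
import Mathlib.RingTheory.Filtration

set_option autoImplicit false
universe u
open FlatCx

namespace Groth.Agent.S4490

open CategoryTheory CategoryTheory.Limits in
/-- The case of the functor T_p(M) = H_p(P ⊗_A M) of a chain complex P of finitely generated flat
modules over a Noetherian local ring A with maximal ideal m and residue field k. Then T_p takes
surjections to surjections if and only if the map T_p(A) → T_p(k) induced by A → k is surjective;
and also if and only if, for all sufficiently large n (there is n₀ such that for every n ≥ n₀), the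
map T_p(A/m^(n+1)) → T_p(A/m) induced by the projection is surjective. (Surjectivity at one n gives
it at every smaller n, so this is the same as asking it for every n; at n = 0 alone the map is an
isomorphism and the condition would be empty.) -/
theorem result {A : Type u} [CommRing A] [IsNoetherianRing A]
    [IsLocalRing A] (P : ChainComplex (ModuleCat.{u} A) ℤ)
    (hP : ∀ i, Module.Finite A (P.X i) ∧ Module.Flat A (P.X i)) (p : ℤ) :
    ((CohIII.TFun P p).PreservesEpimorphisms ↔
      Function.Surjective ((CohIII.TFun P p).map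
        (ModuleCat.ofHom (Algebra.linearMap A (IsLocalRing.ResidueField A)))).hom) ∧
    ((CohIII.TFun P p).PreservesEpimorphisms ↔
      ∃ n₀ : ℕ, ∀ n : ℕ, n₀ ≤ n → Function.Surjective ((CohIII.TFun P p).map (ModuleCat.ofHom
        (Ideal.Quotient.factorₐ A (Ideal.pow_le_self (I := IsLocalRing.maximalIdeal A)
          (Nat.succ_ne_zero n))).toLinearMap :
        ModuleCat.of A (A ⧸ IsLocalRing.maximalIdeal A ^ (n + 1)) ⟶
          ModuleCat.of A (A ⧸ IsLocalRing.maximalIdeal A))).hom) := by
  have hr : p - 1 + 1 = p := by omega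
  have hf := fun i => (hP i).2
  have := (hP p).1
  have := (hP (p - 1)).1
  have := hf (p - 1)
  let k := IsLocalRing.ResidueField A
  have hmp : ∀ (C : ModuleCat.{u} A) (φ : C ⟶ ModuleCat.of A k), Function.Surjective φ.hom →
      (CohIII.TFun P p).PreservesEpimorphisms → Function.Surjective ((CohIII.TFun P p).map φ).hom := by
    intro C φ hφ h
    have : Epi φ := (ModuleCat.epi_iff_surjective _).mpr hφ
    exact (ModuleCat.epi_iff_surjective _).mp inferInstance
  refine ⟨⟨hmp (ModuleCat.of A A) _ IsLocalRing.residue_surjective, fun h => ?_⟩, fun h => ?_, fun h => ?_⟩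
  · exact (Groth.Agent.FlatCxLib.preservesEpi_iff_flat p (p - 1) hf hr).mpr
      (Groth.Agent.FlatCxLib.flat_of_surjAt (Groth.Agent.FlatCxLib.d_comp_d_hom P (p + 1) p (p - 1))
        (Groth.Agent.FlatCxLib.surjAt_of_surjective (p + 1) p (p - 1) rfl hr h))
  · exact ⟨0, fun n _ => hmp _ _ (Ideal.Quotient.factor_surjective (Ideal.pow_le_self (Nat.succ_ne_zero n))) h⟩
  · obtain ⟨n₀, hn₀⟩ := h
    refine (Groth.Agent.FlatCxLib.preservesEpi_iff_flat p (p - 1) hf hr).mpr
      (Groth.Agent.FlatCxLib.flat_of_surjAt (Groth.Agent.FlatCxLib.d_comp_d_hom P (p + 1) p (p - 1)) ?_)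
    let m := IsLocalRing.maximalIdeal A
    let g := (P.d p (p - 1)).hom
    obtain ⟨c, hc⟩ := m.exists_pow_inf_eq_pow_smul (LinearMap.range g)
    intro z hz
    let n := n₀ + c + 1
    obtain ⟨y, hy, w, hw⟩ := (Groth.Agent.FlatCxLib.TFun_map_surjective_iff (p + 1) p (p - 1) rfl hr _).mp
      (hn₀ n (by omega)) z hz
    obtain ⟨x, rfl⟩ : ∃ x : P.X p, TensorProduct.tmul A x (1 : A ⧸ m ^ (n + 1)) = y := by
      obtain ⟨x, hx⟩ := TensorProduct.mk_surjective A (P.X p) (A ⧸ m ^ (n + 1))
        Ideal.Quotient.mk_surjective (TensorProduct.comm A _ _ y)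
      exact ⟨x, (TensorProduct.comm A _ _).injective hx⟩
    have hgx : g x ∈ m ^ (n + 1) • (⊤ : Submodule A (P.X (p - 1))) := by
      have h1 := congrArg (TensorProduct.comm A _ _) hy
      rw [LinearMap.rTensor_tmul, map_zero, TensorProduct.comm_tmul] at h1
      have h2 := congrArg (TensorProduct.quotTensorEquivQuotSMul (P.X (p - 1)) (m ^ (n + 1))) h1
      rw [← map_one (Ideal.Quotient.mk (m ^ (n + 1))),
        TensorProduct.quotTensorEquivQuotSMul_mk_tmul, one_smul, map_zero,
        Submodule.Quotient.mk_eq_zero] at h2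
      exact h2
    obtain ⟨w', hw', hgw⟩ : g x ∈ (m • (⊤ : Submodule A (P.X p))).map g := by
      have h3 : g x ∈ m ^ (n + 1) • (⊤ : Submodule A (P.X (p - 1))) ⊓ LinearMap.range g :=
        ⟨hgx, x, rfl⟩
      rw [hc (n + 1) (by omega)] at h3
      rw [Submodule.map_smul'', Submodule.map_top]
      exact Submodule.smul_mono (Ideal.pow_le_self (by omega)) inf_le_right h3
    refine ⟨x - w', by rw [map_sub, hgw, sub_self], ?_⟩
    have h0 : TensorProduct.tmul A w' (1 : k) = 0 := by
      have : ∀ v ∈ m • (⊤ : Submodule A (P.X p)), TensorProduct.tmul A v (1 : k) = 0 := by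
        intro v hv
        induction hv using Submodule.smul_induction_on' with
        | smul a ha v _ =>
          rw [TensorProduct.smul_tmul, ← Algebra.algebraMap_eq_smul_one,
            show algebraMap A k a = 0 from (IsLocalRing.residue_eq_zero_iff a).mpr ha, TensorProduct.tmul_zero]
        | add a _ b _ ha hb => rw [TensorProduct.add_tmul, ha, hb, add_zero]
      exact this w' hw'
    rw [TensorProduct.sub_tmul, h0, sub_zero]
    exact ⟨w, hw⟩

end Groth.Agent.S4490
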