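import Groth.Statements.S12519
import Groth.Agent.FF.Quadratic

set_option autoImplicit false
open FunFld

namespace Groth.Agent.S12519

open WithZero Groth.Agent.FF


/-- Let `k` be perfect of characteristic `2`, `K` separable of degree `2` over `k(x)`, and `y ∈ K \
k(x)` with `y² + y = f(x)`. At a place `p` of `k(x)/k` where `f` has a pole of odd order there is a
unique place `P` of `K` above `p`, with `e(P|p) = 2` and `deg P = deg p` (residue degree `1`); at a
place where `f` has no pole, every place of `K` above it is unramified. The different is not stated. -/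
theorem result (k K : Type*) [Field k] [Field K] [PerfectField k] (h2 : ringChar k = 2)
    [Algebra k K] [Algebra (RatFunc k) K] [IsScalarTower k (RatFunc k) K]
    (hdeg : Module.finrank (RatFunc k) K = 2) [Algebra.IsSeparable (RatFunc k) K]
    (y : K) (hy : y ∉ Set.range (algebraMap (RatFunc k) K))
    (f : RatFunc k) (heq : y ^ 2 + y = algebraMap (RatFunc k) K f)
    (P₀ : FunFld.Place k (RatFunc k)) :
    ((P₀.ord f < 0 ∧ Odd (P₀.ord f)) → (∃! P : FunFld.Place k K, FunFld.IsOver P P₀) ∧
      ∀ P : FunFld.Place k K, FunFld.IsOver P P₀ → FunFld.IsOverWith P P₀ 2 ∧ P.deg = P₀.deg) ∧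
    (0 ≤ P₀.ord f → ∀ P : FunFld.Place k K, FunFld.IsOver P P₀ → FunFld.IsOverWith P P₀ 1) := by
  have : FiniteDimensional (RatFunc k) K := Module.finite_of_finrank_pos (by omega)
  have h20 : (2 : k) = 0 := by
    have := ringChar.Nat.cast_ringChar (R := k)
    rw [h2] at this; exact_mod_cast this
  have hy0 : y ≠ 0 := fun h => hy ⟨0, by rw [map_zero, h]⟩
  have hpole : ∀ Q : FunFld.Place k K, 1 < Q.1 y → Q.1 (y ^ 2 + y) = Q.1 y ^ 2 := fun Q hQ => by
    rw [Valuation.map_add_eq_of_lt_left Q.1 ?_, map_pow]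
    rw [map_pow, sq]
    calc Q.1 y = 1 * Q.1 y := (one_mul _).symm
      _ < Q.1 y * Q.1 y := mul_lt_mul_of_pos_right hQ (lt_trans zero_lt_one hQ)
  constructor
  · rintro ⟨hneg, hodd⟩
    refine ramified_of_odd isFF'_ratFunc hdeg fun Q e he => ?_
    have hf0 : f ≠ 0 := fun h => by simp [h] at hneg
    have hbig : 1 < Q.1 y := by
      by_contra hc
      have hle : Q.1 (algebraMap (RatFunc k) K f) ≤ 1 := by
        rw [← heq]
        exact (Q.1.map_add _ _).trans (max_le (by rw [map_pow]; exact pow_le_one' (not_lt.mp hc) 2) (not_lt.mp hc))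
      have := (val_le_one_iff P₀ hf0).mp ((ow_le_one_iff he f).mp hle)
      omega
    have h1 := ow_ord_eq he f
    rw [← heq, FunFld.Place.ord, hpole Q hbig, log_pow, nsmul_eq_mul] at h1
    push_cast at h1
    have h3 : Even ((e : ℤ) * P₀.ord f) := ⟨-log (Q.1 y), by linarith⟩
    rcases Int.even_mul.mp h3 with h | h
    · exact (Int.even_coe_nat e).mp h
    · exact absurd h (Int.not_even_iff_odd.mpr hodd)
  · intro hnn P hP
    refine unramified_of_approx isFF'_ratFunc hdeg hy (fun he N => ?_) hP
    have hvy : P.1 y ≤ 1 := by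
      by_contra hc
      have h1 := hpole P (not_le.mp hc)
      rw [heq] at h1
      have h3 : P.1 (algebraMap (RatFunc k) K f) ≤ 1 := by
        refine (ow_le_one_iff he f).mpr ?_
        rcases eq_or_ne f 0 with rfl | hf0
        · rw [map_zero]; exact zero_le
        · exact (val_le_one_iff P₀ hf0).mpr hnn
      rw [h1] at h3
      exact hc ((pow_le_one_iff two_ne_zero).mp h3)
    obtain ⟨a, -, ha⟩ := exists_residue_approx isFF'_ratFunc hdeg he hvy
    have h2K : (2 : RatFunc k) = 0 := by rw [← map_ofNat (algebraMap k (RatFunc k)) 2, h20, map_zero]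
    obtain ⟨b, hb⟩ := exists_approx_root ⟨2, he⟩ (u := 2 * a + 1) (g := f - a ^ 2 - a) ha
      (by rw [h2K, zero_mul, zero_add, map_one])
      (by rw [map_sub, map_sub, map_add, map_mul, map_ofNat, map_one, map_pow, ← heq]; ring) N
    exact ⟨a + b, by rwa [map_add, sub_add_eq_sub_sub]⟩

end Groth.Agent.S12519
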