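import Groth.Statements.S0985
import Groth.Agent.DCat.Hocolim
import Mathlib.Algebra.Homology.DerivedCategory.Basic
import Mathlib.Algebra.Homology.DerivedCategory.ShortExact

set_option autoImplicit false
set_option backward.isDefEq.respectTransparency false
set_option backward.defeqAttrib.useBackward true
universe w v u
open CategoryTheory CategoryTheory.Limits
open DerLim

namespace Groth.Agent.S0985

/-- Let A be an abelian category in which colimits of sequences ℕ ⥤ A exist and are exact, and let L : ℕ
⥤ CochainComplex A ℤ be a sequence of complexes. Then the image in the derived category of the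
termwise colimit of L, with the canonical maps from the Lₙ, is a homotopy colimit of the images of
the Lₙ — assuming the termwise direct sum of the Lₙ exists and is preserved by the localization
functor to D(A) (a known result, carried here as a hypothesis rather than proved), and that the
direct sum of the images exists in D(A). -/
theorem result {A : Type u} [Category.{v} A] [Abelian A] [HasDerivedCategory.{w} A]
    [HasColimitsOfShape ℕ A] [HasExactColimitsOfShape ℕ A]
    (L : ℕ ⥤ CochainComplex A ℤ) [HasCoproduct L.obj] [PreservesColimit (Discrete.functor L.obj) (DerivedCategory.Q (C := A))]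
    [HasCoproduct (fun n => DerivedCategory.Q.obj (L.obj n))] :
    DerLim.IsHocolim (fun n => DerivedCategory.Q.obj (L.obj n)) (fun n => DerivedCategory.Q.map (L.map (homOfLE (Nat.le_succ n))))
      (DerivedCategory.Q.obj (colimit L)) (fun n => DerivedCategory.Q.map (colimit.ι L n)) := by
  obtain ⟨w, hS⟩ := Groth.Agent.DCat.shortExact_telescope L (Groth.Agent.DCat.seqMono_complex (ComplexShape.up ℤ))
  let Φ := PreservesCoproduct.iso (DerivedCategory.Q (C := A)) L.obj
  refine ⟨DerivedCategory.triangleOfSESδ hS ≫ Φ.hom⟦(1 : ℤ)⟧', ?_⟩
  have hΦ : ∀ n, DerivedCategory.Q.map (Sigma.ι L.obj n) ≫ Φ.hom = Sigma.ι (fun n => DerivedCategory.Q.obj (L.obj n)) n := fun n => by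
    rw [← ι_comp_sigmaComparison DerivedCategory.Q L.obj n, Category.assoc, ← PreservesCoproduct.inv_hom, Iso.inv_hom_id,
      Category.comp_id]
  have hΦ' : ∀ n, Sigma.ι (fun n => DerivedCategory.Q.obj (L.obj n)) n ≫ Φ.inv = DerivedCategory.Q.map (Sigma.ι L.obj n) :=
    fun n => by rw [← hΦ, Category.assoc, Iso.hom_inv_id, Category.comp_id]
  refine Pretriangulated.isomorphic_distinguished _ (DerivedCategory.triangleOfSES_distinguished hS) _
    (Pretriangulated.Triangle.isoMk _ _ Φ.symm Φ.symm (Iso.refl _) ?_ ?_ ?_)
  · refine Sigma.hom_ext _ _ fun n => ?_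
    dsimp [DerivedCategory.triangleOfSES, DerLim.shiftMap]
    simp only [Preadditive.sub_comp, Preadditive.comp_sub, Category.id_comp, Sigma.ι_desc_assoc, Category.assoc, hΦ',
      reassoc_of% hΦ', ← Functor.map_comp, Category.comp_id, Sigma.ι_desc]
    exact (DerivedCategory.Q.map_sub).symm
  · refine Sigma.hom_ext _ _ fun n => ?_
    dsimp [DerivedCategory.triangleOfSES]
    simp only [Sigma.ι_desc, Category.comp_id, reassoc_of% hΦ', ← Functor.map_comp]
  · dsimp [DerivedCategory.triangleOfSES]
    simp [← Functor.map_comp]


end Groth.Agent.S0985
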