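import Groth.Statements.S1868
import Mathlib
import Groth.Agent.CycLib28.FiniteDeg

set_option autoImplicit false
universe u
open CategoryTheory AlgebraicGeometry
open Cyc

namespace Groth.Agent.S1868

/-- Let f : X → Y be finite locally free of constant degree d (finite, flat, rank function constantly
d). Then f has relative dimension 0 and for every k-cycle α on Y, f_*(f^*α) = d·α (for any cycle
f^*α on X with the flat-pullback coefficients). Here a pair (X, δ) with Cyc.IsSetup plays the role
of a scheme locally of finite type over a fixed base with a dimension function (X locally Noetherian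
with universally catenary local rings, δ a dimension function), and Cyc.DeltaCompat records that the
dimension function upstairs is the induced one. -/
theorem result (X Y : Scheme.{u}) (δX : X → ℤ) (δY : Y → ℤ) (hX : Cyc.IsSetup X δX) (hY : Cyc.IsSetup Y δY) (f : X ⟶ Y) [IsFinite f] [Flat f] (d : ℕ) (hd : ∀ y : Y, f.finrank y = d) (hδ : Cyc.DeltaCompat f δX δY) (k : ℤ) : Cyc.HasRelDim f 0 ∧ ∀ (α : AlgebraicCycle Y ℤ), α ∈ Cyc.Zk Y δY k → ∀ α' : AlgebraicCycle X ℤ, ⇑α' = Cyc.pullFun f δX δY 0 ⇑α → AlgebraicCycle.map f δX δY α' = d • α := by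
  have := hX.1
  have := hY.1
  refine ⟨fun y T hT ↦ ?_, fun α hα α' hα' ↦ ?_⟩
  · have hne : Nonempty T := hT.1.1.to_subtype
    have : Subsingleton T := ⟨fun a b ↦ Subtype.ext <| hT.1.2.subsingleton a.2 b.2⟩
    refine le_antisymm (topologicalKrullDim_zero_of_discreteTopology T) ?_
    haveI : Nonempty (TopologicalSpace.IrreducibleCloseds T) :=
      ⟨⟨Set.univ, ⟨Set.univ_nonempty, (Set.subsingleton_of_subsingleton).isPreirreducible⟩, isClosed_univ⟩⟩
    exact Order.krullDim_nonneg
  · refine Function.locallyFinsuppWithin.ext fun y ↦ ?_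
    obtain ⟨s, hs, hpos, hsum⟩ := Groth.Agent.CycLib28.sum_fibre_degree f y
    rw [Groth.Agent.CycLib28.map_apply_finset f δX δY α' y s (fun x hx ↦ (hs x).mp hx)
      (fun x hx _ ↦ (hs x).mpr hx)]
    rw [Function.locallyFinsuppWithin.coe_nsmul, Pi.smul_apply, nsmul_eq_mul, ← hd y, ← hsum, Nat.cast_sum,
      Finset.sum_mul]
    refine Finset.sum_congr rfl fun x hx ↦ ?_
    obtain ⟨h1, h2⟩ := Groth.Agent.CycLib28.mapCoeff_of_finite f hδ x (hpos x hx)
    rw [hα', Cyc.pullFun, if_pos (by omega), h2, Groth.Agent.CycLib28.lenFibre, show α y = α (f x) by rw [(hs x).mp hx]]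
    push_cast
    ring
end Groth.Agent.S1868
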