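import Groth.Statements.S1928
import Groth.Agent.CycLib28.Intersect.Iterate
import Groth.Agent.CycLib28.Graph

set_option autoImplicit false
universe u
open CategoryTheory AlgebraicGeometry
open Cyc

open Groth.Agent Groth.Agent.CycLib28 Groth.Agent.EulerLib Groth.Agent.CycLib28.K0

set_option linter.style.haveILetI false
set_option backward.isDefEq.respectTransparency.types false

namespace Groth.Agent.S1928

/-- Let X be proper over a field k with dim X ≤ 1 and L an invertible O_X-module. Then deg(L) := χ(X, L)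
− χ(X, O_X) equals the degree Σ_x [κ(x) : k] · n_x of the 0-cycle c_1(L) ∩ [X]_1 = Σ n_x [x],
computed with any nonzero rational sections (the degree is independent of the choice). Dimension
function: transcendence degree over k. (The source treats finite locally free modules of any
constant rank via c_1 of a vector bundle; only the invertible case is stated.) Here L(ξ) = L_ξ/𝔪_ξ
L_ξ is the space of rational sections of L on the closure of ξ, div_{L|W}(s) and c_1(L) ∩ α are
computed as coefficient functions from chosen nonzero rational sections (Cyc.secDivFun,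
Cyc.c1CapFun), and results are compared up to rational equivalence for any cycles with those
coefficients. -/
theorem result (k : Type u) [Field k] (X : Scheme.{u}) [X.Over (Spec (CommRingCat.of k))] [IsProper (X ↘ Spec (CommRingCat.of k))] (hdim : topologicalKrullDim X ≤ 1) (δ : X → ℤ) (hδ : Cyc.DeltaCompat (X ↘ Spec (CommRingCat.of k)) δ (fun _ => 0)) (L : X.Modules) (hL : PicF.IsInvertible L) (s : (ξ : X) → Cyc.secFibre L ξ) (hs : ∀ ξ, s ξ ≠ 0) : Curv2.deg k X L 1 = ∑ᶠ x : X, ((X ↘ Spec (CommRingCat.of k)).residueDegree x : ℤ) * Cyc.c1CapFun δ L (Cyc.subschemeFun δ 1 (𝟙 X)) s x := by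
  classical
  have hdf : Cyc.IsDimFun X δ := AlgSpLib.isDimFun_of_deltaCompat _ (CycLib28.isSetup_specField k) hδ
  haveI : IsLocallyNoetherian X := LocallyOfFiniteType.isLocallyNoetherian (X ↘ Spec (CommRingCat.of k))
  haveI : CompactSpace X := QuasiCompact.compactSpace_of_compactSpace (X ↘ Spec (CommRingCat.of k))
  haveI : JacobsonSpace X := LocallyOfFiniteType.jacobsonSpace (X ↘ Spec (CommRingCat.of k))
  have hle : ∀ x : X, δ x ≤ ((1 : ℕ) : ℤ) := fun x => by
    obtain ⟨h1, h2⟩ := CycLib28.dim_closure hdf (fun _ h => CycLib28.InterSheaf.delta_closed _ hδ h) x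
    have h3 : ((δ x).toNat : WithBot ℕ∞) ≤ ((1 : ℕ) : WithBot ℕ∞) :=
      h1.ge.trans ((topologicalKrullDim_subspace_le X _).trans (by exact_mod_cast hdim))
    have : (δ x).toNat ≤ 1 := by exact_mod_cast h3
    omega
  set O := Coh.structureModule X
  have hO : Cyc.CohLe δ ((1 : ℕ) : ℤ) O := ⟨Coherent.isCoh_structureModule X, fun x _ => hle x⟩
  have hfun : Cyc.subschemeFun δ 1 (𝟙 X) = Cyc.sheafFun δ 1 O := by
    funext x
    simp only [Cyc.subschemeFun, Cyc.sheafFun]
    split_ifs with hx
    · rw [show {w : X | (𝟙 X : X ⟶ X) w = x} = {x} from Set.ext fun w => Iff.rfl, finsum_mem_singleton]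
      rw [(LinearEquiv.ofBijective (LinearMap.toSpanSingleton (X.presheaf.stalk x) _ (AssSch12.unitOne x))
        (AssSch12.bijective_smul_unitOne x)).length_eq]
    · rfl
  obtain ⟨a, ha⟩ := exists_sheafFun_cycle hdf O hO.1 ((1 : ℕ) : ℤ) hO.2
  obtain ⟨α, hα⟩ := exists_c1Cap_cycle hdf hL a s hs
  have hmain := Intersect.interDeg_eq_deg k hdf hδ 1 (fun _ => L) (fun _ => hL) (fun _ => s) (fun _ => hs)
    (fun i => match i with
      | 0 => ⇑a
      | _ + 1 => ⇑α)
    (fun i h => by obtain rfl : i = 0 := by omega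
                   exact hα)
    (Cyc.toK0CohQuot δ ((1 : ℕ) : ℤ) (((1 : ℕ) : ℤ) - 1) O) (by rw [K0.cycleHom_cls hdf _ hO, ← ha]) α rfl
  rw [Intersect.chiHom_cls hdf hδ _ _ hO] at hmain
  have hL1 : EulerLib.interDeg (fun _ : Fin 1 => InvCl.mk L hL) (chiCl k O) = Curv2.deg k X L 1 := by
    rw [show (fun _ : Fin 1 => InvCl.mk L hL) = Fin.cons (InvCl.mk L hL) Fin.elim0 from funext fun i => by
      obtain rfl : i = 0 := Subsingleton.elim _ _; rfl, interDeg_cons, interDeg_zero, mul_one, chiCl_one,
      chiCl_mk, Curv2.deg, EulerLib.euler_congr k X (AmpleLib.unitTensorIso L)]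
    simp [O]
  have hαk : ∀ x, α x ≠ 0 → δ x = 0 := fun x hx => by
    by_contra h
    refine hx (Intersect.c1CapFun_mem_Zk (m := (0 : ℤ)) (⇑a) (fun y hy => ?_) s α hα x h)
    rw [ha]; simp only [Cyc.sheafFun]
    rw [if_neg (by simpa using hy)]
  have hfin : (Function.support (α : X → ℤ)).Finite := by
    simpa using α.locallyFiniteSupport.finite_inter_support_of_isCompact (W := Set.univ) isCompact_univ
  rw [← hL1, hmain, ChowOps.deg, map_apply_finset _ δ (fun _ => (0 : ℤ)) α _ hfin.toFinset
      (fun x _ => Subsingleton.elim (α := PrimeSpectrum k) _ _) (fun x _ hx => hfin.mem_toFinset.2 hx),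
    show Cyc.subschemeFun δ 1 (𝟙 X) = ⇑a from hfun.trans (by rw [ha]; rfl), ← hα,
    finsum_eq_sum_of_support_subset _ (s := hfin.toFinset) fun x hx => by
      simp only [Set.Finite.coe_toFinset, Function.mem_support]; exact right_ne_zero_of_mul hx]
  refine Finset.sum_congr rfl fun x hx => ?_
  rw [AlgebraicCycle.mapCoeff, if_pos (hαk x (hfin.mem_toFinset.1 hx)), mul_comm]
end Groth.Agent.S1928
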