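import Groth.Statements.S12672
import Groth.Agent.S14508
import Groth.Agent.S7638
import Groth.Agent.S1928
import Groth.Agent.Surf15.DetExist
import Groth.Agent.Canon15.TopDiff
import Groth.Agent.CycLib28.C1Push
import Groth.Agent.CycLib28.PushAny
import Groth.Agent.CycLib28.PB.PushPow
import Groth.Agent.KModel28.Basic
import Groth.Agent.EulerLib.Additive

set_option autoImplicit false
set_option linter.style.haveILetI false
set_option backward.isDefEq.respectTransparency false
universe u
open CategoryTheory CategoryTheory.Limits AlgebraicGeometry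
open Cyc

namespace Groth.Agent.S12672

/-- Let X be proper over a field K with dim X ≤ 1 and E a finite locally free O_X-module of constant
rank r. Then deg(E) = deg(c_1(E) ∩ [X]_1), where deg(E) = χ(X, E) - r·χ(X, O_X) (Curv2.deg) and the
right side is the degree (ChowOps.deg, pushforward to the point) of a representative of c_1(E) ∩
[X]_1, [X]_1 being the 1-cycle of X (Cyc.subschemeFun); for r = 0 both sides are 0. Dimension
function: transcendence degree over K. (This is the general constant-rank case; the invertible case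
is a separate result stated with c_1(L) ∩ - of an invertible module.) Setting: (X, δ) with
Cyc.IsSetup stands for a scheme locally of finite type over the base (S, δ) (X locally Noetherian
with universally catenary local rings, δ a dimension function); (p : P → X, O_P(1), q) is the
projective bundle of E given by its universal property (KRR.IsProjBundle), p is proper and δP is the
induced dimension function (Cyc.DeltaCompat); a tuple γ with Cyc.IsChernCap represents (c_0(E) ∩ α,
…, c_r(E) ∩ α) through the defining relation Σ_i (-1)^i c_1(O_P(1))^i ∩ p^*(γ_{r-i}) ∼_rat 0 on P,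
and classes are compared up to rational equivalence of representing cycles. -/
theorem result (K : Type u) [Field K] (X : Scheme.{u}) [X.Over (Spec (CommRingCat.of K))] [IsProper (X ↘ Spec (CommRingCat.of K))] (hdim : topologicalKrullDim X ≤ 1) (δ : X → ℤ) (hX : Cyc.IsSetup X δ) (hK : Cyc.DeltaCompat (X ↘ Spec (CommRingCat.of K)) δ (fun _ => 0)) (r : ℕ) (E : X.Modules) (hPE : FlatMod.IsFinLocFreeOfRank r E) (P : Scheme.{u}) (p : P ⟶ X) (O1 : P.Modules) (q : (Scheme.Modules.pullback p).obj E ⟶ O1) (hP : KRR.IsProjBundle p E O1 q) [IsProper p] (δP : P → ℤ) (hPs : Cyc.IsSetup P δP) (hδ : Cyc.DeltaCompat p δP δ) (α : AlgebraicCycle X ℤ) (hα : ⇑α = Cyc.subschemeFun δ 1 (𝟙 X)) (γ : Fin (r + 1) → AlgebraicCycle X ℤ) (hγ : Cyc.IsChernCap p δ δP O1 r 1 α γ) : Curv2.deg K X E r = (if h : 1 ≤ r then ChowOps.deg (X ↘ Spec (CommRingCat.of K)) δ (γ ⟨1, Nat.lt_succ_of_le h⟩) else 0) := by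
  classical
  haveI : IsLocallyNoetherian X := LocallyOfFiniteType.isLocallyNoetherian (X ↘ Spec (CommRingCat.of K))
  have hdf : Cyc.IsDimFun X δ := hX.2.2
  split_ifs with h
  · obtain ⟨r, rfl⟩ : ∃ r', r = r' + 1 := ⟨r - 1, by omega⟩
    obtain ⟨L, hL⟩ := Groth.Agent.Surf15.exists_isExtPow (n := r + 1) hPE
    have hLinv := Groth.Agent.Canon15.isInvertible_of_isExtPow hPE hL
    have hne : ∀ ξ : X, ∃ t : Cyc.secFibre L ξ, t ≠ 0 := fun ξ => by
      obtain ⟨U, hξU, e, he⟩ := Groth.Agent.PicLib.exists_isGen hLinv ξ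
      refine ⟨Submodule.Quotient.mk ((1 : X.presheaf.stalk ξ) • L.presheaf.germ U ξ hξU e), fun h0 => ?_⟩
      have h1 := (Groth.Agent.CycLib28.mk_eq_zero_iff_gen he hξU 1).mp h0
      exact one_ne_zero (h1.symm.trans (map_one _)).symm
    choose s hs using hne
    obtain ⟨β, hβ⟩ := Groth.Agent.CycLib28.exists_c1Cap_cycle hdf hLinv α s hs
    have hα' : α ∈ Cyc.Zk X δ 1 := by
      intro x hx
      rw [hα]
      simp [Cyc.subschemeFun, hx]
    have hrat : Cyc.RatEquiv δ (1 - 1) (γ 1) β :=
      Groth.Agent.S14508.result X δ hX E r hPE P p O1 q hP δP hPs hδ 1 α hα' γ hγ L hL s hs β hβ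
    rw [show (γ ⟨1, Nat.lt_succ_of_le h⟩) = γ 1 from rfl]
    rw [Groth.Agent.S7638.result K X hdim (r + 1) E hPE L hL,
      Groth.Agent.S1928.result K X hdim δ hK L hLinv s hs]
    haveI : CompactSpace X := QuasiCompact.compactSpace_of_compactSpace (X ↘ Spec (CommRingCat.of K))
    have hS : Cyc.IsDimFun (Spec (CommRingCat.of K)) (fun _ => (0 : ℤ)) :=
      (Groth.Agent.CycLib28.isSetup_specField K).2.2
    have hmap := Groth.Agent.CycLib28.map_ratEquivZero hdf hS (X ↘ Spec (CommRingCat.of K)) hK (1 - 1)
      (γ 1 - β) hrat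
    obtain ⟨ι, ξ, f, hξ, -, -, hsum⟩ := hmap
    haveI : IsEmpty ι := ⟨fun a => absurd (hξ a) (by norm_num)⟩
    have h0 := hsum (IsLocalRing.closedPoint K)
    rw [finsum_of_isEmpty, Groth.Agent.CycLib28.PB.map_sub_apply] at h0
    have hdeg : ChowOps.deg (X ↘ Spec (CommRingCat.of K)) δ (γ 1) = ChowOps.deg (X ↘ Spec (CommRingCat.of K)) δ β :=
      sub_eq_zero.1 h0
    rw [hdeg, ChowOps.deg]
    have hfin : (Function.support (β : X → ℤ)).Finite := by
      simpa using β.locallyFiniteSupport.finite_inter_support_of_isCompact (W := Set.univ) isCompact_univ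
    rw [Groth.Agent.CycLib28.map_apply_finset _ δ (fun _ => (0 : ℤ)) β _ hfin.toFinset
        (fun x _ => Subsingleton.elim (α := PrimeSpectrum K) _ _) (fun x _ hx => hfin.mem_toFinset.2 hx),
      ← hα, ← hβ,
      finsum_eq_sum_of_support_subset _ (s := hfin.toFinset) fun x hx => by
        simp only [Set.Finite.coe_toFinset, Function.mem_support]; exact right_ne_zero_of_mul hx]
    refine Finset.sum_congr rfl fun x hx => ?_
    have hx0 : δ x = 0 := by
      have hm := Groth.Agent.CycLib28.PB.Ops.c1Cap_mem hα' hβ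
      by_contra h0
      exact (hfin.mem_toFinset.1 hx) (hm x (by simpa using h0))
    rw [AlgebraicCycle.mapCoeff, if_pos hx0, mul_comm]
  · obtain rfl : r = 0 := by omega
    have hE0 := Groth.Agent.KModel28.isZero_of_rank_zero hPE
    rw [Curv2.deg, Groth.Agent.EulerLib.euler_of_isZero K X hE0]
    simp

end Groth.Agent.S12672
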