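import Groth.Statements.S15801
import Mathlib
import Groth.Prelude
import Groth.Agent.CAlgH.PowerSeriesEval
import Groth.Agent.WildLib5.Coprod
import Groth.Agent.CAlgH.CompleteLocal
import Groth.Agent.CAlgH3.CompleteHom
import Groth.Agent.CAlgH.AdicSmoothModel
import Groth.Agent.DimLib.Algebra

set_option linter.all false

set_option autoImplicit false
universe u v
open WildQuot

open Groth.Agent IsLocalRing

namespace Groth.Agent.S15801

/-- Let `A` be a complete regular local ring of Krull dimension `n`, `k` a field with `k → A` mapping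
onto the residue field, `x_1, …, x_n ∈ A` a system of parameters (the radical of `(x_1, …, x_n)` is
the maximal ideal), and `φ : k[[X_1, …, X_n]] → A` the `k`-algebra map with `φ X_i = x_i`. Then `A`
is a finite free module over `k[[X_1, …, X_n]]` through `φ`, of rank the length `d` of `A / (x_1, …,
x_n)`: there are `b_1, …, b_d ∈ A` such that `(r_1, …, r_d) ↦ Σ φ(r_i) b_i` is a bijection from
`d`-tuples of power series onto `A`. -/
theorem result
    (A : Type u) [CommRing A] [IsRegularLocalRing A]
    [IsAdicComplete (IsLocalRing.maximalIdeal A) A] (n : ℕ) (hn : ringKrullDim A = n)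
    (k : Type v) [Field k] [Algebra k A]
    (hk : Function.Surjective (IsLocalRing.residue A ∘ algebraMap k A))
    (x : Fin n → A) (hx : (Ideal.span (Set.range x)).radical = IsLocalRing.maximalIdeal A)
    (φ : MvPowerSeries (Fin n) k →ₐ[k] A) (hφ : ∀ i, φ (MvPowerSeries.X i) = x i) :
    ∃ (d : ℕ) (b : Fin d → A), (d : ℕ∞) = Module.length A (A ⧸ Ideal.span (Set.range x)) ∧
      Function.Bijective (fun r : Fin d → MvPowerSeries (Fin n) k => ∑ i, φ (r i) * b i) := by
  classical
  haveI : IsDomain A := CAlgH3.isDomain_of_isRegularLocalRing A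
  set R := MvPowerSeries (Fin n) k
  haveI : IsRegularLocalRing R := (CAlgH.isRegularLocalRing_mvPowerSeries k n).1
  haveI : IsDomain R := NoZeroDivisors.to_isDomain _
  set J := Ideal.span (Set.range x) with hJ
  have hxm : ∀ i, x i ∈ maximalIdeal A := fun i => hx ▸ Ideal.le_radical (Ideal.subset_span ⟨i, rfl⟩)
  haveI : IsArtinianRing (A ⧸ J) := by
    refine isArtinianRing_iff_isNoetherianRing_krullDimLE_zero.2 ⟨inferInstance, Ring.krullDimLE_zero_iff.2 fun P hP => ?_⟩
    have hle : maximalIdeal A ≤ P.comap (Ideal.Quotient.mk J) := by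
      rw [← hx, ← (Ideal.IsPrime.comap (Ideal.Quotient.mk J) (hK := hP)).radical]
      exact Ideal.radical_mono fun z hz => by rw [Ideal.mem_comap, Ideal.Quotient.eq_zero_iff_mem.2 hz]; exact P.zero_mem
    rw [← Ideal.map_comap_of_surjective _ Ideal.Quotient.mk_surjective P,
      ← (maximalIdeal.isMaximal A).eq_of_le (Ideal.IsPrime.comap (Ideal.Quotient.mk J) (hK := hP)).ne_top hle]
    exact (Ideal.map_eq_top_or_isMaximal_of_surjective _ Ideal.Quotient.mk_surjective (maximalIdeal.isMaximal A)).resolve_left
      fun h => (maximalIdeal.isMaximal A).ne_top (top_le_iff.1 (by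
        calc ⊤ = (⊤ : Ideal (A ⧸ J)).comap (Ideal.Quotient.mk J) := (Ideal.comap_top).symm
          _ ≤ maximalIdeal A := by
            rw [← h, Ideal.comap_map_of_surjective _ Ideal.Quotient.mk_surjective, ← RingHom.ker_eq_comap_bot, Ideal.mk_ker]
            exact sup_le le_rfl (Ideal.span_le.2 (by rintro _ ⟨i, rfl⟩; exact hxm i))))
  haveI : IsLocalHom (algebraMap k A) := ⟨fun c hc => (Ne.isUnit fun h => by rw [h, map_zero] at hc; exact not_isUnit_zero hc)⟩
  have hres : Function.Surjective (algebraMap (ResidueField k) (ResidueField A)) := fun y => by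
    obtain ⟨c, hc⟩ := hk y
    exact ⟨residue k c, by rw [ResidueField.algebraMap_residue]; exact hc⟩
  have h1 : Module.length (ResidueField k) (ResidueField A) = 1 := by
    rw [← (LinearEquiv.ofBijective (Algebra.linearMap (ResidueField k) (ResidueField A)) ⟨RingHom.injective _, hres⟩).length_eq,
      Module.length_eq_one]
  have hlen := IsLocalRing.length_restrictScalars k A (A ⧸ J)
  rw [h1, mul_one] at hlen
  haveI : IsArtinian A (A ⧸ J) := isArtinian_of_surjective_algebraMap (R := A ⧸ J) (Ideal.Quotient.mk_surjective (I := J))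
  have hfinA : Module.length A (A ⧸ J) ≠ ⊤ := Module.length_ne_top
  haveI : IsNoetherian k (A ⧸ J) :=
    (isFiniteLength_iff_isNoetherian_isArtinian.1 (Module.length_ne_top_iff.1 (hlen ▸ hfinA : Module.length k (A ⧸ J) ≠ ⊤))).1
  haveI : Module.Finite k (A ⧸ J) := inferInstance
  have hJφ : Ideal.span (Set.range fun i => φ.toRingHom (MvPowerSeries.X i)) = J := by
    rw [hJ]; congr 2; exact funext hφ
  have hfin : φ.toRingHom.Finite := by
    refine CAlgH.finite_mvPowerSeries_hom φ.toRingHom (maximalIdeal A) (fun i => by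
      show φ _ ∈ _; rw [hφ]; exact hxm i) ?_
    rw [hJφ, show φ.toRingHom.comp MvPowerSeries.C = algebraMap k A from RingHom.ext fun c => φ.commutes c]
    exact (RingHom.finite_algebraMap (A := k) (B := A ⧸ J)).2 inferInstance
  letI := φ.toRingHom.toAlgebra
  haveI : IsScalarTower k R A := IsScalarTower.of_algebraMap_eq fun c => (φ.commutes c).symm
  haveI : Module.Finite R A := hfin
  haveI : Algebra.IsIntegral R A := Algebra.IsIntegral.of_finite R A
  have hinj : Function.Injective (algebraMap R A) := by
    rw [injective_iff_map_eq_zero]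
    intro r hr
    by_contra hr0
    set K := RingHom.ker (algebraMap R A) with hK
    letI := (RingHom.kerLift (algebraMap R A)).toAlgebra
    haveI : IsScalarTower R (R ⧸ K) A := ⟨fun r s a => by obtain ⟨s, rfl⟩ := Ideal.Quotient.mk_surjective s; show algebraMap R A (r * s) * a = r • (algebraMap R A s * a); rw [map_mul, Algebra.smul_def, mul_assoc]⟩
    haveI : Algebra.IsIntegral (R ⧸ K) A := Algebra.IsIntegral.tower_top R
    have h2 : ringKrullDim (R ⧸ K) = n := by
      rw [DimLib.ringKrullDim_eq_of_isIntegral (R := R ⧸ K) (S := A) (RingHom.kerLift_injective _), hn]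
    have h3 : ringKrullDim (R ⧸ K) ≤ ringKrullDim (R ⧸ Ideal.span {r}) :=
      ringKrullDim_le_of_surjective _ (Ideal.Quotient.factor_surjective ((Ideal.span_singleton_le_iff_mem _).2 (show r ∈ K from hr)))
    have h4 := ringKrullDim_quotient_succ_le_of_nonZeroDivisor (mem_nonZeroDivisors_of_ne_zero hr0)
    have h5 : ringKrullDim R = n := by
      rw [show ringKrullDim R = _ from CAlgH.AdicSmooth.ringKrullDim_mvPowerSeries_regular k n, ringKrullDim_eq_zero_of_field, zero_add]
    rw [h2] at h3
    rw [h5] at h4
    have h6 : ((n + 1 : ℕ) : WithBot ℕ∞) ≤ ((n : ℕ) : WithBot ℕ∞) := by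
      push_cast; exact (add_le_add h3 le_rfl).trans h4
    exact absurd (Nat.cast_le.1 h6) (by omega)
  haveI := WildLib5.free_of_regular_finite (R := R) A hinj
  let bb := Module.Free.chooseBasis R A
  let eι := Fintype.equivFin (Module.Free.ChooseBasisIndex R A)
  let b := bb.reindex eι
  refine ⟨_, b, ?_, ?_⟩
  · haveI : IsLocalHom (algebraMap R A) :=
      RingHom.IsIntegral.isLocalHom (Algebra.IsIntegral.isIntegral (R := R) (A := A)) hinj
    have hresR : Function.Surjective (algebraMap (ResidueField R) (ResidueField A)) := fun y => by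
      obtain ⟨c, hc⟩ := hk y
      refine ⟨residue R (MvPowerSeries.C c), ?_⟩
      rw [ResidueField.algebraMap_residue, show algebraMap R A (MvPowerSeries.C c) = algebraMap k A c from φ.commutes c]
      exact hc
    have h1R : Module.length (ResidueField R) (ResidueField A) = 1 := by
      rw [← (LinearEquiv.ofBijective (Algebra.linearMap (ResidueField R) (ResidueField A)) ⟨RingHom.injective _, hresR⟩).length_eq,
        Module.length_eq_one]
    have hlR := IsLocalRing.length_restrictScalars R A (A ⧸ J)
    rw [h1R, mul_one] at hlR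
    rw [← hlR]
    have hmap : (maximalIdeal R).map (algebraMap R A) = J := by
      rw [CAlgH3.maximalIdeal_mvPowerSeries_eq, Ideal.map_span, ← Set.range_comp, ← hJφ]; rfl
    rw [← hmap, ((Algebra.TensorProduct.quotIdealMapEquivTensorQuot A (maximalIdeal R)).toLinearEquiv.restrictScalars R).length_eq,
      (TensorProduct.equivFinsuppOfBasisLeft (N := R ⧸ maximalIdeal R) b).length_eq, Module.length_finsupp]
    haveI : IsSimpleModule R (R ⧸ maximalIdeal R) := isSimpleModule_iff_isCoatom.mpr (maximalIdeal.isMaximal R).out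
    simp [Module.length_eq_one, ENat.card_eq_coe_fintype_card]
  · have : (fun r : Fin (Fintype.card (Module.Free.ChooseBasisIndex R A)) → R => ∑ i, φ (r i) * b i) = ⇑b.equivFun.symm := by
      funext r
      rw [b.equivFun_symm_apply]
      rfl
    rw [this]
    exact b.equivFun.symm.bijective

end Groth.Agent.S15801
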