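import Mathlib.Topology.Spectral.Basic
import Mathlib.Topology.Spectral.ConstructibleTopology
import Mathlib.Topology.Connected.TotallyDisconnected
import Groth.Agent.SpecSp.Basic

set_option autoImplicit false
universe u
namespace SpecSp
end SpecSp
open SpecSp

namespace Groth.Agent.S7579

/-- Let X be a spectral space. Then X with its constructible topology is Hausdorff and totally
disconnected. The published statement also asserts that the constructible topology is quasi-compact;
this row states the Hausdorff and totally disconnected parts. -/
theorem result (X : Type u) [TopologicalSpace X] [SpectralSpace X] :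
    T2Space (WithConstructibleTopology X) ∧ TotallyDisconnectedSpace (WithConstructibleTopology X) := by
  have h : ∀ x y : WithConstructibleTopology X, x ≠ y → ∃ U : Set (WithConstructibleTopology X),
      IsClopen U ∧ x ∈ U ∧ y ∈ Uᶜ := fun x y hxy => by
    obtain ⟨U, hU, hU', hx, hy⟩ := Groth.Agent.H8ProCons.exists_clopen_separating (X := X)
      (fun he => hxy ((WithTopology.ofTopology_injective (t := constructibleTopology X)) he))
    refine ⟨WithTopology.ofTopology ⁻¹' U, ⟨⟨?_⟩, ?_⟩, hx, hy⟩
    · exact WithConstructibleTopology.isOpen_iff.2 hU'
    · exact WithConstructibleTopology.isOpen_iff.2 hU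
  have : TotallySeparatedSpace (WithConstructibleTopology X) := totallySeparatedSpace_iff_exists_isClopen.2 h
  exact ⟨⟨fun x y hxy => by
    obtain ⟨U, hU, hx, hy⟩ := h x y hxy
    exact ⟨U, Uᶜ, hU.2, hU.compl.2, hx, hy, disjoint_compl_right⟩⟩, inferInstance⟩

end Groth.Agent.S7579
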