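import Mathlib.Topology.Spectral.Basic
import Groth.Agent.SpecSp.Basic

set_option autoImplicit false
universe u
namespace SpecSp
end SpecSp
open SpecSp

namespace Groth.Agent.S7527

/-- Let X be a spectral space and x, y ∈ X. Then either there is a third point specializing to both x
and y, or there are disjoint open neighbourhoods of x and of y. -/
theorem result {X : Type u} [TopologicalSpace X] [SpectralSpace X] (x y : X) :
    (∃ z : X, z ⤳ x ∧ z ⤳ y) ∨
    (∃ U V : Set X, IsOpen U ∧ IsOpen V ∧ x ∈ U ∧ y ∈ V ∧ Disjoint U V) := by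
  classical
  by_cases h : ∃ z : X, z ⤳ x ∧ z ⤳ y
  · exact Or.inl h
  right
  let ι := {U : Set X // IsOpen U ∧ IsCompact U ∧ x ∈ U} ⊕ {U : Set X // IsOpen U ∧ IsCompact U ∧ y ∈ U}
  let A : ι → Set X := Sum.elim (fun U => U.1) (fun U => U.1)
  by_contra hne
  obtain ⟨z, hz⟩ := Groth.Agent.SpecSp.nonempty_iInter_cons A
    (by rintro (U | U) <;> exact Groth.Agent.SpecSp.isClosed_cons_of_isCompactOpen U.2.1 U.2.2.1) (fun s => by
      by_contra he
      refine hne ⟨⋂ U ∈ s.toLeft, U.1, ⋂ U ∈ s.toRight, U.1, isOpen_biInter_finset fun U _ => U.2.1,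
        isOpen_biInter_finset fun U _ => U.2.1, Set.mem_iInter₂.2 fun U _ => U.2.2.2,
        Set.mem_iInter₂.2 fun U _ => U.2.2.2, Set.disjoint_left.2 fun z hzl hzr => he ⟨z, Set.mem_iInter₂.2 ?_⟩⟩
      rintro (U | U) hU
      · exact Set.mem_iInter₂.1 hzl U (Finset.mem_toLeft.2 hU)
      · exact Set.mem_iInter₂.1 hzr U (Finset.mem_toRight.2 hU))
  refine h ⟨z, specializes_iff_forall_open.2 fun V hV hxV => ?_, specializes_iff_forall_open.2 fun V hV hxV => ?_⟩
  · obtain ⟨W, hW, hWc, hxW, hWV⟩ := Groth.Agent.SpecSp.exists_compactOpen hV hxV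
    exact hWV (Set.mem_iInter.1 hz (Sum.inl ⟨W, hW, hWc, hxW⟩))
  · obtain ⟨W, hW, hWc, hxW, hWV⟩ := Groth.Agent.SpecSp.exists_compactOpen hV hxV
    exact hWV (Set.mem_iInter.1 hz (Sum.inr ⟨W, hW, hWc, hxW⟩))

end Groth.Agent.S7527
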