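import Mathlib.Topology.Spectral.Basic
import Mathlib.Topology.Spectral.Hom
import Mathlib.Topology.Inseparable
import Mathlib.Topology.Homeomorph.Defs
import Groth.Agent.SpecSp.Basic

set_option autoImplicit false
universe u
namespace SpecSp
end SpecSp
open SpecSp

namespace Groth.Agent.S7530

/-- Let f : X → Y be a map of spectral spaces which is spectral and bijective, and assume that
generalizations lift along f or that specializations lift along f. Then f is a homeomorphism. -/
theorem result {X Y : Type u} [TopologicalSpace X] [TopologicalSpace Y]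
    [SpectralSpace X] [SpectralSpace Y] (f : X → Y) (hf : IsSpectralMap f) (hb : Function.Bijective f)
    (hlift : GeneralizingMap f ∨ SpecializingMap f) :
    IsHomeomorph f := by
  refine ⟨hf.continuous, ?_, hb⟩
  have himg : ∀ s : Set X, f '' s = (f '' sᶜ)ᶜ := fun s => by
    rw [← Set.image_compl_eq hb, compl_compl]
  rcases hlift with h | h
  · intro V hV
    obtain ⟨S, hS, rfl⟩ := PrespectralSpace.isTopologicalBasis.open_eq_sUnion hV
    rw [Set.image_sUnion]
    refine isOpen_sUnion ?_
    rintro _ ⟨U, hU, rfl⟩
    refine Groth.Agent.SpecSp.isOpen_of_cons_of_stable ?_ (h.stableUnderGeneralization_image (hS hU).1.stableUnderGeneralization)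
    rw [himg]
    exact (@isOpen_compl_iff Y _ (constructibleTopology Y)).2 (Groth.Agent.SpecSp.isClosed_cons_image hf
      (Groth.Agent.SpecSp.isClosed_cons_of_isClosed (hS hU).1.isClosed_compl))
  · intro V hV
    rw [himg]
    exact (Groth.Agent.SpecSp.isClosed_of_cons_of_stable (Groth.Agent.SpecSp.isClosed_cons_image hf
      (Groth.Agent.SpecSp.isClosed_cons_of_isClosed hV.isClosed_compl))
      (h.stableUnderSpecialization_image hV.isClosed_compl.stableUnderSpecialization)).isOpen_compl

end Groth.Agent.S7530
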