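import Mathlib.Topology.Connected.Clopen
import Mathlib.Topology.Spectral.Prespectral
import Mathlib.Topology.QuasiSeparated
import Groth.Agent.SpecSp.Limit

set_option autoImplicit false
universe u
namespace PtTop
end PtTop
open PtTop

namespace Groth.Agent.S7566

/-- Let X be a quasi-compact topological space whose quasi-compact opens form a basis, any two of them
meeting in a quasi-compact set. Then for every x ∈ X the connected component of x equals the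
intersection of every clopen subset of X that contains x. -/
theorem result {X : Type u} [TopologicalSpace X]
    [CompactSpace X] [PrespectralSpace X] [QuasiSeparatedSpace X] (x : X) :
    connectedComponent x = ⋂₀ {Z : Set X | IsClopen Z ∧ x ∈ Z} := by
  classical
  refine Set.Subset.antisymm (Set.subset_sInter fun Z hZ => hZ.1.connectedComponent_subset hZ.2) ?_
  let ι := {Z : Set X // IsClopen Z ∧ x ∈ Z}
  let T := ⋂₀ {Z : Set X | IsClopen Z ∧ x ∈ Z}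
  have hT : IsClosed T := isClosed_sInter fun Z hZ => hZ.1.isClosed
  have hfin : ∀ K : Set X, IsCompact K → Disjoint K T → ∃ Z : ι, Disjoint K Z.1 := by
    intro K hK hKT
    obtain ⟨t, ht⟩ := hK.elim_finite_subfamily_closed (fun Z : ι => Z.1) (fun Z => Z.2.1.isClosed)
      (Set.disjoint_left.2 (fun z hzK hz => Set.disjoint_left.1 hKT hzK (Set.mem_sInter.2 fun Z hZ => Set.mem_iInter.1 hz ⟨Z, hZ⟩)) |>.inter_eq)
    exact ⟨⟨⋂ Z ∈ t, Z.1, isClopen_biInter_finset fun Z _ => Z.2.1, Set.mem_iInter₂.2 fun Z _ => Z.2.2⟩,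
      Set.disjoint_iff_inter_eq_empty.2 ht⟩
  refine IsPreconnected.subset_connectedComponent ?_ (Set.mem_sInter.2 fun Z hZ => hZ.2)
  rw [isPreconnected_closed_iff]
  intro A B hA hB hcov hAne hBne
  by_contra hne
  have hdisj : Disjoint (T ∩ A) B := Set.disjoint_left.2 fun z hz hzB => hne ⟨z, hz.1, hz.2, hzB⟩
  obtain ⟨U, hUc, hU, hAU, hUB⟩ := PrespectralSpace.exists_isCompact_and_isOpen_between
    (hT.inter hA).isCompact hB.isOpen_compl (Set.subset_compl_iff_disjoint_right.2 hdisj)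
  obtain ⟨V, hVc, hV, hBV, hVA⟩ := PrespectralSpace.exists_isCompact_and_isOpen_between
    (hT.inter hB).isCompact (hT.inter hA).isOpen_compl
    (fun z hz hz' => hne ⟨z, hz.1, hz'.2, hz.2⟩)
  obtain ⟨W, hW⟩ := hfin (U ∩ V) (QuasiSeparatedSpace.inter_isCompact _ _ hU hUc hV hVc)
    (Set.disjoint_left.2 fun z hz hzT => (hcov hzT).elim (fun h => hVA hz.2 ⟨hzT, h⟩) (fun h => hUB hz.1 h))
  obtain ⟨W', hW'⟩ := hfin (U ∪ V)ᶜ (hU.union hV).isClosed_compl.isCompact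
    (Set.disjoint_left.2 fun z hz hzT => hz ((hcov hzT).imp (fun h => hAU ⟨hzT, h⟩) (fun h => hBV ⟨hzT, h⟩)))
  have hWW : ∀ z ∈ W.1 ∩ W'.1, (z ∈ U ∪ V) ∧ ¬ (z ∈ U ∧ z ∈ V) := fun z hz =>
    ⟨by_contra fun h => Set.disjoint_left.1 hW' h hz.2, fun h => Set.disjoint_left.1 hW h hz.1⟩
  have hcl : ∀ U V : Set X, IsOpen U → IsOpen V → (∀ z ∈ W.1 ∩ W'.1, (z ∈ U ∪ V) ∧ ¬ (z ∈ U ∧ z ∈ V)) →
      IsClopen (W.1 ∩ W'.1 ∩ U) := fun U V hU hV h => by
    refine ⟨?_, (W.2.1.isOpen.inter W'.2.1.isOpen).inter hU⟩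
    have : W.1 ∩ W'.1 ∩ U = W.1 ∩ W'.1 ∩ Vᶜ := Set.ext fun z =>
      ⟨fun hz => ⟨hz.1, fun hv => (h z hz.1).2 ⟨hz.2, hv⟩⟩, fun hz => ⟨hz.1, (h z hz.1).1.resolve_right hz.2⟩⟩
    rw [this]
    exact (W.2.1.isClosed.inter W'.2.1.isClosed).inter hV.isClosed_compl
  rcases (hWW x ⟨W.2.2, W'.2.2⟩).1 with hxU | hxV
  · obtain ⟨b, hbT, hbB⟩ := hBne
    exact hUB (Set.mem_sInter.1 hbT (W.1 ∩ W'.1 ∩ U) ⟨hcl U V hU hV hWW, ⟨W.2.2, W'.2.2⟩, hxU⟩).2 hbB
  · obtain ⟨a, haT, haA⟩ := hAne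
    exact hVA (Set.mem_sInter.1 haT (W.1 ∩ W'.1 ∩ V) ⟨hcl V U hV hU (fun z hz => ⟨(hWW z hz).1.symm, fun h => (hWW z hz).2 ⟨h.2, h.1⟩⟩), ⟨W.2.2, W'.2.2⟩, hxV⟩).2 ⟨haT, haA⟩

end Groth.Agent.S7566
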