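import Mathlib.Topology.Connected.Clopen
import Mathlib.Topology.Spectral.Prespectral
import Mathlib.Topology.QuasiSeparated
import Groth.Agent.S7566

set_option autoImplicit false
universe u
namespace PtTop
end PtTop
open PtTop

namespace Groth.Agent.S7567

/-- Let X be a quasi-compact topological space whose quasi-compact opens form a basis, any two of them
meeting in a quasi-compact set. For a subset T ⊆ X these two conditions are equivalent: (a) T can be
written as an intersection of clopen subsets of X; (b) T is closed and is a union of connected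
components of X. -/
theorem result {X : Type u} [TopologicalSpace X]
    [CompactSpace X] [PrespectralSpace X] [QuasiSeparatedSpace X] (T : Set X) :
    (∃ S : Set (Set X), (∀ Z ∈ S, IsClopen Z) ∧ T = ⋂₀ S) ↔
      (IsClosed T ∧ ∀ x ∈ T, connectedComponent x ⊆ T) := by
  classical
  constructor
  · rintro ⟨S, hS, rfl⟩
    exact ⟨isClosed_sInter fun Z hZ => (hS Z hZ).isClosed, fun x hx => Set.subset_sInter fun Z hZ =>
      (hS Z hZ).connectedComponent_subset (Set.mem_sInter.1 hx Z hZ)⟩
  · rintro ⟨hT, hcomp⟩
    refine ⟨{Z | IsClopen Z ∧ T ⊆ Z}, fun Z hZ => hZ.1, Set.Subset.antisymm (Set.subset_sInter fun Z hZ => hZ.2) fun x hx => ?_⟩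
    by_contra hxT
    obtain ⟨t, ht⟩ := hT.isCompact.elim_finite_subfamily_closed
      (fun Z : {Z : Set X // IsClopen Z ∧ x ∈ Z} => Z.1) (fun Z => Z.2.1.isClosed)
      (Set.eq_empty_iff_forall_notMem.2 fun z ⟨hzT, hz⟩ => by
        have hzx : z ∈ connectedComponent x := by
          rw [Groth.Agent.S7566.result x]
          exact Set.mem_sInter.2 fun Z hZ => Set.mem_iInter.1 hz ⟨Z, hZ⟩
        exact hxT (hcomp z hzT (connectedComponent_eq hzx ▸ mem_connectedComponent)))
    refine Set.mem_sInter.1 hx (⋂ Z ∈ t, Z.1)ᶜ ⟨(isClopen_biInter_finset fun Z _ => Z.2.1).compl, ?_⟩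
      (Set.mem_iInter₂.2 fun Z _ => Z.2.2)
    exact fun z hzT hz => Set.eq_empty_iff_forall_notMem.1 ht z ⟨hzT, hz⟩

end Groth.Agent.S7567
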