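import Groth.Statements.S0698
import Groth.Agent.HenselLib.IndZariskiQuot
import Groth.Agent.S7567

set_option autoImplicit false
open CategoryTheory CategoryTheory.Limits AlgebraicGeometry Opposite Topology
universe u
open ProEtW

namespace Groth.Agent.S0698

/-- Let A be a ring, X = Spec A and T a closed subset of pi_0(X). Then A has an ind-Zariski quotient
ring B (the map A -> B is surjective) whose spectrum maps homeomorphically onto the preimage of T in
X. -/
theorem result (A : Type u) [CommRing A]
    (T : Set (_root_.ConnectedComponents (PrimeSpectrum A))) (hT : IsClosed T) :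
    ∃ (B : Type u) (_ : CommRing B) (_ : Algebra A B),
      EtPBC.IsIndZariski A B ∧ Function.Surjective (algebraMap A B) ∧
      Topology.IsEmbedding (PrimeSpectrum.comap (algebraMap A B)) ∧
      Set.range (PrimeSpectrum.comap (algebraMap A B)) = _root_.ConnectedComponents.mk ⁻¹' T := by
  classical
  let Z : Set (PrimeSpectrum A) := _root_.ConnectedComponents.mk ⁻¹' T
  have hZc : IsClosed Z := hT.preimage ConnectedComponents.continuous_coe
  have hZu : ∀ x ∈ Z, connectedComponent x ⊆ Z := fun x hx y hy => by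
    have hxy : (ConnectedComponents.mk y) = ConnectedComponents.mk x :=
      ConnectedComponents.coe_eq_coe'.2 hy
    show ConnectedComponents.mk y ∈ T
    rw [hxy]; exact hx
  obtain ⟨𝒮, h𝒮, hZ⟩ := (S7567.result Z).2 ⟨hZc, hZu⟩
  let s : Set A := {e | IsIdempotentElem e ∧ Z ⊆ PrimeSpectrum.zeroLocus {e}}
  refine ⟨A ⧸ Ideal.span s, inferInstance, inferInstance, ?_, Ideal.Quotient.mk_surjective,
    (PrimeSpectrum.isClosedEmbedding_comap_of_surjective _ _ Ideal.Quotient.mk_surjective).isEmbedding, ?_⟩
  · refine HenselLib.IndEt.indZariski_of_surjective Ideal.Quotient.mk_surjective fun x hx => ?_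
    obtain ⟨e, he, hes, hxe⟩ := HenselLib.IndEt.exists_idem_absorb (s := s) (fun e he => he.1)
      (Ideal.Quotient.eq_zero_iff_mem.1 hx)
    exact ⟨e, he, Ideal.Quotient.eq_zero_iff_mem.2 hes, hxe⟩
  · rw [Ideal.Quotient.algebraMap_eq, range_comap_of_surjective _ _ Ideal.Quotient.mk_surjective,
      Ideal.mk_ker, PrimeSpectrum.zeroLocus_span]
    change PrimeSpectrum.zeroLocus s = Z
    refine Set.Subset.antisymm ?_ fun x hx e he => he.2 hx rfl
    intro x hx
    rw [hZ, Set.mem_sInter]
    intro C hC
    obtain ⟨e, he, rfl⟩ := PrimeSpectrum.isClopen_iff_zeroLocus.1 (h𝒮 C hC)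
    have hsub : Z ⊆ PrimeSpectrum.zeroLocus {e} := by rw [hZ]; exact Set.sInter_subset_of_mem hC
    exact Set.singleton_subset_iff.2 (hx ⟨he, hsub⟩)

end Groth.Agent.S0698
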