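import Groth.Statements.S0737
import Groth.Agent.HenselLib.WLocQuot
import Groth.Agent.HenselLib.WLocInd
import Groth.Agent.HenselLib.WLocUniv
import Groth.Agent.Props12.Topo

set_option autoImplicit false
open CategoryTheory CategoryTheory.Limits AlgebraicGeometry Opposite Topology
universe u
open ProEtW

namespace Groth.Agent.S0737

/-- Let Spec A be w-local with radical ideal I cutting out its closed points, and A -> B inducing
algebraic residue field extensions. Then (1) every point of V(IB) is closed in Spec B, and (2) there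
is an ind-Zariski B-algebra C with B/IB -> C/IC bijective, Spec C w-local, Spec C -> Spec A w-local,
and closed points of Spec C exactly the points over closed points of Spec A. -/
theorem result (A B : Type u) [CommRing A]
    [CommRing B] [Algebra A B] (hA : ProEtW.IsWLocal (PrimeSpectrum A)) (I : Ideal A) (hI : I.IsRadical)
    (hI0 : PrimeSpectrum.zeroLocus (R := A) I = ProEtW.closedPoints (PrimeSpectrum A))
    (h : ProEtW.AlgebraicResidueExtensions A B) :
    PrimeSpectrum.zeroLocus (R := B) (I.map (algebraMap A B)) ⊆ ProEtW.closedPoints (PrimeSpectrum B) ∧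
    ∃ (C : Type u) (_ : CommRing C) (_ : Algebra B C) (_ : Algebra A C) (_ : IsScalarTower A B C),
      EtPBC.IsIndZariski B C ∧
      Function.Bijective (Ideal.quotientMap ((I.map (algebraMap A B)).map (algebraMap B C))
        (algebraMap B C) Ideal.le_comap_map) ∧
      ProEtW.IsWLocal (PrimeSpectrum C) ∧
      ProEtW.IsWLocalMap (PrimeSpectrum.comap (algebraMap A C)) ∧
      ProEtW.closedPoints (PrimeSpectrum C) =
        PrimeSpectrum.comap (algebraMap A C) ⁻¹' ProEtW.closedPoints (PrimeSpectrum A) := by
  classical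
  have hmaxA : ∀ p : PrimeSpectrum A, (I : Set A) ⊆ p.asIdeal → p.asIdeal.IsMaximal := fun p hp =>
    (PrimeSpectrum.isClosed_singleton_iff_isMaximal p).1 (hI0.le hp)
  have hclosed : PrimeSpectrum.zeroLocus (R := B) (I.map (algebraMap A B)) ⊆
      ProEtW.closedPoints (PrimeSpectrum B) := by
    intro q hq
    refine (PrimeSpectrum.isClosed_singleton_iff_isMaximal q).2 ?_
    haveI := h q.asIdeal
    haveI := hmaxA (PrimeSpectrum.comap (algebraMap A B) q) (fun a ha => hq (Ideal.mem_map_of_mem _ ha))
    have hF : IsField (A ⧸ q.asIdeal.comap (algebraMap A B)) :=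
      (Ideal.Quotient.maximal_ideal_iff_isField_quotient _).1
        (show (q.asIdeal.comap (algebraMap A B)).IsMaximal from this)
    letI := hF.toField
    exact (Ideal.Quotient.maximal_ideal_iff_isField_quotient _).2
      (isField_of_isIntegral_of_isField' (R := A ⧸ q.asIdeal.comap (algebraMap A B)) hF)
  refine ⟨hclosed, ?_⟩
  let IB : Ideal B := I.map (algebraMap A B)
  haveI hT2 : T2Space (PrimeSpectrum (B ⧸ IB)) := Props12.primeSpectrum_t2Space fun q q' hle => by
    have hmem : PrimeSpectrum.comap (Ideal.Quotient.mk IB) q ∈ PrimeSpectrum.zeroLocus (R := B) IB := fun x hx => by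
      show Ideal.Quotient.mk IB x ∈ q.asIdeal
      rw [Ideal.Quotient.eq_zero_iff_mem.2 hx]; exact zero_mem _
    have hm := (PrimeSpectrum.isClosed_singleton_iff_isMaximal _).1 (hclosed hmem)
    exact PrimeSpectrum.comap_injective_of_surjective _ Ideal.Quotient.mk_surjective
      (PrimeSpectrum.ext (hm.eq_of_le (PrimeSpectrum.comap (Ideal.Quotient.mk IB) q').isPrime.ne_top
        (Ideal.comap_mono hle)))
  have hprof : ProEtW.IsProfinite (PrimeSpectrum.zeroLocus (R := B) IB) := by
    have he := (PrimeSpectrum.isClosedEmbedding_comap_of_surjective _ (Ideal.Quotient.mk IB) Ideal.Quotient.mk_surjective)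
    let φ : PrimeSpectrum (B ⧸ IB) ≃ₜ PrimeSpectrum.zeroLocus (R := B) IB :=
      he.isEmbedding.toHomeomorph.trans (Homeomorph.setCongr (by
        rw [range_comap_of_surjective _ _ Ideal.Quotient.mk_surjective, Ideal.mk_ker]))
    exact ⟨φ.compactSpace, φ.t2Space, φ.totallyDisconnectedSpace⟩
  haveI := hprof.2.1
  let C := HenselLib.WLoc.WRing (HenselLib.WLoc.canonOn B IB)
  letI : Algebra A C := ((algebraMap B C).comp (algebraMap A B)).toAlgebra
  haveI : IsScalarTower A B C := IsScalarTower.of_algebraMap_eq' rfl
  have hcl : ProEtW.closedPoints (PrimeSpectrum C) =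
      PrimeSpectrum.comap (algebraMap A C) ⁻¹' ProEtW.closedPoints (PrimeSpectrum A) := by
    rw [HenselLib.WLoc.zeroLocus_map_eq_closedPoints IB, Ideal.map_map, ← hI0,
      PrimeSpectrum.preimage_comap_zeroLocus]
    rw [show (algebraMap B C).comp (algebraMap A B) = algebraMap A C from rfl]
    exact PrimeSpectrum.zeroLocus_span _
  exact ⟨C, inferInstance, inferInstance, inferInstance, inferInstance, HenselLib.WLoc.isIndZariski _,
    HenselLib.WLoc.quotientMap_bijective IB hprof, HenselLib.WLoc.isWLocal _,
    ⟨HenselLib.WLoc.isSpectralMap_comap _, fun c hc => hcl.le hc⟩, hcl⟩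

end Groth.Agent.S0737
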