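import Groth.Statements.S0696
import Groth.Agent.HenselLib.WLocCanon

set_option autoImplicit false
open CategoryTheory CategoryTheory.Limits AlgebraicGeometry Opposite Topology
universe u
open ProEtW

namespace Groth.Agent.S0696

/-- Every ring A admits a faithfully flat ind-Zariski extension B whose spectrum is w-local with
extremally disconnected space of connected components. -/
theorem result (A : Type u) [CommRing A] :
    ∃ (B : Type u) (_ : CommRing B) (_ : Algebra A B),
      Module.FaithfullyFlat A B ∧ EtPBC.IsIndZariski A B ∧ ProEtW.IsWLocal (PrimeSpectrum B) ∧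
        ExtremallyDisconnected (_root_.ConnectedComponents (PrimeSpectrum B)) := by
  refine ⟨HenselLib.WLoc.WRing (HenselLib.WLoc.gleasonFam A), inferInstance, inferInstance,
    HenselLib.WLoc.faithfullyFlat _ fun x => ?_, HenselLib.WLoc.isIndZariski _, HenselLib.WLoc.isWLocal _,
    extremallyDisconnected_of_homeo (HenselLib.WLoc.componentsHomeo (HenselLib.WLoc.gleasonFam A)).symm⟩
  obtain ⟨t, ht⟩ := HenselLib.WLoc.gleasonMap_surjective A (WithTopology.toTopology _ x)
  exact ⟨t, congrArg WithTopology.ofTopology ht⟩

end Groth.Agent.S0696
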