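import Groth.Statements.S1974
import Groth.Agent.HenselLib.WEtField
import Mathlib.FieldTheory.SeparableClosure
import Mathlib.RingTheory.LocalRing.ResidueField.Ideal

set_option autoImplicit false
universe u
open EtAlg

namespace Groth.Agent.S1974

/-- Let A -> B be weakly etale and q a prime of B lying over the prime p of A. Then the residue field of
q is a separable algebraic extension of the residue field of p. -/
theorem result (A B : Type u) [CommRing A] [CommRing B] [Algebra A B]
    [Algebra.WeaklyEtale A B] (p : Ideal A) [p.IsPrime] (q : Ideal B) [q.IsPrime] [q.LiesOver p]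
    [Algebra (Localization.AtPrime p) (Localization.AtPrime q)] [Localization.AtPrime.IsLiesOverAlgebra p q] :
    Algebra.IsSeparable p.ResidueField q.ResidueField := by
  let k := p.ResidueField
  let L := q.ResidueField
  let f : TensorProduct A k B →ₐ[k] L :=
    Algebra.TensorProduct.lift (Algebra.ofId k L) (IsScalarTower.toAlgHom A B L) fun _ _ => Commute.all _ _
  haveI := HenselLib.WEt.weaklyEtale_range (K := k) f
  haveI : Algebra.IsSeparable k f.range := by
    refine ⟨fun x => ?_⟩
    haveI : Algebra.Etale k (Algebra.adjoin k ({x} : Set f.range)) :=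
      HenselLib.WEt.etFG_of_weaklyEtale _ ⟨{x}, by rw [Finset.coe_singleton]⟩
    haveI : Algebra.IsIntegral k f.range := HenselLib.WEt.isIntegral_of_weaklyEtale
    letI : Field f.range := ((Algebra.IsIntegral.isField_iff_isField (R := k) (S := f.range)
      (algebraMap k f.range).injective).mp (Field.toIsField k)).toField
    haveI := HenselLib.WEt.isSeparable_field (K := k) f.range
    exact Algebra.IsSeparable.isSeparable k x
  have hsep : ∀ b : B, algebraMap B L b ∈ separableClosure k L := by
    intro b
    rw [mem_separableClosure_iff]
    have h := Algebra.IsSeparable.isSeparable k (⟨algebraMap B L b, TensorProduct.tmul A (1 : k) b, by simp [f]⟩ : f.range)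
    unfold IsSeparable at h ⊢
    rwa [← minpoly.algHom_eq f.range.val Subtype.val_injective] at h
  rw [← separableClosure.eq_top_iff, eq_top_iff]
  intro z _
  obtain ⟨a, b, hb, rfl⟩ := IsFractionRing.div_surjective (A := B ⧸ q) z
  obtain ⟨a, rfl⟩ := Ideal.Quotient.mk_surjective a
  obtain ⟨b, rfl⟩ := Ideal.Quotient.mk_surjective b
  exact div_mem (hsep a) (hsep b)

end Groth.Agent.S1974
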