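import Groth.Statements.S0694
import Groth.Agent.HenselLib.WLocCanon

set_option autoImplicit false
open CategoryTheory CategoryTheory.Limits AlgebraicGeometry Opposite Topology
universe u
open ProEtW

namespace Groth.Agent.S0694

/-- For every ring A there is a faithfully flat ind-Zariski A-algebra A_w whose spectrum is w-local, the
closed points of Spec A_w mapping bijectively onto Spec A. (Part (4), reducedness of the particular
closed subscheme structure of the construction, is not stated.) -/
theorem result (A : Type u) [CommRing A] :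
    ∃ (Aw : Type u) (_ : CommRing Aw) (_ : Algebra A Aw),
      Module.FaithfullyFlat A Aw ∧ EtPBC.IsIndZariski A Aw ∧ ProEtW.IsWLocal (PrimeSpectrum Aw) ∧
      Set.BijOn (PrimeSpectrum.comap (algebraMap A Aw)) (ProEtW.closedPoints (PrimeSpectrum Aw))
        Set.univ := by
  refine ⟨HenselLib.WLoc.WRing (HenselLib.WLoc.canon A), inferInstance, inferInstance,
    HenselLib.WLoc.faithfullyFlat _ fun x => ⟨WithTopology.toTopology _ x, rfl⟩,
    HenselLib.WLoc.isIndZariski _, HenselLib.WLoc.isWLocal _, fun _ _ => Set.mem_univ _, ?_, ?_⟩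
  · intro P hP Q hQ h
    rw [(HenselLib.WLoc.isClosed_singleton_iff _).1 hP, (HenselLib.WLoc.isClosed_singleton_iff _).1 hQ] at h ⊢
    rw [HenselLib.WLoc.comap_closedPt, HenselLib.WLoc.comap_closedPt] at h
    exact congrArg _ ((WithTopology.equiv _ _).injective h)
  · intro x _
    exact ⟨HenselLib.WLoc.closedPt _ (WithTopology.toTopology _ x),
      (PrimeSpectrum.isClosed_singleton_iff_isMaximal _).2 (HenselLib.WLoc.closedPt_isMaximal _ _),
      HenselLib.WLoc.comap_closedPt _ _⟩

end Groth.Agent.S0694
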