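import Groth.Statements.S0692
import Groth.Agent.S0694
import Groth.Agent.S0737
import Groth.Agent.HenselLib.EtCover
import Groth.Agent.HenselLib.EtRetr
import Groth.Agent.HenselLib.AlgResidue
import Groth.Agent.HenselLib.WLocAtPoint
import Groth.Agent.HenselLib.WLocCanon
import Groth.Agent.HenselLib.WLocInd
import Groth.Agent.HenselLib.WLocQuot
import Groth.Agent.HenselLib.IndEtale
import Groth.Agent.HenselLib.IndZariskiEtale

set_option autoImplicit false
open CategoryTheory CategoryTheory.Limits AlgebraicGeometry Opposite Topology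
universe u
open scoped TensorProduct
open ProEtW

namespace Groth.Agent.S0692

/-- Let A -> B induce algebraic residue field extensions. Then one can find faithfully flat ind-etale
extensions C of A and D of B, with D a C-algebra compatibly, such that: Spec C and Spec D are
w-local; Spec D -> Spec C is w-local; the closed points of Spec D are exactly the points over closed
points of Spec C; the closed points of Spec C map onto Spec A and those of Spec D onto Spec B; and
C_m is strictly henselian for every maximal ideal m of C. -/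
theorem result (A B : Type u) [CommRing A] [CommRing B] [Algebra A B]
    (h : ProEtW.AlgebraicResidueExtensions A B) :
    ∃ (C D : Type u) (_ : CommRing C) (_ : CommRing D) (_ : Algebra A C) (_ : Algebra B D)
      (_ : Algebra C D) (_ : Algebra A D) (_ : IsScalarTower A C D) (_ : IsScalarTower A B D),
      Module.FaithfullyFlat A C ∧ EtPBC.IsIndEtale A C ∧ Module.FaithfullyFlat B D ∧
      EtPBC.IsIndEtale B D ∧ ProEtW.IsWLocal (PrimeSpectrum C) ∧ ProEtW.IsWLocal (PrimeSpectrum D) ∧
      ProEtW.IsWLocalMap (PrimeSpectrum.comap (algebraMap C D)) ∧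
      ProEtW.closedPoints (PrimeSpectrum D) =
        PrimeSpectrum.comap (algebraMap C D) ⁻¹' ProEtW.closedPoints (PrimeSpectrum C) ∧
      PrimeSpectrum.comap (algebraMap A C) '' ProEtW.closedPoints (PrimeSpectrum C) = Set.univ ∧
      PrimeSpectrum.comap (algebraMap B D) '' ProEtW.closedPoints (PrimeSpectrum D) = Set.univ ∧
      ∀ (m : Ideal C) [m.IsMaximal], EtCoh.IsStrictlyHenselianLocalRing (Localization.AtPrime m) := by
  classical
  -- w-local cover of `A`
  obtain ⟨Aw, _, _, hAwff, hAwz, hAwl, hAwb⟩ := Groth.Agent.S0694.result A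
  let I : Ideal Aw := PrimeSpectrum.vanishingIdeal (ProEtW.closedPoints (PrimeSpectrum Aw))
  have hI0 : PrimeSpectrum.zeroLocus (R := Aw) I = ProEtW.closedPoints (PrimeSpectrum Aw) := by
    rw [PrimeSpectrum.zeroLocus_vanishingIdeal_eq_closure, IsClosed.closure_eq (show IsClosed (ProEtW.closedPoints (PrimeSpectrum Aw)) from hAwl.2.1)]
  have hIrad : I.IsRadical := PrimeSpectrum.isRadical_vanishingIdeal _
  -- its etale cover
  obtain ⟨E, _, _, hEff, hEind, hEret⟩ := HenselLib.EtCover.exists_indEtale_retractions Aw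
  letI : Algebra A E := ((algebraMap Aw E).comp (algebraMap A Aw)).toAlgebra
  haveI : IsScalarTower A Aw E := IsScalarTower.of_algebraMap_eq' rfl
  have hEalg := HenselLib.AlgRes.of_isIndEtale hEind
  have hclE := (Groth.Agent.S0737.result Aw E hAwl I hIrad hI0 hEalg).1
  let IE : Ideal E := I.map (algebraMap Aw E)
  haveI : T1Space (PrimeSpectrum.zeroLocus (R := E) IE) := ⟨fun x => by
    rw [← Set.preimage_image_eq ({x} : Set _) Subtype.val_injective, Set.image_singleton]
    exact (hclE x.2 : IsClosed ({x.1} : Set (PrimeSpectrum E))).preimage continuous_subtype_val⟩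
  let C := HenselLib.WLoc.WRing (HenselLib.WLoc.canonOn E IE)
  letI : Algebra A C := ((algebraMap E C).comp (algebraMap A E)).toAlgebra
  haveI : IsScalarTower A E C := IsScalarTower.of_algebraMap_eq' rfl
  have hClocal : ProEtW.IsWLocal (PrimeSpectrum C) := HenselLib.WLoc.isWLocal _
  have hzE : EtPBC.IsIndEtale A E := HenselLib.IndEt.trans A Aw E
    (HenselLib.IndEt.indEtale_of_indZariski hAwz) hEind
  have hCind : EtPBC.IsIndEtale A C :=
    HenselLib.IndEt.trans A E C hzE (HenselLib.WLoc.isIndEtale _)
  have hclC := HenselLib.WLoc.zeroLocus_map_eq_closedPoints IE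
  -- closed points of `C` cover `Spec A`
  have hCsurj : PrimeSpectrum.comap (algebraMap A C) '' ProEtW.closedPoints (PrimeSpectrum C) = Set.univ := by
    refine Set.eq_univ_of_forall fun a => ?_
    obtain ⟨w, hw, hwa⟩ := hAwb.2.2 (Set.mem_univ a)
    obtain ⟨q, hq⟩ := PrimeSpectrum.comap_surjective_of_faithfullyFlat (A := Aw) (B := E) w
    have hqI : q ∈ PrimeSpectrum.zeroLocus (R := E) IE := by
      rw [PrimeSpectrum.mem_zeroLocus, SetLike.coe_subset_coe, Ideal.map_le_iff_le_comap]
      have : w ∈ PrimeSpectrum.zeroLocus (R := Aw) I := hI0.ge hw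
      rw [← hq] at this
      exact this
    let t : HenselLib.WLoc.ZV E IE := ⟨WithTopology.toTopology _ q, hqI⟩
    refine ⟨HenselLib.WLoc.closedPt _ t,
      (PrimeSpectrum.isClosed_singleton_iff_isMaximal _).2 (HenselLib.WLoc.closedPt_isMaximal _ _), ?_⟩
    rw [show algebraMap A C = (algebraMap E C).comp (algebraMap A E) from rfl,
      PrimeSpectrum.comap_comp_apply, HenselLib.WLoc.comap_closedPt,
      show algebraMap A E = (algebraMap Aw E).comp (algebraMap A Aw) from rfl,
      PrimeSpectrum.comap_comp_apply]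
    exact (congrArg (PrimeSpectrum.comap (algebraMap A Aw)) hq).trans hwa
  haveI := HenselLib.IndEt.flat A C hCind
  have hCff : Module.FaithfullyFlat A C := Module.FaithfullyFlat.of_comap_surjective fun a => by
    obtain ⟨c, -, hc⟩ := hCsurj.ge (Set.mem_univ a)
    exact ⟨c, hc⟩
  have hCsh : ∀ (m : Ideal C) [m.IsMaximal],
      EtCoh.IsStrictlyHenselianLocalRing (Localization.AtPrime m) := by
    intro m hm
    have hmcl := (HenselLib.WLoc.isClosed_singleton_iff (HenselLib.WLoc.canonOn E IE)
      (P := ⟨m, hm.isPrime⟩)).1 ((PrimeSpectrum.isClosed_singleton_iff_isMaximal _).2 hm)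
    generalize HenselLib.WLoc.pt (HenselLib.WLoc.canonOn E IE) ⟨m, hm.isPrime⟩ = t at hmcl
    have hm' : m = (HenselLib.WLoc.closedPt (HenselLib.WLoc.canonOn E IE) t).asIdeal :=
      congrArg PrimeSpectrum.asIdeal hmcl
    subst hm'
    refine HenselLib.WLoc.strictlyHenselian_of_equiv (HenselLib.WLoc.closedPtEquiv _ t) ?_
    haveI : ((HenselLib.WLoc.canonOn E IE).p t).asIdeal.IsMaximal :=
      (PrimeSpectrum.isClosed_singleton_iff_isMaximal _).1 (hclE t.2)
    exact ⟨(HenselLib.EtRetr.strictlyHenselian_atPrime hEret _).1,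
      (HenselLib.EtRetr.strictlyHenselian_atPrime hEret _).2⟩
  -- the square
  let J : Ideal C := PrimeSpectrum.vanishingIdeal (ProEtW.closedPoints (PrimeSpectrum C))
  have hJ0 : PrimeSpectrum.zeroLocus (R := C) J = ProEtW.closedPoints (PrimeSpectrum C) := by
    rw [PrimeSpectrum.zeroLocus_vanishingIdeal_eq_closure, IsClosed.closure_eq (show IsClosed (ProEtW.closedPoints (PrimeSpectrum C)) from hClocal.2.1)]
  obtain ⟨hcl, D, _, _, _, _, hDz, hDq, hDl, hDmap, hDcl⟩ := Groth.Agent.S0737.result C (C ⊗[A] B) hClocal J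
    (PrimeSpectrum.isRadical_vanishingIdeal _) hJ0 (HenselLib.AlgRes.baseChange h)
  letI : Algebra B D :=
    ((algebraMap (C ⊗[A] B) D).comp Algebra.TensorProduct.includeRight.toRingHom).toAlgebra
  letI : Algebra A D := ((algebraMap C D).comp (algebraMap A C)).toAlgebra
  letI : Algebra B (C ⊗[A] B) := Algebra.TensorProduct.rightAlgebra
  haveI : IsScalarTower A C D := IsScalarTower.of_algebraMap_eq' rfl
  haveI : IsScalarTower B (C ⊗[A] B) D := IsScalarTower.of_algebraMap_eq' rfl
  haveI : IsScalarTower A B D := IsScalarTower.of_algebraMap_eq fun a => by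
    show algebraMap C D (algebraMap A C a) = algebraMap (C ⊗[A] B) D ((1 : C) ⊗ₜ[A] algebraMap A B a)
    rw [IsScalarTower.algebraMap_apply C (C ⊗[A] B) D, Algebra.TensorProduct.algebraMap_apply,
      Algebra.algebraMap_self, RingHom.id_apply, Algebra.algebraMap_eq_smul_one a,
      Algebra.algebraMap_eq_smul_one a, TensorProduct.smul_tmul]
  have hBind : EtPBC.IsIndEtale B (C ⊗[A] B) := by
    have h1 := HenselLib.IndEt.baseChange A C B hCind
    exact HenselLib.IndEt.of_algEquiv
      ({ (Algebra.TensorProduct.comm A B C).toRingEquiv with commutes' := fun b => rfl } :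
        B ⊗[A] C ≃ₐ[B] C ⊗[A] B) h1
  have hDind : EtPBC.IsIndEtale B D := HenselLib.IndEt.trans B (C ⊗[A] B) D hBind
    (HenselLib.IndEt.indEtale_of_indZariski hDz)
  have hDsurj : PrimeSpectrum.comap (algebraMap B D) '' ProEtW.closedPoints (PrimeSpectrum D) = Set.univ := by
    refine Set.eq_univ_of_forall fun b => ?_
    obtain ⟨c, hc, hca⟩ := hCsurj.ge (Set.mem_univ (PrimeSpectrum.comap (algebraMap A B) b))
    obtain ⟨r, hrc, hrb⟩ := HenselLib.AlgRes.exists_prime_tensor c b hca
    have hrJ : r ∈ PrimeSpectrum.zeroLocus (R := C ⊗[A] B) (J.map (algebraMap C (C ⊗[A] B))) := by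
      rw [PrimeSpectrum.mem_zeroLocus, SetLike.coe_subset_coe, Ideal.map_le_iff_le_comap]
      have : c ∈ PrimeSpectrum.zeroLocus (R := C) J := hJ0.ge hc
      rw [← hrc] at this
      exact this
    obtain ⟨d, hd, hdr⟩ := HenselLib.AlgRes.exists_lift_of_quotientMap_bijective hDq r hrJ
    refine ⟨d, ?_, ?_⟩
    · rw [hDcl, Set.mem_preimage, IsScalarTower.algebraMap_eq C (C ⊗[A] B) D, PrimeSpectrum.comap_comp_apply,
        hdr, hrc]
      exact hc
    · rw [show algebraMap B D = (algebraMap (C ⊗[A] B) D).comp Algebra.TensorProduct.includeRight.toRingHom from rfl,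
        PrimeSpectrum.comap_comp_apply, hdr, hrb]
  haveI := HenselLib.IndEt.flat B D hDind
  have hDff : Module.FaithfullyFlat B D := Module.FaithfullyFlat.of_comap_surjective fun b => by
    obtain ⟨d, -, hd⟩ := hDsurj.ge (Set.mem_univ b)
    exact ⟨d, hd⟩
  exact ⟨C, D, inferInstance, inferInstance, inferInstance, inferInstance, inferInstance, inferInstance,
    inferInstance, inferInstance, hCff, hCind, hDff, hDind, hClocal, hDl, hDmap, hDcl, hCsurj, hDsurj, hCsh⟩

end Groth.Agent.S0692
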