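import Mathlib.Topology.Spectral.Basic
import Groth.Agent.SpecSp.Basic

set_option autoImplicit false
universe u
namespace SpecSp
end SpecSp
open SpecSp

namespace Groth.Agent.S7529

/-- The product X × Y of two spectral spaces X and Y is a spectral space. -/
theorem result (X Y : Type u) [TopologicalSpace X] [TopologicalSpace Y]
    [SpectralSpace X] [SpectralSpace Y] : SpectralSpace (X × Y) := by
  let A : Bool → Type u := fun b => if b then X else Y
  let t : ∀ b, TopologicalSpace (A b) := fun b => match b with
    | true => ‹TopologicalSpace X›
    | false => ‹TopologicalSpace Y›
  have hs : ∀ b, SpectralSpace (A b) := fun b => match b with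
    | true => ‹SpectralSpace X›
    | false => ‹SpectralSpace Y›
  let e : X × Y ≃ₜ ∀ b, A b :=
    { toFun := fun p b => match b with
        | true => p.1
        | false => p.2
      invFun := fun g => (g true, g false)
      left_inv := fun p => rfl
      right_inv := fun g => funext fun b => by cases b <;> rfl
      continuous_toFun := continuous_pi fun b => match b with
        | true => continuous_fst
        | false => continuous_snd
      continuous_invFun := Continuous.prodMk (continuous_apply (A := A) true) (continuous_apply (A := A) false) }
  exact (Groth.Agent.SpecSp.spectralSpace_of_isEmbedding e.isEmbedding (by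
    rw [e.surjective.range_eq]; exact @isClosed_univ _ (constructibleTopology _))).1

end Groth.Agent.S7529
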