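import Groth.Statements.S0703
import Groth.Agent.S7566
import Groth.Agent.S7584
import Groth.Agent.S7529
import Groth.Agent.S7525
import Mathlib.Topology.Separation.Profinite
import Mathlib.Topology.Homeomorph.Lemmas

set_option autoImplicit false
open Topology
universe u
open ProEtW

namespace Groth.Agent.S0703

/-- Let X be a spectral space, T a profinite space and g : T -> pi_0(X) continuous; let Y be the fibre
product of X and T over pi_0(X) (pairs (x, t) with [x] = g t, subspace topology). Then Y is spectral
and the projection Y -> T induces a homeomorphism pi_0(Y) = T. -/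
theorem result (X T : Type u) [TopologicalSpace X] [SpectralSpace X]
    [TopologicalSpace T] [CompactSpace T] [T2Space T] [TotallyDisconnectedSpace T]
    (g : C(T, _root_.ConnectedComponents X)) :
    SpectralSpace {p : X × T // _root_.ConnectedComponents.mk p.1 = g p.2} ∧
      ∃ e : _root_.ConnectedComponents {p : X × T // _root_.ConnectedComponents.mk p.1 = g p.2} ≃ₜ T,
        ∀ y : {p : X × T // _root_.ConnectedComponents.mk p.1 = g p.2}, e (_root_.ConnectedComponents.mk y) = y.1.2 := by
  haveI : T2Space (_root_.ConnectedComponents X) := S7584.result X fun x => S7566.result x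
  haveI : PrespectralSpace T :=
    .of_isTopologicalBasis loc_compact_Haus_tot_disc_of_zero_dim fun U hU => hU.isClosed.isCompact
  haveI : SpectralSpace T := {}
  haveI : SpectralSpace (X × T) := S7529.result X T
  let Y : Set (X × T) := {p | _root_.ConnectedComponents.mk p.1 = g p.2}
  have hY : IsClosed Y := isClosed_eq (ConnectedComponents.continuous_coe.comp continuous_fst)
    (g.continuous.comp continuous_snd)
  haveI hYs : SpectralSpace Y := S7525.result Y (by
    have h1 : constructibleTopology (X × T) ≤ (inferInstance : TopologicalSpace (X × T)) := by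
      intro U hU
      obtain ⟨𝒰, h𝒰, rfl⟩ := PrespectralSpace.isTopologicalBasis.open_eq_sUnion hU
      exact @isOpen_sUnion _ (constructibleTopology (X × T)) _ fun V hV =>
        (h𝒰 hV).2.isOpen_constructibleTopology_of_isOpen (h𝒰 hV).1
    exact hY.mono h1)
  refine ⟨hYs, ?_⟩
  let π : Y → T := fun y => y.1.2
  have hπ : Continuous π := continuous_snd.comp continuous_subtype_val
  let L : _root_.ConnectedComponents Y → T := hπ.connectedComponentsLift
  have hL : ∀ y : Y, L (_root_.ConnectedComponents.mk y) = y.1.2 := hπ.connectedComponentsLift_apply_coe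
  have hbij : Function.Bijective L := by
    refine ⟨fun a b hab => ?_, fun t => ?_⟩
    · obtain ⟨y, rfl⟩ := ConnectedComponents.surjective_coe a
      obtain ⟨y', rfl⟩ := ConnectedComponents.surjective_coe b
      rw [hL, hL] at hab
      refine ConnectedComponents.coe_eq_coe'.2 ?_
      have hsub : ∀ x ∈ connectedComponent y'.1.1, (x, y'.1.2) ∈ Y := fun x hx => by
        show _root_.ConnectedComponents.mk x = g y'.1.2
        rw [← (show _root_.ConnectedComponents.mk y'.1.1 = g y'.1.2 from y'.2)]
        exact ConnectedComponents.coe_eq_coe'.2 hx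
      let ι : connectedComponent y'.1.1 → Y := fun x => ⟨(x.1, y'.1.2), hsub x.1 x.2⟩
      have hι : Continuous ι := ((continuous_subtype_val).prodMk continuous_const).subtype_mk _
      haveI : PreconnectedSpace (connectedComponent y'.1.1) :=
        isPreconnected_iff_preconnectedSpace.1 isPreconnected_connectedComponent
      have hyc : y.1.1 ∈ connectedComponent y'.1.1 := by
        refine ConnectedComponents.coe_eq_coe'.1 ?_
        rw [show _root_.ConnectedComponents.mk y.1.1 = g y.1.2 from y.2,
          show _root_.ConnectedComponents.mk y'.1.1 = g y'.1.2 from y'.2, hab]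
      refine (isPreconnected_range hι).subset_connectedComponent
        ⟨⟨y'.1.1, mem_connectedComponent⟩, rfl⟩ ⟨⟨y.1.1, hyc⟩, ?_⟩
      exact Subtype.ext (Prod.ext rfl hab.symm)
    · obtain ⟨x, hx⟩ := ConnectedComponents.surjective_coe (g t)
      exact ⟨_root_.ConnectedComponents.mk (⟨(x, t), hx⟩ : Y), hL _⟩
  haveI hc : CompactSpace (_root_.ConnectedComponents Y) := Quotient.compactSpace
  haveI : CompactSpace (_root_.ConnectedComponents
      {p : X × T // _root_.ConnectedComponents.mk p.1 = g p.2}) := hc
  exact ⟨hπ.connectedComponentsLift_continuous.homeoOfEquivCompactToT2 (f := Equiv.ofBijective L hbij), hL⟩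

end Groth.Agent.S0703
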