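import Groth.Statements.S0697
import Groth.Agent.HenselLib.ProfiniteCover

set_option autoImplicit false
open CategoryTheory CategoryTheory.Limits AlgebraicGeometry Opposite Topology
universe u
open ProEtW

namespace Groth.Agent.S0697

/-- Let A be a ring, X = Spec A, T a profinite space and g : T -> pi_0(X) continuous. Then there is an
ind-Zariski A-algebra B, with Y = Spec B, and a homeomorphism e : pi_0(Y) -> T over pi_0(X) such
that Y -> X x T, y |-> (image of y, e [y]) is a topological embedding with image the fibre product
of X and T over pi_0(X); that is, the square Y -> pi_0(Y) = T, Y -> X is cartesian in topological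
spaces. -/
theorem result (A : Type u) [CommRing A] (T : Type u)
    [TopologicalSpace T] [CompactSpace T] [T2Space T] [TotallyDisconnectedSpace T]
    (g : C(T, _root_.ConnectedComponents (PrimeSpectrum A))) :
    ∃ (B : Type u) (_ : CommRing B) (_ : Algebra A B) (e : _root_.ConnectedComponents (PrimeSpectrum B) ≃ₜ T),
      EtPBC.IsIndZariski A B ∧
      (∀ y : PrimeSpectrum B,
        g (e (_root_.ConnectedComponents.mk y)) = _root_.ConnectedComponents.mk (PrimeSpectrum.comap (algebraMap A B) y)) ∧
      Topology.IsEmbedding (fun y : PrimeSpectrum B =>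
        (PrimeSpectrum.comap (algebraMap A B) y, e (_root_.ConnectedComponents.mk y))) ∧
      Set.range (fun y : PrimeSpectrum B =>
        (PrimeSpectrum.comap (algebraMap A B) y, e (_root_.ConnectedComponents.mk y))) =
        {p : PrimeSpectrum A × T | _root_.ConnectedComponents.mk p.1 = g p.2} := by
  classical
  let Y : Set (PrimeSpectrum A × T) := {p | _root_.ConnectedComponents.mk p.1 = g p.2}
  haveI : T2Space (_root_.ConnectedComponents (PrimeSpectrum A)) := S7584.result _ fun x => S7566.result x
  haveI : CompactSpace (_root_.ConnectedComponents (PrimeSpectrum A)) := Quotient.compactSpace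
  let s : Set (HenselLib.ProfCov.LC A T) :=
    {ε | IsIdempotentElem ε ∧ ∀ q ∈ Y, ε q.2 ∈ q.1.asIdeal}
  let B := HenselLib.ProfCov.LC A T ⧸ Ideal.span s
  let φ : PrimeSpectrum B → PrimeSpectrum A × T :=
    HenselLib.ProfCov.toProd ∘ PrimeSpectrum.comap (Ideal.Quotient.mk (Ideal.span s))
  have hφe : Topology.IsEmbedding φ := HenselLib.ProfCov.toProd_isEmbedding.comp
    (PrimeSpectrum.isClosedEmbedding_comap_of_surjective _ _ Ideal.Quotient.mk_surjective).isEmbedding
  have hφr : Set.range φ = Y := by
    rw [Set.range_comp, range_comap_of_surjective _ _ Ideal.Quotient.mk_surjective, Ideal.mk_ker,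
      PrimeSpectrum.zeroLocus_span]
    ext ⟨p, t⟩
    constructor
    · rintro ⟨P, hP, hPeq⟩
      simp only [HenselLib.ProfCov.toProd, Prod.mk.injEq] at hPeq
      obtain ⟨rfl, rfl⟩ := hPeq
      by_contra hne
      obtain ⟨V, hV, hpV, hgV⟩ := exists_isClopen_of_totally_separated hne
      obtain ⟨e, he, heq⟩ := PrimeSpectrum.isClopen_iff.1 (hV.preimage ConnectedComponents.continuous_coe)
      have hW : IsClopen (g ⁻¹' Vᶜ) := hV.compl.preimage g.continuous
      let ε := algebraMap A (HenselLib.ProfCov.LC A T) e * LocallyConstant.charFn A hW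
      have hε : ε ∈ s := by
        refine ⟨IsIdempotentElem.mul (he.map _) ?_, fun q hq => ?_⟩
        · ext x
          simp [LocallyConstant.coe_charFn, Set.indicator_apply]
          tauto
        · have hεq : ε q.2 = e * LocallyConstant.charFn A hW q.2 := by
            simp [ε, HenselLib.ProfCov.algebraMap_apply]
          rw [hεq]
          by_cases hq2 : q.2 ∈ g ⁻¹' Vᶜ
          · refine Ideal.mul_mem_right _ _ ?_
            by_contra h'
            have h2 : q.1 ∈ _root_.ConnectedComponents.mk ⁻¹' V := by rw [heq]; exact h'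
            exact hq2 ((show _root_.ConnectedComponents.mk q.1 = g q.2 from hq) ▸ h2)
          · rw [LocallyConstant.coe_charFn, Set.indicator_of_notMem hq2, mul_zero]; exact zero_mem _
      have h1 : ε ∈ P.asIdeal := hP hε
      rw [HenselLib.ProfCov.pt_spec P] at h1
      have hεP : ε (HenselLib.ProfCov.pt P) = e := by
        have : HenselLib.ProfCov.pt P ∈ g ⁻¹' Vᶜ := hgV
        show (algebraMap A (HenselLib.ProfCov.LC A T) e) _ * LocallyConstant.charFn A hW _ = e
        rw [HenselLib.ProfCov.algebraMap_apply, LocallyConstant.coe_charFn, Set.indicator_of_mem this,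
          Pi.one_apply, mul_one]
      rw [hεP] at h1
      have h3 : PrimeSpectrum.comap (algebraMap A (HenselLib.ProfCov.LC A T)) P ∈
          (PrimeSpectrum.basicOpen e : Set (PrimeSpectrum A)) := by rw [← heq]; exact hpV
      exact h3 h1
    · intro hq
      obtain ⟨P, hP⟩ := HenselLib.ProfCov.toProd_bijective.2 (p, t)
      refine ⟨P, fun ε hε => ?_, hP⟩
      simp only [HenselLib.ProfCov.toProd, Prod.mk.injEq] at hP
      show ε ∈ P.asIdeal
      rw [HenselLib.ProfCov.pt_spec P, hP.1, hP.2]
      exact hε.2 _ hq
  let τ : PrimeSpectrum B → T := fun y => (φ y).2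
  have hτ : Continuous τ := continuous_snd.comp hφe.continuous
  let L : _root_.ConnectedComponents (PrimeSpectrum B) → T := hτ.connectedComponentsLift
  have hL : ∀ y, L (_root_.ConnectedComponents.mk y) = τ y := hτ.connectedComponentsLift_apply_coe
  have hφY : ∀ y, φ y ∈ Y := fun y => hφr ▸ Set.mem_range_self y
  obtain ⟨-, E, hE⟩ := S0703.result (PrimeSpectrum A) T g
  let H : PrimeSpectrum B ≃ₜ Y := hφe.toHomeomorph.trans (Homeomorph.setCongr hφr)
  have hH : ∀ y, ((H y : Y) : PrimeSpectrum A × T) = φ y := fun y => rfl
  have hLbij : Function.Bijective L := by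
    refine ⟨fun a b hab => ?_, fun t => ?_⟩
    · obtain ⟨y, rfl⟩ := ConnectedComponents.surjective_coe a
      obtain ⟨y', rfl⟩ := ConnectedComponents.surjective_coe b
      rw [hL, hL] at hab
      have h1 : (_root_.ConnectedComponents.mk (H y) : _root_.ConnectedComponents Y) =
          _root_.ConnectedComponents.mk (H y') := by
        apply E.injective
        exact (hE (H y)).trans (hab.trans (hE (H y')).symm)
      refine ConnectedComponents.coe_eq_coe'.2 ?_
      have h2 := (isPreconnected_connectedComponent.image H.symm H.symm.continuous.continuousOn).subset_connectedComponent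
        ⟨H y', mem_connectedComponent, H.symm_apply_apply y'⟩
        ⟨H y, ConnectedComponents.coe_eq_coe'.1 h1, H.symm_apply_apply y⟩
      exact h2
    · obtain ⟨z, hz⟩ := E.surjective t
      obtain ⟨z, rfl⟩ := ConnectedComponents.surjective_coe z
      obtain ⟨y, rfl⟩ := H.surjective z
      exact ⟨_root_.ConnectedComponents.mk y, (hL y).trans ((hE (H y)).symm.trans hz)⟩
  haveI : CompactSpace (_root_.ConnectedComponents (PrimeSpectrum B)) := Quotient.compactSpace
  refine ⟨B, inferInstance, inferInstance,
    hτ.connectedComponentsLift_continuous.homeoOfEquivCompactToT2 (f := Equiv.ofBijective L hLbij),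
    HenselLib.ProfCov.isIndZariski_quotient (fun e he => he.1), fun y => ?_, ?_, ?_⟩
  · refine (congrArg g (?_ : _ = τ y)).trans (hφY y).symm
    exact hL y
  · have : (fun y : PrimeSpectrum B => (PrimeSpectrum.comap (algebraMap A B) y, L (_root_.ConnectedComponents.mk y))) = φ :=
      funext fun y => Prod.ext rfl (hL y)
    exact this ▸ hφe
  · have : (fun y : PrimeSpectrum B => (PrimeSpectrum.comap (algebraMap A B) y, L (_root_.ConnectedComponents.mk y))) = φ :=
      funext fun y => Prod.ext rfl (hL y)
    exact (congrArg Set.range this).trans hφr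

end Groth.Agent.S0697
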