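import Groth.Statements.S0704
import Groth.Agent.S0703
import Groth.Agent.S7566
import Groth.Agent.S7584

set_option autoImplicit false
open Topology
universe u
open ProEtW

namespace Groth.Agent.S0704

/-- With X, T, g and the fibre product Y of X and T over pi_0(X) as in the first part, if X is moreover
w-local then Y is w-local, the projection Y -> X is w-local, and the closed points of Y are exactly
the points mapping to closed points of X. -/
theorem result (X T : Type u) [TopologicalSpace X]
    [TopologicalSpace T] [CompactSpace T] [T2Space T] [TotallyDisconnectedSpace T]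
    (hX : ProEtW.IsWLocal X) (g : C(T, _root_.ConnectedComponents X)) :
    ProEtW.IsWLocal {p : X × T // _root_.ConnectedComponents.mk p.1 = g p.2} ∧
      ProEtW.IsWLocalMap (fun y : {p : X × T // _root_.ConnectedComponents.mk p.1 = g p.2} => y.1.1) ∧
      ProEtW.closedPoints {p : X × T // _root_.ConnectedComponents.mk p.1 = g p.2} =
        (fun y : {p : X × T // _root_.ConnectedComponents.mk p.1 = g p.2} => y.1.1) ⁻¹' ProEtW.closedPoints X := by
  obtain ⟨hs, hcl, huniq⟩ := hX
  haveI := hs
  obtain ⟨hYs, -⟩ := S0703.result X T g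
  haveI : T2Space (_root_.ConnectedComponents X) := S7584.result X fun x => S7566.result x
  let Y : Set (X × T) := {p | _root_.ConnectedComponents.mk p.1 = g p.2}
  let p : Y → X := fun y => y.1.1
  have hp : Continuous p := continuous_fst.comp continuous_subtype_val
  have hmk : ∀ {x x' : X}, x ⤳ x' → _root_.ConnectedComponents.mk x = _root_.ConnectedComponents.mk x' :=
    fun h => (h.map ConnectedComponents.continuous_coe).eq
  have hY : ∀ (y : Y) (x' : X), y.1.1 ⤳ x' → (x', y.1.2) ∈ Y := fun y x' h =>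
    show _root_.ConnectedComponents.mk x' = g y.1.2 from (hmk h).symm.trans y.2
  have hspec : ∀ y y' : Y, y ⤳ y' ↔ y.1.1 ⤳ y'.1.1 ∧ y.1.2 = y'.1.2 := fun y y' => by
    rw [subtype_specializes_iff, ← Prod.mk.eta (p := y.1), ← Prod.mk.eta (p := y'.1)]
    exact specializes_prod.trans (and_congr Iff.rfl specializes_iff_eq)
  have hclX : ∀ x : X, IsClosed ({x} : Set X) ↔ ∀ x', x ⤳ x' → x' = x := fun x =>
    ⟨fun h x' hx' => hx'.mem_closed h rfl, fun h => closure_subset_iff_isClosed.1 fun x' hx' =>
      h x' (specializes_iff_mem_closure.2 hx')⟩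
  have hclY : ∀ y : Y, IsClosed ({y} : Set Y) ↔ IsClosed ({p y} : Set X) := fun y => by
    constructor
    · intro h
      rw [hclX]
      intro x' hx'
      have : (⟨(x', y.1.2), hY y x' hx'⟩ : Y) = y :=
        ((hspec y ⟨(x', y.1.2), hY y x' hx'⟩).2 ⟨hx', rfl⟩).mem_closed h rfl
      exact congrArg (fun z : Y => z.1.1) this
    · intro h
      refine closure_subset_iff_isClosed.1 fun y' hy' => ?_
      obtain ⟨h1, h2⟩ := (hspec y y').1 (specializes_iff_mem_closure.2 hy')
      exact Subtype.ext (Prod.ext ((hclX _).1 h _ h1) h2.symm)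
  have hYc : IsClosed Y := isClosed_eq (ConnectedComponents.continuous_coe.comp continuous_fst)
    (g.continuous.comp continuous_snd)
  refine ⟨⟨hYs, ?_, fun y => ?_⟩, ⟨⟨hp, fun U hUo hUc => ?_⟩, fun y hy => (hclY y).1 hy⟩, Set.ext hclY⟩
  · have h := hcl.preimage hp
    have e : {y : Y | IsClosed ({y} : Set Y)} = p ⁻¹' {x | IsClosed ({x} : Set X)} := Set.ext hclY
    exact (congrArg IsClosed e).mpr h
  · obtain ⟨z, ⟨hz1, hz2⟩, hz3⟩ := huniq y.1.1
    refine ⟨⟨(z, y.1.2), hY y z hz2⟩, ⟨(hclY _).2 hz1, (hspec _ _).2 ⟨hz2, rfl⟩⟩, fun w hw => ?_⟩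
    exact Subtype.ext (Prod.ext (hz3 _ ⟨(hclY w).1 hw.1, ((hspec _ _).1 hw.2).1⟩) ((hspec _ _).1 hw.2).2.symm)
  · have h := hYc.isClosedEmbedding_subtypeVal.isCompact_preimage (hUc.prod (isCompact_univ (X := T)))
    have e : p ⁻¹' U = (Subtype.val : Y → X × T) ⁻¹' (U ×ˢ Set.univ) := Set.ext fun y => by simp [p]
    exact (congrArg IsCompact e).mpr h

end Groth.Agent.S0704
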