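import Groth.Statements.S0734
import Groth.Agent.HenselLib.IndEtale

set_option autoImplicit false
open CategoryTheory CategoryTheory.Limits AlgebraicGeometry Opposite Topology
universe u
open ProEtW

namespace Groth.Agent.S0734

/-- A composite of two ind-etale ring maps is ind-etale. -/
theorem result (A B C : Type u) [CommRing A] [CommRing B] [CommRing C] [Algebra A B]
    [Algebra B C] [Algebra A C] [IsScalarTower A B C] (hAB : EtPBC.IsIndEtale A B)
    (hBC : EtPBC.IsIndEtale B C) : EtPBC.IsIndEtale A C := by
  exact HenselLib.IndEt.trans A B C hAB hBC

end Groth.Agent.S0734
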