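import Groth.Statements.S5993
import Groth.Agent.CommAlg6.CTensorBasic
import Groth.Agent.CommAlg6.SemiLocalComplete

set_option autoImplicit false
universe u
open scoped TensorProduct
open EGA418

namespace Groth.Agent.S5993

open IsLocalRing
attribute [local instance] Algebra.TensorProduct.rightAlgebra

/-- The same for the completed tensor product with a field. -/
theorem aux (k A B : Type u) [Field k] [CommRing A] [IsNoetherianRing A] [IsLocalRing A] [Algebra k A]
    [IsAdicComplete (maximalIdeal A) A] [Module.Finite k (ResidueField A)] [Field B] [Algebra k B] :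
    IsNoetherianRing (EGA4.CTensor k A B) ∧
      Finite (MaximalSpectrum (EGA4.CTensor k A B)) ∧
      IsAdicComplete ((maximalIdeal A).map (algebraMap A (EGA4.CTensor k A B))) (EGA4.CTensor k A B) ∧
      ∀ M : MaximalSpectrum (EGA4.CTensor k A B),
        IsAdicComplete (maximalIdeal (Localization.AtPrime M.asIdeal)) (Localization.AtPrime M.asIdeal) ∧
          Module.FaithfullyFlat A (Localization.AtPrime M.asIdeal) ∧
          ringKrullDim (Localization.AtPrime M.asIdeal) = ringKrullDim A ∧
          (((Ideal.Quotient.mk M.asIdeal).comp (algebraMap (A ⊗[k] B) (EGA4.CTensor k A B))).comp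
              Algebra.TensorProduct.includeRight.toRingHom).Finite := by
  have hbot : maximalIdeal B = ⊥ := IsLocalRing.isField_iff_maximalIdeal_eq.1 (Field.toIsField B)
  haveI : IsAdicComplete (maximalIdeal B) B := by rw [hbot]; infer_instance
  haveI := CommAlg6.isNoetherianRing_cTensor (k := k) (A := A) (B := B)
  let C := EGA4.CTensor k A B
  let J := (maximalIdeal A).map (algebraMap A C)
  have hI : EGA4.cTensorIdeal k A B = (maximalIdeal A).map (algebraMap A (A ⊗[k] B)) := by
    rw [EGA4.cTensorIdeal, hbot, Ideal.map_bot, sup_bot_eq]; rfl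
  haveI hcpl : IsAdicComplete J C := by
    have h1 : IsAdicComplete (EGA4.cTensorIdeal k A B) C := AdicCompletion.isAdicComplete CommAlg6.cTensorIdeal_fg
    have h2 : IsAdicComplete ((EGA4.cTensorIdeal k A B).map (algebraMap (A ⊗[k] B) C)) C :=
      (IsAdicComplete.map_algebraMap_iff (EGA4.cTensorIdeal k A B) C).mpr h1
    have h3 : (EGA4.cTensorIdeal k A B).map (algebraMap (A ⊗[k] B) C) = J :=
      (congrArg (Ideal.map (algebraMap (A ⊗[k] B) C)) hI).trans (by rw [Ideal.map_map, ← IsScalarTower.algebraMap_eq])
    rw [← h3]
    exact h2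
  haveI : Module.Finite k (A ⧸ maximalIdeal A) := ‹Module.Finite k (ResidueField A)›
  haveI : Module.Finite B ((A ⧸ maximalIdeal A) ⊗[k] B) := CommAlg6.finite_right_tensor
  haveI : IsArtinianRing ((A ⧸ maximalIdeal A) ⊗[k] B) := IsArtinianRing.of_finite B _
  obtain ⟨Φ, hs, hker⟩ := CommAlg6.exists_quotient_maximalIdeal (k := k) (A := A) (B := B)
  haveI : IsArtinianRing (C ⧸ J) :=
    ((Ideal.quotEquivOfEq hker.symm).trans (RingHom.quotientKerEquivOfSurjective hs)).symm.surjective.isArtinianRing
      (f := ((Ideal.quotEquivOfEq hker.symm).trans (RingHom.quotientKerEquivOfSurjective hs)).symm.toRingHom)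
  haveI hfinite : Finite (MaximalSpectrum C) :=
    Set.finite_univ_iff.1 (CommAlg6.finite_maximalSpectrum_cTensor (k := k) (A := A) (B := B))
  refine ⟨inferInstance, hfinite, hcpl, fun M => ?_⟩
  let L := Localization.AtPrime M.asIdeal
  have hJM : J ≤ M.asIdeal :=
    (CommAlg6.map_maximalIdeal_le_jacobson (k := k) (A := A) (B := B)).trans (sInf_le ⟨bot_le, M.isMaximal⟩)
  haveI := CommAlg6.flat_cTensor_left (k := k) (A := A) (B := B)
  haveI : Module.Flat C L := IsLocalization.flat L M.asIdeal.primeCompl
  haveI : Module.Flat A L := Module.Flat.trans A C L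
  have hmap : (maximalIdeal A).map (algebraMap A L) ≤ maximalIdeal L := by
    rw [IsScalarTower.algebraMap_eq A C L, ← Ideal.map_map, ← Localization.AtPrime.map_eq_maximalIdeal]
    exact Ideal.map_mono hJM
  haveI : IsLocalHom (algebraMap A L) :=
    ((IsLocalRing.local_hom_TFAE (algebraMap A L)).out 0 2 rfl rfl).mpr hmap
  haveI hff : Module.FaithfullyFlat A L := Module.FaithfullyFlat.of_flat_of_isLocalHom
  refine ⟨CommAlg6.isAdicComplete_atPrime J M.asIdeal, hff, ?_, ?_⟩
  · haveI : IsNoetherianRing L := IsLocalization.isNoetherianRing M.asIdeal.primeCompl L inferInstance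
    let I := (maximalIdeal A).map (algebraMap A L)
    haveI : Nontrivial (L ⧸ I) :=
      Ideal.Quotient.nontrivial_iff.mpr fun h => (maximalIdeal.isMaximal L).ne_top (top_le_iff.mp (h ▸ hmap))
    haveI : IsArtinianRing (L ⧸ I) := (Ideal.quotientMap_surjective (f := algebraMap C L) (I := I)
      (H := by
        show J ≤ I.comap (algebraMap C L)
        rw [← Ideal.map_le_iff_le_comap, Ideal.map_map, ← IsScalarTower.algebraMap_eq])
      (CommAlg6.surjective_algebraMap_atPrime J M.asIdeal)).isArtinianRing
    haveI : IsLocalRing (L ⧸ I) := .of_surjective' _ Ideal.Quotient.mk_surjective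
    haveI : (maximalIdeal L).LiesOver (maximalIdeal A) :=
      ⟨(((IsLocalRing.local_hom_TFAE (algebraMap A L)).out 0 4 rfl rfl).mp inferInstance).symm⟩
    have h := Ideal.height_eq_height_add_of_liesOver_of_hasGoingDown (maximalIdeal A) (maximalIdeal L)
    rw [IsLocalRing.map_maximalIdeal_of_surjective _ Ideal.Quotient.mk_surjective] at h
    rw [← IsLocalRing.maximalIdeal_height_eq_ringKrullDim, h, WithBot.coe_add,
      IsLocalRing.maximalIdeal_height_eq_ringKrullDim, IsLocalRing.maximalIdeal_height_eq_ringKrullDim,
      (ringKrullDimZero_iff_ringKrullDim_eq_zero).1 (inferInstance : Ring.KrullDimLE 0 (L ⧸ I)), add_zero] 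
  · haveI := CommAlg6.finite_quotient_cTensor (k := k) (A := A) (B := B) M.asIdeal
    exact (RingHom.finite_algebraMap (A := B) (B := C ⧸ M.asIdeal)).2 inferInstance


/-- Let k be a field, A a complete Noetherian local k-algebra with maximal ideal m whose residue field
is a finite extension of k, k' an extension field of k, I the ideal of A ⊗_k k' generated by m, and
A' the completed tensor product of A and k' over k, namely the I-adic completion of A ⊗_k k'. Then
A' is a Noetherian ring with finitely many maximal ideals, complete and separated for the ideal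
generated by m, and for every maximal ideal M of A' the local ring A'_M is complete, faithfully flat
over A, of the same dimension as A, and has residue field finite over k'. -/
theorem result (k A k' : Type u) [Field k]
    [CommRing A] [IsNoetherianRing A] [IsLocalRing A] [Algebra k A]
    [IsAdicComplete (IsLocalRing.maximalIdeal A) A] [Module.Finite k (IsLocalRing.ResidueField A)]
    [Field k'] [Algebra k k'] (I : Ideal (A ⊗[k] k'))
    (hI : I = (IsLocalRing.maximalIdeal A).map (algebraMap A (A ⊗[k] k'))) :
    IsNoetherianRing (AdicCompletion I (A ⊗[k] k')) ∧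
      Finite (MaximalSpectrum (AdicCompletion I (A ⊗[k] k'))) ∧
      IsAdicComplete ((IsLocalRing.maximalIdeal A).map (algebraMap A (AdicCompletion I (A ⊗[k] k'))))
        (AdicCompletion I (A ⊗[k] k')) ∧
      ∀ M : MaximalSpectrum (AdicCompletion I (A ⊗[k] k')),
        IsAdicComplete (IsLocalRing.maximalIdeal (Localization.AtPrime M.asIdeal))
            (Localization.AtPrime M.asIdeal) ∧
          Module.FaithfullyFlat A (Localization.AtPrime M.asIdeal) ∧
          ringKrullDim (Localization.AtPrime M.asIdeal) = ringKrullDim A ∧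
          (((Ideal.Quotient.mk M.asIdeal).comp (algebraMap (A ⊗[k] k') (AdicCompletion I (A ⊗[k] k')))).comp
              Algebra.TensorProduct.includeRight.toRingHom).Finite := by
  have hbot : IsLocalRing.maximalIdeal k' = ⊥ := IsLocalRing.isField_iff_maximalIdeal_eq.1 (Field.toIsField k')
  have hI' : I = EGA4.cTensorIdeal k A k' := by
    rw [hI, EGA4.cTensorIdeal, hbot, Ideal.map_bot, sup_bot_eq]; rfl
  subst hI'
  exact aux k A k'

end Groth.Agent.S5993
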