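import Groth.Statements.S5054
import Groth.Agent.CommAlg6.CompletedKaehlerUnits

set_option autoImplicit false
universe u
open EGA418

namespace Groth.Agent.S5054

/-- Let k be a field, A a complete Noetherian local k-algebra whose residue field is a finite extension
of k, p a prime ideal of A distinct from the maximal ideal and containing a minimal prime q with dim
A/q = dim A, Ω̂ the completion (for the topology of the maximal ideal) of the module of
differentials of A over k, and m a natural number. Then the A_p-module Ω̂_p is generated by m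
elements if and only if there is a local k-algebra homomorphism from the power series ring k[[T_1,
…, T_m]] to A making A a finite algebra over it which is unramified at p. -/
theorem result (k A : Type u) [Field k] [CommRing A]
    [IsLocalRing A] [IsNoetherianRing A] [Algebra k A] [IsAdicComplete (IsLocalRing.maximalIdeal A) A]
    [Module.Finite k (IsLocalRing.ResidueField A)]
    (p : Ideal A) [p.IsPrime] (hp : p ≠ IsLocalRing.maximalIdeal A)
    (hq : ∃ q ∈ minimalPrimes A, q ≤ p ∧ ringKrullDim (A ⧸ q) = ringKrullDim A) (m : ℕ) :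
    (∃ s : Fin m → (LocalizedModule p.primeCompl (AdicCompletion (IsLocalRing.maximalIdeal A) (KaehlerDifferential k A))), Submodule.span (Localization.AtPrime p) (Set.range s) = ⊤) ↔
      ∃ (_ : Algebra (MvPowerSeries (Fin m) k) A) (_ : IsScalarTower k (MvPowerSeries (Fin m) k) A),
        IsLocalHom (algebraMap (MvPowerSeries (Fin m) k) A) ∧ Module.Finite (MvPowerSeries (Fin m) k) A ∧
          Algebra.IsUnramifiedAt (MvPowerSeries (Fin m) k) p := by
  constructor
  · rintro ⟨s, hs⟩
    obtain ⟨g, hg⟩ := CommAlg6.exists_lift_of_localized_generators k A p s hs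
    obtain ⟨q, hqmin, hqp, hdim⟩ := hq
    haveI := hqmin.1.1
    have hm : ringKrullDim A ≤ m := hdim ▸ CommAlg6.ringKrullDim_quotient_le_of_generates k A p q hqp g hg
    obtain ⟨x, hx, N, hN⟩ := CommAlg6.exists_parameters_notMem A p hp m hm
    obtain ⟨u, hu⟩ := CommAlg6.exists_units_span_fibre_eq_top k A p m x hx
      (CommAlg6.finrank_fibre_le_of_generates k A p g hg)
    have hN' : IsLocalRing.maximalIdeal A ^ N ≤ Ideal.span (Set.range fun i => (u i : A) * x i) := by
      refine hN.trans (Ideal.span_le.2 ?_)
      rintro _ ⟨i, rfl⟩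
      exact (Ideal.unit_mul_mem_iff_mem _ (u i).isUnit).1 (Ideal.subset_span ⟨i, rfl⟩)
    obtain ⟨φ, hC, hX, hfin, hloc⟩ := CommAlg6.exists_mvPowerSeries_algebra k A (fun i => (u i : A) * x i)
      (fun i => Ideal.mul_mem_left _ _ (hx i).1) N hN'
    letI : Algebra (MvPowerSeries (Fin m) k) A := φ.toAlgebra
    haveI : IsScalarTower k (MvPowerSeries (Fin m) k) A := .of_algebraMap_eq fun c => (RingHom.congr_fun hC c).symm
    haveI : Module.Finite (MvPowerSeries (Fin m) k) A := hfin
    haveI : IsLocalHom (algebraMap (MvPowerSeries (Fin m) k) A) := hloc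
    refine ⟨φ.toAlgebra, ‹_›, hloc, hfin, (CommAlg6.isUnramifiedAt_iff_generates k A p).2 ?_⟩
    rw [show (fun i => CommAlg6.cD k A (algebraMap (MvPowerSeries (Fin m) k) A (MvPowerSeries.X i))) =
      fun i => CommAlg6.cD k A ((u i : A) * x i) from funext fun i => congrArg _ (hX i)]
    exact hu
  · rintro ⟨_, _, hloc, hfin, hun⟩
    haveI := hloc
    haveI := hfin
    exact ⟨_, (CommAlg6.isUnramifiedAt_iff_span_localized k A p).1 hun⟩

end Groth.Agent.S5054
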