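import Groth.Statements.S1811
import Groth.Agent.DualLib.ShriekDim
import Groth.Agent.DualLib.SuppDim
import Groth.Agent.DualLib.ShriekAmpMain
import Groth.Agent.DualLib.ChartApps
import Groth.Agent.DualLib.ShriekLocal
import Groth.Agent.DualLib.Self
import Groth.Agent.Dual22Lib.GorSelf
import Groth.Agent.DCat.PullPerf

set_option autoImplicit false
universe u
open CategoryTheory CategoryTheory.Limits AlgebraicGeometry
attribute [local instance] HasDerivedCategory.standard
open Dual

namespace Groth.Agent.S1811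

/-- Let k be a field and X a scheme proper over k with dim X = d and structure morphism f : X → Spec k;
assume the exactness instances used to define dualizing complexes on schemes (restriction of modules
to open subschemes and the functors M ↦ M~ on affine schemes preserve finite limits). Assume the
derived direct image Rf_* exists and preserves quasi-coherence of cohomology sheaves (both known
results), so that it restricts to a functor D_QCoh(O_X) → D_QCoh(O_{Spec k}), and let a :
D_QCoh(O_{Spec k}) → D_QCoh(O_X) be a right adjoint of this restricted functor. Let O be an object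
of D_QCoh(O_{Spec k}) isomorphic to the structure sheaf placed in degree 0, and put ω = a(O). Then ω
is a dualizing complex on X; its cohomology sheaves H^i(ω) vanish for i < −d and for i > 0; and for
every i ≤ 0 the set of points of X at which H^i(ω) has nonzero stalk has Krull dimension at most −i.
(The published statement has further parts, which are not asserted here, and is phrased with the
upper shriek f^!; for the proper morphism f, f^!O is the a(O) used here.) -/
theorem result (k : Type u) [Field k] (X : Scheme.{u}) [X.Over (Spec (CommRingCat.of k))] [IsProper (X ↘ Spec (CommRingCat.of k))] [∀ (U : Scheme.{u}) (j : U ⟶ X) [IsOpenImmersion j], PreservesFiniteLimits (Scheme.Modules.restrictFunctor j)] [∀ (R : CommRingCat.{u}), PreservesFiniteLimits (tilde.functor R)] (d : ℕ) (hd : topologicalKrullDim X = d) (f : X ⟶ Spec (CommRingCat.of k)) (hf : f = X ↘ Spec (CommRingCat.of k)) [DCoh.HasRpush f] (h : ∀ K : DCoh.D X, DCoh.IsQCohD K → DCoh.IsQCohD ((DCoh.Rpush f).obj K)) (a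 : DCoh.DQCoh (Spec (CommRingCat.of k)) ⥤ DCoh.DQCoh X) (adj : (ObjectProperty.lift DCoh.IsQCohD (ObjectProperty.ι DCoh.IsQCohD ⋙ DCoh.Rpush f) (fun K => h K.obj K.property)) ⊣ a) (O : DCoh.DQCoh (Spec (CommRingCat.of k))) (hO : Nonempty (O.obj ≅ DCoh.inD (Spec (CommRingCat.of k)) (Coh.structureModule (Spec (CommRingCat.of k))))) : Dual2.IsDualizingSch X (a.obj O).obj ∧ (∀ i : ℤ, (i < -(d : ℤ) ∨ 0 < i) → IsZero (DCoh.HD (a.obj O).obj i)) ∧ ∀ (i : ℤ) (n : ℕ), (n : ℤ) = -i → topologicalKrullDim {x : X | Nontrivial ((DCoh.HD (a.obj O).obj i).presheaf.stalk x)} ≤ (n : WithBot ℕ∞) := by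
  haveI : IsProper f := hf ▸ (inferInstance : IsProper (X ↘ Spec (CommRingCat.of k)))
  haveI : ∀ (U V : Scheme.{u}) (j : U ⟶ V) [IsOpenImmersion j],
      PreservesFiniteLimits (Scheme.Modules.restrictFunctor j) := fun U V j _ =>
    Groth.Agent.DCat.PullPerf.preservesFiniteLimits_restrict j
  haveI : IsNoetherian (Spec (CommRingCat.of k)) := {}
  haveI : IsLocallyNoetherian X := LocallyOfFiniteType.isLocallyNoetherian f
  obtain ⟨eO⟩ := hO
  obtain ⟨eR⟩ := Groth.Agent.DualLib.ShriekLocal.nonempty_structure_tilde k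
  have hk : Dual.IsDualizing k (Dual.inD k k) := by
    haveI : Injective (ModuleCat.of k k) :=
      haveI : Module.Injective k k := Module.Baer.injective fun I g => by
        rcases Ideal.eq_bot_or_top I with rfl | rfl
        · exact ⟨0, fun x hx => by
            rw [LinearMap.zero_apply, show (⟨x, hx⟩ : (⊥ : Ideal k)) = 0 from Subsingleton.elim _ _, map_zero]⟩
        · exact ⟨g.comp (Submodule.topEquiv.symm : k ≃ₗ[k] (⊤ : Ideal k)).toLinearMap, fun x hx => rfl⟩
      (Module.injective_iff_injective_object k k).1 this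
    exact Groth.Agent.DualLib.isDualizing_self 1 inferInstance
  let e1 : (DCoh.restrictD (𝟙 (Spec (CommRingCat.of k)))).obj O.obj ≅
      (DCoh.tildeD (CommRingCat.of k)).obj (Dual.inD k k) :=
    (DCoh.restrictD (𝟙 (Spec (CommRingCat.of k)))).mapIso eO ≪≫
      Groth.Agent.Dual22Lib.restrictZeroIso _ ≪≫ eR.symm
  have hQ : Dual2.IsDualizingSch (Spec (CommRingCat.of k)) O.obj :=
    Groth.Agent.Dual22Lib.isDualizingSch_of_cover O.obj PUnit (fun _ => k) (fun _ => 𝟙 _)
      (fun x => ⟨⟨⟩, ⟨x, rfl⟩⟩) fun _ => ⟨_, hk, ⟨e1⟩⟩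
  have hA : Groth.Agent.Dual22Lib.RepLib.RepObj f O.obj (a.obj O).obj := ⟨fun {_} =>
    ⟨(a.obj O).property, (adj.counit.app O).hom,
      fun L hL => Groth.Agent.Dual22Lib.SupportAdj.rep_counit f h a adj O L hL⟩⟩
  refine ⟨Groth.Agent.DualLib.ChartApps.isDualizingSch_rep f hA O.property hQ, ?_⟩
  haveI : (DCoh.inD (Spec (CommRingCat.of k)) (Coh.structureModule (Spec (CommRingCat.of k)))).IsGE 0 :=
    (inferInstance : ((DerivedCategory.singleFunctor (Spec (CommRingCat.of k)).Modules 0).obj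
      (Coh.structureModule (Spec (CommRingCat.of k)))).IsGE 0)
  haveI : O.obj.IsGE 0 := DerivedCategory.TStructure.t.isGE_of_iso eO.symm 0
  have main : ∀ (U : X.affineOpens) (i : ℤ), ∃ (H : Type u) (_ : AddCommGroup H) (_ : Module Γ(X, U.1) H),
      Module.Finite Γ(X, U.1) H ∧
      (∀ y, Nontrivial ((DCoh.HD (a.obj O).obj i).presheaf.stalk (U.2.fromSpec y)) ↔ y ∈ Module.support Γ(X, U.1) H) ∧
      ∀ q ∈ Module.support Γ(X, U.1) H, -(d : ℤ) ≤ i ∧ i ≤ 0 ∧ ∀ m : ℕ, (m : ℤ) = -i →
        ringKrullDim (Γ(X, U.1) ⧸ q.asIdeal) ≤ (m : WithBot ℕ∞) := by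
    intro U i
    let φ := Spec.preimage (U.2.fromSpec ≫ f)
    have hcomm : U.2.fromSpec ≫ f = Spec.map φ ≫ 𝟙 _ := by rw [Category.comp_id, Spec.map_preimage]
    haveI : IsNoetherianRing Γ(X, U.1) := IsLocallyNoetherian.component_noetherian U
    obtain ⟨n, ψ, hψ, hcomp, hiso⟩ := Groth.Agent.DualLib.ChartShriek.exists_local f hA 0 O.property (R := k)
      (B := Γ(X, U.1)) φ.hom (𝟙 _) U.2.fromSpec hcomm _ e1
    letI : Algebra k Γ(X, U.1) := φ.hom.toAlgebra
    let ψ' : MvPolynomial (Fin n) k →ₐ[k] Γ(X, U.1) :=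
      { ψ with commutes' := fun r => RingHom.congr_fun hcomp r }
    haveI : Algebra.FiniteType k Γ(X, U.1) := Algebra.FiniteType.of_surjective ψ' hψ
    haveI : DRing.HasLBaseChange (algebraMap k (MvPolynomial (Fin n) k)) := Groth.Agent.DCat.hasLBaseChange _
    obtain ⟨Rψ, ⟨adjψ⟩⟩ := Groth.Agent.DualLib.Shriek.exists_rightAdjoint ψ
    obtain ⟨e⟩ := hiso Rψ adjψ
    haveI : Module.Flat k Γ(X, U.1) := inferInstance
    have hω := Groth.Agent.Dual22Lib.isDualizing_shriekVia ψ' hψ adjψ hk
    refine ⟨_, inferInstance, inferInstance, hω.finite_cohomology i,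
      fun y => Groth.Agent.Dual22Lib.nontrivial_stalk_iff U.2.fromSpec e y i, fun q h1 => ?_⟩
    rw [Module.mem_support_iff] at h1
    refine ⟨Groth.Agent.DualLib.Shriek.neg_le_of_nontrivial ψ' hψ adjψ q d ?_ i h1,
      Groth.Agent.DualLib.Shriek.le_zero_of_nontrivial ψ' hψ adjψ q.asIdeal i h1, fun m hm =>
        Groth.Agent.DualLib.Shriek.ringKrullDim_quotient_le_of_nontrivial ψ' hψ adjψ q.asIdeal i m hm h1⟩
    refine (iInf_le _ ⟨⊤, trivial⟩).trans ((topologicalKrullDim_subspace_le _ _).trans ?_)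
    calc topologicalKrullDim ↥((Spec.map (CommRingCat.ofHom (algebraMap k Γ(X, U.1)))).fiber _)
        ≤ topologicalKrullDim ↥(Spec (CommRingCat.of Γ(X, U.1))) :=
          ((Spec.map (CommRingCat.ofHom (algebraMap k Γ(X, U.1)))).fiberι _).isEmbedding.isInducing.topologicalKrullDim_le
      _ ≤ topologicalKrullDim X := U.2.fromSpec.isOpenEmbedding.isInducing.topologicalKrullDim_le
      _ = d := hd
  have cov : ∀ x : X, ∃ U : X.affineOpens, x ∈ Set.range U.2.fromSpec := fun x => by
    obtain ⟨U, hU, hx, -⟩ := exists_isAffineOpen_mem_and_subset (U := (⊤ : X.Opens)) (x := x) trivial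
    exact ⟨⟨U, hU⟩, by rw [hU.range_fromSpec]; exact hx⟩
  refine ⟨fun i hi => Groth.Agent.ModStalk.isZero_of_stalks fun x => ?_, fun i n hn => ?_⟩
  · refine Groth.Agent.DCat.SuppOpen.isZero_stalkFunctor (h := not_nontrivial_iff_subsingleton.1 fun hh => ?_) _ _
    obtain ⟨U, y, rfl⟩ := cov x
    obtain ⟨H, _, _, -, hiff, hb⟩ := main U i
    obtain ⟨h1, h2, -⟩ := hb y ((hiff y).1 hh)
    omega
  · refine Groth.Agent.DualLib.SuppDim.topologicalKrullDim_le_of_openEmbeddings _ fun ⟨x, hx⟩ => ?_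
    obtain ⟨U, y, rfl⟩ := cov x
    obtain ⟨H, _, _, _, hiff, hb⟩ := main U i
    refine ⟨_, _, _, U.2.fromSpec.isOpenEmbedding.restrictPreimage _, ⟨⟨y, hx⟩, rfl⟩, ?_⟩
    have hs : U.2.fromSpec ⁻¹' {x : X | Nontrivial ((DCoh.HD (a.obj O).obj i).presheaf.stalk x)} =
        Module.support Γ(X, U.1) H := Set.ext fun z => hiff z
    rw [hs]
    exact Groth.Agent.DualLib.SuppDim.topologicalKrullDim_support_le _ fun q hq => (hb q hq).2.2 n hn

end Groth.Agent.S1811
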