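import Groth.Statements.S1666
import Groth.Agent.VarietyLib.CurveDegreeApps
import Groth.Agent.BlowUpLib.FiniteBirational
import Groth.Agent.CurveRR24.Section

set_option autoImplicit false
universe u
open CategoryTheory CategoryTheory.Limits AlgebraicGeometry
open Variety
open Groth.Agent

namespace Groth.Agent.S1666

theorem compl_finite_closed_points {X : Scheme.{u}} (k : Type u) [Field k] [X.Over (Spec (CommRingCat.of k))]
    [IsProper (X ↘ Spec (CommRingCat.of k))] (hdim : topologicalKrullDim X ≤ 1) (U : X.Opens)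
    (hU : Dense (U : Set X)) :
    ((U : Set X)ᶜ).Finite ∧ ∀ t ∈ (U : Set X)ᶜ, IsClosed ({t} : Set X) := by
  haveI : IsNoetherian X := EulerLib.isNoetherian_of_proper (X := X) k
  have hdu : topologicalKrullDim (Set.univ : Set X) ≤ ((1 : ℕ) : WithBot ℕ∞) :=
    ((Homeomorph.Set.univ X).isInducing.topologicalKrullDim_le).trans hdim
  have hlt1 : ∀ c ∉ U, topologicalKrullDim (closure ({c} : Set X)) < ((1 : ℕ) : WithBot ℕ∞) := fun c hc => by
    obtain ⟨C, hC, hsub⟩ : ∃ C ∈ irreducibleComponents (X : Type u), closure ({c} : Set X) ⊆ C :=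
      exists_mem_irreducibleComponents_subset_of_isIrreducible _ isIrreducible_singleton.closure
    have hCc := isClosed_of_mem_irreducibleComponents C hC
    let η := hC.1.genericPoint
    have hη : closure ({η} : Set X) = C := (hC.1.isGenericPoint_genericPoint hCc).def
    -- the open avoiding the other components meets `U`
    have hfin := TopologicalSpace.NoetherianSpace.finite_irreducibleComponents (α := X)
    have hO : IsOpen (⋃₀ (irreducibleComponents (X : Type u) \ {C}))ᶜ := by
      rw [Set.sUnion_eq_biUnion]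
      exact ((hfin.subset Set.sdiff_subset).isClosed_biUnion (f := fun D => D)
        (fun D hD => isClosed_of_mem_irreducibleComponents D hD.1)).isOpen_compl
    have hne : ((⋃₀ (irreducibleComponents (X : Type u) \ {C}))ᶜ).Nonempty := by
      refine ⟨η, fun hmem => ?_⟩
      obtain ⟨D, hD, hηD⟩ := hmem
      have hCD : C ⊆ D := hη ▸ closure_minimal (Set.singleton_subset_iff.2 hηD)
        (isClosed_of_mem_irreducibleComponents D hD.1)
      exact hD.2 (le_antisymm (hC.2 hD.1.1 hCD) hCD)
    obtain ⟨w, hw, hwU⟩ := hU.inter_open_nonempty _ hO hne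
    have hwC : w ∈ C := by
      obtain ⟨D, hD, hwD⟩ := exists_mem_irreducibleComponents_subset_of_isIrreducible _
        (isIrreducible_singleton (x := w))
      by_cases h : D = C
      · exact h ▸ hwD rfl
      · exact (hw (Set.mem_sUnion_of_mem (hwD rfl)
          (show D ∈ irreducibleComponents (X : Type u) \ {C} from ⟨hD, h⟩))).elim
    have hηU : η ∈ U := (specializes_iff_mem_closure.2 (hη.symm ▸ hwC : w ∈ closure {η})).mem_open U.2 hwU
    have hnot : η ∉ closure ({c} : Set X) := fun h => hc ((specializes_iff_mem_closure.2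
      (hη.symm ▸ hsub (subset_closure rfl) : c ∈ closure {η})).antisymm (specializes_iff_mem_closure.2 h) |>.eq ▸ hηU)
    exact EulerLib.dim_lt_of_notMem isClosed_closure hsub hCc hη hnot ((EulerLib.dim_mono (Set.subset_univ C)).trans hdu)
  have hcl : ∀ c ∉ U, IsClosed ({c} : Set X) := fun c hc => by
    have key : ∀ z ∈ closure ({c} : Set X), z = c := fun z hz => by
      by_contra hne
      have hnmem : c ∉ closure ({z} : Set X) := fun h' =>
        hne ((specializes_iff_mem_closure.2 h').antisymm (specializes_iff_mem_closure.2 hz)).eq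
      have hlt := hlt1 c hc
      have h0 : topologicalKrullDim (closure ({c} : Set X)) ≤ ((0 : ℕ) : WithBot ℕ∞) := by
        revert hlt
        generalize topologicalKrullDim (closure ({c} : Set X)) = t
        intro hlt
        match t with
        | ⊥ => exact bot_le
        | (t : ℕ∞) => exact WithBot.coe_le_coe.2 (ENat.lt_natCast_add_one_iff.1 (by simpa using WithBot.coe_lt_coe.1 hlt))
      have hlt' := EulerLib.dim_lt_of_notMem isClosed_closure
        (closure_minimal (Set.singleton_subset_iff.2 hz) isClosed_closure) isClosed_closure rfl hnmem h0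
      exact (Set.singleton_nonempty z).closure.ne_empty (VarietyLib.eq_empty_of_dim_lt_zero hlt')
    rw [show ({c} : Set X) = closure {c} from Set.Subset.antisymm subset_closure key]
    exact isClosed_closure
  refine ⟨?_, hcl⟩
  obtain ⟨S, hSf, hSc, hSi, hTS⟩ :=
    TopologicalSpace.NoetherianSpace.exists_finite_set_isClosed_irreducible U.2.isClosed_compl
  have hTS' : (U : Set X)ᶜ = ⋃₀ S := hTS
  rw [hTS']
  refine hSf.sUnion fun C hC => ?_
  obtain ⟨c, hc⟩ := QuasiSober.sober (hSi C hC) (hSc C hC)
  have hcC : c ∈ C := by rw [← hc]; exact subset_closure rfl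
  rw [← hc, (hcl c ((hTS'.symm ▸ Set.subset_sUnion_of_mem hC : C ⊆ (U : Set X)ᶜ) hcC)).closure_eq]
  exact Set.finite_singleton c

theorem injective_of_isIso_restrict {X Y : Scheme.{u}} (f : X ⟶ Y) (U : Y.Opens) [IsIso (f ∣_ U)] {a b : X}
    (ha : f a ∈ U) (hb : f b ∈ U) (h : f a = f b) : a = b := by
  have e : ∀ w : ↑(f ⁻¹ᵁ U), U.ι ((f ∣_ U) w) = f ((f ⁻¹ᵁ U).ι w) := fun w => by
    rw [← Scheme.Hom.comp_apply, morphismRestrict_ι, Scheme.Hom.comp_apply]
  have h1 : (f ∣_ U) ⟨a, ha⟩ = (f ∣_ U) ⟨b, hb⟩ :=
    U.ι.isOpenEmbedding.injective ((e ⟨a, ha⟩).trans (h.trans (e ⟨b, hb⟩).symm))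
  exact congrArg Subtype.val ((f ∣_ U).homeomorph.injective h1)


/-- Let f : X' → X be a k-morphism of proper schemes of dimension at most one over k which is an
isomorphism over a dense open of X whose preimage is dense in X'. Then for every finite locally free
module E of rank n on X, deg(f^* E) = deg(E). -/
theorem result (k : Type u) [Field k] (X X' : Scheme.{u}) [X.Over (Spec (CommRingCat.of k))] [X'.Over (Spec (CommRingCat.of k))]
    [IsProper (X ↘ (Spec (CommRingCat.of k)))] [IsProper (X' ↘ (Spec (CommRingCat.of k)))] (hdim : topologicalKrullDim X ≤ 1) (hdim' : topologicalKrullDim X' ≤ 1)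
    (f : X' ⟶ X) (hf : f ≫ (X ↘ (Spec (CommRingCat.of k))) = X' ↘ (Spec (CommRingCat.of k)))
    (U : X.Opens) (hU : Dense (U : Set X)) (hU' : Dense ((f ⁻¹ᵁ U : X'.Opens) : Set X')) (hfU : IsIso (f ∣_ U))
    (n : ℕ) (E : X.Modules) (hE : FlatMod.IsFinLocFreeOfRank n E) :
    Curv2.deg k X' ((Scheme.Modules.pullback f).obj E) n = Curv2.deg k X E n := by
  haveI : IsNoetherian X := EulerLib.isNoetherian_of_proper (X := X) k
  haveI : IsNoetherian X' := EulerLib.isNoetherian_of_proper (X := X') k
  haveI : IsProper (f ≫ (X ↘ Spec (CommRingCat.of k))) := by rw [hf]; infer_instance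
  haveI : IsProper f := IsProper.of_comp f (X ↘ Spec (CommRingCat.of k))
  obtain ⟨hfin, hclosed⟩ := compl_finite_closed_points k hdim U hU
  obtain ⟨hfin', -⟩ := compl_finite_closed_points k hdim' (f ⁻¹ᵁ U) hU'
  haveI : LocallyQuasiFinite f := LocallyQuasiFinite.of_finite_preimage_singleton f fun x => by
    by_cases hx : x ∈ U
    · refine Set.Subsingleton.finite fun a (ha : f a = x) b (hb : f b = x) =>
        injective_of_isIso_restrict f U (ha ▸ hx) (hb ▸ hx) (ha.trans hb.symm)
    · exact hfin'.subset fun a (ha : f a = x) (h : f a ∈ U) => hx (ha ▸ h)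
  haveI : IsFinite f := IsFinite.of_isProper_of_locallyQuasiFinite f
  have hO : Coh.IsCoh (Coh.structureModule X) := Coherent.isCoh_structureModule X
  have hO' : Coh.IsCoh (Coh.structureModule X') := Coherent.isCoh_structureModule X'
  let P := (Coh.push f).obj (Coh.structureModule X')
  have hP : Coh.IsCoh P := Coherent.isCoh_push_finite f hO'
  let θ : Coh.structureModule X ⟶ P := Coherent.unitDesc P (1 : Γ(X', f ⁻¹ᵁ ⊤))
  have hθ : ∀ (V : X.Opens) (r : Γ(X, V)), θ.app V r = f.app V r := fun V r => by
    refine (CurveRR24.unitDesc_app P (1 : Γ(X', f ⁻¹ᵁ ⊤)) V r).trans ?_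
    refine (congrArg (fun z : Γ(P, V) => r • z) (map_one (X'.presheaf.map _).hom)).trans ?_
    exact mul_one (f.app V r)
  have hb : ∀ V : X.Opens, V ≤ U → Function.Bijective (θ.app V) := fun V hV => by
    haveI := BlowUpLib.isIso_app_of_le f U hV
    rw [show ⇑(θ.app V) = fun r => f.app V r from funext (hθ V)]
    exact ConcreteCategory.bijective_of_isIso (f.app V)
  let T : Set X := (U : Set X)ᶜ
  have hTdim : topologicalKrullDim T < ((1 : ℕ) : WithBot ℕ∞) := by
    haveI : Finite T := hfin.to_subtype
    haveI : T1Space T := ⟨fun t => by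
      have := (hclosed t.1 t.2).preimage (continuous_subtype_val (p := fun x => x ∈ T))
      rwa [show Subtype.val ⁻¹' ({t.1} : Set X) = ({t} : Set T) from by ext; simp [Subtype.ext_iff]] at this⟩
    exact (topologicalKrullDim_zero_of_discreteTopology T).trans_lt (by exact_mod_cast zero_lt_one)
  haveI := hO.1
  haveI := hP.1
  have hk : CohB1.support (kernel θ) ⊆ T := fun x hx hxU => hx (subsingleton_of_forall_eq 0 fun a => by
    obtain ⟨V, hV, s, rfl⟩ := TopCat.Presheaf.exists_germ_eq (kernel θ).presheaf a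
    let W : X.Opens := V ⊓ U
    have h1 : (kernel.ι θ).app W (Coherent.resM _ inf_le_left s) = 0 :=
      (hb W inf_le_right).1 ((Coherent.kernel_ι_app_zero θ W _).trans (map_zero _).symm)
    have h2 : Coherent.resM (kernel θ) (inf_le_left : W ≤ V) s = 0 :=
      Coherent.app_injective_of_mono (kernel.ι θ) W (h1.trans (map_zero _).symm)
    exact (TopCat.Presheaf.germ_res_apply (kernel θ).presheaf (homOfLE (inf_le_left : W ≤ V)) x ⟨hV, hxU⟩ s).symm.trans
      ((congrArg ((kernel θ).presheaf.germ W x ⟨hV, hxU⟩) h2).trans (map_zero _)))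
  have hc : CohB1.support (cokernel θ) ⊆ T := fun x hx hxU => hx (subsingleton_of_forall_eq 0 fun a => by
    obtain ⟨w, rfl⟩ := (ModuleCat.epi_iff_surjective ((DerSch.stalkFunctor X x).map (cokernel.π θ))).1 inferInstance a
    obtain ⟨V, hV, s, rfl⟩ := TopCat.Presheaf.exists_germ_eq P.presheaf w
    let W : X.Opens := V ⊓ U
    obtain ⟨r, hr⟩ := (hb W inf_le_right).2 (Coherent.resM P inf_le_left s)
    rw [Coherent.stalk_map_germ]
    have h1 : (cokernel.π θ).app W (Coherent.resM P inf_le_left s) = 0 := by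
      rw [← hr]
      exact Coherent.sections_zero (S := ShortComplex.mk θ (cokernel.π _) (cokernel.condition _)) _ _
    rw [Coherent.app_resM] at h1
    refine ((TopCat.Presheaf.germ_res_apply (cokernel θ).presheaf
      (homOfLE (inf_le_left : W ≤ V)) x ⟨hV, hxU⟩ _).symm.trans ?_)
    exact (congrArg ((cokernel θ).presheaf.germ W x ⟨hV, hxU⟩) h1).trans (map_zero _))
  have hsmall : ∀ M : X.Modules, Coh.IsCoh M → CohB1.support M ⊆ T → VarietyLib.degFun k n E M = 0 :=
    fun M hM hMT => VarietyLib.degFun_of_dim_lt_one k hE hM ((EulerLib.dim_mono hMT).trans_lt hTdim)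
  have hker : Coh.IsCoh (kernel θ) := Coherent.isCoh_kernel θ hO hP.1
  have hcok : Coh.IsCoh (cokernel θ) := Coherent.isCoh_cokernel θ hO.1 hP
  have hI : Coh.IsQCoh (Abelian.image θ) := Coherent.isQCoh_image θ
  have hIm : Coh.IsCoh (Abelian.image θ) := Coherent.isCoh_of_mono (Abelian.image.ι θ) hP hI
  let S₁ : ShortComplex X.Modules := ShortComplex.mk (kernel.ι θ) (Abelian.factorThruImage θ) (by
    rw [← cancel_mono (Abelian.image.ι θ), Category.assoc, Abelian.image.fac, kernel.condition, zero_comp])
  have hS₁ : S₁.ShortExact :=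
    { mono_f := inferInstanceAs (Mono (kernel.ι θ))
      epi_g := inferInstanceAs (Epi (Abelian.factorThruImage θ))
      exact := ShortComplex.exact_of_f_is_kernel _
        (isKernelOfComp (f := Abelian.factorThruImage θ) (Abelian.image.ι θ) θ (kernelIsKernel θ) S₁.zero
          (Abelian.image.fac θ)) }
  let S₂ : ShortComplex X.Modules :=
    ShortComplex.mk (Abelian.image.ι θ) (cokernel.π θ) (kernel.condition (cokernel.π θ))
  have hS₂ : S₂.ShortExact :=
    { exact := ShortComplex.exact_of_f_is_kernel _ (kernelIsKernel (cokernel.π θ))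
      mono_f := inferInstanceAs (Mono (kernel.ι (cokernel.π θ)))
      epi_g := inferInstanceAs (Epi (cokernel.π θ)) }
  have a₁ := VarietyLib.degFun_add k hE S₁ hS₁ hker hO hIm
  have a₂ := VarietyLib.degFun_add k hE S₂ hS₂ hIm hP hcok
  rw [hsmall _ hker hk, zero_add] at a₁
  rw [hsmall _ hcok hc, add_zero] at a₂
  rw [← VarietyLib.degFun_push k f hf hE, ← VarietyLib.degFun_structure k E]
  exact a₂.trans a₁.symm

end Groth.Agent.S1666
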