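import Groth.Statements.S14020
import Mathlib.RingTheory.Derivation.Basic
import Mathlib.RingTheory.Flat.Equalizer
import Mathlib.RingTheory.Henselian
import Mathlib.RingTheory.Regular.RegularSequence
import Mathlib.RingTheory.RegularLocalRing.Defs
import Mathlib.RingTheory.SimpleRing.Principal
import Mathlib.RingTheory.Flat.FaithfullyFlat.Algebra
import Mathlib.RingTheory.Ideal.AssociatedPrime.Basic
import Mathlib.RingTheory.HopkinsLevitzki
import Mathlib.RingTheory.Support
import Mathlib.Tactic
import Groth.Agent.CommAlg4.Basic

set_option linter.all false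

set_option autoImplicit false
universe u
open CAlg

open Groth.Agent.CommAlg4

namespace Groth.Agent.S14020

/-- Let R be a commutative ring and I a finitely generated ideal such that the quotient ring R/I is
artinian. Then R/I^n is artinian for every n. -/
theorem result
    (R : Type u) [CommRing R] (I : Ideal R) (hI : I.FG) [IsArtinianRing (R ⧸ I)] (n : ℕ) :
    IsArtinianRing (R ⧸ I ^ n) := by
  suffices IsArtinian R (R ⧸ I ^ n) from isArtinian_of_tower R this
  induction n with
  | zero => 
    have : Subsingleton (R ⧸ I ^ 0) := by rw [pow_zero, Ideal.one_eq_top]; infer_instance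
    infer_instance
  | succ n ih =>
    let S : Submodule R (R ⧸ I ^ (n+1)) := Submodule.map (I ^ (n+1)).mkQ (I ^ n)
    refine (isArtinian_iff_submodule_quotient S).mpr ⟨?_, ?_⟩
    · haveI : Module.Finite R S := Module.Finite.iff_fg.mpr (Submodule.FG.map _ hI.pow)
      refine artinian_of_annihilated I S ?_
      rintro a ha ⟨_, x, hx, rfl⟩
      apply Subtype.ext
      rw [SetLike.val_smul, ← map_smul]
      exact (Submodule.Quotient.mk_eq_zero _).mpr (by rw [pow_succ, smul_eq_mul, mul_comm a]; exact Ideal.mul_mem_mul hx ha)
    · have e := Submodule.quotientQuotientEquivQuotient (I ^ (n+1)) (I ^ n) (Ideal.pow_le_pow_right n.le_succ)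
      exact e.isArtinian_iff.mpr ih

end Groth.Agent.S14020
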