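import Groth.Statements.S15706
import Mathlib.Algebra.Category.ModuleCat.Abelian
import Mathlib.CategoryTheory.Limits.Shapes.Countable
import Mathlib.CategoryTheory.Limits.Types.Pullbacks
import Mathlib.Dynamics.Newton
import Mathlib.Order.CompletePartialOrder
import Mathlib.RingTheory.AdicCompletion.Noetherian
import Mathlib.RingTheory.Etale.Weakly
import Mathlib.RingTheory.Flat.TorsionFree
import Mathlib.RingTheory.Ideal.AssociatedPrime.Localization
import Mathlib.RingTheory.PicardGroup
import Mathlib.RingTheory.PowerSeries.NoZeroDivisors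
import Mathlib.RingTheory.PowerSeries.Trunc
import Mathlib.RingTheory.TotallySplit
import Mathlib.Tactic
import Groth.Agent.CommAlg4.Nilpotent
import Groth.Agent.S14020

set_option linter.all false

set_option autoImplicit false
universe u
open CAlg

open CategoryTheory

namespace Groth.Agent.S15706

/-- Let A be a Noetherian ring with Serre's property (S_1), stated here in the equivalent form that
every associated prime of A is a minimal prime of A. Let I be an ideal of A and b an element of A/I
which is regular (a non-zero-divisor) in A/I. Then b is the image of a regular element of A. -/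
theorem result (A : Type u) [CommRing A]
    [IsNoetherianRing A] (hS1 : ∀ p ∈ associatedPrimes A A, p ∈ minimalPrimes A) (I : Ideal A)
    (b : A ⧸ I) (hb : b ∈ nonZeroDivisors (A ⧸ I)) :
    ∃ a : A, a ∈ nonZeroDivisors A ∧ Ideal.Quotient.mk I a = b := by
  classical
  obtain ⟨a, rfl⟩ := Ideal.Quotient.mk_surjective b
  have hfin := associatedPrimes.finite A A
  let S := hfin.toFinset
  have hprime : ∀ p ∈ S, p.IsPrime := fun p hp => (hfin.mem_toFinset.mp hp).isPrime
  let L : Ideal A := I * ∏ p ∈ S.filter (fun p => a ∉ p), p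
  have hL : ∀ p ∈ S, a ∈ p → ¬ L ≤ p := by
    intro p hp hap hle
    have hpP := hprime p hp
    have hpA : p ∈ minimalPrimes A := hS1 p (hfin.mem_toFinset.mp hp)
    rcases (Ideal.IsPrime.mul_le hpP).mp hle with h | h
    · -- I ≤ p: p minimal over I
      have hmin : p ∈ I.minimalPrimes := ⟨⟨hpP, h⟩, fun q hq hqp => hpA.2 ⟨hq.1, bot_le⟩ hqp⟩
      have hmin' : p ∈ (Module.annihilator A (A ⧸ I)).minimalPrimes := by rwa [Ideal.annihilator_quotient]
      have hass := Module.associatedPrimes.minimalPrimes_annihilator_subset_associatedPrimes A (A ⧸ I) hmin'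
      have hz : a ∈ ⋃ q ∈ associatedPrimes A (A ⧸ I), (q : Set A) := Set.mem_biUnion hass hap
      rw [biUnion_associatedPrimes_eq_zero_divisors] at hz
      obtain ⟨x, hx0, hx⟩ := hz
      exact hx0 ((mem_nonZeroDivisors_iff.mp hb).1 x hx)
    · obtain ⟨q, hq, hqp⟩ := (Ideal.IsPrime.prod_le hpP).mp h
      rw [Finset.mem_filter] at hq
      have : p ≤ q := hpA.2 ⟨hprime q hq.1, bot_le⟩ hqp
      exact hq.2 (this hap)
  obtain ⟨i, hiL, hi⟩ : ∃ i ∈ L, ∀ p ∈ S, a ∈ p → i ∉ p := by
    by_cases hne : (S.filter (fun p => a ∈ p)).Nonempty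
    · obtain ⟨p0, _⟩ := hne
      have := (Ideal.subset_union_prime (s := S.filter (fun p => a ∈ p)) (f := id) p0 p0
        (fun p hp _ _ => hprime p (Finset.mem_filter.mp hp).1) (I := L)).not.mpr (by
          rintro ⟨p, hp, hle⟩
          exact hL p (Finset.mem_filter.mp hp).1 (Finset.mem_filter.mp hp).2 hle)
      obtain ⟨i, hi, hi'⟩ := Set.not_subset.mp this
      exact ⟨i, hi, fun p hp hap hip => hi' (Set.mem_biUnion (Finset.mem_filter.mpr ⟨hp, hap⟩) hip)⟩
    · exact ⟨0, L.zero_mem, fun p hp hap => absurd ⟨p, Finset.mem_filter.mpr ⟨hp, hap⟩⟩ hne⟩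
  refine ⟨a + i, ?_, ?_⟩
  · by_contra h
    have : a + i ∈ ⋃ q ∈ associatedPrimes A A, (q : Set A) := by
      rw [biUnion_associatedPrimes_eq_compl_nonZeroDivisors]; exact h
    obtain ⟨q, hq, hmem⟩ := Set.mem_iUnion₂.mp this
    by_cases haq : a ∈ q
    · exact hi q (hfin.mem_toFinset.mpr hq) haq ((Submodule.add_mem_iff_right q haq).mp hmem)
    · have : i ∈ q := Ideal.le_of_dvd (Dvd.dvd.mul_left (Finset.dvd_prod_of_mem _ (Finset.mem_filter.mpr ⟨hfin.mem_toFinset.mpr hq, haq⟩)) I) hiL
      exact haq ((Submodule.add_mem_iff_left q this).mp hmem)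
  · rw [Ideal.Quotient.eq]; simpa using Ideal.mul_le_left hiL

end Groth.Agent.S15706
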