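import Groth.Statements.S14457
import Groth.Agent.CommAlg4.FiniteAlgClosed
import Groth.Agent.S15706
import Mathlib.Algebra.Azumaya.Basic
import Mathlib.Algebra.DualNumber
import Mathlib.Algebra.Module.StablyFree.Basic
import Mathlib.NumberTheory.Padics.PadicIntegers
import Mathlib.RingTheory.Etale.StandardEtale
import Mathlib.RingTheory.WittVector.Domain
import Mathlib.RingTheory.WittVector.Teichmuller
import Mathlib.Tactic
import Groth.Agent.CommAlg4.FiniteAlgClosed
import Groth.Agent.S15706

set_option linter.all false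

set_option autoImplicit false
universe u
open CAlg

open Groth.Agent.CommAlg4

namespace Groth.Agent.S14457

open Polynomial in
/-- Let A be a commutative ring, a an element of A and n ≥ 1 an integer. The A-algebra A[T]/(T^n − a) is
etale exactly when either n = 1 or the product n·a is a unit of A. (The exponent n is a positive
integer here; for n = 0 the quotient is (A/(1 − a))[T] and the equivalence fails.) -/
theorem result (A : Type u) [CommRing A] (a : A) (n : ℕ) (hn : 1 ≤ n) :
    Algebra.Etale A (AdjoinRoot ((X : A[X]) ^ n - C a)) ↔ n = 1 ∨ IsUnit ((n : A) * a) := by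
  set f : A[X] := X ^ n - C a with hfdef
  have hmon : f.Monic := monic_X_pow_sub_C a (by omega)
  constructor
  · intro het
    rcases Nat.lt_or_ge 1 n with h1 | h1
    swap
    · left; omega
    right
    nontriviality A
    set R := AdjoinRoot f
    set x := AdjoinRoot.root f
    let d : R := aeval x (derivative f)
    let Q := R ⧸ Ideal.span {d}
    let q : Q := Ideal.Quotient.mk _ x
    have hq0 : aeval q f = 0 := by
      show aeval (algebraMap R Q x) f = 0
      rw [aeval_algebraMap_apply, AdjoinRoot.aeval_eq, AdjoinRoot.mk_self, map_zero]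
    have hd0 : aeval q (derivative f) = 0 := by
      show aeval (algebraMap R Q x) (derivative f) = 0
      rw [aeval_algebraMap_apply]; exact Ideal.Quotient.eq_zero_iff_mem.mpr (Ideal.mem_span_singleton_self d)
    have hroot : ∀ ε : DualNumber Q, ε * ε = 0 → aeval (algebraMap Q (DualNumber Q) q + ε) f = 0 := by
      intro ε hε
      obtain ⟨u, hu⟩ := binomExpansion (f.map (algebraMap A (DualNumber Q))) (algebraMap Q (DualNumber Q) q) ε
      rw [derivative_map, eval_map_algebraMap, eval_map_algebraMap, eval_map_algebraMap, aeval_algebraMap_apply, hq0, aeval_algebraMap_apply, hd0, map_zero, zero_mul, zero_add, pow_two, hε, mul_zero, add_zero] at hu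
      exact hu
    let g₁ : R →ₐ[A] DualNumber Q := AdjoinRoot.liftAlgHom f (Algebra.ofId A _) _ (hroot 0 (by simp))
    let g₂ : R →ₐ[A] DualNumber Q := AdjoinRoot.liftAlgHom f (Algebra.ofId A _) _ (hroot DualNumber.eps (by simp))
    have hgx1 : g₁ (AdjoinRoot.root f) = algebraMap Q (DualNumber Q) q + 0 := AdjoinRoot.liftAlgHom_root f _ _ _
    have hgx2 : g₂ (AdjoinRoot.root f) = algebraMap Q (DualNumber Q) q + DualNumber.eps := AdjoinRoot.liftAlgHom_root f _ _ _
    have hg : g₁ = g₂ := by
      refine Algebra.FormallyUnramified.ext' (RingHomClass.toRingHom (TrivSqZeroExt.fstHom Q Q Q)) ⟨2, ?_⟩ g₁ g₂ ?_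
      · rw [Ideal.zero_eq_bot, eq_bot_iff, pow_two, Ideal.mul_le]
        intro r hr s hs
        simp only [RingHom.mem_ker, RingHom.coe_coe, TrivSqZeroExt.fstHom_apply] at hr hs
        rw [Ideal.mem_bot]
        ext <;> simp [hr, hs]
      · have : ((TrivSqZeroExt.fstHom Q Q Q).restrictScalars A).comp g₁ = ((TrivSqZeroExt.fstHom Q Q Q).restrictScalars A).comp g₂ :=
          AdjoinRoot.algHom_ext (by simp [hgx1, hgx2]; rfl)
        exact AlgHom.congr_fun this
    have h10 := congrArg TrivSqZeroExt.snd (AlgHom.congr_fun hg x)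
    simp [hgx1, hgx2, x] at h10
    haveI : Subsingleton Q := subsingleton_of_zero_eq_one h10.symm
    have hdu : IsUnit d := by
      rw [← Ideal.span_singleton_eq_top]; exact Ideal.Quotient.subsingleton_iff.mp ‹_›
    have hd : d = algebraMap A R (n : A) * x ^ (n - 1) := by
      simp [d, hfdef, derivative_X_pow, map_mul]
    rw [hd, IsUnit.mul_iff] at hdu
    have hxu : IsUnit x := (isUnit_pow_iff (by omega : n - 1 ≠ 0)).mp hdu.2
    have hxn : x ^ n = algebraMap A R a := by
      rw [← sub_eq_zero]
      simpa [hfdef, x, R, AdjoinRoot.algebraMap_eq] using (AdjoinRoot.aeval_eq (f := f) f).trans AdjoinRoot.mk_self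
    have hau : IsUnit (algebraMap A R a) := hxn ▸ hxu.pow n
    haveI : Module.Free A R := hmon.free_adjoinRoot
    haveI : Module.Finite A R := hmon.finite_adjoinRoot
    have hinj : Function.Injective (algebraMap A R) := (injective_iff_map_eq_zero _).mpr fun r hr => by
      rw [AdjoinRoot.algebraMap_eq, ← AdjoinRoot.mk_C, AdjoinRoot.mk_eq_zero] at hr
      by_contra hr0
      exact hmon.not_dvd_of_natDegree_lt (by simpa using hr0) (by rw [natDegree_C, natDegree_X_pow_sub_C]; omega) hr
    haveI := RingHom.IsIntegral.isLocalHom (f := algebraMap A R) (Algebra.IsIntegral.isIntegral) hinj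
    exact (isUnit_of_map_unit _ _ hdu.1).mul (isUnit_of_map_unit _ _ hau)
  · intro h
    obtain ⟨p₁, p₂, hp⟩ : ∃ p₁ p₂ : A[X], derivative f * p₁ + f * p₂ = 1 := by
      rcases h with rfl | h
      · exact ⟨1, 0, by simp [hfdef]⟩
      · obtain ⟨c, hc⟩ := h.exists_right_inv
        refine ⟨C c * X, -(C c * C (n : A)), ?_⟩
        have e : (n : A[X]) * C a * C c = 1 := by rw [← map_natCast C, ← map_mul, ← map_mul, hc, map_one]
        obtain ⟨j, rfl⟩ : ∃ j, n = j + 1 := ⟨n - 1, by omega⟩
        simp only [hfdef, derivative_sub, derivative_X_pow, derivative_C, sub_zero, Nat.add_sub_cancel]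
        rw [← e]; push_cast; simp only [map_add, map_natCast, map_one]; ring
    let P : StandardEtalePair A := ⟨f, hmon, 1, p₁, p₂, 1, by rw [hp, one_pow]⟩
    have hmap : P.HasMap (AdjoinRoot.root f) := ⟨(AdjoinRoot.aeval_eq f).trans AdjoinRoot.mk_self, by simp [P]⟩
    let L := AdjoinRoot.liftAlgHom f (Algebra.ofId A P.Ring) P.X P.hasMap_X.1
    have hL : L (AdjoinRoot.root f) = P.X := AdjoinRoot.liftAlgHom_root f _ _ _
    let e : P.Ring ≃ₐ[A] AdjoinRoot f := AlgEquiv.ofAlgHom (P.lift _ hmap) L
      (AdjoinRoot.algHom_ext (by rw [AlgHom.comp_apply, hL, P.lift_X]; rfl))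
      (P.hom_ext (by rw [AlgHom.comp_apply, P.lift_X, hL]; rfl))
    exact Algebra.Etale.of_equiv e

end Groth.Agent.S14457
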