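import Groth.Statements.S7053
import Groth.Agent.DCat.DComplete

set_option autoImplicit false
set_option backward.isDefEq.respectTransparency false
set_option backward.defeqAttrib.useBackward true
universe u
attribute [local instance] HasDerivedCategory.standard
open DRing

namespace Groth.Agent.S7053

open DCat.DC in
lemma nakayama {A : Type u} [CommRing A] (I : Ideal A) (s : Finset A) :
    ∀ (M : Type u) [AddCommGroup M] [Module A M], ModDC I M → (↑s : Set A) ⊆ I →
      Ideal.span (↑s : Set A) • (⊤ : Submodule A M) = ⊤ → Subsingleton M := by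
  classical
  induction s using Finset.induction with
  | empty =>
    intro M _ _ _ _ h
    rw [Finset.coe_empty, Ideal.span_empty, Submodule.bot_smul] at h
    exact subsingleton_of_forall_eq 0 fun x => (Submodule.mem_bot A).1 (h.symm ▸ Submodule.mem_top)
  | insert f s hfs ih =>
    intro M _ _ hc hs h
    rw [Finset.coe_insert, Set.insert_subset_iff] at hs
    let u : M →ₗ[A] M := f • LinearMap.id
    let q : M →ₗ[A] M ⧸ LinearMap.range u := (LinearMap.range u).mkQ
    have hN : Subsingleton (M ⧸ LinearMap.range u) := by
      refine ih _ (hc.coker hc u) hs.2 (top_le_iff.1 ?_)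
      have h0 := congrArg (Submodule.map q) h
      rw [Submodule.map_smul'', Submodule.map_top,
        LinearMap.range_eq_top.2 (Submodule.mkQ_surjective _)] at h0
      conv_lhs => rw [← h0]
      rw [Finset.coe_insert, Ideal.span_insert, Submodule.sup_smul, sup_le_iff]
      refine ⟨Submodule.smul_le.2 fun a ha z _ => ?_, le_rfl⟩
      obtain ⟨b, rfl⟩ := Ideal.mem_span_singleton'.1 ha
      obtain ⟨z, rfl⟩ := Submodule.mkQ_surjective _ z
      rw [mul_smul, ← map_smul, (Submodule.Quotient.mk_eq_zero _).2 ⟨z, rfl⟩ |> fun e => (e : q (f • z) = 0)]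
      simp
    have hsurj : ∀ x : M, ∃ z : M, f • z = x := fun x =>
      (Submodule.Quotient.mk_eq_zero (LinearMap.range u)).1 (Subsingleton.elim (q x) 0)
    choose g hg using hsurj
    refine subsingleton_of_forall_eq 0 fun x => ?_
    have := eq_zero (hc f hs.1) (x := fun m => g^[m] x) fun m => by
      rw [Function.iterate_succ_apply']; exact (hg _).symm
    exact congrFun this 0

/-- For a commutative ring A, a finitely generated ideal I and an A-module M which, placed in degree 0
of D(A), is derived complete with respect to I, if IM = M then M = 0. -/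
theorem result {A : Type u} [CommRing A] (I : Ideal A) (hI : I.FG)
    (M : Type u) [AddCommGroup M] [Module A M] (hc : DRing.IsDerivedComplete I (Dual.inD A M))
    (h : I • (⊤ : Submodule A M) = ⊤) : Subsingleton M := by
  obtain ⟨s, hs⟩ := hI
  refine nakayama I s M ((DCat.DC.isDerivedComplete_inD_iff M).1 hc) ?_ (hs.symm ▸ h)
  rw [← hs]
  exact Ideal.subset_span


end Groth.Agent.S7053
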