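import Groth.Statements.S1008
import Groth.Agent.Dual22Lib.PerfGen

set_option autoImplicit false
universe u
open CategoryTheory CategoryTheory.Limits AlgebraicGeometry
attribute [local instance] HasDerivedCategory.standard
open Perf

namespace Groth.Agent.S1008

open CategoryTheory CategoryTheory.Limits AlgebraicGeometry Groth.Agent.Dual22Lib


/-- Let the scheme X be quasi-compact and quasi-separated. There is a perfect object P of D(O_X) which
generates D_QCoh(O_X): an object E of D(O_X) with quasi-coherent cohomology sheaves is zero if and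
only if every morphism P[n] ⟶ E, n ∈ ℤ, is zero. -/
theorem result (X : Scheme.{u}) [CompactSpace ↥X] [QuasiSeparatedSpace ↥X] :
    ∃ P : DCoh.D X, DCoh.IsPerfect P ∧ ∀ E : DCoh.D X, DCoh.IsQCohD E →
      (IsZero E ↔ ∀ (n : ℤ) (φ : P⟦n⟧ ⟶ E), φ = 0) := by
  haveI : IsEmpty ((⊥ : X.Opens) : Scheme.{u}) := ⟨fun x => x.2⟩
  obtain ⟨P, hP, -, hd⟩ := PerfGen.gen (X := X) ⊥ (by simp)
  refine ⟨P, hP, fun E hE => ⟨fun h n φ => h.eq_of_tgt _ _, hd E hE ?_⟩⟩
  exact (AdjGeom.killed_iff _ E).2 fun i x hx => by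
    rw [Scheme.Opens.opensRange_ι] at hx
    exact hx.elim

end Groth.Agent.S1008
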