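import Groth.Statements.S1119
import Groth.Agent.DQCoh.PerfApprox
import Groth.Agent.Dual22Lib.LTensorPsc
import Groth.Agent.DQCoh.Bound
-- import your own Groth.Agent.* helpers here

set_option autoImplicit false
universe u
open CategoryTheory CategoryTheory.Limits AlgebraicGeometry Opposite
attribute [local instance] HasDerivedCategory.standard
open Perf

namespace Groth.Agent.S1119

/-- Let A be a ring, π : X ⟶ Spec A with X quasi-compact and quasi-separated, and K a cochain complex of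
O_X-modules whose image in D(O_X) is bounded above with quasi-coherent cohomology sheaves. Assuming
Rπ_* and - ⊗^L K exist: if Rπ_*(E ⊗^L K) is pseudo-coherent on Spec A for every perfect E ∈ D(O_X),
then Rπ_*(E ⊗^L K) is pseudo-coherent for every pseudo-coherent E ∈ D(O_X). (The source phrases the
condition with RΓ(X, -) valued in D(A); on the affine base the two formulations correspond under
D(A) ≃ D_QCoh(Spec A).) -/
theorem result (A : Type u) [CommRing A] (X : Scheme.{u}) [CompactSpace ↥X] [QuasiSeparatedSpace ↥X]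
    (π : X ⟶ Spec (CommRingCat.of A)) [DCoh.HasRpush π]
    (K : CochainComplex X.Modules ℤ) (hK : DCoh.IsQCohD (DCoh.toD X K)) (b : ℤ) [(DCoh.toD X K).IsLE b] [DCoh.HasLTensorCx K]
    (h : ∀ E : DCoh.D X, DCoh.IsPerfect E → ∀ m : ℤ, DCoh.IsPseudoCoherentD m ((DCoh.Rpush π).obj ((DCoh.LTensorCx K).obj E)))
    (E : DCoh.D X) (hE : ∀ m : ℤ, DCoh.IsPseudoCoherentD m E) (m : ℤ) :
    DCoh.IsPseudoCoherentD m ((DCoh.Rpush π).obj ((DCoh.LTensorCx K).obj E)) := by
  classical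
  haveI : QuasiCompact π := quasiCompact_of_compactSpace π
  haveI : QuasiSeparated π := .of_quasiSeparatedSpace π
  obtain ⟨K₁, hK₁, ⟨eK⟩⟩ := DerivedCategory.exists_iso_Q_obj_of_isLE (DerivedCategory.Q.obj K) b
  obtain ⟨N, q, hNk, -, hq, hN⟩ := Groth.Agent.DCat.exists_kflat_sheaf_le K₁ b
    fun n hn => CochainComplex.isZero_of_isStrictlyLE K₁ b n hn
  haveI := hq
  haveI := Groth.Agent.DCat.LTensorSheaf.hasLTensorCx N
  let eN : DerivedCategory.Q.obj K ≅ DerivedCategory.Q.obj N := eK ≪≫ (asIso (DerivedCategory.Q.map q)).symm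
  obtain ⟨a⟩ := Groth.Agent.DCat.TensorCongr.nonempty_congr (E := K) (E' := N) eN
  refine Groth.Agent.DCat.PCTriangle.psc_iso ((DCoh.Rpush π).mapIso (a.app E)).symm ?_
  obtain ⟨_, _⟩ := Groth.Agent.DCat.exists_commShift_Rpush π
  obtain ⟨d, hd⟩ := Groth.Agent.DQCoh.exists_uniform_bound π
  obtain ⟨r, hr⟩ := Groth.Agent.DQCoh.PerfApprox.full_of_top Groth.Agent.DQCoh.PerfApprox.top (⊥ : X.Opens) (by simp)
  obtain ⟨m₁, hm₁⟩ : ∃ m₁ : ℤ, m₁ = m - b - d + 1 := ⟨_, rfl⟩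
  obtain ⟨P, α, hP, -, hα⟩ := hr m₁ E (Groth.Agent.DQCoh.isQCohD_of_psc hE) (hE _)
    (fun i hi x hx => absurd hx (by simp))
  obtain ⟨C, v, w, hT⟩ := Pretriangulated.distinguished_cocone_triangle α
  haveI hC : C.IsLE (m₁ - 1) := (Groth.Agent.DCat.PullPerf.apx_iff_isLE m₁ _ hT).1 hα
  have hCq : DCoh.IsQCohD C := Groth.Agent.DQCoh.isQCohD_obj₃ hT
    (Groth.Agent.Dual22Lib.PerfLift.isQCohD_perfect hP) (Groth.Agent.DQCoh.isQCohD_of_psc hE)
  obtain ⟨δ, hδ⟩ := Groth.Agent.DQCoh.exists_triangle_LTensorCx N hNk hT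
  have hGC : ((DCoh.LTensorCx N).obj C).IsLE (m₁ - 1 + b) := Groth.Agent.DQCoh.isLE_LTensor N hNk b hN C (m₁ - 1)
  have hGq : DCoh.IsQCohD ((DCoh.LTensorCx N).obj C) :=
    Groth.Agent.DQCoh.isQCohD_LTensorCx N (Groth.Agent.DQCoh.isQCohD_of_iso eN hK) C hCq
  have hR : ((DCoh.Rpush π).obj ((DCoh.LTensorCx N).obj C)).IsLE (m - 1) := by
    let G := (DCoh.LTensorCx N).obj C
    haveI : G.IsLE (m₁ - 1 + b) := hGC
    haveI h0 : (G⟦(m₁ - 1 + b)⟧).IsLE 0 := DerivedCategory.TStructure.t.isLE_shift G (m₁ - 1 + b) (m₁ - 1 + b) 0 (by ring)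
    rw [DerivedCategory.isLE_iff]
    intro i hi
    have hz := hd (G⟦(m₁ - 1 + b)⟧) (Groth.Agent.DQCoh.isQCohD_shift hGq _) h0 (i - (m₁ - 1 + b)) (by omega)
    refine hz.of_iso ?_
    exact (((DerivedCategory.homologyFunctor _ 0).shiftIso (m₁ - 1 + b) (i - (m₁ - 1 + b)) i (by ring)).app _).symm ≪≫
      (DerivedCategory.homologyFunctor _ (i - (m₁ - 1 + b))).mapIso (((DCoh.Rpush π).commShiftIso (m₁ - 1 + b)).app G).symm
  have h1 := h P hP m
  exact Groth.Agent.DCat.PCTriangle.psc_ext ((DCoh.Rpush π).map_distinguished _ hδ)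
    (Groth.Agent.DCat.PCTriangle.psc_iso ((DCoh.Rpush π).mapIso (a.app P)) h1)
    (Groth.Agent.DCat.PCTriangle.psc_of_gpsc (Groth.Agent.DCat.PCTriangle.psc_of_isLE (n := m - 1) (by omega) hR))

end Groth.Agent.S1119

#print axioms Groth.Agent.S1119.result
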