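import Groth.Prelude.Def_CohSite
import Mathlib.Algebra.Category.ModuleCat.Sheaf.Abelian
import Mathlib.Algebra.Homology.DerivedCategory.Ext.Basic
import Groth.Agent.SiteDer16.ExtCompare
import Groth.Agent.SiteDer16.ModAcyclic
import Groth.Agent.DCat.ModulesGrothendieck
import Groth.Agent.Coherent.ModulesExact
import Groth.Agent.SiteDer16.FreeHom

set_option autoImplicit false
universe u
namespace CategoryTheory
end CategoryTheory
open CategoryTheory
namespace CohSite
end CohSite
open CohSite

namespace Groth.Agent.S0491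

variable {C : Type u} [SmallCategory C] (J : GrothendieckTopology C)

/-- The one point sheaf. -/
def ptSheaf : Sheaf J (Type u) :=
  ⟨(Functor.const Cᵒᵖ).obj PUnit.{u + 1}, (isSheaf_iff_isSheaf_of_type _ _).2
    fun _ _ _ _ _ => ⟨PUnit.unit, fun _ _ _ => rfl, fun _ _ => rfl⟩⟩

/-- The constant sheaf `ℤ` is free on a point. -/
noncomputable def constFreeIso :
    Groth.Agent.SiteDer16.freeAbSheaf (J := J) (ptSheaf J).obj ≅
      (constantSheaf J AddCommGrpCat.{u}).obj (AddCommGrpCat.of (ULift.{u} ℤ)) :=
  (presheafToSheaf J AddCommGrpCat.{u}).mapIso (NatIso.ofComponents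
    (fun _ => ((FreeAbelianGroup.uniqueEquiv PUnit.{u + 1}).trans AddEquiv.ulift.symm).toAddCommGrpIso)
    (fun {V W} g => by
      apply AddCommGrpCat.hom_ext
      refine FreeAbelianGroup.lift_ext _ _ fun s => ?_
      rfl))

theorem subsingleton_of_iso {P Q G : Sheaf J AddCommGrpCat.{u}} (e : P ≅ Q) (n : ℕ)
    (h : Subsingleton (Abelian.Ext.{u} P G n)) : Subsingleton (Abelian.Ext.{u} Q G n) :=
  ⟨fun x y => by
    have : ∀ z : Abelian.Ext.{u} Q G n, z = 0 := fun z => by
      rw [← Abelian.Ext.mk₀_id_comp z, ← e.inv_hom_id, ← Abelian.Ext.mk₀_comp_mk₀, Abelian.Ext.comp_assoc_of_second_deg_zero,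
        h.elim ((Abelian.Ext.mk₀ e.hom).comp z (zero_add n)) 0, Abelian.Ext.comp_zero]
    rw [this x, this y]⟩

variable (R : Sheaf J RingCat.{u})

/-- Global sections are morphisms out of the one point presheaf. -/
noncomputable def sectionsEquiv (F : SheafOfModules.{u} R) :
    F.sections ≃ ((ptSheaf J).obj ⟶ ((SheafOfModules.toSheaf.{u} R).obj F).obj ⋙ forget AddCommGrpCat.{u}) where
  toFun s :=
    { app := fun V => ↾(fun _ => s.1 V)
      naturality := fun V W g => by
        ext
        exact (s.2 g).symm }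
  invFun t := ⟨fun V => t.app V PUnit.unit, fun {V W} g => (NatTrans.naturality_apply t g PUnit.unit).symm⟩
  left_inv _ := rfl
  right_inv t := by
    ext V ⟨⟩
    rfl

/-- Morphisms out of the unit are morphisms out of the constant sheaf. -/
noncomputable def unitEquiv (F : SheafOfModules.{u} R) :
    (SheafOfModules.unit R ⟶ F) ≃
      ((constantSheaf J AddCommGrpCat.{u}).obj (AddCommGrpCat.of (ULift.{u} ℤ)) ⟶ (SheafOfModules.toSheaf.{u} R).obj F) :=
  F.unitHomEquiv.trans ((sectionsEquiv J R F).trans
    ((Groth.Agent.SiteDer16.freeAbHomEquiv (ptSheaf J).obj _).symm.trans (constFreeIso J).homFromEquiv))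

theorem unitEquiv_comp {F G : SheafOfModules.{u} R} (x : SheafOfModules.unit R ⟶ F) (f : F ⟶ G) :
    unitEquiv J R G (x ≫ f) = unitEquiv J R F x ≫ (SheafOfModules.toSheaf.{u} R).map f := by
  apply ((constFreeIso J).homFromEquiv).symm.injective
  apply (Groth.Agent.SiteDer16.freeAbHomEquiv (ptSheaf J).obj _).injective
  simp [unitEquiv, Groth.Agent.SiteDer16.freeAbHomEquiv_comp, Iso.homFromEquiv]
  rfl

/-- For a sheaf of rings O on a small site and an O-module M, the Ext groups Ext^n_O(O, M) in the
category of O-modules (= H^n(C, M) computed with O-module injective resolutions) are isomorphic to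
H^n of the underlying abelian sheaf of M (existence of a group isomorphism). The Ext instance on
O-modules is taken as a hypothesis. -/
theorem result {C : Type u} [SmallCategory C] (J : GrothendieckTopology C)
    (R : Sheaf J RingCat.{u}) [HasExt.{u} (SheafOfModules.{u} R)] (M : SheafOfModules.{u} R) (n : ℕ) :
    Nonempty (Abelian.Ext (SheafOfModules.unit R) M n ≃+ Sheaf.H.{u} ((SheafOfModules.toSheaf R).obj M) n) := by
  haveI := Groth.Agent.SiteDer16.preservesFiniteColimits_toSheaf R
  refine Groth.Agent.SiteDer16.nonempty_ext_equiv (SheafOfModules.toSheaf.{u} R)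
    (fun F => unitEquiv J R F) (fun x f => unitEquiv_comp J R x f) (fun I hI m => ?_) M n
  have := Groth.Agent.SiteDer16.ModAcyclic.isTotallyAcyclic_toSheaf R I (ptSheaf J) m
  exact subsingleton_of_iso J (constFreeIso J) (m + 1) this

end Groth.Agent.S0491
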