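import Groth.Statements.S1478
import Groth.Agent.MorProj.OmegaAffine
import Groth.Agent.EulerLib.CohSub
import Mathlib.AlgebraicGeometry.Morphisms.FormallyUnramified

set_option autoImplicit false
universe u
open FlatMor

namespace Groth.Agent.S1478

open AlgebraicGeometry CategoryTheory Limits in
/-- For separated morphisms (where the sheaf of differentials is literally the conormal sheaf of the
closed diagonal): a separated morphism f : X → S is formally unramified if and only if Ω_{X/S}, the
conormal sheaf of the diagonal, is the zero O_X-module. -/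
theorem result {X S : Scheme.{u}} (f : X ⟶ S) [IsSeparated f] :
    FormallyUnramified f ↔ IsZero (Omega.sheaf f) := by
  have hq := MorProj.isQCoh_omega f
  constructor
  · intro h
    have hcov : ∀ x : X, ∃ (V : S.Opens) (U : X.Opens), IsAffineOpen V ∧ IsAffineOpen U ∧ x ∈ U ∧ U ≤ f ⁻¹ᵁ V := by
      intro x
      obtain ⟨V, hV, hxV, -⟩ := exists_isAffineOpen_mem_and_subset (x := f x) (U := (⊤ : S.Opens)) trivial
      obtain ⟨U, hU, hxU, hUV⟩ := exists_isAffineOpen_mem_and_subset (x := x) (U := f ⁻¹ᵁ V) hxV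
      exact ⟨V, U, hV, hU, hxU, hUV⟩
    choose V U hV hU hxU hUV using hcov
    have key : ∀ x, Subsingleton Γ(Omega.sheaf f, U x) := fun x => by
      let _ : Algebra Γ(S, V x) Γ(X, U x) := (f.appLE (V x) (U x) (hUV x)).hom.toAlgebra
      have : Algebra.FormallyUnramified Γ(S, V x) Γ(X, U x) := f.formallyUnramified_appLE (hV x) (hU x) (hUV x)
      have := MorProj.isIso_toSect f (hU x) (hV x) (hUV x)
      exact (asIso (OmAff.toSect f (V x) (U x) (hUV x))).toLinearEquiv.toEquiv.subsingleton_congr.1
        (inferInstanceAs (Subsingleton Ω[Γ(X, U x)⁄Γ(S, V x)]))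
    exact EulerLib.isZero_of_sections_cover hq U hU (fun x => ⟨x, hxU x⟩) key
  · intro hz
    refine ⟨fun {V} hV {U} hU e => ?_⟩
    let _ : Algebra Γ(S, V) Γ(X, U) := (f.appLE V U e).hom.toAlgebra
    have := MorProj.isIso_toSect f hU hV e
    have hs : Subsingleton Γ(Omega.sheaf f, U) := ⟨fun a b => by
      have hid := congrArg (fun φ : Omega.sheaf f ⟶ Omega.sheaf f => φ.app U) (hz.eq_of_src (𝟙 (Omega.sheaf f)) 0)
      exact ((ConcreteCategory.congr_hom hid a).trans (ConcreteCategory.congr_hom hid b).symm)⟩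
    have : Subsingleton Ω[Γ(X, U)⁄Γ(S, V)] :=
      (asIso (OmAff.toSect f V U e)).toLinearEquiv.toEquiv.subsingleton_congr.2 hs
    exact (⟨this⟩ : Algebra.FormallyUnramified Γ(S, V) Γ(X, U))

end Groth.Agent.S1478
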