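import Groth.Statements.S7521
import Groth.Agent.Desc19b.EffFinLocFree
import Groth.Agent.AmpleLib.Ample

set_option autoImplicit false
open CategoryTheory CategoryTheory.Limits AlgebraicGeometry
universe u
open Desc

set_option backward.isDefEq.respectTransparency.types false
set_option backward.isDefEq.respectTransparency false

namespace Groth.Agent.S7521


/-- Let p : X -> Y be a surjective finite locally free morphism and V a scheme over X which has an
invertible module ample relative to V -> X. Then every descent datum on V relative to p is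
effective. (A quasi-projective morphism V -> X, in particular a projective one, carries such a
module.) (Descent data are taken in functor-of-points form.) -/
theorem result {X Y : Scheme.{u}} (p : X ⟶ Y) [Surjective p] [IsFinite p] [Flat p] [LocallyOfFinitePresentation p] (D : Desc.SchDD p) (L : D.obj.left.Modules) (hL : RelAmple.IsRelAmple D.obj.hom L) : ∃ W : Over Y, Nonempty ((Desc.toDD p).obj W ≅ D) := by
  refine Groth.Agent.Desc19b.EffFinLocFree.schDD_effective_of_finite_in_affine p D fun y s hs => ?_
  obtain ⟨_, ⟨(W : Y.Opens), hW, rfl⟩, hyW, -⟩ :=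
    Y.isBasis_affineOpens.exists_subset_of_mem_open (Set.mem_univ y) isOpen_univ
  let O := D.obj.hom ⁻¹ᵁ (p ⁻¹ᵁ W)
  obtain ⟨m, -, b, hb, -, haff⟩ := Groth.Agent.AmpleLib.exists_affine_glocus_finite (U := ⊤) (hL.2 ⟨_, hW.preimage p⟩)
    (O.ι ⁻¹' (s : Set D.obj.left)) (s.finite_toSet.preimage O.ι.isOpenEmbedding.injective.injOn) (by simp)
  exact ⟨_, haff.image_of_isOpenImmersion O.ι, fun v hv =>
    ⟨⟨v, show p (D.obj.hom v) ∈ W by rw [hs v hv]; exact hyW⟩, hb hv, rfl⟩⟩

end Groth.Agent.S7521
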