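import Groth.Statements.S3634
import Groth.Agent.DCat.ClosedShriekQCoh

set_option autoImplicit false
universe u
open CategoryTheory CategoryTheory.Limits AlgebraicGeometry
attribute [local instance] HasDerivedCategory.standard
open Dual3

namespace Groth.Agent.S3634

open Groth.Agent.DCat

/-- Let X be a Noetherian scheme and i : Z → X a closed immersion. Assume the derived direct image Ri_*
exists and preserves quasi-coherence of cohomology sheaves (both known results), so that it
restricts to a functor D_QCoh(O_Z) → D_QCoh(O_X), and let a : D_QCoh(O_X) → D_QCoh(O_Z) be a right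
adjoint of this restricted functor. Assume further that i_* on O-modules has a right adjoint
Hom(O_Z, −) (the sections killed by the ideal of Z, viewed as an O_Z-module; this holds for a closed
immersion and is carried as a binder) and that the category of O_X-modules has enough injectives,
and let R Hom(O_Z, −) : D^+(O_X) → D^+(O_Z) be the right derived functor of Hom(O_Z, −). Then a and
R Hom(O_Z, −) are isomorphic as functors D^+_QCoh(O_X) → D(O_Z). (Stated for X Noetherian; the
published statement is more general.) -/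
theorem result (Z X : Scheme.{u}) [IsNoetherian X] (i : Z ⟶ X) [IsClosedImmersion i] [Dual3.HasHomO i] [EnoughInjectives X.Modules] [DCoh.HasRpush i] (hf : DCoh.RpushPreservesQCoh i) (a : DCoh.DQCoh X ⥤ DCoh.DQCoh Z) (adj : DCoh.RpushQ i hf ⊣ a) : Nonempty (Dual3.bddι X ⋙ a ⋙ ObjectProperty.ι _ ≅ Dual3.bddToPlus X ⋙ Dual3.RHomOPlus i ⋙ (DerivedCategory.Plus.ι : DerivedCategory.Plus Z.Modules ⥤ DCoh.D Z)) := by
  haveI := Groth.Agent.ExtSS.preservesFiniteLimits_pushforward i
  haveI := Groth.Agent.ExtSS.preservesFiniteColimits_pushforward i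
  obtain ⟨t⟩ := ClosedShriek.nonempty_plus i
  obtain ⟨r⟩ := ClosedShriek.nonempty_Rpush_pushD i
  obtain ⟨o⟩ := ClosedShriek.nonempty_adj i
  let R := ClosedShriek.RHomOD i
  let S := Dual3.bddι X
  have hq : ∀ K, DCoh.IsQCohD (R.obj (S.obj K).obj) := fun K j =>
    Groth.Agent.Coherent.isQCoh_of_iso ((DerivedCategory.homologyFunctor Z.Modules j).mapIso (t.app ((Dual3.bddToPlus X).obj K)))
      (h := ClosedShriek.isQCohD_RHomO i ((Dual3.bddToPlus X).obj K) (S.obj K).property j)
  let G : _ ⥤ DCoh.DQCoh Z := ObjectProperty.lift _ (S ⋙ ObjectProperty.ι _ ⋙ R) hq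
  -- the two maps
  let f : ∀ K, G.obj K ⟶ a.obj (S.obj K) := fun K =>
    adj.homEquiv _ _ (ObjectProperty.homMk (r.hom.app (R.obj (S.obj K).obj) ≫ o.counit.app (S.obj K).obj))
  let g : ∀ K, a.obj (S.obj K) ⟶ G.obj K := fun K => ObjectProperty.homMk
    (o.homEquiv _ _ (r.inv.app (a.obj (S.obj K)).obj ≫ (adj.counit.app (S.obj K)).hom))
  have hfg : ∀ K, f K ≫ g K = 𝟙 _ := fun K => by
    apply ObjectProperty.hom_ext
    apply (o.homEquiv _ _).symm.injective
    show (o.homEquiv _ _).symm ((f K).hom ≫ o.homEquiv _ _ _) = (o.homEquiv _ _).symm (𝟙 _)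
    rw [o.homEquiv_naturality_left_symm, Equiv.symm_apply_apply, o.homEquiv_counit, CategoryTheory.Functor.map_id,
      Category.id_comp, ← Category.assoc, r.inv.naturality, Category.assoc]
    have h := congrArg (·.hom) ((adj.homEquiv_counit (G.obj K) (S.obj K) (f K)).symm.trans (Equiv.symm_apply_apply _ _))
    exact (congrArg (r.inv.app _ ≫ ·) h).trans (by simp [G])
  have hgf : ∀ K, g K ≫ f K = 𝟙 _ := fun K => by
    apply (adj.homEquiv _ _).symm.injective
    rw [adj.homEquiv_naturality_left_symm, Equiv.symm_apply_apply, adj.homEquiv_counit, CategoryTheory.Functor.map_id,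
      Category.id_comp]
    apply ObjectProperty.hom_ext
    show (DCoh.Rpush i).map (g K).hom ≫ r.hom.app _ ≫ o.counit.app _ = _
    rw [r.hom.naturality_assoc]
    refine (congrArg (r.hom.app _ ≫ ·) ((o.homEquiv_counit _ _ _).symm.trans (Equiv.symm_apply_apply _ _))).trans ?_
    exact Iso.hom_inv_id_app_assoc r _ _
  refine ⟨?_ ≪≫ (Functor.isoWhiskerLeft (Dual3.bddToPlus X) t).symm⟩
  refine NatIso.ofComponents (fun K => (ObjectProperty.ι _).mapIso ⟨g K, f K, hgf K, hfg K⟩) fun {K L} x => ?_
  show (a.map (S.map x)).hom ≫ (g L).hom = (g K).hom ≫ R.map (S.map x).hom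
  show _ ≫ o.homEquiv _ _ _ = o.homEquiv _ _ _ ≫ _
  rw [← o.homEquiv_naturality_left, ← o.homEquiv_naturality_right, ← Category.assoc, r.inv.naturality, Category.assoc,
    Category.assoc]
  have h := congrArg (·.hom) (adj.counit.naturality (S.map x))
  exact congrArg (fun u => o.homEquiv _ _ (r.inv.app _ ≫ u)) h

end Groth.Agent.S3634
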