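import Groth.Statements.S12079
import Mathlib.LinearAlgebra.Contraction
import Mathlib.Algebra.Module.FinitePresentation
import Mathlib.RingTheory.Flat.Basic

set_option autoImplicit false
universe u
open TensorProduct
open CAlg

namespace Groth.Agent.S12079

/-- For a finitely presented `R`-module `M`, any `R`-module `N` and a flat `R`-module `L`, the canonical
map `Hom_R(M, N) ⊗_R L → Hom_R(M, N ⊗_R L)` sending `f ⊗ l` to `m ↦ f m ⊗ l` is bijective. -/
theorem result (R : Type u) [CommRing R]
    (M N L : Type u) [AddCommGroup M] [Module R M] [AddCommGroup N] [Module R N] [AddCommGroup L] [Module R L]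
    [Module.FinitePresentation R M] [Module.Flat R L] :
    Function.Bijective (TensorProduct.rTensorHomToHomRTensor (RingHom.id R) M N L) := by
  classical
  obtain ⟨n, m, p, q, hp, hex⟩ := Module.FinitePresentation.exists_fin' R M
  have nat : ∀ (P P' : Type u) [AddCommGroup P] [Module R P] [AddCommGroup P'] [Module R P'] (u : P →ₗ[R] P') (x : (P' →ₗ[R] N) ⊗[R] L) (y : P),
      TensorProduct.rTensorHomToHomRTensor (RingHom.id R) P N L ((LinearMap.lcomp R N u).rTensor L x) y =
        TensorProduct.rTensorHomToHomRTensor (RingHom.id R) P' N L x (u y) := by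
    intro P P' _ _ _ _ u x y
    induction x using TensorProduct.induction_on with
    | zero => simp
    | tmul g l => simp
    | add a b ha hb => simp [ha, hb]
  have hfree : ∀ k : ℕ, Function.Bijective (TensorProduct.rTensorHomToHomRTensor (RingHom.id R) (Fin k → R) N L) := fun k => by
    rw [← rTensorHomEquivHomRTensor_toLinearMap (R := R) (M := Fin k → R) (P := N) (Q := L)]
    exact (rTensorHomEquivHomRTensor R (Fin k → R) N L).bijective
  have hinjp : Function.Injective (LinearMap.lcomp R N p) := fun a b h => LinearMap.ext fun y => by
    obtain ⟨z, rfl⟩ := hp y; exact LinearMap.congr_fun h z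
  have hexl : Function.Exact (LinearMap.lcomp R N p) (LinearMap.lcomp R N q) := by
    intro g
    constructor
    · intro h
      have hle : LinearMap.ker p ≤ LinearMap.ker g := by
        intro y hy
        obtain ⟨z, rfl⟩ := (hex y).1 hy
        exact LinearMap.congr_fun h z
      refine ⟨((LinearMap.ker p).liftQ g hle).comp (p.quotKerEquivOfSurjective hp).symm.toLinearMap, LinearMap.ext fun y => ?_⟩
      simp
    · rintro ⟨h, rfl⟩
      exact LinearMap.ext fun y => by simp [hex.apply_apply_eq_zero y]
  constructor
  · rw [injective_iff_map_eq_zero]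
    intro x hx
    apply Module.Flat.rTensor_preserves_injective_linearMap (M := L) _ hinjp
    apply (hfree n).1
    rw [map_zero, map_zero]
    refine LinearMap.ext fun y => ?_
    rw [nat, hx]
    rfl
  · intro g
    obtain ⟨x, hx⟩ := (hfree n).2 (g.comp p)
    have : (LinearMap.lcomp R N q).rTensor L x = 0 := by
      apply (hfree m).1
      rw [map_zero]
      refine LinearMap.ext fun y => ?_
      rw [nat, hx]
      simp [hex.apply_apply_eq_zero y]
    obtain ⟨z, rfl⟩ := ((Module.Flat.rTensor_exact L hexl) x).1 this
    refine ⟨z, LinearMap.ext fun y => ?_⟩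
    obtain ⟨w, rfl⟩ := hp y
    rw [← nat]
    exact LinearMap.congr_fun hx w

end Groth.Agent.S12079
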