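import Groth.Statements.S17641
import Groth.Agent.InjMod14.QCohInjective
-- import your own Groth.Agent.* helpers here

set_option autoImplicit false
set_option backward.isDefEq.respectTransparency false
set_option backward.isDefEq.respectTransparency.types false
set_option linter.style.haveILetI false
universe u
open CategoryTheory CategoryTheory.Limits AlgebraicGeometry
attribute [local instance] HasDerivedCategory.standard
open DCoh

namespace Groth.Agent.S17641

/-- Let X be a Noetherian scheme, j : U ⟶ X an open immersion with closed complement Z = X ∖ j(U), and I
a quasi-coherent O_X-module which is injective as an O_X-module. Then Γ_Z(I), the kernel of I ⟶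
j_*(I|_U) (the subsheaf of sections supported in Z), is an injective O_X-module. (Injectivity is
taken in the category of all O_X-modules; on a Noetherian scheme a quasi-coherent module is
injective there exactly when it is injective among quasi-coherent modules. The published statement
works with the functor of sections killed by some power of a defining ideal, which agrees with Γ_Z
on quasi-coherent modules over a Noetherian scheme.) -/
theorem result {U X : Scheme.{u}} [IsNoetherian X]
    (j : U ⟶ X) [IsOpenImmersion j] (I : X.Modules) (hI : Coh.IsQCoh I) [Injective I] :
    Injective ((DCoh.gammaZ j).obj I) := by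
  let R := Scheme.Modules.restrictFunctor j
  haveI : R.IsRightAdjoint := (DCat.JShriek.shriekAdj j).isRightAdjoint
  haveI : R.IsLeftAdjoint := (Scheme.Modules.restrictAdjunction j).isLeftAdjoint
  let adj := Scheme.Modules.restrictAdjunction j
  let η := adj.unit.app I
  let G := kernel η
  haveI : IsIso (R.map η) := by
    haveI : IsIso (adj.counit.app (R.obj I)) := inferInstance
    exact IsIso.of_isIso_fac_right (adj.left_triangle_components I)
  have hι : R.map (kernel.ι η) = 0 := by
    rw [← cancel_mono (R.map η), zero_comp, ← R.map_comp, kernel.condition, R.map_zero]
  haveI : IsGrothendieckAbelian.{u} X.Modules := DCat.schemeModules_isGrothendieckAbelian X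
  obtain ⟨E, e, he, hE, hess⟩ := InjMod14.exists_essential_injective (kernel.ι η)
  haveI := he
  haveI := hE
  have hG : IsZero (R.obj G) := by
    haveI : Mono (R.map (kernel.ι η)) := inferInstance
    rw [IsZero.iff_id_eq_zero, ← cancel_mono (R.map (kernel.ι η)), hι, comp_zero, comp_zero]
  have hRE : IsZero (R.obj E) := by
    haveI : Mono (R.map e) := inferInstance
    haveI := InjMod14.isEssentialMap_restrict j hess (0 : R.obj E ⟶ R.obj E) ⟨fun a b _ => hG.eq_of_tgt a b⟩
    rw [IsZero.iff_id_eq_zero, ← cancel_mono (0 : R.obj E ⟶ R.obj E), comp_zero, comp_zero]
  let f : E ⟶ I := Injective.factorThru (kernel.ι η) e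
  have hf : f ≫ η = 0 := by
    have hn := adj.unit.naturality f
    simp only [Functor.id_map, Functor.comp_map] at hn
    exact hn.trans (((Scheme.Modules.pushforward j).map_isZero hRE).eq_of_tgt (adj.unit.app E) 0 ▸ zero_comp)
  refine InjMod14.injective_of_retraction e (kernel.lift η f hf) ?_
  rw [← cancel_mono (kernel.ι η), Category.assoc, kernel.lift_ι, Category.id_comp]
  exact Injective.comp_factorThru _ _

end Groth.Agent.S17641

#print axioms Groth.Agent.S17641.result
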