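import Groth.Statements.S3617
import Groth.Agent.DualLib.GorOpen
import Groth.Agent.Dual22Lib.Lpull

set_option autoImplicit false
universe u
open CategoryTheory CategoryTheory.Limits AlgebraicGeometry
attribute [local instance] HasDerivedCategory.standard
open Dual3

namespace Groth.Agent.S3617

/-- Let f : X → S be a morphism of schemes which is flat and locally of finite presentation. Then the
set of points of X at which f is Gorenstein (flat, with Gorenstein local ring of the fibre) is open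
in X. -/
theorem result (X S : Scheme.{u}) (f : X ⟶ S) [Flat f] [LocallyOfFinitePresentation f] : IsOpen {x : X | Dual3.IsGorensteinAt f x} := by
  open Groth.Agent AlgebraicGeometry in
  rw [isOpen_iff_forall_mem_open]
  intro x hx
  obtain ⟨V, hV, hxV, -⟩ := exists_isAffineOpen_mem_and_subset (x := f x) (U := (⊤ : S.Opens)) trivial
  obtain ⟨U, hU, hxU, hUV⟩ := exists_isAffineOpen_mem_and_subset (x := x) (U := f ⁻¹ᵁ V) hxV
  let φ := f.appLE V U hUV
  letI := φ.hom.toAlgebra
  haveI : Module.Flat Γ(S, V) Γ(X, U) := HasRingHomProperty.appLE (P := @Flat) f inferInstance ⟨V, hV⟩ ⟨U, hU⟩ hUV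
  haveI : Algebra.FinitePresentation Γ(S, V) Γ(X, U) :=
    HasRingHomProperty.appLE (P := @LocallyOfFinitePresentation) f inferInstance ⟨V, hV⟩ ⟨U, hU⟩ hUV
  have hw : Spec.map φ ≫ hV.fromSpec = hU.fromSpec ≫ f := hV.SpecMap_appLE_fromSpec f hU hUV
  have key : ∀ q, Dual3.IsGorensteinAt f (hU.fromSpec q) ↔ Dual3.IsGorensteinAt (Spec.map φ) q := fun q => by
    rw [← Dual22Lib.isGorensteinAt_openImmersion_comp_iff, ← hw, Dual22Lib.isGorensteinAt_comp_openImmersion_iff]
  refine ⟨hU.fromSpec '' {q | Dual3.IsGorensteinAt (Spec.map φ) q}, ?_, ?_, ?_⟩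
  · rintro _ ⟨q, hq, rfl⟩
    exact (key q).2 hq
  · exact hU.fromSpec.isOpenEmbedding.isOpenMap _ (DualLib.GorOpen.isOpen_affine Γ(S, V) Γ(X, U))
  · obtain ⟨q, rfl⟩ := hU.range_fromSpec.ge hxU
    exact ⟨q, (key q).1 hx, rfl⟩

end Groth.Agent.S3617
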