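import Groth.Statements.S3614
import Groth.Agent.DualLib.ShriekCM
import Groth.Agent.DualLib.ShriekFlatSheaf

set_option autoImplicit false
universe u
open CategoryTheory CategoryTheory.Limits AlgebraicGeometry
attribute [local instance] HasDerivedCategory.standard
open Dual3

namespace Groth.Agent.S3614

/-- Let S be a Noetherian scheme, X and Y schemes separated and of finite type over S and f : X → Y a
morphism over S; compute f^! through a compactification f = j ∘ p (j : X → X' an open immersion, p :
X' → Y proper, Rp_* on D_QCoh assumed to exist and to preserve quasi-coherence of cohomology, a a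
right adjoint of Rp_*, restriction of modules to opens assumed exact), so that f^!K = a(K)|_X.
Assume f is Cohen–Macaulay at every point and every irreducible component of every fibre of f has
dimension d, and let O be the structure sheaf of Y in degree 0. Then H^i(f^!O) = 0 for i ≠ -d and
H^{-d}(f^!O) is a coherent O_X-module flat over Y; that is, f^!O = ω[d] for a coherent Y-flat module
ω. -/
theorem result (S X Y : Scheme.{u}) [IsNoetherian S] (p : X ⟶ S) (q : Y ⟶ S) [Dual3.IsSepFT p] [Dual3.IsSepFT q] (f : X ⟶ Y) (w : f ≫ q = p) (hCM : ∀ x : X, MoreMor.IsCMAt f x) (d : ℕ) (hd : ∀ (y : Y) (Z : Set ↥(f.fiber y)), Z ∈ irreducibleComponents ↥(f.fiber y) → topologicalKrullDim ↥Z = (d : WithBot ℕ∞)) (c : DEt.Compactification f) [DCoh.HasRpush c.fbar] (hc : DCoh.RpushPreservesQCoh c.fbar) (a : DCoh.DQCoh Y ⥤ DCoh.DQCoh c.Xbar) (adj : DCoh.RpushQ c.fbar hc ⊣ a) [∀ (U V : Scheme.{u}) (j : U ⟶ V) [IsOpenImmersion j], PreservesFiniteLimits (Scheme.Modules.restrictFunctor j)] (O : DCoh.DQCoh Y) (hO : Nonempty (O.obj ≅ DCoh.inD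 Y (Coh.structureModule Y))) : (∀ i : ℤ, i ≠ -(d : ℤ) → IsZero (DCoh.HD ((Dual3.shriekC c a).obj O) i)) ∧ Coh.IsCoh (DCoh.HD ((Dual3.shriekC c a).obj O) (-(d : ℤ))) ∧ FlatMod.IsFlatOver f (DCoh.HD ((Dual3.shriekC c a).obj O) (-(d : ℤ))) := by
  haveI : IsNoetherian Y := by
    haveI := (inferInstance : LocallyOfFiniteType q)
    haveI : IsLocallyNoetherian Y := LocallyOfFiniteType.isLocallyNoetherian q
    haveI : CompactSpace Y := QuasiCompact.compactSpace_of_compactSpace q
    exact { }
  haveI : LocallyOfFiniteType f := by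
    haveI : LocallyOfFiniteType (f ≫ q) := by rw [w]; infer_instance
    exact locallyOfFiniteType_of_comp f q
  haveI : ∀ (S : CommRingCat.{u}), PreservesFiniteLimits (tilde.functor S) :=
    Groth.Agent.AffSchLib.preservesFiniteLimits_tilde
  haveI : Flat f := Flat.of_stalkMap _ fun x => (hCM x).1
  open Groth.Agent Groth.Agent.DualLib in
  refine ShriekFlatSheaf.concentrated _ (-(d : ℤ)) fun x => ?_
  open Groth.Agent Groth.Agent.DualLib in
  obtain ⟨C⟩ := ShriekLocal.nonempty_chart c hc a adj O hO x
  open Groth.Agent Groth.Agent.DualLib in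
  haveI := ShriekGor.flat_chart C
  open Groth.Agent Groth.Agent.DualLib in
  have hd' := ShriekCM.fibreDimAt_eq_of_components f d hd
  open Groth.Agent Groth.Agent.DualLib in
  refine ⟨C, ShriekCM.amp_top (Shriek.hasTorAmplitudeIn_shriekVia C.ψ C.surj C.adj d fun y => ?_) (-(d : ℤ))
    fun i hi => ?_⟩
  · rw [Groth.Agent.DualLib.ShriekCM.fibreDimAt_chartPt C y]
    exact (hd' _).le
  · open Groth.Agent Groth.Agent.DualLib in
    haveI : Subsingleton (Dual.HD C.B (Dual2.shriekVia C.n C.Rψ (Dual.inD C.R C.R)) i) :=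
      (Module.support_eq_empty_iff (R := C.B)).1 (Set.eq_empty_of_forall_notMem fun y =>
        (ShriekCM.support_of_cm (ShriekCM.chartAt C y) d (hd' _) (hCM _)).1 i hi)
    exact @Function.Injective.subsingleton _ _ _ (Groth.Agent.DRingLib.hfRestrictIso (algebraMap C.R C.B) _ i).toLinearEquiv.injective ‹_›

end Groth.Agent.S3614
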