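import Groth.Statements.S19841
import Groth.Agent.DualLib.RelTop.ArtS2

set_option autoImplicit false
universe u
open QGor

namespace Groth.Agent.S19841

  set_option backward.isDefEq.respectTransparency false
open CategoryTheory CategoryTheory.Limits AlgebraicGeometry TopologicalSpace IsLocalRing TensorProduct
open Groth.Agent Groth.Agent.DualLib.RelTop EGA43.DimFormula in
set_option backward.isDefEq.respectTransparency false in
set_option maxHeartbeats 800000 in
/-- Relative `(S₂)` of a dual whose homomorphisms into the closed fibre lift. -/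
theorem relSkAt_of_restrict_surjective {X T : Scheme.{u}} (f : X ⟶ T) [IsLocallyNoetherian T] [IsLocallyNoetherian X]
    [LocallyOfFiniteType f] (hS : RelCanon.IsSkMor f 2) (t : T) (z : f.fiber t) (Yo : X.Opens)
    (hdim : ∀ x : X, f x = t → x ∉ Yo →
      (2 : WithBot ℕ∞) ≤ ringKrullDim ((f.fiber (f x)).presheaf.stalk (f.asFiber x)))
    (hz : _root_.LocCoh.HasSk 2 ((f.fiber t).presheaf.stalk z) ((f.fiber t).presheaf.stalk z))
    (D : X.Modules) (hD : Coh.IsCoh D) (hDi : ∀ x : X, x ∈ Yo → RelCanon.InvertibleAt D x)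
    (hsur : letI := (f.stalkMap (f.fiberι t z)).hom.toAlgebra
      Function.Surjective (restrDual (T.presheaf.stalk (f (f.fiberι t z))) (X.presheaf.stalk (f.fiberι t z))
        (D.presheaf.stalk (f.fiberι t z)))) :
    FlatMod.IsFlatOverAt f (RefHull.dual D) (f.fiberι t z) ∧
      RelCanon.SkAt 2 ((Scheme.Modules.pullback (f.fiberι t)).obj (RefHull.dual D)) z := by
  haveI : Flat f := hS.1
  haveI : LocallyOfFiniteType (f.fiberToSpecResidueField t) :=
    MorphismProperty.pullback_snd _ _ inferInstance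
  haveI : IsLocallyNoetherian (f.fiber t) := LocallyOfFiniteType.isLocallyNoetherian (f.fiberToSpecResidueField t)
  let ι := f.fiberι t
  let y := ι z
  let A := T.presheaf.stalk (f y)
  let B := X.presheaf.stalk y
  let R := (f.fiber t).presheaf.stalk z
  letI : Algebra A B := (f.stalkMap y).hom.toAlgebra
  haveI : Module.Flat A B := Flat.stalkMap f y
  letI : Algebra B R := (ι.stalkMap z).hom.toAlgebra
  obtain ⟨hs, hk⟩ := Props12.stalkMap_fiberι f t z
  have hG : Coh.IsCoh (RefHull.dual D) := RefHullLib.isCoh_dual hD (Coherent.isCoh_structureModule X)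
  let D' := (Scheme.Modules.pullback ι).obj D
  have hD' : Coh.IsCoh D' :=
    ⟨haveI := hD.1; EGA43.InjFibre.isQCoh_pullback ι D, Coherent.isFT_pullback_qcoh ι hD.1 hD.2⟩
  have hD'd : Coh.IsCoh (RefHull.dual D') := RefHullLib.isCoh_dual hD' (Coherent.isCoh_structureModule _)
  let P := D.presheaf.stalk y
  haveI : Module.Finite B P := AssSch12.finite_stalk hD y
  have hker := ker_restrDual (A := A) P hsur
  let eP : D'.presheaf.stalk z ≃ₗ[R] R ⊗[B] P := ((ModStalk.pullbackStalkIso ι z).app D).toLinearEquiv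
  obtain ⟨eH⟩ := nonempty_dual_stalk_equiv hD' z
  let L : (R ⊗[B] P →ₗ[R] R) ≃ₗ[R] (RefHull.dual D').presheaf.stalk z :=
    (LinearEquiv.arrowCongr eP.symm (LinearEquiv.refl R R)).trans eH.symm
  let e2 : (B ⧸ mB A B) ≃ₗ[B] R :=
    (Submodule.quotEquivOfEq _ _ hk.symm).trans
      { RingHom.quotientKerEquivOfSurjective (f := algebraMap B R) hs with
        map_smul' := fun c x => by
          obtain ⟨x, rfl⟩ := Ideal.Quotient.mk_surjective x
          show algebraMap B R (c * x) = c • algebraMap B R x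
          rw [map_mul, Algebra.smul_def] }
  letI : Module B ((RefHull.dual D').presheaf.stalk z) := Module.compHom _ (algebraMap B R)
  haveI : IsScalarTower B R ((RefHull.dual D').presheaf.stalk z) :=
    IsScalarTower.of_algebraMap_smul fun _ _ => rfl
  let L1 : (P →ₗ[B] B ⧸ mB A B) ≃ₗ[B] (RefHull.dual D').presheaf.stalk z :=
    ((LinearEquiv.arrowCongr (LinearEquiv.refl B P) e2).trans
      ((LinearMap.liftBaseChangeEquiv R).restrictScalars B)).trans (L.restrictScalars B)
  let G := P →ₗ[B] B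
  let eq1 : R ⊗[B] G ≃ₗ[B] (RefHull.dual D').presheaf.stalk z :=
    (((TensorProduct.congr e2.symm (LinearEquiv.refl B G)).trans
      (TensorProduct.quotTensorEquivQuotSMul G (mB A B))).trans
      (Submodule.quotEquivOfEq _ _ hker.symm)).trans
      (((restrDual A B P).quotKerEquivOfSurjective hsur).trans L1)
  obtain ⟨eD⟩ := nonempty_dual_stalk_equiv hD y
  let ep : ((Scheme.Modules.pullback ι).obj (RefHull.dual D)).presheaf.stalk z ≃ₗ[R]
      R ⊗[B] (RefHull.dual D).presheaf.stalk y :=
    ((ModStalk.pullbackStalkIso ι z).app (RefHull.dual D)).toLinearEquiv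
  let eR : R ⊗[B] G ≃ₗ[R] (RefHull.dual D').presheaf.stalk z := eq1.extendScalarsOfSurjective hs
  let eS : ((Scheme.Modules.pullback ι).obj (RefHull.dual D)).presheaf.stalk z ≃ₗ[R]
      (RefHull.dual D').presheaf.stalk z :=
    (ep.trans (AlgebraTensorModule.congr (LinearEquiv.refl R R) eD)).trans eR
  refine ⟨(flat_and_depth f (RefHull.dual D) hG t z Yo (fun x _ hx => ?_) fun p hp => ?_).1,
    (EGA43.FibDepth.hasSk_congr eS 2).2 (skAt_dual hD' z hz)⟩
  · obtain ⟨c⟩ := exists_stalk_equiv_of_invertibleAt (invertibleAt_dual hD x (hDi x hx))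
    letI := (f.stalkMap x).hom.toAlgebra
    letI := FlatMod.moduleStalkOver f (RefHull.dual D) x
    haveI : IsScalarTower (T.presheaf.stalk (f x)) (X.presheaf.stalk x) ((RefHull.dual D).presheaf.stalk x) :=
      IsScalarTower.of_compHom _ _ _
    haveI : Module.Flat (T.presheaf.stalk (f x)) (X.presheaf.stalk x) := Flat.stalkMap f x
    exact Module.Flat.of_linearEquiv (c.restrictScalars (T.presheaf.stalk (f x)))
  · rw [CAlgH3.depth_congr (LinearEquiv.ofBijective (LocalizedModule.map p.asIdeal.primeCompl eS.toLinearMap)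
      ⟨LocalizedModule.map_injective _ _ (LinearEquiv.injective _),
        LocalizedModule.map_surjective _ _ (LinearEquiv.surjective _)⟩), depth_toPt _ hD'd.1 z p]
    exact two_le_depth_dual hD' _ (two_le_depth_fibre f hS t _ fun v hv => hdim v
      (by rw [← hv]; exact EGA43.Chevalley.apply_fiberι f t _) (by rwa [← hv]))

open CategoryTheory AlgebraicGeometry in
/-- (i) ⇔ (ii): let Y → Spec A be a proper S₂-morphism to a Noetherian affine base, of pure relative
dimension d, with fibres Gorenstein in codimension one and relative canonical sheaf ω (characterised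
by the d-dualizing property over A); let y be a point over t ∈ Spec A at which the fibre Y_t is
ℚ-Gorenstein (w.r.t. its canonical sheaf), and m > 0. Then ω^{[m]} satisfies relative S₂ over the
base at y if and only if for every Artinian local ring A', every surjective ring map from the local
ring A_t of Spec A at t onto A', every cartesian square Y' → Y over Spec A' → Spec A with projection
p, every module ω' with the d-dualizing property for Y' over A' (its relative canonical sheaf) and
every point y' of Y' mapping to y, the reflexive power ω'^{[m]} satisfies relative S₂ over Spec A'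
at y'. -/
theorem result
    (A : Type u) [CommRing A] [IsNoetherianRing A] (Y : Scheme.{u}) [Y.Over (Spec (CommRingCat.of A))]
    [IsProper (Y ↘ Spec (CommRingCat.of A))] (d : ℕ)
    (hS : RelCanon.IsSkMor (Y ↘ Spec (CommRingCat.of A)) 2) (hd : Cyc.HasRelDim (Y ↘ Spec (CommRingCat.of A)) d)
    (ω : Y.Modules) (hω : RelCanon.IsDualizingSheaf A Y d ω)
    (hG : ∀ y : Y, y ∉ RelCanon.gorLocus (Y ↘ Spec (CommRingCat.of A)) →
      (2 : WithBot ℕ∞) ≤ ringKrullDim (((Y ↘ Spec (CommRingCat.of A)).fiber ((Y ↘ Spec (CommRingCat.of A)) y)).presheaf.stalk ((Y ↘ Spec (CommRingCat.of A)).asFiber y)))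
    (y : Y) (t : (Spec (CommRingCat.of A))) (ht : (Y ↘ Spec (CommRingCat.of A)) y = t)
    (hQy : ∀ ωt : ((Y ↘ Spec (CommRingCat.of A)).fiber ((Y ↘ Spec (CommRingCat.of A)) y)).Modules, @RelCanon.IsDualizingSheaf ((Spec (CommRingCat.of A)).residueField ((Y ↘ Spec (CommRingCat.of A)) y)) _ ((Y ↘ Spec (CommRingCat.of A)).fiber ((Y ↘ Spec (CommRingCat.of A)) y)) ⟨(Y ↘ Spec (CommRingCat.of A)).fiberToSpecResidueField ((Y ↘ Spec (CommRingCat.of A)) y)⟩ d ωt → RelCanon.IsQGorWithAt ωt ((Y ↘ Spec (CommRingCat.of A)).asFiber y))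
    (m : ℕ) (hm : 0 < m) :
    RelCanon.RelSkAt (Y ↘ Spec (CommRingCat.of A)) 2 (RelCanon.refPowZ ω m) y ↔
    ∀ (A' : Type u) [CommRing A'] [IsArtinianRing A'] [IsLocalRing A']
      (ψ : Localization.AtPrime t.asIdeal →+* A') (hψ : Function.Surjective ψ)
      (Y' : Scheme.{u}) [Y'.Over (Spec (CommRingCat.of A'))] (p : Y' ⟶ Y)
      (hp : IsPullback p (Y' ↘ Spec (CommRingCat.of A')) (Y ↘ Spec (CommRingCat.of A))
        (Spec.map (CommRingCat.ofHom (ψ.comp (algebraMap A (Localization.AtPrime t.asIdeal))))))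
      (ω' : Y'.Modules) (hω' : RelCanon.IsDualizingSheaf A' Y' d ω') (y' : Y') (hy' : p y' = y),
      RelCanon.RelSkAt (Y' ↘ Spec (CommRingCat.of A')) 2 (RelCanon.refPowZ ω' m) y' := by
  haveI : ∀ (U V : Scheme.{u}) (j : U ⟶ V) [IsOpenImmersion j],
      Limits.PreservesFiniteLimits (Scheme.Modules.restrictFunctor j) := fun U V j _ =>
    DCat.PullPerf.preservesFiniteLimits_restrict j
  subst ht
  let f := Y ↘ Spec (CommRingCat.of A)
  haveI : Flat f := hS.1
  haveI : IsNoetherianRing (CommRingCat.of A) := ‹IsNoetherianRing A›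
  haveI : IsLocallyNoetherian Y := LocallyOfFiniteType.isLocallyNoetherian f
  obtain ⟨hopen, hinv⟩ := DualLib.RelTop.gor_open_and_invertible A Y d hd ω hω
  let Yo : Y.Opens := ⟨RelCanon.gorLocus f, hopen⟩
  obtain ⟨hωc, -⟩ := DualLib.RelTop.isCoh_and_two_le_depth (A := A) (Y := Y) d hd ω hω
  constructor
  · intro hF A' _ _ _ ψ hψ Y' _ p hp ω' hω' y' hy'
    haveI := DualLib.RelTop.isPreimmersion_of_surjective _ ψ hψ
    exact DualLib.RelTop.relSkAt_baseChange_refPow (A := A) (A' := A') p (ψ.comp (algebraMap A _)) hp d hS hd ω hω ω'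
      hω' Yo subset_rfl y y' hy' (DualLib.RelTop.apply_eq_point _ ψ hψ) (fun x _ hx => hG x hx) m hF
  · intro H
    have hT := DualLib.RelTop.isCoh_tensorPow hωc m
    let D₀ := RefHull.dual (CohB1.tensorPow ω m)
    have hD₀ : Coh.IsCoh D₀ := RefHullLib.isCoh_dual hT (Coherent.isCoh_structureModule Y)
    have hsur : letI := (f.stalkMap y).hom.toAlgebra
        Function.Surjective (DualLib.RelTop.restrDual ((Spec (CommRingCat.of A)).presheaf.stalk (f y))
          (Y.presheaf.stalk y) (D₀.presheaf.stalk y)) := by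
      letI : Algebra ((Spec (CommRingCat.of A)).presheaf.stalk (f y)) (Y.presheaf.stalk y) :=
        (f.stalkMap y).hom.toAlgebra
      haveI : Module.Flat ((Spec (CommRingCat.of A)).presheaf.stalk (f y)) (Y.presheaf.stalk y) := Flat.stalkMap f y
      haveI : Module.Finite (Y.presheaf.stalk y) (D₀.presheaf.stalk y) := AssSch12.finite_stalk hD₀ y
      intro h
      refine DualLib.RelTop.exists_lift_of_chain (D₀.presheaf.stalk y) h fun k => ?_
      obtain ⟨A₁, _, _, _, ψ, hψ, Y₁, f₁, p₁, hp, _, y₁, hy₁, hker⟩ := DualLib.RelTop.exists_level f y k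
      letI : Y₁.Over (Spec (CommRingCat.of A₁)) := ⟨f₁⟩
      haveI := DualLib.RelTop.isPreimmersion_of_surjective _ ψ hψ
      have ht' := DualLib.RelTop.apply_eq_point _ ψ hψ
      haveI : IsProper (Y₁ ↘ Spec (CommRingCat.of A₁)) := MorphismProperty.of_isPullback hp ‹IsProper f›
      obtain ⟨ω₁, hω₁⟩ := DualLib.RelTop.exists_dualizing A₁ Y₁ d
        (DualLib.RelTop.hasRelDim_baseChange f _ p₁ (ψ.comp (algebraMap A _)) hp _ ht' d hd)
      exact DualLib.RelTop.surjective_restrict_level (A := A) (A' := A₁) p₁ (ψ.comp (algebraMap A _)) hp d hS hd ω hω ω₁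
        hω₁ Yo subset_rfl y y₁ hy₁ ht' (fun x _ hx => hG x hx) m k hker (H A₁ ψ hψ Y₁ p₁ hp ω₁ hω₁ y₁ hy₁) h
    have hz : _root_.LocCoh.HasSk 2 ((f.fiber (f y)).presheaf.stalk (f.asFiber y))
        ((f.fiber (f y)).presheaf.stalk (f.asFiber y)) :=
      (EGA43.FibDepth.hasSk_congr (EGA43.FibDepth.unitStalkEquiv (f.asFiber y)) 2).2 (hS.2.2 y)
    have key : ∀ x : Y, x = y → letI := (f.stalkMap x).hom.toAlgebra
        Function.Surjective (DualLib.RelTop.restrDual ((Spec (CommRingCat.of A)).presheaf.stalk (f x))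
          (Y.presheaf.stalk x) (D₀.presheaf.stalk x)) := by
      intro x hx
      subst hx
      exact hsur
    obtain ⟨hfl, hsk⟩ := relSkAt_of_restrict_surjective f hS (f y) (f.asFiber y) Yo (fun x _ hx => hG x hx) hz D₀ hD₀
      (fun x hx => DualLib.RelTop.invertibleAt_dual hT x
        (DualLib.RelTop.invertibleAt_tensorPow Yo ω (fun v hv => hinv v hv) m x hx))
      (key _ (f.fiberι_asFiber y))
    exact ⟨(f.fiberι_asFiber y) ▸ hfl, hsk⟩

end Groth.Agent.S19841
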