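import Groth.Statements.S3637
import Groth.Agent.DualLib.OmegaStalk

set_option autoImplicit false
universe u
open CategoryTheory CategoryTheory.Limits AlgebraicGeometry
attribute [local instance] HasDerivedCategory.standard
open Dual3

namespace Groth.Agent.S3637

/-- Let X be proper over a field k, with all local rings of X Cohen–Macaulay and all irreducible
components of X of dimension d. Assume the derived pushforward Rf_* along the structure morphism f
exists and preserves complexes with quasi-coherent cohomology (carried as hypotheses), let a be a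
right adjoint to Rf_* : D_QCoh(O_X) → D_QCoh(Spec k), and let O be an object of D_QCoh(Spec k)
isomorphic to the structure sheaf placed in degree 0. Then H^i(a(O)) = 0 for i ≠ −d, so that a(O) =
ω_X[d] with ω_X = H^{−d}(a(O)); and ω_X is a coherent O_X-module whose stalk at every point x is a
nonzero Cohen–Macaulay module over O_{X,x} (in particular its support is all of X). -/
theorem result (k : Type u) [Field k] (X : Scheme.{u}) (f : X ⟶ Spec (CommRingCat.of k)) [IsProper f] (hCM : ∀ x : X, LocCoh.IsCohenMacaulayLocalRing (X.presheaf.stalk x)) (d : ℕ) (hd : ∀ Z : Set X, Z ∈ irreducibleComponents X → topologicalKrullDim ↥Z = (d : WithBot ℕ∞)) [DCoh.HasRpush f] (hf : DCoh.RpushPreservesQCoh f) (a : DCoh.DQCoh (Spec (CommRingCat.of k)) ⥤ DCoh.DQCoh X) (adj : DCoh.RpushQ f hf ⊣ a) (O : DCoh.DQCoh (Spec (CommRingCat.of k))) (hO : Nonempty (O.obj ≅ DCoh.inD (Spec (CommRingCat.of k)) (Coh.structureModule (Spec (CommRingCat.of k))))) : (∀ i : ℤ, i ≠ -(d : ℤ) → IsZero (DCoh.HD (a.obj O).obj i)) ∧ Coh.IsCoh (DCoh.HD (a.obj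 O).obj (-(d : ℤ))) ∧ ∀ x : X, Nontrivial ((DCoh.HD (a.obj O).obj (-(d : ℤ))).presheaf.stalk x) ∧ LocCoh.IsCohenMacaulayModule (X.presheaf.stalk x) ((DCoh.HD (a.obj O).obj (-(d : ℤ))).presheaf.stalk x) := by
  open Groth.Agent Groth.Agent.DualLib in
  haveI : ∀ (U V : Scheme.{u}) (j : U ⟶ V) [IsOpenImmersion j],
      PreservesFiniteLimits (Scheme.Modules.restrictFunctor j) := fun U V j _ =>
    DCat.PullPerf.preservesFiniteLimits_restrict j
  haveI : ∀ (S : CommRingCat.{u}), PreservesFiniteLimits (tilde.functor S) :=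
    Groth.Agent.AffSchLib.preservesFiniteLimits_tilde
  haveI : IsNoetherian (Spec (CommRingCat.of k)) := {}
  haveI : IsLocallyNoetherian X := LocallyOfFiniteType.isLocallyNoetherian f
  have hG : Dual2.IsDualizingSch X (a.obj O).obj := Groth.Agent.DualLib.OmegaStalk.isDualizingSch_over_field k X f hf a adj O hO
  have hbnd : ∀ (i : ℤ) (x : X), Nontrivial ((DCoh.HD (a.obj O).obj i).presheaf.stalk x) → i = -(d : ℤ) := by
    intro i x hi
    obtain ⟨η, hη⟩ := QuasiSober.sober (isIrreducible_irreducibleComponent (x := x)) isClosed_irreducibleComponent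
    obtain ⟨j, hj⟩ := Groth.Agent.DualLib.OmegaStalk.exists_nontrivial hG η
    haveI : Nonempty X := ⟨x⟩
    letI : X.Over (Spec (CommRingCat.of k)) := ⟨f⟩
    haveI : IsProper (X ↘ Spec (CommRingCat.of k)) := ‹IsProper f›
    have hdim := Groth.Agent.DualLib.OmegaStalk.topologicalKrullDim_eq_of_components X d hd
    obtain ⟨-, h1, h2⟩ := Groth.Agent.S1811.result k X d hdim f rfl hf a adj O hO
    have hj1 : -(d : ℤ) ≤ j ∧ j ≤ 0 := by
      by_contra hc
      have hz := h1 j (by omega)
      haveI := hj
      exact not_subsingleton ((DCoh.HD (a.obj O).obj j).presheaf.stalk η)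
        (Groth.Agent.DualLib.OmegaStalk.subsingleton_stalk_of_isZero hz η)
    have hsub : irreducibleComponent x ⊆ {z : X | Nontrivial ((DCoh.HD (a.obj O).obj j).presheaf.stalk z)} :=
      fun z hz => Groth.Agent.DualLib.OmegaStalk.nontrivial_of_specializes hG (hη.specializes hz) j hj
    have h3 := ((Topology.IsEmbedding.inclusion hsub).isInducing.topologicalKrullDim_le).trans
      (h2 j (-j).toNat (by omega))
    rw [hd _ (irreducibleComponent_mem_irreducibleComponents x), Nat.cast_le] at h3
    have hjd : j = -(d : ℤ) := by omega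
    subst hjd
    by_contra hne
    exact (Groth.Agent.DualLib.OmegaStalk.cm_stalk hG x (hCM x) _ (hsub mem_irreducibleComponent)).1 i hne hi
  refine ⟨fun i hi => Groth.Agent.ModStalk.isZero_of_stalks fun x =>
      Groth.Agent.DCat.SuppOpen.isZero_stalkFunctor (h := not_nontrivial_iff_subsingleton.1 fun hh => hi (hbnd i x hh)) _ _,
    Groth.Agent.DualLib.OmegaStalk.isCoh_HD hG _, fun x => ?_⟩
  obtain ⟨i, hi⟩ := Groth.Agent.DualLib.OmegaStalk.exists_nontrivial hG x
  obtain rfl := hbnd i x hi
  exact ⟨hi, (Groth.Agent.DualLib.OmegaStalk.cm_stalk hG x (hCM x) _ hi).2⟩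

end Groth.Agent.S3637
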