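import Groth.Statements.S1656
import Groth.Agent.DualMod3.Apps
import Groth.Agent.DualMod3.H1Eq
import Groth.Agent.DualLib.OmegaField
import Groth.Agent.CurveRR24.RR
import Groth.Agent.SerreDual.HomLinear
-- import your own Groth.Agent.* helpers here

set_option autoImplicit false
universe u
open CategoryTheory CategoryTheory.Limits AlgebraicGeometry
attribute [local instance] HasDerivedCategory.standard
open Curves

set_option backward.isDefEq.respectTransparency false
set_option backward.defeqAttrib.useBackward true
set_option linter.style.haveILetI false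
set_option maxHeartbeats 1000000
open Groth.Agent.Coherent Groth.Agent.CurveRR24

namespace Groth.Agent.S1656

/-- Let X be proper over k, Cohen–Macaulay and equidimensional of dimension one, and let ω_X be its
dualizing module, i.e. the cohomology sheaf in degree -1 of f^! O for f : X → Spec k (assuming the
derived direct image Rf_* on D_QCoh and its right adjoint exist, which is how the shared prelude
presents f^!). Then χ(X, O_X) = -χ(X, ω_X). -/
theorem result (k : Type u) [Field k] (X : Scheme.{u}) [X.Over (Spec (CommRingCat.of k))] [IsProper (X ↘ (Spec (CommRingCat.of k)))]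
    (hCM : ∀ x : X, LocCoh.IsCohenMacaulayLocalRing (X.presheaf.stalk x))
    (hequi : ∀ Z ∈ irreducibleComponents (X : Type u), topologicalKrullDim Z = 1)
    [DCoh.HasRpush (X ↘ (Spec (CommRingCat.of k)))] (h : DCoh.RpushPreservesQCoh (X ↘ (Spec (CommRingCat.of k)))) [DCoh.HasShriek (X ↘ (Spec (CommRingCat.of k))) h]
    (OY : DCoh.DQCoh (Spec (CommRingCat.of k))) (hOY : Nonempty (OY.obj ≅ DCoh.inD (Spec (CommRingCat.of k)) (Coh.structureModule (Spec (CommRingCat.of k))))) :
    Curv2.euler k X (Coh.structureModule X) = - Curv2.euler k X (DCoh.dualizingMod (X ↘ (Spec (CommRingCat.of k))) h OY 1) := by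
  haveI := EulerLib.isNoetherian_of_proper k (X := X)
  haveI : ∀ (U V : Scheme.{u}) (j : U ⟶ V) [IsOpenImmersion j],
      PreservesFiniteLimits (Scheme.Modules.restrictFunctor j) := fun U V j _ =>
    DCat.PullPerf.preservesFiniteLimits_restrict j
  haveI : ∀ (S : CommRingCat.{u}), PreservesFiniteLimits (tilde.functor S) :=
    AffSchLib.preservesFiniteLimits_tilde
  have hG := DualLib.OmegaStalk.isDualizingSch_over_field k X (X ↘ Spec (CommRingCat.of k)) h _ (DCoh.shriekAdj _ h) OY hOY
  have hdle : topologicalKrullDim X ≤ 1 := by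
    by_cases hne : Nonempty X
    · exact (DualLib.OmegaStalk.topologicalKrullDim_eq_of_components X 1 (fun Z hZ => by rw [hequi Z hZ]; rfl)).le.trans_eq rfl
    · haveI := not_nonempty_iff.1 hne
      exact le_of_eq_of_le (show topologicalKrullDim X = ⊥ from Order.krullDim_eq_bot_iff.2
        ⟨fun s => s.2.nonempty.elim fun x _ => isEmptyElim x⟩) bot_le
  have hω := DualMod3.isCoh k X h OY hOY 1
  obtain ⟨t, hrep⟩ := DualMod3.exists_rep k X h OY hOY (d := 1) hdle
  have hz : ∀ i : ℤ, -1 < i → IsZero (DCoh.HD (DCoh.dualizingCx (X ↘ Spec (CommRingCat.of k)) h OY) i) := by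
    intro i hi
    have hst : ∀ x : X, Subsingleton ((DCoh.HD (DCoh.dualizingCx (X ↘ Spec (CommRingCat.of k)) h OY) i).presheaf.stalk x) := by
      intro x
      haveI : Nonempty X := ⟨x⟩
      have hd := DualLib.OmegaStalk.topologicalKrullDim_eq_of_components X 1 (fun Z hZ => by rw [hequi Z hZ]; rfl)
      have hnt := ((DualLib.OmegaField.top_sheaf h _ (DCoh.shriekAdj _ h) OY hOY 1 hd x).2).2
        ⟨irreducibleComponent x, irreducibleComponent_mem_irreducibleComponents x,
          (hequi _ (irreducibleComponent_mem_irreducibleComponents x)).trans rfl, mem_irreducibleComponent⟩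
      exact not_nontrivial_iff_subsingleton.1
        ((DualLib.OmegaStalk.cm_stalk hG x (hCM x) _ hnt).1 i (by omega))
    generalize DCoh.HD (DCoh.dualizingCx (X ↘ Spec (CommRingCat.of k)) h OY) i = M at hst ⊢
    rw [IsZero.iff_id_eq_zero]
    refine Scheme.Modules.hom_ext _ _ fun U => ConcreteCategory.hom_ext _ _ fun s => ?_
    show s = (0 : Γ(M, U))
    refine TopCat.Presheaf.section_ext (⟨M.presheaf, M.isSheaf⟩ : TopCat.Sheaf Ab X) U _ _ fun x hx => ?_
    exact (hst x).elim _ _
  have h1 : Module.finrank k (Coh.HH X (DCoh.dualizingMod (X ↘ Spec (CommRingCat.of k)) h OY 1) 1) =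
      Module.finrank k (Coh.HH X (Coh.structureModule X) 0) :=
    (DualMod3.finrank_h1_eq_of_repObj k X hdle (DualMod3.repObj_shriek k X h OY hOY) hz).trans
      (SerreDual.hmapIso k (DQCoh.topStructIso X) 0).finrank_eq
  generalize DCoh.dualizingMod (X ↘ (Spec (CommRingCat.of k))) h OY 1 = ω at hω t hrep h1 ⊢
  have hO : Coh.IsCoh (Coh.structureModule X) := Coherent.isCoh_structureModule X
  haveI := finite_HH_of_isCoh k hO 1
  have h2 : Module.finrank k (Coh.HH X ω 0) = Module.finrank k (Coh.HH X (Coh.structureModule X) 1) :=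
    ((SerreDual.homUnitHH k ω).finrank_eq.symm.trans (SerreDual.dualEquiv t (hrep _ hO.1)).finrank_eq).trans
      Subspace.dual_finrank_eq
  rw [euler_eq_h0_sub_h1 k hdle _ hO.1, euler_eq_h0_sub_h1 k hdle _ hω.1, h1, h2]
  ring

end Groth.Agent.S1656
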