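import Groth.Statements.S2469
import Groth.Agent.EGA41Lib.CartierEquality
import Mathlib

set_option backward.isDefEq.respectTransparency.types false

set_option autoImplicit false
universe u
open EGA41

namespace Groth.Agent.S2469

/-- Let L be a finitely generated extension field of K. Then Ω_{L/K} and the imperfection module Υ_{L/K}
(kernel of Ω_{K/ℤ} ⊗_K L → Ω_{L/ℤ}) are finite-dimensional L-vector spaces and rank Ω_{L/K} − rank
Υ_{L/K} equals the transcendence degree of L over K. -/
theorem result {K L : Type u} [Field K] [Field L] [Algebra K L] [Algebra.EssFiniteType K L] :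
    Module.Finite L (Ω[L⁄K]) ∧ Module.Finite L (EGA41.imperfection ℤ K L) ∧
      (Module.finrank L (Ω[L⁄K]) : ℤ) - Module.finrank L (EGA41.imperfection ℤ K L) = Cardinal.toNat (Algebra.trdeg K L) := by
  obtain ⟨d, hd, hΩ, hΥ, -, heq⟩ := Groth.Agent.EGA41Lib.exists_indexProp ℤ K L
  have h := heq (fun p hp hpK r => by
    haveI : Fact p.Prime := ⟨hp⟩
    exact Groth.Agent.EGA41Lib.exists_pow_eq_algebraMap_int p r)
  refine ⟨hΩ, hΥ, ?_⟩
  rw [hd, Cardinal.toNat_natCast]
  omega

end Groth.Agent.S2469
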