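import Groth.Statements.S4558
import Mathlib

set_option backward.isDefEq.respectTransparency.types false

set_option autoImplicit false
universe u
open EGA41

namespace Groth.Agent.S4558

/-- Let A be a discrete ring, B an adic topological A-algebra with ideal of definition 𝔫 (B separated
and complete for the 𝔫-adic topology) and B₀ = B/𝔫. If Ω_{B₀/A} and 𝔫/𝔫² are B₀-modules of finite
type, then Ω̂_{B/A}, the 𝔫-adic completion of Ω_{B/A}, is a B-module of finite type. -/
theorem result {A B : Type u} [CommRing A] [CommRing B] [Algebra A B] (𝔫 : Ideal B)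
    [IsAdicComplete 𝔫 B] [Module.Finite (B ⧸ 𝔫) (Ω[B ⧸ 𝔫⁄A])] [Module.Finite (B ⧸ 𝔫) 𝔫.Cotangent] :
    Module.Finite B (AdicCompletion 𝔫 (Ω[B⁄A])) := by
  classical
  have hsurj : Function.Surjective (algebraMap B (B ⧸ 𝔫)) := Ideal.Quotient.mk_surjective
  haveI : Module.Finite B (B ⧸ 𝔫) := Module.Finite.of_surjective (Algebra.linearMap B (B ⧸ 𝔫)) hsurj
  haveI : Module.Finite B (Ω[B ⧸ 𝔫⁄A]) := Module.Finite.trans (B ⧸ 𝔫) _
  haveI : Module.Finite B 𝔫.Cotangent := Module.Finite.trans (B ⧸ 𝔫) _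
  have hex := KaehlerDifferential.exact_kerCotangentToTensor_mapBaseChange A B (B ⧸ 𝔫) hsurj
  haveI : Module.Finite B (RingHom.ker (algebraMap B (B ⧸ 𝔫))).Cotangent := by
    have e : RingHom.ker (algebraMap B (B ⧸ 𝔫)) = 𝔫 := Ideal.mk_ker
    rw [e]
    infer_instance
  have hfin : Module.Finite B (TensorProduct B (B ⧸ 𝔫) (Ω[B⁄A])) := by
    refine ⟨Submodule.fg_of_fg_map_of_fg_inf_ker ((KaehlerDifferential.mapBaseChange A B (B ⧸ 𝔫)).restrictScalars B) ?_ ?_⟩
    · rw [Submodule.map_top, LinearMap.range_eq_top.2 (by exact KaehlerDifferential.mapBaseChange_surjective A B (B ⧸ 𝔫) hsurj)]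
      exact Module.Finite.fg_top
    · have hker : LinearMap.ker ((KaehlerDifferential.mapBaseChange A B (B ⧸ 𝔫)).restrictScalars B) =
          LinearMap.range (KaehlerDifferential.kerCotangentToTensor A B (B ⧸ 𝔫)) := by
        ext z
        exact ⟨fun hz => (hex z).1 hz, fun hz => (hex z).2 hz⟩
      rw [top_inf_eq, hker, ← Submodule.map_top]
      exact Module.Finite.fg_top.map _
  haveI := hfin
  haveI : Module.Finite B (Ω[B⁄A] ⧸ (𝔫 • (⊤ : Submodule B (Ω[B⁄A])))) :=
    Module.Finite.equiv (TensorProduct.quotTensorEquivQuotSMul (Ω[B⁄A]) 𝔫)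
  obtain ⟨n, s, hs⟩ := Module.Finite.exists_fin (R := B) (M := Ω[B⁄A] ⧸ (𝔫 • (⊤ : Submodule B (Ω[B⁄A]))))
  choose y hy using fun i => Submodule.Quotient.mk_surjective _ (s i)
  have hspan : Submodule.span B (Set.range y) ⊔ 𝔫 • (⊤ : Submodule B (Ω[B⁄A])) = ⊤ := by
    rw [sup_comm, ← Submodule.map_mkQ_eq_top, Submodule.map_span, ← Set.range_comp]
    rw [show ⇑(𝔫 • (⊤ : Submodule B (Ω[B⁄A]))).mkQ ∘ y = s from funext hy, hs]
  let g : (Fin n → B) →ₗ[B] AdicCompletion 𝔫 (Ω[B⁄A]) :=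
    AdicCompletion.of 𝔫 _ ∘ₗ Fintype.linearCombination B y
  refine Module.Finite.of_surjective g fun x => ?_
  choose X hX using fun k => Submodule.Quotient.mk_surjective _ (x.val k)
  have hstep : ∀ (k : ℕ) (c : Fin n → B), X k - ∑ i, c i • y i ∈ 𝔫 ^ k • (⊤ : Submodule B (Ω[B⁄A])) →
      ∃ c' : Fin n → B, (∀ i, c' i - c i ∈ 𝔫 ^ k) ∧
        X (k + 1) - ∑ i, c' i • y i ∈ 𝔫 ^ (k + 1) • (⊤ : Submodule B (Ω[B⁄A])) := by
    intro k c hc
    have h1 : X (k + 1) - X k ∈ 𝔫 ^ k • (⊤ : Submodule B (Ω[B⁄A])) := by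
      have h := x.2 (Nat.le_succ k)
      rw [← hX, ← hX] at h
      exact (Submodule.Quotient.eq _).1 h
    have h2 := add_mem h1 hc
    rw [sub_add_sub_cancel] at h2
    conv at h2 => rw [← hspan, Submodule.smul_sup, ← Submodule.mul_smul, ← pow_succ]
    obtain ⟨u, hu, v, hv, huv⟩ := Submodule.mem_sup.1 h2
    obtain ⟨a, ha, hau⟩ := (Submodule.mem_ideal_smul_span_iff_exists_sum _ _ _).1 hu
    refine ⟨fun i => c i + a i, fun i => by simpa using ha i, ?_⟩
    have hsum : ∑ i, a i • y i = u := by rw [← hau, Finsupp.sum_fintype]; simp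
    have : X (k + 1) - ∑ i, (c i + a i) • y i = v := by
      simp only [add_smul, Finset.sum_add_distrib, hsum]
      rw [← sub_sub, ← huv, add_sub_cancel_left]
    rw [this]
    exact hv
  choose next hnext using hstep
  have h0 : X 0 - ∑ i, (0 : Fin n → B) i • y i ∈ 𝔫 ^ 0 • (⊤ : Submodule B (Ω[B⁄A])) := by
    rw [pow_zero, Ideal.one_eq_top, Submodule.top_smul]; trivial
  let seq : ∀ k, {c : Fin n → B // X k - ∑ i, c i • y i ∈ 𝔫 ^ k • (⊤ : Submodule B (Ω[B⁄A]))} := fun k =>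
    Nat.rec ⟨0, h0⟩ (fun k c => ⟨next k c.1 c.2, (hnext k c.1 c.2).2⟩) k
  have hcauchy : ∀ i {a b : ℕ}, a ≤ b → (seq b).1 i - (seq a).1 i ∈ 𝔫 ^ a := fun i a b hab => by
    induction b, hab using Nat.le_induction with
    | base => simp
    | succ b hab ih =>
      have h1 := Ideal.pow_le_pow_right hab ((hnext b (seq b).1 (seq b).2).1 i)
      have h2 := add_mem h1 ih
      rwa [sub_add_sub_cancel] at h2
  choose L hL using fun i => IsPrecomplete.prec (I := 𝔫) (M := B) inferInstance (f := fun k => (seq k).1 i)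
    fun {a b} hab => by
      rw [SModEq.sub_mem, smul_eq_mul, Ideal.mul_top, ← neg_mem_iff, neg_sub]; exact hcauchy i hab
  refine ⟨L, AdicCompletion.ext fun k => ?_⟩
  show (AdicCompletion.of 𝔫 _ (Fintype.linearCombination B y L)).val k = x.val k
  rw [← hX, AdicCompletion.of_apply, Submodule.mkQ_apply, Submodule.Quotient.eq, Fintype.linearCombination_apply]
  have h3 : ∑ i, (L i - (seq k).1 i) • y i ∈ 𝔫 ^ k • (⊤ : Submodule B (Ω[B⁄A])) :=
    Submodule.sum_mem _ fun i _ => Submodule.smul_mem_smul (by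
      have h := hL i k
      rw [SModEq.sub_mem, smul_eq_mul, Ideal.mul_top] at h
      rw [← neg_mem_iff, neg_sub]; exact h) trivial
  have h4 := sub_mem h3 (seq k).2
  simp only [sub_smul, Finset.sum_sub_distrib] at h4
  rwa [sub_sub_sub_cancel_right] at h4

end Groth.Agent.S4558
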