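import Groth.Statements.S1540
import Groth.Agent.VarietyLib.GeomPoints
import Groth.Agent.FlatMor12.GeomDescent
import Groth.Agent.AbSchLib.RigidityOver

set_option autoImplicit false
universe u
open CategoryTheory CategoryTheory.Limits AlgebraicGeometry
attribute [local instance] Curv2.resAlgebra Curv2.stalkAlgebra
open Variety Groth.Agent Groth.Agent.VarietyLib

namespace Groth.Agent.S1540

/-- An irreducible scheme X over k with generic point ξ is geometrically irreducible if and only if the
separable algebraic closure of k in the residue field of ξ is k itself. -/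
theorem result (k : Type u) [Field k] (X : Scheme.{u}) [X.Over (Spec (CommRingCat.of k))] [IrreducibleSpace X] :
    GeometricallyIrreducible (X ↘ (Spec (CommRingCat.of k))) ↔
      ∀ a : X.residueField (genericPoint X), IsSeparable k a → a ∈ Set.range (algebraMap k (X.residueField (genericPoint X))) := by
  let f := X ↘ Spec (CommRingCat.of k)
  let ξ := genericPoint X
  have hρ : Spec.map (CommRingCat.ofHom (Curv2.resMap k X ξ)) = X.fromSpecResidueField ξ ≫ f := by
    rw [← DimLib.baseRingHom_eq_resMap X ξ, DimLib.specMap_baseRingHom]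
  constructor
  · intro hGI a ha
    let ks := SeparableClosure k
    -- one point over the generic point
    have hirr : IrreducibleSpace ↥(pullback f (sK k ks)) := pullback_of_geometrically hGI.geometrically_irreducibleSpace ks _
    obtain ⟨y, hy⟩ := surjective_fst k f (L := ks) ξ
    have hone : ∀ p : ↥(pullback f (sK k ks)), pullback.fst f (sK k ks) p = ξ → p = genericPoint _ := by
      intro p hp
      have hη : pullback.fst f (sK k ks) (genericPoint _) = ξ := eq_genericPoint_of_mem_genericPoints
        (generalizing_genericPoints (generalizingMap_fst k f ks) (by rw [genericPoints_eq_singleton]; rfl))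
      obtain ⟨σ, rfl⟩ := exists_gal_apply_eq k f (hp.trans hη.symm)
      apply eq_genericPoint_of_mem_genericPoints
      rw [mem_genericPoints_iff]
      intro w hw
      obtain ⟨w, rfl⟩ := (galHomeo k f σ).surjective w
      have hw' : galHomeo k f σ w ⤳ galHomeo k f σ (genericPoint _) := hw
      rw [(galHomeo k f σ).isInducing.specializes_iff] at hw'
      rw [galHomeo_apply, eq_of_specializes_genericPoints (by rw [genericPoints_eq_singleton]; rfl) hw']
    let E := X.residueField ξ
    let L : IntermediateField k E := IntermediateField.adjoin k {a}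
    have : FiniteDimensional k L := IntermediateField.adjoin.finiteDimensional ha.isIntegral
    have : Algebra.IsSeparable k L := (IntermediateField.isSeparable_adjoin_simple_iff_isSeparable k E).2 ha
    let i : L →ₐ[k] ks := IsSepClosed.lift
    let : Algebra L ks := i.toRingHom.toAlgebra
    have : IsScalarTower k L ks := .of_algebraMap_eq fun c => (i.commutes c).symm
    have honeL : ∀ p q : ↥(pullback f (sK k L)), pullback.fst f (sK k L) p = ξ → pullback.fst f (sK k L) q = ξ → p = q := by
      intro p q hp hq
      obtain ⟨p, rfl⟩ := surjective_tr k f L ks p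
      obtain ⟨q, rfl⟩ := surjective_tr k f L ks q
      rw [tr_fst_apply] at hp hq
      rw [hone p hp, hone q hq]
    -- all embeddings of `L` over `E` agree
    let F := AlgebraicClosure E
    suffices hb : ∀ b : L →ₐ[k] F, b = (IsScalarTower.toAlgHom k E F).comp L.val by
      have h1 : Field.finSepDegree k L = 1 := by
        rw [Field.finSepDegree_eq_of_isAlgClosed k L F, Nat.card_eq_one_iff_unique]
        exact ⟨⟨fun b c => (hb b).trans (hb c).symm⟩, ⟨(IsScalarTower.toAlgHom k E F).comp L.val⟩⟩
      rw [Field.finSepDegree_eq_finrank_of_isSeparable k L] at h1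
      have hbot : L = ⊥ := IntermediateField.finrank_eq_one_iff.1 h1
      have : a ∈ (⊥ : IntermediateField k E) := hbot ▸ IntermediateField.mem_adjoin_simple_self k a
      exact IntermediateField.mem_bot.1 this
    intro b
    have hc1 : X.fromSpecResidueField ξ ≫ f = Spec.map (CommRingCat.ofHom L.val.toRingHom) ≫ sK k L := by
      rw [← hρ, ← Spec.map_comp, ← CommRingCat.ofHom_comp]
      congr 2
    have hc2 : (Spec.map (CommRingCat.ofHom (algebraMap E F)) ≫ X.fromSpecResidueField ξ) ≫ f =
        Spec.map (CommRingCat.ofHom b.toRingHom) ≫ sK k L := by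
      rw [Category.assoc, ← hρ, ← Spec.map_comp, ← Spec.map_comp, ← CommRingCat.ofHom_comp, ← CommRingCat.ofHom_comp]
      congr 2
      exact b.comp_algebraMap.symm
    let g₁ : Spec (CommRingCat.of E) ⟶ pullback f (sK k L) := pullback.lift _ _ hc1
    let g₂ : Spec (CommRingCat.of F) ⟶ pullback f (sK k L) := pullback.lift _ _ hc2
    let o : ↥(Spec (CommRingCat.of E)) := IsLocalRing.closedPoint E
    let o' : ↥(Spec (CommRingCat.of F)) := IsLocalRing.closedPoint F
    let p := g₁ o
    have hfst₁ : g₁ ≫ pullback.fst f (sK k L) = X.fromSpecResidueField ξ := pullback.lift_fst _ _ _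
    have hp : pullback.fst f (sK k L) p = ξ := by
      show pullback.fst f (sK k L) (g₁ o) = ξ
      rw [← Scheme.Hom.comp_apply, hfst₁, Scheme.fromSpecResidueField_apply]
    have hp₂ : g₂ o' = p := by
      refine honeL _ _ ?_ hp
      rw [← Scheme.Hom.comp_apply, pullback.lift_fst, Scheme.Hom.comp_apply, Scheme.fromSpecResidueField_apply]
    let q := (pullback f (sK k L)).fromSpecResidueField p
    -- factor both maps through the residue field of the point
    obtain ⟨⟨p₁, u₁⟩, hu₁⟩ := (Scheme.SpecToEquivOfField E (pullback f (sK k L))).symm.surjective g₁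
    obtain ⟨⟨p₂, u₂⟩, hu₂⟩ := (Scheme.SpecToEquivOfField F (pullback f (sK k L))).symm.surjective g₂
    simp only [Scheme.SpecToEquivOfField, Equiv.coe_fn_symm_mk] at hu₁ hu₂
    have e₁ : p₁ = p := by
      show p₁ = g₁ o
      rw [← hu₁, Scheme.Hom.comp_apply, Scheme.fromSpecResidueField_apply]
    have e₂ : p₂ = p := by
      rw [← hp₂, ← hu₂, Scheme.Hom.comp_apply, Scheme.fromSpecResidueField_apply]
    subst e₁ e₂
    obtain ⟨v, hv⟩ : ∃ v, (pullback f (sK k L)).fromSpecResidueField p ≫ pullback.fst f (sK k L) =
        Spec.map v ≫ X.fromSpecResidueField ξ := by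
      refine ⟨eqToHom (by rw [hp]) ≫ (pullback.fst f (sK k L)).residueFieldMap p, ?_⟩
      rw [← Scheme.Hom.SpecMap_residueFieldMap_fromSpecResidueField, Spec.map_comp, Category.assoc]
      congr 1
      exact (Scheme.residueFieldCongr_fromSpecResidueField hp.symm).symm
    have hvu : v ≫ u₁ = 𝟙 _ := by
      apply Spec.map_injective
      rw [← cancel_mono (X.fromSpecResidueField ξ), Spec.map_comp, Category.assoc, ← hv, ← Category.assoc, hu₁, hfst₁,
        Spec.map_id]
      exact (Category.id_comp _).symm
    have hvu₂ : v ≫ u₂ = CommRingCat.ofHom (algebraMap E F) := by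
      apply Spec.map_injective
      rw [← cancel_mono (X.fromSpecResidueField ξ), Spec.map_comp, Category.assoc, ← hv, ← Category.assoc, hu₂,
        pullback.lift_fst]
    have hsurj : ∀ c, ∃ e, v.hom e = c := fun c => ⟨u₁.hom c, u₁.hom.injective (congr($(hvu).hom (u₁.hom c)))⟩
    have hu : u₂ = u₁ ≫ CommRingCat.ofHom (algebraMap E F) := by
      ext c
      obtain ⟨e, rfl⟩ := hsurj c
      exact (congr($(hvu₂).hom e)).trans (congrArg (algebraMap E F) (congr($(hvu).hom e))).symm
    have hfinal : g₂ = Spec.map (CommRingCat.ofHom (algebraMap E F)) ≫ g₁ := by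
      rw [← hu₁, ← hu₂, hu, Spec.map_comp, Category.assoc]
    have hsnd := congrArg (· ≫ pullback.snd f (sK k L)) hfinal
    simp only [Category.assoc, g₁, g₂, pullback.lift_snd, ← Spec.map_comp, ← CommRingCat.ofHom_comp] at hsnd
    exact AlgHom.coe_ringHom_injective (congrArg CommRingCat.Hom.hom (Spec.map_injective hsnd))
  · intro h
    refine @geometricallyIrreducible_of_irreducibleSpace k _ X f ?_
    exact irreducibleSpace_of_generic_fibre_subsingleton fun p q hp hq =>
      fst_injOn_fibre k f ξ hρ h hp hq

end Groth.Agent.S1540
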