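import Groth.Statements.S4848
import Groth.Agent.EGA43.FlatDescent.Main
import Groth.Agent.EGA43.FlatDescent.Model

set_option autoImplicit false
set_option backward.isDefEq.respectTransparency false
universe u
open TensorProduct
open EGA43

namespace Groth.Agent.S4848

open TensorProduct in
/-- A finitely presented algebra mapping to the colimit maps to some stage. -/
theorem exists_lift {R₀ A₀ : Type u} [CommRing R₀] [CommRing A₀] [Algebra R₀ A₀]
    {ι : Type u} [Preorder ι] (G : ι → Type u) [∀ i, CommRing (G i)] [∀ i, Algebra A₀ (G i)]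
    [∀ i, Algebra R₀ (G i)] [∀ i, IsScalarTower R₀ A₀ (G i)]
    (g : ∀ i j, i ≤ j → G i →ₐ[A₀] G j)
    (A : Type u) [CommRing A] [Algebra R₀ A] [Algebra A₀ A] [IsScalarTower R₀ A₀ A]
    [∀ i, Algebra (G i) A] [∀ i, IsScalarTower A₀ (G i) A]
    (hcolim : FlatCA.IsDirectedColimitRing G (fun i j h => (g i j h).toRingHom) A)
    (B : Type u) [CommRing B] [Algebra R₀ B] [Algebra.FinitePresentation R₀ B] (φ : B →ₐ[R₀] A) :
    ∃ i, Nonempty (B →ₐ[R₀] G i) := by
  classical
  obtain ⟨hdir, hne, -, hcomp, hcompA, hsurj, hzero⟩ := hcolim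
  obtain ⟨n, π, hπ, s, hs⟩ := ‹Algebra.FinitePresentation R₀ B›.out
  choose ik xk hxk using fun k => hsurj (φ (π (MvPolynomial.X k)))
  obtain ⟨i, hi⟩ := Finset.exists_le (Finset.univ.image ik)
  have hik : ∀ k, ik k ≤ i := fun k => hi _ (Finset.mem_image_of_mem _ (Finset.mem_univ k))
  have : ∀ j, IsScalarTower R₀ (G j) A := fun j => IsScalarTower.of_algebraMap_eq fun r => by
    rw [IsScalarTower.algebraMap_apply R₀ A₀ A, IsScalarTower.algebraMap_apply R₀ A₀ (G j),
      ← IsScalarTower.algebraMap_apply A₀ (G j) A]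
  let ev : MvPolynomial (Fin n) R₀ →ₐ[R₀] G i :=
    MvPolynomial.aeval fun k => g (ik k) i (hik k) (xk k)
  have hev : ∀ f, algebraMap (G i) A (ev f) = φ (π f) := by
    intro f
    have : (IsScalarTower.toAlgHom R₀ (G i) A).comp ev = φ.comp π :=
      MvPolynomial.algHom_ext fun k => by
        simp only [AlgHom.comp_apply, IsScalarTower.coe_toAlgHom', ev, MvPolynomial.aeval_X]
        exact (RingHom.congr_fun (hcompA (ik k) i (hik k)) (xk k)).trans (hxk k)
    exact AlgHom.congr_fun this f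
  choose jf hjf hjf0 using fun f : s => hzero i (ev f) (by
    have : (f : MvPolynomial (Fin n) R₀) ∈ RingHom.ker π.toRingHom := hs ▸ Ideal.subset_span f.2
    rw [hev, show π (f : MvPolynomial (Fin n) R₀) = 0 from this, map_zero])
  obtain ⟨j, hj⟩ := Finset.exists_le (insert i (Finset.univ.image jf))
  have hij : i ≤ j := hj _ (Finset.mem_insert_self _ _)
  let ev' : MvPolynomial (Fin n) R₀ →ₐ[R₀] G j := ((g i j hij).restrictScalars R₀).comp ev
  have hker : RingHom.ker π.toRingHom ≤ RingHom.ker ev'.toRingHom := by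
    rw [← hs, Ideal.span_le]
    intro f hf
    have hfj : jf ⟨f, hf⟩ ≤ j :=
      hj _ (Finset.mem_insert_of_mem (Finset.mem_image_of_mem _ (Finset.mem_univ _)))
    show g i j hij (ev f) = 0
    rw [← show g (jf ⟨f, hf⟩) j hfj (g i _ (hjf ⟨f, hf⟩) (ev f)) = g i j hij (ev f) from
      RingHom.congr_fun (hcomp i _ j (hjf ⟨f, hf⟩) hfj) (ev f)]
    have h0 : g i (jf ⟨f, hf⟩) (hjf ⟨f, hf⟩) (ev f) = 0 := hjf0 ⟨f, hf⟩
    rw [h0, map_zero]
  exact ⟨j, ⟨AlgHom.liftOfSurjective π hπ ev' hker⟩⟩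

open TensorProduct in
theorem aux {A₀ : Type u} [CommRing A₀]
    {ι : Type u} [Preorder ι] (G : ι → Type u) [∀ i, CommRing (G i)] [∀ i, Algebra A₀ (G i)]
    (g : ∀ i j, i ≤ j → G i →ₐ[A₀] G j)
    (A : Type u) [CommRing A] [Algebra A₀ A] [∀ i, Algebra (G i) A] [∀ i, IsScalarTower A₀ (G i) A]
    (hcolim : FlatCA.IsDirectedColimitRing G (fun i j h => (g i j h).toRingHom) A)
    {B₀ : Type u} [CommRing B₀] [Algebra A₀ B₀] [Algebra.FinitePresentation A₀ B₀]
    (M₀ : Type u) [AddCommGroup M₀] [Module B₀ M₀] [Module A₀ M₀] [IsScalarTower A₀ B₀ M₀]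
    [Module.FinitePresentation B₀ M₀] :
    Module.Flat A (A ⊗[A₀] M₀) ↔ ∃ i : ι, Module.Flat (G i) (G i ⊗[A₀] M₀) := by
  constructor
  · intro h
    obtain ⟨R₀, _, P₀, M', _, _, _, _, _, _, _, _, ψ, e, -, -⟩ :=
      Groth.Agent.EGA43.FlatDescent.exists_model_of_finitePresentation (A := A₀) (S := B₀) (N := M₀)
    let E : A ⊗[R₀] M' ≃ₗ[A] A ⊗[A₀] M₀ :=
      (AlgebraTensorModule.cancelBaseChange R₀ A₀ A A M').symm ≪≫ₗ
        AlgebraTensorModule.congr (LinearEquiv.refl A A) e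
    have : Module.Flat A (A ⊗[R₀] M') := Module.Flat.of_linearEquiv E
    obtain ⟨B, hB, hBflat⟩ :=
      Groth.Agent.EGA43.FlatDescent.exists_stage_flat (R := R₀) P₀ (M := M') (A := A)
    have : Algebra.FiniteType R₀ B := B.fg_iff_finiteType.1 hB
    have : Algebra.FinitePresentation R₀ B := Algebra.FinitePresentation.of_finiteType.1 inferInstance
    obtain ⟨i, ⟨φ⟩⟩ := exists_lift (R₀ := R₀) G g A hcolim B B.val
    refine ⟨i, ?_⟩
    let _ : Algebra B (G i) := φ.toRingHom.toAlgebra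
    have : IsScalarTower R₀ B (G i) := .of_algebraMap_eq fun r => (φ.commutes r).symm
    have : Module.Flat (G i) (G i ⊗[R₀] M') := Module.Flat.of_linearEquiv
      (AlgebraTensorModule.cancelBaseChange R₀ B (G i) (G i) M').symm
    exact Module.Flat.of_linearEquiv ((AlgebraTensorModule.cancelBaseChange R₀ A₀ (G i) (G i) M').symm ≪≫ₗ
      AlgebraTensorModule.congr (LinearEquiv.refl (G i) (G i)) e).symm
  · rintro ⟨i, hi⟩
    exact Module.Flat.of_linearEquiv
      (AlgebraTensorModule.cancelBaseChange A₀ (G i) A A M₀).symm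

/-- Let A₀ be a commutative ring, (A_i) a directed system of A₀-algebras with colimit A, B₀ a finitely
presented A₀-algebra and M₀ a finitely presented B₀-module. Then the A-module A ⊗_{A₀} M₀ is flat if
and only if, for some index i, the A_i-module A_i ⊗_{A₀} M₀ is flat. -/
theorem result {A₀ : Type u} [CommRing A₀]
    {ι : Type u} [Preorder ι] (G : ι → Type u) [∀ i, CommRing (G i)] [∀ i, Algebra A₀ (G i)]
    (g : ∀ i j, i ≤ j → G i →ₐ[A₀] G j)
    (A : Type u) [CommRing A] [Algebra A₀ A] [∀ i, Algebra (G i) A] [∀ i, IsScalarTower A₀ (G i) A]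
    (hcolim : FlatCA.IsDirectedColimitRing G (fun i j h => (g i j h).toRingHom) A)
    {B₀ : Type u} [CommRing B₀] [Algebra A₀ B₀] [Algebra.FinitePresentation A₀ B₀]
    (M₀ : Type u) [AddCommGroup M₀] [Module B₀ M₀] [Module A₀ M₀] [IsScalarTower A₀ B₀ M₀]
    [Module.FinitePresentation B₀ M₀] :
    Module.Flat A (A ⊗[A₀] M₀) ↔ ∃ i : ι, Module.Flat (G i) (G i ⊗[A₀] M₀) := by
  exact aux G g A hcolim (B₀ := B₀) M₀

end Groth.Agent.S4848
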