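import Groth.Statements.S1654
import Groth.Agent.VarietyLib.GeomPoints
import Groth.Agent.FlatMor12.GeomDescent

set_option autoImplicit false
set_option backward.isDefEq.respectTransparency.types false
universe u
open CategoryTheory CategoryTheory.Limits AlgebraicGeometry
open Variety Groth.Agent Groth.Agent.VarietyLib

namespace Groth.Agent.S1654

/-- Let X be a k-scheme locally of finite type, having only finitely many irreducible components. There
is then a finite separable extension k' of k such that every irreducible component of X_{k'}, with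
its reduced induced structure, is geometrically irreducible over k'. -/
theorem result (k : Type u) [Field k] (X : Scheme.{u}) [X.Over (Spec (CommRingCat.of k))] [LocallyOfFiniteType (X ↘ (Spec (CommRingCat.of k)))]
    (hirr : (irreducibleComponents (X : Type u)).Finite) :
    ∃ (k' : Type u) (_ : Field k') (_ : Algebra k k'), FiniteDimensional k k' ∧ Algebra.IsSeparable k k' ∧
      ∀ (T : Set (Curv2.bc k X k')) (hT : T ∈ irreducibleComponents (Curv2.bc k X k' : Type u)),
        GeometricallyIrreducible
          ((Scheme.IdealSheafData.vanishingIdeal ⟨T, isClosed_of_mem_irreducibleComponents T hT⟩).subschemeι ≫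
            Curv2.bcSnd k X k') := by
  classical
  let f := X ↘ Spec (CommRingCat.of k)
  let ks := SeparableClosure k
  -- finitely many components upstairs
  have hfin : (genericPoints ↥(pullback f (sK k ks))).Finite := by
    refine genericPoints.finite ?_
    refine (hirr.biUnion fun T hT => finite_components_over k f hT ks).subset fun T' hT' => ?_
    exact Set.mem_biUnion (image_irreducibleComponent k f ks hT') ⟨hT', subset_rfl⟩
  -- separate the generic points at a finite level
  have hsep : ∀ ζ ∈ genericPoints ↥(pullback f (sK k ks)), ∃ O : Set ↥(pullback f (sK k ks)), IsOpen O ∧ ζ ∈ O ∧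
      ∀ η ∈ genericPoints ↥(pullback f (sK k ks)), η ∈ O → η = ζ := by
    intro ζ hζ
    refine ⟨(⋃ η ∈ genericPoints ↥(pullback f (sK k ks)) \ {ζ}, closure {η})ᶜ,
      ((hfin.sdiff).isClosed_biUnion fun η _ => isClosed_closure).isOpen_compl, ?_, ?_⟩
    · intro hmem
      obtain ⟨η, hη, h⟩ := Set.mem_iUnion₂.1 hmem
      exact hη.2 (eq_of_specializes_genericPoints hζ (specializes_iff_mem_closure.2 h))
    · intro η hη hηO
      by_contra hne
      exact hηO (Set.mem_biUnion ⟨hη, hne⟩ (subset_closure rfl))
  choose O hO hmem honly using hsep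
  choose σ hσ using fun (ζ : genericPoints ↥(pullback f (sK k ks))) =>
    H8Lim.exists_finset_nhd f ks (hO ζ.1 ζ.2) (hmem ζ.1 ζ.2)
  have : Fintype (genericPoints ↥(pullback f (sK k ks))) := hfin.fintype
  let L : IntermediateField k ks := IntermediateField.adjoin k (↑(Finset.univ.biUnion σ) : Set ks)
  have : FiniteDimensional k L := IntermediateField.finiteDimensional_adjoin fun x _ => Algebra.IsIntegral.isIntegral x
  have hsepL : Algebra.IsSeparable k L := Algebra.isSeparable_tower_bot_of_isSeparable k L ks
  have : Normal L ks := Normal.tower_top_of_normal k L ks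
  refine ⟨L, inferInstance, inferInstance, inferInstance, hsepL, fun T hT => ?_⟩
  let g := pullback.snd f (sK k L)
  have hinj : Set.InjOn (tr k f L ks) (genericPoints ↥(pullback f (sK k ks))) := by
    intro ζ hζ η hη h
    obtain ⟨O', hO'⟩ := hσ ⟨ζ, hζ⟩ L.toSubalgebra (fun x hx => IntermediateField.subset_adjoin k _
      (Finset.mem_coe.2 (Finset.mem_biUnion.2 ⟨⟨ζ, hζ⟩, Finset.mem_univ _, hx⟩)))
    obtain ⟨h1, h2⟩ := hO' (tr k f L ks) (tr_fst k f L _) (pullback.lift_snd _ _ _)
    exact (honly ζ hζ η hη (h2 (show tr k f L ks η ∈ O' by rw [← h]; exact h1))).symm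
  let e : pullback f (sK k ks) ≅ pullback g (sK L ks) := (isPullback_tr k f L ks).isoPullback
  have he : e.hom ≫ pullback.fst g (sK L ks) = tr k f L ks := IsPullback.isoPullback_hom_fst _
  have hinj' : Set.InjOn (pullback.fst g (sK L ks)) (genericPoints ↥(pullback g (sK L ks))) := by
    intro a ha b hb h
    obtain ⟨a, rfl⟩ := e.hom.homeomorph.surjective a
    obtain ⟨b, rfl⟩ := e.hom.homeomorph.surjective b
    have hmax : ∀ c, e.hom.homeomorph c ∈ genericPoints ↥(pullback g (sK L ks)) →
        c ∈ genericPoints ↥(pullback f (sK k ks)) := fun c hc => mem_genericPoints_iff.2 fun y hy =>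
      e.hom.homeomorph.injective (eq_of_specializes_genericPoints hc (hy.map e.hom.homeomorph.continuous))
    refine congrArg _ (hinj (hmax a ha) (hmax b hb) ?_)
    rw [← he, Scheme.Hom.comp_apply, Scheme.Hom.comp_apply]
    exact h
  obtain ⟨C, hC, hCT⟩ := exists_irreducibleComponent_image_eq L g ks hT
  obtain ⟨t, ht, rfl⟩ := exists_genericPoint_of_component hT
  obtain ⟨ζ, hζ, rfl⟩ := exists_genericPoint_of_component hC
  rw [image_closure_genericPoint L g ks hζ] at hCT
  have hζt : pullback.fst g (sK L ks) ζ = t :=
    IsGenericPoint.eq (show IsGenericPoint _ (closure {t}) from hCT) isGenericPoint_closure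
  have hpre : pullback.fst g (sK L ks) ⁻¹' closure {t} = closure {ζ} := by
    refine subset_antisymm (fun y hy => ?_) (fun y hy => ?_)
    · have h1 : pullback.fst g (sK L ks) '' closure {ζ} = closure {t} := by
        rw [image_closure_genericPoint L g ks hζ, hCT]
      obtain ⟨y₀, hy₀, hy'⟩ := h1.ge hy
      obtain ⟨τ, rfl⟩ := exists_gal_apply_eq L g hy'.symm
      have hτ : gal L g τ ζ = ζ := by
        refine hinj' ?_ hζ (gal_fst_apply L g τ ζ)
        refine mem_genericPoints_iff.2 fun w hw => ?_
        obtain ⟨w, rfl⟩ := (galHomeo L g τ).surjective w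
        have hw' : galHomeo L g τ w ⤳ galHomeo L g τ ζ := hw
        rw [(galHomeo L g τ).isInducing.specializes_iff] at hw'
        rw [galHomeo_apply, eq_of_specializes_genericPoints hζ hw']
      have h2 := (specializes_iff_mem_closure.2 hy₀).map (gal L g τ).continuous
      rw [hτ] at h2
      exact specializes_iff_mem_closure.1 h2
    · rw [Set.mem_preimage, ← hζt]
      exact specializes_iff_mem_closure.1 ((specializes_iff_mem_closure.2 hy).map (pullback.fst g (sK L ks)).continuous)
  let I := Scheme.IdealSheafData.vanishingIdeal
    ⟨closure {t}, isClosed_of_mem_irreducibleComponents _ hT⟩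
  show GeometricallyIrreducible (I.subschemeι ≫ g)
  have hP : IrreducibleSpace ↥(pullback I.subschemeι (pullback.fst g (sK L ks))) := by
    let m := pullback.snd I.subschemeι (pullback.fst g (sK L ks))
    have hr : Set.range m = closure {ζ} := by
      rw [Scheme.Pullback.range_snd, Scheme.IdealSheafData.range_subschemeι, ← hpre]
      simp [I]
    have hm : Topology.IsEmbedding m := (inferInstance : IsClosedImmersion m).isClosedEmbedding.isEmbedding
    have : IrreducibleSpace (Set.range m) := Subtype.irreducibleSpace (hr ▸ isGenericPoint_closure.isIrreducible)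
    exact hm.toHomeomorph.symm.surjective.irreducibleSpace hm.toHomeomorph.symm.continuous
  have : IrreducibleSpace ↥(pullback (I.subschemeι ≫ g) (sK L ks)) :=
    (pullbackRightPullbackFstIso g (sK L ks) I.subschemeι).hom.homeomorph.surjective.irreducibleSpace
      (pullbackRightPullbackFstIso g (sK L ks) I.subschemeι).hom.continuous
  have hgi : GeometricallyIrreducible (pullback.snd (I.subschemeι ≫ g) (sK L ks)) := by
    refine ⟨geometrically_iff_of_commRing_of_isClosedUnderIsomorphisms.2 fun K _ _ => ?_⟩
    have := geometricallyIrreducible_algSpec ks K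
    infer_instance
  exact ⟨FlatMor12.geometrically_descent (fun A B h hs _ _ (hA : IrreducibleSpace A) => hs.1.irreducibleSpace h.continuous)
    (IsPullback.of_hasPullback (I.subschemeι ≫ g) (sK L ks)) hgi.geometrically_irreducibleSpace⟩

end Groth.Agent.S1654
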