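import Groth.Statements.S4806
import Groth.Agent.EGA43.Cons.Unramified

set_option autoImplicit false
set_option backward.isDefEq.respectTransparency.types false
universe u
open CategoryTheory CategoryTheory.Limits AlgebraicGeometry
open Lim8

namespace Groth.Agent.S4806

/-- Let f : X ⟶ Y be a proper morphism of finite presentation. Then f is a closed immersion if and only
if, for every point y of Y, the scheme-theoretic fibre of f at y is empty or its structure morphism
to Spec κ(y) is an isomorphism. -/
theorem result {X Y : Scheme.{u}} (f : X ⟶ Y) [IsProper f]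
    [LocallyOfFinitePresentation f] :
    IsClosedImmersion f ↔ ∀ y : Y, IsEmpty (f.fiber y) ∨ IsIso (f.fiberToSpecResidueField y) := by
  constructor
  · intro h y
    rw [or_iff_not_imp_left, not_isEmpty_iff]
    intro hne
    have : IsClosedImmersion (f.fiberToSpecResidueField y) := MorphismProperty.pullback_snd _ _ h
    have : Surjective (f.fiberToSpecResidueField y) := ⟨fun z ↦ ⟨hne.some, Subsingleton.elim _ _⟩⟩
    exact isIso_of_isClosedImmersion_of_surjective _
  · intro h
    have hfib : ∀ y : Y, Mono (pullback.snd f (Y.fromSpecResidueField y)) := fun y ↦ by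
      rcases h y with he | hi
      · exact ⟨fun {Z} a b _ ↦ by
          have : IsEmpty (pullback f (Y.fromSpecResidueField y) : Scheme) := he
          have : IsEmpty Z := ⟨fun z ↦ this.false (a z)⟩
          exact isInitialOfIsEmpty.hom_ext a b⟩
      · have : IsIso (pullback.snd f (Y.fromSpecResidueField y)) := hi
        infer_instance
    have hu : FormallyUnramified f := by
      rw [EGA43.Cons.formallyUnramified_iff_unramLocus]
      intro x
      have hx : x ∈ Set.range (pullback.fst f (Y.fromSpecResidueField (f x))) := by
        rw [Scheme.Pullback.range_fst, Scheme.range_fromSpecResidueField]; simp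
      obtain ⟨z, hz⟩ := hx
      have hh := EGA43.Cons.unramLocus_isPullback (IsPullback.of_hasPullback f (Y.fromSpecResidueField (f x)))
      have := hfib (f x)
      have hmem := (EGA43.Cons.formallyUnramified_iff_unramLocus (pullback.snd f (Y.fromSpecResidueField (f x)))).mp inferInstance z
      rw [hh] at hmem
      exact hz ▸ hmem
    have hinj : UniversallyInjective f := by
      refine ((tfae_universallyInjective f).out 0 1).mpr ?_
      intro K _ g₁ g₂ hg
      dsimp only at hg
      obtain ⟨⟨y, v⟩, hv⟩ := (Y.SpecToEquivOfField K).symm.surjective (g₁ ≫ f)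
      have hv' : Spec.map v ≫ Y.fromSpecResidueField y = g₁ ≫ f := hv
      have := hfib y
      have e : pullback.lift g₁ (Spec.map v) hv'.symm = pullback.lift g₂ (Spec.map v) (hg.symm.trans hv'.symm) := by
        rw [← cancel_mono (pullback.snd f (Y.fromSpecResidueField y)), pullback.lift_snd, pullback.lift_snd]
      exact (pullback.lift_fst _ _ _).symm.trans (congr($e ≫ pullback.fst f (Y.fromSpecResidueField y)).trans (pullback.lift_fst _ _ _))
    have : Mono f := (EGA43.Cons.mono_iff f).mpr ⟨hinj, hu⟩
    exact (IsClosedImmersion.iff_isProper_and_mono (f := f)).mpr ⟨inferInstance, this⟩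

end Groth.Agent.S4806
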