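import Groth.Statements.S10142
import Groth.Prelude.Def_AlgSpGpd
-- import your own Groth.Agent.* helpers here

set_option autoImplicit false
universe u
open CategoryTheory CategoryTheory.Limits AlgebraicGeometry
open AlgSp AlgSp.GroupoidSp

namespace Groth.Agent.S10142

set_option backward.isDefEq.respectTransparency.types false
variable {S : Scheme.{u}} {B : AlgSp.Sp S} (G : AlgSp.GroupoidSp B)

theorem cancel_right {T : AlgSp.Sp S} {α α' β : T ⟶ G.R} (h : α ≫ G.s = β ≫ G.t)
    (h' : α' ≫ G.s = β ≫ G.t)
    (e : pullback.lift α β h ≫ G.c = pullback.lift α' β h' ≫ G.c) : α = α' := by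
  have hi : β ≫ G.s = (β ≫ G.i) ≫ G.t := by rw [Category.assoc, G.i_t]
  have key : ∀ (a : T ⟶ G.R) (ha : a ≫ G.s = β ≫ G.t),
      pullback.lift (pullback.lift a β ha ≫ G.c) (β ≫ G.i)
        ((G.comp_s a β ha).trans hi) ≫ G.c = a := fun a ha => by
    rw [G.assoc a β (β ≫ G.i) ha hi]
    simp only [G.comp_i β]
    have := G.comp_e a
    simp only [← reassoc_of% ha] at this ⊢
    exact this
  rw [← key α h, ← key α' h']
  congr 1
  apply pullback.hom_ext
  · rw [pullback.lift_fst, pullback.lift_fst, e]
  · rw [pullback.lift_snd, pullback.lift_snd]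

/-- For a groupoid in algebraic spaces `(U, R, s, t, c, e, i)` over `B`: the square with sides `c : R
×_{s,U,t} R ⟶ R`, `pr_1 : R ×_{s,U,t} R ⟶ R`, `s` and `s` is cartesian, and the morphism `R
×_{t,U,t} R ⟶ R ×_{s,U,t} R`, `(α, β) ↦ (α, i(α) ∘ β)`, is an isomorphism whose composite with `c`
is the second projection `pr_1 : R ×_{t,U,t} R ⟶ R`. (The published statement also lists the square
formed by `pr_0`, `pr_1`, `s`, `t`, which is cartesian by definition of the fibre product.) -/
theorem result (S : Scheme.{u}) (B : AlgSp.Sp S) (hB : AlgSp.IsAlgSpace B)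
    (G : AlgSp.GroupoidSp B) (hU : AlgSp.IsAlgSpace G.U) (hR : AlgSp.IsAlgSpace G.R) :
    IsPullback G.c (pullback.snd G.s G.t) G.s G.s ∧
      ∀ φ : pullback G.t G.t ⟶ pullback G.s G.t,
        φ ≫ pullback.fst G.s G.t = pullback.fst G.t G.t →
        φ ≫ pullback.snd G.s G.t =
          pullback.lift (pullback.fst G.t G.t ≫ G.i) (pullback.snd G.t G.t)
            ((Category.assoc _ _ _).trans ((congrArg (pullback.fst G.t G.t ≫ ·) G.i_s).trans pullback.condition)) ≫ G.c →
        IsIso φ ∧ φ ≫ G.c = pullback.snd G.t G.t := by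
  have hc : G.c ≫ G.s = pullback.snd G.s G.t ≫ G.s := by
    have := G.comp_s (pullback.fst G.s G.t) (pullback.snd G.s G.t) pullback.condition
    have e : pullback.lift (pullback.fst G.s G.t) (pullback.snd G.s G.t) pullback.condition = 𝟙 _ := by
      apply pullback.hom_ext <;> simp
    rwa [e, Category.id_comp] at this
  have hti : ∀ {T : AlgSp.Sp S} (β γ : T ⟶ G.R), γ ≫ G.s = β ≫ G.s → γ ≫ G.s = (β ≫ G.i) ≫ G.t :=
    fun β γ h => by rw [h, Category.assoc, G.i_t]
  constructor
  · refine ⟨⟨hc⟩, ⟨PullbackCone.IsLimit.mk _ (fun z => pullback.lift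
      (pullback.lift z.fst (z.snd ≫ G.i) (hti _ _ z.condition) ≫ G.c) z.snd
        ((G.comp_s _ _ _).trans (by rw [Category.assoc, G.i_s]))) (fun z => ?_) (fun z => ?_)
      (fun z m h1 h2 => ?_)⟩⟩
    · rw [G.assoc z.fst (z.snd ≫ G.i) z.snd (hti _ _ z.condition) (by rw [Category.assoc, G.i_s])]
      simp only [G.i_comp z.snd]
      have := G.comp_e z.fst
      simp only [← reassoc_of% z.condition]
      exact this
    · exact pullback.lift_snd _ _ _
    · have hm : m ≫ pullback.fst G.s G.t ≫ G.s = z.snd ≫ G.t := by
        rw [pullback.condition, ← h2, Category.assoc]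
      have hw : ((pullback.lift z.fst (z.snd ≫ G.i) (hti _ _ z.condition)) ≫ G.c) ≫ G.s = z.snd ≫ G.t :=
        (G.comp_s _ _ _).trans (by rw [Category.assoc, G.i_s])
      apply pullback.hom_ext
      · rw [pullback.lift_fst]
        refine cancel_right G (by rw [Category.assoc, hm]) hw ?_
        have e : pullback.lift (m ≫ pullback.fst G.s G.t) z.snd (by rw [Category.assoc, hm]) = m := by
          apply pullback.hom_ext
          · rw [pullback.lift_fst]
          · rw [pullback.lift_snd, h2]
        rw [e, h1, G.assoc z.fst (z.snd ≫ G.i) z.snd (hti _ _ z.condition) (by rw [Category.assoc, G.i_s])]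
        simp only [G.i_comp z.snd]
        simp only [← reassoc_of% z.condition]
        exact (G.comp_e z.fst).symm
      · rw [pullback.lift_snd, h2]
  · intro φ h1 h2
    have hij : ∀ {T : AlgSp.Sp S} (β : T ⟶ G.R), (β ≫ G.i) ≫ G.s = β ≫ G.t :=
      fun β => by rw [Category.assoc, G.i_s]
    -- the composite of `φ` with `c` is the second projection
    have hφc : φ ≫ G.c = pullback.snd G.t G.t := by
      have hw : pullback.fst G.t G.t ≫ G.s = (pullback.fst G.t G.t ≫ G.i) ≫ G.t := by
        rw [Category.assoc, G.i_t]
      have hw2 : (pullback.fst G.t G.t ≫ G.i) ≫ G.s = pullback.snd G.t G.t ≫ G.t := by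
        rw [hij, pullback.condition]
      have e : φ = pullback.lift (pullback.fst G.t G.t)
          (pullback.lift (pullback.fst G.t G.t ≫ G.i) (pullback.snd G.t G.t) hw2 ≫ G.c)
          (hw.trans (G.comp_t _ _ hw2).symm) := by
        apply pullback.hom_ext
        · rw [h1, pullback.lift_fst]
        · rw [h2, pullback.lift_snd]
      rw [e, ← G.assoc _ _ _ hw hw2]
      simp only [G.comp_i (pullback.fst G.t G.t)]
      have := G.e_comp (pullback.snd G.t G.t)
      simp only [← pullback.condition_assoc] at this ⊢
      exact this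
    refine ⟨?_, hφc⟩
    have ht : G.c ≫ G.t = pullback.fst G.s G.t ≫ G.t := by
      have := G.comp_t (pullback.fst G.s G.t) (pullback.snd G.s G.t) pullback.condition
      have e : pullback.lift (pullback.fst G.s G.t) (pullback.snd G.s G.t) pullback.condition = 𝟙 _ := by
        apply pullback.hom_ext <;> simp
      rwa [e, Category.id_comp] at this
    refine ⟨pullback.lift (pullback.fst G.s G.t) G.c ht.symm, ?_, ?_⟩
    · apply pullback.hom_ext
      · rw [Category.assoc, pullback.lift_fst, h1, Category.id_comp]
      · rw [Category.assoc, pullback.lift_snd, hφc, Category.id_comp]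
    · apply pullback.hom_ext
      · rw [Category.assoc, h1, pullback.lift_fst, Category.id_comp]
      · rw [Category.assoc, h2, Category.id_comp, ← Category.assoc]
        have hw2 : ((pullback.fst G.s G.t) ≫ G.i) ≫ G.s = G.c ≫ G.t := by rw [hij, ht]
        have e : pullback.lift (pullback.fst G.s G.t) G.c ht.symm ≫
            pullback.lift (pullback.fst G.t G.t ≫ G.i) (pullback.snd G.t G.t)
              ((Category.assoc _ _ _).trans ((congrArg (pullback.fst G.t G.t ≫ ·) G.i_s).trans pullback.condition)) =
            pullback.lift (pullback.fst G.s G.t ≫ G.i) G.c hw2 := by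
          apply pullback.hom_ext
          · simp only [Category.assoc, pullback.lift_fst, pullback.lift_fst_assoc]
          · simp only [Category.assoc, pullback.lift_snd]
        rw [e]
        have e0 : pullback.lift (pullback.fst G.s G.t) (pullback.snd G.s G.t) pullback.condition = 𝟙 _ := by
          apply pullback.hom_ext <;> simp
        have hc' : G.c = pullback.lift (pullback.fst G.s G.t) (pullback.snd G.s G.t) pullback.condition ≫ G.c := by
          rw [e0, Category.id_comp]
        have hi2 : (pullback.fst G.s G.t ≫ G.i) ≫ G.s = pullback.fst G.s G.t ≫ G.t := hij _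
        have e1 : pullback.lift (pullback.fst G.s G.t ≫ G.i) G.c hw2 =
            pullback.lift (pullback.fst G.s G.t ≫ G.i)
              (pullback.lift (pullback.fst G.s G.t) (pullback.snd G.s G.t) pullback.condition ≫ G.c)
              (hi2.trans (G.comp_t _ _ _).symm) := by
          apply pullback.hom_ext
          · rw [pullback.lift_fst, pullback.lift_fst]
          · rw [pullback.lift_snd, pullback.lift_snd, ← hc']
        rw [e1, ← G.assoc _ _ _ hi2 pullback.condition]
        simp only [G.i_comp (pullback.fst G.s G.t)]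
        have := G.e_comp (pullback.snd G.s G.t)
        simp only [← pullback.condition_assoc] at this ⊢
        exact this

end Groth.Agent.S10142
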