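import Groth.Statements.S7652
import Groth.Agent.CAlgH.NagataIC

set_option autoImplicit false
set_option backward.isDefEq.respectTransparency.types false
universe u
open CategoryTheory CategoryTheory.Limits AlgebraicGeometry
open Variety

namespace Groth.Agent.S7652

/-- In a reduced Artinian ring every element generates an ideal with an idempotent generator. -/
theorem exists_idem {F : Type u} [CommRing F] [IsArtinianRing F] [IsReduced F] (x : F) :
    ∃ y : F, IsIdempotentElem (x * y) ∧ x * (x * y) = x := by
  classical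
  let g := IsArtinianRing.equivPi F
  have h : ∀ m : MaximalSpectrum F, ∃ z : F ⧸ m.asIdeal, g x m * (g x m * z) = g x m ∧ IsIdempotentElem (g x m * z) := by
    intro m
    have hf := (Ideal.Quotient.maximal_ideal_iff_isField_quotient m.asIdeal).1 m.isMaximal
    by_cases h0 : g x m = 0
    · exact ⟨0, by rw [h0]; simp [IsIdempotentElem]⟩
    · obtain ⟨z, hz⟩ := hf.mul_inv_cancel h0
      exact ⟨z, by rw [hz]; simp [IsIdempotentElem]⟩
  choose z hz1 hz2 using h
  refine ⟨g.symm z, g.injective ?_, g.injective ?_⟩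
  · funext m; simp only [map_mul, AlgEquiv.apply_symm_apply, Pi.mul_apply]; exact hz2 m
  · funext m; simp only [map_mul, AlgEquiv.apply_symm_apply, Pi.mul_apply]; exact hz1 m

section Loc

variable {C F L : Type u} [CommRing C] [CommRing F] [Algebra C F] [IsArtinianRing F] [IsReduced F]
  (hinj : Function.Injective (algebraMap C F))
  (hic : ∀ w : F, IsIntegral C w → w ∈ Set.range (algebraMap C F))
  (p : Ideal C) [p.IsPrime] [CommRing L] [Algebra C L] [IsLocalization.AtPrime L p]

include hinj hic in
/-- An element with nonzero image at `p` has its idempotent outside `p`. -/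
theorem exists_idem_inverse (x : C) (hx : algebraMap C L x ≠ 0) :
    ∃ (E : C) (y : F), E ∉ p ∧ IsIdempotentElem E ∧ algebraMap C F E = algebraMap C F x * y := by
  obtain ⟨y, he, hxe⟩ := exists_idem (algebraMap C F x)
  obtain ⟨E, hE⟩ := hic (algebraMap C F x * y) ⟨Polynomial.X ^ 2 - Polynomial.X,
    Polynomial.monic_X_pow_sub (lt_of_le_of_lt Polynomial.degree_X_le (by norm_num)), by simp [pow_two, he.eq]⟩
  have hEi : IsIdempotentElem E := hinj (by rw [map_mul, hE]; exact he)
  refine ⟨E, y, fun hEp => hx ?_, hEi, hE⟩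
  have h1 : (1 - E) ∉ p := fun h => (Ideal.IsPrime.ne_top' (I := p)) ((Ideal.eq_top_iff_one p).2 (by simpa using add_mem hEp h))
  refine (IsLocalization.map_eq_zero_iff p.primeCompl L x).2 ⟨⟨1 - E, h1⟩, hinj ?_⟩
  rw [map_mul, map_sub, map_one, map_zero, hE, sub_mul, one_mul, mul_comm (_ * y), hxe, sub_self]

include hinj hic p in
theorem isDomain_atPrime : IsDomain L := by
  have : Nontrivial L := IsLocalization.AtPrime.nontrivial L p
  have : NoZeroDivisors L := ⟨fun {x z} h => by
    obtain ⟨a, s, rfl⟩ := IsLocalization.exists_mk'_eq p.primeCompl x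
    obtain ⟨b, t, rfl⟩ := IsLocalization.exists_mk'_eq p.primeCompl z
    rw [← IsLocalization.mk'_mul, IsLocalization.mk'_eq_zero_iff] at h
    obtain ⟨w, hw⟩ := h
    rw [IsLocalization.mk'_eq_zero_iff, IsLocalization.mk'_eq_zero_iff]
    by_cases ha : algebraMap C L a = 0
    · exact Or.inl ((IsLocalization.map_eq_zero_iff p.primeCompl _ a).1 ha)
    · obtain ⟨E, y, hE, -, hEy⟩ := exists_idem_inverse hinj hic p a ha
      refine Or.inr ⟨⟨E, hE⟩ * w, hinj ?_⟩
      have hw' := congrArg (algebraMap C F) hw
      simp only [map_mul, map_zero, Submonoid.coe_mul] at hw' ⊢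
      rw [hEy]
      linear_combination y * hw'⟩
  exact NoZeroDivisors.to_isDomain _

include hinj hic p in
theorem isIntegrallyClosed_atPrime [IsDomain L] {K : Type u} [Field K] [Algebra L K] [IsFractionRing L K]
    [Algebra C K] [IsScalarTower C L K] : IsIntegrallyClosed L := by
  refine (isIntegrallyClosed_iff K).2 fun {x} hx => ?_
  obtain ⟨m, hm⟩ := hx.exists_multiple_integral_of_isLocalization p.primeCompl x
  -- write `m • x` as a fraction of elements of `C`
  obtain ⟨u, v, hv, huv⟩ := IsFractionRing.div_surjective L (m • x)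
  obtain ⟨a, s, rfl⟩ := IsLocalization.exists_mk'_eq p.primeCompl u
  obtain ⟨b, t, rfl⟩ := IsLocalization.exists_mk'_eq p.primeCompl v
  let κ := algebraMap C K
  let ρ := algebraMap C F
  have hκ : ∀ c, κ c = algebraMap L K (algebraMap C L c) := fun c => IsScalarTower.algebraMap_apply C L K c
  have hK : ∀ {z : L}, z ≠ 0 → algebraMap L K z ≠ 0 := fun hz => (map_ne_zero_iff _ (IsFractionRing.injective L K)).2 hz
  have hu : ∀ c : p.primeCompl, κ c ≠ 0 := fun c => by
    rw [hκ]; exact hK (IsLocalization.map_units L c).ne_zero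
  have hmx : κ (b * s) * (m • x) = κ (a * t) := by
    rw [← huv, mul_div_assoc', div_eq_iff (hK (nonZeroDivisors.ne_zero hv)), hκ, hκ, ← map_mul, ← map_mul,
      map_mul (algebraMap C L), map_mul (algebraMap C L)]
    congr 1
    rw [mul_assoc, mul_comm (algebraMap C L (s : C)), IsLocalization.mk'_spec,
      mul_assoc (algebraMap C L a), mul_comm (algebraMap C L (t : C)), IsLocalization.mk'_spec, mul_comm]
  let b0 : C := b * s
  have hb0 : algebraMap C L b0 ≠ 0 := by
    rw [map_mul]
    refine mul_ne_zero (fun h => nonZeroDivisors.ne_zero hv ?_) (IsLocalization.map_units L s).ne_zero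
    rw [IsLocalization.mk'_eq_mul_mk'_one, h, zero_mul]
  obtain ⟨E, y, hE, hEi, hEy⟩ := exists_idem_inverse hinj hic p b0 hb0
  obtain ⟨q, hqm, hq⟩ := hm
  let β : C := Polynomial.eval₂ (RingHom.id C) (a * t) (Polynomial.scaleRoots q b0)
  have hev : ∀ {S : Type u} [CommRing S] (f : C →+* S) (w : S), f b0 * w = f (a * t) →
      f β = f b0 ^ q.natDegree * Polynomial.eval₂ f w q := by
    intro S _ f w hw
    rw [← Polynomial.scaleRoots_eval₂_mul, hw]
    exact (Polynomial.hom_eval₂ _ _ f _).trans (by rw [RingHom.comp_id])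
  have hβ : algebraMap C L β = 0 := by
    refine (map_eq_zero_iff _ (IsFractionRing.injective L K)).1 ?_
    rw [← hκ, hev κ (m • x) hmx]
    exact mul_eq_zero_of_right _ hq
  obtain ⟨c, hc⟩ := (IsLocalization.map_eq_zero_iff p.primeCompl L β).1 hβ
  obtain ⟨E', y', hE', hE'i, hEy'⟩ := exists_idem_inverse hinj hic p (c : C) (IsLocalization.map_units L c).ne_zero
  -- the candidate `w = (a t) / (b s)` on the component
  let G : C := E' * E
  have hGF : ρ G * ρ G = ρ G := by rw [← map_mul, (hE'i.mul hEi).eq]
  let w : F := ρ (a * t) * y * ρ G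
  have hGw : w * ρ G = w := by rw [mul_assoc, hGF]
  have hGb : ρ G * (ρ b0 * y) = ρ G := by
    rw [← hEy, ← map_mul]
    show ρ (E' * E * E) = _
    rw [mul_assoc, hEi.eq]
  have hGβ : ρ G * ρ β = 0 := by
    have hc' : ρ c * ρ β = 0 := by rw [← map_mul, hc, map_zero]
    have hEc : ρ G = ρ c * (y' * ρ E) := by
      show ρ (E' * E) = _
      rw [map_mul, hEy', mul_assoc]
    rw [hEc]; linear_combination (y' * ρ E) * hc'
  have h1 : ρ b0 * ρ G * w = ρ (a * t) * ρ G := by
    show ρ b0 * ρ G * (ρ (a * t) * y * ρ G) = _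
    linear_combination ρ (a * t) * ρ G * hGb + ρ (a * t) * hGF
  have hpow : ∀ n, ρ G * (ρ b0 * y) ^ n = ρ G := fun n => by
    induction n with
    | zero => rw [pow_zero, mul_one]
    | succ n ih => rw [pow_succ, ← mul_assoc, ih, hGb]
  have hval : ρ G * ρ β = ρ G * (ρ b0 ^ q.natDegree * Polynomial.eval₂ ρ w q) := by
    let π : F →+* F ⧸ Ideal.span {1 - ρ G} := Ideal.Quotient.mk _
    have hπG : π (ρ G) = 1 := (Ideal.Quotient.eq.2 (Ideal.mem_span_singleton.2 ⟨-1, by ring⟩)).trans (map_one _)
    have hh : (π.comp ρ) b0 * π w = (π.comp ρ) (a * t) := by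
      have := congrArg π h1
      rw [map_mul π (ρ b0 * ρ G), map_mul π (ρ b0), map_mul π (ρ (a * t)), hπG, mul_one, mul_one] at this
      exact this
    have h3 := hev (π.comp ρ) (π w) hh
    rw [← Polynomial.hom_eval₂] at h3
    change π (ρ β) = π (ρ b0) ^ q.natDegree * π _ at h3
    rw [← map_pow, ← map_mul] at h3
    obtain ⟨d, hd⟩ := Ideal.mem_span_singleton.1 (Ideal.Quotient.eq.1 h3)
    linear_combination ρ G * hd - d * hGF
  have key : Polynomial.eval₂ ρ w q * ρ G = 0 :=
    calc Polynomial.eval₂ ρ w q * ρ G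
        = (ρ G * (ρ b0 * y) ^ q.natDegree) * Polynomial.eval₂ ρ w q := by rw [hpow]; ring
      _ = y ^ q.natDegree * (ρ G * (ρ b0 ^ q.natDegree * Polynomial.eval₂ ρ w q)) := by rw [mul_pow]; ring
      _ = 0 := by rw [← hval, hGβ, mul_zero]
  obtain ⟨w', hw'⟩ : w ∈ Set.range ρ := hic w (by
    by_cases hdeg : q.natDegree = 0
    · rw [Polynomial.eq_one_of_monic_natDegree_zero hqm hdeg, Polynomial.eval₂_one, one_mul] at key
      rw [← hGw, key, mul_zero]
      exact isIntegral_zero
    · refine ⟨q - Polynomial.C (q.coeff 0 * (1 - G)), hqm.sub_of_left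
        (lt_of_le_of_lt Polynomial.degree_C_le (Polynomial.natDegree_pos_iff_degree_pos.1 (Nat.pos_of_ne_zero hdeg))), ?_⟩
      rw [Polynomial.eval₂_sub, Polynomial.eval₂_C, map_mul, map_sub, map_one]
      obtain ⟨d, hd⟩ := Polynomial.X_dvd_iff.2 (show (q - Polynomial.C (q.coeff 0)).coeff 0 = 0 by simp)
      have hqw : Polynomial.eval₂ ρ w q = ρ (q.coeff 0) + w * Polynomial.eval₂ ρ w d := by
        conv_lhs => rw [sub_eq_iff_eq_add'.1 hd]
        rw [Polynomial.eval₂_add, Polynomial.eval₂_mul, Polynomial.eval₂_C, Polynomial.eval₂_X]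
      linear_combination key + (1 - ρ G) * hqw - Polynomial.eval₂ ρ w d * hGw)
  have hGp : G ∉ p := fun h => (Ideal.IsPrime.mem_or_mem inferInstance h).elim hE' hE
  have hfin : κ (b0 * w') = κ ((a * t) * G) := congrArg κ (hinj (by
    show ρ (b0 * w') = ρ (a * t * G)
    rw [map_mul ρ b0, map_mul ρ (a * t), hw']
    linear_combination ρ (a * t) * hGb))
  refine ⟨IsLocalization.mk' L w' (⟨G, hGp⟩ * m), ?_⟩
  have hden : κ (G * (m : C)) ≠ 0 := hu (⟨G, hGp⟩ * m)
  refine mul_left_cancel₀ hden (mul_left_cancel₀ (show κ b0 ≠ 0 by rw [hκ]; exact hK hb0) ?_)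
  have e1 : algebraMap L K (IsLocalization.mk' L w' (⟨G, hGp⟩ * m)) * κ (G * (m : C)) = κ w' := by
    rw [hκ, ← map_mul, show (G * (m : C)) = (((⟨G, hGp⟩ * m : p.primeCompl)) : C) from rfl,
      IsLocalization.mk'_spec, hκ]
  rw [mul_comm (κ (G * _)), e1, ← map_mul, hfin, map_mul, ← hmx, map_mul]
  rw [show (m • x : K) = κ (m : C) * x from (Algebra.smul_def (m : C) x)]
  rw [map_mul κ G (m : C)]
  ring

end Loc

theorem localization_props {A F : Type u} [CommRing A] [CommRing F] [Algebra A F] [IsArtinianRing F] [IsReduced F]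
    (p : Ideal (integralClosure A F)) [p.IsPrime] :
    IsDomain (Localization.AtPrime p) ∧ IsIntegrallyClosed (Localization.AtPrime p) := by
  have hinj : Function.Injective (algebraMap (integralClosure A F) F) := Subtype.val_injective
  have hic : ∀ w : F, IsIntegral (integralClosure A F) w → w ∈ Set.range (algebraMap (integralClosure A F) F) :=
    fun w hw => ⟨⟨w, isIntegral_trans (R := A) w hw⟩, rfl⟩
  have := isDomain_atPrime (L := Localization.AtPrime p) hinj hic p
  refine ⟨this, ?_⟩
  set_option synthInstance.maxHeartbeats 200000 in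
    exact isIntegrallyClosed_atPrime (K := FractionRing (Localization.AtPrime p)) hinj hic p

/-- For a reduced local Nagata ring (A, m) of Krull dimension one, write A' for the integral closure of
A in its total fraction ring. Then A' is a finite A-module, every localization of A' at a prime is
an integrally closed domain, and the quotient A'/A is an A-module of finite length. (The published
statement also says that A' is Nagata, which follows from the finiteness of A' over A; this row does
not restate it.) -/
theorem result (A : Type u) [CommRing A] [IsLocalRing A]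
    [IsReduced A] (hN : CAlg.IsNagata A) (hdim : ringKrullDim A = 1) :
    Module.Finite A (integralClosure A (FractionRing A)) ∧
      (∀ p : PrimeSpectrum (integralClosure A (FractionRing A)),
        IsDomain (Localization.AtPrime p.asIdeal) ∧ IsIntegrallyClosed (Localization.AtPrime p.asIdeal)) ∧
      Curv2.deltaInv A < ⊤ := by
  classical
  have hNN : IsNoetherianRing A := hN.1
  have hK1 : Ring.KrullDimLE 1 A := Ring.krullDimLE_iff.2 hdim.le
  let m := IsLocalRing.maximalIdeal A
  -- a nonzerodivisor in the maximal ideal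
  obtain ⟨d, hdm, hd⟩ : ∃ d ∈ m, d ∈ nonZeroDivisors A := by
    by_contra hc
    push_neg at hc
    have hsub : (m : Set A) ⊆ ⋃ q ∈ (minimalPrimes A), (q : Set A) := by
      intro x hx
      refine (Ideal.iUnion_minimalPrimes (I := (⊥ : Ideal A))).ge ?_
      have := hc x hx
      rw [mem_nonZeroDivisors_iff_right] at this
      push_neg at this
      obtain ⟨y, hy, hy0⟩ := this
      exact ⟨y, fun h => hy0 ((nilradical_eq_zero A).le h), Ideal.le_radical (by rw [mul_comm]; exact hy)⟩
    have hfinm := minimalPrimes.finite_of_isNoetherianRing A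
    obtain ⟨q, hq, hmq⟩ := (Ideal.subset_union_prime ⊥ ⊥ (f := id) (s := hfinm.toFinset) fun q hq _ _ =>
      Ideal.minimalPrimes_isPrime (hfinm.mem_toFinset.1 hq)).1 (hsub.trans (by simp))
    have hmq' : m = q := le_antisymm hmq (IsLocalRing.le_maximalIdeal
      (Ideal.minimalPrimes_isPrime (hfinm.mem_toFinset.1 hq)).ne_top)
    have : Ring.KrullDimLE 0 A := Ring.KrullDimLE.mk₀ fun I hI => by
      have hIm : I ≤ m := IsLocalRing.le_maximalIdeal hI.ne_top
      have : I = m := le_antisymm hIm (hmq'.le.trans ((hfinm.mem_toFinset.1 hq).2 ⟨hI, bot_le⟩ (hmq' ▸ hIm)))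
      rw [this]; exact IsLocalRing.maximalIdeal.isMaximal A
    have h0 := Ring.krullDimLE_iff.1 this
    rw [hdim] at h0
    exact absurd h0 (by decide)
  have hmin : ∀ P : Ideal A, P.IsPrime → d ∉ P → P ∈ minimalPrimes A := fun P hP hdP =>
    (Ring.krullDimLE_one_iff.mp inferInstance P hP).resolve_right fun h =>
      hdP ((IsLocalRing.eq_maximalIdeal h).symm ▸ hdm)
  let F := FractionRing A
  -- `F` is reduced Artinian
  have : IsReduced F := isReduced_localizationPreserves.{u} (nonZeroDivisors A) F inferInstance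
  have : IsNoetherianRing F := IsLocalization.isNoetherianRing (nonZeroDivisors A) F inferInstance
  have : Ring.KrullDimLE 0 F := Ring.KrullDimLE.mk₀ fun I hI => by
    have hd' : ∀ J : Ideal F, J.IsPrime → d ∉ J.under A := fun J hJ h =>
      hJ.ne_top (Ideal.eq_top_of_isUnit_mem _ h (IsLocalization.map_units F ⟨d, hd⟩))
    obtain ⟨M, hM, hIM⟩ := Ideal.exists_le_maximal I hI.ne_top
    have hle : I.under A ≤ M.under A := Ideal.comap_mono hIM
    have heq : I.under A = M.under A := le_antisymm hle
      ((hmin _ inferInstance (hd' M hM.isPrime)).2 ⟨inferInstance, bot_le⟩ hle)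
    have : I = M := by
      rw [← IsLocalization.map_comap (nonZeroDivisors A) F I, ← IsLocalization.map_comap (nonZeroDivisors A) F M]
      exact congrArg (Ideal.map (algebraMap A F)) heq
    rw [this]; exact hM
  have : IsArtinianRing F := isArtinianRing_iff_krullDimLE_zero.2 inferInstance
  -- `F` is of finite type
  have : Algebra.FiniteType A F := by
    let T := Localization.Away d
    have : Algebra.FiniteType A T := IsLocalization.finiteType_of_monoid_fg (Submonoid.powers d) T
    let ψ : T →ₐ[A] F := IsLocalization.liftAlgHom (M := Submonoid.powers d) (f := Algebra.ofId A F) fun s => by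
      obtain ⟨_, n, rfl⟩ := s
      exact IsLocalization.map_units F (⟨d ^ n, pow_mem hd n⟩ : nonZeroDivisors A)
    refine Algebra.FiniteType.of_surjective ψ fun z => ?_
    obtain ⟨a, s, rfl⟩ := IsLocalization.exists_mk'_eq (nonZeroDivisors A) z
    have hs : IsUnit (algebraMap A T s) := by
      by_contra h
      obtain ⟨P, hP, hsP⟩ := exists_max_ideal_of_mem_nonunits h
      have hdP : d ∉ P.under A := fun h' =>
        hP.ne_top (Ideal.eq_top_of_isUnit_mem _ h' (IsLocalization.map_units T (⟨d, Submonoid.mem_powers d⟩ : Submonoid.powers d)))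
      exact notMem_nonZeroDivisors_of_mem_mem_minimalPrimes (show (s : A) ∈ P.under A from hsP) (hmin _ inferInstance hdP) s.2
    obtain ⟨i, hi⟩ := hs.exists_right_inv
    refine ⟨algebraMap A T a * i, (IsLocalization.map_units F s).mul_left_cancel ?_⟩
    rw [IsLocalization.mk'_spec', ← ψ.commutes (s : A), ← map_mul, mul_left_comm, hi, mul_one, ψ.commutes]
  have hfin : Module.Finite A (integralClosure A F) := Groth.Agent.CAlgH.finite_ic_of_isNagata hN F
  refine ⟨hfin, fun p => localization_props p.asIdeal, ?_⟩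
  -- finite length
  obtain ⟨s, hs⟩ := hfin.fg_top
  obtain ⟨c, hc⟩ := IsLocalization.exist_integer_multiples (nonZeroDivisors A) s (fun z => (z : F))
  let N := LinearMap.range (Algebra.linearMap A ↥(integralClosure A F))
  have hc' : ∀ z, (c : A) • z ∈ N := by
    intro z
    have : z ∈ Submodule.span A (s : Set (integralClosure A F)) := hs.ge trivial
    induction this using Submodule.span_induction with
    | mem z hz =>
      obtain ⟨r, hr⟩ := hc z hz
      exact ⟨r, Subtype.ext hr⟩
    | zero => rw [smul_zero]; exact zero_mem _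
    | add _ _ _ _ h1 h2 => rw [smul_add]; exact add_mem h1 h2
    | smul r _ _ h1 => rw [smul_comm]; exact N.smul_mem _ h1
  let I := Ideal.span {(c : A)}
  have : IsArtinianRing (A ⧸ I) := by
    rw [isArtinianRing_iff_krullDimLE_zero]
    refine Ring.KrullDimLE.mk₀ fun P hP => ?_
    have hPc : (c : A) ∈ P.comap (Ideal.Quotient.mk I) := by
      rw [Ideal.mem_comap, Ideal.Quotient.eq_zero_iff_mem.2 (Ideal.mem_span_singleton_self _)]
      exact zero_mem _
    rcases Ring.krullDimLE_one_iff.mp inferInstance (P.comap (Ideal.Quotient.mk I)) inferInstance with h | h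
    · exact absurd c.2 (notMem_nonZeroDivisors_of_mem_mem_minimalPrimes hPc h)
    · rw [← Ideal.map_comap_of_surjective _ Ideal.Quotient.mk_surjective P]
      have := h
      exact (Ideal.map_eq_top_or_isMaximal_of_surjective _ Ideal.Quotient.mk_surjective h).resolve_left
        (by rw [Ideal.map_comap_of_surjective _ Ideal.Quotient.mk_surjective]; exact hP.ne_top)
  have hart : IsArtinian A (A ⧸ I) := isArtinian_of_surjective_algebraMap (R := A ⧸ I) (S := A) (M := A ⧸ I) Ideal.Quotient.mk_surjective
  obtain ⟨n, f, hf⟩ := Module.Finite.exists_fin' A ↥(integralClosure A F)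
  let g : (Fin n → A ⧸ I) →ₗ[A] (↥(integralClosure A F) ⧸ N) :=
    LinearMap.lsum A (fun _ => A ⧸ I) A fun i => Submodule.liftQ I
      ((LinearMap.toSpanSingleton A _ (N.mkQ (f (Pi.single i 1))))) ((Ideal.span_singleton_le_iff_mem _).2 (by
        rw [LinearMap.mem_ker, LinearMap.toSpanSingleton_apply, ← map_smul, Submodule.mkQ_apply, Submodule.Quotient.mk_eq_zero]
        exact hc' _))
  have hg : Function.Surjective g := fun z => by
    obtain ⟨z, rfl⟩ := Submodule.Quotient.mk_surjective N z
    obtain ⟨v, rfl⟩ := hf z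
    refine ⟨fun i => Submodule.Quotient.mk (v i), ?_⟩
    conv_rhs => rw [← Finset.univ_sum_single v, map_sum]
    simp only [g, LinearMap.lsum_apply, LinearMap.sum_apply, LinearMap.comp_apply, LinearMap.proj_apply,
      Submodule.liftQ_apply, LinearMap.toSpanSingleton_apply]
    rw [← Submodule.mkQ_apply, map_sum]
    refine Finset.sum_congr rfl fun i _ => ?_
    rw [← map_smul, ← map_smul, ← Pi.single_smul, smul_eq_mul, mul_one]
  have h1 : IsNoetherian A (↥(integralClosure A F) ⧸ N) := inferInstance
  have h2 : IsArtinian A (↥(integralClosure A F) ⧸ N) := isArtinian_of_surjective _ g hg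
  exact lt_top_iff_ne_top.2 (Module.length_ne_top_iff.2 (isFiniteLength_iff_isNoetherian_isArtinian.2 ⟨h1, h2⟩))

end Groth.Agent.S7652
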