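import Groth.Statements.S0247
import Groth.Agent.FEtFF.PurityRegular
-- import your own Groth.Agent.* helpers here

set_option backward.isDefEq.respectTransparency.types false
set_option backward.isDefEq.respectTransparency false
set_option autoImplicit false
universe u
open Pi1

namespace Groth.Agent.S0247

open AlgebraicGeometry CategoryTheory CategoryTheory.Limits in
/-- For a regular local ring A of Krull dimension at least 2, every finite etale cover of the punctured
spectrum of A extends to a finite etale cover of Spec A. -/
theorem result (A : Type u) [CommRing A] [IsRegularLocalRing A] (h : (2 : WithBot ℕ∞) ≤ ringKrullDim A) :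
    FEt.PurityHolds A := by
  refine ⟨fun V => ?_⟩
  have : IsFinite V.hom := V.prop.1
  have : Etale V.hom := V.prop.2
  obtain ⟨Y, y, hy, hy', i, hi⟩ := Groth.Agent.FEtFF.Hypersurface.exists_extension_of_regular
    (IsLocalRing.maximalIdeal A).spanFinrank A (by
      rw [← IsRegularLocalRing.spanFinrank_maximalIdeal] at h
      exact_mod_cast h) rfl V.hom
  exact ⟨MorphismProperty.Over.mk ⊤ y ⟨hy, hy'⟩, ⟨MorphismProperty.Over.isoMk i hi⟩⟩

end Groth.Agent.S0247
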