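import Groth.Statements.S5267
import Groth.Agent.SGA3cLib.TwConstFinite
import Groth.Agent.SGA3cLib.EtaleCover
import Groth.Agent.AlgSpLib.Diag

set_option autoImplicit false
open CategoryTheory MonoidalCategory CartesianMonoidalCategory MonObj GrpObj AlgebraicGeometry
universe u
open SGA3x

namespace Groth.Agent.S5267


open CategoryTheory.Limits

theorem exists_open_clopen_const {W : Type u} [TopologicalSpace W] [TopologicalSpace.NoetherianSpace W] (v : W)
    {I : Type u} (A : I → Set W) (hA : ∀ i, IsClopen (A i)) :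
    ∃ O : Set W, IsOpen O ∧ v ∈ O ∧ ∀ w ∈ O, ∀ i, w ∈ A i ↔ v ∈ A i := by
  let bad : Set (Set W) := {C | C ∈ irreducibleComponents W ∧ v ∉ C}
  have hfin : bad.Finite := (TopologicalSpace.NoetherianSpace.finite_irreducibleComponents (α := W)).subset fun C hC => hC.1
  refine ⟨(⋃₀ bad)ᶜ, ?_, fun ⟨C, hC, hv⟩ => hC.2 hv, fun w hw i => ?_⟩
  · rw [Set.sUnion_eq_biUnion]
    exact (hfin.isClosed_biUnion fun C hC => isClosed_of_mem_irreducibleComponents C hC.1).isOpen_compl
  · have hwv : v ∈ irreducibleComponent w := by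
      by_contra hv
      exact hw ⟨_, ⟨irreducibleComponent_mem_irreducibleComponents w, hv⟩, mem_irreducibleComponent⟩
    have := (isIrreducible_irreducibleComponent (x := w)).isConnected.isPreconnected
    constructor
    · exact fun h => this.subset_isClopen (hA i) ⟨w, mem_irreducibleComponent, h⟩ hwv
    · exact fun h => this.subset_isClopen (hA i) ⟨v, hwv, h⟩ mem_irreducibleComponent

/-- Let S be a locally Noetherian connected scheme, P a quasi-isotrivial twisted constant S-scheme
(etale-locally on S isomorphic to a constant scheme) and Z an open and closed subscheme of P such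
that for some s ∈ S the fibre Z_s is finite. Then Z is finite over S. -/
theorem result {S : Scheme.{u}} [IsLocallyNoetherian S] [ConnectedSpace S]
    (P : Over S) (hP : TwC.IsTwConst TwC.Topology.etale P)
    {Z : Scheme.{u}} (z : Z ⟶ P.left) [IsOpenImmersion z] [IsClosedImmersion z]
    (hs : ∃ s : S, Set.Finite ((z ≫ P.hom).base ⁻¹' {s})) :
    IsFinite (z ≫ P.hom) := by
  classical
  have hQS : QuasiSeparatedSpace S := inferInstance
  let g := z ≫ P.hom
  have hrz : IsClopen (Set.range z) := ⟨z.isClosedEmbedding.isClosed_range, z.isOpenEmbedding.isOpen_range⟩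
  -- charts
  have chart : ∀ s : S, ∃ (W : Scheme.{u}) (q : W ⟶ S) (I : Type u), Etale q ∧ QuasiCompact q ∧
      TopologicalSpace.NoetherianSpace W ∧ IsAffine W ∧ s ∈ Set.range q ∧
      ((∀ w : W, Set.Finite (g ⁻¹' {q w})) ∨ (∀ w : W, ¬ Set.Finite (g ⁻¹' {q w}))) ∧
      ((∀ w : W, Set.Finite (g ⁻¹' {q w})) → IsCompact (pullback.fst g q '' Set.univ)) := by
    intro s
    obtain ⟨S', f, hf, ⟨s', hs'⟩, I, ⟨e⟩⟩ := hP s
    haveI := hf
    haveI : IsLocallyNoetherian S' := LocallyOfFiniteType.isLocallyNoetherian f
    obtain ⟨V, hV, hsV, -⟩ := exists_isAffineOpen_mem_and_subset (U := (⊤ : S'.Opens)) (x := s') trivial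
    haveI : IsAffine (V : Scheme.{u}) := hV
    haveI : IsNoetherian (V : Scheme.{u}) := ⟨⟩
    let z₀ : V.toScheme → I → Prop := fun v i => ∃ y, z y = pullback.fst P.hom f (e.inv.left (Sigma.ι (fun _ : I => S') i (V.ι v)))
    obtain ⟨O, hO, hvO, hOc⟩ := exists_open_clopen_const (W := V.toScheme) ⟨s', hsV⟩ (fun i : I => {v | z₀ v i})
      (fun i => hrz.preimage ((pullback.fst P.hom f).continuous.comp (e.inv.left.continuous.comp
        ((Sigma.ι (fun _ : I => S') i).continuous.comp V.ι.continuous))))
    obtain ⟨W₀, hW₀, hvW, hWO⟩ := exists_isAffineOpen_mem_and_subset (U := (⟨O, hO⟩ : V.toScheme.Opens)) (x := (⟨s', hsV⟩ : V.toScheme)) hvO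
    haveI : IsAffine (W₀ : Scheme.{u}) := hW₀
    let b := W₀.ι ≫ V.ι
    let q := b ≫ f
    haveI : IsLocallyNoetherian (W₀ : Scheme.{u}) := LocallyOfFiniteType.isLocallyNoetherian W₀.ι
    haveI : IsNoetherian (W₀ : Scheme.{u}) := ⟨⟩
    haveI hqc : QuasiCompact q := inferInstance
    haveI : Etale q := MorphismProperty.comp_mem @Etale b f inferInstance inferInstance
    -- the pieces
    let J : Set I := {i | z₀ ⟨s', hsV⟩ i}
    let pz : I → ((W₀ : Scheme.{u}) ⟶ P.left) := fun i =>
      b ≫ Sigma.ι (fun _ : I => S') i ≫ e.inv.left ≫ pullback.fst P.hom f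
    haveI : IsIso e.inv.left := inferInstanceAs (IsIso ((Over.forget _).map e.inv))
    have hpz : ∀ i, pz i ≫ P.hom = q := fun i => by
      simp only [pz, Category.assoc, pullback.condition]
      rw [show e.inv.left ≫ pullback.snd P.hom f ≫ f = (e.inv.left ≫ (Red.bc f P).hom) ≫ f from rfl, Over.w,
        ← Category.assoc (Sigma.ι (fun _ : I => S') i), show Sigma.ι (fun _ : I => S') i ≫ (TwC.const S' I).hom = 𝟙 S' from Sigma.ι_desc _ _,
        Category.id_comp]
    have hmem : ∀ i w, (∃ y, z y = pz i w) ↔ i ∈ J := fun i w => hOc (W₀.ι w) (hWO w.2) i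
    -- every point of the base change lies in one piece
    have hsurj : ∀ t : ↥(pullback g q), ∃ i ∈ J, z (pullback.fst g q t) = pz i (pullback.snd g q t) := by
      intro t
      let r : pullback g q ⟶ pullback P.hom f := pullback.map g q P.hom f z b (𝟙 S) (by simp [g]) (by simp [q])
      obtain ⟨i, w, hw⟩ := (sigmaOpenCover (fun _ : I => S')).exists_eq (e.hom.left (r t))
      have hw' : w = b (pullback.snd g q t) := by
        have h1 : (TwC.const S' I).hom (Sigma.ι (fun _ : I => S') i w) = w := by
          rw [← Scheme.Hom.comp_apply]; simp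
        rw [← h1, show Sigma.ι (fun _ : I => S') i w = e.hom.left (r t) from hw, ← Scheme.Hom.comp_apply, Over.w e.hom]
        show pullback.snd P.hom f (r t) = _
        rw [← Scheme.Hom.comp_apply, pullback.lift_snd, Scheme.Hom.comp_apply]
      have h2 : z (pullback.fst g q t) = pz i (pullback.snd g q t) := by
        show z (pullback.fst g q t) = pullback.fst P.hom f (e.inv.left (Sigma.ι (fun _ : I => S') i (b (pullback.snd g q t))))
        rw [← hw', show Sigma.ι (fun _ : I => S') i w = e.hom.left (r t) from hw, ← Scheme.Hom.comp_apply e.hom.left,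
          ← Over.comp_left, e.hom_inv_id]
        show _ = pullback.fst P.hom f (r t)
        rw [← Scheme.Hom.comp_apply r, pullback.lift_fst, Scheme.Hom.comp_apply]
      exact ⟨i, (hmem i _).1 ⟨_, h2⟩, h2⟩
    have hfinite : ∀ w : (W₀ : Scheme.{u}), Set.Finite (g ⁻¹' {q w}) ↔ J.Finite := by
      intro w
      constructor
      · intro hfin
        haveI : Etale (pullback.fst g q) := MorphismProperty.pullback_fst _ _ ‹Etale q›
        haveI := AlgSpLib.locallyQuasiFinite_of_etale (pullback.fst g q)
        have hfib : Set.Finite (pullback.fst g q ⁻¹' (g ⁻¹' {q w})) :=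
          hfin.preimage' fun y _ => (pullback.fst g q).finite_preimage_singleton y
        have hy : ∀ i : J, ∃ y, z y = pz i w := fun i => (hmem i w).2 i.2
        choose y hy using hy
        have ht : ∀ i : J, ∃ t : ↥(pullback (z ≫ P.hom) q), pullback.fst g q t = y i ∧ pullback.snd g q t = w ∧
            e.hom.left (pullback.map g q P.hom f z b (𝟙 S) (by simp [g]) (by simp [q]) t) = Sigma.ι (fun _ : I => S') i.1 (b w) := by
          intro i
          let c : pullback z (pz i.1) ⟶ pullback g q := pullback.lift (pullback.fst _ _) (pullback.snd _ _) (by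
            simp only [g, pullback.condition_assoc, hpz])
          obtain ⟨a, ha1, ha2⟩ := Scheme.Pullback.exists_preimage_pullback (f := z) (g := pz i.1) (y i) w (hy i)
          refine ⟨c a, ?_, ?_, ?_⟩
          · rw [← Scheme.Hom.comp_apply, pullback.lift_fst]; exact ha1
          · rw [← Scheme.Hom.comp_apply, pullback.lift_snd]; exact ha2
          · have h0 : c ≫ pullback.map g q P.hom f z b (𝟙 S) (by simp [g]) (by simp [q]) =
                pullback.snd z (pz i.1) ≫ b ≫ Sigma.ι (fun _ : I => S') i.1 ≫ e.inv.left := by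
              apply pullback.hom_ext
              · simp only [c, Category.assoc, pullback.map, pullback.lift_fst, pullback.lift_fst_assoc]
                exact pullback.condition
              · simp only [c, Category.assoc, pullback.map, pullback.lift_snd, pullback.lift_snd_assoc]
                rw [show e.inv.left ≫ pullback.snd P.hom f = (TwC.const S' I).hom from Over.w e.inv,
                  show Sigma.ι (fun _ : I => S') i.1 ≫ (TwC.const S' I).hom = 𝟙 S' from Sigma.ι_desc _ _, Category.comp_id]
            have : c ≫ pullback.map g q P.hom f z b (𝟙 S) (by simp [g]) (by simp [q]) ≫ e.hom.left =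
                pullback.snd z (pz i.1) ≫ b ≫ Sigma.ι (fun _ : I => S') i.1 := by
              rw [← Category.assoc c]
              erw [h0]
              simp only [Category.assoc]
              rw [← Over.comp_left, e.inv_hom_id]
              exact congrArg _ (congrArg _ (Category.comp_id _))
            rw [← ha2, ← Scheme.Hom.comp_apply, ← Scheme.Hom.comp_apply, this, Scheme.Hom.comp_apply, Scheme.Hom.comp_apply]
        choose t ht1 ht2 ht3 using ht
        have hinj : Function.Injective t := fun i j hij => by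
          have h3 := ht3 i
          rw [hij] at h3
          have := h3.symm.trans (ht3 j)
          exact Subtype.ext (congrArg Sigma.fst ((sigmaι_eq_iff (fun _ : I => S') i.1 j.1 (b w) (b w)).1 this))
        have : Finite J := by
          have := hfib.to_subtype
          exact Finite.of_injective (β := ↥(pullback.fst g q ⁻¹' (g ⁻¹' {q w}))) (fun i => ⟨t i, by
            show g (pullback.fst g q (t i)) = q w
            rw [← Scheme.Hom.comp_apply, pullback.condition, Scheme.Hom.comp_apply, ht2]⟩)
            fun i j h => hinj (congrArg Subtype.val h)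
        exact Set.toFinite J
      · intro hJ
        refine (hJ.image fun i => pz i w).preimage z.isOpenEmbedding.injective.injOn |>.subset ?_
        intro y hy
        obtain ⟨t, ht1, ht2⟩ := Scheme.Pullback.exists_preimage_pullback (f := g) (g := q) y w hy
        obtain ⟨i, hi, h⟩ := hsurj t
        exact ⟨i, hi, by rw [← ht1, h, ht2]⟩
    refine ⟨W₀, q, I, inferInstance, hqc, inferInstance, inferInstance, ⟨⟨⟨s', hsV⟩, hvW⟩, hs'⟩, ?_, fun hall => ?_⟩
    · by_cases hJ : J.Finite
      · exact Or.inl fun w => (hfinite w).2 hJ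
      · exact Or.inr fun w h => hJ ((hfinite w).1 h)
    · have hJ : J.Finite := (hfinite ⟨⟨s', hsV⟩, hvW⟩).1 (hall _)
      have heq : pullback.fst g q '' Set.univ = z ⁻¹' ⋃ i ∈ J, Set.range (pz i) := by
        ext y
        simp only [Set.image_univ, Set.mem_range, Set.mem_preimage, Set.mem_iUnion]
        constructor
        · rintro ⟨t, rfl⟩
          obtain ⟨i, hi, h⟩ := hsurj t
          exact ⟨i, hi, _, h.symm⟩
        · rintro ⟨i, -, w, hw⟩
          obtain ⟨t, ht, -⟩ := Scheme.Pullback.exists_preimage_pullback (f := g) (g := q) y w (by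
            show P.hom (z y) = q w
            rw [← hpz i, Scheme.Hom.comp_apply, hw])
          exact ⟨t, ht⟩
      rw [heq]
      exact z.isClosedEmbedding.isCompact_preimage (hJ.isCompact_biUnion fun i _ => isCompact_range (pz i).continuous)
  choose W q I hqe hqq hWN hWA hsq halt hcomp using chart
  haveI := hqe
  haveI := hqq
  -- finiteness of fibres is locally constant
  have hcl : IsClopen {s : S | Set.Finite (g ⁻¹' {s})} := by
    constructor
    · rw [← isOpen_compl_iff, isOpen_iff_forall_mem_open]
      intro s hs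
      refine ⟨Set.range (q s), ?_, (q s).isOpenMap.isOpen_range, hsq s⟩
      obtain ⟨w, hw⟩ := hsq s
      rcases halt s with h | h
      · exact absurd (hw ▸ h w) hs
      · rintro _ ⟨w', rfl⟩; exact h w'
    · rw [isOpen_iff_forall_mem_open]
      intro s hs
      refine ⟨Set.range (q s), ?_, (q s).isOpenMap.isOpen_range, hsq s⟩
      obtain ⟨w, hw⟩ := hsq s
      rcases halt s with h | h
      · rintro _ ⟨w', rfl⟩; exact h w'
      · exact absurd (show Set.Finite (g ⁻¹' {q s w}) by rw [hw]; exact hs) (h w)
  have hall : ∀ s : S, Set.Finite (g ⁻¹' {s}) := by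
    obtain ⟨s₀, h₀⟩ := hs
    intro s
    have := hcl.eq_univ ⟨s₀, h₀⟩
    exact (Set.ext_iff.1 this s).2 trivial
  haveI hqc : QuasiCompact g := by
    refine ⟨fun U hUo hUc => ?_⟩
    obtain ⟨t, ht⟩ := hUc.elim_finite_subcover (fun s => Set.range (q s)) (fun s => (q s).isOpenMap.isOpen_range)
      (fun s _ => Set.mem_iUnion.2 ⟨s, hsq s⟩)
    have e1 : g ⁻¹' U = ⋃ s ∈ t, pullback.fst g (q s) '' (pullback.snd g (q s) ⁻¹' ((q s) ⁻¹' U)) := by
      ext y
      simp only [Set.mem_preimage, Set.mem_iUnion, Set.mem_image]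
      constructor
      · intro hy
        obtain ⟨s, hst, w, hw⟩ := Set.mem_iUnion₂.1 (ht hy)
        obtain ⟨a, ha1, ha2⟩ := Scheme.Pullback.exists_preimage_pullback (f := g) (g := q s) y w hw.symm
        exact ⟨s, hst, a, by rw [ha2, hw]; exact hy, ha1⟩
      · rintro ⟨s, -, a, ha, rfl⟩
        rwa [← Scheme.Hom.comp_apply, pullback.condition, Scheme.Hom.comp_apply]
    rw [e1]
    refine t.finite_toSet.isCompact_biUnion fun s _ => IsCompact.image ?_ (pullback.fst g (q s)).continuous
    haveI : QuasiCompact (pullback.fst g (q s)) := inferInstance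
    haveI := hWA s
    haveI : CompactSpace ↥(pullback g (q s)) := by
      refine ⟨?_⟩
      have h1 := hcomp s fun w => hall _
      obtain ⟨O, hOo, hO⟩ : ∃ O : Set ↥Z, IsOpen O ∧ O = pullback.fst g (q s) '' Set.univ :=
        ⟨_, (pullback.fst g (q s)).isOpenMap _ isOpen_univ, rfl⟩
      have h3 := QuasiCompact.isCompact_preimage (f := pullback.fst g (q s)) O hOo (hO ▸ h1)
      rwa [hO, Set.image_univ, Set.preimage_range] at h3
    haveI := hWN s
    have hUs : IsCompact ((q s) ⁻¹' U) := TopologicalSpace.NoetherianSpace.isCompact _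
    haveI : QuasiCompact (pullback.snd g (q s)) := inferInstance
    exact QuasiCompact.isCompact_preimage (f := pullback.snd g (q s)) _ (hUo.preimage (q s).continuous) hUs
  refine SGA3cLib.TwConstFinite.isFinite_closed P ?_ z
  refine SGA3cLib.EtaleCover.fpqc_of_etale _ (fun {A B} e _ f₁ f₂ h hI => ?_) hP
  obtain ⟨I', ⟨i⟩⟩ := hI
  let φ : pullback P.hom f₂ ≅ pullback P.hom f₁ :=
    asIso (pullback.map P.hom f₂ P.hom f₁ (𝟙 _) (inv e) (𝟙 S) (by simp) (by simp [← h]))
  refine ⟨I', ⟨Over.isoMk (φ ≪≫ (Over.forget _).mapIso i ≪≫ Sigma.mapIso fun _ : I' => asIso e) ?_⟩⟩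
  show (φ.hom ≫ i.hom.left ≫ (Sigma.mapIso fun _ : I' => asIso e).hom) ≫ Sigma.desc (fun _ : I' => 𝟙 B) = pullback.snd P.hom f₂
  have h1 : (Sigma.mapIso fun _ : I' => asIso e).hom ≫ Sigma.desc (fun _ : I' => 𝟙 B) = (TwC.const A I').hom ≫ e := by
    apply Sigma.hom_ext; intro j; simp
  simp only [Category.assoc, h1]
  rw [← Category.assoc i.hom.left, Over.w i.hom]
  show φ.hom ≫ pullback.snd P.hom f₁ ≫ e = _
  simp only [φ, asIso_hom, pullback.map]
  erw [pullback.lift_snd_assoc]
  simp

end Groth.Agent.S5267
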