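import Groth.Statements.S14017
import Mathlib.CategoryTheory.Sites.LocallySurjective
import Mathlib.CategoryTheory.Sites.EpiMono
import Mathlib.Algebra.Homology.ShortComplex.ModuleCat
-- import your own Groth.Agent.* helpers here

set_option autoImplicit false
open CategoryTheory CategoryTheory.Limits AlgebraicGeometry Opposite
universe u
open EtModW

namespace Groth.Agent.S14017

/-- Let X be a scheme, Λ a commutative ring and I a finitely generated ideal of Λ; let F be a sheaf of
Λ-modules on the small pro-étale site of X and p : F ⟶ Q a quotient map modulo I (Q is killed by I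
and every morphism out of F killed by I factors uniquely through p, so Q = F/IF); let U be a weakly
contractible object of the pro-étale site. Then the map on sections F(U) → Q(U) is surjective and
its kernel is exactly the submodule I·F(U): sections over a weakly contractible object commute with
forming IF and F/IF. (The published lemma is for sheaves of Λ-modules on an arbitrary site and a
weakly contractible object of it; this row states the case of the small pro-étale site of a scheme.) -/
theorem result
    (Λ : Type (u + 1)) [CommRing Λ] (I : Ideal Λ) (hI : I.FG)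
    (X : Scheme.{u}) (F Q : EtModW.ModP Λ X) (p : F ⟶ Q) (hp : ARSys.IsQuot I p)
    (U : X.ProEt) (hU : ProEtS.IsWC U) :
    Function.Surjective (p.hom.app (op U)).hom ∧
      LinearMap.ker (p.hom.app (op U)).hom = I • (⊤ : Submodule Λ (F.obj.obj (op U))) := by
  classical
  haveI : HasFiniteBiproducts (EtModW.ModP Λ X) := HasFiniteBiproducts.of_hasFiniteProducts
  obtain ⟨r, g, hg⟩ := Submodule.fg_iff_exists_fin_generating_family.mp hI
  let ψ : (⨁ fun _ : Fin r => F) ⟶ F := biproduct.desc fun i => g i • 𝟙 F
  have hkill : ∀ (Y : EtModW.ModP Λ X) (φ : F ⟶ Y), ARSys.HomKilledBy I φ ↔ ψ ≫ φ = 0 := by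
    intro Y φ
    constructor
    · intro h
      refine biproduct.hom_ext' _ _ fun i => ?_
      rw [biproduct.ι_desc_assoc, comp_zero, Linear.smul_comp, Category.id_comp]
      exact h _ (hg ▸ Submodule.subset_span ⟨i, rfl⟩)
    · intro h a ha
      rw [← hg] at ha
      induction ha using Submodule.span_induction with
      | mem x hx =>
        obtain ⟨i, rfl⟩ := hx
        have h1 := congrArg (fun t => biproduct.ι (fun _ : Fin r => F) i ≫ t) h
        simp only [ψ, biproduct.ι_desc_assoc, comp_zero, Linear.smul_comp, Category.id_comp] at h1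
        exact h1
      | zero => exact zero_smul _ _
      | add x y _ _ hx hy => rw [add_smul, hx, hy, add_zero]
      | smul c x _ hx => rw [smul_eq_mul, mul_smul, hx, smul_zero]
  have hψp : ψ ≫ p = 0 := (hkill Q p).1 fun a ha => by
    rw [← Category.comp_id p, ← Linear.comp_smul, hp.1 a ha, comp_zero]
  let e : cokernel ψ ⟶ Q := cokernel.desc ψ p hψp
  haveI : IsIso e := by
    obtain ⟨d, hd, -⟩ := hp.2 _ (cokernel.π ψ) ((hkill _ _).2 (cokernel.condition ψ))
    refine ⟨⟨d, coequalizer.hom_ext ?_, ?_⟩⟩
    · change cokernel.π ψ ≫ e ≫ d = cokernel.π ψ ≫ 𝟙 _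
      rw [cokernel.π_desc_assoc, hd, Category.comp_id]
    · obtain ⟨z, -, hz⟩ := hp.2 _ p ((hkill _ _).2 hψp)
      exact (hz (d ≫ e) (by simp only [e]; rw [reassoc_of% hd, cokernel.π_desc])).trans
        (hz (𝟙 Q) (Category.comp_id p)).symm
  haveI : Epi p := (cokernel.π_desc ψ p hψp) ▸ (epi_comp (cokernel.π ψ) e)
  have surj : ∀ {A B : EtModW.ModP Λ X} (f : A ⟶ B) [Epi f],
      Function.Surjective (f.hom.app (op U)).hom := by
    intro A B f _
    let J := Scheme.ProEt.topology X
    let f' := (sheafCompose J (CategoryTheory.forget (ModuleCat.{u + 1} Λ))).map f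
    have h1 : Sheaf.IsLocallySurjective f := (Sheaf.isLocallySurjective_iff_epi' _ f).2 inferInstance
    haveI : Sheaf.IsLocallySurjective f' :=
      (Presheaf.isLocallySurjective_iff_whisker_forget J f.hom).1 h1
    haveI : Epi f' := inferInstance
    exact hU _ _ f' inferInstance
  refine ⟨surj p, le_antisymm (fun s hs => ?_) (Submodule.smul_le.2 fun a ha t _ => ?_)⟩
  · let S := ShortComplex.mk (kernel.ι p) p (kernel.condition p)
    let G : EtModW.ModP Λ X ⥤ ModuleCat.{u + 1} Λ :=
      (sheafSections (Scheme.ProEt.topology X) (ModuleCat.{u + 1} Λ)).obj (op U)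
    haveI : PreservesFiniteLimits G :=
      inferInstanceAs (PreservesFiniteLimits (sheafToPresheaf (Scheme.ProEt.topology X) _ ⋙
        (CategoryTheory.evaluation _ _).obj (op U)))
    haveI : G.Additive := Functor.additive_of_preserves_binary_products _
    haveI : Mono S.f := inferInstanceAs (Mono (kernel.ι p))
    have hS : (S.map G).Exact := (ShortComplex.exact_kernel p).map_of_mono_of_preservesKernel G
      inferInstance inferInstance
    obtain ⟨k, hk⟩ := (ShortComplex.moduleCat_exact_iff _).1 hS s hs
    let L : (⨁ fun _ : Fin r => F) ⟶ kernel p := kernel.lift p ψ hψp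
    haveI : Epi L := by
      have hex : (ShortComplex.mk ψ p hψp).Exact :=
        ShortComplex.exact_of_g_is_cokernel _ (cokernel.cokernelIso ψ p (asIso e) (cokernel.π_desc ψ p hψp))
      exact hex.epi_kernelLift
    obtain ⟨t, rfl⟩ := surj L k
    rw [← hk]
    change (G.map L ≫ G.map (kernel.ι p)).hom t ∈ _
    rw [← G.map_comp, kernel.lift_ι, ← Category.id_comp ψ,
      ← biproduct.total (f := fun _ : Fin r => F), Preadditive.sum_comp, G.map_sum]
    rw [ModuleCat.hom_sum, LinearMap.sum_apply]
    refine Submodule.sum_mem _ fun i _ => ?_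
    rw [Category.assoc, biproduct.ι_desc, Linear.comp_smul, Category.comp_id]
    exact Submodule.smul_mem_smul (hg ▸ Submodule.subset_span ⟨i, rfl⟩) trivial
  · rw [LinearMap.mem_ker, map_smul]
    have h1 := congrArg (fun φ : Q ⟶ Q => (φ.hom.app (op U)).hom ((p.hom.app (op U)).hom t)) (hp.1 a ha)
    exact h1

end Groth.Agent.S14017
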