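import Groth.Statements.S0679
import Groth.Agent.HenselLib.WContractIff
import Groth.Agent.HenselLib.QFProfinite
import Groth.Agent.HenselLib.WLocAtPoint
import Groth.Agent.HenselLib.LocalInt

set_option autoImplicit false
open CategoryTheory CategoryTheory.Limits AlgebraicGeometry Opposite Topology
universe u
open scoped TensorProduct
open ProEtW

namespace Groth.Agent.S0679

/-- If A → B is a finite ring map of finite presentation and A is w-contractible, then B is
w-contractible. -/
theorem result (A B : Type u) [CommRing A] [CommRing B]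
    [Algebra A B] [Module.Finite A B] [Algebra.FinitePresentation A B]
    (h : EtPBC.IsWContractible A) : EtPBC.IsWContractible B := by
  classical
  obtain ⟨hl, hext, hsh⟩ := Groth.Agent.HenselLib.WCtr.isWContractible_iff.1 h
  have hclB : ∀ b : PrimeSpectrum B, IsClosed ({b} : Set (PrimeSpectrum B)) ↔
      IsClosed ({PrimeSpectrum.comap (algebraMap A B) b} : Set (PrimeSpectrum A)) := fun b => by
    rw [PrimeSpectrum.isClosed_singleton_iff_isMaximal, PrimeSpectrum.isClosed_singleton_iff_isMaximal]
    exact ⟨fun h => haveI := h; Ideal.isMaximal_comap_of_isIntegral_of_isMaximal (R := A) b.asIdeal,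
      fun h => Ideal.isMaximal_of_isIntegral_of_isMaximal_comap (R := A) b.asIdeal h⟩
  -- the spectrum is w-local
  have hBl : ProEtW.IsWLocal (PrimeSpectrum B) := by
    refine ⟨inferInstance, ?_, fun y => ?_⟩
    · simp only [hclB]
      exact hl.2.1.preimage (PrimeSpectrum.continuous_comap _)
    obtain ⟨M, hM, hyM⟩ := Ideal.exists_le_maximal y.asIdeal y.isPrime.ne_top
    refine ⟨⟨M, hM.isPrime⟩, ⟨(PrimeSpectrum.isClosed_singleton_iff_isMaximal _).2 hM,
      (PrimeSpectrum.le_iff_specializes _ _).1 hyM⟩, ?_⟩
    rintro M' ⟨hM', hyM'⟩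
    haveI := (PrimeSpectrum.isClosed_singleton_iff_isMaximal _).1 hM'
    let m := M.comap (algebraMap A B)
    haveI : m.IsMaximal := Ideal.isMaximal_comap_of_isIntegral_of_isMaximal (R := A) M
    obtain ⟨w, -, huniq⟩ := hl.2.2 (PrimeSpectrum.comap (algebraMap A B) y)
    have hmm : M'.asIdeal.comap (algebraMap A B) = m := by
      have h1 := huniq _ ⟨(hclB M').1 hM', hyM'.map (PrimeSpectrum.continuous_comap _)⟩
      have h2 := huniq _ ⟨(hclB ⟨M, hM.isPrime⟩).1 ((PrimeSpectrum.isClosed_singleton_iff_isMaximal _).2 hM),
        ((PrimeSpectrum.le_iff_specializes _ _).1 hyM : y ⤳ ⟨M, hM.isPrime⟩).map (PrimeSpectrum.continuous_comap _)⟩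
      exact congrArg PrimeSpectrum.asIdeal (h1.trans h2.symm)
    let D₀ := B ⧸ y.asIdeal
    have hne : ∀ s ∈ m.primeCompl, algebraMap A D₀ s ≠ 0 := fun s hs h0 => hs (by
      rw [IsScalarTower.algebraMap_apply A B D₀, Ideal.Quotient.algebraMap_eq,
        Ideal.Quotient.eq_zero_iff_mem] at h0
      exact hyM h0)
    let D := Localization (Algebra.algebraMapSubmonoid D₀ m.primeCompl)
    haveI : IsDomain D := IsLocalization.isDomain_localization (R := D₀)
      (M := Algebra.algebraMapSubmonoid D₀ m.primeCompl) (by
      rintro _ ⟨s, hs, rfl⟩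
      exact mem_nonZeroDivisors_of_ne_zero (hne s hs))
    haveI : HenselianLocalRing (Localization.AtPrime m) := (hsh m).1
    haveI : IsLocalRing D :=
      Groth.Agent.HenselLib.Olivier.isLocalRing_of_integral_domain (A := Localization.AtPrime m) D
    have key : ∀ (N : Ideal B), N.IsMaximal → y.asIdeal ≤ N → N.comap (algebraMap A B) = m →
        N = ((IsLocalRing.maximalIdeal D).comap (algebraMap D₀ D)).comap (Ideal.Quotient.mk y.asIdeal) := by
      intro N hN hyN hNm
      haveI := hN
      let Q := N.map (Ideal.Quotient.mk y.asIdeal)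
      have hQc : Q.comap (Ideal.Quotient.mk y.asIdeal) = N := by
        rw [Ideal.comap_map_of_surjective _ Ideal.Quotient.mk_surjective, ← RingHom.ker_eq_comap_bot,
          Ideal.mk_ker, sup_eq_left.2 hyN]
      have hQne : Q.map (algebraMap D₀ D) ≠ ⊤ := by
        rw [IsLocalization.map_algebraMap_ne_top_iff_disjoint (Algebra.algebraMapSubmonoid D₀ m.primeCompl) D,
          Set.disjoint_left]
        rintro _ ⟨s, hs, rfl⟩ hsQ
        apply hs
        rw [SetLike.mem_coe, ← hNm, Ideal.mem_comap, ← hQc, Ideal.mem_comap]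
        exact hsQ
      refine hN.eq_of_le (Ideal.IsPrime.ne_top inferInstance) ?_
      conv_lhs => rw [← hQc]
      exact Ideal.comap_mono (Ideal.map_le_iff_le_comap.1 (IsLocalRing.le_maximalIdeal hQne))
    exact PrimeSpectrum.ext ((key M'.asIdeal inferInstance ((PrimeSpectrum.le_iff_specializes _ _).2 hyM') hmm).trans
      (key M hM hyM rfl).symm)
  refine Groth.Agent.HenselLib.WCtr.isWContractible_iff.2 ⟨hBl, ?_, fun M hM => ?_⟩
  · -- the space of components
    haveI := hext
    haveI := Groth.Agent.HenselLib.WLoc.t2Space_CP hl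
    let I : Ideal A := PrimeSpectrum.vanishingIdeal (ProEtW.closedPoints (PrimeSpectrum A))
    have hI0 : PrimeSpectrum.zeroLocus (R := A) I = ProEtW.closedPoints (PrimeSpectrum A) := by
      rw [PrimeSpectrum.zeroLocus_vanishingIdeal_eq_closure,
        IsClosed.closure_eq (show IsClosed (ProEtW.closedPoints (PrimeSpectrum A)) from hl.2.1)]
    have he := PrimeSpectrum.isClosedEmbedding_comap_of_surjective _ (Ideal.Quotient.mk I)
      Ideal.Quotient.mk_surjective
    let φ : PrimeSpectrum (A ⧸ I) ≃ₜ Groth.Agent.HenselLib.WLoc.CP A :=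
      he.isEmbedding.toHomeomorph.trans (Homeomorph.setCongr (by
        rw [range_comap_of_surjective _ _ Ideal.Quotient.mk_surjective, Ideal.mk_ker, hI0]; rfl))
    haveI : T2Space (PrimeSpectrum (A ⧸ I)) := φ.symm.t2Space
    haveI : ExtremallyDisconnected (PrimeSpectrum (A ⧸ I)) :=
      Groth.Agent.HenselLib.WCtr.extremallyDisconnected_homeo
        ((Groth.Agent.HenselLib.WCtr.cpHomeo hl).symm.trans φ.symm)
    have hres : ∀ p : PrimeSpectrum (A ⧸ I), IsSepClosed p.asIdeal.ResidueField := fun p => by
      let m := p.asIdeal.comap (Ideal.Quotient.mk I)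
      haveI : m.IsMaximal := (PrimeSpectrum.isClosed_singleton_iff_isMaximal
        (PrimeSpectrum.comap (Ideal.Quotient.mk I) p)).1 (φ p).2
      haveI : IsSepClosed m.ResidueField := (hsh m).2
      let e : m.ResidueField ≃+* p.asIdeal.ResidueField := RingEquiv.ofBijective _
        ((RingHom.surjectiveOnStalks_of_surjective Ideal.Quotient.mk_surjective).residueFieldMap_bijective
          m p.asIdeal rfl)
      letI : Algebra m.ResidueField p.asIdeal.ResidueField := e.toRingHom.toAlgebra
      haveI : Algebra.IsAlgebraic m.ResidueField p.asIdeal.ResidueField :=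
        ⟨fun x => e.apply_symm_apply x ▸ isAlgebraic_algebraMap (e.symm x)⟩
      exact Algebra.IsAlgebraic.isSepClosed (F := m.ResidueField)
    haveI := Groth.Agent.HenselLib.QFProf.extremallyDisconnected (B := (A ⧸ I) ⊗[A] B) hres
    let ι : B →+* (A ⧸ I) ⊗[A] B := Algebra.TensorProduct.includeRight.toRingHom
    have hιs : Function.Surjective ι := by
      intro z
      induction z using TensorProduct.induction_on with
      | zero => exact ⟨0, map_zero _⟩
      | add z w hz hw =>
        obtain ⟨a, rfl⟩ := hz
        obtain ⟨b, rfl⟩ := hw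
        exact ⟨a + b, map_add _ _ _⟩
      | tmul a b =>
        obtain ⟨a, rfl⟩ := Ideal.Quotient.mk_surjective a
        refine ⟨a • b, ?_⟩
        show (1 : A ⧸ I) ⊗ₜ[A] (a • b) = _
        rw [← TensorProduct.smul_tmul, Algebra.smul_def, mul_one, Ideal.Quotient.algebraMap_eq]
    have hιe := PrimeSpectrum.isClosedEmbedding_comap_of_surjective _ ι hιs
    let ψ : PrimeSpectrum ((A ⧸ I) ⊗[A] B) ≃ₜ Groth.Agent.HenselLib.WLoc.CP B :=
      hιe.isEmbedding.toHomeomorph.trans (Homeomorph.setCongr (by
        ext b
        refine ⟨?_, fun hb => ?_⟩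
        · rintro ⟨r, rfl⟩
          refine (hclB _).2 (hI0.le ?_)
          intro a ha
          show ι (algebraMap A B a) ∈ r.asIdeal
          rw [show ι (algebraMap A B a) = algebraMap A ((A ⧸ I) ⊗[A] B) a from
            (Algebra.TensorProduct.includeRight (R := A) (A := A ⧸ I) (B := B)).commutes a,
            Algebra.TensorProduct.algebraMap_apply, Ideal.Quotient.algebraMap_eq,
            Ideal.Quotient.eq_zero_iff_mem.2 ha, TensorProduct.zero_tmul]
          exact zero_mem _
        · obtain ⟨c, hc⟩ : PrimeSpectrum.comap (algebraMap A B) b ∈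
              Set.range (PrimeSpectrum.comap (Ideal.Quotient.mk I)) := by
            rw [range_comap_of_surjective _ _ Ideal.Quotient.mk_surjective, Ideal.mk_ker, hI0]
            exact (hclB b).1 hb
          obtain ⟨r, -, hr⟩ := Groth.Agent.HenselLib.AlgRes.exists_prime_tensor (A := A) c b hc
          exact ⟨r, hr⟩))
    exact Groth.Agent.HenselLib.WCtr.extremallyDisconnected_homeo
      (ψ.trans (Groth.Agent.HenselLib.WCtr.cpHomeo hBl))
  · -- local rings at maximal ideals
    let m := M.comap (algebraMap A B)
    haveI : m.IsMaximal := Ideal.isMaximal_comap_of_isIntegral_of_isMaximal (R := A) M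
    haveI : HenselianLocalRing (Localization.AtPrime m) := (hsh m).1
    haveI : IsSepClosed (IsLocalRing.ResidueField (Localization.AtPrime m)) := (hsh m).2
    let S := Algebra.algebraMapSubmonoid B m.primeCompl
    let T := Localization S
    have hdisj : Disjoint (S : Set B) (M : Set B) := by
      rw [Set.disjoint_left]
      rintro _ ⟨s, hs, rfl⟩ hsM
      exact hs hsM
    let M' : Ideal T := M.map (algebraMap B T)
    have hM'c : M'.comap (algebraMap B T) = M :=
      IsLocalization.comap_map_of_isPrime_disjoint S T hM.isPrime hdisj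
    haveI hM'p : M'.IsPrime := IsLocalization.isPrime_of_isPrime_disjoint S T M hM.isPrime hdisj
    haveI : M'.IsMaximal := by
      obtain ⟨N, hN, hle⟩ := Ideal.exists_le_maximal M' hM'p.ne_top
      have hNc : N.comap (algebraMap B T) = M :=
        (hM.eq_of_le (Ideal.comap_ne_top _ hN.ne_top) (hM'c.ge.trans (Ideal.comap_mono hle))).symm
      have : M' = N := (congrArg (Ideal.map (algebraMap B T)) hNc.symm).trans (IsLocalization.map_comap S T N)
      exact this ▸ hN
    haveI : Algebra.IsIntegral (Localization.AtPrime m) (Localization.AtPrime M') :=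
      Algebra.IsIntegral.of_surjective (IsScalarTower.toAlgHom (Localization.AtPrime m) T (Localization.AtPrime M'))
        (Groth.Agent.HenselLib.LocalInt.surjective_algebraMap_localization (Localization.AtPrime m) M')
    haveI := Groth.Agent.HenselLib.LocalInt.isLocalHom_of_isIntegral (Localization.AtPrime m) (Localization.AtPrime M')
    refine Groth.Agent.HenselLib.WLoc.strictlyHenselian_of_equiv
      (RingEquiv.ofBijective _ (Groth.Agent.HenselLib.WCtr.localRingHom_bijective_congr (algebraMap B T) hM'c
        rfl hM'c.symm (Groth.Agent.HenselLib.WCtr.bijAt_of_isLocalization S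
          (⟨M', inferInstance⟩ : PrimeSpectrum T)))).symm ?_
    exact ⟨Groth.Agent.HenselLib.LocalInt.henselianLocalRing_localization (Localization.AtPrime m) M',
      Groth.Agent.HenselLib.LocalInt.isSepClosed_residueField (Localization.AtPrime m) (Localization.AtPrime M')⟩

end Groth.Agent.S0679
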