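import Groth.Statements.S0625
import Groth.Agent.EtSplit.Scheme

set_option autoImplicit false
open CategoryTheory CategoryTheory.Limits AlgebraicGeometry Opposite
universe u
open EtCore

namespace Groth.Agent.S0625

/-- Let X be an affine integral normal scheme whose function field is separably closed and Z -> X a
closed immersion. Every surjective finite etale morphism V -> Z has a section. -/
theorem result {V Z X : Scheme.{u}} [IsAffine X] [IsIntegral X]
    (hN : ∀ x : X, IsIntegrallyClosed (X.presheaf.stalk x)) [IsSepClosed X.functionField]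
    (i : Z ⟶ X) [IsClosedImmersion i] (φ : V ⟶ Z) [AlgebraicGeometry.Etale φ] [IsFinite φ] [Surjective φ] :
    ∃ s : Z ⟶ V, s ≫ φ = 𝟙 Z := by
  classical
  haveI : IsAffine Z := (IsClosedImmersion.isAffine_surjective_of_isAffine i).1
  haveI : IsAffine V := isAffine_of_isAffineHom φ
  obtain ⟨ι, hι, U, hU, -, hcov, hcl⟩ := Groth.Agent.EtSplit.exists_split hN i φ
  haveI := hU
  haveI := hι
  let W : ι → Z.Opens := fun k => ((U k).ι ≫ φ).opensRange
  have hWc : ∀ k, IsClosed (W k : Set Z) := fun k => by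
    have : (W k : Set Z) = φ '' (U k : Set V) := by
      show Set.range ((U k).ι ≫ φ) = _
      rw [Scheme.Hom.comp_base, TopCat.coe_comp, Set.range_comp, Scheme.Opens.range_ι]
    rw [this]
    exact φ.isClosedMap _ (hcl k)
  obtain ⟨n, ⟨o⟩⟩ := Finite.exists_equiv_fin ι
  let D : ι → Z.Opens := fun k => ⟨(W k : Set Z) \ ⋃ l : {l : ι // o l < o k}, (W l.1 : Set Z),
    (W k).2.sdiff (isClosed_iUnion_of_finite fun l => hWc l.1)⟩
  have hDW : ∀ k, D k ≤ W k := fun k z hz => hz.1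
  have hDcov : ⨆ k, D k = ⊤ := by
    rw [eq_top_iff]
    intro z _
    obtain ⟨v, rfl⟩ := φ.surjective z
    obtain ⟨k, hk⟩ := TopologicalSpace.Opens.mem_iSup.1 (hcov.ge (TopologicalSpace.Opens.mem_top v))
    have hex : ∃ m : ℕ, ∃ l, (o l : ℕ) = m ∧ φ v ∈ W l := ⟨_, k, rfl, ⟨⟨v, hk⟩, rfl⟩⟩
    obtain ⟨l, hl, hlv⟩ := Nat.find_spec hex
    refine TopologicalSpace.Opens.mem_iSup.2 ⟨l, hlv, fun h => ?_⟩
    obtain ⟨⟨l', hl'⟩, hl'v⟩ := Set.mem_iUnion.1 h
    exact Nat.find_min hex (show (o l' : ℕ) < Nat.find hex from hl ▸ hl') ⟨l', rfl, hl'v⟩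
  obtain ⟨hc⟩ := AlgebraicGeometry.nonempty_isColimit_cofanMk_of (fun k => (D k).ι)
    (by simp only [Scheme.Opens.opensRange_ι]; exact hDcov) (fun k l hkl => by
      show Disjoint (D k).ι.opensRange (D l).ι.opensRange
      rw [Scheme.Opens.opensRange_ι, Scheme.Opens.opensRange_ι, disjoint_iff, eq_bot_iff]
      rintro z ⟨h1, h2⟩
      rcases lt_trichotomy (o k) (o l) with h | h | h
      · exact (h2.2 (Set.mem_iUnion.2 ⟨⟨k, h⟩, h1.1⟩)).elim
      · exact (hkl (o.injective h)).elim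
      · exact (h1.2 (Set.mem_iUnion.2 ⟨⟨l, h⟩, h2.1⟩)).elim)
  refine ⟨Cofan.IsColimit.desc hc fun k =>
    Z.homOfLE (hDW k) ≫ ((U k).ι ≫ φ).isoOpensRange.inv ≫ (U k).ι, Cofan.IsColimit.hom_ext hc _ _ fun k => ?_⟩
  rw [← Category.assoc, Cofan.IsColimit.fac, Category.assoc, Category.assoc, Scheme.Hom.isoOpensRange_inv_comp,
    Scheme.homOfLE_ι]
  exact (Category.comp_id _).symm

end Groth.Agent.S0625
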