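import Groth.Statements.S0267
import Groth.Agent.GaloisCat.Whisker
import Groth.Agent.GaloisCat.Uniq

set_option autoImplicit false
universe u v
open Pi1

namespace Groth.Agent.S0267
open CategoryTheory Limits PreGaloisCategory

open CategoryTheory CategoryTheory.Limits in
/-- For an exact functor H between Galois categories, H is fully faithful exactly when it carries
connected objects to connected objects (both are equivalent to surjectivity of the induced map on
fundamental groups). -/
theorem result {C : Type u} [Category.{v} C]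
    [GaloisCategory C] {D : Type u} [Category.{v} D] [GaloisCategory D]
    (H : C ⥤ D) [PreservesFiniteLimits H] [PreservesFiniteColimits H] :
    (H.Full ∧ H.Faithful) ↔
      ∀ X : C, PreGaloisCategory.IsConnected X → PreGaloisCategory.IsConnected (H.obj X) := by
  let F' := GaloisCategory.getFiberFunctor D
  haveI : H.PreservesEpimorphisms := ⟨fun f _ => preserves_epi_of_preservesColimit H f⟩
  haveI : PreservesFiniteLimits (H ⋙ F') := comp_preservesFiniteLimits H F'
  haveI : PreservesColimitsOfShape (Discrete WalkingPair) (H ⋙ F') := comp_preservesColimitsOfShape H F'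
  haveI : (H ⋙ F').PreservesEpimorphisms := ⟨fun f _ => F'.map_epi (H.map f)⟩
  haveI : FiberFunctor (H ⋙ F') := Groth.Agent.GaloisCat.fiberFunctor_of_preserves (H ⋙ F')
  refine ⟨fun h X hX => ?_, fun h => ?_⟩
  · haveI : MulAction.IsPretransitive (Aut F') (F'.obj (H.obj X)) := ⟨fun a b => by
      obtain ⟨τ, hτ⟩ := MulAction.exists_smul_eq (Aut (H ⋙ F')) (α := (H ⋙ F').obj X) a b
      obtain ⟨σ, rfl⟩ := (Groth.Agent.GaloisCat.surjective_iff H F').mpr h τ
      exact ⟨σ, hτ⟩⟩
    haveI : Nonempty (F'.obj (H.obj X)) := nonempty_fiber_of_isConnected (H ⋙ F') X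
    exact Groth.Agent.GaloisCat.isConnected_of_isPretransitive F' (H.obj X)
  · refine (Groth.Agent.GaloisCat.surjective_iff H F').mp ?_
    rw [← MonoidHom.range_eq_top]
    refine top_le_iff.mp (Groth.Agent.GaloisCat.le_of_forall_stabilizer (H ⋙ F')
      (Groth.Agent.GaloisCat.isClosed_range_autWhisker H F') fun X a hX hle τ _ => ?_)
    haveI := h X hX
    rw [MulAction.mem_stabilizer_iff]
    obtain ⟨σ, hσ⟩ := MulAction.exists_smul_eq (Aut F') (α := F'.obj (H.obj X)) a ((τ • a : (H ⋙ F').obj X))
    exact hσ.symm.trans (MulAction.mem_stabilizer_iff.mp (hle ⟨σ, rfl⟩))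

end Groth.Agent.S0267
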