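import Groth.Statements.S5117
import Groth.Agent.FEtQuot.EssImage
import Groth.Agent.FEtQuot.FieldLimit
import Groth.Agent.FEtQuot.FieldSurj

set_option backward.isDefEq.respectTransparency.types false
set_option backward.isDefEq.respectTransparency false
set_option linter.style.haveILetI false
-- import your own Groth.Agent.* helpers here

set_option autoImplicit false
universe u
open Pi1

namespace Groth.Agent.S5117

open AlgebraicGeometry CategoryTheory CategoryTheory.Limits in
/-- (ii bis) ⇒ (i), over a field. Let k be a field with algebraic closure k̄, X a quasi-compact and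
quasi-separated k-scheme such that X ×_k k̄ is connected, and X' a connected finite etale cover of
X. If the induced cover X' ×_k k̄ → X ×_k k̄ admits a section, then X' is isomorphic over X to X ×_k
S' for some finite etale k-scheme S'. (The published statement allows the spectrum of an Artinian
local ring with residue field k as base and asks only that X be quasi-compact; this row takes a
field and X quasi-compact and quasi-separated.) -/
theorem result (k : Type u) [Field k] {X : Scheme.{u}}
    (f : X ⟶ Spec (CommRingCat.of k)) [CompactSpace X] [QuasiSeparatedSpace X]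
    [ConnectedSpace ↥(pullback f (Spec.map (CommRingCat.ofHom (algebraMap k (AlgebraicClosure k)))))]
    (X' : FEt.Cat X) [ConnectedSpace X'.left]
    (σ : pullback f (Spec.map (CommRingCat.ofHom (algebraMap k (AlgebraicClosure k)))) ⟶ X'.left)
    (hσ : σ ≫ X'.hom = pullback.fst f (Spec.map (CommRingCat.ofHom (algebraMap k (AlgebraicClosure k))))) :
    ∃ S' : FEt.Cat (Spec (CommRingCat.of k)), Nonempty ((FEt.restrict f).obj S' ≅ X') := by
  haveI : ConnectedSpace ↥(pullback f (Groth.Agent.FEtQuot.ξK k)) := ‹_›
  have hFF := Groth.Agent.FEtQuot.restrict_full_faithful f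
  let ξ := Spec.map (CommRingCat.ofHom (algebraMap k (AlgebraicClosure k)))
  haveI : Surjective ξ := ⟨fun x => ⟨IsLocalRing.closedPoint _, Subsingleton.elim (α := PrimeSpectrum k) _ _⟩⟩
  haveI : Surjective (pullback.fst f ξ) := MorphismProperty.pullback_fst _ _ ‹_›
  haveI : ConnectedSpace X := (pullback.fst f ξ).surjective.connectedSpace (pullback.fst f ξ).continuous
  obtain ⟨s, τ, hτ, hfac⟩ := Groth.Agent.FEtQuot.FieldLimit.exists_points (Ω := AlgebraicClosure k) f (ι := PUnit.{u + 1}) X'
    (fun _ => σ) (fun _ => hσ)
  obtain ⟨hb₁, hb₂⟩ := Groth.Agent.FEtQuot.FieldLimit.prop_bsS (k := k) s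
  let V : FEt.Cat (Spec (CommRingCat.of k)) := Groth.Agent.FEtQuot.mk (Groth.Agent.FEtQuot.FieldLimit.bsS k s)
  let e : (FEt.restrict f).obj V ⟶ X' := MorphismProperty.Over.homMk
    ((pullbackSymmetry (Groth.Agent.FEtQuot.FieldLimit.bsS k s) f).hom ≫ τ PUnit.unit) (by
      refine (Category.assoc _ _ _).trans ?_
      rw [hτ, pullbackSymmetry_hom_comp_fst]
      rfl)
  haveI : Nonempty ((FEt.restrict f).obj V).left := by
    obtain ⟨w⟩ := (inferInstance : Nonempty ↥(pullback f (Groth.Agent.FEtQuot.ξK k)))
    exact ⟨(pullbackSymmetry (Groth.Agent.FEtQuot.FieldLimit.bsS k s) f).inv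
      (((Groth.Agent.FEtQuot.FieldLimit.cone (Ω := AlgebraicClosure k) f).π.app (Opposite.op s) ≫ Groth.Agent.FEtQuot.FieldLimit.toSepX f s) w)⟩
  exact Groth.Agent.FEtQuot.exists_iso_restrict_of_hom f hFF V X' e

end Groth.Agent.S5117
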