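import Groth.Statements.S14622
import Groth.Agent.Et18.Stalk

set_option autoImplicit false
open CategoryTheory AlgebraicGeometry
universe u
open EtBase

namespace Groth.Agent.S14622

/-- Let g : Y' → Y be a morphism of schemes which is surjective on points. Then for every abelian sheaf
F on the small étale site of Y the unit F → g_* g⁻¹ F of the adjunction between inverse image and
direct image is a monomorphism. -/
theorem result {Y Y' : Scheme.{u}} (g : Y' ⟶ Y) [Surjective g]
    (F : EtCoh.Ab Y) : Mono ((EtCoh.pullPushAdj g).unit.app F) := by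
  have hfac : ((EtCoh.pull g).map ((EtCoh.pullPushAdj g).unit.app F)) ≫
      (EtCoh.pullPushAdj g).counit.app ((EtCoh.pull g).obj F) = 𝟙 _ :=
    (EtCoh.pullPushAdj g).left_triangle_components F
  have : Mono ((EtCoh.pull g).map ((EtCoh.pullPushAdj g).unit.app F)) :=
    mono_of_mono_fac hfac
  refine Groth.Agent.Et18.mono_of_stalks_family (ι := ULift.{u + 1} Y')
    (fun i => Groth.Agent.Et18.sepPoint Y' i.down ≫ g) (fun y => ?_) _ fun i => ?_
  · obtain ⟨y', rfl⟩ := g.surjective y
    exact ⟨⟨y'⟩, congrArg g (Groth.Agent.Et18.sepPoint_default Y' y')⟩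
  · have := Groth.Agent.Et18.stalk_preservesFiniteLimits (Groth.Agent.Et18.sepPoint Y' i.down)
    have hm : Mono ((EtCoh.stalk (Groth.Agent.Et18.sepPoint Y' i.down)).map
        ((EtCoh.pull g).map ((EtCoh.pullPushAdj g).unit.app F))) := inferInstance
    refine (AddCommGrpCat.mono_iff_injective _).mp ?_
    exact ((MorphismProperty.monomorphisms _).arrow_mk_iso_iff
      ((Functor.mapArrowFunctor _ _).mapIso (Groth.Agent.Et18.stalkPullIso g
        (Groth.Agent.Et18.sepPoint Y' i.down)) |>.app (Arrow.mk _))).mp hm

end Groth.Agent.S14622
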