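import Groth.Statements.S1982
import Groth.Agent.EtRamLib.WeakSol
import Groth.Agent.CohDer1.TameTower
import Groth.Agent.HenselLib.MiscB
-- import your own Groth.Agent.* helpers here

set_option autoImplicit false
set_option linter.all false
set_option backward.isDefEq.respectTransparency false
set_option backward.isDefEq.respectTransparency.types false
universe u
open EtAlg TensorProduct Polynomial
open Groth.Agent.EtRamLib

namespace Groth.Agent.S1982

set_option maxHeartbeats 1600000 in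
/-- Suppose A -> B makes the discrete valuation ring B an extension of the discrete valuation ring A,
write K ⊂ L for their fraction fields and e for the ramification index; assume the residue
characteristic of A is zero, or it is p with p not dividing e and the residue field extension of A
-> B separable (in the general sense, i.e. geometrically reduced; it need not be algebraic). Let
K₁/K be a finite extension. Then for every compositum M of L and K₁ and every valuation subring W of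
M dominating B such that e divides the ramification index of A -> W ∩ K₁, the extension W ∩ K₁ -> W
is weakly unramified with separable (geometrically reduced) residue field extension. -/
theorem result (A B K L : Type u) [CommRing A] [IsDomain A] [IsDiscreteValuationRing A]
    [CommRing B] [IsDomain B] [IsDiscreteValuationRing B] [Algebra A B] [IsLocalHom (algebraMap A B)]
    (hinj : Function.Injective (algebraMap A B))
    [Field K] [Field L] [Algebra A K] [IsFractionRing A K] [Algebra B L] [IsFractionRing B L]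
    [Algebra K L] [Algebra A L] [IsScalarTower A K L] [IsScalarTower A B L]
    (htame : CharZero (IsLocalRing.ResidueField A) ∨
      ∃ p : ℕ, p.Prime ∧ CharP (IsLocalRing.ResidueField A) p ∧
        ¬ p ∣ Ideal.ramificationIdx' (IsLocalRing.maximalIdeal A) (IsLocalRing.maximalIdeal B) ∧
        Algebra.IsGeometricallyReduced (IsLocalRing.ResidueField A) (IsLocalRing.ResidueField B))
    (K₁ : Type u) [Field K₁] [Algebra K K₁] [FiniteDimensional K K₁] :
    EtRam.ForallLocalExt B K L K₁ (fun M _ W f =>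
      ∀ hA : ∀ a : A, (algebraMap K K₁) (algebraMap A K a) ∈ W.comap f,
        letI : Algebra A (W.comap f) := (RingHom.codRestrict ((algebraMap K K₁).comp (algebraMap A K)) (W.comap f) hA).toAlgebra
        letI : Algebra (W.comap f) W := (EtRam.inclOfComap W f).toAlgebra
        Ideal.ramificationIdx' (IsLocalRing.maximalIdeal A) (IsLocalRing.maximalIdeal B) ∣
          Ideal.ramificationIdx' (IsLocalRing.maximalIdeal A) (IsLocalRing.maximalIdeal (W.comap f)) →
        EtRam.IsWeaklyUnramified (W.comap f) W ∧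
          @Algebra.IsGeometricallyReduced (IsLocalRing.ResidueField (W.comap f)) (IsLocalRing.ResidueField W) _ _
            (IsLocalRing.ResidueField.map (EtRam.inclOfComap W f)).toAlgebra) := by
  classical
  intro M _ _ _ _ _ _ hadj W hW hA
  letI aAV : Algebra A (W.comap (algebraMap K₁ M)) :=
    (RingHom.codRestrict ((algebraMap K K₁).comp (algebraMap A K)) (W.comap (algebraMap K₁ M)) hA).toAlgebra
  letI aVW : Algebra (W.comap (algebraMap K₁ M)) W := (EtRam.inclOfComap W (algebraMap K₁ M)).toAlgebra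
  intro hdiv
  let f := algebraMap K₁ M
  let j := algebraMap L M
  let v := W.valuation
  let V := W.comap f
  letI aAM : Algebra A M := ((algebraMap K M).comp (algebraMap A K)).toAlgebra
  haveI : IsScalarTower A K M := IsScalarTower.of_algebraMap_eq fun _ => rfl
  have hAB : ∀ a : A, algebraMap A M a = j (algebraMap B L (algebraMap A B a)) := fun a => by
    rw [IsScalarTower.algebraMap_apply A K M, IsScalarTower.algebraMap_apply K L M,
      ← IsScalarTower.algebraMap_apply A K L, ← IsScalarTower.algebraMap_apply A B L]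
  have hAK₁ : ∀ a : A, algebraMap A M a = f (algebraMap K K₁ (algebraMap A K a)) := fun a => by
    rw [IsScalarTower.algebraMap_apply A K M, IsScalarTower.algebraMap_apply K K₁ M]
  let gB : B →+* W := RingHom.codRestrict ((algebraMap L M).comp (algebraMap B L)) W.toSubring hW.1
  letI : Algebra B W := gB.toAlgebra
  letI : Algebra A W := (gB.comp (algebraMap A B)).toAlgebra
  haveI : IsScalarTower A B W := IsScalarTower.of_algebraMap_eq fun _ => rfl
  haveI : IsScalarTower A V W := IsScalarTower.of_algebraMap_eq fun a => Subtype.ext ((hAB a).symm.trans (hAK₁ a))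
  haveI : IsLocalHom (algebraMap B W) := ⟨fun b hb => by
    by_contra h
    exact ((W.valuation_lt_one_iff (gB b)).mpr (hW.2 b ((IsLocalRing.mem_maximalIdeal b).mpr h))) hb⟩
  haveI : IsLocalHom (algebraMap V W) := EtRam.isLocalHom_inclOfComap W f
  haveI : IsLocalHom (algebraMap A W) := by
    rw [IsScalarTower.algebraMap_eq A B W]; exact RingHom.isLocalHom_comp _ _
  haveI : IsLocalHom (algebraMap A V) := ⟨fun a ha => by
    refine isUnit_of_map_unit (algebraMap A W) a ?_
    rw [IsScalarTower.algebraMap_apply A V W]; exact ha.map _⟩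
  have hdom : DegP.Dom A W := by
    refine ⟨fun a => by rw [hAB]; exact hW.1 _, fun a ha => ?_⟩
    rw [hAB]
    exact hW.2 _ ((IsLocalRing.mem_maximalIdeal _).mpr fun hu =>
      (IsLocalRing.mem_maximalIdeal a).mp ha (isUnit_of_map_unit (algebraMap A B) a hu))
  obtain ⟨π, hπ⟩ := IsDiscreteValuationRing.exists_irreducible A
  obtain ⟨ϖ, hϖ⟩ := IsDiscreteValuationRing.exists_irreducible B
  obtain ⟨e, uB, huB⟩ := IsDiscreteValuationRing.eq_unit_mul_pow_irreducible ((map_ne_zero_iff _ hinj).mpr hπ.ne_zero) hϖ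
  have he : Ideal.ramificationIdx' (IsLocalRing.maximalIdeal A) (IsLocalRing.maximalIdeal B) = e :=
    CohDer1.TameTower.ramificationIdx'_eq π hπ.maximalIdeal_eq ϖ hϖ uB e huB
  have he0 : e ≠ 0 := fun h => by
    rw [h, pow_zero, mul_one] at huB
    exact hπ.not_isUnit (isUnit_of_map_unit (algebraMap A B) π (huB ▸ uB.isUnit))
  set G := v (algebraMap A M π) with hG
  have hG0 : 0 < G := DegP.vpi_pos (K := K) hπ
  have hG1 : G < 1 := DegP.vpi_lt_one hπ hdom
  let d := Module.finrank K K₁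
  have hd : 0 < d := Module.finrank_pos
  -- `V` is a discrete valuation ring
  let D := Nat.factorial d
  have hval : ∀ c : K₁, c ≠ 0 → v (f c) ≤ 1 → ∃ n : ℕ, v (f c) ^ D = G ^ n := by
    intro c hc hc1
    obtain ⟨l, m, hl, hld, heq⟩ := WeakSol.values (K := K) hπ hdom hc
    obtain ⟨q, hq⟩ : l ∣ D := Nat.dvd_factorial hl hld
    have h1 : G ^ m ≤ G ^ (0 : ℤ) := by rw [← heq, zpow_zero]; exact pow_le_one' hc1 l
    have h2 : 0 ≤ m := (zpow_right_strictAnti₀ hG0 hG1).le_iff_ge.mp h1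
    obtain ⟨n, rfl⟩ := Int.eq_ofNat_of_zero_le h2
    exact ⟨n * q, by rw [hq, pow_mul, heq, zpow_natCast, pow_mul]⟩
  have hVle : ∀ c : V, v (f c) ≤ 1 := fun c => (W.valuation_le_one_iff _).mpr c.2
  have hVu : ∀ c : V, IsUnit c ↔ v (f c) = 1 := fun c =>
    ⟨fun h => (W.valuation_eq_one_iff (algebraMap V W c)).mp (h.map _),
      fun h => isUnit_of_map_unit (algebraMap V W) c ((W.valuation_eq_one_iff (algebraMap V W c)).mpr h)⟩
  have hfne : ∀ c : V, c ≠ 0 → f c ≠ 0 := fun c hc => (_root_.map_ne_zero f).mpr fun h => hc (Subtype.ext h)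
  have hex : ∃ n : ℕ, ∃ c : V, c ≠ 0 ∧ ¬ IsUnit c ∧ v (f c) ^ D = G ^ n := by
    have hπV : algebraMap A V π ≠ 0 := fun h => by
      have h' : f (algebraMap K K₁ (algebraMap A K π)) = 0 := by
        rw [show algebraMap K K₁ (algebraMap A K π) = ((algebraMap A V π : V) : K₁) from rfl, h]; exact map_zero f
      rw [← hAK₁] at h'
      exact DegP.algebraMap_ne_zero (K := K) hπ.ne_zero h'
    obtain ⟨n, hn⟩ := hval _ (fun h => hπV (Subtype.ext h)) (hVle (algebraMap A V π))
    exact ⟨n, algebraMap A V π, hπV, fun h => hπ.not_isUnit (isUnit_of_map_unit _ _ h), hn⟩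
  obtain ⟨ϖ₁, hϖ₁0, hϖ₁u, hϖ₁⟩ := Nat.find_spec hex
  set n₁ := Nat.find hex with hn₁
  have hG_inj : ∀ {a b : ℕ}, G ^ a = G ^ b → a = b := fun h => (pow_right_strictAnti₀ hG0 hG1).injective h
  have hlt1 : ∀ c : V, ¬ IsUnit c → v (f c) < 1 := fun c hc => lt_of_le_of_ne (hVle c) fun h => hc ((hVu c).mpr h)
  have hn₁pos : 0 < n₁ := by
    refine Nat.pos_of_ne_zero fun h => ?_
    rw [h, pow_zero] at hϖ₁
    exact (pow_lt_one₀ zero_le' (hlt1 ϖ₁ hϖ₁u) (Nat.factorial_pos d).ne').ne hϖ₁
  have hirr : Irreducible ϖ₁ := by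
    refine ⟨hϖ₁u, fun a b hab => ?_⟩
    by_contra hno
    push Not at hno
    have ha0 : a ≠ 0 := fun h => hϖ₁0 (by rw [hab, h, zero_mul])
    have hb0 : b ≠ 0 := fun h => hϖ₁0 (by rw [hab, h, mul_zero])
    obtain ⟨na, hna⟩ := hval _ (fun h => ha0 (Subtype.ext h)) (hVle a)
    obtain ⟨nb, hnb⟩ := hval _ (fun h => hb0 (Subtype.ext h)) (hVle b)
    have h1 : n₁ ≤ na := Nat.find_min' hex ⟨a, ha0, hno.1, hna⟩
    have h2 : n₁ ≤ nb := Nat.find_min' hex ⟨b, hb0, hno.2, hnb⟩
    have h3 : G ^ n₁ = G ^ (na + nb) := by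
      rw [← hϖ₁, hab, pow_add, ← hna, ← hnb]; push_cast; rw [map_mul, map_mul, mul_pow]
    have := hG_inj h3
    omega
  haveI hDVR : IsDiscreteValuationRing V := by
    refine IsDiscreteValuationRing.ofHasUnitMulPowIrreducibleFactorization ⟨ϖ₁, hirr, fun {x} hx => ?_⟩
    suffices ∀ (n : ℕ) (x : V), x ≠ 0 → v (f x) ^ D = G ^ n → ∃ k : ℕ, Associated (ϖ₁ ^ k) x by
      obtain ⟨n, hn⟩ := hval _ (fun h => hx (Subtype.ext h)) (hVle x)
      exact this n x hx hn
    intro n
    induction n using Nat.strong_induction_on with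
    | _ n ih =>
      intro x hx hn
      by_cases hu : IsUnit x
      · exact ⟨0, by rw [pow_zero]; exact associated_one_iff_isUnit.mpr hu |>.symm⟩
      have hle : n₁ ≤ n := Nat.find_min' hex ⟨x, hx, hu, hn⟩
      have hdiv' : v (f x / f ϖ₁) ^ D = G ^ (n - n₁) := by
        rw [map_div₀, div_pow, hn, hϖ₁, div_eq_iff (pow_ne_zero _ hG0.ne'), ← pow_add, Nat.sub_add_cancel hle]
      have hmem : (x : K₁) / (ϖ₁ : K₁) ∈ V := by
        show f _ ∈ W
        rw [← W.valuation_le_one_iff, map_div₀]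
        exact (pow_le_one_iff (Nat.factorial_pos d).ne').mp (hdiv'.trans_le (pow_le_one' hG1.le _))
      have hx' : x = ϖ₁ * ⟨_, hmem⟩ := Subtype.ext (by
        push_cast; rw [mul_div_cancel₀ _ fun h => hϖ₁0 (Subtype.ext h)])
      have hy0 : (⟨_, hmem⟩ : V) ≠ 0 := fun h => hx (by rw [hx', h, mul_zero])
      obtain ⟨k, hk⟩ := ih (n - n₁) (by omega) ⟨_, hmem⟩ hy0 (by show v (f ((x : K₁) / (ϖ₁ : K₁))) ^ D = _; rw [map_div₀]; exact hdiv')
      exact ⟨k + 1, by rw [pow_succ', hx']; exact hk.mul_left ϖ₁⟩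
  obtain ⟨e₁, u₁, hu₁⟩ := IsDiscreteValuationRing.eq_unit_mul_pow_irreducible
    (show algebraMap A V π ≠ 0 from fun h => DegP.algebraMap_ne_zero (K := K) hπ.ne_zero (L := M) (by
      rw [hAK₁, show algebraMap K K₁ (algebraMap A K π) = ((algebraMap A V π : V) : K₁) from rfl, h]; exact map_zero f)) hirr
  have he₁ : Ideal.ramificationIdx' (IsLocalRing.maximalIdeal A) (IsLocalRing.maximalIdeal V) = e₁ :=
    CohDer1.TameTower.ramificationIdx'_eq π hπ.maximalIdeal_eq ϖ₁ hirr u₁ e₁ hu₁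
  obtain ⟨m, hm⟩ : e ∣ e₁ := by rw [← he, ← he₁]; exact hdiv
  -- the root of unit
  have hfϖ₁ : f ϖ₁ ≠ 0 := hfne ϖ₁ hϖ₁0
  have hjϖ : j (algebraMap B L ϖ) ≠ 0 :=
    (_root_.map_ne_zero j).mpr ((map_ne_zero_iff _ (IsFractionRing.injective B L)).mpr hϖ.ne_zero)
  set z : M := j (algebraMap B L ϖ) / f ϖ₁ ^ m with hz
  have huBM : v (j (algebraMap B L uB)) = 1 := (W.valuation_eq_one_iff (gB uB)).mp (uB.isUnit.map gB)
  have huB0 : j (algebraMap B L uB) ≠ 0 := fun h => by rw [h, map_zero] at huBM; exact zero_ne_one huBM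
  have hπB : algebraMap A M π = j (algebraMap B L uB) * j (algebraMap B L ϖ) ^ e := by
    rw [hAB, huB, map_mul, map_mul, map_pow, map_pow]
  have hπV : algebraMap A M π = f (u₁ : V) * f ϖ₁ ^ (e * m) := by
    rw [hAK₁, show algebraMap K K₁ (algebraMap A K π) = ((algebraMap A V π : V) : K₁) from rfl, hu₁, hm]
    push_cast
    rw [map_mul, map_pow]
  have hze : z ^ e = f (u₁ : V) * j (algebraMap B L ((uB⁻¹ : Bˣ) : B)) := by
    have h1 : j (algebraMap B L uB) * j (algebraMap B L ((uB⁻¹ : Bˣ) : B)) = 1 := by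
      rw [← map_mul, ← map_mul, Units.mul_inv, map_one, map_one]
    rw [hz, div_pow, ← pow_mul, mul_comm m e, div_eq_iff (pow_ne_zero _ hfϖ₁)]
    linear_combination j (algebraMap B L ((uB⁻¹ : Bˣ) : B)) * (hπV.symm.trans hπB).symm - j (algebraMap B L ϖ) ^ e * h1
  have hvz : v z = 1 := by
    have h1 : v z ^ e = 1 := by
      rw [← map_pow, hze, map_mul, (hVu _).mp u₁.isUnit, one_mul]
      exact (W.valuation_eq_one_iff (gB ↑uB⁻¹)).mp (uB⁻¹.isUnit.map gB)
    exact le_antisymm ((pow_le_one_iff he0).mp h1.le) ((one_le_pow_iff he0).mp h1.ge)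
  let zW : W := ⟨z, (W.valuation_le_one_iff _).mp hvz.le⟩
  -- residues
  let kA := IsLocalRing.ResidueField A
  let kB := IsLocalRing.ResidueField B
  let kV := IsLocalRing.ResidueField V
  let kW := IsLocalRing.ResidueField W
  haveI : IsScalarTower kA kV kW := IsScalarTower.of_algebraMap_eq fun x => by
    obtain ⟨a, rfl⟩ := IsLocalRing.residue_surjective x
    change IsLocalRing.residue W (algebraMap A W a) = IsLocalRing.residue W (algebraMap V W (algebraMap A V a))
    rw [← IsScalarTower.algebraMap_apply]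
  haveI : IsScalarTower kA kB kW := IsScalarTower.of_algebraMap_eq fun x => by
    obtain ⟨a, rfl⟩ := IsLocalRing.residue_surjective x
    change IsLocalRing.residue W (algebraMap A W a) = IsLocalRing.residue W (algebraMap B W (algebraMap A B a))
    rw [← IsScalarTower.algebraMap_apply]
  haveI : Module.Finite kA kV := by
    letI : Algebra A K₁ := ((algebraMap K K₁).comp (algebraMap A K)).toAlgebra
    haveI : IsScalarTower A K K₁ := IsScalarTower.of_algebraMap_eq fun _ => rfl
    haveI : IsScalarTower A V K₁ := IsScalarTower.of_algebraMap_eq fun _ => rfl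
    haveI : IsFractionRing V K₁ := inferInstance
    exact (HenselLib.MiscB.ramification_mul_inertia_le A V (K := K) (L := K₁) (fun a b h =>
      IsFractionRing.injective A K ((algebraMap K K₁).injective (congrArg Subtype.val h)))).1
  obtain ⟨hGR, hne⟩ : Algebra.IsGeometricallyReduced kA kB ∧ (e : kA) ≠ 0 := by
    rcases htame with h | ⟨p, hp, hpA, hpe, hg⟩
    · haveI := h
      exact ⟨WeakSol.geomReduced_of_perfect _ _, Nat.cast_ne_zero.mpr he0⟩
    · exact ⟨hg, fun h => hpe (he.symm ▸ (CharP.cast_eq_zero_iff kA p e).mp h)⟩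
  haveI := hGR
  haveI : Algebra.IsAlgebraic kA kV := Algebra.IsAlgebraic.of_finite kA kV
  haveI : Algebra.IsAlgebraic kA (AlgebraicClosure kV) := Algebra.IsAlgebraic.trans kA kV _
  let T := kV ⊗[kA] kB
  haveI : IsReduced T := inferInstance
  letI : Algebra kB T := Algebra.TensorProduct.rightAlgebra
  haveI : Algebra.IsIntegral kA kV := Algebra.IsAlgebraic.isIntegral
  haveI : Algebra.IsIntegral kB T := by
    constructor
    intro x
    induction x using TensorProduct.induction_on with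
    | zero => exact isIntegral_zero
    | add a b ha hb => exact ha.add hb
    | tmul c b =>
      have h1 : IsIntegral kB (c ⊗ₜ[kA] (1 : kB) : T) :=
        (((Algebra.IsIntegral.isIntegral (R := kA) c).map (Algebra.TensorProduct.includeLeft : kV →ₐ[kA] T))).tower_top
      have h2 := h1.mul (isIntegral_algebraMap (x := b))
      rwa [show (c ⊗ₜ[kA] (1 : kB)) * algebraMap kB T b = c ⊗ₜ b by
        change (c ⊗ₜ[kA] (1 : kB)) * ((1 : kV) ⊗ₜ b) = _
        rw [Algebra.TensorProduct.tmul_mul_tmul, mul_one, one_mul]] at h2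
  -- reduction maps
  let T₀ := V ⊗[A] B
  haveI : CompatibleSMul A kA kV kB := ⟨fun r m n => by
    obtain ⟨a, rfl⟩ := IsLocalRing.residue_surjective r
    rw [show IsLocalRing.residue A a = algebraMap A kA a from rfl, algebraMap_smul, algebraMap_smul, TensorProduct.smul_tmul]⟩
  let E := Algebra.TensorProduct.equivOfCompatibleSMul kA A A kV kB
  let ρ' : T₀ →ₐ[A] kV ⊗[A] kB := Algebra.TensorProduct.map (IsScalarTower.toAlgHom A V kV) (IsScalarTower.toAlgHom A B kB)
  let ρ₀ : T₀ →+* T := E.toAlgHom.toRingHom.comp ρ'.toRingHom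
  have hsV : Function.Surjective (IsScalarTower.toAlgHom A V kV) := IsLocalRing.residue_surjective
  have hsB : Function.Surjective (IsScalarTower.toAlgHom A B kB) := IsLocalRing.residue_surjective
  have hρ₀t : ∀ (c : V) (b : B), ρ₀ (c ⊗ₜ b) = IsLocalRing.residue V c ⊗ₜ IsLocalRing.residue B b := fun c b => rfl
  have hρ₀s : Function.Surjective ρ₀ :=
    E.surjective.comp (Algebra.TensorProduct.map_surjective _ _ hsV hsB)
  let ψ₀ : T₀ →ₐ[A] W := Algebra.TensorProduct.lift (IsScalarTower.toAlgHom A V W) (IsScalarTower.toAlgHom A B W)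
    (fun _ _ => Commute.all _ _)
  have hψ₀t : ∀ (c : V) (b : B), ((ψ₀ (c ⊗ₜ b) : W) : M) = f c * j (algebraMap B L b) := fun c b => by
    simp only [ψ₀, Algebra.TensorProduct.lift_tmul]; rfl
  let φ₀ : T →ₐ[kV] kW := Algebra.TensorProduct.lift (Algebra.ofId kV kW) (IsScalarTower.toAlgHom kA kB kW)
    (fun _ _ => Commute.all _ _)
  have hφ₀ρ : ∀ y, φ₀ (ρ₀ y) = IsLocalRing.residue W (ψ₀ y) := fun y => by
    induction y using TensorProduct.induction_on with
    | zero => simp
    | add a b ha hb => simp only [map_add, ha, hb]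
    | tmul c b => rw [hρ₀t]; simp [φ₀, ψ₀]; rfl
  let ψ : T₀[X] →+* W := eval₂RingHom ψ₀.toRingHom zW
  let c₀ : T₀ := (u₁ : V) ⊗ₜ[A] ((uB⁻¹ : Bˣ) : B)
  let cbar : Tˣ := Units.mk (ρ₀ c₀) (ρ₀ (((u₁⁻¹ : Vˣ) : V) ⊗ₜ (uB : B)))
    (by rw [← map_mul, Algebra.TensorProduct.tmul_mul_tmul, Units.mul_inv, Units.inv_mul, ← Algebra.TensorProduct.one_def, map_one])
    (by rw [← map_mul, Algebra.TensorProduct.tmul_mul_tmul, Units.inv_mul, Units.mul_inv, ← Algebra.TensorProduct.one_def, map_one])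
  have hψc₀ : ψ₀ c₀ = zW ^ e := Subtype.ext (by rw [hψ₀t]; push_cast; exact hze.symm)
  have hneT : IsUnit (e : T) := by
    have := (IsUnit.mk0 _ hne).map (algebraMap kA T)
    rwa [map_natCast] at this
  let Φ : T[X] := X ^ e - Polynomial.C (cbar : T)
  haveI hetale : Algebra.Etale T (AdjoinRoot Φ) := WeakSol.etale_adjoinRoot e he0 cbar hneT
  let R := AdjoinRoot Φ
  haveI : IsReduced R := HenselLib.isReduced_of_etale T R
  haveI : Module.Finite T R := (monic_X_pow_sub_C _ he0).finite_adjoinRoot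
  haveI : Algebra.IsIntegral kB R := Algebra.IsIntegral.trans (A := T)
  have hzroot : Polynomial.eval₂ φ₀.toRingHom (IsLocalRing.residue W zW) Φ = 0 := by
    rw [eval₂_sub, eval₂_X_pow, eval₂_C, sub_eq_zero, ← map_pow, ← hψc₀]
    exact (hφ₀ρ c₀).symm
  let φ : R →+* kW := AdjoinRoot.lift φ₀.toRingHom (IsLocalRing.residue W zW) hzroot
  let φV : R →ₐ[kV] kW :=
    { φ with
      commutes' := fun x => by
        change φ (AdjoinRoot.of Φ (algebraMap kV T x)) = algebraMap kV kW x
        rw [AdjoinRoot.lift_of]; exact φ₀.commutes x }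
  have hφB : ∀ b : kB, φ (algebraMap kB R b) = algebraMap kB kW b := fun b => by
    change φ (AdjoinRoot.of Φ ((1 : kV) ⊗ₜ b)) = algebraMap kB kW b
    rw [AdjoinRoot.lift_of]
    show φ₀ ((1 : kV) ⊗ₜ b) = _
    erw [Algebra.TensorProduct.lift_tmul]
    rw [map_one, one_mul]
    rfl
  let ρ : T₀[X] →+* R := (AdjoinRoot.mk Φ).comp (mapRingHom ρ₀)
  have hρs : Function.Surjective ρ := AdjoinRoot.mk_surjective.comp (Polynomial.map_surjective ρ₀ hρ₀s)
  have hφρ : ∀ y, φ (ρ y) = IsLocalRing.residue W (ψ y) := fun y => by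
    change φ (AdjoinRoot.mk Φ (y.map ρ₀)) = IsLocalRing.residue W (eval₂ ψ₀.toRingHom zW y)
    rw [AdjoinRoot.lift_mk, eval₂_map, hom_eval₂]
    congr 1
    exact RingHom.ext hφ₀ρ
  have hannR := fun r : R => WeakSol.exists_annihilator (F := kB) r
  have hloc : ∀ r, φ r = 0 → ∃ s, φ s ≠ 0 ∧ r * s = 0 := by
    intro r hr
    obtain ⟨c, h, hc, hrs⟩ := hannR r
    refine ⟨_, ?_, hrs⟩
    rw [map_add, map_mul, hr, zero_mul, add_zero, hφB]
    exact (_root_.map_ne_zero _).mpr hc
  have hinv : ∀ r, φ r ≠ 0 → ∃ r', φ r * φ r' = 1 := by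
    intro r hr
    obtain ⟨c, h, hc, hrs⟩ := hannR r
    refine ⟨algebraMap kB R (-c⁻¹) * h, ?_⟩
    have h1 := congrArg φ hrs
    rw [map_mul, map_zero, mul_eq_zero, map_add, map_mul, hφB] at h1
    have h2 := h1.resolve_left hr
    rw [map_mul, hφB, map_neg, map_inv₀]
    have hc' : algebraMap kB kW c ≠ 0 := (_root_.map_ne_zero _).mpr hc
    linear_combination (-(algebraMap kB kW c)⁻¹) * h2 + inv_mul_cancel₀ hc'
  let ι : V →+* T₀[X] := Polynomial.C.comp Algebra.TensorProduct.includeLeftRingHom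
  have hι : ∀ c : V, ((ψ (ι c) : W) : M) = f c := fun c => by
    change ((eval₂ ψ₀.toRingHom zW (Polynomial.C (c ⊗ₜ[A] (1 : B))) : W) : M) = f c
    rw [eval₂_C]
    change ((ψ₀ (c ⊗ₜ 1) : W) : M) = f c
    rw [hψ₀t, map_one, map_one, mul_one]
  have hψX : ((ψ X : W) : M) = z := by
    change ((eval₂ ψ₀.toRingHom zW X : W) : M) = z
    rw [eval₂_X]
  have hψC : ∀ (c : V) (b : B), ((ψ (Polynomial.C (c ⊗ₜ b)) : W) : M) = f c * j (algebraMap B L b) := fun c b => by
    change ((eval₂ ψ₀.toRingHom zW (Polynomial.C (c ⊗ₜ[A] b)) : W) : M) = _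
    rw [eval₂_C]; exact hψ₀t c b
  have hm1 : 1 ≤ m := by
    rcases Nat.eq_zero_or_pos m with rfl | h
    · exfalso
      rw [mul_zero, pow_zero, mul_one] at hπV
      exact (hG1.trans_le le_rfl).ne (by rw [hG, hπV]; exact (hVu _).mp u₁.isUnit)
    · exact h
  let Div : T₀[X] → Prop := fun y => ∃ y', ((ψ y : W) : M) = f ϖ₁ * (ψ y' : W)
  have hdivmul : ∀ r y, Div y → Div (r * y) := fun r y ⟨y', hy⟩ => ⟨r * y', by
    rw [map_mul, map_mul]; push_cast; rw [hy]; ring⟩
  have hdivadd : ∀ y₁ y₂, Div y₁ → Div y₂ → Div (y₁ + y₂) := fun y₁ y₂ ⟨a, ha⟩ ⟨b, hb⟩ => ⟨a + b, by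
    rw [map_add, map_add]; push_cast; rw [ha, hb]; ring⟩
  have hdivker : ∀ t : T₀, ρ₀ t = 0 → Div (Polynomial.C t) := by
    intro t ht
    have ht' : t ∈ RingHom.ker ρ' := by
      rw [RingHom.mem_ker]
      exact E.injective (ht.trans (map_zero E).symm)
    rw [Algebra.TensorProduct.map_ker _ _ hsV hsB] at ht'
    let I : Ideal T₀ :=
      { carrier := {t | Div (Polynomial.C t)}
        add_mem' := fun {a b} ha hb => by
          show Div (Polynomial.C (a + b))
          rw [map_add]; exact hdivadd _ _ ha hb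
        zero_mem' := ⟨0, by simp⟩
        smul_mem' := fun r a ha => by
          show Div (Polynomial.C (r * a))
          rw [map_mul]; exact hdivmul _ _ ha }
    refine (sup_le ?_ ?_ : _ ≤ I) ht'
    · rw [Ideal.map_le_iff_le_comap]
      intro c hc
      have hc' : c ∈ IsLocalRing.maximalIdeal V := (IsLocalRing.residue_eq_zero_iff c).mp hc
      rw [hirr.maximalIdeal_eq, Ideal.mem_span_singleton] at hc'
      obtain ⟨q, rfl⟩ := hc'
      refine ⟨ι q, ?_⟩
      show ((ψ (Polynomial.C ((ϖ₁ * q) ⊗ₜ[A] (1 : B))) : W) : M) = _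
      rw [hψC, hι, map_one, map_one, mul_one]
      push_cast
      rw [map_mul]
    · rw [Ideal.map_le_iff_le_comap]
      intro b hb
      have hb' : b ∈ IsLocalRing.maximalIdeal B := (IsLocalRing.residue_eq_zero_iff b).mp hb
      rw [hϖ.maximalIdeal_eq, Ideal.mem_span_singleton] at hb'
      obtain ⟨q, rfl⟩ := hb'
      refine ⟨ι (ϖ₁ ^ (m - 1)) * (X * Polynomial.C ((1 : V) ⊗ₜ q)), ?_⟩
      show ((ψ (Polynomial.C ((1 : V) ⊗ₜ[A] (ϖ * q))) : W) : M) = _
      have key : f ϖ₁ * f ϖ₁ ^ (m - 1) * z = j (algebraMap B L ϖ) := by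
        rw [← pow_succ', Nat.sub_add_cancel hm1, hz, mul_div_cancel₀ _ (pow_ne_zero _ hfϖ₁)]
      have hq : ((ψ (Polynomial.C ((1 : V) ⊗ₜ[A] q)) : W) : M) = j (algebraMap B L q) := by rw [hψC]; simp [f]
      simp only [map_mul ψ, MulMemClass.coe_mul, hq, hψC, hψX, hι, SubmonoidClass.coe_pow, map_mul, map_pow, OneMemClass.coe_one, map_one, one_mul]
      erw [hq]
      linear_combination -(j (algebraMap B L q)) * key
  have hψΦ : ψ (X ^ e - Polynomial.C c₀) = 0 := by
    change eval₂ ψ₀.toRingHom zW (X ^ e - Polynomial.C c₀) = 0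
    rw [eval₂_sub, eval₂_X_pow, eval₂_C, sub_eq_zero]
    exact hψc₀.symm
  have hker : ∀ y, ρ y = 0 → ∃ (c : V) (y' : T₀[X]), c ∈ IsLocalRing.maximalIdeal V ∧
      ((ψ y : W) : M) = f c * (ψ y' : W) := by
    intro y hy
    obtain ⟨q', hq'⟩ := (AdjoinRoot.mk_eq_zero).mp hy
    obtain ⟨q, rfl⟩ := Polynomial.map_surjective ρ₀ hρ₀s q'
    have hcoeff : ∀ i, ρ₀ ((y - (X ^ e - Polynomial.C c₀) * q).coeff i) = 0 := fun i => by
      rw [← coeff_map, Polynomial.map_sub, Polynomial.map_mul, Polynomial.map_sub, Polynomial.map_pow, Polynomial.map_X,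
        Polynomial.map_C]
      rw [show y.map ρ₀ = Φ * q.map ρ₀ from hq']
      simp [Φ, cbar]
    have hD : Div (y - (X ^ e - Polynomial.C c₀) * q) := by
      rw [Polynomial.as_sum_range_C_mul_X_pow (y - (X ^ e - Polynomial.C c₀) * q)]
      refine Finset.sum_induction _ Div hdivadd ⟨0, by simp⟩ fun i _ => ?_
      rw [mul_comm]
      exact hdivmul _ _ (hdivker _ (hcoeff i))
    obtain ⟨y', hy'⟩ := hD
    refine ⟨ϖ₁, y', (IsLocalRing.mem_maximalIdeal _).mpr hirr.not_isUnit, ?_⟩
    rw [← hy']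
    congr 1
    refine (((RingHom.map_sub ψ y ((X ^ e - Polynomial.C c₀) * q)).trans (congrArg (ψ y - ·) ((RingHom.map_mul ψ _ q).trans (by rw [hψΦ, zero_mul])))).trans (sub_zero _)).symm
  have hgen : ∀ x : M, ∃ (k : K₁) (y : T₀[X]), x = f k * (ψ y : W) := by
    refine WeakSol.exists_gen (S := T₀[X]) f W hadj ψ ι hι fun l => ?_
    by_cases hl : l = 0
    · exact ⟨0, 0, by simp [hl]⟩
    obtain ⟨a, b, hb, rfl⟩ := IsFractionRing.div_surjective (A := B) l
    have ha0 : a ≠ 0 := fun h => hl (by rw [h, map_zero, zero_div])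
    obtain ⟨na, xa, rfl⟩ := IsDiscreteValuationRing.eq_unit_mul_pow_irreducible ha0 hϖ
    obtain ⟨nb, xb, rfl⟩ := IsDiscreteValuationRing.eq_unit_mul_pow_irreducible (nonZeroDivisors.ne_zero hb) hϖ
    let zi : T₀[X] := Polynomial.C (((u₁⁻¹ : Vˣ) : V) ⊗ₜ[A] (uB : B)) * X ^ (e - 1)
    have hzi : z * ((ψ zi : W) : M) = 1 := by
      have h1 : f ((u₁⁻¹ : Vˣ) : V) * f ((u₁ : Vˣ) : V) = 1 := by
        rw [← map_mul, ← MulMemClass.coe_mul, Units.inv_mul]; exact map_one f
      have h2 : j (algebraMap B L uB) * j (algebraMap B L ((uB⁻¹ : Bˣ) : B)) = 1 := by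
        rw [← map_mul, ← map_mul, Units.mul_inv, map_one, map_one]
      rw [map_mul, map_pow]
      push_cast
      rw [hψC, hψX]
      have h3 : z * z ^ (e - 1) = z ^ e := by rw [← pow_succ', Nat.sub_add_cancel (Nat.pos_of_ne_zero he0)]
      linear_combination (f ((u₁⁻¹ : Vˣ) : V) * j (algebraMap B L uB)) * (h3.trans hze) +
        (j (algebraMap B L uB) * j (algebraMap B L ((uB⁻¹ : Bˣ) : B))) * h1 + h2
    have hxb : j (algebraMap B L ((xb⁻¹ : Bˣ) : B)) * j (algebraMap B L (xb : B)) = 1 := by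
      rw [← map_mul, ← map_mul, Units.inv_mul, map_one, map_one]
    refine ⟨((ϖ₁ : K₁) ^ m) ^ na / ((ϖ₁ : K₁) ^ m) ^ nb,
      Polynomial.C ((1 : V) ⊗ₜ ((xa : B) * ((xb⁻¹ : Bˣ) : B))) * X ^ na * zi ^ nb, ?_⟩
    rw [map_mul ψ, map_mul ψ, map_pow ψ, map_pow ψ]
    rw [MulMemClass.coe_mul, MulMemClass.coe_mul, SubmonoidClass.coe_pow, SubmonoidClass.coe_pow, hψC, hψX,
      eq_inv_of_mul_eq_one_right hzi, OneMemClass.coe_one, map_one f, one_mul]
    have hz0 : z ≠ 0 := fun h => by rw [h, map_zero] at hvz; exact zero_ne_one hvz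
    have hxb0 : j (algebraMap B L (xb : B)) ≠ 0 := fun h => by rw [h, mul_zero] at hxb; exact zero_ne_one hxb
    have hjw : j (algebraMap B L ϖ) = z * f ϖ₁ ^ m := (div_mul_cancel₀ _ (pow_ne_zero _ hfϖ₁)).symm
    show j _ = _
    simp only [map_div₀, map_mul, map_pow]
    rw [eq_inv_of_mul_eq_one_left hxb, hjw]
    field_simp
    have hzz : z ^ nb * z⁻¹ ^ nb = 1 := by rw [← mul_pow, mul_inv_cancel₀ hz0, one_pow]
    linear_combination -(z ^ na * f ϖ₁ ^ (m * na) * f ϖ₁ ^ (m * nb)) * hzz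
  obtain ⟨hwu, hsurj⟩ := WeakSol.main (S := T₀[X]) (R := R) f W ψ ι hι ρ hρs φ hφρ hker hloc hinv (algebraMap A M π) hG0 hG1 d hd
    (fun c hc hc1 => WeakSol.values_bound (K := K) hπ hdom hc hc1) hgen
  refine ⟨hwu, ?_⟩
  haveI : IsReduced (AlgebraicClosure kV ⊗[kV] R) := by
    let Ω := AlgebraicClosure kV
    haveI : IsReduced (Ω ⊗[kV] T) :=
      isReduced_of_injective _ (Algebra.TensorProduct.cancelBaseChange kA kV Ω Ω kB).injective
    haveI : IsReduced (T ⊗[kV] Ω) := isReduced_of_injective _ (Algebra.TensorProduct.comm kV T Ω).injective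
    haveI : IsReduced ((T ⊗[kV] Ω) ⊗[T] R) := HenselLib.isReduced_of_etale (T ⊗[kV] Ω) ((T ⊗[kV] Ω) ⊗[T] R)
    haveI : IsReduced (R ⊗[T] (T ⊗[kV] Ω)) :=
      isReduced_of_injective _ (Algebra.TensorProduct.comm T R (T ⊗[kV] Ω)).injective
    haveI : IsReduced (R ⊗[kV] Ω) :=
      isReduced_of_injective _ (Algebra.TensorProduct.cancelBaseChange kV T T R Ω).symm.injective
    exact isReduced_of_injective _ (Algebra.TensorProduct.comm kV Ω R).injective
  have h7 : Algebra.IsGeometricallyReduced kV kW := WeakSol.geomReduced_factor φV hsurj hloc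
  convert h7 using 1
  all_goals first
    | rfl
    | (refine Algebra.algebra_ext (R := kV) (A := kW) _ _ (fun r => ?_)
       obtain ⟨r, rfl⟩ := IsLocalRing.residue_surjective (R := V) r
       rfl)

end Groth.Agent.S1982
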