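import Groth.Statements.S1983
import Mathlib.RingTheory.Nilpotent.GeometricallyReduced
import Mathlib.LinearAlgebra.TensorProduct.RightExactness
import Mathlib.RingTheory.TensorProduct.Quotient
import Mathlib.RingTheory.Valuation.LocalSubring
import Mathlib.FieldTheory.Minpoly.Finite
-- import your own Groth.Agent.* helpers here

set_option autoImplicit false
set_option linter.all false
universe u
open EtAlg
open TensorProduct

namespace Groth.Agent.S1983

open Polynomial in
/-- A factor of a zero-dimensional reduced algebra is a localisation. -/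
theorem exists_annihilator {F R Q : Type u} [Field F] [CommRing R] [IsReduced R] [Algebra F R] [Algebra.IsIntegral F R]
    [CommRing Q] [Nontrivial Q] [Algebra F Q] (φ : R →ₐ[F] Q) (r : R) :
    ∃ (c : F) (h : R), c ≠ 0 ∧ r * (algebraMap F R c + r * h) = 0 := by
  obtain ⟨P, hPm, hP⟩ := Algebra.IsIntegral.isIntegral (R := F) r
  obtain ⟨g, hg, hg0⟩ := exists_eq_pow_rootMultiplicity_mul_and_not_dvd P hPm.ne_zero 0
  rw [C_0, sub_zero] at hg hg0
  rw [X_dvd_iff] at hg0
  refine ⟨g.coeff 0, aeval r g.divX, hg0, ?_⟩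
  have h1 : aeval r g = algebraMap F R (g.coeff 0) + r * aeval r g.divX := by
    conv_lhs => rw [← X_mul_divX_add g]
    rw [map_add, map_mul, aeval_X, aeval_C, add_comm]
  rw [← h1]
  refine IsNilpotent.eq_zero ⟨P.rootMultiplicity 0 + 1, ?_⟩
  have h2 : r ^ P.rootMultiplicity 0 * aeval r g = 0 := by
    have := congrArg (aeval r) hg
    rw [map_mul, map_pow, aeval_X] at this
    rw [← this]; exact hP
  calc (r * aeval r g) ^ (P.rootMultiplicity 0 + 1)
      = (r ^ P.rootMultiplicity 0 * aeval r g) * (r * (aeval r g) ^ P.rootMultiplicity 0) := by ring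
    _ = 0 := by rw [h2, zero_mul]

/-- The fields through which a reduced zero-dimensional base change surjects are geometrically reduced. -/
theorem geomReduced_factor {kA kB kV kW : Type u} [Field kA] [Field kB] [Field kV] [Field kW] [Algebra kA kB]
    [Algebra kA kV] [Algebra.IsAlgebraic kA kV] [Algebra.IsGeometricallyReduced kA kB] [Algebra kV kW]
    (φ : kV ⊗[kA] kB →ₐ[kV] kW) (hφ : Function.Surjective φ)
    (hloc : ∀ r : kV ⊗[kA] kB, φ r = 0 → ∃ s, φ s ≠ 0 ∧ r * s = 0) :
    Algebra.IsGeometricallyReduced kV kW := by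
  rw [Algebra.isGeometricallyReduced_field_iff]
  let Ω := AlgebraicClosure kV
  haveI : Algebra.IsAlgebraic kA Ω := Algebra.IsAlgebraic.trans kA kV Ω
  haveI : IsReduced (Ω ⊗[kV] (kV ⊗[kA] kB)) :=
    isReduced_of_injective _ (Algebra.TensorProduct.cancelBaseChange kA kV Ω Ω kB).injective
  let F : Ω ⊗[kV] (kV ⊗[kA] kB) →ₐ[kV] Ω ⊗[kV] kW := Algebra.TensorProduct.map (AlgHom.id kV Ω) φ
  have hker : ∀ y, y ∈ RingHom.ker F → ∃ s, φ s ≠ 0 ∧ y * (1 ⊗ₜ s) = 0 := by
    intro y hy
    rw [Algebra.TensorProduct.lTensor_ker φ hφ, Ideal.map] at hy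
    induction hy using Submodule.span_induction with
    | mem x hx =>
      obtain ⟨r, hr, rfl⟩ := hx
      obtain ⟨s, hs, hrs⟩ := hloc r hr
      refine ⟨s, hs, ?_⟩
      change (1 ⊗ₜ r) * (1 ⊗ₜ s) = 0
      rw [Algebra.TensorProduct.tmul_mul_tmul, hrs, TensorProduct.tmul_zero]
    | zero => exact ⟨1, by rw [map_one]; exact one_ne_zero, zero_mul _⟩
    | add a b _ _ ha hb =>
      obtain ⟨s, hs, has⟩ := ha
      obtain ⟨t, ht, hbt⟩ := hb
      refine ⟨s * t, by rw [map_mul]; exact mul_ne_zero hs ht, ?_⟩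
      rw [show (1 : Ω) ⊗ₜ[kV] (s * t) = (1 ⊗ₜ s) * (1 ⊗ₜ t) by rw [Algebra.TensorProduct.tmul_mul_tmul, mul_one]]
      linear_combination (1 ⊗ₜ[kV] t) * has + (1 ⊗ₜ[kV] s) * hbt
    | smul c a _ ha =>
      obtain ⟨s, hs, has⟩ := ha
      exact ⟨s, hs, by rw [smul_eq_mul, mul_assoc, has, mul_zero]⟩
  refine ⟨fun x hx => ?_⟩
  obtain ⟨t, rfl⟩ := LinearMap.lTensor_surjective Ω (g := φ.toLinearMap) hφ x
  obtain ⟨n, hn⟩ := hx
  obtain ⟨s, hs, hts⟩ := hker (t ^ n) (by rw [RingHom.mem_ker, map_pow]; exact hn)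
  have h0 : t * (1 ⊗ₜ s) = 0 := IsNilpotent.eq_zero ⟨n + 1, by
    calc (t * (1 ⊗ₜ[kV] s)) ^ (n + 1) = t ^ n * (1 ⊗ₜ[kV] s) * (t * (1 ⊗ₜ[kV] s) ^ n) := by ring
      _ = 0 := by rw [hts, zero_mul]⟩
  have h1 : F t * F (1 ⊗ₜ s) = 0 := by rw [← map_mul, h0, map_zero]
  have hu : IsUnit (F (1 ⊗ₜ s)) := by
    refine IsUnit.of_mul_eq_one (1 ⊗ₜ (φ s)⁻¹) ?_
    change ((1 : Ω) ⊗ₜ[kV] φ s) * (1 ⊗ₜ (φ s)⁻¹) = 1
    rw [Algebra.TensorProduct.tmul_mul_tmul, mul_one, mul_inv_cancel₀ hs, Algebra.TensorProduct.one_def]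
  exact hu.mul_left_eq_zero.mp h1

/-- Suppose A -> B makes the discrete valuation ring B an extension of the discrete valuation ring A,
with fraction fields K ⊂ L, and that this extension is weakly unramified with separable, i.e.
geometrically reduced and possibly transcendental, residue field extension (formally smooth for the
adic topology). Then every finite extension K₁/K is a solution for A -> B. -/
theorem result (A B K L : Type u) [CommRing A] [IsDomain A] [IsDiscreteValuationRing A]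
    [CommRing B] [IsDomain B] [IsDiscreteValuationRing B] [Algebra A B] [IsLocalHom (algebraMap A B)]
    (hinj : Function.Injective (algebraMap A B))
    [Field K] [Field L] [Algebra A K] [IsFractionRing A K] [Algebra B L] [IsFractionRing B L]
    [Algebra K L] [Algebra A L] [IsScalarTower A K L] [IsScalarTower A B L]
    (hw : EtRam.IsWeaklyUnramified A B) [Algebra.IsGeometricallyReduced (IsLocalRing.ResidueField A) (IsLocalRing.ResidueField B)]
    (K₁ : Type u) [Field K₁] [Algebra K K₁] [FiniteDimensional K K₁] : EtRam.IsSolution B K L K₁ := by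
  classical
  intro M _ _ _ _ _ _ hadj W hW
  let f := algebraMap K₁ M
  let j := algebraMap L M
  let v := W.valuation
  let V := W.comap f
  obtain ⟨π, hπ⟩ := IsDiscreteValuationRing.exists_irreducible A
  have hπB : Irreducible (algebraMap A B π) := by
    rw [IsDiscreteValuationRing.irreducible_iff_uniformizer, ← hw, hπ.maximalIdeal_eq, Ideal.map_span, Set.image_singleton]
  let aM : A → M := fun a => j (algebraMap B L (algebraMap A B a))
  have hcomm : ∀ a : A, f (algebraMap K K₁ (algebraMap A K a)) = j (algebraMap B L (algebraMap A B a)) := fun a => by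
    rw [← IsScalarTower.algebraMap_apply K K₁ M, IsScalarTower.algebraMap_apply K L M,
      ← IsScalarTower.algebraMap_apply A K L, ← IsScalarTower.algebraMap_apply A B L]
  let gB : B →+* W := RingHom.codRestrict ((algebraMap L M).comp (algebraMap B L)) W.toSubring hW.1
  letI : Algebra B W := gB.toAlgebra
  letI : Algebra A W := (gB.comp (algebraMap A B)).toAlgebra
  haveI : IsScalarTower A B W := IsScalarTower.of_algebraMap_eq fun _ => rfl
  haveI : IsLocalHom (algebraMap B W) := ⟨fun b hb => by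
    by_contra h
    have h1 := hW.2 b ((IsLocalRing.mem_maximalIdeal b).mpr h)
    exact ((W.valuation_lt_one_iff (gB b)).mpr h1) hb⟩
  have hAV : ∀ a : A, algebraMap K K₁ (algebraMap A K a) ∈ V := fun a => by
    show f _ ∈ W
    rw [hcomm]; exact hW.1 _
  let gA : A →+* V := RingHom.codRestrict ((algebraMap K K₁).comp (algebraMap A K)) V.toSubring hAV
  letI : Algebra A V := gA.toAlgebra
  letI aVW : Algebra V W := (EtRam.inclOfComap W f).toAlgebra
  haveI : IsScalarTower A V W := IsScalarTower.of_algebraMap_eq fun a => Subtype.ext (hcomm a).symm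
  haveI hlocVW : IsLocalHom (algebraMap V W) := EtRam.isLocalHom_inclOfComap W f
  haveI : IsLocalHom (algebraMap A W) := by
    rw [IsScalarTower.algebraMap_eq A B W]; exact RingHom.isLocalHom_comp _ _
  haveI : IsLocalHom (algebraMap A V) := by
    refine ⟨fun a ha => ?_⟩
    refine isUnit_of_map_unit (algebraMap A W) a ?_
    rw [IsScalarTower.algebraMap_apply A V W]; exact ha.map _
  set G := v (j (algebraMap B L (algebraMap A B π))) with hG
  have hG1 : G < 1 := hW.2 _ ((IsLocalRing.mem_maximalIdeal _).mpr hπB.not_isUnit)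
  have hπM : j (algebraMap B L (algebraMap A B π)) ≠ 0 :=
    (map_ne_zero _).mpr ((map_ne_zero_iff _ (IsFractionRing.injective B L)).mpr hπB.ne_zero)
  have hG0 : 0 < G := zero_lt_iff.mpr ((Valuation.ne_zero_iff _).mpr hπM)
  have hbunit : ∀ b : Bˣ, v (j (algebraMap B L b)) = 1 := fun b =>
    (W.valuation_eq_one_iff (gB b)).mp (b.isUnit.map gB)
  have hL : ∀ l : L, l ≠ 0 → ∃ (m : ℤ) (u : Bˣ), j l = j (algebraMap B L (algebraMap A B π)) ^ m * j (algebraMap B L u) := by
    intro l hl
    obtain ⟨a, b, hb, rfl⟩ := IsFractionRing.div_surjective (A := B) l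
    have ha0 : a ≠ 0 := fun h => hl (by rw [h, map_zero, zero_div])
    obtain ⟨m, x, rfl⟩ := IsDiscreteValuationRing.eq_unit_mul_pow_irreducible ha0 hπB
    obtain ⟨n, y, rfl⟩ := IsDiscreteValuationRing.eq_unit_mul_pow_irreducible (nonZeroDivisors.ne_zero hb) hπB
    refine ⟨(m : ℤ) - n, x * y⁻¹, ?_⟩
    have hy : j (algebraMap B L ((y⁻¹ : Bˣ) : B)) * j (algebraMap B L (y : B)) = 1 := by
      rw [← map_mul, ← map_mul, Units.inv_mul, map_one, map_one]
    rw [zpow_sub₀ hπM, zpow_natCast, zpow_natCast, map_div₀, map_mul, map_mul, map_mul, map_mul, map_pow, map_pow,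
      map_pow, map_pow, Units.val_mul, map_mul, map_mul, eq_inv_of_mul_eq_one_left hy]
    ring
  let d := Module.finrank K K₁
  have hd : 0 < d := Module.finrank_pos
  -- values on `K₁`
  have hK₁ : ∀ c : K₁, c ≠ 0 → v (f c) < 1 → v (f c) ^ d ≤ G ∧ ∃ N : ℕ, G ^ N ≤ v (f c) := by
    intro c hc hc1
    let P := minpoly K c
    have hint : IsIntegral K c := Algebra.IsIntegral.isIntegral c
    let term : ℕ → M := fun i => j (algebraMap K L (P.coeff i)) * f c ^ i
    have hterm : ∀ i, f (P.coeff i • c ^ i) = term i := fun i => by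
      rw [Algebra.smul_def, map_mul, map_pow, ← IsScalarTower.algebraMap_apply K K₁ M, IsScalarTower.algebraMap_apply K L M]
    have hval : ∀ i, P.coeff i ≠ 0 → ∃ m : ℤ, v (term i) = G ^ m * v (f c) ^ i := by
      intro i hi
      obtain ⟨m, u, hm⟩ := hL (algebraMap K L (P.coeff i)) ((map_ne_zero _).mpr hi)
      exact ⟨m, by rw [map_mul, hm, map_mul, map_zpow₀, hbunit, mul_one, map_pow]⟩
    obtain ⟨k, hk, hmax⟩ := Finset.exists_max_image ((Finset.range (P.natDegree + 1)).filter fun i => P.coeff i ≠ 0)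
      (fun i => v (term i)) ⟨P.natDegree, by simp [(minpoly.monic hint).coeff_natDegree, P]⟩
    obtain ⟨hkr, hk0⟩ := Finset.mem_filter.mp hk
    have htk : term k ≠ 0 := mul_ne_zero ((map_ne_zero _).mpr ((map_ne_zero _).mpr hk0)) (pow_ne_zero _ ((map_ne_zero _).mpr hc))
    obtain ⟨i, hir, hik, hieq⟩ : ∃ i ∈ Finset.range (P.natDegree + 1), i ≠ k ∧ (P.coeff i ≠ 0 ∧ v (term i) = v (term k)) := by
      by_contra hno
      push Not at hno
      have hsum : v (∑ i ∈ Finset.range (P.natDegree + 1), term i) = v (term k) := by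
        refine v.map_sum_eq_of_lt hkr fun i hi => ?_
        obtain ⟨hi, hne⟩ := Finset.mem_sdiff.mp hi
        have hne : i ≠ k := by simpa using hne
        by_cases h0 : P.coeff i = 0
        · simp only [term, h0, map_zero, zero_mul]
          exact zero_lt_iff.mpr ((Valuation.ne_zero_iff _).mpr htk)
        · exact lt_of_le_of_ne (hmax i (Finset.mem_filter.mpr ⟨hi, h0⟩)) (hno i hi hne h0)
      have hz : ∑ i ∈ Finset.range (P.natDegree + 1), term i = 0 := by
        simp only [← hterm, ← map_sum, ← Polynomial.aeval_eq_sum_range]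
        rw [minpoly.aeval, map_zero]
      rw [hz, map_zero] at hsum
      exact (Valuation.ne_zero_iff _).mpr htk hsum.symm
    obtain ⟨m₁, hm₁⟩ := hval i hieq.1
    obtain ⟨m₂, hm₂⟩ := hval k hk0
    have hdeg : P.natDegree ≤ d := minpoly.natDegree_le c
    have hg0 : 0 < v (f c) := zero_lt_iff.mpr ((Valuation.ne_zero_iff _).mpr ((map_ne_zero _).mpr hc))
    -- the two equal terms
    suffices ∀ (a b : ℕ) (m n : ℤ), a < b → b ≤ d → G ^ m * v (f c) ^ a = G ^ n * v (f c) ^ b →
        v (f c) ^ d ≤ G ∧ ∃ N : ℕ, G ^ N ≤ v (f c) by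
      have h := hieq.2
      rw [hm₁, hm₂] at h
      rcases Nat.lt_or_gt_of_ne hik with h' | h'
      · exact this i k m₁ m₂ h' (by have := Finset.mem_range.mp hkr; omega) h
      · exact this k i m₂ m₁ h' (by have := Finset.mem_range.mp hir; omega) h.symm
    intro a b m n hab hbd heq
    have hpow : v (f c) ^ (b - a) = G ^ (m - n) := by
      rw [zpow_sub₀ hG0.ne', eq_div_iff (zpow_ne_zero _ hG0.ne')]
      refine mul_right_cancel₀ (pow_ne_zero a hg0.ne') ?_
      rw [heq, mul_right_comm, ← pow_add, Nat.sub_add_cancel hab.le, mul_comm]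
    have hlt : G ^ (m - n) < G ^ (0 : ℤ) := by
      rw [← hpow, zpow_zero]; exact pow_lt_one₀ hg0.le hc1 (by omega)
    have hpos : 0 < m - n := (zpow_right_strictAnti₀ hG0 hG1).lt_iff_gt.mp hlt
    refine ⟨?_, (m - n).toNat, ?_⟩
    · calc v (f c) ^ d ≤ v (f c) ^ (b - a) := pow_le_pow_right_of_le_one' hc1.le (by omega)
        _ = G ^ (m - n) := hpow
        _ ≤ G ^ (1 : ℤ) := (zpow_right_strictAnti₀ hG0 hG1).antitone (by omega)
        _ = G := zpow_one G
    · rw [← zpow_natCast, Int.toNat_of_nonneg (by omega), ← hpow]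
      exact (pow_le_pow_right_of_le_one' hc1.le (show 1 ≤ b - a by omega)).trans (pow_one _).le
  -- the ring generated by `B` and `V`
  let ψ : V ⊗[A] B →ₐ[A] W := Algebra.TensorProduct.lift (IsScalarTower.toAlgHom A V W) (IsScalarTower.toAlgHom A B W)
    (fun _ _ => Commute.all _ _)
  have hψt : ∀ (c : V) (b : B), ((ψ (c ⊗ₜ b) : W) : M) = f c * j (algebraMap B L b) := fun c b => by
    simp only [ψ, Algebra.TensorProduct.lift_tmul]; rfl
  have hcoe : ∀ y, v ((ψ y : W) : M) ≤ 1 := fun y => W.valuation_le_one _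
  -- residues
  let kA := IsLocalRing.ResidueField A
  let kB := IsLocalRing.ResidueField B
  let kV := IsLocalRing.ResidueField V
  let kW := IsLocalRing.ResidueField W
  haveI : IsScalarTower kA kV kW := IsScalarTower.of_algebraMap_eq fun x => by
    obtain ⟨a, rfl⟩ := IsLocalRing.residue_surjective x
    change IsLocalRing.residue W (algebraMap A W a) = IsLocalRing.residue W (algebraMap V W (algebraMap A V a))
    rw [← IsScalarTower.algebraMap_apply]
  haveI : IsScalarTower kA kB kW := IsScalarTower.of_algebraMap_eq fun x => by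
    obtain ⟨a, rfl⟩ := IsLocalRing.residue_surjective x
    change IsLocalRing.residue W (algebraMap A W a) = IsLocalRing.residue W (algebraMap B W (algebraMap A B a))
    rw [← IsScalarTower.algebraMap_apply]
  let φ : kV ⊗[kA] kB →ₐ[kV] kW := Algebra.TensorProduct.lift (Algebra.ofId kV kW) (IsScalarTower.toAlgHom kA kB kW)
    (fun _ _ => Commute.all _ _)
  haveI : Algebra.IsAlgebraic kA kV := ⟨fun x => by
    obtain ⟨c, rfl⟩ := IsLocalRing.residue_surjective x
    obtain ⟨Q, hQ, hQc⟩ : ∃ Q : Polynomial A, (∃ i, IsUnit (Q.coeff i)) ∧ Polynomial.aeval (c : V) Q = 0 := by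
      let P := minpoly K (c : K₁)
      have hint : IsIntegral K (c : K₁) := Algebra.IsIntegral.isIntegral _
      obtain ⟨⟨b, hb⟩, hbP⟩ := IsLocalization.integerNormalization_map_to_map (nonZeroDivisors A) P
      set Q₀ := IsLocalization.integerNormalization (nonZeroDivisors A) P with hQ₀
      have hQ0 : Q₀ ≠ 0 := fun h => by
        rw [h, Polynomial.map_zero, eq_comm, Algebra.smul_def, mul_eq_zero] at hbP
        rcases hbP with h' | h'
        · rw [Polynomial.algebraMap_apply, Polynomial.C_eq_zero] at h'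
          exact nonZeroDivisors.ne_zero hb ((map_eq_zero_iff _ (IsFractionRing.injective A K)).mp h')
        · exact minpoly.ne_zero hint h'
      -- strip the content
      obtain ⟨k, hk, hmax⟩ := Finset.exists_max_image Q₀.support (fun i => v (j (algebraMap B L (algebraMap A B (Q₀.coeff i)))))
        (Polynomial.support_nonempty.mpr hQ0)
      obtain ⟨m, u, hmu⟩ := IsDiscreteValuationRing.eq_unit_mul_pow_irreducible (Polynomial.mem_support_iff.mp hk) hπ
      have hdvd : ∀ i, π ^ m ∣ Q₀.coeff i := by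
        intro i
        by_cases hi : Q₀.coeff i = 0
        · rw [hi]; exact dvd_zero _
        obtain ⟨n, w, hnw⟩ := IsDiscreteValuationRing.eq_unit_mul_pow_irreducible hi hπ
        have h := hmax i (Polynomial.mem_support_iff.mpr hi)
        have hu' : ∀ (w : Aˣ) (n : ℕ), v (j (algebraMap B L (algebraMap A B ((w : A) * π ^ n)))) = G ^ n := fun w n => by
          simp only [map_mul, map_pow]
          rw [show algebraMap A B (w : A) = ((Units.map (algebraMap A B).toMonoidHom w : Bˣ) : B) from rfl, hbunit, one_mul]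
        simp only [hnw, hmu, hu'] at h
        rw [hnw]
        exact dvd_mul_of_dvd_right (pow_dvd_pow π ((pow_le_pow_iff_right_of_lt_one₀ hG0 hG1).mp h)) _
      obtain ⟨Q, hQ⟩ := (Polynomial.C_dvd_iff_dvd_coeff _ _).mpr hdvd
      refine ⟨Q, ⟨k, ?_⟩, ?_⟩
      · have h := congrArg (fun q => Polynomial.coeff q k) hQ
        simp only [Polynomial.coeff_C_mul, hmu] at h
        rw [mul_comm, mul_right_inj' (pow_ne_zero _ hπ.ne_zero)] at h
        exact h ▸ u.isUnit
      · have hz : Polynomial.aeval (c : K₁) (Q₀.map (algebraMap A K)) = 0 := by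
          rw [hbP, Algebra.smul_def, map_mul, minpoly.aeval, mul_zero]
        letI : Algebra A K₁ := ((algebraMap K K₁).comp (algebraMap A K)).toAlgebra
        haveI : IsScalarTower A K K₁ := IsScalarTower.of_algebraMap_eq fun _ => rfl
        haveI : IsScalarTower A V K₁ := IsScalarTower.of_algebraMap_eq fun _ => rfl
        rw [Polynomial.aeval_map_algebraMap, hQ, map_mul, Polynomial.aeval_C, mul_eq_zero] at hz
        rcases hz with h | h
        · rw [IsScalarTower.algebraMap_apply A K K₁] at h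
          exact absurd h ((map_ne_zero _).mpr ((map_ne_zero_iff _ (IsFractionRing.injective A K)).mpr (pow_ne_zero _ hπ.ne_zero)))
        · exact Subtype.ext ((Polynomial.aeval_algebraMap_apply K₁ c Q).symm.trans h)
    obtain ⟨i, hi⟩ := hQ
    refine ⟨Q.map (IsLocalRing.residue A), fun h => ?_, ?_⟩
    · have h2 := congrArg (fun q => Polynomial.coeff q i) h
      simp only [Polynomial.coeff_map, Polynomial.coeff_zero] at h2
      exact (IsLocalRing.mem_maximalIdeal _).mp ((IsLocalRing.residue_eq_zero_iff _).mp h2) hi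
    · rw [Polynomial.aeval_def, Polynomial.eval₂_map]
      have h3 := congrArg (IsLocalRing.residue V) hQc
      rw [map_zero, Polynomial.aeval_def, Polynomial.hom_eval₂] at h3
      exact h3⟩
  haveI : IsReduced (kV ⊗[kA] kB) := inferInstance
  letI : Algebra kB (kV ⊗[kA] kB) := Algebra.TensorProduct.rightAlgebra
  haveI : Algebra.IsIntegral kA kV := Algebra.IsAlgebraic.isIntegral
  haveI : Algebra.IsIntegral kB (kV ⊗[kA] kB) := by
    constructor
    intro x
    induction x with
    | zero => exact isIntegral_zero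
    | add a b ha hb => exact ha.add hb
    | tmul c b =>
      have h1 : IsIntegral kB (c ⊗ₜ[kA] (1 : kB) : kV ⊗[kA] kB) :=
        (((Algebra.IsIntegral.isIntegral (R := kA) c).map (Algebra.TensorProduct.includeLeft : kV →ₐ[kA] kV ⊗[kA] kB))).tower_top
      have h2 := h1.mul (isIntegral_algebraMap (x := b))
      rwa [show (c ⊗ₜ[kA] (1 : kB)) * algebraMap kB (kV ⊗[kA] kB) b = c ⊗ₜ b by
        change (c ⊗ₜ[kA] (1 : kB)) * ((1 : kV) ⊗ₜ b) = _
        rw [Algebra.TensorProduct.tmul_mul_tmul, mul_one, one_mul]] at h2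
  let φB : kV ⊗[kA] kB →ₐ[kB] kW :=
    { φ.toRingHom with
      commutes' := fun b => by
        change φ ((1 : kV) ⊗ₜ b) = algebraMap kB kW b
        simp [φ] }
  have hann : ∀ r : kV ⊗[kA] kB, ∃ (c : kB) (h : kV ⊗[kA] kB), c ≠ 0 ∧ r * (algebraMap kB _ c + r * h) = 0 :=
    fun r => exists_annihilator φB r
  have hloc : ∀ r, φ r = 0 → ∃ s, φ s ≠ 0 ∧ r * s = 0 := by
    intro r hr
    obtain ⟨c, h, hc, hrs⟩ := hann r
    refine ⟨_, ?_, hrs⟩
    rw [map_add, map_mul, hr, zero_mul, add_zero, show φ (algebraMap kB _ c) = algebraMap kB kW c from φB.commutes c]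
    exact (map_ne_zero _).mpr hc
  have hinv : ∀ r, φ r ≠ 0 → ∃ r', φ r * φ r' = 1 := by
    intro r hr
    obtain ⟨c, h, hc, hrs⟩ := hann r
    refine ⟨algebraMap kB _ (-c⁻¹) * h, ?_⟩
    have h1 := congrArg φ hrs
    rw [map_mul, map_zero, mul_eq_zero, map_add, map_mul, show φ (algebraMap kB _ c) = algebraMap kB kW c from φB.commutes c] at h1
    have h2 := h1.resolve_left hr
    rw [map_mul, show φ (algebraMap kB _ (-c⁻¹)) = algebraMap kB kW (-c⁻¹) from φB.commutes _, map_neg, map_inv₀]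
    have hc' : algebraMap kB kW c ≠ 0 := (map_ne_zero _).mpr hc
    linear_combination (-(algebraMap kB kW c)⁻¹) * h2 + inv_mul_cancel₀ hc'
  -- reduction map
  let ρ : V ⊗[A] B →ₐ[A] kV ⊗[kA] kB := Algebra.TensorProduct.lift
    ((Algebra.TensorProduct.includeLeft : kV →ₐ[kA] kV ⊗[kA] kB).restrictScalars A |>.comp (IsScalarTower.toAlgHom A V kV))
    ((Algebra.TensorProduct.includeRight : kB →ₐ[kA] kV ⊗[kA] kB).restrictScalars A |>.comp (IsScalarTower.toAlgHom A B kB))
    (fun _ _ => Commute.all _ _)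
  have hρt : ∀ (c : V) (b : B), ρ (c ⊗ₜ b) = IsLocalRing.residue V c ⊗ₜ IsLocalRing.residue B b := fun c b => by
    simp [ρ, Algebra.TensorProduct.tmul_mul_tmul]
    rfl
  have hρs : Function.Surjective ρ := fun x => by
    induction x with
    | zero => exact ⟨0, map_zero _⟩
    | add a b ha hb => obtain ⟨a, rfl⟩ := ha; obtain ⟨b, rfl⟩ := hb; exact ⟨a + b, map_add _ _ _⟩
    | tmul c b =>
      obtain ⟨c, rfl⟩ := IsLocalRing.residue_surjective c
      obtain ⟨b, rfl⟩ := IsLocalRing.residue_surjective b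
      exact ⟨c ⊗ₜ b, hρt c b⟩
  have hφρ : ∀ y, φ (ρ y) = IsLocalRing.residue W (ψ y) := fun y => by
    induction y with
    | zero => simp
    | add a b ha hb => simp only [map_add, ha, hb]
    | tmul c b => simp [hρt, φ, ψ]; rfl
  let J : Ideal (V ⊗[A] B) := (IsLocalRing.maximalIdeal V).map (Algebra.TensorProduct.includeLeftRingHom : V →+* V ⊗[A] B)
  have hkerρ : ∀ y, ρ y = 0 → y ∈ J := by
    let qJ := Ideal.Quotient.mk J
    have hAJ : ∀ a : A, a ∈ IsLocalRing.maximalIdeal A → algebraMap A (V ⊗[A] B) a ∈ J := fun a ha => by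
      rw [IsScalarTower.algebraMap_apply A V (V ⊗[A] B)]
      exact Ideal.mem_map_of_mem _ ((IsLocalRing.mem_maximalIdeal _).mpr fun hu => (IsLocalRing.mem_maximalIdeal a).mp ha
        (isUnit_of_map_unit (algebraMap A V) a hu))
    let rA : kA →+* (V ⊗[A] B) ⧸ J := Ideal.Quotient.lift (IsLocalRing.maximalIdeal A) (qJ.comp (algebraMap A (V ⊗[A] B)))
      fun a ha => Ideal.Quotient.eq_zero_iff_mem.mpr (hAJ a ha)
    letI : Algebra kA ((V ⊗[A] B) ⧸ J) := @RingHom.toAlgebra kA ((V ⊗[A] B) ⧸ J) _ (Ideal.Quotient.commRing J).toCommSemiring rA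
    let rV : kV →ₐ[kA] (V ⊗[A] B) ⧸ J :=
      { Ideal.Quotient.lift (IsLocalRing.maximalIdeal V) (qJ.comp Algebra.TensorProduct.includeLeftRingHom)
          (fun c hc => Ideal.Quotient.eq_zero_iff_mem.mpr (Ideal.mem_map_of_mem _ hc)) with
        commutes' := fun x => by obtain ⟨a, rfl⟩ := IsLocalRing.residue_surjective x; rfl }
    let rB : kB →ₐ[kA] (V ⊗[A] B) ⧸ J :=
      { Ideal.Quotient.lift (IsLocalRing.maximalIdeal B) (qJ.comp (Algebra.TensorProduct.includeRight : B →ₐ[A] V ⊗[A] B).toRingHom)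
          (fun b hb => Ideal.Quotient.eq_zero_iff_mem.mpr (by
            rw [← hw] at hb
            refine (Ideal.map_le_iff_le_comap (K := J.comap (Algebra.TensorProduct.includeRight : B →ₐ[A] V ⊗[A] B).toRingHom)).mpr (fun b hb => ?_) hb
            show (Algebra.TensorProduct.includeRight : B →ₐ[A] V ⊗[A] B) (algebraMap A B b) ∈ J
            rw [AlgHom.commutes]; exact hAJ b hb)) with
        commutes' := fun x => by
          obtain ⟨a, rfl⟩ := IsLocalRing.residue_surjective x
          change qJ ((1 : V) ⊗ₜ algebraMap A B a) = qJ (algebraMap A V a ⊗ₜ 1)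
          congr 1
          rw [Algebra.algebraMap_eq_smul_one, Algebra.algebraMap_eq_smul_one, TensorProduct.smul_tmul] }
    let ω : kV ⊗[kA] kB →ₐ[kA] (V ⊗[A] B) ⧸ J := Algebra.TensorProduct.lift rV rB (fun x y => mul_comm (rV x) (rB y))
    have hω : ∀ y, ω (ρ y) = qJ y := fun y => by
      induction y with
      | zero => simp
      | add a b ha hb => simp only [map_add, ha, hb]
      | tmul c b =>
        rw [hρt]
        erw [Algebra.TensorProduct.lift_tmul]
        change qJ (c ⊗ₜ 1) * qJ (1 ⊗ₜ b) = qJ (c ⊗ₜ b)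
        rw [← map_mul, Algebra.TensorProduct.tmul_mul_tmul, mul_one, one_mul]
    intro y hy
    rw [← Ideal.Quotient.eq_zero_iff_mem]
    exact (hω y).symm.trans (by rw [hy, map_zero])
  have hJ : ∀ y ∈ J, ∃ c : V, c ∈ IsLocalRing.maximalIdeal V ∧ ∃ y', y = (c ⊗ₜ 1) * y' := by
    intro y hy
    induction hy using Submodule.span_induction with
    | mem x hx => obtain ⟨c, hc, rfl⟩ := hx; exact ⟨c, hc, 1, (mul_one _).symm⟩
    | zero => exact ⟨0, zero_mem _, 0, by simp⟩
    | add a b _ _ ha hb =>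
      obtain ⟨c, hc, a', rfl⟩ := ha
      obtain ⟨e, he, b', rfl⟩ := hb
      rcases ValuationRing.cond c e with ⟨q, hq | hq⟩
      · exact ⟨c, hc, a' + (q ⊗ₜ 1) * b', by rw [← hq, mul_add, ← mul_assoc, Algebra.TensorProduct.tmul_mul_tmul, mul_one]⟩
      · exact ⟨e, he, (q ⊗ₜ 1) * a' + b', by rw [← hq, mul_add, ← mul_assoc, Algebra.TensorProduct.tmul_mul_tmul, mul_one]⟩
    | smul r a _ ha =>
      obtain ⟨c, hc, a', rfl⟩ := ha
      exact ⟨c, hc, r * a', by rw [smul_eq_mul]; ring⟩
  have hres1 : ∀ y, v ((ψ y : W) : M) = 1 ↔ φ (ρ y) ≠ 0 := fun y => by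
    rw [hφρ, IsLocalRing.residue_ne_zero_iff_isUnit]
    exact (W.valuation_eq_one_iff (ψ y)).symm
  have hψc : ∀ c : V, ((ψ (c ⊗ₜ 1) : W) : M) = f c := fun c => by rw [hψt, map_one, map_one, mul_one]
  have hVlt : ∀ c : V, c ∈ IsLocalRing.maximalIdeal V → v (f c) < 1 := fun c hc =>
    (W.valuation_lt_one_iff (algebraMap V W c)).mp ((IsLocalRing.mem_maximalIdeal _).mpr
      fun hu => (IsLocalRing.mem_maximalIdeal c).mp hc (IsLocalHom.map_nonunit (f := algebraMap V W) c hu))
  have hiter : ∀ (N : ℕ) (y : V ⊗[A] B), G ^ N ≤ v ((ψ y : W) : M) ^ d →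
      ∃ (c : V) (s n : V ⊗[A] B), v ((ψ s : W) : M) = 1 ∧ v ((ψ n : W) : M) = 1 ∧
        ((ψ y : W) : M) * (ψ s : W) = f c * (ψ n : W) := by
    intro N
    induction N with
    | zero =>
      intro y hy
      have h1 : v ((ψ y : W) : M) = 1 := by
        refine le_antisymm (hcoe y) (not_lt.mp fun hlt => ?_)
        rw [pow_zero] at hy
        exact (pow_lt_one₀ zero_le' hlt hd.ne').not_ge hy
      exact ⟨1, 1, y, by simp, h1, by simp⟩
    | succ N ih =>
      intro y hy
      rcases (hcoe y).lt_or_eq with hlt | heq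
      swap
      · exact ⟨1, 1, y, by simp, heq, by simp⟩
      obtain ⟨sb, hsb, hys⟩ := hloc (ρ y) (by by_contra h; exact hlt.ne ((hres1 y).mpr h))
      obtain ⟨s, rfl⟩ := hρs sb
      obtain ⟨c, hc, y', hy'⟩ := hJ (y * s) (hkerρ _ (by rw [map_mul, hys]))
      have hs1 := (hres1 s).mpr hsb
      have heqM : ((ψ y : W) : M) * (ψ s : W) = f c * (ψ y' : W) := by
        have h := congrArg (fun z => ((ψ z : W) : M)) hy'
        simp only [map_mul, MulMemClass.coe_mul] at h
        rw [← hψc c]; exact h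
      have hv : v ((ψ y : W) : M) = v (f c) * v ((ψ y' : W) : M) := by
        have := congrArg v heqM
        rwa [map_mul, map_mul, hs1, mul_one] at this
      have hy0 : G ^ (N + 1) ≠ 0 := pow_ne_zero _ hG0.ne'
      have hc0 : (c : K₁) ≠ 0 := fun h => by
        rw [h, map_zero, map_zero, zero_mul] at hv
        rw [hv, zero_pow hd.ne', le_zero_iff] at hy
        exact hy0 hy
      have hle : G ^ N ≤ v ((ψ y' : W) : M) ^ d := by
        rw [hv, mul_pow, pow_succ'] at hy
        exact le_of_mul_le_mul_left (hy.trans (mul_le_mul_left (hK₁ c hc0 (hVlt c hc)).1 _)) hG0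
      obtain ⟨c', s', n, hs', hn, heq'⟩ := ih y' hle
      refine ⟨c * c', s * s', n, by rw [map_mul]; push_cast; rw [map_mul, hs1, hs', mul_one], hn, ?_⟩
      rw [map_mul]
      push_cast
      rw [map_mul]
      linear_combination ((ψ s' : W) : M) * heqM + f (c : K₁) * heq'
  -- general elements
  have hgen : ∀ x : M, ∃ (k : K₁) (y : V ⊗[A] B), x = f k * (ψ y : W) := by
    intro x
    have hx : x ∈ Algebra.adjoin L (Set.range (algebraMap K₁ M)) := by rw [hadj]; trivial
    induction hx using Algebra.adjoin_induction with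
    | mem x hx => obtain ⟨k, rfl⟩ := hx; exact ⟨k, 1, by simp [f]⟩
    | algebraMap l =>
      by_cases hl : l = 0
      · exact ⟨0, 0, by simp [hl]⟩
      obtain ⟨m, u, hm⟩ := hL l hl
      refine ⟨algebraMap K K₁ (algebraMap A K π) ^ m, 1 ⊗ₜ (u : B), ?_⟩
      rw [map_zpow₀, hcomm, hψt]
      rw [OneMemClass.coe_one, map_one, one_mul]
      exact hm
    | add a b _ _ ha hb =>
      obtain ⟨k, y, rfl⟩ := ha
      obtain ⟨k', y', rfl⟩ := hb
      rcases eq_or_ne k 0 with rfl | hk
      · exact ⟨k', y', by simp⟩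
      rcases eq_or_ne k' 0 with rfl | hk'
      · exact ⟨k, y, by simp⟩
      rcases V.mem_or_inv_mem (k' / k) with h | h
      · refine ⟨k, y + ((⟨_, h⟩ : V) ⊗ₜ 1) * y', ?_⟩
        rw [map_add, map_mul]
        push_cast
        rw [hψc, map_div₀]
        have hfk : f k ≠ 0 := (map_ne_zero f).mpr hk
        have hfk' : f k' ≠ 0 := (map_ne_zero f).mpr hk'
        field_simp
        first | ring | skip
      · rw [inv_div] at h
        refine ⟨k', ((⟨_, h⟩ : V) ⊗ₜ 1) * y + y', ?_⟩
        rw [map_add, map_mul]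
        push_cast
        rw [hψc, map_div₀]
        have hfk : f k ≠ 0 := (map_ne_zero f).mpr hk
        have hfk' : f k' ≠ 0 := (map_ne_zero f).mpr hk'
        field_simp
        first | ring | skip
    | mul a b _ _ ha hb =>
      obtain ⟨k, y, rfl⟩ := ha
      obtain ⟨k', y', rfl⟩ := hb
      exact ⟨k * k', y * y', by rw [map_mul, map_mul]; push_cast; ring⟩
  have hform : ∀ x : M, x ≠ 0 → ∃ (k : K₁) (s n : V ⊗[A] B), v ((ψ s : W) : M) = 1 ∧ v ((ψ n : W) : M) = 1 ∧
      x * (ψ s : W) = f k * (ψ n : W) := by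
    intro x hx
    obtain ⟨k, y, hxy⟩ := hgen x
    obtain ⟨k', y', hxy'⟩ := hgen x⁻¹
    have h1 : v (f (k * k')) * (v ((ψ y : W) : M) * v ((ψ y' : W) : M)) = 1 := by
      rw [← map_mul, ← map_mul, ← map_one v, ← mul_inv_cancel₀ hx, hxy', hxy, map_mul f]
      congr 1; ring
    have hkk : k * k' ≠ 0 := fun h => by rw [h, map_zero, map_zero, zero_mul] at h1; exact zero_ne_one h1
    have hy0 : 0 < v ((ψ y : W) : M) := zero_lt_iff.mpr fun h => by rw [h, zero_mul, mul_zero] at h1; exact zero_ne_one h1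
    obtain ⟨N, hN⟩ : ∃ N : ℕ, G ^ N ≤ v ((ψ y : W) : M) := by
      have hlow : (v (f (k * k')))⁻¹ ≤ v ((ψ y : W) : M) := by
        rw [← eq_inv_of_mul_eq_one_right h1]
        exact mul_le_of_le_one_right' (hcoe y')
      rcases lt_or_ge (v (f (k * k')⁻¹)) 1 with hlt | hge
      · obtain ⟨N, hN⟩ := (hK₁ _ (inv_ne_zero hkk) hlt).2
        exact ⟨N, hN.trans (by rw [map_inv₀, map_inv₀]; exact hlow)⟩
      · exact ⟨0, by rw [pow_zero]; refine hge.trans ?_; rw [map_inv₀, map_inv₀]; exact hlow⟩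
    obtain ⟨c, s, n, hs, hn, heq⟩ := hiter (N * d) y (by rw [pow_mul]; exact pow_le_pow_left' hN d)
    refine ⟨k * c, s, n, hs, hn, ?_⟩
    rw [hxy, map_mul]
    linear_combination f k * heq
  have hkV : ∀ (k : K₁) (x : M) (s n : V ⊗[A] B), v ((ψ s : W) : M) = 1 → v ((ψ n : W) : M) = 1 →
      x * (ψ s : W) = f k * (ψ n : W) → v (f k) = v x := fun k x s n hs hn h => by
    have := congrArg v h
    rw [map_mul, map_mul, hs, hn, mul_one, mul_one] at this
    exact this.symm
  refine ⟨le_antisymm (Ideal.map_le_iff_le_comap.mpr fun c hc => ?_) fun x hx => ?_, ?_⟩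
  · exact Ideal.mem_comap.mpr ((W.valuation_lt_one_iff _).mpr (hVlt c hc))
  · by_cases hx0 : (x : M) = 0
    · rw [show x = 0 from Subtype.ext hx0]; exact zero_mem _
    obtain ⟨k, s, n, hs, hn, heq⟩ := hform _ hx0
    have hlt : v (f k) < 1 := by rw [hkV k _ s n hs hn heq]; exact (W.valuation_lt_one_iff x).mp hx
    have hk : k ∈ V := (W.valuation_le_one_iff _).mp hlt.le
    have hsu : IsUnit (ψ s) := (W.valuation_eq_one_iff _).mpr hs
    have hkm : (⟨k, hk⟩ : V) ∈ IsLocalRing.maximalIdeal V := (IsLocalRing.mem_maximalIdeal _).mpr fun hu =>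
      hlt.ne ((W.valuation_eq_one_iff (algebraMap V W ⟨k, hk⟩)).mp (hu.map _))
    have : x = algebraMap V W ⟨k, hk⟩ * (ψ n * ↑hsu.unit⁻¹) := by
      rw [← mul_assoc, eq_comm, mul_comm, ← IsUnit.mul_right_inj hsu, ← mul_assoc, IsUnit.mul_val_inv, one_mul]
      exact Subtype.ext (by
        push_cast
        change f k * ((ψ n : W) : M) = ((ψ s : W) : M) * (x : M)
        linear_combination -heq)
    rw [this]
    exact Ideal.mul_mem_right _ _ (Ideal.mem_map_of_mem _ hkm)
  · suffices hsurj : Function.Surjective φ by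
      have h7 := geomReduced_factor φ hsurj hloc
      convert h7 using 1
      all_goals first
        | rfl
        | (refine Algebra.algebra_ext (R := kV) (A := kW) _ _ (fun r => ?_)
           obtain ⟨r, rfl⟩ := IsLocalRing.residue_surjective (R := V) r
           rfl)
    intro z
    obtain ⟨x, rfl⟩ := IsLocalRing.residue_surjective (R := W) z
    by_cases hx : v (x : M) < 1
    · refine ⟨0, ?_⟩
      rw [map_zero, eq_comm, IsLocalRing.residue_eq_zero_iff]
      exact (W.valuation_lt_one_iff x).mpr hx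
    have hx1 : v (x : M) = 1 := le_antisymm (W.valuation_le_one x) (not_lt.mp hx)
    obtain ⟨k, s, n, hs, hn, heq⟩ := hform (x : M) (fun h => by rw [h, map_zero] at hx1; exact zero_ne_one hx1)
    have hk : k ∈ V := (W.valuation_le_one_iff _).mp (by rw [hkV k _ s n hs hn heq, hx1])
    obtain ⟨r', hr'⟩ := hinv (ρ s) ((hres1 s).mp hs)
    refine ⟨ρ (⟨k, hk⟩ ⊗ₜ 1 * n) * r', ?_⟩
    have heqW : x * ψ s = ψ (⟨k, hk⟩ ⊗ₜ 1 * n) := Subtype.ext (by
      rw [map_mul]; push_cast; rw [hψc]; exact heq)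
    rw [map_mul, hφρ, ← heqW, map_mul, ← hφρ s, mul_assoc, hr', mul_one]

end Groth.Agent.S1983
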