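import Groth.Statements.S10931
import Groth.Agent.PnCanon5.Main
import Groth.Agent.WedgeDual5.Sheaf
import Groth.Agent.SerreDual.ProjDualAll
import Groth.Agent.SerreDual.ExtLocFree
import Groth.Agent.SerreDual.ExtShTensor
import Groth.Agent.SerreDual.ExtShDivisor
import Groth.Agent.ExtPowEx28.Basic
import Groth.Agent.ExtFilt28.LocFree

set_option autoImplicit false
universe u
open CategoryTheory CategoryTheory.Limits AlgebraicGeometry
open ProjDual

namespace Groth.Agent.S10931

/-- Let k be a field, p ≤ r and q ≤ r natural numbers, P = P^r_k with structure map to Spec k, Ω =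
Ω^1_{P/k} (the conormal sheaf of the diagonal), L an O_P-module which is a p-th exterior power of Ω
and L' one which is an (r − p)-th exterior power of Ω, and d an integer; write M(d) = M ⊗ O_P(d).
Then H^q(P, L(d)) = H^q(P^r, Ω^p(d)) and H^{r−q}(P, L'(−d)) = H^{r−q}(P^r, Ω^{r−p}(−d)) have the
same dimension over k. (The published statement asserts an isomorphism between these two cohomology
groups, obtained from Serre duality; this row records the equality of dimensions.) -/
theorem result (k : Type u) [Field k] (r p q : ℕ)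
    (hp : p ≤ r) (hq : q ≤ r) (L L' : (CohB1.ProjSpace r k).Modules)
    (hL : ExtPow.IsExtPow p (Omega.sheaf (CohB1.ProjSpace.toSpec r k)) L)
    (hL' : ExtPow.IsExtPow (r - p) (Omega.sheaf (CohB1.ProjSpace.toSpec r k)) L') (d : ℤ) :
    Module.finrank k (Coh.HH (CohB1.ProjSpace r k) (CohB1.tensorMod L (Twist.twistProjSpace r k d)) q) =
      Module.finrank k (Coh.HH (CohB1.ProjSpace r k)
        (CohB1.tensorMod L' (Twist.twistProjSpace r k (-d))) (r - q)) := by
  open Groth.Agent Groth.Agent.Coherent in
  classical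
  haveI := Coherent.isProper_projSpace_toSpec r k
  haveI := PnCanon5.smoothOfRelativeDimension_toSpec r k
  haveI : IsProper ((CohB1.ProjSpace r k) ↘ Spec (CommRingCat.of k)) := Coherent.isProper_projSpace_toSpec r k
  haveI := EulerLib.isNoetherian_of_proper (k := k) (X := CohB1.ProjSpace r k)
  haveI : IsGrothendieckAbelian.{u} (CohB1.ProjSpace r k).Modules :=
    DCat.schemeModules_isGrothendieckAbelian _
  have hE := FundLocal.isFinLocFreeOfRank_omega_qs (CohB1.ProjSpace.toSpec r k) r
  have hEf := LocFreeLib.isFinLocFree_of_rank hE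
  obtain ⟨W, -, hW⟩ := ExtPowEx28.exists_isExtPow hEf r
  obtain ⟨eW⟩ := PnCanon5.nonempty_topDiff_twist hW
  obtain ⟨eL⟩ := WedgeDual5.nonempty_iso_internalHom hE (show p + (r - p) = r by omega) hL hL' hW
  have hT := SerreDual.isFinLocFree_of_invertible (SerreDual.isInvertible_twist r k d)
  have hLf := WedgeDual5.isFinLocFree_of_isExtPow hEf hL
  let F := CohB1.tensorMod (Twist.twistProjSpace r k d) L
  have hF : FlatMod.IsFinLocFree F := ExtFilt28.isFinLocFree_tensor hT hLf
  obtain ⟨w⟩ := SerreDual.nonempty_internalHom_tensor (Twist.twistProjSpace r k d) L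
  obtain ⟨v⟩ := SerreDual.nonempty_internalHom_eq_tensor hT L'
  obtain ⟨a⟩ := SerreDual.nonempty_twist_tensor r k (show -d + d = 0 by ring)
  obtain ⟨b⟩ := TwistLib.nonempty_twist_zero_iso (𝒜 := CohB1.polyGrading r k)
  obtain ⟨c⟩ := SerreDual.nonempty_dual_iso_inverse (SerreDual.isInvertible_twist r k d) (a ≪≫ b)
  let e : internalHom F (Twist.twistProjSpace r k (-((r : ℤ) + 1))) ≅
      CohB1.tensorMod L' (Twist.twistProjSpace r k (-d)) :=
    (internalHomFunctor F).mapIso eW.symm ≪≫ w.app W ≪≫
      (internalHomFunctor (Twist.twistProjSpace r k d)).mapIso eL.symm ≪≫ v ≪≫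
      AmpleLib.tensorIso c (Iso.refl _) ≪≫ AmpleLib.tensorComm _ _
  obtain ⟨f⟩ := (SerreDual.projSpace_duality r k F (CohBC.isCoh_of_isFinLocFree hF) (r - q)).1 q
    (Nat.sub_add_cancel hq)
  let g := f.symm.trans ((SerreDual.extLocFreeEquiv k hF _ (r - q)).trans (SerreDual.hmapIso k e (r - q)))
  have h1 : Module.finrank k (Coh.HH (CohB1.ProjSpace r k) F q) =
      Module.finrank k (Coh.HH (CohB1.ProjSpace r k)
        (CohB1.tensorMod L' (Twist.twistProjSpace r k (-d))) (r - q)) := by
    rw [← g.finrank_eq, Subspace.dual_finrank_eq]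
  rw [← h1]
  exact (SerreDual.hmapIso k (AmpleLib.tensorComm _ _) q).finrank_eq

end Groth.Agent.S10931
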