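import Groth.Statements.S4285
import Groth.Agent.PicTau27.Bounded
-- import your own Groth.Agent.* helpers here

set_option autoImplicit false
set_option linter.style.haveILetI false
set_option backward.isDefEq.respectTransparency.types false
universe u
open CategoryTheory CategoryTheory.Limits AlgebraicGeometry
open Pic13

namespace Groth.Agent.S4285

open CategoryTheory CategoryTheory.Limits MonObj AlgebraicGeometry in
open Groth.Agent Groth.Agent.EulerLib Groth.Agent.PicTau27 Groth.Agent.H0Growth23 Groth.Agent.NumTriv23 in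
/-- (iii) implies (i), over the base S = Spec k with k algebraically closed: let X ⊆ P^n_k be a closed
subscheme, m an integer and φ a polynomial. The family of coherent O_X-modules F which are m-regular
(H^q(X, F(m - q)) = 0 for q ≥ 1) and have Hilbert polynomial φ (χ(F(d)) = φ(d) for all integers d)
is bounded. (The source allows a finite set of Hilbert polynomials and a projective X over a
Noetherian base with O_X(1) generated by global sections on the fibres.) -/
theorem result (k : Type u) [Field k] [IsAlgClosed k] (n : ℕ) (X : Scheme.{u}) [X.Over (Spec (CommRingCat.of k))]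
    (i : X ⟶ CohB1.ProjSpace n k) [IsClosedImmersion i] (hi : i ≫ CohB1.ProjSpace.toSpec n k = X ↘ Spec (CommRingCat.of k))
    (m : ℤ) (φ : Polynomial ℚ) :
    Pic13.IsBounded k X (fun F : X.Modules => Coh.IsCoh F ∧ Pic13.IsMRegular k i F m ∧
      ∀ d : ℤ, (FGA.eulerCharLE k X (Pic13.twistOn k i F d) n : ℚ) = φ.eval (d : ℚ)) := by
  haveI : IsProper (X ↘ Spec (CommRingCat.of k)) := by
    haveI := Coherent.isProper_projSpace_toSpec n k
    rw [← hi]; infer_instance
  let p := (⌊φ.eval (m : ℚ)⌋).toNat
  obtain ⟨T, q, hq, F₀, hF₀, -, hfam⟩ := exists_family k i hi p (-m) φ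
  haveI := hq
  refine ⟨T, q, inferInstance, inferInstance, F₀, hF₀, fun G ⟨hG, hreg, hP⟩ => ?_⟩
  have hvan : ∀ j : ℕ, 1 ≤ j → Subsingleton (Coh.HH X (Pic13.twistOn k i G m) j) := fun j hj => by
    have h := mRegular_of_le k i hG hreg (show m ≤ m + (j : ℤ) by omega) j hj
    rwa [add_sub_cancel_right] at h
  have hfr : Module.finrank k (Coh.HH X (Pic13.twistOn k i G m) 0) = p := by
    have h := hP m
    rw [FGA.eulerCharLE, Finset.sum_eq_single 0 (fun j _ hj => by
      haveI := hvan j (Nat.one_le_iff_ne_zero.2 hj)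
      rw [Module.finrank_zero_of_subsingleton, Nat.cast_zero, mul_zero]) (fun h => absurd (Finset.mem_range.2 (Nat.succ_pos n)) h)] at h
    simp only [pow_zero, Int.cast_natCast, _root_.one_mul] at h
    show _ = (⌊φ.eval (m : ℚ)⌋).toNat
    rw [← h, Int.floor_natCast, Int.toNat_natCast]
  obtain ⟨π, hπ⟩ := exists_epi_free k (isCoh_twistOn k i hG m) (globallyGenerated k i hG hreg) hfr
  haveI := hπ
  obtain ⟨a, ha0, hadd, ha⟩ := exists_twist_class k n
  obtain ⟨e⟩ := nonempty_iso_of_mk_eq (show InvCl.mk _ (AmpleLib.isInvertible_tensorMod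
        (CAlgH3.PSheafGen.isInvertible_twistProj (k := k) (r := n) m)
        (CAlgH3.PSheafGen.isInvertible_twistProj (k := k) (r := n) (-m))) =
      InvCl.mk (Coh.structureModule (CohB1.ProjSpace n k)) AmpleLib.isInvertible_structureModule by
    rw [← InvCl.mk_mul (CAlgH3.PSheafGen.isInvertible_twistProj m) (CAlgH3.PSheafGen.isInvertible_twistProj (-m)), ← ha, ← ha, ← hadd, add_neg_cancel, ha0]
    rfl)
  let eN : CohB1.tensorMod ((Scheme.Modules.pullback i).obj (Twist.twistProjSpace n k m))
      ((Scheme.Modules.pullback i).obj (Twist.twistProjSpace n k (-m))) ≅ Coh.structureModule X :=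
    (DCat.PullTensor.pullTensorIso i _ _).symm ≪≫ (Scheme.Modules.pullback i).mapIso e ≪≫ PicLoc.pullbackStructureIso i
  obtain ⟨π', hπ'⟩ := @exists_epi_twists X G _ _ _ eN π hπ
  haveI := hπ'
  exact hfam G π' hG hP

end Groth.Agent.S4285
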