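import Groth.Statements.S7325
import Groth.Agent.Resolve13.ContractPic

set_option autoImplicit false
universe u
open CategoryTheory CategoryTheory.Limits AlgebraicGeometry
open Resolve

open Groth.Agent.Resolve13 Groth.Agent.PicLib Groth.Agent.AmpleLib Groth.Agent.Models7 Groth.Agent.Coherent

namespace Groth.Agent.S7325

/-- Let X be a Noetherian scheme, ι : E → X a closed immersion which is an exceptional curve of the
first kind, and b : X → X' a contraction of E. Then pullback along b is injective on isomorphism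
classes of invertible modules, and an invertible O_X-module L is the pullback of some invertible
O_{X'}-module if and only if ι^* L ≅ O_E. (The published statement is a split short exact sequence 0
→ Pic(X') → Pic(X) → Z → 0 whose second map is the degree on E; this row states the injectivity of
the first map and the description of its image, and does not restate the degree map or the
splitting.) -/
theorem result {E X X' : Scheme.{u}} [IsNoetherian X] (ι : E ⟶ X) [IsClosedImmersion ι]
    (hE : Models.IsExcCurve ι) (b : X ⟶ X') (hb : Models.IsContractionOf ι b) :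
    (∀ L₁ L₂ : X'.Modules, PicF.IsInvertible L₁ → PicF.IsInvertible L₂ →
      Nonempty ((Scheme.Modules.pullback b).obj L₁ ≅ (Scheme.Modules.pullback b).obj L₂) → Nonempty (L₁ ≅ L₂)) ∧
    ∀ L : X.Modules, PicF.IsInvertible L →
      ((∃ L' : X'.Modules, PicF.IsInvertible L' ∧ Nonempty ((Scheme.Modules.pullback b).obj L' ≅ L)) ↔
        Nonempty ((Scheme.Modules.pullback ι).obj L ≅ Coh.structureModule E)) := by
  obtain ⟨y, hy, hfib, hyim, hreg, hdim, hbl⟩ := range_eq_fibre ι hE b hb
  obtain ⟨hN, hprop, -⟩ := hb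
  haveI := hreg
  have happ : ∀ U : X'.Opens, IsIso (b.app U) := isIso_app_of_appBasis (appBasis_pointBlowUp y hy hdim b hbl)
  refine ⟨fun L₁ L₂ h₁ h₂ h => nonempty_iso_of_pullback_iso happ h₁ h₂ h, fun L hL => ⟨?_, fun htriv => ?_⟩⟩
  · rintro ⟨L', hL', ⟨φ⟩⟩
    obtain ⟨W, hyW, g, hg⟩ := exists_isGen hL' y
    have h1 := pull_eq_one_of_isGen (ι ≫ b) hL' hg (eq_top_iff.2 fun z _ => by
      show (ι ≫ b) z ∈ W
      rw [Scheme.Hom.comp_apply, show b (ι z) = y from hfib.ge ⟨z, rfl⟩]
      exact hyW)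
    rw [← PicM.pull_pull, PicM.pull_of b hL', (PicM.of_eq_iff (PicLoc.isInvertible_pullback b hL') hL).2 ⟨φ⟩,
      PicM.pull_of, PicM.of_eq_one_iff] at h1
    exact h1
  obtain ⟨-, k, hk, e₀, -⟩ := id hE
  let j := ι.ker.subschemeι
  let e : CohB1.ProjSpace 1 k ≅ ι.ker.subscheme := e₀ ≪≫ asIso ι.toImage
  have he : e.hom ≫ j = e₀.hom ≫ ι := by
    show (e₀.hom ≫ ι.toImage) ≫ ι.imageι = _
    rw [Category.assoc, ι.toImage_imageι]
  have hd : P1Deg.HasDeg e ((Scheme.Modules.pullback j).obj (ClSub.idealMod ι.ker)) ((1 : ℕ) : ℤ) := by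
    obtain ⟨ψ⟩ := hasDeg_conormal hE e₀
    exact ⟨(Scheme.Modules.pullbackComp e.hom j).app _ ≪≫ (Scheme.Modules.pullbackCongr he).app _ ≪≫
      ((Scheme.Modules.pullbackComp e₀.hom ι).app _).symm ≪≫ ψ⟩
  have htriv' : Nonempty ((Scheme.Modules.pullback j).obj L ≅ Coh.structureModule ι.ker.subscheme) := by
    obtain ⟨τ⟩ := htriv
    obtain ⟨t₀⟩ := exists_pullStructureIso (X := E) (inv ι.toImage)
    exact ⟨((Scheme.Modules.pullbackCongr (show inv ι.toImage ≫ ι = j by
      rw [IsIso.inv_comp_eq]; exact ι.toImage_imageι.symm)).app L).symm ≪≫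
      ((Scheme.Modules.pullbackComp (inv ι.toImage) ι).app L).symm ≪≫
      (Scheme.Modules.pullback (inv ι.toImage)).mapIso τ ≪≫ t₀⟩
  let V : X'.Opens := ⟨{y}ᶜ, hy.isOpen_compl⟩
  haveI hiso : IsIso (b ∣_ V) := Groth.Agent.ProjLib.isIso_morphismRestrict hbl _
    (Set.disjoint_left.mpr fun _ h h' => h' ((Scheme.IdealSheafData.coe_support_vanishingIdeal _).le h))
  have hone : ∀ w, w ≠ y → (b.base ⁻¹' {w}).Subsingleton := by
    intro w hw a ha c hc
    have haV : a ∈ b ⁻¹ᵁ V := by show b a ∈ V; rw [show b a = w from ha]; exact hw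
    have hcV : c ∈ b ⁻¹ᵁ V := by show b c ∈ V; rw [show b c = w from hc]; exact hw
    have h2 : (b ∣_ V) ⟨a, haV⟩ = (b ∣_ V) ⟨c, hcV⟩ :=
      Subtype.ext (((morphismRestrict_base_coe b V _).trans ((show b a = w from ha).trans
        (show b c = w from hc).symm)).trans (morphismRestrict_base_coe b V _).symm)
    exact congrArg Subtype.val ((b ∣_ V).homeomorph.injective h2)
  have hfd : ∀ w : X', topologicalKrullDim ↥(b.fiber w) ≤ 1 := by
    intro w
    rw [(b.fiberHomeo w).isHomeomorph.topologicalKrullDim_eq]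
    by_cases hw : w = y
    · subst hw
      have hE1 : topologicalKrullDim E ≤ 1 := by
        rw [← e₀.hom.homeomorph.isHomeomorph.topologicalKrullDim_eq]
        simpa using (Groth.Agent.DimLib.PN.topologicalKrullDim_projSpace 1 k).le
      rw [hfib, ← ι.isClosedEmbedding.isEmbedding.toHomeomorph.isHomeomorph.topologicalKrullDim_eq]
      exact hE1
    · haveI : Subsingleton (b.base ⁻¹' {w}) := (hone w hw).coe_sort
      exact (topologicalKrullDim_zero_of_discreteTopology _).trans (by norm_num)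
  have hpre : b.base ⁻¹' {y} = (ι.ker.support : Set X) := by
    rw [hfib, Scheme.Hom.support_ker]
    exact ι.isClosedEmbedding.isClosed_range.closure_eq.symm
  obtain ⟨W₀, hyW₀, s₀, hs₀⟩ := exists_gen_near b happ hfd ι.ker hE.1 e hd y hy hpre
    (fun w hw => (hone w hw).finite) hL htriv'
  obtain ⟨hG, hiso'⟩ := Groth.Agent.CubeLib.isInvertible_push_and_isIso_counit (f := b) (L := L) fun w => by
    by_cases hw : w = y
    · exact ⟨W₀, hw ▸ hyW₀, fun U _ => happ U, s₀, hs₀⟩
    · obtain ⟨⟨x, hx⟩, hx'⟩ := (b ∣_ V).homeomorph.surjective ⟨w, hw⟩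
      obtain ⟨O, hxO, g, hg⟩ := exists_isGen hL x
      let W : X'.Opens := V ⊓ ⟨(b.base '' (O : Set X)ᶜ)ᶜ, (b.isClosedMap _ O.isOpen.isClosed_compl).isOpen_compl⟩
      have hbx : b x = w := (morphismRestrict_base_coe b V _).symm.trans (congrArg Subtype.val hx')
      have hle : b ⁻¹ᵁ W ≤ O := fun a ha => by_contra fun hn => ha.2 ⟨a, hn, rfl⟩
      refine ⟨W, ⟨hw, ?_⟩, fun U _ => happ U, resM L hle g, hg.restrict hle⟩
      rintro ⟨a, ha, hab⟩
      exact ha ((hone w hw (show b a = w from hab) (show b x = w from hbx)) ▸ hxO)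
  haveI := hiso'
  exact ⟨_, hG, ⟨asIso ((Scheme.Modules.pullbackPushforwardAdjunction b).counit.app L)⟩⟩


end Groth.Agent.S7325
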