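import Groth.Statements.S9706
import Groth.Agent.RelVALib.Chow
import Groth.Agent.S12416

set_option autoImplicit false
universe u
open CategoryTheory CategoryTheory.Limits AlgebraicGeometry
open Mor

namespace Groth.Agent.S9706

/-- Let S be quasi-compact and quasi-separated and f : X ⟶ S quasi-projective. Then f factors as an open
immersion X ⟶ X' followed by a projective morphism X' ⟶ S. Here X' ⟶ S projective means isomorphic
over S to the relative Proj of a quasi-coherent graded algebra generated by its finite-type
degree-one part; the published definition uses closed subschemes of P(E) with E of finite type, an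
equivalent condition. -/
theorem result {X S : Scheme.{u}} [CompactSpace ↥S]
    [QuasiSeparatedSpace ↥S] (f : X ⟶ S) (hf : RelProj.IsQuasiProjective f) :
    ∃ (X' : Scheme.{u}) (j : X ⟶ X') (g : X' ⟶ S), IsOpenImmersion j ∧ RelProj.IsProjective g ∧ j ≫ g = f := by
  obtain ⟨hlft, hqc, L, hL⟩ := hf
  haveI := hlft; haveI := hqc
  haveI : CompactSpace X := QuasiCompact.compactSpace_of_compactSpace f
  obtain ⟨M, F, hft, 𝒮, j₀, Q, p, chart, O1, lam, φ, i, D, hi, hip, -⟩ :=
    RelVALib.exists_hasBundleImmersion_of_isQuasiProjective (Or.inl ⟨inferInstance, inferInstance⟩)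
      (f := f) ⟨hlft, hqc, L, hL⟩
  haveI := hi
  have hp : RelProj.IsProjective p := RelVALib.isProjective_of_closedImmersion D hft (𝟙 Q) (Category.id_comp p)
  haveI : IsProper p := RelVALib.isProper_of_isProjective hp
  haveI : QuasiSeparatedSpace Q := quasiSeparatedSpace_of_quasiSeparated p
  haveI : QuasiCompact i := quasiCompact_of_compactSpace i
  exact ⟨i.image, i.toImage, i.imageι ≫ p, inferInstance,
    RelVALib.isProjective_closedImmersion_comp i.imageι hp rfl, by rw [Scheme.Hom.toImage_imageι_assoc, hip]⟩

end Groth.Agent.S9706
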