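import Groth.Prelude.Def_ModSite
import Groth.Prelude.Def_CohCx
import Groth.Agent.TotAc16.SheafHom

set_option autoImplicit false
universe u
namespace CategoryTheory
end CategoryTheory
open CategoryTheory
namespace ModSite
end ModSite
open ModSite

namespace Groth.Agent.S6150

/-- Ringed topos of sheaves on a small site with commutative structure sheaf O: for an O-module F and an
injective O-module G, the abelian sheaf underlying the internal hom Hom_O(F, G) is flasque, i.e.
totally acyclic: H^q(K, Hom_O(F, G)) = 0 for every sheaf of sets K and every q > 0. The binder
providing Hom_O(F, -) as right adjoint of - (x)_O F always holds. -/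
theorem result {C : Type u} [SmallCategory C] {J : GrothendieckTopology C}
    (O : Sheaf J CommRingCat.{u}) (F G : ModSite.Mod O) [ModSite.HasSheafHom F] [Injective G] :
    CohCx.IsTotallyAcyclic (ModSite.toAb ((ModSite.sheafHom F).obj G)) := by
  intro K p
  exact Groth.Agent.TotAc16.subsingleton_ext J (Groth.Agent.TotAc16.extends_sheafHom F G) p _
    (fun _ => Groth.Agent.TotAc16.flat_free _)

end Groth.Agent.S6150
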