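import Groth.Statements.S12879
import Groth.Agent.ExtSS.CompositeClass
import Groth.Agent.ExtSS.ExtShQCoh
import Groth.Agent.ExtSS.SectOnScheme
import Groth.Agent.ExtSS.Supports
import Groth.Agent.S6165

set_option autoImplicit false
universe u
open CategoryTheory CategoryTheory.Limits TopologicalSpace AlgebraicGeometry
open Coherent

open Groth.Agent
set_option backward.isDefEq.respectTransparency false
namespace Groth.Agent.S12879

/-- Let X be a locally Noetherian scheme, Z a closed subset with open complement U, F a coherent
O_X-module and G a quasi-coherent O_X-module. Then for every i the local Ext sheaf with supports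
ℰxt^i_Z(F, G), the i-th right derived functor of N ↦ Γ_Z(ℋom(F, N)) on O_X-modules evaluated at G,
is quasi-coherent. (The published statement allows Z locally closed; this row takes Z closed. The
internal Hom functor of F and injective resolutions of O_X-modules are the stated instance
hypotheses, both true.) -/
theorem result (X : Scheme.{u}) [IsLocallyNoetherian X] (U : X.Opens)
    (F G : X.Modules) (hF : Coh.IsCoh F) (hG : Coh.IsQCoh G)
    [ModSite.HasSheafHom (O := X.sheaf) F] [HasInjectiveResolutions (ModSite.Mod X.sheaf)] (i : ℕ) :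
    Coh.IsQCoh ((ModSite.extZSh (O := X.sheaf) U F i).obj G) := by
  
  haveI hinj : HasInjectiveResolutions X.Modules := Coherent.hasInjectiveResolutions_modules X
  haveI := Groth.Agent.S6165.result X.sheaf ((ModSite.quotOn X.sheaf U).obj F)
  haveI := ExtSS.preservesInjectiveObjects_sectOn (O := X.sheaf) U
  let S : X.Modules ⥤ X.Modules := ModSite.sheafHom (O := X.sheaf) F
  let T : X.Modules ⥤ X.Modules := ModSite.sectOn X.sheaf U
  haveI : T.Additive := ModSite.sectOn_additive X.sheaf U
  haveI : T.PreservesInjectiveObjects := ExtSS.preservesInjectiveObjects_sectOn (O := X.sheaf) U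
  haveI : S.IsRightAdjoint := (ModSite.sheafHomAdj (O := X.sheaf) F).isRightAdjoint
  haveI : PreservesFiniteLimits S := ⟨fun _ _ _ => inferInstance⟩
  haveI : S.Additive := ModSite.sheafHom_additive X.sheaf F
  have hQ : ∀ (M : X.Modules), Coh.IsQCoh M → ∀ q : ℕ, Coh.IsQCoh ((S.rightDerived q).obj M) := fun M hM q =>
    haveI := ExtSS.isQCoh_homology_homCx hF hM (injectiveResolution M) q
    Coherent.isQCoh_of_iso (SerreDual.extShIso F (injectiveResolution M) q).symm
  have h := ExtSS.mem_rightDerived_comp (ExtSS.classPair_qcoh X) T S G
    (fun J hJ q hq => by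
      haveI := hJ
      exact SpecSeq.isZero_rightDerived_injective _ _ hq)
    (fun p q => hQ _ (ExtSS.isQCoh_HZsh U G hG q) p) i (fun a b _ => hQ _ (ExtSS.isQCoh_HZsh U G hG b) a)
  exact CAlgH3.SupportModQcoh.qc ((SiteCoh.rightDerivedCongr (ExtSS.sectHomIso U F) i).app G).symm h

end Groth.Agent.S12879
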