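import Groth.Statements.S12880
import Groth.Agent.SerreDual.ExtShCoherent
import Groth.Agent.ExtSS.SheafHomSupp

set_option autoImplicit false
universe u
open CategoryTheory CategoryTheory.Limits TopologicalSpace AlgebraicGeometry
open Coherent

open CategoryTheory CategoryTheory.Limits AlgebraicGeometry Opposite TopologicalSpace
namespace Groth.Agent.S12880

/-- Let X be a locally Noetherian scheme, Y a closed subset with open complement U, and F, G coherent
O_X-modules such that the support of F is contained in Y (no point of U has a non-zero stalk of F).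
Then for every i the local Ext sheaf with supports ℰxt^i_Y(F, G) is coherent. (Internal Hom of F and
injective resolutions of O_X-modules are the stated instance hypotheses, both true.) -/
theorem result (X : Scheme.{u}) [IsLocallyNoetherian X] (U : X.Opens)
    (F G : X.Modules) (hF : Coh.IsCoh F) (hG : Coh.IsCoh G)
    (hsupp : ∀ x ∈ CohB1.support F, x ∉ (U : Set X))
    [ModSite.HasSheafHom (O := X.sheaf) F] [HasInjectiveResolutions (ModSite.Mod X.sheaf)] (i : ℕ) :
    Coh.IsCoh ((ModSite.extZSh (O := X.sheaf) U F i).obj G) := by
  haveI : HasInjectiveResolutions X.Modules := SerreDual.hasInjectiveResolutions_modules X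
  have hnull : ModSite.IsNullOn X.sheaf U F := by
    rw [ExtSupp.isNullOn_iff]
    intro V g s
    refine TopCat.Presheaf.section_ext (⟨F.presheaf, F.isSheaf⟩ : TopCat.Sheaf Ab.{u} X.toTopCat) V _ _ fun z hz => ?_
    haveI : Subsingleton (F.presheaf.stalk z) := by
      by_contra hc
      exact hsupp z hc (leOfHom g hz)
    exact Subsingleton.elim _ _
  let ν := Functor.whiskerLeft (ModSite.sheafHom (O := X.sheaf) F) (ModSite.sectOnι X.sheaf U)
  haveI : ∀ N, IsIso (ν.app N) := fun N => by
    have hz : ((ModSite.restrPushOverAdj X.sheaf U).unit.app ((ModSite.sheafHom (O := X.sheaf) F).obj N)) = 0 :=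
      (Functor.map_isZero (ModSite.pushOver X.sheaf U) (ExtSS.isNullOn_sheafHom U hnull N)).eq_of_tgt _ _
    exact ⟨kernel.lift _ (𝟙 _) (by rw [hz]; exact comp_zero), by
      refine (cancel_mono (kernel.ι _)).1 ?_
      exact (Category.assoc _ _ _).trans ((congrArg _ (kernel.lift_ι _ _ _)).trans ((Category.comp_id _).trans (Category.id_comp _).symm)),
      kernel.lift_ι _ _ _⟩
  haveI := NatIso.isIso_of_isIso_app ν
  haveI : ((ModSite.sheafHom (O := X.sheaf) F) ⋙ ModSite.sectOn X.sheaf U).Additive := inferInstance
  let e := NatTrans.rightDerived ν i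
  haveI : IsIso e := ⟨NatTrans.rightDerived (inv ν) i,
    by rw [← NatTrans.rightDerived_comp, IsIso.hom_inv_id, NatTrans.rightDerived_id],
    by rw [← NatTrans.rightDerived_comp, IsIso.inv_hom_id, NatTrans.rightDerived_id]⟩
  let I := InjectiveResolution.of (show X.Modules from G)
  exact Coherent.isCoh_of_iso ((asIso (e.app G)) ≪≫ SerreDual.extShIso F I i).symm (SerreDual.isCoh_homology hF hG I i)

end Groth.Agent.S12880
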