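import Groth.Statements.S7679
import Groth.Agent.AmpleLib.Ample
import Groth.Agent.AmpleLib.Twist2
import Groth.Agent.AssSch12.Push
import Groth.Agent.AssSch12.Primary
import Groth.Agent.AssSch12.Uniq
import Groth.Agent.Coherent.ProperFinite
import Groth.Agent.Coherent.SecBridge
import Groth.Agent.Coherent.FiniteType
import Mathlib

set_option autoImplicit false
universe u
open CategoryTheory CategoryTheory.Limits AlgebraicGeometry
open Variety

namespace Groth.Agent.S7679

set_option maxHeartbeats 400000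

open Groth.Agent.AmpleLib Groth.Agent.QCohLoc Groth.Agent.PicLib Groth.Agent.Coherent Groth.Agent.AssSch12 TopologicalSpace CategoryTheory.MonoidalCategory

variable {X : Scheme.{u}}

/-- An inverse of an invertible module is invertible. -/
theorem isInvertible_inverse {L M : X.Modules} (hL : PicF.IsInvertible L)
    (e : CohB1.tensorMod L M ≅ Coh.structureModule X) : PicF.IsInvertible M := by
  refine isInvertible_of_gens fun y => ?_
  obtain ⟨U, hyU, g, hg⟩ := exists_isGen hL y
  let e' := tensorComm M L ≪≫ e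
  have hb : ∀ (V : X.Opens) (h : V ≤ U),
      Function.Bijective (fun m : Γ(M, V) => (show Γ(X, V) from e'.hom.app V (tmul m (resM L h g)))) := fun V h =>
    (ConcreteCategory.bijective_of_isIso (e'.hom.app V)).comp (bijective_tmul_gen hg V h)
  obtain ⟨m0, hm0⟩ := (hb U le_rfl).2 1
  refine ⟨U, hyU, m0, fun V h => ?_⟩
  have hlin : ∀ r : Γ(X, V), (show Γ(X, V) from e'.hom.app V (tmul (r • resM M h m0) (resM L h g))) = r := fun r => by
    rw [tmul_smul_left]
    refine ((e'.hom.app_smul (U := V) r _)).trans ?_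
    have h1 : tmul (resM M h m0) (resM L h g) = resM _ h (tmul m0 (resM L le_rfl g)) := by
      rw [resM_tmul, resM_self]
    rw [h1, app_resM]
    show r * (X.presheaf.map (homOfLE h).op (show Γ(X, U) from e'.hom.app U (tmul m0 (resM L le_rfl g)))) = r
    rw [show (show Γ(X, U) from e'.hom.app U (tmul m0 (resM L le_rfl g))) = 1 from hm0, map_one, mul_one]
  refine ⟨fun r r' hr => ?_, fun m => ⟨_, (hb V h).1 (hlin _)⟩⟩
  exact ((hlin r).symm.trans (congrArg (fun m => (show Γ(X, V) from e'.hom.app V (tmul m (resM L h g)))) hr)).trans (hlin r')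

/-- The right unitor. -/
noncomputable def rightUnit (M : X.Modules) : CohB1.tensorMod M (Coh.structureModule X) ≅ M :=
  tensorComm _ _ ≪≫ unitTensorIso M

theorem rightUnit_tmul (M : X.Modules) {U : X.Opens} (m : Γ(M, U)) (r : Γ(X, U)) :
    (rightUnit M).hom.app U (tmul m (show Γ(Coh.structureModule X, U) from r)) = r • m := by
  show (unitBilin M).desc.app U ((tensorSwap M (Coh.structureModule X)).app U (tmul m _)) = _
  refine (congrArg ((unitBilin M).desc.app U) (Bilin.desc_tmul _ U m _)).trans ?_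
  exact Bilin.desc_tmul _ U _ m

variable (F P : X.Modules) {N : X.Modules} (σ : N ⟶ Coh.structureModule X)

/-- One multiplication by `σ`. -/
noncomputable def rho (j : ℕ) : CohB1.tensorPow N (j + 1) ⟶ CohB1.tensorPow N j :=
  AmpleLib.tensorMap (𝟙 _) σ ≫ (rightUnit _).hom

/-- Iterated multiplication by `σ`. -/
noncomputable def tau : (j : ℕ) →
    (CohB1.tensorMod F (CohB1.tensorMod P (CohB1.tensorPow N j)) ⟶ CohB1.tensorMod F P)
  | 0 => AmpleLib.tensorMap (𝟙 F) (rightUnit P).hom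
  | j + 1 => AmpleLib.tensorMap (𝟙 F) (AmpleLib.tensorMap (𝟙 P) (rho σ j)) ≫ tau j

variable {F P}

theorem tau_tmul {U : X.Opens} (m : Γ(F, U)) (p : Γ(P, U)) (g : Γ(N, U)) : ∀ j,
    (tau F P σ j).app U (tmul m (tmul p (powSec g j))) =
      (show Γ(X, U) from σ.app U g) ^ j • tmul m p
  | 0 => by
    rw [pow_zero, one_smul]
    show (AmpleLib.tensorMap (𝟙 F) (rightUnit P).hom).app U _ = _
    refine (tensorMap_tmul _ _ _ _).trans ?_
    exact congrArg (tmul m) ((rightUnit_tmul P p (1 : Γ(X, U))).trans (one_smul _ _))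
  | j + 1 => by
    show (tau F P σ j).app U ((AmpleLib.tensorMap (𝟙 F) (AmpleLib.tensorMap (𝟙 P) (rho σ j))).app U _) = _
    rw [tensorMap_tmul, tensorMap_tmul]
    have h : (rho σ j).app U (powSec g (j + 1)) = (show Γ(X, U) from σ.app U g) • powSec g j := by
      show (rightUnit _).hom.app U ((AmpleLib.tensorMap (𝟙 _) σ).app U (tmul (powSec g j) g)) = _
      rw [tensorMap_tmul]
      exact rightUnit_tmul _ (powSec g j) _
    show (tau F P σ j).app U (tmul m (tmul p ((rho σ j).app U (powSec g (j + 1))))) = _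
    rw [h, tmul_smul_right, tmul_smul_right]
    refine ((tau F P σ j).app_smul (U := U) _ _).trans ?_
    rw [tau_tmul m p g j, ← mul_smul, ← pow_succ']

theorem range_tau_succ {A : Type u} [CommRing A] (φ : A →+* Γ(X, ⊤)) (j : ℕ) :
    LinearMap.range (mapGA φ (tau F P σ (j + 1))) ≤ LinearMap.range (mapGA φ (tau F P σ j)) := by
  rintro _ ⟨w, rfl⟩
  exact ⟨(AmpleLib.tensorMap (𝟙 F) (AmpleLib.tensorMap (𝟙 P) (rho σ j))).app ⊤ w, rfl⟩

variable (F) in
theorem germ_tmul_eq_zero_iff {U : X.Opens} {p : Γ(P, U)} (hp : IsGen P U p) (m : Γ(F, U)) {w : X} (hw : w ∈ U) :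
    (CohB1.tensorMod F P).presheaf.germ U w hw (tmul m p) = 0 ↔ F.presheaf.germ U w hw m = 0 := by
  constructor
  · intro h
    rw [← map_zero ((CohB1.tensorMod F P).presheaf.germ U w hw).hom] at h
    obtain ⟨W, hwW, i, i', e⟩ := TopCat.Presheaf.germ_eq _ w hw hw _ _ h
    have e' : resM _ (leOfHom i) (tmul m p) = 0 := e.trans (map_zero _)
    rw [resM_tmul] at e'
    have : resM F (leOfHom i) m = 0 :=
      (bijective_tmul_gen (M := F) hp W (leOfHom i)).1 (e'.trans (tmul_zero_left _).symm)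
    rw [← TopCat.Presheaf.germ_res_apply F.presheaf i w hwW]
    exact (congrArg (F.presheaf.germ W w hwW) this).trans (map_zero _)
  · intro h
    rw [← map_zero (F.presheaf.germ U w hw).hom] at h
    obtain ⟨W, hwW, i, i', e⟩ := TopCat.Presheaf.germ_eq _ w hw hw _ _ h
    have e' : resM F (leOfHom i) m = 0 := e.trans (map_zero _)
    have : resM _ (leOfHom i) (tmul m p) = 0 := by rw [resM_tmul, e', tmul_zero_left]
    rw [← TopCat.Presheaf.germ_res_apply (CohB1.tensorMod F P).presheaf i w hwW]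
    exact (congrArg ((CohB1.tensorMod F P).presheaf.germ W w hwW) this).trans (map_zero _)

theorem germ_eq_zero_of_specializes (G : X.Modules) {U : X.Opens} (s : Γ(G, U)) {x z : X} (h : x ⤳ z)
    (hz : z ∈ U) (h0 : G.presheaf.germ U z hz s = 0) : G.presheaf.germ U x (h.mem_open U.isOpen hz) s = 0 := by
  rw [← map_zero (G.presheaf.germ U z hz).hom] at h0
  obtain ⟨W, hzW, i, i', e⟩ := TopCat.Presheaf.germ_eq _ z hz hz _ _ h0
  have hxW := h.mem_open W.isOpen hzW
  rw [← TopCat.Presheaf.germ_res_apply G.presheaf i x hxW, e, map_zero, map_zero]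

/-- A point whose closure lies in an affine open of a proper scheme is closed. -/
theorem isClosed_of_closure_subset_affine (k : Type u) [Field k] (f : X ⟶ Spec (CommRingCat.of k)) [IsProper f]
    {U : X.Opens} (hU : IsAffineOpen U) {x : X} (h : closure {x} ⊆ (U : Set X)) : IsClosed ({x} : Set X) := by
  let I := Scheme.IdealSheafData.vanishingIdeal (⟨closure {x}, isClosed_closure⟩ : Closeds X)
  let i := I.subschemeι
  have hrange : Set.range i = closure {x} := by rw [I.range_subschemeι]; rfl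
  haveI : IsAffine U.toScheme := hU
  have hiU : Set.range i ⊆ Set.range U.ι := by rw [Scheme.Opens.range_ι, hrange]; exact h
  let l := IsOpenImmersion.lift U.ι i hiU
  have hl : l ≫ U.ι = i := IsOpenImmersion.lift_fac U.ι i hiU
  haveI : IsClosedImmersion (l ≫ U.ι) := by rw [hl]; infer_instance
  haveI : IsClosedImmersion l := IsClosedImmersion.of_comp l U.ι
  haveI : IsAffine I.subscheme := isAffine_of_isAffineHom l
  haveI : IsFinite (i ≫ f) := IsFinite.iff_isProper_and_isAffineHom.2 ⟨inferInstance, inferInstance⟩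
  haveI : DiscreteTopology I.subscheme := by
    refine isDiscrete_univ_iff.1 ?_
    have h1 : ((i ≫ f) ⁻¹' {IsLocalRing.closedPoint k} : Set I.subscheme) = Set.univ :=
      Set.eq_univ_of_forall fun w => (inferInstance : Subsingleton (PrimeSpectrum k)).elim _ _
    exact h1 ▸ (i ≫ f).isDiscrete_preimage_singleton _
  obtain ⟨x', hx'⟩ : x ∈ Set.range i := by rw [hrange]; exact subset_closure rfl
  rw [← hx', ← Set.image_singleton]
  exact i.isClosedEmbedding.isClosedMap _ (isClosed_discrete _)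

section Main

variable {A : Type u} [CommRing A]

theorem isCoh_tensor [IsLocallyNoetherian X] (hF : Coh.IsCoh F) (hP : PicF.IsInvertible P) :
    Coh.IsCoh (CohB1.tensorMod F P) := by
  haveI := hF.1
  haveI := isQCoh_tensor_invertible F hP
  choose W hyW g hg using exists_isGen hP
  choose B hB hyB hBW using fun y : X => exists_isAffineOpen_mem_and_subset (x := y) (U := W y) (hyW y)
  refine ⟨inferInstance, isFT_of_locallyFinGen (locallyFinGen_of_finite_sections _ B hB (fun y => ⟨y, hyB y⟩) fun y => ?_)⟩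
  haveI := ((isCoh_iff_finite_sections F).1 hF).2 (B y) (hB y)
  let e : Γ(F, B y) →ₗ[Γ(X, B y)] Γ(CohB1.tensorMod F P, B y) :=
    { toFun := fun m => tmul m (resM P (fun z hz => hBW y hz) (g y))
      map_add' := fun a b => tmul_add_left a b _
      map_smul' := fun r a => tmul_smul_left r a _ }
  exact Module.Finite.of_surjective e (bijective_tmul_gen (hg y) (B y) fun z hz => hBW y hz).2

theorem exists_rep {U : X.Opens} {p : Γ(P, U)} {g : Γ(N, U)} (hp : IsGen P U p) (hg : IsGen N U g) (j : ℕ)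
    (w : Γ(CohB1.tensorMod F (CohB1.tensorMod P (CohB1.tensorPow N j)), ⊤)) :
    ∃ m : Γ(F, U), resM _ le_top w = tmul m (tmul p (powSec g j)) ∧
      resM _ le_top ((tau F P σ j).app ⊤ w) = tmul ((show Γ(X, U) from σ.app U g) ^ j • m) p := by
  have hgen : IsGen (CohB1.tensorMod P (CohB1.tensorPow N j)) U (tmul p (powSec g j)) :=
    isGen_tmul hp (isGen_powSec hg j)
  obtain ⟨m, hm⟩ := (bijective_tmul_gen (M := F) hgen U le_rfl).2 (resM _ le_top w)
  simp only [resM_self] at hm
  refine ⟨m, hm.symm, ?_⟩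
  rw [← app_resM, ← hm, tau_tmul, tmul_smul_left]

theorem tmul_cancel {U : X.Opens} {p : Γ(P, U)} (hp : IsGen P U p) {a b : Γ(F, U)} (h : tmul a p = tmul b p) :
    a = b :=
  (bijective_tmul_gen (M := F) hp U le_rfl).1 (by simp only [resM_self]; exact h)

theorem pow_smul_cancel [IsLocallyNoetherian X] (hF : Coh.IsCoh F) {U : X.Opens} (hU : IsAffineOpen U)
    (c : Γ(X, U)) (hc : ∀ x (hx : x ∈ U), x ∈ AssSch.Ass F → IsUnit (X.presheaf.germ U x hx c))
    (j : ℕ) {m : Γ(F, U)} (h : c ^ j • m = 0) : m = 0 := by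
  haveI := hF.1
  refine eq_zero_of_germ_ass F hU m fun x hx hxa => ?_
  have h' := congrArg (F.presheaf.germ U x hx) h
  rw [map_zero, germ_smul', map_pow] at h'
  exact ((hc x hx hxa).pow j).smul_eq_zero.1 h'

theorem tau_injective [IsLocallyNoetherian X] (hF : Coh.IsCoh F) (hP : PicF.IsInvertible P)
    (hN : PicF.IsInvertible N)
    (hσ : ∀ (U : X.Opens) (g : Γ(N, U)), IsGen N U g → ∀ x (hx : x ∈ U), x ∈ AssSch.Ass F →
      IsUnit (X.presheaf.germ U x hx (σ.app U g)))
    (j : ℕ) : Function.Injective ((tau F P σ j).app ⊤) := by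
  refine (injective_iff_map_eq_zero _).2 fun w hw => sec_ext _ _ _ fun y _ => ?_
  obtain ⟨V₁, h₁, p, hp⟩ := exists_isGen hP y
  obtain ⟨V₂, h₂, g, hg⟩ := exists_isGen hN y
  obtain ⟨U, hU, hyU, hle⟩ := exists_isAffineOpen_mem_and_subset (x := y) (U := V₁ ⊓ V₂) ⟨h₁, h₂⟩
  refine ⟨U, le_top, hyU, ?_⟩
  obtain ⟨m, hm, hm'⟩ := exists_rep σ (hp.restrict fun z hz => (hle hz).1) (hg.restrict fun z hz => (hle hz).2) j w
  rw [hw, map_zero] at hm'
  have hcm := tmul_cancel (hp.restrict fun z hz => (hle hz).1) (hm'.symm.trans (tmul_zero_left _).symm)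
  have : m = 0 := pow_smul_cancel hF hU _
    (fun x hx hxa => hσ _ _ (hg.restrict fun z hz => (hle hz).2) x hx hxa) j hcm
  rw [hm, this, tmul_zero_left, map_zero]

theorem germ_eq_zero_of_mem_range [IsLocallyNoetherian X] (hF : Coh.IsCoh F) {U : X.Opens} {p : Γ(P, U)}
    {g : Γ(N, U)} (hp : IsGen P U p) (hg : IsGen N U g) {z : X} (hz : z ∈ U)
    (hnu : ¬ IsUnit (X.presheaf.germ U z hz (σ.app U g)))
    (v : Γ(CohB1.tensorMod F P, ⊤)) (hv : ∀ i, ∃ j, i ≤ j ∧ ∃ w, (tau F P σ j).app ⊤ w = v) :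
    (CohB1.tensorMod F P).presheaf.germ ⊤ z trivial v = 0 := by
  obtain ⟨m', hm'⟩ := (bijective_tmul_gen (M := F) hp U le_rfl).2 (resM _ le_top v)
  simp only [resM_self] at hm'
  haveI : Module.Finite (X.presheaf.stalk z) (F.presheaf.stalk z) := finite_stalk hF z
  have hK := Ideal.iInf_pow_smul_eq_bot_of_isLocalRing (M := F.presheaf.stalk z)
    (IsLocalRing.maximalIdeal (X.presheaf.stalk z)) (Ideal.IsMaximal.ne_top inferInstance)
  have hz0 : F.presheaf.germ U z hz m' = 0 := by
    rw [← Submodule.mem_bot (R := X.presheaf.stalk z), ← hK, Submodule.mem_iInf]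
    intro i
    obtain ⟨j, hij, w, hw⟩ := hv i
    obtain ⟨m₁, -, hm₁⟩ := exists_rep σ hp hg j w
    have e := tmul_cancel hp ((hm'.trans (congrArg (resM _ le_top) hw.symm)).trans hm₁)
    rw [e, germ_smul', map_pow]
    refine Submodule.smul_mem_smul ?_ trivial
    exact Ideal.pow_le_pow_right hij (Ideal.pow_mem_pow ((IsLocalRing.mem_maximalIdeal _).2 hnu) _)
  refine (TopCat.Presheaf.germ_res_apply (CohB1.tensorMod F P).presheaf (homOfLE le_top) z hz v).symm.trans ?_
  refine Eq.trans (congrArg _ hm'.symm) ?_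
  exact (germ_tmul_eq_zero_iff F hp m' hz).2 hz0

theorem eventually_zero [IsLocallyNoetherian X] (hF : Coh.IsCoh F) (hP : PicF.IsInvertible P) (hN : PicF.IsInvertible N)
    (D : X.Opens) (hσ : ∀ (U : X.Opens) (g : Γ(N, U)), IsGen N U g → ∀ z (hz : z ∈ U),
      IsUnit (X.presheaf.germ U z hz (σ.app U g)) ↔ z ∈ D)
    (hassD : AssSch.Ass F ⊆ (D : Set X))
    (hspec : ∀ x ∈ AssSch.Ass F, ∃ z, x ⤳ z ∧ z ∉ D)
    (φ : A →+* Γ(X, ⊤)) [IsArtinian A (GA φ (CohB1.tensorMod F P))] :
    ∃ j₀, ∀ j, j₀ ≤ j → Subsingleton Γ(CohB1.tensorMod F (CohB1.tensorMod P (CohB1.tensorPow N j)), ⊤) := by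
  haveI := hF.1
  let R : ℕ → Submodule A (GA φ (CohB1.tensorMod F P)) := fun j => LinearMap.range (mapGA φ (tau F P σ j))
  have hanti : Antitone R := antitone_nat_of_succ_le fun j => range_tau_succ (F := F) (P := P) σ φ j
  let f : ℕ →o (Submodule A (GA φ (CohB1.tensorMod F P)))ᵒᵈ :=
    ⟨fun j => OrderDual.toDual (R j), fun a b hab => hanti hab⟩
  obtain ⟨j₀, hj₀⟩ := IsArtinian.monotone_stabilizes f
  have hst : ∀ j, j₀ ≤ j → R j₀ = R j := fun j hj => congrArg OrderDual.ofDual (hj₀ j hj)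
  refine ⟨j₀, fun j hj => ?_⟩
  have hzero : ∀ v : Γ(CohB1.tensorMod F P, ⊤), (∀ i, ∃ j, i ≤ j ∧ ∃ w, (tau F P σ j).app ⊤ w = v) → v = 0 := by
    intro v hv
    refine sec_ext _ _ _ fun y _ => ?_
    obtain ⟨V₁, h₁, p, hp⟩ := exists_isGen hP y
    obtain ⟨U, hU, hyU, hle⟩ := exists_isAffineOpen_mem_and_subset (x := y) (U := V₁) h₁
    refine ⟨U, le_top, hyU, ?_⟩
    rw [map_zero]
    have hp' := hp.restrict (fun z hz => hle hz : U ≤ V₁)
    obtain ⟨m, hm⟩ := (bijective_tmul_gen (M := F) hp' U le_rfl).2 (resM _ le_top v)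
    simp only [resM_self] at hm
    rw [← hm]
    suffices m = 0 by rw [this, tmul_zero_left]
    refine eq_zero_of_germ_ass F hU m fun x hx hxa => ?_
    obtain ⟨z, hxz, hzD⟩ := hspec x hxa
    obtain ⟨W₁, k₁, p₁, hp₁⟩ := exists_isGen hP z
    obtain ⟨W₂, k₂, g₁, hg₁⟩ := exists_isGen hN z
    have hz0 := germ_eq_zero_of_mem_range σ hF (hp₁.restrict (inf_le_left : W₁ ⊓ W₂ ≤ W₁))
      (hg₁.restrict (inf_le_right : W₁ ⊓ W₂ ≤ W₂)) (z := z) ⟨k₁, k₂⟩
      (fun hu => hzD ((hσ _ _ (hg₁.restrict inf_le_right) z ⟨k₁, k₂⟩).1 hu)) v hv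
    have hx0 := germ_eq_zero_of_specializes _ v hxz trivial hz0
    refine (germ_tmul_eq_zero_iff F hp' m hx).1 ?_
    rw [hm]
    exact (TopCat.Presheaf.germ_res_apply (CohB1.tensorMod F P).presheaf (homOfLE le_top) x hx v).trans hx0
  have hz : ∀ w, (tau F P σ j).app ⊤ w = 0 := fun w => by
    refine hzero _ fun i => ⟨max i j₀, le_max_left _ _, ?_⟩
    have hm : mapGA φ (tau F P σ j) w ∈ R j := LinearMap.mem_range_self _ _
    rw [← hst j hj, hst (max i j₀) (le_max_right _ _)] at hm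
    obtain ⟨w', hw'⟩ := hm
    exact ⟨w', hw'⟩
  have hinj := tau_injective (P := P) σ hF hP hN (fun U g hg x hx hxa => (hσ U g hg x hx).2 (hassD hxa)) j
  exact ⟨fun a b => hinj ((hz a).trans (hz b).symm)⟩

theorem exists_hom_of_sec {G : X.Modules} (b : Γ(G, ⊤)) :
    ∃ φ : Coh.structureModule X ⟶ G, ∀ V : X.Opens,
      φ.app V (oneSec V) = resM G (le_top : V ≤ ⊤) b := by
  obtain ⟨φ, hφ⟩ := exists_hom_of_gen (fun _ : PUnit.{u + 1} => (⊤ : X.Opens)) (ciSup_const)
    (fun _ => oneSec (⊤ : X.Opens)) (fun _ => isGen_oneSec ⊤) (fun _ => b) (by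
      intro i j V hi hj c hc
      rw [resM_oneSec] at hc
      have : (1 : Γ(X, V)) = c * 1 := hc
      rw [mul_one] at this
      rw [← this, one_smul])
  exact ⟨φ, fun V => by rw [← resM_oneSec (le_top : V ≤ ⊤), app_resM, hφ PUnit.unit]⟩

end Main

/-- Let X be proper over a field k, L an ample invertible module and F a coherent module such that
Ass(F) contains no closed point. Then Γ(X, F ⊗ L^{⊗n}) = 0 for n ≪ 0; here negative powers of L are
written as positive powers of an inverse M of L. -/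
theorem result (k : Type u) [Field k] (X : Scheme.{u}) [X.Over (Spec (CommRingCat.of k))] [IsProper (X ↘ (Spec (CommRingCat.of k)))]
    (L : X.Modules) (hL : CohB1.IsAmple L) (M : X.Modules) (hM : ClSub.IsInverseOf L M)
    (F : X.Modules) (hF : Coh.IsCoh F) (hass : ∀ x : X, IsClosed ({x} : Set X) → ¬ Curv2.IsAssPoint F x) :
    ∃ n₀ : ℕ, ∀ n : ℕ, n₀ ≤ n →
      Subsingleton (Coh.HH X (CohB1.tensorMod F (CohB1.tensorPow M n)) 0) := by
  obtain ⟨e⟩ := hM
  have hLi : PicF.IsInvertible L := hL.1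
  have hMi := isInvertible_inverse hLi e
  haveI : IsLocallyNoetherian X := LocallyOfFiniteType.isLocallyNoetherian (X ↘ Spec (CommRingCat.of k))
  haveI : CompactSpace X := QuasiCompact.compactSpace_of_compactSpace (X ↘ Spec (CommRingCat.of k))
  obtain ⟨d, hd, b, hbA, -, hbaff⟩ := exists_affine_glocus_finite (U := ⊤) hL (AssSch.Ass F)
    (finite_ass F hF) (fun x _ => trivial)
  let N := CohB1.tensorPow M d
  have hN := isInvertible_tensorPow hMi d
  have hLd := isInvertible_tensorPow hLi d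
  obtain ⟨e₁, -⟩ := exists_powTensorIso hLi hMi d
  obtain ⟨e₂, -⟩ := exists_iso_of_gens (fun _ : PUnit.{u + 1} => (⊤ : X.Opens)) (ciSup_const)
      (fun _ => powSec (oneSec (⊤ : X.Opens)) d) (fun _ => isGen_powSec (isGen_oneSec ⊤) d)
      (fun _ => oneSec (⊤ : X.Opens)) (fun _ => isGen_oneSec ⊤) (by
        intro i j V hi hj c hc
        rw [resM_powSec, resM_oneSec] at hc
        have := ((isGen_powSec (isGen_oneSec V) d) V le_rfl).1 (a₁ := 1) (a₂ := c) (by simpa only [resM_self, one_smul] using hc)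
        rw [← this, one_smul])
  let ε := e₁.symm ≪≫ powIsoOfIso e d ≪≫ e₂
  obtain ⟨φb, hφb⟩ := exists_hom_of_sec b
  let σ : N ⟶ Coh.structureModule X :=
    toUnitTensor N ≫ AmpleLib.tensorMap φb (𝟙 N) ≫ ε.hom
  have hσ : ∀ (U : X.Opens) (g : Γ(N, U)), IsGen N U g → ∀ z (hz : z ∈ U),
      IsUnit (X.presheaf.germ U z hz (σ.app U g)) ↔ z ∈ glocus _ b := by
    intro U g hg z hz
    obtain ⟨W, hzW, h, hh⟩ := exists_isGen hLd z
    let V := U ⊓ W
    have hzV : z ∈ V := ⟨hz, hzW⟩
    let h' := resM _ (inf_le_right : V ≤ W) h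
    let g' := resM N (inf_le_left : V ≤ U) g
    have hh' : IsGen _ V h' := hh.restrict inf_le_right
    let c := hh'.coef le_rfl (resM _ le_top b)
    have hc : c • h' = resM _ (le_top : V ≤ ⊤) b := by
      have := hh'.coef_spec le_rfl (resM _ le_top b)
      rwa [resM_self] at this
    have hgen := isGen_map_iso ε (isGen_tmul hh' (hg.restrict (inf_le_left : V ≤ U)))
    let u : Γ(X, V) := ε.hom.app V (tmul h' g')
    have hu : IsUnit u := by
      obtain ⟨r, hr⟩ := (hgen V le_rfl).2 (oneSec V)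
      refine isUnit_iff_exists_inv'.2 ⟨r, ?_⟩
      simp only [resM_self] at hr
      exact hr
    have hval : (show Γ(X, V) from σ.app V g') = c * u := by
      show ε.hom.app V ((AmpleLib.tensorMap φb (𝟙 N)).app V (tmul (oneSec V) g')) = _
      rw [tensorMap_tmul, hφb, ← hc]
      show ε.hom.app V (tmul (c • h') g') = _
      rw [tmul_smul_left]
      exact ε.hom.app_smul (U := V) c _
    have hres : X.presheaf.germ U z hz (σ.app U g) = X.presheaf.germ V z hzV (c * u) := by
      rw [← hval]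
      refine (X.presheaf.germ_res_apply (homOfLE (inf_le_left : V ≤ U)) z hzV (show Γ(X, U) from σ.app U g)).symm.trans ?_
      exact congrArg _ (show (show Γ(X, V) from X.presheaf.map (homOfLE (inf_le_left : V ≤ U)).op (show Γ(X, U) from σ.app U g)) = _ from (app_resM σ (inf_le_left : V ≤ U) g).symm)
    rw [hres, map_mul, IsUnit.mul_iff, and_iff_left (hu.map _), ← X.mem_basicOpen c z hzV,
      ← glocus_inf b hh']
    exact ⟨fun h => h.1, fun h => ⟨h, hzV⟩⟩
  have hspec : ∀ x ∈ AssSch.Ass F, ∃ z, x ⤳ z ∧ z ∉ glocus _ b := by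
    intro x hx
    by_contra hc
    push_neg at hc
    refine hass x (isClosed_of_closure_subset_affine k (X ↘ Spec (CommRingCat.of k)) hbaff fun z hz => ?_) hx
    exact hc z (specializes_iff_mem_closure.2 hz)
  let φ : k →+* Γ(X, ⊤) := Coh.toGlobal (X ↘ Spec (CommRingCat.of k))
  have hfin := finCoh_of_isProper (X ↘ Spec (CommRingCat.of k))
  have hsmall : ∀ r : ℕ, ∃ j₀, ∀ j, j₀ ≤ j → Subsingleton Γ(CohB1.tensorMod F
      (CohB1.tensorMod (CohB1.tensorPow M r) (CohB1.tensorPow N j)), ⊤) := fun r => by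
    have hP := isInvertible_tensorPow hMi r
    haveI := hfin _ (isCoh_tensor hF hP) 0
    haveI : Module.Finite k (GA φ (CohB1.tensorMod F (CohB1.tensorPow M r))) :=
      Module.Finite.equiv (secA φ _)
    exact eventually_zero σ hF hP hN _ hσ hbA hspec φ
  choose j₀ hj₀ using hsmall
  refine ⟨d * ((Finset.range d).sup j₀ + 1), fun n hn => ?_⟩
  have hj : j₀ (n % d) ≤ n / d := by
    refine (Finset.le_sup (Finset.mem_range.2 (Nat.mod_lt _ hd))).trans ((Nat.le_div_iff_mul_le hd).2 ?_)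
    rw [mul_comm]
    exact le_trans (Nat.mul_le_mul_left d (Nat.le_succ _)) hn
  obtain ⟨a₁, -⟩ := exists_powPowIso hMi d (n / d)
  obtain ⟨a₂, -⟩ := exists_powIso hMi (n % d) (d * (n / d))
  let a : CohB1.tensorMod (CohB1.tensorPow M (n % d)) (CohB1.tensorPow N (n / d)) ≅ CohB1.tensorPow M n :=
    AmpleLib.tensorIso (Iso.refl _) a₁ ≪≫ a₂ ≪≫ eqToIso (by rw [Nat.mod_add_div])
  let t := AmpleLib.tensorIso (Iso.refl F) a
  haveI := hj₀ (n % d) (n / d) hj
  haveI : Subsingleton Γ(CohB1.tensorMod F (CohB1.tensorPow M n), ⊤) :=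
    Function.Surjective.subsingleton (ConcreteCategory.bijective_of_isIso (t.hom.app ⊤)).2
  haveI : Subsingleton (GA φ (CohB1.tensorMod F (CohB1.tensorPow M n))) := this
  exact ((HHLinEquiv (CohB1.tensorMod F (CohB1.tensorPow M n)) 0).toAddEquiv.toEquiv.trans
    (secA φ _).toEquiv).subsingleton

end Groth.Agent.S7679
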