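import Groth.Statements.S11525
import Groth.Agent.ValTate.TopFiniteType

set_option autoImplicit false
universe u
open AdicRing

namespace Groth.Agent.S11525

/-- Let R be a base ring of class (N) or (V) for the ideal I and A an R-algebra topologically of finite
type without I-power torsion. Then A is topologically of finite presentation. -/
theorem result
    (R : Type u) [CommRing R] (I : Ideal R) (hR : AdicRing.IsBase R I)
    (A : Type u) [CommRing A] [Algebra R A] (hA : AdicRing.TopFiniteType R I A)
    (hT : AdicRing.NoPowTorsion I A) :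
    AdicRing.TopFinitePresentation R I A := by
  obtain ⟨n, φ, hφ⟩ := hA
  let T := AdicRing.RPow R I n
  have hT' : AdicRing.TopFiniteType R I T := ⟨n, AlgHom.id R _, Function.surjective_id⟩
  have h : Groth.Agent.ValTate.powSat (I.map (algebraMap R T)) (RingHom.ker φ.toRingHom) =
      RingHom.ker φ.toRingHom := by
    refine le_antisymm (fun x ⟨k, hk⟩ => hT (φ x) k fun a ha => ?_) (Groth.Agent.ValTate.le_powSat _ _)
    have h1 : algebraMap R T a • x ∈ RingHom.ker φ.toRingHom :=
      hk _ (Ideal.map_pow (algebraMap R T) I k ▸ Ideal.mem_map_of_mem _ ha)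
    rw [← map_smul]
    rw [algebraMap_smul] at h1
    exact h1
  exact ⟨n, φ, hφ, h ▸ (Groth.Agent.ValTate.tame_of_topFiniteType I hR hT').powSat_fg _⟩

end Groth.Agent.S11525
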