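import Groth.Statements.S11540
import Groth.Agent.ValTate.Base
open scoped TensorProduct

set_option autoImplicit false
universe u
open AdicRing

namespace Groth.Agent.S11540

set_option maxHeartbeats 1000000

/-- Let R be a base ring of class (N) or (V) for the ideal I, A an admissible R-algebra and f_0, ...,
f_r elements of A generating an open ideal, i.e. one containing I^k A for some k. Fix i and let C_i
be the I-adic completion of the chart algebra A[ζ_j ; j ≠ i]/(f_i ζ_j − f_j ; j ≠ i). Then the
I-power torsion of C_i coincides with its f_i-power torsion. (That f_i-power torsion is I-power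
torsion is elementary; the content is the converse.) -/
theorem result
    (R : Type u) [CommRing R] (I : Ideal R) (hR : AdicRing.IsBase R I)
    (A : Type u) [CommRing A] [Algebra R A] (hA : AdicRing.Admissible R I A)
    (r : ℕ) (f : Fin (r + 1) → A) (k : ℕ)
    (hopen : (I ^ k).map (algebraMap R A) ≤ Ideal.span (Set.range f)) (i : Fin (r + 1))
    (x : AdicRing.chartCompl I f i) :
    (∃ n : ℕ, ∀ a ∈ I ^ n, a • x = 0) ↔
      ∃ n : ℕ, algebraMap A (AdicRing.chartCompl I f i) (f i) ^ n * x = 0 := by
  classical
  let S := AdicRing.chartAlg f i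
  let C := AdicRing.chartCompl I f i
  obtain ⟨⟨n0, φ0, hφ0, -⟩, htorA⟩ := hA
  have hA' : AdicRing.TopFiniteType R I A := ⟨n0, φ0, hφ0⟩
  have hS : ∀ j : {j : Fin (r + 1) // j ≠ i},
      algebraMap A S (f i) * Ideal.Quotient.mk _ (MvPolynomial.X j) = algebraMap A S (f j.1) := fun j =>
    (map_mul (Ideal.Quotient.mk _) (MvPolynomial.C (f i) : MvPolynomial {j : Fin (r + 1) // j ≠ i} A)
      (MvPolynomial.X j)).symm.trans (Ideal.Quotient.eq.2 (Ideal.subset_span ⟨j, rfl⟩))
  constructor
  · rintro ⟨n, hx⟩
    haveI : Algebra.FiniteType A S := inferInstance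
    haveI : Module.Flat S C := (Groth.Agent.ValTate.tame_of_finiteType I hR hA' S).flat_adicCompletion
    obtain ⟨k', a, ha⟩ := Submodule.fg_iff_exists_fin_generating_family.1
      ((Groth.Agent.ValTate.isBase_fg hR).pow (n := n))
    let L : S →ₗ[S] (Fin k' → S) := LinearMap.pi fun l => algebraMap R S (a l) • LinearMap.id
    have hex := Module.Flat.lTensor_exact C (LinearMap.exact_subtype_ker_map L)
    have h0 : L.lTensor C (x ⊗ₜ[S] (1 : S)) = 0 := by
      refine (TensorProduct.piScalarRight S S C (Fin k')).injective ?_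
      rw [LinearMap.lTensor_tmul, map_zero]
      funext l
      simp only [L, TensorProduct.piScalarRight_apply, TensorProduct.piScalarRightHom_tmul, LinearMap.pi_apply,
        LinearMap.smul_apply, LinearMap.id_apply, Pi.zero_apply, smul_eq_mul, mul_one]
      rw [algebraMap_smul]
      exact hx (a l) (ha ▸ Submodule.subset_span ⟨l, rfl⟩)
    obtain ⟨w, hw⟩ := (hex _).1 h0
    -- sections killed by a power of the ideal are killed by a power of the chosen generator
    let θ : S →ₐ[A] Localization.Away (f i) :=
      Ideal.Quotient.liftₐ _ (MvPolynomial.aeval fun j : {j : Fin (r + 1) // j ≠ i} =>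
        IsLocalization.Away.invSelf (f i) * algebraMap A _ (f j.1)) fun p hp => by
        refine (Ideal.span_le.2 ?_ : _ ≤ RingHom.ker (MvPolynomial.aeval (R := A) _)) hp
        rintro _ ⟨j, rfl⟩
        change MvPolynomial.aeval _ (MvPolynomial.C (f i) * MvPolynomial.X j - MvPolynomial.C (f j.1)) = 0
        rw [map_sub, map_mul, MvPolynomial.aeval_C, MvPolynomial.aeval_X, MvPolynomial.aeval_C,
          ← mul_assoc, IsLocalization.Away.mul_invSelf, one_mul, sub_self]
    have hclear : ∀ c : S, ∃ (N : ℕ) (b : A), algebraMap A S (f i) ^ N * c = algebraMap A S b := by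
      intro c
      obtain ⟨p, rfl⟩ := Ideal.Quotient.mk_surjective c
      induction p using MvPolynomial.induction_on with
      | C b => exact ⟨0, b, by rw [pow_zero, one_mul]; rfl⟩
      | add p q hp hq =>
        obtain ⟨N, b, hb⟩ := hp
        obtain ⟨M, e, he⟩ := hq
        refine ⟨N + M, f i ^ M * b + f i ^ N * e, ?_⟩
        rw [map_add, map_add, map_mul, map_mul, map_pow, map_pow, ← hb, ← he]
        ring
      | mul_X p j hp =>
        obtain ⟨N, b, hb⟩ := hp
        refine ⟨N + 1, b * f j.1, ?_⟩
        rw [map_mul, map_mul, ← hb, ← hS j]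
        ring
    have hker : ∀ c ∈ LinearMap.ker L, ∃ N : ℕ, algebraMap A S (f i) ^ N * c = 0 := by
      intro c hc
      obtain ⟨N, b, hb⟩ := hclear c
      have hab : ∀ l, ∃ M : ℕ, f i ^ M * (algebraMap R A (a l) * b) = 0 := fun l => by
        have h1 : algebraMap R S (a l) * c = 0 := congrFun (hc : L c = 0) l
        have h2 : algebraMap A S (algebraMap R A (a l) * b) = 0 := by
          rw [map_mul, ← IsScalarTower.algebraMap_apply, ← hb, mul_left_comm, h1, mul_zero]
        have h3 := congrArg θ h2
        rw [AlgHom.commutes, map_zero, IsLocalization.map_eq_zero_iff (Submonoid.powers (f i))] at h3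
        obtain ⟨⟨_, M, rfl⟩, hM⟩ := h3
        exact ⟨M, hM⟩
      choose M hM using hab
      refine ⟨Finset.univ.sup M + N, ?_⟩
      have h4 : f i ^ Finset.univ.sup M * b = 0 := by
        refine htorA _ n fun y hy => ?_
        rw [← ha] at hy
        induction hy using Submodule.span_induction with
        | mem y hy =>
          obtain ⟨l, rfl⟩ := hy
          obtain ⟨e, he⟩ := Nat.exists_eq_add_of_le (Finset.le_sup (f := M) (Finset.mem_univ l))
          rw [he, Algebra.smul_def, pow_add,
            show algebraMap R A (a l) * (f i ^ M l * f i ^ e * b) = f i ^ e * (f i ^ M l * (algebraMap R A (a l) * b)) by ring,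
            hM l, mul_zero]
        | zero => exact zero_smul R _
        | add y z _ _ hy hz => rw [add_smul, hy, hz, add_zero]
        | smul d y _ hy => rw [smul_assoc, hy, smul_zero]
      rw [pow_add, mul_assoc, hb, ← map_pow, ← map_mul, h4, map_zero]
    suffices hall : ∀ w : C ⊗[S] LinearMap.ker L, ∃ N : ℕ,
        algebraMap A C (f i) ^ N * TensorProduct.rid S C ((LinearMap.ker L).subtype.lTensor C w) = 0 by
      obtain ⟨N, hN⟩ := hall w
      refine ⟨N, ?_⟩
      rw [hw, TensorProduct.rid_tmul, one_smul] at hN
      exact hN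
    intro w
    induction w using TensorProduct.induction_on with
    | zero => exact ⟨0, by simp⟩
    | tmul d c =>
      obtain ⟨N, hN⟩ := hker c.1 c.2
      refine ⟨N, ?_⟩
      rw [LinearMap.lTensor_tmul, TensorProduct.rid_tmul, Submodule.subtype_apply]
      refine (congrArg (_ * ·) (Algebra.smul_def c.1 d)).trans ?_
      rw [← mul_assoc, IsScalarTower.algebraMap_apply A S C, ← map_pow, ← map_mul, hN, map_zero, zero_mul]
    | add u v hu hv =>
      obtain ⟨N, hN⟩ := hu
      obtain ⟨M, hM⟩ := hv
      refine ⟨N + M, ?_⟩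
      rw [map_add, map_add, mul_add, pow_add, mul_assoc, mul_assoc, hM, mul_zero, add_zero,
        mul_left_comm, hN, mul_zero]
  · rintro ⟨n, hn⟩
    refine ⟨k * n, fun y hy => ?_⟩
    have hle : I.map (algebraMap R C) ^ k ≤ Ideal.span {algebraMap A C (f i)} := by
      rw [← Ideal.map_pow, IsScalarTower.algebraMap_eq R A C, ← Ideal.map_map]
      refine (Ideal.map_mono hopen).trans ?_
      rw [Ideal.map_span, Ideal.span_le]
      rintro _ ⟨_, ⟨j, rfl⟩, rfl⟩
      by_cases hj : j = i
      · rw [hj]; exact Ideal.mem_span_singleton_self _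
      · rw [IsScalarTower.algebraMap_apply A S C (f j), ← hS ⟨j, hj⟩, map_mul, ← IsScalarTower.algebraMap_apply]
        exact Ideal.mul_mem_right _ _ (Ideal.mem_span_singleton_self _)
    have h1 : algebraMap R C y ∈ (I.map (algebraMap R C) ^ k) ^ n := by
      rw [← pow_mul, ← Ideal.map_pow]
      exact Ideal.mem_map_of_mem _ hy
    have h2 := Ideal.pow_right_mono hle n h1
    rw [Ideal.span_singleton_pow, Ideal.mem_span_singleton'] at h2
    obtain ⟨e, he⟩ := h2
    rw [Algebra.smul_def, ← he, mul_assoc, hn, mul_zero]

end Groth.Agent.S11540
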