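import Groth.Statements.S0283
import Groth.Agent.FEtLib.Section
import Groth.Prelude.Def_FEt
import Mathlib.AlgebraicGeometry.Fiber

set_option autoImplicit false
universe u
open Pi1

namespace Groth.Agent.S0283
open CategoryTheory CategoryTheory.Limits AlgebraicGeometry

open AlgebraicGeometry CategoryTheory CategoryTheory.Limits in
/-- Let f : X → Y be a morphism of schemes which is integral, universally injective and surjective (that
is, a universal homeomorphism). Then base change along f, from finite étale covers of Y to finite
étale covers of X, is a full and faithful functor. -/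
theorem result {X Y : Scheme.{u}} (f : X ⟶ Y) [IsIntegralHom f] [UniversallyInjective f] [Surjective f] :
    (FEt.restrict f).Full ∧ (FEt.restrict f).Faithful := by
  constructor
  · refine ⟨fun {V W} φ => ?_⟩
    haveI := W.prop.2
    haveI : UniversallyInjective (pullback.fst V.hom f) :=
      MorphismProperty.of_isPullback (P := @UniversallyInjective) (IsPullback.of_hasPullback V.hom f).flip inferInstance
    haveI : IsIntegralHom (pullback.fst V.hom f) :=
      MorphismProperty.of_isPullback (P := @IsIntegralHom) (IsPullback.of_hasPullback V.hom f).flip inferInstance
    haveI : Surjective (pullback.fst V.hom f) :=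
      MorphismProperty.of_isPullback (P := @Surjective) (IsPullback.of_hasPullback V.hom f).flip inferInstance
    have hw : (φ.left ≫ pullback.fst W.hom f) ≫ W.hom = pullback.fst V.hom f ≫ V.hom := by
      refine (Category.assoc _ _ _).trans ?_
      refine (congrArg (φ.left ≫ ·) pullback.condition).trans ?_
      refine (Category.assoc _ _ _).symm.trans ?_
      exact (congrArg (· ≫ f) (MorphismProperty.Over.w φ)).trans pullback.condition.symm
    obtain ⟨l, ⟨hl1, hl2⟩, -⟩ := Groth.Agent.FEtLib.existsUnique_lift W.hom V.hom (pullback.fst V.hom f)
      (φ.left ≫ pullback.fst W.hom f) hw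
    refine ⟨MorphismProperty.Over.homMk l hl1, ?_⟩
    apply MorphismProperty.Over.Hom.ext
    simp only [FEt.restrict, MorphismProperty.Over.pullback_map_left]
    apply pullback.hom_ext
    · exact (pullback.lift_fst _ _ _).trans hl2
    · exact (pullback.lift_snd _ _ _).trans (MorphismProperty.Over.w φ).symm
  · refine ⟨fun {V W} a b hab => ?_⟩
    haveI := W.prop.2
    haveI : Surjective (pullback.fst V.hom f) :=
      MorphismProperty.of_isPullback (P := @Surjective) (IsPullback.of_hasPullback V.hom f).flip inferInstance
    have h1 := congrArg (fun t => t.left ≫ pullback.fst W.hom f) hab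
    simp only [FEt.restrict, MorphismProperty.Over.pullback_map_left, pullback.lift_fst] at h1
    exact MorphismProperty.Over.Hom.ext (Groth.Agent.FEtLib.eq_of_surjective W.hom a.left b.left
      (pullback.fst V.hom f) ((pullback.lift_fst _ _ _).symm.trans (h1.trans (pullback.lift_fst _ _ _))) ((MorphismProperty.Over.w a).trans (MorphismProperty.Over.w b).symm))

end Groth.Agent.S0283
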