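import Groth.Statements.S0041
import Groth.Agent.Coherent.Existence.FiniteAlgebraize
-- import your own Groth.Agent.* helpers here

set_option autoImplicit false
universe u
open Coherent

namespace Groth.Agent.S0041

open AlgebraicGeometry CategoryTheory CategoryTheory.Limits in
/-- Let A be a Noetherian ring complete with respect to an ideal I, X a scheme separated and of finite
type over Spec A, and X_n = X ×_{Spec A} Spec(A/I^{n+1}) with the closed immersions X_n → X_{n+1}.
Suppose given schemes Y_n with finite morphisms Y_n → X_n and morphisms Y_n → Y_{n+1} making each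
square over X_n → X_{n+1} cartesian, such that Y_0 is proper over Spec(A/I). Then there are a scheme
W, a finite morphism W → X with W proper over Spec A, and morphisms Y_n → W compatible with the
transitions which identify each Y_n with W ×_X X_n. -/
theorem result (A : Type u) [CommRing A] [IsNoetherianRing A]
    (I : Ideal A) [IsAdicComplete I A] {X : Scheme.{u}} (f : X ⟶ Spec (CommRingCat.of A))
    [IsSeparated f] [LocallyOfFiniteType f] [QuasiCompact f]
    (Y : ℕ → Scheme.{u}) (y : (n : ℕ) → (Y n ⟶ CohB1.thick f I n)) (t : (n : ℕ) → (Y n ⟶ Y (n + 1)))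
    (hy : ∀ n, IsFinite (y n))
    (ht : ∀ n, IsPullback (t n) (y n) (y (n + 1)) (CohB1.thickTrans f I n))
    (hp : IsProper (y 0 ≫ CohB1.thickToBase f I 0)) :
    ∃ (W : Scheme.{u}) (i : W ⟶ X) (w : (n : ℕ) → (Y n ⟶ W)), IsFinite i ∧
      IsProper (i ≫ f) ∧ (∀ n, w n = t n ≫ w (n + 1)) ∧ ∀ n, IsPullback (w n) (y n) i (CohB1.thickι f I n) := by
  let _ : X.Over (Spec (CommRingCat.of A)) := ⟨f⟩
  have : IsSeparated (X ↘ Spec (CommRingCat.of A)) := ‹IsSeparated f›
  have : LocallyOfFiniteType (X ↘ Spec (CommRingCat.of A)) := ‹LocallyOfFiniteType f›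
  have : QuasiCompact (X ↘ Spec (CommRingCat.of A)) := ‹QuasiCompact f›
  exact Groth.Agent.Coherent.Existence.exists_finiteScheme (A := A) (I := I) (X := X) Y y t hy ht hp

end Groth.Agent.S0041
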