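import Groth.Statements.S6160
import Mathlib.Algebra.Category.ModuleCat.Sheaf.Colimits
import Mathlib.Algebra.Category.ModuleCat.Sheaf.Limits
import Mathlib.Algebra.Category.ModuleCat.Presheaf.Sheafification
import Mathlib.CategoryTheory.Sites.Limits

set_option autoImplicit false
set_option backward.isDefEq.respectTransparency false
universe u
open CategoryTheory
open ModSite

namespace Groth.Agent.S6160

open CategoryTheory CategoryTheory.Limits

theorem preservesColimitsOfShape_toSheaf {C : Type u} [SmallCategory C] {J : GrothendieckTopology C}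
    (A : Sheaf J RingCat.{u}) (T : Type u) [SmallCategory T] :
    PreservesColimitsOfShape T (SheafOfModules.toSheaf.{u} A) where
  preservesColimit {K} := by
    let α := 𝟙 A.obj
    let sh := PresheafOfModules.sheafification.{u} α
    let adj := PresheafOfModules.sheafificationAdjunction.{u} α
    let G := SheafOfModules.forget.{u} A ⋙ PresheafOfModules.restrictScalars α
    have : sh.IsLeftAdjoint := adj.isLeftAdjoint
    have : (presheafToSheaf J AddCommGrpCat.{u}).IsLeftAdjoint :=
      (sheafificationAdjunction J AddCommGrpCat.{u}).isLeftAdjoint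
    have : PreservesColimit (K ⋙ G) (sh ⋙ SheafOfModules.toSheaf.{u} A) :=
      preservesColimit_of_natIso _ (PresheafOfModules.sheafificationCompToSheaf.{u} α).symm
    have h : PreservesColimit ((K ⋙ G) ⋙ sh) (SheafOfModules.toSheaf.{u} A) :=
      preservesColimit_of_preserves_colimit_cocone
        (isColimitOfPreserves sh (colimit.isColimit (K ⋙ G)))
        (isColimitOfPreserves (sh ⋙ SheafOfModules.toSheaf.{u} A) (colimit.isColimit (K ⋙ G)))
    exact preservesColimit_of_iso_diagram _
      ((Functor.associator K G sh) ≪≫ Functor.isoWhiskerLeft K (asIso adj.counit) ≪≫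
        Functor.rightUnitor K)

theorem preservesLimitsOfShape_toSheaf {C : Type u} [SmallCategory C] {J : GrothendieckTopology C}
    (A : Sheaf J RingCat.{u}) (T : Type u) [SmallCategory T] :
    PreservesLimitsOfShape T (SheafOfModules.toSheaf.{u} A) := by
  have : PreservesLimitsOfShape T (SheafOfModules.toSheaf.{u} A ⋙ sheafToPresheaf _ _) :=
    inferInstanceAs (PreservesLimitsOfShape T (SheafOfModules.forget.{u} A ⋙ PresheafOfModules.toPresheaf A.obj))
  exact preservesLimitsOfShape_of_reflects_of_preserves _ (sheafToPresheaf _ _)


open CategoryTheory.Limits in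
/-- Ringed topos of sheaves on a small site; u : A -> B a morphism of sheaves of rings: the
restriction-of-scalars functor from B-Modules to A-Modules commutes with all u-small limits and
colimits and is conservative. -/
theorem result {C : Type u} [SmallCategory C]
    {J : GrothendieckTopology C} {A B : Sheaf J RingCat.{u}} (φ : A ⟶ B) :
    PreservesLimitsOfSize.{u, u} (SheafOfModules.restrictScalars.{u} φ) ∧
    PreservesColimitsOfSize.{u, u} (SheafOfModules.restrictScalars.{u} φ) ∧
    (SheafOfModules.restrictScalars.{u} φ).ReflectsIsomorphisms := by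
  let R := SheafOfModules.restrictScalars.{u} φ
  let e : R ⋙ SheafOfModules.toSheaf.{u} A ≅ SheafOfModules.toSheaf.{u} B := Iso.refl _
  refine ⟨⟨fun {T} _ => ?_⟩, ⟨fun {T} _ => ?_⟩, ?_⟩
  · have := preservesLimitsOfShape_toSheaf A T
    have := preservesLimitsOfShape_toSheaf B T
    have : PreservesLimitsOfShape T (R ⋙ SheafOfModules.toSheaf.{u} A) := preservesLimitsOfShape_of_natIso e.symm
    have : ReflectsLimitsOfShape T (SheafOfModules.toSheaf.{u} A) := reflectsLimitsOfShape_of_reflectsIsomorphisms
    exact preservesLimitsOfShape_of_reflects_of_preserves R (SheafOfModules.toSheaf.{u} A)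
  · have := preservesColimitsOfShape_toSheaf A T
    have := preservesColimitsOfShape_toSheaf B T
    have : PreservesColimitsOfShape T (R ⋙ SheafOfModules.toSheaf.{u} A) := preservesColimitsOfShape_of_natIso e.symm
    have : ReflectsColimitsOfShape T (SheafOfModules.toSheaf.{u} A) := reflectsColimitsOfShape_of_reflectsIsomorphisms
    exact preservesColimitsOfShape_of_reflects_of_preserves R (SheafOfModules.toSheaf.{u} A)
  · have : (R ⋙ SheafOfModules.toSheaf.{u} A).ReflectsIsomorphisms := inferInstanceAs (SheafOfModules.toSheaf.{u} B).ReflectsIsomorphisms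
    exact reflectsIsomorphisms_of_comp R (SheafOfModules.toSheaf.{u} A)

end Groth.Agent.S6160
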