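import Groth.Statements.S3864
import Groth.Agent.S2310
import Groth.Agent.Formal2Lib.ModSysAlgz
import Groth.Agent.Coherent.Existence.Proper

set_option autoImplicit false
set_option backward.isDefEq.respectTransparency false
universe u
open FCompl

namespace Groth.Agent.S3864

open CategoryTheory AlgebraicGeometry Groth.Agent.Formal2Lib.ModSysAlgz in
/-- Algebraization on a proper scheme, in the language of systems. -/
theorem exists_completionMod_iso {A : Type u} [CommRing A] [IsNoetherianRing A] (J : Ideal A) [IsAdicComplete J A]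
    (X : Scheme.{u}) [X.Over (Spec (CommRingCat.of A))] [IsProper (X ↘ Spec (CommRingCat.of A))]
    [IsLocallyNoetherian X] (I : X.IdealSheafData)
    (hI : I = (FSch.idealSpec A J).comap (X ↘ Spec (CommRingCat.of A)))
    (𝔐 : FSch.ModSys (FSch.completionAlong X I)) (h𝔐 : 𝔐.IsCoh) :
    ∃ F : X.Modules, Coh.IsCoh F ∧ Nonempty (Formal.completion J F ≅ formalMod J I hI 𝔐) := by
  obtain ⟨F, hF, ⟨e⟩⟩ := Groth.Agent.Coherent.Existence.algebraizable_of_proper (I := J) X
    (formalMod J I hI 𝔐) (isCohFormal_formalMod J I hI 𝔐 h𝔐)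
  exact ⟨F, hF, ⟨e⟩⟩

open CategoryTheory AlgebraicGeometry in
theorem pullSys_iso_mk {A : Type u} [CommRing A] {U : Scheme.{u}} {Y : FSch.Sys.{u}}
    (w : ∀ n, Y.X n ⟶ U) (ht : ∀ n, Y.ι n ≫ w (n + 1) = w n) {F G : U.Modules} (a : F ≅ G) :
    Nonempty (Groth.Agent.Formal2Lib.ModSysAlgz.pullSys w ht F ≅
      (⟨fun n => (Scheme.Modules.pullback (w n)).obj G,
        fun n => (Scheme.Modules.pullbackComp (Y.ι n) (w (n + 1)) ≪≫ Scheme.Modules.pullbackCongr (ht n)).app G⟩ :
          FSch.ModSys Y)) := by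
  refine Groth.Agent.Formal2Lib.ModSysAlgz.nonempty_modSysIso _ _
    (fun n => (Scheme.Modules.pullback (w n)).mapIso a) fun n => ?_
  exact ((Scheme.Modules.pullbackComp (Y.ι n) (w (n + 1)) ≪≫ Scheme.Modules.pullbackCongr (ht n)).hom.naturality a.hom)

open CategoryTheory AlgebraicGeometry Groth.Agent.Formal2Lib.ModSysAlgz in
theorem nonempty_iso_complMod {A : Type u} [CommRing A] [IsNoetherianRing A] (J : Ideal A) {X : Scheme.{u}}
    [X.Over (Spec (CommRingCat.of A))] [IsLocallyNoetherian X] (I : X.IdealSheafData)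
    (hI : I = (FSch.idealSpec A J).comap (X ↘ Spec (CommRingCat.of A)))
    (𝔐 : FSch.ModSys (FSch.completionAlong X I)) (F G : X.Modules)
    (e : Formal.completion J F ≅ formalMod J I hI 𝔐) (a : F ≅ G) :
    Nonempty (𝔐 ≅ FSch.complMod I G) := by
  have : ∀ n, IsClosedImmersion (FSch.completionToX X I n : (sys J I hI).X n ⟶ X) := fun n => sys_closedImm I n
  have : ∀ n, IsClosedImmersion (FSch.completionToX X I n) := fun n => sys_closedImm I n
  obtain ⟨i⟩ := nonempty_pullSys_iso 𝔐 (sys J I hI).s (sys J I hI).hs (sys J I hI).ci (sys J I hI).nil (sys J I hI).ker_le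
    (FSch.completionToX X I) (sys_comm J I hI) (fun n => rfl) F e
  obtain ⟨c⟩ := pullSys_iso_mk (A := A) (FSch.completionToX X I) (sys_comm J I hI) a
  exact ⟨i.symm ≪≫ c⟩

open AlgebraicGeometry in
open CategoryTheory in
/-- b) ⟺ c), in the strong form that keeps the transition isomorphisms (the formal spectrum of A
presented as the system of closed subschemes of Spec A cut out by the powers of J). Let A be
Noetherian, complete and separated for the J-adic topology. Every system of coherent modules F_n on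
these subschemes, given with isomorphisms identifying the restriction of F_(n+1) with F_n, is
isomorphic as a system to M^Δ for some finite A-module M. -/
theorem result (A : Type u) [CommRing A] [IsNoetherianRing A]
    (J : Ideal A) [IsAdicComplete J A]
    (𝔐 : FSch.ModSys (FSch.completionAlong (Spec (CommRingCat.of A)) (FSch.idealSpec A J)))
    (h𝔐 : 𝔐.IsCoh) :
    ∃ M : ModuleCat.{u} A, Module.Finite A M ∧
      Nonempty (𝔐 ≅ FSch.complMod (FSch.idealSpec A J) (tilde M)) := by
  let X := Spec (CommRingCat.of A)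
  letI : X.Over (Spec (CommRingCat.of A)) := ⟨𝟙 _⟩
  have : IsProper (X ↘ Spec (CommRingCat.of A)) := inferInstanceAs (IsProper (𝟙 X))
  have hI : FSch.idealSpec A J = (FSch.idealSpec A J).comap (X ↘ Spec (CommRingCat.of A)) :=
    (Scheme.IdealSheafData.comap_id _).symm
  have : IsLocallyNoetherian X := inferInstanceAs (IsLocallyNoetherian (Spec (CommRingCat.of A)))
  obtain ⟨F, hF, ⟨e⟩⟩ := exists_completionMod_iso J X (FSch.idealSpec A J) hI 𝔐 h𝔐
  obtain ⟨⟨a⟩, hfin⟩ := Groth.Agent.S2310.exists_tilde (CommRingCat.of A) F hF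
  refine ⟨(moduleSpecΓFunctor (R := CommRingCat.of A)).obj F, hfin, ?_⟩
  exact nonempty_iso_complMod J (FSch.idealSpec A J) hI 𝔐 F _ e a.symm

end Groth.Agent.S3864
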