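import Groth.Statements.S13347
import Groth.Agent.VarietyLib.FiniteClosedCover

set_option autoImplicit false
open CategoryTheory CategoryTheory.Limits
universe u
open Opposite
open FCompl

open CategoryTheory CategoryTheory.Limits AlgebraicGeometry Opposite TopologicalSpace

namespace Groth.Agent.S13347

theorem isAffineOpen_lvU (𝔛 : FSch.Sys.{u}) (h : 𝔛.IsFormal) (n : ℕ) (U : (𝔛.X 0).Opens)
    (hU : IsAffineOpen U) : IsAffineOpen (𝔛.lvU h n U) := by
  haveI : IsClosedImmersion (𝔛.toX n) := FSch.Sys.toX_isClosedImmersion 𝔛 h n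
  have he : (𝔛.toX n) ⁻¹ᵁ (𝔛.lvU h n U) = U := by
    change (Opens.map ((𝔛.toX n).base ≫ 𝔛.gInv h n)).obj U = U
    rw [FSch.Sys.toX_base_gInv]
    rfl
  haveI : IsAffine ((𝔛.toX n) ⁻¹ᵁ (𝔛.lvU h n U)).toScheme := by rw [he]; exact hU
  refine VarietyLib.isAffine_of_surjective_closedImmersion ((𝔛.toX n) ∣_ (𝔛.lvU h n U)) fun y => ?_
  obtain ⟨x, hx⟩ := FSch.Sys.toX_surjective 𝔛 h n y.1
  exact ⟨⟨x, show (𝔛.toX n) x ∈ 𝔛.lvU h n U from hx ▸ y.2⟩, Subtype.ext (by simp [hx])⟩

theorem surjective_levelMap_app (𝔛 : FSch.Sys.{u}) (h : 𝔛.IsFormal) (n : ℕ) (U : (𝔛.X 0).Opens)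
    (hU : IsAffineOpen U) : Function.Surjective ((𝔛.levelMap h n).hom.app (op U)) := by
  haveI := (h n).1
  have h1 : Function.Surjective ((𝔛.ι n).app (𝔛.lvU h (n + 1) U)) :=
    (𝔛.ι n).app_surjective _ (isAffineOpen_lvU 𝔛 h (n + 1) U hU)
  have h2 : Function.Surjective ((𝔛.X n).presheaf.map (eqToHom (𝔛.lvU_succ h n U).symm).op) :=
    (ConcreteCategory.bijective_of_isIso _).2
  rw [FSch.Sys.levelMap_app, Scheme.Hom.appLE]
  intro y
  obtain ⟨z, hz⟩ := h2 y
  obtain ⟨x, hx⟩ := h1 z
  refine ⟨x, ?_⟩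
  change ((𝔛.X n).presheaf.map _).hom ((𝔛.ι n).app _ x) = y
  exact (congr_arg _ hx).trans hz

theorem exists_section_of_surjective (F : ℕᵒᵖ ⥤ Type u)
    (hs : ∀ n, Function.Surjective (F.map (homOfLE (Nat.le_add_right n 1)).op))
    (i : ℕ) (y : F.obj (op i)) : ∃ s ∈ F.sections, s (op i) = y := by
  have hz : ∀ k, ∀ a : F.obj (op (i + k)), ∃ b : F.obj (op (i + (k + 1))),
      F.map (homOfLE (show i + k ≤ i + (k + 1) by omega)).op b = a := fun k a => hs (i + k) a
  choose step hstep using hz
  let z : ∀ k, F.obj (op (i + k)) := fun k => Nat.rec y (fun k a => step k a) k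
  have hzc : ∀ j j' (hj : j ≤ j'), F.map (homOfLE (show i + j ≤ i + j' by omega)).op (z j') = z j := by
    intro j j' hj
    induction j' with
    | zero =>
      obtain rfl : j = 0 := by omega
      exact FunctorToTypes.map_id_apply F _
    | succ k ih =>
      by_cases hjk : j = k + 1
      · subst hjk
        exact FunctorToTypes.map_id_apply F _
      · have hjk' : j ≤ k := by omega
        rw [← ih hjk', show homOfLE (show i + j ≤ i + (k + 1) by omega) =
          homOfLE (show i + j ≤ i + k by omega) ≫ homOfLE (show i + k ≤ i + (k + 1) by omega) from rfl,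
          op_comp, F.map_comp]
        change F.map _ (F.map _ _) = _
        rw [show z (k + 1) = step k (z k) from rfl, hstep]
  refine ⟨fun j => F.map (homOfLE (show j.unop ≤ i + j.unop by omega)).op (z j.unop), ?_, ?_⟩
  · rintro ⟨j'⟩ ⟨j⟩ g
    have hj : j ≤ j' := leOfHom g.unop
    change F.map g (F.map _ (z j')) = F.map _ (z j)
    rw [← hzc j j' hj, ← CategoryTheory.comp_apply (F.map _) (F.map g),
      ← CategoryTheory.comp_apply (F.map _) (F.map (homOfLE (show j ≤ i + j by omega)).op),
      ← F.map_comp, ← F.map_comp]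
    congr 1
  · change F.map _ (z i) = y
    have := hzc 0 i (Nat.zero_le i)
    exact this

open AlgebraicGeometry in
/-- Let (X_i) be an inductive system of preschemes on one underlying space with surjective transition
homomorphisms whose kernels O_{X_i} → O_{X_0} are locally nilpotent — here a system of thickenings
(closed immersions surjective on points) with the kernel ideal of X_0 → X_i nilpotent on every
affine open of X_i — and O_𝔛 = lim O_{X_i} the structure sheaf of the formal prescheme it defines.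
Then the canonical homomorphisms O_𝔛 → O_{X_i} are surjective: over every affine open U of X_0 the
map on sections Γ(U, O_𝔛) → Γ(U_i, O_{X_i}) is onto. -/
theorem result (𝔛 : FSch.Sys.{u}) (h : 𝔛.IsFormal)
    (hb : ∀ (i : ℕ) (V : (𝔛.X i).affineOpens), IsNilpotent ((𝔛.toX i).ker.ideal V))
    (i : ℕ) (U : (𝔛.X 0).Opens) (hU : IsAffineOpen U) :
    Function.Surjective ((𝔛.OshProj h i).hom.app (op U)) := by
  let E := sheafToPresheaf (Opens.grothendieckTopology (𝔛.X 0)) CommRingCat.{u} ⋙
    (evaluation ((𝔛.X 0).Opens)ᵒᵖ CommRingCat.{u}).obj (op U) ⋙ forget CommRingCat.{u}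
  intro y
  obtain ⟨s, hs, hsi⟩ := exists_section_of_surjective (𝔛.levelRing h ⋙ E) (fun n => by
    change Function.Surjective (((𝔛.levelRing h).map (homOfLE (Nat.le_add_right n 1)).op).hom.app (op U))
    rw [FSch.Sys.levelRing_map_succ]
    exact surjective_levelMap_app 𝔛 h n U hU) i y
  have hl := isLimitOfPreserves E (limit.isLimit (𝔛.levelRing h))
  refine ⟨(Types.isLimitEquivSections hl).symm ⟨s, hs⟩, ?_⟩
  rw [← hsi]
  exact Types.isLimitEquivSections_symm_apply hl ⟨s, hs⟩ (op i)

end Groth.Agent.S13347
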