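import Groth.Statements.S11526
import Groth.Agent.ValTate.Base

set_option autoImplicit false
universe u
open AdicRing

namespace Groth.Agent.S11526

/-- Let R be a base ring of class (N) or (V) for the ideal I and A an R-algebra topologically of finite
presentation. Then A is a coherent ring: every finitely generated ideal of A is finitely presented
as an A-module. -/
theorem result
    (R : Type u) [CommRing R] (I : Ideal R) (hR : AdicRing.IsBase R I)
    (A : Type u) [CommRing A] [Algebra R A] (hA : AdicRing.TopFinitePresentation R I A)
    (J : Ideal A) (hJ : J.FG) :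
    Module.FinitePresentation A J := by
  classical
  obtain ⟨n, φ, hφ, hker⟩ := hA
  let T := AdicRing.RPow R I n
  letI : Algebra T A := φ.toRingHom.toAlgebra
  haveI : Module.Finite T A := Module.Finite.of_surjective (Algebra.linearMap T A) hφ
  obtain ⟨l, b, hb⟩ := Submodule.fg_iff_exists_fin_generating_family.1 hker
  obtain ⟨k, g, hg⟩ := Submodule.fg_iff_exists_fin_generating_family.1 hJ
  choose g' hg' using fun i => hφ (g i)
  let q : (Fin k → A) →ₗ[A] J :=
    (Fintype.linearCombination A g).codRestrict J fun x => by
      rw [← hg]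
      simp only [Fintype.linearCombination_apply]
      exact Submodule.sum_mem _ fun i _ => Submodule.smul_mem _ _ (Submodule.subset_span ⟨i, rfl⟩)
  have hq : Function.Surjective q := fun ⟨y, hy⟩ => by
    rw [← hg, Submodule.mem_span_range_iff_exists_fun] at hy
    obtain ⟨c, hc⟩ := hy
    exact ⟨c, Subtype.ext (by simpa [q, Fintype.linearCombination_apply] using hc)⟩
  refine Module.finitePresentation_of_surjective q hq (Submodule.FG.of_restrictScalars T ?_)
  let L : (Fin k → T) × (Fin l → T) →ₗ[T] T :=
    (Fintype.linearCombination T g').coprod (Fintype.linearCombination T b)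
  have hL : (LinearMap.ker L).FG := by
    have h := Groth.Agent.ValTate.powSat_ker (R := R) (I := I) L
      (Groth.Agent.ValTate.noPowTorsion_rPow hR n)
    exact h ▸ (Groth.Agent.ValTate.tame_of_topFiniteType I hR
      (Groth.Agent.ValTate.topFiniteType_rPow I n)).powSat_fg (LinearMap.ker L)
  let π : (Fin k → T) × (Fin l → T) →ₗ[T] (Fin k → A) :=
    ((Algebra.linearMap T A).compLeft (Fin k)).comp (LinearMap.fst T _ _)
  suffices h : (LinearMap.ker q).restrictScalars T = (LinearMap.ker L).map π from h ▸ hL.map π
  ext x
  constructor
  · intro hx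
    have hx' : ∑ i, x i * g i = 0 := by
      have := congrArg Subtype.val (hx : q x = 0)
      simpa [q, Fintype.linearCombination_apply] using this
    choose y hy using fun i => hφ (x i)
    have hm : ∑ i, y i * g' i ∈ RingHom.ker φ.toRingHom := by
      rw [RingHom.mem_ker]
      change φ (∑ i, y i * g' i) = 0
      simpa [map_sum, map_mul, hy, hg'] using hx'
    rw [← hb, Submodule.mem_span_range_iff_exists_fun] at hm
    obtain ⟨c, hc⟩ := hm
    refine ⟨(y, -c), ?_, funext hy⟩
    change L (y, -c) = 0
    simp only [L, LinearMap.coprod_apply, Fintype.linearCombination_apply, Pi.neg_apply, neg_smul,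
      Finset.sum_neg_distrib]
    rw [hc]
    simp [smul_eq_mul]
  · rintro ⟨⟨y, c⟩, hyc, rfl⟩
    refine Subtype.ext ?_
    have h1 := congrArg φ (hyc : L (y, c) = 0)
    have h2 : ∀ i, φ (b i) = 0 := fun i =>
      (hb ▸ Submodule.subset_span ⟨i, rfl⟩ : b i ∈ RingHom.ker φ.toRingHom)
    simpa [L, π, q, Fintype.linearCombination_apply, map_sum, map_mul, hg', h2, RingHom.algebraMap_toAlgebra] using h1

end Groth.Agent.S11526
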