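import Groth.Statements.S7688
import Groth.Agent.VarietyLib.StarGlue
import Groth.Agent.VarietyLib.IsolatedPoint
import Groth.Agent.PicLib.FiniteSetTriv
import Groth.Agent.CurveLib.Basic
import Mathlib

set_option autoImplicit false
universe u
open CategoryTheory CategoryTheory.Limits AlgebraicGeometry
open Variety
set_option backward.isDefEq.respectTransparency.types false

namespace Groth.Agent.S7688

open Groth.Agent.VarietyLib Groth.Agent.AmpleLib Groth.Agent.PicLib Groth.Agent.Coherent TopologicalSpace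

variable {X Y : Scheme.{u}}

theorem stalk_dim_le (hdim : topologicalKrullDim Y ≤ 1) (y : Y) : ringKrullDim (Y.presheaf.stalk y) ≤ 1 := by
  rw [ringKrullDim_stalk_eq_coheight]
  refine (Order.coheight_le_krullDim y).trans (le_of_eq_of_le ?_ hdim)
  exact (Order.krullDim_eq_of_orderIso irreducibleSetEquivPoints).symm

theorem isClosed_of_not_generic (hdim : topologicalKrullDim Y ≤ 1) {y : Y}
    (hy : y ∉ genericPoints Y) : IsClosed ({y} : Set Y) := by
  obtain ⟨C, hC, hyC⟩ : ∃ C ∈ irreducibleComponents Y, y ∈ C :=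
    ⟨irreducibleComponent y, irreducibleComponent_mem_irreducibleComponents y, mem_irreducibleComponent⟩
  obtain ⟨η, hη⟩ := QuasiSober.sober (hC.1)
    (isClosed_of_mem_irreducibleComponents C hC)
  have hne : y ≠ η := fun h => hy (by
    show closure ({y} : Set Y) ∈ irreducibleComponents Y
    rwa [h, hη.def])
  rw [← closure_subset_iff_isClosed]
  intro z hz
  exact ((CurveLib.eq_or_eq_of_dim_one (stalk_dim_le hdim z) (hη.specializes hyC)
    (specializes_iff_mem_closure.2 hz)).resolve_right hne).symm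

theorem generic_inter_finite [NoetherianSpace Y] : (genericPoints Y).Finite := by
  have := (NoetherianSpace.finite_irreducibleComponents (α := Y)).preimage
    (f := fun y : Y => closure ({y} : Set Y)) (fun a _ b _ h =>
      ((specializes_iff_closure_subset.2 h.ge).antisymm (specializes_iff_closure_subset.2 h.le)).eq)
  exact this

theorem finite_of_isClosed_no_generic [NoetherianSpace Y] (hdim : topologicalKrullDim Y ≤ 1) {F : Set Y}
    (hF : IsClosed F) (h : ∀ y ∈ F, y ∉ genericPoints Y) : F.Finite ∧ ∀ S ⊆ F, IsClosed S := by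
  have hfin : F.Finite := by
    obtain ⟨S, hS, hSc, hSi, rfl⟩ := NoetherianSpace.exists_finite_set_isClosed_irreducible hF
    refine hS.sUnion fun t ht => ?_
    obtain ⟨y, hy⟩ := QuasiSober.sober (hSi t ht) (hSc t ht)
    rw [← hy.def, (isClosed_of_not_generic hdim (h y ⟨t, ht, hy.mem⟩)).closure_eq]
    exact Set.finite_singleton y
  refine ⟨hfin, fun S hS => ?_⟩
  rw [← Set.biUnion_of_singleton S]
  exact (hfin.subset hS).isClosed_biUnion fun y hy => isClosed_of_not_generic hdim (h y (hS hy))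

theorem exists_mem_specializes [NoetherianSpace Y] {O K : Set Y} (hO : IsOpen O) (hK : IsClosed K) {x : Y}
    (hx : x ∈ closure (O ∩ K)) : ∃ g ∈ O ∩ K, g ⤳ x := by
  obtain ⟨S, hSf, hSc, hSi, hSU⟩ :=
    NoetherianSpace.exists_finite_set_isClosed_irreducible (isClosed_closure (s := O ∩ K))
  let S' := {Z ∈ S | (Z ∩ O).Nonempty}
  have hsub : O ∩ K ⊆ ⋃₀ S' := by
    intro b hb
    have : b ∈ ⋃₀ S := hSU ▸ subset_closure hb
    obtain ⟨Z, hZ, hbZ⟩ := this
    exact ⟨Z, ⟨hZ, b, hbZ, hb.1⟩, hbZ⟩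
  have hS'f : S'.Finite := hSf.subset fun Z hZ => hZ.1
  have hcl : IsClosed (⋃₀ S') := by
    rw [Set.sUnion_eq_biUnion]
    exact hS'f.isClosed_biUnion fun Z hZ => hSc Z hZ.1
  obtain ⟨Z, ⟨hZ, b, hbZ, hbO⟩, hxZ⟩ := closure_minimal hsub hcl hx
  obtain ⟨g, hg⟩ := QuasiSober.sober (hSi Z hZ) (hSc Z hZ)
  have hgO : g ∈ O := (hg.specializes hbZ).mem_open hO hbO
  have hgK : g ∈ closure (O ∩ K) := hSU ▸ ⟨Z, hZ, hg.mem⟩
  exact ⟨g, ⟨hgO, closure_minimal Set.inter_subset_right hK hgK⟩, hg.specializes hxZ⟩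

theorem eq_of_specializes_generic {g η : Y} (hη : η ∈ genericPoints Y) (h : g ⤳ η) : g = η := by
  have h2 : closure ({η} : Set Y) = closure {g} :=
    (hη : closure ({η} : Set Y) ∈ irreducibleComponents Y).eq_of_le isIrreducible_singleton.closure
      (specializes_iff_closure_subset.1 h)
  exact (h.antisymm (specializes_iff_closure_subset.2 h2.ge)).eq

theorem exists_gen_near (f : X ⟶ Y) [IsFinite f] {L : X.Modules} (hL : PicF.IsInvertible L) (y : Y) :
    ∃ O : Y.Opens, y ∈ O ∧ ∃ g : Γ(L, f ⁻¹ᵁ O), IsGen L (f ⁻¹ᵁ O) g := by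
  obtain ⟨W, hW, hyW, -⟩ := exists_isAffineOpen_mem_and_subset (X := Y) (U := ⊤) (x := y) trivial
  obtain ⟨U', hZU, -, -, ⟨t⟩⟩ := PicLib.exists_triv_of_finite hL (hW.preimage f) (f ⁻¹' {y})
    (f.finite_preimage_singleton y) (fun z (hz : f z = y) => show f z ∈ W from hz ▸ hyW)
  obtain ⟨g, hg⟩ := exists_isGen_of_iso t
  let O : Y.Opens := ⟨(f '' (U' : Set X)ᶜ)ᶜ, (f.isClosedMap _ U'.2.isClosed_compl).isOpen_compl⟩
  refine ⟨O, fun ⟨z, hz, hzy⟩ => hz (hZU hzy), _, hg.restrict (fun z hz => by_contra fun hzU => (show f z ∉ f '' (U' : Set X)ᶜ from hz) ⟨z, hzU, rfl⟩ : f ⁻¹ᵁ O ≤ U')⟩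

theorem exists_unit_lift {W : Y.Opens} (hW : IsAffineOpen W) [NoetherianSpace Y] (K : Ideal Γ(Y, W))
    (a0 : Γ(Y, W)) (hK : ∀ q : PrimeSpectrum Γ(Y, W), K ≤ q.asIdeal → a0 ∉ q.asIdeal) :
    ∃ b ∈ K, ∀ η ∈ genericPoints Y, η ∈ W → η ∈ Y.basicOpen (a0 + b) := by
  classical
  have hfin : {q : PrimeSpectrum Γ(Y, W) | hW.fromSpec q ∈ genericPoints Y}.Finite :=
    generic_inter_finite.preimage hW.fromSpec.isOpenEmbedding.injective.injOn
  let G := hfin.toFinset
  have hinc : ∀ q ∈ G, ∀ q' ∈ G, q'.asIdeal ≤ q.asIdeal → q' = q := by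
    intro q hq q' hq' hle
    have h1 := ((PrimeSpectrum.le_iff_specializes q' q).1 hle).map hW.fromSpec.continuous
    have h2 : closure ({hW.fromSpec q'} : Set Y) = closure {hW.fromSpec q} :=
      (hfin.mem_toFinset.1 hq).eq_of_ge (isIrreducible_singleton.closure) (specializes_iff_closure_subset.1 h1)
    exact hW.fromSpec.isOpenEmbedding.injective
      ((specializes_iff_closure_subset.2 h2.le).antisymm (specializes_iff_closure_subset.2 h2.ge)).eq.symm
  let B := G.filter fun q => a0 ∈ q.asIdeal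
  let J := K ⊓ (G.filter fun q => a0 ∉ q.asIdeal).inf PrimeSpectrum.asIdeal
  obtain ⟨b, hbJ, hb⟩ : ∃ b ∈ J, ∀ q ∈ B, b ∉ q.asIdeal := by
    by_contra hc
    push Not at hc
    have hsub : (J : Set Γ(Y, W)) ⊆ ⋃ q ∈ (B : Set (PrimeSpectrum Γ(Y, W))), (q.asIdeal : Set Γ(Y, W)) :=
      fun a ha => by
        obtain ⟨q, hq, haq⟩ := hc a ha
        exact Set.mem_iUnion₂.2 ⟨q, hq, haq⟩
    obtain ⟨q₀, -, -⟩ := hc 0 (zero_mem _)
    obtain ⟨q, hq, hle⟩ := (Ideal.subset_union_prime (R := Γ(Y, W)) (f := fun q : PrimeSpectrum Γ(Y, W) => q.asIdeal)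
      q₀ q₀ fun q _ _ _ => q.isPrime).1 hsub
    obtain ⟨hqG, haq⟩ := Finset.mem_filter.1 hq
    rcases q.isPrime.inf_le.1 hle with h | h
    · exact hK q h haq
    · obtain ⟨q', hq', hle'⟩ := q.isPrime.inf_le'.1 h
      obtain ⟨hq'G, haq'⟩ := Finset.mem_filter.1 hq'
      exact haq' (hinc q hqG q' hq'G hle' ▸ haq)
  refine ⟨b, hbJ.1, fun η hη hηW => ?_⟩
  obtain ⟨q, rfl⟩ := IsolatedPoint.exists_fromSpec_eq hW hηW
  rw [IsolatedPoint.fromSpec_mem_basicOpen]
  have hqG : q ∈ G := hfin.mem_toFinset.2 hη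
  by_cases ha : a0 ∈ q.asIdeal
  · exact fun h => hb q (Finset.mem_filter.2 ⟨hqG, ha⟩) ((Submodule.add_mem_iff_right _ ha).1 h)
  · exact fun h => ha ((Submodule.add_mem_iff_left _
      ((Finset.inf_le (f := PrimeSpectrum.asIdeal) (Finset.mem_filter.2 ⟨hqG, ha⟩)) hbJ.2)).1 h)

theorem surjective_app_of_restrict (f : X ⟶ Y) {W : Y.Opens} (hW : IsAffineOpen W) [hci : IsClosedImmersion (f ∣_ W)] :
    Function.Surjective (f.app W) := by
  have : IsAffine W.toScheme := hW
  have h := (f ∣_ W).app_surjective ⊤ (isAffineOpen_top _)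
  rw [show (f ∣_ W).app ⊤ = _ from morphismRestrict_app f W ⊤] at h
  have hbij : Function.Bijective (X.presheaf.map (eqToHom (image_morphismRestrict_preimage f W ⊤)).op) := by
    rw [eqToHom_op, eqToHom_map]
    exact ConcreteCategory.bijective_of_isIso _
  have h2 : Function.Surjective (f.app (W.ι ''ᵁ ⊤)) := fun y => by
    obtain ⟨x, hx⟩ := h ((X.presheaf.map (eqToHom (image_morphismRestrict_preimage f W ⊤)).op) y)
    exact ⟨x, hbij.1 ((ConcreteCategory.comp_apply _ _ _).symm.trans hx)⟩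
  rwa [W.ι_image_top] at h2

theorem mem_range_of_ker_le (f : X ⟶ Y) [IsFinite f] {W : Y.Opens} (hW : IsAffineOpen W)
    (q : PrimeSpectrum Γ(Y, W)) (hq : RingHom.ker (f.app W).hom ≤ q.asIdeal) : hW.fromSpec q ∈ Set.range f := by
  rw [← (f.isClosedMap.isClosed_range).closure_eq, ← f.support_ker]
  refine ((f.ker.coe_support_inter ⟨W, hW⟩).superset ⟨?_, IsolatedPoint.fromSpec_mem hW q⟩).1
  rw [Scheme.Hom.ker_apply]
  exact (hW.fromSpec_preimage_zeroLocus _).superset hq


/-- Let f : X → Y be finite with Y Noetherian of dimension at most one, and suppose that over some dense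
open V ⊆ Y the restriction f⁻¹(V) → V is a closed immersion. Then each invertible O_X-module arises,
up to isomorphism, by pulling back an invertible O_Y-module along f. -/
theorem result {X Y : Scheme.{u}} (f : X ⟶ Y)
    [IsFinite f] [IsNoetherian Y] (hdim : topologicalKrullDim Y ≤ 1)
    (V : Y.Opens) (hV : Dense (V : Set Y)) (hfV : IsClosedImmersion (f ∣_ V))
    (L : X.Modules) (hL : PicF.IsInvertible L) :
    ∃ N : Y.Modules, PicF.IsInvertible N ∧ Nonempty ((Scheme.Modules.pullback f).obj N ≅ L) := by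
  classical
  have : NoetherianSpace Y := inferInstance
  -- a dense open inside `V` over which `L` is trivial
  let Gs := genericPoints Y
  have hGs : Gs.Finite := generic_inter_finite
  choose O₁ hO₁ g₁ hg₁ using fun η : Gs => exists_gen_near f hL η.1
  let others : Gs → Set Y := fun η => ⋃ η' ∈ Gs \ {η.1}, closure {η'}
  have hothers : ∀ η, IsClosed (others η) := fun η =>
    (hGs.subset Set.sdiff_subset).isClosed_biUnion fun _ _ => isClosed_closure
  have hsep : ∀ η : Gs, η.1 ∉ others η := fun η h => by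
    obtain ⟨η', hη', hcl⟩ := Set.mem_iUnion₂.1 h
    have h1 : closure ({η.1} : Set Y) ⊆ closure {η'} := closure_minimal (Set.singleton_subset_iff.2 hcl) isClosed_closure
    have h2 : closure ({η.1} : Set Y) = closure {η'} :=
      (η.2 : closure ({η.1} : Set Y) ∈ irreducibleComponents Y).eq_of_le isIrreducible_singleton.closure h1
    exact hη'.2 ((specializes_iff_closure_subset.2 h2.le).antisymm (specializes_iff_closure_subset.2 h2.ge)).eq
  have hgV : ∀ η : Gs, η.1 ∈ V := fun η => by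
    obtain ⟨v, hvU, hvV⟩ := hV.inter_open_nonempty (others η)ᶜ (hothers η).isOpen_compl ⟨η.1, hsep η⟩
    obtain ⟨C, hC, hvC⟩ : ∃ C ∈ irreducibleComponents Y, v ∈ C :=
      ⟨irreducibleComponent v, irreducibleComponent_mem_irreducibleComponents v, mem_irreducibleComponent⟩
    obtain ⟨ζ, hζ⟩ := QuasiSober.sober (hC.1) (isClosed_of_mem_irreducibleComponents C hC)
    have hζG : ζ ∈ Gs := show closure ({ζ} : Set Y) ∈ _ from hζ.def.symm ▸ hC
    have hζη : ζ = η.1 := by_contra fun h =>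
      hvU (Set.mem_iUnion₂.2 ⟨ζ, ⟨hζG, h⟩, hζ.def.symm ▸ hvC⟩)
    exact hζη ▸ (hζ.specializes hvC).mem_open V.2 hvV
  let O₂ : Gs → Y.Opens := fun η => O₁ η ⊓ V ⊓ ⟨(others η)ᶜ, (hothers η).isOpen_compl⟩
  have hmem : ∀ η, η.1 ∈ O₂ η := fun η => ⟨⟨hO₁ η, hgV η⟩, hsep η⟩
  have hdisj : ∀ η η', η ≠ η' → ∀ y, y ∈ O₂ η → y ∉ O₂ η' := by
    intro η η' hne y hy hy'
    obtain ⟨C, hC, hyC⟩ : ∃ C ∈ irreducibleComponents Y, y ∈ C :=
      ⟨irreducibleComponent y, irreducibleComponent_mem_irreducibleComponents y, mem_irreducibleComponent⟩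
    obtain ⟨ζ, hζ⟩ := QuasiSober.sober (hC.1)
      (isClosed_of_mem_irreducibleComponents C hC)
    have hζG : ζ ∈ Gs := show closure ({ζ} : Set Y) ∈ _ from hζ.def.symm ▸ hC
    have hy1 : y ∈ closure ({ζ} : Set Y) := hζ.def.symm ▸ hyC
    by_cases h : ζ = η.1
    · exact hy'.2 (Set.mem_iUnion₂.2 ⟨ζ, ⟨hζG, fun h' => hne (Subtype.ext (h.symm.trans h'))⟩, hy1⟩)
    · exact hy.2 (Set.mem_iUnion₂.2 ⟨ζ, ⟨hζG, h⟩, hy1⟩)
  let D : Y.Opens := iSup O₂
  have hDV : D ≤ V := iSup_le fun η => inf_le_left.trans inf_le_right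
  have hGD : ∀ η ∈ Gs, η ∈ D := fun η hη => Opens.mem_iSup.2 ⟨⟨η, hη⟩, hmem _⟩
  obtain ⟨gD, hgD⟩ : ∃ gD : Γ(L, f ⁻¹ᵁ D), ∀ η, resM L (f.preimage_mono (le_iSup O₂ η)) gD =
      resM L (f.preimage_mono (inf_le_left.trans inf_le_left)) (g₁ η) := by
    obtain ⟨gD, hgD, -⟩ := TopCat.Sheaf.existsUnique_gluing' (⟨L.presheaf, L.isSheaf⟩ : TopCat.Sheaf Ab X)
      (fun η => f ⁻¹ᵁ O₂ η) (f ⁻¹ᵁ D) (fun η => homOfLE (f.preimage_mono (le_iSup O₂ η)))
      (fun z hz => by
        obtain ⟨η, hη⟩ := Opens.mem_iSup.1 (show f z ∈ D from hz)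
        exact Opens.mem_iSup.2 ⟨η, hη⟩)
      (fun η => resM L (f.preimage_mono (inf_le_left.trans inf_le_left)) (g₁ η)) (fun a b => by
        refine sec_ext_germ L fun z hz => ?_
        by_cases hab : a = b
        · subst hab; rfl
        · exact (hdisj a b hab _ hz.1 hz.2).elim)
    exact ⟨gD, hgD⟩
  have hgenD : IsGen L (f ⁻¹ᵁ D) gD := by
    refine isGen_of_cover (fun η => f ⁻¹ᵁ O₂ η) (fun η => f.preimage_mono (le_iSup O₂ η)) (fun z hz => ?_)
      fun η => ?_
    · obtain ⟨η, hη⟩ := Opens.mem_iSup.1 (show f z ∈ D from hz)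
      exact Opens.mem_iSup.2 ⟨η, hη⟩
    · rw [hgD]
      exact (hg₁ η).restrict _
  -- the finitely many closed points outside
  have hF := finite_of_isClosed_no_generic hdim (F := (D : Set Y)ᶜ) D.2.isClosed_compl fun y hy hy' => hy (hGD y hy')
  have hloc : ∀ y : Y, IsNoetherianRing (Y.presheaf.stalk y) ∧ ringKrullDim (Y.presheaf.stalk y) ≤ 1 :=
    fun y => ⟨inferInstance, stalk_dim_le hdim y⟩
  have key : ∀ t : {t : Y // t ∉ D}, ∃ U : Y.Opens, t.1 ∈ U ∧ (∀ y ∈ U, y ∉ D → y = t.1) ∧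
      ∃ (g : Γ(L, f ⁻¹ᵁ U)) (a : Γ(Y, U ⊓ D)), IsGen L (f ⁻¹ᵁ U) g ∧ IsUnit a ∧
        resM L (f.preimage_mono (inf_le_left : U ⊓ D ≤ U)) g =
          f.app (U ⊓ D) a • resM L (f.preimage_mono (inf_le_right : U ⊓ D ≤ D)) gD := by
    rintro ⟨t, ht⟩
    obtain ⟨O, htO, g, hg⟩ := exists_gen_near f hL t
    let W₀ : Y.Opens := O ⊓ ⟨((D : Set Y)ᶜ \ {t})ᶜ, (hF.2 _ Set.sdiff_subset).isOpen_compl⟩
    obtain ⟨W, hW, e, htW, hWle, hWD⟩ := IsolatedPoint.exists_nbhd D ht W₀ ⟨htO, fun h => h.2 rfl⟩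
      (fun y hy hyD => by_contra fun hne => hy.2 ⟨hyD, hne⟩) (hloc t)
    have haff : IsAffineOpen (W ⊓ D) := hWD ▸ hW.basicOpen e
    let W' := W ⊓ D
    have hW'V : W' ≤ V := inf_le_right.trans hDV
    have hgW := hg.restrict (f.preimage_mono ((inf_le_left.trans (hWle.trans inf_le_left)) : W' ≤ O))
    have hgD' := hgenD.restrict (f.preimage_mono (inf_le_right : W' ≤ D))
    have hu := hgD'.isUnit_coef hgW
    have hspec := hgD'.coef_spec le_rfl (resM L (f.preimage_mono ((inf_le_left.trans (hWle.trans inf_le_left)) : W' ≤ O)) g)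
    rw [resM_self] at hspec
    let u := hgD'.coef le_rfl (resM L (f.preimage_mono ((inf_le_left.trans (hWle.trans inf_le_left)) : W' ≤ O)) g)
    have hci : IsClosedImmersion (f ∣_ W') := by
      have h1 : IsClosedImmersion ((f ∣_ V) ∣_ (V.ι ⁻¹ᵁ W')) := IsZariskiLocalAtTarget.restrict hfV _
      have h2 := (MorphismProperty.arrow_mk_iso_iff @IsClosedImmersion (morphismRestrictRestrict f V (V.ι ⁻¹ᵁ W'))).1 h1
      have e : V.ι ''ᵁ (V.ι ⁻¹ᵁ W') = W' := by
        ext y
        exact ⟨fun ⟨w, hw, he⟩ => he ▸ hw, fun hy => ⟨⟨y, hW'V hy⟩, hy, rfl⟩⟩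
      rwa [e] at h2
    have hsurj : Function.Surjective (f.app W') := surjective_app_of_restrict f haff
    obtain ⟨a0, ha0⟩ := hsurj u
    obtain ⟨b, hb, hbgen⟩ := exists_unit_lift haff (RingHom.ker (f.app W').hom) a0 fun q hq hqa => by
      obtain ⟨z, hz⟩ := mem_range_of_ker_le f haff q hq
      refine (IsolatedPoint.fromSpec_mem_basicOpen haff q a0).1 ?_ hqa
      rw [← hz, ← Scheme.Hom.mem_preimage, Scheme.preimage_basicOpen, ha0, Scheme.basicOpen_of_isUnit _ hu]
      show f z ∈ W'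
      rw [hz]
      exact IsolatedPoint.fromSpec_mem haff q
    let a := a0 + b
    let Z' : Set Y := (W' : Set Y) ∩ (Y.basicOpen a : Set Y)ᶜ
    have hzero := finite_of_isClosed_no_generic hdim (F := closure Z') isClosed_closure fun y hy hy' => by
      obtain ⟨g', hg', hsp⟩ := exists_mem_specializes W'.2 (Y.basicOpen a).2.isClosed_compl hy
      have hge := eq_of_specializes_generic hy' hsp
      subst hge
      exact hg'.2 (hbgen _ hy' hg'.1)
    have hZc : IsClosed Z' := hzero.2 _ subset_closure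
    let U : Y.Opens := W ⊓ ⟨Z'ᶜ, hZc.isOpen_compl⟩
    have hUW : U ≤ O := inf_le_left.trans (hWle.trans inf_le_left)
    have hle : U ⊓ D ≤ W' := inf_le_inf_right D inf_le_left
    have hbo : U ⊓ D ≤ Y.basicOpen a := fun y hy => by_contra fun h => hy.1.2 ⟨hle hy, h⟩
    refine ⟨U, ⟨htW, fun h => ht h.1.2⟩, fun y hy hyD => by_contra fun hne => (hWle hy.1).2 ⟨hyD, hne⟩,
      resM L (f.preimage_mono hUW) g, PicLib.res hle a, hg.restrict _, ?_, ?_⟩
    · rw [← PicLib.res_res (Y.basicOpen_le a) hbo a]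
      exact (RingedSpace.isUnit_res_basicOpen Y.toRingedSpace a).map (PicLib.res hbo)
    · have h1 : f.app W' a = u := by
        show f.app W' (a0 + b) = u
        rw [map_add, ha0, (RingHom.mem_ker.1 hb : (f.app W').hom b = 0)]
        exact add_zero u
      have h2 := congrArg (resM L (f.preimage_mono hle)) hspec
      rw [resM_smul, resM_resM, resM_resM] at h2
      rw [resM_resM, ← h2]
      congr 1
      refine (congrArg (PicLib.res (f.preimage_mono hle)) h1.symm).trans ?_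
      exact (congr($(f.naturality (homOfLE hle).op) a)).symm
  choose U htU hiso g a hg ha hga using key
  let 𝒟 : StarGlue.Data Y :=
    { N := Coh.structureModule Y
      D := D
      ι := {t : Y // t ∉ D}
      U := U
      e := fun t => a t • oneSec (U t ⊓ D)
      gen := fun t => (isGen_smul_iff (ha t)).2 (isGen_oneSec _)
      meet := fun i j hij y hy => by_contra fun hyD =>
        hij (Subtype.ext ((hiso i y hy.1 hyD).symm.trans (hiso j y hy.2 hyD)))
      cover := fun y => (em (y ∈ D)).imp_right fun h => ⟨⟨y, h⟩, htU _⟩ }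
  have hN : PicF.IsInvertible (StarGlue.glue 𝒟) :=
    StarGlue.isInvertible_glue 𝒟 fun y hy => ⟨D, hy, _, isGen_oneSec D⟩
  refine ⟨StarGlue.glue 𝒟, hN, ?_⟩
  let Ys : Option {t : Y // t ∉ D} → Y.Opens := fun o => o.elim D U
  let σ : ∀ o, Γ(StarGlue.glue 𝒟, Ys o) := fun o => match o with
    | none => StarGlue.secD 𝒟 le_rfl (oneSec D)
    | some t => StarGlue.chart 𝒟 t
  have hσ : ∀ o, IsGen (StarGlue.glue 𝒟) (Ys o) (σ o) := fun o => match o with
    | none => StarGlue.isGen_secD 𝒟 le_rfl (isGen_oneSec D)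
    | some t => StarGlue.isGen_chart 𝒟 t
  let τ : ∀ o, Γ(L, f ⁻¹ᵁ Ys o) := fun o => match o with
    | none => gD
    | some t => g t
  have hτ : ∀ o, IsGen L (f ⁻¹ᵁ Ys o) (τ o) := fun o => match o with
    | none => hgenD
    | some t => hg t
  have hY : iSup Ys = ⊤ := top_le_iff.1 fun y _ => Opens.mem_iSup.2 <| (em (y ∈ D)).elim
    (fun h => ⟨none, h⟩) (fun h => ⟨some ⟨y, h⟩, htU ⟨y, h⟩⟩)
  have hDcoef : ∀ (o : Option {t : Y // t ∉ D}), ∃ c : Γ(Y, Ys o ⊓ D),
      resM (StarGlue.glue 𝒟) inf_le_left (σ o) =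
          c • resM (StarGlue.glue 𝒟) inf_le_right (StarGlue.secD 𝒟 le_rfl (oneSec D)) ∧
        resM L (f.preimage_mono inf_le_left) (τ o) =
          f.app (Ys o ⊓ D) c • resM L (f.preimage_mono inf_le_right) gD := fun o => match o with
    | none => ⟨1, (one_smul _ _).symm, by rw [map_one, one_smul]; rfl⟩
    | some t => ⟨a t, by
        show resM (StarGlue.glue 𝒟) inf_le_left (StarGlue.chart 𝒟 t) = _
        refine (StarGlue.resM_chart 𝒟 t).trans ?_
        refine (StarGlue.secD_smul 𝒟 (W := U t ⊓ D) inf_le_right (a t) (oneSec (U t ⊓ D))).trans ?_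
        refine congrArg (fun z => a t • z) ?_
        refine Eq.trans ?_ (StarGlue.resM_secD 𝒟 (inf_le_right : U t ⊓ D ≤ D) le_rfl (oneSec D)).symm
        exact congrArg (StarGlue.secD 𝒟 inf_le_right) (resM_oneSec (inf_le_right : U t ⊓ D ≤ D)).symm, hga t⟩
  obtain ⟨ψ, hψ⟩ := exists_hom_of_gen (M := (Scheme.Modules.pushforward f).obj L) Ys hY σ hσ
    (fun o => (show Γ((Scheme.Modules.pushforward f).obj L, Ys o) from τ o)) (by
      intro i j W hi hj c hc
      by_cases hij : i = j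
      · subst hij
        have h1 := ((hσ i) W hi).1 (a₁ := c) (a₂ := 1) (by simpa using hc.symm)
        rw [h1, one_smul]
      have hW : W ≤ D := by
        match i, j with
        | none, _ => exact hi
        | some t, none => exact hj
        | some t, some t' => exact (le_inf hi hj).trans (𝒟.meet t t' fun h => hij (congrArg some h))
      obtain ⟨ci, hci₁, hci₂⟩ := hDcoef i
      obtain ⟨cj, hcj₁, hcj₂⟩ := hDcoef j
      have li : W ≤ Ys i ⊓ D := le_inf hi hW
      have lj : W ≤ Ys j ⊓ D := le_inf hj hW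
      have e1 := congrArg (resM (StarGlue.glue 𝒟) li) hci₁
      have e2 := congrArg (resM (StarGlue.glue 𝒟) lj) hcj₁
      rw [resM_smul, resM_resM, resM_resM] at e1 e2
      rw [e1, e2, smul_smul] at hc
      have hc' : PicLib.res li ci = c * PicLib.res lj cj :=
        ((StarGlue.isGen_secD 𝒟 le_rfl (isGen_oneSec D)) W hW).1 hc
      have f1 := congrArg (resM L (f.preimage_mono li)) hci₂
      have f2 := congrArg (resM L (f.preimage_mono lj)) hcj₂
      rw [resM_smul, resM_resM, resM_resM] at f1 f2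
      show resM L (f.preimage_mono hi) (τ i) = f.app W c • resM L (f.preimage_mono hj) (τ j)
      rw [f1, f2, smul_smul]
      congr 1
      refine (congr($(f.naturality (homOfLE li).op) ci)).symm.trans ?_
      show f.app W (PicLib.res li ci) = _
      rw [hc', map_mul]
      congr 1
      exact congr($(f.naturality (homOfLE lj).op) cj))
  let adj := Scheme.Modules.pullbackPushforwardAdjunction f
  let φ := (adj.homEquiv _ _).symm ψ
  have hφ : ∀ o, φ.app (f ⁻¹ᵁ Ys o) (pullSec f (σ o)) = τ o := fun o => by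
    have h := congrArg (fun q : StarGlue.glue 𝒟 ⟶ (Scheme.Modules.pushforward f).obj L => q.app (Ys o) (σ o))
      ((adj.homEquiv_unit _ _ φ).symm.trans ((adj.homEquiv _ _).apply_symm_apply ψ))
    exact h.trans (hψ o)
  have : IsIso φ := by
    refine isIso_of_gens φ (fun o => f ⁻¹ᵁ Ys o) ?_ (fun o => pullSec f (σ o))
      (fun o => isGen_pullSec f (hσ o) hN) fun o => ?_
    · refine top_le_iff.1 fun z _ => ?_
      obtain ⟨o, ho⟩ := Opens.mem_iSup.1 (hY.ge (Set.mem_univ (f z)))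
      exact Opens.mem_iSup.2 ⟨o, ho⟩
    · rw [hφ o]
      exact hτ o
  exact ⟨asIso φ⟩

end Groth.Agent.S7688
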