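import Groth.Statements.S8403
import Groth.Agent.CentConn12.Affine
import Groth.Agent.S7520
import Groth.Agent.HMTor29.MaxTorus
import Groth.Agent.TorusAb27.Basic
import Groth.Agent.AGFImage11.RadicalDescent
import Groth.Agent.AlgSpLib.DimBasic
import Groth.Agent.ConjConst26.MaxTorusConj
-- import your own Groth.Agent.* helpers here

set_option autoImplicit false
set_option backward.isDefEq.respectTransparency false
set_option backward.isDefEq.respectTransparency.types false
open CategoryTheory.Limits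
universe u
open CategoryTheory MonoidalCategory CartesianMonoidalCategory MonObj GrpObj AlgebraicGeometry
open SGA3x

namespace Groth.Agent.S8403


open AGFQuot23 (cj comp_cj cj_comp cj_one)

theorem centralizer_bc {S S' : Scheme.{u}} (p : S' ⟶ S) {T G C : Over S} [GrpObj T] [GrpObj G] [GrpObj C]
    (j : T ⟶ G) (c : C ⟶ G) (hC : Red.IsCentralizerOf j c) (X : Over S') (g : X ⟶ Red.bc p G)
    (hg : ∀ (X' : Over S') (x : X' ⟶ X) (h : X' ⟶ Red.bc p T),
      (x ≫ g) * (h ≫ (Over.pullback p).map j) = (h ≫ (Over.pullback p).map j) * (x ≫ g)) :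
    ∃ z : X ⟶ Red.bc p C, z ≫ (Over.pullback p).map c = g := by
  let e := fun (G : Over S) (X : Over S') => SGA3cLib.BCPoints.pt p G X
  obtain ⟨z, hz⟩ := (hC.2.2 _ ((e G X).symm g)).2 fun X' x h => by
    let X'' : Over S' := Over.mk (x.left ≫ X.hom)
    let x' : X'' ⟶ X := Over.homMk x.left
    let i : (Over.map p).obj X'' ≅ X' := Over.isoMk (Iso.refl _) (by
      simpa [X''] using (Over.w x).symm)
    have hx : i.hom ≫ x = (Over.map p).map x' := Over.OverMorphism.ext (by simp [i, x'])
    have h1 := hg X'' x' (e T X'' (i.hom ≫ h))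
    rw [← SGA3cLib.BCPoints.pt_comp] at h1
    have h2 : x' ≫ g = e G X'' ((Over.map p).map x' ≫ (e G X).symm g) := by
      rw [SGA3cLib.BCPoints.pt_map_comp]; simp [e]
    rw [h2, ← hx] at h1
    simp only [e, ← SGA3cLib.BCPoints.pt_mul] at h1
    have h3 := (e G X'').injective h1
    simp only [Category.assoc, ← MonObj.comp_mul] at h3
    exact (cancel_epi i.hom).1 h3
  refine ⟨e C X z, ?_⟩
  show SGA3cLib.BCPoints.pt p C X z ≫ _ = g
  rw [← SGA3cLib.BCPoints.pt_comp, hz]
  exact Equiv.apply_symm_apply _ g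

variable {K : Type u} [Field K] [IsAlgClosed K]

/-- Every torus is conjugate into every maximal torus. -/
theorem torus_conj_le {G : Over (Spec (CommRingCat.of K))} [GrpObj G] [IsAffine G.left] [Smooth G.hom] [QuasiCompact G.hom]
    {T₁ T : Over (Spec (CommRingCat.of K))} [GrpObj T₁] [GrpObj T] (i₁ : T₁ ⟶ G) (i : T ⟶ G) [IsMonHom i]
    (hT : Red.IsTorus T) (h₁ : Red.IsMaximalTorus i₁) :
    ∃ (g : 𝟙_ (Over (Spec (CommRingCat.of K))) ⟶ G) (q : T ⟶ T₁), q ≫ i₁ ≫ cj g = i := by
  obtain ⟨G₀, _, ι₀, hι, hcl, hfl, hrange, -, hcpt⟩ := Groth.Agent.S7520.result K G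
  haveI := hι; haveI := hcl; haveI := hfl; haveI := hcpt
  haveI : IsLocallyNoetherian G.left := LocallyOfFiniteType.isLocallyNoetherian G.hom
  haveI : LocallyOfFinitePresentation ι₀.left := inferInstance
  haveI : IsOpenImmersion ι₀.left := IsOpenImmersion.of_flat_of_mono ι₀.left
  haveI : Mono ι₀ := Over.mono_of_mono_left ι₀
  haveI : Smooth G₀.hom := by rw [← Over.w ι₀]; infer_instance
  haveI : QuasiCompact G₀.hom := AlgebraicGeometry.quasiCompact_of_compactSpace _
  haveI : ConnectedSpace G₀.left := by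
    rw [connectedSpace_iff_univ]
    refine ⟨?_, ?_⟩
    · obtain ⟨x, -⟩ := hrange.ge (mem_connectedComponent (x := η[G].left.base (IsLocalRing.closedPoint K)))
      exact ⟨x, trivial⟩
    · rw [← ι₀.left.isClosedEmbedding.isInducing.isPreconnected_image, Set.image_univ, hrange]
      exact isPreconnected_connectedComponent
  haveI : IsAffine G₀.left := isAffine_of_isAffineHom ι₀.left
  have fac : ∀ {T : Over (Spec (CommRingCat.of K))} [GrpObj T] (i : T ⟶ G), IsMonHom i → Red.IsTorus T →
      ∃ t : T ⟶ G₀, IsMonHom t ∧ t ≫ ι₀ = i := by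
    intro T _ i hi hT
    haveI := hi
    haveI : ConnectedSpace T.left := TorusConnLib.connectedSpace T hT
    have hsub : Set.range i.left.base ⊆ Set.range ι₀.left.base := by
      rw [hrange]
      refine (isConnected_range i.left.continuous).isPreconnected.subset_connectedComponent
        ⟨η[T].left.base (IsLocalRing.closedPoint K), ?_⟩
      exact congrArg (fun r : 𝟙_ (Over (Spec (CommRingCat.of K))) ⟶ G => r.left.base (IsLocalRing.closedPoint K))
        (IsMonHom.one_hom i)
    let t : T ⟶ G₀ := Over.homMk (IsOpenImmersion.lift ι₀.left i.left hsub) (by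
      rw [← Over.w ι₀, ← Category.assoc, IsOpenImmersion.lift_fac, Over.w i])
    have ht : t ≫ ι₀ = i := Over.OverMorphism.ext (IsOpenImmersion.lift_fac _ _ _)
    exact ⟨t, SGA3cLib.BCPoints.isMonHom_of_mul t fun X x y => by
      rw [← cancel_mono ι₀]
      simp only [MonObj.mul_comp, Category.assoc, ht], ht⟩
  haveI := h₁.1; haveI := h₁.2.1
  obtain ⟨t₁, ht₁, e₁⟩ := fac i₁ h₁.1 h₁.2.2.1
  obtain ⟨t, ht, e⟩ := fac i inferInstance hT
  haveI := ht₁; haveI := ht
  obtain ⟨S, _, j, hS, hj, hjm, huniv⟩ := HMTor29.MaxTorus.exists_universal (G := G₀)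
  haveI := hj; haveI := hjm
  obtain ⟨g₁, p₁, hp₁, hq₁⟩ := huniv T₁ h₁.2.2.1 t₁
  obtain ⟨g, p, hp, hq⟩ := huniv T hT t
  haveI : Mono (j ≫ cj g₁) := mono_comp _ _
  haveI : IsMonHom (j ≫ cj g₁) := inferInstance
  haveI : Mono ((j ≫ cj g₁) ≫ ι₀) := mono_comp _ _
  haveI : IsIso p₁ := (HMTor29.MaxTorus.isMaxTorus h₁).2.2.2 S ((j ≫ cj g₁) ≫ ι₀) p₁ hS (by
    rw [← Category.assoc, ← hq₁, e₁])
  refine ⟨(g₁⁻¹ * g) ≫ ι₀, p ≫ inv p₁, ?_⟩
  have hcj : ∀ a : 𝟙_ (Over (Spec (CommRingCat.of K))) ⟶ G₀, ι₀ ≫ cj (a ≫ ι₀) = cj a ≫ ι₀ := fun a => by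
    rw [comp_cj, cj]
    simp only [AGFQuot23.cst, MonObj.mul_comp, GrpObj.inv_comp, Category.assoc, Category.id_comp]
  rw [← e₁, Category.assoc, Category.assoc, hcj, ← e, hq, hq₁]
  simp only [Category.assoc, IsIso.inv_hom_id_assoc]
  rw [← Category.assoc (cj g₁), cj_comp, mul_inv_cancel_left]

end Groth.Agent.S8403

namespace Groth.Agent.S8403

/-- Let G be an affine smooth algebraic group over a field k, T a torus in G and C its centralizer. Then
the nilpotent rank of G (the dimension of the Cartan subgroups of G over an algebraic closure of k)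
is at most dim C. -/
theorem result (k : Type u) [Field k]
    (G : Over (Spec (CommRingCat.of k))) [GrpObj G] [Smooth G.hom] [QuasiCompact G.hom] [IsAffine G.left]
    (T : Over (Spec (CommRingCat.of k))) [GrpObj T] (j : T ⟶ G) [IsMonHom j] [Mono j] (hT : Red.IsTorus T)
    (C : Over (Spec (CommRingCat.of k))) [GrpObj C] (c : C ⟶ G) (hC : Red.IsCentralizerOf j c)
    (s : ↥(Spec (CommRingCat.of k))) (C' : Over (Spec (CommRingCat.of (AlgebraicClosure ((Spec (CommRingCat.of k)).residueField s))))) [GrpObj C']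
    (c' : C' ⟶ Red.geomFibre s G) (hC' : SGA3x.IsCartanOver (AlgebraicClosure ((Spec (CommRingCat.of k)).residueField s)) c') :
    topologicalKrullDim ↥C'.left ≤ topologicalKrullDim ↥C.left := by
  haveI : IsSeparated G.hom := inferInstance
  haveI hcl : IsClosedImmersion c.left := (CentConn12.smooth_closed hT j hC).2
  let p := Red.geomPt s
  haveI : IsIntegralHom p := AGFImage11.isIntegralHom_geomPt s
  haveI : Smooth (Red.geomFibre s G).hom := inferInstanceAs (Smooth (pullback.snd G.hom p))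
  haveI : QuasiCompact (Red.geomFibre s G).hom := inferInstanceAs (QuasiCompact (pullback.snd G.hom p))
  haveI : IsSeparated (Red.geomFibre s G).hom := inferInstanceAs (IsSeparated (pullback.snd G.hom p))
  haveI : (Over.pullback p).IsRightAdjoint := (Over.mapPullbackAdj _).isRightAdjoint
  let jK : Red.bc p T ⟶ Red.geomFibre s G := (Over.pullback p).map j
  haveI : IsMonHom jK := inferInstanceAs (IsMonHom ((Over.pullback p).map j))
  haveI : IsAffine (Red.geomFibre s G).left := inferInstanceAs (IsAffine (pullback G.hom p))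
  obtain ⟨hc'h, hc'm, T₁, _, i₁, hT₁, hC₁⟩ := hC'
  haveI := hc'h; haveI := hc'm
  obtain ⟨g, q, hq⟩ := torus_conj_le i₁ jK (TorusAb27.isTorus_bc p T hT) hT₁
  haveI := hT₁.1
  haveI hcl' : IsClosedImmersion c'.left := (CentConn12.smooth_closed hT₁.2.2.1 i₁ hC₁).2
  obtain ⟨m, hm⟩ := centralizer_bc p j c hC C' (c' ≫ AGFQuot23.cj g) fun X' x h => by
    have hcomm := (hC₁.2.2 C' c').1 ⟨𝟙 C', Category.id_comp _⟩ X' x (h ≫ q)
    have e : h ≫ (Over.pullback p).map j = ((h ≫ q) ≫ i₁) ≫ AGFQuot23.cj g := by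
      simp only [Category.assoc]; exact congrArg (h ≫ ·) hq.symm
    rw [e, ← Category.assoc x, ← MonObj.mul_comp, ← MonObj.mul_comp, hcomm]
  haveI : IsIso (AGFQuot23.cj g).left := inferInstanceAs (IsIso ((Over.forget _).map (AGFQuot23.cj g)))
  haveI : IsClosedImmersion ((Over.pullback p).map c).left :=
    MorphismProperty.overPullbackMap p c hcl
  haveI : IsClosedImmersion (m.left ≫ ((Over.pullback p).map c).left) := by
    rw [← Over.comp_left, hm, Over.comp_left]; infer_instance
  haveI : IsClosedImmersion m.left := IsClosedImmersion.of_comp m.left ((Over.pullback p).map c).left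
  refine le_trans m.left.isClosedEmbedding.isInducing.topologicalKrullDim_le ?_
  haveI : IsIntegralHom (pullback.fst C.hom p) := inferInstance
  exact AlgSpLib.topologicalKrullDim_le_of_isIntegralHom (pullback.fst C.hom p)

end Groth.Agent.S8403
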