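import Groth.Statements.S9523
import Groth.Agent.SubAvoid14.IdealMulSec
import Groth.Agent.FSchLib.IdealSheaf

set_option autoImplicit false
universe u
open CategoryTheory CategoryTheory.Limits AlgebraicGeometry
attribute [local instance] HasDerivedCategory.standard
open Coherent

open Groth.Agent Groth.Agent.Coherent Groth.Agent.SubAvoid14 CategoryTheory.Limits

namespace Groth.Agent.S9523

/-- Let f : Y → X be an affine morphism of schemes, F a quasi-coherent O_Y-module and I a quasi-coherent
sheaf of ideals on X. Then I·f_*F = f_*((f⁻¹I O_Y)·F) as submodules of f_*F: there is an isomorphism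
I·f_*F ≅ f_*((f⁻¹I O_Y)·F) whose composite with f_* of the inclusion (f⁻¹I O_Y)·F → F is the
inclusion I·f_*F → f_*F. (J·M denotes the submodule sheaf Dual3.idealMul J M; f⁻¹I O_Y is the
pulled-back ideal sheaf I.comap f.) -/
theorem result {Y X : Scheme.{u}} (f : Y ⟶ X) [IsAffineHom f]
    (F : Y.Modules) (hF : Coh.IsQCoh F) (I : X.IdealSheafData) :
    ∃ e : (Dual3.idealMul I).obj ((Scheme.Modules.pushforward f).obj F) ≅
        (Scheme.Modules.pushforward f).obj ((Dual3.idealMul (I.comap f)).obj F),
      e.hom ≫ (Scheme.Modules.pushforward f).map (Dual3.idealMulι (I.comap f) F) =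
        Dual3.idealMulι I ((Scheme.Modules.pushforward f).obj F) := by
  haveI := hF
  let P := Scheme.Modules.pushforward f
  let J := I.comap f
  haveI : Coh.IsQCoh (P.obj F) := isQCoh_push f F
  haveI : P.IsRightAdjoint := (Scheme.Modules.pullbackPushforwardAdjunction f).isRightAdjoint
  let a := Dual3.idealMulι I (P.obj F)
  let b := P.map (Dual3.idealMulι J F)
  haveI : Mono b := inferInstanceAs (Mono (P.map (Dual3.idealMulι J F)))
  have key : ∀ U : X.Opens, IsAffineOpen U → Set.range (a.app U) = Set.range (b.app U) := fun U hU => by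
    ext m
    let m' : Γ(F, f ⁻¹ᵁ U) := m
    have hr : Set.range (b.app U) = Set.range ((Dual3.idealMulι J F).app (f ⁻¹ᵁ U)) := rfl
    rw [hr]
    refine (mem_range_idealMulι_iff I (P.obj F) hU m).trans ((Iff.trans ?_ (mem_range_idealMulι_iff J F (hU.preimage f) m').symm))
    have hJ : J.ideal ⟨f ⁻¹ᵁ U, hU.preimage f⟩ = (I.ideal ⟨U, hU⟩).map (f.app U).hom := by
      rw [FSchLib.ideal_comap_eq_map f I ⟨f ⁻¹ᵁ U, hU.preimage f⟩ ⟨U, hU⟩ le_rfl, Scheme.Hom.app_eq_appLE]
    rw [hJ]
    constructor
    · intro h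
      refine Submodule.smul_induction_on (p := fun z : Γ(P.obj F, U) => (show Γ(F, f ⁻¹ᵁ U) from z) ∈
        (I.ideal ⟨U, hU⟩).map (f.app U).hom • (⊤ : Submodule Γ(Y, f ⁻¹ᵁ U) Γ(F, f ⁻¹ᵁ U))) h
        (fun r hr n _ => ?_) (fun x y hx hy => add_mem hx hy)
      exact Submodule.smul_mem_smul (Ideal.mem_map_of_mem _ hr) (show (show Γ(F, f ⁻¹ᵁ U) from n) ∈ ⊤ from trivial)
    · intro h
      refine Submodule.smul_induction_on (p := fun z : Γ(F, f ⁻¹ᵁ U) => (show Γ(P.obj F, U) from z) ∈
        I.ideal ⟨U, hU⟩ • (⊤ : Submodule Γ(X, U) Γ(P.obj F, U))) h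
        (fun r hr n _ => ?_) (fun x y hx hy => add_mem hx hy)
      induction hr using Submodule.span_induction generalizing n with
      | mem x hx =>
        obtain ⟨r, hr, rfl⟩ := hx
        exact Submodule.smul_mem_smul hr (show (show Γ(P.obj F, U) from n) ∈ ⊤ from trivial)
      | zero => simp only [zero_smul]; exact zero_mem _
      | add x y _ _ hx hy => simp only [add_smul]; exact add_mem (hx n trivial) (hy n trivial)
      | smul c x _ hx =>
        simp only [smul_eq_mul, mul_comm c x, mul_smul]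
        exact hx _ trivial
  obtain ⟨c, hc⟩ := exists_le_of_range_le a b fun U hU => (key U hU).le
  obtain ⟨d, hd⟩ := exists_le_of_range_le b a fun U hU => (key U hU).ge
  refine ⟨⟨c, d, ?_, ?_⟩, hc⟩
  · rw [← cancel_mono a, Category.assoc, hd, hc, Category.id_comp]
  · rw [← cancel_mono b, Category.assoc, hc, hd, Category.id_comp]

end Groth.Agent.S9523
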