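import Groth.Statements.S19663
import Groth.Agent.GrassLib.Classify
import Groth.Agent.GrassLib.MapOfEpi

set_option autoImplicit false
universe u
open CategoryTheory CategoryTheory.Limits AlgebraicGeometry
open Grass

namespace Groth.Agent.S19663

open Groth.Agent.GrassLib

set_option linter.style.haveILetI false

attribute [local instance] CategoryTheory.Functor.PreservesEpimorphisms.preserves

theorem quotBC_rfl_comp {X G G' T : Scheme.{u}} {π : G ⟶ X} {π' : G' ⟶ X} {E : X.Modules} {Q : G.Modules}
    (q : (Scheme.Modules.pullback π).obj E ⟶ Q) {c : G' ⟶ G} (hc : c ≫ π = π') {h : T ⟶ G'} {g : T ⟶ X}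
    (hh : h ≫ π' = g) (hg : (h ≫ c) ≫ π = g) {Q' : G'.Modules} (u : (Scheme.Modules.pullback c).obj Q ⟶ Q') :
    Grass.quotBC hg q ≫ Grass.quotBC (rfl : h ≫ c = h ≫ c) u =
      Grass.quotBC hh (Grass.quotBC hc q ≫ u) := by
  rw [quotBC_comp_map, ← quotBC_comp q hc hh hg]
  simp [Grass.quotBC, pullbackCongr_inv_app]

theorem isGrass_of_isFlag {X F F' : Scheme.{u}} {π : F ⟶ X} {π' : F' ⟶ X} {E : X.Modules} {m : ℕ}
    {n : Fin (m + 2) → ℕ} {Q : Fin (m + 1) → F.Modules} {q : ∀ i, (Scheme.Modules.pullback π).obj E ⟶ Q i}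
    (hF : Grass.IsFlag π E (fun i => n (Fin.castSucc i)) Q q) {Q' : Fin (m + 2) → F'.Modules}
    {q' : ∀ i, (Scheme.Modules.pullback π').obj E ⟶ Q' i} (hF' : Grass.IsFlag π' E n Q' q')
    (p : F' ⟶ F) (hp : p ≫ π = π') (ε : ∀ i, (Scheme.Modules.pullback p).obj (Q i) ≅ Q' (Fin.castSucc i))
    (hε : ∀ i, Grass.quotBC hp (q i) ≫ (ε i).hom = q' (Fin.castSucc i))
    (t : Q' (Fin.castSucc (Fin.last m)) ⟶ Q' (Fin.last (m + 1)))
    (ht : q' (Fin.castSucc (Fin.last m)) ≫ t = q' (Fin.last (m + 1))) :
    Grass.IsGrass p (Q (Fin.last m)) (n (Fin.last (m + 1))) (Q' (Fin.last (m + 1)))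
      ((ε (Fin.last m)).hom ≫ t) := by
  have hpt : Grass.quotBC hp (q (Fin.last m)) ≫ (ε (Fin.last m)).hom ≫ t = q' (Fin.last (m + 1)) := by
    rw [← Category.assoc (Grass.quotBC hp _), hε, ht]
  refine ⟨hF'.rank _, ?_, fun T g L hL s hs => ?_⟩
  · haveI := hF'.epi (Fin.last (m + 1))
    exact epi_of_epi_fac hpt
  let gX : T ⟶ X := g ≫ π
  let L' : Fin (m + 2) → T.Modules :=
    Fin.lastCases (motive := fun _ => T.Modules) L (fun i => (Scheme.Modules.pullback g).obj (Q i))
  let ι : ∀ i, L' (Fin.castSucc i) ≅ (Scheme.Modules.pullback g).obj (Q i) :=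
    fun i => eqToIso (Fin.lastCases_castSucc (motive := fun _ => T.Modules) i)
  let ιl : L' (Fin.last (m + 1)) ≅ L := eqToIso (Fin.lastCases_last (motive := fun _ => T.Modules))
  let s' : ∀ i, (Scheme.Modules.pullback gX).obj E ⟶ L' i :=
    Fin.lastCases (motive := fun i => (Scheme.Modules.pullback gX).obj E ⟶ L' i)
      (Grass.quotBC (rfl : g ≫ π = gX) (q (Fin.last m)) ≫ s ≫ ιl.inv)
      (fun i => Grass.quotBC (rfl : g ≫ π = gX) (q i) ≫ (ι i).inv)
  have hs'c : ∀ i, s' (Fin.castSucc i) = Grass.quotBC (rfl : g ≫ π = gX) (q i) ≫ (ι i).inv :=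
    fun i => Fin.lastCases_castSucc (motive := fun i => (Scheme.Modules.pullback gX).obj E ⟶ L' i) i
  have hs'l : s' (Fin.last (m + 1)) = Grass.quotBC (rfl : g ≫ π = gX) (q (Fin.last m)) ≫ s ≫ ιl.inv :=
    Fin.lastCases_last (motive := fun i => (Scheme.Modules.pullback gX).obj E ⟶ L' i)
  haveI : ∀ i, Epi (Grass.quotBC (rfl : g ≫ π = gX) (q i)) := fun i => by
    haveI := hF.epi i
    exact epi_quotBC _ _
  have hLr : ∀ i, FlatMod.IsFinLocFreeOfRank (n i) (L' i) := by
    intro i
    induction i using Fin.lastCases with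
    | last => rw [show L' (Fin.last (m + 1)) = L from Fin.lastCases_last (motive := fun _ => T.Modules)]; exact hL
    | cast i =>
      rw [show L' (Fin.castSucc i) = (Scheme.Modules.pullback g).obj (Q i) from
        Fin.lastCases_castSucc (motive := fun _ => T.Modules) i]
      exact isFinLocFreeOfRank_pullback g (hF.rank i)
  have hse : ∀ i, Epi (s' i) := by
    intro i
    induction i using Fin.lastCases with
    | last =>
      rw [hs'l]
      haveI : Epi (s ≫ ιl.inv) := epi_comp _ _
      exact epi_comp _ _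
    | cast i => rw [hs'c]; exact epi_comp _ _
  have hn : ∀ i j, i ≤ j → ∃ a : L' i ⟶ L' j, s' i ≫ a = s' j := by
    intro i j hij
    induction i using Fin.lastCases with
    | last =>
      obtain rfl := le_antisymm hij (Fin.le_last j)
      exact ⟨𝟙 _, Category.comp_id _⟩
    | cast i =>
      induction j using Fin.lastCases with
      | last =>
        obtain ⟨a, ha⟩ := hF.nested i (Fin.last m) (Fin.le_last _)
        refine ⟨(ι i).hom ≫ (Scheme.Modules.pullback g).map a ≫ s ≫ ιl.inv, ?_⟩
        rw [hs'c, hs'l, Category.assoc, Iso.inv_hom_id_assoc, ← Category.assoc (Grass.quotBC _ (q i)),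
          ← quotBC_comp_map, ha]
      | cast j =>
        obtain ⟨a, ha⟩ := hF.nested i j (Fin.castSucc_le_castSucc_iff.mp hij)
        refine ⟨(ι i).hom ≫ (Scheme.Modules.pullback g).map a ≫ (ι j).inv, ?_⟩
        rw [hs'c, hs'c, Category.assoc, Iso.inv_hom_id_assoc, ← Category.assoc (Grass.quotBC _ (q i)),
          ← quotBC_comp_map, ha]
  obtain ⟨h, ⟨hh, e, he⟩, huniq⟩ := hF'.univ T gX L' hLr s' hse hn
  have hhpX : (h ≫ p) ≫ π = gX := by rw [Category.assoc, hp, hh]
  -- the classifying morphism lies over `g`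
  have key : h ≫ p = g := by
    refine (hF.univ T gX (fun i => (Scheme.Modules.pullback g).obj (Q i))
      (fun i => isFinLocFreeOfRank_pullback g (hF.rank i)) (fun i => Grass.quotBC rfl (q i))
      inferInstance (fun i j hij => ?_)).unique
        ⟨hhpX, fun i => ((Scheme.Modules.pullbackComp h p).app (Q i)).symm ≪≫
          (Scheme.Modules.pullback h).mapIso (ε i) ≪≫ e (Fin.castSucc i) ≪≫ ι i, fun i => ?_⟩
        ⟨rfl, fun i => Iso.refl _, fun i => Category.comp_id _⟩
    · obtain ⟨a, ha⟩ := hF.nested i j hij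
      exact ⟨(Scheme.Modules.pullback g).map a, by rw [← quotBC_comp_map, ha]⟩
    · simp only [Iso.trans_hom, Functor.mapIso_hom, Iso.symm_hom, Iso.app_inv]
      rw [← Category.assoc (Grass.quotBC hhpX _), quotBC_comp (q i) hp hh hhpX, ← Category.assoc (Grass.quotBC hh _),
        ← quotBC_comp_map, hε, ← Category.assoc, he, hs'c, Category.assoc, Iso.inv_hom_id]
      exact Category.comp_id _
  refine ⟨h, ⟨key, e (Fin.last (m + 1)) ≪≫ ιl, ?_⟩, ?_⟩
  · subst key
    rw [← cancel_epi (Grass.quotBC (rfl : (h ≫ p) ≫ π = gX) (q (Fin.last m))), ← Category.assoc,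
      quotBC_rfl_comp (q (Fin.last m)) hp hh rfl, hpt, Iso.trans_hom, ← Category.assoc, he, hs'l]
    simp
  · rintro h' ⟨hg', e', he'⟩
    subst hg'
    have hh' : h' ≫ π' = gX := by rw [← hp]; exact (Category.assoc _ _ _).symm
    refine huniq h' ⟨hh', fun i => ?_, fun i => ?_⟩
    · exact Fin.lastCases (motive := fun i => (Scheme.Modules.pullback h').obj (Q' i) ≅ L' i)
        (e' ≪≫ ιl.symm)
        (fun i => (Scheme.Modules.pullback h').mapIso (ε i).symm ≪≫
          (Scheme.Modules.pullbackComp h' p).app (Q i) ≪≫ (ι i).symm) i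
    · induction i using Fin.lastCases with
      | last =>
        simp only [Fin.lastCases_last, Iso.trans_hom, Iso.symm_hom]
        rw [← hpt, ← Category.assoc, ← quotBC_rfl_comp (q (Fin.last m)) hp hh' rfl, hs'l]
        subst he'
        simp only [Category.assoc]
      | cast i =>
        simp only [Fin.lastCases_castSucc, Iso.trans_hom, Iso.symm_hom, Functor.mapIso_hom]
        rw [← hε i, quotBC_comp_map, ← quotBC_comp (q i) hp hh' rfl, hs'c]
        simp only [Category.assoc, Iso.app_hom]
        rw [← Functor.map_comp_assoc, Iso.hom_inv_id, CategoryTheory.Functor.map_id, Category.id_comp,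
          Iso.inv_hom_id_app_assoc]


/-- Let `X` be a scheme, `E` an `O_X`-module, `m ≥ 0` and `n : Fin (m+2) → ℕ`. Let `(F', π', Q', q')` be
the partial flag scheme of `E` of type `n` (universal nested locally free quotients `q' i : π'^* E ⟶
Q' i` of ranks `n i`, index `0` the largest) and `(F, π, Q, q)` the partial flag scheme of the
truncated type `n ∘ Fin.castSucc` (the first `m+1` steps). Then the morphism `F' ⟶ F` over `X`
classifying the first `m+1` universal quotients of `F'`, together with the last universal quotient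
`Q' (m+1)` and the epimorphism onto it from the pulled-back `Q m` (through the classifying
isomorphism and the factoring map `Q' m ⟶ Q' (m+1)`), is the Grassmannian over `F` of rank-`n (m+1)`
locally free quotients of the last universal quotient `Q m` of `F`. (The source takes the base of
finite type over a field, `E` locally free of finite rank and the ranks positive and strictly
decreasing; the statement is made here for any base scheme, any module and any type.) -/
theorem result (X F F' : Scheme.{u}) (π : F ⟶ X) (π' : F' ⟶ X) (E : X.Modules)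
    (m : ℕ) (n : Fin (m + 2) → ℕ)
    (Q : Fin (m + 1) → F.Modules) (q : ∀ i, (Scheme.Modules.pullback π).obj E ⟶ Q i)
    (hF : Grass.IsFlag π E (fun i => n (Fin.castSucc i)) Q q)
    (Q' : Fin (m + 2) → F'.Modules) (q' : ∀ i, (Scheme.Modules.pullback π').obj E ⟶ Q' i)
    (hF' : Grass.IsFlag π' E n Q' q') :
    Grass.IsGrass
      (hF.lift π' (fun i => Q' (Fin.castSucc i)) (fun i => hF'.rank (Fin.castSucc i)) (fun i => q' (Fin.castSucc i))
        (fun i => hF'.epi (Fin.castSucc i))
        (fun i j hij => hF'.nested (Fin.castSucc i) (Fin.castSucc j) (Fin.castSucc_le_castSucc_iff.mpr hij)))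
      (Q (Fin.last m)) (n (Fin.last (m + 1))) (Q' (Fin.last (m + 1)))
      ((hF.liftIso π' (fun i => Q' (Fin.castSucc i)) (fun i => hF'.rank (Fin.castSucc i)) (fun i => q' (Fin.castSucc i))
          (fun i => hF'.epi (Fin.castSucc i))
          (fun i j hij => hF'.nested (Fin.castSucc i) (Fin.castSucc j) (Fin.castSucc_le_castSucc_iff.mpr hij))
          (Fin.last m)).hom ≫
        (hF'.nested (Fin.castSucc (Fin.last m)) (Fin.last (m + 1)) (Fin.le_last _)).choose) := by
  exact isGrass_of_isFlag hF hF' _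
    (hF.lift_comp π' (fun i => Q' (Fin.castSucc i)) (fun i => hF'.rank (Fin.castSucc i)) (fun i => q' (Fin.castSucc i))
      (fun i => hF'.epi (Fin.castSucc i))
      (fun i j hij => hF'.nested (Fin.castSucc i) (Fin.castSucc j) (Fin.castSucc_le_castSucc_iff.mpr hij)))
    (hF.liftIso π' (fun i => Q' (Fin.castSucc i)) (fun i => hF'.rank (Fin.castSucc i)) (fun i => q' (Fin.castSucc i))
      (fun i => hF'.epi (Fin.castSucc i))
      (fun i j hij => hF'.nested (Fin.castSucc i) (Fin.castSucc j) (Fin.castSucc_le_castSucc_iff.mpr hij)))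
    (hF.quotBC_liftIso π' (fun i => Q' (Fin.castSucc i)) (fun i => hF'.rank (Fin.castSucc i)) (fun i => q' (Fin.castSucc i))
      (fun i => hF'.epi (Fin.castSucc i))
      (fun i j hij => hF'.nested (Fin.castSucc i) (Fin.castSucc j) (Fin.castSucc_le_castSucc_iff.mpr hij)))
    _ (hF'.nested (Fin.castSucc (Fin.last m)) (Fin.last (m + 1)) (Fin.le_last _)).choose_spec

end Groth.Agent.S19663
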