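import Groth.Statements.S6958
import Groth.Agent.DRingLib.PCGen
import Mathlib.Algebra.Category.ModuleCat.Descent

set_option autoImplicit false
set_option backward.isDefEq.respectTransparency false
set_option backward.defeqAttrib.useBackward true
universe u
open CategoryTheory CategoryTheory.Limits
attribute [local instance] HasDerivedCategory.standard
open DRing

namespace Groth.Agent.S6958

noncomputable def eB (A B : Type u) [CommRing A] [CommRing B] [Algebra A B] :
    ((ModuleCat.restrictScalars (algebraMap A B)).obj (ModuleCat.of B B)) ≃ₗ[A] B :=
  { AddEquiv.refl B with map_smul' := fun a b => (Algebra.smul_def a (show B from b)).symm }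

noncomputable def eTen (A B : Type u) [CommRing A] [CommRing B] [Algebra A B] (M : Type u) [AddCommGroup M]
    [Module A M] :
    ((ModuleCat.extendScalars.{u, u, u} (algebraMap A B)).obj (ModuleCat.of A M)) ≅
      ModuleCat.of B (TensorProduct A B M) :=
  let f := TensorProduct.congr (eB A B) (LinearEquiv.refl A M)
  LinearEquiv.toModuleIso (X₁ := (ModuleCat.extendScalars.{u, u, u} (algebraMap A B)).obj (ModuleCat.of A M))
    (X₂ := ModuleCat.of B (TensorProduct A B M))
    { f.toAddEquiv with
      map_smul' := fun b x => by
        induction x using TensorProduct.induction_on with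
        | zero => exact (congrArg f (smul_zero b)).trans ((map_zero f).trans (by
            exact (smul_zero b).symm.trans (congrArg (b • ·) (map_zero f).symm)))
        | tmul c m => rfl
        | add x y hx hy =>
          exact (congrArg f (smul_add b x y)).trans ((map_add f _ _).trans ((congrArg₂ (· + ·) hx hy).trans
            ((smul_add b _ _).symm.trans (congrArg (b • ·) (map_add f x y).symm)))) }

/-- Let A → B be a flat homomorphism of commutative rings and M a perfect A-module. Then B ⊗_A M is a
perfect B-module. -/
theorem result {A B : Type u} [CommRing A] [CommRing B] [Algebra A B]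
    [Module.Flat A B] (M : Type u) [AddCommGroup M] [Module A M] (hM : DRing.IsPerfectModule A M) :
    DRing.IsPerfectModule B (TensorProduct A B M) := by
  haveI : PreservesFiniteLimits (ModuleCat.extendScalars.{u, u, u} (algebraMap A B)) := by
    apply ModuleCat.preservesFiniteLimits_extendScalars_of_flat
    exact RingHom.flat_algebraMap_iff.2 inferInstance
  have h := Groth.Agent.DRingLib.perfect_map (ModuleCat.extendScalars.{u, u, u} (algebraMap A B)) ?_ hM
  · refine Groth.Agent.DRingLib.perfect_of_iso ?_ h
    exact (Functor.mapDerivedCategorySingleFunctor _ 0).app _ ≪≫ (DerivedCategory.singleFunctor (ModuleCat.{u} B) 0).mapIso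
      (eTen A B M)
  · refine ⟨(HomologicalComplex.single (ModuleCat.{u} B) (ComplexShape.up ℤ) 0).obj (ModuleCat.of B B), 0, 0,
      fun i hi => HomologicalComplex.isZero_single_obj_X _ _ _ _ (by omega), fun i => ?_, ⟨?_⟩⟩
    · by_cases hi : i = 0
      · subst hi
        exact Groth.Agent.DCat.finite_projective_of_iso (HomologicalComplex.singleObjXSelf (ComplexShape.up ℤ) 0 _).symm
          ⟨inferInstanceAs (Module.Finite B B), inferInstanceAs (Module.Projective B B)⟩
      · haveI := ModuleCat.subsingleton_of_isZero (HomologicalComplex.isZero_single_obj_X (ComplexShape.up ℤ) 0 (ModuleCat.of B B) i hi)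
        exact ⟨inferInstance, inferInstance⟩
    · exact ((DerivedCategory.singleFunctorIsoCompQ (ModuleCat.{u} B) 0).app _).symm ≪≫
        (DerivedCategory.singleFunctor (ModuleCat.{u} B) 0).mapIso
          ((LinearEquiv.toModuleIso (X₁ := ModuleCat.of B B) (X₂ := ModuleCat.of B (TensorProduct A B A))
            (TensorProduct.AlgebraTensorModule.rid A B B).symm) ≪≫ (eTen A B A).symm)


end Groth.Agent.S6958
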