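import Groth.Statements.S13489
import Groth.Agent.DerCompLib.SecData
import Groth.Agent.DerCompLib.VanishIdeal

set_option autoImplicit false
universe u
open CategoryTheory CategoryTheory.Limits Opposite
attribute [local instance] HasDerivedCategory.standard
open DerComp

namespace Groth.Agent.S13489

open Groth.Agent Groth.Agent.DerCompLib

/-- Let phi : O -> O' be a homomorphism of sheaves of rings on a site, I a sheaf of ideals of O and I' =
I O' the sheaf of ideals of O' generated by its image. Then K' in D(O') is derived complete with
respect to I O' if and only if its image under the restriction functor D(O') -> D(O) is derived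
complete with respect to I. The restriction functor is the one induced on derived categories by
restriction of scalars, whose exactness is taken as instance hypotheses. -/
theorem result {C : Type u} [SmallCategory C] {J : GrothendieckTopology C} {O O' : Sheaf J CommRingCat.{u}} (φ : O ⟶ O') (I : DerComp.IdealSh O) (I' : DerComp.IdealSh O') (hI' : DerComp.IsIdealExt φ I I') [PreservesFiniteLimits (SheafOfModules.restrictScalars.{u} ((sheafCompose J (forget₂ CommRingCat.{u} RingCat.{u})).map φ))] [PreservesFiniteColimits (SheafOfModules.restrictScalars.{u} ((sheafCompose J (forget₂ CommRingCat.{u} RingCat.{u})).map φ))] (K' : DerivedCategory (ModSite.Mod O')) : DerComp.IsDerComp O' I' K' ↔ DerComp.IsDerComp O I ((SheafOfModules.restrictScalars.{u} ((sheafCompose J (forget₂ CommRingCat.{u} RingCat.{u})).map φ)).mapDerivedCategory.obj K') := by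
    obtain ⟨L, hL, hLI, ⟨e⟩⟩ := exists_kInj_rep K'
    obtain ⟨N, η, hN, hη, -, hNI⟩ := DCat.exists_kInj_res (pushCx (resData φ) L)
    have hQ : IsIso (DerivedCategory.Q.map η) :=
      Localization.inverts DerivedCategory.Q (HomologicalComplex.quasiIso _ _) η hη
    let R := SheafOfModules.restrictScalars.{u} ((sheafCompose J (forget₂ CommRingCat.{u} RingCat.{u})).map φ)
    haveI : R.Additive := Functor.additive_of_preserves_binary_products _
    have e' : R.mapDerivedCategory.obj K' ≅ DerivedCategory.Q.obj N :=
      R.mapDerivedCategory.mapIso e ≪≫ R.mapDerivedCategoryFactors.app L ≪≫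
        @asIso _ _ _ _ (DerivedCategory.Q.map η) hQ
    rw [isDerComp_iff_le_vanish L hLI e I', isDerComp_iff_secIdeal N hNI e' I]
    have key : ∀ (U : C) (g : O.obj.obj (op U)),
        g ∈ secIdeal N U ↔ (φ.hom.app (op U)).hom g ∈ secIdeal L U :=
      fun U g => mem_secIdeal_iff (resData φ) L η U (locFlat_id J) g
    constructor
    · intro h U g hg
      rw [key]
      simpa using (mem_vanishIdealSh L hLI).1 (h U (hI'.1 U g hg)) U (𝟙 U)
    · intro h
      refine hI'.2 _ fun U g hg => (mem_vanishIdealSh L hLI).2 fun V k => ?_
      erw [← ConcreteCategory.congr_hom (φ.hom.naturality k.op) g]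
      exact (key V _).1 (h V (I.map_mem k hg))

end Groth.Agent.S13489
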