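import Groth.Statements.S14766
import Groth.Agent.SubtrLib.Basic

set_option autoImplicit false
universe u
open CategoryTheory CategoryTheory.Limits AlgebraicGeometry
open Subtr

namespace Groth.Agent.S14766

/-- Let V be a discrete valuation ring and f : X ⟶ Spec V any morphism of schemes. Then the underlying
continuous map of f is a quotient map (f is submersive) if and only if every ordered pair of points
of Spec V lifts to an ordered pair of points of X. -/
theorem result (V : Type u) [CommRing V] [IsDomain V]
    [IsDiscreteValuationRing V] {X : Scheme.{u}} (f : X ⟶ Spec (CommRingCat.of V)) :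
    Topology.IsQuotientMap f ↔ Subtr.IsSSubtrusive f := by
  have htwo : ∀ y : Spec (CommRingCat.of V),
      y = (⟨⊥, Ideal.isPrime_bot⟩ : PrimeSpectrum V) ∨ y = IsLocalRing.closedPoint V := fun y => by
    have := ((IsDiscreteValuationRing.iff_pid_with_one_nonzero_prime V).1 inferInstance).2
    obtain ⟨P, -, hu⟩ := this
    by_cases h : (y : PrimeSpectrum V).asIdeal = ⊥
    · exact Or.inl (PrimeSpectrum.ext h)
    · exact Or.inr (PrimeSpectrum.ext ((hu _ ⟨h, (y : PrimeSpectrum V).isPrime⟩).trans
        (hu _ ⟨IsDiscreteValuationRing.not_a_field V, inferInstance⟩).symm))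
  constructor
  · intro h
    apply ((SubtrLib.tfae_valuation V f).out 2 1 rfl rfl).1
    intro y
    rcases htwo y with rfl | rfl
    · obtain ⟨x, hx⟩ := h.surjective (⟨⊥, Ideal.isPrime_bot⟩ : PrimeSpectrum V)
      exact ⟨x, subset_closure hx, hx⟩
    · by_contra hc
      push Not at hc
      have hcl : IsClosed (f ⁻¹' {(⟨⊥, Ideal.isPrime_bot⟩ : PrimeSpectrum V)}) := by
        refine isClosed_of_closure_subset fun x hx => ?_
        rcases htwo (f x) with hfx | hfx
        · exact hfx
        · exact absurd hfx (hc x hx)
      have hb : IsClosed ({(⟨⊥, Ideal.isPrime_bot⟩ : PrimeSpectrum V)} : Set (Spec (CommRingCat.of V))) :=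
        h.isClosed_preimage.1 hcl
      have hmem : (IsLocalRing.closedPoint V : Spec (CommRingCat.of V)) ∈
          ({(⟨⊥, Ideal.isPrime_bot⟩ : PrimeSpectrum V)} : Set (Spec (CommRingCat.of V))) :=
        hb.closure_subset (specializes_iff_mem_closure.1 (SubtrLib.spec_bot_specializes V _))
      exact IsDiscreteValuationRing.not_a_field V (congrArg PrimeSpectrum.asIdeal (Set.mem_singleton_iff.1 hmem))
  · intro h
    refine (Topology.isQuotientMap_iff _).2 ⟨Topology.isCoinducing_iff.2 fun s => ⟨fun hs => ?_, fun hs => hs.preimage f.continuous⟩, SubtrLib.surjective_of_isSSubtrusive h⟩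
    by_cases hc : (IsLocalRing.closedPoint V : Spec (CommRingCat.of V)) ∈ s
    · obtain ⟨x, x', hxx, hx, hx'⟩ := h (SubtrLib.spec_bot_specializes V (IsLocalRing.closedPoint V))
      have hb : f x' ∈ s := hxx.mem_open hs (show f x ∈ s from hx ▸ hc)
      have : s = Set.univ := Set.eq_univ_of_forall fun y => by
        rcases htwo y with rfl | rfl
        · exact hx' ▸ hb
        · exact hc
      rw [this]; exact isOpen_univ
    · by_cases hb : ((⟨⊥, Ideal.isPrime_bot⟩ : PrimeSpectrum V) : Spec (CommRingCat.of V)) ∈ s
      · have : s = {y : Spec (CommRingCat.of V) | y = IsLocalRing.closedPoint V}ᶜ := by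
          ext y
          rcases htwo y with rfl | rfl
          · exact iff_of_true hb fun h => IsDiscreteValuationRing.not_a_field V
              (congrArg PrimeSpectrum.asIdeal h).symm
          · exact iff_of_false hc (by simp)
        rw [this]
        exact (IsLocalRing.isClosed_singleton_closedPoint V).isOpen_compl
      · have : s = ∅ := Set.eq_empty_of_forall_notMem fun y hy => by
          rcases htwo y with rfl | rfl
          exacts [hb hy, hc hy]
        rw [this]; exact isOpen_empty

end Groth.Agent.S14766
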