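import Groth.Prelude.Def_HTop
import Groth.Prelude.Def_SGA1
import Mathlib.AlgebraicGeometry.Noetherian
import Mathlib.AlgebraicGeometry.Limits
import Mathlib.AlgebraicGeometry.Morphisms.Finite
import Mathlib.AlgebraicGeometry.Morphisms.QuasiFinite
import Mathlib.AlgebraicGeometry.Morphisms.Separated
import Mathlib.RingTheory.DiscreteValuationRing.Basic
import Groth.Agent.HTop16.SubmCover
import Groth.Agent.Stk19b.DvrImmersion

set_option autoImplicit false
universe u
namespace HTop
end HTop
open HTop

namespace Groth.Agent.S13734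

open CategoryTheory CategoryTheory.Limits AlgebraicGeometry IsLocalRing in
theorem two_points {R : Type u} [CommRing R] [IsDomain R] [IsDiscreteValuationRing R] (t : PrimeSpectrum R) :
    t = (⟨⊥, Ideal.isPrime_bot⟩ : PrimeSpectrum R) ∨ t = closedPoint R := by
  by_cases h : t.asIdeal = ⊥
  · exact Or.inl (PrimeSpectrum.ext h)
  · exact Or.inr (PrimeSpectrum.ext (IsLocalRing.eq_maximalIdeal (t.2.isMaximal h)))

open IsLocalRing in
theorem bot_ne_closed {R : Type u} [CommRing R] [IsDomain R] [IsDiscreteValuationRing R] :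
    (⟨⊥, Ideal.isPrime_bot⟩ : PrimeSpectrum R) ≠ closedPoint R := fun h =>
  IsDiscreteValuationRing.not_a_field R (congrArg PrimeSpectrum.asIdeal h).symm

open CategoryTheory CategoryTheory.Limits AlgebraicGeometry in
/-- Let S be a separated Noetherian scheme and f : X → S a separated morphism of finite type. Then f is
universally submersive (an h-covering) if and only if, for every discrete valuation ring R and every
morphism g : Spec R → S, there are a discrete valuation ring R', a morphism φ : Spec R' → Spec R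
surjective on points and a morphism h : Spec R' → X with h ≫ f = φ ≫ g. -/
theorem result {X S : Scheme.{u}} [IsNoetherian S] [S.IsSeparated] (f : X ⟶ S) [LocallyOfFiniteType f] [QuasiCompact f] [IsSeparated f] : SGA1.UnivSubmersive f ↔ ∀ (R : Type u) [CommRing R] [IsDomain R] [IsDiscreteValuationRing R] (g : Spec (CommRingCat.of R) ⟶ S), ∃ (R' : Type u) (_ : CommRing R') (_ : IsDomain R') (_ : IsDiscreteValuationRing R') (φ : Spec (CommRingCat.of R') ⟶ Spec (CommRingCat.of R)) (h : Spec (CommRingCat.of R') ⟶ X), Surjective φ ∧ h ≫ f = φ ≫ g := by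
  constructor
  · intro hf R _ _ _ g
    obtain ⟨x, x', hxx, hx, hx'⟩ := Groth.Agent.SubtrLib.hasLift_of_submersive f hf R g
    haveI : IsLocallyNoetherian (pullback f g) := LocallyOfFiniteType.isLocallyNoetherian (pullback.snd f g)
    have hne : x' ≠ x := fun e => bot_ne_closed (R := R) (by rw [← hx', e, hx])
    obtain ⟨R', _, _, _, ψ, hc, hg⟩ := Groth.Agent.Stk19b.exists_dvr_of_specializes hxx hne
    refine ⟨R', inferInstance, inferInstance, inferInstance, ψ ≫ pullback.snd f g, ψ ≫ pullback.fst f g,
      ⟨fun t => ?_⟩, by simp only [Category.assoc, pullback.condition]⟩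
    rcases two_points t with rfl | rfl
    · refine ⟨(Spec.map (CommRingCat.ofHom (algebraMap R' (FractionRing R'))))
        (IsLocalRing.closedPoint (FractionRing R')), ?_⟩
      rw [← Scheme.Hom.comp_apply, ← Category.assoc, Scheme.Hom.comp_apply, hg, hx']
    · exact ⟨IsLocalRing.closedPoint R', by rw [Scheme.Hom.comp_apply, hc, hx]⟩
  · intro h
    refine Groth.Agent.SubtrLib.univSubmersive_of_univSSubtrusive f
      (Groth.Agent.SubtrLib.univSSubtrusive_of_dvr f fun D _ _ _ g => ?_)
    obtain ⟨R', _, _, _, φ, k, hφ, hk⟩ := h D g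
    let l := pullback.lift k φ hk
    let a : Spec (CommRingCat.of R') := (⟨⊥, Ideal.isPrime_bot⟩ : PrimeSpectrum R')
    let c : Spec (CommRingCat.of R') := IsLocalRing.closedPoint R'
    have hac : a ⤳ c := Groth.Agent.SubtrLib.spec_bot_specializes R' c
    refine ⟨l c, l a, hac.map l.continuous, ?_⟩
    have e : ∀ t, pullback.snd f g (l t) = φ t := fun t => by
      rw [← Scheme.Hom.comp_apply, pullback.lift_snd]
    rw [e, e]
    obtain ⟨t₁, h₁⟩ := φ.surjective (IsLocalRing.closedPoint D : PrimeSpectrum D)
    obtain ⟨t₀, h₀⟩ := φ.surjective (⟨⊥, Ideal.isPrime_bot⟩ : PrimeSpectrum D)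
    have hspec : φ a ⤳ φ c := hac.map φ.continuous
    have hle := (PrimeSpectrum.le_iff_specializes (φ a) (φ c)).2 hspec
    have ht : ∀ t : Spec (CommRingCat.of R'), t = a ∨ t = c := fun t => two_points t
    rcases ht t₁ with rfl | rfl <;> rcases ht t₀ with rfl | rfl
    · exact absurd (h₀.symm.trans h₁) bot_ne_closed
    · exfalso
      rw [h₁, h₀] at hle
      exact bot_ne_closed (le_antisymm (show (⟨⊥, Ideal.isPrime_bot⟩ : PrimeSpectrum D) ≤ IsLocalRing.closedPoint D from bot_le (a := (IsLocalRing.closedPoint D).asIdeal)) hle)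
    · exact ⟨h₁, h₀⟩
    · exact absurd (h₀.symm.trans h₁) bot_ne_closed

end Groth.Agent.S13734
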