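import Groth.Statements.S7197
import Groth.Agent.FlatMor12.AmpleFamily
import Groth.Agent.FlatMor12.DenseCover
import Groth.Agent.VarietyLib.Dual
import Groth.Agent.SDiv28.BlowUp
import Groth.Agent.FlatMorStrata.Global
import Groth.Agent.ModPairLib.EffCartier
import Groth.Agent.KLLib.Basic

set_option autoImplicit false
universe u
open FlatMor

namespace Groth.Agent.S7197

open AlgebraicGeometry CategoryTheory Limits in
/-- A quasi-compact quasi-separated scheme X with finitely many irreducible components admits a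
quasi-compact dense open U together with a blowing up X' → X which is U-admissible and whose source
X' carries an ample family of invertible modules. -/
theorem result (X : Scheme.{u}) [CompactSpace ↥X] [QuasiSeparatedSpace ↥X]
    (hirr : (irreducibleComponents ↥X).Finite) :
    ∃ (U : X.Opens) (𝓘 : X.IdealSheafData) (X' : Scheme.{u}) (b : X' ⟶ X),
      IsCompact (U : Set ↥X) ∧ Dense (U : Set ↥X) ∧ BlowUp.IsAdmissibleFor U 𝓘 ∧ BlowUp.IsBlowUp b 𝓘 ∧
      MoreMor.HasAmpleFamily X' := by
  obtain ⟨k, V, U, hV, hcov, hUc, hUle, hUd⟩ := Groth.Agent.FlatMor12.DenseCover.exists_cover_dense_open (X := X) hirr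
  choose J hJfg hJs using fun i => Groth.Agent.FlatMorStrata.exists_fg_support_compl (S := X) ⟨V i, hV i⟩
  obtain ⟨I, hI, hIs, hIe⟩ : ∃ I : X.IdealSheafData, (∀ W : X.affineOpens, (I.ideal W).FG) ∧
      Disjoint (I.support : Set X) (U : Set X) ∧
      ∀ (Y : Scheme.{u}) (g : Y ⟶ X), BlowUp.IsEffCartierIdeal (I.comap g) →
        ∀ i, BlowUp.IsEffCartierIdeal ((J i).comap g) := by
    suffices h : ∀ s : Finset (Fin k), ∃ I : X.IdealSheafData, (∀ W : X.affineOpens, (I.ideal W).FG) ∧
        Disjoint (I.support : Set X) (U : Set X) ∧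
        ∀ (Y : Scheme.{u}) (g : Y ⟶ X), BlowUp.IsEffCartierIdeal (I.comap g) →
          ∀ i ∈ s, BlowUp.IsEffCartierIdeal ((J i).comap g) by
      obtain ⟨I, h1, h2, h3⟩ := h Finset.univ
      exact ⟨I, h1, h2, fun Y g hg i => h3 Y g hg i (Finset.mem_univ i)⟩
    classical
    intro s
    induction s using Finset.induction_on with
    | empty => exact ⟨⊤, fun W => by simp [Ideal.fg_top], by simp, by simp⟩
    | insert i s _ ih =>
      obtain ⟨I, h1, h2, h3⟩ := ih
      refine ⟨J i * I, Groth.Agent.FlatMorStrata.fg_mul (hJfg i) h1, ?_, fun Y g hg j hj => ?_⟩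
      · rw [Set.disjoint_left]
        intro z hz hzU
        rw [Scheme.IdealSheafData.support_mul] at hz
        rcases hz with hz | hz
        · exact (hJs i).le hz (hUle i hzU)
        · exact Set.disjoint_left.1 h2 hz hzU
      · rw [Groth.Agent.ModPairLib.comap_mul] at hg
        rcases Finset.mem_insert.1 hj with rfl | hj
        · exact Groth.Agent.SDiv28.isEffCartier_left_of_mul hg
        · exact h3 Y g (Groth.Agent.SDiv28.isEffCartier_left_of_mul (mul_comm (Scheme.IdealSheafData.comap (J i) g) (I.comap g) ▸ hg)) j hj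
  obtain ⟨X', b, hb⟩ := Groth.Agent.BlowUpLib.exists_isBlowUp (I := I)
  refine ⟨U, I, X', b, hUc, hUd, ⟨hI, hIs⟩, hb, ?_⟩
  have := Groth.Agent.BlowUpLib.isProper_of_isBlowUp hb hI
  have : CompactSpace X' := QuasiCompact.compactSpace_of_compactSpace b
  have : QuasiSeparatedSpace X' := quasiSeparatedSpace_of_quasiSeparated b
  refine Groth.Agent.FlatMor12.AmpleFamily.hasAmpleFamily_of_blowUp hb fun x => ?_
  obtain ⟨i, hi⟩ := hcov x
  refine ⟨⟨V i, hV i⟩, hi, ?_⟩
  have hE := hIe X' b hb.1 i
  have hinv := Groth.Agent.FlatMor12.IdealModGen.isInvertible_idealMod _ hE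
  obtain ⟨M, ⟨e⟩⟩ := Groth.Agent.VarietyLib.exists_isInverseOf hinv
  have hM : PicF.IsInvertible M := Groth.Agent.PicLib.PicM.isInvertible_of_tensor hinv
    (Groth.Agent.KLLib.isInvertible_of_iso e.symm Groth.Agent.AmpleLib.isInvertible_structureModule)
  obtain ⟨σ, hσ⟩ := Groth.Agent.FlatMor12.IdealModGen.exists_section_of_effCartier _ hE hM
    ⟨Groth.Agent.AmpleLib.tensorComm _ _ ≪≫ e⟩
  refine ⟨M, σ, hM, TopologicalSpace.Opens.ext ?_⟩
  rw [hσ, Scheme.IdealSheafData.support_comap]
  ext z
  have := Set.ext_iff.1 (hJs i) (b z)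
  simp only [Set.mem_compl_iff, SetLike.mem_coe] at this
  simp [this]

end Groth.Agent.S7197
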