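import Groth.Agent.VarietyLib.HilbModel
import Groth.Agent.Coherent.CohBC.UniformVanish
import Groth.Agent.Coherent.CohBC.FibreInvariance
import Groth.Agent.H8Coh.AmpleLocus
import Groth.Agent.Props12.AmpleExternal
import Groth.Agent.EGA43.FibDepth.Unit

/-!
# Uniform vanishing on fibres for the powers of a relatively ample module
-/

set_option autoImplicit false
set_option maxHeartbeats 800000
set_option linter.style.haveILetI false
set_option backward.isDefEq.respectTransparency.types false

universe u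

open CategoryTheory CategoryTheory.Limits AlgebraicGeometry TopologicalSpace
open Groth.Agent.Coherent.CohBC

namespace Groth.Agent.FlatMorAmpleUniform

variable {X S : Scheme.{u}}

/-- Isomorphic modules have the same fibre ranks. -/
theorem fiberRank_congr (f : X ⟶ S) {G G' : X.Modules} (e : G ≅ G') (p : ℕ) (s : S) :
    CohIII.fiberRank f G p s = CohIII.fiberRank f G' p s :=
  finrank_HH_congr (S.residueField s) ((Scheme.Modules.pullback (f.fiberι s)).mapIso e) p

/-- Over an affine open, one power kills the higher cohomology of every fibre. -/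
theorem exists_uniform_affine (f : X ⟶ S) [IsProper f] [LocallyOfFinitePresentation f] {L : X.Modules}
    (hL : RelAmple.IsRelAmple f L) {U : S.Opens} (hU : IsAffineOpen U) :
    ∃ N : ℕ, ∀ d : ℕ, N ≤ d → ∀ p : ℕ, 0 < p → ∀ s ∈ U,
      CohIII.fiberRank f (CohB1.tensorPow L d) p s = 0 := by
  have hLi := AmpleLib.isInvertible_of_isRelAmple _ hL
  let fR := pullback.snd f hU.fromSpec
  have : IsProper fR := MorphismProperty.pullback_snd (P := @IsProper) _ _ inferInstance
  have : LocallyOfFinitePresentation fR :=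
    MorphismProperty.pullback_snd (P := @LocallyOfFinitePresentation) _ _ inferInstance
  have hLR := AmpleLib.isRelAmple_baseChange f hU.fromSpec hL
  obtain ⟨U₀, X₀, r, u₀, q, L₀, -, hN, hu₀, hsq, hL₀, hamp, -, ⟨eL⟩, -⟩ :=
    VarietyLib.exists_noetherian_family fR _ hLR (Coh.structureModule _)
      (EGA43.FibDepth.isFP_structureModule _)
  have : IsLocallyNoetherian X₀ := LocallyOfFiniteType.isLocallyNoetherian u₀
  have hO : Coh.IsCoh (Coh.structureModule X₀) :=
    (Coherent.isCoh_iff_isFP _).2 (EGA43.FibDepth.isFP_structureModule _)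
  obtain ⟨N, hN'⟩ := exists_uniform_fiberRank_zero u₀ hO hL₀ fun P W g' p g _ hPW =>
    Props12.AmpleExternal.isAmple_of_isRelAmple p _ (H8Coh.AmpleLocus.isRelAmple_of_isPullback hPW (𝟙 X₀) L₀
      (Category.comp_id g')
      (H8Coh.AmpleLocus.isRelAmple_of_iso _ ((Scheme.Modules.pullbackId X₀).app L₀).symm hamp))
  refine ⟨N, fun d hd p hp s hs => ?_⟩
  rw [← SetLike.mem_coe, ← hU.range_fromSpec] at hs
  obtain ⟨y, rfl⟩ := hs
  have : Coh.IsQCoh (CohB1.tensorPow L d) :=
    AmpleLib.isQCoh_of_isInvertible (AmpleLib.isInvertible_tensorPow hLi d)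
  have : Coh.IsQCoh (CohB1.tensorPow L₀ d) :=
    AmpleLib.isQCoh_of_isInvertible (AmpleLib.isInvertible_tensorPow hL₀ d)
  obtain ⟨e₁, -⟩ := AmpleLib.exists_pullPowIso (pullback.fst f hU.fromSpec) hLi d
  obtain ⟨e₂, -⟩ := AmpleLib.exists_pullPowIso q hL₀ d
  rw [← fiberRank_pullback (IsPullback.of_hasPullback f hU.fromSpec) (CohB1.tensorPow L d) p y,
    fiberRank_congr _ (e₁ ≪≫ AmpleLib.powIsoOfIso eL d ≪≫ e₂.symm),
    fiberRank_pullback hsq (CohB1.tensorPow L₀ d) p y,
    ← fiberRank_congr u₀ (AmpleLib.unitTensorIso (CohB1.tensorPow L₀ d)) p]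
  exact hN' d hd p hp _

/-- Over a quasi-compact base, one power kills the higher cohomology of every fibre. -/
theorem exists_uniform (f : X ⟶ S) [IsProper f] [LocallyOfFinitePresentation f] [CompactSpace S]
    {L : X.Modules} (hL : RelAmple.IsRelAmple f L) :
    ∃ N : ℕ, ∀ d : ℕ, N ≤ d → ∀ p : ℕ, 0 < p → ∀ s : S,
      CohIII.fiberRank f (CohB1.tensorPow L d) p s = 0 := by
  classical
  have hex : ∀ s : S, ∃ U : S.Opens, IsAffineOpen U ∧ s ∈ U := fun s => by
    obtain ⟨U, hU, hs, -⟩ := exists_isAffineOpen_mem_and_subset (x := s) (U := ⊤) trivial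
    exact ⟨U, hU, hs⟩
  choose U hU hmem using hex
  obtain ⟨t, ht⟩ := isCompact_univ.elim_finite_subcover (fun s => (U s : Set S)) (fun s => (U s).2)
    fun s _ => Set.mem_iUnion.2 ⟨s, hmem s⟩
  choose N hN using fun s => exists_uniform_affine f hL (hU s)
  refine ⟨t.sup N, fun d hd p hp s => ?_⟩
  obtain ⟨i, hi, his⟩ : ∃ i ∈ t, s ∈ (U i : Set S) := by simpa using ht (Set.mem_univ s)
  exact hN i d ((Finset.le_sup hi).trans hd) p hp s his

end Groth.Agent.FlatMorAmpleUniform
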