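import Groth.Statements.S9011
import Groth.Agent.FlatCrit.AssSup
import Mathlib.RingTheory.Localization.BaseChange

set_option autoImplicit false
universe u
open FlatMor

open TensorProduct IsLocalRing

namespace Groth.Agent.S9011

/-- A map of projective modules injective on the closed fibre is universally injective. -/
theorem univInj_of_residue {R : Type u} [CommRing R] [IsLocalRing R] {M N : Type u} [AddCommGroup M] [Module R M]
    [AddCommGroup N] [Module R N] [Module.Projective R M] [Module.Projective R N] (l : M →ₗ[R] N)
    (h : Function.Injective (l.lTensor (maximalIdeal R).ResidueField)) : FlatCA.UnivInj R l := by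
  let κ := (maximalIdeal R).ResidueField
  have hκ : Function.Surjective (algebraMap R κ) :=
    (Ideal.bijective_algebraMap_quotient_residueField (maximalIdeal R)).surjective.comp Ideal.Quotient.mk_surjective
  obtain ⟨τ, hτ⟩ := LinearMap.exists_leftInverse_of_injective (l.baseChange κ) (LinearMap.ker_eq_bot.2 h)
  obtain ⟨t, ht⟩ := Module.projective_lifting_property (TensorProduct.mk R κ M 1)
    ((τ.restrictScalars R) ∘ₗ TensorProduct.mk R κ N 1) (TensorProduct.mk_surjective R M κ hκ)
  have hφ : ∀ m, (t ∘ₗ l) m - m ∈ maximalIdeal R • (⊤ : Submodule R M) := fun m => by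
    have h1 : (1 : κ) ⊗ₜ[R] ((t ∘ₗ l) m - m) = 0 := by
      rw [tmul_sub, sub_eq_zero]
      refine (LinearMap.congr_fun ht (l m)).trans ?_
      exact LinearMap.congr_fun hτ ((1 : κ) ⊗ₜ[R] m)
    let e : (R ⧸ maximalIdeal R) ≃ₗ[R] κ := (AlgEquiv.ofBijective
      (IsScalarTower.toAlgHom R (R ⧸ maximalIdeal R) κ)
      (Ideal.bijective_algebraMap_quotient_residueField _)).toLinearEquiv
    have h2 : (1 : R ⧸ maximalIdeal R) ⊗ₜ[R] ((t ∘ₗ l) m - m) = 0 := by
      refine (e.rTensor M).injective ?_
      rw [map_zero, LinearEquiv.rTensor_tmul]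
      refine Eq.trans ?_ h1
      congr 1
      exact map_one (IsScalarTower.toAlgHom R (R ⧸ maximalIdeal R) κ)
    have h3 := congrArg (TensorProduct.quotTensorEquivQuotSMul M (maximalIdeal R)) h2
    rw [map_zero, TensorProduct.quotTensorEquivQuotSMul_mk_one_tmul, Submodule.Quotient.mk_eq_zero] at h3
    exact h3
  intro Q _ _
  have h4 := (LinearMap.lTensor_inj_iff_rTensor_inj Q (t ∘ₗ l)).2
    (FlatCrit.rTensor_injective_of_congr_of_projective Q (t ∘ₗ l) hφ)
  rw [LinearMap.lTensor_comp] at h4
  exact Function.Injective.of_comp (by exact h4)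

attribute [local instance] Algebra.TensorProduct.rightAlgebra in
/-- Elements acting injectively on the fibre module act injectively on `κ ⊗ N`. -/
theorem injective_residue {R S N : Type u} [CommRing R] [IsLocalRing R] [CommRing S] [Algebra R S]
    [AddCommGroup N] [Module S N] [Module R N] [IsScalarTower R S N] (s : S)
    (hs : s ∈ FlatCA.nzdFiber R S N) :
    Function.Injective (((LinearMap.lsmul S N s).restrictScalars R).lTensor (maximalIdeal R).ResidueField) := by
  let κ := (maximalIdeal R).ResidueField
  let F := (maximalIdeal R).Fiber S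
  let g₀ : N → F →+ κ ⊗[R] N := fun n =>
    (((LinearMap.toSpanSingleton S N n).restrictScalars R).lTensor κ).toAddMonoidHom
  have hg : ∀ (a : κ) (t : S) (n : N), g₀ n (a ⊗ₜ t) = a ⊗ₜ (t • n) := fun a t n => rfl
  let g : FlatCA.fiberMod (maximalIdeal R) S N →+ κ ⊗[R] N :=
    TensorProduct.liftAddHom
      { toFun := fun c =>
          { toFun := fun n => g₀ n c
            map_zero' := by
              induction c using TensorProduct.induction_on with
              | zero => rw [map_zero]
              | tmul a t => rw [hg, smul_zero, tmul_zero]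
              | add a b ha hb => rw [map_add, ha, hb, add_zero]
            map_add' := fun n n' => by
              induction c using TensorProduct.induction_on with
              | zero => simp only [map_zero, add_zero]
              | tmul a t => simp only [hg, smul_add, tmul_add]
              | add a b ha hb => rw [map_add, map_add, map_add, ha, hb, add_add_add_comm] }
        map_zero' := AddMonoidHom.ext fun n => map_zero (g₀ n)
        map_add' := fun a b => AddMonoidHom.ext fun n => map_add (g₀ n) a b }
      (fun r c n => by
        show g₀ n (r • c) = g₀ (r • n) c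
        induction c using TensorProduct.induction_on with
        | zero => simp only [smul_zero, map_zero]
        | tmul a t =>
          rw [show r • (a ⊗ₜ[R] t : F) = a ⊗ₜ[R] (r * t) by
            rw [Algebra.smul_def, Algebra.TensorProduct.right_algebraMap_apply,
              Algebra.TensorProduct.tmul_mul_tmul, one_mul], hg, hg, smul_smul, mul_comm t]
        | add a b ha hb => rw [smul_add, map_add, map_add, ha, hb])
  let ψ : κ ⊗[R] N →+ FlatCA.fiberMod (maximalIdeal R) S N :=
    TensorProduct.liftAddHom
      { toFun := fun a =>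
          { toFun := fun n => ((a ⊗ₜ[R] (1 : S) : F) ⊗ₜ[S] n : F ⊗[S] N)
            map_zero' := tmul_zero _ _
            map_add' := fun _ _ => tmul_add _ _ _ }
        map_zero' := AddMonoidHom.ext fun n => by
          show ((0 : κ) ⊗ₜ[R] (1 : S) : F) ⊗ₜ[S] n = (0 : F ⊗[S] N)
          rw [zero_tmul, zero_tmul]
        map_add' := fun a b => AddMonoidHom.ext fun n => by
          show ((a + b) ⊗ₜ[R] (1 : S) : F) ⊗ₜ[S] n =
            ((a ⊗ₜ[R] (1 : S) : F) ⊗ₜ[S] n : F ⊗[S] N) + (b ⊗ₜ[R] (1 : S) : F) ⊗ₜ[S] n
          rw [add_tmul, add_tmul] }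
      (fun r a n => by
        show ((r • a) ⊗ₜ[R] (1 : S) : F) ⊗ₜ[S] n = ((a ⊗ₜ[R] (1 : S) : F) ⊗ₜ[S] (r • n) : F ⊗[S] N)
        rw [← IsScalarTower.algebraMap_smul S r n, tmul_smul, smul_tmul']
        congr 1
        rw [smul_tmul, Algebra.smul_def (algebraMap R S r), Algebra.TensorProduct.right_algebraMap_apply,
          Algebra.TensorProduct.tmul_mul_tmul, one_mul, mul_one, Algebra.smul_def r, mul_one])
  have hgψ : ∀ z, g (ψ z) = z := fun z => by
    induction z using TensorProduct.induction_on with
    | zero => rw [map_zero, map_zero]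
    | tmul a n =>
      show g₀ n (a ⊗ₜ 1) = _
      rw [hg, one_smul]
    | add a b ha hb => rw [map_add, map_add, ha, hb]
  have hψs : ∀ z, ψ (((LinearMap.lsmul S N s).restrictScalars R).lTensor κ z) = s • ψ z := fun z => by
    induction z using TensorProduct.induction_on with
    | zero => simp only [map_zero, smul_zero]
    | tmul a n => exact tmul_smul s _ _
    | add a b ha hb => simp only [map_add, smul_add, ha, hb]
  rw [injective_iff_map_eq_zero]
  intro z hz
  have h1 : ψ z = 0 := hs (ψ z) (by rw [← hψs, hz, map_zero])
  rw [← hgψ z, h1, map_zero]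


open IsLocalRing in
/-- For a local ring R with maximal ideal m, an R-algebra S with S/mS Noetherian and an S-module N with
N/mN finite over S/mS which is projective as an R-module, every element of S that is a
nonzerodivisor on N/mN acts R-universally injectively on N, and the map from N to its localization
at all such elements is R-universally injective. -/
theorem result {R S : Type u} [CommRing R] [IsLocalRing R] [CommRing S] [Algebra R S] (N : Type u) [AddCommGroup N] [Module S N] [Module R N] [IsScalarTower R S N] [IsNoetherianRing ((maximalIdeal R).Fiber S)] [Module.Finite ((maximalIdeal R).Fiber S) (FlatCA.fiberMod (maximalIdeal R) S N)] [Module.Projective R N] : (∀ s ∈ FlatCA.nzdFiber R S N, FlatCA.UnivInj R ((LinearMap.lsmul S N s).restrictScalars R)) ∧ FlatCA.UnivInj R ((LocalizedModule.mkLinearMap (FlatCA.nzdFiber R S N) N).restrictScalars R) := by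
  have key : ∀ s ∈ FlatCA.nzdFiber R S N, FlatCA.UnivInj R ((LinearMap.lsmul S N s).restrictScalars R) :=
    fun s hs => univInj_of_residue _ (injective_residue s hs)
  refine ⟨key, fun Q _ _ => ?_⟩
  let g := LocalizedModule.mkLinearMap (FlatCA.nzdFiber R S N) N
  have hloc : IsLocalizedModule (FlatCA.nzdFiber R S N) (AlgebraTensorModule.rTensor R Q g) := inferInstance
  have hr : Function.Injective (AlgebraTensorModule.rTensor R Q g) := by
    rw [injective_iff_map_eq_zero]
    intro x hx
    obtain ⟨⟨s, hs⟩, hsx⟩ := (IsLocalizedModule.eq_zero_iff (FlatCA.nzdFiber R S N)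
      (AlgebraTensorModule.rTensor R Q g)).1 hx
    have hsx' : s • x = 0 := hsx
    have h1 : ((LinearMap.lsmul S N s).restrictScalars R).rTensor Q x = s • x := by
      clear hsx hsx' hx
      induction x using TensorProduct.induction_on with
      | zero => simp
      | tmul a b => rw [LinearMap.rTensor_tmul, TensorProduct.smul_tmul']; rfl
      | add a b ha hb => rw [map_add, ha, hb, smul_add]
    exact (LinearMap.lTensor_inj_iff_rTensor_inj Q ((LinearMap.lsmul S N s).restrictScalars R)).1 (key s hs Q)
      ((h1.trans hsx').trans (map_zero _).symm)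
  exact (LinearMap.lTensor_inj_iff_rTensor_inj Q (g.restrictScalars R)).2 hr

end Groth.Agent.S9011
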