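import Groth.Statements.S16765
import Groth.Agent.FlatLocal.FibreCrit
import Groth.Agent.FlatLocal.FiberMap
import Groth.Prelude

set_option autoImplicit false
universe u
open Unram17

namespace Groth.Agent.S16765
open CategoryTheory CategoryTheory.Limits AlgebraicGeometry
set_option backward.isDefEq.respectTransparency.types false

open AlgebraicGeometry CategoryTheory CategoryTheory.Limits in
/-- Let g : Y → S and h : X → S be locally of finite presentation, f : X → Y an S-morphism (f ≫ g = h;
in particular f is locally of finite presentation, so unramified amounts to formally unramified),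
and x a point of X with image s = h(x). Then f is unramified at x (formally unramified on an open
neighbourhood of x) if and only if the induced morphism of fibres X_s → Y_s is unramified at the
point of X_s lying over x. No flatness is needed. -/
theorem result {X Y S : Scheme.{u}} (g : Y ⟶ S) (h : X ⟶ S)
    [LocallyOfFinitePresentation g] [LocallyOfFinitePresentation h] (f : X ⟶ Y) (w : f ≫ g = h)
    (x : ↥X)
    (x' : ↥(h.fiber (h x))) (hx' : (h.fiberι (h x)) x' = x) :
    (∃ U : X.Opens, x ∈ U ∧ FormallyUnramified (U.ι ≫ f)) ↔
      ∃ V : (h.fiber (h x)).Opens, x' ∈ V ∧ FormallyUnramified (V.ι ≫ CohIII.fiberMapOver f h g w (h x)) := by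
  haveI : LocallyOfFiniteType f := by
    haveI : LocallyOfFiniteType (f ≫ g) := by rw [w]; infer_instance
    exact locallyOfFiniteType_of_comp f g
  generalize h x = s at x' hx' ⊢
  let f' := CohIII.fiberMapOver f h g w s
  have sq : h.fiberι s ≫ f = f' ≫ g.fiberι s := (pullback.lift_fst _ _ _).symm
  subst w
  haveI : LocallyOfFiniteType f' := Groth.Agent.FlatLocal.prop_fiberMapOver f g s (MorphismProperty.pullback_snd _ _ inferInstance)
  rw [Groth.Agent.FlatLocal.formallyUnramified_nhd_iff f, Groth.Agent.FlatLocal.formallyUnramified_nhd_iff]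
  subst hx'
  refine Groth.Agent.FlatLocal.formallyUnramified_stalkMap_iff_of_square f f' ((f ≫ g).fiberι s) (g.fiberι s) sq x'
    (((f ≫ g).fiberι s).stalkMap_surjective x') ((g.fiberι s).stalkMap_surjective _) ?_
  rw [(Groth.Agent.Props12.stalkMap_fiberι (f ≫ g) s x').2]
  rw [Scheme.Hom.stalkMap_comp]
  refine le_trans (le_of_eq (Ideal.map_map (g.stalkMap _).hom (f.stalkMap _).hom).symm) ?_
  exact Ideal.map_mono (Ideal.map_le_iff_le_comap.mpr fun b hb => map_nonunit (g.stalkMap _).hom b hb)

end Groth.Agent.S16765
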