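import Groth.Statements.S16764
import Groth.Agent.SmoothLib.FibreMap
import Groth.Agent.S16765

set_option autoImplicit false
set_option backward.isDefEq.respectTransparency.types false
universe u
open Unram17

namespace Groth.Agent.S16764

open AlgebraicGeometry CategoryTheory CategoryTheory.Limits in
/-- Let g : Y → S and h : X → S be locally of finite presentation, f : X → Y an S-morphism (f ≫ g = h),
and x a point of X with image s = h(x) such that h is flat at x. Then f is étale at x (étale on an
open neighbourhood of x) if and only if the induced morphism of fibres X_s → Y_s is étale at the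
point of X_s lying over x. -/
theorem result {X Y S : Scheme.{u}} (g : Y ⟶ S) (h : X ⟶ S)
    [LocallyOfFinitePresentation g] [LocallyOfFinitePresentation h] (f : X ⟶ Y) (w : f ≫ g = h)
    (x : ↥X) (hflat : (h.stalkMap x).hom.Flat)
    (x' : ↥(h.fiber (h x))) (hx' : (h.fiberι (h x)) x' = x) :
    (∃ U : X.Opens, x ∈ U ∧ Etale (U.ι ≫ f)) ↔
      ∃ V : (h.fiber (h x)).Opens, x' ∈ V ∧ Etale (V.ι ≫ CohIII.fiberMapOver f h g w (h x)) := by
  subst w
  haveI : LocallyOfFinitePresentation f := H8Lim.lfp_cancel_right f g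
  have H := SmoothLib.isPullback_fiberMapOver f g ((f ≫ g) x)
  constructor
  · rintro ⟨U, hxU, hU⟩
    have hsq : IsPullback ((f ≫ g).fiberι ((f ≫ g) x) ∣_ U)
        (((f ≫ g).fiberι ((f ≫ g) x) ⁻¹ᵁ U).ι ≫ CohIII.fiberMapOver f (f ≫ g) g rfl ((f ≫ g) x))
        (U.ι ≫ f) (g.fiberι ((f ≫ g) x)) := (isPullback_morphismRestrict _ U).paste_vert H
    refine ⟨_, ?_, MorphismProperty.of_isPullback hsq hU⟩
    show (f ≫ g).fiberι ((f ≫ g) x) x' ∈ U
    rw [hx']
    exact hxU
  · rintro ⟨V, hx'V, hV⟩
    rw [FlatLocal.etale_nhd_iff]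
    refine ⟨SmoothLib.flat_stalkMap_of_fiberMapOver_nhd f g x hflat x' hx' V hx'V inferInstance,
      (FlatLocal.formallyUnramified_nhd_iff f x).mp ?_⟩
    exact (S16765.result g (f ≫ g) f rfl x x' hx').mpr ⟨V, hx'V, inferInstance⟩

end Groth.Agent.S16764
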