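import Groth.Statements.S9738
import Groth.Agent.FlatCrit.Tor
import Groth.Agent.FlatCrit.Inj
import Groth.Agent.AssSch12.PullbackPoint

set_option autoImplicit false
universe u
open FlatMor

namespace Groth.Agent.S9738

open CategoryTheory AlgebraicGeometry in
open scoped TensorProduct in
/-- Flatness over a closed subscheme, on a pair of affine opens. -/
theorem flat_quotient_tensor {X S : Scheme.{u}} (f : X ⟶ S) (J : S.IdealSheafData) {V : S.Opens}
    (hV : IsAffineOpen V) {U : X.Opens} (hU : IsAffineOpen U) (e : U ≤ f ⁻¹ᵁ V)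
    (h : Flat (Limits.pullback.snd f J.subschemeι)) :
    letI := (f.appLE V U e).hom.toAlgebra
    Module.Flat (Γ(S, V) ⧸ J.ideal ⟨V, hV⟩) ((Γ(S, V) ⧸ J.ideal ⟨V, hV⟩) ⊗[Γ(S, V)] Γ(X, U)) := by
  let A := Γ(S, V)
  let B := Γ(X, U)
  let K := A ⧸ J.ideal ⟨V, hV⟩
  let _ := (f.appLE V U e).hom.toAlgebra
  let iL : CommRingCat.of K ⟶ CommRingCat.of (K ⊗[A] B) :=
    CommRingCat.ofHom Algebra.TensorProduct.includeLeftRingHom
  let iR : CommRingCat.of B ⟶ CommRingCat.of (K ⊗[A] B) :=
    CommRingCat.ofHom Algebra.TensorProduct.includeRight.toRingHom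
  have sq : IsPullback (Spec.map iR) (Spec.map iL)
      (Spec.map (CommRingCat.ofHom (algebraMap A B))) (Spec.map (CommRingCat.ofHom (algebraMap A K))) :=
    (isPullback_SpecMap_of_isPushout _ _ _ _ (CommRingCat.isPushout_tensorProduct A K B)).flip
  have sq' : IsPullback (Spec.map iR) (Spec.map iL) (hU.fromSpec ≫ f)
      (J.subschemeCover.f ⟨V, hV⟩ ≫ J.subschemeι) := by
    have := Groth.Agent.AssSch12.isPullback_comp_mono sq hV.fromSpec
    convert this using 1
    · exact (hV.SpecMap_appLE_fromSpec f hU e).symm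
    · refine (J.subschemeCover_map_subschemeι ⟨V, hV⟩).trans ?_
      rw [Scheme.IdealSheafData.glueDataObjι, Category.assoc, IsAffineOpen.isoSpec_inv_ι]
      rfl
  have hflat : Flat (Limits.pullback.snd (hU.fromSpec ≫ f) J.subschemeι) := by
    have sq3 := (IsPullback.of_hasPullback hU.fromSpec (Limits.pullback.fst f J.subschemeι)).paste_vert
      (IsPullback.of_hasPullback f J.subschemeι)
    rw [← sq3.isoPullback_inv_snd]
    infer_instance
  let c := J.subschemeCover.f ⟨V, hV⟩
  let m := Limits.pullback.lift (f := hU.fromSpec ≫ f) (g := J.subschemeι) (Spec.map iR)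
    (Spec.map iL ≫ c) (sq'.w.trans (Category.assoc _ _ _).symm)
  have sq2 : IsPullback m (Spec.map iL) (Limits.pullback.snd (hU.fromSpec ≫ f) J.subschemeι) c := by
    refine IsPullback.of_right ?_ (Limits.pullback.lift_snd _ _ _) (IsPullback.of_hasPullback _ _)
    rw [Limits.pullback.lift_fst]
    exact sq'
  have hiL : Flat (Spec.map iL) := MorphismProperty.of_isPullback (P := @Flat) sq2 hflat
  rw [HasRingHomProperty.Spec_iff (P := @Flat)] at hiL
  exact RingHom.flat_algebraMap_iff.1 hiL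


open AlgebraicGeometry CategoryTheory Limits in
/-- For a morphism f : X ⟶ S between locally Noetherian schemes, an ideal sheaf I on S with closed
subscheme Z, and Z_n the closed subscheme cut out by I^(n+1): if each base change X ×_S Z_n ⟶ Z_n is
flat, then f is flat at each point of X lying over Z. -/
theorem result {X S : Scheme.{u}} (f : X ⟶ S) [IsLocallyNoetherian X] [IsLocallyNoetherian S]
    (I : S.IdealSheafData) (h : ∀ n : ℕ, Flat (pullback.snd f (I ^ (n + 1)).subschemeι)) (x : X) (hx : f x ∈ I.support) :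
    (f.stalkMap x).hom.Flat := by
  obtain ⟨V, hV, hxV, -⟩ := TopologicalSpace.Opens.isBasis_iff_nbhd.mp S.isBasis_affineOpens
    (TopologicalSpace.Opens.mem_top (f.base x))
  obtain ⟨U, hU, hxU, e⟩ := TopologicalSpace.Opens.isBasis_iff_nbhd.mp X.isBasis_affineOpens
    (show x ∈ f ⁻¹ᵁ V from hxV)
  let _ := (f.appLE V U e).hom.toAlgebra
  have : IsNoetherianRing Γ(S, V) := IsLocallyNoetherian.component_noetherian ⟨V, hV⟩
  have : IsNoetherianRing Γ(X, U) := IsLocallyNoetherian.component_noetherian ⟨U, hU⟩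
  have hq : ∀ n : ℕ, Groth.Agent.FlatCrit.QuotFlat Γ(S, V) Γ(X, U) (I.ideal ⟨V, hV⟩ ^ n) := by
    rintro (_ | n)
    · rw [pow_zero, Ideal.one_eq_top]; exact Groth.Agent.FlatCrit.quotFlat_top
    refine Groth.Agent.FlatCrit.quotFlat_of_flat _ ?_
    exact flat_quotient_tensor f (I ^ (n + 1)) hV hU e (h n)
  let _ := (X.presheaf.germ U x hxU).hom.toAlgebra
  have := hU.isLocalization_stalk ⟨x, hxU⟩
  let _ : Algebra Γ(S, V) (X.presheaf.stalk x) :=
    (f.appLE V U e ≫ X.presheaf.germ U x hxU).hom.toAlgebra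
  have : IsScalarTower Γ(S, V) Γ(X, U) (X.presheaf.stalk x) :=
    IsScalarTower.of_algebraMap_eq' rfl
  have : IsNoetherianRing (X.presheaf.stalk x) :=
    IsLocalization.isNoetherianRing (hU.primeIdealOf ⟨x, hxU⟩).asIdeal.primeCompl _ inferInstance
  have : Module.Flat Γ(X, U) (X.presheaf.stalk x) :=
    IsLocalization.flat (X.presheaf.stalk x) (hU.primeIdealOf ⟨x, hxU⟩).asIdeal.primeCompl
  have hgerm : f.appLE V U e ≫ X.presheaf.germ U x hxU =
      S.presheaf.germ V (f.base x) hxV ≫ f.stalkMap x := by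
    rw [Scheme.Hom.appLE, Category.assoc, TopCat.Presheaf.germ_res, Scheme.Hom.germ_stalkMap]
  have key : Module.Flat Γ(S, V) (X.presheaf.stalk x) := by
    refine Groth.Agent.FlatCrit.flat_of_quotFlat_pow (S := X.presheaf.stalk x) (I.ideal ⟨V, hV⟩) ?_
      fun n => ((hq n).baseChange (X.presheaf.stalk x)).of_linearEquiv
        ((TensorProduct.AlgebraTensorModule.rid Γ(X, U) Γ(X, U) (X.presheaf.stalk x)).restrictScalars
          Γ(S, V))
    rw [IsLocalRing.jacobson_eq_maximalIdeal ⊥ bot_ne_top, Ideal.map_le_iff_le_comap]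
    intro a ha
    rw [Ideal.mem_comap, IsLocalRing.mem_maximalIdeal]
    intro hu
    change IsUnit ((f.appLE V U e ≫ X.presheaf.germ U x hxU) a) at hu
    rw [hgerm] at hu
    have hmem := (Scheme.IdealSheafData.mem_support_iff_of_mem
      (show f.base x ∈ (⟨V, hV⟩ : S.affineOpens).1 from hxV)).1 hx
    exact (Scheme.mem_zeroLocus_iff _ _ _).1 hmem a ha
      ((Scheme.mem_basicOpen _ _ _ hxV).2 (isUnit_of_map_unit (f.stalkMap x).hom _ hu))
  let _ := (S.presheaf.germ V (f.base x) hxV).hom.toAlgebra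
  let _ := (f.stalkMap x).hom.toAlgebra
  have : IsScalarTower Γ(S, V) (S.presheaf.stalk (f.base x)) (X.presheaf.stalk x) :=
    IsScalarTower.of_algebraMap_eq' congr(($hgerm).hom)
  have := hV.isLocalization_stalk ⟨f.base x, hxV⟩
  exact (Module.flat_iff_of_isLocalization (S.presheaf.stalk (f.base x))
    (hV.primeIdealOf ⟨f.base x, hxV⟩).asIdeal.primeCompl (X.presheaf.stalk x)).2 key

end Groth.Agent.S9738
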