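import Groth.Statements.S1197
import Groth.Agent.S0550
import Groth.Agent.S6338
import Groth.Agent.S6347
import Groth.Agent.S17539
import Groth.Agent.CAlgMisc2.DecayingFlat
-- import your own Groth.Agent.* helpers here

set_option autoImplicit false
universe u
open FlatMor

namespace Groth.Agent.S1197

/-- Over a Noetherian ring R which is I-adically complete, the I-adic completion of a free module on an
arbitrary index set is a flat and Mittag-Leffler R-module. (Flatness alone, without completeness of
R, is stated separately.) -/
theorem result (R : Type u) [CommRing R] [IsNoetherianRing R] (I : Ideal R) [IsAdicComplete I R] (α : Type u) :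
    Module.Flat R (AdicCompletion I (α →₀ R)) ∧ CAlg.IsMittagLeffler R (AdicCompletion I (α →₀ R)) := by
  refine ⟨Groth.Agent.S0550.result R I α, ?_⟩
  have hI : I.FG := IsNoetherian.noetherian I
  have : IsAdicComplete I (AdicCompletion I R) := AdicCompletion.isAdicComplete hI
  obtain ⟨h1, h2⟩ := Groth.Agent.S17539.result (A := R) I α R
  let e := LinearEquiv.piCongrRight fun _ : α => AdicCompletion.ofLinearEquiv I R
  let f := LinearMap.pi fun z : α => (AdicCompletion.map I (Finsupp.lapply (M := R) (R := R) z)).restrictScalars R
  refine Groth.Agent.S6338.result R (e.symm.toLinearMap.comp f) ?_ (Groth.Agent.S6347.result R α).2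
  intro Q _ _
  rw [LinearMap.rTensor_comp]
  exact (e.symm.rTensor Q).injective.comp
    (Groth.Agent.CAlgMisc2.universallyInjective_completion I α f h1 h2 Q)

end Groth.Agent.S1197
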