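import Groth.Statements.S1200
import Groth.Agent.CommAlg4.UnivInjCompl
import Groth.Agent.S2069
import Groth.Agent.S9669
-- import your own Groth.Agent.* helpers here

set_option autoImplicit false
universe u
open FlatMor

namespace Groth.Agent.S1200

/-- Let R → S be a map of Noetherian rings, I an ideal of R and N a finite S-module which is flat over
R. Assume that for every prime q of S, over p in R, whose extension to the fibre ring over p is an
associated prime of the fibre module of N, the ideal IS + q is proper. Then the canonical map from N
to its I-adic completion is universally injective as a map of R-modules. -/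
theorem result {R S : Type u} [CommRing R] [CommRing S] [Algebra R S] [IsNoetherianRing R] [IsNoetherianRing S] (I : Ideal R)
    (N : Type u) [AddCommGroup N] [Module S N] [Module R N] [IsScalarTower R S N] [Module.Finite S N] [Module.Flat R N]
    (h : ∀ (p : Ideal R) (q : Ideal S) [p.IsPrime] [q.IsPrime] [q.LiesOver p],
      FlatCA.fiberIdeal p q ∈ associatedPrimes (p.Fiber S) (FlatCA.fiberMod p S N) → I.map (algebraMap R S) ⊔ q ≠ ⊤) :
    FlatCA.UnivInj R (AdicCompletion.of I N) := by
  refine Groth.Agent.CommAlg4.univInj_completion_of_assoc (S := S) I fun Q _ _ _ q hq => ?_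
  rw [Groth.Agent.S2069.result (R := R) (S := S) (N := N) (M := Q)] at hq
  obtain ⟨p, hp, hq⟩ := Set.mem_iUnion₂.1 hq
  have := hp.1
  have := hq.1
  obtain ⟨h1, h2⟩ := Groth.Agent.S9669.result (S := S) N p
  have hq' := Groth.Agent.CommAlg4.mem_ass_of_mem_associatedPrimes hq
  have hc : q.comap (algebraMap R S) = p := h2 q hq'
  have : q.LiesOver p := ⟨hc.symm⟩
  exact h p q (Groth.Agent.CommAlg4.fiberIdeal_mem_of_mem_ass p q hc (h1 ▸ hq'))

end Groth.Agent.S1200
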