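import Groth.Statements.S3036
import Groth.Agent.SGA3cLib.MonoClosed

set_option autoImplicit false
universe u
open CategoryTheory MonoidalCategory CartesianMonoidalCategory MonObj GrpObj AlgebraicGeometry TensorProduct
open SGA3

namespace Groth.Agent.S3036

set_option backward.isDefEq.respectTransparency.types false

/-- Let A be a local artinian ring and u : G → H a homomorphism between group schemes locally of finite
type over A which is a quasi-compact monomorphism. Then u is a closed immersion. -/
theorem result (A : Type u) [CommRing A] [IsArtinianRing A] [IsLocalRing A]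
    (G H : Over (Spec (CommRingCat.of A))) [GrpObj G] [GrpObj H] [LocallyOfFiniteType G.hom] [LocallyOfFiniteType H.hom]
    (u : G ⟶ H) [IsMonHom u] [Mono u] [QuasiCompact u.left] : IsClosedImmersion u.left := by
  let i : Spec (CommRingCat.of (IsLocalRing.ResidueField A)) ⟶ Spec (CommRingCat.of A) :=
    Spec.map (CommRingCat.ofHom (IsLocalRing.residue A))
  haveI : IsClosedImmersion i := IsClosedImmersion.spec_of_surjective _ IsLocalRing.residue_surjective
  haveI : Surjective i := ⟨fun p => ⟨IsLocalRing.closedPoint (IsLocalRing.ResidueField A),
    Subsingleton.elim (α := PrimeSpectrum A) _ _⟩⟩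
  let F := Over.pullback i
  letI : GrpObj (F.obj G) := F.grpObjObj
  letI : GrpObj (F.obj H) := F.grpObjObj
  haveI : LocallyOfFiniteType (F.obj G).hom := MorphismProperty.pullback_snd (P := @LocallyOfFiniteType) _ _ inferInstance
  haveI : LocallyOfFiniteType (F.obj H).hom := MorphismProperty.pullback_snd (P := @LocallyOfFiniteType) _ _ inferInstance
  have hsq : IsPullback (Limits.pullback.fst G.hom i) (F.map u).left u.left (Limits.pullback.fst H.hom i) := by
    refine IsPullback.of_bot ?_ ?_ (IsPullback.of_hasPullback H.hom i)
    · have e1 : (F.map u).left ≫ Limits.pullback.snd H.hom i = Limits.pullback.snd G.hom i := Limits.pullback.lift_snd _ _ _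
      have e2 : u.left ≫ H.hom = G.hom := Over.w u
      rw [e1, e2]
      exact IsPullback.of_hasPullback G.hom i
    · exact (Limits.pullback.lift_fst _ _ _).symm
  haveI : QuasiCompact (F.map u).left := MorphismProperty.of_isPullback (P := @QuasiCompact) hsq inferInstance
  haveI := SGA3cLib.isClosedImmersion_of_mono (F.map u)
  haveI : UniversallyClosed (Limits.pullback.fst G.hom i ≫ u.left) := by
    rw [hsq.w]; infer_instance
  haveI : Surjective (Limits.pullback.fst G.hom i) := MorphismProperty.pullback_fst (P := @Surjective) _ _ inferInstance
  haveI : UniversallyClosed u.left := UniversallyClosed.of_comp_surjective (Limits.pullback.fst G.hom i) u.left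
  haveI : LocallyOfFiniteType (u.left ≫ H.hom) := by rw [Over.w u]; infer_instance
  haveI : LocallyOfFiniteType u.left := locallyOfFiniteType_of_comp u.left H.hom
  exact (IsClosedImmersion.iff_isProper_and_mono _).mpr ⟨⟨⟩, inferInstance⟩

end Groth.Agent.S3036
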