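import Groth.Statements.S5351
import Groth.Agent.GrpQ26.Comp
import Groth.Agent.FlatMorThick.Topological

set_option autoImplicit false
set_option linter.style.haveILetI false
set_option backward.isDefEq.respectTransparency.types false
universe u
open CategoryTheory CategoryTheory.Limits MonoidalCategory CartesianMonoidalCategory MonObj GrpObj AlgebraicGeometry
open SGA3

namespace Groth.Agent.S5351

/-- Let A be a local artinian ring, G an A-group scheme locally of finite type, and u : F → G a
homomorphism which is a closed immersion, with F flat and quasi-compact (hence of finite type) over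
A (G is not assumed flat). Then there are an A-scheme X and a morphism p : G → X over A (the
quotient of G by F acting by left translations) such that: X is separated and locally of finite type
over A; p is surjective, flat and locally of finite presentation; the square formed by (f, g) ↦
u(f)·g, the second projection F ×_A G → G and p (twice) is cartesian; X is flat (resp.
quasi-compact, resp. smooth) over A when G is; and every connected component of X is irreducible and
quasi-compact, of dimension d with d + dim F = dim G. (The published statement asks only that F be a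
closed subgroup scheme flat over A, hence locally of finite type; this row also assumes F
quasi-compact over A, the case in which the second projection F ×_A G → G is of finite presentation,
as the reduction to the residue field used in the proof requires. The published statement also
asserts exactness of F ×_A G ⇉ G → X in the category of all ringed spaces and a right action of G on
X; these are not part of this row.) -/
theorem result (A : Type u) [CommRing A] [IsArtinianRing A] [IsLocalRing A] (F G : Over (Spec (CommRingCat.of A))) [GrpObj F] [GrpObj G]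
    [LocallyOfFiniteType G.hom] [Flat F.hom] [QuasiCompact F.hom] (u : F ⟶ G) [IsMonHom u] [IsClosedImmersion u.left] :
    ∃ (X : Over (Spec (CommRingCat.of A))) (p : G ⟶ X),
      IsSeparated X.hom ∧ LocallyOfFiniteType X.hom ∧
      Surjective p.left ∧ Flat p.left ∧ LocallyOfFinitePresentation p.left ∧
      IsPullback ((u ▷ G) ≫ μ[G]) (snd F G) p p ∧
      (Flat G.hom → Flat X.hom) ∧ (QuasiCompact G.hom → QuasiCompact X.hom) ∧ (Smooth G.hom → Smooth X.hom) ∧
      ∀ x : X.left, IsIrreducible (connectedComponent x) ∧ IsCompact (connectedComponent x) ∧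
        topologicalKrullDim ↥(connectedComponent x) + topologicalKrullDim ↥F.left = topologicalKrullDim ↥G.left := by
  let cs : Spec (CommRingCat.of (IsLocalRing.ResidueField A)) ⟶ Spec (CommRingCat.of A) :=
    Spec.map (CommRingCat.ofHom (IsLocalRing.residue A))
  haveI : IsClosedImmersion cs := IsClosedImmersion.spec_of_surjective _ IsLocalRing.residue_surjective
  haveI : Subsingleton ↥(Spec (CommRingCat.of A)) :=
    ⟨fun a b => PrimeSpectrum.ext ((IsLocalRing.eq_maximalIdeal (Ideal.isMaximal_of_isPrime a.asIdeal)).trans
      (IsLocalRing.eq_maximalIdeal (Ideal.isMaximal_of_isPrime b.asIdeal)).symm)⟩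
  haveI : Surjective cs := ⟨fun x => ⟨IsLocalRing.closedPoint (IsLocalRing.ResidueField A), Subsingleton.elim _ _⟩⟩
  haveI : LocallyOfFiniteType F.hom := by
    rw [← Over.w u]; infer_instance
  haveI : LocallyOfFinitePresentation G.hom := LocallyOfFinitePresentation.iff_locallyOfFiniteType.2 inferInstance
  haveI : LocallyOfFinitePresentation F.hom := LocallyOfFinitePresentation.iff_locallyOfFiniteType.2 inferInstance
  obtain ⟨Q, q, hf, hs, hl, sq, hsep, hfl, hsm⟩ := Groth.Agent.GrpQ26.exists_quotient_thick cs u
  haveI := hf
  haveI := hs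
  haveI := hl
  haveI := hsep
  haveI : LocallyOfFinitePresentation Q.hom :=
    Groth.Agent.AlgSpLib.lfp_of_comp_fppf q.left Q.hom (by rw [Over.w q]; infer_instance)
  haveI : LocallyOfFiniteType Q.hom := inferInstance
  let ν : G ≅ G := ⟨(𝟙 G)⁻¹, (𝟙 G)⁻¹, by rw [GrpObj.comp_inv, Category.comp_id, _root_.inv_inv],
    by rw [GrpObj.comp_inv, Category.comp_id, _root_.inv_inv]⟩
  let w : G ⊗ F ≅ F ⊗ G :=
    { hom := lift (snd G F)⁻¹ (fst G F)⁻¹
      inv := lift (snd F G)⁻¹ (fst F G)⁻¹
      hom_inv_id := CartesianMonoidalCategory.hom_ext _ _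
        (by rw [Category.assoc, lift_fst, GrpObj.comp_inv, lift_snd, _root_.inv_inv, Category.id_comp])
        (by rw [Category.assoc, lift_snd, GrpObj.comp_inv, lift_fst, _root_.inv_inv, Category.id_comp])
      inv_hom_id := CartesianMonoidalCategory.hom_ext _ _
        (by rw [Category.assoc, lift_fst, GrpObj.comp_inv, lift_snd, _root_.inv_inv, Category.id_comp])
        (by rw [Category.assoc, lift_snd, GrpObj.comp_inv, lift_fst, _root_.inv_inv, Category.id_comp]) }
  haveI : IsIso ν.hom.left := ((Over.forget (Spec (CommRingCat.of A))).mapIso ν).isIso_hom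
  have hμ : ∀ (W : Over (Spec (CommRingCat.of A))) (r : W ⟶ G ⊗ F),
      r ≫ (G ◁ u) ≫ μ[G] = (r ≫ fst G F) * (r ≫ snd G F ≫ u) := fun W r => by
    rw [← MonObj.comp_mul]
    rfl
  have hμ' : ∀ (W : Over (Spec (CommRingCat.of A))) (r : W ⟶ F ⊗ G),
      r ≫ (u ▷ G) ≫ μ[G] = (r ≫ fst F G ≫ u) * (r ≫ snd F G) := fun W r => by
    rw [← MonObj.comp_mul]
    rfl
  refine ⟨Q, ν.hom ≫ q, hsep, inferInstance, by rw [Over.comp_left]; infer_instance,
    by rw [Over.comp_left]; infer_instance,
    by rw [Over.comp_left]; infer_instance, ?_, hfl, fun hqc => ?_, hsm, fun x => ?_⟩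
  · refine sq.of_iso w ν ν (Iso.refl Q) ?_ ?_ ?_ ?_
    · rw [hμ']
      show ((G ◁ u) ≫ μ[G]) ≫ (𝟙 G)⁻¹ = _
      rw [GrpObj.comp_inv, Category.comp_id, ← Category.id_comp ((G ◁ u) ≫ μ[G]), hμ]
      simp only [w, lift_fst_assoc, lift_snd, Category.id_comp, GrpObj.inv_comp, _root_.mul_inv_rev]
    · show fst G F ≫ (𝟙 G)⁻¹ = w.hom ≫ snd F G
      rw [GrpObj.comp_inv, Category.comp_id]
      exact (lift_snd _ _).symm
    · rw [Iso.refl_hom, Category.comp_id]
      exact (ν.inv_hom_id_assoc q).symm
    · rw [Iso.refl_hom, Category.comp_id]
      exact (ν.inv_hom_id_assoc q).symm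
  · haveI : QuasiCompact (q.left ≫ Q.hom) := by rw [Over.w q]; exact hqc
    exact Groth.Agent.FlatMorThick.quasiCompact_of_comp_surjective (g := q.left) (h := Q.hom)
  · let F' := Over.pullback cs
    haveI : IsClosedImmersion (F'.map u).left :=
      MorphismProperty.of_isPullback (Groth.Agent.SGA3UnitSec.isPullback_map_left cs u) ‹_›
    have hq := Groth.Agent.SGA3UnitSec.isPullback_map_left cs q
    haveI : Surjective (F'.map q).left := MorphismProperty.of_isPullback hq hs
    haveI : Flat (F'.map q).left := MorphismProperty.of_isPullback hq hf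
    haveI : LocallyOfFinitePresentation (F'.map q).left := MorphismProperty.of_isPullback hq hl
    haveI : LocallyOfFiniteType (Red.bc cs G).hom := inferInstanceAs (LocallyOfFiniteType (pullback.snd G.hom cs))
    haveI : LocallyOfFiniteType (Red.bc cs F).hom := inferInstanceAs (LocallyOfFiniteType (pullback.snd F.hom cs))
    haveI : LocallyOfFiniteType (Red.bc cs Q).hom := inferInstanceAs (LocallyOfFiniteType (pullback.snd Q.hom cs))
    haveI : IsSeparated (Red.bc cs Q).hom := inferInstanceAs (IsSeparated (pullback.snd Q.hom cs))
    haveI : QuasiSeparatedSpace (Red.bc cs Q).left :=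
      quasiSeparatedSpace_of_quasiSeparated (Red.bc cs Q).hom
    have sqk := (Groth.Agent.GrpLim26.isPullback_act_iff cs u (F'.map q)).2 (sq.map F')
    haveI : ∀ (Z : Over (Spec (CommRingCat.of A))), IsClosedImmersion (pullback.fst Z.hom cs) := fun Z =>
      MorphismProperty.pullback_fst (P := @IsClosedImmersion) _ _ inferInstance
    haveI : ∀ (Z : Over (Spec (CommRingCat.of A))), Surjective (pullback.fst Z.hom cs) := fun Z =>
      MorphismProperty.pullback_fst (P := @Surjective) _ _ inferInstance
    let e := fun (Z : Over (Spec (CommRingCat.of A))) =>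
      (pullback.fst Z.hom cs).isEmbedding.toHomeomorphOfSurjective (pullback.fst Z.hom cs).surjective
    obtain ⟨x', rfl⟩ := (e Q).surjective x
    obtain ⟨h1, h2, h3⟩ := Groth.Agent.GrpQ26.connectedComponent_quotient (F'.map u) (F'.map q) sqk x'
    have himg : (e Q) '' connectedComponent x' = connectedComponent (e Q x') := by
      have := (e Q).image_connectedComponentIn (s := Set.univ) (x := x') (Set.mem_univ _)
      simpa [connectedComponentIn_univ, (e Q).surjective.range_eq] using this
    rw [← himg]
    refine ⟨h1.image _ (e Q).continuous.continuousOn, h2.image (e Q).continuous, ?_⟩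
    rw [← ((e Q).isEmbedding.homeomorphImage _).isHomeomorph.topologicalKrullDim_eq,
      ← (e F).isHomeomorph.topologicalKrullDim_eq, ← (e G).isHomeomorph.topologicalKrullDim_eq]
    exact h3

end Groth.Agent.S5351
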