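import Groth.Statements.S16375
import Groth.Agent.FMK16.Swap
-- import your own Groth.Agent.* helpers here

set_option autoImplicit false
universe u
open CategoryTheory CategoryTheory.Limits AlgebraicGeometry
attribute [local instance] HasDerivedCategory.standard
open FMK

namespace Groth.Agent.S16375

/-- Let k be an algebraically closed field, X and Y schemes over k with structure morphisms a and b, and
P a cochain complex of modules on the fibre product X ×_k Y (no condition on P, X or Y). Write Φ_P =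
Rpr_{Y,*}(Lpr_X^*(−) ⊗^L P) : D(O_X) → D(O_Y) and Ψ_P = Rpr_{X,*}(Lpr_Y^*(−) ⊗^L P) : D(O_Y) →
D(O_X), the derived functors involved being assumed to exist. Let E be a cochain complex of
O_X-modules and F a cochain complex of O_Y-modules whose images in the derived categories are
perfect. Then RΓ(X, Ψ_P(F) ⊗^L E) and RΓ(Y, Φ_P(E) ⊗^L F) are isomorphic objects of D(Ab) (existence
of an isomorphism only; the published statement records the resulting isomorphisms H^i(X, E ⊗ Ψ_P F)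
≅ H^i(Y, Φ_P E ⊗ F) of hypercohomology groups for every i). -/
theorem result (k : Type u) [Field k] [IsAlgClosed k]
    (X Y : Scheme.{u}) (a : X ⟶ Spec (CommRingCat.of k)) (b : Y ⟶ Spec (CommRingCat.of k))
    (P : CochainComplex (pullback a b).Modules ℤ)
    [DCoh.HasLpull (pullback.fst a b)] [DCoh.HasLpull (pullback.snd a b)] [DCoh.HasLTensorCx P]
    [DCoh.HasRpush (pullback.fst a b)] [DCoh.HasRpush (pullback.snd a b)]
    [DCoh.HasRΓ X] [DCoh.HasRΓ Y]
    (E : CochainComplex X.Modules ℤ) (hE : DCoh.IsPerfect (DCoh.toD X E)) [DCoh.HasLTensorCx E]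
    (F : CochainComplex Y.Modules ℤ) (hF : DCoh.IsPerfect (DCoh.toD Y F)) [DCoh.HasLTensorCx F] :
    Nonempty ((DCoh.RΓ X).obj ((DCoh.LTensorCx E).obj
        ((DCoh.Lpull (pullback.snd a b) ⋙ DCoh.LTensorCx P ⋙ DCoh.Rpush (pullback.fst a b)).obj (DCoh.toD Y F))) ≅
      (DCoh.RΓ Y).obj ((DCoh.LTensorCx F).obj ((FMK.phi a b P).obj (DCoh.toD X E)))) := by
  have hp : Flat (pullback.fst a b) := inferInstance
  have hq : Flat (pullback.snd a b) := inferInstance
  haveI : DCoh.HasRΓ (pullback a b) :=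
    Groth.Agent.DCat.hasRightDerivedFunctor_of_enoughKInj (Groth.Agent.DCat.modules_enoughKInj _) _
  obtain ⟨Ek, hEk, ⟨eE⟩⟩ := Groth.Agent.DCat.PullPerf.exists_kflat_rep (DCoh.toD X E)
  obtain ⟨Fk, hFk, ⟨eF⟩⟩ := Groth.Agent.DCat.PullPerf.exists_kflat_rep (DCoh.toD Y F)
  obtain ⟨Pk, hPk, ⟨eP⟩⟩ := Groth.Agent.DCat.PullPerf.exists_kflat_rep (DCoh.toD _ P)
  obtain ⟨l⟩ := Groth.Agent.FMK16.nonempty_RGamma_proj (pullback.fst a b) _ P Pk
    (Groth.Agent.DCat.PullTot.isKFlatFor_pullback (pullback.snd a b) hFk) hPk eP E Ek hEk eE hE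
  obtain ⟨r⟩ := Groth.Agent.FMK16.nonempty_RGamma_proj (pullback.snd a b) _ P Pk
    (Groth.Agent.DCat.PullTot.isKFlatFor_pullback (pullback.fst a b) hEk) hPk eP F Fk hFk eF hF
  obtain ⟨w⟩ := Groth.Agent.FMK16.nonempty_swap
    (((Scheme.Modules.pullback (pullback.snd a b)).mapHomologicalComplex (ComplexShape.up ℤ)).obj Fk) Pk
    (((Scheme.Modules.pullback (pullback.fst a b)).mapHomologicalComplex (ComplexShape.up ℤ)).obj Ek)
  let jF := (DCoh.LTensorCx P).mapIso ((DCoh.Lpull (pullback.snd a b)).mapIso eF.symm ≪≫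
    Groth.Agent.DCat.PullPerf.lpullIso (pullback.snd a b) hFk)
  let jE := (DCoh.LTensorCx P).mapIso ((DCoh.Lpull (pullback.fst a b)).mapIso eE.symm ≪≫
    Groth.Agent.DCat.PullPerf.lpullIso (pullback.fst a b) hEk)
  exact ⟨(DCoh.RΓ X).mapIso ((DCoh.LTensorCx E).mapIso ((DCoh.Rpush (pullback.fst a b)).mapIso jF)) ≪≫ l ≪≫
    (DCoh.RΓ (pullback a b)).mapIso (DerivedCategory.Q.mapIso w) ≪≫ r.symm ≪≫
    ((DCoh.RΓ Y).mapIso ((DCoh.LTensorCx F).mapIso ((DCoh.Rpush (pullback.snd a b)).mapIso jE))).symm⟩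

end Groth.Agent.S16375
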