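import Groth.Statements.S16377
import Groth.Agent.S16375
import Groth.Agent.FMK16.Hyper
import Groth.Agent.GVan16.SchemeSupp
import Groth.Agent.Dual22Lib.PerfLift
import Groth.Agent.ModStalk.Tensor

set_option autoImplicit false
universe u
open CategoryTheory CategoryTheory.Limits AlgebraicGeometry
attribute [local instance] HasDerivedCategory.standard
open FMK

namespace Groth.Agent.S16377

open scoped TensorProduct in
open Groth.Agent.ModStalk in
/-- The support of a tensor product lies in the support of the right factor. -/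
theorem support_tensorMod {X : Scheme.{u}} (E F : X.Modules) :
    CohB1.support (CohB1.tensorMod E F) ⊆ CohB1.support F := fun x hx => by
  by_contra h
  haveI : Subsingleton ((DerSch.stalkFunctor X x).obj F) := not_not.1 h
  refine hx ?_
  haveI : Subsingleton (((DerSch.stalkFunctor X x).obj E) ⊗[X.presheaf.stalk x] ((DerSch.stalkFunctor X x).obj F)) :=
    subsingleton_of_forall_eq 0 fun w => by
      induction w using TensorProduct.induction_on with
      | zero => rfl
      | tmul a b => rw [Subsingleton.elim b 0, TensorProduct.tmul_zero]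
      | add a b ha hb => rw [ha, hb, add_zero]
  exact (stalkTensorIso x E F).toLinearEquiv.toEquiv.subsingleton

/-- Let k be an algebraically closed field, X a scheme over k and Y a quasi-compact scheme locally of
finite type over k (structure morphisms a and b) of dimension at most g, and P a cochain complex of
modules on X ×_k Y. Write Φ_P = Rpr_{Y,*}(Lpr_X^*(−) ⊗^L P) : D(O_X) → D(O_Y), Ψ_P =
Rpr_{X,*}(Lpr_Y^*(−) ⊗^L P) : D(O_Y) → D(O_X) and R^iΦ_P(F) = H^i(Φ_P(F)), the derived functors
involved being assumed to exist. Let k' ≥ 0 and let F be a cochain complex of O_X-modules defining a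
perfect object which is a GV_{k'}-object with respect to P: R^iΦ_P(F) = 0 for i < 0, and for i ≥ 0
the support of R^iΦ_P(F) has codimension at least i − k' in Y (the local ring of Y at each point of
the support has Krull dimension ≥ i − k'). Let N be a finite locally free O_Y-module. Then H^i(X,
Ψ_P(N) ⊗^L F) = 0 for every i < 0 and every i > g + k'. (The published statement carries an extra
shift N[h] by an integer h and asserts vanishing of H^i(X, F ⊗ Ψ_P(N[h])) for i outside [0, dim Y −
h + k']; since that group is H^{i+h}(X, F ⊗ Ψ_P N), the correct range is i outside [−h, dim Y + k' −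
h], which for h = 0 is the statement here, and for h > 0 the published range is wrong: X = Y = Spec
k, P = k, F = N = k, k' = 0, h = 1 gives H^{−1}(F ⊗ N[1]) = k ≠ 0.) -/
theorem result (k : Type u) [Field k] [IsAlgClosed k]
    (X Y : Scheme.{u}) (a : X ⟶ Spec (CommRingCat.of k)) (b : Y ⟶ Spec (CommRingCat.of k))
    [LocallyOfFiniteType b] [QuasiCompact b] (g : ℕ) (hg : topologicalKrullDim ↥Y ≤ (g : WithBot ℕ∞))
    (P : CochainComplex (pullback a b).Modules ℤ)
    [DCoh.HasLpull (pullback.fst a b)] [DCoh.HasLpull (pullback.snd a b)] [DCoh.HasLTensorCx P]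
    [DCoh.HasRpush (pullback.fst a b)] [DCoh.HasRpush (pullback.snd a b)] [DCoh.HasRΓ X]
    (k' : ℕ) (F : CochainComplex X.Modules ℤ) (hF : DCoh.IsPerfect (DCoh.toD X F)) [DCoh.HasLTensorCx F]
    (hneg : ∀ i : ℤ, i < 0 → IsZero (DCoh.HD ((FMK.phi a b P).obj (DCoh.toD X F)) i))
    (hcodim : ∀ (i : ℕ) (y : ↥Y), y ∈ CohB1.support (DCoh.HD ((FMK.phi a b P).obj (DCoh.toD X F)) (i : ℤ)) →
      ((i - k' : ℕ) : WithBot ℕ∞) ≤ ringKrullDim ↑(Y.presheaf.stalk y))
    (N : Y.Modules) (hN : FlatMod.IsFinLocFree N) (i : ℤ) (hi : i < 0 ∨ (g : ℤ) + k' < i) :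
    IsZero ((DerivedCategory.homologyFunctor AddCommGrpCat.{u} i).obj ((DCoh.RΓ X).obj
      ((DCoh.LTensorCx F).obj ((DCoh.Lpull (pullback.snd a b) ⋙ DCoh.LTensorCx P ⋙ DCoh.Rpush (pullback.fst a b)).obj (DCoh.inD Y N))))) := by
  haveI : IsLocallyNoetherian Y := LocallyOfFiniteType.isLocallyNoetherian b
  haveI : CompactSpace Y := QuasiCompact.compactSpace_of_compactSpace b
  haveI : IsNoetherian Y := {}
  haveI : DCoh.HasRΓ Y :=
    Groth.Agent.DCat.hasRightDerivedFunctor_of_enoughKInj (Groth.Agent.DCat.modules_enoughKInj _) _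
  let Nc := (HomologicalComplex.single Y.Modules (ComplexShape.up ℤ) 0).obj N
  haveI : DCoh.HasLTensorCx Nc := Groth.Agent.DCat.LTensorSheaf.hasLTensorCx Nc
  let eS : DCoh.inD Y N ≅ DCoh.toD Y Nc := (DerivedCategory.singleFunctorIsoCompQ Y.Modules 0).app N
  have hNp : DCoh.IsPerfect (DCoh.toD Y Nc) :=
    Groth.Agent.DCat.PCTriangle.perfect_iso eS (Groth.Agent.Dual22Lib.PerfLift.isPerfect_single hN)
  obtain ⟨e⟩ := Groth.Agent.S16375.result k X Y a b P F hF Nc hNp
  let G := (FMK.phi a b P).obj (DCoh.toD X F)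
  let T := (DCoh.LTensorCx Nc).obj G
  refine IsZero.of_iso ?_ ((DerivedCategory.homologyFunctor AddCommGrpCat.{u} i).mapIso ((DCoh.RΓ X).mapIso
    ((DCoh.LTensorCx F).mapIso ((DCoh.Lpull (pullback.snd a b) ⋙ DCoh.LTensorCx P ⋙
      DCoh.Rpush (pullback.fst a b)).mapIso eS)) ≪≫ e))
  rw [Groth.Agent.FMK16.isZero_homology_RΓ_iff]
  have hstalk : ∀ y : Y, ringKrullDim ↑(Y.presheaf.stalk y) ≤ (g : WithBot ℕ∞) := fun y => by
    rw [ringKrullDim_stalk_eq_coheight]
    refine le_trans (Order.coheight_le_krullDim y) (le_trans ?_ hg)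
    exact iSup_le fun p => Groth.Agent.GVan16.le_dim_of_chain p.length p fun i j hij =>
      ⟨(p.strictMono hij).le, fun e => absurd (p.strictMono hij) (e ▸ lt_irrefl _)⟩
  have hzero : ∀ q : ℤ, q < 0 ∨ (g : ℤ) + k' < q → IsZero (DCoh.HD G q) := by
    rintro q (hq | hq)
    · exact hneg q hq
    · obtain ⟨m, rfl⟩ := Int.eq_ofNat_of_zero_le (show 0 ≤ q by omega)
      refine Groth.Agent.ModStalk.isZero_of_stalks fun y => ?_
      by_contra hne
      have hy : y ∈ CohB1.support (DCoh.HD G (m : ℤ)) := fun hs =>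
        hne (Groth.Agent.DCat.SuppOpen.isZero_stalkFunctor _ y (h := hs))
      have h1 := (hcodim m y hy).trans (hstalk y)
      have h2 : m - k' ≤ g := by exact_mod_cast h1
      omega
  have hT : ∀ q : ℤ, Nonempty (DCoh.HD T q ≅ CohB1.tensorMod N (DCoh.HD G q)) := fun q => by
    obtain ⟨e⟩ := Groth.Agent.FMK16.nonempty_HD_tens G hN q
    exact ⟨e ≪≫ (Groth.Agent.Coherent.CohBC.tensorRightBiIso N).app _⟩
  have hTz : ∀ q : ℤ, q < 0 ∨ (g : ℤ) + k' < q → IsZero (DCoh.HD T q) := fun q hq => by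
    obtain ⟨e⟩ := hT q
    exact (((DCoh.tensorBi (X := Y)).obj N).map_isZero (hzero q hq)).of_iso e
  haveI : T.IsGE 0 := (DerivedCategory.isGE_iff T 0).2 fun q hq => hTz q (Or.inl hq)
  haveI : T.IsLE ((g : ℤ) + k') := (DerivedCategory.isLE_iff T _).2 fun q hq => hTz q (Or.inr hq)
  refine Groth.Agent.FMK16.van_of_HD (g + k' + 1) T 0 i ‹_›
    (DerivedCategory.TStructure.t.isLE_of_le T ((g : ℤ) + k') _ (by push_cast; omega)) fun q hq => ?_
  by_cases hr : q < 0 ∨ (g : ℤ) + k' < q
  · exact Groth.Agent.FMK16.subsingleton_HH_of_isZero (hTz q hr) _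
  push Not at hr
  obtain ⟨m, rfl⟩ := Int.eq_ofNat_of_zero_le hr.1
  obtain ⟨e⟩ := hT (m : ℤ)
  haveI : Subsingleton (Coh.HH Y (CohB1.tensorMod N (DCoh.HD G (m : ℤ))) (i - (m : ℤ)).toNat) :=
    Groth.Agent.GVan16.subsingleton_HH_of_support _ (g - (m - k')) (fun y hy =>
      Groth.Agent.GVan16.dim_closure_le g hg y (m - k') (hcodim m y (support_tensorMod _ _ hy))) _ (by omega)
  exact Groth.Agent.FMK16.subsingleton_HH_of_iso e _

end Groth.Agent.S16377
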