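import Groth.Statements.S13355
import Groth.Agent.GaLib.Coeff
import Mathlib.RingTheory.PowerSeries.Exp
import Mathlib.Tactic

set_option autoImplicit false
universe u
open GaDual

namespace Groth.Agent.S13355

/-- Over a commutative algebra A over the rationals, the formal characters (power series with constant
term 1 satisfying χ(X+Y) = χ(X)χ(Y) in two variables) are exactly the power series exp(aX) for a in
A. -/
theorem result (A : Type u) [CommRing A] [Algebra ℚ A] (χ : PowerSeries A) :
    (PowerSeries.constantCoeff χ = 1 ∧
      PowerSeries.subst (MvPowerSeries.X 0 + MvPowerSeries.X 1 : MvPowerSeries (Fin 2) A) χ =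
        PowerSeries.subst (MvPowerSeries.X 0 : MvPowerSeries (Fin 2) A) χ *
          PowerSeries.subst (MvPowerSeries.X 1 : MvPowerSeries (Fin 2) A) χ) ↔
      ∃ a : A, χ = PowerSeries.rescale a (PowerSeries.exp A) := by
  open Groth.Agent.GaLib in
  constructor
  · rintro ⟨h0, h⟩
    refine ⟨PowerSeries.coeff 1 χ, ?_⟩
    have key : ∀ i j, ((i + j).choose i : A) * PowerSeries.coeff (i + j) χ = PowerSeries.coeff i χ * PowerSeries.coeff j χ :=
      fun i j => by rw [← coeff_subst_add, h, coeff_subst_mul_subst]
    have hfac : ∀ m, (m.factorial : A) * PowerSeries.coeff m χ = PowerSeries.coeff 1 χ ^ m := by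
      intro m
      induction m with
      | zero => simpa using h0
      | succ m ih =>
        have := key 1 m
        rw [Nat.choose_one_right, add_comm 1 m] at this
        rw [Nat.factorial_succ, Nat.cast_mul, pow_succ', ← ih]
        linear_combination (m.factorial : A) * this
    ext m
    rw [PowerSeries.coeff_rescale, PowerSeries.coeff_exp, ← hfac m, mul_right_comm, ← map_natCast (algebraMap ℚ A), ← map_mul,
      mul_one_div_cancel (Nat.cast_ne_zero.2 m.factorial_ne_zero), map_one, one_mul]
  · rintro ⟨a, rfl⟩
    refine ⟨by rw [← PowerSeries.coeff_zero_eq_constantCoeff_apply, PowerSeries.coeff_rescale, PowerSeries.coeff_exp]; simp, mvPowerSeries_ext_pr fun i j => ?_⟩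
    rw [coeff_subst_add, coeff_subst_mul_subst]
    simp only [PowerSeries.coeff_rescale, PowerSeries.coeff_exp]
    have : (((i + j).choose i : ℕ) : ℚ) * (1 / ((i + j).factorial : ℚ)) = (1 / (i.factorial : ℚ)) * (1 / (j.factorial : ℚ)) := by
      rw [← Nat.add_choose_mul_factorial_mul_factorial i j, Nat.choose_symm_add]
      have : (((i + j).choose j : ℕ) : ℚ) ≠ 0 := Nat.cast_ne_zero.2 (Nat.choose_pos (Nat.le_add_left j i)).ne'
      have := (Nat.cast_ne_zero (R := ℚ)).2 i.factorial_ne_zero
      have := (Nat.cast_ne_zero (R := ℚ)).2 j.factorial_ne_zero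
      push_cast
      field_simp
    have := congrArg (algebraMap ℚ A) this
    rw [map_mul, map_mul, map_natCast] at this
    linear_combination a ^ (i + j) * this

end Groth.Agent.S13355
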