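import Groth.Statements.S13356
import Groth.Agent.S13355
import Mathlib.Tactic

set_option autoImplicit false
universe u
open GaDual

namespace Groth.Agent.S13356

/-- Over a commutative algebra A over the rationals, the polynomials f with f(0) = 1 and f(X+Y) =
f(X)f(Y) (the characters of the additive group into the multiplicative group over A) are exactly the
polynomials exp(aX) with a in A nilpotent. -/
theorem result (A : Type u) [CommRing A] [Algebra ℚ A] (f : Polynomial A) :
    (f.eval 0 = 1 ∧
      Polynomial.aeval (MvPolynomial.X 0 + MvPolynomial.X 1 : MvPolynomial (Fin 2) A) f =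
        Polynomial.aeval (MvPolynomial.X 0 : MvPolynomial (Fin 2) A) f *
          Polynomial.aeval (MvPolynomial.X 1 : MvPolynomial (Fin 2) A) f) ↔
      ∃ a : A, IsNilpotent a ∧ (f : PowerSeries A) = PowerSeries.rescale a (PowerSeries.exp A) := by
  open Groth.Agent.GaLib in
  constructor
  · rintro ⟨h0, h⟩
    have hs : ∀ i j, ((i + j).choose i : A) * f.coeff (i + j) = f.coeff i * f.coeff j := fun i j => by
      rw [← coeff_aeval_add, h, coeff_aeval_mul_aeval]
    obtain ⟨a, ha⟩ := (Groth.Agent.S13355.result A (f : PowerSeries A)).1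
      ⟨by rw [← PowerSeries.coeff_zero_eq_constantCoeff_apply, Polynomial.coeff_coe, Polynomial.coeff_zero_eq_eval_zero, h0],
       mvPowerSeries_ext_pr fun i j => by rw [coeff_subst_add, coeff_subst_mul_subst]; simpa using hs i j⟩
    refine ⟨a, ⟨f.natDegree + 1, ?_⟩, ha⟩
    have := congrArg (PowerSeries.coeff (f.natDegree + 1)) ha
    rw [Polynomial.coeff_coe, Polynomial.coeff_eq_zero_of_natDegree_lt (Nat.lt_succ_self _), PowerSeries.coeff_rescale,
      PowerSeries.coeff_exp] at this
    exact ((((Nat.cast_ne_zero (R := ℚ)).2 (Nat.factorial_ne_zero _)).isUnit.inv).map (algebraMap ℚ A)).mul_left_eq_zero.1 (by simpa [one_div] using this.symm)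
  · rintro ⟨a, -, ha⟩
    obtain ⟨h0, h⟩ := (Groth.Agent.S13355.result A (f : PowerSeries A)).2 ⟨a, ha⟩
    refine ⟨by rw [← Polynomial.coeff_zero_eq_eval_zero, ← Polynomial.coeff_coe, PowerSeries.coeff_zero_eq_constantCoeff_apply, h0], mvPolynomial_ext_pr fun i j => ?_⟩
    have := congrArg (MvPowerSeries.coeff (pr i j)) h
    rw [coeff_subst_add, coeff_subst_mul_subst] at this
    rw [coeff_aeval_add, coeff_aeval_mul_aeval]
    simpa using this

end Groth.Agent.S13356
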