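import Groth.Statements.S13357
import Groth.Agent.GaLib.Chars

set_option autoImplicit false
universe u
open GaDual

namespace Groth.Agent.S13357

/-- Over a commutative algebra A of prime characteristic p, the polynomials f with f(0) = 1 and f(X+Y) =
f(X)f(Y) (the characters of the additive group into the multiplicative group over A) are exactly the
finite products of truncated exponentials exp_p(a_n X^(p^n)) = Σ_{j<p} a_n^j X^(j p^n)/j! with a_n^p
= 0. -/
theorem result (p : ℕ) [Fact p.Prime] (A : Type u) [CommRing A] [CharP A p]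
    (f : Polynomial A) :
    (f.eval 0 = 1 ∧
      Polynomial.aeval (MvPolynomial.X 0 + MvPolynomial.X 1 : MvPolynomial (Fin 2) A) f =
        Polynomial.aeval (MvPolynomial.X 0 : MvPolynomial (Fin 2) A) f *
          Polynomial.aeval (MvPolynomial.X 1 : MvPolynomial (Fin 2) A) f) ↔
      ∃ (N : ℕ) (a : ℕ → A), (∀ n, a n ^ p = 0) ∧
        f = ∏ n ∈ Finset.range N, ∑ j ∈ Finset.range p,
          Polynomial.C (Ring.inverse (j.factorial : A) * a n ^ j) * Polynomial.X ^ (j * p ^ n) := by
  open Groth.Agent.GaLib in
  constructor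
  · rintro ⟨h0, hmul⟩
    let N := f.natDegree
    have hN : f.natDegree < p ^ N := Nat.lt_pow_self (Fact.out : p.Prime).one_lt
    have hc : CharBelow (p ^ N) f.coeff :=
      ⟨by rw [Polynomial.coeff_zero_eq_eval_zero]; exact h0, fun i j _ _ => (aeval_add_eq_mul_iff f).1 hmul i j⟩
    obtain ⟨h1, h2⟩ := hc.exists_prod p
    refine ⟨N, fun k => if k < N then f.coeff (p ^ k) else 0, fun k => ?_, ?_⟩
    · dsimp only
      split_ifs with h
      · exact h1 k h
      · exact zero_pow (Fact.out : p.Prime).ne_zero
    · show f = charProd p (fun k => if k < N then f.coeff (p ^ k) else 0) N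
      have e : charProd p (fun k => if k < N then f.coeff (p ^ k) else 0) N = charProd p (fun k => f.coeff (p ^ k)) N :=
        Finset.prod_congr rfl fun k hk => by simp [Finset.mem_range.1 hk]
      rw [e]
      ext i
      by_cases hi : i < p ^ N
      · exact (h2 i hi).symm
      · rw [coeff_charProd_eq_zero p _ N (not_lt.1 hi), Polynomial.coeff_eq_zero_of_natDegree_lt (lt_of_lt_of_le hN (not_lt.1 hi))]
  · rintro ⟨N, a, ha, rfl⟩
    exact charProd_isChar p a ha N

end Groth.Agent.S13357
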