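import Groth.Statements.S0109
import Groth.Agent.Desc19b.EtQCoh.Ga
import Groth.Agent.QCohLoc.Unit

set_option autoImplicit false
open CategoryTheory CategoryTheory.Limits AlgebraicGeometry Opposite
universe u
open EtBase

set_option backward.isDefEq.respectTransparency.types false
set_option backward.isDefEq.respectTransparency false

namespace Groth.Agent.S0109


/-- On an affine scheme S, the étale cohomology H^p(S_ét, G_a) of the additive group sheaf (the
structure sheaf) vanishes for every p ≥ 1. -/
theorem result (S : Scheme.{u}) [IsAffine S] (p : ℕ) (hp : 1 ≤ p) : Subsingleton (EtCoh.H S (EtCoh.Ga S) p) := by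
  haveI := QCohLoc.isQCoh_structureModule S
  obtain ⟨n, rfl⟩ : ∃ n, p = n + 1 := ⟨p - 1, by omega⟩
  exact Desc19b.EtQCoh.subsingleton_H (Coh.structureModule S) (Desc19b.EtQCoh.isAssoc_Ga S) n

end Groth.Agent.S0109
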