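import Groth.Statements.S13380
import Groth.Agent.GaLib.Splitting

set_option autoImplicit false
universe u
open GaDual

namespace Groth.Agent.S13380

/-- Over a commutative ring R of prime characteristic p whose Frobenius is surjective, every commutative
extension of the additive group by the multiplicative group that has a scheme-theoretic section
splits. In the coordinates given by such a section the extension is the product G_m × G_a with law
(t,x)(t',x') = (tt'h(x,x'), x+x') for an invertible polynomial h with h(X,0) = 1, h symmetric and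
h(Y,Z)h(X,Y+Z) = h(X+Y,Z)h(X,Y), and a group-theoretic section is an invertible polynomial f with
f(X+Y) = f(X)f(Y)h(X,Y); the row states the existence of such f for every such h. -/
theorem result (p : ℕ) [Fact p.Prime] (R : Type u)
    [CommRing R] [CharP R p] (hF : Function.Surjective (frobenius R p))
    (h : MvPolynomial (Fin 2) R) (hu : IsUnit h)
    (h0 : MvPolynomial.aeval ![(MvPolynomial.X 0 : MvPolynomial (Fin 2) R), 0] h = 1)
    (hsymm : MvPolynomial.aeval ![(MvPolynomial.X 1 : MvPolynomial (Fin 2) R), MvPolynomial.X 0] h = h)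
    (hcoc : MvPolynomial.aeval ![(MvPolynomial.X 1 : MvPolynomial (Fin 3) R), MvPolynomial.X 2] h *
        MvPolynomial.aeval ![MvPolynomial.X 0, MvPolynomial.X 1 + MvPolynomial.X 2] h =
      MvPolynomial.aeval ![MvPolynomial.X 0 + MvPolynomial.X 1, MvPolynomial.X 2] h *
        MvPolynomial.aeval ![MvPolynomial.X 0, MvPolynomial.X 1] h) :
    ∃ f : Polynomial R, IsUnit f ∧
      Polynomial.aeval (MvPolynomial.X 0 + MvPolynomial.X 1 : MvPolynomial (Fin 2) R) f =
        Polynomial.aeval (MvPolynomial.X 0 : MvPolynomial (Fin 2) R) f *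
          Polynomial.aeval (MvPolynomial.X 1 : MvPolynomial (Fin 2) R) f * h := by
  open Groth.Agent.GaLib in
  classical
  have hnil := (MvPolynomial.isUnit_iff.1 hu).2
  have hc0 : h.coeff 0 = 1 := by
    have := congrArg MvPolynomial.constantCoeff h0
    rw [map_one] at this
    rw [← this]
    clear hnil hu h0 hsymm hcoc this
    induction h using MvPolynomial.induction_on' with
    | add P Q hP hQ => simp only [map_add, MvPolynomial.coeff_add, hP, hQ]
    | monomial d r =>
      obtain ⟨i, j, rfl⟩ : ∃ i j, d = pr i j := ⟨_, _, (pr_eta d).symm⟩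
      rw [MvPolynomial.aeval_monomial, Finsupp.prod_fintype _ _ (fun k => pow_zero _), Fin.prod_univ_two, pr_zero, pr_one,
        MvPolynomial.coeff_monomial]
      have : pr i j = 0 ↔ i = 0 ∧ j = 0 := by
        rw [show (0 : Fin 2 →₀ ℕ) = pr 0 0 by simp [pr], pr_inj]
      rcases Nat.eq_zero_or_pos i with rfl | hi <;> rcases Nat.eq_zero_or_pos j with rfl | hj <;>
        simp_all [Nat.pos_iff_ne_zero]
  let I : Ideal R := Ideal.span ((h - 1).support.image (fun d => (h - 1).coeff d) : Finset R)
  have hI : I ≤ nilradical R := by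
    refine Ideal.span_le.2 fun x hx => ?_
    obtain ⟨d, hd, rfl⟩ := Finset.mem_image.1 hx
    rw [SetLike.mem_coe, mem_nilradical, MvPolynomial.coeff_sub, MvPolynomial.coeff_one]
    rcases eq_or_ne d 0 with rfl | hd0
    · simp [hc0]
    · rw [if_neg hd0.symm, sub_zero]; exact hnil d hd0
  obtain ⟨m, hm⟩ := (Ideal.FG.isNilpotent_iff_le_nilradical (⟨_, rfl⟩ : I.FG)).2 hI
  have hm' : I ^ 2 ^ m = ⊥ := by
    rw [← Ideal.zero_eq_bot]
    exact pow_eq_zero_of_le (Nat.lt_two_pow_self).le hm
  refine exists_splitting p hF m I hm' h ⟨hsymm, hcoc⟩ (MvPolynomial.mem_map_C_iff.2 fun d => ?_)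
  by_cases hd : d ∈ (h - 1).support
  · exact Ideal.subset_span (Finset.mem_image_of_mem (fun d => (h - 1).coeff d) hd)
  · rw [MvPolynomial.notMem_support_iff.1 hd]; exact zero_mem _

end Groth.Agent.S13380
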