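import Groth.Statements.S0535
import Mathlib.RingTheory.Nakayama
import Mathlib.RingTheory.OrzechProperty
import Mathlib.RingTheory.FiniteType
import Mathlib.RingTheory.TensorProduct.Quotient

set_option autoImplicit false
universe u
open Hensel

namespace Groth.Agent.S0535

/-- If `R` is Henselian at `I` and two finitely generated projective `R`-modules become isomorphic after
base change to `R/I`, then they are isomorphic. -/
theorem result (R : Type u) [CommRing R] (I : Ideal R)
    [HenselianRing R I] (P₁ P₂ : Type u) [AddCommGroup P₁] [Module R P₁] [AddCommGroup P₂]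
    [Module R P₂] [Module.Finite R P₁] [Module.Projective R P₁] [Module.Finite R P₂]
    [Module.Projective R P₂]
    (e : TensorProduct R (R ⧸ I) P₁ ≃ₗ[R ⧸ I] TensorProduct R (R ⧸ I) P₂) :
    Nonempty (P₁ ≃ₗ[R] P₂) := by
  have hjac : I ≤ Ideal.jacobson ⊥ := HenselianRing.jac
  -- a lift of a map between projective modules
  have key : ∀ (M N : Type u) [AddCommGroup M] [Module R M] [AddCommGroup N] [Module R N]
      [Module.Finite R N] [Module.Projective R M]
      (ε : TensorProduct R (R ⧸ I) M ≃ₗ[R ⧸ I] TensorProduct R (R ⧸ I) N),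
      ∃ f : M →ₗ[R] N, Function.Surjective f := by
    intro M N _ _ _ _ _ _ ε
    let q : N →ₗ[R] TensorProduct R (R ⧸ I) N := TensorProduct.mk R (R ⧸ I) N 1
    have hq : Function.Surjective q := TensorProduct.mk_surjective R N (R ⧸ I) Ideal.Quotient.mk_surjective
    let qM : M →ₗ[R] TensorProduct R (R ⧸ I) M := TensorProduct.mk R (R ⧸ I) M 1
    have hqM : Function.Surjective qM := TensorProduct.mk_surjective R M (R ⧸ I) Ideal.Quotient.mk_surjective
    obtain ⟨f, hf⟩ := Module.projective_lifting_property q
      ((ε.toLinearMap.restrictScalars R).comp qM) hq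
    refine ⟨f, LinearMap.range_eq_top.mp (top_le_iff.mp ?_)⟩
    refine Submodule.le_of_le_smul_of_le_jacobson_bot Module.Finite.fg_top hjac fun n _ => ?_
    obtain ⟨z, hz⟩ := ε.surjective (q n)
    obtain ⟨x, rfl⟩ := hqM z
    have h1 : q (n - f x) = 0 := by
      rw [map_sub, sub_eq_zero, ← hz]; exact (congr($hf x)).symm
    refine Submodule.mem_sup.mpr ⟨f x, ⟨x, rfl⟩, n - f x, ?_, by abel⟩
    have h2 := congrArg (TensorProduct.quotTensorEquivQuotSMul N I) h1
    rw [map_zero] at h2
    exact (Submodule.Quotient.mk_eq_zero _).mp (by simpa [q] using h2)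
  obtain ⟨f, hf⟩ := key P₁ P₂ e
  obtain ⟨g, hg⟩ := key P₂ P₁ e.symm
  have hgf : Function.Injective (g ∘ₗ f) :=
    OrzechProperty.injective_of_surjective_endomorphism _ (by rw [LinearMap.coe_comp]; exact hg.comp hf)
  exact ⟨LinearEquiv.ofBijective f ⟨Function.Injective.of_comp (f := g) (by simpa using hgf), hf⟩⟩

end Groth.Agent.S0535
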