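import Groth.Statements.S4130
import Groth.Agent.HopfQuot.CommMultPart
import Groth.Agent.SGA3bLib.DiagQuot
import Groth.Agent.IsoTriv.ExtensionMT

set_option autoImplicit false
universe u
open TensorProduct
open SGA3

namespace Groth.Agent.S4130

open HopfRep Groth.Agent.HopfLib Groth.Agent.HopfQuot Groth.Agent.HopfQuot.CommMultPart Groth.Agent.SGA3bLib

/-- Let A be a finitely generated commutative and cocommutative Hopf algebra over a field k (a
commutative affine algebraic group G = Spec A). Then G has a largest subgroup M of multiplicative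
type and G/M is unipotent: there is a Hopf ideal J of A (defining M) such that A/J is of
multiplicative type (diagonalizable after a faithfully flat extension of k), J is contained in every
Hopf ideal I with A/I of multiplicative type, and J is the ideal generated by the augmentation ideal
of the image of an injective bialgebra map φ : B → A from a Hopf algebra B (so Spec B = G/M) which
is unipotent in the fixed-vector sense. -/
theorem result (k : Type u) [Field k]
    (A : Type u) [CommRing A] [HopfAlgebra k A] [Algebra.FiniteType k A] [Coalgebra.IsCocomm k A] :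
    ∃ (J : Ideal A) (_ : J.IsHopfIdeal k), SGA3b.IsMultTypeConst k (A ⧸ J) ∧
      (∀ (I : Ideal A) [I.IsHopfIdeal k], SGA3b.IsMultTypeConst k (A ⧸ I) → J ≤ I) ∧
      ∃ (B : Type u) (_ : CommRing B) (_ : HopfAlgebra k B) (φ : B →ₐc[k] A), Function.Injective φ ∧
        J = Ideal.map (φ : B →+* A) (RingHom.ker (Bialgebra.counitAlgHom k B)) ∧ HopfRep.IsUnipotent k B := by
  classical
  have hB : SGA3.IsHopfSubalgebra k A (unipAlg k A) := isHopfSubalgebra_unipAlg
  haveI hJ : (SGA3.augIdealSpan k A (unipAlg k A)).IsHopfIdeal k :=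
    (isNormalSub_augIdealSpan hB).isHopfIdeal
  refine ⟨SGA3.augIdealSpan k A (unipAlg k A), hJ, ?_, ?_, ?_⟩
  · -- multiplicative type: after extension to the algebraic closure it is spanned by group-likes
    let K := AlgebraicClosure k
    let π := Bialgebra.Quotient.mkBialgHom (R := k) (SGA3.augIdealSpan k A (unipAlg k A))
    let πK : K ⊗[k] A →ₐc[K] K ⊗[k] (A ⧸ SGA3.augIdealSpan k A (unipAlg k A)) := bcHom K π
    refine ⟨K, inferInstance, inferInstance, inferInstance, isDiag_of_span_groupLike (top_le_iff.1 ?_)⟩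
    haveI : Coalgebra.IsCocomm K (K ⊗[k] A) := isCocomm_baseChange
    have hsurj : Function.Surjective πK := bcHom_surjective K π Ideal.Quotient.mk_surjective
    have h1 : IsGroupLikeElem K (1 : K ⊗[k] (A ⧸ SGA3.augIdealSpan k A (unipAlg k A))) := IsGroupLikeElem.one
    have hscal : ∀ b ∈ unipAlg K (K ⊗[k] A), ∃ c : K, πK b = c • 1 := by
      intro b hb
      obtain ⟨r, hr⟩ := mem_unipAlg.1 hb
      have hb' := socFil_baseChange_le (r + 1) hr
      rw [Submodule.baseChange_eq_span] at hb'
      refine Submodule.mem_span_singleton.1 ?_ |>.imp fun c hc => hc.symm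
      refine Submodule.span_le.2 ?_ (Submodule.apply_mem_span_image_of_mem_span
        (πK : K ⊗[k] A →ₐ[K] K ⊗[k] (A ⧸ SGA3.augIdealSpan k A (unipAlg k A))).toLinearMap hb')
      rintro _ ⟨_, ⟨a, ha, rfl⟩, rfl⟩
      refine Submodule.mem_span_singleton.2 ⟨algebraMap k K (CoalgebraStruct.counit (R := k) a), ?_⟩
      have hmk : π a = algebraMap k _ (CoalgebraStruct.counit (R := k) a) := by
        show Ideal.Quotient.mk _ a = Ideal.Quotient.mk _ (algebraMap k A _)
        refine Ideal.Quotient.eq.2 (Ideal.subset_span ⟨?_, ?_⟩)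
        · exact sub_mem (mem_unipAlg.2 ⟨r, ha⟩) (Subalgebra.algebraMap_mem _ _)
        · rw [map_sub, Bialgebra.counit_algebraMap, sub_self]
      show _ = πK ((1 : K) ⊗ₜ[k] a)
      rw [show πK ((1 : K) ⊗ₜ[k] a) = (1 : K) ⊗ₜ[k] π a from rfl, hmk, algebraMap_smul,
        Algebra.TensorProduct.one_def, ← TensorProduct.tmul_smul, Algebra.algebraMap_eq_smul_one]
    rintro x -
    obtain ⟨y, rfl⟩ := hsurj x
    have hy := (span_translates_eq_top (k := K) (A := K ⊗[k] A)).ge (Submodule.mem_top (x := y))
    induction hy using Submodule.span_induction with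
    | mem z hz =>
      obtain ⟨g, b, hg, hb, rfl⟩ := hz
      obtain ⟨c, hc⟩ := hscal b hb
      rw [map_mul, hc, mul_smul_comm, mul_one]
      exact Submodule.smul_mem _ _ (Submodule.subset_span (hg.map πK))
    | zero => rw [map_zero]; exact zero_mem _
    | add p q _ _ hp hq => rw [map_add]; exact add_mem hp hq
    | smul c p _ hp => rw [map_smul]; exact Submodule.smul_mem _ _ hp
  · intro I hI hmt
    have hprim : ∀ x : A ⧸ I, CoalgebraStruct.comul (R := k) x =
        x ⊗ₜ[k] (1 : A ⧸ I) + (1 : A ⧸ I) ⊗ₜ[k] x → x = 0 := fun x hx =>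
      IsoTriv.ExtensionMT.eq_zero_of_primitive_multType (IsoTriv.isMultType_of_const hmt) hx
    refine Ideal.span_le.2 ?_
    rintro a ⟨ha, hεa⟩
    obtain ⟨r, hr⟩ := mem_unipAlg.1 ha
    have h := socFil_le_one hprim r (map_mem_socFil (Bialgebra.Quotient.mkBialgHom (R := k) I) _ a hr)
    rw [socFil_one] at h
    obtain ⟨c, hc⟩ := Submodule.mem_span_singleton.1 h
    have hc0 : c = 0 := by
      have := congrArg (CoalgebraStruct.counit (R := k) (A := A ⧸ I)) hc
      rw [map_smul, Bialgebra.counit_one, smul_eq_mul, mul_one, CoalgHomClass.counit_comp_apply, hεa] at this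
      exact this
    rw [hc0, zero_smul] at hc
    exact Ideal.Quotient.eq_zero_iff_mem.1 hc.symm
  · letI := subHopf (B := unipAlg k A) hB
    let φ : unipAlg k A →ₐc[k] A := BialgHom.ofAlgHom (unipAlg k A).val (AlgHom.ext fun c => rfl)
      (AlgHom.ext fun c => map_subComul hB c)
    refine ⟨unipAlg k A, inferInstance, inferInstance, φ, fun x y h => Subtype.ext h, ?_, ?_⟩
    · refine (congrArg Ideal.span (Set.ext fun a => ⟨?_, fun ha => ?_⟩)).symm
      · rintro ⟨b, hb, rfl⟩
        exact ⟨b.2, hb⟩
      · exact ⟨⟨a, ha.1⟩, ha.2, rfl⟩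
    · refine isUnipotent_iff_forall_mem_socFil.2 fun b => ?_
      obtain ⟨r, hr⟩ := mem_unipAlg.1 b.2
      exact ⟨r, mem_socFil_of_injective φ (fun x y h => Subtype.ext h) _ b hr⟩

end Groth.Agent.S4130
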