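import Groth.Statements.S4799
import Groth.Agent.FlatMorStrata.Global
import Groth.Agent.EGA43.FlatDescent.GenFreeGeneral
import Groth.Agent.EGA43.DvrCrit.Main
-- import your own Groth.Agent.* helpers here

set_option autoImplicit false
set_option backward.isDefEq.respectTransparency.types false
universe u
open CategoryTheory AlgebraicGeometry TensorProduct
open Lim8

namespace Groth.Agent.S4799

/-- Generic flatness without Noetherian hypotheses: let Y be an integral scheme, u : X ⟶ Y a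
quasi-compact morphism locally of finite presentation, and F a quasi-coherent O_X-module of finite
presentation. Then there is a nonempty open subset U of Y such that F restricted to u⁻¹(U) is flat
over U, i.e. the stalk F_x is flat over O_{Y, u(x)} for every x with u(x) ∈ U. -/
theorem result {X Y : Scheme.{u}} (u : X ⟶ Y) [IsIntegral Y]
    [LocallyOfFinitePresentation u] [QuasiCompact u] (F : X.Modules) [Coh.IsQCoh F] (hF : CohB1.IsFP F) :
    ∃ U : Y.Opens, (U : Set Y).Nonempty ∧ ∀ x : X, u.base x ∈ U → FlatMod.IsFlatOverAt u F x := by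
  classical
  obtain ⟨_, ⟨T, hT, rfl⟩, hηT, -⟩ :=
    Y.isBasis_affineOpens.exists_subset_of_mem_open (Set.mem_univ (genericPoint Y)) isOpen_univ
  haveI : Nonempty T := ⟨⟨_, hηT⟩⟩
  obtain ⟨c, hc⟩ := (u.isCompact_preimage hT.isCompact).elim_finite_subcover
    (fun V : {V : X.affineOpens // V.1 ≤ u ⁻¹ᵁ T} => (V.1.1 : Set X)) (fun V => V.1.1.2)
    (fun x hx => by
      obtain ⟨V, hV, hxV, e⟩ := exists_isAffineOpen_mem_and_subset (x := x) (U := u ⁻¹ᵁ T) hx
      exact Set.mem_iUnion.2 ⟨⟨⟨V, hV⟩, e⟩, hxV⟩)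
  have hg : ∀ V : {V : X.affineOpens // V.1 ≤ u ⁻¹ᵁ T}, ∃ f : Γ(Y, T), f ≠ 0 ∧
      (letI := Groth.Agent.EGA43.QcohFlat.overModule u F T V.1.1 V.2
      Module.Free (Localization.Away f) (Localization.Away f ⊗[Γ(Y, T)] Γ(F, V.1.1))) := fun V => by
    let _ := (u.appLE T V.1.1 V.2).hom.toAlgebra
    let _ := Groth.Agent.EGA43.QcohFlat.overModule u F T V.1.1 V.2
    have : IsScalarTower Γ(Y, T) Γ(X, V.1.1) Γ(F, V.1.1) := IsScalarTower.of_algebraMap_smul fun _ _ => rfl
    have : Algebra.FinitePresentation Γ(Y, T) Γ(X, V.1.1) :=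
      HasRingHomProperty.appLE @LocallyOfFinitePresentation u inferInstance ⟨T, hT⟩ V.1 V.2
    have := Groth.Agent.EGA43.QcohFP.finitePresentation_sections F hF V.1.2
    exact Groth.Agent.EGA43.FlatDescent.gFree_of_finitePresentation (R := Γ(Y, T)) (S := Γ(X, V.1.1))
  choose g hg0 hgfree using hg
  let f := ∏ V ∈ c, g V
  have hf : f ≠ 0 := Finset.prod_ne_zero_iff.2 fun V _ => hg0 V
  let T' := Y.basicOpen f
  refine ⟨T', ?_, fun x hx => ?_⟩
  · rw [Set.nonempty_iff_ne_empty]
    intro he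
    exact hf (basicOpen_eq_bot_iff f |>.1 (TopologicalSpace.Opens.ext he))
  · obtain ⟨V, hV, hxV⟩ := Set.mem_iUnion₂.1 (hc (show x ∈ u ⁻¹ᵁ T from Y.basicOpen_le f hx))
    refine Groth.Agent.EGA43.DvrCrit.isFlatOverAt_of_iso u ((Scheme.Modules.pullbackId X).app F) x ?_
    refine Groth.Agent.FlatMorStrata.isFlatOverAt_of_flat_tensor
      (IsPullback.of_horiz_isIso ⟨by simp⟩ : IsPullback (𝟙 X) u u (𝟙 Y)) F hT V.1.2 V.2 (T' := T')
      (hT.basicOpen f) (Y.basicOpen_le f) hxV hx ?_
    let _ := ((𝟙 Y : Y ⟶ Y).appLE T T' (Y.basicOpen_le f)).hom.toAlgebra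
    let _ := Groth.Agent.EGA43.QcohFlat.overModule u F T V.1.1 V.2
    have : IsLocalization.Away f Γ(Y, T') := by
      convert hT.isLocalization_basicOpen f using 1
      refine Algebra.algebra_ext _ _ fun r => ?_
      show ((𝟙 Y : Y ⟶ Y).appLE T T' (Y.basicOpen_le f)).hom r = _
      simp only [Scheme.Hom.appLE, Scheme.Hom.id_app, Category.id_comp]
      rfl
    obtain ⟨d, hd⟩ : g V ∣ f := Finset.dvd_prod_of_mem g hV
    have hfree := Groth.Agent.EGA43.GenFree.free_refine (g V) d Γ(F, V.1.1) (hgfree V)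
    rw [← hd] at hfree
    let e := IsLocalization.algEquiv (Submonoid.powers f) (Localization.Away f) Γ(Y, T')
    let _ := e.toRingEquiv.toRingHom.toAlgebra
    have : IsScalarTower Γ(Y, T) (Localization.Away f) Γ(Y, T') :=
      .of_algebraMap_eq fun r => (e.commutes r).symm
    have hfree' : Module.Free Γ(Y, T') (Γ(Y, T') ⊗[Γ(Y, T)] Γ(F, V.1.1)) :=
      .of_equiv (AlgebraTensorModule.cancelBaseChange Γ(Y, T) (Localization.Away f) Γ(Y, T') Γ(Y, T') Γ(F, V.1.1))
    exact Module.Flat.of_free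

end Groth.Agent.S4799
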