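import Groth.Statements.S6041
import Groth.Agent.GrpdLib.EpiQuot
import Mathlib.AlgebraicGeometry.Sites.Fpqc

set_option autoImplicit false
open CategoryTheory CategoryTheory.Limits AlgebraicGeometry MonoidalCategory
universe u
open GrpQ

namespace Groth.Agent.S6041

open CartesianMonoidalCategory in
/-- For schemes and the fppf topology, easy direction: let `s, t : R ⇉ U` be a pair of morphisms of
schemes over `S` (in the source an equivalence relation), `T` a scheme over `S` and `i : Z ⟶ U ×_S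
T` such that `Z ⟶ T` is flat, surjective and locally of finite presentation and any two points of
`Z` over the same point of `T` have `R`-related images in `U`. Then the composite `h_Z ⟶ h_U ⟶ U/R`
descends to exactly one section of the fppf quotient sheaf `U/R` over `T`. -/
theorem result {S : Scheme.{u}} {R U : Over S} (s t : R ⟶ U)
    (T Z : Over S) (i : Z ⟶ U ⊗ T)
    [Flat (i ≫ snd U T).left] [Surjective (i ≫ snd U T).left] [LocallyOfFinitePresentation (i ≫ snd U T).left]
    (hZZ : ∀ (T' : Over S) (z₁ z₂ : T' ⟶ Z), z₁ ≫ i ≫ snd U T = z₂ ≫ i ≫ snd U T →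
      ∃ r : T' ⟶ R, r ≫ s = z₁ ≫ i ≫ fst U T ∧ r ≫ t = z₂ ≫ i ≫ fst U T) :
    ∃! σ : QuotSh.rep Scheme.fppfPrecoverage T ⟶ QuotSh.quot Scheme.fppfPrecoverage s t,
      QuotSh.repMap Scheme.fppfPrecoverage (i ≫ fst U T) ≫ QuotSh.quotπ Scheme.fppfPrecoverage s t =
        QuotSh.repMap Scheme.fppfPrecoverage (i ≫ snd U T) ≫ σ := by
  set q : Z ⟶ T := i ≫ snd U T with hq
  set f : QuotSh.rep Scheme.fppfPrecoverage Z ⟶ QuotSh.quot Scheme.fppfPrecoverage s t :=
    QuotSh.repMap Scheme.fppfPrecoverage (i ≫ fst U T) ≫ QuotSh.quotπ Scheme.fppfPrecoverage s t with hf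
  haveI : Epi (QuotSh.repMap Scheme.fppfPrecoverage q) :=
    Groth.Agent.GrpdLib.EpiQuot.epi_repMap_of_cover q q.left.singleton_mem_fppfPrecoverage
  let P : Over S := Over.mk (Limits.pullback.fst q.left q.left ≫ Z.hom)
  let a : P ⟶ Z := Over.homMk (Limits.pullback.fst q.left q.left) rfl
  let b : P ⟶ Z := Over.homMk (Limits.pullback.snd q.left q.left) (by
    show Limits.pullback.snd q.left q.left ≫ Z.hom = Limits.pullback.fst q.left q.left ≫ Z.hom
    rw [← Over.w q, ← Category.assoc, ← Limits.pullback.condition, Category.assoc])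
  have sq : IsPullback a b q q :=
    IsPullback.of_map (Over.forget S) (Over.OverMorphism.ext Limits.pullback.condition)
      (IsPullback.of_hasPullback q.left q.left)
  have sq' : IsPullback (QuotSh.repMap Scheme.fppfPrecoverage a) (QuotSh.repMap Scheme.fppfPrecoverage b)
      (QuotSh.repMap Scheme.fppfPrecoverage q) (QuotSh.repMap Scheme.fppfPrecoverage q) :=
    sq.map (Groth.Agent.GrpdLib.EpiQuot.repFunctor Scheme.fppfPrecoverage S)
  haveI : IsRegularEpi (QuotSh.repMap Scheme.fppfPrecoverage q) :=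
    IsRegularEpiCategory.regularEpiOfEpi (QuotSh.repMap Scheme.fppfPrecoverage q)
  haveI : EffectiveEpi (QuotSh.repMap Scheme.fppfPrecoverage q) := (isRegularEpi_iff_effectiveEpi _).1 inferInstance
  let hc := isColimitCoforkOfEffectiveEpi (QuotSh.repMap Scheme.fppfPrecoverage q)
    (Limits.PullbackCone.mk _ _ sq'.w) sq'.isLimit
  have hab : QuotSh.repMap Scheme.fppfPrecoverage a ≫ f = QuotSh.repMap Scheme.fppfPrecoverage b ≫ f := by
    obtain ⟨r, hr1, hr2⟩ := hZZ P a b sq.w
    have e : ∀ {V W : Over S} (g : V ⟶ Z) (h : Z ⟶ W),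
        QuotSh.repMap Scheme.fppfPrecoverage g ≫ QuotSh.repMap Scheme.fppfPrecoverage h =
          QuotSh.repMap Scheme.fppfPrecoverage (g ≫ h) := fun g h =>
      ((Groth.Agent.GrpdLib.EpiQuot.repFunctor Scheme.fppfPrecoverage S).map_comp g h).symm
    have e' : ∀ (g : R ⟶ U), QuotSh.repMap Scheme.fppfPrecoverage (r ≫ g) =
        QuotSh.repMap Scheme.fppfPrecoverage r ≫ QuotSh.repMap Scheme.fppfPrecoverage g := fun g =>
      (Groth.Agent.GrpdLib.EpiQuot.repFunctor Scheme.fppfPrecoverage S).map_comp r g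
    rw [hf, ← Category.assoc, ← Category.assoc, e, e, ← hr1, ← hr2, e', e', Category.assoc, Category.assoc,
      QuotSh.quot_condition]
  have hfac : QuotSh.repMap Scheme.fppfPrecoverage q ≫ hc.desc (Limits.Cofork.ofπ f hab) = f :=
    hc.fac (Limits.Cofork.ofπ f hab) Limits.WalkingParallelPair.one
  refine ⟨hc.desc (Limits.Cofork.ofπ f hab), hfac.symm, fun σ hσ => ?_⟩
  rw [← cancel_epi (QuotSh.repMap Scheme.fppfPrecoverage q), ← hσ]
  exact hfac.symm

end Groth.Agent.S6041
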