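import Groth.Statements.S1936
import Groth.Agent.CMBC25.Fibre
import Groth.Agent.S4961
import Groth.Agent.S7457

set_option autoImplicit false
universe u
open CategoryTheory CategoryTheory.Limits AlgebraicGeometry
open Grpd

namespace Groth.Agent.S1936

/-- Let (U, R, s, t, c) be a groupoid scheme over S with s, t flat and locally of finite presentation.
There is an open U' ⊆ U such that t⁻¹(U') is exactly the set of points of R at which s is
Cohen–Macaulay, s⁻¹(U') is exactly the set of points at which t is Cohen–Macaulay, and both t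
restricted to s⁻¹(U') and s restricted to t⁻¹(U') are surjective onto U. (Part (5), that the
restriction of R to U' is a groupoid with Cohen–Macaulay s', t', then follows and is not restated.)
Cohen–Macaulay at a point: flat there with Cohen–Macaulay fibre local ring (Grpd.IsCMAt). (A
groupoid scheme carries U, R, s, t, c, e, i over S with the groupoid axioms on T-points; 'finite
locally free' is finite, flat and locally of finite presentation; C ⊂ Γ(U) is the ring of functions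
a with s♯(a) = t♯(a) and M = Spec C.) -/
theorem result (S : Scheme.{u}) (G : Grpd.GroupoidScheme S) [Flat G.s] [LocallyOfFinitePresentation G.s] [Flat G.t] [LocallyOfFinitePresentation G.t] : ∃ U' : G.U.Opens, (G.t ⁻¹ᵁ U' : Set G.R) = {r | Grpd.IsCMAt G.s r} ∧ (G.s ⁻¹ᵁ U' : Set G.R) = {r | Grpd.IsCMAt G.t r} ∧ ⇑G.t '' (G.s ⁻¹ᵁ U' : Set G.R) = Set.univ ∧ ⇑G.s '' (G.t ⁻¹ᵁ U' : Set G.R) = Set.univ := by
  have : ∀ {X Y : Scheme.{u}} (f : X ⟶ Y) [Flat f] (x : X), Grpd.IsCMAt f x ↔ CMBC25.FibCM f x :=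
    fun f _ x => ⟨fun h => h.2, fun h => ⟨Flat.stalkMap f x, h⟩⟩
  have hsq := (Groth.Agent.S7457.result S G).2
  have hT : ∀ r₁ r₂ : G.R, G.t r₁ = G.t r₂ → (CMBC25.FibCM G.s r₁ ↔ CMBC25.FibCM G.s r₂) := by
    intro r₁ r₂ h
    obtain ⟨z, hz₁, hz₂⟩ := Scheme.Pullback.exists_preimage_pullback (f := G.t) (g := G.t) r₁ r₂ h
    let φ : pullback G.t G.t ⟶ pullback G.s G.t := pullback.lift (pullback.fst G.t G.t)
      (pullback.lift (pullback.fst G.t G.t ≫ G.i) (pullback.snd G.t G.t)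
        ((Category.assoc _ _ _).trans ((congrArg (fun x => pullback.fst G.t G.t ≫ x) G.i_s).trans
          pullback.condition)) ≫ G.c)
      (by rw [G.comp_t, Category.assoc, G.i_t])
    obtain ⟨-, hφc⟩ := (Groth.Agent.S7457.result S G).1 φ (pullback.lift_fst _ _ _) (pullback.lift_snd _ _ _)
    have e₁ : pullback.fst G.s G.t (φ z) = r₁ := by
      rw [← Scheme.Hom.comp_apply, pullback.lift_fst]; exact hz₁
    have e₂ : G.c (φ z) = r₂ := by rw [← Scheme.Hom.comp_apply, hφc]; exact hz₂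
    rw [← e₁, ← e₂, ← CMBC25.fibCM_iff_of_isPullback (IsPullback.of_hasPullback G.s G.t),
      ← CMBC25.fibCM_iff_of_isPullback hsq]
  have hopen : IsOpen {r : G.R | CMBC25.FibCM G.s r} := by
    have e : {r : G.R | CMBC25.FibCM G.s r} = {r : G.R | MoreMor.IsCMAt G.s r} := by
      ext r
      exact ⟨fun h => (CMBC25.moreMor_isCMAt_iff G.s r).2 ⟨Flat.stalkMap G.s r, h⟩,
        fun h => ((CMBC25.moreMor_isCMAt_iff G.s r).1 h).2⟩
    rw [e]
    exact Groth.Agent.S4961.result G.s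
  let U' : G.U.Opens := ⟨⇑G.t '' {r : G.R | CMBC25.FibCM G.s r}, G.t.isOpenMap _ hopen⟩
  have hU : ∀ r : G.R, G.t r ∈ U' ↔ CMBC25.FibCM G.s r := fun r =>
    ⟨fun ⟨r', h', he⟩ => (hT r' r he).1 h', fun h => ⟨r, h, rfl⟩⟩
  have hii : ∀ r : G.R, G.t (G.i r) = G.s r := GrpdLib.t_i_apply G
  have hi : ∀ r : G.R, CMBC25.FibCM G.t r ↔ CMBC25.FibCM G.s (G.i r) := by
    intro r
    have := GrpdLib.isIso_i G
    have sq : IsPullback G.i G.t G.s (𝟙 G.U) :=
      IsPullback.of_horiz_isIso ⟨by rw [G.i_s, Category.comp_id]⟩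
    exact CMBC25.fibCM_iff_of_isPullback sq r
  have hdense : ∀ u : G.U, ∃ r : G.R, G.s r = u ∧ CMBC25.FibCM G.s r := fun u => by
    have hne : Nonempty (G.s.fiber u) := by
      have : G.e u ∈ Set.range (G.s.fiberι u) := by
        rw [G.s.range_fiberι]
        show G.s (G.e u) = u
        rw [← Scheme.Hom.comp_apply, G.e_s]; rfl
      obtain ⟨z, -⟩ := this
      exact ⟨z⟩
    obtain ⟨z, hz⟩ := (CMBC25.dense_fibCM G.s u).nonempty
    exact ⟨G.s.fiberι u z, (G.s.range_fiberι u).subset ⟨z, rfl⟩, hz⟩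
  refine ⟨U', ?_, ?_, ?_, ?_⟩
  · ext r
    exact (hU r).trans (this G.s r).symm
  · ext r
    rw [Set.mem_setOf_eq, this G.t r, hi r, ← hU (G.i r), hii r]
    rfl
  · refine Set.eq_univ_of_forall fun u => ?_
    obtain ⟨r, hr, hcm⟩ := hdense u
    refine ⟨G.i r, ?_, ?_⟩
    · show G.s (G.i r) ∈ U'
      rw [GrpdLib.s_i_apply]
      exact (hU r).2 hcm
    · rw [hii]; exact hr
  · refine Set.eq_univ_of_forall fun u => ?_
    obtain ⟨r, hr, hcm⟩ := hdense u
    exact ⟨r, (hU r).2 hcm, hr⟩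

end Groth.Agent.S1936
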