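import Groth.Statements.S1489
import Groth.Agent.FlatMorGeom.FormallyEtaleHom

set_option autoImplicit false
universe u
open FlatMor

namespace Groth.Agent.S1489

open AlgebraicGeometry CategoryTheory Limits in
/-- A morphism f : X → S is étale if and only if it is locally of finite presentation and formally
étale, i.e. has the unique lifting property against first order thickenings of affine schemes (rings
in the same universe). -/
theorem result {X S : Scheme.{u}} (f : X ⟶ S) :
    Etale f ↔ LocallyOfFinitePresentation f ∧ MoreMor.IsFormallyEtaleHom f := by
  constructor
  · intro h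
    refine ⟨inferInstance, FlatMorGeom.isFormallyEtaleHom_of_appLE fun U V hU hV e => ?_⟩
    have := f.etale_appLE hV hU e
    algebraize [(f.appLE V U e).hom]
    exact Algebra.Etale.formallyEtale
  · rintro ⟨_, h⟩
    refine ⟨fun {V} hV {U} hU e => ?_⟩
    have h1 := f.finitePresentation_appLE hV hU e
    have h2 := FlatMorGeom.formallyEtale_appLE_of_isFormallyEtaleHom h hU hV e
    algebraize [(f.appLE V U e).hom]
    exact ⟨h2, h1⟩

end Groth.Agent.S1489
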