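import Groth.Statements.S18285
import Groth.Agent.Misc15.MagnetPointsS
-- import your own Groth.Agent.* helpers here

set_option autoImplicit false
universe u
open CategoryTheory MonoidalCategory CartesianMonoidalCategory MonObj AlgebraicGeometry Opposite
open Magnet

namespace Groth.Agent.S18285

/-- Let X be an S-scheme separated over S with an action of the diagonalizable monoid scheme A(M)_S of a
commutative monoid M, and N a submonoid of M. Then the canonical map from the attractor X^N to X
(evaluation at the unit section of A(N)_S) is a monomorphism: for every S-scheme T it is injective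
on T-points. (The published statement allows X to be an algebraic space over S; here X is a scheme.) -/
theorem result (S : Scheme.{u}) (M : Type) [AddCommMonoid M]
    (X : Over S) [IsSeparated X.hom] (a : Magnet.MonAct (Magnet.AMonS S M) X) (N : AddSubmonoid M) (T : Over S) :
    Function.Injective (fun φ => (Magnet.attrToX a N).app (op T) φ) := by
  intro φ ψ h'
  have h'' : CartesianMonoidalCategory.lift (toUnit T ≫ η[Magnet.AMonS S N]) (𝟙 T) ≫ φ.1 =
      CartesianMonoidalCategory.lift (toUnit T ≫ η[Magnet.AMonS S N]) (𝟙 T) ≫ ψ.1 := h'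
  refine Subtype.ext (Groth.Agent.Misc15.MagnetPointsS.cancel_map N.subtype Subtype.val_injective _ _ ?_)
  apply Magnet.hom_ext_lift₂
  intro T' g t
  rw [lift_whiskerRight_assoc, lift_whiskerRight_assoc]
  have key : ∀ χ : (Magnet.attr a N).obj (op T), lift (g ≫ Magnet.AMonS.map S N.subtype) t ≫ χ.1 =
      lift g (t ≫ lift (toUnit T ≫ η[Magnet.AMonS S N]) (𝟙 T) ≫ χ.1) ≫ a.act := by
    intro χ
    have h1 := (Magnet.MonAct.mem_eqvHom_iff χ.1).1 χ.2 T' g 1 t
    unfold Magnet.subAct at h1
    rw [Magnet.MonAct.lift_restrict_act, Magnet.MonAct.lift_regular_act, _root_.mul_one] at h1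
    rw [h1, comp_lift_assoc, Category.comp_id, ← Category.assoc t (toUnit T),
      toUnit_unique (t ≫ toUnit T) (toUnit T'), ← Hom.one_def]
  exact (key φ).trans (h'' ▸ (key ψ).symm)

end Groth.Agent.S18285
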