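import Groth.Statements.S12544
import Mathlib.RingTheory.Bialgebra.MonoidAlgebra

set_option autoImplicit false
universe u
open TensorProduct LaurentPolynomial
open GIT

namespace Groth.Agent.S12544

open LaurentPolynomial

theorem coeff_toLaurent_nat {k : Type u} [Semiring k] (p : Polynomial k) (n : ℕ) :
    (Polynomial.toLaurent p).coeff (n : ℤ) = p.coeff n := by
  rw [LaurentPolynomial.coeff_toLaurent]
  exact Finsupp.mapDomain_apply Nat.cast_injective _ n

theorem coeff_toLaurent_neg {k : Type u} [Semiring k] (p : Polynomial k) (e : ℤ) (he : e < 0) :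
    (Polynomial.toLaurent p).coeff e = 0 := by
  rw [LaurentPolynomial.coeff_toLaurent]
  exact Finsupp.mapDomain_of_notMem_range _ e fun ⟨n, hn⟩ => by
    have h : (n : ℤ) = e := hn
    omega

theorem coeff_T_mul {k : Type u} [CommRing k] (f : k[T;T⁻¹]) (m e : ℤ) : (T m * f).coeff e = f.coeff (e - m) := by
  rw [T, AddMonoidAlgebra.coeff_single_mul_apply, _root_.one_mul, neg_add_eq_sub]

theorem exists_toLaurent_eq {k : Type u} [CommRing k] (f : k[T;T⁻¹]) (h : ∀ e : ℤ, e < 0 → f.coeff e = 0) :
    ∃ p : Polynomial k, Polynomial.toLaurent p = f := by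
  refine ⟨∑ e ∈ f.coeff.support, Polynomial.monomial e.toNat (f.coeff e), LaurentPolynomial.ext fun e => ?_⟩
  rcases lt_or_ge e 0 with he | he
  · rw [coeff_toLaurent_neg _ e he, h e he]
  · obtain ⟨n, rfl⟩ := Int.eq_ofNat_of_zero_le he
    rw [coeff_toLaurent_nat, Polynomial.finsetSum_coeff]
    simp only [Polynomial.coeff_monomial]
    rw [Finset.sum_eq_single (n : ℤ)]
    · simp
    · intro b hb hbn
      rw [if_neg]
      intro hbe
      by_cases hb0 : b < 0
      · exact (Finsupp.mem_support_iff.1 hb) (h b hb0)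
      · omega
    · intro hn
      simp [Finsupp.notMem_support_iff.1 hn]

/-- Let a commutative bialgebra A over a field k (an affine group or monoid G) coact linearly on affine
ι-space, let λ be a one-parameter subgroup of G (a bialgebra map to the Laurent polynomial ring) and
v ≠ 0 a vector. Then there is exactly one integer m for which t^m · (v moved by λ(t)) extends to the
affine line in t with non-zero value at t = 0; that m is the value μ(v, λ) of the numerical
function, the largest of the numbers −r_i over the non-zero coordinates of v in coordinates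
diagonalising λ. -/
theorem result (k : Type u) [Field k] (A : Type u) [CommRing A] [Bialgebra k A]
    (ι : Type u) [Fintype ι] [HopfRep.Comod k A (MvPolynomial ι k)] [GLin.IsCoactAlg k A (MvPolynomial ι k)]
    (hlin : GLin.IsLinear k A ι) (lam : A →ₐc[k] k[T;T⁻¹]) (v : ι → k) (hv : v ≠ 0) :
    ∃! m : ℤ, GLin.IsMu k A lam v m := by
  classical
  let f : ι → k[T;T⁻¹] := fun i => GLin.lamOrbit k A lam (GLin.vecPt k ι v) (MvPolynomial.X i)
  have hmu : ∀ m : ℤ, GLin.IsMu k A lam v m ↔
      (∀ i e, (f i).coeff e ≠ 0 → 0 ≤ m + e) ∧ ∃ i, (f i).coeff (-m) ≠ 0 := by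
    intro m
    have hX : ∀ i, GLin.shiftedOrbit k A lam v m (MvPolynomial.X i) = T m * f i := fun i =>
      MvPolynomial.aeval_X _ i
    constructor
    · rintro ⟨h, hh, hne⟩
      have hi : ∀ i, Polynomial.toLaurent (h (MvPolynomial.X i)) = T m * f i := fun i =>
        (congrArg (fun φ : MvPolynomial ι k →ₐ[k] k[T;T⁻¹] => φ (MvPolynomial.X i)) hh).trans (hX i)
      refine ⟨fun i e he => ?_, ?_⟩
      · by_contra hc
        apply he
        have h1 := coeff_toLaurent_neg (h (MvPolynomial.X i)) (m + e) (by omega)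
        rwa [hi, coeff_T_mul, add_sub_cancel_left] at h1
      · by_contra hc
        push Not at hc
        refine hne (MvPolynomial.algHom_ext fun i => ?_)
        rw [AlgHom.comp_apply, MvPolynomial.aeval_X, Polynomial.coe_aeval_eq_eval,
          ← Polynomial.coeff_zero_eq_eval_zero, ← coeff_toLaurent_nat, hi, coeff_T_mul, Nat.cast_zero, zero_sub]
        exact hc i
    · rintro ⟨hpos, i₀, hi₀⟩
      choose p hp using fun i => exists_toLaurent_eq (T m * f i) fun e he => by
        rw [coeff_T_mul]
        by_contra hc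
        have := hpos i (e - m) hc
        omega
      refine ⟨MvPolynomial.aeval p, MvPolynomial.algHom_ext fun i => ?_, fun heq => hi₀ ?_⟩
      · rw [AlgHom.comp_apply, MvPolynomial.aeval_X, hX]
        exact hp i
      · have h1 := congrArg (fun φ : MvPolynomial ι k →ₐ[k] k => φ (MvPolynomial.X i₀)) heq
        simp only [AlgHom.comp_apply, MvPolynomial.aeval_X, Polynomial.coe_aeval_eq_eval,
          ← Polynomial.coeff_zero_eq_eval_zero] at h1
        rw [← coeff_toLaurent_nat, hp, coeff_T_mul, Nat.cast_zero, zero_sub] at h1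
        exact h1
  obtain ⟨i₀, hi₀⟩ : ∃ i, f i ≠ 0 := by
    by_contra hc
    push Not at hc
    refine hv (funext fun i => ?_)
    have h0 : Coalgebra.counit (R := k) (f i) = 0 := by rw [hc i, map_zero]
    let x := GLin.vecPt k ι v
    have h1 : Coalgebra.counit (R := k) (f i) = x (MvPolynomial.X i) := by
      show Coalgebra.counit (R := k) (lam (GLin.orbitHom k A x (MvPolynomial.X i))) = _
      rw [CoalgHomClass.counit_comp_apply lam]
      have hc := congrArg (fun t => TensorProduct.rid k k ((x.toLinearMap.rTensor k) t))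
        (LinearMap.congr_fun (HopfRep.Comod.counit_comp (k := k) (A := A) (V := MvPolynomial ι k)) (MvPolynomial.X i))
      simp only [LinearMap.comp_apply, LinearMap.flip_apply, TensorProduct.mk_apply, LinearMap.rTensor_tmul,
        TensorProduct.rid_tmul, one_smul] at hc
      refine Eq.trans ?_ hc
      simp only [GLin.orbitHom, AlgHom.comp_apply, GLin.coactAlgHom_apply]
      generalize HopfRep.Comod.coact (k := k) (A := A) (MvPolynomial.X i : MvPolynomial ι k) = t
      induction t using TensorProduct.induction_on with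
      | zero => simp
      | add p q hp hq => simp only [map_add, hp, hq]
      | tmul p a => simp [mul_comm]
    show v i = 0
    rw [← h0, h1]
    exact (MvPolynomial.aeval_X v i).symm
  let S : Finset ℤ := Finset.univ.biUnion fun i => (f i).coeff.support
  have hS : S.Nonempty := by
    obtain ⟨e, he⟩ := Finsupp.support_nonempty_iff.2 (fun h => hi₀ (LaurentPolynomial.ext fun a => by rw [h]; rfl) : (f i₀).coeff ≠ 0)
    exact ⟨e, Finset.mem_biUnion.2 ⟨i₀, Finset.mem_univ _, he⟩⟩
  refine ⟨-S.min' hS, (hmu _).2 ⟨fun i e he => ?_, ?_⟩, fun m hm => ?_⟩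
  · have := S.min'_le e (Finset.mem_biUnion.2 ⟨i, Finset.mem_univ _, Finsupp.mem_support_iff.2 he⟩)
    omega
  · obtain ⟨i, -, hi⟩ := Finset.mem_biUnion.1 (S.min'_mem hS)
    exact ⟨i, by rw [neg_neg]; exact Finsupp.mem_support_iff.1 hi⟩
  · obtain ⟨h1, i, hi⟩ := (hmu m).1 hm
    have h2 := S.min'_le (-m) (Finset.mem_biUnion.2 ⟨i, Finset.mem_univ _, Finsupp.mem_support_iff.2 hi⟩)
    obtain ⟨j, -, hj⟩ := Finset.mem_biUnion.1 (S.min'_mem hS)
    have := h1 j _ (Finsupp.mem_support_iff.1 hj)
    omega

end Groth.Agent.S12544
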