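import Groth.Prelude.Def_HTop2
import Mathlib.RingTheory.IntegralClosure.IntegrallyClosed
import Groth.Agent.HTop16.AWN
import Mathlib.RingTheory.IntegralClosure.IntegrallyClosed

set_option autoImplicit false
universe u
namespace HTop
end HTop
open HTop

namespace Groth.Agent.S15941

/-- An integrally closed integral domain is a seminormal ring, that is, whenever x^3 = y^2 there is
exactly one element a with x = a^2 and y = a^3. (The published statement is for a normal Noetherian
scheme and reduces at once to this affine integral case; the Noetherian hypothesis plays no role.) -/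
theorem result (A : Type u) [CommRing A] [IsDomain A]
    [IsIntegrallyClosed A] : HTop.IsSeminormalRing A := by
  refine HTop16.seminormal_iff.2 ⟨inferInstance, fun x y hxy => ?_⟩
  rcases eq_or_ne x 0 with rfl | hx
  · refine ⟨0, by simp, ?_⟩
    rw [zero_pow (by norm_num)] at hxy
    rw [zero_pow (by norm_num)]
    exact (pow_eq_zero_iff two_ne_zero).1 hxy.symm
  · let K := FractionRing A
    letI : Field K := FractionRing.field A
    have hxK : algebraMap A K x ≠ 0 := (map_ne_zero_iff _ (IsFractionRing.injective A K)).2 hx
    have h : (algebraMap A K x) ^ 3 = (algebraMap A K y) ^ 2 := by rw [← map_pow, hxy, map_pow]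
    have h2 : (algebraMap A K y / algebraMap A K x) ^ 2 = algebraMap A K x := by
      rw [div_pow, ← h]
      rw [div_eq_iff (pow_ne_zero 2 hxK)]; ring
    obtain ⟨a, ha⟩ := IsIntegrallyClosed.isIntegral_iff.1
      (IsIntegral.of_pow two_pos (h2.symm ▸ isIntegral_algebraMap) :
        IsIntegral A (algebraMap A K y / algebraMap A K x))
    refine ⟨a, IsFractionRing.injective A K ?_, IsFractionRing.injective A K ?_⟩
    · rw [map_pow, ha, h2]
    · rw [map_pow, ha, pow_succ, h2, mul_div_cancel₀ _ hxK]

end Groth.Agent.S15941
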