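import Mathlib.RingTheory.IntegralClosure.IsIntegralClosure.Basic
import Mathlib.RingTheory.Localization.FractionRing
import Mathlib.RingTheory.Noetherian.Basic
import Groth.Prelude.Def_HTop2
import Groth.Prelude.Def_W4c1hilbchowincPtFun
import Groth.Agent.HTop16.PtFunNormal
import Groth.Agent.HTop16.SN
import Groth.Agent.EGA43.FiniteCrit.DvrExt

set_option autoImplicit false
universe u
namespace HTop
end HTop
open HTop

namespace Groth.Agent.S13109

open CategoryTheory AlgebraicGeometry W4c1hilbchowinc Groth.Agent.HTop16.PtFunNormal in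
theorem residueFieldMap_comp_pullback {X Y Z : Scheme.{u}} (h : Z ⟶ Y) (g : Y ⟶ X) (f : PtFun X) :
    (f.pullback g).pullback h = f.pullback (h ≫ g) := funext fun z => by
  show h.residueFieldMap z (g.residueFieldMap (h z) (f (g (h z)))) = (h ≫ g).residueFieldMap z (f (g (h z)))
  rw [Scheme.residueFieldMap_comp]
  rfl

open CategoryTheory AlgebraicGeometry W4c1hilbchowinc Groth.Agent Groth.Agent.HTop16.PtFunNormal IsLocalRing in
theorem variesAlongDVR_of_complete {X : Scheme.{u}} {f : PtFun X} (hf : f.VariesAlongCompleteDVR) :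
    f.VariesAlongDVR := by
  intro R _ _ _ g
  obtain ⟨C, _, _, _, _, _, φ, ι, hφl, hφi, -⟩ := EGA43.FiniteCrit.exists_completeDvr (residue R) (ker_residue (R := R))
  let h : Spec (CommRingCat.of C) ⟶ Spec (CommRingCat.of R) := Spec.map (CommRingCat.ofHom φ)
  let F : PtFun (Spec (CommRingCat.of R)) := f.pullback g
  obtain ⟨rC, hrC⟩ := hf C (h ≫ g)
  rw [← residueFieldMap_comp_pullback h g f] at hrC
  have hgen : h (gen C) = gen R := PrimeSpectrum.ext ((RingHom.injective_iff_ker_eq_bot φ).1 hφi)
  have hclosed : h (closedPoint C) = closedPoint R :=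
    PrimeSpectrum.ext (((local_hom_TFAE φ).out 0 4).1 hφl)
  let c : C := (Scheme.ΓSpecIso (CommRingCat.of C)).hom rC
  have key : ∀ (y : Spec (CommRingCat.of C)) (a : R),
      h.residueFieldMap y (evA (A := CommRingCat.of R) (h y) a) = evA (A := CommRingCat.of C) y (φ a) := fun y a => by
    rw [residueFieldMap_evA]
    exact congrArg _ (ConcreteCategory.congr_hom (Scheme.ΓSpecIso_inv_naturality (CommRingCat.ofHom φ)) a).symm
  have hc : ∀ y, evA (A := CommRingCat.of C) y c = h.residueFieldMap y (F (h y)) := fun y => by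
    show (Spec _).Γevaluation y ((Scheme.ΓSpecIso _).inv ((Scheme.ΓSpecIso _).hom rC)) = _
    rw [Iso.hom_inv_id_apply]
    exact congrFun hrC y
  obtain ⟨b, t, ht, hbt⟩ := evA_surj (A := CommRingCat.of R) (h (gen C)) (F (h (gen C)))
  have hcb : c * φ t = φ b := evA_gen_injective C (by
    rw [map_mul, ← key, ← key, hc, ← hbt]
    exact (map_mul (h.residueFieldMap (gen C)).hom _ _).symm)
  obtain ⟨r, rfl⟩ : t ∣ b := by
    rcases ValuationRing.dvd_total t b with hd | ⟨u, hu⟩
    · exact hd
    rcases eq_or_ne b 0 with rfl | hb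
    · exact dvd_zero _
    have h1 : φ b * (c * φ u) = φ b * 1 := by rw [mul_one, mul_left_comm, ← map_mul, ← hu, hcb]
    have hu' : IsUnit u := IsUnit.of_map φ u (IsUnit.of_mul_eq_one_right c (mul_left_cancel₀ (fun e => hb (hφi (e.trans (map_zero φ).symm))) h1))
    exact ⟨↑hu'.unit⁻¹, by rw [hu, mul_assoc, hu'.mul_val_inv, mul_one]⟩
  have ht0 : φ t ≠ 0 := fun e => ht (by rw [show t = 0 from hφi (e.trans (map_zero φ).symm), map_zero])
  have hcr : c = φ r := mul_right_cancel₀ ht0 (hcb.trans (by rw [map_mul, mul_comm]))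
  have hall : ∀ y, F (h y) = evA (A := CommRingCat.of R) (h y) r := fun y =>
    (h.residueFieldMap y).hom.injective (by rw [← hc, hcr]; exact (key y r).symm)
  refine ⟨(Scheme.ΓSpecIso (CommRingCat.of R)).inv r, funext fun x => ?_⟩
  have hx : ∃ y, h y = x := by
    rcases eq_or_ne (x : PrimeSpectrum R).asIdeal ⊥ with e | e
    · exact ⟨gen C, hgen.trans (PrimeSpectrum.ext e.symm)⟩
    · exact ⟨closedPoint C, hclosed.trans (PrimeSpectrum.ext (eq_maximalIdeal ((x : PrimeSpectrum R).2.isMaximal e)).symm)⟩
  obtain ⟨y, rfl⟩ := hx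
  exact (hall y).symm

open AlgebraicGeometry W4c1hilbchowinc in
/-- Let A be a Noetherian seminormal ring whose integral closure in its total ring of fractions is a
finite A-module. Then a pointwise function on Spec A — one element of the residue field κ(y) for
every point y — which varies algebraically along complete discrete valuation rings (for every
complete discrete valuation ring R and every morphism Spec R → Spec A there is an element of R whose
values at the two points of Spec R are the images of the chosen values) is the family of values of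
exactly one global section. Seminormal is meant in the sense that x^3 = y^2 forces x = a^2 and y =
a^3 for a unique a, which for reduced Noetherian rings is equivalent to the criterion on elements of
the total ring of fractions; test rings range over the universe of A. -/
theorem result
    (A : Type u) [CommRing A] [IsNoetherianRing A] (hA : HTop.IsSeminormalRing A)
    (hfin : Module.Finite A (integralClosure A (FractionRing A)))
    (f : PtFun (Spec (CommRingCat.of A))) (hf : f.VariesAlongCompleteDVR) :
    ∃! a : Γ(Spec (CommRingCat.of A), ⊤), PtFun.ofSection (Spec (CommRingCat.of A)) a = f := by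
  have hred : _root_.IsReduced A := (Groth.Agent.HTop16.seminormal_iff.1 hA).1
  have hfR := variesAlongDVR_of_complete hf
  let Q := FractionRing A
  let C := integralClosure A Q
  haveI : _root_.IsReduced Q := inferInstanceAs (_root_.IsReduced (Localization (nonZeroDivisors A)))
  haveI : IsNoetherianRing C := IsNoetherianRing.of_finite A C
  haveI : _root_.IsReduced C := isReduced_of_injective C.val Subtype.val_injective
  have hinj : Function.Injective (algebraMap A C) := fun a b h =>
    IsFractionRing.injective A Q (congrArg (fun z : C => (z : Q)) h)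
  haveI : IsFractionRing C Q := by
    refine (isLocalization_iff _ _).2 ⟨fun c => ?_, fun z => ?_, fun {x y} h => ⟨1, by rw [Subtype.ext h]⟩⟩
    · obtain ⟨⟨a, s⟩, hc⟩ := IsLocalization.surj (nonZeroDivisors A) (c.1 : Q)
      have ha : a ∈ nonZeroDivisors A := mem_nonZeroDivisors_iff_right.2 fun z hz => by
        have hz' : algebraMap A C z * c.1 = 0 := Subtype.ext (((IsLocalization.map_units Q s).mul_left_eq_zero).1 (by
          show (algebraMap A Q z * c.1.1) * algebraMap A Q s = 0
          rw [mul_assoc, hc, ← map_mul, hz, map_zero]))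
        exact hinj ((mem_nonZeroDivisors_iff_right.1 c.2 _ hz').trans (map_zero _).symm)
      have hu := IsLocalization.map_units Q ⟨a, ha⟩
      exact isUnit_of_mul_isUnit_left (hc.symm ▸ hu : IsUnit ((c.1 : Q) * algebraMap A Q s))
    · obtain ⟨⟨a, s⟩, hz⟩ := IsLocalization.surj (nonZeroDivisors A) z
      refine ⟨⟨algebraMap A C a, ⟨algebraMap A C s, mem_nonZeroDivisors_iff_right.2 fun w hw => Subtype.ext
        ((IsLocalization.map_units Q s).mul_left_eq_zero.1 (congrArg Subtype.val hw))⟩⟩, hz⟩
  haveI : IsIntegrallyClosed C := (isIntegrallyClosed_iff_isIntegrallyClosedIn Q).2 inferInstance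
  let π : Spec (CommRingCat.of C) ⟶ Spec (CommRingCat.of A) := Spec.map (CommRingCat.ofHom (algebraMap A C))
  have hfC : (f.pullback π).VariesAlongDVR := fun R _ _ _ g => by
    rw [residueFieldMap_comp_pullback]
    exact hfR R (CategoryTheory.CategoryStruct.comp g π)
  obtain ⟨c, hc⟩ := Groth.Agent.HTop16.PtFunNormal.exists_eq (A := CommRingCat.of C) hfC
  have key : ∀ (q : Spec (CommRingCat.of C)) (a : A),
      π.residueFieldMap q (Groth.Agent.HTop16.PtFunNormal.evA (A := CommRingCat.of A) (π q) a) =
        Groth.Agent.HTop16.PtFunNormal.evA (A := CommRingCat.of C) q (algebraMap A C a) := fun q a => by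
    rw [Groth.Agent.HTop16.PtFunNormal.residueFieldMap_evA]
    exact congrArg _ (CategoryTheory.ConcreteCategory.congr_hom
      (Scheme.ΓSpecIso_inv_naturality (CommRingCat.ofHom (algebraMap A C))) a).symm
  choose b t ht hbt using fun P : Spec (CommRingCat.of A) =>
    Groth.Agent.HTop16.PtFunNormal.evA_surj (A := CommRingCat.of A) P (f P)
  have hmem : ∀ q : Spec (CommRingCat.of C), algebraMap A C (t (π q)) ∉ (q : PrimeSpectrum C).asIdeal ∧
      algebraMap A C (t (π q)) * c - algebraMap A C (b (π q)) ∈ (q : PrimeSpectrum C).asIdeal := fun q => by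
    refine ⟨fun h => ht (π q) ?_, (SetLike.ext_iff.1 (Groth.Agent.HTop16.PtFunNormal.ker_evA (A := CommRingCat.of C) q) _).1 ?_⟩
    · exact (SetLike.ext_iff.1 (Groth.Agent.HTop16.PtFunNormal.ker_evA (A := CommRingCat.of A) (π q)) _).2 h
    · refine RingHom.mem_ker.2 ?_
      rw [map_sub, map_mul, ← key, ← key, ← hc, sub_eq_zero, ← hbt, mul_comm]
      exact (map_mul (π.residueFieldMap q).hom _ _).symm
  let B := Algebra.adjoin A ({c} : Set C)
  haveI : _root_.IsReduced B := isReduced_of_injective B.val Subtype.val_injective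
  let φ : A →+* B := algebraMap A B
  let cB : B := ⟨c, Algebra.self_mem_adjoin_singleton A c⟩
  have hint : Algebra.IsIntegral A C := inferInstance
  have hBC : RingHom.IsIntegral (R := B) (A := C) (algebraMap B C) := fun z => (hint.isIntegral z).tower_top (A := B)
  have hUH : Groth.Agent.UnivHomeo.UH (A := A) (B := B) φ := by
    refine ⟨fun z => (isIntegral_algHom_iff B.val Subtype.val_injective).1 (hint.isIntegral z.1), ?_,
      fun a ha => ?_⟩
    · intro K _ g₁ g₂ hg
      let L := AlgebraicClosure K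
      let j : K →+* L := algebraMap K L
      obtain ⟨G₁, hG₁⟩ := Groth.Agent.UnivHomeo.exists_extend (R := B) (S := C) (algebraMap B C) hBC (j.comp g₁)
        (by rw [(RingHom.injective_iff_ker_eq_bot _).1 Subtype.val_injective]; exact bot_le)
      obtain ⟨G₂, hG₂⟩ := Groth.Agent.UnivHomeo.exists_extend (R := B) (S := C) (algebraMap B C) hBC (j.comp g₂)
        (by rw [(RingHom.injective_iff_ker_eq_bot _).1 Subtype.val_injective]; exact bot_le)
      have hA' : ∀ a, G₁ (algebraMap A C a) = G₂ (algebraMap A C a) := fun a =>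
        (RingHom.congr_fun hG₁ (φ a)).trans ((congrArg j (RingHom.congr_fun hg a)).trans (RingHom.congr_fun hG₂ (φ a)).symm)
      let q₁ : PrimeSpectrum C := ⟨RingHom.ker G₁, RingHom.ker_isPrime G₁⟩
      let q₂ : PrimeSpectrum C := ⟨RingHom.ker G₂, RingHom.ker_isPrime G₂⟩
      have hq : π q₁ = π q₂ := PrimeSpectrum.ext (Ideal.ext fun a => by
        show G₁ (algebraMap A C a) = 0 ↔ G₂ (algebraMap A C a) = 0
        rw [hA'])
      have e₁ := (hmem q₁).2
      have e₂ := (hmem q₂).2
      rw [← hq] at e₂
      have n₁ : G₁ (algebraMap A C (t (π q₁))) ≠ 0 := (hmem q₁).1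
      have hc' : G₁ c = G₂ c := mul_left_cancel₀ n₁ (by
        have a₁ : G₁ _ = 0 := e₁
        have a₂ : G₂ _ = 0 := e₂
        rw [map_sub, map_mul, sub_eq_zero] at a₁ a₂
        rw [a₁, hA' (b (π q₁)), ← a₂, hA']
      )
      refine RingHom.ext fun z => j.injective ?_
      rw [← RingHom.comp_apply, ← hG₁, ← RingHom.comp_apply, ← hG₂]
      obtain ⟨z, hz⟩ := z
      show G₁ z = G₂ z
      induction hz using Algebra.adjoin_induction with
      | mem x hx => rw [Set.mem_singleton_iff.1 hx, hc']
      | algebraMap r => exact hA' r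
      | add x y _ _ hx hy => rw [map_add, map_add, hx, hy]
      | mul x y _ _ hx hy => rw [map_mul, map_mul, hx, hy]
    · rw [show a = 0 from hinj ((congrArg Subtype.val (RingHom.mem_ker.1 ha)).trans (map_zero (algebraMap A C)).symm)]
      exact zero_mem _
  have htriv : Groth.Agent.UnivHomeo.Triv (A := A) (B := B) φ := by
    intro q hq z
    obtain ⟨Q', -, hQ', hQc⟩ := @Ideal.exists_ideal_over_prime_of_isIntegral B _ C _ (inferInstance : Algebra B C)
      (⟨hBC⟩ : Algebra.IsIntegral B C) q hq ⊥
      (by rw [← RingHom.ker_eq_comap_bot]; exact ((RingHom.injective_iff_ker_eq_bot _).1 (Subtype.val_injective : Function.Injective (algebraMap B C))).le.trans bot_le)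
    obtain ⟨h1, h2⟩ := hmem ⟨Q', hQ'⟩
    let s := t (π (⟨Q', hQ'⟩ : PrimeSpectrum C))
    have hs : φ s ∉ q := fun h => h1 ((hQc.ge h : φ s ∈ Q'.comap _))
    have hcq : φ s * cB - φ (b (π (⟨Q', hQ'⟩ : PrimeSpectrum C))) ∈ q := hQc.le h2
    obtain ⟨z, hz⟩ := z
    induction hz using Algebra.adjoin_induction with
    | mem x hx =>
      obtain rfl : x = c := hx
      exact ⟨_, s, hs, hcq⟩
    | algebraMap r =>
      refine ⟨r, 1, by simpa using hq.one_notMem, ?_⟩
      rw [map_one, one_mul, show (⟨algebraMap A C r, _⟩ : B) = φ r from rfl, sub_self]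
      exact zero_mem _
    | add x y hx hy ihx ihy =>
      obtain ⟨a₁, s₁, n₁, m₁⟩ := ihx
      obtain ⟨a₂, s₂, n₂, m₂⟩ := ihy
      refine ⟨a₁ * s₂ + a₂ * s₁, s₁ * s₂, by rw [map_mul]; exact hq.mul_notMem n₁ n₂, ?_⟩
      convert add_mem (q.mul_mem_left (φ s₂) m₁) (q.mul_mem_left (φ s₁) m₂) using 1
      rw [show (⟨x + y, _⟩ : B) = ⟨x, hx⟩ + ⟨y, hy⟩ from rfl, map_add, map_mul, map_mul, map_mul]
      ring
    | mul x y hx hy ihx ihy =>
      obtain ⟨a₁, s₁, n₁, m₁⟩ := ihx
      obtain ⟨a₂, s₂, n₂, m₂⟩ := ihy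
      refine ⟨a₁ * a₂, s₁ * s₂, by rw [map_mul]; exact hq.mul_notMem n₁ n₂, ?_⟩
      convert add_mem (q.mul_mem_left (φ s₂ * ⟨y, hy⟩) m₁) (q.mul_mem_left (φ a₁) m₂) using 1
      rw [show (⟨x * y, _⟩ : B) = ⟨x, hx⟩ * ⟨y, hy⟩ from rfl, map_mul, map_mul]
      ring
  obtain ⟨a₀, ha₀⟩ := (Groth.Agent.HTop16.bijective_of_seminormal (B := B) hA hUH htriv).2 cB
  have hc0 : algebraMap A C a₀ = c := congrArg Subtype.val ha₀
  have hall : ∀ P, f P = Groth.Agent.HTop16.PtFunNormal.evA (A := CommRingCat.of A) P a₀ := fun P => by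
    obtain ⟨Q', -, hQ', hQc⟩ := Ideal.exists_ideal_over_prime_of_isIntegral (S := C) (P : PrimeSpectrum A).asIdeal ⊥
      (by rw [← RingHom.ker_eq_comap_bot, (RingHom.injective_iff_ker_eq_bot _).1 hinj]; exact bot_le)
    let q : Spec (CommRingCat.of C) := (⟨Q', hQ'⟩ : PrimeSpectrum C)
    obtain rfl : π q = P := PrimeSpectrum.ext hQc
    refine (π.residueFieldMap q).hom.injective ?_
    show π.residueFieldMap q (f (π q)) = π.residueFieldMap q _
    rw [key, hc0]
    exact hc q
  haveI : AlgebraicGeometry.IsReduced (Spec (CommRingCat.of A)) := inferInstance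
  refine ⟨(Scheme.ΓSpecIso (CommRingCat.of A)).inv a₀, funext fun x => (hall x).symm,
    fun b' hb => Groth.Agent.HTop16.PtFunBasic.ofSection_injective (hb.trans (funext fun x => hall x))⟩

end Groth.Agent.S13109
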