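import Groth.Statements.S0415
import Groth.Agent.UnivHomeo.Scheme

set_option autoImplicit false
universe u
open FlatMor

namespace Groth.Agent.S0415

open AlgebraicGeometry CategoryTheory Limits in
/-- A morphism of schemes is a universal homeomorphism if and only if it is integral, universally
injective and surjective. -/
theorem result {X Y : Scheme.{u}} (f : X ⟶ Y) :
    FlatMor.IsUnivHomeo f ↔ IsIntegralHom f ∧ UniversallyInjective f ∧ Surjective f := by
  constructor
  · intro h
    have hh : IsHomeomorph f.base := h (𝟙 X) (𝟙 Y) f (IsPullback.of_vert_isIso ⟨by simp⟩)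
    haveI : IsAffineHom f :=
      isAffineHom_of_isInducing f hh.isEmbedding.isInducing hh.isClosedEmbedding.isClosed_range
    haveI := Groth.Agent.UnivHomeo.universallyClosed_of_isUnivHomeo h
    exact ⟨IsIntegralHom.iff_universallyClosed_and_isAffineHom.2 ⟨inferInstance, inferInstance⟩,
      Groth.Agent.UnivHomeo.universallyInjective_of_isUnivHomeo h,
      Groth.Agent.UnivHomeo.surjective_of_isUnivHomeo h⟩
  · rintro ⟨h1, h2, h3⟩
    exact Groth.Agent.UnivHomeo.isUnivHomeo_of_integral_univInjective_surjective f

end Groth.Agent.S0415
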