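import Groth.Statements.S0416
import Mathlib
import Groth.Agent.S0415

set_option autoImplicit false
universe u
open FlatMor

namespace Groth.Agent.S0416

open AlgebraicGeometry CategoryTheory Limits in
/-- When a composite of two morphisms is a universal homeomorphism and so is either factor, the
remaining factor is a universal homeomorphism as well. -/
theorem result {X Y Z : Scheme.{u}} (g : X ⟶ Y) (h : Y ⟶ Z) :
    (FlatMor.IsUnivHomeo (g ≫ h) → FlatMor.IsUnivHomeo g → FlatMor.IsUnivHomeo h) ∧
    (FlatMor.IsUnivHomeo (g ≫ h) → FlatMor.IsUnivHomeo h → FlatMor.IsUnivHomeo g) := by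
  have : MorphismProperty.IsStableUnderBaseChange @UniversallyInjective.{u} := UniversallyInjective.isStableUnderBaseChange
  have : MorphismProperty.IsStableUnderComposition @UniversallyInjective.{u} := universallyInjective_isStableUnderComposition
  refine ⟨fun hgh hg => ?_, fun hgh hh => ?_⟩
  · intro Y' Z' i₁ i₂ h' hp
    let g' := pullback.snd g i₁
    have hg' : IsHomeomorph g'.base := hg (pullback.fst g i₁) i₁ g' (IsPullback.of_hasPullback g i₁).flip
    have hcomp : IsHomeomorph (g' ≫ h').base :=
      hgh (pullback.fst g i₁) i₂ (g' ≫ h') ((IsPullback.of_hasPullback g i₁).flip.paste_horiz hp)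
    show IsHomeomorph h'.base
    have heq : ⇑(g' ≫ h').base = ⇑h'.base ∘ ⇑g'.base := by ext; simp
    rw [heq] at hcomp
    have hs := hg'.homeomorph.symm.isHomeomorph
    have h3 := hcomp.comp hs
    convert h3 using 1
    ext y
    exact congrArg h'.base ((hg'.homeomorph).apply_symm_apply y).symm
  · rw [S0415.result] at hgh hh ⊢
    obtain ⟨hgh1, hgh2, hgh3⟩ := hgh
    obtain ⟨hh1, hh2, hh3⟩ := hh
    refine ⟨?_, ?_, ⟨fun y => ?_⟩⟩
    · exact MorphismProperty.of_postcomp (W := @IsIntegralHom.{u}) (W' := @IsSeparated.{u}) g h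
        inferInstance hgh1
    · let k : X ⟶ pullback (g ≫ h) h := pullback.lift (𝟙 X) g (by simp)
      have hk : k ≫ pullback.fst (g ≫ h) h = 𝟙 X := pullback.lift_fst _ _ _
      haveI : Mono k := mono_of_mono_fac hk
      haveI : UniversallyInjective k := (UniversallyInjective.iff_diagonal k).mpr inferInstance
      haveI : UniversallyInjective (pullback.snd (g ≫ h) h) :=
        MorphismProperty.of_isPullback (IsPullback.of_hasPullback (g ≫ h) h) hgh2
      have : k ≫ pullback.snd (g ≫ h) h = g := pullback.lift_snd _ _ _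
      rw [← this]
      exact MorphismProperty.comp_mem @UniversallyInjective.{u} k _ ‹_› ‹_›
    · obtain ⟨x, hx⟩ := (g ≫ h).surjective (h y)
      exact ⟨x, h.injective (by simpa using hx)⟩

end Groth.Agent.S0416
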