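import Groth.Statements.S1998
import Groth.Agent.HenselLib.Pair
import Groth.Agent.HenselLib.Perm

set_option autoImplicit false
universe u
open EtAlg

namespace Groth.Agent.S1998

/-- Let (A_j, I_j) be a directed system of henselian pairs (ring maps A_j -> A_k for j ≤ k carrying I_j
into I_k). Then the direct limit A of the A_j together with the ideal generated by the images of the
I_j is a henselian pair. -/
theorem result {ι : Type u} [Preorder ι] [IsDirected ι (· ≤ ·)] [Nonempty ι]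
    (G : ι → Type u) [∀ i, CommRing (G i)] (f : ∀ i j, i ≤ j → G i →+* G j)
    [DirectedSystem G fun i j h => f i j h] (I : ∀ i, Ideal (G i))
    (hI : ∀ i j (h : i ≤ j), (I i).map (f i j h) ≤ I j) (hh : ∀ i, HenselianRing (G i) (I i)) :
    HenselianRing (Ring.DirectLimit G fun i j h => f i j h)
      (⨆ i, (I i).map (Ring.DirectLimit.of G (fun i j h => f i j h) i)) := by
  classical
  set A := Ring.DirectLimit G fun i j h => f i j h
  let o : ∀ i, G i →+* A := fun i => Ring.DirectLimit.of G (fun i j h => f i j h) i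
  have hoc : ∀ i j (h : i ≤ j) x, o j (f i j h x) = o i x := fun i j h x => Ring.DirectLimit.of_f (f := fun i j h => f i j h) h x
  set J := ⨆ i, (I i).map (o i)
  have hmemI : ∀ i j (h : i ≤ j) x, x ∈ I i → f i j h x ∈ I j := fun i j h x hx =>
    hI i j h (Ideal.mem_map_of_mem _ hx)
  -- the limit ideal is the union of the images
  let U : Ideal A :=
    { carrier := {a | ∃ i, ∃ x ∈ I i, o i x = a}
      zero_mem' := ⟨Classical.arbitrary ι, 0, zero_mem _, map_zero _⟩
      add_mem' := by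
        rintro a b ⟨i, x, hx, rfl⟩ ⟨j, y, hy, rfl⟩
        obtain ⟨k, hik, hjk⟩ := exists_ge_ge i j
        exact ⟨k, f i k hik x + f j k hjk y, add_mem (hmemI _ _ _ x hx) (hmemI _ _ _ y hy),
          by rw [map_add, hoc, hoc]⟩
      smul_mem' := by
        rintro c _ ⟨i, x, hx, rfl⟩
        obtain ⟨j, y, rfl⟩ := Ring.DirectLimit.exists_of c
        obtain ⟨k, hik, hjk⟩ := exists_ge_ge i j
        refine ⟨k, f j k hjk y * f i k hik x, Ideal.mul_mem_left _ _ (hmemI _ _ _ x hx), ?_⟩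
        rw [map_mul, hoc, hoc]; rfl }
  have hJ : ∀ a ∈ J, ∃ i, ∃ x ∈ I i, o i x = a := fun a ha =>
    (iSup_le (fun i => Ideal.map_le_iff_le_comap.mpr fun x hx => (⟨i, x, hx, rfl⟩ : o i x ∈ U)) : J ≤ U) ha
  have hJ' : ∀ i, ∀ x ∈ I i, o i x ∈ J := fun i x hx =>
    le_iSup (fun i => (I i).map (o i)) i (Ideal.mem_map_of_mem _ hx)
  refine ⟨fun a ha => Ideal.mem_jacobson_bot.mpr fun c => ?_, fun F hF a₀ h0 h1 => ?_⟩
  · obtain ⟨i, x, hx, rfl⟩ := hJ a ha
    obtain ⟨j, y, rfl⟩ := Ring.DirectLimit.exists_of c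
    obtain ⟨k, hik, hjk⟩ := exists_ge_ge i j
    have h2 := (Ideal.mem_jacobson_bot.mp ((hh k).jac (hmemI i k hik x hx)) (f j k hjk y)).map (o k)
    rw [map_add, map_mul, map_one, hoc, hoc] at h2
    exact h2
  · obtain ⟨i₁, F₁, rfl⟩ := Ring.DirectLimit.Polynomial.exists_of F
    obtain ⟨i₂, x₂, rfl⟩ := Ring.DirectLimit.exists_of a₀
    obtain ⟨u, hu⟩ := h1.exists_left_inv
    obtain ⟨u, rfl⟩ := Ideal.Quotient.mk_surjective u
    obtain ⟨i₃, u₃, rfl⟩ := Ring.DirectLimit.exists_of u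
    rw [← map_mul, ← map_one (Ideal.Quotient.mk J), Ideal.Quotient.eq] at hu
    obtain ⟨i₄, y₄, hy₄, hy₄e⟩ := hJ _ hu
    obtain ⟨i₅, y₅, hy₅, hy₅e⟩ := hJ _ h0
    obtain ⟨m₁, h₁₁, h₁₂⟩ := exists_ge_ge i₁ i₂
    obtain ⟨m₂, h₂₃, h₂₄⟩ := exists_ge_ge i₃ i₄
    obtain ⟨m₃, h₃₁, h₃₂⟩ := exists_ge_ge m₁ m₂
    obtain ⟨k, hk₃, hk₅⟩ := exists_ge_ge m₃ i₅
    let F' := F₁.map (f i₁ k ((h₁₁.trans h₃₁).trans hk₃))
    let x' := f i₂ k ((h₁₂.trans h₃₁).trans hk₃) x₂
    have hmapF : F'.map (o k) = F₁.map (o i₁) := by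
      rw [Polynomial.map_map]; exact congrArg (F₁.map ·) (RingHom.ext fun z => hoc _ _ _ z)
    have hev : ∀ (P : Polynomial (G k)) z, (P.map (o k)).eval (o k z) = o k (P.eval z) := fun P z => by
      rw [Polynomial.eval_map, Polynomial.eval₂_at_apply]
    have hx' : o k x' = o i₂ x₂ := hoc _ _ _ _
    let u' := f i₃ k ((h₂₃.trans h₃₂).trans hk₃) u₃
    let y' := f i₅ k hk₅ y₅
    let z' := f i₄ k ((h₂₄.trans h₃₂).trans hk₃) y₄
    have e0 : o k (F'.eval x' - y') = 0 := by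
      rw [map_sub, ← hev, hmapF, hx', hoc, hy₅e, sub_self]
    have e1 : o k (u' * F'.derivative.eval x' - 1 - z') = 0 := by
      rw [map_sub, map_sub, map_mul, map_one, ← hev, ← Polynomial.derivative_map, hmapF, hx', hoc, hoc,
        hy₄e, sub_self]
    obtain ⟨l₁, hl₁, e0'⟩ := Ring.DirectLimit.of.zero_exact (f' := fun i j h => f i j h) e0
    obtain ⟨l₂, hl₂, e1'⟩ := Ring.DirectLimit.of.zero_exact (f' := fun i j h => f i j h) e1
    obtain ⟨l, hll₁, hll₂⟩ := exists_ge_ge l₁ l₂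
    have hkl : k ≤ l := hl₁.trans hll₁
    have push : ∀ j (hj : k ≤ j) (hjl : j ≤ l) z, f k j hj z = 0 → f k l hkl z = 0 := fun j hj hjl z hz => by
      rw [← DirectedSystem.map_map' (f := fun i j h => f i j h) hj hjl z, hz, map_zero]
    have g0 := push _ hl₁ hll₁ _ e0'
    have g1 := push _ hl₂ hll₂ _ e1'
    let F'' := F'.map (f k l hkl)
    have hev' : ∀ (P : Polynomial (G k)) z, (P.map (f k l hkl)).eval (f k l hkl z) = f k l hkl (P.eval z) :=
      fun P z => by rw [Polynomial.eval_map, Polynomial.eval₂_at_apply]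
    have := hh l
    obtain ⟨a, ha, ha'⟩ := Groth.Agent.HenselLib.exists_root (I l) F'' (f k l hkl x')
      (by
        rw [map_sub, sub_eq_zero] at g0
        rw [hev', g0]
        exact hmemI _ _ _ _ (hmemI _ _ _ _ hy₅))
      (by
        refine IsUnit.of_mul_eq_one (Ideal.Quotient.mk (I l) (f k l hkl u')) ?_
        rw [← map_mul, ← map_one (Ideal.Quotient.mk (I l)), Ideal.Quotient.eq, Polynomial.derivative_map,
          hev', mul_comm]
        rw [map_sub, map_sub, map_mul, map_one, sub_eq_zero] at g1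
        rw [g1]
        exact hmemI _ _ _ _ (hmemI _ _ _ _ hy₄))
    have hF'' : F''.map (o l) = F₁.map (o i₁) := by
      rw [← hmapF, Polynomial.map_map]; exact congrArg (F'.map ·) (RingHom.ext fun z => hoc _ _ _ z)
    refine ⟨o l a, ?_, ?_⟩
    · show (F₁.map (o i₁)).eval (o l a) = 0
      rw [← hF'', Polynomial.eval_map, Polynomial.eval₂_at_apply, ha.eq_zero, map_zero]
    · have h2 := hJ' l _ ha'
      rw [map_sub, hoc, hx'] at h2
      exact h2

end Groth.Agent.S1998
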