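import Groth.Statements.S9460
import Groth.Agent.HenselLib.HensBase

set_option autoImplicit false
universe u
open Hensel

namespace Groth.Agent.S9460
open Groth.Agent.HenselLib

open TensorProduct in
theorem aux (R : Type u) [CommRing R] (S : Type u)
    [CommRing S] [Algebra R S] (p : Ideal R) [p.IsPrime] (q : Ideal S) [q.IsPrime] [q.LiesOver p]
    (Rh : Type u) [CommRing Rh] [IsLocalRing Rh] [Algebra (Localization.AtPrime p) Rh]
    [IsLocalHom (algebraMap (Localization.AtPrime p) Rh)]
    [Hensel.IsStrictHenselization (Localization.AtPrime p) Rh] [Algebra R Rh]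
    [IsScalarTower R (Localization.AtPrime p) Rh]
    (Sh : Type u) [CommRing Sh] [IsLocalRing Sh] [Algebra (Localization.AtPrime q) Sh]
    [IsLocalHom (algebraMap (Localization.AtPrime q) Sh)]
    [Hensel.IsStrictHenselization (Localization.AtPrime q) Sh] [Algebra S Sh]
    [IsScalarTower S (Localization.AtPrime q) Sh] [Algebra R Sh] [IsScalarTower R S Sh]
    [Algebra Rh Sh] [IsScalarTower R Rh Sh]
    (Q : Ideal (Rh ⊗[R] S)) [Q.IsPrime]
    (hQ : ∀ t, t ∈ Q ↔ (Algebra.TensorProduct.lift (IsScalarTower.toAlgHom R Rh Sh) (IsScalarTower.toAlgHom R S Sh)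
    (fun _ _ => Commute.all _ _)) t ∈ IsLocalRing.maximalIdeal Sh)
    (E : Type u) [CommRing E] [IsLocalRing E] [Algebra (Localization.AtPrime Q) E]
    [IsLocalHom (algebraMap (Localization.AtPrime Q) E)]
    [Hensel.IsStrictHenselization (Localization.AtPrime Q) E] :
    ∃ e : E ≃+* Sh, ∀ d : Rh ⊗[R] S,
      e (algebraMap (Localization.AtPrime Q) E (algebraMap (Rh ⊗[R] S) _ d)) = (Algebra.TensorProduct.lift (IsScalarTower.toAlgHom R Rh Sh) (IsScalarTower.toAlgHom R S Sh)
    (fun _ _ => Commute.all _ _)) d := by
  have := (inferInstance : Hensel.IsStrictHenselization (Localization.AtPrime q) Sh).henselian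
  let φ := (Algebra.TensorProduct.lift (IsScalarTower.toAlgHom R Rh Sh) (IsScalarTower.toAlgHom R S Sh)
    (fun _ _ => Commute.all _ _))
  have := (inferInstance : Hensel.IsStrictHenselization (Localization.AtPrime Q) E).henselian
  have hφS : ∀ s : S, φ ((1 : Rh) ⊗ₜ[R] s) = algebraMap S Sh s := fun s => by simp [φ]
  -- E -> Sh
  let f : Localization.AtPrime Q →+* Sh := IsLocalization.lift (M := Q.primeCompl) (g := φ.toRingHom)
    fun y => IsLocalRing.notMem_maximalIdeal.mp ((hQ _).not.mp y.2)
  have hfT : ∀ t : Rh ⊗[R] S, f (algebraMap (Rh ⊗[R] S) _ t) = φ t := fun t =>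
    IsLocalization.lift_eq _ t
  have hf : IsLocalHom f := HensBase.isLocalHom_of_comap_eq Q f (Ideal.ext fun t => by
    rw [Ideal.mem_comap, RingHom.comp_apply, hfT, hQ])
  have := (inferInstance : Hensel.IsStrictHenselization (Localization.AtPrime Q) E).isSepClosure
  have hsq := (inferInstance : Hensel.IsStrictHenselization (Localization.AtPrime q) Sh).isSepClosure
  have : IsSepClosed (IsLocalRing.ResidueField Sh) := hsq.sep_closed
  have : IsSepClosed (IsLocalRing.ResidueField E) :=
    IsSepClosure.sep_closed (IsLocalRing.ResidueField (Localization.AtPrime Q))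
  have : Algebra.IsSeparable (IsLocalRing.ResidueField (Localization.AtPrime q))
    (IsLocalRing.ResidueField Sh) := hsq.separable
  have : Algebra.IsSeparable (IsLocalRing.ResidueField (Localization.AtPrime Q))
    (IsLocalRing.ResidueField E) := IsSepClosure.separable
  let : Algebra (IsLocalRing.ResidueField (Localization.AtPrime Q)) (IsLocalRing.ResidueField Sh) :=
    (IsLocalRing.ResidueField.map f).toAlgebra
  let τ₀ : IsLocalRing.ResidueField E →ₐ[IsLocalRing.ResidueField (Localization.AtPrime Q)]
      IsLocalRing.ResidueField Sh := IsSepClosed.lift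
  obtain ⟨g, ⟨hg, hgres⟩, -⟩ :=
    (inferInstance : Hensel.IsStrictHenselization (Localization.AtPrime Q) E).universal Sh f
      τ₀.toRingHom τ₀.comp_algebraMap
  have hgT : ∀ t : Rh ⊗[R] S, g (algebraMap _ E (algebraMap (Rh ⊗[R] S) (Localization.AtPrime Q) t)) =
      φ t := fun t => (congr($hg (algebraMap _ _ t))).trans (hfT t)
  let γ : Rh ⊗[R] S →+* E :=
    (algebraMap (Localization.AtPrime Q) E).comp (algebraMap _ (Localization.AtPrime Q))
  have hγ : ∀ t, γ t ∈ IsLocalRing.maximalIdeal E ↔ t ∈ Q := fun t => by
    rw [show γ t = algebraMap (Localization.AtPrime Q) E (algebraMap _ _ t) from rfl,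
      IsLocalRing.mem_maximalIdeal, mem_nonunits_iff, isUnit_map_iff,
      ← mem_nonunits_iff, ← IsLocalRing.mem_maximalIdeal,
      IsLocalization.AtPrime.to_map_mem_maximal_iff (Localization.AtPrime Q) Q]
  -- S_q -> E
  let i₂ : S →+* E := γ.comp (Algebra.TensorProduct.includeRight : S →ₐ[R] Rh ⊗[R] S).toRingHom
  have hi₂ : ∀ s, i₂ s ∈ IsLocalRing.maximalIdeal E ↔ s ∈ q := fun s => by
    rw [show i₂ s = γ ((1 : Rh) ⊗ₜ[R] s) from rfl, hγ, hQ, hφS,
      IsScalarTower.algebraMap_apply S (Localization.AtPrime q) Sh,
      IsLocalRing.mem_maximalIdeal, mem_nonunits_iff, isUnit_map_iff,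
      ← mem_nonunits_iff, ← IsLocalRing.mem_maximalIdeal,
      IsLocalization.AtPrime.to_map_mem_maximal_iff (Localization.AtPrime q) q]
  let f₂ : Localization.AtPrime q →+* E := IsLocalization.lift (M := q.primeCompl) (g := i₂)
    fun y => IsLocalRing.notMem_maximalIdeal.mp ((hi₂ _).not.mpr y.2)
  have hf₂ : IsLocalHom f₂ := HensBase.isLocalHom_of_comap_eq q f₂ (Ideal.ext fun s => by
    rw [Ideal.mem_comap, RingHom.comp_apply, IsLocalization.lift_eq]; exact hi₂ s)
  have hcompat : τ₀.toRingHom.comp (IsLocalRing.ResidueField.map f₂) =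
      IsLocalRing.ResidueField.map (algebraMap (Localization.AtPrime q) Sh) := by
    refine Ideal.ResidueField.ringHom_ext (RingHom.ext fun s => ?_)
    show τ₀ (IsLocalRing.ResidueField.map f₂ (IsLocalRing.residue _ (algebraMap S _ s))) =
      IsLocalRing.residue Sh (algebraMap (Localization.AtPrime q) Sh (algebraMap S _ s))
    rw [← IsScalarTower.algebraMap_apply]
    show τ₀.toRingHom (IsLocalRing.residue E (f₂ (algebraMap S _ s))) = _
    rw [← hgres, IsLocalization.lift_eq, show g (i₂ s) = algebraMap S Sh s from (hgT _).trans (hφS s)]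
  have hτsurj : Function.Surjective τ₀ := by
    let : Algebra (IsLocalRing.ResidueField E) (IsLocalRing.ResidueField Sh) := τ₀.toRingHom.toAlgebra
    let : Algebra (IsLocalRing.ResidueField (Localization.AtPrime q)) (IsLocalRing.ResidueField E) :=
      (IsLocalRing.ResidueField.map f₂).toAlgebra
    have : IsScalarTower (IsLocalRing.ResidueField (Localization.AtPrime q))
        (IsLocalRing.ResidueField E) (IsLocalRing.ResidueField Sh) :=
      IsScalarTower.of_algebraMap_eq fun x => congr($hcompat.symm x)
    have : Algebra.IsSeparable (IsLocalRing.ResidueField E) (IsLocalRing.ResidueField Sh) :=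
      Algebra.isSeparable_tower_top_of_isSeparable (IsLocalRing.ResidueField (Localization.AtPrime q)) _ _
    exact (IsSepClosed.algebraMap_surjective (IsLocalRing.ResidueField E) (IsLocalRing.ResidueField Sh))
  let e₀ := RingEquiv.ofBijective τ₀.toRingHom ⟨τ₀.toRingHom.injective, hτsurj⟩
  obtain ⟨h, ⟨hh, hhres⟩, -⟩ :=
    (inferInstance : Hensel.IsStrictHenselization (Localization.AtPrime q) Sh).universal E f₂
      e₀.symm.toRingHom (RingHom.ext fun x => e₀.injective (by
        show e₀ (e₀.symm _) = _
        rw [e₀.apply_symm_apply]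
        exact congr($hcompat.symm x)))
  have hres : ∀ x : E, IsLocalRing.residue E (h (g x)) = IsLocalRing.residue E x := fun x => by
    rw [hhres, hgres]
    exact e₀.symm_apply_apply _
  have hhS : ∀ s, h (algebraMap S Sh s) = i₂ s := fun s => by
    rw [IsScalarTower.algebraMap_apply S (Localization.AtPrime q) Sh]
    exact (congr($hh (algebraMap _ _ s))).trans (IsLocalization.lift_eq _ s)
  have h1 : g.comp h = RingHom.id Sh :=
    ((inferInstance : Hensel.IsStrictHenselization (Localization.AtPrime q) Sh).universal Sh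
      (algebraMap (Localization.AtPrime q) Sh) (RingHom.id _) (RingHom.id_comp _)).unique
      ⟨(IsLocalization.ringHom_ext q.primeCompl (RingHom.ext fun s => by
        show g (h (algebraMap _ Sh (algebraMap S _ s))) = _
        rw [← IsScalarTower.algebraMap_apply, hhS]
        refine (hgT _).trans ?_
        exact (hφS s).trans (IsScalarTower.algebraMap_apply S (Localization.AtPrime q) Sh s))),
        fun x => by
          show IsLocalRing.residue Sh (g (h x)) = IsLocalRing.residue Sh x
          rw [hgres, hhres]
          exact e₀.apply_symm_apply _⟩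
      ⟨RingHom.id_comp _, fun _ => rfl⟩
  -- maps out of Rh
  let ι : Rh →+* E := γ.comp Algebra.TensorProduct.includeLeftRingHom
  have hιR : ∀ r : R, ι (algebraMap R Rh r) = i₂ (algebraMap R S r) := fun r =>
    congrArg γ (((Algebra.TensorProduct.includeLeft : Rh →ₐ[R] Rh ⊗[R] S).commutes r).trans
      ((Algebra.TensorProduct.includeRight : S →ₐ[R] Rh ⊗[R] S).commutes r).symm)
  let f₃ : Localization.AtPrime p →+* E := ι.comp (algebraMap (Localization.AtPrime p) Rh)
  have hf₃ : IsLocalHom f₃ := HensBase.isLocalHom_of_comap_eq p f₃ (Ideal.ext fun r => by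
    rw [Ideal.mem_comap, RingHom.comp_apply]
    show ι (algebraMap _ Rh (algebraMap R _ r)) ∈ _ ↔ _
    rw [← IsScalarTower.algebraMap_apply, hιR, hi₂, ← Ideal.mem_comap]
    exact ((Ideal.ext_iff.mp (q.over_def p)) r).symm)
  have hιloc : IsLocalHom ι := by
    refine ((IsLocalRing.local_hom_TFAE ι).out 0 2).mpr ?_
    rw [← HensBase.map_maximalIdeal_of_isStrictHenselization (Localization.AtPrime p) Rh,
      Ideal.map_map]
    exact ((IsLocalRing.local_hom_TFAE f₃).out 0 2).mp hf₃
  have key : (h.comp g).comp ι = ι :=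
    ((inferInstance : Hensel.IsStrictHenselization (Localization.AtPrime p) Rh).universal E f₃
      (IsLocalRing.ResidueField.map ι) (IsLocalRing.ResidueField.map_comp _ _).symm).unique
      ⟨(IsLocalization.ringHom_ext p.primeCompl (RingHom.ext fun r => by
        show h (g (ι (algebraMap _ Rh (algebraMap R _ r)))) = ι (algebraMap _ Rh (algebraMap R _ r))
        rw [← IsScalarTower.algebraMap_apply, hιR]
        rw [show g (i₂ (algebraMap R S r)) = algebraMap S Sh (algebraMap R S r) from
          (hgT _).trans (hφS _), hhS])), fun x => hres (ι x)⟩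
      ⟨rfl, fun _ => rfl⟩
  have h2 : h.comp g = RingHom.id E :=
    ((inferInstance : Hensel.IsStrictHenselization (Localization.AtPrime Q) E).universal E
      (algebraMap (Localization.AtPrime Q) E) (RingHom.id _) (RingHom.id_comp _)).unique
      ⟨(IsLocalization.ringHom_ext Q.primeCompl (RingHom.ext fun t => by
        show h (g (γ t)) = γ t
        induction t using TensorProduct.induction_on with
        | zero => simp
        | tmul a s =>
          rw [show a ⊗ₜ[R] s = (a ⊗ₜ[R] (1 : S)) * ((1 : Rh) ⊗ₜ[R] s) by simp, map_mul, map_mul,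
            map_mul]
          refine congrArg₂ (· * ·) congr($key a) ?_
          exact (congrArg h ((hgT _).trans (hφS s))).trans (hhS s)
        | add x y hx hy => rw [map_add, map_add, map_add, hx, hy])), hres⟩
      ⟨RingHom.id_comp _, fun _ => rfl⟩
  exact ⟨RingEquiv.ofRingHom g h h1 h2, hgT⟩


open TensorProduct in
/-- Let R → S be a ring map, q a prime of S over p, and R^{sh}, S^{sh} strict henselizations of R_p and
S_q, S^{sh} carrying a compatible R^{sh}-algebra structure (a map R^{sh} → S^{sh} over R; these
correspond to the embeddings of separable closures in the published statement). Let φ : R^{sh} ⊗_R S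
→ S^{sh} be the induced map and Q the preimage under φ of the maximal ideal (a prime over the
maximal ideal of R^{sh} and over q). Then S^{sh} is a strict henselization of (R^{sh} ⊗_R S)_Q:
every strict henselization E of that local ring admits a ring isomorphism E ≅ S^{sh} compatible with
the two maps from R^{sh} ⊗_R S. -/
theorem result (R : Type u) [CommRing R]
    (S : Type u) [CommRing S] [Algebra R S] (p : Ideal R) [p.IsPrime] (q : Ideal S) [q.IsPrime]
    [q.LiesOver p]
    (Rh : Type u) [CommRing Rh] [IsLocalRing Rh] [Algebra (Localization.AtPrime p) Rh]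
    [IsLocalHom (algebraMap (Localization.AtPrime p) Rh)]
    [Hensel.IsStrictHenselization (Localization.AtPrime p) Rh] [Algebra R Rh]
    [IsScalarTower R (Localization.AtPrime p) Rh]
    (Sh : Type u) [CommRing Sh] [IsLocalRing Sh] [Algebra (Localization.AtPrime q) Sh]
    [IsLocalHom (algebraMap (Localization.AtPrime q) Sh)]
    [Hensel.IsStrictHenselization (Localization.AtPrime q) Sh] [Algebra S Sh]
    [IsScalarTower S (Localization.AtPrime q) Sh] [Algebra R Sh] [IsScalarTower R S Sh]
    [Algebra Rh Sh] [IsScalarTower R Rh Sh]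
    (E : Type u) [CommRing E] [IsLocalRing E]
    [Algebra (Localization.AtPrime (Ideal.comap (Algebra.TensorProduct.lift (IsScalarTower.toAlgHom R Rh Sh) (IsScalarTower.toAlgHom R S Sh)
          (fun _ _ => Commute.all _ _)) (IsLocalRing.maximalIdeal Sh))) E]
    [IsLocalHom (algebraMap (Localization.AtPrime
      (Ideal.comap (Algebra.TensorProduct.lift (IsScalarTower.toAlgHom R Rh Sh) (IsScalarTower.toAlgHom R S Sh)
          (fun _ _ => Commute.all _ _)) (IsLocalRing.maximalIdeal Sh))) E)]
    [Hensel.IsStrictHenselization (Localization.AtPrime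
      (Ideal.comap (Algebra.TensorProduct.lift (IsScalarTower.toAlgHom R Rh Sh) (IsScalarTower.toAlgHom R S Sh)
          (fun _ _ => Commute.all _ _)) (IsLocalRing.maximalIdeal Sh))) E] :
    ∃ e : E ≃+* Sh, ∀ d : Rh ⊗[R] S,
      e (algebraMap (Localization.AtPrime
        (Ideal.comap (Algebra.TensorProduct.lift (IsScalarTower.toAlgHom R Rh Sh) (IsScalarTower.toAlgHom R S Sh)
          (fun _ _ => Commute.all _ _)) (IsLocalRing.maximalIdeal Sh))) E
        (algebraMap (Rh ⊗[R] S) _ d)) = (Algebra.TensorProduct.lift (IsScalarTower.toAlgHom R Rh Sh) (IsScalarTower.toAlgHom R S Sh)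
          (fun _ _ => Commute.all _ _)) d := by
  exact aux R S p q Rh Sh _ (fun _ => Iff.rfl) E

end Groth.Agent.S9460
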