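import Groth.Statements.S12832
import Groth.Agent.Stk19b.AlgClosedPts

set_option autoImplicit false
set_option linter.style.haveILetI false
universe u
open CategoryTheory AlgebraicGeometry
open Groth.Agent.Stk19 Groth.Agent.Desc19
open AlgSt

set_option backward.isDefEq.respectTransparency.types false
set_option backward.isDefEq.respectTransparency false

namespace Groth.Agent.S12832


/-- (2) ⇔ (3): for a morphism `f : 𝒳 ⟶ 𝒴` of algebraic stacks over `S`, the diagonal `𝒳 ⟶ 𝒳 ×_𝒴 𝒳` is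
surjective on points if and only if for every algebraically closed field `k`, all `x₁, x₂ : Spec k ⟶
𝒳` and every 2-arrow `β : f ∘ x₁ ⟶ f ∘ x₂` there is a 2-arrow `α : x₁ ⟶ x₂` with `β = f ⋆ α`; the
2-arrows are written through objects `a₁, a₂` of `𝒳` over `Spec k` and morphisms lying over the
identity of `Spec k`. -/
theorem result {S : Scheme.{u}} {𝒳 𝒴 : AlgSt.Cat S}
    (h𝒳 : AlgSt.IsAlgStack Scheme.fppfPrecoverage 𝒳) (h𝒴 : AlgSt.IsAlgStack Scheme.fppfPrecoverage 𝒴) (f : 𝒳 ⥤ᵇ 𝒴) :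
    AlgSt.IsSurjective (FibCat.diag f) ↔
      ∀ (k : Type u) [Field k] [IsAlgClosed k] (s : Spec (CommRingCat.of k) ⟶ S) (a₁ a₂ : 𝒳.obj)
        (_ : 𝒳.p.obj a₁ = Over.mk s) (_ : 𝒳.p.obj a₂ = Over.mk s) (β : f.obj a₁ ⟶ f.obj a₂),
        𝒴.p.IsHomLift (𝟙 (Over.mk s)) β →
          ∃ α : a₁ ⟶ a₂, 𝒳.p.IsHomLift (𝟙 (Over.mk s)) α ∧ f.map α = β := by
  constructor
  · intro hs k _ _ s a₁ a₂ ha₁ ha₂ β hβ
    haveI := fibGrpd_isIso_vert h𝒴.isStack.1 (R := Over.mk s) β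
    let P : (FibCat.fp f f).obj := ⟨{ fst := a₁, snd := a₂, iso := asIso β },
      show 𝒴.p.IsHomLift (𝟙 (𝒳.p.obj a₁)) β from vert_change 𝒴.p β hβ (f.w_obj a₁)⟩
    obtain ⟨a, φ, ha, hφ⟩ := Groth.Agent.Stk19b.exists_lift_algClosed h𝒳.isStack.1
      (fibGrpd_fp h𝒳.isStack.1 h𝒳.isStack.1 h𝒴.isStack.1 f f) (diag_lft h𝒳 h𝒴 f) hs k s P ha₁
    let i₁ : a ≅ a₁ := (FibCat.fpFst f f).toFunctor.mapIso φ
    let i₂ : a ≅ a₂ := (FibCat.fpSnd f f).toFunctor.mapIso φ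
    have hi₁ : 𝒳.p.IsHomLift (𝟙 (Over.mk s)) i₁.hom :=
      BasedFunctor.preserves_isHomLift (FibCat.fpFst f f) (𝟙 (Over.mk s)) φ.hom
    have hi₂ : 𝒳.p.IsHomLift (𝟙 (Over.mk s)) i₂.hom :=
      BasedFunctor.preserves_isHomLift (FibCat.fpSnd f f) (𝟙 (Over.mk s)) φ.hom
    refine ⟨i₁.inv ≫ i₂.hom, vert_comp 𝒳.p _ _ (vert_inv 𝒳.p i₁ hi₁) hi₂, ?_⟩
    have hw : f.map i₁.hom ≫ β = 𝟙 _ ≫ f.map i₂.hom := φ.hom.hom.w
    rw [Category.id_comp] at hw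
    rw [f.toFunctor.map_comp, ← hw, ← f.toFunctor.map_comp_assoc, i₁.inv_hom_id, f.toFunctor.map_id,
      Category.id_comp]
  · intro h
    rintro Q
    obtain ⟨p, rfl⟩ := AlgSt.Points.mk_surjective Q
    have hfp := fibGrpd_fp h𝒳.isStack.1 h𝒳.isStack.1 h𝒴.isStack.1 f f
    let K := AlgebraicClosure p.K
    let ι : Spec (CommRingCat.of K) ⟶ Spec (CommRingCat.of p.K) :=
      Spec.map (CommRingCat.ofHom (algebraMap p.K K))
    let c : Over.mk (ι ≫ p.str) ⟶ Over.mk p.str := Over.homMk ι rfl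
    obtain ⟨w, l, e, -⟩ := fibGrpd_lift hfp p.obj (c ≫ eqToHom p.lies.symm)
    have e₁ : 𝒳.p.obj w.obj.fst = Over.mk (ι ≫ p.str) := e
    have e₂ : 𝒳.p.obj w.obj.snd = Over.mk (ι ≫ p.str) := (fp_base_eq w).trans e₁
    have hβ : 𝒴.p.IsHomLift (𝟙 (Over.mk (ι ≫ p.str))) w.obj.iso.hom :=
      vert_change 𝒴.p _ w.property ((f.w_obj _).trans e₁)
    obtain ⟨α, hα, hfα⟩ := h K (ι ≫ p.str) w.obj.fst w.obj.snd e₁ e₂ w.obj.iso.hom hβ
    haveI := fibGrpd_isIso_vert h𝒳.isStack.1 (R := Over.mk (ι ≫ p.str)) α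
    let m : (FibCat.diag f).obj w.obj.fst ≅ w := fpIsoMk (Iso.refl _) (asIso α) (by
      show f.map (𝟙 _) ≫ w.obj.iso.hom = 𝟙 _ ≫ f.map α
      rw [f.toFunctor.map_id, Category.id_comp, Category.id_comp, hfα])
    let q : AlgSt.FPt 𝒳 := { K := K, str := ι ≫ p.str, obj := w.obj.fst, lies := e₁ }
    exact ⟨AlgSt.Points.mk q, AlgSt.Points.sound ⟨q.map (FibCat.diag f), 𝟙 _, m.hom ≫ l, trivial⟩⟩

end Groth.Agent.S12832
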