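import Groth.Statements.S0504
import Groth.Agent.HenselLib.QFPart
import Groth.Agent.HenselLib.Perm

set_option autoImplicit false
universe u
open Hensel

namespace Groth.Agent.S0504

/-- A finite-type algebra `S` over a henselian local ring `R` contains an idempotent `e` such that
`S/(1-e)` is finitely generated as an `R`-module and `R → S/(e)` is quasi-finite at no prime lying
over the maximal ideal of `R`. -/
theorem result (R : Type u) [CommRing R] [HenselianLocalRing R]
    (S : Type u) [CommRing S] [Algebra R S] [Algebra.FiniteType R S] :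
    ∃ e : S, IsIdempotentElem e ∧ Module.Finite R (S ⧸ Ideal.span ({1 - e} : Set S)) ∧
      ∀ (q : Ideal (S ⧸ Ideal.span ({e} : Set S))) [q.IsPrime],
        q.LiesOver (IsLocalRing.maximalIdeal R) → ¬ Algebra.QuasiFiniteAt R q := by
  classical
  set m := IsLocalRing.maximalIdeal R
  have : HenselianRing R m := Groth.Agent.HenselLib.henselianRing_maximalIdeal R
  set IB := m.map (algebraMap R S) with hIB
  let k := R ⧸ m
  let : Field k := Ideal.Quotient.field m
  let C := S ⧸ IB
  let ρ := Ideal.Quotient.mk IB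
  have : Algebra.FiniteType k C := Algebra.FiniteType.of_restrictScalars_finiteType R k C
  have : IsNoetherianRing C := Algebra.FiniteType.isNoetherianRing k C
  set L := Groth.Agent.HenselLib.zmtLocus R S
  -- each element of the locus gives an idempotent with finite part
  have hloc : ∀ s ∈ L, ∃ (y : S) (G : Finset S), y * y - y ∈ IB ∧ y ∈ Ideal.span (L : Set S) ⊔ IB ∧
      (∀ q : Ideal S, q.IsPrime → IB ≤ q → s ∉ q → y ∉ q) ∧
      ∀ x : S, ∃ c : S → R, y * x - ∑ g ∈ G, c g • g ∈ IB := by
    intro s hs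
    obtain ⟨G₀, hG₀⟩ := Algebra.FiniteType.out (R := R) (A := S)
    choose nx hnx using hs.2
    let T : Set S := insert s ((fun x => s ^ nx x * x) '' (G₀ : Set S))
    let B₀ := Algebra.adjoin R T
    have hfg : B₀.toSubmodule.FG := fg_adjoin_of_finite ((G₀.finite_toSet.image _).insert _) (by
      rintro _ (rfl | ⟨x, _, rfl⟩)
      exacts [hs.1, hnx x])
    have hsB : s ∈ B₀ := Algebra.subset_adjoin (Set.mem_insert _ _)
    have hpow : ∀ x : S, ∃ n, s ^ n * x ∈ B₀ := by
      intro x
      have hx : x ∈ Algebra.adjoin R (G₀ : Set S) := by rw [hG₀]; trivial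
      induction hx using Algebra.adjoin_induction with
      | mem x hx => exact ⟨nx x, Algebra.subset_adjoin (Set.mem_insert_of_mem _ ⟨x, hx, rfl⟩)⟩
      | algebraMap r => exact ⟨0, by simp⟩
      | add x y _ _ hx hy =>
          obtain ⟨n, hn⟩ := hx; obtain ⟨m, hm⟩ := hy
          refine ⟨n + m, ?_⟩
          rw [show s ^ (n + m) * (x + y) = s ^ m * (s ^ n * x) + s ^ n * (s ^ m * y) by ring]
          exact add_mem (mul_mem (pow_mem hsB _) hn) (mul_mem (pow_mem hsB _) hm)
      | mul x y _ _ hx hy =>
          obtain ⟨n, hn⟩ := hx; obtain ⟨m, hm⟩ := hy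
          refine ⟨n + m, ?_⟩
          rw [show s ^ (n + m) * (x * y) = (s ^ n * x) * (s ^ m * y) by ring]
          exact mul_mem hn hm
    -- powers of `s` stabilise up to units in the closed fibre
    have hM : Module.Finite R B₀ := ⟨(Submodule.fg_top _).mpr hfg⟩
    let φ : B₀ →ₐ[R] C := (Ideal.Quotient.mkₐ R IB).comp B₀.val
    let P : Subalgebra R C := φ.range
    have : Module.Finite R P := Module.Finite.of_surjective φ.rangeRestrict.toLinearMap φ.rangeRestrict_surjective
    let : Algebra k P := (Ideal.Quotient.lift m (algebraMap R P) fun r hr => Subtype.ext (by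
      show algebraMap R C r = 0
      exact Ideal.Quotient.eq_zero_iff_mem.mpr (Ideal.mem_map_of_mem _ hr))).toAlgebra
    have : IsScalarTower R k P := IsScalarTower.of_algebraMap_eq fun r => rfl
    have : Module.Finite k P := Module.Finite.of_restrictScalars_finite R k P
    have : IsArtinianRing P := IsArtinianRing.of_finite k P
    obtain ⟨n, u, hu⟩ := IsArtinian.exists_pow_succ_smul_dvd (φ.rangeRestrict ⟨s, hsB⟩) (1 : P)
    obtain ⟨w, hw⟩ := φ.rangeRestrict_surjective u
    simp only [smul_eq_mul, mul_one] at hu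
    have hu' : ρ (s ^ (n + 1) * w) = ρ (s ^ n) := by
      have := congrArg (fun p : P => (p : C)) hu
      rw [← hw] at this
      simpa [φ, ρ] using this
    obtain ⟨N, gs, hgs⟩ := Module.Finite.exists_fin (R := R) (M := B₀)
    refine ⟨(s * w) ^ (n + 1), Finset.univ.image fun i => (gs i : S), ?_⟩
    have hstep : ∀ j, ρ (s ^ n * (s * w) ^ j) = ρ (s ^ n) := fun j => by
      induction j with
      | zero => simp
      | succ j ih =>
          rw [pow_succ, ← mul_assoc, map_mul, ih, ← map_mul, ← mul_assoc, ← pow_succ, hu']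
    have hy : ρ ((s * w) ^ (n + 1) * (s * w) ^ (n + 1)) = ρ ((s * w) ^ (n + 1)) := by
      have h1 := hstep (n + 1)
      calc ρ ((s * w) ^ (n + 1) * (s * w) ^ (n + 1))
          = ρ (s * (w : S) ^ (n + 1)) * ρ (s ^ n * (s * w) ^ (n + 1)) := by
            rw [← map_mul]; exact congrArg ρ (by ring)
        _ = ρ (s * (w : S) ^ (n + 1)) * ρ (s ^ n) := by rw [h1]
        _ = _ := by rw [← map_mul]; exact congrArg ρ (by ring)
    refine ⟨Ideal.Quotient.eq.mp hy, Submodule.mem_sup_left ?_, ?_⟩
    · rw [mul_pow, pow_succ s, mul_comm (s ^ n) s, mul_assoc, mul_comm s]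
      exact Ideal.mul_mem_left _ _ (Ideal.subset_span hs)
    refine ⟨fun q hq hIq hsq hyq => ?_, fun x => ?_⟩
    · have h1 : s ^ (n + 1) * w - s ^ n ∈ q := hIq (Ideal.Quotient.eq.mp hu')
      have h2 : s * (w : S) ∈ q := hq.mem_of_pow_mem _ hyq
      have h3 : s ^ n ∈ q := by
        have : s ^ (n + 1) * (w : S) ∈ q := by rw [pow_succ, mul_assoc]; exact Ideal.mul_mem_left _ _ h2
        simpa using sub_mem this h1
      exact hsq (hq.mem_of_pow_mem _ h3)
    · obtain ⟨K, hK⟩ := hpow x
      have hyK : (s * (w : S)) ^ ((n + 1) * (K + 1)) * x ∈ B₀ := by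
        obtain ⟨j, hj⟩ : ∃ j, (n + 1) * (K + 1) = K + j := ⟨n * K + n + 1, by ring⟩
        rw [hj, show (s * (w : S)) ^ (K + j) * x = (s ^ j * ((w : S) ^ K * (w : S) ^ j)) * (s ^ K * x) by
          rw [mul_pow, pow_add, pow_add]; ring]
        exact mul_mem (mul_mem (pow_mem hsB _) (mul_mem (pow_mem w.2 _) (pow_mem w.2 _))) hK
      have hyeq : ρ ((s * (w : S)) ^ (n + 1) * x) = ρ ((s * (w : S)) ^ ((n + 1) * (K + 1)) * x) := by
        have hid : IsIdempotentElem (ρ ((s * (w : S)) ^ (n + 1))) := by
          show _ * _ = _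
          rw [← map_mul]; exact hy
        rw [map_mul, map_mul, pow_mul, map_pow ρ _ (K + 1), hid.pow_succ_eq]
      have hmem : (⟨_, hyK⟩ : B₀) ∈ Submodule.span R (Set.range gs) := by rw [hgs]; trivial
      have hmem' := Submodule.mem_map_of_mem (f := B₀.val.toLinearMap) hmem
      rw [Submodule.map_span, ← Set.range_comp] at hmem'
      have hr : Set.range (B₀.val.toLinearMap ∘ gs) =
          ((Finset.univ.image fun i => (gs i : S) : Finset S) : Set S) := by ext; simp
      rw [hr] at hmem'
      obtain ⟨c, hc⟩ := Submodule.mem_span_finset.mp hmem'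
      exact ⟨c, Ideal.Quotient.eq.mp (hyeq.trans (congrArg ρ hc.2.symm))⟩
  choose! yf Gf hyy hyL hynot hyfin using hloc
  -- finitely many suffice
  have hJfg : ((Ideal.span (L : Set S)).map ρ).FG := IsNoetherian.noetherian _
  rw [Ideal.map_span] at hJfg
  obtain ⟨t, htL, htspan⟩ : ∃ t : Finset S, (t : Set S) ⊆ L ∧ Ideal.span (ρ '' t) = Ideal.span (ρ '' L) := by
    obtain ⟨t', ht'sub, ht'⟩ := Submodule.fg_span_iff_fg_span_finset_subset (ρ '' (L : Set S)) |>.mp hJfg
    choose pre hpre hpre' using fun z : t' => ht'sub z.2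
    refine ⟨Finset.univ.image pre, ?_, ?_⟩
    · intro z hz
      obtain ⟨z', -, rfl⟩ := Finset.mem_image.mp hz
      exact hpre z'
    · rw [show ρ '' ((Finset.univ.image pre : Finset S) : Set S) = (t' : Set C) by
        ext z; simp only [Finset.coe_image, Finset.coe_univ, Set.image_univ, ← Set.range_comp]
        constructor
        · rintro ⟨z', rfl⟩; rw [Function.comp_apply, hpre']; exact z'.2
        · intro hz; exact ⟨⟨z, hz⟩, hpre' ⟨z, hz⟩⟩]
      exact ht'.symm
  obtain ⟨y, hy2, hyL', hnot, G, hG⟩ : ∃ y : S, y * y - y ∈ IB ∧ y ∈ Ideal.span (L : Set S) ⊔ IB ∧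
      (∀ q : Ideal S, q.IsPrime → IB ≤ q → (∃ s ∈ t, s ∉ q) → y ∉ q) ∧
      ∃ G : Finset S, ∀ x : S, ∃ c : S → R, y * x - ∑ g ∈ G, c g • g ∈ IB := by
    clear htspan
    induction t using Finset.induction_on with
    | empty =>
        exact ⟨0, by simp, by simp, fun q _ _ ⟨s, hs, _⟩ => absurd hs (Finset.notMem_empty s),
          ∅, fun x => ⟨0, by simp⟩⟩
    | insert a t hat ih =>
        rw [Finset.coe_insert, Set.insert_subset_iff] at htL
        obtain ⟨y, hy2, hyL', hnot, G, hG⟩ := ih htL.2
        set z := yf a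
        have hz2 : z * z - z ∈ IB := hyy a htL.1
        refine ⟨y + z - y * z, ?_, ?_, ?_, G ∪ Gf a, ?_⟩
        · rw [show (y + z - y * z) * (y + z - y * z) - (y + z - y * z) =
            (1 - 2 * z + z * z) * (y * y - y) + (1 - y) * (z * z - z) by ring]
          exact add_mem (Ideal.mul_mem_left _ _ hy2) (Ideal.mul_mem_left _ _ hz2)
        · exact sub_mem (add_mem hyL' (hyL a htL.1)) (Ideal.mul_mem_left _ _ (hyL a htL.1))
        · rintro q hq hIq ⟨s, hs, hsq⟩ hmem
          rcases Finset.mem_insert.mp hs with rfl | hs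
          · refine hynot s htL.1 q hq hIq hsq ?_
            have h1 : z * (y + z - y * z) ∈ q := Ideal.mul_mem_left _ _ hmem
            have h2 : z = z * (y + z - y * z) - (z * z - z) * (1 - y) := by ring
            rw [show yf s = z from rfl, h2]
            exact sub_mem h1 (Ideal.mul_mem_right _ _ (hIq hz2))
          · refine hnot q hq hIq ⟨s, hs, hsq⟩ ?_
            have h1 : y * (y + z - y * z) ∈ q := Ideal.mul_mem_left _ _ hmem
            have h2 : y = y * (y + z - y * z) - (y * y - y) * (1 - z) := by ring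
            rw [h2]
            exact sub_mem h1 (Ideal.mul_mem_right _ _ (hIq hy2))
        · intro x
          have hsp : ∀ (w' : S) (G' : Finset S), G' ⊆ G ∪ Gf a → (∀ x, ∃ c : S → R,
              w' * x - ∑ g ∈ G', c g • g ∈ IB) → ∀ x,
              ρ (w' * x) ∈ Submodule.span R (ρ '' ((G ∪ Gf a : Finset S) : Set S)) := by
            intro w' G' hsub h x
            obtain ⟨c, hc⟩ := h x
            rw [show ρ (w' * x) = _ from Ideal.Quotient.eq.mpr hc, map_sum]
            refine Submodule.sum_mem _ fun g hg => ?_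
            rw [show ρ (c g • g) = c g • ρ g from map_smul (Ideal.Quotient.mkₐ R IB) (c g) g]
            exact Submodule.smul_mem _ _ (Submodule.subset_span ⟨g, hsub hg, rfl⟩)
          have hmem : ρ ((y + z - y * z) * x) ∈ Submodule.span R (ρ '' ((G ∪ Gf a : Finset S) : Set S)) := by
            rw [show (y + z - y * z) * x = y * x + z * (x - y * x) by ring, map_add]
            exact add_mem (hsp y G Finset.subset_union_left hG x)
              (hsp z (Gf a) Finset.subset_union_right (hyfin a htL.1) _)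
          rw [show ρ '' ((G ∪ Gf a : Finset S) : Set S) =
              (Ideal.Quotient.mkₐ R IB).toLinearMap '' ((G ∪ Gf a : Finset S) : Set S) from rfl,
            ← Submodule.map_span, Submodule.mem_map] at hmem
          obtain ⟨v, hv, hvx⟩ := hmem
          obtain ⟨c, hc⟩ := Submodule.mem_span_finset.mp hv
          exact ⟨c, by rw [hc.2]; exact Ideal.Quotient.eq.mp hvx.symm⟩
  obtain ⟨e, he, hey, hfin⟩ := Groth.Agent.HenselLib.exists_finite_part m y hy2 hyL' ⟨G, hG⟩
  refine ⟨e, he, hfin, fun q hq hqm hqf => ?_⟩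
  set π := Ideal.Quotient.mk (Ideal.span ({e} : Set S))
  obtain ⟨r, hrq, hr, hrx⟩ := Algebra.zariskisMainProperty_iff.mp
    (Algebra.ZariskisMainProperty.of_finiteType (R := R) q)
  obtain ⟨r₀, rfl⟩ := Ideal.Quotient.mk_surjective r
  have hint : ∀ x : S, IsIntegral R (π x) → IsIntegral R ((1 - e) * x) := by
    rintro x ⟨p, hp, hpx⟩
    refine ⟨Polynomial.X * p, Polynomial.monic_X.mul hp, ?_⟩
    rw [← Polynomial.aeval_def] at hpx ⊢
    rw [show π x = Ideal.Quotient.mkₐ R (Ideal.span ({e} : Set S)) x from rfl,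
      Polynomial.aeval_algHom_apply] at hpx
    obtain ⟨d, hd⟩ := Ideal.mem_span_singleton.mp (Ideal.Quotient.eq_zero_iff_mem.mp hpx)
    rw [map_mul, Polynomial.aeval_X]
    have key : ∀ f : Polynomial R, (1 - e) * Polynomial.aeval ((1 - e) * x) f =
        (1 - e) * Polynomial.aeval x f := fun f => by
      induction f using Polynomial.induction_on with
      | C a => simp
      | add f g hf hg => rw [map_add, map_add, mul_add, mul_add, hf, hg]
      | monomial n a _ =>
          simp only [map_mul, map_pow, Polynomial.aeval_C, Polynomial.aeval_X, mul_pow,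
            he.one_sub.pow_succ_eq]
          linear_combination (algebraMap R S a * x ^ (n + 1)) * he.one_sub.eq
    rw [show (1 - e) * x * Polynomial.aeval ((1 - e) * x) p =
      x * ((1 - e) * Polynomial.aeval ((1 - e) * x) p) by ring, key, hd]
    linear_combination (-(x * d)) * he.eq
  have hsL : (1 - e) * r₀ ∈ L := by
    refine ⟨hint r₀ hr, fun x => ?_⟩
    obtain ⟨j, hj⟩ := hrx (π x)
    rw [← map_pow, ← map_mul] at hj
    refine ⟨j + 1, ?_⟩
    have h1 := hint (r₀ ^ j * x) hj
    rw [mul_pow, he.one_sub.pow_succ_eq, pow_succ,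
      show (1 - e) * (r₀ ^ j * r₀) * x = ((1 - e) * r₀) * ((1 - e) * (r₀ ^ j * x)) by
        linear_combination (-(r₀ ^ j * r₀ * x)) * he.one_sub.eq]
    exact (hint r₀ hr).mul h1
  have hqe : e ∈ q.comap π := by
    rw [Ideal.mem_comap, Ideal.Quotient.eq_zero_iff_mem.mpr (Ideal.mem_span_singleton_self e)]
    exact zero_mem _
  have hIq : IB ≤ q.comap π := Ideal.map_le_iff_le_comap.mpr fun a ha => by
    have : a ∈ q.comap (algebraMap R _) := hqm.over.le ha
    exact this
  have hexists : ∃ s ∈ t, s ∉ q.comap π := by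
    by_contra hcon
    simp only [not_exists, not_and, not_not] at hcon
    have h1 : ρ ((1 - e) * r₀) ∈ Ideal.span (ρ '' (t : Set S)) :=
      htspan ▸ Ideal.subset_span ⟨_, hsL, rfl⟩
    rw [← Ideal.map_span, Ideal.mem_quotient_iff_mem_sup] at h1
    have h2 : (1 - e) * r₀ ∈ q.comap π := (sup_le (Ideal.span_le.mpr hcon) hIq) h1
    refine hrq ?_
    have h3 : π ((1 - e) * r₀) = π r₀ := by
      rw [map_mul, map_sub, map_one, Ideal.Quotient.eq_zero_iff_mem.mpr (Ideal.mem_span_singleton_self e),
        sub_zero, one_mul]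
    rw [← h3]; exact h2
  exact hnot _ (Ideal.IsPrime.comap π) hIq hexists (by
    have := sub_mem hqe (hIq hey)
    rwa [sub_sub_cancel] at this)

end Groth.Agent.S0504
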