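import Groth.Statements.S5035
import Groth.Agent.HenselLib.Local
import Groth.Agent.S0504
import Mathlib.RingTheory.QuasiFinite.Basic

set_option autoImplicit false
universe u
open Hensel

namespace Groth.Agent.S5035

/-- a) iff c') (affine form): a local ring R is henselian if and only if, for every R-algebra S of
finite type and every prime q of S lying over the maximal ideal of R such that S is quasi-finite
over R at q, the local ring S_q is a finitely generated R-module. -/
theorem result (R : Type u) [CommRing R] [IsLocalRing R] :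
    HenselianLocalRing R ↔
      ∀ (S : Type u) [CommRing S] [Algebra R S] [Algebra.FiniteType R S] (q : Ideal S) [q.IsPrime],
        q.LiesOver (IsLocalRing.maximalIdeal R) → Algebra.QuasiFiniteAt R q →
          Module.Finite R (Localization.AtPrime q) := by
  classical
  set m := IsLocalRing.maximalIdeal R
  refine ⟨fun hR S _ _ _ q _ hqm hqf => ?_, fun h => ?_⟩
  · obtain ⟨e, he, hfin, hnot⟩ := Groth.Agent.S0504.result R S
    have heq : e ∉ q := fun hq => by
      have hle : Ideal.span ({e} : Set S) ≤ q := (Ideal.span_singleton_le_iff_mem _).mpr hq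
      have hker : RingHom.ker (Ideal.Quotient.mk (Ideal.span ({e} : Set S))) ≤ q := by rw [Ideal.mk_ker]; exact hle
      let q' := q.map (Ideal.Quotient.mk (Ideal.span ({e} : Set S)))
      have hq' : q'.IsPrime := Ideal.map_isPrime_of_surjective Ideal.Quotient.mk_surjective hker
      have hcomap : q = q'.comap (Ideal.Quotient.mkₐ R (Ideal.span ({e} : Set S))).toRingHom :=
        ((Ideal.comap_map_of_surjective _ Ideal.Quotient.mk_surjective q).trans
          (sup_eq_left.mpr hker)).symm
      refine hnot q' ⟨?_⟩ ?_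
      · rw [show IsLocalRing.maximalIdeal R = q.comap (algebraMap R S) from hqm.over, hcomap]
        rfl
      · exact Algebra.QuasiFiniteAt.of_surjectiveOnStalks q (Ideal.Quotient.mkₐ R (Ideal.span ({e} : Set S)))
          (RingHom.surjectiveOnStalks_of_surjective Ideal.Quotient.mk_surjective) q' hcomap
    set T := S ⧸ Ideal.span ({1 - e} : Set S)
    let π := Ideal.Quotient.mk (Ideal.span ({1 - e} : Set S))
    have h1e : 1 - e ∈ q := (Ideal.IsPrime.mem_or_mem ‹_› (show e * (1 - e) ∈ q by
      rw [mul_sub, mul_one, he.eq, sub_self]; exact zero_mem _)).resolve_left heq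
    let L := Localization.AtPrime q
    let φ : T →ₐ[R] L := Ideal.Quotient.liftₐ _ (IsScalarTower.toAlgHom R S L) fun x hx => by
      obtain ⟨d, rfl⟩ := Ideal.mem_span_singleton.mp hx
      show algebraMap S L _ = 0
      rw [IsLocalization.map_eq_zero_iff q.primeCompl]
      exact ⟨⟨e, heq⟩, by linear_combination (-d) * he.eq⟩
    let Q := q.map π
    have hker : RingHom.ker π ≤ q := by
      rw [Ideal.mk_ker]; exact (Ideal.span_singleton_le_iff_mem _).mpr h1e
    have hQ : Q.IsPrime := Ideal.map_isPrime_of_surjective Ideal.Quotient.mk_surjective hker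
    have hQc : Q.comap π = q :=
      (Ideal.comap_map_of_surjective _ Ideal.Quotient.mk_surjective q).trans (sup_eq_left.mpr hker)
    have hQmax : Q.IsMaximal := Ideal.isMaximal_of_isIntegral_of_isMaximal_comap (R := R) Q (by
      have : Q.comap (algebraMap R T) = m := by
        show (Q.comap π).comap (algebraMap R S) = m
        rw [hQc]
        exact hqm.over.symm
      rw [this]; infer_instance)
    have hbij := (Groth.Agent.HenselLib.isPiLocal_iff_bijective R T).mp
      (Groth.Agent.HenselLib.isPiLocal_of_henselian R T)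
    refine Module.Finite.of_surjective φ.toLinearMap fun z => ?_
    obtain ⟨a, ⟨s, hs⟩, rfl⟩ := IsLocalization.exists_mk'_eq q.primeCompl z
    have hsQ : π s ∉ Q := fun h => hs (hQc ▸ h)
    obtain ⟨t, ht⟩ := hbij.2 (fun M => if hM : M = ⟨Q, hQmax⟩ then by
      subst hM; exact IsLocalization.mk' (Localization.AtPrime Q) (π a) (⟨π s, hsQ⟩ : Q.primeCompl) else 0)
    have ht' := congrFun ht ⟨Q, hQmax⟩
    simp only [dif_pos, RingHom.pi_apply] at ht'
    refine ⟨t, ?_⟩
    change algebraMap T (Localization.AtPrime Q) t = _ at ht'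
    rw [IsLocalization.eq_mk'_iff_mul_eq, ← map_mul] at ht'
    obtain ⟨⟨c, hc⟩, hc'⟩ := (IsLocalization.eq_iff_exists Q.primeCompl (Localization.AtPrime Q)).mp ht'
    obtain ⟨c, rfl⟩ := Ideal.Quotient.mk_surjective c
    show φ t = _
    rw [IsLocalization.eq_mk'_iff_mul_eq]
    have hcq : c ∈ q.primeCompl := fun h => hc (Ideal.mem_map_of_mem _ h)
    have h2 := congrArg φ hc'
    simp only [map_mul] at h2
    exact (IsLocalization.map_units L (⟨c, hcq⟩ : q.primeCompl)).mul_left_cancel h2
  · refine Groth.Agent.HenselLib.henselianLocalRing_of_isPiLocal_adjoinRoot R fun f hf => ?_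
    let T := AdjoinRoot f
    have : Module.Finite R T := hf.finite_adjoinRoot
    have := Groth.Agent.HenselLib.finite_maximalSpectrum R T
    have hjac := Groth.Agent.HenselLib.maximalIdeal_le_jacobson R
    have hsurj : ∀ M : MaximalSpectrum T, Function.Surjective (algebraMap T (Localization.AtPrime M.asIdeal)) := by
      intro M
      let P := Localization.AtPrime M.asIdeal
      have hMm : M.asIdeal.comap (algebraMap R T) = m :=
        IsLocalRing.eq_maximalIdeal (Ideal.isMaximal_comap_of_isIntegral_of_isMaximal _)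
      have hPfin : Module.Finite R P := h T M.asIdeal ⟨hMm.symm⟩ inferInstance
      let g := IsScalarTower.toAlgHom R T P
      refine LinearMap.range_eq_top (f := g.toLinearMap) |>.mp (top_le_iff.mp ?_)
      refine Submodule.le_of_le_smul_of_le_jacobson_bot hPfin.fg_top hjac fun z _ => ?_
      obtain ⟨t, ⟨s, hs⟩, rfl⟩ := IsLocalization.exists_mk'_eq M.asIdeal.primeCompl z
      obtain ⟨w, μ, hμ, hwμ⟩ := M.isMaximal.exists_inv hs
      set mP := m.map (algebraMap R P) with hmP
      have := Groth.Agent.HenselLib.isArtinianRing_closedFibre R P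
      have hle : mP ≤ IsLocalRing.maximalIdeal P := by
        rw [hmP, IsScalarTower.algebraMap_eq R T P, ← Ideal.map_map, Ideal.map_le_iff_le_comap,
          ← Ideal.under_def, IsLocalization.AtPrime.under_maximalIdeal P M.asIdeal, Ideal.map_le_iff_le_comap, hMm]
      obtain ⟨N, hN⟩ := IsArtinianRing.isNilpotent_jacobson_bot (R := P ⧸ mP)
      have hμnil : algebraMap T P μ ^ N ∈ mP := by
        have : Nontrivial (P ⧸ mP) := Ideal.Quotient.nontrivial_iff.mpr (ne_top_of_le_ne_top Ideal.IsPrime.ne_top' hle)
        have hloc : IsLocalRing (P ⧸ mP) := .of_surjective' (Ideal.Quotient.mk mP) Ideal.Quotient.mk_surjective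
        rw [← Ideal.Quotient.eq_zero_iff_mem, map_pow, ← Ideal.mem_bot, ← Ideal.zero_eq_bot, ← hN]
        refine Ideal.pow_mem_pow ?_ N
        rw [IsLocalRing.jacobson_eq_maximalIdeal ⊥ bot_ne_top, IsLocalRing.mem_maximalIdeal, mem_nonunits_iff]
        intro hu
        have : IsLocalHom (Ideal.Quotient.mk mP) := .of_surjective _ Ideal.Quotient.mk_surjective
        exact (IsLocalization.AtPrime.to_map_mem_maximal_iff P M.asIdeal μ).mpr hμ (IsUnit.of_map (Ideal.Quotient.mk mP) _ hu)
      let x := t * w * ∑ i ∈ Finset.range N, μ ^ i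
      refine Submodule.mem_sup.mpr ⟨g x, ⟨x, rfl⟩, _, ?_, add_sub_cancel _ _⟩
      rw [Ideal.smul_top_eq_map, Submodule.restrictScalars_mem]
      refine (mP.unit_mul_mem_iff_mem (IsLocalization.map_units P (⟨s, hs⟩ : M.asIdeal.primeCompl))).mp ?_
      have hgeo := geom_sum_mul_neg (algebraMap T P μ) N
      have h1 : algebraMap T P s * IsLocalization.mk' P t (⟨s, hs⟩ : M.asIdeal.primeCompl) = algebraMap T P t :=
        IsLocalization.mk'_spec' P t ⟨s, hs⟩
      have h2 := congrArg (algebraMap T P) hwμ
      have h3 : algebraMap T P s * (IsLocalization.mk' P t (⟨s, hs⟩ : M.asIdeal.primeCompl) - g x) =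
          algebraMap T P t * algebraMap T P μ ^ N := by
        simp only [g, x, IsScalarTower.coe_toAlgHom', map_mul, map_sum, map_pow, map_add, map_one] at h2 ⊢
        linear_combination h1 - (algebraMap T P t * ∑ i ∈ Finset.range N, algebraMap T P μ ^ i) * h2 -
          algebraMap T P t * hgeo
      rw [h3]
      exact Ideal.mul_mem_left _ _ hμnil
    let K : MaximalSpectrum T → Ideal T := fun M => RingHom.ker (algebraMap T (Localization.AtPrime M.asIdeal))
    have hKle : ∀ M N : MaximalSpectrum T, K M ≤ N.asIdeal → M = N := fun M N hle => by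
      refine MaximalSpectrum.ext (N.isMaximal.eq_of_le M.isMaximal.ne_top fun y hy => ?_).symm
      by_contra hyM
      obtain ⟨w, hw⟩ := (IsLocalization.map_units (Localization.AtPrime M.asIdeal)
        (⟨y, hyM⟩ : M.asIdeal.primeCompl)).exists_left_inv
      obtain ⟨w, rfl⟩ := hsurj M w
      have h1 : w * y - 1 ∈ K M := by
        show algebraMap T (Localization.AtPrime M.asIdeal) (w * y - 1) = 0
        rw [map_sub, map_mul, map_one, hw, sub_self]
      exact N.isMaximal.ne_top ((Ideal.eq_top_iff_one _).mpr
        (by simpa using sub_mem (Ideal.mul_mem_left _ w hy) (hle h1)))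
    have hpair : Pairwise fun M N => IsCoprime (K M) (K N) := fun M N hMN => by
      show IsCoprime (K M) (K N)
      rw [Ideal.isCoprime_iff_sup_eq]
      by_contra htop
      obtain ⟨L, hL, hle⟩ := Ideal.exists_le_maximal _ htop
      exact hMN ((hKle M ⟨L, hL⟩ (le_sup_left.trans hle)).trans (hKle N ⟨L, hL⟩ (le_sup_right.trans hle)).symm)
    refine (Groth.Agent.HenselLib.isPiLocal_iff_bijective R T).mpr
      ⟨Groth.Agent.HenselLib.pi_localizations_injective T, fun z => ?_⟩
    choose c hc using fun M => hsurj M (z M)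
    obtain ⟨y, hy⟩ := Ideal.quotientInfToPiQuotient_surj hpair (fun M => Ideal.Quotient.mk (K M) (c M))
    obtain ⟨y, rfl⟩ := Ideal.Quotient.mk_surjective y
    refine ⟨y, funext fun M => ?_⟩
    have h1 : y - c M ∈ K M := Ideal.Quotient.eq.mp (congrFun hy M)
    rw [RingHom.pi_apply, ← hc M, ← sub_eq_zero, ← map_sub]
    exact h1

end Groth.Agent.S5035
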