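import Groth.Statements.S3315
import Groth.Agent.Inters29.Vertical
import Groth.Agent.Inters29.Kernel
import Groth.Agent.Coherent.QcohOps

set_option autoImplicit false
universe u
open CategoryTheory CategoryTheory.Limits AlgebraicGeometry
open Models

namespace Groth.Agent.S3315

/-- Let R be a discrete valuation ring with fraction field K, C a smooth proper curve over K with H^0(C,
O_C) = K, X a regular proper model of C with generic-fibre inclusion g : C → X, Γ_1, …, Γ_n the
irreducible components of the closed fibre and L_i ⊗ I(Γ_i) ≅ O_X. If M is an invertible O_X-module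
whose pullback to C is trivial, then there are natural numbers a_i, b_i with M ⊗ L_1^{a_1} ⊗ ⋯ ⊗
L_n^{a_n} ≅ L_1^{b_1} ⊗ ⋯ ⊗ L_n^{b_n}, i.e. M ≅ O_X(Σ (b_i - a_i) Γ_i). -/
theorem result (R : Type u) [CommRing R] [IsDomain R] [IsDiscreteValuationRing R]
    (C X : Scheme.{u}) (f : C ⟶ Spec (CommRingCat.of (FractionRing R))) (p : X ⟶ Spec (CommRingCat.of R))
    (hC : Curve.IsSmoothProperCurve (FractionRing R) C f) (hH0 : IsIso f.appTop)
    (hX : Models.IsRegularProperModel R X p C f)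
    {n : ℕ} (Γ : Fin n → ArSurf.VertComp R (Over.mk p)) (hΓ : Models.IsComponentList R (Over.mk p) Γ)
    (g : C ⟶ X) (hg : IsPullback g f p (Spec.map (CommRingCat.ofHom (algebraMap R (FractionRing R)))))
    (L : Fin n → X.Modules) (hL : ∀ i, ClSub.IsInverseOf (L i) (ClSub.idealMod (Γ i).ι.ker)) (M : X.Modules) (hM : PicF.IsInvertible M)
    (htriv : Nonempty ((Scheme.Modules.pullback g).obj M ≅ Coh.structureModule C)) :
    ∃ a b : Fin n → ℕ, Nonempty (CohB1.tensorMod M (FGA.multiTwist L a) ≅ FGA.multiTwist L b) := by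
  classical
  obtain ⟨-, -, hint, -⟩ := hC
  obtain ⟨hm, hp, hreg⟩ := hX
  haveI := hint
  haveI := Groth.Agent.Inters29.isIntegral_model R hm hreg
  haveI : LocallyOfFiniteType p := hm.2.1
  haveI := hp
  haveI : IsLocallyNoetherian X := LocallyOfFiniteType.isLocallyNoetherian p
  haveI : IsIntegral (Over.mk p).left := inferInstanceAs (IsIntegral X)
  haveI : IsLocallyNoetherian (Over.mk p).left := inferInstanceAs (IsLocallyNoetherian X)
  haveI : Flat (Over.mk p).hom := hm.1
  haveI : IsProper (Over.mk p).hom := hp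
  haveI : CompactSpace X := (quasiCompact_iff_compactSpace p).1 inferInstance
  obtain ⟨ϖ, hϖ⟩ := IsDiscreteValuationRing.exists_irreducible R
  let K := FractionRing R
  haveI : IsLocalization.Away ϖ K := by
    refine { map_units := ?_, surj := ?_, exists_of_eq := ?_ }
    · rintro ⟨_, k, rfl⟩
      exact (isUnit_iff_ne_zero).2 ((map_ne_zero_iff _ (IsFractionRing.injective R K)).2 (pow_ne_zero k hϖ.ne_zero))
    · intro z
      obtain ⟨⟨a, b⟩, hab⟩ := IsLocalization.surj (nonZeroDivisors R) z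
      obtain ⟨k, u, hbu⟩ := IsDiscreteValuationRing.eq_unit_mul_pow_irreducible (nonZeroDivisors.ne_zero b.2) hϖ
      refine ⟨(a * ↑u⁻¹, ⟨ϖ ^ k, k, rfl⟩), ?_⟩
      simp only at hab
      rw [hbu, map_mul] at hab
      show z * algebraMap R K (ϖ ^ k) = algebraMap R K (a * ↑u⁻¹)
      rw [map_mul, ← hab, mul_comm (algebraMap R K ↑u), ← mul_assoc, mul_assoc _ (algebraMap R K ↑u), ← map_mul]
      simp
    · intro x y h
      exact ⟨1, by rw [IsFractionRing.injective R K h]⟩
  let cK := Spec.map (CommRingCat.ofHom (algebraMap R K))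
  haveI : IsOpenImmersion cK := IsOpenImmersion.of_isLocalization ϖ
  haveI : IsOpenImmersion g := MorphismProperty.of_isPullback (P := @IsOpenImmersion) hg.flip inferInstance
  let π : Γ(X, ⊤) := Coh.toGlobal p ϖ
  let D₀ := X.basicOpen π
  have hD₀ : Set.range g = (D₀ : Set X) := by
    rw [← hg.isoPullback_hom_fst, Scheme.Hom.comp_base, TopCat.coe_comp, Set.range_comp,
      Set.range_eq_univ.2 hg.isoPullback.hom.surjective, Set.image_univ, Scheme.Pullback.range_fst]
    rw [show D₀ = p ⁻¹ᵁ (Spec (CommRingCat.of R)).basicOpen ((Scheme.ΓSpecIso (CommRingCat.of R)).inv ϖ) from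
      (Scheme.preimage_basicOpen p _).symm, Scheme.Hom.coe_preimage]
    congr 1
    rw [basicOpen_eq_of_affine]
    show Set.range (PrimeSpectrum.comap (algebraMap R K)) = _
    exact PrimeSpectrum.localization_away_comap_range K ϖ
  have hgen : ∃ s : Γ(M, D₀), Groth.Agent.PicLib.IsGen M D₀ s := by
    let e := IsOpenImmersion.isoOfRangeEq g D₀.ι (hD₀.trans D₀.range_ι.symm)
    have he : e.hom ≫ D₀.ι = g := IsOpenImmersion.isoOfRangeEq_hom_fac _ _ _
    have h1 : Groth.Agent.PicLib.PicM.pull g (Groth.Agent.PicLib.PicM.of hM) = 1 := by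
      rw [Groth.Agent.PicLib.PicM.pull_of]
      exact (Groth.Agent.PicLib.PicM.of_eq_one_iff _).2 htriv
    have h2 : Groth.Agent.PicLib.PicM.pull D₀.ι (Groth.Agent.PicLib.PicM.of hM) = 1 := by
      rw [show D₀.ι = e.inv ≫ g by rw [← he, Iso.inv_hom_id_assoc],
        ← Groth.Agent.PicLib.PicM.pull_pull, h1, map_one]
    rw [Groth.Agent.PicLib.PicM.pull_of] at h2
    obtain ⟨iso⟩ := (Groth.Agent.PicLib.PicM.of_eq_one_iff _).1 h2
    exact Groth.Agent.PicLib.exists_isGen_of_iso
      ((Scheme.Modules.restrictFunctorIsoPullback D₀.ι).app M ≪≫ iso)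
  obtain ⟨s, hs⟩ := hgen
  haveI : Coh.IsQCoh M := Groth.Agent.AmpleLib.isQCoh_of_isInvertible hM
  haveI : X.IsSeparated := ⟨by
    rw [terminal.hom_ext (terminal.from X) (p ≫ terminal.from _)]; infer_instance⟩
  obtain ⟨N, t, ht⟩ := Groth.Agent.Coherent.qcqs_exists_pow_smul M (U := ⊤) CompactSpace.isCompact_univ
    isQuasiSeparated_univ π s
  let σ := Groth.Agent.Coherent.unitDesc M t
  let I := PicF2.zeroScheme M σ
  have hgenD : Groth.Agent.PicLib.IsGen M D₀ (Groth.Agent.Coherent.resM M (X.basicOpen_le π) t) := by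
    rw [ht]
    exact (Groth.Agent.AmpleLib.isGen_smul_iff ((X.toRingedSpace.isUnit_res_basicOpen π).pow N |> fun h => by
      rw [map_pow]; exact h)).2 hs
  have hcoord : ∀ (V : X.Opens) (hV : IsAffineOpen V) (e : Γ(M, V)) (he : Groth.Agent.PicLib.IsGen M V e),
      IsUnit (X.presheaf.map (homOfLE (X.basicOpen_le (Groth.Agent.PicLib.res (le_top : V ≤ ⊤) π))).op
        (he.coef le_rfl (Groth.Agent.Coherent.unitVal σ V))) := by
    intro V hV e he
    let B := X.basicOpen (Groth.Agent.PicLib.res (le_top : V ≤ ⊤) π)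
    have hBV : B ≤ V := X.basicOpen_le _
    have hBD : B ≤ D₀ := (X.basicOpen_res π (homOfLE (le_top : V ≤ ⊤)).op).le.trans inf_le_right
    have hc := congrArg (Groth.Agent.Coherent.resM M hBV) (he.coef_spec le_rfl (Groth.Agent.Coherent.unitVal σ V))
    rw [Groth.Agent.PicLib.resM_self, Groth.Agent.Coherent.resM_smul,
      Groth.Agent.Coherent.unitVal_unitDesc, Groth.Agent.Coherent.resM_resM] at hc
    have hu := (he.restrict hBV).isUnit_coef (hgenD.restrict hBD)
    have hc2 := (he.restrict hBV).coef_spec le_rfl (Groth.Agent.Coherent.resM M hBD (Groth.Agent.Coherent.resM M (X.basicOpen_le π) t))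
    rw [Groth.Agent.PicLib.resM_self, Groth.Agent.Coherent.resM_resM] at hc2
    have heq : X.presheaf.map (homOfLE hBV).op (he.coef le_rfl (Groth.Agent.Coherent.unitVal σ V)) =
        (he.restrict hBV).coef le_rfl (Groth.Agent.Coherent.resM M hBD (Groth.Agent.Coherent.resM M (X.basicOpen_le π) t)) := by
      refine ((he.restrict hBV) B le_rfl).1 ?_
      simp only [Groth.Agent.PicLib.resM_self, Groth.Agent.Coherent.unitVal_unitDesc, σ]
      rw [hc]
      simp only [Groth.Agent.Coherent.resM_resM]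
      exact hc2.symm
    exact heq ▸ hu
  have hI : BlowUp.IsEffCartierIdeal I := by
    intro x
    obtain ⟨U₀, hx₀, e₀, he₀⟩ := Groth.Agent.PicLib.exists_isGen hM x
    obtain ⟨V, hV, hxV, hVU⟩ := exists_isAffineOpen_mem_and_subset (x := x) (U := U₀) hx₀
    haveI : Nonempty V := ⟨⟨x, hxV⟩⟩
    refine ⟨⟨V, hV⟩, hxV, _, mem_nonZeroDivisors_of_ne_zero ?_,
      Groth.Agent.ZeroSchLib.zeroScheme_ideal_eq_span σ hM ⟨V, hV⟩ (he₀.restrict hVU)⟩
    intro h0
    have hu := hcoord V hV _ (he₀.restrict hVU)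
    rw [h0, map_zero] at hu
    have hne : Nonempty (X.basicOpen (Groth.Agent.PicLib.res (le_top : V ≤ ⊤) π)) := by
      refine ⟨⟨genericPoint X, ?_⟩⟩
      rw [show X.basicOpen (Groth.Agent.PicLib.res (le_top : V ≤ ⊤) π) = V ⊓ D₀ from X.basicOpen_res π _]
      refine ⟨((genericPoint_spec X).mem_open_set_iff V.2).2 ⟨x, trivial, hxV⟩, ?_⟩
      exact ((genericPoint_spec X).mem_open_set_iff D₀.2).2
        ⟨g (genericPoint C), trivial, hD₀.le ⟨_, rfl⟩⟩
    exact not_isUnit_zero hu
  obtain ⟨e, he⟩ := Groth.Agent.Inters29.exists_eq_prod_of_pow_le R (X := Over.mk p) hreg Γ hΓ I hI (fun x => by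
    change ↥X at x
    obtain ⟨U₀, hx₀, e₀, he₀⟩ := Groth.Agent.PicLib.exists_isGen hM (x : X)
    obtain ⟨V, hV, hxV, hVU⟩ := exists_isAffineOpen_mem_and_subset (x := (x : X)) (U := U₀) hx₀
    have hu := hcoord V hV _ (he₀.restrict hVU)
    have := hV.isLocalization_basicOpen (Groth.Agent.PicLib.res (le_top : V ≤ ⊤) π)
    obtain ⟨b, hb⟩ := hu.exists_right_inv
    obtain ⟨⟨a, _, k, rfl⟩, hak⟩ := IsLocalization.surj
      (Submonoid.powers (Groth.Agent.PicLib.res (le_top : V ≤ ⊤) π)) b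
    simp only at hak
    generalize hcdef : (he₀.restrict hVU).coef le_rfl (Groth.Agent.Coherent.unitVal σ V) = c at hu hb
    have h1 : algebraMap Γ(X, V) _ (c * a) =
        algebraMap Γ(X, V) Γ(X, X.basicOpen (Groth.Agent.PicLib.res (le_top : V ≤ ⊤) π))
          (Groth.Agent.PicLib.res (le_top : V ≤ ⊤) π ^ k) := by
      rw [map_mul, ← hak, ← mul_assoc]
      refine (congrArg (· * _) (?_ : algebraMap Γ(X, V) _ c * b = 1)).trans (one_mul _)
      exact hb
    obtain ⟨⟨_, l, rfl⟩, hl⟩ := (IsLocalization.eq_iff_exists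
      (Submonoid.powers (Groth.Agent.PicLib.res (le_top : V ≤ ⊤) π)) _).1 h1
    simp only at hl
    refine ⟨l + k, ?_⟩
    rw [Groth.Agent.Inters29.stk_specialFibreIdeal_span R hϖ, Ideal.span_singleton_pow,
      Ideal.span_singleton_le_iff_mem]
    rw [Groth.Agent.Misc15.DivDescent.stk_eq _ ⟨V, hV⟩ hxV,
      Groth.Agent.ZeroSchLib.zeroScheme_ideal_eq_span σ hM ⟨V, hV⟩ (he₀.restrict hVU), hcdef]
    have hgerm : (X.presheaf.germ V x hxV) (Groth.Agent.PicLib.res (le_top : V ≤ ⊤) π) =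
        Models.stalkHom R (Over.mk p) x ϖ := TopCat.Presheaf.germ_res_apply _ _ _ _ _
    rw [← hgerm, ← map_pow]
    refine Ideal.mem_map_of_mem _ (Ideal.mem_span_singleton.2 ⟨Groth.Agent.PicLib.res (le_top : V ≤ ⊤) π ^ l * a, ?_⟩)
    rw [pow_add, ← hl]; ring)
  obtain ⟨iso⟩ := Groth.Agent.Inters29.nonempty_tensor_zeroScheme_iso hM σ hI
  have hD := fun i => Groth.Agent.Inters29.isEffCartier_listComp R Γ (X := Over.mk p) hreg hΓ i
  have hLi : ∀ i, PicF.IsInvertible (L i) := fun i =>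
    Groth.Agent.Inters29.isInvertible_of_inverse R (X := Over.mk p) (hD i) (hL i)
  obtain ⟨hA, hA'⟩ := Groth.Agent.Inters29.exists_multiTwist_class L hLi 0
  obtain ⟨hB, hB'⟩ := Groth.Agent.Inters29.exists_multiTwist_class L hLi e
  refine ⟨0, e, (Groth.Agent.PicLib.PicM.of_eq_iff (Groth.Agent.AmpleLib.isInvertible_tensorMod hM hA) hB).1 ?_⟩
  rw [← Groth.Agent.PicLib.PicM.of_mul hM hA, hA', hB']
  simp only [Pi.zero_apply, pow_zero, Finset.prod_const_one, mul_one]
  have hIe := Groth.Agent.Inters29.idealCl_congr he hI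
    (Groth.Agent.Inters29.isEffCartier_prod Finset.univ _ fun i => Groth.Agent.Inters29.isEffCartier_pow (hD i) _)
  have hMI : Groth.Agent.PicLib.PicM.of hM * Groth.Agent.Inters29.idealCl I hI = 1 := by
    simp only [Groth.Agent.Inters29.idealCl, Groth.Agent.PicLib.PicM.of_mul, Groth.Agent.PicLib.PicM.of_eq_one_iff]
    exact ⟨iso⟩
  refine mul_right_cancel (b := Groth.Agent.Inters29.idealCl I hI) (hMI.trans ?_)
  rw [hIe, Groth.Agent.Inters29.idealCl_prod Finset.univ _ fun i => Groth.Agent.Inters29.isEffCartier_pow (hD i) _]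
  refine ((Finset.prod_mul_distrib).symm.trans (Finset.prod_eq_one fun i _ => ?_)).symm
  rw [Groth.Agent.Inters29.idealCl_pow (hD i), ← mul_pow]
  have hld : (show Groth.Agent.PicLib.PicM X from Groth.Agent.PicLib.PicM.of (hLi i)) * (show Groth.Agent.PicLib.PicM X from Groth.Agent.Inters29.idealCl (Γ i).ι.ker (hD i)) = 1 := by
    simp only [Groth.Agent.Inters29.idealCl, Groth.Agent.PicLib.PicM.of_mul, Groth.Agent.PicLib.PicM.of_eq_one_iff]
    exact hL i
  rw [hld, one_pow]

end Groth.Agent.S3315
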