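import Groth.Statements.S10629
import Groth.Agent.AlgSpLib.SmoothFS
import Groth.Agent.AlgSpLib.LocPMore
import Groth.Agent.S1488
-- import your own Groth.Agent.* helpers here

set_option autoImplicit false
universe u
open CategoryTheory CategoryTheory.Limits AlgebraicGeometry
open AlgSp

namespace Groth.Agent.S10629

/-- A morphism f : X ⟶ Y of algebraic spaces over S is smooth if and only if it is locally of finite
presentation and formally smooth (lifting sense). -/
theorem result {S : Scheme.{u}} {X Y : AlgSp.Space S} (f : X ⟶ Y) :
    AlgSp.LocP @Smooth f.hom ↔ AlgSp.LocP @LocallyOfFinitePresentation f.hom ∧ AlgSp.IsFormallySmoothMor f.hom := by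
---
  constructor
  · intro h
    exact ⟨Groth.Agent.AlgSpLib.locP_mono (fun _ _ g hg => by have : Smooth g := hg; exact inferInstanceAs (LocallyOfFinitePresentation g)) h,
      Groth.Agent.AlgSpLib.SmoothFS.isFormallySmoothMor_of_smooth X.property Y.property h⟩
  · rintro ⟨h1, h2⟩ U V a b k ha hb w
    exact (Groth.Agent.S1488.result k.left).2
      ⟨h1 a b k ha hb w, Groth.Agent.AlgSpLib.isFormallySmoothHom_of_mor_chart ha hb w h2⟩

end Groth.Agent.S10629
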