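import Groth.Statements.S10284
import Groth.Agent.AlgSpLib.ValuationDescent
-- import your own Groth.Agent.* helpers here

set_option autoImplicit false
universe u
open CategoryTheory CategoryTheory.Limits AlgebraicGeometry
open AlgSp

namespace Groth.Agent.S10284

open Groth.Agent.AlgSpLib

/-- For a separated morphism of algebraic spaces, a valuative square that has a lift after a dominating
extension of the valuation ring already has a lift. -/
theorem result {S : Scheme.{u}} {X Y : AlgSp.Space S} (f : X ⟶ Y)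
    (hf : AlgSp.IsSeparatedMor f.hom) (sq : AlgSp.ValSq f.hom) (e : sq.DomExt) (he : e.HasLift) :
    sq.HasLift := by
  obtain ⟨l₀, hl₁, hl₂⟩ := he
  let A := sq.A
  let K := sq.K
  let A' := e.A'
  let K' := e.K'
  letI : Algebra A A' := e.φ.toAlgebra
  letI : Algebra A K' := ((algebraMap A' K').comp e.φ).toAlgebra
  have : IsLocalHom (algebraMap A A') := e.isLocalHom
  have hinj : Function.Injective (algebraMap A A') := fun x y h => by
    have h1 := congrArg (algebraMap A' K') h
    have h2 : ∀ z, algebraMap A' K' (algebraMap A A' z) = e.ψ (algebraMap A K z) :=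
      fun z => RingHom.congr_fun e.comm z
    rw [h2, h2] at h1
    exact IsFractionRing.injective A K (e.ψ.injective h1)
  have hflat : Module.Flat A A' := by
    rw [Module.Flat.flat_iff_torsion_eq_bot_of_isBezout, eq_bot_iff]
    intro m hm
    obtain ⟨a, ha⟩ := (Submodule.mem_torsion_iff m).1 hm
    have ha' : (a : A) • m = 0 := ha
    rw [Algebra.smul_def, mul_eq_zero] at ha'
    rcases ha' with h | h
    · exact absurd (hinj (h.trans (map_zero (algebraMap A A')).symm)) (nonZeroDivisors.ne_zero a.2)
    · exact h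
  have : Module.FaithfullyFlat A A' := Module.FaithfullyFlat.of_flat_of_isLocalHom
  let ι : A' →ₐ[A] K' := { algebraMap A' K' with commutes' := fun _ => rfl }
  let fK : K →ₐ[A] K' := { e.ψ with commutes' := fun z => (RingHom.congr_fun e.comm z).symm }
  let w : AlgSpLib.specOver sq.str K' ⟶ e.ptK' := Over.homMk (𝟙 _) (by
    show 𝟙 _ ≫ Spec.map _ ≫ Spec.map _ ≫ sq.str = _
    rw [Category.id_comp, ← Spec.map_comp_assoc]
    rfl)
  let P := pullback f.hom sq.bot
  have sqP := IsPullback.of_hasPullback f.hom sq.bot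
  have hP : AlgSp.IsAlgSpace P :=
    AlgSpLib.isAlgSpace_of_isPullback Y.property.diag X.property (AlgSp.IsAlgSpace.yon_obj _) sqP
  have hp : AlgSp.IsSeparatedMor (pullback.snd f.hom sq.bot) :=
    AlgSpLib.isSeparatedMor_of_isPullback sqP hf
  obtain ⟨σ, hσ₁, hσ₂⟩ := sqP.exists_lift sq.top ((AlgSp.yon S).map sq.j) sq.comm
  obtain ⟨l', hl'₁, hl'₂⟩ := sqP.exists_lift l₀
    ((AlgSp.yon S).map (Over.homMk (Spec.map (CommRingCat.ofHom e.φ)) rfl : e.ptA' ⟶ sq.ptA)) hl₂
  have hag : (AlgSp.yon S).map (AlgSpLib.specMap sq.str fK) ≫ σ =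
      (AlgSp.yon S).map (AlgSpLib.specMap sq.str ι) ≫ l' := by
    refine sqP.hom_ext ?_ ?_
    · rw [Category.assoc, hσ₁, Category.assoc, hl'₁]
      have h1 := congrArg ((AlgSp.yon S).map w ≫ ·) hl₁
      simp only [← Category.assoc, ← Functor.map_comp] at h1
      refine Eq.trans ?_ (h1.symm.trans ?_)
      · congr 2
      · congr 2
    · rw [Category.assoc, hσ₂, Category.assoc, hl'₂, ← Functor.map_comp, ← Functor.map_comp]
      exact congrArg _ ((AlgSpLib.specMap_comp_specHom sq.str fK).trans
        (AlgSpLib.specMap_comp_specHom sq.str ι).symm)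
  obtain ⟨l, hl, hlK⟩ := AlgSpLib.exists_lift_of_extension ι (IsFractionRing.injective A' K') fK hP
    (pullback.snd f.hom sq.bot) hp σ hσ₂ l' hl'₂ hag
  refine ⟨l ≫ pullback.fst f.hom sq.bot, ?_, ?_⟩
  · exact (Category.assoc _ _ _).symm.trans ((congrArg (· ≫ _) hlK).trans hσ₁)
  · rw [Category.assoc, sqP.w, ← Category.assoc, hl, Category.id_comp]

end Groth.Agent.S10284
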