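import Groth.Statements.S10291
import Groth.Agent.AlgSpLib.ValuativeRefinedMain
-- import your own Groth.Agent.* helpers here

set_option autoImplicit false
universe u
open CategoryTheory CategoryTheory.Limits AlgebraicGeometry
open AlgSp

namespace Groth.Agent.S10291

/-- A quasi-separated morphism of algebraic spaces satisfying the uniqueness part of the valuative
criterion is separated. -/
theorem result {S : Scheme.{u}} {X Y : AlgSp.Space S} (f : X ⟶ Y)
    (hqs : AlgSp.IsQuasiSeparatedMor f.hom) (hu : AlgSp.UniqVC f.hom) : AlgSp.IsSeparatedMor f.hom := by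
  refine AlgSpLib.isSeparatedMor_of_refinedUniq X.property Y.property X.property hqs (𝟙 X.obj) ?_ ?_
    fun sq _ => hu sq
  · intro Z Z' _ hZq g fst snd sq
    have : IsIso snd := sq.isIso_snd_of_isIso
    obtain ⟨U, p, hpe, hps, hU⟩ := hZq
    exact ⟨U, p ≫ inv snd,
      (MorphismProperty.cancel_right_of_respectsIso (AlgSp.RepWith @Etale) p (inv snd)).2 hpe,
      (MorphismProperty.cancel_right_of_respectsIso (AlgSp.RepWith @Surjective) p (inv snd)).2 hps, hU⟩
  · have : AlgSp.Points.map (𝟙 X.obj) = id := funext (AlgSp.Points.map_id)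
    rw [this]
    exact denseRange_id

end Groth.Agent.S10291
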