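import Groth.Statements.S10327
import Groth.Agent.AlgSpLib.ValuativeExistence
import Groth.Agent.S10289
import Groth.Agent.S10285
import Groth.Agent.S10291
-- import your own Groth.Agent.* helpers here

set_option autoImplicit false
universe u
open CategoryTheory CategoryTheory.Limits AlgebraicGeometry
open AlgSp

namespace Groth.Agent.S10327

/-- For f quasi-compact and quasi-separated, f is separated and universally closed if and only if the
valuative criterion holds, if and only if every valuative square has a unique lift. -/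
theorem result {S : Scheme.{u}} {X Y : AlgSp.Space S} (f : X ⟶ Y)
    (hqc : AlgSp.IsQuasiCompactMor f.hom) (hqs : AlgSp.IsQuasiSeparatedMor f.hom) :
    ((AlgSp.IsSeparatedMor f.hom ∧ AlgSp.IsUnivClosedMor f.hom) ↔ AlgSp.VC f.hom) ∧
    ((AlgSp.IsSeparatedMor f.hom ∧ AlgSp.IsUnivClosedMor f.hom) ↔
      (AlgSp.UniqVC f.hom ∧ AlgSp.ExistVCStrict f.hom)) := by
  have key : (AlgSp.IsSeparatedMor f.hom ∧ AlgSp.IsUnivClosedMor f.hom) ↔
      (AlgSp.UniqVC f.hom ∧ AlgSp.ExistVC f.hom) :=
    ⟨fun h => ⟨AlgSpLib.uniqVC_of_isSeparatedMor X.property Y.property h.1,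
        Groth.Agent.S10289.result f hqs h.2⟩,
      fun h => ⟨Groth.Agent.S10291.result f hqs h.1,
        AlgSpLib.isUnivClosedMor_of_existVC X.property Y.property hqc h.2⟩⟩
  refine ⟨key, key.trans ⟨fun h => ⟨h.1, ?_⟩, fun h => ⟨h.1, AlgSpLib.existVC_of_existVCStrict h.2⟩⟩⟩
  exact (Groth.Agent.S10285.result f (Groth.Agent.S10291.result f hqs h.1)).1 h.2

end Groth.Agent.S10327
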