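import Groth.Statements.S3192
import Groth.Agent.KLoc28.Supp
-- import your own Groth.Agent.* helpers here

set_option autoImplicit false
set_option linter.style.haveILetI false
set_option backward.isDefEq.respectTransparency false
universe u
open CategoryTheory CategoryTheory.Limits AlgebraicGeometry
attribute [local instance] HasDerivedCategory.standard
open SGA6

namespace Groth.Agent.S3192

/-- Let X be a Noetherian scheme, i : X' ⟶ X a closed immersion and j : U ⟶ X the open immersion of the
complement. With K_•(−) = K₀ of coherent modules, i_* (exact; carried as instance hypotheses, and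
sending coherent modules to coherent modules — hypothesis hi) and j^* (exact, preserving coherence —
hypothesis hj) induce homomorphisms K_•(X') ⟶ K_•(X) ⟶ K_•(U); then j^* is surjective and its kernel
is the image of i_*. -/
theorem result {X X' U : Scheme.{u}} [IsNoetherian X] (i : X' ⟶ X) [IsClosedImmersion i]
    (j : U ⟶ X) [IsOpenImmersion j] (hU : Set.range j = (Set.range i)ᶜ)
    [(Scheme.Modules.pushforward i).Additive] [PreservesFiniteLimits (Scheme.Modules.pushforward i)] [PreservesFiniteColimits (Scheme.Modules.pushforward i)]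
    [PreservesFiniteLimits (Scheme.Modules.restrictFunctor j)]
    (hi : ∀ M : X'.Modules, Coh.IsCoh M → Coh.IsCoh ((Scheme.Modules.pushforward i).obj M))
    (hj : ∀ M : X.Modules, Coh.IsCoh M → Coh.IsCoh ((Scheme.Modules.restrictFunctor j).obj M)) :
    Function.Surjective (SGA6.mapSub (Scheme.Modules.restrictFunctor j) (fun M : (X).Modules => Coh.IsCoh M) (fun M : (U).Modules => Coh.IsCoh M) hj) ∧
      (SGA6.mapSub (Scheme.Modules.restrictFunctor j) (fun M : (X).Modules => Coh.IsCoh M) (fun M : (U).Modules => Coh.IsCoh M) hj).ker =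
        (SGA6.mapSub (Scheme.Modules.pushforward i) (fun M : (X').Modules => Coh.IsCoh M) (fun M : (X).Modules => Coh.IsCoh M) hi).range := by
  classical
  let V : X.Opens := ⟨(Set.range i)ᶜ, i.isClosedEmbedding.isClosed_range.isOpen_compl⟩
  have hrange : Set.range j = Set.range V.ι := by rw [hU]; exact V.range_ι.symm
  let e := IsOpenImmersion.isoOfRangeEq j V.ι hrange
  have he : e.hom ≫ V.ι = j := IsOpenImmersion.isoOfRangeEq_hom_fac j V.ι hrange
  have he' : e.inv ≫ j = V.ι := IsOpenImmersion.isoOfRangeEq_inv_fac j V.ι hrange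
  haveI : IsNoetherian U := by
    haveI : IsLocallyNoetherian U := isLocallyNoetherian_of_isOpenImmersion j
    haveI : CompactSpace ↥U := isCompact_univ_iff.1
      ((j.isOpenEmbedding.isInducing.isCompact_iff).2 (TopologicalSpace.NoetherianSpace.isCompact _))
    exact {}
  haveI : IsLocallyNoetherian V.toScheme := isLocallyNoetherian_of_isOpenImmersion V.ι
  haveI := Groth.Agent.KZeroLib.cohZ_noetherian i
  haveI := Groth.Agent.KLoc28.preservesFiniteLimits_restrict e.hom
  haveI := Groth.Agent.KLoc28.preservesFiniteColimits_restrict e.hom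
  haveI := Groth.Agent.KLoc28.preservesFiniteLimits_restrict e.inv
  haveI := Groth.Agent.KLoc28.preservesFiniteColimits_restrict e.inv
  haveI : (Scheme.Modules.restrictFunctor e.hom).Additive := Functor.additive_of_preserves_binary_products _
  haveI : (Scheme.Modules.restrictFunctor e.inv).Additive := Functor.additive_of_preserves_binary_products _
  let F₁ := SGA6.mapSub (Scheme.Modules.restrictFunctor e.hom) (fun M : V.toScheme.Modules => Coh.IsCoh M)
    (fun M : U.Modules => Coh.IsCoh M) fun M h => Groth.Agent.AmpleLib.isCoh_restrict e.hom M h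
  let F₂ := SGA6.mapSub (Scheme.Modules.restrictFunctor e.inv) (fun M : U.Modules => Coh.IsCoh M)
    (fun M : V.toScheme.Modules => Coh.IsCoh M) fun M h => Groth.Agent.AmpleLib.isCoh_restrict e.inv M h
  have iso1 : ∀ M : X.Modules, Nonempty (((Scheme.Modules.restrictFunctor V.ι).obj M).restrict e.hom ≅
      (Scheme.Modules.restrictFunctor j).obj M) := fun M =>
    ⟨((Scheme.Modules.restrictFunctorComp e.hom V.ι).app M).symm ≪≫ (Scheme.Modules.restrictFunctorCongr he).app M⟩
  have iso2 : ∀ M : X.Modules, Nonempty (((Scheme.Modules.restrictFunctor j).obj M).restrict e.inv ≅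
      (Scheme.Modules.restrictFunctor V.ι).obj M) := fun M =>
    ⟨((Scheme.Modules.restrictFunctorComp e.inv j).app M).symm ≪≫ (Scheme.Modules.restrictFunctorCongr he').app M⟩
  have h1 : ∀ x, F₁ (Groth.Agent.KLoc28.res V x) = SGA6.mapSub (Scheme.Modules.restrictFunctor j) _ _ hj x := by
    intro x
    refine Groth.Agent.KPr28.k0_induction (R := fun x => F₁ (Groth.Agent.KLoc28.res V x) =
      SGA6.mapSub (Scheme.Modules.restrictFunctor j) _ _ hj x) _ (by simp) (fun M hM => ?_)
      (fun a h => by simp [h]) (fun a b ha hb => by simp [ha, hb]) x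
    obtain ⟨d⟩ := iso1 M
    exact ((congrArg F₁ (Groth.Agent.KLoc28.res_cl hM)).trans (Groth.Agent.KLoc28.mapSub_clSub _ _ _ _
      (Groth.Agent.KLoc28.isCoh_res hM))).trans ((Groth.Agent.KTop28.cl_iso d).trans
      (Groth.Agent.KLoc28.mapSub_clSub _ _ _ _ hM).symm)
  have h2 : ∀ x, F₂ (SGA6.mapSub (Scheme.Modules.restrictFunctor j) _ _ hj x) = Groth.Agent.KLoc28.res V x := by
    intro x
    refine Groth.Agent.KPr28.k0_induction (R := fun x =>
      F₂ (SGA6.mapSub (Scheme.Modules.restrictFunctor j) _ _ hj x) = Groth.Agent.KLoc28.res V x) _ (by simp)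
      (fun M hM => ?_) (fun a h => by simp [h]) (fun a b ha hb => by simp [ha, hb]) x
    obtain ⟨d⟩ := iso2 M
    exact ((congrArg F₂ (Groth.Agent.KLoc28.mapSub_clSub _ _ _ _ hM)).trans (Groth.Agent.KLoc28.mapSub_clSub _ _ _ _
      (hj M hM))).trans ((Groth.Agent.KTop28.cl_iso d).trans (Groth.Agent.KLoc28.res_cl hM).symm)
  refine ⟨fun y => ?_, ?_⟩
  · obtain ⟨x, hx⟩ := Groth.Agent.KLoc28.res_surjective (U := V) (F₂ y)
    refine ⟨x, ?_⟩
    rw [← h1, hx]
    refine Groth.Agent.KPr28.k0_induction (R := fun y => F₁ (F₂ y) = y) _ (by simp) (fun M hM => ?_)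
      (fun a h => by simp [h]) (fun a b ha hb => by simp [ha, hb]) y
    exact ((congrArg F₁ (Groth.Agent.KLoc28.mapSub_clSub _ _ _ _ hM)).trans (Groth.Agent.KLoc28.mapSub_clSub _ _ _ _
      (Groth.Agent.AmpleLib.isCoh_restrict e.inv M hM))).trans (Groth.Agent.KTop28.cl_iso
        (((Scheme.Modules.restrictFunctorComp e.hom e.inv).app M).symm ≪≫
          (Scheme.Modules.restrictFunctorCongr e.hom_inv_id).app M ≪≫ Scheme.Modules.restrictFunctorId.app M))
  · have hg : ∀ F : X'.Modules, Coh.IsCoh F →
        SGA6.mapSub (Scheme.Modules.pushforward i) _ _ hi (Groth.Agent.KLoc28.cl F) =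
          Groth.Agent.KLoc28.cl ((Coh.push i).obj F) := fun F hF => Groth.Agent.KLoc28.mapSub_clSub _ _ _ _ hF
    rw [← Groth.Agent.KLoc28.ker_res_eq (U := V) rfl hg]
    ext x
    rw [AddMonoidHom.mem_ker, AddMonoidHom.mem_ker]
    exact ⟨fun h => by rw [← h2, h, map_zero], fun h => by rw [← h1, h, map_zero]⟩

end Groth.Agent.S3192
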