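import Groth.Statements.S1108
import Groth.Agent.Desc19b.ResProp

set_option autoImplicit false
universe u
open CategoryTheory AlgebraicGeometry
open Perf

set_option backward.isDefEq.respectTransparency.types false
set_option backward.isDefEq.respectTransparency false

namespace Groth.Agent.S1108


/-- A scheme X admitting an ample invertible O_X-module has the resolution property: every
quasi-coherent O_X-module of finite type is a quotient of a finite locally free O_X-module. -/
theorem result (X : Scheme.{u}) (L : X.Modules) (hL : CohB1.IsAmple L) : PerfAux.HasResolutionProperty X := by
  exact Groth.Agent.Desc19b.hasResolutionProperty_of_isAmple hL

end Groth.Agent.S1108
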