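import Groth.Statements.S3789
import Groth.Agent.KPB28.Main
set_option backward.isDefEq.respectTransparency false
set_option linter.style.haveILetI false

set_option autoImplicit false
universe v u
open CategoryTheory CategoryTheory.Limits AlgebraicGeometry
attribute [local instance] HasDerivedCategory.standard
open KRR Groth.Agent

namespace Groth.Agent.S3789

/-- Let X be a connected Noetherian scheme, E finite locally free of rank r + 1, and (π : P ⟶ X, O(1),
q) its projective bundle P(E), P connected Noetherian. With models of K(X), K(P), g = π^K and ℓ =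
[O(1)]: the map (a_0, …, a_r) ↦ Σ_i π^K(a_i) ℓ^i from K(X)^{r+1} to K(P) is bijective, so that K(P)
= K(X)_e = K(X)[ℓ] with the relation of projectiveBundle_tautological_relation. -/
theorem result (X P : Scheme.{u}) [IsNoetherian X] [ConnectedSpace ↥X] [IsNoetherian P] [ConnectedSpace ↥P]
    (r : ℕ) (E : X.Modules) (hE : FlatMod.IsFinLocFreeOfRank (r + 1) E)
    (π : P ⟶ X) (O1 : P.Modules) (q : (Scheme.Modules.pullback π).obj E ⟶ O1) (hPB : KRR.IsProjBundle π E O1 q)
    (KX : Type v) [CommRing KX] [LambdaRing.LambdaOps KX] (PX : LambdaRing.PosStructure KX) (φX : SGA6.Kvb X →+ KX) (hKX : KRR.IsModel X KX PX φX)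
    (KP : Type v) [CommRing KP] [LambdaRing.LambdaOps KP] (PP : LambdaRing.PosStructure KP) (φP : SGA6.Kvb P →+ KP) (hKP : KRR.IsModel P KP PP φP)
    (g : KX →+ KP) (hg : KRR.IsPull π φX φP g) :
    Function.Bijective (fun a : Fin (r + 1) → KX => ∑ i : Fin (r + 1), g (a i) * φP (KRR.cl P O1) ^ (i : ℕ)) := by
  classical
  obtain ⟨N, ⟨eN⟩⟩ := VarietyLib.exists_isInverseOf (KRRPBLib.isInvertible_of_rankOne hPB.invertible)
  have hinv : ClSub.IsInverseOf N O1 := ⟨AmpleLib.tensorComm _ _ ≪≫ eN⟩
  have hL : PicF.IsInvertible O1 := KRRPBLib.isInvertible_of_rankOne hPB.invertible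
  let eP : SGA6.Kvb P ≃+ KP := AddEquiv.ofBijective φP hKP.bijective
  let eX : SGA6.Kvb X ≃+ KX := AddEquiv.ofBijective φX hKX.bijective
  have hpow : ∀ k : ℕ, φP (KRR.cl P O1) ^ k = φP (KRR.cl P (CohB1.tensorPow O1 k)) := by
    intro k
    induction k with
    | zero => rw [pow_zero]; exact hKP.map_one.symm
    | succ k ih =>
      rw [pow_succ, ih]
      exact hKP.map_mul _ _ (Coherent.isFinLocFree_of_invertible (AmpleLib.isInvertible_tensorPow hL k))
        (Coherent.isFinLocFree_of_invertible hL)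
  let A : Fin (r + 1) → (SGA6.Kvb X →+ SGA6.Kvb P) := fun i => eP.symm.toAddMonoidHom.comp
    ((AddMonoidHom.mulRight (φP (KRR.cl P O1) ^ ((Fin.rev i : Fin (r + 1)) : ℕ))).comp (g.comp φX))
  have hb := KPB28.bijective_powers hE hPB hinv (r : ℤ) A fun i V hV => by
    show eP.symm (g (φX (KRR.cl X V)) * φP (KRR.cl P O1) ^ _) = _
    rw [hg V hV, hpow, AddEquiv.symm_apply_eq]
    refine (hKP.map_mul _ _ (DCat.PullPerf.isFinLocFree_pullback π hV)
      (Coherent.isFinLocFree_of_invertible (AmpleLib.isInvertible_tensorPow hL _))).trans ?_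
    have hr : ((Fin.rev i : Fin (r + 1)) : ℕ) = r - (i : ℕ) := by rw [Fin.val_rev]; omega
    obtain ⟨e⟩ := KPB28.nonempty_OP_nat (Li := N) hL (r - (i : ℕ))
    refine congrArg φP (ExtFilt28.clv_iso (AmpleLib.tensorComm _ _ ≪≫
      AmpleLib.tensorIso (eqToIso (congrArg (CohB1.tensorPow O1) hr) ≪≫ e.symm ≪≫
        eqToIso (congrArg (KPB28.OP O1 N) (by have := i.isLt; omega))) (Iso.refl _)))
  let σ : (Fin (r + 1) → KX) → (Fin (r + 1) → SGA6.Kvb X) := fun a i => eX.symm (a (Fin.rev i))
  have hσ : Function.Bijective σ :=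
    Function.bijective_iff_has_inverse.2 ⟨fun b i => eX (b (Fin.rev i)),
      fun a => funext fun i => by simp [σ], fun b => funext fun i => by simp [σ]⟩
  have heq : (fun a : Fin (r + 1) → KX => ∑ i : Fin (r + 1), g (a i) * φP (KRR.cl P O1) ^ (i : ℕ)) =
      (fun b => eP b) ∘ (fun x : Fin (r + 1) → SGA6.Kvb X => ∑ i, A i (x i)) ∘ σ := by
    funext a
    simp only [Function.comp_apply, map_sum]
    refine (Fintype.sum_equiv Fin.revPerm _ _ fun i => ?_).symm
    show eP (eP.symm (g (φX (eX.symm (a (Fin.rev i)))) * _)) = _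
    rw [AddEquiv.apply_symm_apply, show φX (eX.symm (a (Fin.rev i))) = a (Fin.rev i) from eX.apply_symm_apply _]
    rfl
  rw [heq]
  exact eP.bijective.comp (hb.comp hσ)

end Groth.Agent.S3789
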