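import Groth.Statements.S3784
import Groth.Agent.KSplit28.Gamma
set_option backward.isDefEq.respectTransparency false
set_option linter.style.haveILetI false

set_option autoImplicit false
universe v u
open CategoryTheory CategoryTheory.Limits AlgebraicGeometry
attribute [local instance] HasDerivedCategory.standard
open KRR Groth.Agent Groth.Agent.KSplit28

namespace Groth.Agent.S3784

universe w

theorem map_mem_fil {K : Type v} {K' : Type w} [CommRing K] [LambdaRing.LambdaOps K] [CommRing K'] [LambdaRing.LambdaOps K']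
    {P : LambdaRing.PosStructure K} {P' : LambdaRing.PosStructure K'} {g : K →+* K'}
    (hl : ∀ (i : ℕ) (x : K), g (LambdaRing.LambdaOps.lam i x) = LambdaRing.LambdaOps.lam i (g x))
    (haug : ∀ x, P'.aug (g x) = P.aug x) {k : ℕ} {x : K} (hx : x ∈ LambdaRing.gammaFiltration P k) :
    g x ∈ LambdaRing.gammaFiltration P' k := by
  have hgam : ∀ (j : ℕ) (y : K), g (LambdaRing.gamma j y) = LambdaRing.gamma j (g y) := fun j y => by
    unfold LambdaRing.gamma
    split_ifs with h
    · exact map_one g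
    · rw [map_sum]
      refine Finset.sum_congr rfl fun i _ => ?_
      split_ifs with hi <;> simp [hl]
  rcases Nat.eq_zero_or_pos k with rfl | hk
  · simp [LambdaRing.gammaFiltration]
  refine LambdaLib.gammaFiltration_induction P (by omega)
    (motive := fun a => g a ∈ LambdaRing.gammaFiltration P' k)
    (fun l hl' hsum => ?_) (by simp) (fun a b ha hb => by simpa using add_mem ha hb)
    (fun a ha => by simpa using neg_mem ha) hx
  have h := LambdaLib.gamma_prod_mem P' (n := k) (l.map fun p => (p.1, g p.2))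
    (fun p hp => by
      obtain ⟨q, hq, rfl⟩ := List.mem_map.mp hp
      rw [haug]; exact hl' q hq)
    (by simpa [List.map_map, Function.comp_def] using hsum)
  rw [List.map_map] at h
  rw [map_list_prod, List.map_map]
  simpa [Function.comp_def, hgam] using h

theorem aug_pullHom {X Y : Scheme.{u}} [ConnectedSpace ↥Y] (f : X ⟶ Y)
    {KX : Type v} {KY : Type w} [CommRing KX] [LambdaRing.LambdaOps KX] [CommRing KY] [LambdaRing.LambdaOps KY]
    {PX : LambdaRing.PosStructure KX} {PY : LambdaRing.PosStructure KY} {φX : SGA6.Kvb X →+ KX} {φY : SGA6.Kvb Y →+ KY}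
    (hX : KRR.IsModel X KX PX φX) (hY : KRR.IsModel Y KY PY φY) (g : KY →+* KX)
    (hg : KRR.IsPull f φY φX g.toAddMonoidHom) (x : KY) : PX.aug (g x) = PY.aug x := by
  have kY : IsKRing Y KY φY := ⟨hY.bijective, hY.map_one, hY.map_mul, hY.map_lam⟩
  refine kY.induction
    (motive := fun x => PX.aug (g x) = PY.aug x) (by simp) (fun E hE => ?_)
    (fun a h => by simp [h]) (fun a b ha hb => by simp [ha, hb]) x
  obtain ⟨n, hn⟩ := KModel28.exists_rank hE
  rw [show g (φY (KRR.cl Y E)) = _ from hg E hE, hY.aug_cl n E hn,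
    hX.aug_cl n _ (VarietyLib.isFinLocFreeOfRank_pullback f hn)]

/-- A morphism along which pullback is injective and detects the filtration. -/
def Good {A B : Scheme.{u}} (f : A ⟶ B) : Prop :=
  ∀ (KB KA : Type (u + 1)) [CommRing KB] [LambdaRing.LambdaOps KB] [CommRing KA] [LambdaRing.LambdaOps KA]
    (PB : LambdaRing.PosStructure KB) (PA : LambdaRing.PosStructure KA) (φB : SGA6.Kvb B →+ KB) (φA : SGA6.Kvb A →+ KA),
    KRR.IsModel B KB PB φB → KRR.IsModel A KA PA φA → ∀ g : KB →+ KA, KRR.IsPull f φB φA g →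
      Function.Injective g ∧ ∀ k, (LambdaRing.gammaFiltration PA k).comap g = LambdaRing.gammaFiltration PB k

theorem good_id {A : Scheme.{u}} [ConnectedSpace ↥A] : Good (𝟙 A) := by
  intro KB KA _ _ _ _ PB PA φB φA hB hA g hg
  obtain ⟨g', hg', hl', haug', -⟩ := exists_pullHom (𝟙 A) hA hB
  obtain ⟨h', hh', hlh', haugh', -⟩ := exists_pullHom (𝟙 A) hB hA
  obtain rfl := isPull_unique (𝟙 A) hB.bijective hg hg'
  have hinv : ∀ x, h' (g' x) = x := fun x => by
    refine (isKRing_of_isModel hB).induction (motive := fun x => h' (g' x) = x) (by simp) (fun E hE => ?_)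
      (fun a h => by simp [h]) (fun a b ha hb => by simp [ha, hb]) x
    rw [show g' (φB (KRR.cl A E)) = _ from hg' E hE]
    refine (hh' _ (DCat.PullPerf.isFinLocFree_pullback _ hE)).trans ?_
    exact congrArg φB (ExtFilt28.clv_iso ((Scheme.Modules.pullbackId A).app _ ≪≫ (Scheme.Modules.pullbackId A).app E))
  refine ⟨Function.LeftInverse.injective hinv, fun k => le_antisymm (fun x hx => ?_) fun x hx => ?_⟩
  · have h := map_mem_gammaFiltration hlh' haugh' (show g' x ∈ LambdaRing.gammaFiltration PA k from hx)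
    rwa [hinv] at h
  · exact map_mem_gammaFiltration hl' haug' hx

theorem good_comp {A B C : Scheme.{u}} [ConnectedSpace ↥B] {a : A ⟶ B} {b : B ⟶ C}
    (ha : Good a) (hb : Good b) : Good (a ≫ b) := by
  intro KC KA _ _ _ _ PC PA φC φA hC hA g hg
  obtain ⟨KB, _, _, PB, φB, hB⟩ := KModel28.exists_model B
  obtain ⟨q, hq, -⟩ := KPull28.existsUnique_isPull b φB φC hC.bijective
  obtain ⟨p, hp, -⟩ := KPull28.existsUnique_isPull a φA φB hB.bijective
  have hcomp : KRR.IsPull (a ≫ b) φC φA (p.comp q) := fun E hE => by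
    show p (q (φC (KRR.cl C E))) = _
    rw [hq E hE, hp _ (DCat.PullPerf.isFinLocFree_pullback b hE)]
    exact congrArg φA (ExtFilt28.clv_iso ((Scheme.Modules.pullbackComp a b).app E))
  obtain rfl := isPull_unique (a ≫ b) hC.bijective hg hcomp
  obtain ⟨hqi, hqk⟩ := hb KC KB PC PB φC φB hC hB q hq
  obtain ⟨hpi, hpk⟩ := ha KB KA PB PA φB φA hB hA p hp
  refine ⟨hpi.comp hqi, fun k => ?_⟩
  rw [← AddSubgroup.comap_comap, hpk, hqk]

/-- Let X be a connected Noetherian scheme, (K, P, φ) a model of the λ-ring K(X), and E a finite locally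
free O_X-module of rank m. Then there are a connected Noetherian scheme X', a morphism f : X' ⟶ X, a
model (K', P', φ') of K(X') and the pull-back g = f^K : K ⟶ K' such that g is injective, g⁻¹(F^k K')
= F^k K for all k (γ-filtrations), and g[E] = [L₁] + ⋯ + [L_m] for invertible O_{X'}-modules L_i. -/
theorem result (X : Scheme.{u}) [IsNoetherian X] [ConnectedSpace ↥X]
    (K : Type v) [CommRing K] [LambdaRing.LambdaOps K] (P : LambdaRing.PosStructure K) (φ : SGA6.Kvb X →+ K) (hK : KRR.IsModel X K P φ) (m : ℕ) (E : X.Modules) (hE : FlatMod.IsFinLocFreeOfRank m E) :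
    ∃ (X' : Scheme.{u}) (_ : IsNoetherian X') (_ : ConnectedSpace ↥X') (f : X' ⟶ X)
      (K' : Type (u + 1)) (_ : CommRing K') (_ : LambdaRing.LambdaOps K') (P' : LambdaRing.PosStructure K')
      (φ' : SGA6.Kvb X' →+ K') (_ : KRR.IsModel X' K' P' φ') (g : K →+ K') (_ : KRR.IsPull f φ φ' g),
      Function.Injective g ∧ (∀ k : ℕ, (LambdaRing.gammaFiltration P' k).comap g = LambdaRing.gammaFiltration P k) ∧
      ∃ L : Fin m → X'.Modules, (∀ j, FlatMod.IsFinLocFreeOfRank 1 (L j)) ∧ g (φ (KRR.cl X E)) = ∑ j, φ' (KRR.cl X' (L j)) := by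
  classical
  obtain ⟨X', f, ⟨hN', hC'⟩, hf, L, hL, hsum⟩ := exists_split
    (fun A : Scheme.{u} => IsNoetherian A ∧ ConnectedSpace ↥A) (fun {A B} (f : A ⟶ B) => Good f)
    (fun {A} hA => by haveI := hA.2; exact good_id)
    (fun {A B C g f} hB _ hg hf => by haveI := hB.2; exact good_comp hg hf)
    (fun {P T r E π O1 q} hT hE hPB => by
      obtain ⟨hTN, hTC⟩ := hT
      haveI := hTN
      haveI := hTC
      haveI hPN := KSplit28.isNoetherian (KPB28.locPn_of_isProjBundle hE hPB)
      haveI hPC := KSplit28.connectedSpace (KPB28.locPn_of_isProjBundle hE hPB)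
      exact ⟨⟨hPN, hPC⟩, fun KB KA _ _ _ _ PB PA φB φA hB hA g hg => comap_bundle hE hPB hB hA g hg⟩)
    m (S := X) ⟨inferInstance, inferInstance⟩ E hE
  haveI := hN'
  haveI := hC'
  obtain ⟨K', iK, oK, P', φ', hK'⟩ := KModel28.exists_model X'
  obtain ⟨K₀, _, _, P₀, φ₀, hK₀⟩ := KModel28.exists_model X
  have kK : IsKRing X K φ := ⟨hK.bijective, hK.map_one, hK.map_mul, hK.map_lam⟩
  have k₀ : IsKRing X K₀ φ₀ := ⟨hK₀.bijective, hK₀.map_one, hK₀.map_mul, hK₀.map_lam⟩
  obtain ⟨ι, hι, hιl⟩ := exists_ringHom (𝟙 X) k₀ kK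
  obtain ⟨ι', hι', hιl'⟩ := exists_ringHom (𝟙 X) kK k₀
  obtain ⟨g₀, hg₀, -⟩ := KPull28.existsUnique_isPull f φ' φ₀ hK₀.bijective
  obtain ⟨hinj, hcomap⟩ := hf K₀ K' P₀ P' φ₀ φ' hK₀ hK' g₀ hg₀
  have hinv : ∀ x, ι' (ι x) = x := fun x => by
    refine kK.induction (motive := fun x => ι' (ι x) = x) (by simp) (fun F hF => ?_)
      (fun a h => by simp [h]) (fun a b ha hb => by simp [ha, hb]) x
    rw [show ι (φ (KRR.cl X F)) = _ from hι F hF]
    refine (hι' _ (DCat.PullPerf.isFinLocFree_pullback _ hF)).trans ?_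
    exact congrArg φ (ExtFilt28.clv_iso ((Scheme.Modules.pullbackId X).app _ ≪≫ (Scheme.Modules.pullbackId X).app F))
  have hg : KRR.IsPull f φ φ' (g₀.comp ι.toAddMonoidHom) := fun F hF => by
    show g₀ (ι (φ (KRR.cl X F))) = _
    rw [show ι (φ (KRR.cl X F)) = _ from hι F hF, hg₀ _ (DCat.PullPerf.isFinLocFree_pullback _ hF)]
    exact congrArg φ' (ExtFilt28.clv_iso ((Scheme.Modules.pullback f).mapIso ((Scheme.Modules.pullbackId X).app F)))
  refine ⟨X', inferInstance, inferInstance, f, K', iK, oK, P', φ', hK', g₀.comp ι.toAddMonoidHom, hg,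
    hinj.comp (Function.LeftInverse.injective hinv), fun k => ?_, L, hL, ?_⟩
  · rw [← AddSubgroup.comap_comap, hcomap]
    refine le_antisymm (fun x hx => ?_) fun x hx => ?_
    · have h := map_mem_fil (P' := P) hιl' (aug_pullHom (𝟙 X) hK hK₀ ι' hι') (show ι x ∈ LambdaRing.gammaFiltration P₀ k from hx)
      rwa [hinv] at h
    · exact map_mem_fil hιl (aug_pullHom (𝟙 X) hK₀ hK ι hι) hx
  · exact (hg E (VarietyLib.isFinLocFree_of_rank hE)).trans ((congrArg φ' hsum).trans (map_sum φ' _ _))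

end Groth.Agent.S3784
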