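import Groth.Statements.S3747
import Groth.Agent.KPush28.Ops
import Groth.Agent.FlatMorAdm.LocFreeApps

set_option autoImplicit false
universe v u
open CategoryTheory CategoryTheory.Limits AlgebraicGeometry
attribute [local instance] HasDerivedCategory.standard
open KRR

namespace Groth.Agent.S3747

/-- Let f : X ⟶ Y be a regular closed imbedding of connected Noetherian schemes, where on Y every
coherent module is a quotient of a finite locally free one. Let (KX, PX, φX), (KY, PY, φY) be models
of the λ-rings K(X), K(Y); let g : K(Y) ⟶ K(X) be the pull-back f^K ([E] ↦ [f^*E]) and h : K(X) ⟶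
K(Y) the push-forward f_K ([F] ↦ alternating sum of the terms of a finite locally free resolution of
f_*F). Then h (x · g y) = h x · y for all x, y. -/
theorem result {X Y : Scheme.{u}} (f : X ⟶ Y) (hf : Mor2.IsRegularClosedImmersion f)
    [IsNoetherian X] [ConnectedSpace ↥X] [IsNoetherian Y] [ConnectedSpace ↥Y] (hYe : KRR.HasEnoughLocFree Y)
    (KX : Type v) [CommRing KX] [LambdaRing.LambdaOps KX] (PX : LambdaRing.PosStructure KX) (φX : SGA6.Kvb X →+ KX) (hKX : KRR.IsModel X KX PX φX)
    (KY : Type v) [CommRing KY] [LambdaRing.LambdaOps KY] (PY : LambdaRing.PosStructure KY) (φY : SGA6.Kvb Y →+ KY) (hKY : KRR.IsModel Y KY PY φY)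
    (g : KY →+ KX) (hg : KRR.IsPull f φY φX g) (h : KX →+ KY) (hh : KRR.IsPushCl f φX φY h)
    (x : KX) (y : KY) : h (x * g y) = h x * y := by
  haveI := hf.1
  obtain ⟨a, rfl⟩ := hKX.bijective.2 x
  obtain ⟨b, rfl⟩ := hKY.bijective.2 y
  refine KvbLam28.kvb_induction (P := fun a => h (φX a * g (φY b)) = h (φX a) * φY b) (by simp) ?_ ?_ ?_ a
  · intro F hF
    refine KvbLam28.kvb_induction (P := fun b => h (φX (KRR.cl X F) * g (φY b)) = h (φX (KRR.cl X F)) * φY b)
      (by simp) ?_ ?_ ?_ b
    · intro E hE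
      show h (φX (KRR.cl X F) * g (φY (KRR.cl Y E))) = h (φX (KRR.cl X F)) * φY (KRR.cl Y E)
      have hE' := FlatMorAdm.isFinLocFree_pullback f hE
      have hA := KPush28.cohBdd_push f hYe hf hF
      have hT : FlatMod.IsFinLocFree (((DCoh.tensorBi (X := X)).obj F).obj ((Scheme.Modules.pullback f).obj E)) :=
        ExtFilt28.isFinLocFree_tensor hF hE'
      have hB := KPush28.cohBdd_push f hYe hf hT
      rw [hg E hE, hKX.map_mul F _ hF hE', KPush28.isPushCl_apply hYe hh hT hB]
      obtain ⟨n, L, π, hL⟩ := KPush28.exists_lfRes hYe hA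
      rw [hh F hF n L π hL, Finset.sum_mul]
      rw [Finset.sum_congr rfl fun k _ => (smul_mul_assoc ((-1 : ℤ) ^ k) (φY (KRR.cl Y (L.X k))) (φY (KRR.cl Y E))).trans
        ((congrArg ((-1 : ℤ) ^ k • ·) (hKY.map_mul _ E (hL.finLocFree k) hE)).trans (map_zsmul φY _ _).symm), ← map_sum]
      refine congrArg φY (KPush28.eq_vbCl hYe ?_).symm
      rw [map_sum]
      simp only [map_zsmul]
      rw [Finset.sum_congr rfl fun k _ => congrArg ((-1 : ℤ) ^ k • ·)
        (KPush28.toBdd_cl (M := ((DCoh.tensorBi (X := Y)).obj (L.X k)).obj E)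
          (ExtFilt28.isFinLocFree_tensor (hL.finLocFree k) hE))]
      refine (KPush28.map_eq_sum (fun M => KZero.clSub (ResLF28.cohBdd Y) (CohB1.tensorMod M E))
        (KPush28.clSub_tensor_additive hE) hA n L π hL).symm.trans ?_
      exact KPush28.map_iso_of_additive (P := ResLF28.cohBdd Y) (KZero.clSub (ResLF28.cohBdd Y))
        (fun S hS h₁ h₂ h₃ => Resolution28.clSub_rel hS h₁ h₂ h₃) (isZero_kernel_of_mono (𝟙 _))
        (KPush28.cohBdd_kernel (𝟙 _) hA hA) (KPush28.cohBdd_tensor hA hE) hB
        (@asIso _ _ _ _ (DCat.ClosedPush.projMap f F E) (DCat.ClosedPush.isIso_projMap f F E))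
    · intro c hc; simp only [map_neg, mul_neg, hc]
    · intro c c' hc hc'; simp only [map_add, mul_add, hc, hc']
  · intro c hc; simp only [map_neg, neg_mul, hc]
  · intro c c' hc hc'; simp only [map_add, add_mul, hc, hc']

end Groth.Agent.S3747
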