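import Groth.Statements.S3744
import Groth.Agent.KFil28.Split
-- import your own Groth.Agent.* helpers here

set_option autoImplicit false
set_option linter.style.haveILetI false
set_option backward.isDefEq.respectTransparency false
universe v u
open CategoryTheory CategoryTheory.Limits AlgebraicGeometry
attribute [local instance] HasDerivedCategory.standard
open KRR

namespace Groth.Agent.S3744

open Groth.Agent Groth.Agent.KFil28 LambdaRing in
/-- A product of `γ`'s of total degree `> d` vanishes, in a model in the universe of `X`. -/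
theorem prod_eq_zero {X : Scheme.{u}} [IsNoetherian X] [ConnectedSpace ↥X] {A : X.Modules} (hA : CohB1.IsAmple A)
    {d : ℕ} (hd : topologicalKrullDim ↥X ≤ (d : WithBot ℕ∞)) {KX : Type (u + 1)} [CommRing KX]
    [LambdaRing.LambdaOps KX] {PX : LambdaRing.PosStructure KX} {φX : SGA6.Kvb X →+ KX}
    (hX : KRR.IsModel X KX PX φX) (l : List (ℕ × KX)) (hl : ∀ p ∈ l, PX.aug p.2 = 0)
    (hdeg : d + 1 ≤ (l.map Prod.fst).sum) : (l.map fun p => gamma p.1 p.2).prod = 0 := by
  classical
  have hrep : ∀ p : ℕ × KX, PX.aug p.2 = 0 → ∃ (n : ℕ) (E F : X.Modules), FlatMod.IsFinLocFreeOfRank n E ∧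
      FlatMod.IsFinLocFreeOfRank n F ∧ p.2 = φX (KRR.cl X E) - φX (KRR.cl X F) := fun p hp => by
    obtain ⟨e, f, he, hf, hef⟩ := PX.exists_sub p.2
    obtain ⟨n, E, -, hE, rfl⟩ := (hX.mem_pos_iff _).1 he
    obtain ⟨m, F, -, hF, rfl⟩ := (hX.mem_pos_iff _).1 hf
    rw [hef, map_sub, hX.aug_cl n E hE, hX.aug_cl m F hF, sub_eq_zero] at hp
    obtain rfl : n = m := by exact_mod_cast hp
    exact ⟨n, E, F, hE, hF, hef⟩
  have hlist : ∀ q : List (ℕ × KX), (∀ p ∈ q, PX.aug p.2 = 0) → ∃ M : List (ℕ × X.Modules),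
      (∀ m ∈ M, FlatMod.IsFinLocFreeOfRank m.1 m.2) ∧ ∀ p ∈ q, ∃ (n : ℕ) (E F : X.Modules),
        (n, E) ∈ M ∧ (n, F) ∈ M ∧ p.2 = φX (KRR.cl X E) - φX (KRR.cl X F) := by
    intro q
    induction q with
    | nil => exact fun _ => ⟨[], by simp, by simp⟩
    | cons p q ih =>
      intro hq
      obtain ⟨n, E, F, hE, hF, hp⟩ := hrep p (hq p (by simp))
      obtain ⟨M, hM, hMq⟩ := ih fun a ha => hq a (List.mem_cons_of_mem _ ha)
      refine ⟨(n, E) :: (n, F) :: M, fun m hm => ?_, fun a ha => ?_⟩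
      · rcases List.mem_cons.1 hm with rfl | hm
        · exact hE
        rcases List.mem_cons.1 hm with rfl | hm
        · exact hF
        exact hM m hm
      · rcases List.mem_cons.1 ha with rfl | ha
        · exact ⟨n, E, F, by simp, by simp, hp⟩
        obtain ⟨n', E', F', h1, h2, h3⟩ := hMq a ha
        exact ⟨n', E', F', by simp [h1], by simp [h2], h3⟩
  obtain ⟨M, hM, hMl⟩ := hlist l hl
  let dflt : ℕ × X.Modules := (0, Coh.structureModule X)
  have hget : ∀ i, (M.map Prod.fst).getD i 0 = (M.getD i dflt).1 := fun i => List.getD_map M dflt Prod.fst (n := i)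
  obtain ⟨Y, f, ⟨hYN, hYC, AY, hAY⟩, ⟨-, e, hdim, hgood⟩, hsplit⟩ :=
    exists_cover (M.map Prod.fst) (S := X) ⟨inferInstance, inferInstance, A, hA⟩ (fun i => (M.getD i dflt).2)
      fun i hi => by
        rw [hget, List.getD_eq_getElem _ _ (by simpa using hi)]
        exact hM _ (List.getElem_mem _)
  haveI := hYN
  haveI := hYC
  obtain ⟨KY, _, _, PY, φY, hY⟩ := KModel28.exists_model Y
  obtain ⟨g, hg, hlam, -, -⟩ := KSplit28.exists_pullHom f hY hX
  obtain ⟨c, hc, hinj⟩ := hgood KY PY φY KX PX φX hY hX g hg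
  have hlines : ∀ m ∈ M, ∃ s : Multiset KY, (∀ u ∈ s, PY.IsLine u) ∧ s.card = m.1 ∧
      g (φX (KRR.cl X m.2)) = s.sum := fun m hm => by
    obtain ⟨i, hi, hmi⟩ := List.getElem_of_mem hm
    obtain ⟨L, hL, hsum⟩ := hsplit i (by simpa using hi)
    have hget' : M.getD i dflt = m := by rw [List.getD_eq_getElem _ _ hi, hmi]
    refine ⟨Finset.univ.val.map fun j => φY (KRR.cl Y (L j)), fun u hu => ?_, ?_, ?_⟩
    · obtain ⟨j, -, rfl⟩ := Multiset.mem_map.1 hu
      exact isLine_cl hY (hL j)
    · rw [Multiset.card_map, Finset.card_val, Finset.card_univ, Fintype.card_fin, hget, hget']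
    · rw [show g (φX (KRR.cl X m.2)) = _ from hg m.2 (VarietyLib.isFinLocFree_of_rank (hM m hm))]
      rw [hget'] at hsum
      rw [hsum, map_sum]
      rfl
  have hgl : g (l.map fun p => gamma p.1 p.2).prod ∈ lineIdeal PY ^ (l.map Prod.fst).sum := by
    have h := prod_gamma_mem_pow (P := PY) (l.map fun p => (p.1, g p.2)) fun q hq => by
      obtain ⟨p, hp, rfl⟩ := List.mem_map.1 hq
      obtain ⟨n, E, F, hE, hF, hpe⟩ := hMl p hp
      obtain ⟨s, hs, hsc, hse⟩ := hlines _ hE
      obtain ⟨t, ht, htc, hte⟩ := hlines _ hF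
      exact ⟨s, t, hs, ht, hsc.trans htc.symm, by simp only [hpe, map_sub, hse, hte]⟩
    rw [List.map_map, List.map_map] at h
    rw [map_list_prod, List.map_map]
    simpa [Function.comp_def, LambdaLib.gamma_map hlam] using h
  refine hinj ?_
  show c * g _ = c * g 0
  rw [map_zero, mul_zero]
  have h := Ideal.mul_mem_mul hc hgl
  rw [← pow_add] at h
  have h' := Ideal.pow_le_pow_right (show d + e + 1 ≤ e + (l.map Prod.fst).sum by omega) h
  rwa [lineIdeal_pow_eq_bot hY hAY (hdim d hd), Ideal.mem_bot] at h'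

/-- Let X be a connected Noetherian scheme with an ample invertible module, of dimension at most d
(Krull dimension of the underlying topological space), and (K, P, φ) a model of the λ-ring K(X).
Then the γ-filtration of K(X) satisfies F^{d+1} K(X) = 0. -/
theorem result (X : Scheme.{u}) [IsNoetherian X] [ConnectedSpace ↥X]
    (L : X.Modules) (hL : CohB1.IsAmple L) (d : ℕ) (hd : topologicalKrullDim ↥X ≤ (d : WithBot ℕ∞))
    (K : Type v) [CommRing K] [LambdaRing.LambdaOps K] (P : LambdaRing.PosStructure K) (φ : SGA6.Kvb X →+ K) (hK : KRR.IsModel X K P φ) :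
    LambdaRing.gammaFiltration P (d + 1) = ⊥ := by
  classical
  obtain ⟨KX, _, _, PX, φX, hX⟩ := KModel28.exists_model X
  obtain ⟨ε, hε, -, hεlam, hεaug⟩ := KSplit28.exists_iso hK hX
  refine (AddSubgroup.eq_bot_iff_forall _).2 fun x hx => ?_
  refine LambdaLib.gammaFiltration_induction P (by omega) (motive := fun a => a = 0) (fun l hl hdeg => hε.1 ?_) rfl
    (fun a b ha hb => by rw [ha, hb, add_zero]) (fun a ha => by rw [ha, neg_zero]) hx
  have hγ : ∀ (k : ℕ) (a : K), ε (LambdaRing.gamma k a) = LambdaRing.gamma k (ε a) := fun k a => by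
    unfold LambdaRing.gamma
    split_ifs with h
    · exact map_one ε
    · rw [map_sum]
      refine Finset.sum_congr rfl fun j _ => ?_
      rw [map_mul, map_natCast]
      split_ifs with hj
      · rw [map_zero]
      · rw [hεlam]
  rw [map_zero, map_list_prod, List.map_map]
  have h := prod_eq_zero hL hd hX (l.map fun p => (p.1, ε p.2)) (fun q hq => by
    obtain ⟨p, hp, rfl⟩ := List.mem_map.1 hq
    rw [hεaug]; exact hl p hp) (by simpa [List.map_map, Function.comp_def] using hdeg)
  simpa [List.map_map, Function.comp_def, hγ] using h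

end Groth.Agent.S3744
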