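import Groth.Statements.S3752
import Groth.Agent.KSplit28.AdamsPY
set_option linter.style.haveILetI false
set_option backward.isDefEq.respectTransparency false

set_option autoImplicit false
universe v u
open CategoryTheory CategoryTheory.Limits AlgebraicGeometry
attribute [local instance] HasDerivedCategory.standard
open scoped TensorProduct
open KRR

namespace Groth.Agent.S3752
open Groth.Agent Groth.Agent.KSplit28 in
theorem transport (n : ℕ) (Y : Scheme.{u}) [IsNoetherian Y] [ConnectedSpace ↥Y]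
    {KP : Type v} [CommRing KP] [LambdaRing.LambdaOps KP] {PP : LambdaRing.PosStructure KP} {φP : SGA6.Kvb (KRR.PY n Y) →+ KP}
    (hKP : KRR.IsModel (KRR.PY n Y) KP PP φP)
    {KY : Type v} [CommRing KY] [LambdaRing.LambdaOps KY] {PY : LambdaRing.PosStructure KY} {φY : SGA6.Kvb Y →+ KY}
    (hKY : KRR.IsModel Y KY PY φY)
    {g : KP →+ KY} (hg : KRR.IsPushPr n Y φP φY g) (j : ℕ) (hj : 1 ≤ j) {Z : Type} [CommRing Z] (hZ : IsUnit (j : Z))
    [Module.Flat ℤ Z] (z : KP) :
    (∃ w : TensorProduct ℤ Z KP, w * ((1 : Z) ⊗ₜ[ℤ] KRR.bott PP j (φP (KRR.cl (KRR.PY n Y)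
      (KRR.twF n Y (-1) ((Scheme.Modules.pullback (KRR.pr n Y)).obj (FlatMod.freeMod Y (n + 1))))))) = 1) ∧
    ∀ w : TensorProduct ℤ Z KP, w * ((1 : Z) ⊗ₜ[ℤ] KRR.bott PP j (φP (KRR.cl (KRR.PY n Y)
      (KRR.twF n Y (-1) ((Scheme.Modules.pullback (KRR.pr n Y)).obj (FlatMod.freeMod Y (n + 1))))))) = 1 →
    (1 : Z) ⊗ₜ[ℤ] LambdaRing.adams PY j (g z) =
      LinearMap.lTensor Z g.toIntLinearMap
        ((j : TensorProduct ℤ Z KP) * ((1 : Z) ⊗ₜ[ℤ] LambdaRing.adams PP j z) * w) := by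
  haveI := connectedSpace_PY n Y
  obtain ⟨KP', _, _, PP', φP', hP'⟩ := KModel28.exists_model (KRR.PY n Y)
  obtain ⟨KY', _, _, PY', φY', hY'⟩ := KModel28.exists_model Y
  obtain ⟨a, ha, haφ, hal, haug⟩ := exists_iso hP' hKP
  obtain ⟨b, hb, hbφ, hbl, hbug⟩ := exists_iso hY' hKY
  let A := RingEquiv.ofBijective a ha
  let B := RingEquiv.ofBijective b hb
  let g' : KP' →+ KY' := B.symm.toAddEquiv.toAddMonoidHom.comp (g.comp a.toAddMonoidHom)
  have hg' : KRR.IsPushPr n Y φP' φY' g' := fun F hF hr => by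
    show B.symm (g (a (φP' _))) = _
    rw [haφ, hg F hF hr, RingEquiv.symm_apply_eq]
    exact (hbφ _).symm
  obtain ⟨z, rfl⟩ := ha.2 z
  obtain ⟨⟨w0, hw0⟩, hid⟩ := adams_core n Y hP' hY' hg' j hj hZ z
  let T := Algebra.TensorProduct.map (AlgHom.id ℤ Z) a.toIntAlgHom
  let T' := Algebra.TensorProduct.map (AlgHom.id ℤ Z) A.symm.toRingHom.toIntAlgHom
  have hTT : ∀ x, T (T' x) = x := fun x => by
    induction x using TensorProduct.induction_on with
    | zero => simp
    | add p q hp hq => simp only [map_add, hp, hq]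
    | tmul c d =>
      show c ⊗ₜ[ℤ] a (A.symm d) = _
      rw [show a (A.symm d) = d from A.apply_symm_apply d]
  have hθ : T ((1 : Z) ⊗ₜ[ℤ] KRR.bott PP' j (φP' (KRR.cl (KRR.PY n Y)
      (KRR.twF n Y (-1) ((Scheme.Modules.pullback (KRR.pr n Y)).obj (FlatMod.freeMod Y (n + 1))))))) =
      (1 : Z) ⊗ₜ[ℤ] KRR.bott PP j (φP (KRR.cl (KRR.PY n Y)
      (KRR.twF n Y (-1) ((Scheme.Modules.pullback (KRR.pr n Y)).obj (FlatMod.freeMod Y (n + 1)))))) := by
    show (1 : Z) ⊗ₜ[ℤ] a _ = _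
    rw [map_bott (P' := PP) a hal haug, haφ]
  refine ⟨⟨T w0, by rw [← hθ, ← map_mul, hw0, map_one]⟩, fun w hw => ?_⟩
  have hinj : Function.Injective T := by
    refine Function.LeftInverse.injective (g := T') fun x => ?_
    induction x using TensorProduct.induction_on with
    | zero => simp
    | add p q hp hq => simp only [map_add, hp, hq]
    | tmul c d =>
      show c ⊗ₜ[ℤ] A.symm (A d) = _
      rw [A.symm_apply_apply]
  have hkey := hid (T' w) (hinj (by rw [map_mul, hθ, hTT, map_one, hw]))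
  have h2 := congrArg (Algebra.TensorProduct.map (AlgHom.id ℤ Z) b.toIntAlgHom) hkey
  refine (Eq.trans ?_ h2).trans ?_
  · show _ = (1 : Z) ⊗ₜ[ℤ] b _
    rw [map_adams' (P' := PY) b hbl hbug]
    exact congrArg (fun y => (1 : Z) ⊗ₜ[ℤ] LambdaRing.adams PY j y) (B.apply_symm_apply _).symm
  · have hnat : ∀ x : TensorProduct ℤ Z KP', Algebra.TensorProduct.map (AlgHom.id ℤ Z) b.toIntAlgHom
        (LinearMap.lTensor Z g'.toIntLinearMap x) = LinearMap.lTensor Z g.toIntLinearMap (T x) := fun x => by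
      induction x using TensorProduct.induction_on with
      | zero => simp
      | add p q hp hq => simp only [map_add, hp, hq]
      | tmul c d =>
        show c ⊗ₜ[ℤ] b (B.symm (g (a d))) = c ⊗ₜ[ℤ] g (a d)
        rw [show b (B.symm (g (a d))) = g (a d) from B.apply_symm_apply _]
    rw [hnat]
    congr 1
    rw [map_mul T, map_mul T, map_natCast T, hTT]
    congr 2
    show (1 : Z) ⊗ₜ[ℤ] a _ = _
    rw [map_adams' (P' := PP) a hal haug]

/-- Adams Riemann–Roch for the projection p : P = Pⁿ_Y ⟶ Y: let S be an affine Noetherian scheme, Y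
connected, Noetherian and quasi-projective over S, (KP, PP, φP) and (KY, PY, φY) models of K(P) and
K(Y) as λ-rings with positive structure, and g = p_K : K(P) → K(Y) the push-forward ([F] ↦ [p_*F] on
regular finite locally free F). Fix j ≥ 1, put R = ℤ[1/j] and let q = [p^*O_Y^{n+1} ⊗ O_P(−1)] ∈
K(P) (the class of the cotangent module of p plus 1, by the Euler sequence), so that the usual Adams
Riemann–Roch multiplier θ^j(T_p^∨)^{−1} is j · θ^j(q)^{−1}, θ^j denoting the Bott cannibalistic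
class. Then 1 ⊗ θ^j(q) is invertible in R ⊗ K(P) and, for every z ∈ K(P) and every inverse w of 1 ⊗
θ^j(q): 1 ⊗ ψ^j(p_K z) = (R ⊗ p_K)(j · (1 ⊗ ψ^j z) · w) in R ⊗ K(Y). -/
theorem result (S : Scheme.{u}) [IsAffine S] [IsNoetherian S] (n : ℕ) (Y : Scheme.{u}) [IsNoetherian Y] [ConnectedSpace ↥Y] (qY : Y ⟶ S) (hqY : KRR.IsQProjOver qY)
    (KP : Type v) [CommRing KP] [LambdaRing.LambdaOps KP] (PP : LambdaRing.PosStructure KP) (φP : SGA6.Kvb (KRR.PY n Y) →+ KP) (hKP : KRR.IsModel (KRR.PY n Y) KP PP φP)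
    (KY : Type v) [CommRing KY] [LambdaRing.LambdaOps KY] (PY : LambdaRing.PosStructure KY) (φY : SGA6.Kvb Y →+ KY) (hKY : KRR.IsModel Y KY PY φY)
    (g : KP →+ KY) (hg : KRR.IsPushPr n Y φP φY g) (j : ℕ) (hj : 1 ≤ j) (z : KP)
    :
    (∃ w : TensorProduct ℤ (Localization.Away (j : ℤ)) KP, w * ((1 : Localization.Away (j : ℤ)) ⊗ₜ[ℤ] KRR.bott PP j (φP (KRR.cl (KRR.PY n Y)
      (KRR.twF n Y (-1) ((Scheme.Modules.pullback (KRR.pr n Y)).obj (FlatMod.freeMod Y (n + 1))))))) = 1) ∧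
    ∀ w : TensorProduct ℤ (Localization.Away (j : ℤ)) KP, w * ((1 : Localization.Away (j : ℤ)) ⊗ₜ[ℤ] KRR.bott PP j (φP (KRR.cl (KRR.PY n Y)
      (KRR.twF n Y (-1) ((Scheme.Modules.pullback (KRR.pr n Y)).obj (FlatMod.freeMod Y (n + 1))))))) = 1 →
    (1 : Localization.Away (j : ℤ)) ⊗ₜ[ℤ] LambdaRing.adams PY j (g z) =
      LinearMap.lTensor (Localization.Away (j : ℤ)) g.toIntLinearMap
        ((j : TensorProduct ℤ (Localization.Away (j : ℤ)) KP) * ((1 : Localization.Away (j : ℤ)) ⊗ₜ[ℤ] LambdaRing.adams PP j z) * w) := by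
  have hZ : IsUnit ((j : Localization.Away (j : ℤ))) := by
    simpa using IsLocalization.Away.algebraMap_isUnit (S := Localization.Away (j : ℤ)) (j : ℤ)
  have hflat : @Module.Flat ℤ (Localization.Away (j : ℤ)) _ _ (AddCommGroup.toIntModule _) := by
    convert IsLocalization.flat (Localization.Away (j : ℤ)) (Submonoid.powers (j : ℤ)) <;>
      first | rfl | exact Subsingleton.elim _ _
  exact @transport n Y _ _ KP _ _ PP φP hKP KY _ _ PY φY hKY g hg j hj (Localization.Away (j : ℤ)) _ hZ hflat z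

end Groth.Agent.S3752
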