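import Groth.Statements.S3753
import Groth.Agent.KRR28.Transfer
import Groth.Agent.S3752
set_option linter.style.haveILetI false
set_option backward.isDefEq.respectTransparency false

set_option autoImplicit false
universe v u
open CategoryTheory CategoryTheory.Limits AlgebraicGeometry
attribute [local instance] HasDerivedCategory.standard
open scoped TensorProduct
open KRR

namespace Groth.Agent.S3753

theorem transport_comp {KX KP KY : Type v} [CommRing KX] [LambdaRing.LambdaOps KX] [CommRing KP]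
    [LambdaRing.LambdaOps KP] [CommRing KY] {PX : LambdaRing.PosStructure KX} {PP : LambdaRing.PosStructure KP}
    (g : KP →+* KX) (hgl : ∀ (i : ℕ) (x : KP), g (LambdaRing.LambdaOps.lam i x) = LambdaRing.LambdaOps.lam i (g x))
    (hgaug : ∀ x, PX.aug (g x) = PP.aug x) (j : ℕ) (b : KP →+ KY) (a : KX →+ KP)
    (hproj : ∀ (y : KX) (z : KP), a (y * g z) = a y * z)
    (Z : Type) [CommRing Z] (e : KP) (y : KX) (R : TensorProduct ℤ Z KY)
    (hex : ∃ w : TensorProduct ℤ Z KP, w * ((1 : Z) ⊗ₜ[ℤ] KRR.bott PP j e) = 1)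
    (hR : ∀ w : TensorProduct ℤ Z KP, w * ((1 : Z) ⊗ₜ[ℤ] KRR.bott PP j e) = 1 →
      R = LinearMap.lTensor Z b.toIntLinearMap ((j : TensorProduct ℤ Z KP) * ((1 : Z) ⊗ₜ[ℤ] a y) * w)) :
    (∃ w : TensorProduct ℤ Z KX, w * ((1 : Z) ⊗ₜ[ℤ] KRR.bott PX j (g.toAddMonoidHom e)) = 1) ∧
      ∀ w : TensorProduct ℤ Z KX, w * ((1 : Z) ⊗ₜ[ℤ] KRR.bott PX j (g.toAddMonoidHom e)) = 1 →
        R = LinearMap.lTensor Z (b.comp a).toIntLinearMap ((j : TensorProduct ℤ Z KX) * ((1 : Z) ⊗ₜ[ℤ] y) * w) := by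
  obtain ⟨wP, hwP⟩ := hex
  let G : TensorProduct ℤ Z KP →ₐ[ℤ] TensorProduct ℤ Z KX :=
    Algebra.TensorProduct.map (AlgHom.id ℤ Z) g.toIntAlgHom
  have hG : G wP * ((1 : Z) ⊗ₜ[ℤ] KRR.bott PX j (g.toAddMonoidHom e)) = 1 := by
    have := congrArg G hwP
    rw [map_mul, map_one] at this
    refine Eq.trans ?_ this
    show G wP * ((1 : Z) ⊗ₜ[ℤ] KRR.bott PX j (g e)) = G wP * ((1 : Z) ⊗ₜ[ℤ] g (KRR.bott PP j e))
    rw [Groth.Agent.KSplit28.map_bott g hgl hgaug]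
  refine ⟨⟨G wP, hG⟩, fun w hw => ?_⟩
  obtain rfl : w = G wP := left_inv_eq_right_inv hw
    (show ((1 : Z) ⊗ₜ[ℤ] KRR.bott PX j (g.toAddMonoidHom e)) * G wP = 1 by rw [mul_comm]; exact hG)
  rw [hR wP hwP]
  suffices key : ∀ W : TensorProduct ℤ Z KP,
      LinearMap.lTensor Z b.toIntLinearMap ((j : TensorProduct ℤ Z KP) * ((1 : Z) ⊗ₜ[ℤ] a y) * W) =
        LinearMap.lTensor Z (b.comp a).toIntLinearMap ((j : TensorProduct ℤ Z KX) * ((1 : Z) ⊗ₜ[ℤ] y) * G W) from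
    key _
  intro W
  induction W using TensorProduct.induction_on with
  | zero => simp
  | tmul r z =>
    rw [show G (r ⊗ₜ[ℤ] z) = r ⊗ₜ[ℤ] g z from rfl, ← nsmul_one (A := TensorProduct ℤ Z KP) j,
      ← nsmul_one (A := TensorProduct ℤ Z KX) j]
    simp only [smul_mul_assoc, one_mul, map_nsmul, Algebra.TensorProduct.tmul_mul_tmul, LinearMap.lTensor_tmul]
    refine congrArg (fun t => j • (r ⊗ₜ[ℤ] t)) ?_
    show b (a y * z) = b (a (y * g z))
    rw [hproj]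
  | add p q hp hq => simp only [mul_add, map_add, hp, hq]

/-- Let S be affine Noetherian, Y connected and quasi-projective over S, and f = i ≫ p : X ⟶ Y with i :
X ⟶ P = P^n_Y a regular closed imbedding (X connected, conormal module C finite locally free of rank
c) and p the projection. With models of K(X), K(P), K(Y), the pull-back i^K, and push-forwards i_K
(via resolutions) and p_K (via regular sheaves), put f_K = p_K ∘ i_K and R = ℤ[1/j]. The source's
multiplier θ^j(T_f^∨)^{-1}, where T_f = [i^* T_{P/Y}] - [N_{X/P}] is the tangent element, equals j ·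
θ^j([C]) · θ^j(i^K q)^{-1} with q = [p^*O_Y^{n+1} ⊗ O_P(-1)]. Then 1 ⊗ θ^j(i^K q) is invertible in R
⊗ K(X) and, for every x ∈ K(X) and every inverse w of it: 1 ⊗ ψ^j(f_K x) = (R ⊗ f_K)(j · (1 ⊗
θ^j([C]) ψ^j(x)) · w). -/
theorem result (S : Scheme.{u}) [IsAffine S] [IsNoetherian S] (n : ℕ) {X Y : Scheme.{u}} [IsNoetherian Y] [ConnectedSpace ↥Y] (qY : Y ⟶ S) (hqY : KRR.IsQProjOver qY)
    (i : X ⟶ KRR.PY n Y) (hi : Mor2.IsRegularClosedImmersion i) [ConnectedSpace ↥X] (c : ℕ)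
    (hC : FlatMod.IsFinLocFreeOfRank c (Omega.conormal i))
    (KX : Type v) [CommRing KX] [LambdaRing.LambdaOps KX] (PX : LambdaRing.PosStructure KX) (φX : SGA6.Kvb X →+ KX) (hKX : KRR.IsModel X KX PX φX)
    (KP : Type v) [CommRing KP] [LambdaRing.LambdaOps KP] (PP : LambdaRing.PosStructure KP) (φP : SGA6.Kvb (KRR.PY n Y) →+ KP) (hKP : KRR.IsModel (KRR.PY n Y) KP PP φP)
    (KY : Type v) [CommRing KY] [LambdaRing.LambdaOps KY] (PY : LambdaRing.PosStructure KY) (φY : SGA6.Kvb Y →+ KY) (hKY : KRR.IsModel Y KY PY φY)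
    (gi : KP →+ KX) (hgi : KRR.IsPull i φP φX gi)
    (a : KX →+ KP) (ha : KRR.IsPushCl i φX φP a) (b : KP →+ KY) (hb : KRR.IsPushPr n Y φP φY b)
    (j : ℕ) (hj : 1 ≤ j) (x : KX)
    :
    (∃ w : TensorProduct ℤ (Localization.Away (j : ℤ)) KX, w * ((1 : Localization.Away (j : ℤ)) ⊗ₜ[ℤ] KRR.bott PX j (gi (φP (KRR.cl (KRR.PY n Y)
      (KRR.twF n Y (-1) ((Scheme.Modules.pullback (KRR.pr n Y)).obj (FlatMod.freeMod Y (n + 1)))))))) = 1) ∧
    ∀ w : TensorProduct ℤ (Localization.Away (j : ℤ)) KX, w * ((1 : Localization.Away (j : ℤ)) ⊗ₜ[ℤ] KRR.bott PX j (gi (φP (KRR.cl (KRR.PY n Y)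
      (KRR.twF n Y (-1) ((Scheme.Modules.pullback (KRR.pr n Y)).obj (FlatMod.freeMod Y (n + 1)))))))) = 1 →
    (1 : Localization.Away (j : ℤ)) ⊗ₜ[ℤ] LambdaRing.adams PY j (b (a x)) =
      LinearMap.lTensor (Localization.Away (j : ℤ)) (b.comp a).toIntLinearMap
        ((j : TensorProduct ℤ (Localization.Away (j : ℤ)) KX) *
          ((1 : Localization.Away (j : ℤ)) ⊗ₜ[ℤ] (KRR.bott PX j (φX (KRR.cl X (Omega.conormal i))) * LambdaRing.adams PX j x)) * w) := by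
  haveI := hi.1
  haveI := Groth.Agent.KPushPr28.isNoetherian_PY n Y
  haveI := Groth.Agent.KSplit28.connectedSpace_PY n Y
  haveI : IsLocallyNoetherian X := LocallyOfFiniteType.isLocallyNoetherian i
  haveI : CompactSpace X := i.isClosedEmbedding.compactSpace
  haveI : IsNoetherian X := {}
  obtain ⟨A, hA⟩ := Groth.Agent.KRR28.exists_isAmple_qproj hqY
  obtain ⟨B, hB⟩ := Groth.Agent.KRR28.exists_isAmple_PY hA n
  have hPe := Groth.Agent.KRR28.enough_of_ample hB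
  obtain ⟨g, hg, hgl, hgaug, -⟩ := Groth.Agent.KSplit28.exists_pullHom i hKX hKP
  obtain rfl := Groth.Agent.KSplit28.isPull_unique i hKP.bijective hgi hg
  have hproj : ∀ (y : KX) (z : KP), a (y * g z) = a y * z := fun y z =>
    Groth.Agent.S3747.result i hi hPe KX PX φX hKX KP PP φP hKP g.toAddMonoidHom hgi a ha y z
  obtain ⟨⟨wP, hwP⟩, hS⟩ := Groth.Agent.S3752.result S n Y qY hqY KP PP φP hKP KY PY φY hKY b hb j hj (a x)
  exact transport_comp g hgl hgaug j b a hproj _ _ _ _ ⟨wP, hwP⟩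
    (fun w hw => hS w hw |>.trans (by rw [Groth.Agent.KRR28.adams_pushCl_regular' hB i hi hC hKX hKP ha hj x]))

end Groth.Agent.S3753
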