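import Groth.Statements.S3776
import Groth.Agent.KSplit28.PYGamma
import Groth.Agent.S3784
set_option backward.isDefEq.respectTransparency false
set_option linter.style.haveILetI false

set_option autoImplicit false
universe v u
open CategoryTheory CategoryTheory.Limits AlgebraicGeometry
attribute [local instance] HasDerivedCategory.standard
open KRR Groth.Agent Groth.Agent.KSplit28

namespace Groth.Agent.S3776

/-- For the trivial bundle of rank n+1: let Y be a connected Noetherian scheme and p : P^n_Y ⟶ Y. With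
models and p_K the push-forward: p_K(F^k K(P^n_Y)) ⊆ F^{k-n} K(Y) for all k (γ-filtrations; F^m = K
for m ≤ 0). No tensoring with ℚ is needed here. -/
theorem result (n : ℕ) (Y : Scheme.{u}) [IsNoetherian Y] [ConnectedSpace ↥Y]
    (KP : Type v) [CommRing KP] [LambdaRing.LambdaOps KP] (PP : LambdaRing.PosStructure KP) (φP : SGA6.Kvb (KRR.PY n Y) →+ KP) (hKP : KRR.IsModel (KRR.PY n Y) KP PP φP)
    (KY : Type v) [CommRing KY] [LambdaRing.LambdaOps KY] (PY : LambdaRing.PosStructure KY) (φY : SGA6.Kvb Y →+ KY) (hKY : KRR.IsModel Y KY PY φY)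
    (g : KP →+ KY) (hg : KRR.IsPushPr n Y φP φY g) (k : ℕ) (x : KP) (hx : x ∈ LambdaRing.gammaFiltration PP k) :
    g x ∈ LambdaRing.gammaFiltration PY (k - n) := by
  classical
  haveI := connectedSpace_PY n Y
  haveI : IsNoetherian (KRR.PY n Y) := by
    haveI := RelVALib.isProper_toBase n Y
    haveI : IsLocallyNoetherian (KRR.PY n Y) := LocallyOfFiniteType.isLocallyNoetherian (KRR.pr n Y)
    haveI : CompactSpace ↥(KRR.PY n Y) := QuasiCompact.compactSpace_of_compactSpace (KRR.pr n Y)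
    exact { }
  obtain ⟨K₀, _, _, P₀, φ₀, hK₀⟩ := KModel28.exists_model (KRR.PY n Y)
  obtain ⟨L₀, _, _, Q₀, ψ₀, hL₀⟩ := KModel28.exists_model Y
  obtain ⟨q, l, e, hq, he, hr, hl, haug, hpos, hline, hpow, hrel, hbasis⟩ := exists_PY_data n Y hK₀ hL₀
  have kP : IsKRing (KRR.PY n Y) KP φP := ⟨hKP.bijective, hKP.map_one, hKP.map_mul, hKP.map_lam⟩
  have kY : IsKRing Y KY φY := ⟨hKY.bijective, hKY.map_one, hKY.map_mul, hKY.map_lam⟩
  have kP₀ := isKRing_of_isModel hK₀
  have kY₀ := isKRing_of_isModel hL₀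
  obtain ⟨ι, hι, hιl⟩ := exists_ringHom (𝟙 (KRR.PY n Y)) kP₀ kP
  obtain ⟨ι', hι', hιl'⟩ := exists_ringHom (𝟙 (KRR.PY n Y)) kP kP₀
  obtain ⟨η, hη, hηl⟩ := exists_ringHom (𝟙 Y) kY kY₀
  have hinv : ∀ y, ι' (ι y) = y := fun y => by
    refine kP.induction (motive := fun y => ι' (ι y) = y) (by simp) (fun F hF => ?_)
      (fun a h => by simp [h]) (fun a b ha hb => by simp [ha, hb]) y
    rw [show ι (φP (KRR.cl _ F)) = _ from hι F hF]
    refine (hι' _ (DCat.PullPerf.isFinLocFree_pullback _ hF)).trans ?_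
    exact congrArg φP (ExtFilt28.clv_iso ((Scheme.Modules.pullbackId _).app _ ≪≫ (Scheme.Modules.pullbackId _).app F))
  have hid : ∀ {Z : Scheme.{u}} (M : Z.Modules), KRR.cl Z ((Scheme.Modules.pullback (𝟙 Z)).obj M) = KRR.cl Z M :=
    fun M => ExtFilt28.clv_iso ((Scheme.Modules.pullbackId _).app M)
  have hval : ∀ (a : L₀) (j : ℕ), g (ι' (q a * l ^ j)) = ((Nat.choose (n + j) j : ℕ) : ℤ) • η a := fun a j => by
    refine kY₀.induction (motive := fun a => g (ι' (q a * l ^ j)) = ((Nat.choose (n + j) j : ℕ) : ℤ) • η a)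
      (by simp) (fun V hV => ?_) ?_ ?_ a
    · rw [show q (ψ₀ (KRR.cl Y V)) = _ from hq V hV, ← hpow,
        hK₀.map_mul _ _ (DCat.PullPerf.isFinLocFree_pullback _ hV) (KPr28.isFinLocFree_twistOver _),
        show η (ψ₀ (KRR.cl Y V)) = _ from hη V hV, hid]
      refine (congrArg g (hι' _ (ExtFilt28.isFinLocFree_tensor (DCat.PullPerf.isFinLocFree_pullback _ hV)
        (KPr28.isFinLocFree_twistOver _)))).trans ?_
      rw [hid]
      refine (congrArg (fun z => g (φP z)) (show _ = KRR.cl (KRR.PY n Y) (KPr28.twPull n (j : ℤ) V) from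
        ExtFilt28.clv_iso (AmpleLib.tensorComm _ _))).trans ?_
      rw [hg _ (KPr28.isFinLocFree_twPull hV _) (KPr28.regP_twPull hV (Int.natCast_nonneg j)).2,
        KPr28.push_twPull hV j, map_zsmul]
    · intro b hb; simp only [map_neg, neg_mul, hb, smul_neg]
    · intro b c hb hc; simp only [map_add, add_mul, hb, hc, smul_add]
  have hx₀ : ι x ∈ LambdaRing.gammaFiltration P₀ k :=
    S3784.map_mem_fil hιl (S3784.aug_pullHom (𝟙 _) hK₀ hKP ι hι) hx
  have hgen := gammaFiltration_le_gen he hr q l hl haug hpos hline hrel hbasis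
    (hasSplitting (KRR.PY n Y) K₀ P₀ φ₀ hK₀) hx₀
  rw [← hinv x]
  refine AddSubgroup.closure_induction (p := fun z _ => g (ι' z) ∈ LambdaRing.gammaFiltration PY (k - n))
    ?_ (by simp) (fun a b _ _ ha hb => by simp only [map_add]; exact add_mem ha hb)
    (fun a _ ha => by simp only [map_neg]; exact neg_mem ha) hgen
  rintro z ⟨i, hi, a, ha, rfl⟩
  rw [pow_sub_one_eq, Finset.mul_sum, map_sum, map_sum]
  refine sum_mem fun j _ => ?_
  rw [show q a * ((-1 : K₀) ^ (i - j) * (i.choose j : K₀) * l ^ j) =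
    (((-1 : ℤ) ^ (i - j) * (i.choose j : ℤ) : ℤ)) • (q a * l ^ j) by rw [zsmul_eq_mul]; push_cast; ring,
    map_zsmul, map_zsmul, hval]
  refine AddSubgroup.zsmul_mem _ (AddSubgroup.zsmul_mem _ ?_ _) _
  exact LambdaLib.gammaFiltration_antitone PY (by omega)
    (S3784.map_mem_fil hηl (S3784.aug_pullHom (𝟙 _) hKY hL₀ η hη) ha)

end Groth.Agent.S3776
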