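import Groth.Statements.S7174
import Groth.Agent.FlatCx12.TDLocal

set_option autoImplicit false
universe u
attribute [local instance] HasDerivedCategory.standard
open FlatMor

namespace Groth.Agent.S7174

open AlgebraicGeometry CategoryTheory Limits in
/-- (1) ⇔ (3): for a pseudo-coherent f : X → S, f is perfect exactly when, at every point x of X, the
stalk O_{X,x}, viewed as a module over O_{S,f(x)} through the stalk map, is of finite tor dimension.
(The intermediate condition on the structure sheaf as a sheaf of f⁻¹O_S-modules is not restated.) -/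
theorem result {X S : Scheme.{u}} (f : X ⟶ S) (hf : MoreMor.IsPseudoCoherentMor f) :
    MoreMor.IsPerfectMor f ↔ ∀ x : X,
      (letI := (f.stalkMap x).hom.toAlgebra
       DRing.HasFiniteTorDim ↑(S.presheaf.stalk (f x)) ↑(X.presheaf.stalk x)) := by
  have hloc : ∀ (U : X.Opens) (V : S.Opens) (hU : IsAffineOpen U) (hV : IsAffineOpen V) (hUV : U ≤ f ⁻¹ᵁ V)
      (x : U), (letI := (f.stalkMap x.1).hom.toAlgebra
        ∃ d, Groth.Agent.FlatMorPerfect.TD (S.presheaf.stalk (f x.1)) d (X.presheaf.stalk x.1)) ↔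
      (letI := (f.appLE V U hUV).hom.toAlgebra
        ∃ d, Groth.Agent.FlatMorPerfect.TD Γ(S, V) d (Localization.AtPrime (hU.primeIdealOf x).asIdeal)) := by
    intro U V hU hV hUV x
    let := (f.appLE V U hUV).hom.toAlgebra
    let := (f.stalkMap x.1).hom.toAlgebra
    let : Algebra Γ(X, U) (X.presheaf.stalk x.1) := TopCat.Presheaf.algebra_section_stalk X.presheaf x
    let y : V := ⟨f x.1, hUV x.2⟩
    let : Algebra Γ(S, V) (S.presheaf.stalk (f x.1)) := TopCat.Presheaf.algebra_section_stalk S.presheaf y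
    let : Algebra Γ(S, V) (X.presheaf.stalk x.1) :=
      ((algebraMap Γ(X, U) (X.presheaf.stalk x.1)).comp (f.appLE V U hUV).hom).toAlgebra
    haveI : IsScalarTower Γ(S, V) Γ(X, U) (X.presheaf.stalk x.1) := .of_algebraMap_eq fun _ => rfl
    haveI : IsScalarTower Γ(S, V) (S.presheaf.stalk (f x.1)) (X.presheaf.stalk x.1) := by
      refine .of_algebraMap_eq fun a => ?_
      show X.presheaf.germ U x.1 x.2 (f.appLE V U hUV a) = f.stalkMap x.1 (S.presheaf.germ V (f x.1) (hUV x.2) a)
      rw [Scheme.Hom.germ_stalkMap_apply, Scheme.Hom.appLE]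
      exact TopCat.Presheaf.germ_res_apply _ _ _ _ _
    haveI : IsLocalization.AtPrime (X.presheaf.stalk x.1) (hU.primeIdealOf x).asIdeal := hU.isLocalization_stalk x
    haveI : IsLocalization.AtPrime (S.presheaf.stalk (f x.1)) (hV.primeIdealOf y).asIdeal :=
      hV.isLocalization_stalk y
    haveI : Module.Flat Γ(S, V) (S.presheaf.stalk (f x.1)) :=
      IsLocalization.flat _ (hV.primeIdealOf y).asIdeal.primeCompl
    let e : X.presheaf.stalk x.1 ≃ₗ[Γ(S, V)] Localization.AtPrime (hU.primeIdealOf x).asIdeal :=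
      (IsLocalization.algEquiv (hU.primeIdealOf x).asIdeal.primeCompl (X.presheaf.stalk x.1)
        (Localization.AtPrime (hU.primeIdealOf x).asIdeal)).toLinearEquiv.restrictScalars Γ(S, V)
    constructor
    · rintro ⟨d, hd⟩
      exact ⟨0 + d, Groth.Agent.FlatMorPerfect.td_congr e
        (Groth.Agent.FlatMorPerfect.td_comp (Groth.Agent.FlatMorPerfect.td_of_flat 0) d _ hd)⟩
    · rintro ⟨d, hd⟩
      exact ⟨d, Groth.Agent.FlatCx12.TDLocal.td_localization (hV.primeIdealOf y).asIdeal.primeCompl _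
        (Groth.Agent.FlatMorPerfect.td_congr e.symm hd)⟩
  constructor
  · intro h x
    obtain ⟨_, ⟨V, hV, rfl⟩, hxV, -⟩ :=
      S.isBasis_affineOpens.exists_subset_of_mem_open (Set.mem_univ (f x)) isOpen_univ
    obtain ⟨_, ⟨U, hU, rfl⟩, hxU, hUV⟩ :=
      X.isBasis_affineOpens.exists_subset_of_mem_open (show x ∈ f ⁻¹ᵁ V from hxV) (f ⁻¹ᵁ V).isOpen
    let := (f.stalkMap x).hom.toAlgebra
    rw [Groth.Agent.FlatMorPerfect.hasFiniteTorDim_iff]
    refine (hloc U V hU hV hUV ⟨x, hxU⟩).2 ?_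
    let := (f.appLE V U hUV).hom.toAlgebra
    obtain ⟨d, hd⟩ := Groth.Agent.FlatMorPerfect.hasFiniteTorDim_iff.1 (h U V hU hV hUV).2
    haveI : Module.Flat Γ(X, U) (Localization.AtPrime (hU.primeIdealOf ⟨x, hxU⟩).asIdeal) :=
      IsLocalization.flat _ (hU.primeIdealOf ⟨x, hxU⟩).asIdeal.primeCompl
    exact ⟨d, Groth.Agent.FlatMorPerfect.td_flat_module hd _⟩
  · intro h U V hU hV hUV
    let := (f.appLE V U hUV).hom.toAlgebra
    refine ⟨hf U V hU hV hUV, Groth.Agent.FlatMorPerfect.hasFiniteTorDim_iff.2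
      (Groth.Agent.FlatCx12.TDLocal.exists_td_of_pcHom (hf U V hU hV hUV) fun b => ?_)⟩
    have hxU : hU.fromSpec b ∈ U := by
      rw [← SetLike.mem_coe, ← hU.range_fromSpec]; exact ⟨b, rfl⟩
    have hb : hU.primeIdealOf ⟨_, hxU⟩ = b :=
      hU.fromSpec.isOpenEmbedding.injective (hU.fromSpec_primeIdealOf ⟨_, hxU⟩)
    let := (f.stalkMap (⟨hU.fromSpec b, hxU⟩ : U).1).hom.toAlgebra
    have := (hloc U V hU hV hUV ⟨_, hxU⟩).1 (Groth.Agent.FlatMorPerfect.hasFiniteTorDim_iff.1 (h _))
    rw [hb] at this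
    exact this

end Groth.Agent.S7174
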