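import Groth.Statements.S6236
import Groth.Agent.FlatCx12.RelPC
import Groth.Agent.DQCoh.PerfectAffine
-- import your own Groth.Agent.* helpers here

set_option autoImplicit false
universe u
open CategoryTheory CategoryTheory.Limits AlgebraicGeometry
open Groth.Agent Groth.Agent.DCat Groth.Agent.FlatCx12.RelPCChart
attribute [local instance] HasDerivedCategory.standard
open KSix

namespace Groth.Agent.S6236

/-- Let f : X ⟶ Y be a morphism of schemes with X quasi-compact, n an integer, and E an object of D(O_X)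
which is n-pseudo-coherent relative to f (chart form; in particular f is locally of finite type).
Then the cohomology of E is bounded above. (Without quasi-compactness of X the cohomology is only
locally bounded above.) -/
theorem result {X Y : Scheme.{u}} [CompactSpace X] (f : X ⟶ Y) (n : ℤ)
    (E : DCoh.D X) (hE : DerSch.IsPseudoCoherentRel f n E) : ∃ b : ℤ, E.IsLE b := by
  obtain ⟨-, 𝒱, h𝒱, h⟩ := hE
  have hloc : ∀ x : X, ∃ (U : X.Opens) (b : ℤ), x ∈ U ∧ ((PerfLocal.rd U.ι).obj E).IsLE b := by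
    intro x
    obtain ⟨V, hxV⟩ := TopologicalSpace.Opens.mem_iSup.1 ((h𝒱 ▸ trivial : f x ∈ ⨆ V ∈ 𝒱, (V : Y.Opens)))
    obtain ⟨hV, hxV⟩ := TopologicalSpace.Opens.mem_iSup.1 hxV
    obtain ⟨𝒰, h𝒰, hU⟩ := h V hV
    obtain ⟨U, hxU⟩ := TopologicalSpace.Opens.mem_iSup.1 ((h𝒰 ▸ hxV : x ∈ ⨆ U ∈ 𝒰, (U : X.Opens)))
    obtain ⟨hUm, hxU⟩ := TopologicalSpace.Opens.mem_iSup.1 hxU
    have hle : (U : X.Opens) ≤ f ⁻¹ᵁ (V : Y.Opens) := h𝒰 ▸ le_iSup₂ (f := fun (U : X.affineOpens) _ => (U : X.Opens)) U hUm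
    obtain ⟨k, φ, ⟨hs, -⟩, hp⟩ := hU U hUm hle
    obtain ⟨_, hp⟩ := (Groth.Agent.FlatCx12.RelPCChart.chartPC_iff n E U.2 hs).1 hp
    obtain ⟨b, hb⟩ := Groth.Agent.DQCoh.exists_isLE_psc hp
    refine ⟨(U : X.Opens), b, hxU, (DerivedCategory.isLE_iff _ _).2 fun i hi => ?_⟩
    haveI := hb
    haveI := Groth.Agent.FlatCx12.RelPCChart.isClosedImmersion_along U.2 hs
    let c := (U : X.Opens).toSpecΓ ≫ Spec.map (CommRingCat.ofHom φ)
    exact Groth.Agent.FlatCx12.EmbPush.isZero_of_push c c.isClosedEmbedding _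
      ((DerivedCategory.isZero_of_isLE _ b i hi).of_iso
        (SuppOpen.hdMapIso (Scheme.Modules.pushforward c) ((PerfLocal.rd (U : X.Opens).ι).obj E) i).symm)
  choose U b hxU hle using hloc
  obtain ⟨t, ht⟩ := isCompact_univ.elim_finite_subcover (fun x => (U x : Set X))
    (fun x => (U x).2) (fun x _ => Set.mem_iUnion.2 ⟨x, hxU x⟩)
  obtain ⟨B, hB⟩ := (t.image b).finite_toSet.bddAbove
  refine ⟨B, (DerivedCategory.isLE_iff _ _).2 fun i hi => ModStalk.isZero_of_stalks fun y => ?_⟩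
  obtain ⟨x, hxt, hy⟩ := Set.mem_iUnion₂.1 (ht (Set.mem_univ y))
  haveI := hle x
  have hi' : b x < i := lt_of_le_of_lt (hB (Finset.mem_image_of_mem _ hxt)) hi
  have hz := ((DerivedCategory.isZero_of_isLE _ (b x) i hi').of_iso
    (SuppOpen.hdMapIso (Scheme.Modules.restrictFunctor (U x).ι) E i).symm)
  obtain ⟨z, rfl⟩ : y ∈ Set.range (U x).ι := by rw [Scheme.Opens.range_ι]; exact hy
  haveI := SuppOpen.subsingleton_stalk_of_restrict (U x).ι (DCoh.HD E i) z
    (SuppOpen.subsingleton_of_isZero_stalkFunctor _ z ((DerSch.stalkFunctor _ z).map_isZero hz))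
  exact SuppOpen.isZero_stalkFunctor _ _

end Groth.Agent.S6236
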