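import Mathlib.RingTheory.Kaehler.Basic
import Mathlib.FieldTheory.Perfect
import Mathlib.Algebra.CharP.Defs
import Groth.Agent.EGA41Lib.FieldSeparableSmooth

set_option autoImplicit false
universe u
namespace CAlg
end CAlg
open CAlg

namespace Groth.Agent.S2148

/-- Let `k` be a perfect field of characteristic `p > 0` and `K` an extension field of `k`. For `a ∈ K`,
the differential `da` vanishes in `Ω_{K/k}` if and only if `a` is a `p`-th power in `K`. -/
theorem result {k K : Type u} [Field k] [Field K] [Algebra k K] (p : ℕ) [Fact p.Prime]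
    [CharP k p] [PerfectRing k p] (a : K) :
    KaehlerDifferential.D k K a = 0 ↔ ∃ b : K, b ^ p = a := by
  haveI : CharP K p := charP_of_injective_algebraMap (algebraMap k K).injective p
  rw [EGA41Lib.PB.D_eq_zero_iff_mem (p := p) (A := k)]
  constructor
  · intro ha
    induction ha using Algebra.adjoin_induction with
    | mem x hx => obtain ⟨b, hb⟩ := hx; exact ⟨b, hb⟩
    | algebraMap r =>
      obtain ⟨s, hs⟩ := (frobeniusEquiv k p).surjective r
      exact ⟨algebraMap k K s, by rw [← map_pow, ← hs]; rfl⟩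
    | add x y _ _ hx hy =>
      obtain ⟨a, rfl⟩ := hx
      obtain ⟨b, rfl⟩ := hy
      exact ⟨a + b, add_pow_char a b p⟩
    | mul x y _ _ hx hy =>
      obtain ⟨a, rfl⟩ := hx
      obtain ⟨b, rfl⟩ := hy
      exact ⟨a * b, mul_pow a b p⟩
  · rintro ⟨b, rfl⟩
    exact Algebra.subset_adjoin ⟨b, rfl⟩

end Groth.Agent.S2148
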