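import Groth.Statements.S1011
import Groth.Agent.DQCoh.PerfectHom

set_option autoImplicit false
universe u
open CategoryTheory CategoryTheory.Limits AlgebraicGeometry
attribute [local instance] HasDerivedCategory.standard
open Perf

namespace Groth.Agent.S1011

open CategoryTheory.Pretriangulated DerivedCategory Groth.Agent.DQCoh Groth.Agent.DCat

local notation "t₀[" X "]" => (DerivedCategory.TStructure.t : CategoryTheory.Triangulated.TStructure (DCoh.D X))

/-- If `H^i L = 0` on `[a, b]`, then `τ_{≥a} L ≥ b + 1`. -/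
theorem isGE_truncGE {X : Scheme.{u}} (L : DCoh.D X) (a b : ℤ)
    (h : ∀ i : ℤ, a ≤ i → i ≤ b → IsZero (DCoh.HD L i)) : ((t₀[X].truncGE a).obj L).IsGE (b + 1) := by
  rw [DerivedCategory.isGE_iff]
  intro i hi
  rcases lt_or_ge i a with hia | hia
  · exact isZero_of_isGE _ a i hia
  · have hT := rot_of_distTriang _ (t₀[X].triangleLTGE_distinguished a L)
    haveI := t₀[X].isLE_truncLT_obj L a (a - 1) (by omega)
    haveI : (((t₀[X].truncLT a).obj L)⟦(1 : ℤ)⟧).IsLE (a - 2) := t₀[X].isLE_shift _ (a - 1) 1 (a - 2) (by omega)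
    exact (HomologySequence.exact₂ _ hT i).isZero_of_both_zeros ((h i hia (by omega)).eq_of_src _ _)
      ((isZero_of_isLE (((t₀[X].truncLT a).obj L)⟦(1 : ℤ)⟧) (a - 2) i (by omega)).eq_of_tgt _ _)


/-- Let the scheme X be quasi-compact and quasi-separated and K a perfect object of D(O_X). (1) There
are integers a ≤ b such that every morphism K ⟶ L vanishes whenever L has quasi-coherent cohomology
sheaves which are zero in all degrees of the interval [a, b]. (2) If L ∈ D_QCoh(O_X) is bounded,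
then the set of n for which there is a nonzero morphism K ⟶ L[n] is finite. -/
theorem result (X : Scheme.{u}) [CompactSpace ↥X] [QuasiSeparatedSpace ↥X]
    (K : DCoh.D X) (hK : DCoh.IsPerfect K) :
    (∃ a b : ℤ, a ≤ b ∧ ∀ L : DCoh.D X, DCoh.IsQCohD L → (∀ i : ℤ, a ≤ i → i ≤ b → IsZero (DCoh.HD L i)) →
      ∀ φ : K ⟶ L, φ = 0) ∧
    ∀ (L : DCoh.D X) (a' b' : ℤ), DCoh.IsQCohD L → L.IsGE a' → L.IsLE b' →
      {n : ℤ | ∃ φ : K ⟶ L⟦n⟧, φ ≠ 0}.Finite := by
  let t := t₀[X]
  obtain ⟨N, hN⟩ := upperBound_perfect K hK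
  obtain ⟨bK, hbK⟩ := exists_isLE_perfect K hK
  haveI := hbK
  have hup : ∀ (E : DCoh.D X) (b : ℤ), DCoh.IsQCohD E → E.IsLE b → b + N ≤ 0 → ∀ φ : K ⟶ E, φ = 0 := by
    intro E b hE hb hbN φ
    let e := (shiftFunctorZero' (DCoh.D X) (-(0 : ℤ)) (by omega)).app K
    rw [← cancel_epi e.hom, comp_zero]
    exact hN E b hE hb 0 hbN _
  refine ⟨⟨1 - N, max (1 - N) bK, le_max_left _ _, fun L hL hz φ => ?_⟩, fun L a' b' hL ha hb => ?_⟩
  · haveI hA : ((t.truncLT (1 - N)).obj L).IsLE (-N) := t.isLE_truncLT_obj L (1 - N) (-N) (by omega)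
    haveI hG : ((t.truncGE (1 - N)).obj L).IsGE (max (1 - N) bK + 1) := isGE_truncGE L _ _ hz
    exact hom_vanish_trans (t.triangleLTGE_distinguished (1 - N) L)
      (fun ψ => hup _ (-N) (isQCohD_truncLT L hL _) hA (by omega) ψ)
      (fun ψ => t.zero ψ bK (max (1 - N) bK + 1) (by omega)) φ
  · refine (Set.finite_Ico (a' - bK) (b' + N)).subset fun n hn => ?_
    obtain ⟨φ, hφ⟩ := hn
    haveI := ha
    haveI := hb
    haveI : (L⟦n⟧).IsGE (a' - n) := t.isGE_shift L a' n (a' - n) (by omega)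
    haveI hLE : (L⟦n⟧).IsLE (b' - n) := t.isLE_shift L b' n (b' - n) (by omega)
    simp only [Set.mem_Ico]
    constructor
    · by_contra hc
      exact hφ (t.zero φ bK (a' - n) (by omega))
    · by_contra hc
      exact hφ (hup _ (b' - n) (isQCohD_shift hL n) hLE (by omega) φ)

end Groth.Agent.S1011
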