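import Groth.Statements.S19878
import Mathlib
import Groth.Prelude
import Groth.Agent.FSchLib.IdealSheaf

set_option linter.all false

set_option autoImplicit false
universe u
open LVCorr

open AlgebraicGeometry CategoryTheory CategoryTheory.Limits

namespace Groth.Agent.S19878

lemma comap_pow {X Y : Scheme.{u}} (f : X ⟶ Y) (I : Y.IdealSheafData) (n : ℕ) :
    (I ^ n).comap f = I.comap f ^ n := by
  induction n with
  | zero => simp
  | succ n ih => rw [pow_succ, pow_succ, Groth.Agent.FSchLib.comap_mul, ih]

lemma isOpen_support_of_mul_self {F : Scheme.{u}} [IsLocallyNoetherian F] (K : F.IdealSheafData)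
    (hK : K * K = K) : IsOpen (K.support : Set F) := by
  refine isOpen_iff_forall_mem_open.2 fun x hx => ?_
  obtain ⟨_, ⟨U, hU, rfl⟩, hxU, -⟩ :=
    F.isBasis_affineOpens.exists_subset_of_mem_open (Set.mem_univ x) isOpen_univ
  haveI : IsNoetherianRing Γ(F, U) := IsLocallyNoetherian.component_noetherian ⟨U, hU⟩
  have hid : IsIdempotentElem (K.ideal ⟨U, hU⟩) := by
    have := congr_arg (fun I : F.IdealSheafData => I.ideal ⟨U, hU⟩) hK
    simpa [IsIdempotentElem] using this
  obtain ⟨e, he, hspan⟩ :=
    (Ideal.isIdempotentElem_iff_of_fg _ (IsNoetherian.noetherian _)).1 hid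
  refine ⟨F.basicOpen (1 - e), ?_, (F.basicOpen (1-e)).2, ?_⟩
  · intro y hy
    have hyU : y ∈ U := F.basicOpen_le _ hy
    rw [SetLike.mem_coe, K.mem_support_iff_of_mem (U := ⟨U, hU⟩) hyU, hspan]
    rw [Scheme.mem_zeroLocus_iff]
    intro g hg hyg
    obtain ⟨a, rfl⟩ := Ideal.mem_span_singleton'.1 hg
    have h0 : F.basicOpen ((1 - e) * (a * e)) = F.basicOpen (1-e) ⊓ F.basicOpen (a * e) :=
      Scheme.basicOpen_mul _ _ _
    have : y ∈ F.basicOpen ((1 - e) * (a * e)) := h0 ▸ ⟨hy, hyg⟩
    rw [show (1 - e) * (a * e) = 0 by linear_combination (-a) * he.eq] at this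
    simp at this
  · rw [SetLike.mem_coe, Scheme.mem_basicOpen (hx := hxU)]
    have hxe : x ∉ F.basicOpen e := by
      have := (K.mem_support_iff_of_mem (U := ⟨U, hU⟩) hxU).1 hx
      rw [Scheme.mem_zeroLocus_iff] at this
      exact this e (hspan ▸ Ideal.mem_span_singleton_self e)
    rw [Scheme.mem_basicOpen (hx := hxU)] at hxe
    rw [map_sub, map_one]
    have := IsLocalRing.isUnit_or_isUnit_one_sub_self ((F.presheaf.germ U x hxU).hom e)
    exact this.resolve_left hxe

open AlgebraicGeometry CategoryTheory CategoryTheory.Limits in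
/-- Let k be a field, C a k-scheme of finite type, X a k-scheme and c = (c₁, c₂) : C → X ×_k X a
correspondence; let Fix(c) = C ×_{X ×_k X} X be its scheme of fixed points (pullback along the
diagonal), with projections i : Fix(c) → C and δ : Fix(c) → X. Let Z ⊂ X be the closed subscheme of
a quasi-coherent ideal I and suppose c is contracting near Z in a neighbourhood of the fixed points:
there is an open W ⊆ C containing the image of Fix(c) such that on W the inverse image ideal of I
under c₁ is contained in the inverse image ideal of I under c₂ (c stabilizes Z on W) and some power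
(I·O_W via c₁)^k₀ is contained in (I·O_W via c₂)^(k₀+1). Then every connected open subset β of
Fix(c) whose image under δ meets Z is contained, as a set, in δ⁻¹(Z). (The source works with
separated schemes of finite type over an algebraically closed field; this row assumes only that C is
of finite type over a field k.) -/
theorem result {C X Fx : Scheme.{u}} (k : Type u) [Field k]
    (pC : C ⟶ Spec (CommRingCat.of k)) [LocallyOfFiniteType pC] [QuasiCompact pC]
    (pX : X ⟶ Spec (CommRingCat.of k)) (c₁ c₂ : C ⟶ X) (hc : c₁ ≫ pX = c₂ ≫ pX)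
    (i : Fx ⟶ C) (δ : Fx ⟶ X) (hF : IsPullback i δ (pullback.lift c₁ c₂ hc) (pullback.diagonal pX))
    (I : X.IdealSheafData) (W : C.Opens) (hW : Set.range i.base ⊆ (W : Set C))
    (hle : I.comap (W.ι ≫ c₁) ≤ I.comap (W.ι ≫ c₂))
    (k₀ : ℕ) (hpow : I.comap (W.ι ≫ c₁) ^ k₀ ≤ I.comap (W.ι ≫ c₂) ^ (k₀ + 1))
    (β : Fx.Opens) (hβ : _root_.IsConnected (β : Set Fx))
    (hβZ : (δ.base '' (β : Set Fx) ∩ (I.support : Set X)).Nonempty) :
    (β : Set Fx) ⊆ δ.base ⁻¹' (I.support : Set X) := by
  haveI : IsImmersion i :=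
    MorphismProperty.of_isPullback (P := @IsImmersion) hF.flip inferInstance
  haveI : IsLocallyNoetherian C := LocallyOfFiniteType.isLocallyNoetherian pC
  haveI : IsLocallyNoetherian Fx := LocallyOfFiniteType.isLocallyNoetherian i
  have h1 : i ≫ c₁ = δ := by
    have := congr_arg (· ≫ pullback.fst pX pX) hF.w
    simpa [pullback.lift_fst] using this
  have h2 : i ≫ c₂ = δ := by
    have := congr_arg (· ≫ pullback.snd pX pX) hF.w
    simpa [pullback.lift_snd] using this
  have hr : Set.range i.base ⊆ Set.range W.ι.base := by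
    rw [Scheme.Opens.range_ι]; exact hW
  have hj : IsOpenImmersion.lift W.ι i hr ≫ W.ι = i := IsOpenImmersion.lift_fac _ _ _
  set j := IsOpenImmersion.lift W.ι i hr
  have e1 : (I.comap (W.ι ≫ c₁)).comap j = I.comap δ := by
    rw [← Scheme.IdealSheafData.comap_comp, ← Category.assoc, hj, h1]
  have e2 : (I.comap (W.ι ≫ c₂)).comap j = I.comap δ := by
    rw [← Scheme.IdealSheafData.comap_comp, ← Category.assoc, hj, h2]
  have hJ := Scheme.IdealSheafData.comap_mono j hpow
  simp only [comap_pow, e1, e2] at hJ
  set J := I.comap δ with hJdef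
  have hanti : ∀ n, J ^ (n + 1) ≤ J ^ n := by
    intro n
    intro U
    simp only [Scheme.IdealSheafData.ideal_pow, Pi.pow_apply]
    exact Ideal.pow_le_pow_right (Nat.le_succ n)
  have heq : J ^ (k₀ + 1) = J ^ k₀ := le_antisymm (hanti k₀) hJ
  have hadd : ∀ m, J ^ (k₀ + m) = J ^ k₀ := by
    intro m
    induction m with
    | zero => simp
    | succ m ih => rw [← Nat.add_assoc, pow_succ, ih, ← pow_succ, heq]
  have hsupp : (J.support : Set Fx) = δ.base ⁻¹' (I.support : Set X) := by
    rw [hJdef, Scheme.IdealSheafData.support_comap]; rfl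
  have hclop : IsClopen (J.support : Set Fx) := by
    refine ⟨J.support.isClosed, ?_⟩
    rcases eq_or_ne k₀ 0 with h0 | h0
    · subst h0
      have hJt : J = ⊤ := by
        have := heq
        simp only [zero_add, pow_one, pow_zero] at this
        simpa using this
      rw [hJt]; simp
    · have hs : (J ^ k₀).support = J.support := Scheme.IdealSheafData.support_pow J k₀ h0
      rw [← hs]
      exact isOpen_support_of_mul_self _ (by rw [← pow_add, hadd])
  rw [← hsupp]
  refine hβ.isPreconnected.subset_isClopen hclop ?_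
  obtain ⟨_, ⟨y, hy, rfl⟩, hyI⟩ := hβZ
  exact ⟨y, hy, by rw [hsupp]; exact hyI⟩

end Groth.Agent.S19878
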