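import Groth.Statements.S6002
import Groth.Agent.LiftObs29.Affine
import Groth.Agent.Models7.PicThickSurj
-- import your own Groth.Agent.* helpers here

set_option autoImplicit false
set_option backward.isDefEq.respectTransparency.types false
set_option backward.isDefEq.respectTransparency false
set_option linter.style.haveILetI false
universe u
open SGA1

namespace Groth.Agent.S6002

open AlgebraicGeometry CategoryTheory CategoryTheory.Limits in
/-- Let Y be a locally Noetherian scheme, Y₀ a closed subscheme of Y with the same underlying space (a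
closed immersion i : Y₀ ⟶ Y that is surjective on points) and X₀ an affine scheme smooth over Y₀.
Then there is a smooth Y-scheme X together with a Y₀-isomorphism e : X₀ ≅ X ×_Y Y₀, and X is unique
up to a (non-unique) isomorphism: for every smooth Y-scheme X' with a Y₀-isomorphism e' : X₀ ≅ X'
×_Y Y₀ there is a Y-isomorphism φ : X ≅ X' under which the closed immersion of X₀ into X given by e
corresponds to the one into X' given by e'. -/
theorem result {Y₀ Y X₀ : Scheme.{u}} [IsLocallyNoetherian Y]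
    (i : Y₀ ⟶ Y) [IsClosedImmersion i] (hi : Function.Surjective i.base)
    (f₀ : X₀ ⟶ Y₀) [Smooth f₀] [IsAffine X₀] :
    ∃ (X : Scheme.{u}) (g : X ⟶ Y) (_ : Smooth g) (e : X₀ ≅ pullback g i),
      e.hom ≫ pullback.snd g i = f₀ ∧
      ∀ (X' : Scheme.{u}) (g' : X' ⟶ Y) [Smooth g'] (e' : X₀ ≅ pullback g' i),
        e'.hom ≫ pullback.snd g' i = f₀ →
        ∃ φ : X ≅ X', φ.hom ≫ g' = g ∧
          (e.hom ≫ pullback.fst g i) ≫ φ.hom = e'.hom ≫ pullback.fst g' i := by
  have hc : IsCompact (Set.range (f₀ ≫ i)) := isCompact_range (f₀ ≫ i).continuous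
  obtain ⟨s, hs⟩ := hc.elim_finite_subcover (fun V : Y.affineOpens => (V.1 : Set Y)) (fun V => V.1.isOpen)
    (fun y _ => by
      obtain ⟨_, ⟨V, hV, rfl⟩, hy, -⟩ := Y.isBasis_affineOpens.exists_subset_of_mem_open
        (Set.mem_univ y) isOpen_univ
      exact Set.mem_iUnion.2 ⟨⟨V, hV⟩, hy⟩)
  let W : Y.Opens := ⨆ V ∈ s, V.1
  have hWc : IsCompact (W : Set Y) := by
    show IsCompact ((⨆ V ∈ s, V.1 : Y.Opens) : Set Y)
    simp only [TopologicalSpace.Opens.coe_iSup]
    exact s.finite_toSet.isCompact_biUnion fun V _ => V.2.isCompact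
  haveI : CompactSpace W.toScheme := isCompact_iff_compactSpace.1 hWc
  have hW : ∀ x, i (f₀ x) ∈ W := fun x => by
    obtain ⟨V, hV, hx⟩ := Set.mem_iUnion₂.1 (hs ⟨x, rfl⟩)
    exact (le_iSup₂_of_le V hV le_rfl : V.1 ≤ W) hx
  haveI : Surjective i := ⟨hi⟩
  let k : (i ⁻¹ᵁ W).toScheme ⟶ W.toScheme := i ∣_ W
  haveI : IsClosedImmersion k := IsZariskiLocalAtTarget.restrict (P := @IsClosedImmersion) inferInstance W
  haveI : Surjective k := IsZariskiLocalAtTarget.restrict (P := @Surjective) inferInstance W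
  obtain ⟨N, hN⟩ := Models7.exists_pow_ker_eq_bot k
  have hN' : k.ker ^ (N + 1) = ⊥ := by rw [pow_succ, hN, LiftObs29.bot_mul_sheaf]
  let f₁ : X₀ ⟶ (i ⁻¹ᵁ W).toScheme := IsOpenImmersion.lift (i ⁻¹ᵁ W).ι f₀ (by
    rintro _ ⟨x, rfl⟩
    rw [Scheme.Opens.range_ι]
    exact hW x)
  have hf₁ : f₁ ≫ (i ⁻¹ᵁ W).ι = f₀ := IsOpenImmersion.lift_fac _ _ _
  haveI : Smooth f₁ := MorphismProperty.of_isPullback (P := @Smooth)
    (IsOpenImmersion.isPullback f₁ (𝟙 X₀) (i ⁻¹ᵁ W).ι f₀ (by rw [hf₁, Category.id_comp]) (by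
      ext x
      simp only [Scheme.Opens.opensRange_ι, Scheme.Hom.opensRange_of_isIso, TopologicalSpace.Opens.coe_top, Set.mem_univ, true_iff]
      exact iff_of_true (hW x) trivial)).flip inferInstance
  obtain ⟨⟨X, g, j, -, hg, hj⟩, hu⟩ := LiftObs29.affine_nilpotent N k hN' f₁
  have hb := (isPullback_morphismRestrict i W)
  have hX : IsPullback j f₀ (g ≫ W.ι) i := hf₁ ▸ hj.paste_vert hb
  haveI : Smooth (g ≫ W.ι) := inferInstance
  refine ⟨X, g ≫ W.ι, inferInstance, hX.isoPullback, hX.isoPullback_hom_snd, fun X' g' _ e' he' => ?_⟩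
  let j' := e'.hom ≫ pullback.fst g' i
  have hX' : IsPullback j' f₀ g' i :=
    (IsPullback.of_hasPullback g' i).of_iso e'.symm (Iso.refl _) (Iso.refl _) (Iso.refl _) (by simp [j'])
      (by rw [Iso.refl_hom, Category.comp_id, Iso.symm_hom, Iso.eq_inv_comp, he']) (by simp) (by simp)
  haveI : Surjective j' := MorphismProperty.of_isPullback (P := @Surjective) hX'.flip inferInstance
  let g'' : X' ⟶ W.toScheme := IsOpenImmersion.lift W.ι g' (by
    rintro _ ⟨y, rfl⟩
    obtain ⟨x, rfl⟩ := j'.surjective y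
    rw [Scheme.Opens.range_ι, ← Scheme.Hom.comp_apply, hX'.w, Scheme.Hom.comp_apply]
    exact hW x)
  have hg'' : g'' ≫ W.ι = g' := IsOpenImmersion.lift_fac _ _ _
  haveI : Smooth g'' := MorphismProperty.of_isPullback (P := @Smooth)
    (IsOpenImmersion.isPullback g'' (𝟙 X') W.ι g' (by rw [hg'', Category.id_comp]) (by
      ext y
      simp only [Scheme.Opens.opensRange_ι, Scheme.Hom.opensRange_of_isIso, TopologicalSpace.Opens.coe_top, Set.mem_univ, true_iff]
      obtain ⟨x, rfl⟩ := j'.surjective y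
      refine iff_of_true ?_ trivial
      show (j' ≫ g') x ∈ W
      rw [hX'.w]
      exact hW x)).flip inferInstance
  have hX'' : IsPullback j' f₁ g'' k := by
    refine IsPullback.of_bot ?_ ?_ hb
    · rw [hf₁, hg'']; exact hX'
    · rw [← cancel_mono W.ι, Category.assoc j' g'' W.ι, hg'', hX'.w, Category.assoc, morphismRestrict_ι, ← Category.assoc, hf₁]
  obtain ⟨φ, hφ, hφ'⟩ := hu X X' g g'' j j' hj hX''
  refine ⟨φ, ?_, ?_⟩
  · rw [← hg'', reassoc_of% hφ']
  · rw [hX.isoPullback_hom_fst]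
    exact hφ

end Groth.Agent.S6002
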