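import Groth.Statements.S0262
import Groth.Agent.Lef23.PuncturedExtend

set_option autoImplicit false
set_option backward.isDefEq.respectTransparency false
universe u
open Pi1

namespace Groth.Agent.S0262

open AlgebraicGeometry CategoryTheory CategoryTheory.Limits in
/-- Let A be a Noetherian local ring with completion A^, U the punctured spectrum of A and U' its base
change to Spec A^. A finite etale cover V of U is the restriction of a finite etale cover of Spec A
if and only if the base change of V to U' is the restriction of a finite etale cover of Spec A^. -/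
theorem result (A : Type u) [CommRing A] [IsNoetherianRing A] [IsLocalRing A]
    (V : FEt.Cat (FEt.puncturedSpec A : Scheme.{u})) :
    (∃ Y : FEt.Cat (Spec (CommRingCat.of A)),
      Nonempty ((FEt.restrict (FEt.puncturedSpec A).ι).obj Y ≅ V)) ↔
    (∃ Y' : FEt.Cat (Spec (CommRingCat.of (AdicCompletion (IsLocalRing.maximalIdeal A) A))),
      Nonempty ((FEt.restrict (pullback.snd (FEt.puncturedSpec A).ι
        (Spec.map (CommRingCat.ofHom
          (algebraMap A (AdicCompletion (IsLocalRing.maximalIdeal A) A)))))).obj Y' ≅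
        (FEt.restrict (pullback.fst (FEt.puncturedSpec A).ι
        (Spec.map (CommRingCat.ofHom
          (algebraMap A (AdicCompletion (IsLocalRing.maximalIdeal A) A)))))).obj V)) := by
  let B := AdicCompletion (IsLocalRing.maximalIdeal A) A
  let U := FEt.puncturedSpec A
  let g := Spec.map (CommRingCat.ofHom (algebraMap A B))
  constructor
  · rintro ⟨Y, ⟨e⟩⟩
    exact ⟨(FEt.restrict g).obj Y, ⟨(Agent.Lef23.PuncturedExtend.rComp (pullback.snd U.ι g) g _ rfl).symm.app Y ≪≫
      (Agent.Lef23.PuncturedExtend.rComp (pullback.fst U.ι g) U.ι _ pullback.condition.symm).app Y ≪≫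
      (FEt.restrict (pullback.fst U.ι g)).mapIso e⟩⟩
  · rintro ⟨Y', ⟨e⟩⟩
    haveI : IsNoetherianRing B := Agent.Matlis6.isNoetherianRing_adicCompletion _
    haveI : Module.FaithfullyFlat A B := Agent.Lef23.Descend.faithfullyFlat_completion A
    haveI : IsFinite V.hom := V.prop.1
    haveI : IsFinite Y'.hom := Y'.prop.1
    obtain ⟨Y, y, hy, hyet, ⟨i, hi⟩, -⟩ := Agent.Lef23.Descend.exists_extension A B
      (Agent.Lef23.Descend.dense_completion A) V.hom Y'.hom
      ((MorphismProperty.Over.forget _ _ _ ⋙ Over.forget _).mapIso e.symm) (MorphismProperty.Over.w e.inv)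
    exact ⟨MorphismProperty.Over.mk ⊤ y ⟨hy, hyet Y'.prop.2⟩, ⟨MorphismProperty.Over.isoMk i hi⟩⟩

end Groth.Agent.S0262
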