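import Groth.Statements.S14269
import Groth.Agent.CAlgH3.VdimEtaleConn
import Groth.Agent.CAlgH3.FEtClopenFF

set_option autoImplicit false
universe u
open Pi1

namespace Groth.Agent.S14269

section helpers

open AlgebraicGeometry CategoryTheory CategoryTheory.Limits TopologicalSpace Groth.Agent

variable (A : Type u) [CommRing A] [IsNoetherianRing A] [IsLocalRing A] {S : Type u} [CommRing S]
  [IsRegularLocalRing S] [IsAdicComplete (IsLocalRing.maximalIdeal S) S] {d : ℕ} (hd : ringKrullDim S = d)
  (s : Finset S) (hs : s.card + 2 ≤ d)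
  (e : AdicCompletion (IsLocalRing.maximalIdeal A) A ≃+* S ⧸ Ideal.span (s : Set S))

include hd hs e in
theorem isConnected_generizations {Y : Scheme.{u}} (g : Y ⟶ Spec (CommRingCat.of A)) [IsFinite g] [Etale g]
    (x : Y) (hx : g x = IsLocalRing.closedPoint A) :
    _root_.IsConnected {y : Y | y ⤳ x ∧ g y ≠ IsLocalRing.closedPoint A} := by
  haveI : IsAffine Y := isAffine_of_isAffineHom g
  let B := Γ(Y, ⊤)
  let φ : CommRingCat.of A ⟶ B := (Scheme.ΓSpecIso (CommRingCat.of A)).inv ≫ g.appTop
  have hg : Y.isoSpec.hom ≫ Spec.map φ = g := by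
    rw [Spec.map_comp, Scheme.isoSpec_hom_naturality_assoc, Scheme.isoSpec_Spec_hom, ← Spec.map_comp]
    simp
  haveI : Etale (Spec.map φ) := by
    rw [← IsIso.eq_inv_comp] at hg; rw [hg]; infer_instance
  haveI : IsFinite (Spec.map φ) := by
    rw [← IsIso.eq_inv_comp] at hg; rw [hg]; infer_instance
  have hfin : φ.hom.Finite := (IsFinite.SpecMap_iff _).1 inferInstance
  have het : φ.hom.Etale := (HasRingHomProperty.Spec_iff (P := @Etale)).1 inferInstance
  letI : Algebra A B := φ.hom.toAlgebra
  haveI : Algebra.Etale A B := RingHom.etale_algebraMap.1 het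
  haveI : Module.Finite A B := RingHom.finite_algebraMap.1 hfin
  let h : Y ≃ₜ PrimeSpectrum B := Y.isoSpec.hom.homeomorph
  have hgh : ∀ y, g y = PrimeSpectrum.comap φ.hom (h y) := fun y => by
    rw [← hg]; rfl
  have hQ : (h x).asIdeal.comap (algebraMap A B) = IsLocalRing.maximalIdeal A := by
    have := congrArg PrimeSpectrum.asIdeal ((hgh x).symm.trans hx)
    exact this
  have hc := CAlgH3.VdimConn.isConnected_lt hd s hs e B (h x).asIdeal hQ
  have himg : h ⁻¹' {P : PrimeSpectrum B | P.asIdeal < (h x).asIdeal} =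
      {y : Y | y ⤳ x ∧ g y ≠ IsLocalRing.closedPoint A} := by
    ext y
    have hsp : y ⤳ x ↔ (h y).asIdeal ≤ (h x).asIdeal :=
      (h.isInducing.specializes_iff).symm.trans (PrimeSpectrum.le_iff_specializes (h y) (h x)).symm
    constructor
    · intro hy
      refine ⟨hsp.2 hy.le, fun hcl => ?_⟩
      have h1 : (h y).asIdeal.comap (algebraMap A B) = (h x).asIdeal.comap (algebraMap A B) :=
        (congrArg PrimeSpectrum.asIdeal ((hgh y).symm.trans hcl)).trans hQ.symm
      exact (DimLib.strictMono_comap_of_isIntegral (R := A) (S := B) (show h y < h x from hy)).ne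
        (PrimeSpectrum.ext h1)
    · rintro ⟨hyx, hy⟩
      refine lt_of_le_of_ne (hsp.1 hyx) fun heq => hy ?_
      rw [hgh, show h y = h x from PrimeSpectrum.ext heq, ← hgh, hx]
  rw [← himg]
  exact (h.isConnected_preimage).2 hc

include hd hs e in
theorem existsUnique_clopen {Y : Scheme.{u}} (g : Y ⟶ Spec (CommRingCat.of A)) [IsFinite g] [Etale g]
    (V : Set ↥(pullback g (FEt.puncturedSpec A).ι)) (hV : IsClopen V) :
    ∃! W : Set ↥Y, IsClopen W ∧ (pullback.fst g (FEt.puncturedSpec A).ι).base ⁻¹' W = V := by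
  haveI : IsLocallyNoetherian (Spec (CommRingCat.of A)) := inferInstance
  haveI : IsLocallyNoetherian Y := LocallyOfFiniteType.isLocallyNoetherian g
  haveI : CompactSpace Y := QuasiCompact.compactSpace_of_compactSpace g
  haveI : IsNoetherian Y := {}
  let j := pullback.fst g (FEt.puncturedSpec A).ι
  let D : Set Y := {y | g y ≠ IsLocalRing.closedPoint A}
  have hr : Set.range j = D := by
    rw [Scheme.Pullback.range_fst, Scheme.Opens.range_ι]; rfl
  let W := j '' V
  let W' := j '' Vᶜ
  have hW : IsOpen W := j.isOpenEmbedding.isOpenMap _ hV.isOpen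
  have hW' : IsOpen W' := j.isOpenEmbedding.isOpenMap _ hV.compl.isOpen
  have hWD : W ∪ W' = D := by rw [← Set.image_union, Set.union_compl_self, Set.image_univ, hr]
  have hdisj : Disjoint W W' := (Set.disjoint_image_iff j.isOpenEmbedding.injective).2 disjoint_compl_right
  -- closures are generizations
  have hgen : ∀ {O : Set Y}, IsOpen O → ∀ z ∈ closure O, ∃ η ∈ O, η ⤳ z := by
    intro O hO z hz
    have hfin : (irreducibleComponents Y).Finite := TopologicalSpace.NoetherianSpace.finite_irreducibleComponents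
    have hsub : O ⊆ ⋃₀ {Z ∈ irreducibleComponents Y | (Z ∩ O).Nonempty} := fun y hy =>
      ⟨irreducibleComponent y, ⟨irreducibleComponent_mem_irreducibleComponents y,
        y, mem_irreducibleComponent, hy⟩, mem_irreducibleComponent⟩
    have hcl : IsClosed (⋃₀ {Z ∈ irreducibleComponents Y | (Z ∩ O).Nonempty}) := by
      rw [Set.sUnion_eq_biUnion]
      exact (hfin.subset fun Z hZ => hZ.1).isClosed_biUnion fun Z hZ => isClosed_of_mem_irreducibleComponents Z hZ.1
    obtain ⟨Z, ⟨hZ, hZO⟩, hzZ⟩ := closure_minimal hsub hcl hz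
    have hgp := hZ.1.isGenericPoint_genericPoint (isClosed_of_mem_irreducibleComponents Z hZ)
    obtain ⟨y, hyZ, hyO⟩ := hZO
    exact ⟨_, (hgp.specializes hyZ).mem_open hO hyO, hgp.specializes hzZ⟩
  have hdense : ∀ z, z ∈ closure (W ∪ W') := fun z => by
    by_cases hz : z ∈ D
    · exact subset_closure (hWD.ge hz)
    · obtain ⟨⟨η, hηz, hη⟩, -⟩ := isConnected_generizations A hd s hs e g z (not_not.1 hz)
      exact hηz.mem_closed isClosed_closure (subset_closure (hWD.ge hη))
  have hsep : ∀ z ∈ closure W, z ∉ closure W' := by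
    intro z hz hz'
    by_cases hzD : z ∈ D
    · rcases hWD.ge hzD with h | h
      · obtain ⟨y, hy⟩ := mem_closure_iff.1 hz' W hW h
        exact hdisj.le_bot hy
      · obtain ⟨y, hy⟩ := mem_closure_iff.1 hz W' hW' h
        exact hdisj.le_bot ⟨hy.2, hy.1⟩
    · obtain ⟨η, hη, hηz⟩ := hgen hW z hz
      obtain ⟨η', hη', hη'z⟩ := hgen hW' z hz'
      obtain ⟨y, -, hy, hy'⟩ := (isConnected_generizations A hd s hs e g z (not_not.1 hzD)).2 W W' hW hW'
        (fun y hy => hWD.ge hy.2) ⟨η, ⟨hηz, hWD.le (Or.inl hη)⟩, hη⟩ ⟨η', ⟨hη'z, hWD.le (Or.inr hη')⟩, hη'⟩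
      exact hdisj.le_bot ⟨hy, hy'⟩
  have hcompl : closure W = (closure W')ᶜ := Set.Subset.antisymm hsep fun z hz =>
    ((closure_union (s := W) (t := W')).le (hdense z)).resolve_right hz
  have hclopen : IsClopen (closure W) := ⟨isClosed_closure, hcompl ▸ isClosed_closure.isOpen_compl⟩
  have hpre : j ⁻¹' closure W = V := by
    refine Set.Subset.antisymm (fun v hv => ?_) fun v hv => subset_closure ⟨v, hv, rfl⟩
    by_contra hvV
    exact hsep _ hv (subset_closure ⟨v, hvV, rfl⟩)
  refine ⟨closure W, ⟨hclopen, hpre⟩, ?_⟩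
  rintro W₁ ⟨hW₁, hpre₁⟩
  have h1 : W₁ ∩ D = W := by
    rw [← hr, ← Set.image_preimage_eq_inter_range, show (⇑j) ⁻¹' W₁ = V from hpre₁]
  refine Set.Subset.antisymm (fun z hz => ?_) (closure_minimal (h1 ▸ Set.inter_subset_left) hW₁.isClosed)
  have h2 := hW₁.isOpen.inter_closure ⟨hz, hdense z⟩
  rw [hWD, h1] at h2
  exact h2

include hd hs e in
theorem connectedSpace_punctured : ConnectedSpace ↥(FEt.puncturedSpec A : Scheme.{u}) := by
  have h := isConnected_generizations A hd s hs e (𝟙 (Spec (CommRingCat.of A))) (IsLocalRing.closedPoint A) rfl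
  have heq : {y : Spec (CommRingCat.of A) | y ⤳ IsLocalRing.closedPoint A ∧
      (𝟙 (Spec (CommRingCat.of A)) : _ ⟶ _) y ≠ IsLocalRing.closedPoint A} = (FEt.puncturedSpec A : Set _) := by
    ext y
    exact ⟨fun hy => hy.2, fun hy => ⟨IsLocalRing.specializes_closedPoint y, hy⟩⟩
  rw [heq] at h
  exact isConnected_iff_connectedSpace.1 h

end helpers

open AlgebraicGeometry CategoryTheory CategoryTheory.Limits in
/-- Let A be a Noetherian local ring of virtual dimension at least 2, the virtual dimension being
expressed through a presentation of the adic completion of A as a quotient S/I of a complete regular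
local ring S of Krull dimension d by an ideal I generated by a finite set of at most d - 2 elements.
Then the restriction functor from finite etale covers of Spec A to finite etale covers of the
punctured spectrum is fully faithful, and the punctured spectrum is connected. (The published
statement also records the surjectivity of the induced map on etale fundamental groups, which is the
usual reformulation of full faithfulness and is not restated here.) -/
theorem result (A : Type u) [CommRing A] [IsNoetherianRing A] [IsLocalRing A]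
    (S : Type u) [CommRing S] [IsRegularLocalRing S] [IsAdicComplete (IsLocalRing.maximalIdeal S) S]
    (d : ℕ) (hd : ringKrullDim S = d) (s : Finset S) (hs : s.card + 2 ≤ d)
    (e : AdicCompletion (IsLocalRing.maximalIdeal A) A ≃+* S ⧸ Ideal.span (s : Set S)) :
    ((FEt.restrict (FEt.puncturedSpec A).ι).Full ∧ (FEt.restrict (FEt.puncturedSpec A).ι).Faithful) ∧
      ConnectedSpace ↥(FEt.puncturedSpec A : Scheme.{u}) := by
  exact ⟨Groth.Agent.CAlgH3.FEtClopenFF.restrict_full_faithful_of_couple _
    (fun Y g hg hg' V hV => haveI := hg; haveI := hg'; existsUnique_clopen A hd s hs e g V hV),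
    connectedSpace_punctured A hd s hs e⟩

end Groth.Agent.S14269
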