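import Groth.Statements.S15747
import Groth.Agent.AmpleLib.FTIdeal
import Mathlib.Tactic.LinearCombination

set_option autoImplicit false
universe u
open CategoryTheory CategoryTheory.Limits AlgebraicGeometry Opposite
open UnitsSh

namespace Groth.Agent.S15747aux

open Groth.Agent.Coherent Groth.Agent.AmpleLib TopologicalSpace

variable {X : Scheme.{u}} (J : X.IdealSheafData)

/-- Criterion for short exactness of abelian sheaves on a space. -/
theorem shortExact_of_sections {T : TopCat.{u}} (S : ShortComplex (CohTop.Ab T))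
    (h₁ : ∀ U, Function.Injective (S.f.hom.app U))
    (h₂ : ∀ U y, S.g.hom.app U y = 0 → ∃ x, S.f.hom.app U x = y)
    (h₃ : ∀ (U : Opens T) (z : S.X₃.obj.obj (op U)), ∀ x ∈ U, ∃ (V : Opens T) (i : V ⟶ U), x ∈ V ∧
      ∃ y, S.g.hom.app (op V) y = S.X₃.obj.map i.op z) : S.ShortExact := by
  haveI : Mono S.f := by
    have : Mono ((sheafToPresheaf _ _).map S.f) :=
      @NatTrans.mono_of_mono_app _ _ _ _ _ _ _ fun U => (AddCommGrpCat.mono_iff_injective _).2 (h₁ U)
    exact (sheafToPresheaf _ _).mono_of_mono_map this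
  haveI : Epi S.g := by
    rw [← Sheaf.isLocallySurjective_iff_epi' (A := AddCommGrpCat.{u})]
    constructor
    intro U z x hx
    obtain ⟨V, i, hxV, y, hy⟩ := h₃ U z x hx
    exact ⟨V, i, ⟨y, hy⟩, hxV⟩
  refine { exact := ShortComplex.exact_of_f_is_kernel _ (KernelFork.IsLimit.ofι' S.f S.zero fun {A} k hk => ?_) }
  choose l hl using fun (U : (Opens T)ᵒᵖ) (a : A.obj.obj U) => h₂ U (k.hom.app U a)
    (ConcreteCategory.congr_hom (NatTrans.congr_app (congrArg (fun m => m.hom) hk) U) a)
  refine ⟨⟨{ app := fun U => AddCommGrpCat.ofHom (AddMonoidHom.mk' (l U) fun a b => h₁ U (by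
      rw [map_add (S.f.hom.app U).hom, hl, hl, hl, map_add])), naturality := fun U V i => ?_ }⟩, ?_⟩
  · refine AddCommGrpCat.hom_ext (AddMonoidHom.ext fun a => h₁ V ?_)
    change S.f.hom.app V (l V (A.obj.map i a)) = S.f.hom.app V (S.X₁.obj.map i (l U a))
    rw [hl, NatTrans.naturality_apply, NatTrans.naturality_apply, hl]
  · refine Sheaf.hom_ext (NatTrans.ext (funext fun U => AddCommGrpCat.hom_ext (AddMonoidHom.ext fun a => ?_)))
    exact hl U a

/-- The ring element of a section of the ideal. -/
noncomputable def el {U : X.Opens} (f : Γ(ClSub.idealMod J, U)) : Γ(X, U) :=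
  (ClSub.idealModι J).app U f

theorem el_app {U : X.Opens} (f : Γ(ClSub.idealMod J, U)) : J.subschemeι.app U (el J f) = 0 :=
  (mem_range_idealModι J U _).1 ⟨f, rfl⟩

theorem el_add {U : X.Opens} (f g : Γ(ClSub.idealMod J, U)) : el J (f + g) = el J f + el J g :=
  map_add ((ClSub.idealModι J).app U).hom f g

theorem res_mem {U : X.Opens} {a : Γ(X, U)} (ha : J.subschemeι.app U a = 0) (W : X.affineOpens) (h : W.1 ≤ U) :
    X.presheaf.map (homOfLE h).op a ∈ J.ideal W := by
  rw [← J.ker_subschemeι_app W, RingHom.mem_ker]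
  refine (NatTrans.naturality_apply J.subschemeι.c (homOfLE h).op a).trans ?_
  exact (congrArg _ ha).trans (map_zero _)

variable (hJ : J * J = ⊥)
include hJ

theorem mul_eq_zero {U : X.Opens} {a b : Γ(X, U)} (ha : J.subschemeι.app U a = 0)
    (hb : J.subschemeι.app U b = 0) : a * b = 0 := by
  refine TopCat.Presheaf.section_ext X.sheaf U _ _ fun x hx => ?_
  obtain ⟨_, ⟨W, hW, rfl⟩, hxW, hWU⟩ :=
    (X.isBasis_affineOpens).exists_subset_of_mem_open (show x ∈ (U : Set X) from hx) U.isOpen
  have h := Ideal.mul_mem_mul (res_mem J ha ⟨W, hW⟩ hWU) (res_mem J hb ⟨W, hW⟩ hWU)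
  have e : (J * J).ideal ⟨W, hW⟩ = ⊥ := by rw [hJ]; rfl
  rw [show J.ideal ⟨W, hW⟩ * J.ideal ⟨W, hW⟩ = (J * J).ideal ⟨W, hW⟩ from rfl, e, Submodule.mem_bot, ← map_mul] at h
  exact (TopCat.Presheaf.germ_res_apply X.presheaf (homOfLE hWU) x hxW (a * b)).symm.trans
    ((congrArg (X.presheaf.germ W x hxW) h).trans ((map_zero _).trans (map_zero _).symm))

/-- The unit `1 + f`. -/
noncomputable def onePlus {U : X.Opens} (f : Γ(ClSub.idealMod J, U)) : Γ(X, U)ˣ where
  val := 1 + el J f
  inv := 1 - el J f
  val_inv := by linear_combination -(mul_eq_zero J hJ (el_app J f) (el_app J f))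
  inv_val := by linear_combination -(mul_eq_zero J hJ (el_app J f) (el_app J f))

/-- The map `J ⟶ O^×`. -/
noncomputable def phi : Coh.toAb (ClSub.idealMod J) ⟶ UnitsSh.unitsAb X :=
  ⟨{ app := fun U => AddCommGrpCat.ofHom (AddMonoidHom.mk'
        (fun f : Γ(ClSub.idealMod J, U.unop) => UnitsSh.sectOfUnit (O := X.presheaf) (onePlus J hJ f))
        (fun f g => congrArg UnitsSh.sectOfUnit (Units.ext (by
          change 1 + el J (f + g) = (1 + el J f) * (1 + el J g)
          refine (congrArg (1 + ·) (el_add J f g)).trans ?_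
          linear_combination -(mul_eq_zero J hJ (el_app J f) (el_app J g))))))
     naturality := fun U V i => AddCommGrpCat.hom_ext (AddMonoidHom.ext fun f => congrArg UnitsSh.sectOfUnit
        (Units.ext (by
          change 1 + el J ((ClSub.idealMod J).presheaf.map i.unop.op f) = X.presheaf.map i (1 + el J f)
          rw [map_add, map_one]
          exact congrArg (1 + ·) (ConcreteCategory.congr_hom ((ClSub.idealModι J).mapPresheaf.naturality i) f)))) }⟩

theorem phi_comap : phi J hJ ≫ UnitsSh.comap J.subschemeι = 0 := by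
  refine Sheaf.hom_ext (NatTrans.ext (funext fun U => AddCommGrpCat.hom_ext (AddMonoidHom.ext fun f => ?_)))
  refine congrArg (fun v => UnitsSh.sectOfUnit (O := J.subschemeι.base _* J.subscheme.presheaf) (U := U) v)
    (Units.ext ?_ : Units.map (J.subschemeι.app U.unop).hom.toMonoidHom (onePlus J hJ f) = 1)
  change J.subschemeι.app U.unop (1 + el J f) = 1
  rw [map_add, map_one, el_app, add_zero]

theorem shortExact : (ShortComplex.mk (phi J hJ) (UnitsSh.comap J.subschemeι) (phi_comap J hJ)).ShortExact := by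
  refine shortExact_of_sections _ ?_ ?_ ?_
  · intro U f g h
    haveI := mono_idealModι J
    refine app_injective_of_mono (ClSub.idealModι J) U.unop ?_
    have h' : (1 : Γ(X, U.unop)) + el J f = 1 + el J g := congrArg (fun v => (UnitsSh.unitOfSect v).val) h
    exact (add_left_cancel h' : el J f = el J g)
  · intro U y hy
    let a : Γ(X, U.unop) := (UnitsSh.unitOfSect y).val
    have hy' : J.subschemeι.app U.unop a = 1 :=
      congrArg (fun v => (UnitsSh.unitOfSect v).val) hy
    obtain ⟨k, hk⟩ := (mem_range_idealModι J U.unop (a - 1)).2 (by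
      rw [map_sub, map_one, hy', sub_self])
    refine ⟨k, (congrArg UnitsSh.sectOfUnit (Units.ext ?_)).trans (UnitsSh.sectOfUnit_unitOfSect y)⟩
    change 1 + el J k = a
    rw [show el J k = a - 1 from hk, add_sub_cancel]
  · intro U z x hx
    obtain ⟨_, ⟨W, hW, rfl⟩, hxW, hWU⟩ :=
      (X.isBasis_affineOpens).exists_subset_of_mem_open (show x ∈ (U : Set X) from hx) U.isOpen
    refine ⟨W, homOfLE hWU, hxW, ?_⟩
    let v : Γ(J.subscheme, J.subschemeι ⁻¹ᵁ W)ˣ := UnitsSh.unitOfSect
      (((CohTop.push J.subschemeι.base).obj (UnitsSh.unitsAb J.subscheme)).obj.map (homOfLE hWU).op z)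
    obtain ⟨a, ha⟩ := J.subschemeι_app_surjective ⟨W, hW⟩ v.val
    obtain ⟨b, hb⟩ := J.subschemeι_app_surjective ⟨W, hW⟩ v.inv
    have h0 : J.subschemeι.app W (a * b - 1) = 0 := by
      rw [map_sub, map_mul, map_one, ha, hb, v.val_inv, sub_self]
    have hsq := mul_eq_zero J hJ h0 h0
    let u : Γ(X, W)ˣ :=
      { val := a
        inv := b * (2 - a * b)
        val_inv := by linear_combination -hsq
        inv_val := by linear_combination -hsq }
    refine ⟨UnitsSh.sectOfUnit (O := X.presheaf) u, ?_⟩
    exact (congrArg UnitsSh.sectOfUnit (Units.ext ha :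
      Units.map (J.subschemeι.app W).hom.toMonoidHom u = v)).trans (UnitsSh.sectOfUnit_unitOfSect _)

end Groth.Agent.S15747aux

namespace Groth.Agent.S15747

/-- Let `X` be a scheme, `J` a quasi-coherent ideal of `O_X` with `J² = 0`, `X₀` the closed subscheme it
cuts out and `i : X₀ ⟶ X` the inclusion. Then there is a morphism of abelian sheaves `J ⟶ O_X^×` on
the underlying space of `X` sending every local section `f` of `J` to the unit `1 + f` (which
determines it), and the sequence `0 ⟶ J ⟶ O_X^× ⟶ i_* O_{X₀}^× ⟶ 0`, whose second map is the units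
map of `i`, is a short exact sequence of abelian sheaves. (The published lemma assumes moreover that
`X` is quasi-compact and separated and that the restriction of global functions `O_X(X) →
O_{X₀}(X₀)` is surjective, and concludes about Picard groups; the exactness of this sequence of
sheaves, proved there stalk by stalk, uses none of these assumptions.) -/
theorem result (X : Scheme.{u}) (J : X.IdealSheafData)
    (hJ : J * J = ⊥) :
    ∃ φ : Coh.toAb (ClSub.idealMod J) ⟶ UnitsSh.unitsAb X,
      (∀ (U : X.Opens) (f : (ClSub.idealMod J).val.obj (op U)),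
        (UnitsSh.unitOfSect (φ.hom.app (op U) f)).val =
          1 + (show X.sheaf.obj.obj (op U) from (ClSub.idealModι J).val.app (op U) f)) ∧
      ∃ w : φ ≫ UnitsSh.comap J.subschemeι = 0,
        (ShortComplex.mk φ (UnitsSh.comap J.subschemeι) w).ShortExact := by
  exact ⟨Groth.Agent.S15747aux.phi J hJ, fun U f => rfl, Groth.Agent.S15747aux.phi_comap J hJ,
    Groth.Agent.S15747aux.shortExact J hJ⟩

end Groth.Agent.S15747
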