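import Groth.Statements.S7188
import Groth.Agent.FlatMor12.Cube.Locus
import Groth.Agent.FlatMor12.FreeFibres
import Groth.Agent.PicLib.FiniteSetTriv
import Groth.Agent.Coherent.GeomConnected

set_option autoImplicit false
universe u
open FlatMor

namespace Groth.Agent.S7188

open AlgebraicGeometry CategoryTheory CategoryTheory.Limits TopologicalSpace Groth.Agent.Coherent Groth.Agent.PicLib in
/-- An invertible free module has rank one. -/
theorem rank_eq_one {X : Scheme.{u}} [Nonempty X] {L : X.Modules} (hL : PicF.IsInvertible L) {n : ℕ}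
    (e : L ≅ FlatMod.freeMod X n) : n = 1 := by
  obtain ⟨U, hx, g, hg⟩ := exists_isGen hL (Classical.arbitrary X)
  obtain ⟨e'⟩ := Groth.Agent.FlatMor12.FlatFun.nonempty_pullback_freeMod (⊤ : X.Opens).ι n
  obtain ⟨b⟩ := Groth.Agent.Props12.exists_basis_sections
    ((Scheme.Modules.restrictFunctorIsoPullback (⊤ : X.Opens).ι).app L ≪≫
      (Scheme.Modules.pullback (⊤ : X.Opens).ι).mapIso e ≪≫ e') (le_top : U ≤ ⊤)
  have hb : Function.Bijective fun r : Γ(X, U) => r • g := by simpa only [resM_self] using hg U le_rfl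
  let E : Γ(X, U) ≃ₗ[Γ(X, U)] Γ(L, U) := LinearEquiv.ofBijective (LinearMap.toSpanSingleton Γ(X, U) Γ(L, U) g) hb
  haveI : Nonempty U := ⟨⟨_, hx⟩⟩
  have h := Module.finrank_eq_card_basis b
  rw [← E.finrank_eq, Module.finrank_self, Fintype.card_fin] at h
  exact h.symm

open AlgebraicGeometry CategoryTheory Limits in
/-- Let f : X → S be flat, proper and of finite presentation with O_T → (f_T)_* O_{X_T} an isomorphism
for every base change, let E be an invertible O_X-module, and let j : Z → S be the immersion of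
finite presentation representing the locus of those T → S over which the pullback of E comes from a
finite locally free O_T-module. If every geometric fibre of f is an integral scheme, j is a closed
immersion (the locus is a closed subscheme of S). -/
theorem result {X S Z : Scheme.{u}} (f : X ⟶ S) [Flat f] [IsProper f] [LocallyOfFinitePresentation f]
    (hO : ∀ (T : Scheme.{u}) (g : T ⟶ S) (U : T.Opens), IsIso ((pullback.snd f g).app U))
    (E : X.Modules) (hE : PicF.IsInvertible E)
    (j : Z ⟶ S) [IsImmersion j] [LocallyOfFinitePresentation j]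
    (hZ : ∀ (T : Scheme.{u}) (g : T ⟶ S), (∃ g' : T ⟶ Z, g' ≫ j = g) ↔
        ∃ N : T.Modules, FlatMod.IsFinLocFree N ∧
          Nonempty ((Scheme.Modules.pullback (pullback.snd f g)).obj N ≅ (Scheme.Modules.pullback (pullback.fst f g)).obj E))
    (hgeo : ∀ (K : Type u) [Field K] (x : Spec (CommRingCat.of K) ⟶ S), IsIntegral (pullback f x)) :
    IsClosedImmersion j := by
  open Groth.Agent.Coherent Groth.Agent.PicLib Groth.Agent.CubeLib Groth.Agent.FlatMor12.Cube in
  haveI : ∀ s : S, IsIntegral (f.fiber s) := fun s => hgeo (S.residueField s) (S.fromSpecResidueField s)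
  obtain ⟨b, hb⟩ := PicM.exists_mul_eq_one (PicM.of hE)
  obtain ⟨M, hM, rfl⟩ := PicM.exists_eq_of b
  have hiff : Set.range j =
      {s : S | ¬ Subsingleton (CohIII.fiberH f E s 0)} ∩ {s : S | ¬ Subsingleton (CohIII.fiberH f M s 0)} := by
    refine Set.ext fun s => ⟨?_, fun ⟨h₁, h₂⟩ => ?_⟩
    · rintro ⟨z, rfl⟩
      haveI : IsIso (j.residueFieldMap z) := by
        rw [ConcreteCategory.isIso_iff_bijective]
        refine ⟨(j.residueFieldMap z).hom.injective, fun a => ?_⟩
        obtain ⟨b, rfl⟩ := IsLocalRing.residue_surjective a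
        obtain ⟨c, rfl⟩ := j.stalkMap_surjective z b
        exact ⟨IsLocalRing.residue _ c, rfl⟩
      obtain ⟨N, hN, ⟨e⟩⟩ := (hZ _ (S.fromSpecResidueField (j z))).1
        ⟨Spec.map (inv (j.residueFieldMap z)) ≫ Z.fromSpecResidueField z, by
          rw [Category.assoc, ← Scheme.Hom.SpecMap_residueFieldMap_fromSpecResidueField, ← Category.assoc,
            ← Spec.map_comp, IsIso.hom_inv_id, Spec.map_id, Category.id_comp]⟩
      obtain ⟨U, n, hx, ⟨t⟩⟩ := hN (IsLocalRing.closedPoint (S.residueField (j z)))
      have hU : U = ⊤ := top_le_iff.1 fun y _ => by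
        obtain rfl : y = IsLocalRing.closedPoint (S.residueField (j z)) :=
          Subsingleton.elim (α := PrimeSpectrum (S.residueField (j z))) _ _
        exact hx
      subst hU
      have hE' := PicLoc.isInvertible_pullback (f.fiberι (j z)) hE
      obtain ⟨e₁⟩ := Groth.Agent.FlatMor12.FlatFun.nonempty_pullback_freeMod
        (Scheme.topIso (Spec (S.residueField (j z)))).inv n
      obtain ⟨e₂⟩ := Groth.Agent.FlatMor12.FlatFun.nonempty_pullback_freeMod (f.fiberToSpecResidueField (j z)) n
      have hid : (Scheme.topIso (Spec (S.residueField (j z)))).inv ≫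
          (⊤ : (Spec (S.residueField (j z))).Opens).ι = 𝟙 _ := (Scheme.topIso _).inv_hom_id
      let eN : N ≅ FlatMod.freeMod _ n :=
        ((Scheme.Modules.pullbackId _).app N).symm ≪≫ ((Scheme.Modules.pullbackCongr hid).app N).symm ≪≫
          ((Scheme.Modules.pullbackComp _ _).app N).symm ≪≫
          (Scheme.Modules.pullback (Scheme.topIso (Spec (S.residueField (j z)))).inv).mapIso
            (((Scheme.Modules.restrictFunctorIsoPullback (⊤ : (Spec (S.residueField (j z))).Opens).ι).app N).symm ≪≫ t)
          ≪≫ e₁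
      let e' : (Scheme.Modules.pullback (f.fiberι (j z))).obj E ≅ FlatMod.freeMod (f.fiber (j z)) n :=
        e.symm ≪≫ (Scheme.Modules.pullback (f.fiberToSpecResidueField (j z))).mapIso eN ≪≫ e₂
      obtain rfl := rank_eq_one hE' e'
      have h1 : PicM.pull (f.fiberι (j z)) (PicM.of hE) = 1 := by
        rw [PicM.pull_of, PicM.of_eq_one_iff]
        exact ⟨e' ≪≫ freeModOneIso _⟩
      have h2 : PicM.pull (f.fiberι (j z)) (PicM.of hM) = 1 := by
        have := congrArg (PicM.pull (f.fiberι (j z))) hb
        rwa [map_mul, map_one, h1, one_mul] at this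
      rw [PicM.pull_of] at h1 h2
      obtain ⟨a, ha⟩ := exists_ne_zero_of_eq_one h1
      obtain ⟨c, hc⟩ := exists_ne_zero_of_eq_one h2
      exact ⟨fun hs => ha ((h0 _).symm.injective (hs.elim _ _)), fun hs => hc ((h0 _).symm.injective (hs.elim _ _))⟩
    · have hsec : ∀ {N : X.Modules}, ¬ Subsingleton (CohIII.fiberH f N s 0) →
          ∃ a : Γ(CohIII.fiberMod f N s, ⊤), a ≠ 0 := fun {N} hN => by
        by_contra hc
        push Not at hc
        haveI := subsingleton_of_forall_eq (0 : Γ(CohIII.fiberMod f N s, ⊤)) hc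
        exact hN (h0 (CohIII.fiberMod f N s)).toEquiv.subsingleton
      obtain ⟨a, ha⟩ := hsec h₁
      obtain ⟨c, hc⟩ := hsec h₂
      haveI : IsProper (f.fiberToSpecResidueField s) :=
        MorphismProperty.pullback_snd (P := @IsProper) _ _ inferInstance
      have h1 := eq_one_of_sections (K := S.residueField s) (f.fiberToSpecResidueField s)
        (PicLoc.isInvertible_pullback (f.fiberι s) hE) (PicLoc.isInvertible_pullback (f.fiberι s) hM) (by
          have := congrArg (PicM.pull (f.fiberι s)) hb
          rwa [map_mul, map_one, PicM.pull_of, PicM.pull_of] at this) ha hc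
      obtain ⟨e⟩ := (PicM.of_eq_one_iff _).1 h1
      obtain ⟨t, ht⟩ := (hZ _ (S.fromSpecResidueField s)).2 ⟨Coh.structureModule _,
        fun x => ⟨⊤, 1, trivial, ⟨(Scheme.Modules.restrictFunctorIsoPullback _).app _ ≪≫ pullOne _ ≪≫
          (freeModOneIso _).symm⟩⟩, ⟨pullOne _ ≪≫ e.symm⟩⟩
      refine ⟨t (IsLocalRing.closedPoint (S.residueField s)), ?_⟩
      rw [← Scheme.Hom.comp_apply, ht]
      exact S.fromSpecResidueField_apply s _
  have hclosed : ∀ {N : X.Modules}, PicF.IsInvertible N →
      IsClosed {s : S | ¬ Subsingleton (CohIII.fiberH f N s 0)} := fun {N} hN => by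
    haveI := Groth.Agent.H8Coh.FibreAmple.isQCoh_of_invertible hN
    exact (Groth.Agent.CohExch.isOpen_fibre_vanishing (Groth.Agent.H8Coh.FibreAmple.isFP_of_invertible hN)
      (CohBC.isFlatOver_of_isFinLocFree f fun x =>
        let ⟨U, hx, e⟩ := isFinLocFreeOfRank_one hN x
        ⟨U, 1, hx, e⟩) 0).isClosed_compl
  exact IsClosedImmersion.of_isPreimmersion j (hiff ▸ (hclosed hE).inter (hclosed hM))

end Groth.Agent.S7188
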