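import Groth.Statements.S3356
import Groth.Agent.Lef24.Near
-- import your own Groth.Agent.* helpers here

set_option autoImplicit false
universe u
open CategoryTheory CategoryTheory.Limits AlgebraicGeometry
open LefX

set_option backward.isDefEq.respectTransparency.types false
namespace Groth.Agent.S3356

/-- Let X be a locally Noetherian scheme, 𝓘 a quasi-coherent ideal with Y = V(𝓘), X_n the closed
subscheme defined by 𝓘^(n+1), and p ≥ 0. Assume: (1) the effective Lefschetz condition Leff(X, Y)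
holds; (2) H^i(X, 𝓘^(n+1)/𝓘^(n+2)) = 0 for i = 1, 2 and every n ≥ p; (3) for every open
neighbourhood U of Y and every point x outside U, the local ring O_{X,x} is parafactorial. Then for
every n ≥ p and every open U ⊇ Y the pull-back maps Pic(X) → Pic(U) and Pic(X) → Pic(X_n) are
bijective (trivial kernel and surjective on isomorphism classes). -/
theorem result (X : Scheme.{u}) [IsLocallyNoetherian X] (𝓘 : X.IdealSheafData) (p : ℕ) (h1 : LefX.LeffCond X 𝓘) (h2 : (∀ n : ℕ, p ≤ n → ∀ i : ℕ, (i = 1 ∨ i = 2) → Subsingleton (Coh.HH X (kernel (Lef.quotMap (Lef.pow_succ_le 𝓘 n))) i))) (h3 : ∀ U : X.Opens, (𝓘.support : Set X) ⊆ (U : Set X) → ∀ x : X, x ∉ U → ParaF.IsParafactorialLocalRing (X.presheaf.stalk x)) (n : ℕ) (hn : p ≤ n) (U : X.Opens) (hU : (𝓘.support : Set X) ⊆ (U : Set X)) : (Formal2.PicPullbackInjective U.ι ∧ Formal2.PicPullbackSurjective U.ι) ∧ (Formal2.PicPullbackInjective (𝓘 ^ (n + 1)).subschemeι ∧ Formal2.PicPullbackSurjective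 (𝓘 ^ (n + 1)).subschemeι) := by
  have hg : ∀ V : X.Opens, (𝓘.support : Set X) ⊆ (V : Set X) → ∀ x : X, x ∉ V →
      CAlgH.ParaStalk.Good (X.presheaf.stalk x) := fun V hV x hx =>
    (CAlgH.ParaStalk.good_iff _).1 (h3 V hV x hx)
  refine ⟨Lef23.pic_restrict_open (hg U hU), fun L hL ⟨e⟩ => ?_, fun N hN => ?_⟩
  · have hT : (𝓘.support : Set X) ⊆ ((⊤ : X.Opens) : Set X) := fun x _ => trivial
    let g : (𝓘 ^ (n + 1)).subscheme ⟶ (⊤ : X.Opens) :=
      IsOpenImmersion.lift (⊤ : X.Opens).ι (𝓘 ^ (n + 1)).subschemeι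
        (by rw [Scheme.Opens.range_ι, Lef24.range_thick]; exact hT)
    have hgι : g ≫ (⊤ : X.Opens).ι = (𝓘 ^ (n + 1)).subschemeι := IsOpenImmersion.lift_fac _ _ _
    refine (Lef23.pic_restrict_open (hg ⊤ hT)).1 L hL
      (Lef24.nonempty_trivial 𝓘 n h1.1 (fun q hq => h2 q (hn.trans hq) 1 (Or.inl rfl)) hT
        (PicLoc.isInvertible_pullback _ hL) g hgι ?_)
    exact (Scheme.Modules.pullbackComp g _).app L ≪≫ (Scheme.Modules.pullbackCongr hgι).app L ≪≫ e
  · obtain ⟨V, M, hV, hM, ⟨e⟩⟩ := Lef24.exists_near 𝓘 n h1 (fun q hq => h2 q (hn.trans hq) 2 (Or.inr rfl)) hN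
    obtain ⟨E, hE, ⟨e'⟩⟩ := Lef23.exists_extension (fun y hy => hg V hV y hy) (𝓘 ^ (n + 1)).subschemeι
      (by rw [Lef24.range_thick]; exact hV) hM
    exact ⟨E, hE, ⟨e' ≪≫ e⟩⟩

end Groth.Agent.S3356
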