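import Groth.Statements.S9332
import Mathlib
import Groth.Agent.H8Top.SchemeBasic

set_option linter.all false
set_option backward.isDefEq.respectTransparency.types false

set_option autoImplicit false
universe u
open QFin

open AlgebraicGeometry CategoryTheory CategoryTheory.Limits Topology Groth.Agent

namespace Groth.Agent.S9332

theorem isClosed_range_of_isIntegralHom {Z : Scheme.{u}} {k L : Type u} [Field k] [Field L]
    (π : Z ⟶ Spec (CommRingCat.of k)) (g : Spec (CommRingCat.of L) ⟶ Z) [h : IsIntegralHom (g ≫ π)] :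
    IsClosed (Set.range g) := by
  rw [← isOpen_compl_iff, isOpen_iff_forall_mem_open]
  intro z hz
  obtain ⟨U, hU, hzU, -⟩ := exists_isAffineOpen_mem_and_subset (x := z) (U := ⊤) trivial
  by_cases hg : Set.range g ⊆ (U : Set Z)
  · let g' : Spec (CommRingCat.of L) ⟶ U := IsOpenImmersion.lift U.ι g (by simpa using hg)
    have hfac : g' ≫ U.ι = g := IsOpenImmersion.lift_fac _ _ _
    haveI : IsAffine U := hU
    haveI : IsSeparated (U.ι ≫ π) := inferInstance
    haveI : IsIntegralHom (g' ≫ U.ι ≫ π) := by rw [← Category.assoc, hfac]; exact h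
    haveI : IsIntegralHom g' := MorphismProperty.of_postcomp @IsIntegralHom g' (U.ι ≫ π) ‹IsSeparated (U.ι ≫ π)› inferInstance
    refine ⟨U.ι '' (Set.range g')ᶜ, ?_, U.ι.isOpenEmbedding.isOpenMap _ g'.isClosedMap.isClosed_range.isOpen_compl, ⟨⟨z, hzU⟩, ?_, rfl⟩⟩
    · rintro _ ⟨a, ha, rfl⟩ ⟨l, hl⟩
      refine ha ⟨l, U.ι.isOpenEmbedding.injective ?_⟩
      rw [← Scheme.Hom.comp_apply, hfac]
      exact hl
    · rintro ⟨l, hl⟩
      refine hz ⟨l, ?_⟩
      rw [← hfac, Scheme.Hom.comp_apply, hl]
      rfl
  · refine ⟨U, ?_, U.2, hzU⟩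
    rintro a ha ⟨l, rfl⟩
    refine hg ?_
    rintro _ ⟨l', rfl⟩
    rwa [Subsingleton.elim (α := PrimeSpectrum L) l' l]

theorem isClosed_asFiber_of_isAlgebraic {X S : Scheme.{u}} (f : X ⟶ S) (x : X)
    (halg : @Algebra.IsAlgebraic (S.residueField (f.base x)) (X.residueField x) _ _ (f.residueFieldMap x).hom.toAlgebra) :
    IsClosed ({f.asFiber x} : Set ↑(f.fiber (f.base x))) := by
  have hI : IsIntegralHom (f.asFiberHom x ≫ f.fiberToSpecResidueField (f x)) := by
    rw [f.asFiberHom_fiberToSpecResidueField, IsIntegralHom.SpecMap_iff]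
    letI := (f.residueFieldMap x).hom.toAlgebra
    haveI : Algebra.IsAlgebraic (S.residueField (f.base x)) (X.residueField x) := halg
    exact fun a => Algebra.IsIntegral.isIntegral (R := S.residueField (f.base x)) a
  rw [← f.range_asFiberHom]
  exact isClosed_range_of_isIntegralHom (k := S.residueField (f x)) (L := X.residueField x)
    (f.fiberToSpecResidueField (f x)) (f.asFiberHom x) (h := hI)

open AlgebraicGeometry CategoryTheory in
/-- Let f : X → S be locally of finite type and x ∈ X. Then x is closed in its fibre X_{f x} if and only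
if κ(x) is a finite extension of κ(f x) (via the residue field map of f at x). -/
theorem result {X S : Scheme.{u}} (f : X ⟶ S) [LocallyOfFiniteType f] (x : X) :
    IsClosed ({f.asFiber x} : Set ↑(f.fiber (f.base x))) ↔ (f.residueFieldMap x).hom.Finite := by
  refine ⟨fun hx => ?_, fun hfin => ?_⟩
  · haveI : IsClosedImmersion (f.asFiberHom x) :=
      IsClosedImmersion.of_isPreimmersion _ (by rw [f.range_asFiberHom]; exact hx)
    haveI : LocallyOfFiniteType (f.fiberToSpecResidueField (f x)) := MorphismProperty.pullback_snd _ _ inferInstance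
    have hlft : LocallyOfFiniteType (Spec.map (f.residueFieldMap x)) := by
      rw [← f.asFiberHom_fiberToSpecResidueField]; infer_instance
    exact (IsFinite.SpecMap_iff _).mp (isFinite_iff_locallyOfFiniteType_of_jacobsonSpace.mpr hlft)
  · refine isClosed_asFiber_of_isAlgebraic f x ?_
    letI := (f.residueFieldMap x).hom.toAlgebra
    haveI : Module.Finite (S.residueField (f.base x)) (X.residueField x) := hfin
    exact Algebra.IsAlgebraic.of_finite (S.residueField (f.base x)) (X.residueField x)

end Groth.Agent.S9332
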