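import Groth.Statements.S18197
import Groth.Agent.LocImm12.Basic
import Mathlib.AlgebraicGeometry.Morphisms.Separated

set_option autoImplicit false
universe u
open LocImm

namespace Groth.Agent.S18197

open CategoryTheory AlgebraicGeometry in
/-- Let `f : X ⟶ Y` be a localizing morphism of Noetherian schemes. Then `f` is injective on points if
and only if `f` is separated and injective on the set of maximal points of `X` (the generic points
of its irreducible components, i.e. the points with no proper generization). -/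
theorem result {X Y : Scheme.{u}} [IsNoetherian X] [IsNoetherian Y] (f : X ⟶ Y) (hf : LocImm.IsLocalizing f) :
    Function.Injective f.base ↔ (IsSeparated f ∧ Set.InjOn (fun x => f x) {x : X | ∀ x' : X, x' ⤳ x → x' = x}) := by
  constructor
  · intro hinj
    have := Groth.Agent.LocImm12.isPreimmersion (f := f) ⟨hf, hinj⟩
    exact ⟨inferInstance, hinj.injOn⟩
  rintro ⟨hsep, hmax⟩
  have hsec : ∀ (y : Y) (x : X), f x = y →
      ∃ e : Spec (Y.presheaf.stalk y) ⟶ X, e ≫ f = Y.fromSpecStalk y ∧
        e (IsLocalRing.closedPoint _) = x ∧ Set.range e = {z | z ⤳ x} ∧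
        Topology.IsEmbedding e := by
    rintro y x rfl
    have := Groth.Agent.LocImm12.isIso_stalkMap hf x
    refine ⟨Spec.map (inv (f.stalkMap x)) ≫ X.fromSpecStalk x, ?_, ?_, ?_,
      (Spec.map (inv (f.stalkMap x)) ≫ X.fromSpecStalk x).isEmbedding⟩
    · rw [Category.assoc, ← Scheme.SpecMap_stalkMap_fromSpecStalk, ← Category.assoc, ← Spec.map_comp,
        IsIso.hom_inv_id, Spec.map_id, Category.id_comp]
    · rw [Scheme.Hom.comp_apply]
      have : Spec.map (inv (f.stalkMap x)) (IsLocalRing.closedPoint _) =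
          IsLocalRing.closedPoint _ := IsLocalRing.comap_closedPoint (inv (f.stalkMap x)).hom
      rw [this, Scheme.fromSpecStalk_closedPoint]
    · rw [Scheme.Hom.comp_base, TopCat.coe_comp, Set.range_comp,
        Set.range_eq_univ.2 (Spec.map (inv (f.stalkMap x))).surjective, Set.image_univ,
        Scheme.range_fromSpecStalk]
  intro a b hab
  obtain ⟨sa, hsa, hac, har, hae⟩ := hsec (f a) a rfl
  obtain ⟨sb, hsb, hbc, hbr, hbe⟩ := hsec (f a) b hab.symm
  let R := Y.presheaf.stalk (f a)
  obtain ⟨p, hp, hpm⟩ := Ideal.exists_minimalPrimes_le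
    (bot_le : ⊥ ≤ (IsLocalRing.closedPoint R).asIdeal)
  let P : Spec R := ⟨p, hp.1.1⟩
  have hPmin : ∀ q : Spec R, q ⤳ P → q = P := fun q hq => by
    have hle : q.asIdeal ≤ p := (PrimeSpectrum.le_iff_specializes q P).2 hq
    exact PrimeSpectrum.ext (le_antisymm hle (hp.2 ⟨q.2, bot_le⟩ hle))
  have hmaxpt : ∀ (s : Spec R ⟶ X) (x : X), Set.range s = {z | z ⤳ x} → Topology.IsEmbedding s →
      ∀ z : X, z ⤳ s P → z = s P := fun s x hr he z hz => by
    have hzx : z ⤳ x := hz.trans (show s P ∈ {z | z ⤳ x} from hr ▸ Set.mem_range_self P)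
    obtain ⟨q, rfl⟩ : z ∈ Set.range s := hr ▸ hzx
    exact congrArg s (hPmin q (he.isInducing.specializes_iff.1 hz))
  have hP : sa P = sb P := hmax (hmaxpt sa a har hae) (hmaxpt sb b hbr hbe)
    (by show f (sa P) = f (sb P); rw [← Scheme.Hom.comp_apply, ← Scheme.Hom.comp_apply, hsa, hsb])
  let ι := (Spec R).fromSpecResidueField P
  have hfac : ∀ (u : Spec ((Spec R).residueField P) ⟶ X) (x : X),
      u (IsLocalRing.closedPoint _) = x →
      ∃ w, w ≫ X.fromSpecStalk x = u := by
    rintro u x rfl
    exact ⟨_, Scheme.Spec_stalkClosedPointTo_fromSpecStalk u⟩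
  have hclosed : ι (IsLocalRing.closedPoint _) = P := Scheme.fromSpecResidueField_apply _ _
  obtain ⟨wa, hwa⟩ := hfac (ι ≫ sa) (sa P) (by rw [Scheme.Hom.comp_apply, hclosed])
  obtain ⟨wb, hwb⟩ := hfac (ι ≫ sb) (sa P) (by rw [Scheme.Hom.comp_apply, hclosed, hP])
  have hu : ι ≫ sa = ι ≫ sb := by
    have := Groth.Agent.LocImm12.isIso_stalkMap hf (sa P)
    rw [← hwa, ← hwb]
    congr 1
    have hm : Mono (X.fromSpecStalk (sa P) ≫ f) := by
      rw [← Scheme.SpecMap_stalkMap_fromSpecStalk]; infer_instance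
    rw [← cancel_mono (X.fromSpecStalk (sa P) ≫ f), ← Category.assoc, ← Category.assoc, hwa, hwb,
      Category.assoc, Category.assoc, hsa, hsb]
  obtain ⟨L, hL1, hL2⟩ : ∃ L : Spec R ⟶ Limits.pullback f f,
      L ≫ Limits.pullback.fst f f = sa ∧ L ≫ Limits.pullback.snd f f = sb :=
    ⟨Limits.pullback.lift sa sb (hsa.trans hsb.symm), Limits.pullback.lift_fst _ _ _,
      Limits.pullback.lift_snd _ _ _⟩
  let E := Limits.pullback.fst L (Limits.pullback.diagonal f)
  have hcl : IsClosed (Set.range E) := E.isClosedEmbedding.isClosed_range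
  let u := Limits.pullback.lift ι (ι ≫ sa)
    (show ι ≫ L = (ι ≫ sa) ≫ Limits.pullback.diagonal f by
      apply Limits.pullback.hom_ext
      · rw [Category.assoc, hL1, Category.assoc, Limits.pullback.diagonal_fst, Category.comp_id]
      · rw [Category.assoc, hL2, Category.assoc, Limits.pullback.diagonal_snd, Category.comp_id, hu])
  have hPmem : P ∈ Set.range E := ⟨u (IsLocalRing.closedPoint _), by
    rw [← Scheme.Hom.comp_apply, Limits.pullback.lift_fst, hclosed]⟩
  obtain ⟨e, he⟩ : IsLocalRing.closedPoint R ∈ Set.range E :=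
    ((PrimeSpectrum.le_iff_specializes _ _).1 hpm).mem_closed hcl hPmem
  have h1 : E ≫ sa = E ≫ sb := by
    have := Limits.pullback.condition (f := L) (g := Limits.pullback.diagonal f)
    have ha := congrArg (· ≫ Limits.pullback.fst f f) this
    have hb := congrArg (· ≫ Limits.pullback.snd f f) this
    simp only [Category.assoc, hL1, hL2, Limits.pullback.diagonal_fst, Limits.pullback.diagonal_snd,
      Category.comp_id] at ha hb
    exact ha.trans hb.symm
  calc a = sa (E e) := by rw [he, hac]
    _ = sb (E e) := by rw [← Scheme.Hom.comp_apply, h1, Scheme.Hom.comp_apply]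
    _ = b := by rw [he, hbc]

end Groth.Agent.S18197
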