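import Groth.Statements.S18194
import Groth.Agent.LocImm12.Nbhd
import Groth.Agent.DimLib.Maximal
import Groth.Agent.S18197

set_option autoImplicit false
universe u
open LocImm

namespace Groth.Agent.S18194

open CategoryTheory AlgebraicGeometry in
/-- Let `X, Y₁, Y₂` be Noetherian schemes, `f_i : X ⟶ Y_i` separated localizing immersions (localizing
and injective on points) and `g : Y₁ ⟶ Y₂` a separated morphism essentially of finite type with `f₁
≫ g = f₂`. Then there is an open `U ⊆ Y₁` containing the image of `f₁` such that the restriction `U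
⟶ Y₂` of `g` is a localizing immersion. -/
theorem result {X Y₁ Y₂ : Scheme.{u}} [IsNoetherian X] [IsNoetherian Y₁] [IsNoetherian Y₂]
    (f₁ : X ⟶ Y₁) (f₂ : X ⟶ Y₂) (g : Y₁ ⟶ Y₂) (hf₁ : LocImm.IsLocImmersion f₁) (hf₂ : LocImm.IsLocImmersion f₂)
    [IsSeparated f₁] [IsSeparated f₂] [IsSeparated g] [EssFT.EssFiniteType g] (h : f₁ ≫ g = f₂) :
    ∃ U : Y₁.Opens, Set.range (fun x => f₁ x) ⊆ (U : Set Y₁) ∧ LocImm.IsLocImmersion (U.ι ≫ g) := by
  subst h
  have hloc : ∀ x, f₁ x ∈ Groth.Agent.LocImm12.locLocus g := fun x => by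
    have h1 := Groth.Agent.LocImm12.isIso_stalkMap hf₁.1 x
    have h2 := Groth.Agent.LocImm12.isIso_stalkMap hf₂.1 x
    rw [Scheme.Hom.stalkMap_comp] at h2
    have h3 : IsIso (g.stalkMap (f₁ x) ≫ f₁.stalkMap x) := h2
    have : IsIso (g.stalkMap (f₁ x)) := IsIso.of_isIso_comp_right _ (f₁.stalkMap x)
    exact Groth.Agent.LocImm12.mem_locLocus_of_isIso_stalkMap g _
  let M : Set Y₁ := {η | (∀ z, z ⤳ η → η = z) ∧ η ∉ Set.range (fun x => f₁ x)}
  have hM : M.Finite := by
    refine Set.Finite.of_finite_image (f := fun η => closure {η})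
      (TopologicalSpace.NoetherianSpace.finite_irreducibleComponents.subset ?_) ?_
    · rintro _ ⟨η, hη, rfl⟩
      exact Groth.Agent.DimLib.closure_mem_components hη.1
    · intro a ha b _ hab
      exact ha.1 b (specializes_iff_mem_closure.2 ((show closure {a} = closure {b} from hab) ▸ subset_closure rfl))
  obtain ⟨U, hU⟩ : ∃ U : Y₁.Opens, (U : Set Y₁) =
      (Groth.Agent.LocImm12.locLocus g : Set Y₁) \ ⋃ η ∈ M, closure {η} :=
    ⟨⟨_, (Groth.Agent.LocImm12.locLocus g).2.sdiff (hM.isClosed_biUnion fun _ _ => isClosed_closure)⟩, rfl⟩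
  have hsub : Set.range (fun x => f₁ x) ⊆ (U : Set Y₁) := by
    rintro _ ⟨x, rfl⟩
    rw [hU]
    refine ⟨hloc x, fun hx => ?_⟩
    obtain ⟨η, hη, hx⟩ := Set.mem_iUnion₂.1 hx
    obtain ⟨x', -, hx'⟩ := Groth.Agent.LocImm12.generalizingMap_of_isLocalizing hf₁.1
      (specializes_iff_mem_closure.2 hx)
    exact hη.2 ⟨x', hx'⟩
  have hl : LocImm.IsLocalizing (U.ι ≫ g) :=
    Groth.Agent.LocImm12.isLocalizing_comp_left U.ι g fun w => (hU.le w.2).1
  have : IsLocallyNoetherian U.toScheme := isLocallyNoetherian_of_isOpenImmersion U.ι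
  have : CompactSpace U.toScheme := isCompact_iff_compactSpace.mp (TopologicalSpace.NoetherianSpace.isCompact (U : Set Y₁))
  have : IsNoetherian U.toScheme := { }
  refine ⟨U, hsub, hl, (Groth.Agent.S18197.result (U.ι ≫ g) hl).2 ⟨inferInstance, ?_⟩⟩
  have key : ∀ η : U.toScheme, (∀ η', η' ⤳ η → η' = η) → ∃ x, f₁ x = U.ι η := by
    intro η hη
    by_contra hne
    refine (hU.le η.2).2 (Set.mem_iUnion₂.2 ⟨U.ι η, ⟨fun z hz => ?_, fun hx => hne hx⟩, subset_closure rfl⟩)
    exact congrArg U.ι (hη ⟨z, hz.mem_open U.2 η.2⟩ (Topology.IsInducing.subtypeVal.specializes_iff.1 hz)).symm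
  intro a ha b hb hab
  obtain ⟨x, hx⟩ := key a ha
  obtain ⟨y, hy⟩ := key b hb
  have : x = y := hf₂.2 (by
    show g (f₁ x) = g (f₁ y)
    rw [hx, hy]
    exact hab)
  exact U.ι.isOpenEmbedding.injective (by rw [← hx, ← hy, this])

end Groth.Agent.S18194
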