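import Groth.Statements.S18195
import Groth.Agent.LocImm12.Basic

set_option autoImplicit false
universe u
open LocImm

namespace Groth.Agent.S18195

open CategoryTheory AlgebraicGeometry in
/-- Let `f : X ⟶ Y` and `g : Y ⟶ Z` be morphisms of Noetherian schemes with `g` separated and `f ≫ g` a
localizing immersion (localizing and injective on points). If `f` has schematically dense image,
i.e. each ring map `Γ(Y, U) → Γ(X, f⁻¹U)` is injective, then `f` is a localizing immersion. -/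
theorem result {X Y Z : Scheme.{u}} [IsNoetherian X] [IsNoetherian Y] [IsNoetherian Z]
    (f : X ⟶ Y) (g : Y ⟶ Z) (hfg : LocImm.IsLocImmersion (f ≫ g)) [IsSeparated g]
    (hd : ∀ U : Y.Opens, Function.Injective (f.app U).hom) : LocImm.IsLocImmersion f := by
  refine ⟨fun x => ?_, fun a b e => hfg.2 (congrArg g e)⟩
  obtain ⟨W, P, hx, e, h⟩ := hfg.1 x
  obtain ⟨U, hU, hxU, hUW⟩ := TopologicalSpace.Opens.isBasis_iff_nbhd.mp Y.isBasis_affineOpens
    (show f x ∈ g ⁻¹ᵁ (W : Z.Opens) from e hx)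
  obtain ⟨V, hV, hVP⟩ := (Groth.Agent.LocImm12.isEmbedding hfg).isInducing.isOpen_iff.1
    ((P : X.Opens) ⊓ f ⁻¹ᵁ U).2
  have hxV : (f ≫ g) x ∈ V := by
    have : x ∈ (f ≫ g) ⁻¹' V := hVP.symm ▸ ⟨hx, hxU⟩
    exact this
  obtain ⟨a, ha, hxa⟩ := W.2.exists_basicOpen_le (V := ⟨V, hV⟩) ⟨(f ≫ g) x, hxV⟩ (e hx)
  let c := g.appLE (W : Z.Opens) U hUW a
  let d := (f ≫ g).appLE (W : Z.Opens) (P : X.Opens) e a
  have hpre : (f ≫ g) ⁻¹ᵁ Z.basicOpen a = X.basicOpen d := by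
    rw [Scheme.basicOpen_appLE, eq_comm, inf_eq_right]
    exact fun z hz => (hVP.le (ha hz)).1
  have hc : Y.basicOpen c = U ⊓ g ⁻¹ᵁ Z.basicOpen a := Scheme.basicOpen_appLE _ _ _ _ _
  have hfc : f ⁻¹ᵁ Y.basicOpen c = X.basicOpen d := by
    rw [hc, Scheme.Hom.preimage_inf, ← Scheme.Hom.comp_preimage, ← hpre, inf_eq_right]
    exact fun z hz => (hVP.le (ha hz)).2
  refine ⟨⟨Y.basicOpen c, hU.basicOpen c⟩, ⟨X.basicOpen d, P.2.basicOpen d⟩,
    (show x ∈ X.basicOpen d from hpre ▸ hxa), hfc.ge, ?_⟩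
  have hinj : Function.Injective (f.appLE (Y.basicOpen c) (X.basicOpen d) hfc.ge).hom := by
    intro s t hst
    apply hd (Y.basicOpen c)
    rw [Scheme.Hom.appLE, CommRingCat.hom_comp, RingHom.comp_apply, RingHom.comp_apply] at hst
    have : IsIso (X.presheaf.map (homOfLE hfc.ge).op) := by
      rw [show (homOfLE hfc.ge : X.basicOpen d ⟶ f ⁻¹ᵁ Y.basicOpen c) = (eqToIso hfc.symm).hom from
        Subsingleton.elim _ _]
      infer_instance
    exact (ConcreteCategory.bijective_of_isIso (X.presheaf.map (homOfLE hfc.ge).op)).1 hst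
  let R := Γ(Z, (W : Z.Opens))
  have e' : X.basicOpen d ≤ (f ≫ g) ⁻¹ᵁ (W : Z.Opens) := (X.basicOpen_le d).trans e
  have e'' : Y.basicOpen c ≤ g ⁻¹ᵁ (W : Z.Opens) := (Y.basicOpen_le c).trans hUW
  have hloc : IsLocHom ((f ≫ g).appLE (W : Z.Opens) (X.basicOpen d) e').hom := by
    let _ := ((f ≫ g).appLE (W : Z.Opens) (P : X.Opens) e).hom.toAlgebra
    let _ := ((f ≫ g).appLE (W : Z.Opens) (X.basicOpen d) e').hom.toAlgebra
    let _ := (X.presheaf.map (homOfLE (X.basicOpen_le d)).op).hom.toAlgebra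
    have : IsScalarTower R Γ(X, (P : X.Opens)) Γ(X, X.basicOpen d) :=
      .of_algebraMap_eq fun r => by
        show (f ≫ g).appLE (W : Z.Opens) (X.basicOpen d) e' r = _
        rw [← Scheme.Hom.appLE_map (f ≫ g) e (homOfLE (X.basicOpen_le d)).op]
        rfl
    obtain ⟨S, hS⟩ := h
    have : IsLocalization.Away d Γ(X, X.basicOpen d) := P.2.isLocalization_basicOpen d
    exact ⟨_, IsLocalization.localization_localization_isLocalization S
      (Submonoid.powers d) Γ(X, X.basicOpen d)⟩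
  let _ := ((f ≫ g).appLE (W : Z.Opens) (X.basicOpen d) e').hom.toAlgebra
  obtain ⟨T, hT⟩ := hloc
  let φ := (g.appLE (W : Z.Opens) (Y.basicOpen c) e'').hom
  let ψ := (f.appLE (Y.basicOpen c) (X.basicOpen d) hfc.ge).hom
  have hcomp : ∀ r, ψ (φ r) = algebraMap R Γ(X, X.basicOpen d) r := fun r =>
    ConcreteCategory.congr_hom
      (Scheme.Hom.appLE_comp_appLE f g (W : Z.Opens) (Y.basicOpen c) (X.basicOpen d) e'' hfc.ge) r
  let _ := ψ.toAlgebra
  refine ⟨T.map φ, ⟨?_, fun z => ?_, fun {s t} hst => ⟨1, by rw [hinj hst]⟩⟩⟩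
  · rintro ⟨_, t, ht, rfl⟩
    show IsUnit (ψ (φ t))
    rw [hcomp]
    exact IsLocalization.map_units (M := T) _ ⟨t, ht⟩
  · obtain ⟨⟨r, t⟩, hrt⟩ := IsLocalization.surj (M := T) z
    refine ⟨⟨φ r, ⟨φ t, Submonoid.mem_map_of_mem _ t.2⟩⟩, ?_⟩
    show z * ψ (φ t) = ψ (φ r)
    rw [hcomp, hcomp]
    exact hrt

end Groth.Agent.S18195
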