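import Groth.Statements.S18202
import Groth.Agent.LocImm12.Basic
import Mathlib.AlgebraicGeometry.Morphisms.Flat
import Mathlib.RingTheory.Localization.BaseChange

set_option autoImplicit false
universe u
open LocImm

namespace Groth.Agent.S18202

open CategoryTheory AlgebraicGeometry Limits in
/-- Let `f : X ⟶ Y` be a localizing immersion (localizing and injective on points) of Noetherian schemes
and `g : Y' ⟶ Y` a morphism with `Y'` Noetherian. Then the base change `X ×_Y Y' ⟶ Y'` is a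
localizing immersion. -/
theorem result {X Y Y' : Scheme.{u}} [IsNoetherian X] [IsNoetherian Y] [IsNoetherian Y']
    (f : X ⟶ Y) (g : Y' ⟶ Y) (hf : LocImm.IsLocImmersion f) : LocImm.IsLocImmersion (pullback.snd f g) := by
  have := Groth.Agent.LocImm12.isPreimmersion hf
  refine ⟨fun z => ?_, (pullback.snd f g).injective⟩
  obtain ⟨U, V, hx, e, h⟩ := hf.1 (pullback.fst f g z)
  have hgz : g (pullback.snd f g z) ∈ (U : Y.Opens) := by
    rw [← Scheme.Hom.comp_apply, ← pullback.condition, Scheme.Hom.comp_apply]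
    exact e hx
  obtain ⟨W, hW, hzW, hWU⟩ := TopologicalSpace.Opens.isBasis_iff_nbhd.mp Y'.isBasis_affineOpens
    (show pullback.snd f g z ∈ g ⁻¹ᵁ (U : Y.Opens) from hgz)
  let Z : (pullback f g).Opens := pullback.fst f g ⁻¹ᵁ (V : X.Opens) ⊓ pullback.snd f g ⁻¹ᵁ W
  have hc := IsPullback.of_hasPullback f g
  have : IsAffine (AlgebraicGeometry.Scheme.Opens.toScheme (V : X.Opens)) := V.2
  have : IsAffine (AlgebraicGeometry.Scheme.Opens.toScheme (U : Y.Opens)) := U.2
  have : IsAffine (AlgebraicGeometry.Scheme.Opens.toScheme W) := hW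
  have hZ : IsAffineOpen Z :=
    .of_isIso (Scheme.Hom.isPullback_resLE hc hWU e (rfl : Z = _)).isoPullback.hom
  refine ⟨⟨W, hW⟩, ⟨Z, hZ⟩, ⟨hx, hzW⟩, inf_le_right, ?_⟩
  have := isIso_pushoutSection_of_isAffineOpen hc hWU e (rfl : Z = _) U.2 hW V.2
  have hp := (isIso_pushoutSection_iff hc hWU e (rfl : Z = _)).1 this
  let _ := (f.appLE (U : Y.Opens) (V : X.Opens) e).hom.toAlgebra
  obtain ⟨S, hS⟩ := h
  let _ := (g.appLE (U : Y.Opens) W hWU).hom.toAlgebra
  let _ := ((pullback.fst f g).appLE (V : X.Opens) Z inf_le_left).hom.toAlgebra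
  let _ := ((pullback.snd f g).appLE W Z inf_le_right).hom.toAlgebra
  let _ : Algebra Γ(Y, (U : Y.Opens)) Γ(pullback f g, Z) :=
    (((pullback.fst f g).appLE (V : X.Opens) Z inf_le_left).hom.comp
      (f.appLE (U : Y.Opens) (V : X.Opens) e).hom).toAlgebra
  have : IsScalarTower Γ(Y, (U : Y.Opens)) Γ(X, (V : X.Opens)) Γ(pullback f g, Z) :=
    .of_algebraMap_eq fun _ => rfl
  have : IsScalarTower Γ(Y, (U : Y.Opens)) Γ(Y', W) Γ(pullback f g, Z) :=
    .of_algebraMap_eq fun r => ConcreteCategory.congr_hom hp.w r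
  have hpu : Algebra.IsPushout Γ(Y, (U : Y.Opens)) Γ(X, (V : X.Opens)) Γ(Y', W) Γ(pullback f g, Z) :=
    CommRingCat.isPushout_iff_isPushout.1 hp
  exact ⟨_, (Algebra.isLocalization_iff_isPushout S Γ(X, (V : X.Opens))).2 hpu.symm⟩

end Groth.Agent.S18202
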