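import Groth.Statements.S18193
import Groth.Agent.LocImm12.Glue
import Groth.Agent.S18194
import Groth.Agent.S18195
import Groth.Agent.S18204

set_option autoImplicit false
universe u
open LocImm

namespace Groth.Agent.S18193

open CategoryTheory CategoryTheory.Limits AlgebraicGeometry in
/-- Let `X, Y₁, Y₂, S` be Noetherian schemes, `f_i : X ⟶ Y_i` separated localizing immersions
(localizing and injective on points) and `π_i : Y_i ⟶ S` separated morphisms of finite type with `f₁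
≫ π₁ = f₂ ≫ π₂`. Then there are a scheme `W`, a localizing immersion `k : X ⟶ W` and open immersions
`g_i : W ⟶ Y_i` compatible over `S` with `k ≫ g_i = f_i`; in particular `W` is of finite type over
`S`. -/
theorem result {X Y₁ Y₂ S : Scheme.{u}} [IsNoetherian X] [IsNoetherian Y₁] [IsNoetherian Y₂] [IsNoetherian S]
    (f₁ : X ⟶ Y₁) (f₂ : X ⟶ Y₂) (π₁ : Y₁ ⟶ S) (π₂ : Y₂ ⟶ S)
    (hf₁ : LocImm.IsLocImmersion f₁) (hf₂ : LocImm.IsLocImmersion f₂) [IsSeparated f₁] [IsSeparated f₂]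
    [IsSeparated π₁] [IsSeparated π₂] [LocallyOfFiniteType π₁] [LocallyOfFiniteType π₂] (h : f₁ ≫ π₁ = f₂ ≫ π₂) :
    ∃ (W : Scheme.{u}) (k : X ⟶ W) (g₁ : W ⟶ Y₁) (g₂ : W ⟶ Y₂), LocImm.IsLocImmersion k ∧ IsOpenImmersion g₁ ∧ IsOpenImmersion g₂ ∧ g₁ ≫ π₁ = g₂ ≫ π₂ ∧ k ≫ g₁ = f₁ ∧ k ≫ g₂ = f₂ := by
  have := Groth.Agent.LocImm12.quasiCompact_of_isNoetherian π₂
  have := Groth.Agent.LocImm12.quasiCompact_of_isNoetherian π₁
  have hP : IsNoetherian (pullback π₁ π₂) :=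
    Groth.Agent.LocImm12.isNoetherian_of_lft (pullback.fst π₁ π₂ ≫ π₁)
  let l : X ⟶ pullback π₁ π₂ := pullback.lift f₁ f₂ h
  have := Groth.Agent.LocImm12.quasiCompact_of_isNoetherian l
  have hZ : IsNoetherian l.image := Groth.Agent.LocImm12.isNoetherian_of_lft (l.imageι)
  let g₁ := l.imageι ≫ pullback.fst π₁ π₂
  let g₂ := l.imageι ≫ pullback.snd π₁ π₂
  have hc₁ : l.toImage ≫ g₁ = f₁ := by
    rw [← Category.assoc, l.toImage_imageι]; exact pullback.lift_fst _ _ _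
  have hc₂ : l.toImage ≫ g₂ = f₂ := by
    rw [← Category.assoc, l.toImage_imageι]; exact pullback.lift_snd _ _ _
  have hd : ∀ U : l.image.Opens, Function.Injective (l.toImage.app U).hom :=
    fun U => Groth.Agent.LocImm12.toImage_app_injective l U
  have hc : LocImm.IsLocImmersion l.toImage :=
    Groth.Agent.S18195.result l.toImage g₁ (hc₁ ▸ hf₁) hd
  have : IsSeparated l.toImage := by
    have : IsSeparated (l.toImage ≫ g₁) := hc₁ ▸ inferInstance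
    exact IsSeparated.of_comp l.toImage g₁
  have := Groth.Agent.LocImm12.quasiCompact_of_isNoetherian g₁
  have := Groth.Agent.LocImm12.quasiCompact_of_isNoetherian g₂
  obtain ⟨U₁, hU₁, hl₁⟩ := Groth.Agent.S18194.result l.toImage f₁ g₁ hc hf₁ hc₁
  obtain ⟨U₂, hU₂, hl₂⟩ := Groth.Agent.S18194.result l.toImage f₂ g₂ hc hf₂ hc₂
  have := Groth.Agent.LocImm12.isNoetherian_opens U₁
  have := Groth.Agent.LocImm12.isNoetherian_opens U₂
  have o₁ : IsOpenImmersion (U₁.ι ≫ g₁) := Groth.Agent.S18204.result _ hl₁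
  have o₂ : IsOpenImmersion (U₂.ι ≫ g₂) := Groth.Agent.S18204.result _ hl₂
  have hsub : Set.range l.toImage ⊆ Set.range (U₁ ⊓ U₂).ι := by
    rw [Scheme.Opens.range_ι]
    rintro _ ⟨x, rfl⟩
    exact ⟨hU₁ ⟨x, rfl⟩, hU₂ ⟨x, rfl⟩⟩
  let k := IsOpenImmersion.lift (U₁ ⊓ U₂).ι l.toImage hsub
  have hk : k ≫ (U₁ ⊓ U₂).ι = l.toImage := IsOpenImmersion.lift_fac _ _ hsub
  refine ⟨(U₁ ⊓ U₂).toScheme, k, (U₁ ⊓ U₂).ι ≫ g₁, (U₁ ⊓ U₂).ι ≫ g₂,
    ⟨Groth.Agent.LocImm12.isLocalizing_of_comp_right (U₁ ⊓ U₂).ι (hk.symm ▸ hc.1),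
      fun a b e => hc.2 (by rw [← hk]; exact congrArg (U₁ ⊓ U₂).ι e)⟩, ?_, ?_, ?_, ?_, ?_⟩
  · rw [← Scheme.homOfLE_ι _ (inf_le_left : U₁ ⊓ U₂ ≤ U₁), Category.assoc]
    infer_instance
  · rw [← Scheme.homOfLE_ι _ (inf_le_right : U₁ ⊓ U₂ ≤ U₂), Category.assoc]
    infer_instance
  · simp [g₁, g₂, pullback.condition]
  · rw [reassoc_of% hk, hc₁]
  · rw [reassoc_of% hk, hc₂]

end Groth.Agent.S18193
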