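import Groth.Statements.S5443
import Groth.Agent.GLinLib.UnipotentOrbit26
import Groth.Agent.AlgGrpLib.ActionCoact26
import Groth.Agent.AlgGrpLib.AffineHull

set_option autoImplicit false
set_option linter.style.haveILetI false
set_option backward.isDefEq.respectTransparency.types false
universe u
open TensorProduct CategoryTheory MonoidalCategory CartesianMonoidalCategory MonObj GrpObj AlgebraicGeometry
open SGA3x

namespace Groth.Agent.S5443

/-- Let k be a field, A a finitely generated commutative Hopf algebra over k which is unipotent in the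
fixed-vector sense (a unipotent algebraic group U = Spec A), X a k-scheme of finite type which is
quasi-affine, with an action of U, and x a k-rational point of X. Then the orbit of x — the
set-theoretic image of U under the orbit map g ↦ g · x — is closed in X. (The published statement
does not ask X to be of finite type over k; this row does.) -/
theorem result (k : Type u) [Field k] (A : Type u) [CommRing A] [HopfAlgebra k A] [Algebra.FiniteType k A]
    (hU : HopfRep.IsUnipotent k A) (X : Over (Spec (CommRingCat.of k))) [LocallyOfFiniteType X.hom]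
    (hX : Mor2.IsQuasiAffine X.hom)
    (a : AlgGrp.Action ((Spec (CommRingCat.of A)).asOver (Spec (CommRingCat.of k))) X)
    (x : 𝟙_ (Over (Spec (CommRingCat.of k))) ⟶ X) :
    IsClosed (Set.range (a.orbitMap x).left.base) := by
  haveI : X.left.IsQuasiAffine := by
    have := hX.2 ⊤ (isAffineOpen_top _)
    rw [Scheme.Hom.preimage_top] at this
    haveI := this
    exact Scheme.IsQuasiAffine.of_isAffineHom X.left.topIso.inv
  letI algR : Algebra k Γ(X.left, ⊤) :=
    ((Scheme.ΓSpecIso (CommRingCat.of k)).inv ≫ X.hom.appTop).hom.toAlgebra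
  let G : Over (Spec (CommRingCat.of k)) := CoactBr.sp k A
  let q : X ⟶ CoactBr.sp k Γ(X.left, ⊤) := AlgGrpLib.toAffOf X
  have hepi : ∀ Y : Over (Spec (CommRingCat.of k)), AlgGrpLib.AffineHull.IsAffEpi (Y ◁ q) := fun Y =>
    AlgGrpLib.AffineHull.isAffEpi_whiskerLeft X Y
  obtain ⟨act', hact'⟩ := (hepi G (CoactBr.sp k Γ(X.left, ⊤)) (inferInstanceAs (IsAffine (Spec _)))).2 (a.act ≫ q)
  simp only at hact'
  let a' : AlgGrp.Action G (CoactBr.sp k Γ(X.left, ⊤)) :=
    { act := act'
      one_act := (hepi _ _ (inferInstanceAs (IsAffine (Spec _)))).1 (by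
        show _ ≫ _ = _ ≫ _
        rw [whisker_exchange_assoc, hact', reassoc_of% a.one_act]
        simp)
      mul_act := (hepi (G ⊗ G) _ (inferInstanceAs (IsAffine (Spec _)))).1 (by
        show _ ≫ _ = _ ≫ _
        rw [whisker_exchange_assoc, hact', reassoc_of% a.mul_act, associator_naturality_right_assoc,
          ← MonoidalCategory.whiskerLeft_comp_assoc, hact', MonoidalCategory.whiskerLeft_comp_assoc, hact']) }
  have horb : a.orbitMap x ≫ q = a'.orbitMap (x ≫ q) := by
    simp only [AlgGrp.Action.orbitMap, Category.assoc]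
    rw [← hact', lift_whiskerLeft_assoc, Category.assoc]
  obtain ⟨φ, hφ⟩ := Misc15.AffinePoints.pt_surjective ((HopfLib.SpPoints.unitIso (R := k)).hom ≫ x ≫ q)
  letI := AlgGrpLib.ActionCoact26.comod a'
  haveI : GLin.IsCoactAlg k A Γ(X.left, ⊤) := AlgGrpLib.ActionCoact26.isCoactAlg a'
  have h1 : ι[G] ≫ a'.orbitMap (x ≫ q) = CoactBr.pt (GLin.orbitHom k A φ) := by
    have h := AlgGrpLib.ActionCoact26.inv_orbitMap a' φ
    rwa [hφ, Iso.inv_hom_id_assoc] at h
  have hc : IsClosed (Set.range (ι[G] ≫ a'.orbitMap (x ≫ q)).left.base) := by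
    rw [h1]
    exact GLinLib.isClosedOrbit_of_isUnipotent_finiteType hU φ
  haveI : IsIso ι[G].left := inferInstanceAs (IsIso ((Over.forget _).map ι[G]))
  have hsurj : Function.Surjective ι[G].left.base := ι[G].left.surjective
  have e : Set.range (a.orbitMap x).left.base =
      q.left.base ⁻¹' Set.range (ι[G] ≫ a'.orbitMap (x ≫ q)).left.base := by
    rw [← horb, Over.comp_left, Over.comp_left, Scheme.Hom.comp_base, Scheme.Hom.comp_base, TopCat.coe_comp,
      hsurj.range_comp, TopCat.coe_comp, Set.range_comp, Set.preimage_image_eq]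
    haveI : IsOpenImmersion q.left := inferInstanceAs (IsOpenImmersion X.left.toSpecΓ)
    exact q.left.isOpenEmbedding.injective
  rw [e]
  exact hc.preimage q.left.continuous

end Groth.Agent.S5443
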