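import Groth.Statements.S5279
import Groth.Agent.SGA3cLib.MultTrivialAction
import Mathlib.AlgebraicGeometry.IdealSheaf.Basic
import Mathlib.AlgebraicGeometry.Morphisms.ClosedImmersion

set_option linter.style.haveILetI false

set_option autoImplicit false
open CategoryTheory MonoidalCategory CartesianMonoidalCategory MonObj GrpObj AlgebraicGeometry
universe u
open SGA3x

namespace Groth.Agent.S5279

open Groth.Agent.SGA3cLib Groth.Agent.SGA3cLib.MultTriv

noncomputable section

open Limits in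
/-- Points of a group which becomes diagonalisable over `U`, on affine schemes over an affine scheme mapping to `U`. -/
theorem exists_points {S U : Scheme.{u}} (fU : U ⟶ S) (G : Over S) [GrpObj G] (M : Type) [AddCommGroup M]
    (e : Grp.mk (Red.bc fU G) ≅ Grp.mk (Red.DS U M)) {R : Type u} [CommRing R] (t : Spec (CommRingCat.of R) ⟶ U) :
    ∃ pt : ∀ (A : Type u) [CommRing A] [Algebra R A], (Multiplicative M →* A) → (Q (t ≫ fU) A ⟶ G),
      (∀ (A : Type u) [CommRing A] [Algebra R A] (χ ψ : Multiplicative M →* A), pt A (χ * ψ) = pt A χ * pt A ψ) ∧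
      (∀ (A A' : Type u) [CommRing A] [Algebra R A] [CommRing A'] [Algebra R A'] (v : A →ₐ[R] A')
        (χ : Multiplicative M →* A), q (t ≫ fU) v ≫ pt A χ = pt A' ((v : A →* A').comp χ)) ∧
      ∀ (A : Type u) [CommRing A] [Algebra R A] (g : Q (t ≫ fU) A ⟶ G), ∃ χ, pt A χ = g := by
  let h : Red.bc fU G ⟶ Red.DS U M := e.hom.hom.hom
  haveI : IsMonHom h := e.hom.hom.isMonHom_hom
  haveI : IsIso h := ((Grp.forget _).mapIso e).isIso_hom
  let ηA : ∀ (A : Type u) [CommRing A] [Algebra R A], Q t A ⟶ Red.bc fU (Q (t ≫ fU) A) := fun A _ _ =>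
    Over.homMk (pullback.lift (𝟙 _) (Spec.map (CommRingCat.ofHom (algebraMap R A)) ≫ t) (by simp [Q]))
      (pullback.lift_snd _ _ _)
  let τ : ∀ (A : Type u) [CommRing A] [Algebra R A], (Q (t ≫ fU) A ⟶ G) → (Q t A ⟶ Red.DS U M) :=
    fun A _ _ g => ηA A ≫ (Over.pullback fU).map g ≫ h
  have hτleft : ∀ (A : Type u) [CommRing A] [Algebra R A] (g : Q (t ≫ fU) A ⟶ G),
      (ηA A ≫ (Over.pullback fU).map g).left ≫ pullback.fst _ _ = g.left := fun A _ _ g => by
    simp only [Over.comp_left, Over.pullback_map_left, Category.assoc]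
    erw [pullback.lift_fst, pullback.lift_fst_assoc, Category.id_comp]
  have τinj : ∀ (A : Type u) [CommRing A] [Algebra R A] (g g' : Q (t ≫ fU) A ⟶ G), τ A g = τ A g' → g = g' :=
    fun A _ _ g g' hgg => by
    have h2 : ηA A ≫ (Over.pullback fU).map g = ηA A ≫ (Over.pullback fU).map g' := by
      simp only [τ, ← Category.assoc] at hgg
      exact (cancel_mono h).mp hgg
    ext1
    rw [← hτleft A g, ← hτleft A g', h2]
  have τsurj : ∀ (A : Type u) [CommRing A] [Algebra R A] (k : Q t A ⟶ Red.DS U M), ∃ g, τ A g = k :=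
    fun A _ _ k => by
    let k' : Q t A ⟶ Red.bc fU G := k ≫ inv h
    have hw : k'.left ≫ pullback.snd G.hom fU = Spec.map (CommRingCat.ofHom (algebraMap R A)) ≫ t := Over.w k'
    let g : Q (t ≫ fU) A ⟶ G := Over.homMk (k'.left ≫ pullback.fst G.hom fU) (by
      show (k'.left ≫ pullback.fst G.hom fU) ≫ G.hom = Spec.map _ ≫ t ≫ fU
      rw [Category.assoc, pullback.condition, reassoc_of% hw])
    refine ⟨g, ?_⟩
    show ηA A ≫ _ ≫ h = k
    rw [← Category.assoc, ← IsIso.eq_comp_inv]
    ext1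
    apply pullback.hom_ext
    · exact hτleft A g
    · exact (Over.w (ηA A ≫ (Over.pullback fU).map g)).trans (Over.w k').symm
  have τmul : ∀ (A : Type u) [CommRing A] [Algebra R A] (g g' : Q (t ≫ fU) A ⟶ G), τ A (g * g') = τ A g * τ A g' :=
    fun A _ _ g g' => by
    show ηA A ≫ _ ≫ h = _
    rw [Functor.map_mul, ← Category.assoc, MonObj.comp_mul]
    exact (MonObj.mul_comp (ηA A ≫ (Over.pullback fU).map g) (ηA A ≫ (Over.pullback fU).map g') h).trans
      (by simp only [τ, Category.assoc])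
  have τnat : ∀ (A A' : Type u) [CommRing A] [Algebra R A] [CommRing A'] [Algebra R A'] (v : A →ₐ[R] A')
      (g : Q (t ≫ fU) A ⟶ G), τ A' (q (t ≫ fU) v ≫ g) = q t v ≫ τ A g := fun A A' _ _ _ _ v g => by
    have h2 : ηA A' ≫ (Over.pullback fU).map (q (t ≫ fU) v) = q t v ≫ ηA A := by
      ext1
      apply pullback.hom_ext
      · simp only [ηA, Over.comp_left, Over.pullback_map_left, Category.assoc, Over.homMk_left, q_left]
        erw [pullback.lift_fst, pullback.lift_fst_assoc, pullback.lift_fst]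
        simp [q]
      · exact (Over.w (ηA A' ≫ (Over.pullback fU).map (q (t ≫ fU) v))).trans (Over.w (q t v ≫ ηA A)).symm
    simp only [τ, Functor.map_comp, Category.assoc, reassoc_of% h2]
  -- characters
  let φ : ∀ (A : Type u) [CommRing A] [Algebra R A], (Multiplicative M →* A) →
      (MonoidAlgebra (ULift.{u} ℤ) (Multiplicative M) →+* Γ((Q t A).left, ⊤)) := fun A _ _ χ =>
    (Scheme.ΓSpecIso (CommRingCat.of A)).inv.hom.comp
      (MonoidAlgebra.liftNCRingHom (algR₀ A).algebraMap χ (fun _ _ => Commute.all _ _))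
  have hφ : ∀ (A : Type u) [CommRing A] [Algebra R A] (χ : Multiplicative M →* A) (m : Multiplicative M),
      φ A χ (MonoidAlgebra.single m 1) = (Scheme.ΓSpecIso (CommRingCat.of A)).inv (χ m) := fun A _ _ χ m => by
    simp [φ, MonoidAlgebra.liftNCRingHom]
  have ext' : ∀ (A : Type u) [CommRing A] [Algebra R A] (x y : Q t A ⟶ Red.DS U M),
      (∀ m, fn x (MonoidAlgebra.single m 1) = fn y (MonoidAlgebra.single m 1)) → x = y := fun A _ _ x y hxy => by
    refine fn_injective (MonoidAlgebra.ringHom_ext (fun r => ?_) hxy)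
    exact DFunLike.congr_fun (r₀_hom_ext ((fn x).comp MonoidAlgebra.singleOneRingHom)
      ((fn y).comp MonoidAlgebra.singleOneRingHom)) r
  have hsurj : ∀ (A : Type u) [CommRing A] [Algebra R A] (χ : Multiplicative M →* A),
      ∃ g, ∀ m, fn (τ A g) (MonoidAlgebra.single m 1) = (Scheme.ΓSpecIso (CommRingCat.of A)).inv (χ m) :=
    fun A _ _ χ => by
    obtain ⟨k, hk⟩ := fn_surjective (S := U) (X := Q t A) (φ A χ)
    obtain ⟨g, rfl⟩ := τsurj A k
    exact ⟨g, fun m => by rw [hk, hφ]⟩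
  choose pt hpt using fun (A : Type u) [CommRing A] [Algebra R A] => hsurj A
  refine ⟨pt, fun A _ _ χ ψ => τinj A _ _ (ext' A _ _ fun m => ?_), fun A A' _ _ _ _ v χ => τinj A' _ _ (ext' A' _ _ fun m => ?_),
    fun A _ _ g => ?_⟩
  · rw [τmul, fn_mul_of_groupLike _ _ (by simp [MonoidAlgebra.comul_single]), hpt, hpt, hpt, MonoidHom.mul_apply,
      map_mul]
  · rw [τnat, fn_comp, hpt, hpt]
    exact (congr($(Scheme.ΓSpecIso_inv_naturality (CommRingCat.ofHom v.toRingHom)) (χ m))).symm
  · let χ : Multiplicative M →* A := (Scheme.ΓSpecIso (CommRingCat.of A)).hom.hom.toMonoidHom.comp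
      ((fn (τ A g)).toMonoidHom.comp (MonoidAlgebra.of (ULift.{u} ℤ) (Multiplicative M)))
    refine ⟨χ, τinj A _ _ (ext' A _ _ fun m => ?_)⟩
    rw [hpt]
    simp [χ]

end


/-- Let i₀ : S₀ ⟶ S be a closed immersion whose ideal is locally nilpotent (nilpotent on each member of
an affine open cover of S; in particular S₀ and S have the same underlying space), G an S-group of
multiplicative type (fpqc-locally on S isomorphic, as a group, to diagonalisable groups D(M), M
allowed to vary and taken in Type 0), X an S-scheme locally of finite presentation over S, and a an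
action of G on X. If G₀ acts trivially on X₀, i.e. g · x = x for all points g of G and x of X
defined over an S₀-scheme, then G acts trivially on X. -/
theorem result {S S₀ : Scheme.{u}} (i₀ : S₀ ⟶ S) [IsClosedImmersion i₀]
    (hnil : ∀ x : S, ∃ U : S.affineOpens, x ∈ (U : S.Opens) ∧ IsNilpotent (i₀.ker.ideal U))
    (G X : Over S) [GrpObj G] (hG : TwC.Locally S TwC.Topology.fpqc (fun S' f => ∃ (M : Type) (_ : AddCommGroup M), Nonempty (Grp.mk (Red.bc f G) ≅ Grp.mk (Red.DS S' M))))
    [LocallyOfFinitePresentation X.hom] (a : AlgGrp.Action G X)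
    (h0 : ∀ (Y : Over S) (p : Y ⟶ Over.mk i₀) (g : Y ⟶ G) (x : Y ⟶ X), lift g x ≫ a.act = x) :
    ∀ (Y : Over S) (g : Y ⟶ G) (x : Y ⟶ X), lift g x ≫ a.act = x := by
  intro Y g x
  obtain ⟨S', f, hfl, hsu, hq, hU⟩ := hG
  haveI := (IsFpqcCov.of_forall f hq).pullback_snd Y.hom
  haveI hepi : Epi (Limits.pullback.fst Y.hom f) := by
    rw [← Limits.pullbackSymmetry_hom_comp_snd]
    haveI := IsFpqcCov.epi this
    infer_instance
  apply Over.OverMorphism.ext
  rw [← cancel_epi (Limits.pullback.fst Y.hom f)]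
  let Y' := Limits.pullback Y.hom f
  have hloc : ∀ y : Y', ∃ O : Y'.Opens, y ∈ O ∧
      O.ι ≫ Limits.pullback.fst Y.hom f ≫ (lift g x ≫ a.act).left = O.ι ≫ Limits.pullback.fst Y.hom f ≫ x.left := by
    intro y
    obtain ⟨U, hyU, M, _, ⟨e⟩⟩ := hU ((Limits.pullback.snd Y.hom f).base y)
    obtain ⟨V, hyV, hnilV⟩ := hnil (f.base ((Limits.pullback.snd Y.hom f).base y))
    obtain ⟨P, hP, hyP, hPle⟩ := TopologicalSpace.Opens.isBasis_iff_nbhd.mp S'.isBasis_affineOpens
      (show (Limits.pullback.snd Y.hom f).base y ∈ U ⊓ f ⁻¹ᵁ V.1 from ⟨hyU, hyV⟩)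
    let R : CommRingCat.{u} := Γ(S', P)
    let t : Spec R ⟶ U := IsOpenImmersion.lift U.ι hP.fromSpec (by
      rw [hP.range_fromSpec, Scheme.Opens.range_ι]
      exact fun _ h => (hPle h).1)
    have ht : t ≫ U.ι = hP.fromSpec := IsOpenImmersion.lift_fac _ _ _
    let s : Spec R ⟶ S := t ≫ U.ι ≫ f
    have hs : s = hP.fromSpec ≫ f := by simp only [s, ← Category.assoc, ht]
    let θ : Γ(S, V.1) ⟶ R := f.appLE V.1 P fun _ h => (hPle h).2
    let J : Ideal R := (i₀.ker.ideal V).map θ.hom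
    have hJ : IsNilpotent J := by
      obtain ⟨n, hn⟩ := hnilV
      exact ⟨n, by show J ^ n = 0; rw [← Ideal.map_pow, hn]; exact Ideal.map_bot⟩
    have htriv : ∀ (A : Type u) [CommRing A] [Algebra R A], J ≤ RingHom.ker (algebraMap R A) →
        ∀ (g : Q s A ⟶ G) (x : Q s A ⟶ X), lift g x ≫ a.act = x := by
      intro A _ _ hJA g x
      let hW₀ : IsAffineOpen (i₀ ⁻¹ᵁ V.1) := V.2.preimage i₀
      let σ := (i₀.app V.1).hom
      have hσ : Function.Surjective σ := i₀.app_surjective V.1 V.2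
      let ψ := RingHom.liftOfSurjective σ hσ ⟨(algebraMap R A).comp θ.hom, by
        rw [← Scheme.Hom.ker_apply i₀ V]
        exact fun a ha => hJA (Ideal.mem_map_of_mem _ ha)⟩
      have hψ : ψ.comp σ = (algebraMap R A).comp θ.hom := RingHom.liftOfSurjective_comp _ _ _
      refine h0 _ (Over.homMk (Spec.map (CommRingCat.ofHom ψ) ≫ hW₀.fromSpec) ?_) g x
      show (Spec.map _ ≫ hW₀.fromSpec) ≫ i₀ = Spec.map _ ≫ s
      rw [hs, ← V.2.SpecMap_appLE_fromSpec f hP (fun _ h => (hPle h).2), ← Category.assoc (Spec.map _) (Spec.map (f.appLE _ _ _)),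
        ← Spec.map_comp, Category.assoc, ← V.2.SpecMap_appLE_fromSpec i₀ hW₀ le_rfl, ← Category.assoc,
        ← Spec.map_comp]
      congr 2
      rw [← Scheme.Hom.app_eq_appLE]
      exact CommRingCat.hom_ext hψ
    obtain ⟨pt, pmul, pnat, psurj⟩ := exists_points (U.ι ≫ f) G M e t
    -- an affine chart of the source
    let O : Y'.Opens := Limits.pullback.snd Y.hom f ⁻¹ᵁ P
    let k₀ : (O : Scheme.{u}) ⟶ Spec R := IsOpenImmersion.lift hP.fromSpec (O.ι ≫ Limits.pullback.snd Y.hom f) (by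
      rw [hP.range_fromSpec]
      rintro _ ⟨w, rfl⟩
      exact w.2)
    have hk₀ : k₀ ≫ hP.fromSpec = O.ι ≫ Limits.pullback.snd Y.hom f := IsOpenImmersion.lift_fac _ _ _
    let lO : (O : Scheme.{u}) ⟶ Limits.pullback X.hom s :=
      Limits.pullback.lift (O.ι ≫ Limits.pullback.fst Y.hom f ≫ x.left) k₀ (by
        rw [hs, ← Category.assoc k₀, hk₀, Category.assoc, Category.assoc, Category.assoc, Over.w,
          Limits.pullback.condition])
    obtain ⟨W, hW, hyW, -⟩ := TopologicalSpace.Opens.isBasis_iff_nbhd.mp (Limits.pullback X.hom s).isBasis_affineOpens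
      (TopologicalSpace.Opens.mem_top (lO.base ⟨y, hyP⟩))
    obtain ⟨Z, hZ, hyZ, hZle⟩ := TopologicalSpace.Opens.isBasis_iff_nbhd.mp Y'.isBasis_affineOpens
      (show y ∈ O.ι ''ᵁ (lO ⁻¹ᵁ W) from ⟨⟨y, hyP⟩, hyW, rfl⟩)
    have hZO : Z ≤ Limits.pullback.snd Y.hom f ⁻¹ᵁ P := fun z hz => by
      obtain ⟨w, -, rfl⟩ := hZle hz
      exact w.2
    let A : CommRingCat.{u} := Γ(Y', Z)
    letI : Algebra R A := ((Limits.pullback.snd Y.hom f).appLE P Z hZO).hom.toAlgebra
    have hA : Spec.map (CommRingCat.ofHom (algebraMap R A)) ≫ hP.fromSpec =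
        hZ.fromSpec ≫ Limits.pullback.snd Y.hom f := hP.SpecMap_appLE_fromSpec _ hZ hZO
    let k : Spec A ⟶ O := IsOpenImmersion.lift O.ι hZ.fromSpec (by
      rw [hZ.range_fromSpec, Scheme.Opens.range_ι]
      exact hZO)
    have hk : k ≫ O.ι = hZ.fromSpec := IsOpenImmersion.lift_fac _ _ _
    let p : Q s A ⟶ Y := Over.homMk (hZ.fromSpec ≫ Limits.pullback.fst Y.hom f) (by
      show (_ ≫ _) ≫ Y.hom = Spec.map _ ≫ s
      rw [hs, ← Category.assoc (Spec.map _), hA, Category.assoc, Category.assoc, Limits.pullback.condition])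
    obtain ⟨χ, hχ⟩ := psurj A (p ≫ g)
    have main := lift_act_eq a J hJ htriv pt pmul pnat χ (p ≫ x) hW (k ≫ lO) (by
        simp only [lO, Category.assoc, Limits.pullback.lift_fst]
        rw [reassoc_of% hk]
        rfl) (by
        simp only [lO, Category.assoc, Limits.pullback.lift_snd]
        rw [← cancel_mono hP.fromSpec, hA, Category.assoc, hk₀, reassoc_of% hk]) (by
        rintro _ ⟨w, rfl⟩
        have hw : hZ.fromSpec.base w ∈ (Z : Set Y') := by rw [← hZ.range_fromSpec]; exact ⟨w, rfl⟩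
        obtain ⟨v, hv, hv'⟩ := hZle hw
        have : v = k.base w := O.ι.isOpenEmbedding.injective (hv'.trans congr($(hk).base w).symm)
        subst this
        exact hv)
    rw [hχ] at main
    rw [← comp_lift, Category.assoc] at main
    refine ⟨Z, hyZ, ?_⟩
    have := congrArg CommaMorphism.left main
    simp only [Over.comp_left, p, Over.homMk_left, Category.assoc] at this
    rw [← cancel_epi hZ.isoSpec.inv, ← Category.assoc, ← Category.assoc, hZ.isoSpec_inv_ι]
    simpa [Over.comp_left] using this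
  choose O hyO hO using hloc
  have hc : TopologicalSpace.IsOpenCover O :=
    TopologicalSpace.IsOpenCover.mk (eq_top_iff.2 fun y _ => TopologicalSpace.Opens.mem_iSup.2 ⟨y, hyO y⟩)
  exact Scheme.Cover.hom_ext (Y'.openCoverOfIsOpenCover O hc) _ _ hO

end Groth.Agent.S5279
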