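import Groth.Statements.S11200
import Groth.Agent.AGF12.Minors
-- import your own Groth.Agent.* helpers here

set_option autoImplicit false
set_option backward.isDefEq.respectTransparency false
set_option backward.isDefEq.respectTransparency.types false
open Groth.Agent.CommAlg4.AffPt Groth.Agent Groth.Agent.AGF12
universe u
open CategoryTheory MonoidalCategory CartesianMonoidalCategory MonObj GrpObj AlgebraicGeometry
open scoped TensorProduct
open AGF

namespace Groth.Agent.S11200

/-- Let k be an algebraically closed field, G a linear algebraic group over k (an affine smooth group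
scheme over k) and H a closed subgroup of G (a smooth closed subgroup scheme, i : H → G). If H has
no non-trivial character (every homomorphism from H to the multiplicative group is trivial), then H
is observable in G. -/
theorem result (k : Type u) [Field k] [IsAlgClosed k]
    (G : Over (Spec (CommRingCat.of k))) [GrpObj G] [IsAffine G.left] [Smooth G.hom]
    (H : Over (Spec (CommRingCat.of k))) [GrpObj H] [Smooth H.hom] (i : H ⟶ G) [IsMonHom i]
    [IsClosedImmersion i.left]
    (hχ : ∀ (χ : H ⟶ Red.Gm (Spec (CommRingCat.of k))), IsMonHom χ → χ = 1) :
    AGF.IsObservableIn k i := by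
  haveI : IsAffine H.left := isAffine_of_isAffineHom i.left
  refine isObservableIn_of_inverse fun f c hf hf1 => ?_
  obtain ⟨χ, hm, rfl⟩ := exists_character (hf.isUnit hf1) (fun B _ _ h h' => hf.mul_apply hf1 h h')
  refine ⟨1, 1, 1, Nat.one_pos, ?_, semi_one, map_one _⟩
  rw [hχ χ hm, SGA3cLib.gmFn_one, pow_one, _root_.mul_one]

end Groth.Agent.S11200
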