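import Groth.Statements.S3042
import Groth.Agent.FlatMor12.FibreFlat

set_option autoImplicit false
universe u
open CategoryTheory MonoidalCategory CartesianMonoidalCategory MonObj GrpObj AlgebraicGeometry TensorProduct
open SGA3

namespace Groth.Agent.S3042

/-- Let f : X → Y be a morphism of schemes locally of finite type. Then f is a monomorphism if and only
if, for every point y of Y, the fibre X_y → Spec κ(y) is a monomorphism. -/
theorem result (X Y : Scheme.{u}) (f : X ⟶ Y) [LocallyOfFiniteType f] :
    Mono f ↔ ∀ y : Y, Mono (f.fiberToSpecResidueField y) := by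
  constructor
  · intro h y
    exact MorphismProperty.pullback_snd (P := MorphismProperty.monomorphisms Scheme.{u}) f (Y.fromSpecResidueField y) h
  intro h
  haveI : FormallyUnramified f := Groth.Agent.FlatMor12.formallyUnramified_of_fibres f fun y => by
    haveI := h y
    haveI := (CategoryTheory.Limits.pullback.isIso_diagonal_iff (f.fiberToSpecResidueField y)).mpr inferInstance
    infer_instance
  refine (CategoryTheory.Limits.pullback.isIso_diagonal_iff f).mp ?_
  haveI : Surjective (CategoryTheory.Limits.pullback.diagonal f) := by
    refine ⟨fun z => ?_⟩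
    let c := (Limits.pullback f f).fromSpecResidueField z
    let q := Limits.pullback.fst f f ≫ f
    have hu : (c ≫ Limits.pullback.fst f f) ≫ f =
        Spec.map (q.residueFieldMap z) ≫ Y.fromSpecResidueField (q.base z) := by
      rw [Scheme.Hom.SpecMap_residueFieldMap_fromSpecResidueField, Category.assoc]
    have hv : (c ≫ Limits.pullback.snd f f) ≫ f =
        Spec.map (q.residueFieldMap z) ≫ Y.fromSpecResidueField (q.base z) := by
      rw [Scheme.Hom.SpecMap_residueFieldMap_fromSpecResidueField, Category.assoc, ← Limits.pullback.condition]
    haveI := h (q.base z)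
    have e : Limits.pullback.lift _ _ hu = Limits.pullback.lift _ _ hv := by
      exact (cancel_mono (f.fiberToSpecResidueField (q.base z))).mp
        ((Limits.pullback.lift_snd _ _ hu).trans (Limits.pullback.lift_snd _ _ hv).symm)
    have euv : c ≫ Limits.pullback.fst f f = c ≫ Limits.pullback.snd f f :=
      (Limits.pullback.lift_fst _ _ hu).symm.trans
        ((congrArg (· ≫ Limits.pullback.fst f (Y.fromSpecResidueField (q.base z))) e).trans
          (Limits.pullback.lift_fst _ _ hv))
    have : c = (c ≫ Limits.pullback.fst f f) ≫ CategoryTheory.Limits.pullback.diagonal f := by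
      apply Limits.pullback.hom_ext <;> simp [euv]
    refine ⟨(c ≫ Limits.pullback.fst f f).base (IsLocalRing.closedPoint _), ?_⟩
    rw [← Scheme.Hom.comp_apply, ← this]
    exact Scheme.fromSpecResidueField_apply z _
  exact (isIso_iff_isOpenImmersion_and_surjective _).mpr ⟨inferInstance, inferInstance⟩

end Groth.Agent.S3042
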