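import Groth.Statements.S18294
import Mathlib.AlgebraicGeometry.Sites.Fpqc
import Groth.Agent.Misc15.OverSubcanonical
-- import your own Groth.Agent.* helpers here

set_option autoImplicit false
universe u
open CategoryTheory MonoidalCategory CartesianMonoidalCategory MonObj AlgebraicGeometry Opposite
open Magnet

namespace Groth.Agent.S18294

/-- Let A be a monoid object in schemes over S acting on S-schemes B and X (in the source A is the
diagonalizable monoid scheme A(M)_S and B = A(N)_S for a magnet N, so that the functor below is the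
attractor X^N). Then the functor on S-schemes T ↦ (morphisms B ×_S T → X over S equivariant for A
acting on the first factor) is a sheaf for the fppf topology. -/
theorem result (S : Scheme.{u}) (A B X : Over S) [MonObj A] (ρ : Magnet.MonAct A B)
    (a : Magnet.MonAct A X) :
    Presheaf.IsSheaf (QuotSh.J Scheme.fppfPrecoverage S) (Magnet.MonAct.eqvHom ρ a) := by
  classical
  have hsub : (Scheme.fppfPrecoverage.toGrothendieck).Subcanonical :=
    inferInstanceAs Scheme.fppfTopology.Subcanonical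
  have := Groth.Agent.Misc15.OverSubcanonical.subcanonical_over (Scheme.fppfPrecoverage.toGrothendieck) S
  set J := QuotSh.J Scheme.fppfPrecoverage S
  rw [isSheaf_iff_isSheaf_of_type]
  intro T R hR x hx
  have hX := GrothendieckTopology.Subcanonical.isSheaf_of_isRepresentable (J := J) (yoneda.obj X)
  let R' := R.pullback (CartesianMonoidalCategory.snd B T)
  let y : Presieve.FamilyOfElements (yoneda.obj X) R'.arrows := fun W h hh =>
    lift (h ≫ fst B T) (𝟙 W) ≫ (x (h ≫ snd B T) hh).1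
  have hy : y.SieveCompatible := by
    intro W V h g hh
    have hg : R ((g ≫ h) ≫ snd B T) := by
      rw [Category.assoc]; exact R.downward_closed hh g
    have hc : (x ((g ≫ h) ≫ snd B T) hg).1 = (B ◁ g) ≫ (x (h ≫ snd B T) hh).1 := by
      have h1 := congrArg Subtype.val (hx g (𝟙 V) hh hg (by simp))
      change (B ◁ g) ≫ (x (h ≫ snd B T) hh).1 = (B ◁ (𝟙 V)) ≫ (x ((g ≫ h) ≫ snd B T) hg).1 at h1
      rw [MonoidalCategory.whiskerLeft_id, Category.id_comp] at h1
      exact h1.symm
    show lift ((g ≫ h) ≫ fst B T) (𝟙 V) ≫ (x ((g ≫ h) ≫ snd B T) hg).1 =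
      g ≫ lift (h ≫ fst B T) (𝟙 W) ≫ (x (h ≫ snd B T) hh).1
    rw [hc, lift_whiskerLeft_assoc, comp_lift_assoc, Category.assoc, Category.id_comp, Category.comp_id]
  obtain ⟨z, hz, hz'⟩ := hX R' (J.pullback_stable _ hR) y ((Presieve.compatible_iff_sieveCompatible y).2 hy)
  let z₀ : B ⊗ T ⟶ X := z
  have hres : ∀ (W : Over S) (f : W ⟶ T) (hf : R f), (B ◁ f) ≫ z₀ = (x f hf).1 := by
    intro W f hf
    have hm : R' (B ◁ f) := by
      show R ((B ◁ f) ≫ snd B T)
      rw [whiskerLeft_snd]; exact R.downward_closed hf _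
    have hm' : R ((B ◁ f) ≫ snd B T) := hm
    have h1 : (B ◁ f) ≫ z₀ = lift ((B ◁ f) ≫ fst B T) (𝟙 _) ≫ (x ((B ◁ f) ≫ snd B T) hm').1 := hz _ hm
    have hc : (x ((B ◁ f) ≫ snd B T) hm').1 = (B ◁ snd B W) ≫ (x f hf).1 := by
      have h1 := congrArg Subtype.val (hx (𝟙 _) (snd B W) hm' hf (by simp))
      change (B ◁ (𝟙 (B ⊗ W))) ≫ (x ((B ◁ f) ≫ snd B T) hm').1 = (B ◁ snd B W) ≫ (x f hf).1 at h1
      rw [MonoidalCategory.whiskerLeft_id, Category.id_comp] at h1
      exact h1
    rw [h1, hc, lift_whiskerLeft_assoc, whiskerLeft_fst, Category.id_comp, lift_fst_snd, Category.id_comp]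
  refine ⟨⟨z₀, ?_⟩, fun W f hf => Subtype.ext (hres W f hf), fun w hw => Subtype.ext (hz' w.1 fun W h hh => ?_)⟩
  · rw [Magnet.MonAct.mem_eqvHom_iff]
    intro T' g b t
    apply (hX (R.pullback t) (J.pullback_stable t hR)).isSeparatedFor.ext
    intro W h hh
    show h ≫ lift (lift g b ≫ ρ.act) t ≫ z₀ = h ≫ lift g (lift b t ≫ z₀) ≫ a.act
    have hh' : R (h ≫ t) := hh
    have key := (Magnet.MonAct.mem_eqvHom_iff (x (h ≫ t) hh').1).1 (x (h ≫ t) hh').2 W (h ≫ g) (h ≫ b) (𝟙 W)
    have e : ∀ c : W ⟶ B, lift c (𝟙 W) ≫ (x (h ≫ t) hh').1 = lift c (h ≫ t) ≫ z₀ := by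
      intro c
      rw [← hres W (h ≫ t) hh', lift_whiskerLeft_assoc, Category.id_comp]
    rw [e, e] at key
    simp only [comp_lift_assoc]
    exact key
  · have hh' : R (h ≫ snd B T) := hh
    have e : (B ◁ (h ≫ snd B T)) ≫ w.1 = (x (h ≫ snd B T) hh').1 := congrArg Subtype.val (hw _ hh')
    show h ≫ w.1 = lift (h ≫ fst B T) (𝟙 W) ≫ (x (h ≫ snd B T) hh').1
    rw [← e, lift_whiskerLeft_assoc, Category.id_comp, lift_comp_fst_snd]

end Groth.Agent.S18294
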