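import Groth.Statements.S18290
import Groth.Agent.Misc15.FacePushout
import Groth.Agent.Misc15.AttrRep
import Groth.Agent.H8Lim.InjectiveLimit
-- import your own Groth.Agent.* helpers here

set_option autoImplicit false
universe u
open CategoryTheory MonoidalCategory CartesianMonoidalCategory MonObj AlgebraicGeometry Opposite
open Magnet
open Groth.Agent
open Groth.Agent.Misc15

namespace Groth.Agent.S18290

/-- Let X be an S-scheme locally of finite presentation and separated over S with an action of the
diagonalizable monoid scheme A(M)_S of a commutative monoid M, and let N be the union of a nonempty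
directed family of submonoids N_i of M. Then for every S-scheme T whose underlying scheme is affine,
every element of X^N(T) comes from X^{N_i}(T) for some i, so that X^N(T) is the directed union of
the X^{N_i}(T) (the maps X^{N_i}(T) → X^N(T) are injective since X is separated). (The published
statement takes T an arbitrary S-scheme and X an algebraic space; for T an infinite disjoint union
of points and X an infinite disjoint union of affine lines, the n-th with coordinate of degree the
n-th basis vector of a free commutative monoid M, the element of X^N(T) that is the n-th coordinate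
inclusion on the n-th point comes from no single X^{N_i}(T) when N_i is generated by the first i
basis vectors, so T is taken affine here, the case the limit argument proves.) -/
theorem result (S : Scheme.{u}) (M : Type) [AddCommMonoid M]
    (X : Over S) [IsSeparated X.hom] [LocallyOfFinitePresentation X.hom]
    (a : Magnet.MonAct (Magnet.AMonS S M) X) {J : Type} [Preorder J] [IsDirected J (· ≤ ·)] [Nonempty J]
    (N : J → AddSubmonoid M) (hN : Monotone N) (T : Over S) [IsAffine T.left]
    (φ : (Magnet.attr a (⨆ i, N i)).obj (op T)) :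
    ∃ (i : J) (ψ : (Magnet.attr a (N i)).obj (op T)), (Magnet.attrMap a (le_iSup N i)).app (op T) ψ = φ := by
  classical
  let R : CommRingCat.{u} := Γ(T.left, ⊤)
  let sR : Spec (CommRingCat.of R) ⟶ S := T.left.isoSpec.inv ≫ T.hom
  let rT : Over.mk sR ⟶ T := Over.homMk T.left.isoSpec.inv rfl
  have : IsIso rT := by
    have : IsIso ((Over.forget S).map rT) := inferInstanceAs (IsIso T.left.isoSpec.inv)
    exact isIso_of_reflects_iso rT (Over.forget S)
  let L : AddSubmonoid M := ⨆ i, N i
  let C := MagnetPointsS.MA R L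
  have := fun i => MagnetPointsS.isIso_univPoint (N := N i) R sR
  have := MagnetPointsS.isIso_univPoint (N := L) R sR
  let g₀ := MagnetPointsS.univPoint L R sR (𝟙 _) ≫ (Magnet.AMonS S L ◁ rT) ≫ φ.1
  let X' := Limits.pullback X.hom sR
  let f : X' ⟶ Spec (CommRingCat.of R) := Limits.pullback.snd X.hom sR
  let g : Spec (CommRingCat.of C) ⟶ X' :=
    Limits.pullback.lift g₀.left (Spec.map (CommRingCat.ofHom (algebraMap R C))) (Over.w g₀)
  let inc : ∀ i, MagnetPointsS.MA R (N i) →ₐ[R] C := fun i =>
    MonoidAlgebra.mapDomainAlgHom R R (AddMonoidHom.toMultiplicative (AddSubmonoid.inclusion (le_iSup N i)))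
  have hinc : ∀ i, Function.Injective (inc i) := fun i =>
    MonoidAlgebra.mapDomain_injective (fun p q hpq => Multiplicative.toAdd.injective
      (Subtype.ext (congrArg (fun z : Multiplicative L => (z.toAdd : M)) hpq)))
  have hsingle : ∀ i (n : Multiplicative (N i)) (r : R), inc i (MonoidAlgebra.single n r) =
      MonoidAlgebra.single (AddMonoidHom.toMultiplicative (AddSubmonoid.inclusion (le_iSup N i)) n) r :=
    fun i n r => MonoidAlgebra.mapDomain_single
  have hmono : ∀ i k, i ≤ k → (inc i).range ≤ (inc k).range := by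
    rintro i k hik _ ⟨w, rfl⟩
    refine ⟨MonoidAlgebra.mapDomainAlgHom R R (AddMonoidHom.toMultiplicative (AddSubmonoid.inclusion (hN hik))) w, ?_⟩
    have : (inc k).comp (MonoidAlgebra.mapDomainAlgHom R R
        (AddMonoidHom.toMultiplicative (AddSubmonoid.inclusion (hN hik)))) = inc i :=
      MonoidAlgebra.algHom_ext (fun n => by
        show inc k (MonoidAlgebra.mapDomainAlgHom R R (AddMonoidHom.toMultiplicative (AddSubmonoid.inclusion (hN hik)))
          (MonoidAlgebra.single n 1)) = inc i (MonoidAlgebra.single n 1)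
        rw [show MonoidAlgebra.mapDomainAlgHom R R (AddMonoidHom.toMultiplicative (AddSubmonoid.inclusion (hN hik)))
          (MonoidAlgebra.single n 1) = MonoidAlgebra.single
            (AddMonoidHom.toMultiplicative (AddSubmonoid.inclusion (hN hik)) n) (1 : R) from
            MonoidAlgebra.mapDomain_single, hsingle, hsingle]
        rfl) (Subsingleton.elim _ _)
    exact AlgHom.congr_fun this w
  obtain ⟨⟨i⟩, g', hg'₁, hg'₂⟩ := H8Lim.exists_hom_from_subalgebra (R : Type u) C
    (fun i : ULift.{u} J => (inc i.down).range)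
    (fun p q => ⟨⟨(directed_of (· ≤ ·) p.down q.down).choose⟩,
      hmono _ _ (directed_of (· ≤ ·) p.down q.down).choose_spec.1,
      hmono _ _ (directed_of (· ≤ ·) p.down q.down).choose_spec.2⟩)
    (fun w => by
      induction w using MonoidAlgebra.induction_linear with
      | zero => exact ⟨⟨Classical.arbitrary J⟩, zero_mem _⟩
      | add p q hp hq =>
        obtain ⟨⟨i⟩, hi⟩ := hp
        obtain ⟨⟨k⟩, hk⟩ := hq
        obtain ⟨l, hil, hkl⟩ := directed_of (· ≤ ·) i k
        exact ⟨⟨l⟩, add_mem (hmono _ _ hil hi) (hmono _ _ hkl hk)⟩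
      | single m r =>
        obtain ⟨i, hi⟩ := (AddSubmonoid.mem_iSup_of_directed hN.directed_le).1 m.toAdd.2
        exact ⟨⟨i⟩, MonoidAlgebra.single (Multiplicative.ofAdd ⟨(m.toAdd : M), hi⟩) r, hsingle i _ r⟩)
    X' f g (Limits.pullback.lift_snd _ _ _)
  let eA : MagnetPointsS.MA R (N i) ≃ₐ[R] (inc i).range := AlgEquiv.ofInjective (inc i) (hinc i)
  let t : Spec (CommRingCat.of (MagnetPointsS.MA R (N i))) ⟶ Spec (CommRingCat.of (inc i).range) :=
    Spec.map (CommRingCat.ofHom eA.symm.toAlgHom.toRingHom)
  have hbase : (t ≫ g' ≫ Limits.pullback.fst X.hom sR) ≫ X.hom = MagnetPointsS.univBase (N i) R sR := by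
    rw [Category.assoc, Category.assoc, Limits.pullback.condition, reassoc_of% hg'₁]
    show Spec.map _ ≫ Spec.map _ ≫ sR = Spec.map _ ≫ sR
    rw [← Spec.map_comp_assoc, ← CommRingCat.ofHom_comp]
    congr 3
    exact eA.symm.toAlgHom.comp_algebraMap
  let ψ₀ : Over.mk (MagnetPointsS.univBase (N i) R sR) ⟶ X :=
    Over.homMk (t ≫ g' ≫ Limits.pullback.fst X.hom sR) hbase
  have hψ₀ : FacePushout.specHom sR (FacePushout.inclHom R (le_iSup N i))
      (FacePushout.inclHom_algebraMap R (le_iSup N i)) ≫ ψ₀ = g₀ := by
    apply Over.OverMorphism.ext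
    show Spec.map _ ≫ Spec.map _ ≫ g' ≫ Limits.pullback.fst X.hom sR = g₀.left
    rw [← Spec.map_comp_assoc, ← CommRingCat.ofHom_comp]
    have e1 : (FacePushout.inclHom (R : Type u) (le_iSup N i)).comp eA.symm.toAlgHom.toRingHom =
        (inc i).range.val.toRingHom :=
      RingHom.ext fun w => congrArg Subtype.val (eA.apply_symm_apply w)
    rw [e1, reassoc_of% hg'₂]
    exact Limits.pullback.lift_fst _ _ _
  let φi := (Magnet.AMonS S (N i) ◁ inv rT) ≫ inv (MagnetPointsS.univPoint (N i) R sR (𝟙 _)) ≫ ψ₀
  have hφi : (Magnet.AMonS.map S (AddSubmonoid.inclusion (le_iSup N i)) ▷ T) ≫ φi = φ.1 := by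
    have h1 : MagnetPointsS.univPoint L R sR (𝟙 _) ≫
        (Magnet.AMonS.map S (AddSubmonoid.inclusion (le_iSup N i)) ▷ _) ≫
          inv (MagnetPointsS.univPoint (N i) R sR (𝟙 _)) ≫ ψ₀ = g₀ := by
      rw [← reassoc_of% (FacePushout.spec_incl_univPoint sR (le_iSup N i) (𝟙 (Over.mk sR))),
        IsIso.hom_inv_id_assoc, hψ₀]
    simp only [g₀, cancel_epi] at h1
    show _ ≫ (Magnet.AMonS S (N i) ◁ inv rT) ≫ _ = _
    rw [← whisker_exchange_assoc, h1, ← MonoidalCategory.whiskerLeft_comp_assoc, IsIso.inv_hom_id,
      MonoidalCategory.whiskerLeft_id, Category.id_comp]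
  refine ⟨i, ⟨φi, MagnetPointsS.isEquivariant_of_restrict (N i) a φi ((Magnet.attrToX a L).app (op T) φ) ?_⟩,
    Subtype.ext hφi⟩
  rw [← AttrRep.restrict_eq L a φ, ← hφi, ← comp_whiskerRight_assoc, ← Magnet.AMonS.map_comp]
  rfl

end Groth.Agent.S18290
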