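import Groth.Statements.S18295
import Groth.Agent.Misc15.AttrRep2
-- import your own Groth.Agent.* helpers here

set_option autoImplicit false
universe u
open CategoryTheory MonoidalCategory CartesianMonoidalCategory MonObj AlgebraicGeometry Opposite
open Magnet
open Groth.Agent.Misc15

namespace Groth.Agent.S18295

/-- Let X be an S-scheme affine over S with an action of the diagonalizable monoid scheme A(M)_S of a
commutative monoid M, and N a submonoid (magnet) of M. Then X^N is represented by a closed subscheme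
Z of X: there are a closed immersion i : Z → X over S and an isomorphism of the functor of points of
Z with X^N under which the canonical map X^N → X (evaluation at the unit section) is composition
with i. (Over an affine base the ideal of Z is generated by the homogeneous components of degree
outside N; that description is a separate statement.) -/
theorem result (S : Scheme.{u}) (M : Type)
    [AddCommMonoid M] (N : AddSubmonoid M) (X : Over S) [IsAffineHom X.hom]
    (a : Magnet.MonAct (Magnet.AMonS S M) X) :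
    ∃ (Z : Over S) (i : Z ⟶ X) (e : (Magnet.attr a N).RepresentableBy Z), IsClosedImmersion i.left ∧
      ∀ (T : Over S) (z : T ⟶ Z), (Magnet.attrToX a N).app (op T) (e.homEquiv z) = z ≫ i := by
  classical
  have hsep : IsSeparated X.hom := inferInstance
  have hinj := fun T => Groth.Agent.S18285.result S M X a N T
  let P : ∀ W : Scheme.{u}, (W ⟶ X.left) → Prop := fun W x =>
    AttrRep.InImage N a (Over.mk (x ≫ X.hom)) (Over.homMk x rfl)
  have hpre : ∀ (W W' : Scheme.{u}) (t : W' ⟶ W) (x : W ⟶ X.left), P W x → P W' (t ≫ x) := by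
    intro W W' t x h
    let t' : Over.mk ((t ≫ x) ≫ X.hom) ⟶ Over.mk (x ≫ X.hom) := Over.homMk t (Category.assoc _ _ _).symm
    have e : t' ≫ (Over.homMk x rfl : Over.mk (x ≫ X.hom) ⟶ X) = Over.homMk (t ≫ x) rfl := by ext1; rfl
    have := h.comp N a t'
    rw [e] at this
    exact this
  have hloc : ∀ (W : Scheme.{u}) (x : W ⟶ X.left) (𝒱 : Scheme.OpenCover.{u} W),
      (∀ i, P _ (𝒱.f i ≫ x)) → P W x := by
    intro W x 𝒱 h
    refine AttrRep.inImage_of_cover N a _ 𝒱 fun i => ?_
    let t' : Over.mk (𝒱.f i ≫ x ≫ X.hom) ⟶ Over.mk ((𝒱.f i ≫ x) ≫ X.hom) :=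
      Over.homMk (𝟙 _) (by simp)
    have e : t' ≫ (Over.homMk (𝒱.f i ≫ x) rfl : Over.mk ((𝒱.f i ≫ x) ≫ X.hom) ⟶ X) =
        (Over.homMk (𝒱.f i) rfl : Over.mk (𝒱.f i ≫ x ≫ X.hom) ⟶ Over.mk (x ≫ X.hom)) ≫ Over.homMk x rfl := by
      ext1; simp [t']
    have := (h i).comp N a t'
    rw [e] at this
    exact this
  obtain ⟨Z₀, j, hj, hjP⟩ := ClosedLocal.exists_closedImmersion X.left P hpre hloc
    (fun U : S.affineOpens => X.hom ⁻¹ᵁ U.1)
    (TopologicalSpace.IsOpenCover.comap (iSup_affineOpens_eq_top S) X.hom.base.hom)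
    (fun U => AttrRep.exists_closed_affine N a U.2)
  let Z : Over S := Over.mk (j ≫ X.hom)
  let i : Z ⟶ X := Over.homMk j rfl
  have hZ : ∀ {T : Over S} (z : T ⟶ Z), ∃ φ : (attr a N).obj (op T), (attrToX a N).app (op T) φ = z ≫ i := by
    intro T z
    have h := (hjP _ (z.left ≫ j)).2 ⟨z.left, rfl⟩
    let t' : T ⟶ Over.mk ((z.left ≫ j) ≫ X.hom) := Over.homMk (𝟙 _) (by
      simp only [Over.mk_hom, Category.id_comp, Category.assoc]
      exact Over.w z)
    have e : t' ≫ (Over.homMk (z.left ≫ j) rfl : Over.mk ((z.left ≫ j) ≫ X.hom) ⟶ X) = z ≫ i := by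
      ext1; simp [i, t']
    have := AttrRep.InImage.comp N a t' h
    rw [e] at this
    exact this
  choose F hF using @hZ
  have hsurj : ∀ {T : Over S} (φ : (attr a N).obj (op T)), ∃ z : T ⟶ Z, F z = φ := by
    intro T φ
    let y : T ⟶ X := (attrToX a N).app (op T) φ
    let t' : Over.mk (y.left ≫ X.hom) ⟶ T := Over.homMk (𝟙 _) (by simp)
    have e : t' ≫ y = (Over.homMk y.left rfl : Over.mk (y.left ≫ X.hom) ⟶ X) := by ext1; simp [t']
    have h' := AttrRep.InImage.comp N a t' (x := y) ⟨φ, rfl⟩
    rw [e] at h'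
    obtain ⟨z, hz⟩ := (hjP _ y.left).1 h'
    refine ⟨Over.homMk z (by show z ≫ j ≫ X.hom = _; rw [reassoc_of% hz]; exact Over.w y), hinj T ?_⟩
    show (attrToX a N).app (op T) _ = y
    rw [hF]
    apply Over.OverMorphism.ext
    exact hz
  have hiinj : ∀ {T : Over S} (z z' : T ⟶ Z), z ≫ i = z' ≫ i → z = z' := fun z z' h => by
    ext1
    exact (cancel_mono j).1 (congrArg Over.Hom.left h)
  let e : (attr a N).RepresentableBy Z :=
    { homEquiv := fun {T} => Equiv.ofBijective (fun z => F z)
        ⟨fun z z' h => hiinj z z' (by rw [← hF z, ← hF z']; exact congrArg _ h), hsurj⟩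
      homEquiv_comp := fun {T T'} t z => hinj T (by
        show (attrToX a N).app (op T) (F (t ≫ z)) = (attrToX a N).app (op T) ((attr a N).map t.op (F z))
        rw [AttrRep.evalAt_map, hF, hF, Category.assoc]) }
  exact ⟨Z, i, e, hj, fun T z => hF z⟩

end Groth.Agent.S18295
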