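import Groth.Statements.S18299
import Groth.Agent.Misc15.ClosedDescent
import Mathlib.CategoryTheory.Limits.Types.Pullbacks
import Mathlib.AlgebraicGeometry.Morphisms.Etale
-- import your own Groth.Agent.* helpers here

set_option autoImplicit false
universe u
open CategoryTheory MonoidalCategory CartesianMonoidalCategory MonObj AlgebraicGeometry Opposite
open Magnet
open Groth.Agent.Misc15

namespace Groth.Agent.S18299

/-- Let Q be a commutative group, X and U S-schemes with actions of the diagonalizable group scheme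
D(Q)_S, and f : U → X an equivariant morphism over S which is étale and surjective and fixed-point
reflecting: the square formed by the fixed-point functors U^{D(Q)} → X^{D(Q)} over U → X is
cartesian (an FPR atlas). If the fixed-point functor of U is represented by a closed subscheme of U
— which holds when U is a disjoint union of D(Q)_S-stable S-affine schemes, by the affine
representability of attractors — then the fixed-point functor of X is represented by a closed
subscheme of X, compatibly with its inclusion into X. (In the source Q = M/Z for a subgroup Z of a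
commutative group M acting through D(M)_S, the fixed points of D(M/Z)_S being the attractor X^Z, and
X may be an algebraic space; here X is a scheme.) -/
theorem result (S : Scheme.{u}) (Q : Type)
    [AddCommGroup Q] (X U : Over S) (aX : AlgGrp.Action (Red.DS S Q) X) (aU : AlgGrp.Action (Red.DS S Q) U)
    (f : U ⟶ X) [Etale f.left] [Surjective f.left]
    (hf : Magnet.MonAct.IsEquivariant (Magnet.MonAct.ofAction aU) (Magnet.MonAct.ofAction aX) f)
    (hfpr : IsPullback (Magnet.MonAct.fixedPsh.map f hf) (Magnet.MonAct.fixedPshι (Magnet.MonAct.ofAction aU))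
      (Magnet.MonAct.fixedPshι (Magnet.MonAct.ofAction aX)) (yoneda.map f))
    (hU : ∃ (W' : Over S) (i' : W' ⟶ U) (e' : (Magnet.MonAct.fixedPsh (Magnet.MonAct.ofAction aU)).RepresentableBy W'),
      IsClosedImmersion i'.left ∧ ∀ (T : Over S) (w : T ⟶ W'),
        (Magnet.MonAct.fixedPshι (Magnet.MonAct.ofAction aU)).app (op T) (e'.homEquiv w) = w ≫ i') :
    ∃ (W : Over S) (i : W ⟶ X) (e : (Magnet.MonAct.fixedPsh (Magnet.MonAct.ofAction aX)).RepresentableBy W),
      IsClosedImmersion i.left ∧ ∀ (T : Over S) (w : T ⟶ W),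
        (Magnet.MonAct.fixedPshι (Magnet.MonAct.ofAction aX)).app (op T) (e.homEquiv w) = w ≫ i := by
  classical
  obtain ⟨W', i', e', hi', he'⟩ := hU
  let aX' := Magnet.MonAct.ofAction aX
  let aU' := Magnet.MonAct.ofAction aU
  let P : ∀ T : Scheme.{u}, (T ⟶ X.left) → Prop := fun T x => ∀ (V : Over S) (y : V ⟶ X),
    (∃ t : V.left ⟶ T, t ≫ x = y.left) → ∀ g : V ⟶ Red.DS S Q, lift g y ≫ aX'.act = y
  have hPfix : ∀ {T : Over S} (x : T ⟶ X), P T.left x.left ↔
      ∀ (T' : Over S) (t : T' ⟶ T) (g : T' ⟶ Red.DS S Q), lift g (t ≫ x) ≫ aX'.act = t ≫ x := by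
    intro T x
    refine ⟨fun h T' t g => h T' (t ≫ x) ⟨t.left, rfl⟩ g, fun h V y ⟨t, ht⟩ g => ?_⟩
    let t' : V ⟶ T := Over.homMk t (by rw [← Over.w y, ← ht, Category.assoc, Over.w x])
    have e : t' ≫ x = y := Over.OverMorphism.ext ht
    rw [← e]
    exact h V t' g
  have hpre : ∀ (T T' : Scheme.{u}) (t : T' ⟶ T) (x : T ⟶ X.left), P T x → P T' (t ≫ x) :=
    fun T T' t x h V y ⟨s, hs⟩ g => h V y ⟨s ≫ t, by rw [Category.assoc]; exact hs⟩ g
  have hloc : ∀ (T : Scheme.{u}) (x : T ⟶ X.left) (𝒱 : Scheme.OpenCover.{u} T),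
      (∀ k, P _ (𝒱.f k ≫ x)) → P T x := by
    intro T x 𝒱 h V y ⟨t, ht⟩ g
    apply Over.OverMorphism.ext
    refine Scheme.Cover.hom_ext (𝒱.pullback₁ t) _ _ fun k => ?_
    let b : Over.mk (Limits.pullback.fst t (𝒱.f k) ≫ V.hom) ⟶ V := Over.homMk (Limits.pullback.fst t (𝒱.f k)) rfl
    have hk := h k _ (b ≫ y) ⟨Limits.pullback.snd t (𝒱.f k), by
      rw [← Category.assoc, ← Limits.pullback.condition, Category.assoc, ht]
      rfl⟩ (b ≫ g)
    rw [← comp_lift_assoc] at hk
    exact congrArg Over.Hom.left hk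
  have hff : ∀ (T T' : Scheme.{u}) (p : T' ⟶ T) [Flat p] [Surjective p] [QuasiCompact p] (x : T ⟶ X.left),
      P T' (p ≫ x) → P T x := by
    intro T T' p _ _ _ x h V y ⟨t, ht⟩ g
    apply Over.OverMorphism.ext
    have : Flat (Limits.pullback.fst t p) := inferInstance
    have : Surjective (Limits.pullback.fst t p) := inferInstance
    have := Flat.epi_of_flat_of_surjective (Limits.pullback.fst t p)
    rw [← cancel_epi (Limits.pullback.fst t p)]
    let b : Over.mk (Limits.pullback.fst t p ≫ V.hom) ⟶ V := Over.homMk (Limits.pullback.fst t p) rfl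
    have hk := h _ (b ≫ y) ⟨Limits.pullback.snd t p, by
      rw [← Category.assoc, ← Limits.pullback.condition, Category.assoc, ht]
      rfl⟩ (b ≫ g)
    rw [← comp_lift_assoc] at hk
    exact congrArg Over.Hom.left hk
  have hZ₁ : ∀ (T : Scheme.{u}) (y : T ⟶ U.left), P T (y ≫ f.left) ↔ ∃ z, z ≫ i'.left = y := by
    intro T y
    let T₀ : Over S := Over.mk (y ≫ U.hom)
    let y₀ : T₀ ⟶ U := Over.homMk y rfl
    refine (hPfix (y₀ ≫ f)).trans ⟨fun h => ?_, ?_⟩
    · obtain ⟨u, -, hu⟩ := CategoryTheory.Limits.Types.exists_of_isPullback (hfpr.app (op T₀)) ⟨y₀ ≫ f, h⟩ y₀ rfl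
      obtain ⟨z, hz⟩ := e'.homEquiv.surjective u
      have hzy : z ≫ i' = y₀ := by rw [← he', hz]; exact hu
      exact ⟨z.left, congrArg Over.Hom.left hzy⟩
    · rintro ⟨z, hz⟩
      let z₀ : T₀ ⟶ W' := Over.homMk z (by
        show z ≫ W'.hom = y ≫ U.hom
        rw [← hz, Category.assoc, Over.w i'])
      have e : (Magnet.MonAct.fixedPshι aU').app (op T₀) (e'.homEquiv z₀) = y₀ :=
        (he' _ z₀).trans (Over.OverMorphism.ext hz)
      have h2 := ((Magnet.MonAct.fixedPsh.map f hf).app (op T₀) (e'.homEquiv z₀)).2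
      intro T' t g
      have h3 := h2 T' t g
      rw [Magnet.MonAct.fixedPsh.map_app_coe, show (e'.homEquiv z₀).1 = y₀ from e] at h3
      exact h3
  obtain ⟨Z₀, j, hj, hjP⟩ := ClosedDescent.exists_closedImmersion f.left P hpre hloc hff i'.left hZ₁
  let Z : Over S := Over.mk (j ≫ X.hom)
  let i : Z ⟶ X := Over.homMk j rfl
  let F : ∀ {T : Over S}, (T ⟶ Z) → (Magnet.MonAct.fixedPsh aX').obj (op T) := fun {T} z =>
    ⟨z ≫ i, (hPfix (z ≫ i)).1 ((hjP _ _).2 ⟨z.left, rfl⟩)⟩
  let e : (Magnet.MonAct.fixedPsh aX').RepresentableBy Z :=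
    { homEquiv := fun {T} => Equiv.ofBijective (fun z => F z) ⟨fun z z' h => by
          apply Over.OverMorphism.ext
          exact (cancel_mono j).1 (congrArg Over.Hom.left (congrArg Subtype.val h)), fun φ => by
          obtain ⟨z, hz⟩ := (hjP _ _).1 ((hPfix φ.1).2 φ.2)
          exact ⟨Over.homMk z (by
            show z ≫ j ≫ X.hom = _
            rw [← Category.assoc, hz]
            exact Over.w φ.1), Subtype.ext (Over.OverMorphism.ext hz)⟩⟩
      homEquiv_comp := fun {T T'} t z => Subtype.ext (Category.assoc _ _ _) }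
  exact ⟨Z, i, e, hj, fun T z => rfl⟩

end Groth.Agent.S18299
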