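import Groth.Statements.S18289
import Groth.Agent.Misc15.AttrDescent
-- import your own Groth.Agent.* helpers here

set_option autoImplicit false
universe u
open CategoryTheory MonoidalCategory CartesianMonoidalCategory MonObj AlgebraicGeometry Opposite
open Magnet
open Groth.Agent.Misc15

namespace Groth.Agent.S18289

/-- Let M be a finitely generated commutative group, Z a subgroup of M and X an S-scheme with an action
of the diagonalizable group scheme D(M)_S. Then the attractor X^Z, for Z regarded as a magnet of M,
is identified with the fixed-point functor of X under the subgroup D(M/Z)_S (acting through D(M/Z)_S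
→ D(M)_S): there is an isomorphism of functors on S-schemes from X^Z to the fixed points whose
composite with the inclusion of the fixed points into X is the canonical map X^Z → X. (The published
statement allows X to be an algebraic space; here X is a scheme.) -/
theorem result (S : Scheme.{u}) (M : Type) [AddCommGroup M] [AddGroup.FG M]
    (Z : AddSubgroup M) (X : Over S) (a : AlgGrp.Action (Red.DS S M) X) :
    ∃ e : Magnet.attr (Magnet.MonAct.ofAction a) Z.toAddSubmonoid ≅
        Magnet.MonAct.fixedPsh ((Magnet.MonAct.ofAction a).restrict (Magnet.AMonS.map S (QuotientAddGroup.mk' Z))),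
      e.hom ≫ Magnet.MonAct.fixedPshι _ = Magnet.attrToX (Magnet.MonAct.ofAction a) Z.toAddSubmonoid := by
  classical
  let a' := Magnet.MonAct.ofAction a
  let N := Z.toAddSubmonoid
  let q : M →+ M ⧸ Z := QuotientAddGroup.mk' Z
  have hc : (MonoidAlgebra.mapDomainRingHom MagnetPoints.Z.{u}
      (AddMonoidHom.toMultiplicative N.subtype)).FaithfullyFlat := by
    refine FreeMonoidAlgebra.faithfullyFlat _ (fun d : M ⧸ Z => Multiplicative.ofAdd d.out) ⟨?_, ?_⟩
    · rintro ⟨d, p⟩ ⟨d', p'⟩ h
      have h' : d.out + (p.toAdd : M) = d'.out + (p'.toAdd : M) := congrArg Multiplicative.toAdd h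
      have hd : d = d' := by
        have h1 := congrArg q h'
        rw [map_add, map_add, show q (p.toAdd : M) = 0 from (QuotientAddGroup.eq_zero_iff _).2 p.toAdd.2,
          show q (p'.toAdd : M) = 0 from (QuotientAddGroup.eq_zero_iff _).2 p'.toAdd.2, _root_.add_zero,
          _root_.add_zero] at h1
        simpa [q] using h1
      subst hd
      have : p = p' := Multiplicative.toAdd.injective (Subtype.ext (add_left_cancel h'))
      rw [this]
    · intro m
      refine ⟨(q m.toAdd, Multiplicative.ofAdd ⟨-(q m.toAdd).out + m.toAdd, ?_⟩), ?_⟩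
      · show -(q m.toAdd).out + m.toAdd ∈ Z
        rw [← QuotientAddGroup.eq]
        exact QuotientAddGroup.out_eq' _
      · apply Multiplicative.toAdd.injective
        exact add_neg_cancel_left _ _
  have hzero : ∀ (T : Over S) (g : T ⟶ Magnet.AMonS S (M ⧸ Z)),
      (g ≫ Magnet.AMonS.map S q) ≫ Magnet.AMonS.map S N.subtype = 1 := by
    intro T g
    refine AMonCover.hom_ext_affine _ _ fun K _ sK r => ?_
    obtain ⟨χ, hχ⟩ := MagnetPointsS.P_surjective sK (r ≫ g)
    rw [MonObj.comp_one, ← Category.assoc, ← Category.assoc, ← hχ, MagnetPointsS.P_comp_map,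
      MagnetPointsS.P_comp_map, Hom.one_def, ← MagnetPointsS.P_one]
    congr 1
    refine MonoidHom.ext fun n => ?_
    show χ (Multiplicative.ofAdd (q (n.toAdd : M))) = 1
    rw [show q (n.toAdd : M) = 0 from (QuotientAddGroup.eq_zero_iff _).2 n.toAdd.2, ofAdd_zero, map_one]
  have hfix : ∀ (T : Over S) (φ : (Magnet.attr a' N).obj (op T)) (T' : Over S) (t : T' ⟶ T)
      (g : T' ⟶ Magnet.AMonS S (M ⧸ Z)),
      lift g (t ≫ (Magnet.attrToX a' N).app (op T) φ) ≫ (a'.restrict (Magnet.AMonS.map S q)).act =
        t ≫ (Magnet.attrToX a' N).app (op T) φ := by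
    intro T φ T' t g
    rw [Magnet.MonAct.lift_restrict_act, ← lift_whiskerLeft_assoc, ← AttrRep.restrict_eq N a' φ,
      lift_whiskerRight_assoc, hzero T' g, Magnet.MonAct.eqvHom.evalAt_app, comp_lift_assoc, Category.comp_id,
      ← Category.assoc t (toUnit _), toUnit_unique (t ≫ toUnit _) (toUnit T'), Hom.one_def]
  let F : ∀ T : (Over S)ᵒᵖ, (Magnet.attr a' N).obj T →
      (Magnet.MonAct.fixedPsh (a'.restrict (Magnet.AMonS.map S q))).obj T :=
    fun T φ => ⟨(Magnet.attrToX a' N).app T φ, hfix (unop T) φ⟩
  have hF : ∀ T, Function.Bijective (F T) := by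
    intro T
    refine ⟨fun φ φ' h => AttrDescent.eval_injective N a' hc φ φ' (congrArg Subtype.val h), fun x => ?_⟩
    obtain ⟨φ, hφ⟩ := AttrDescent.exists_of_orbit N a' hc (T := unop T) x.1 (by
      intro K _ sK χ χ' t h
      let g : M →+ Additive K :=
        { toFun := fun m => Additive.ofMul (χ (Multiplicative.ofAdd (-m)) * χ' (Multiplicative.ofAdd m))
          map_zero' := by
            simp only [_root_.neg_zero, ofAdd_zero, map_one, _root_.mul_one]
            rfl
          map_add' := fun m m' => by
            simp only [_root_.neg_add, ofAdd_add, map_mul]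
            rw [_root_.mul_mul_mul_comm]
            rfl }
      have hg : Z ≤ g.ker := by
        intro z hz
        apply Additive.toMul.injective
        show χ (Multiplicative.ofAdd (-z)) * χ' (Multiplicative.ofAdd z) = 1
        have h1 := DFunLike.congr_fun h (Multiplicative.ofAdd (⟨z, hz⟩ : N))
        change χ (Multiplicative.ofAdd z) = χ' (Multiplicative.ofAdd z) at h1
        rw [← h1, ← map_mul, ← ofAdd_add, neg_add_cancel, ofAdd_zero, map_one]
      let ρ : Multiplicative (M ⧸ Z) →* K := AddMonoidHom.toMultiplicativeLeft (QuotientAddGroup.lift Z g hg)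
      have e : χ * ρ.comp (AddMonoidHom.toMultiplicative q) = χ' := by
        refine MonoidHom.ext fun m => ?_
        show χ m * (χ (Multiplicative.ofAdd (-m.toAdd)) * χ' (Multiplicative.ofAdd m.toAdd)) = χ' m
        rw [← _root_.mul_assoc, ← map_mul]
        simp
      have hx := x.2 _ t (MagnetPointsS.P sK ρ)
      rw [Magnet.MonAct.lift_restrict_act, MagnetPointsS.P_comp_map] at hx
      rw [← e, ← MagnetPointsS.P_mul, Magnet.MonAct.lift_mul_act, hx])
    exact ⟨φ, Subtype.ext hφ⟩
  refine ⟨NatIso.ofComponents (fun T => (Equiv.ofBijective (F T) (hF T)).toIso) (fun t => ?_), ?_⟩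
  · refine ConcreteCategory.hom_ext _ _ fun φ => Subtype.ext ?_
    exact ConcreteCategory.congr_hom ((Magnet.attrToX a' N).naturality t) φ
  · refine NatTrans.ext (funext fun T => ConcreteCategory.hom_ext _ _ fun φ => rfl)

end Groth.Agent.S18289
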