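import Groth.Statements.S9004
import Groth.Agent.FlatMor12.FreeTruncated

set_option autoImplicit false
universe u
open FlatMor

namespace Groth.Agent.S9004

open CategoryTheory CategoryTheory.Limits AlgebraicGeometry Opposite TopologicalSpace in
open Groth.Agent.Coherent Groth.Agent.PicLib in
set_option backward.isDefEq.respectTransparency.types false in
/-- A trivialisation along an open immersion is a basis on its image. -/
theorem exists_isBasisOn_opensRange {X Y : Scheme.{u}} (j : Y ⟶ X) [IsOpenImmersion j] {E : X.Modules} {n : ℕ}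
    (e : E.restrict j ≅ FlatMod.freeMod Y n) :
    ∃ b : ULift.{u} (Fin n) → Γ(E, j ''ᵁ ⊤), IsBasisOn E (j ''ᵁ ⊤) b := by
  classical
  let ψ := e ≪≫ (Props12.freeModIso Y n).symm
  let v : ∀ W : Y.Opens, ULift.{u} (Fin n) → Γ(E, j ''ᵁ W) := fun W i =>
    (E.restrictAppIso j W).hom (unitVal (freeInj i ≫ ψ.inv) W)
  refine ⟨v ⊤, fun V hV => ?_⟩
  obtain ⟨W, rfl⟩ : ∃ W : Y.Opens, j ''ᵁ W = V := by
    refine ⟨j ⁻¹ᵁ V, ?_⟩
    rw [j.image_preimage_eq_opensRange_inf, inf_eq_right]
    exact hV.trans (Scheme.Hom.image_top_eq_opensRange j).le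
  have hres : ∀ i, resM E hV (v ⊤ i) = v W i := fun i => by
    show resM E hV ((E.restrictAppIso j ⊤).hom (unitVal _ ⊤)) = (E.restrictAppIso j W).hom (unitVal _ W)
    rw [← resM_unitVal (freeInj i ≫ ψ.inv) (le_top : W ≤ ⊤)]
    rfl
  have h1 := ConcreteCategory.bijective_of_isIso (j.appIso W).hom
  have h2 := (freeSectionsEquiv (X := Y) (I := ULift.{u} (Fin n)) W).symm.bijective
  have h3 := ConcreteCategory.bijective_of_isIso (C := AddCommGrpCat) (ψ.inv.app W)
  have h4 := ConcreteCategory.bijective_of_isIso (E.restrictAppIso j W).hom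
  have h1' : Function.Bijective (fun c : ULift.{u} (Fin n) → Γ(X, j ''ᵁ W) => fun i => (j.appIso W).hom (c i)) :=
    Function.Bijective.piMap fun _ => h1
  convert h4.comp (h3.comp (h2.comp h1')) using 1
  funext c
  simp only [Function.comp_apply, hres]
  rw [freeMod_app, map_sum]
  refine Finset.sum_congr rfl fun i _ => ?_
  refine Eq.trans ?_ (Scheme.Modules.smul_restrictAppIso_hom_apply j E W _ _).symm
  congr 1
  show c i = (j.appIso W).inv (freeSectionsEquiv W ((freeSectionsEquiv W).symm _) i)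
  rw [LinearEquiv.apply_symm_apply, ← ConcreteCategory.comp_apply, Iso.hom_inv_id]
  rfl

open CategoryTheory CategoryTheory.Limits AlgebraicGeometry in
/-- For a proper morphism X → Spec R with geometrically connected fibres over a discrete valuation ring
R with uniformizer ϖ, there is an n such that a finite locally free module on X is free as soon as
its restrictions to the generic fibre and to the closed subscheme cut out by ϖ^n are free.
(Geometrically connected is Mathlib's notion, which asks the geometric fibres to be nonempty and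
connected.) -/
theorem result {R : Type u} [CommRing R] [IsDomain R] [IsDiscreteValuationRing R] (ϖ : R) (hϖ : Irreducible ϖ) {X : Scheme.{u}} (f : X ⟶ Spec (CommRingCat.of R)) [IsProper f] [GeometricallyConnected f] : ∃ n : ℕ, ∀ (E : X.Modules), FlatMod.IsFinLocFree E → (∃ r : ℕ, Nonempty ((Scheme.Modules.pullback (pullback.fst f (Spec.map (CommRingCat.ofHom (algebraMap R (FractionRing R)))))).obj E ≅ FlatMod.freeMod _ r)) → (∃ r : ℕ, Nonempty ((Scheme.Modules.pullback (pullback.fst f (Spec.map (CommRingCat.ofHom (Ideal.Quotient.mk (Ideal.span {ϖ ^ n})))))).obj E ≅ FlatMod.freeMod _ r)) → ∃ r : ℕ, Nonempty (E ≅ FlatMod.freeMod X r) := by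
  classical
  letI : X.Over (Spec (CommRingCat.of R)) := ⟨f⟩
  haveI : IsProper (X ↘ Spec (CommRingCat.of R)) := ‹IsProper f›
  have : IsLocallyNoetherian X := LocallyOfFiniteType.isLocallyNoetherian f
  have : CompactSpace X := QuasiCompact.compactSpace_of_compactSpace f
  obtain ⟨t, ht⟩ := Groth.Agent.FlatMor12.FreeTruncated.exists_tb (X := X) ϖ
  obtain ⟨c, hc⟩ := Groth.Agent.FlatMor12.FreeTruncated.exists_lift (X := X) ϖ
  refine ⟨2 * t + 1 + c, fun E hE h₁ h₂ => ?_⟩
  obtain ⟨r, ⟨eη⟩⟩ := h₁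
  obtain ⟨r', ⟨eσ⟩⟩ := h₂
  -- the generic fibre
  have hne : ∀ a : R, a ≠ 0 → algebraMap R (FractionRing R) a ≠ 0 := fun a =>
    (map_ne_zero_iff _ (IsFractionRing.injective R (FractionRing R))).2
  have hloc : IsLocalization.Away ϖ (FractionRing R) := by
    refine ⟨fun ⟨y, n, hn⟩ => ?_, fun x => ?_, fun {x y} h => ?_⟩
    · subst hn
      rw [map_pow]
      exact (IsUnit.mk0 _ (hne _ hϖ.ne_zero)).pow n
    · obtain ⟨a, b, hb, rfl⟩ := IsFractionRing.div_surjective (A := R) x
      obtain ⟨k, v, rfl⟩ := IsDiscreteValuationRing.eq_unit_mul_pow_irreducible (nonZeroDivisors.ne_zero hb) hϖ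
      refine ⟨⟨a * ↑v⁻¹, ⟨ϖ ^ k, k, rfl⟩⟩, ?_⟩
      rw [div_mul_eq_mul_div, div_eq_iff (hne _ (nonZeroDivisors.ne_zero hb)), ← map_mul, ← map_mul]
      congr 1
      calc a * ϖ ^ k = a * ((↑v⁻¹ : R) * ↑v) * ϖ ^ k := by rw [Units.inv_mul, mul_one]
        _ = _ := by ring
    · exact ⟨1, by rw [IsFractionRing.injective R (FractionRing R) h]⟩
  let ιK := Spec.map (CommRingCat.ofHom (algebraMap R (FractionRing R)))
  have : IsOpenImmersion ιK := IsOpenImmersion.of_isLocalization ϖ
  let j := pullback.fst f ιK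
  let D := X.basicOpen (Groth.Agent.Coherent.baseHom R X ϖ)
  have hjD : j ''ᵁ ⊤ = D := by
    refine TopologicalSpace.Opens.ext ?_
    rw [Scheme.Hom.image_top_eq_opensRange, Scheme.Hom.coe_opensRange]
    show Set.range j = (D : Set X)
    rw [Scheme.Pullback.range_fst]
    ext x
    refine Iff.trans ?_ (Groth.Agent.FlatMor12.FreeCharts.mem_basicOpen_iff ϖ x).symm
    show f x ∈ Set.range (PrimeSpectrum.comap (algebraMap R (FractionRing R))) ↔ _
    rw [PrimeSpectrum.localization_away_comap_range (FractionRing R) ϖ]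
    rfl
  obtain ⟨b₀, hb₀⟩ := exists_isBasisOn_opensRange j
    ((Scheme.Modules.restrictFunctorIsoPullback j).app E ≪≫ eη)
  obtain ⟨b, hb⟩ : ∃ b : ULift.{u} (Fin r) → Γ(E, D), Groth.Agent.PicLib.IsBasisOn E D b := by
    rw [← hjD]; exact ⟨b₀, hb₀⟩
  -- the thickened special fibre
  let ιn := Spec.map (CommRingCat.ofHom (Ideal.Quotient.mk (Ideal.span {ϖ ^ (2 * t + 1 + c)})))
  have : IsClosedImmersion ιn := IsClosedImmersion.spec_of_surjective _ Ideal.Quotient.mk_surjective
  let σ := pullback.fst f ιn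
  have hσ := IsPullback.of_hasPullback f ιn
  have : IsClosedImmersion σ := MorphismProperty.of_isPullback hσ.flip (inferInstanceAs (IsClosedImmersion ιn))
  have hD : ∀ x : X, x ∉ D → ϖ ∈ (f x).asIdeal := fun x hx => by
    by_contra h
    exact hx ((Groth.Agent.FlatMor12.FreeCharts.mem_basicOpen_iff ϖ x).2 h)
  have hspecial : ∀ x : X, x ∉ D → ∃ z, σ z = x := fun x hx => by
    show x ∈ Set.range σ
    rw [Scheme.Pullback.range_fst]
    refine (_root_.range_comap_of_surjective _ _ Ideal.Quotient.mk_surjective).ge ?_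
    rw [Ideal.mk_ker]
    exact (PrimeSpectrum.zeroLocus_span _).ge (Set.singleton_subset_iff.2
      (Ideal.pow_mem_of_mem _ (hD x hx) _ (by omega)))
  obtain ⟨τ, hτ⟩ := Groth.Agent.FlatMor12.FreeCharts.exists_isBasisOn_top eσ
  have hchart : ∀ x : X, x ∉ D → ∃ (W : X.Opens) (θ : ULift.{u} (Fin r') → Γ(E, W)), x ∈ W ∧
      Groth.Agent.PicLib.IsBasisOn E W θ ∧
      ∀ i, Groth.Agent.PicLib.pullSec σ (θ i) = Groth.Agent.Coherent.resM _ le_top (τ i) := fun x hx => by
    obtain ⟨z, rfl⟩ := hspecial x hx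
    obtain ⟨W, θ, hz, -, hθ, hp⟩ := Groth.Agent.FlatMor12.FreeCharts.exists_chart σ hE hτ (W₀ := ⊤)
      (fun U hU _ => σ.app_surjective U hU) (z' := z) trivial
    exact ⟨W, θ, hz, hθ, hp⟩
  have hrr : r = r' := by
    obtain ⟨x, hx⟩ := f.surjective ⟨⊥, Ideal.isPrime_bot⟩
    have hxD : x ∈ D := (Groth.Agent.FlatMor12.FreeCharts.mem_basicOpen_iff ϖ x).2 (by
      show ϖ ∉ (f x).asIdeal
      rw [hx]
      exact fun h => hϖ.ne_zero ((Submodule.mem_bot R).1 h))
    obtain ⟨q, hxq, hq⟩ := f.isClosedMap.specializingMap (IsLocalRing.specializes_closedPoint (f x))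
    have hqD : q ∉ D := fun h => (Groth.Agent.FlatMor12.FreeCharts.mem_basicOpen_iff ϖ q).1 h (by
      show ϖ ∈ (f q).asIdeal
      rw [hq]
      show ϖ ∈ IsLocalRing.maximalIdeal R
      rw [hϖ.maximalIdeal_eq]
      exact Ideal.mem_span_singleton_self ϖ)
    obtain ⟨W, θ, hqW, hθ, -⟩ := hchart q hqD
    have := Groth.Agent.FlatMor12.FreeCharts.card_eq_of_isBasisOn hb hθ (inf_le_left : D ⊓ W ≤ D)
      inf_le_right (p := x) ⟨hxD, hxq.mem_open W.2 hqW⟩
    simpa using this
  subst hrr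
  have hall : ∀ x : X, ∃ (W : X.Opens) (θ : ULift.{u} (Fin r) → Γ(E, W)), x ∈ W ∧
      Groth.Agent.PicLib.IsBasisOn E W θ ∧ (W ≤ D ∨
      ∀ i, Groth.Agent.PicLib.pullSec σ (θ i) = Groth.Agent.Coherent.resM _ le_top (τ i)) := fun x => by
    by_cases hx : x ∈ D
    · exact ⟨D, b, hx, hb, Or.inl le_rfl⟩
    · obtain ⟨W, θ, h1, h2, h3⟩ := hchart x hx
      exact ⟨W, θ, h1, h2, Or.inr h3⟩
  choose W θ hW hθ hor using hall
  have hunit : ∀ V : X.Opens, V ≤ D → IsUnit (Groth.Agent.FlatMor12.DivSections.ρ (X := X) V ϖ) := fun V hV => by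
    rw [← Groth.Agent.FlatMor12.DivSections.ρ_res hV]
    exact (show IsUnit (Groth.Agent.FlatMor12.DivSections.ρ D ϖ) from
      RingedSpace.isUnit_res_basicOpen X.toRingedSpace _).map (X.presheaf.map (homOfLE hV).op).hom
  have hcong : ∀ x x' i, Groth.Agent.FlatMor12.DivSections.Div ϖ E (2 * t + 1 + c)
      (Groth.Agent.Coherent.resM E (inf_le_left : W x ⊓ W x' ≤ W x) (θ x i) -
        Groth.Agent.Coherent.resM E inf_le_right (θ x' i)) := by
    intro x x' i
    rcases hor x with h | h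
    · exact Groth.Agent.FlatMor12.DivSections.div_zero_of_isUnit (hunit _ (inf_le_left.trans h))
    rcases hor x' with h' | h'
    · exact Groth.Agent.FlatMor12.DivSections.div_zero_of_isUnit (hunit _ (inf_le_right.trans h'))
    refine Groth.Agent.FlatMor12.FreeCharts.div_sub_of_pullSec_eq ϖ _ σ hσ hE ?_
    rw [← Groth.Agent.PicLib.resM_pullSec, ← Groth.Agent.PicLib.resM_pullSec, h i, h' i,
      Groth.Agent.Coherent.resM_resM, Groth.Agent.Coherent.resM_resM]
  obtain ⟨s, hs⟩ := Groth.Agent.FlatMor12.FreeTruncated.exists_global_basis hϖ ht hc hE W hW θ hθ hcong b hb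
  exact ⟨r, Groth.Agent.FlatMor12.FreeCharts.nonempty_iso_freeMod s
    (Groth.Agent.FlatMor12.FreeTruncated.exists_isBasisOn_near hϖ hθ hs)⟩

end Groth.Agent.S9004
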