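import Groth.Statements.S18744
import Groth.Agent.ModPairLib.EffCartier
import Groth.Agent.H8Lim.ClosedIntoStage

set_option autoImplicit false
universe u
open CategoryTheory CategoryTheory.Limits AlgebraicGeometry TopologicalSpace
open ModPair

namespace Groth.Agent.S18744

theorem eq_zero_of_mul_eq_zero {X : Scheme.{u}} {I : X.IdealSheafData}
    (hI : BlowUp.IsEffCartierIdeal I) {U : X.affineOpens} {g : Γ(X, U.1)}
    (hg : I.ideal U = Ideal.span {g}) {z : Γ(X, U.1)} (hz : z * g = 0) : z = 0 := by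
  refine Groth.Agent.ModPairLib.isDenseOpen_interior hI U.1 z ?_
  have hu : IsUnit (Groth.Agent.ModPairLib.res (inf_le_left : U.1 ⊓ ModPair.interior I ≤ U.1) g) := by
    rw [← Groth.Agent.ModPairLib.res_res (X.basicOpen_le g)
      (Groth.Agent.ModPairLib.inf_interior hg).le]
    exact (RingedSpace.isUnit_res_basicOpen X.toRingedSpace _).map _
  refine hu.mul_left_eq_zero.1 ?_
  rw [← map_mul, hz, map_zero]


/-- Let (X_i, I_i) be a cofiltered system of schemes equipped with quasi-coherent ideal sheaves of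
effective Cartier divisors, with affine and minimal transition morphisms (the modulus of X_i is the
pull-back of the modulus of X_j along each transition morphism X_i ⟶ X_j), and let X be its limit
with projections π_i. Then the pulled-back ideal I_i.comap π_i is the ideal sheaf of an effective
Cartier divisor on X for every i; with this modulus X is a modulus pair mapping minimally to each
(X_i, I_i). (The source allows the conditions on the transition morphisms to hold only beyond some
index; here they are assumed throughout.) -/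
theorem result {I : Type u}
    [SmallCategory I] [IsCofiltered I] (D : I ⥤ Scheme.{u}) (c : Cone D) (hc : IsLimit c)
    [∀ (i j : I) (t : i ⟶ j), IsAffineHom (D.map t)]
    (J : ∀ i, (D.obj i).IdealSheafData) (hJ : ∀ i, BlowUp.IsEffCartierIdeal (J i))
    (hmin : ∀ (i j : I) (t : i ⟶ j), ModPair.IsMinimal (J i) (J j) (D.map t)) (i : I) :
    BlowUp.IsEffCartierIdeal ((J i).comap (c.π.app i)) := by
  have : ∀ {a b : I} (t : a ⟶ b), IsAffineHom (D.map t) := fun {a b} t => inferInstance
  have := isAffineHom_π_app D c hc i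
  intro x
  obtain ⟨U, hxU, g, -, hg⟩ := hJ i (c.π.app i x)
  refine ⟨⟨c.π.app i ⁻¹ᵁ U.1, U.2.preimage _⟩, hxU, (c.π.app i).appLE U.1 _ le_rfl g, ?_, ?_⟩
  · rw [mem_nonZeroDivisors_iff_right]
    intro z hz
    obtain ⟨j, φ, y, rfl⟩ := Groth.Agent.H8Lim.exists_appLE_π_eq hc U.2 z
    have hle := Groth.Agent.H8Lim.le_preimage_π (c := c) φ U.1
    let gj := (D.map φ).appLE U.1 (D.map φ ⁻¹ᵁ U.1) le_rfl g
    have h0 : (c.π.app j).appLE _ _ hle (y * gj) = 0 := by
      rw [map_mul]
      refine Eq.trans ?_ hz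
      congr 1
      rw [← CommRingCat.comp_apply, Scheme.Hom.appLE_comp_appLE]
      simp only [Cone.w]
    have heq : c.π.app j ⁻¹ᵁ D.map φ ⁻¹ᵁ U.1 ≤ c.π.app i ⁻¹ᵁ U.1 :=
      le_of_eq (by rw [← Scheme.Hom.comp_preimage, c.w])
    have h1 : (c.π.app j).app (D.map φ ⁻¹ᵁ U.1) (y * gj) = 0 := by
      have e := ConcreteCategory.congr_hom ((c.π.app j).appLE_map hle (homOfLE heq).op) (y * gj)
      rw [CommRingCat.comp_apply, h0, map_zero] at e
      rw [Scheme.Hom.app_eq_appLE]
      exact e.symm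
    obtain ⟨k, ψ, hk⟩ := exists_app_map_eq_zero_of_isLimit D c hc
      (U.2.preimage (D.map φ)).isCompact (y * gj) h1
    rw [map_mul] at hk
    have hk' : ((J k).ideal ⟨D.map ψ ⁻¹ᵁ D.map φ ⁻¹ᵁ U.1, (U.2.preimage _).preimage _⟩) =
        Ideal.span {(D.map ψ).app (D.map φ ⁻¹ᵁ U.1) gj} := by
      rw [show J k = (J j).comap (D.map ψ) from hmin k j ψ,
        ProjLib.comap_ideal_eq _ _ ⟨_, U.2.preimage (D.map φ)⟩ _ le_rfl,
        show J j = (J i).comap (D.map φ) from hmin j i φ,
        ProjLib.comap_ideal_eq _ _ U ⟨_, U.2.preimage (D.map φ)⟩ le_rfl, hg, Ideal.map_span,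
        Set.image_singleton, Ideal.map_span, Set.image_singleton, Scheme.Hom.app_eq_appLE]
    have hy := eq_zero_of_mul_eq_zero (hJ k) hk' hk
    rw [Scheme.Hom.app_eq_appLE] at hy
    have hle' : c.π.app i ⁻¹ᵁ U.1 ≤ c.π.app k ⁻¹ᵁ D.map ψ ⁻¹ᵁ D.map φ ⁻¹ᵁ U.1 :=
      hle.trans (Groth.Agent.H8Lim.le_preimage_π ψ _)
    have e : (D.map ψ).appLE (D.map φ ⁻¹ᵁ U.1) _ le_rfl ≫ (c.π.app k).appLE _ _ hle' =
        (c.π.app j).appLE (D.map φ ⁻¹ᵁ U.1) _ hle := by
      rw [Scheme.Hom.appLE_comp_appLE]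
      simp only [Cone.w]
    rw [← ConcreteCategory.congr_hom e y, CommRingCat.comp_apply, hy, map_zero]
  · rw [ProjLib.comap_ideal_eq (J i) _ U _ le_rfl, hg, Ideal.map_span, Set.image_singleton]

end Groth.Agent.S18744
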