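import Groth.Statements.S18735
import Groth.Agent.ModPairLib.AdmBlowup

set_option autoImplicit false
universe u
open CategoryTheory CategoryTheory.Limits AlgebraicGeometry TopologicalSpace
open ModPair Groth.Agent

namespace Groth.Agent.S18735

/-- Let (S, I_S), (T, I_T), (X, I_X) be schemes equipped with quasi-coherent ideal sheaves of effective
Cartier divisors, g : T ⟶ S a morphism satisfying the modulus condition I_T ≤ I_S.comap g, and s : X
⟶ S an abstract admissible blow-up (I_X = I_S.comap s, s proper and an isomorphism over the open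
complement of the support of I_S). Let Y be the scheme-theoretic image in X ×_S T of the open
pr₁⁻¹(X°) ∩ pr₂⁻¹(T°), where X°, T° are the open complements of the supports of I_X, I_T, with
projections q : Y ⟶ T and r : Y ⟶ X. Then I_T.comap q is the ideal sheaf of an effective Cartier
divisor on Y, q is an abstract admissible blow-up from (Y, I_T.comap q) to (T, I_T), and r satisfies
the modulus condition from (Y, I_T.comap q) to (X, I_X). -/
theorem result {S T X : Scheme.{u}} (IS : S.IdealSheafData)
    (IT : T.IdealSheafData) (IX : X.IdealSheafData) (hS : BlowUp.IsEffCartierIdeal IS)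
    (hT : BlowUp.IsEffCartierIdeal IT) (hX : BlowUp.IsEffCartierIdeal IX)
    (g : T ⟶ S) (hg : ModPair.IsAmbient IT IS g) (s : X ⟶ S) (hs : ModPair.IsAdmBlowup IX IS s) :
    BlowUp.IsEffCartierIdeal (IT.comap (ModPair.mprodι s g IX IT ≫ pullback.snd s g)) ∧
      ModPair.IsAdmBlowup (IT.comap (ModPair.mprodι s g IX IT ≫ pullback.snd s g)) IT
        (ModPair.mprodι s g IX IT ≫ pullback.snd s g) ∧
      ModPair.IsAmbient (IT.comap (ModPair.mprodι s g IX IT ≫ pullback.snd s g)) IX
        (ModPair.mprodι s g IX IT ≫ pullback.fst s g) := by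
  obtain ⟨hmin, hprop, hiso⟩ := hs
  have hle : pullback.snd s g ⁻¹ᵁ ModPair.interior IT ≤ pullback.fst s g ⁻¹ᵁ ModPair.interior IX := by
    rw [show IX = IS.comap s from hmin, ModPairLib.interior_comap, ← Scheme.Hom.comp_preimage,
      pullback.condition, Scheme.Hom.comp_preimage]
    exact Scheme.Hom.preimage_mono _ (ModPairLib.interior_comp hg)
  have hP : ModPair.prodInterior s g IX IT = pullback.snd s g ⁻¹ᵁ ModPair.interior IT :=
    inf_of_le_right hle
  have := hprop
  refine ⟨ModPairLib.isEffCartier_comap_mprod_snd hX hT, ⟨rfl, inferInstance, ?_⟩, ?_⟩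
  · have := ModPairLib.isAffineHom_prodInterior (f := s) (g := g) hX hT
    have h1 : IsIso (ModPair.mprodι s g IX IT ∣_ (pullback.snd s g ⁻¹ᵁ ModPair.interior IT)) :=
      hP ▸ ModPairLib.isIso_closure_restrict _
    have h2 : IsIso (pullback.snd s g ∣_ ModPair.interior IT) :=
      ModPairLib.isIso_restrict_of_le s g (ModPair.interior IS) (ModPair.interior IT)
        (ModPairLib.interior_comp hg) hiso
    rw [morphismRestrict_comp]
    exact @IsIso.comp_isIso _ _ _ _ _ _ _ h1 h2
  · refine le_of_le_of_eq (Scheme.IdealSheafData.comap_mono _ hg) ?_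
    refine Eq.trans ?_ (congrArg
      (fun K => K.comap (ModPair.mprodι s g IX IT ≫ pullback.fst s g)) hmin).symm
    dsimp only
    rw [← Scheme.IdealSheafData.comap_comp, ← Scheme.IdealSheafData.comap_comp, Category.assoc,
      Category.assoc, pullback.condition]

end Groth.Agent.S18735
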