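import Groth.Statements.S18747
import Mathlib.AlgebraicGeometry.Limits
import Groth.Agent.FSchLib.Systems

set_option autoImplicit false
universe u
open CategoryTheory CategoryTheory.Limits AlgebraicGeometry TopologicalSpace
open ModPair

namespace Groth.Agent.S18747

variable {σ : Type u} (X : σ → Scheme.{u}) (I : ∀ i, (X i).IdealSheafData)

noncomputable def sigmaIdeal : (∐ X).IdealSheafData :=
  (Limits.Sigma.map fun i => (I i).subschemeι).ker

theorem isPullback_sigmaι_map (i : σ) :
    IsPullback (I i).subschemeι (Sigma.ι (fun i => (I i).subscheme) i) (Sigma.ι X i)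
      (Limits.Sigma.map fun i => (I i).subschemeι) := by
  refine IsOpenImmersion.isPullback _ _ _ _ (by simp) ?_
  apply le_antisymm
  · intro z hz
    obtain ⟨⟨j, w⟩, rfl⟩ := (sigmaMk (fun i => (I i).subscheme)).surjective z
    rw [sigmaMk_mk] at hz ⊢
    have hz' : (Limits.Sigma.map fun i => (I i).subschemeι) (Sigma.ι (fun i => (I i).subscheme) j w) ∈ Set.range (Sigma.ι X i) := hz
    obtain ⟨x, hx⟩ := hz'
    rw [← Scheme.Hom.comp_apply, Sigma.ι_map, Scheme.Hom.comp_apply] at hx
    obtain ⟨rfl, -⟩ := Sigma.mk.inj_iff.1 ((sigmaι_eq_iff X _ _ _ _).1 hx)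
    exact ⟨w, rfl⟩
  · rintro _ ⟨w, rfl⟩
    exact ⟨(I i).subschemeι w, by rw [← Scheme.Hom.comp_apply, ← Scheme.Hom.comp_apply, Sigma.ι_map]⟩

instance isClosedImmersion_sigmaMap : IsClosedImmersion (Limits.Sigma.map fun i => (I i).subschemeι) := by
  refine (IsZariskiLocalAtTarget.iff_of_openCover (P := @IsClosedImmersion) (sigmaOpenCover X)).2 fun i => ?_
  have h := (isPullback_sigmaι_map X I i).flip
  show IsClosedImmersion (pullback.snd (Limits.Sigma.map fun i => (I i).subschemeι) (Sigma.ι X i))
  rw [← h.isoPullback_inv_snd]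
  infer_instance

theorem comap_sigmaIdeal (i : σ) : (sigmaIdeal X I).comap (Sigma.ι X i) = I i := by
  rw [sigmaIdeal, ← Groth.Agent.FSchLib.ker_of_isPullback (isPullback_sigmaι_map X I i), Scheme.IdealSheafData.ker_subschemeι]

theorem le_of_comap_le {A B : (∐ X).IdealSheafData}
    (h : ∀ i, A.comap (Sigma.ι X i) ≤ B.comap (Sigma.ι X i)) : A ≤ B := by
  refine Scheme.IdealSheafData.le_of_iSup_eq_top
    (fun iU : Σ i, (X i).affineOpens => ⟨Sigma.ι X iU.1 ''ᵁ iU.2.1, iU.2.2.image_of_isOpenImmersion _⟩) ?_ ?_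
  · rw [eq_top_iff]
    intro z _
    obtain ⟨j, w, rfl⟩ := (sigmaOpenCover X).exists_eq z
    obtain ⟨_, ⟨W, hW, rfl⟩, hwW, -⟩ := (X j).isBasis_affineOpens.exists_subset_of_mem_open (Set.mem_univ w) isOpen_univ
    exact TopologicalSpace.Opens.mem_iSup.2 ⟨⟨j, W, hW⟩, w, hwW, rfl⟩
  · rintro ⟨i, U⟩
    have := h i U
    rw [Scheme.IdealSheafData.ideal_comap_of_isOpenImmersion, Scheme.IdealSheafData.ideal_comap_of_isOpenImmersion] at this
    exact (Ideal.comap_le_comap_iff_of_surjective _ (((Sigma.ι X i).appIso U).commRingCatIsoToRingEquiv.symm.surjective) _ _).1 this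

theorem isEffCartier_sigmaIdeal (hI : ∀ i, BlowUp.IsEffCartierIdeal (I i)) :
    BlowUp.IsEffCartierIdeal (sigmaIdeal X I) := by
  intro z
  obtain ⟨i, w, rfl⟩ := (sigmaOpenCover X).exists_eq z
  obtain ⟨U, hw, g, hg, hU⟩ := hI i w
  let e : Γ(∐ X, Sigma.ι X i ''ᵁ U.1) ≃+* Γ(X i, U.1) := ((Sigma.ι X i).appIso U).commRingCatIsoToRingEquiv
  refine ⟨⟨Sigma.ι X i ''ᵁ U.1, U.2.image_of_isOpenImmersion _⟩, ⟨w, hw, rfl⟩, e.symm g, ?_, ?_⟩
  · rw [mem_nonZeroDivisors_iff_right]
    intro x hx
    have h := congrArg e hx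
    rw [map_mul, RingEquiv.apply_symm_apply, map_zero] at h
    exact e.injective ((mem_nonZeroDivisors_iff_right.1 hg _ h).trans (map_zero e).symm)
  · have h := congrArg (fun J => J.ideal U) (comap_sigmaIdeal X I i)
    simp only [Scheme.IdealSheafData.ideal_comap_of_isOpenImmersion, hU] at h
    rw [← Ideal.map_comap_of_surjective _ (((Sigma.ι X i).appIso U).commRingCatIsoToRingEquiv.symm.surjective)
      ((sigmaIdeal X I).ideal ⟨Sigma.ι X i ''ᵁ U.1, U.2.image_of_isOpenImmersion _⟩)]
    refine (congrArg _ h).trans ?_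
    rw [Ideal.map_span, Set.image_singleton]

variable (P : σ → ModPair.Pair.{u})

noncomputable def sigmaPair : ModPair.Pair.{u} :=
  ⟨∐ fun i => (P i).total, sigmaIdeal _ fun i => (P i).mod, isEffCartier_sigmaIdeal _ _ fun i => (P i).isEffCartier⟩

noncomputable def cofan : Cofan P :=
  Cofan.mk (sigmaPair P) fun i => ⟨Sigma.ι (fun i => (P i).total) i,
    le_of_eq (comap_sigmaIdeal _ (fun i => (P i).mod) i).symm⟩

noncomputable def isColimitCofan : IsColimit (cofan P) :=
  Cofan.IsColimit.mk _
    (fun s => ⟨Limits.Sigma.desc fun i => (s.inj i).hom, le_of_comap_le _ fun i => by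
      show (sigmaIdeal _ fun i => (P i).mod).comap (Limits.Sigma.ι (fun i => (P i).total) i) ≤
        (s.pt.mod.comap (Limits.Sigma.desc fun i => (s.inj i).hom)).comap (Limits.Sigma.ι (fun i => (P i).total) i)
      rw [← Scheme.IdealSheafData.comap_comp, Limits.Sigma.ι_desc]
      exact (comap_sigmaIdeal _ (fun i => (P i).mod) i).le.trans (s.inj i).cond⟩)
    (fun s i => ModPair.Pair.Hom.ext (Limits.Sigma.ι_desc _ _))
    (fun s m hm => ModPair.Pair.Hom.ext (Sigma.hom_ext _ _ fun i =>
      (congrArg ModPair.Pair.Hom.hom (hm i)).trans (by simp)))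

/-- The category of modulus pairs and ambient morphisms admits coproducts (indexed by any type in the
universe of the schemes involved), and the total-space functor to schemes preserves them: the
coproduct of a family (X_i, I_i) is the disjoint union of the X_i with the modulus restricting to
I_i on each summand. (The published statement adds that the total-space functor detects coproducts;
read as reflection of coproducts this fails, since the identity of a scheme X is an ambient morphism
from (X, I) to (X, unit ideal) whose image is trivially a coproduct of the one-member family while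
(X, unit ideal) is not the coproduct of (X, I) when I is not the unit ideal; only existence and
preservation are stated.) -/
theorem result (σ : Type u) :
    HasColimitsOfShape (Discrete σ) ModPair.Pair.{u} ∧
      PreservesColimitsOfShape (Discrete σ) ModPair.Pair.forget.{u} := by
  refine ⟨⟨fun K => ?_⟩, ⟨fun {K} => ?_⟩⟩
  · have : HasColimit (Discrete.functor (K.obj ∘ Discrete.mk)) :=
      ⟨⟨⟨cofan _, isColimitCofan fun i => K.obj ⟨i⟩⟩⟩⟩
    exact hasColimit_of_iso (Discrete.natIsoFunctor (F := K))
  · have : PreservesColimit (Discrete.functor (K.obj ∘ Discrete.mk)) ModPair.Pair.forget.{u} :=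
      preservesColimit_of_preserves_colimit_cocone (isColimitCofan fun i => K.obj ⟨i⟩)
        ((isColimitMapCoconeCofanMkEquiv ModPair.Pair.forget _ _).symm
          (coproductIsCoproduct fun i => (K.obj ⟨i⟩).total))
    exact preservesColimit_of_iso_diagram _ (Discrete.natIsoFunctor (F := K)).symm

end Groth.Agent.S18747
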