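import Groth.Statements.S5094
import Groth.Agent.H8Lim.BiratNormal
import Mathlib

set_option backward.isDefEq.respectTransparency.types false

set_option autoImplicit false
universe u
open CategoryTheory CategoryTheory.Limits AlgebraicGeometry TopologicalSpace
open Lim8

namespace Groth.Agent.S5094

/-- Let X and Y be integral schemes and f : X → Y a separated morphism, locally of finite type and
birational (f sends the generic point of X to the generic point of Y and its stalk map there, the
induced homomorphism of function fields, is an isomorphism). Let y be a normal point of Y (the local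
ring O_{Y,y} is integrally closed) and suppose that some point of the fibre f⁻¹(y) is isolated in
that fibre. Then y has an open neighbourhood U such that the restriction f⁻¹(U) → U of f is an
isomorphism. -/
theorem result {X Y : Scheme.{u}} [IsIntegral X]
    [IsIntegral Y] (f : X ⟶ Y) [IsSeparated f] [LocallyOfFiniteType f]
    (hgen : f (genericPoint X) = genericPoint Y) (hbir : IsIso (f.stalkMap (genericPoint X)))
    (y : ↥Y) (hy : IsIntegrallyClosed ↑(Y.presheaf.stalk y))
    (x : ↥(f.fiber y)) (hx : IsOpen ({x} : Set ↥(f.fiber y))) :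
    ∃ U : Y.Opens, y ∈ U ∧ IsIso (f ∣_ U) := by
  obtain ⟨x₀, hx₀⟩ : ∃ x₀, f.fiberι y x = x₀ := ⟨_, rfl⟩
  have hfx : f x₀ = y := by
    have h1 := (f.range_fiberι y).le (Set.mem_range_self x)
    rw [hx₀] at h1
    exact h1
  subst hfx
  have hxa : x = f.asFiber x₀ :=
    (f.fiberι (f x₀)).isEmbedding.injective (by rw [hx₀, Scheme.Hom.fiberι_asFiber])
  subst hxa
  obtain ⟨W, hxW, hW⟩ := H8Lim.exists_isOpenImmersion_of_quasiFiniteAt f hgen hbir x₀
    (Scheme.Hom.quasiFiniteAt_iff_isOpen_singleton_asFiber.mpr hx) hy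
  have hpre : f ⁻¹ᵁ (W.ι ≫ f).opensRange = W := by
    refine le_antisymm (fun z hz ↦ ?_) fun z hz ↦ ⟨⟨z, hz⟩, rfl⟩
    obtain ⟨w, hw⟩ := hz
    obtain ⟨p, hp₁, hp₂⟩ :=
      Scheme.Pullback.exists_preimage_pullback (f := W.ι ≫ f) (g := f) w z hw
    let m : Limits.pullback (W.ι ≫ f) f ⟶ Limits.pullback f f :=
      Limits.pullback.map _ _ _ _ W.ι (𝟙 X) (𝟙 Y) (Category.comp_id _) (by simp)
    let l : (W : Scheme.{u}) ⟶ Limits.pullback (W.ι ≫ f) f :=
      Limits.pullback.lift (𝟙 _) W.ι (by simp)
    have hl : l ≫ m = W.ι ≫ Limits.pullback.diagonal f := by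
      apply Limits.pullback.hom_ext
      · simp only [Category.assoc, m, l, Limits.pullback.lift_fst, Limits.pullback.lift_fst_assoc,
          Limits.pullback.diagonal_fst, Category.comp_id, Category.id_comp]
      · simp only [Category.assoc, m, l, Limits.pullback.lift_snd, Limits.pullback.lift_snd_assoc,
          Limits.pullback.diagonal_snd, Category.comp_id, Category.id_comp]
    have hηW : genericPoint X ∈ W := (genericPoint_specializes x₀).mem_open W.isOpen hxW
    have hsp : l ⟨_, hηW⟩ ⤳ p := by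
      refine (Limits.pullback.snd (W.ι ≫ f) f).isOpenEmbedding.isInducing.specializes_iff.mp ?_
      rw [hp₂, ← Scheme.Hom.comp_apply, Limits.pullback.lift_snd]
      exact genericPoint_specializes z
    have he : m (l ⟨_, hηW⟩) ∈ Set.range (Limits.pullback.diagonal f) :=
      ⟨W.ι ⟨_, hηW⟩, by rw [← Scheme.Hom.comp_apply, ← hl, Scheme.Hom.comp_apply]⟩
    obtain ⟨t, ht⟩ := (hsp.map m.continuous).mem_closed
      (Limits.pullback.diagonal f).isClosedEmbedding.isClosed_range he
    have e₁ := congr(Limits.pullback.fst f f $ht)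
    have e₂ := congr(Limits.pullback.snd f f $ht)
    simp only [← Scheme.Hom.comp_apply, Limits.pullback.diagonal_fst,
      Limits.pullback.diagonal_snd] at e₁ e₂
    simp only [m, Limits.pullback.lift_fst, Limits.pullback.lift_snd] at e₁ e₂
    rw [Scheme.Hom.comp_apply, hp₁] at e₁
    rw [Scheme.Hom.comp_apply, hp₂] at e₂
    have e₃ : W.ι w = z := e₁.symm.trans e₂
    exact e₃ ▸ w.2
  refine ⟨(W.ι ≫ f).opensRange, ⟨⟨x₀, hxW⟩, rfl⟩, ?_⟩
  have key : ∀ W' : X.Opens, W' = W → IsOpenImmersion (W'.ι ≫ f) := by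
    rintro _ rfl; exact hW
  have := key _ hpre
  have : IsOpenImmersion ((f ∣_ (W.ι ≫ f).opensRange) ≫ (W.ι ≫ f).opensRange.ι) := by
    rw [morphismRestrict_ι]; infer_instance
  have hoi : IsOpenImmersion (f ∣_ (W.ι ≫ f).opensRange) := .of_comp _ (W.ι ≫ f).opensRange.ι
  have : Surjective (f ∣_ (W.ι ≫ f).opensRange) := by
    refine ⟨fun v ↦ ?_⟩
    obtain ⟨⟨z, hz⟩, hzv⟩ := v.2
    exact ⟨⟨z, hpre.ge hz⟩, Subtype.ext ((morphismRestrict_base_coe _ _ _).trans hzv)⟩
  exact (isIso_iff_isOpenImmersion_and_surjective _).mpr ⟨hoi, this⟩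

end Groth.Agent.S5094
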