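import Groth.Statements.S1550
import Groth.Agent.VarietyLib.SeparablePoints
import Groth.Agent.VarietyLib.GeomReducedPt

set_option autoImplicit false
universe u
open CategoryTheory CategoryTheory.Limits AlgebraicGeometry
attribute [local instance] Curv2.resAlgebra
open Variety
open Groth.Agent

namespace Groth.Agent.S1550

theorem specMap_resMap (k : Type u) [Field k] (X : Scheme.{u}) [X.Over (Spec (CommRingCat.of k))] (x : X) :
    Spec.map (CommRingCat.ofHom (Curv2.resMap k X x)) =
      X.fromSpecResidueField x ≫ (X ↘ Spec (CommRingCat.of k)) := by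
  letI := Curv2.stalkAlgebra k X x
  rw [Scheme.fromSpecResidueField, Category.assoc, ← VarietyLib.specMap_stalkAlgebra k X x, ← Spec.map_comp]
  rfl


/-- If X is smooth over a field k, then the set of closed points of X whose residue field is finite
separable over k is dense in X. -/
theorem result (k : Type u) [Field k] (X : Scheme.{u}) [X.Over (Spec (CommRingCat.of k))] [Smooth (X ↘ (Spec (CommRingCat.of k)))] :
    Dense {x : X | IsClosed ({x} : Set X) ∧ FiniteDimensional k (X.residueField x) ∧ Algebra.IsSeparable k (X.residueField x)} := by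
  let q := X ↘ Spec (CommRingCat.of k)
  rw [dense_iff_inter_open]
  rintro V hV ⟨v, hv⟩
  obtain ⟨_, ⟨W, hW, rfl⟩, hvW, hWV⟩ := X.isBasis_affineOpens.exists_subset_of_mem_open hv hV
  obtain ⟨φ, hφ⟩ := Spec.map_surjective (IsAffineOpen.fromSpec hW ≫ q)
  have hsm : Smooth (Spec.map φ) := by
    rw [hφ]; infer_instance
  have hsm' : φ.hom.Smooth := HasRingHomProperty.Spec_iff.1 hsm
  letI : Algebra k Γ(X, W) := φ.hom.toAlgebra
  haveI : Algebra.Smooth k Γ(X, W) := RingHom.smooth_algebraMap.1 hsm'
  haveI : Nontrivial Γ(X, W) := PrimeSpectrum.nonempty_iff_nontrivial.1 ⟨IsAffineOpen.primeIdealOf hW ⟨v, hvW⟩⟩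
  obtain ⟨Ω, _, _, hfin, hsep, ⟨ψ⟩⟩ := VarietyLib.exists_separable_point k Γ(X, W)
  let t : Spec (CommRingCat.of Ω) ⟶ X := Spec.map (CommRingCat.ofHom ψ.toRingHom) ≫ IsAffineOpen.fromSpec hW
  have ht : t ≫ q = Spec.map (CommRingCat.ofHom (algebraMap k Ω)) := by
    rw [Category.assoc, ← hφ, ← Spec.map_comp]
    exact congrArg (fun r => Spec.map (CommRingCat.ofHom r)) ψ.comp_algebraMap
  obtain ⟨⟨x, χ⟩, hχ⟩ : ∃ p : Σ x, X.residueField x ⟶ CommRingCat.of Ω, Spec.map p.2 ≫ X.fromSpecResidueField p.1 = t :=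
    ⟨Scheme.SpecToEquivOfField Ω X t, (Scheme.SpecToEquivOfField Ω X).symm_apply_apply t⟩
  have hxW : x ∈ (W : Set X) := by
    have h1 : t (IsLocalRing.closedPoint Ω) = x := by
      rw [← hχ, Scheme.Hom.comp_apply]; exact Scheme.fromSpecResidueField_apply _ _
    rw [← h1]
    show IsAffineOpen.fromSpec hW _ ∈ _
    rw [← hW.range_fromSpec]
    exact ⟨_, rfl⟩
  have hc : χ.hom.comp (Curv2.resMap k X x) = algebraMap k Ω := by
    refine congrArg CommRingCat.Hom.hom (Spec.map_injective (a₁ := CommRingCat.ofHom (Curv2.resMap k X x) ≫ χ)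
      (a₂ := CommRingCat.ofHom (algebraMap k Ω)) ?_)
    rw [Spec.map_comp, specMap_resMap, ← Category.assoc, hχ, ht]
  let χ' : X.residueField x →ₐ[k] Ω := { χ.hom with commutes' := fun c => RingHom.congr_fun hc c }
  haveI : FiniteDimensional k (X.residueField x) :=
    FiniteDimensional.of_injective χ'.toLinearMap χ'.toRingHom.injective
  haveI : JacobsonSpace X := LocallyOfFiniteType.jacobsonSpace q
  refine ⟨x, hWV hxW, ?_, inferInstance, Algebra.IsSeparable.of_algHom k Ω χ'⟩
  rw [isClosed_singleton_iff_locallyOfFiniteType]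
  haveI : LocallyOfFiniteType (X.fromSpecResidueField x ≫ q) := by
    rw [← specMap_resMap, HasRingHomProperty.Spec_iff (P := @LocallyOfFiniteType)]
    exact RingHom.finiteType_algebraMap.2 (inferInstance : Algebra.FiniteType k (X.residueField x))
  exact locallyOfFiniteType_of_comp (X.fromSpecResidueField x) q

end Groth.Agent.S1550
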