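import Groth.Statements.S6544
import Groth.Agent.CurveRR24.Dual
import Groth.Agent.CurveRR24.GenusZero
import Groth.Agent.AbSchLib.SmoothReduced

set_option autoImplicit false
universe u
open CategoryTheory CategoryTheory.Limits AlgebraicGeometry
open Curves

namespace Groth.Agent.S6544

/-- Let X be a proper curve over the field k (proper, integral, of dimension one) which is smooth and
geometrically irreducible over k, of genus 0. If X has an invertible O_X-module of odd degree, then
X is isomorphic to P^1_k over k. -/
theorem result (k : Type u) [Field k] (X : Scheme.{u}) [X.Over (Spec (CommRingCat.of k))]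
    [IsIntegral X] [IsProper (X ↘ (Spec (CommRingCat.of k)))] (hdim : topologicalKrullDim X = 1)
    [Smooth (X ↘ (Spec (CommRingCat.of k)))] [GeometricallyIrreducible (X ↘ (Spec (CommRingCat.of k)))] (hg : Curv2.genus k X = 0)
    (L : X.Modules) (hL : PicF.IsInvertible L) (hodd : Odd (Curv2.deg k X L 1)) :
    ∃ e : X ≅ CohB1.ProjSpace 1 k, e.hom ≫ CohB1.ProjSpace.toSpec 1 k = X ↘ (Spec (CommRingCat.of k)) := by
  haveI := Groth.Agent.AbSchLib.geometricallyReduced_of_smooth (X ↘ (Spec (CommRingCat.of k)))
  haveI : GeometricallyIntegral (X ↘ (Spec (CommRingCat.of k))) :=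
    GeometricallyIntegral.of_geometricallyReduced_of_geometricallyIrreducible _
  exact Groth.Agent.CurveRR24.exists_iso_projLine_of_odd hdim
    (Groth.Agent.CurveRR24.h0_structure_of_geomIntegral k) hg
    (fun ω t hω hrep => Groth.Agent.CurveRR24.isInvertible_dualizing_of_smooth hdim hω hrep) hL hodd

end Groth.Agent.S6544
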