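import Groth.Statements.S7615
import Groth.Agent.S1544
import Groth.Agent.S1540

set_option autoImplicit false
universe u
open CategoryTheory CategoryTheory.Limits AlgebraicGeometry
open Variety
open Groth.Agent
attribute [local instance] Curv2.stalkAlgebra Curv2.resAlgebra
set_option backward.isDefEq.respectTransparency.types false

namespace Groth.Agent.S7615

open TensorProduct

/-- A finite field extension which is geometrically reduced is separable. -/
theorem isSeparable_of_geometricallyReduced (k K : Type u) [Field k] [Field K] [Algebra k K] [Module.Finite k K]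
    [Algebra.IsGeometricallyReduced k K] : Algebra.IsSeparable k K := by
  haveI : IsReduced (K ⊗[k] K) := inferInstance
  haveI : IsArtinianRing (K ⊗[k] K) := IsArtinianRing.of_finite k _
  haveI : IsSemisimpleRing (K ⊗[k] K) := IsArtinianRing.isSemisimpleRing_of_isReduced _
  haveI : Algebra.FormallyUnramified k K := by
    refine ⟨?_⟩
    haveI : Subsingleton (KaehlerDifferential.ideal k K).Cotangent := by
      rw [Ideal.cotangent_subsingleton_iff]
      refine le_antisymm Ideal.mul_le_right fun x hx => ?_
      obtain ⟨J, hJ⟩ := exists_isCompl (KaehlerDifferential.ideal k K)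
      obtain ⟨e, he, f, hf, hef⟩ := Submodule.mem_sup.1 (hJ.sup_eq_top.ge (Submodule.mem_top (x := (1 : K ⊗[k] K))))
      have hxf : x * f = 0 := (Submodule.mem_bot _).1 (hJ.inf_eq_bot.le ⟨Ideal.mul_mem_right _ _ hx, Ideal.mul_mem_left _ _ hf⟩)
      have : x = x * e := by
        conv_lhs => rw [← mul_one x, ← hef, mul_add, hxf, add_zero]
      rw [this]
      exact Ideal.mul_mem_mul hx he
    exact inferInstanceAs (Subsingleton (KaehlerDifferential.ideal k K).Cotangent)
  exact Algebra.FormallyUnramified.isSeparable k K


/-- Let X be a proper variety over a field k (integral, separated, of finite type and proper over k) and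
K = H^0(X, O_X), a k-algebra via the structure morphism. Then K is a field, finite over k; K/k is
separable when X is geometrically reduced over k, and purely inseparable when X is geometrically
irreducible over k. -/
theorem result (k : Type u) [Field k] (X : Scheme.{u}) [X.Over (Spec (CommRingCat.of k))] [IsIntegral X] [IsProper (X ↘ (Spec (CommRingCat.of k)))] :
    letI := ((X ↘ (Spec (CommRingCat.of k))).appTop.hom.comp (Scheme.ΓSpecIso (CommRingCat.of k)).inv.hom : k →+* Γ(X, ⊤)).toAlgebra
    IsField ↑Γ(X, ⊤) ∧ Module.Finite k ↑Γ(X, ⊤) ∧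
      (GeometricallyReduced (X ↘ (Spec (CommRingCat.of k))) → Algebra.IsSeparable k ↑Γ(X, ⊤)) ∧
      (GeometricallyIrreducible (X ↘ (Spec (CommRingCat.of k))) → IsPurelyInseparable k ↑Γ(X, ⊤)) := by
  let q := X ↘ Spec (CommRingCat.of k)
  have hF := isField_of_universallyClosed k q
  letI alg : Algebra k Γ(X, ⊤) :=
    (q.appTop.hom.comp (Scheme.ΓSpecIso (CommRingCat.of k)).inv.hom : k →+* Γ(X, ⊤)).toAlgebra
  have hfin : Module.Finite k Γ(X, ⊤) :=
    RingHom.finite_algebraMap.1 ((finite_appTop_of_universallyClosed k q).comp
      (RingHom.Finite.of_surjective _ (Scheme.ΓSpecIso (CommRingCat.of k)).symm.commRingCatIsoToRingEquiv.surjective))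
  letI : Field Γ(X, ⊤) := hF.toField
  let η := genericPoint X
  let ι : Γ(X, ⊤) →ₐ[k] X.functionField :=
    { toRingHom := (X.presheaf.germ ⊤ η trivial).hom, commutes' := fun c => rfl }
  refine ⟨hF, hfin, fun hred => ?_, fun hirr => ?_⟩
  · haveI := (S1544.result k X).1 hred
    haveI : Algebra.IsGeometricallyReduced k Γ(X, ⊤) :=
      Algebra.IsGeometricallyReduced.of_injective ι ι.toRingHom.injective
    exact isSeparable_of_geometricallyReduced k Γ(X, ⊤)
  · have h1540 := (S1540.result k X).1 hirr
    refine isPurelyInseparable_iff.2 fun a => ⟨Algebra.IsIntegral.isIntegral a, fun ha => ?_⟩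
    let ψ : Γ(X, ⊤) →ₐ[k] X.residueField η :=
      { toRingHom := (X.residue η).hom.comp ι.toRingHom, commutes' := fun c => rfl }
    have hψ : Function.Injective ψ := ψ.toRingHom.injective
    obtain ⟨c, hc⟩ := h1540 (ψ a) (IsSeparable.map ψ hψ ha)
    exact ⟨c, hψ (by rw [← hc]; exact ψ.commutes c)⟩

end Groth.Agent.S7615
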