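import Groth.Statements.S10669
import Groth.Agent.AlgSpLib.GeomReducedPt
import Groth.Agent.AlgSpLib.LocP
import Groth.Agent.AlgSpLib.WhereLocus
import Groth.Agent.H8Lim.OpenImmersions
import Groth.Prelude.Def_AlgSp4
import Mathlib.RingTheory.DiscreteValuationRing.Basic
import Mathlib.RingTheory.Filtration
-- import your own Groth.Agent.* helpers here

set_option autoImplicit false
universe u
open CategoryTheory CategoryTheory.Limits AlgebraicGeometry
open AlgSp

namespace Groth.Agent.S10669

open Groth.Agent.AlgSpLib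
open TensorProduct

theorem isReduced_localization {A : Type u} [CommRing A] [IsNoetherianRing A] (t : A)
    (ht : ∀ x, t * x = 0 → x = 0) (hq : _root_.IsReduced (A ⧸ Ideal.span {t})) (p : Ideal A) [p.IsPrime]
    (htp : t ∈ p) (L : Type u) [CommRing L] [Algebra A L] [IsLocalization.AtPrime L p] :
    _root_.IsReduced L := by
  have hmem : ∀ (n : ℕ) (a : A), IsNilpotent a → a ∈ Ideal.span {t ^ n} := by
    intro n
    induction n with
    | zero => intro a _; simp
    | succ n ih =>
      intro a ha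
      have h0 : Ideal.Quotient.mk (Ideal.span {t}) a = 0 := (ha.map _).eq_zero
      obtain ⟨g, rfl⟩ := Ideal.mem_span_singleton'.1 (Ideal.Quotient.eq_zero_iff_mem.1 h0)
      obtain ⟨k, hk⟩ := ha
      have hg : IsNilpotent g := by
        refine ⟨k, ?_⟩
        rw [mul_pow, mul_comm] at hk
        clear ih h0
        revert hk
        generalize g ^ k = z
        intro hk
        clear g
        induction k with
        | zero => simpa using hk
        | succ k ihk => exact ihk (ht _ (by rw [← mul_assoc, ← pow_succ']; exact hk))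
      obtain ⟨c, hc⟩ := Ideal.mem_span_singleton'.1 (ih g hg)
      exact Ideal.mem_span_singleton'.2 ⟨c, by rw [← hc, pow_succ]; ring⟩
  have : IsLocalRing L := IsLocalization.AtPrime.isLocalRing L p
  have : IsNoetherianRing L := IsLocalization.isNoetherianRing p.primeCompl L inferInstance
  refine ⟨fun x hx => ?_⟩
  obtain ⟨⟨a, s⟩, hxa⟩ := IsLocalization.surj p.primeCompl x
  have hxa' : IsNilpotent (algebraMap A L a) := by
    rw [← hxa]; exact (Commute.all _ _).isNilpotent_mul_right hx
  obtain ⟨k, hk⟩ := hxa'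
  rw [← map_pow, IsLocalization.map_eq_zero_iff p.primeCompl] at hk
  obtain ⟨u, hu⟩ := hk
  have hnil : IsNilpotent ((u : A) * a) := by
    refine ⟨k + 1, ?_⟩
    rw [mul_pow, pow_succ, pow_succ (a : A)]
    calc (u : A) ^ k * u * (a ^ k * a) = (u : A) ^ k * (u * a ^ k) * a := by ring
      _ = 0 := by rw [hu, mul_zero, zero_mul]
  have hmax : algebraMap A L t ∈ IsLocalRing.maximalIdeal L :=
    (IsLocalization.AtPrime.to_map_mem_maximal_iff L p t).2 htp
  have hI : algebraMap A L ((u : A) * a) ∈ ⨅ i : ℕ, IsLocalRing.maximalIdeal L ^ i := by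
    simp only [Ideal.mem_iInf]
    intro i
    obtain ⟨c, hc⟩ := Ideal.mem_span_singleton'.1 (hmem i _ hnil)
    rw [← hc, map_mul, map_pow]
    exact Ideal.mul_mem_left _ _ (Ideal.pow_mem_pow hmax i)
  rw [Ideal.iInf_pow_eq_bot_of_isLocalRing _ (IsLocalRing.maximalIdeal.isMaximal L).ne_top,
    Ideal.mem_bot, map_mul, ← hxa] at hI
  exact ((IsLocalization.map_units L s).mul_left_eq_zero).1
    (((IsLocalization.map_units L u).mul_right_eq_zero).1 hI)

theorem isReduced_stalk_closed_fibre {R : Type u} [CommRing R] [IsDomain R] [IsDiscreteValuationRing R]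
    {U : Scheme.{u}} (p : U ⟶ Spec (CommRingCat.of R)) [Flat p] [LocallyOfFiniteType p]
    [IsReduced (pullback p (Spec.map (CommRingCat.ofHom (IsLocalRing.residue R))))]
    (x : U) (hx : p x = IsLocalRing.closedPoint R) : _root_.IsReduced (U.presheaf.stalk x) := by
  obtain ⟨V, hV, hxV, -⟩ := exists_isAffineOpen_mem_and_subset (x := x) (U := ⊤) trivial
  obtain ⟨φ, hφ⟩ := Spec.map_surjective (hV.fromSpec ≫ p)
  have : IsLocallyNoetherian U := LocallyOfFiniteType.isLocallyNoetherian p
  have : IsNoetherianRing Γ(U, V) := IsLocallyNoetherian.component_noetherian ⟨V, hV⟩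
  algebraize [φ.hom]
  have hflat : Module.Flat R Γ(U, V) := by
    have : Flat (Spec.map φ) := by rw [hφ]; infer_instance
    exact (HasRingHomProperty.Spec_iff (P := @Flat)).1 this
  obtain ⟨ϖ, hϖ⟩ := IsDiscreteValuationRing.exists_irreducible R
  let t := algebraMap R Γ(U, V) ϖ
  have ht : ∀ z, t * z = 0 → z = 0 := fun z hz => by
    have hreg : IsSMulRegular Γ(U, V) ϖ :=
      Module.Flat.isSMulRegular_of_nonZeroDivisors (mem_nonZeroDivisors_of_ne_zero hϖ.ne_zero)
    exact hreg (by simpa [Algebra.smul_def, t] using hz)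
  let κ := IsLocalRing.ResidueField R
  have sq : IsPullback
      (Spec.map (CommRingCat.ofHom (Algebra.TensorProduct.includeLeftRingHom : Γ(U, V) →+* Γ(U, V) ⊗[R] κ)))
      (Spec.map (CommRingCat.ofHom (Algebra.TensorProduct.includeRight : κ →ₐ[R] Γ(U, V) ⊗[R] κ).toRingHom))
      (Spec.map φ) (Spec.map (CommRingCat.ofHom (IsLocalRing.residue R))) :=
    isPullback_SpecMap_of_isPushout _ _ _ _ (CommRingCat.isPushout_tensorProduct R Γ(U, V) κ)
  rw [hφ] at sq
  let j := (IsPullback.of_hasPullback p (Spec.map (CommRingCat.ofHom (IsLocalRing.residue R)))).lift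
    _ _ ((Category.assoc _ _ _).trans sq.w)
  have sqj : IsPullback j
      (Spec.map (CommRingCat.ofHom (Algebra.TensorProduct.includeLeftRingHom : Γ(U, V) →+* Γ(U, V) ⊗[R] κ)))
      (pullback.fst _ _) hV.fromSpec :=
    IsPullback.of_right (h₁₁ := j) (h₁₂ := pullback.snd _ _) (h₂₁ := hV.fromSpec) (h₂₂ := p)
      (by rw [IsPullback.lift_snd]; exact sq.flip) (IsPullback.lift_fst _ _ _ _)
      (IsPullback.of_hasPullback p _).flip
  have : IsOpenImmersion j := MorphismProperty.of_isPullback sqj.flip inferInstance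
  have : IsReduced (Spec (CommRingCat.of (Γ(U, V) ⊗[R] κ))) := isReduced_of_isOpenImmersion j
  have hr : _root_.IsReduced (Γ(U, V) ⊗[R] κ) := by
    exact affine_isReduced_iff (CommRingCat.of (Γ(U, V) ⊗[R] κ)) |>.1 this
  have hm : (IsLocalRing.maximalIdeal R).map (algebraMap R Γ(U, V)) = Ideal.span {t} := by
    rw [hϖ.maximalIdeal_eq, Ideal.map_span, Set.image_singleton]
  have hq : _root_.IsReduced (Γ(U, V) ⧸ Ideal.span {t}) := by
    rw [← hm]
    let e := (Algebra.TensorProduct.quotIdealMapEquivTensorQuot Γ(U, V) (IsLocalRing.maximalIdeal R))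
    have : _root_.IsReduced (Γ(U, V) ⊗[R] (R ⧸ IsLocalRing.maximalIdeal R)) := hr
    exact isReduced_of_injective e.toRingHom e.injective
  have := hV.isLocalization_stalk ⟨x, hxV⟩
  letI : Algebra Γ(U, V) (U.presheaf.stalk x) := (U.presheaf.germ V x hxV).hom.toAlgebra
  refine isReduced_localization t ht hq (hV.primeIdealOf ⟨x, hxV⟩).asIdeal ?_ _
  have h1 : p (hV.fromSpec (hV.primeIdealOf ⟨x, hxV⟩)) = IsLocalRing.closedPoint R := by
    rw [hV.fromSpec_primeIdealOf]; exact hx
  rw [← Scheme.Hom.comp_apply, ← hφ] at h1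
  have h2 : ϖ ∈ (IsLocalRing.closedPoint R).asIdeal := hϖ.not_isUnit
  rw [← h1] at h2
  exact h2

theorem isLocalization_away_frac {R : Type u} [CommRing R] [IsDomain R] [IsDiscreteValuationRing R] {ϖ : R}
    (hϖ : Irreducible ϖ) : IsLocalization.Away ϖ (FractionRing R) := by
  refine (IsLocalization.iff_of_le_of_exists_dvd (Submonoid.powers ϖ) (S := FractionRing R) (nonZeroDivisors R)
    (Submonoid.powers_le.2 (mem_nonZeroDivisors_of_ne_zero hϖ.ne_zero)) fun n hn => ?_).2 inferInstance
  obtain ⟨k, u, rfl⟩ := IsDiscreteValuationRing.eq_unit_mul_pow_irreducible (nonZeroDivisors.ne_zero hn) hϖ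
  exact ⟨ϖ ^ k, ⟨k, rfl⟩, u.inv, by rw [mul_comm (u : R) (ϖ ^ k), mul_assoc, Units.inv_eq_val_inv, Units.mul_inv, mul_one]⟩

/-- For a discrete valuation ring R with residue field κ and fraction field K and an algebraic space X
over Spec R whose structure morphism s (to the terminal sheaf h_{Spec R}) is flat and proper: if the
special fibre X ×_{Spec R} Spec κ is reduced (some etale surjective scheme chart is reduced), then X
is reduced and so is the generic fibre X ×_{Spec R} Spec K. -/
theorem result (R : Type u) [CommRing R] [IsDomain R] [IsDiscreteValuationRing R]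
    {X : AlgSp.Space (Spec (CommRingCat.of R))}
    (s : X.obj ⟶ (AlgSp.yon (Spec (CommRingCat.of R))).obj (Over.mk (𝟙 _)))
    (hs1 : AlgSp.IsProperMor s) (hs2 : AlgSp.LocP @Flat s)
    (h0 : ∀ (X0 : AlgSp.Sp (Spec (CommRingCat.of R))) (fst : X0 ⟶ X.obj)
      (snd : X0 ⟶ (AlgSp.yon (Spec (CommRingCat.of R))).obj
        (Over.mk (Spec.map (CommRingCat.ofHom (IsLocalRing.residue R))))),
      IsPullback fst snd s ((AlgSp.yon (Spec (CommRingCat.of R))).map
        (Over.homMk (Spec.map (CommRingCat.ofHom (IsLocalRing.residue R))) (Category.comp_id _) :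
          Over.mk (Spec.map (CommRingCat.ofHom (IsLocalRing.residue R))) ⟶ Over.mk (𝟙 _))) →
      AlgSp.EtaleLocally (fun U => IsReduced U) X0) :
    AlgSp.EtaleLocally (fun U => IsReduced U) X.obj ∧
      ∀ (Xη : AlgSp.Sp (Spec (CommRingCat.of R))) (fst : Xη ⟶ X.obj)
        (snd : Xη ⟶ (AlgSp.yon (Spec (CommRingCat.of R))).obj
          (Over.mk (Spec.map (CommRingCat.ofHom (algebraMap R (FractionRing R)))))),
        IsPullback fst snd s ((AlgSp.yon (Spec (CommRingCat.of R))).map
          (Over.homMk (Spec.map (CommRingCat.ofHom (algebraMap R (FractionRing R)))) (Category.comp_id _) :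
            Over.mk (Spec.map (CommRingCat.ofHom (algebraMap R (FractionRing R)))) ⟶ Over.mk (𝟙 _))) →
        AlgSp.EtaleLocally (fun U => IsReduced U) Xη := by
  have hX := X.property
  let B₀ : Over (Spec (CommRingCat.of R)) := Over.mk (𝟙 _)
  have hB := AlgSp.IsAlgSpace.yon_obj (S := Spec (CommRingCat.of R)) B₀
  obtain ⟨U, a, hae, has⟩ := hX.atlas
  obtain ⟨c, hc⟩ := (AlgSp.yon (Spec (CommRingCat.of R))).map_surjective (a ≫ s)
  have hcf : Flat c.left := hs2 a (𝟙 _) c hae (AlgSp.repWith_id _ B₀) (by rw [Category.comp_id, hc])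
  have hcl : LocallyOfFiniteType c.left :=
    hs1.2.1.1 a (𝟙 _) c hae (AlgSp.repWith_id _ B₀) (by rw [Category.comp_id, hc])
  let p : U.left ⟶ Spec (CommRingCat.of R) := c.left
  have : Flat p := hcf
  have : LocallyOfFiniteType p := hcl
  have key : ∀ {T : Over (Spec (CommRingCat.of R))} (ι : T ⟶ B₀) (XT : AlgSp.Sp (Spec (CommRingCat.of R)))
      (fst : XT ⟶ X.obj) (snd : XT ⟶ (AlgSp.yon _).obj T), IsPullback fst snd s ((AlgSp.yon _).map ι) →
      ∃ (W : Over (Spec (CommRingCat.of R))) (w : (AlgSp.yon _).obj W ⟶ XT),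
        AlgSp.RepWith @Etale w ∧ AlgSp.RepWith @Surjective w ∧ Nonempty (W.left ≅ pullback p ι.left) := by
    intro T ι XT fst snd sq
    let W : Over (Spec (CommRingCat.of R)) := Over.mk (pullback.fst p ι.left ≫ U.hom)
    let pW : W ⟶ U := Over.homMk (pullback.fst p ι.left)
    let qW : W ⟶ T := Over.homMk (pullback.snd p ι.left) (by
      show _ = pullback.fst p ι.left ≫ U.hom
      rw [← Over.w c, ← Over.w ι, ← Category.assoc, ← pullback.condition, Category.assoc])
    have sqW : IsPullback pW qW c ι :=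
      IsPullback.of_map (Over.forget _) (Over.OverMorphism.ext pullback.condition)
        (IsPullback.of_hasPullback p ι.left)
    have sqW' := sqW.map (AlgSp.yon _)
    rw [hc] at sqW'
    let w := sq.lift ((AlgSp.yon _).map pW ≫ a) ((AlgSp.yon _).map qW)
      (by rw [Category.assoc]; exact sqW'.w)
    have sqw : IsPullback ((AlgSp.yon _).map pW) w a fst :=
      IsPullback.of_bot (by rw [sq.lift_snd]; exact sqW') (sq.lift_fst _ _ _).symm sq
    exact ⟨W, w, RepWith.baseChange sqw hae, RepWith.baseChange sqw has, ⟨Iso.refl _⟩⟩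
  let ι₀ : Over.mk (Spec.map (CommRingCat.ofHom (IsLocalRing.residue R))) ⟶ B₀ :=
    Over.homMk (Spec.map (CommRingCat.ofHom (IsLocalRing.residue R))) (Category.comp_id _)
  have : IsReduced (pullback p (Spec.map (CommRingCat.ofHom (IsLocalRing.residue R)))) := by
    have sq0 := IsPullback.of_hasPullback s ((AlgSp.yon _).map ι₀)
    obtain ⟨W, w, hwe, -, ⟨e⟩⟩ := key ι₀ _ _ _ sq0
    have := isReduced_of_etaleLocally (h0 _ _ _ sq0) w hwe
    exact @isReduced_of_isOpenImmersion _ _ e.inv _ this
  have : IsLocallyNoetherian U.left := LocallyOfFiniteType.isLocallyNoetherian p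
  have hopen : IsOpen {u : ↥U.left | _root_.IsReduced (U.left.presheaf.stalk u)} :=
    H8Lim.isOpen_setOf_isReduced_stalk fun V =>
      haveI := IsLocallyNoetherian.component_noetherian V
      IsNoetherian.noetherian _
  let O := AlgSp.Points.ofPt a '' {u : ↥U.left | _root_.IsReduced (U.left.presheaf.stalk u)}
  have hO : IsOpen O := isOpenMap_ofPt a hae _ hopen
  have hall : ∀ x, x ∈ O := by
    intro x
    by_contra hx
    have hclm := isClosedMap_of_univClosed hB hs1.2.2 Oᶜ hO.isClosed_compl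
    have hpre := hclm.preimage (AlgSp.Points.continuous_ofPt (𝟙 ((AlgSp.yon _).obj B₀)))
    have hne : (AlgSp.Points.ofScheme B₀ ⁻¹' (AlgSp.Points.map s '' Oᶜ)).Nonempty := by
      obtain ⟨z, hz⟩ := (AlgSp.Points.schemeEquiv B₀).surjective (AlgSp.Points.map s x)
      exact ⟨z, x, hx, hz.symm⟩
    obtain ⟨z, hz⟩ := hne
    have hcp : (IsLocalRing.closedPoint R : ↥B₀.left) ∈ AlgSp.Points.ofScheme B₀ ⁻¹' (AlgSp.Points.map s '' Oᶜ) :=
      (IsLocalRing.specializes_closedPoint (R := R) z).mem_closed hpre hz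
    obtain ⟨y, hy, hys⟩ := hcp
    obtain ⟨u, rfl⟩ := surjective_ofPt a has y
    apply hy
    refine ⟨u, isReduced_stalk_closed_fibre p u ?_, rfl⟩
    apply (AlgSp.Points.schemeEquiv B₀).injective
    refine Eq.trans ?_ hys
    rw [AlgSp.Points.map_ofPt, ← hc, ← Category.comp_id ((AlgSp.yon _).map c), ofPt_map]
    rfl
  have hred : IsReduced U.left := by
    have : ∀ u : ↥U.left, _root_.IsReduced (U.left.presheaf.stalk u) := fun u => by
      obtain ⟨u', hu', e⟩ := hall (AlgSp.Points.ofPt a u)
      have sqR := hae.1.isPullback' a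
      obtain ⟨r, hr1, hr2⟩ := (ofPt_eq_ofPt_iff sqR u' u).1 e
      have : Etale (hae.1.snd a).left := hae.property_snd a
      have : Etale (hae.1.fst' a).left := hae.property _ _ _ sqR.flip
      rw [← hr2]
      refine (Et18.isReduced_stalk_iff_of_etale (hae.1.snd a).left r).1 ?_
      refine (Et18.isReduced_stalk_iff_of_etale (hae.1.fst' a).left r).2 ?_
      rw [show (hae.1.fst' a).left.base r = u' from hr1]
      exact hu'
    exact isReduced_of_isReduced_stalk _
  refine ⟨⟨U, a, hae, has, hred⟩, fun Xη fst snd sq => ?_⟩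
  obtain ⟨W, w, hwe, hws, ⟨e⟩⟩ := key _ Xη fst snd sq
  refine ⟨W, w, hwe, hws, ?_⟩
  obtain ⟨ϖ, hϖ⟩ := IsDiscreteValuationRing.exists_irreducible R
  have := isLocalization_away_frac hϖ
  have : IsOpenImmersion (Spec.map (CommRingCat.ofHom (algebraMap R (FractionRing R)))) :=
    IsOpenImmersion.of_isLocalization ϖ
  have : IsReduced (pullback p (Spec.map (CommRingCat.ofHom (algebraMap R (FractionRing R))))) :=
    isReduced_of_isOpenImmersion (pullback.fst _ _)
  exact @isReduced_of_isOpenImmersion _ _ e.hom _ this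

end Groth.Agent.S10669
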