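import Groth.Statements.S2227
import Groth.Agent.NodeLib7.NodeFamily
import Groth.Agent.NodeLib7.NodeDvr
-- import your own Groth.Agent.* helpers here

set_option autoImplicit false
set_option backward.isDefEq.respectTransparency false
universe u
open CategoryTheory AlgebraicGeometry
open Models
open CategoryTheory.Limits

namespace Groth.Agent.S2227

/-- Let R be a discrete valuation ring with uniformizer ϖ and X → Spec R an at-worst-nodal family of
relative dimension one. For every point x of X lying over the closed point of Spec R there are: a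
discrete valuation ring R' with an étale ring map R → R' sending ϖ to a uniformizer of R', an
element h of R'[u, v] which is either 0 or the constant ϖⁿ for some n (via R → R'), a scheme U with
an étale morphism e : U → X whose image contains x, and an étale morphism g : U → Spec(R'[u, v]/(uv
− h)), such that the two composites U → Spec R (through g and through e) agree. (The étaleness of g
is part of the statement here; the published display leaves it implicit.) -/
theorem result (R : Type u) [CommRing R] [IsDomain R]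
    [IsDiscreteValuationRing R] (ϖ : R) (hϖ : Irreducible ϖ) (X : Scheme.{u})
    (p : X ⟶ Spec (CommRingCat.of R)) (hp : Curv2.IsNodalFamily p) (x : X)
    (hx : p.base x = IsLocalRing.closedPoint R) :
    ∃ (R' : Type u) (_ : CommRing R') (_ : IsDomain R') (_ : IsDiscreteValuationRing R')
      (_ : Algebra R R') (_ : Algebra.Etale R R') (_ : Irreducible (algebraMap R R' ϖ))
      (h : MvPolynomial (Fin 2) R') (_ : h = 0 ∨ ∃ n : ℕ, h = MvPolynomial.C (algebraMap R R' ϖ ^ n))
      (U : Scheme.{u}) (e : U ⟶ X) (_ : Etale e) (x' : U) (_ : e.base x' = x)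
      (g : U ⟶ Spec (CommRingCat.of (MvPolynomial (Fin 2) R' ⧸
        Ideal.span {MvPolynomial.X 0 * MvPolynomial.X 1 - h}))) (_ : Etale g),
      g ≫ Spec.map (CommRingCat.ofHom ((Ideal.Quotient.mk _).comp
          (MvPolynomial.C.comp (algebraMap R R')))) = e ≫ p := by
  haveI hflat : Flat p := hp.1
  haveI hlfp : LocallyOfFinitePresentation p := hp.2.1
  obtain ⟨C, _, a, U, gU, gV, g, hgU, hgV, hg, hcomm, x₀, hx₀⟩ := NodeLib7.exists_model_of_nodalFamily p hp x
  haveI := hgU
  haveI := hgV
  haveI := hg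
  let φ : CommRingCat.of R ⟶ CommRingCat.of C := Spec.preimage gV
  have hφ : Spec.map φ = gV := Spec.map_preimage gV
  letI : Algebra R C := φ.hom.toAlgebra
  haveI : Algebra.Etale R C := RingHom.etale_algebraMap.1
    ((HasRingHomProperty.Spec_iff (P := @Etale)).1 (hφ.symm ▸ hgV : Etale (Spec.map φ)))
  let q := Spec.map (CommRingCat.ofHom ((Ideal.Quotient.mk (NodeLib7.nodeIdeal a)).comp MvPolynomial.C) :
    CommRingCat.of C ⟶ CommRingCat.of (MvPolynomial (Fin 2) C ⧸ NodeLib7.nodeIdeal a))
  let pc : Spec (CommRingCat.of C) := q (g x₀)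
  have hpc : (Spec.map φ) pc = IsLocalRing.closedPoint R := by
    rw [← hx, ← hx₀, hφ]
    exact (congrArg (fun k => k.base x₀) hcomm).symm
  have hP : pc.asIdeal.comap (algebraMap R C) = IsLocalRing.maximalIdeal R :=
    congrArg PrimeSpectrum.asIdeal hpc
  obtain ⟨e, he, _, _, hirr⟩ := NodeLib7.exists_away_dvr hϖ pc.asIdeal hP
  let R' := Localization.Away e
  let ι : C →+* R' := algebraMap C R'
  haveI : Algebra.Etale C R' := Algebra.Etale.of_isLocalizationAway e
  haveI : Algebra.Etale R R' := Algebra.Etale.comp R C R'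
  obtain ⟨h₀, ε, hε, hh₀, hshape⟩ : ∃ (h₀ ε : R'), IsUnit ε ∧ ε * h₀ = ι a ∧
      (h₀ = 0 ∨ ∃ n : ℕ, h₀ = algebraMap R R' ϖ ^ n) := by
    rcases eq_or_ne (ι a) 0 with h0 | h0
    · exact ⟨0, 1, isUnit_one, by rw [mul_zero, h0], Or.inl rfl⟩
    · obtain ⟨n, v, hv⟩ := IsDiscreteValuationRing.eq_unit_mul_pow_irreducible h0 hirr
      exact ⟨_, (v : R'), v.isUnit, hv.symm, Or.inr ⟨n, rfl⟩⟩
  obtain ⟨θ, hθ⟩ : ∃ θ : (MvPolynomial (Fin 2) R' ⧸
      Ideal.span {(MvPolynomial.X 0 * MvPolynomial.X 1 - MvPolynomial.C h₀ : MvPolynomial (Fin 2) R')}) ≃+*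
      MvPolynomial (Fin 2) R' ⧸ NodeLib7.nodeIdeal (ι a),
      ∀ z, θ (Ideal.Quotient.mk _ (MvPolynomial.C z)) = Ideal.Quotient.mk _ (MvPolynomial.C z) := by
    rw [← hh₀]; exact NodeLib7.exists_node_equiv hε h₀
  let m : MvPolynomial (Fin 2) C ⧸ NodeLib7.nodeIdeal a →+* MvPolynomial (Fin 2) R' ⧸ NodeLib7.nodeIdeal (ι a) :=
    Ideal.quotientMap _ (MvPolynomial.map ι) (Ideal.span_le.2 (Set.singleton_subset_iff.2 (by
      show MvPolynomial.map ι _ ∈ NodeLib7.nodeIdeal (ι a)
      simp [NodeLib7.nodeIdeal, Ideal.mem_span_singleton])))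
  have H := NodeLib7.isPullback_node_map ι a m (RingHom.ext fun z => rfl)
  let q' := Spec.map (CommRingCat.ofHom ((Ideal.Quotient.mk (NodeLib7.nodeIdeal (ι a))).comp MvPolynomial.C) :
    CommRingCat.of R' ⟶ CommRingCat.of (MvPolynomial (Fin 2) R' ⧸ NodeLib7.nodeIdeal (ι a)))
  haveI : Etale (Spec.map (CommRingCat.ofHom ι)) :=
    (HasRingHomProperty.Spec_iff (P := @Etale)).2 (RingHom.etale_algebraMap.2 inferInstance)
  haveI hm : Etale (Spec.map (CommRingCat.ofHom m)) := MorphismProperty.of_isPullback H.flip ‹Etale (Spec.map (CommRingCat.ofHom ι))›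
  let U' := pullback g (Spec.map (CommRingCat.ofHom m))
  haveI : Etale (pullback.fst g (Spec.map (CommRingCat.ofHom m))) := MorphismProperty.pullback_fst _ _ hm
  haveI : Etale (pullback.snd g (Spec.map (CommRingCat.ofHom m))) := MorphismProperty.pullback_snd _ _ hg
  -- the point
  have hdisj : Disjoint (Submonoid.powers e : Set C) pc.asIdeal :=
    (Ideal.disjoint_powers_iff_notMem_of_isPrime _).2 he
  let pr : Spec (CommRingCat.of R') := ⟨pc.asIdeal.map ι,
    IsLocalization.isPrime_of_isPrime_disjoint (.powers e) R' pc.asIdeal inferInstance hdisj⟩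
  have hpr : (Spec.map (CommRingCat.ofHom ι)) pr = pc :=
    PrimeSpectrum.ext (IsLocalization.under_map_of_isPrime_disjoint (.powers e) R' inferInstance hdisj)
  obtain ⟨w₀, hw₀, -⟩ := Scheme.Pullback.exists_preimage_pullback (f := q)
    (g := Spec.map (CommRingCat.ofHom ι)) (g x₀) pr hpr.symm
  obtain ⟨x', hx', -⟩ := Scheme.Pullback.exists_preimage_pullback (f := g)
    (g := Spec.map (CommRingCat.ofHom m)) x₀ (H.isoPullback.inv w₀) (by
      rw [← hw₀, ← H.isoPullback_inv_fst]
      rfl)
  let θc : CommRingCat.of (MvPolynomial (Fin 2) R' ⧸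
      Ideal.span {(MvPolynomial.X 0 * MvPolynomial.X 1 - MvPolynomial.C h₀ : MvPolynomial (Fin 2) R')}) ⟶
      CommRingCat.of (MvPolynomial (Fin 2) R' ⧸ NodeLib7.nodeIdeal (ι a)) := CommRingCat.ofHom θ.toRingHom
  haveI hθe : Etale (Spec.map θc) := by
    rw [HasRingHomProperty.Spec_iff (P := @Etale)]
    exact RingHom.Etale.of_bijective θ.bijective
  refine ⟨R', inferInstance, inferInstance, inferInstance, inferInstance, inferInstance, hirr, MvPolynomial.C h₀,
    hshape.imp (fun h => by rw [h, map_zero]) (fun ⟨n, h⟩ => ⟨n, by rw [h]⟩), U',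
    pullback.fst g (Spec.map (CommRingCat.ofHom m)) ≫ gU, inferInstance, x', ?_,
    pullback.snd g (Spec.map (CommRingCat.ofHom m)) ≫ Spec.map θc, inferInstance, ?_⟩
  · show gU (pullback.fst g (Spec.map (CommRingCat.ofHom m)) x') = x
    rw [hx', ← hx₀]
  · rw [Category.assoc, Category.assoc, hcomm, pullback.condition_assoc, reassoc_of% H.w, ← hφ,
      ← Spec.map_comp, ← Spec.map_comp, ← Spec.map_comp]
    congr 2
    refine CommRingCat.hom_ext (RingHom.ext fun z => ?_)
    exact hθ _

end Groth.Agent.S2227
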