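import Groth.Statements.S15407
import Groth.Agent.Models7.PicClosedFibre
-- import your own Groth.Agent.* helpers here

set_option autoImplicit false
set_option linter.style.haveILetI false
set_option backward.isDefEq.respectTransparency false
universe u
open CategoryTheory CategoryTheory.Limits AlgebraicGeometry
open Models

namespace Groth.Agent.S15407

/-- Let R be a complete discrete valuation ring with algebraically closed residue field k and fraction
field K, C a smooth proper K-scheme of Krull dimension one (a curve) with H⁰(C, O_C) = K and dim_K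
H¹(C, O_C) ≥ 2, X → Spec R a regular proper model of C, X_k = X ×_R Spec k its closed fibre with
inclusion i : X_k → X, and q ≥ 1 an integer which is nonzero in k. Assume the Picard group laws on X
and X_k and that pullback of invertible classes along i is multiplicative. Then (a) the restriction
Pic(X) → Pic(X_k) is surjective, and (b) its kernel N is uniquely q-divisible: for every c in N
there is exactly one d in N with d^q = c. (The published statement introduces N as the kernel of
Pic⁰(X) → Pic⁰(X_k), Pic⁰ denoting the classes of degree 0 on every component of the closed fibre,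
and asserts that this map is surjective; a class trivial on X_k has degree 0 on every component, so
N is the kernel in (b), and (a) is the equivalent surjectivity of the unrestricted map.) -/
theorem result
    (R : Type u) [CommRing R] [IsDomain R] [IsDiscreteValuationRing R]
    [IsAdicComplete (IsLocalRing.maximalIdeal R) R] (hk : IsAlgClosed (IsLocalRing.ResidueField R))
    (C : Scheme.{u}) (fC : C ⟶ Spec (CommRingCat.of (FractionRing R))) [IsProper fC] [Smooth fC]
    (hC0 : Models.hRank (FractionRing R) C fC (Coh.structureModule C) 0 = 1)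
    (hg2 : 2 ≤ Models.curveGenus (FractionRing R) C fC) (hC1 : topologicalKrullDim C = 1)
    (X : Scheme.{u}) (p : X ⟶ Spec (CommRingCat.of R)) (hX : Models.IsRegularProperModel R X p C fC)
    (q : ℕ) (hq : 1 ≤ q) (hqk : (q : IsLocalRing.ResidueField R) ≠ 0)
    [PicGrp.Law X]
    [PicGrp.Law (pullback p (Spec.map (CommRingCat.ofHom (algebraMap R (IsLocalRing.ResidueField R)))))]
    (hi : PicGrp.PullMul (pullback.fst p (Spec.map (CommRingCat.ofHom (algebraMap R (IsLocalRing.ResidueField R)))))) :
    Function.Surjective (PicGrp.pullHom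
        (pullback.fst p (Spec.map (CommRingCat.ofHom (algebraMap R (IsLocalRing.ResidueField R))))) hi) ∧
      ∀ c ∈ (PicGrp.pullHom
          (pullback.fst p (Spec.map (CommRingCat.ofHom (algebraMap R (IsLocalRing.ResidueField R))))) hi).ker,
        ∃! d : PicLoc.PicSet X,
          d ∈ (PicGrp.pullHom
            (pullback.fst p (Spec.map (CommRingCat.ofHom (algebraMap R (IsLocalRing.ResidueField R))))) hi).ker ∧
          d ^ q = c := by
  classical
  haveI : IsProper p := hX.2.1
  haveI : Flat p := hX.1.1
  haveI : IsLocallyNoetherian X := LocallyOfFiniteType.isLocallyNoetherian p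
  have hCint := Groth.Agent.Inters29.isIntegral_of_hRank (FractionRing R) fC hC0
  haveI := hCint
  have hC : Curve.IsSmoothProperCurve (FractionRing R) C fC := ⟨inferInstance, inferInstance, hCint, hC1⟩
  haveI : IsIntegral X := Groth.Agent.Inters29.isIntegral_model R hX.1 hX.2.2
  have hH0 := Groth.Agent.Inters29.isIso_appTop_of_hRank (FractionRing R) fC hC0
  have hqR : IsUnit (q : R) := by
    refine not_not.1 fun hnu => hqk ?_
    rw [← map_natCast (IsLocalRing.residue R)]
    exact Ideal.Quotient.eq_zero_iff_mem.2 hnu
  let i := pullback.fst p (Spec.map (CommRingCat.ofHom (algebraMap R (IsLocalRing.ResidueField R))))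
  haveI hres : IsClosedImmersion (Spec.map (CommRingCat.ofHom (algebraMap R (IsLocalRing.ResidueField R)))) :=
    IsClosedImmersion.spec_of_surjective _ IsLocalRing.residue_surjective
  haveI : IsClosedImmersion i := MorphismProperty.pullback_fst _ _ inferInstance
  -- the closed fibre is a curve
  have hdim : topologicalKrullDim ↥(pullback p (Spec.map (CommRingCat.ofHom (algebraMap R (IsLocalRing.ResidueField R))))) ≤ 1 := by
    obtain ⟨g, hg⟩ := hX.1.2.2.2
    haveI : IsIntegral (Over.mk p).left := inferInstanceAs (IsIntegral X)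
    haveI : Flat (Over.mk p).hom := hX.1.1
    haveI : IsProper (Over.mk p).hom := hX.2.1
    have hd2 : topologicalKrullDim X = 2 := Groth.Agent.Inters29.topologicalKrullDim_eq_two R (X := Over.mk p)
      (Groth.Agent.Inters29.trdAt_genericPoint R (X := Over.mk p) fC hC1 g hg)
    cases isEmpty_or_nonempty ↥(pullback p (Spec.map (CommRingCat.ofHom (algebraMap R (IsLocalRing.ResidueField R))))) with
    | inl h =>
      haveI : IsEmpty (TopologicalSpace.IrreducibleCloseds ↥(pullback p (Spec.map (CommRingCat.ofHom (algebraMap R (IsLocalRing.ResidueField R)))))) :=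
        ⟨fun C => C.isIrreducible.nonempty.elim fun x _ => IsEmpty.false x⟩
      exact (le_of_eq Order.krullDim_eq_bot).trans bot_le
    | inr h =>
      have hgp : p (genericPoint X) ≠ IsLocalRing.closedPoint R :=
        Groth.Agent.Models7.genericPoint_ne_closedPoint (Y := Over.mk p)
      have h1 := Groth.Agent.SDiv28.topologicalKrullDim_add_one_le i.isClosedEmbedding fun d =>
        ⟨genericPoint X, (genericPoint_spec X).specializes (Set.mem_univ _), fun ⟨y, hy⟩ => hgp (by
          rw [← hy, ← Scheme.Hom.comp_apply, pullback.condition, Scheme.Hom.comp_apply]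
          exact Groth.Agent.Models7.specMap_residue_apply R _)⟩
      rw [hd2] at h1
      exact Groth.Agent.Models7.le_one_of_add_one_le_two h1
  have h2 : Subsingleton (Coh.HH (pullback p (Spec.map (CommRingCat.ofHom (algebraMap R (IsLocalRing.ResidueField R))))) (Coh.structureModule _) 2) := by
    letI : (pullback p (Spec.map (CommRingCat.ofHom (algebraMap R (IsLocalRing.ResidueField R))))).Over (Spec (CommRingCat.of (IsLocalRing.ResidueField R))) := ⟨pullback.snd _ _⟩
    haveI : IsProper ((pullback p (Spec.map (CommRingCat.ofHom (algebraMap R (IsLocalRing.ResidueField R))))) ↘ Spec (CommRingCat.of (IsLocalRing.ResidueField R))) :=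
      MorphismProperty.pullback_snd (P := @IsProper) _ _ inferInstance
    exact Groth.Agent.CurveRR24.subsingleton_HH_ge_two (IsLocalRing.ResidueField R) hdim _
      (Groth.Agent.CurveRR24.isQCoh_structure (IsLocalRing.ResidueField R)) Nat.one_lt_two
  refine ⟨fun c => ?_, fun c hc => ?_⟩
  · obtain ⟨L', hL', rfl⟩ := PicGrp.exists_eq_cls c
    obtain ⟨L, hL, he⟩ := Groth.Agent.PicDef15.picPullbackSurjective_closedFibre p h2 L' hL'
    exact ⟨PicGrp.cls L hL, by rw [PicGrp.pullHom_cls, PicGrp.cls_eq_cls_iff]; exact he⟩
  obtain ⟨d, hd, hdq⟩ := Groth.Agent.Models7.exists_root_closedFibre p q hqR (Groth.Agent.Models7.toPicM X c)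
    ((congrArg (Groth.Agent.Models7.toPicM _) (MonoidHom.mem_ker.1 hc)).trans (map_one _))
  obtain ⟨d, rfl⟩ := (Groth.Agent.Models7.toPicM X).surjective d
  have hdker : d ∈ (PicGrp.pullHom i hi).ker := MonoidHom.mem_ker.2
    ((Groth.Agent.Models7.toPicM _).injective (hd.trans (map_one _).symm))
  have hdq' : d ^ q = c := (Groth.Agent.Models7.toPicM X).injective (by rw [map_pow]; exact hdq)
  refine ⟨d, ⟨hdker, hdq'⟩, fun d' hd' => ?_⟩
  obtain ⟨M, hM, hMd⟩ := PicGrp.exists_eq_cls (d' * d⁻¹)
  have hMker : PicGrp.cls M hM ∈ (PicGrp.pullHom i hi).ker := hMd ▸ mul_mem hd'.1 (inv_mem hdker)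
  have hMq : PicGrp.cls M hM ^ q = 1 := by rw [← hMd, mul_pow, inv_pow, hd'.2, hdq', mul_inv_cancel]
  have htors : Nonempty (CohB1.tensorPow M q ≅ Coh.structureModule X) := by
    rw [← PicGrp.cl_eq_cl_iff, ← PicGrp.cls_pow_val hM, hMq, PicGrp.one_val]
  have hpull : Nonempty ((Scheme.Modules.pullback i).obj M ≅ Coh.structureModule _) := by
    have h := MonoidHom.mem_ker.1 hMker
    rwa [PicGrp.pullHom_cls, PicGrp.cls_eq_one_iff] at h
  have hchar : ∀ r : ℕ, r.Prime → CharP (IsLocalRing.ResidueField R) r → ¬ r ∣ q := fun r _ hr hdvd => hqk (by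
    haveI := hr
    exact (CharP.cast_eq_zero_iff (IsLocalRing.ResidueField R) r q).2 hdvd)
  have htriv := Groth.Agent.Models7.trivial_redFibre_of_closedFibre R p M hpull
  have hM1 : PicGrp.cls M hM = 1 :=
    (PicGrp.cls_eq_one_iff hM).2 (Groth.Agent.Models7.torsion_trivial hC hH0 hX hq hchar hM htors htriv)
  exact mul_inv_eq_one.1 (hMd.trans hM1)

end Groth.Agent.S15407
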