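import Groth.Statements.S4585
import Mathlib
import Groth.Agent.EGA43.FlatDescent.GenFreeGeneral

set_option autoImplicit false
set_option backward.isDefEq.respectTransparency.types false
universe u
open scoped TensorProduct
open AlgebraicGeometry CategoryTheory
open EGA41

namespace Groth.Agent.S4585

/-- The image of a finite type injective map of domains contains a nonempty basic open set. -/
theorem exists_basicOpen_subset_range {R T : Type u} [CommRing R] [IsDomain R] [CommRing T]
    [Algebra R T] [Algebra.FiniteType R T] (hinj : Function.Injective (algebraMap R T)) :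
    ∃ a : R, a ≠ 0 ∧ (PrimeSpectrum.basicOpen a : Set (PrimeSpectrum R)) ⊆ Set.range (PrimeSpectrum.comap (algebraMap R T)) := by
  obtain ⟨a, ha, hfree⟩ := (Groth.Agent.EGA43.FlatDescent.gFree_general (R := R) (S := T) (M := T)).1
  refine ⟨a, ha, fun r hr ↦ ?_⟩
  let L := Localization.Away a
  have : IsDomain L := IsLocalization.isDomain_localization (powers_le_nonZeroDivisors_of_noZeroDivisors ha)
  have : Module.Free L (L ⊗[R] T) := hfree
  have hinj' : Function.Injective (algebraMap L (L ⊗[R] T)) := by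
    have := Module.Flat.lTensor_preserves_injective_linearMap (M := L) (Algebra.linearMap R T) hinj
    intro u v huv
    refine (TensorProduct.rid R L).symm.injective (this ?_)
    show (u ⊗ₜ[R] algebraMap R T 1 : L ⊗[R] T) = v ⊗ₜ[R] algebraMap R T 1
    rw [map_one]
    exact huv
  have : Nontrivial (L ⊗[R] T) := hinj'.nontrivial
  have : Module.FaithfullyFlat L (L ⊗[R] T) := inferInstance
  obtain ⟨l, rfl⟩ : r ∈ Set.range (PrimeSpectrum.comap (algebraMap R L)) := by
    rwa [PrimeSpectrum.localization_away_comap_range L a]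
  obtain ⟨w, rfl⟩ := PrimeSpectrum.comap_surjective_of_faithfullyFlat (B := L ⊗[R] T) l
  refine ⟨w.comap (Algebra.TensorProduct.includeRight (R := R) (A := L) (B := T)).toRingHom, ?_⟩
  simp only [← PrimeSpectrum.comap_comp_apply]
  congr 1
  ext y
  exact ((Algebra.TensorProduct.includeRight (R := R) (A := L) (B := T)).commutes y).trans
    (IsScalarTower.algebraMap_apply R L (L ⊗[R] T) y)

/-- Let Y be an irreducible scheme with generic point η and f : X → Y locally of finite type with
nonempty fibre over η. Then some open neighbourhood of η is contained in f(X). (The second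
assertion, on fibres of a quasi-coherent module of finite type, is not stated.) -/
theorem result {X Y : Scheme.{u}} (f : X ⟶ Y)
    [LocallyOfFiniteType f] [IrreducibleSpace Y] (h : genericPoint Y ∈ Set.range f.base) :
    genericPoint Y ∈ interior (Set.range f.base) := by
  obtain ⟨x, hx⟩ := h
  obtain ⟨_, ⟨V, hV, rfl⟩, hηV, -⟩ :=
    Y.isBasis_affineOpens.exists_subset_of_mem_open (Set.mem_univ (genericPoint Y)) isOpen_univ
  obtain ⟨_, ⟨U, hU, rfl⟩, hxU, hUV⟩ :=
    X.isBasis_affineOpens.exists_subset_of_mem_open (show x ∈ (f ⁻¹ᵁ V : Set X) by simpa [hx] using hηV) (f ⁻¹ᵁ V).isOpen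
  have e : U ≤ f ⁻¹ᵁ V := hUV
  let φ := f.appLE V U e
  have hφ : φ.hom.FiniteType := HasRingHomProperty.appLE (P := @LocallyOfFiniteType) f inferInstance ⟨V, hV⟩ ⟨U, hU⟩ e
  have hsq : Spec.map φ ≫ hV.fromSpec = hU.fromSpec ≫ f := hV.SpecMap_appLE_fromSpec f hU e
  obtain ⟨q, hq⟩ : x ∈ Set.range hU.fromSpec := by rwa [hU.range_fromSpec]
  obtain ⟨p, hp⟩ : genericPoint Y ∈ Set.range hV.fromSpec := by rwa [hV.range_fromSpec]
  have hqp : Spec.map φ q = p := hV.fromSpec.isOpenEmbedding.injective (by
    rw [← Scheme.Hom.comp_apply, hsq, Scheme.Hom.comp_apply, hq, hx, hp])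
  have hmin : ∀ p' : PrimeSpectrum Γ(Y, V), p.asIdeal ≤ p'.asIdeal := fun p' ↦
    (PrimeSpectrum.le_iff_specializes p p').mpr
      (hV.fromSpec.isOpenEmbedding.isInducing.specializes_iff.mp (hp ▸ (genericPoint_specializes _)))
  let R := Γ(Y, V) ⧸ p.asIdeal
  let T := Γ(X, U) ⧸ q.asIdeal
  let : Algebra R T := (Ideal.quotientMap q.asIdeal φ.hom (le_of_eq (congrArg PrimeSpectrum.asIdeal hqp).symm)).toAlgebra
  have hinj : Function.Injective (algebraMap R T) :=
    Ideal.quotientMap_injective' (le_of_eq (congrArg PrimeSpectrum.asIdeal hqp))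
  have : Algebra.FiniteType R T := by
    have h1 : ((Ideal.Quotient.mk q.asIdeal).comp φ.hom).FiniteType :=
      (RingHom.FiniteType.of_surjective _ Ideal.Quotient.mk_surjective).comp hφ
    exact RingHom.FiniteType.of_comp_finiteType (f := Ideal.Quotient.mk p.asIdeal) (g := algebraMap R T) h1
  obtain ⟨a, ha, hrange⟩ := exists_basicOpen_subset_range hinj
  obtain ⟨a', rfl⟩ := Ideal.Quotient.mk_surjective a
  refine mem_interior.mpr ⟨hV.fromSpec '' (PrimeSpectrum.basicOpen a' : Set (PrimeSpectrum Γ(Y, V))), ?_, ?_, ⟨p, ?_, hp⟩⟩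
  · rintro _ ⟨p', hp', rfl⟩
    change PrimeSpectrum Γ(Y, V) at p'
    obtain ⟨r, hr⟩ : p' ∈ Set.range (PrimeSpectrum.comap (Ideal.Quotient.mk p.asIdeal)) := by
      rw [range_comap_of_surjective _ _ Ideal.Quotient.mk_surjective, PrimeSpectrum.mem_zeroLocus, Ideal.mk_ker]
      exact hmin p'
    obtain ⟨w, hw⟩ := hrange (show r ∈ (PrimeSpectrum.basicOpen (Ideal.Quotient.mk p.asIdeal a') : Set (PrimeSpectrum R)) by
      intro hc; exact hp' (by rw [← hr]; exact hc))
    refine ⟨hU.fromSpec (w.comap (Ideal.Quotient.mk q.asIdeal)), ?_⟩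
    rw [← Scheme.Hom.comp_apply, ← hsq, Scheme.Hom.comp_apply]
    congr 1
    rw [← hr, ← hw]
    show (w.comap _).comap φ.hom = _
    simp only [← PrimeSpectrum.comap_comp_apply]
    congr 1
  · exact hV.fromSpec.isOpenEmbedding.isOpenMap _ (PrimeSpectrum.basicOpen a').isOpen
  · intro hc
    exact ha (Ideal.Quotient.eq_zero_iff_mem.mpr hc)

end Groth.Agent.S4585
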