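import Groth.Statements.S15013
import Groth.Agent.DimLib.Tensor
import Mathlib.Algebra.Homology.DerivedCategory.Ext.EnoughProjectives
import Mathlib.CategoryTheory.Abelian.Injective.Dimension
import Mathlib.Algebra.Category.ModuleCat.Projective
import Mathlib.Algebra.Homology.DerivedCategory.Ext.ExactSequences
import Mathlib.Algebra.Homology.ShortComplex.ModuleCat
-- import your own Groth.Agent.* helpers here

set_option autoImplicit false
set_option backward.isDefEq.respectTransparency false
universe u
open CategoryTheory
open TFCurv

namespace Groth.Agent.S15013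

/-- Let O be a one-dimensional Noetherian local domain with algebraically closed residue field whose
integral closure O~ in its fraction field K is a finite O-module, and let w be a canonical ideal of
O, taken here as a nonzero finitely generated O-submodule of K whose injective dimension as an
O-module is at most one. Then Ext^i_O(M, w) vanishes for all i ≥ 1 and every finitely generated
torsion-free O-module M. -/
theorem result (O : Type u) [CommRing O] [IsDomain O] [IsNoetherianRing O] [IsLocalRing O] (hdim : ringKrullDim O = 1) [IsAlgClosed (IsLocalRing.ResidueField O)] (K : Type u) [Field K] [Algebra O K] [IsFractionRing O K] (hfin : Module.Finite O ↥(integralClosure O K)) (ω : Submodule O K) (hω0 : ω ≠ ⊥) (hωfg : ω.FG) (hωinj : HasInjectiveDimensionLT (ModuleCat.of O ↥ω) 2) (M : Type u) [AddCommGroup M] [Module O M] [Module.Finite O M] [NoZeroSMulDivisors O M] (i : ℕ) (hi : 1 ≤ i) : Subsingleton (Abelian.Ext (ModuleCat.of O M) (ModuleCat.of O ↥ω) i) := by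
  haveI : HasInjectiveDimensionLT (ModuleCat.of O ↥ω) 2 := hωinj
  by_cases h2 : 2 ≤ i
  · exact HasInjectiveDimensionLT.subsingleton (ModuleCat.of O ↥ω) 2 i h2 _
  obtain rfl : i = 1 := by omega
  haveI : Module.IsTorsionFree O M := inferInstance
  obtain ⟨r, ι, hι⟩ := Groth.Agent.DimLib.exists_injective_pi O M
  let S : ShortComplex (ModuleCat.{u} O) := ShortComplex.mk (ModuleCat.ofHom ι)
    (ModuleCat.ofHom (LinearMap.range ι).mkQ) (by
      ext m
      exact (Submodule.Quotient.mk_eq_zero _).2 ⟨m, rfl⟩)
  have hS : S.ShortExact :=
    { exact := by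
        rw [ShortComplex.moduleCat_exact_iff]
        intro x hx
        obtain ⟨m, hm⟩ := (Submodule.Quotient.mk_eq_zero _).1 hx
        exact ⟨m, hm⟩
      mono_f := (ModuleCat.mono_iff_injective _).2 hι
      epi_g := (ModuleCat.epi_iff_surjective _).2 (Submodule.mkQ_surjective _) }
  refine subsingleton_of_forall_eq 0 fun x => ?_
  haveI hs2 : Subsingleton (Abelian.Ext S.X₃ (ModuleCat.of O ↥ω) 2) :=
    HasInjectiveDimensionLT.subsingleton (ModuleCat.of O ↥ω) 2 2 le_rfl _
  obtain ⟨y, rfl⟩ := Abelian.Ext.contravariant_sequence_exact₁ hS (ModuleCat.of O ↥ω) x (n₁ := 2) rfl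
    (Subsingleton.elim _ _)
  haveI : Projective S.X₂ := inferInstanceAs (Projective (ModuleCat.of O (Fin r → O)))
  rw [y.eq_zero_of_projective, Abelian.Ext.comp_zero]

end Groth.Agent.S15013
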