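import Mathlib.RingTheory.AdicCompletion.Algebra
import Mathlib.RingTheory.AdicCompletion.Basic
import Mathlib.RingTheory.Noetherian.Defs
import Mathlib.RingTheory.AdicCompletion.LocalRing
import Mathlib.RingTheory.KrullDimension.Basic
import Mathlib.RingTheory.DiscreteValuationRing.Basic
import Groth.Agent.CAlgMisc2.DVRCrit
import Groth.Agent.CommAlg6.CompletionEquidim

set_option autoImplicit false
universe u
namespace CAlg
end CAlg
open CAlg

namespace Groth.Agent.S0549

/-- A Noetherian local ring is a discrete valuation ring exactly when its completion at the maximal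
ideal is a discrete valuation ring. -/
theorem result (A : Type u) [CommRing A] [IsLocalRing A]
    [IsNoetherianRing A] :
    (∃ _ : IsDomain A, IsDiscreteValuationRing A) ↔
      ∃ _ : IsDomain (AdicCompletion (IsLocalRing.maximalIdeal A) A),
        IsDiscreteValuationRing (AdicCompletion (IsLocalRing.maximalIdeal A) A) := by
  haveI := Groth.Agent.Matlis6.isNoetherianRing_adicCompletion (IsLocalRing.maximalIdeal A)
  rw [Groth.Agent.CAlgMisc2.dvr_iff, Groth.Agent.CAlgMisc2.dvr_iff, AdicCompletion.spanFinrank_maximalIdeal_eq,
    Groth.Agent.CommAlg6.ringKrullDim_completion]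

end Groth.Agent.S0549
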