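import Groth.Statements.S7657
import Groth.Agent.VarietyLib.NormStalk
import Groth.Agent.VarietyLib.NormRedLocal
import Mathlib

set_option autoImplicit false
universe u
open CategoryTheory CategoryTheory.Limits AlgebraicGeometry
open Variety

namespace Groth.Agent.S7657

open Groth.Agent.VarietyLib

/-- A sum of nonzero cardinalities. -/
theorem enat_card_sigma {ι : Type u} (β : ι → Type u) (h : ∀ i, Nonempty (β i)) :
    ENat.card (Sigma β) = ∑' i, ENat.card (β i) := by
  classical
  by_cases hι : Finite ι
  · haveI := Fintype.ofFinite ι
    rw [tsum_fintype]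
    by_cases hβ : ∀ i, Finite (β i)
    · haveI := hβ
      haveI : ∀ i, Fintype (β i) := fun i => Fintype.ofFinite (β i)
      simp only [ENat.card_eq_coe_fintype_card, Fintype.card_sigma]
      push_cast
      rfl
    · push_neg at hβ
      obtain ⟨i, hi⟩ := hβ
      haveI : Infinite (β i) := hi
      haveI : Infinite (Sigma β) := Infinite.of_injective (Sigma.mk i) sigma_mk_injective
      rw [ENat.card_eq_top_of_infinite]
      refine (top_le_iff.1 ?_).symm
      calc (⊤ : ℕ∞) = ENat.card (β i) := (ENat.card_eq_top_of_infinite (α := β i)).symm
        _ ≤ _ := Finset.single_le_sum (f := fun j => ENat.card (β j)) (fun _ _ => bot_le) (Finset.mem_univ i)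
  · haveI : Infinite ι := not_finite_iff_infinite.1 hι
    haveI : Infinite (Sigma β) :=
      Infinite.of_injective (fun i => (⟨i, (h i).some⟩ : Sigma β)) fun a b e => congrArg Sigma.fst e
    rw [ENat.card_eq_top_of_infinite]
    refine (HasSum.tsum_eq ?_).symm
    refine ENat.tendsto_nhds_top_iff_natCast_lt.2 fun n => ?_
    obtain ⟨s, hs⟩ := Infinite.exists_subset_card_eq ι (n + 1)
    filter_upwards [Filter.eventually_ge_atTop s] with t hst
    calc (n : ℕ∞) < ((n + 1 : ℕ) : ℕ∞) := by exact_mod_cast Nat.lt_succ_self n
      _ = ∑ _i ∈ s, (1 : ℕ∞) := by rw [← hs]; simp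
      _ ≤ ∑ i ∈ s, ENat.card (β i) := Finset.sum_le_sum fun i _ => by
        haveI := h i
        exact (ENat.one_le_card_iff_nonempty _).2 (h i)
      _ ≤ ∑ i ∈ t, ENat.card (β i) := Finset.sum_le_sum_of_subset hst

/-- Maximal spectra of isomorphic rings. -/
noncomputable def maxEquiv {A B : Type u} [CommRing A] [CommRing B] (e : A ≃+* B) :
    MaximalSpectrum B ≃ MaximalSpectrum A where
  toFun m := ⟨m.asIdeal.comap e.toRingHom, by
    haveI := m.isMaximal; exact Ideal.comap_isMaximal_of_surjective _ e.surjective⟩
  invFun m := ⟨m.asIdeal.comap e.symm.toRingHom, by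
    haveI := m.isMaximal; exact Ideal.comap_isMaximal_of_surjective _ e.symm.surjective⟩
  left_inv m := MaximalSpectrum.ext (Ideal.ext fun a => by
    show e (e.symm a) ∈ m.asIdeal ↔ _
    rw [e.apply_symm_apply])
  right_inv m := MaximalSpectrum.ext (Ideal.ext fun a => by
    show e.symm (e a) ∈ m.asIdeal ↔ _
    rw [e.symm_apply_apply])

/-- Branch embeddings through a residue map. -/
noncomputable def embEquiv {O : Type u} [CommRing O] [IsLocalRing O] (m : MaximalSpectrum (CAlg2.normRed O))
    {L : Type u} [CommRing L] (Θ : CAlg2.normRed O →+* L) (hs : Function.Surjective Θ)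
    (hk : RingHom.ker Θ = m.asIdeal) (ρ : IsLocalRing.ResidueField O →+* L)
    (hρ : ∀ o, Θ (algebraMap (CAlg2.red O) (CAlg2.normRed O) (Ideal.Quotient.mk _ o)) =
      ρ (IsLocalRing.residue O o)) :
    letI := ρ.toAlgebra
    Brnch.Emb O m ≃ (L →ₐ[IsLocalRing.ResidueField O] AlgebraicClosure (IsLocalRing.ResidueField O)) :=
  letI := ρ.toAlgebra
  let ε : CAlg2.normRed O ⧸ m.asIdeal ≃+* L :=
    (Ideal.quotEquivOfEq hk.symm).trans (RingHom.quotientKerEquivOfSurjective hs)
  have hε : ∀ o, ε (Brnch.toResidue O m o) = ρ (IsLocalRing.residue O o) := fun o => (hρ o)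
  { toFun := fun σ =>
      { toRingHom := σ.1.comp ε.symm.toRingHom
        commutes' := fun f => by
          obtain ⟨o, rfl⟩ := IsLocalRing.residue_surjective f
          show σ.1 (ε.symm (ρ (IsLocalRing.residue O o))) = _
          rw [← hε o, ε.symm_apply_apply]
          exact congrArg (fun F : O →+* _ => F o) σ.2 }
    invFun := fun τ => ⟨τ.toRingHom.comp ε.toRingHom, RingHom.ext fun o => by
      show τ (ε (Brnch.toResidue O m o)) = _
      rw [hε o]
      exact τ.commutes (IsLocalRing.residue O o)⟩
    left_inv := fun σ => Subtype.ext (RingHom.ext fun a => congrArg σ.1 (ε.symm_apply_apply a))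
    right_inv := fun τ => AlgHom.ext fun a => congrArg τ (ε.apply_symm_apply a) }

/-- For an integral scheme X with normalization ν : X^ν → X and a point x: (1) X has as many branches at
x as there are points of X^ν lying over x; (2) counted geometrically, the branches of X at x number
Σ_{ν(x') = x} [κ(x') : κ(x)]_s, the separable degree being counted as the number of κ(x)-embeddings
of κ(x') into an algebraic closure. (The published statement allows any scheme each of whose
quasi-compact opens meets only finitely many irreducible components; this row takes X integral.) -/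
theorem result (X : Scheme.{u}) [IsIntegral X]
    [QuasiCompact (X.fromSpecStalk (genericPoint X))] [QuasiSeparated (X.fromSpecStalk (genericPoint X))]
    (x : X) :
    Brnch.numBranchesAt X x =
        ENat.card {x' : ↥(Curv2.normalization X) // (Curv2.normalizationι X).base x' = x} ∧
      Brnch.numGeomBranchesAt X x =
        ∑' x' : {x' : ↥(Curv2.normalization X) // (Curv2.normalizationι X).base x' = x},
          (letI := ((Curv2.normalizationι X).residueFieldMap x'.1).hom.toAlgebra
           ENat.card (Field.Emb (X.residueField ((Curv2.normalizationι X).base x'.1))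
             ((Curv2.normalization X).residueField x'.1))) := by
  have hfin : (minimalPrimes (X.presheaf.stalk x)).Finite := by
    rw [IsDomain.minimalPrimes_eq_singleton_bot]; exact Set.finite_singleton _
  let e := normRedEquiv (X.presheaf.stalk x) X.functionField
  let Φ : {x' : ↥(Curv2.normalization X) // (Curv2.normalizationι X).base x' = x} ≃
      MaximalSpectrum (CAlg2.normRed (X.presheaf.stalk x)) :=
    (Equiv.ofBijective _ (NormStalk.fibreToMax_bijective x)).trans (maxEquiv e)
  refine ⟨?_, ?_⟩
  · rw [Brnch.numBranchesAt, Brnch.numBranches, if_pos hfin]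
    exact ENat.card_congr Φ.symm
  · rw [Brnch.numGeomBranchesAt, Brnch.numGeomBranches, if_pos hfin]
    have key : ∀ p : {x' : ↥(Curv2.normalization X) // (Curv2.normalizationι X).base x' = x},
        letI := ((Curv2.normalizationι X).residueFieldMap p.1).hom.toAlgebra
        Nonempty (Brnch.Emb (X.presheaf.stalk x) (Φ p) ≃
          Field.Emb (X.residueField ((Curv2.normalizationι X).base p.1))
            ((Curv2.normalization X).residueField p.1)) ∧
        Nonempty (Field.Emb (X.residueField ((Curv2.normalizationι X).base p.1))
            ((Curv2.normalization X).residueField p.1)) := by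
      rintro ⟨x', rfl⟩
      let ν := Curv2.normalizationι X
      let Θ := (NormStalk.theta (ν x') x' rfl).comp e.toRingHom
      let ρ := (ν.residueFieldMap x').hom
      letI : Algebra (IsLocalRing.ResidueField (X.presheaf.stalk (ν x')))
          ((Curv2.normalization X).residueField x') := ρ.toAlgebra
      have hρ : ∀ o, Θ (algebraMap (CAlg2.red _) (CAlg2.normRed _) (Ideal.Quotient.mk _ o)) =
          ρ (IsLocalRing.residue (X.presheaf.stalk (ν x')) o) := by
        intro o
        show NormStalk.theta (ν x') x' rfl (e _) = _
        rw [normRedEquiv_mk]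
        show (Curv2.normalization X).residue x' (NormStalk.lam (ν x') x' rfl _) = _
        have h2 : ρ (IsLocalRing.residue (X.presheaf.stalk (ν x')) o) =
            (Curv2.normalization X).residue x' (ν.stalkMap x' o) :=
          ConcreteCategory.congr_hom (Scheme.residue_residueFieldMap ν x') o
        rw [h2]
        congr 1
        obtain ⟨W, hW, a, rfl⟩ := X.presheaf.exists_germ_eq o
        rw [NormStalk.lam_algebraMap (ν x') x' rfl hW hW, Scheme.Hom.germ_stalkMap_apply]
      have hs : Function.Surjective Θ := (NormStalk.theta_surjective (ν x') x' rfl).comp e.surjective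
      haveI hint : Algebra.IsIntegral (IsLocalRing.ResidueField (X.presheaf.stalk (ν x')))
          ((Curv2.normalization X).residueField x') := ⟨fun r => by
        obtain ⟨c, rfl⟩ := NormStalk.theta_surjective (ν x') x' rfl r
        obtain ⟨q, hq, hqc⟩ := c.2
        refine ⟨q.map (IsLocalRing.residue _), hq.map _, ?_⟩
        have e1 : (algebraMap (IsLocalRing.ResidueField (X.presheaf.stalk (ν x')))
            ((Curv2.normalization X).residueField x')).comp (IsLocalRing.residue _) =
            (NormStalk.theta (ν x') x' rfl).comp (algebraMap _ (NormStalk.clo X (ν x'))) := by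
          refine RingHom.ext fun o => ?_
          refine ((hρ o).symm.trans ?_)
          show NormStalk.theta (ν x') x' rfl (e _) = _
          rw [normRedEquiv_mk]; rfl
        rw [Polynomial.eval₂_map, e1, ← Polynomial.hom_eval₂]
        have e2 : Polynomial.eval₂ (algebraMap _ (NormStalk.clo X (ν x'))) c q = 0 := by
          apply Subtype.val_injective
          refine (Polynomial.hom_eval₂ q _ (NormStalk.clo X (ν x')).val.toRingHom c).trans ?_
          exact hqc
        rw [e2, map_zero]⟩
      haveI : Algebra.IsAlgebraic (IsLocalRing.ResidueField (X.presheaf.stalk (ν x')))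
          ((Curv2.normalization X).residueField x') := ⟨fun r => (hint.1 r).isAlgebraic⟩
      letI : Algebra (X.residueField ((Curv2.normalizationι X).base x'))
          ((Curv2.normalization X).residueField x') := ρ.toAlgebra
      have hal : Algebra.IsAlgebraic (X.residueField ((Curv2.normalizationι X).base x'))
          ((Curv2.normalization X).residueField x') := ⟨fun r => (hint.1 r).isAlgebraic⟩
      haveI := hal
      refine ⟨⟨(embEquiv (Φ ⟨x', rfl⟩) Θ hs rfl ρ hρ).trans
        (Field.embEquivOfIsAlgClosed (X.residueField ((Curv2.normalizationι X).base x'))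
          ((Curv2.normalization X).residueField x')
          (AlgebraicClosure (X.residueField ((Curv2.normalizationι X).base x')))).symm⟩, ?_⟩
      exact ⟨IsAlgClosed.lift⟩
    letI alg := fun p : {x' : ↥(Curv2.normalization X) // (Curv2.normalizationι X).base x' = x} =>
      ((Curv2.normalizationι X).residueFieldMap p.1).hom.toAlgebra
    rw [← enat_card_sigma _ fun p => (key p).2]
    exact ENat.card_congr (Equiv.sigmaCongr Φ fun p => ((key p).1).some.symm).symm

end Groth.Agent.S7657
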