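import Groth.Statements.S13421
import Groth.Agent.NeronLib.Restrict
open Groth.Agent.NeronLib CategoryTheory CategoryTheory.Limits AlgebraicGeometry

set_option autoImplicit false
universe u
open CategoryTheory AlgebraicGeometry
open NeronHD

namespace Groth.Agent.S13421

lemma smooth_of_comp_etale {X Y T : Scheme.{u}} (a : X ⟶ Y) (f : Y ⟶ T) [Etale f] (z : X ⟶ T) (hz : a ≫ f = z)
    [Smooth z] : Smooth a := by
  let γ : X ⟶ pullback z f := pullback.lift (𝟙 X) a ((Category.id_comp _).trans hz.symm)
  have h1 : Etale (γ ≫ pullback.fst z f) := by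
    rw [show γ ≫ pullback.fst z f = 𝟙 X from pullback.lift_fst _ _ _]
    infer_instance
  have : Etale γ := Etale.of_comp γ (pullback.fst z f)
  rw [show a = γ ≫ pullback.snd z f from (pullback.lift_snd _ _ _).symm]
  infer_instance


/-- Let T be a locally Noetherian scheme over a field of characteristic 0 and T₀ ⊆ T a
scheme-theoretically dense open. Let f : S → T be étale and such that S, viewed as a T-scheme, has
the Néron mapping property for T₀ ⊆ T, and let g : N → S be smooth and such that N, viewed as an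
S-scheme, has the Néron mapping property for f⁻¹(T₀) ⊆ S (restriction of morphisms from smooth
schemes over the base is bijective). Then N → T, the composite g ≫ f, has the Néron mapping property
for T₀ ⊆ T. (Case of schemes, with smooth test schemes, of a statement about algebraic spaces.) -/
theorem result {k : Type u} [Field k] [CharZero k] {T : Scheme.{u}} (τ : T ⟶ Spec (CommRingCat.of k)) [IsLocallyNoetherian T] (T₀ : T.Opens) (hT₀ : CInt.IsSchematicallyDense T₀)
    {S N : Scheme.{u}} (f : S ⟶ T) [Etale f] (g : N ⟶ S) [Smooth g]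
    (hS : ∀ Z : Over T, Smooth Z.hom → Function.Bijective (fun g : Z ⟶ Over.mk f => (Over.pullback T₀.ι).map g))
    (hN : ∀ Z : Over S, Smooth Z.hom → Function.Bijective (fun g : Z ⟶ Over.mk g => (Over.pullback (f ⁻¹ᵁ T₀).ι).map g)) :
    ∀ Z : Over T, Smooth Z.hom → Function.Bijective (fun g : Z ⟶ Over.mk (g ≫ f) => (Over.pullback T₀.ι).map g) := by
  intro Z hZ
  have hP := IsPullback.of_hasPullback Z.hom T₀.ι
  rw [bijective_map_iff _ hP]
  intro h hh
  obtain ⟨a, ha, hau⟩ := (bijective_map_iff _ hP).1 (hS Z hZ) (h ≫ g) ((Category.assoc _ _ _).trans hh)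
  let ZS : Over S := Over.mk a.left
  have haw : a.left ≫ f = Z.hom := Over.w a
  have hsm : Smooth ZS.hom := smooth_of_comp_etale a.left f Z.hom haw
  -- the square over the preimage
  have hR := isPullback_morphismRestrict f T₀
  let q : pullback Z.hom T₀.ι ⟶ (f ⁻¹ᵁ T₀ : Scheme.{u}) :=
    hR.lift (pullback.snd Z.hom T₀.ι) (pullback.fst Z.hom T₀.ι ≫ a.left)
      (by rw [Category.assoc, haw, pullback.condition])
  have hbig : IsPullback (pullback.fst Z.hom T₀.ι) (q ≫ f ∣_ T₀) (a.left ≫ f) T₀.ι := by
    rw [haw, IsPullback.lift_fst]; exact hP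
  have hPS : IsPullback (pullback.fst Z.hom T₀.ι) q ZS.hom (f ⁻¹ᵁ T₀).ι :=
    IsPullback.of_bot hbig (IsPullback.lift_snd _ _ _ _).symm hR.flip
  obtain ⟨b, hb, hbu⟩ := (bijective_map_iff _ hPS).1 (hN ZS hsm) h ha.symm
  have hbw : b.left ≫ g = a.left := Over.w b
  refine ⟨Over.homMk b.left (by show b.left ≫ g ≫ f = Z.hom; rw [reassoc_of% hbw, haw]), hb, fun c hc => ?_⟩
  have hca : c.left ≫ g = a.left := congrArg (fun t => t.left) (hau (Over.homMk (c.left ≫ g)
    ((Category.assoc _ _ _).trans (Over.w c))) ((Category.assoc _ _ _).symm.trans (congrArg (· ≫ g) hc)))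
  have h4 := hbu (Over.homMk c.left hca) hc
  exact Over.OverMorphism.ext (congrArg (fun t => t.left) h4)

end Groth.Agent.S13421
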