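import Groth.Statements.S5403
import Groth.Agent.S3039
import Groth.Agent.SGA3cLib.NeutralOrbit

set_option autoImplicit false
universe u
open CategoryTheory CategoryTheory.Limits MonoidalCategory CartesianMonoidalCategory MonObj GrpObj AlgebraicGeometry
open SGA3

namespace Groth.Agent.S5403

/-- Let G be a group scheme over a field k (not assumed of finite type) acting on a quasi-separated
k-scheme X so that G ×_k X → X ×_k X, (g, x) ↦ (gx, x), is surjective, and let x be a k-rational
point of X and C the connected component of X containing x. Then the orbit morphism g ↦ g·x maps the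
irreducible component of G containing the unit point (the underlying set of the neutral component
G⁰) onto C, and for every field extension K of k the inverse image of C in X ⊗_k K is irreducible. -/
theorem result (k : Type u) [Field k] (G X : Over (Spec (CommRingCat.of k)))
    [GrpObj G] [QuasiSeparatedSpace X.left] (a : AlgGrp.Action G X) (hΦ : Surjective (lift a.act (snd G X)).left)
    (x : 𝟙_ (Over (Spec (CommRingCat.of k))) ⟶ X) (pt : ↥(𝟙_ (Over (Spec (CommRingCat.of k)))).left)
    (C0 : Set G.left) (hC0 : C0 ∈ irreducibleComponents ↥G.left) (he : η[G].left.base pt ∈ C0) :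
    (a.orbitMap x).left.base '' C0 = connectedComponent (x.left.base pt) ∧
    ∀ (K : Type u) [Field K] [Algebra k K],
      IsIrreducible ((pullback.fst X.hom (Spec.map (CommRingCat.ofHom (algebraMap k K)))).base ⁻¹' connectedComponent (x.left.base pt)) := by
  obtain ⟨θ, hθ, rfl⟩ := VarietyLib.exists_genericPoint_of_component hC0
  rw [Subsingleton.elim (α := ↥(Spec (CommRingCat.of k))) pt (IsLocalRing.closedPoint k)] at he ⊢
  have hθe := specializes_iff_mem_closure.2 he
  set x₀ := x.left.base (IsLocalRing.closedPoint k)
  obtain ⟨ξ, hξ, hξx⟩ := VarietyLib.exists_genericPoints_specializes x₀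
  have hC := S3039.connectedComponent_eq k G X a hΦ x₀ ξ hξ hξx
  refine ⟨?_, fun K _ _ => ?_⟩
  · let t : G ⟶ G ⊗ X := lift (𝟙 G) (toUnit G ≫ x)
    have ht1 : ∀ g, (fst G X).left.base (t.left.base g) = g := fun g => by
      change (t ≫ fst G X).left.base g = g
      rw [lift_fst]; rfl
    have ht2 : ∀ g, (snd G X).left.base (t.left.base g) = x₀ := fun g => by
      change (t ≫ snd G X).left.base g = x₀
      rw [lift_snd]
      exact congrArg x.left.base (Subsingleton.elim (α := ↥(Spec (CommRingCat.of k))) _ _)
    apply Set.Subset.antisymm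
    · rintro _ ⟨g, hg, rfl⟩
      obtain ⟨ζ, hζ, hζv⟩ := VarietyLib.exists_genericPoints_specializes ((a.orbitMap x).left.base g)
      rw [hC, ← specializes_iff_mem_closure,
        SGA3cLib.eq_of_act a hΦ hθ hθe (t.left.base g) (by rw [ht1]; exact specializes_iff_mem_closure.2 hg)
          hξ hζ (by rw [ht2]; exact hξx) hζv]
      exact hζv
    · intro v hv
      rw [hC, ← specializes_iff_mem_closure] at hv
      obtain ⟨w₁, ha1, hb1, hc1⟩ := SGA3cLib.exists_orbit_point a hΦ hθ hθe hξ hξx
      obtain ⟨w₂, ha2, hb2, hc2⟩ := SGA3cLib.exists_orbit_point a hΦ hθ hθe hξ hv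
      obtain ⟨P, hP1, hP2⟩ := Scheme.Pullback.exists_preimage_pullback (f := a.act.left) (g := a.act.left)
        w₁ w₂ (hc1.trans hc2.symm)
      let L := AlgebraicClosure ((pullback a.act.left a.act.left).residueField P)
      let q : Spec (CommRingCat.of L) ⟶ pullback a.act.left a.act.left :=
        Spec.map (CommRingCat.ofHom (algebraMap ((pullback a.act.left a.act.left).residueField P) L)) ≫
          (pullback a.act.left a.act.left).fromSpecResidueField P
      have hq : q.base (IsLocalRing.closedPoint L) = P :=
        ((pullback a.act.left a.act.left).range_fromSpecResidueField P).le ⟨_, rfl⟩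
      let T := Over.mk (q ≫ pullback.fst a.act.left a.act.left ≫ (G ⊗ X).hom)
      let pl : ↥T.left := IsLocalRing.closedPoint L
      let v₁ : T ⟶ G ⊗ X := Over.homMk (q ≫ pullback.fst a.act.left a.act.left) (Category.assoc _ _ _)
      let v₂ : T ⟶ G ⊗ X := Over.homMk (q ≫ pullback.snd a.act.left a.act.left) (by
        change (q ≫ pullback.snd a.act.left a.act.left) ≫ (G ⊗ X).hom = _
        rw [← Over.w a.act, Category.assoc, ← pullback.condition_assoc]
        exact congrArg (fun z => q ≫ pullback.fst a.act.left a.act.left ≫ z) (Over.w a.act))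
      have hv12 : v₁ ≫ a.act = v₂ ≫ a.act := by
        apply Over.OverMorphism.ext
        simp only [Over.comp_left, v₁, v₂, Over.homMk_left, Category.assoc, pullback.condition]
      have p1 : v₁.left.base pl = w₁ := by
        rw [← hP1, ← hq]; rfl
      have p2 : v₂.left.base pl = w₂ := by
        rw [← hP2, ← hq]; rfl
      have hy : ∀ (u : T ⟶ G ⊗ X), u ≫ a.act = SGA3cLib.smulPt a (u ≫ fst G X) (u ≫ snd G X) := fun u => by
        rw [SGA3cLib.smulPt, ← comp_lift_assoc, lift_fst_snd, Category.id_comp]
      let h : T ⟶ G := (v₂ ≫ fst G X)⁻¹ * (v₁ ≫ fst G X)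
      have hxv : SGA3cLib.smulPt a h (v₁ ≫ snd G X) = v₂ ≫ snd G X := by
        rw [SGA3cLib.mul_smulPt, ← hy v₁, hv12, hy v₂, SGA3cLib.inv_smulPt]
      have hx1 : v₁ ≫ snd G X = toUnit T ≫ x := by
        have hp : (v₁ ≫ snd G X).left.base pl = x₀ := by
          change (snd G X).left.base (v₁.left.base pl) = x₀
          rw [p1, hb1]
        refine Over.OverMorphism.ext ?_
        obtain ⟨c, hc⟩ : ∃ c, c ≫ x.left = (v₁ ≫ snd G X).left := by
          haveI : IsPreimmersion x.left := by
            haveI : IsImmersion (x.left ≫ X.hom) := by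
              rw [Over.w x]; exact inferInstanceAs (IsImmersion (𝟙 (Spec (CommRingCat.of k))))
            haveI : IsImmersion x.left := IsImmersion.of_comp x.left X.hom
            infer_instance
          haveI : IsPreimmersion (pullback.snd x.left (v₁ ≫ snd G X).left) := inferInstance
          have hr : Set.range (pullback.snd x.left (v₁ ≫ snd G X).left).base = Set.univ := by
            rw [Scheme.Pullback.range_snd, Set.eq_univ_iff_forall]
            intro t
            exact ⟨IsLocalRing.closedPoint k, by
              rw [Subsingleton.elim (α := ↥(Spec (CommRingCat.of L))) t pl]; exact hp.symm⟩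
          haveI : IsClosedImmersion (pullback.snd x.left (v₁ ≫ snd G X).left) :=
            IsClosedImmersion.of_isPreimmersion _ (hr ▸ isClosed_univ)
          haveI : Surjective (pullback.snd x.left (v₁ ≫ snd G X).left) :=
            ⟨Set.range_eq_univ.1 hr⟩
          haveI : AlgebraicGeometry.IsReduced T.left :=
            inferInstanceAs (AlgebraicGeometry.IsReduced (Spec (CommRingCat.of L)))
          haveI := isIso_of_isClosedImmersion_of_surjective (pullback.snd x.left (v₁ ≫ snd G X).left)
          exact ⟨inv (pullback.snd x.left (v₁ ≫ snd G X).left) ≫ pullback.fst _ _, by simp [pullback.condition]⟩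
        have hcs : c = (toUnit T).left := by
          have := congrArg (· ≫ X.hom) hc
          simp only [Category.assoc, Over.w x] at this
          rw [Over.w (v₁ ≫ snd G X)] at this
          exact (Category.comp_id c).symm.trans (this.trans (Over.w (toUnit T)).symm |>.trans (Category.comp_id _))
        rw [← hc, hcs]
        rfl
      refine ⟨h.left.base pl, ?_, ?_⟩
      · obtain ⟨ζ, hζ, hζh⟩ := VarietyLib.exists_genericPoints_specializes (h.left.base pl)
        let u : T ⟶ G ⊗ G := lift (v₂ ≫ fst G X)⁻¹ (v₁ ≫ fst G X)
        have hu1 : θ ⤳ (fst G G).left.base (u.left.base pl) := by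
          change θ ⤳ (u ≫ fst G G).left.base pl
          rw [lift_fst]
          change θ ⤳ (ι[G]).left.base ((fst G X).left.base (v₂.left.base pl))
          rw [p2, ha2, SGA3cLib.inv_fixes hθ hθe]
        have hu2 : θ ⤳ (snd G G).left.base (u.left.base pl) := by
          change θ ⤳ (u ≫ snd G G).left.base pl
          rw [lift_snd]
          change θ ⤳ (fst G X).left.base (v₁.left.base pl)
          rw [p1, ha1]
        rw [← specializes_iff_mem_closure, SGA3cLib.eq_of_act (SGA3cLib.regAction G)
          (SGA3cLib.surjective_regAction G) hθ hθe (u.left.base pl) hu1 hθ hζ hu2 hζh]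
        exact hζh
      · change (h ≫ a.orbitMap x).left.base pl = v
        have : h ≫ a.orbitMap x = v₂ ≫ snd G X := by
          rw [← hxv, hx1, AlgGrp.Action.orbitMap, comp_lift_assoc, Category.comp_id, ← Category.assoc,
            toUnit_unique (h ≫ toUnit G) (toUnit T)]
          rfl
        rw [this]
        change (snd G X).left.base (v₂.left.base pl) = v
        rw [p2, hb2]
  · refine SGA3cLib.isIrreducible_preimage_component a hΦ x (IsLocalRing.closedPoint k) _ ?_ ?_ K _
    · rw [hC]; exact hξ
    · exact mem_connectedComponent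

end Groth.Agent.S5403
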