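import Groth.Statements.S18485
import Groth.Agent.NeronLib.QuasiFiniteFlat

set_option autoImplicit false
universe u
open CategoryTheory CategoryTheory.Limits AlgebraicGeometry MonObj
open Neron

namespace Groth.Agent.S18485

/-- Let R be a Dedekind domain with fraction field K and H a Spec R-scheme which is flat and locally of
finite type over Spec R. If the generic fibre H_K is locally quasi-finite over K, then H is locally
quasi-finite over Spec R. (The published statement is about the schematic closure, in an S-group
algebraic space of finite type over a connected Dedekind scheme S, of a finite subgroup of the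
generic fibre, which it asserts to be a quasi-finite S-group; this row is the statement about flat
schemes locally of finite type over an affine Dedekind base on which that rests. Locally
quasi-finite is meant here without a finite type clause, which is assumed separately.) -/
theorem result (R : Type u) [CommRing R]
    [IsDedekindDomain R] (H : Over (Spec (CommRingCat.of R))) [Flat H.hom] [LocallyOfFiniteType H.hom]
    [LocallyQuasiFinite ((Neron.genericFibre R).obj H).hom] : LocallyQuasiFinite H.hom := by
  refine IsZariskiLocalAtSource.of_openCover (P := @LocallyQuasiFinite) H.left.affineCover fun i => ?_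
  suffices hB : ∀ (B : CommRingCat.{u}) (j : Spec B ⟶ H.left) [IsOpenImmersion j], LocallyQuasiFinite (j ≫ H.hom) from
    @hB _ (H.left.affineCover.f i) (H.left.affineCover.map_prop i)
  intro B j _
  obtain ⟨φ, hφ⟩ : ∃ φ, Spec.map φ = j ≫ H.hom := ⟨_, Spec.map_preimage _⟩
  rw [← hφ]
  have hflat : Flat (Spec.map φ) := hφ ▸ inferInstance
  have hft : LocallyOfFiniteType (Spec.map φ) := hφ ▸ inferInstance
  rw [HasRingHomProperty.Spec_iff (P := @LocallyQuasiFinite)]
  rw [HasRingHomProperty.Spec_iff (P := @Flat)] at hflat
  rw [HasRingHomProperty.Spec_iff (P := @LocallyOfFiniteType)] at hft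
  let K := FractionRing R
  let t := Spec.map (CommRingCat.ofHom (algebraMap R K))
  let m : Limits.pullback t (Spec.map φ) ⟶ Limits.pullback t H.hom :=
    Limits.pullback.map t (Spec.map φ) t H.hom (𝟙 _) j (𝟙 _) (by simp) (by rw [Category.comp_id, hφ])
  have hsnd : LocallyQuasiFinite (Limits.pullback.snd H.hom t) :=
    ‹LocallyQuasiFinite ((Neron.genericFibre R).obj H).hom›
  have hfst : LocallyQuasiFinite (Limits.pullback.fst t H.hom) := by
    rw [← Limits.pullbackSymmetry_hom_comp_snd t H.hom]
    infer_instance
  have h1 : LocallyQuasiFinite (Limits.pullback.fst t (Spec.map φ)) := by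
    have hm : m ≫ Limits.pullback.fst t H.hom = Limits.pullback.fst t (Spec.map φ) :=
      (Limits.pullback.lift_fst _ _ _).trans (Category.comp_id _)
    rw [← hm]
    exact MorphismProperty.comp_mem (W := @LocallyQuasiFinite) m _ inferInstance hfst
  letI := φ.hom.toAlgebra
  have h2 := (MorphismProperty.cancel_left_of_respectsIso @LocallyQuasiFinite
    (pullbackSpecIso R K _).inv _).2 h1
  erw [pullbackSpecIso_inv_fst'] at h2
  rw [HasRingHomProperty.Spec_iff (P := @LocallyQuasiFinite)] at h2
  have : Algebra.QuasiFinite K (TensorProduct R K _) := RingHom.quasiFinite_algebraMap.1 h2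
  have : Algebra.FiniteType R _ := hft
  have : Module.Flat R _ := hflat
  have : Module.Finite K (TensorProduct R K B) := Module.Finite.of_quasiFinite (R := K) (S := TensorProduct R K B)
  exact Groth.Agent.NeronLib.quasiFinite_of_flat_of_finite_generic R B

end Groth.Agent.S18485
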