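import Groth.Statements.S7655
import Groth.Agent.S7657
import Groth.Agent.VarietyLib.NormRedLocal
import Groth.Agent.VarietyLib.DeltaBranches
import Mathlib

set_option autoImplicit false
universe u
open CategoryTheory CategoryTheory.Limits AlgebraicGeometry
open Variety

namespace Groth.Agent.S7655

open Groth.Agent.VarietyLib

/-- Let (A, m) be a reduced Nagata local ring of dimension one. Then the δ-invariant of A is at least
the number of geometric branches of A minus one. -/
theorem result (A : Type u) [CommRing A] [IsLocalRing A]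
    [IsReduced A] (hN : CAlg.IsNagata A) (hdim : ringKrullDim A = 1) :
    Brnch.numGeomBranches A ≤ Curv2.deltaInv A + 1 := by
  classical
  haveI : IsNoetherianRing A := hN.1
  rw [Brnch.numGeomBranches, if_pos (minimalPrimes.finite_of_isNoetherianRing A)]
  let B := ↥(integralClosure A (FractionRing A))
  let R := LinearMap.range (Algebra.linearMap A B)
  by_cases htop : Module.length A (B ⧸ R) = ⊤
  · have : Curv2.deltaInv A = ⊤ := htop
    rw [this, top_add]; exact le_top
  haveI : IsNoetherian A (B ⧸ R) :=
    (isFiniteLength_iff_isNoetherian_isArtinian.1 (Module.length_ne_top_iff.1 htop)).1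
  haveI : Module.Finite A B := Module.Finite.of_submodule_quotient R
  haveI := finite_maximalSpectrum (A := A) (B := B)
  haveI := Fintype.ofFinite (MaximalSpectrum B)
  let e := normRedEquiv A (FractionRing A)
  let Φ := Groth.Agent.S7657.maxEquiv e.symm
  have key : ∀ n : MaximalSpectrum (CAlg2.normRed A),
      letI := (resAlg (A := A) (Φ n)).toAlgebra
      Nonempty (Brnch.Emb A n ≃
        ((B ⧸ (Φ n).asIdeal) →ₐ[IsLocalRing.ResidueField A] AlgebraicClosure (IsLocalRing.ResidueField A))) := by
    intro n
    refine ⟨Groth.Agent.S7657.embEquiv n ((Ideal.Quotient.mk (Φ n).asIdeal).comp e.toRingHom)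
      (Ideal.Quotient.mk_surjective.comp e.surjective) ?_ (resAlg (A := A) (Φ n)) fun o => ?_⟩
    · rw [← RingHom.comap_ker, Ideal.mk_ker]
      exact Ideal.ext fun a => by
        show e.symm (e a) ∈ n.asIdeal ↔ _
        rw [e.symm_apply_apply]
    · show Ideal.Quotient.mk _ (e _) = _
      rw [normRedEquiv_mk]; rfl
  have hfinAlg : ∀ n : MaximalSpectrum B, letI := (resAlg (A := A) n).toAlgebra
      Finite ((B ⧸ n.asIdeal) →ₐ[IsLocalRing.ResidueField A] AlgebraicClosure (IsLocalRing.ResidueField A)) := fun n => by
    letI := (resAlg (A := A) n).toAlgebra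
    haveI := n.isMaximal
    letI := Ideal.Quotient.field n.asIdeal
    haveI : IsScalarTower A (IsLocalRing.ResidueField A) (B ⧸ n.asIdeal) := IsScalarTower.of_algebraMap_eq fun _ => rfl
    haveI : Module.Finite (IsLocalRing.ResidueField A) (B ⧸ n.asIdeal) := Module.Finite.of_restrictScalars_finite A _ _
    infer_instance
  let β : MaximalSpectrum B → Type u := fun m =>
    letI := (resAlg (A := A) m).toAlgebra
    (B ⧸ m.asIdeal) →ₐ[IsLocalRing.ResidueField A] AlgebraicClosure (IsLocalRing.ResidueField A)
  haveI hβ : ∀ m, Finite (β m) := hfinAlg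
  refine le_of_eq_of_le (ENat.card_congr (Equiv.sigmaCongr (β₂ := β) Φ fun n => (key n).some)) ?_
  refine le_trans ?_ (length_pi_le (A := A) (B := B))
  rw [Module.length_pi_of_fintype]
  refine le_trans (le_of_eq ?_) (Finset.sum_le_sum (f := fun n => ENat.card (β n)) fun n _ => card_algHom_le (A := A) n)
  rw [ENat.card_eq_coe_natCard, Nat.card_sigma, Nat.cast_sum]
  simp only [ENat.card_eq_coe_natCard]

end Groth.Agent.S7655
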