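import Groth.Statements.S6003
import Groth.Agent.NonAb.SchTorsor
import Groth.Agent.Et18.Descent
import Groth.Agent.AlgSpLib.FppfLocal

set_option autoImplicit false
universe u
open CategoryTheory AlgebraicGeometry
open SGA1

set_option backward.isDefEq.respectTransparency.types false
set_option backward.isDefEq.respectTransparency false

namespace Groth.Agent.S6003


/-- Let G be an S-group scheme which is flat and quasi-compact over S and let G act on the S-scheme X.
Then X is a principal homogeneous bundle under G (a pseudo-torsor which acquires sections on the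
members of some fpqc covering family of S) if and only if X is formally principal homogeneous (a
pseudo-torsor) and the structure morphism X → S is faithfully flat and quasi-compact. -/
theorem result {S : Scheme.{u}}
    (G X : Over S) [GrpObj G] [Flat G.hom] [QuasiCompact G.hom] (a : AlgGrp.Action G X) :
    NonAbH1.IsTorsorFor Scheme.fpqcPrecoverage a ↔
      (NonAbH1.IsPseudoTorsorSch a ∧ Surjective X.hom ∧ Flat X.hom ∧ QuasiCompact X.hom) := by
  refine ⟨fun h => ⟨h.1, NonAbLib.surjective_hom a h, NonAbLib.property_hom @Flat Groth.Agent.AlgSpLib.descends_flat h ‹_›,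
    NonAbLib.property_hom @QuasiCompact Groth.Agent.Et18.descends_quasiCompact h ‹_›⟩, ?_⟩
  rintro ⟨h, hs, hf, hq⟩
  refine ⟨h, CategoryTheory.Presieve.singleton X.hom, X.hom.singleton_mem_fpqcPrecoverage, ?_⟩
  rintro S' f ⟨⟩
  exact ⟨𝟙 _, Category.id_comp _⟩

end Groth.Agent.S6003
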