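import Groth.Statements.S14540
import Groth.Agent.FlatMor12.TorsorTwist
-- import your own Groth.Agent.* helpers here

set_option autoImplicit false
set_option backward.isDefEq.respectTransparency false
set_option backward.isDefEq.respectTransparency.types false
universe u
open CategoryTheory MonoidalCategory CartesianMonoidalCategory MonObj GrpObj AlgebraicGeometry
open PrincBund

namespace Groth.Agent.S14540


open CategoryTheory AlgebraicGeometry in
theorem exists_small_family {S : Scheme.{u}} {R : Presieve S} (hR : R ∈ Scheme.fpqcPrecoverage S) :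
    ∃ (I : Type u) (V : I → Scheme.{u}) (f : ∀ i, V i ⟶ S),
      Presieve.ofArrows V f ∈ Scheme.fpqcPrecoverage S ∧ ∀ i, R (f i) := by
  obtain ⟨I, Y, g, rfl⟩ := R.exists_eq_ofArrows
  have : Precoverage.Small.{u} Scheme.fpqcPrecoverage.{u} :=
    inferInstanceAs (Precoverage.Small.{u} (Scheme.propQCPrecoverage @Flat))
  let 𝒰 : Precoverage.ZeroHypercover Scheme.fpqcPrecoverage S :=
    { toPreZeroHypercover := PreZeroHypercover.mk I Y g
      mem₀ := hR }
  let 𝒱 := Precoverage.ZeroHypercover.restrictIndexOfSmall.{u} 𝒰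
  exact ⟨𝒱.I₀, 𝒱.X, 𝒱.f, 𝒱.mem₀, fun i => ⟨Precoverage.ZeroHypercover.Small.restrictFun 𝒰 i⟩⟩

end Groth.Agent.S14540

namespace Groth.Agent.S14540

/-- Let X be a scheme, J and J' group schemes affine over X, with no flatness or finiteness condition, u
: J → J' a homomorphism and P a J-torsor for the fpqc topology. Then the push forward of P along u
exists: there is a J'-torsor P' for the fpqc topology together with an X-morphism P → P' compatible
with u. -/
theorem result {X : Scheme.{u}}
    {J J' : Over X} [GrpObj J] [GrpObj J'] [IsAffineHom J.hom] [IsAffineHom J'.hom]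
    (u : J ⟶ J') [IsMonHom u] (P : NonAbH1.TorsorSch J Scheme.fpqcPrecoverage) :
    ∃ P' : NonAbH1.TorsorSch J' Scheme.fpqcPrecoverage,
      NonAbH1.IsPushforwardAlongSch u P.act P'.act := by
  open NonAbLib Groth.Agent.FlatMor12.TorsorPush Groth.Agent.FlatMor12.TorsorTwist in
  obtain ⟨hps, R, hR, hsec⟩ := P.isTorsor
  obtain ⟨I, V, f, hf, hfR⟩ := exists_small_family hR
  choose s hs using fun i => hsec (f i) (hfR i)
  let s' : ∀ i, Over.mk (f i) ⟶ P.X := fun i => Over.homMk (s i) (hs i)
  obtain ⟨U, E, F, hFE, hEF, hE, hch⟩ := exists_coord u hps f s' hf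
  have hF : ∀ {T T' : Over X} (k : T' ⟶ T) (i : I) (x : T ⟶ Over.mk (f i)) (g : T ⟶ J'),
      k ≫ F i x g = F i (k ≫ x) (k ≫ g) := by
    intro T T' k i x g
    rw [← hFE i (k ≫ x) (k ≫ F i x g), ← hE, hEF]
  have hFch : ∀ {T : Over X} (i j : I) (x : T ⟶ Over.mk (f i)) (x' : T ⟶ Over.mk (f j)) (g : T ⟶ J'),
      F i x g = F j x' (g * δ u hps f s' x x') := by
    intro T i j x x' g
    rw [← hFE j x' (F i x g), hch i j x x', hEF]
  obtain ⟨m, hm⟩ := exists_glue hf (Y := J' ⊗ U) (Z := U)
    (fun i x z => F i x ((z ≫ fst J' U) * E i x (z ≫ snd J' U)))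
    (fun k i x z => by simp only [hF, MonObj.comp_mul, hE, Category.assoc])
    (fun i j x x' z => by rw [hFch i j x x', hch i j x x', _root_.mul_assoc])
  have key : ∀ {T : Over X} (i : I) (x : T ⟶ Over.mk (f i)) (g : T ⟶ J') (y : T ⟶ U),
      lift g y ≫ m = F i x (g * E i x y) := by
    intro T i x g y
    rw [hm T i x (lift g y), lift_fst, lift_snd]
  let act : AlgGrp.Action J' U :=
    { act := m
      one_act := by
        refine ext_local hf fun T i x z => ?_
        have e : z ≫ (η[J'] ▷ U) = lift (1 : T ⟶ J') (z ≫ snd _ U) := by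
          apply CartesianMonoidalCategory.hom_ext
          · rw [Category.assoc, whiskerRight_fst, lift_fst, Hom.one_def, ← Category.assoc,
              toUnit_unique (z ≫ fst _ _) (toUnit T)]
          · rw [Category.assoc, whiskerRight_snd, lift_snd]
        rw [reassoc_of% e, key i x, _root_.one_mul, hFE, leftUnitor_hom]
      mul_act := by
        refine ext_local hf fun T i x z => ?_
        have e1 : z ≫ (μ[J'] ▷ U) = lift ((z ≫ fst _ _ ≫ fst J' J') * (z ≫ fst _ _ ≫ snd J' J')) (z ≫ snd _ U) := by
          apply CartesianMonoidalCategory.hom_ext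
          · rw [Category.assoc, whiskerRight_fst, lift_fst, Hom.mul_def, ← comp_lift_assoc, ← comp_lift_assoc,
              lift_fst_snd, Category.id_comp]
          · rw [Category.assoc, whiskerRight_snd, lift_snd]
        have e2 : z ≫ (α_ J' J' U).hom =
            lift (z ≫ fst _ _ ≫ fst J' J') (lift (z ≫ fst _ _ ≫ snd J' J') (z ≫ snd _ U)) := by
          apply CartesianMonoidalCategory.hom_ext
          · simp
          · apply CartesianMonoidalCategory.hom_ext <;> simp
        rw [reassoc_of% e1, key i x, reassoc_of% e2, lift_whiskerLeft_assoc, key i x, key i x, hEF,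
          _root_.mul_assoc] }
  have hact : ∀ {T : Over X} (i : I) (x : T ⟶ Over.mk (f i)) (g : T ⟶ J') (y : T ⟶ U),
      actPt act g y = F i x (g * E i x y) := fun {T} i x g y => key i x g y
  have hps' : NonAbH1.IsPseudoTorsorSch act := by
    refine isPseudoTorsorSch_of_local act hf ?_
    rintro S' f' ⟨i⟩
    refine ⟨F i (𝟙 _) 1, lift (E i (snd U _) (fst U _)) (snd U _), ?_, ?_⟩
    · apply CartesianMonoidalCategory.hom_ext
      · rw [Category.assoc, lift_fst, hE]
        simp only [trivMap, lift_fst, lift_snd, Category.id_comp]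
        rw [hact i (snd J' _), hF, MonObj.comp_one, Category.comp_id, hEF, hEF, _root_.mul_one]
      · simp [trivMap]
    · apply CartesianMonoidalCategory.hom_ext
      · simp only [trivMap, Category.assoc, lift_fst, comp_actPt, Category.id_comp]
        rw [lift_snd_assoc, hact i (snd U _), hF, MonObj.comp_one, Category.comp_id, hEF, _root_.mul_one, hFE]
      · simp [trivMap]
  obtain ⟨q, hq⟩ := exists_glue hf (Y := P.X) (Z := U) (fun i x p => F i x (dv hps (x ≫ s' i) p ≫ u))
    (fun k i x p => by rw [hF, ← Category.assoc, comp_dv, Category.assoc])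
    (fun i j x x' p => by
      rw [hFch i j x x', dv_trans hps (x' ≫ s' j) (x ≫ s' i) p, MonObj.mul_comp]
      rfl)
  refine ⟨⟨U, act, hps', Presieve.ofArrows V f, hf, ?_⟩, q, ?_⟩
  · rintro S' f' ⟨i⟩
    exact ⟨(F i (𝟙 _) 1).left, Over.w (F i (𝟙 _) 1)⟩
  · refine ext_local hf fun T i x z => ?_
    have e : z ≫ P.act.act = actPt P.act (z ≫ fst J P.X) (z ≫ snd J P.X) := by
      rw [actPt, ← comp_lift, lift_fst_snd, Category.comp_id]
    rw [reassoc_of% e, hq T i x, dv_actPt, MonObj.mul_comp]
    have e' : z ≫ lift (fst J P.X ≫ u) (snd J P.X ≫ q) ≫ act.act =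
        actPt act ((z ≫ fst J P.X) ≫ u) ((z ≫ snd J P.X) ≫ q) := by
      rw [← Category.assoc, comp_lift, ← Category.assoc, ← Category.assoc]
      rfl
    show _ = z ≫ lift (fst J P.X ≫ u) (snd J P.X ≫ q) ≫ act.act
    rw [e', hact i x, hq T i x, hEF]


end Groth.Agent.S14540
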