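import Groth.Statements.S2351
import Groth.Agent.NormalizationLib.Basic

set_option autoImplicit false
universe u
open CategoryTheory CategoryTheory.Limits AlgebraicGeometry
open EGA2

namespace Groth.Agent.S2351

/-- Let X be an integral scheme and X' → X its normalization (integral closure of X in its function
field). Then X' is integral with integrally closed local rings, the morphism X' → X is surjective,
maps the generic point to the generic point and induces a bijection between the residue fields of
the generic points. (The quasi-compactness/quasi-separatedness binders on Spec K(X) → X always hold;
they are only needed to form Mathlib's relative normalization.) -/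
theorem result (X : Scheme.{u}) [IsIntegral X]
    [QuasiCompact (X.fromSpecStalk (genericPoint X))] [QuasiSeparated (X.fromSpecStalk (genericPoint X))] :
    ∃ (_ : IsIntegral (Curv2.normalization X)), Pi1.IsNormalScheme (Curv2.normalization X) ∧ Surjective (Curv2.normalizationι X) ∧
      ∃ hgen : (Curv2.normalizationι X).base (genericPoint (Curv2.normalization X)) = genericPoint X,
        Function.Bijective ((Curv2.normalizationι X).residueFieldMap (genericPoint (Curv2.normalization X))).hom := by
  let g : Spec (CommRingCat.of X.functionField) ⟶ X := X.fromSpecStalk (genericPoint X)
  have : QuasiCompact g := inferInstanceAs (QuasiCompact (X.fromSpecStalk (genericPoint X)))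
  have : QuasiSeparated g := inferInstanceAs (QuasiSeparated (X.fromSpecStalk (genericPoint X)))
  let φ : X.functionField →+* X.functionField := RingHom.id _
  have hg : g = Spec.map (CommRingCat.ofHom φ) ≫ X.fromSpecStalk (genericPoint X) := by
    rw [CommRingCat.ofHom_id, Spec.map_id]; exact (Category.id_comp _).symm
  have this' : IsIntegral (Curv2.normalization X) := inferInstanceAs (IsIntegral g.normalization)
  have hη : (Curv2.normalizationι X).base (genericPoint (Curv2.normalization X)) = genericPoint X :=
    NormalizationLib.fromNormalization_genericPoint φ g hg
  have : IsIntegralHom (Curv2.normalizationι X) := inferInstanceAs (IsIntegralHom g.fromNormalization)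
  refine ⟨this' , NormalizationLib.isNormal φ g hg, ⟨fun x ↦ ?_⟩, hη, RingHom.injective _, ?_⟩
  · exact (genericPoint_specializes x).mem_closed (Curv2.normalizationι X).isClosedMap.isClosed_range ⟨_, hη⟩
  · have key : ∀ z : g.normalization, z = g.toNormalization (IsLocalRing.closedPoint _) →
        Function.Surjective (g.fromNormalization.residueFieldMap z).hom := by
      rintro z rfl y
      obtain ⟨t, rfl⟩ := Scheme.residue_surjective g.normalization _ y
      obtain ⟨o, rfl⟩ := NormalizationLib.surjective_stalkMap (φ := φ) g hg Function.surjective_id t
      refine ⟨X.residue _ o, ?_⟩
      exact ConcreteCategory.congr_hom (Scheme.residue_residueFieldMap g.fromNormalization _) o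
    exact key _ (NormalizationLib.toNormalization_closedPoint g).symm

end Groth.Agent.S2351
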