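import Groth.Statements.S18471
import Mathlib
import Groth.Agent.OT.DualEigen

set_option autoImplicit false
universe u
open OortTate

namespace Groth.Agent.S18471

/-- Let p be a prime, R a commutative ring containing u with u(p − 1) = 1, and χ a homomorphism from the
units of ℤ/p to the units of R such that χ(m) − 1 is a unit for every m ≠ 1 (the situation of an
algebra over the subring Λ_p of the p-adic integers generated by the Teichmüller values and 1/(p(p −
1)), with χ the Teichmüller character, which is the published setting). Let A be a commutative and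
cocommutative Hopf algebra over R, finitely generated and projective as an R-module, such that the
p-th convolution power of the identity of A is the neutral element (a finite locally free
commutative group killed by p), and let A^D = Hom_R(A, R) be its dual Hopf algebra (the Cartier
dual). For i ≥ 0 let I_i(A) ⊆ A and I_i(A^D) ⊆ A^D be the submodules of elements f of the respective
augmentation ideals with [m]f = χ(m)^i f for every unit m of ℤ/p, [m] the power map. Then
restriction of linear forms to I_i(A) is a bijection from I_i(A^D) onto the dual module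
Hom_R(I_i(A), R). (The published statement is for a group scheme of order p over a Λ_p-algebra and
asserts an isomorphism of R-modules; the map here is the one its proof uses.) -/
theorem result
    (p : ℕ) [Fact p.Prime] (R : Type u) [CommRing R] (u : R) (hu : u * ((p - 1 : ℕ) : R) = 1)
    (χ : (ZMod p)ˣ →* Rˣ) (hχ : ∀ m : (ZMod p)ˣ, m ≠ 1 → IsUnit ((χ m : R) - 1))
    (A : Type u) [CommRing A] [HopfAlgebra R A] [Coalgebra.IsCocomm R A]
    [Module.Finite R A] [Module.Projective R A]
    (hp : (WithConv.toConv (AlgHom.id R A)) ^ p = 1) (i : ℕ) :
    Function.Bijective (fun f : OortTate.eigenAug R (CartDual.D R A) p χ i =>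
      ((CartDual.toDual R A) (f : CartDual.D R A)).comp (OortTate.eigenAug R A p χ i).subtype) := by
  open Groth.Agent.OT in
    have mem_iff : ∀ a : A, a ∈ OortTate.eigenAug R A p χ i ↔ Bialgebra.counitAlgHom R A a = 0 ∧
        ∀ m : (ZMod p)ˣ, SGA3b.powConv R A (m : ZMod p).val a = ((χ m : Rˣ) : R) ^ i • a := fun a => by
      simp [OortTate.eigenAug, Submodule.mem_inf, Submodule.mem_iInf, Module.End.mem_eigenspace_iff]
    have memD : ∀ x : CartDual.D R A, x ∈ OortTate.eigenAug R (CartDual.D R A) p χ i ↔ x.ofConv 1 = 0 ∧
        ∀ (m : (ZMod p)ˣ) (a : A), x.ofConv (SGA3b.powConv R A (m : ZMod p).val a) = ((χ m : Rˣ) : R) ^ i * x.ofConv a :=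
      fun x => by
      simp only [OortTate.eigenAug, Submodule.mem_inf, Submodule.mem_iInf, Module.End.mem_eigenspace_iff]
      refine and_congr Iff.rfl (forall_congr' fun m => ?_)
      constructor
      · intro h a
        rw [← dual_powConv]
        exact congrArg (fun z : CartDual.D R A => z.ofConv a) h
      · intro h
        refine WithConv.ext (LinearMap.ext fun a => ?_)
        exact (dual_powConv R A _ x a).trans (h a)
    set ε := Bialgebra.counitAlgHom R A with hε
    have hP : ∀ a : A, ε (a - ε a • (1 : A)) = 0 := fun a => by simp [map_sub, map_smul]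
    have hproj : ∀ (x : CartDual.D R A), x ∈ OortTate.eigenAug R (CartDual.D R A) p χ i → ∀ a : A,
        x.ofConv a = x.ofConv (OortTate.proj R A p u χ i (a - ε a • (1 : A))) := fun x hx a => by
      obtain ⟨h1, h2⟩ := (memD x).1 hx
      simp only [OortTate.proj, LinearMap.smul_apply, LinearMap.coe_sum, Finset.sum_apply, map_smul, map_sum,
        AlgHom.toLinearMap_apply, h2, smul_eq_mul, ← mul_assoc, ← mul_pow, ← Units.val_mul, ← map_mul, inv_mul_cancel,
        map_one, Units.val_one, one_pow, one_mul, Finset.sum_const, Finset.card_univ, ZMod.card_units,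
        nsmul_eq_mul, hu, map_sub, h1, mul_zero, sub_zero]
    constructor
    · rintro ⟨x, hx⟩ ⟨y, hy⟩ h
      refine Subtype.ext (WithConv.ext (LinearMap.ext fun a => ?_))
      rw [hproj x hx, hproj y hy]
      exact LinearMap.congr_fun h ⟨_, proj_mem_eigen R A hp i (hP a)⟩
    · intro φ
      let P : A →ₗ[R] A := LinearMap.id - ε.toLinearMap.smulRight (1 : A)
      let Q : A →ₗ[R] OortTate.eigenAug R A p χ i :=
        LinearMap.codRestrict _ ((OortTate.proj R A p u χ i).comp P) fun a => proj_mem_eigen R A hp i (hP a)
      have hQ : ∀ a, (Q a : A) = OortTate.proj R A p u χ i (a - ε a • (1 : A)) := fun a => rfl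
      refine ⟨⟨(CartDual.toDual R A).symm (φ.comp Q), (memD _).2 ⟨?_, fun m a => ?_⟩⟩, LinearMap.ext fun a => ?_⟩
      · change φ (Q 1) = 0
        have : Q 1 = 0 := Subtype.ext (by simp [hQ, hε])
        rw [this, map_zero]
      · change φ (Q _) = _ * φ (Q a)
        rw [← smul_eq_mul, ← map_smul]
        congr 1
        refine Subtype.ext ?_
        rw [Submodule.coe_smul, hQ, hQ, hε, counit_powConv, ← ((mem_iff _).1 (proj_mem_eigen R A hp i (hP a))).2 m]
        simp only [OortTate.proj, LinearMap.smul_apply, LinearMap.coe_sum, Finset.sum_apply, map_smul, map_sum,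
          AlgHom.toLinearMap_apply, map_sub, map_one]
        simp only [powConv_mul R A hp, mul_comm m, hε]
      · change φ (Q a) = φ a
        congr 1
        refine Subtype.ext ?_
        rw [hQ, hε, ((mem_iff _).1 a.2).1, zero_smul, sub_zero]
        exact proj_eigen_self R A hu a.2
end Groth.Agent.S18471
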