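import Groth.Statements.S5015
import Groth.Agent.OmegaLib.Sections
import Groth.Agent.Coherent.FiniteType

set_option autoImplicit false
set_option backward.isDefEq.respectTransparency.types false
set_option backward.isDefEq.respectTransparency false
universe u
open CategoryTheory CategoryTheory.Limits AlgebraicGeometry TopologicalSpace
open Unram17

namespace Groth.Agent.S5015

open OmegaLib Opposite

variable {X Y S : Scheme.{u}}

noncomputable section

theorem kaehler_span_of_unramified (R A B : Type u) [CommRing R] [CommRing A] [CommRing B]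
    [Algebra R A] [Algebra R B] [Algebra A B] [IsScalarTower R A B]
    [Algebra.FormallyUnramified A B] :
    Submodule.span B (Set.range fun a : A => KaehlerDifferential.D R B (algebraMap A B a)) = ⊤ := by
  refine top_le_iff.1 fun z _ => ?_
  obtain ⟨t, rfl⟩ := (KaehlerDifferential.exact_mapBaseChange_map R A B z).1 (Subsingleton.elim _ _)
  suffices h : ∀ (y : Ω[A⁄R]) (b : B), KaehlerDifferential.mapBaseChange R A B (b ⊗ₜ y) ∈
      Submodule.span B (Set.range fun a : A => KaehlerDifferential.D R B (algebraMap A B a)) by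
    induction t using TensorProduct.induction_on with
    | zero => rw [map_zero]; exact zero_mem _
    | tmul b y => exact h y b
    | add x y hx hy => rw [map_add]; exact add_mem (hx trivial) (hy trivial)
  intro y
  induction (KaehlerDifferential.span_range_derivation R A ▸ Submodule.mem_top :
      y ∈ Submodule.span A (Set.range (KaehlerDifferential.D R A))) using Submodule.span_induction with
  | mem x hx =>
    intro b
    obtain ⟨a, rfl⟩ := hx
    rw [KaehlerDifferential.mapBaseChange_tmul, KaehlerDifferential.map_D]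
    exact Submodule.smul_mem _ _ (Submodule.subset_span ⟨a, rfl⟩)
  | zero => intro b; rw [TensorProduct.tmul_zero, map_zero]; exact zero_mem _
  | add x y _ _ hx hy => intro b; rw [TensorProduct.tmul_add, map_add]; exact add_mem (hx b) (hy b)
  | smul a x _ hx => intro b; rw [← TensorProduct.smul_tmul]; exact hx _

variable {g : Y ⟶ S} {h : X ⟶ S} {f : X ⟶ Y}

theorem epi_of_formallyUnramified (w : f ≫ g = h) [FormallyUnramified f]
    {ΩY : Y.Modules} {dY : OmegaSh.Der g ΩY}
    {ΩX : X.Modules} {dX : OmegaSh.Der h ΩX} (hX : OmegaSh.IsUniversal dX)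
    (c : (Scheme.Modules.pullback f).obj ΩY ⟶ ΩX) (hc : OmegaSh.IsDiffCompat f dY dX c) : Epi c := by
  subst w
  refine Coherent.epi_of_locally_surjective c fun O s y hy => ?_
  obtain ⟨T, hT, hyT, -⟩ := Opens.isBasis_iff_nbhd.mp S.isBasis_affineOpens (Opens.mem_top (g (f y)))
  obtain ⟨V, hV, hyV, hVT⟩ := Opens.isBasis_iff_nbhd.mp Y.isBasis_affineOpens
    (show f y ∈ g ⁻¹ᵁ T from hyT)
  obtain ⟨U, hU, hyU, hUle⟩ := Opens.isBasis_iff_nbhd.mp X.isBasis_affineOpens
    (show y ∈ O ⊓ f ⁻¹ᵁ V from ⟨hy, hyV⟩)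
  have hUV : U ≤ f ⁻¹ᵁ V := hUle.trans inf_le_right
  have hUT : U ≤ (f ≫ g) ⁻¹ᵁ T := fun x hx => hVT (hUV hx)
  refine ⟨U, hUle.trans inf_le_left, hyU, ?_⟩
  generalize Coherent.resM ΩX (hUle.trans inf_le_left) s = z
  letI := (g.appLE T V hVT).hom.toAlgebra
  letI := (f.appLE V U hUV).hom.toAlgebra
  letI := ((f ≫ g).appLE T U hUT).hom.toAlgebra
  haveI : IsScalarTower Γ(S, T) Γ(Y, V) Γ(X, U) := IsScalarTower.of_algebraMap_eq fun r => by
    change (f ≫ g).appLE T U hUT r = (f.appLE V U hUV) (g.appLE T V hVT r)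
    rw [← CommRingCat.comp_apply, Scheme.Hom.appLE_comp_appLE]
  haveI : Algebra.FormallyUnramified Γ(Y, V) Γ(X, U) := f.formallyUnramified_appLE hV hU hUV
  obtain ⟨ψ, hψ⟩ := exists_sections_equiv hX hUT hT hU
  let N : Submodule Γ(X, U) Γ(ΩX, U) :=
    { carrier := Set.range (c.app U)
      add_mem' := by rintro _ _ ⟨a, rfl⟩ ⟨b, rfl⟩; exact ⟨a + b, map_add _ _ _⟩
      zero_mem' := ⟨0, map_zero _⟩
      smul_mem' := by rintro r _ ⟨a, rfl⟩; exact ⟨r • a, Scheme.Modules.Hom.app_smul c r a⟩ }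
  suffices hN : Submodule.span Γ(X, U)
      (Set.range fun a : Γ(Y, V) => KaehlerDifferential.D Γ(S, T) Γ(X, U) (algebraMap Γ(Y, V) Γ(X, U) a)) ≤
        N.comap ψ.toLinearMap by
    have h1 : ψ.symm z ∈ N.comap ψ.toLinearMap :=
      hN (by rw [kaehler_span_of_unramified]; trivial)
    obtain ⟨b, hb⟩ := h1
    exact ⟨b, hb.trans (ψ.apply_symm_apply z)⟩
  rw [Submodule.span_le]
  rintro _ ⟨a, rfl⟩
  refine ⟨((Scheme.Modules.pullback f).obj ΩY).presheaf.map (homOfLE hUV).op
    (OmegaSh.pullSect f ΩY V (dY.app V a)), ?_⟩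
  have hn := congr($(c.mapPresheaf.naturality (homOfLE hUV).op) (OmegaSh.pullSect f ΩY V (dY.app V a)))
  refine hn.trans ?_
  show ΩX.presheaf.map _ (c.app (f ⁻¹ᵁ V) _) = ψ _
  rw [hc V a, ← app_map dX, hψ]
  rfl

/-- A derivation relative to `f` is one relative to `f ≫ g`. -/
def derComp (g : Y ⟶ S) {F : X.Modules} (D : OmegaSh.Der f F) : OmegaSh.Der (f ≫ g) F :=
  { d := fun {U} => D.d (X := U)
    d_mul := fun a b => D.d_mul a b
    d_map := fun i s => D.d_map i s
    d_app := fun {W} c => D.d_app (X := op (g ⁻¹ᵁ W.unop)) (g.app W.unop c) }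

theorem formallyUnramified_of_epi (w : f ≫ g = h)
    {ΩY : Y.Modules} {dY : OmegaSh.Der g ΩY} (hY : OmegaSh.IsUniversal dY)
    {ΩX : X.Modules} {dX : OmegaSh.Der h ΩX} (hX : OmegaSh.IsUniversal dX)
    (c : (Scheme.Modules.pullback f).obj ΩY ⟶ ΩX) (hc : OmegaSh.IsDiffCompat f dY dX c) [Epi c] :
    FormallyUnramified f := by
  subst w
  rw [formallyUnramified_iff]
  intro V hV U hU e
  letI := (f.appLE V U e).hom.toAlgebra
  obtain ⟨α, hα, -⟩ := hX _ (derComp g (chartDer e hV hU))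
  have hα' : ∀ (O : X.Opens) (s : Γ(X, O)), α.app O (dX.app O s) = (chartDer e hV hU).app O s :=
    fun O s => PresheafOfModules.Derivation.congr_d hα s
  have hzero : c ≫ α = 0 := by
    apply ((Scheme.Modules.pullbackPushforwardAdjunction f).homEquiv _ _).injective
    refine hom_ext_of_isUniversal hY fun O s => ?_
    rw [Adjunction.homEquiv_unit, Adjunction.homEquiv_unit]
    show (c ≫ α).app (f ⁻¹ᵁ O) (OmegaSh.pullSect f ΩY O (dY.app O s)) =
      (0 : (Scheme.Modules.pullback f).obj ΩY ⟶ _).app (f ⁻¹ᵁ O) (OmegaSh.pullSect f ΩY O (dY.app O s))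
    rw [Scheme.Modules.Hom.comp_app, ConcreteCategory.comp_apply, hc O s, hα']
    refine (app_app (chartDer e hV hU) O s).trans ?_
    rw [Scheme.Modules.Hom.zero_app]
    rfl
  have hα0 : α = 0 := by rw [← cancel_epi c, hzero, comp_zero]
  have hD : ∀ b : Γ(X, U), KaehlerDifferential.D Γ(Y, V) Γ(X, U) b = 0 := by
    intro b
    have h1 : (chartDer e hV hU).app U b = 0 := by
      rw [← hα', hα0, Scheme.Modules.Hom.zero_app]
      rfl
    rw [chartDer_app] at h1
    have h2 := congrArg ((tilde (OmegaMod Γ(Y, V) Γ(X, U))).presheaf.map (homOfLE (top_le_preimage hU)).op) h1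
    rw [map_zero, ← tildeDer_map] at h2
    apply (ConcreteCategory.bijective_of_isIso (tilde.toOpen (OmegaMod Γ(Y, V) Γ(X, U)) ⊤)).1
    rw [map_zero, ← tildeDer_algebraMap]
    refine Eq.trans (congrArg _ ?_) h2
    refine (Eq.trans ?_ (fromSpec_appLE_self hU b).symm)
    rw [show (homOfLE (le_top : (⊤ : (Spec Γ(X, U)).Opens) ≤ ⊤)) = 𝟙 _ from rfl, op_id,
      CategoryTheory.Functor.map_id]
    rfl
  show Algebra.FormallyUnramified Γ(Y, V) Γ(X, U)
  refine ⟨subsingleton_of_forall_eq 0 fun z => ?_⟩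
  have hz : z ∈ Submodule.span Γ(X, U) (Set.range (KaehlerDifferential.D Γ(Y, V) Γ(X, U))) := by
    rw [KaehlerDifferential.span_range_derivation]; trivial
  rw [Submodule.span_eq_bot.2 (by rintro _ ⟨b, rfl⟩; exact hD b)] at hz
  exact hz

theorem result {X Y S : Scheme.{u}} (g : Y ⟶ S) (h : X ⟶ S)
    (f : X ⟶ Y) (w : f ≫ g = h)
    (ΩY : Y.Modules) (dY : OmegaSh.Der g ΩY) (hY : OmegaSh.IsUniversal dY)
    (ΩX : X.Modules) (dX : OmegaSh.Der h ΩX) (hX : OmegaSh.IsUniversal dX)
    (c : (Scheme.Modules.pullback f).obj ΩY ⟶ ΩX) (hc : OmegaSh.IsDiffCompat f dY dX c) :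
    FormallyUnramified f ↔ Epi c :=
  ⟨fun _ => epi_of_formallyUnramified w hX c hc, fun _ => formallyUnramified_of_epi w hY hX c hc⟩

end

end Groth.Agent.S5015
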