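import Groth.Statements.S14929
import Mathlib.AlgebraicGeometry.Morphisms.UniversallyInjective
import Mathlib.AlgebraicGeometry.Morphisms.Integral

set_option autoImplicit false
universe u
open CategoryTheory CategoryTheory.Limits AlgebraicGeometry
open Variety

namespace Groth.Agent.S14929

/-- Let p be a prime and X a scheme of characteristic p (p is zero in the structure sheaf). Then the
absolute Frobenius F_X : X → X, the identity on the underlying space with g ↦ g^p on sections, is a
universal homeomorphism (every base change of it is a homeomorphism), is integral, and induces a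
purely inseparable extension of residue fields κ(x) → κ(x) at every point x of X. -/
theorem result (p : ℕ) [Fact p.Prime]
    (X : Scheme.{u}) [FrobSch.IsCharP X p] :
    FlatMor.IsUnivHomeo (FrobSch.frob X p) ∧ IsIntegralHom (FrobSch.frob X p) ∧
      ∀ x : X, ((FrobSch.frob X p).residueFieldMap x).hom.IsPurelyInseparable := by
  have hres : ∀ x : X, ∀ z : X.residueField x, ((FrobSch.frob X p).residueFieldMap x).hom z = z ^ p := by
    intro x z
    obtain ⟨t, rfl⟩ := (X.residue_surjective x : Function.Surjective (X.residue x)) z
    obtain ⟨U, hxU, s, rfl⟩ := X.presheaf.exists_germ_eq (x := x) t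
    have h2 : ((FrobSch.frob X p).stalkMap x).hom (X.presheaf.germ U x hxU s) = X.presheaf.germ U x hxU (s ^ p) :=
      (Scheme.Hom.germ_stalkMap_apply (FrobSch.frob X p) U x hxU s).trans rfl
    have h3 := congrArg (fun g => g.hom (X.presheaf.germ U x hxU s))
      (Scheme.residue_residueFieldMap (f := FrobSch.frob X p) x)
    refine h3.trans ?_
    show (X.residue x).hom (((FrobSch.frob X p).stalkMap x).hom _) = _
    rw [h2, map_pow, map_pow]
  have hpi : ∀ x : X, ((FrobSch.frob X p).residueFieldMap x).hom.IsPurelyInseparable := by
    intro x
    have hp : (p : X.residueField x) = 0 := by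
      have h := congrArg (X.evaluation ⊤ x trivial).hom (FrobSch.IsCharP.natCast_eq_zero (X := X) (p := p))
      simpa using h
    have : CharP (X.residueField x) p := (CharP.charP_iff_prime_eq_zero Fact.out).2 hp
    have : ExpChar (X.residueField x) p := ExpChar.prime Fact.out
    let f : X.residueField x →+* X.residueField x := ((FrobSch.frob X p).residueFieldMap x).hom
    letI : Algebra (X.residueField x) (X.residueField x) := f.toAlgebra
    exact (isPurelyInseparable_iff_pow_mem (X.residueField x) p).2
      fun z => ⟨1, z, (hres x z).trans (by rw [pow_one])⟩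
  have hinj : Function.Injective (FrobSch.frob X p) := fun a b h => h
  have : UniversallyInjective (FrobSch.frob X p) := by
    have h := List.TFAE.out (tfae_universallyInjective (FrobSch.frob X p)) 2 0 (a := _) (b := _) rfl rfl
    exact h.1 ⟨hinj, hpi⟩
  have haff : IsAffineHom (FrobSch.frob X p) := ⟨fun U hU => hU⟩
  have : IsIntegralHom (FrobSch.frob X p) := { haff with
    isIntegral_app := fun U _ (s : Γ(X, U)) => ⟨Polynomial.X ^ p - Polynomial.C (s : Γ(X, U)),
      Polynomial.monic_X_pow_sub_C _ (Fact.out : p.Prime).ne_zero, by
        show Polynomial.eval₂ (FrobSch.powHom p Γ(X, U) (FrobSch.natCast_eq_zero_app X p U)) s _ = 0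
        rw [Polynomial.eval₂_sub, Polynomial.eval₂_X_pow, Polynomial.eval₂_C]
        exact sub_eq_zero.2 rfl⟩ }
  have : Surjective (FrobSch.frob X p) := ⟨fun x => ⟨x, rfl⟩⟩
  refine ⟨?_, inferInstance, hpi⟩
  intro P Q a b g hsq
  have h1 : UniversallyInjective g := MorphismProperty.of_isPullback hsq.flip inferInstance
  have h2 : Surjective g := MorphismProperty.of_isPullback hsq.flip inferInstance
  have h3 : UniversallyClosed g := MorphismProperty.of_isPullback hsq.flip inferInstance
  exact isHomeomorph_iff_continuous_isClosedMap_bijective.mpr
    ⟨g.continuous, g.isClosedMap, g.injective, g.surjective⟩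

end Groth.Agent.S14929
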