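import Groth.Statements.S14930
import Groth.Agent.S14929
import Mathlib.AlgebraicGeometry.Morphisms.UniversallyInjective
import Mathlib.AlgebraicGeometry.Morphisms.Integral

set_option autoImplicit false
universe u
open CategoryTheory CategoryTheory.Limits AlgebraicGeometry
open Variety

namespace Groth.Agent.S14930

/-- Let p be a prime, S a scheme of characteristic p (p is zero in the structure sheaf) and f : X → S a
morphism of schemes. Then the relative Frobenius F_{X/S} : X → X^(p), where X^(p) = X ×_{S,F_S} S is
the base change of X along the absolute Frobenius of S and F_{X/S} is the morphism over S whose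
composite with the projection X^(p) → X is the absolute Frobenius of X, is a universal homeomorphism
(every base change of it is a homeomorphism), is integral, and induces a purely inseparable
extension of residue fields at every point of X. -/
theorem result (p : ℕ) [Fact p.Prime]
    {X S : Scheme.{u}} [FrobSch.IsCharP S p] (f : X ⟶ S) :
    FlatMor.IsUnivHomeo (FrobSch.relFrob f p) ∧ IsIntegralHom (FrobSch.relFrob f p) ∧
      ∀ x : X, ((FrobSch.relFrob f p).residueFieldMap x).hom.IsPurelyInseparable := by
  have : FrobSch.IsCharP X p := FrobSch.IsCharP.of_hom f p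
  obtain ⟨hX, hXi, hXr⟩ := Groth.Agent.S14929.result p X
  obtain ⟨hS, hSi, hSr⟩ := Groth.Agent.S14929.result p S
  have := hSi
  have hXu : UniversallyInjective (FrobSch.frob X p) :=
    (List.TFAE.out (tfae_universallyInjective (FrobSch.frob X p)) 2 0 (a := _) (b := _) rfl rfl).1 ⟨fun a b h => h, hXr⟩
  have hSu : UniversallyInjective (FrobSch.frob S p) :=
    (List.TFAE.out (tfae_universallyInjective (FrobSch.frob S p)) 2 0 (a := _) (b := _) rfl rfl).1 ⟨fun a b h => h, hSr⟩
  have hc := FrobSch.relFrob_fst f p
  have : IsIntegralHom (FrobSch.relFrob f p ≫ pullback.fst f (FrobSch.frob S p)) := by rw [hc]; exact hXi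
  have hint : IsIntegralHom (FrobSch.relFrob f p) := IsIntegralHom.of_comp _ (pullback.fst f (FrobSch.frob S p))
  have : UniversallyInjective (FrobSch.relFrob f p ≫ pullback.fst f (FrobSch.frob S p)) := by rw [hc]; exact hXu
  have hui : UniversallyInjective (FrobSch.relFrob f p) := by
    refine (List.TFAE.out (tfae_universallyInjective (FrobSch.relFrob f p)) 1 0 (a := _) (b := _) rfl rfl).1 fun K _ g₁ g₂ h => ?_
    refine (List.TFAE.out (tfae_universallyInjective _) 1 0 (a := _) (b := _) rfl rfl).2 this K ?_
    exact (Category.assoc _ _ _).symm.trans ((congrArg (· ≫ pullback.fst f (FrobSch.frob S p)) h).trans (Category.assoc _ _ _))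
  have hui' : UniversallyInjective (pullback.fst f (FrobSch.frob S p)) :=
    MorphismProperty.pullback_fst f (FrobSch.frob S p) hSu
  have hsurj : Surjective (FrobSch.relFrob f p) := ⟨fun z => ⟨pullback.fst f (FrobSch.frob S p) z,
    (pullback.fst f (FrobSch.frob S p)).injective (by rw [← Scheme.Hom.comp_apply, hc]; rfl)⟩⟩
  refine ⟨?_, hint, ((List.TFAE.out (tfae_universallyInjective (FrobSch.relFrob f p)) 2 0 (a := _) (b := _) rfl rfl).2 hui).2⟩
  intro P Q a b g hsq
  have h1 : UniversallyInjective g := MorphismProperty.of_isPullback hsq.flip hui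
  have h2 : Surjective g := MorphismProperty.of_isPullback hsq.flip hsurj
  have h3 : IsIntegralHom g := MorphismProperty.of_isPullback hsq.flip hint
  exact isHomeomorph_iff_continuous_isClosedMap_bijective.mpr
    ⟨g.continuous, g.isClosedMap, g.injective, g.surjective⟩

end Groth.Agent.S14930
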