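import Groth.Statements.S19504
import Groth.Agent.PicH127.Seq
import Mathlib.Tactic.LinearCombination
-- import your own Groth.Agent.* helpers here

set_option autoImplicit false
set_option backward.isDefEq.respectTransparency false
set_option linter.style.haveILetI false
set_option backward.isDefEq.respectTransparency.types false
open CategoryTheory CategoryTheory.Limits AlgebraicGeometry
universe u
open PicF

namespace Groth.Agent.S19504

open CategoryTheory CategoryTheory.Limits MonObj AlgebraicGeometry in
open Groth.Agent in
/-- Let X be a scheme and I a quasi-coherent ideal sheaf of square zero defining the closed subscheme i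
: X₀ → X, and suppose H²(X, I) = 0 for the ideal regarded as an O_X-module (Zariski cohomology).
Then every invertible O_{X₀}-module is, up to isomorphism, the pullback along i of an invertible
O_X-module: restriction of Picard groups along i is surjective. (The published statement allows a
nilpotent ideal with the same hypothesis on I alone; its proof treats the square-zero case, which is
what is stated. No separatedness is assumed.) -/
theorem result (X : Scheme.{u}) (I : X.IdealSheafData)
    (hI : I * I = ⊥) (h2 : Subsingleton (Coh.HH X (ClSub.idealMod I) 2))
    (c : PicF.Cl I.subscheme) (hc : PicF.IsInvertibleCl c) :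
    ∃ d : PicF.Cl X, PicF.IsInvertibleCl d ∧ PicF.pullCl I.subschemeι d = c := by
  obtain ⟨hLX⟩ := PicH127.nonempty_law X
  obtain ⟨hLZ⟩ := PicH127.nonempty_law I.subscheme
  have hi := PicH127.pullMul I.subschemeι
  obtain ⟨ε, δ₀, α, δ₁, -, -, -, -, -, h⟩ := PicH127.exists_maps hI hi
  haveI := h2
  obtain ⟨d, hd⟩ := h.le (show (⟨c, hc⟩ : PicLoc.PicSet I.subscheme) ∈ δ₁.ker from
    Multiplicative.toAdd.injective (Subsingleton.elim _ _))
  exact ⟨d.1, d.2, congrArg Subtype.val hd⟩

end Groth.Agent.S19504
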