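import Groth.Statements.S6475
import Groth.Agent.CycLib28.Intersect.Iterate
import Groth.Agent.EulerLib.Twist
import Groth.Agent.PicLib.PicMonoid
import Groth.Agent.Coherent.CohBC.FibreInvariance
set_option linter.style.haveILetI false

set_option autoImplicit false
universe u
open CategoryTheory AlgebraicGeometry
open Cyc

open Groth.Agent Groth.Agent.CycLib28 Groth.Agent.EulerLib Groth.Agent.Coherent Groth.Agent.PicLib CategoryTheory.Limits

namespace Groth.Agent.S6475

/-- Let X be proper over a field k, Z ⊂ X a closed subscheme of dimension d and L_1, …, L_d invertible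
O_X-modules. Then the intersection number (L_1 ⋯ L_d · Z) equals deg(c_1(L_1) ∩ … ∩ c_1(L_d) ∩
[Z]_d). The left side is FGA.intNum (alternating sum of Euler characteristics of (⊗_{i∈I} M_i) ⊗ O_Z
with M_i inverse to L_i, which is the number defined through the numerical polynomial); the right
side iterates Cyc.c1CapFun with any nonzero rational sections starting from [Z]_d and takes
ChowOps.deg of the resulting 0-cycle. Dimension function: transcendence degree over k. The caps are
applied starting with L_1 (innermost), the reverse of the displayed order; the degree does not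
depend on the order. (The published statement also gives deg_L(Z) = deg(c_1(L)^d ∩ [Z]_d) for an
ample L, the case L_1 = … = L_d = L; this row does not restate it.) -/
theorem result (k : Type u) [Field k] (X : Scheme.{u}) [X.Over (Spec (CommRingCat.of k))] [IsProper (X ↘ Spec (CommRingCat.of k))] (δ : X → ℤ) (hX : Cyc.IsSetup X δ) (hδ : Cyc.DeltaCompat (X ↘ Spec (CommRingCat.of k)) δ (fun _ => 0)) (Z : Scheme.{u}) (ι : Z ⟶ X) [IsClosedImmersion ι] (d : ℕ) (hd : topologicalKrullDim Z = d) (L M : Fin d → X.Modules) (hL : ∀ i, PicF.IsInvertible (L i)) (hM : ∀ i, Nonempty (CohB1.tensorMod (M i) (L i) ≅ Coh.structureModule X)) (s : (i : Fin d) → (ξ : X) → Cyc.secFibre (L i) ξ) (hs : ∀ i ξ, s i ξ ≠ 0) (γ : ℕ → X → ℤ) (hγ0 : γ 0 = Cyc.subschemeFun δ d ι) (hγs : ∀ (i : ℕ) (h : i < d), γ (i + 1) = Cyc.c1CapFun δ (L ⟨i, h⟩) (γ i) (s ⟨i, h⟩)) (α : AlgebraicCycle X ℤ) (hα : ⇑α = γ d) : FGA.intNum k X d M ((Coh.push ι).obj (Coh.structureModule Z)) = ChowOps.deg (X ↘ Spec (CommRingCat.of k)) δ α := by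
  classical
  haveI := hX.1
  haveI := isNoetherian_of_proper (X := X) k
  haveI := EulerLib.isSeparated_of_proper (X := X) k
  haveI : IsLocallyNoetherian Z := LocallyOfFiniteType.isLocallyNoetherian ι
  set F := (Coh.push ι).obj (Coh.structureModule Z)
  have hF : Coh.IsCoh F := Coherent.isCoh_push_finite ι (Coherent.isCoh_structureModule Z)
  have hrc : IsClosed (Set.range ι) := ι.isClosedEmbedding.isClosed_range
  have hdim : topologicalKrullDim ↥(Set.range ι) = (d : WithBot ℕ∞) := by
    rw [← hd]
    exact (ι.isClosedEmbedding.isEmbedding.toHomeomorph.isHomeomorph.topologicalKrullDim_eq).symm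
  have hdl : ∀ x ∈ Set.range ι, δ x ≤ d := fun x hx =>
    CycLib28.Intersect.delta_le_dim (X ↘ Spec (CommRingCat.of k)) hX hδ hrc hdim.le hx
  have hsupp : CohB1.support F ⊆ Set.range ι := Coherent.support_push_subset ι _
  have hFle : Cyc.CohLe δ d F := ⟨hF, fun x hx => hdl x (hsupp (K0.mem_support_iff.2 hx))⟩
  have hMi : ∀ i, PicF.IsInvertible (M i) := fun i =>
    PicLib.PicM.isInvertible_of_tensor (hL i) (AmpleLib.glocus_isInvertible_of_iso ((AmpleLib.tensorComm _ _ ≪≫ (hM i).some).symm) AmpleLib.isInvertible_structureModule)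
  let c : Fin d → InvCl X := fun i => InvCl.mk (L i) (hL i)
  let b : Fin d → InvCl X := fun i => InvCl.mk (M i) (hMi i)
  have hcb : ∀ i, c i * b i = 1 := fun i => by
    show InvCl.mk (L i) (hL i) * InvCl.mk (M i) (hMi i) = 1
    rw [mul_comm, InvCl.mk_mul]
    exact InvCl.mk_eq _ AmpleLib.isInvertible_structureModule (hM i).some
  have hint : FGA.intNum k X d M F = altSum b (chiCl k F) := by
    refine Finset.sum_congr rfl fun I _ => congrArg _ ?_
    obtain ⟨hN, hc⟩ := exists_tensorList_rep ((I.sort (· ≤ ·)).map fun i => (⟨M i, hMi i⟩ : EulerLib.Inv X))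
    have hlist : ((I.sort (· ≤ ·)).map fun i => (⟨M i, hMi i⟩ : EulerLib.Inv X)).map Subtype.val =
        (I.sort (· ≤ ·)).map M := List.map_map
    have hFN := EulerLib.isCoh_twist hN hF
    have hs' : CohB1.support (CohB1.tensorMod F (FGA.tensorList (((I.sort (· ≤ ·)).map fun i => (⟨M i, hMi i⟩ : EulerLib.Inv X)).map Subtype.val))) ⊆ Set.range ι := by
      rw [EulerLib.support_twist hN]; exact hsupp
    have he : FGA.eulerCharLE k X (CohB1.tensorMod (FGA.tensorList (((I.sort (· ≤ ·)).map fun i => (⟨M i, hMi i⟩ : EulerLib.Inv X)).map Subtype.val)) F) d =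
        chiCl k F (InvCl.mk _ hN) := by
      rw [chiCl_mk, euler_eq_sum k X _ d fun q hq => subsingleton_HH_of_support ⟨_, hrc⟩ _ hFN.1 hs' q
        (hdim.trans_lt (by exact_mod_cast hq))]
      exact Finset.sum_congr rfl fun q _ => congrArg _ (congrArg _ (Coherent.CohBC.finrank_HH_congr k (AmpleLib.tensorComm _ _) q))
    rw [← hlist, he, hc]
    congr 1
    rw [List.map_map]
    calc _ = (((I.sort (· ≤ ·) : List (Fin d)) : Multiset (Fin d)).map b).prod := by
          rw [Multiset.map_coe, Multiset.prod_coe]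
          rfl
      _ = _ := by rw [Finset.sort_eq, Finset.prod_eq_multiset_prod]
  have hdeg : ClDeg (d + 1) (chiCl k F) :=
    Intersect.clDeg_chiCl k hX.2.2 hδ (by push_cast; omega) hFle
  have hmain := Intersect.interDeg_eq_deg k hX.2.2 hδ d L hL s hs γ hγs
    (Cyc.toK0CohQuot δ (d : ℤ) ((d : ℤ) - 1) F) (by rw [K0.cycleHom_cls hX.2.2 _ hFle, hγ0, CycLib28.subschemeFun_eq]) α hα
  rw [Intersect.chiHom_cls hX.2.2 hδ _ _ hFle] at hmain
  rw [hint, altSum_of_inverse c b hcb hdeg]
  exact hmain
end Groth.Agent.S6475
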