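import Groth.Statements.S0176
import Groth.Agent.S0692
import Groth.Agent.HenselLib.BijAtGen

set_option autoImplicit false
universe u
open CategoryTheory CategoryTheory.Limits AlgebraicGeometry Opposite
open EtPBC

namespace Groth.Agent.S0176

/-- For a weakly etale ring map A -> B (Mathlib's Algebra.WeaklyEtale) one can enlarge B along a
faithfully flat ind-etale extension B' so that B' is already ind-etale over A; here ind-etale means:
a filtered colimit of etale algebras. -/
theorem result (A B : Type u) [CommRing A] [CommRing B] [Algebra A B]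
    [Algebra.WeaklyEtale A B] :
    ∃ (B' : Type u) (_ : CommRing B') (_ : Algebra B B') (_ : Algebra A B') (_ : IsScalarTower A B B'),
      Module.FaithfullyFlat B B' ∧ EtPBC.IsIndEtale B B' ∧ EtPBC.IsIndEtale A B' := by
  obtain ⟨C, D, _, _, _, _, _, _, _, _, -, hCind, hDff, hDind, -, hDl, hDmap, -, -, -, hsh⟩ :=
    Groth.Agent.S0692.result A B (Groth.Agent.HenselLib.WCtr.algebraicResidue_of_weaklyEtale A B)
  haveI := Groth.Agent.HenselLib.IndEt.weaklyEtale A C hCind
  haveI := Groth.Agent.HenselLib.IndEt.weaklyEtale B D hDind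
  haveI : Algebra.WeaklyEtale A D := Algebra.WeaklyEtale.trans A B D
  haveI : Algebra.WeaklyEtale C D := Groth.Agent.HenselLib.WEt.weaklyEtale_of_algHom (A := A)
  refine ⟨D, inferInstance, inferInstance, inferInstance, inferInstance, hDff, hDind,
    Groth.Agent.HenselLib.IndEt.trans A C D hCind (Groth.Agent.HenselLib.IndEt.indEtale_of_indZariski
      (Groth.Agent.HenselLib.WLoc.isIndZariski_of_identifies C D (fun q => ?_) hDl))⟩
  obtain ⟨c, ⟨hc, hqc⟩, -⟩ := hDl.2.2 q
  haveI : (c.asIdeal.comap (algebraMap C D)).IsMaximal :=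
    (PrimeSpectrum.isClosed_singleton_iff_isMaximal _).1 (hDmap.2 c hc)
  exact Groth.Agent.HenselLib.WCtr.bijAt_of_le ((PrimeSpectrum.le_iff_specializes _ _).2 hqc)
    (Groth.Agent.HenselLib.WCtr.bijAt_of_weaklyEtale c (hsh _))

end Groth.Agent.S0176
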