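import Groth.Statements.S0702
import Groth.Agent.Props12.Topo

set_option autoImplicit false
open CategoryTheory CategoryTheory.Limits AlgebraicGeometry Opposite Topology
universe u
open ProEtW

namespace Groth.Agent.S0702

/-- Let Spec A be profinite and A -> B induce algebraic extensions of residue fields at all primes. Then
Spec B is profinite. -/
theorem result (A B : Type u) [CommRing A] [CommRing B]
    [Algebra A B] [T2Space (PrimeSpectrum A)] [TotallyDisconnectedSpace (PrimeSpectrum A)]
    (h : ProEtW.AlgebraicResidueExtensions A B) :
    ProEtW.IsProfinite (PrimeSpectrum B) := by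
  have hmax : ∀ p : PrimeSpectrum A, p.asIdeal.IsMaximal := fun p =>
    (PrimeSpectrum.isClosed_singleton_iff_isMaximal p).1 isClosed_singleton
  haveI : T2Space (PrimeSpectrum B) := Props12.primeSpectrum_t2Space fun q q' hle => by
    haveI := h q.asIdeal
    haveI := hmax ⟨q.asIdeal.comap (algebraMap A B), inferInstance⟩
    have hF : IsField (A ⧸ q.asIdeal.comap (algebraMap A B)) := Ideal.Quotient.maximal_ideal_iff_isField_quotient _ |>.1 this
    letI := hF.toField
    have hB : IsField (B ⧸ q.asIdeal) :=
      isField_of_isIntegral_of_isField' (R := A ⧸ q.asIdeal.comap (algebraMap A B)) hF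
    haveI : q.asIdeal.IsMaximal := Ideal.Quotient.maximal_ideal_iff_isField_quotient _ |>.2 hB
    exact PrimeSpectrum.ext (this.eq_of_le q'.isPrime.ne_top hle)
  exact ⟨inferInstance, inferInstance, inferInstance⟩

end Groth.Agent.S0702
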