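import Groth.Statements.S0238
import Groth.Agent.Et18.Thickening
import Groth.Agent.S0283
import Groth.Agent.S1305

set_option autoImplicit false
set_option backward.isDefEq.respectTransparency.types false
universe u
open Pi1

namespace Groth.Agent.S0238

open AlgebraicGeometry CategoryTheory CategoryTheory.Limits in
/-- For a thickening, i.e. a closed immersion which is surjective on points, pulling back finite etale
covers is an equivalence of categories. -/
theorem result {X X' : Scheme.{u}} (i : X ⟶ X') [IsClosedImmersion i] [Surjective i] :
    (FEt.restrict i).IsEquivalence := by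
  haveI : IsIntegralHom i := inferInstance
  haveI : UniversallyInjective i := inferInstance
  obtain ⟨hfull, hfaith⟩ := Groth.Agent.S0283.result i
  refine { full := hfull, faithful := hfaith, essSurj := ⟨fun W => ?_⟩ }
  haveI := W.prop.1
  haveI := W.prop.2
  haveI := Groth.Agent.Et18.bc_isEquivalence_of_thickening i
  let W' : X.Etale := Scheme.Etale.mk W.hom
  let V : X'.Etale := (EtCoh.bc i).objPreimage W'
  let e : (EtCoh.bc i).obj V ≅ W' := (EtCoh.bc i).objObjPreimageIso W'
  let el : pullback V.hom i ≅ W.left := (Scheme.Etale.forget X ⋙ Over.forget X).mapIso e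
  have hel : el.hom ≫ W.hom = pullback.snd V.hom i := Over.w e.hom.hom
  haveI : Etale V.hom := V.prop
  haveI : IsFinite (pullback.snd V.hom i) := hel ▸ inferInstance
  have hth : MoreMor.IsThickening (pullback.fst V.hom i) := ⟨inferInstance, inferInstance⟩
  haveI : IsIntegralHom V.hom := (Groth.Agent.S1305.result (pullback.fst V.hom i) i (pullback.snd V.hom i) V.hom hth
    ⟨inferInstance, inferInstance⟩ pullback.condition).mp inferInstance
  haveI : IsFinite V.hom := (IsFinite.iff_isIntegralHom_and_locallyOfFiniteType _).mpr ⟨inferInstance, inferInstance⟩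
  let T : FEt.Cat X' := MorphismProperty.Over.mk ⊤ V.hom ⟨inferInstance, inferInstance⟩
  exact ⟨T, ⟨MorphismProperty.Over.isoMk el hel⟩⟩

end Groth.Agent.S0238
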