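import Groth.Statements.S0261
import Groth.Agent.FEtFF.ExtendDepthThree
-- import your own Groth.Agent.* helpers here

set_option backward.isDefEq.respectTransparency.types false
set_option backward.isDefEq.respectTransparency false
set_option autoImplicit false
universe u
open Pi1

namespace Groth.Agent.S0261

open AlgebraicGeometry CategoryTheory CategoryTheory.Limits in
/-- Let A be a Noetherian local ring of depth at least 3, f an element of the maximal ideal and V a
finite etale cover of the punctured spectrum U of A. If the restriction of V to the punctured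
spectrum of A/fA is the restriction of a finite etale cover of Spec(A/fA), then V is the restriction
of a finite etale cover of Spec A. -/
theorem result (A : Type u) [CommRing A] [IsNoetherianRing A] [IsLocalRing A] (hA : (3 : ℕ∞) ≤ LocCoh.depth A A)
    (f : A) (hf : f ∈ IsLocalRing.maximalIdeal A) (V : FEt.Cat (FEt.puncturedSpec A : Scheme.{u}))
    (hV : ∃ Y₀ : FEt.Cat (Spec (CommRingCat.of (A ⧸ Ideal.span {f}))),
      Nonempty ((FEt.restrict (pullback.snd (FEt.puncturedSpec A).ι
        (Spec.map (CommRingCat.ofHom (Ideal.Quotient.mk (Ideal.span {f})))))).obj Y₀ ≅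
        (FEt.restrict (pullback.fst (FEt.puncturedSpec A).ι
        (Spec.map (CommRingCat.ofHom (Ideal.Quotient.mk (Ideal.span {f})))))).obj V)) :
    ∃ Y : FEt.Cat (Spec (CommRingCat.of A)),
      Nonempty ((FEt.restrict (FEt.puncturedSpec A).ι).obj Y ≅ V) := by
  obtain ⟨Y₀, ⟨e⟩⟩ := hV
  haveI : IsFinite V.hom := V.prop.1
  haveI : Etale V.hom := V.prop.2
  haveI : IsFinite Y₀.hom := Y₀.prop.1
  haveI : Etale Y₀.hom := Y₀.prop.2
  let ι := (FEt.puncturedSpec A).ι
  let q := Spec.map (CommRingCat.ofHom (Ideal.Quotient.mk (Ideal.span {f})))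
  let el : pullback Y₀.hom (pullback.snd ι q) ≅ pullback V.hom (pullback.fst ι q) :=
    { hom := e.hom.left
      inv := e.inv.left
      hom_inv_id := congrArg (fun k => k.left) e.hom_inv_id
      inv_hom_id := congrArg (fun k => k.left) e.inv_hom_id }
  have hel : el.hom ≫ pullback.snd V.hom (pullback.fst ι q) = pullback.snd Y₀.hom (pullback.snd ι q) :=
    Groth.Agent.FEtQuot.hom_w e.hom
  let a := el.hom ≫ pullback.fst V.hom (pullback.fst ι q)
  have hb : pullback.fst Y₀.hom (pullback.snd ι q) ≫ Y₀.hom = el.hom ≫ pullback.snd _ _ ≫ pullback.snd ι q := by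
    rw [← Category.assoc, hel, pullback.condition]
  have hah : a ≫ V.hom = pullback.snd Y₀.hom (pullback.snd ι q) ≫ pullback.fst ι q := by
    rw [Category.assoc, pullback.condition, ← Category.assoc, hel]
  have H1 : IsPullback a (pullback.fst Y₀.hom (pullback.snd ι q) ≫ Y₀.hom) (V.hom ≫ ι) q := by
    rw [hb]
    exact ((IsPullback.of_hasPullback V.hom (pullback.fst ι q)).paste_vert (IsPullback.of_hasPullback ι q)).of_iso
      el.symm (Iso.refl _) (Iso.refl _) (Iso.refl _) (by simp [a]) (by simp) (by simp) (by simp)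
  have H2 : IsPullback (pullback.fst Y₀.hom (pullback.snd ι q)) (a ≫ V.hom) (Y₀.hom ≫ q) ι := by
    rw [hah]
    exact (IsPullback.of_hasPullback Y₀.hom (pullback.snd ι q)).paste_vert (IsPullback.of_hasPullback ι q).flip
  obtain ⟨Y, y, hy, hy', i, hi⟩ := Groth.Agent.FEtFF.Hypersurface.exists_extension_of_hypersurface hA f hf
    V.hom Y₀.hom a (pullback.fst Y₀.hom (pullback.snd ι q)) H1 H2
  exact ⟨MorphismProperty.Over.mk ⊤ y ⟨hy, hy'⟩, ⟨MorphismProperty.Over.isoMk i hi⟩⟩

end Groth.Agent.S0261
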