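import Groth.Statements.S5021
import Groth.Agent.OmegaLib.ConormalStalk
import Groth.Agent.OmegaLib.ConormalSplit
import Groth.Agent.OmegaLib.LocFree
import Groth.Agent.MorProj.OmegaAffine
import Groth.Agent.H8Lim.ImmersionStage

set_option autoImplicit false
set_option backward.isDefEq.respectTransparency.types false
set_option backward.isDefEq.respectTransparency false
set_option linter.style.haveILetI false
universe u
open CategoryTheory CategoryTheory.Limits AlgebraicGeometry TopologicalSpace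
open Unram17
open scoped TensorProduct

namespace Groth.Agent.S5021

open OmegaLib

/-- The rank of the differentials of the local ring of a smooth morphism. -/
theorem exists_basis_stalk {X Y : Scheme.{u}} (f : X ⟶ Y) [Smooth f] (x : X) :
    letI := (f.stalkMap x).hom.toAlgebra
    ∃ m : ℕ, FlatMor.fibreDimAt f x = (m : WithBot ℕ∞) ∧
      Nonempty (Module.Basis (Fin m) (X.presheaf.stalk x) Ω[X.presheaf.stalk x⁄Y.presheaf.stalk (f x)]) := by
  letI := (f.stalkMap x).hom.toAlgebra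
  obtain ⟨W, hW, V, hV, hxV, e, h⟩ := Smooth.exists_isStandardSmooth f x
  have hxW : f x ∈ W := e hxV
  letI := (f.appLE W V e).hom.toAlgebra
  obtain ⟨n, hn⟩ : ∃ n, RingHom.IsStandardSmoothOfRelativeDimension n (f.appLE W V e).hom := by
    obtain ⟨ι, σ, _, _, ⟨P⟩⟩ := (h : Algebra.IsStandardSmooth Γ(Y, W) Γ(X, V)).out
    exact ⟨P.dimension, ⟨ι, σ, inferInstance, inferInstance, P, rfl⟩⟩
  refine ⟨n, ?_, ?_⟩
  · haveI : IsAffine (Scheme.Opens.toScheme W) := hW
    haveI : IsAffine (Scheme.Opens.toScheme V) := hV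
    haveI : SmoothOfRelativeDimension n (f.resLE W V e) := by
      rw [HasRingHomProperty.iff_of_isAffine (P := @SmoothOfRelativeDimension n),
        (RingHom.locally_respectsIso RingHom.isStandardSmoothOfRelativeDimension_respectsIso).arrow_mk_iso_iff
          (arrowResLEAppIso f W V e)]
      exact RingHom.locally_of RingHom.isStandardSmoothOfRelativeDimension_respectsIso _ hn
    have h1 := Unram17Lib.fibreDimAt_eq_of_openImmersion (Scheme.Opens.ι V) (Scheme.Opens.ι W)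
      (f.resLE_comp_ι e).symm (⟨x, hxV⟩ : Scheme.Opens.toScheme V)
    rw [Unram17Lib.fibreDimAt_of_smoothOfRelativeDimension (f.resLE W V e) n] at h1
    exact h1
  · haveI : Algebra.IsStandardSmoothOfRelativeDimension n Γ(Y, W) Γ(X, V) := hn
    obtain ⟨b⟩ := OmegaLib.exists_basis_kaehler Γ(Y, W) Γ(X, V) n
    letI : Algebra Γ(X, V) (X.presheaf.stalk x) := (X.presheaf.germ V x hxV).hom.toAlgebra
    letI : Algebra Γ(Y, W) (Y.presheaf.stalk (f x)) := (Y.presheaf.germ W (f x) hxW).hom.toAlgebra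
    letI : Algebra Γ(Y, W) (X.presheaf.stalk x) :=
      (Y.presheaf.germ W (f x) hxW ≫ f.stalkMap x).hom.toAlgebra
    haveI : IsScalarTower Γ(Y, W) (Y.presheaf.stalk (f x)) (X.presheaf.stalk x) :=
      IsScalarTower.of_algebraMap_eq fun _ => rfl
    haveI : IsScalarTower Γ(Y, W) Γ(X, V) (X.presheaf.stalk x) := IsScalarTower.of_algebraMap_eq fun r => by
      change f.stalkMap x (Y.presheaf.germ W (f x) hxW r) = X.presheaf.germ V x hxV (f.appLE W V e r)
      rw [Scheme.Hom.germ_stalkMap_apply, Scheme.Hom.appLE, CommRingCat.comp_apply]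
      exact (X.presheaf.germ_res_apply _ x hxV _).symm
    haveI := hV.isLocalization_stalk ⟨x, hxV⟩
    haveI := hW.isLocalization_stalk ⟨f x, hxW⟩
    haveI : Algebra.FormallyUnramified Γ(Y, W) (Y.presheaf.stalk (f x)) :=
      .of_isLocalization (hW.primeIdealOf ⟨f x, hxW⟩).asIdeal.primeCompl
    let μ := KaehlerDifferential.map Γ(Y, W) Γ(Y, W) Γ(X, V) (X.presheaf.stalk x)
    haveI : IsLocalizedModule (hV.primeIdealOf ⟨x, hxV⟩).asIdeal.primeCompl μ :=
      KaehlerDifferential.isLocalizedModule_map _ _ _ _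
    let b' := b.ofIsLocalizedModule (X.presheaf.stalk x) (hV.primeIdealOf ⟨x, hxV⟩).asIdeal.primeCompl μ
    refine ⟨b'.map (LinearEquiv.ofBijective
      (KaehlerDifferential.map Γ(Y, W) (Y.presheaf.stalk (f x)) (X.presheaf.stalk x) (X.presheaf.stalk x))
      ⟨?_, KaehlerDifferential.map_surjective _ _ _⟩)⟩
    rw [injective_iff_map_eq_zero]
    intro z hz
    obtain ⟨t, rfl⟩ := (KaehlerDifferential.exact_mapBaseChange_map Γ(Y, W) (Y.presheaf.stalk (f x))
      (X.presheaf.stalk x) z).1 hz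
    rw [Subsingleton.elim t 0, map_zero]

theorem formallySmooth_stalk_of_smooth {X Y : Scheme.{u}} (f : X ⟶ Y) [Smooth f] (x : X) :
    letI := (f.stalkMap x).hom.toAlgebra
    Algebra.FormallySmooth (Y.presheaf.stalk (f x)) (X.presheaf.stalk x) := by
  obtain ⟨V, hV, hxV, -⟩ := Opens.isBasis_iff_nbhd.mp Y.isBasis_affineOpens (Opens.mem_top (f x))
  obtain ⟨U, hU, hxU, hUV⟩ := Opens.isBasis_iff_nbhd.mp X.isBasis_affineOpens (show x ∈ f ⁻¹ᵁ V from hxV)
  letI := (f.appLE V U hUV).hom.toAlgebra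
  haveI : Algebra.Smooth Γ(Y, V) Γ(X, U) := f.smooth_appLE hV hU hUV
  have h := (formallySmooth_stalkMap_iff V hV U hU hUV hxU).2 (by
    show Algebra.IsSmoothAt Γ(Y, V) (hU.primeIdealOf ⟨x, hxU⟩).asIdeal
    exact Algebra.FormallySmooth.comp _ Γ(X, U) _)
  exact h

theorem isQCoh_conormal {X' X : Scheme.{u}} (j : X' ⟶ X) : Coh.IsQCoh (Omega.conormal j) :=
  haveI := MorProj.isQCoh_idealMod j.ker
  EGA43.InjFibre.isQCoh_pullback j (ClSub.idealMod j.ker)

/-- Sections of the conormal sheaf near a point are finite projective. -/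
theorem exists_affine_finitePresentation {X' X Y : Scheme.{u}} (f : X ⟶ Y) [Smooth f]
    (j : X' ⟶ X) [IsImmersion j] [QuasiCompact j] [Smooth (j ≫ f)] (x : X') :
    ∃ W : X'.Opens, IsAffineOpen W ∧ x ∈ W ∧
      Module.FinitePresentation Γ(X', W) Γ(Omega.conormal j, W) := by
  obtain ⟨T, hT, hxT, -⟩ := Opens.isBasis_iff_nbhd.mp Y.isBasis_affineOpens (Opens.mem_top (f (j x)))
  obtain ⟨U, hU, hxU, hUle⟩ := Opens.isBasis_iff_nbhd.mp X.isBasis_affineOpens
      (show j x ∈ f ⁻¹ᵁ T ⊓ j.coborderRange from ⟨hxT, subset_coborder ⟨x, rfl⟩⟩)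
  have hUT : U ≤ f ⁻¹ᵁ T := hUle.trans inf_le_left
  obtain ⟨hW, hjsurj⟩ := H8Lim.immersion_app_surjective j hU (hUle.trans inf_le_right)
  refine ⟨j ⁻¹ᵁ U, hW, hxU, ?_⟩
  have hWT : j ⁻¹ᵁ U ≤ (j ≫ f) ⁻¹ᵁ T := fun z hz => hUT hz
  letI := (f.appLE T U hUT).hom.toAlgebra
  letI := ((j ≫ f).appLE T (j ⁻¹ᵁ U) hWT).hom.toAlgebra
  letI := (j.appLE U (j ⁻¹ᵁ U) le_rfl).hom.toAlgebra
  haveI : IsScalarTower Γ(Y, T) Γ(X, U) Γ(X', j ⁻¹ᵁ U) := IsScalarTower.of_algebraMap_eq fun r => by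
    change (j ≫ f).appLE T (j ⁻¹ᵁ U) hWT r = j.appLE U (j ⁻¹ᵁ U) le_rfl (f.appLE T U hUT r)
    rw [← CommRingCat.comp_apply, Scheme.Hom.appLE_comp_appLE]
  have hsurj : Function.Surjective (algebraMap Γ(X, U) Γ(X', j ⁻¹ᵁ U)) := by
    show Function.Surjective (j.appLE U (j ⁻¹ᵁ U) le_rfl).hom
    rw [Scheme.Hom.appLE_eq_app]
    exact hjsurj
  haveI : Algebra.Smooth Γ(Y, T) Γ(X', j ⁻¹ᵁ U) := (j ≫ f).smooth_appLE hT hW hWT
  haveI : Algebra.Smooth Γ(Y, T) Γ(X, U) := f.smooth_appLE hT hU hUT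
  obtain ⟨hfin, hproj⟩ := finite_projective_conormal Γ(Y, T) Γ(X, U) Γ(X', j ⁻¹ᵁ U) hsurj
  haveI := MorProj.isQCoh_idealMod j.ker
  haveI := AmpleLib.mono_idealModι j.ker
  let φ : Γ(ClSub.idealMod j.ker, U) →ₗ[Γ(X, U)] Γ(X, U) := Coherent.appLin (ClSub.idealModι j.ker) U
  have hrange : LinearMap.range φ = RingHom.ker (algebraMap Γ(X, U) Γ(X', j ⁻¹ᵁ U)) := by
    ext a
    show a ∈ LinearMap.range φ ↔ a ∈ RingHom.ker (j.appLE U (j ⁻¹ᵁ U) le_rfl).hom
    rw [Scheme.Hom.appLE_eq_app, ← Scheme.Hom.ker_apply j ⟨U, hU⟩, ← j.ker.ker_subschemeι_app ⟨U, hU⟩,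
      RingHom.mem_ker, LinearMap.mem_range]
    exact AmpleLib.mem_range_idealModι j.ker U a
  let e : Γ(ClSub.idealMod j.ker, U) ≃ₗ[Γ(X, U)] RingHom.ker (algebraMap Γ(X, U) Γ(X', j ⁻¹ᵁ U)) :=
    (LinearEquiv.ofInjective φ (Coherent.app_injective_of_mono (ClSub.idealModι j.ker) U)).trans
      (LinearEquiv.ofEq _ _ hrange)
  obtain ⟨E⟩ := Flatn12.nonempty_pullback_sections_equiv j (ClSub.idealMod j.ker) hU hW le_rfl
  let E' : Γ(X', j ⁻¹ᵁ U) ⊗[Γ(X, U)] RingHom.ker (algebraMap Γ(X, U) Γ(X', j ⁻¹ᵁ U)) ≃ₗ[Γ(X', j ⁻¹ᵁ U)]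
      Γ(Omega.conormal j, j ⁻¹ᵁ U) :=
    ((e.baseChange Γ(X, U) Γ(X', j ⁻¹ᵁ U)).symm).trans E
  haveI : Module.Finite Γ(X', j ⁻¹ᵁ U) Γ(Omega.conormal j, j ⁻¹ᵁ U) := Module.Finite.equiv E'
  haveI : Module.Projective Γ(X', j ⁻¹ᵁ U) Γ(Omega.conormal j, j ⁻¹ᵁ U) := Module.Projective.of_equiv E'
  exact Module.finitePresentation_of_projective _ _

/-- The stalk of the conormal sheaf has rank the difference of the relative dimensions. -/
theorem exists_basis_conormal_stalk {X' X Y : Scheme.{u}} (f : X ⟶ Y) [Smooth f]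
    (j : X' ⟶ X) [IsImmersion j] [QuasiCompact j] [Smooth (j ≫ f)] (x : X') :
    ∃ n : ℕ, FlatMor.fibreDimAt f (j x) = FlatMor.fibreDimAt (j ≫ f) x + (n : WithBot ℕ∞) ∧
      Nonempty (Module.Basis (Fin n) (X'.presheaf.stalk x) ((DerSch.stalkFunctor X' x).obj (Omega.conormal j))) := by
  obtain ⟨m, hm, ⟨bA⟩⟩ := exists_basis_stalk f (j x)
  obtain ⟨r, hr, ⟨bB⟩⟩ := exists_basis_stalk (j ≫ f) x
  letI : Algebra (Y.presheaf.stalk (f (j x))) (X.presheaf.stalk (j x)) := (f.stalkMap (j x)).hom.toAlgebra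
  letI : Algebra (Y.presheaf.stalk (f (j x))) (X'.presheaf.stalk x) := ((j ≫ f).stalkMap x).hom.toAlgebra
  letI : Algebra (X.presheaf.stalk (j x)) (X'.presheaf.stalk x) := (j.stalkMap x).hom.toAlgebra
  haveI : IsScalarTower (Y.presheaf.stalk (f (j x))) (X.presheaf.stalk (j x)) (X'.presheaf.stalk x) :=
    IsScalarTower.of_algebraMap_eq fun r => by
      change (j ≫ f).stalkMap x r = j.stalkMap x (f.stalkMap (j x) r)
      rw [Scheme.Hom.stalkMap_comp]
      rfl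
  have hsurj : Function.Surjective (algebraMap (X.presheaf.stalk (j x)) (X'.presheaf.stalk x)) :=
    j.stalkMap_surjective x
  haveI : Algebra.FormallySmooth (Y.presheaf.stalk (f (j x))) (X'.presheaf.stalk x) :=
    formallySmooth_stalk_of_smooth (j ≫ f) x
  obtain ⟨n, hn, ⟨b⟩⟩ := exists_basis_conormal _ _ _ hsurj bA bB
  obtain ⟨ι, hιinj, hι⟩ := exists_idealStalkMap j.ker (j x)
  have hrange : LinearMap.range ι = RingHom.ker (algebraMap (X.presheaf.stalk (j x)) (X'.presheaf.stalk x)) := by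
    ext a
    exact (mem_range_idealStalkMap j x hι a).trans RingHom.mem_ker.symm
  let e := (LinearEquiv.ofInjective ι hιinj).trans (LinearEquiv.ofEq _ _ hrange)
  obtain ⟨EC, -⟩ := exists_pullback_stalk_equiv j (ClSub.idealMod j.ker) x
  refine ⟨n, ?_, ⟨b.map (((e.baseChange (X.presheaf.stalk (j x)) (X'.presheaf.stalk x)).symm).trans EC)⟩⟩
  rw [hm, hr, hn]
  norm_cast

theorem result {X' X Y : Scheme.{u}} (f : X ⟶ Y) [Smooth f]
    (j : X' ⟶ X) [IsImmersion j] [QuasiCompact j] [Smooth (j ≫ f)] (x : ↥X') :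
    ∃ (U : X'.Opens) (n : ℕ), x ∈ U ∧ Nonempty ((Omega.conormal j).restrict U.ι ≅ FlatMod.freeMod (↑U) n) ∧
      FlatMor.fibreDimAt f (j.base x) = FlatMor.fibreDimAt (j ≫ f) x + (n : WithBot ℕ∞) := by
  haveI := isQCoh_conormal j
  have hfp : CohB1.IsFP (Omega.conormal j) :=
    EGA43.FPKernel.isFP_of_forall_exists_affine _ (exists_affine_finitePresentation f j)
  obtain ⟨n, hn, ⟨b⟩⟩ := exists_basis_conormal_stalk f j x
  let b₀ : Module.Basis (Fin n) (X'.presheaf.stalk x) ((Omega.conormal j).presheaf.stalk x) := b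
  have hfree : Module.Free (X'.presheaf.stalk x) ((Omega.conormal j).presheaf.stalk x) := .of_basis b₀
  obtain ⟨U, n', hxU, ⟨e⟩⟩ := Props12.exists_nhd_free _ hfp x hfree
  obtain ⟨V, hV, hxV, hVU⟩ := Opens.isBasis_iff_nbhd.mp X'.isBasis_affineOpens hxU
  obtain ⟨bV⟩ := Props12.exists_basis_sections e hVU
  let _ := (X'.presheaf.germ V x hxV).hom.toAlgebra
  let _ := Module.compHom ((Omega.conormal j).presheaf.stalk x) (X'.presheaf.germ V x hxV).hom
  have : IsScalarTower Γ(X', V) (X'.presheaf.stalk x) ((Omega.conormal j).presheaf.stalk x) :=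
    IsScalarTower.of_algebraMap_smul fun _ _ => rfl
  let φ : Γ(Omega.conormal j, V) →ₗ[Γ(X', V)] (Omega.conormal j).presheaf.stalk x :=
    { toFun := (Omega.conormal j).presheaf.germ V x hxV
      map_add' := map_add _
      map_smul' := QCohLoc.germ_smul' (M := Omega.conormal j) hxV }
  have := EGA43.QcohFP.isLocalizedModule_germ _ hV hxV φ fun _ => rfl
  have := hV.isLocalization_stalk ⟨x, hxV⟩
  let b₁ := bV.ofIsLocalizedModule (X'.presheaf.stalk x)
    (hV.primeIdealOf ⟨x, hxV⟩).asIdeal.primeCompl φ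
  have hnn : n' = n := by
    simpa using Fintype.card_congr (b₁.indexEquiv b₀)
  subst hnn
  exact ⟨U, n', hxU, ⟨e⟩, hn⟩

end Groth.Agent.S5021
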