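import Groth.Statements.S1412
import Groth.Agent.HenselLib.WEtNoeth
import Groth.Agent.SchMor12.WeaklyEtale

set_option autoImplicit false
set_option backward.isDefEq.respectTransparency.types false
universe u
open FlatMor

namespace Groth.Agent.S1412

open AlgebraicGeometry CategoryTheory Limits in
/-- A morphism of schemes f : X → Y is weakly étale (flat with flat diagonal) if and only if for every
point x of X the local ring map O_{Y, f(x)} → O_{X, x} is weakly étale, that is, flat and with flat
multiplication map O_{X,x} ⊗_{O_{Y, f(x)}} O_{X,x} → O_{X,x}. -/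
theorem result {X Y : Scheme.{u}} (f : X ⟶ Y) :
    WeaklyEtale f ↔ ∀ x : X, (f.stalkMap x).hom.Flat ∧
      (letI := (f.stalkMap x).hom.toAlgebra
       (Algebra.TensorProduct.lmul' (S := ↑(X.presheaf.stalk x)) (↑(Y.presheaf.stalk (f x)))).toRingHom.Flat) := by
  have key : ∀ (U : X.Opens) (V : Y.Opens) (hU : IsAffineOpen U) (hV : IsAffineOpen V) (e : U ≤ f ⁻¹ᵁ V) (x : X)
      (hx : x ∈ U),
      ((f.stalkMap x).hom.Flat ∧
        (letI := (f.stalkMap x).hom.toAlgebra
         (Algebra.TensorProduct.lmul' (S := ↑(X.presheaf.stalk x)) (↑(Y.presheaf.stalk (f x)))).toRingHom.Flat)) ↔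
      (letI := ((X.presheaf.germ U x hx).hom.comp (f.appLE V U e).hom).toAlgebra
       Algebra.WeaklyEtale Γ(Y, V) (X.presheaf.stalk x)) := by
    intro U V hU hV e x hx
    let := Y.presheaf.algebra_section_stalk (⟨f x, e hx⟩ : V)
    let := (f.stalkMap x).hom.toAlgebra
    let := ((X.presheaf.germ U x hx).hom.comp (f.appLE V U e).hom).toAlgebra
    have := hV.isLocalization_stalk ⟨f x, e hx⟩
    have hloc : Algebra.WeaklyEtale Γ(Y, V) (Y.presheaf.stalk (f x)) :=
      HenselLib.WEtNoeth.weaklyEtale_of_isLocalization (hV.primeIdealOf ⟨f x, e hx⟩).asIdeal.primeCompl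
    have : IsScalarTower Γ(Y, V) (Y.presheaf.stalk (f x)) (X.presheaf.stalk x) := IsScalarTower.of_algebraMap_eq' (by
      have h2 : Y.presheaf.germ V (f x) (e hx) ≫ f.stalkMap x = f.appLE V U e ≫ X.presheaf.germ U x hx := by
        simp only [Scheme.Hom.germ_stalkMap, Scheme.Hom.appLE, Category.assoc, TopCat.Presheaf.germ_res]
      exact (congrArg CommRingCat.Hom.hom h2).symm)
    constructor
    · rintro ⟨h1, h2⟩
      have : Algebra.WeaklyEtale (Y.presheaf.stalk (f x)) (X.presheaf.stalk x) := { flat := h1, flat_lmul' := h2 }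
      exact Algebra.WeaklyEtale.trans Γ(Y, V) (Y.presheaf.stalk (f x)) (X.presheaf.stalk x)
    · intro h
      have := HenselLib.WEt.weaklyEtale_of_algHom (A := Γ(Y, V)) (B := Y.presheaf.stalk (f x)) (C := X.presheaf.stalk x)
      exact ⟨Algebra.WeaklyEtale.flat, Algebra.WeaklyEtale.flat_lmul' (Y.presheaf.stalk (f x)) (X.presheaf.stalk x)⟩
  constructor
  · intro hf x
    obtain ⟨V, hV, hyV, -⟩ := exists_isAffineOpen_mem_and_subset (x := f x) (U := ⊤) trivial
    obtain ⟨U, hU, hxU, e⟩ := exists_isAffineOpen_mem_and_subset (x := x) (U := f ⁻¹ᵁ V) hyV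
    refine (key U V hU hV e x hxU).2 ?_
    have hUV := (SchMor12.weaklyEtale_iff_affineOpens f).1 hf U V hU hV e
    let := (f.appLE V U e).hom.toAlgebra
    let := X.presheaf.algebra_section_stalk (⟨x, hxU⟩ : U)
    let := ((X.presheaf.germ U x hxU).hom.comp (f.appLE V U e).hom).toAlgebra
    have : IsScalarTower Γ(Y, V) Γ(X, U) (X.presheaf.stalk x) := IsScalarTower.of_algebraMap_eq' rfl
    have := hU.isLocalization_stalk ⟨x, hxU⟩
    have : Algebra.WeaklyEtale Γ(X, U) (X.presheaf.stalk x) :=
      HenselLib.WEtNoeth.weaklyEtale_of_isLocalization (hU.primeIdealOf ⟨x, hxU⟩).asIdeal.primeCompl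
    exact Algebra.WeaklyEtale.trans Γ(Y, V) Γ(X, U) (X.presheaf.stalk x)
  · intro h
    rw [SchMor12.weaklyEtale_iff_affineOpens]
    intro U V hU hV e
    algebraize [(f.appLE V U e).hom]
    have hq : ∀ q : PrimeSpectrum Γ(X, U), Algebra.WeaklyEtale Γ(Y, V) (Localization.AtPrime q.asIdeal) := by
      intro q
      have hxU : hU.fromSpec q ∈ U := by
        have : hU.fromSpec q ∈ Set.range hU.fromSpec := ⟨q, rfl⟩
        rwa [hU.range_fromSpec] at this
      have hq' : hU.primeIdealOf ⟨hU.fromSpec q, hxU⟩ = q :=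
        hU.fromSpec.isOpenEmbedding.injective (hU.fromSpec_primeIdealOf ⟨hU.fromSpec q, hxU⟩)
      have hW := (key U V hU hV e (hU.fromSpec q) hxU).1 (h _)
      let := X.presheaf.algebra_section_stalk (⟨hU.fromSpec q, hxU⟩ : U)
      let := ((X.presheaf.germ U (hU.fromSpec q) hxU).hom.comp (f.appLE V U e).hom).toAlgebra
      have : IsScalarTower Γ(Y, V) Γ(X, U) (X.presheaf.stalk (hU.fromSpec q)) := IsScalarTower.of_algebraMap_eq' rfl
      have : IsLocalization.AtPrime (X.presheaf.stalk (hU.fromSpec q)) q.asIdeal := by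
        have := hU.isLocalization_stalk ⟨hU.fromSpec q, hxU⟩
        rwa [hq'] at this
      let e' := (IsLocalization.algEquiv q.asIdeal.primeCompl (X.presheaf.stalk (hU.fromSpec q))
        (Localization.AtPrime q.asIdeal)).restrictScalars Γ(Y, V)
      let : Algebra (X.presheaf.stalk (hU.fromSpec q)) (Localization.AtPrime q.asIdeal) := e'.toAlgHom.toRingHom.toAlgebra
      have : IsScalarTower Γ(Y, V) (X.presheaf.stalk (hU.fromSpec q)) (Localization.AtPrime q.asIdeal) :=
        IsScalarTower.of_algebraMap_eq fun a => (e'.commutes a).symm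
      have : Algebra.Etale (X.presheaf.stalk (hU.fromSpec q)) (Localization.AtPrime q.asIdeal) :=
        Algebra.Etale.of_equiv (AlgEquiv.ofBijective (Algebra.ofId (X.presheaf.stalk (hU.fromSpec q))
          (Localization.AtPrime q.asIdeal)) e'.bijective)
      exact Algebra.WeaklyEtale.trans Γ(Y, V) (X.presheaf.stalk (hU.fromSpec q)) (Localization.AtPrime q.asIdeal)
    refine { flat := ?_, flat_lmul' := ?_ }
    · refine Module.flat_of_isLocalized_maximal Γ(X, U) Γ(X, U) (fun P _ => Localization.AtPrime P)
        (fun P _ => Algebra.linearMap _ _) (fun P _ => ?_)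
      exact (hq ⟨P, inferInstance⟩).flat
    · let B := Γ(X, U)
      letI a₁ : Algebra (TensorProduct Γ(Y, V) B B) B := (Algebra.TensorProduct.lmul' Γ(Y, V) (S := B)).toRingHom.toAlgebra
      change Module.Flat (TensorProduct Γ(Y, V) B B) B
      let j : ∀ P : Ideal B, [P.IsPrime] → B →ₐ[Γ(Y, V)] Localization.AtPrime P := fun P _ => IsScalarTower.toAlgHom _ B _
      refine Module.flat_of_isLocalized_maximal (R := TensorProduct Γ(Y, V) B B) B B
        (fun P _ => Localization.AtPrime P) (fun P _ => Algebra.linearMap _ _) (fun P _ => ?_)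
      have hP := hq ⟨P, inferInstance⟩
      rw [← RingHom.flat_algebraMap_iff]
      have heq : algebraMap (TensorProduct Γ(Y, V) B B) (Localization.AtPrime P) =
          (Algebra.TensorProduct.lmul' Γ(Y, V) (S := Localization.AtPrime P)).toRingHom.comp
            (Algebra.TensorProduct.map (j P) (j P)).toRingHom := by
        refine RingHom.ext fun z => ?_
        rw [IsScalarTower.algebraMap_apply (TensorProduct Γ(Y, V) B B) B (Localization.AtPrime P)]
        change algebraMap B (Localization.AtPrime P) (Algebra.TensorProduct.lmul' Γ(Y, V) z) =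
          Algebra.TensorProduct.lmul' Γ(Y, V) (Algebra.TensorProduct.map (j P) (j P) z)
        induction z with
        | zero => simp
        | add u v hu hv => simp only [map_add, hu, hv]
        | tmul a c => simp [j]
      have h1 : (j P).Flat := by
        change (algebraMap B (Localization.AtPrime P)).Flat
        rw [RingHom.flat_algebraMap_iff]; exact IsLocalization.flat _ P.primeCompl
      rw [heq]
      exact RingHom.Flat.comp (RingHom.Flat.tensorProductMap h1 h1) hP.flat_lmul'

end Groth.Agent.S1412
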