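import Groth.Statements.S17051
import Groth.Agent.FModLib.QcohSub
-- import your own Groth.Agent.* helpers here

set_option autoImplicit false
open CategoryTheory CategoryTheory.Limits
universe u
open FTors

set_option backward.isDefEq.respectTransparency false
set_option linter.style.haveILetI false
set_option maxHeartbeats 1000000

namespace Groth.Agent.S17051

open CategoryTheory CategoryTheory.Limits AlgebraicGeometry Opposite TopologicalSpace
open Groth.Agent.FBlowLib Groth.Agent.FModLib Groth.Agent.DerCompLib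

variable {𝔛 : FSch.Sys.{u}} (h : 𝔛.IsFormal) (hX : 𝔛.IsLocNoethFormal)

/-- A torsion section is killed near a point. -/
theorem exists_killed {M : FSch.ModF 𝔛 h} {U : Opens (𝔛.X 0).carrier} {s : ModSite.sect M U}
    (hs : FTors.IsTorsSect (FTors.openIdealFam 𝔛 h) M s) {x : (𝔛.X 0).carrier} (hx : x ∈ U) :
    ∃ (W : Opens (𝔛.X 0).carrier) (i : W ≤ U), AFF 𝔛 W ∧ x ∈ W ∧
      ∃ n, FTors.KilledBy (FTors.openIdealFam 𝔛 h) M n (FTors.res M (homOfLE i) s) := by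
  obtain ⟨V, k, ⟨n, hn⟩, hxV⟩ := hs x hx
  obtain ⟨W, hW, hxW, hWV⟩ := basis_AFF (𝔛 := 𝔛) V x hxV
  refine ⟨W, hWV.trans k.le, hW, hxW, n, ?_⟩
  rw [show (homOfLE (hWV.trans k.le) : W ⟶ U) = homOfLE hWV ≫ k from Subsingleton.elim _ _, FTors.res_comp]
  exact hn.res _

/-- Exact sequences lift sections locally. -/
theorem exists_lift_near {S : ShortComplex (FSch.ModF 𝔛 h)} (hS : S.Exact) {U : Opens (𝔛.X 0).carrier}
    (b : ModSite.sect S.X₂ U) (hb : secMap S.g U b = 0) {x : (𝔛.X 0).carrier} (hx : x ∈ U) :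
    ∃ (W : Opens (𝔛.X 0).carrier) (i : W ≤ U), x ∈ W ∧ ∃ a, secMap S.f W a = mRes S.X₂ i b := by
  obtain ⟨k, hk⟩ := exists_kernel_sec S.g U b hb
  haveI : Epi (kernel.lift S.g S.f S.zero) := S.exact_iff_epi_kernel_lift.1 hS
  obtain ⟨W, i, hxW, a, ha⟩ := locally_surjective_of_epi (kernel.lift S.g S.f S.zero) k hx
  refine ⟨W, i, hxW, a, ?_⟩
  have h1 := congrArg (secMap (kernel.ι S.g) W) ha
  rw [secMap_secRes', hk] at h1
  refine Eq.trans ?_ h1
  exact congrArg (fun φ => secMap φ W a) (kernel.lift_ι S.g S.f S.zero).symm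

include hX in
/-- Torsion modules are closed under extensions (middle terms of exact sequences). -/
theorem isTors_middle {S : ShortComplex (FSch.ModF 𝔛 h)} (hS : S.Exact) (h₁ : FTors.IsTorsF 𝔛 h S.X₁)
    (h₃ : FTors.IsTorsF 𝔛 h S.X₃) : FTors.IsTorsF 𝔛 h S.X₂ := by
  intro U s x hx
  obtain ⟨W₂, i₂, hW₂, hxW₂, n, hn⟩ := exists_killed h (h₃ U (secMap S.g U s)) hx
  haveI := isNoetherianRing_sec h hX hW₂
  obtain ⟨q, a, ha⟩ := Submodule.fg_iff_exists_fin_generating_family.1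
    (IsNoetherian.noetherian (jdl h W₂ ^ (n + 1)) : (jdl h W₂ ^ (n + 1)).FG)
  have hI : ∀ (N : ℕ) (V : Opens (𝔛.X 0).carrier) (hV : AFF 𝔛 V) (b : FBlowLib.Sec 𝔛 h V),
      b ∈ (FTors.openIdealFam 𝔛 h).ideal N V ↔ b ∈ jdl h V ^ (N + 1) := fun N V hV b => by
    rw [← ((sec_props h hX hV).2 N).2]
    rfl
  have hg : ∀ j, secMap S.g W₂ (a j • mRes S.X₂ i₂ s) = 0 := fun j => by
    have haj : a j ∈ jdl h W₂ ^ (n + 1) := ha ▸ Submodule.subset_span ⟨j, rfl⟩
    have h0 := hn (𝟙 W₂) (a j) ((hI n W₂ hW₂ _).2 haj)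
    rw [FTors.res_id] at h0
    rw [map_smul, secMap_secRes']
    exact h0
  have key : ∀ (r : ℕ) (b : Fin r → FBlowLib.Sec 𝔛 h W₂), (∀ j, secMap S.g W₂ (b j • mRes S.X₂ i₂ s) = 0) →
      ∃ (W : Opens (𝔛.X 0).carrier) (i : W ≤ W₂), AFF 𝔛 W ∧ x ∈ W ∧ ∃ m, ∀ j, ∃ t : ModSite.sect S.X₁ W,
        secMap S.f W t = mRes S.X₂ i (b j • mRes S.X₂ i₂ s) ∧
          FTors.KilledBy (FTors.openIdealFam 𝔛 h) S.X₁ m t := by
    intro r
    induction r with
    | zero => exact fun b _ => ⟨W₂, le_rfl, hW₂, hxW₂, 0, fun j => j.elim0⟩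
    | succ r ih =>
      intro b hb
      obtain ⟨W, i, hW, hxW, m, hm⟩ := ih (fun j => b j.succ) fun j => hb j.succ
      obtain ⟨V, iV, hxV, t₀, ht₀⟩ := exists_lift_near h hS (mRes S.X₂ i (b 0 • mRes S.X₂ i₂ s))
        (by rw [secMap_secRes', hb 0, map_zero]) hxW
      obtain ⟨V', iV', hV', hxV', m₀, hm₀⟩ := exists_killed h (h₁ V t₀) hxV
      refine ⟨V', (iV'.trans iV).trans i, hV', hxV', max m m₀, fun j => ?_⟩
      induction j using Fin.cases with
      | zero =>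
        refine ⟨mRes S.X₁ iV' t₀, ?_, hm₀.mono (le_max_right _ _)⟩
        rw [secMap_secRes', ht₀, FModLib.secRes_comp, FModLib.secRes_comp]
        rfl
      | succ j =>
        obtain ⟨t, ht, htk⟩ := hm j
        refine ⟨mRes S.X₁ (iV'.trans iV) t, ?_, (htk.res _).mono (le_max_left _ _)⟩
        rw [secMap_secRes', ht, FModLib.secRes_comp]
        rfl
  obtain ⟨W, i, hW, hxW, m, hm⟩ := key q a hg
  refine ⟨W, homOfLE (i.trans i₂), ⟨n + m + 1, fun W' k b hb => ?_⟩, hxW⟩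
  refine sec_ext_basis (goodRing h hX).basis _ _ fun V j hV => ?_
  have hbV : res 𝔛 h j b ∈ jdl h V ^ (n + 1) * jdl h V ^ (m + 1) := by
    rw [← pow_add, show n + 1 + (m + 1) = n + m + 1 + 1 from by omega]
    exact (hI _ V hV _).1 ((FTors.openIdealFam 𝔛 h).map_mem _ (homOfLE j) hb)
  have hz : ∀ c ∈ jdl h V ^ (n + 1) * jdl h V ^ (m + 1),
      c • mRes S.X₂ ((j.trans k.le).trans (i.trans i₂)) s = 0 := by
    intro c hc
    refine Submodule.mul_induction_on hc (fun c hc d hd => ?_) fun y z hy hz => by rw [add_smul, hy, hz, add_zero]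
    have hVW₂ : V ≤ W₂ := (j.trans k.le).trans i
    rw [← map_jdl_eq h hX hVW₂ hW₂ hV, ← Ideal.map_pow, ← ha, Ideal.map_span, ← Set.range_comp] at hc
    rw [mul_comm c d, mul_smul]
    refine Submodule.span_induction (p := fun c _ => d • c • mRes S.X₂ ((j.trans k.le).trans (i.trans i₂)) s = 0)
      ?_ (by rw [zero_smul, smul_zero]) (fun y z _ _ hy hz => by rw [add_smul, smul_add, hy, hz, add_zero])
      (fun r y _ hy => by rw [smul_eq_mul, mul_smul, smul_comm, hy, smul_zero]) hc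
    rintro _ ⟨l, rfl⟩
    obtain ⟨t, ht, htk⟩ := hm l
    have h0 := htk (homOfLE (j.trans k.le)) d ((hI m V hV _).2 hd)
    have h2 := congrArg (secMap S.f V) h0
    rw [map_zero, map_smul] at h2
    refine Eq.trans (congrArg (d • ·) ?_) h2
    refine Eq.trans ?_ (secMap_secRes' S.f (homOfLE (j.trans k.le)) t).symm
    rw [ht, secRes_smul', secRes_smul', FModLib.secRes_comp, FModLib.secRes_comp]
    rw [← CommRingCat.comp_apply, ← Functor.map_comp]
    rfl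
  rw [map_zero, secRes_smul']
  refine Eq.trans ?_ (hz _ hbV)
  refine congrArg (res 𝔛 h j b • ·) ?_
  change secRes S.X₂ (homOfLE j) (secRes S.X₂ k (secRes S.X₂ (homOfLE (i.trans i₂)) s)) = _
  rw [FModLib.secRes_comp, FModLib.secRes_comp]
  rfl

end Groth.Agent.S17051

namespace Groth.Agent.S17051

/-- On a locally Noetherian formal scheme 𝔛 (an adic system of thickenings with locally Noetherian
levels), if F₀ ⟶ F₁ ⟶ F₂ ⟶ F₃ ⟶ F₄ is an exact sequence of O_𝔛-modules with F₀, F₁, F₃, F₄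
quasi-coherent torsion modules, then F₂ is a quasi-coherent torsion module. -/
theorem result (𝔛 : FSch.Sys.{u}) (h𝔛 : 𝔛.IsLocNoethFormal)
    (S : ComposableArrows (FSch.ModF 𝔛 h𝔛.1) 4) (hS : S.Exact)
    (h₀ : FTors.IsQCT 𝔛 h𝔛.1 (S.obj 0)) (h₁ : FTors.IsQCT 𝔛 h𝔛.1 (S.obj 1)) (h₃ : FTors.IsQCT 𝔛 h𝔛.1 (S.obj 3)) (h₄ : FTors.IsQCT 𝔛 h𝔛.1 (S.obj 4)) :
    FTors.IsQCT 𝔛 h𝔛.1 (S.obj 2) := by
  refine ⟨Groth.Agent.S17051.isTors_middle h𝔛.1 h𝔛 (hS.exact 1) h₁.1 h₃.1, ?_⟩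
  exact Groth.Agent.FModLib.isQuasicoherent_fiveTerm h𝔛 S hS h₀.2 h₁.2 h₃.2 h₄.2

end Groth.Agent.S17051
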