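import Groth.Statements.S7308
import Groth.Agent.Resolve13.Contraction

set_option autoImplicit false
universe u
open CategoryTheory CategoryTheory.Limits AlgebraicGeometry
open Resolve

namespace Groth.Agent.S7308

/-- Let X be a Noetherian scheme and ι : E → X a closed immersion which is an exceptional curve of the
first kind. A contraction of E, if it exists, is unique up to unique isomorphism: for contractions
b₁ : X → X₁ and b₂ : X → X₂ of E there is a unique isomorphism e : X₁ ≅ X₂ with b₁ ≫ e = b₂. -/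
theorem result {E X X₁ X₂ : Scheme.{u}} [IsNoetherian X] (ι : E ⟶ X) [IsClosedImmersion ι]
    (hE : Models.IsExcCurve ι) (b₁ : X ⟶ X₁) (hb₁ : Models.IsContractionOf ι b₁) (b₂ : X ⟶ X₂) (hb₂ : Models.IsContractionOf ι b₂) :
    ∃! e : X₁ ≅ X₂, b₁ ≫ e.hom = b₂ := by
  obtain ⟨-, -, y₁, -, hr₁, -⟩ := id hb₁
  obtain ⟨-, -, y₂, -, hr₂, -⟩ := id hb₂
  obtain ⟨u, hu, huu⟩ := Groth.Agent.Resolve13.existsUnique_factor_contraction ι hE b₁ hb₁ b₂ y₂ hr₂
  obtain ⟨v, hv, hvu⟩ := Groth.Agent.Resolve13.existsUnique_factor_contraction ι hE b₂ hb₂ b₁ y₁ hr₁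
  obtain ⟨i, -, hiu⟩ := Groth.Agent.Resolve13.existsUnique_factor_contraction ι hE b₁ hb₁ b₁ y₁ hr₁
  obtain ⟨j, -, hju⟩ := Groth.Agent.Resolve13.existsUnique_factor_contraction ι hE b₂ hb₂ b₂ y₂ hr₂
  have h1 : u ≫ v = 𝟙 _ := (hiu (u ≫ v) (show b₁ ≫ u ≫ v = b₁ by rw [← Category.assoc, show b₁ ≫ u = b₂ from hu]; exact hv)).trans
    (hiu (𝟙 _) (Category.comp_id b₁)).symm
  have h2 : v ≫ u = 𝟙 _ := (hju (v ≫ u) (show b₂ ≫ v ≫ u = b₂ by rw [← Category.assoc, show b₂ ≫ v = b₁ from hv]; exact hu)).trans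
    (hju (𝟙 _) (Category.comp_id b₂)).symm
  refine ⟨⟨u, v, h1, h2⟩, hu, fun e he => Iso.ext (huu e.hom he)⟩

end Groth.Agent.S7308
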