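import Groth.Statements.S7311
import Groth.Agent.ExcC13.QProjContract


set_option autoImplicit false
universe u
open CategoryTheory CategoryTheory.Limits AlgebraicGeometry
open Resolve

namespace Groth.Agent.S7311

/-- Let S be a Noetherian scheme, f : X → S a quasi-projective morphism (of finite type with an
f-relatively ample invertible module), and ι : E → X a closed immersion which is an exceptional
curve of the first kind contained in a fibre of f. Then there exists a contraction b : X → X' of E,
and X' is quasi-projective over S through the unique morphism g : X' → S with b ≫ g = f. -/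
theorem result {E X S : Scheme.{u}} [IsNoetherian S] (f : X ⟶ S)
    (hf : RelProj.IsQuasiProjective f) (ι : E ⟶ X) [IsClosedImmersion ι] (hE : Models.IsExcCurve ι)
    (s : S) (hs : Set.range ((ι ≫ f).base : E → S) = {s}) :
    ∃ (X' : Scheme.{u}) (b : X ⟶ X') (g : X' ⟶ S), Models.IsContractionOf ι b ∧ b ≫ g = f ∧ RelProj.IsQuasiProjective g := by
  obtain ⟨X', b, g, h1, h2, h3, -⟩ := ExcC13.exists_contraction_qproj f hf ι hE s hs
  exact ⟨X', b, g, h1, h2, h3⟩

end Groth.Agent.S7311
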