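import Groth.Statements.S1274
import Groth.Agent.FlatMorAdm.Strict

set_option autoImplicit false
universe u
open FlatMor
set_option backward.isDefEq.respectTransparency.types false

namespace Groth.Agent.S1274

open AlgebraicGeometry CategoryTheory Limits in
/-- Let φ : X → S be proper with S quasi-compact and quasi-separated, and U ⊆ S a quasi-compact open
over which φ is an isomorphism. Then there is a U-admissible blow-up b : S' → S which dominates X,
i.e. b factors as S' → X → S. -/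
theorem result {X S : Scheme.{u}} [CompactSpace S] [QuasiSeparatedSpace S]
    (φ : X ⟶ S) [IsProper φ] (U : S.Opens) (hU : IsCompact (U : Set S)) [IsIso (φ ∣_ U)] :
    ∃ (𝓘 : S.IdealSheafData) (S' : Scheme.{u}) (b : S' ⟶ S), BlowUp.IsBlowUp b 𝓘 ∧ BlowUp.IsAdmissibleFor U 𝓘 ∧
      ∃ h : S' ⟶ X, h ≫ φ = b := by
  haveI : CompactSpace (U : Scheme.{u}) := isCompact_iff_compactSpace.1 hU
  obtain ⟨K, S', b, hb, hadm, hint, hmain⟩ := FlatMorAdm.exists_blowUp_isOpenImmersion φ U hU
    (inv (φ ∣_ U) ≫ (φ ⁻¹ᵁ U).ι) (by rw [Category.assoc, ← morphismRestrict_ι, IsIso.inv_hom_id_assoc])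
  obtain ⟨σ', hσq, h₁, h₂, hopen⟩ := hmain _ _ _ (IsPullback.of_hasPullback φ b)
  haveI : IsIso (σ'.imageι ≫ pullback.snd φ b) := by
    refine FlatMorAdm.surjective_of_dense _ _ ((b ⁻¹ᵁ U : S'.Opens) : Set S')
      (FlatMorAdm.dense_of_isDenseOpen (hint ▸ ModPairLib.isDenseOpen_interior hb.1)) ?_
    intro x hx
    refine ⟨σ'.toImage ⟨x, hx⟩, ?_⟩
    rw [← Scheme.Hom.comp_apply, Scheme.Hom.toImage_imageι_assoc, h₂]
    rfl
  refine ⟨K, S', b, hb, hadm, inv (σ'.imageι ≫ pullback.snd φ b) ≫ σ'.imageι ≫ pullback.fst φ b, ?_⟩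
  rw [Category.assoc, Category.assoc, pullback.condition, ← Category.assoc σ'.imageι,
    IsIso.inv_hom_id_assoc]

end Groth.Agent.S1274
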