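import Groth.Statements.S7299
import Groth.Agent.Resolve13.IdealPowerSections
import Groth.Agent.Resolve13.ModBase
import Groth.Agent.Resolve13.OrdBlowUp
import Groth.Agent.CommAlg4.ConeGraph


set_option autoImplicit false
set_option backward.isDefEq.respectTransparency.types false
universe u
open CategoryTheory CategoryTheory.Limits AlgebraicGeometry
open Resolve

namespace Groth.Agent.S7299

theorem resTop_toGlobal {A : Type u} [CommRing A] {X : Scheme.{u}} (f : X ⟶ Spec (CommRingCat.of A))
    (W : X.Opens) (a : A) :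
    ModPairLib.res (le_top : W ≤ ⊤) (Coh.toGlobal f a) =
      (f.appLE ⊤ W le_top).hom ((Scheme.ΓSpecIso (CommRingCat.of A)).inv.hom a) := rfl

theorem ideal_comap_eq {A : Type u} [CommRing A] {X : Scheme.{u}} (f : X ⟶ Spec (CommRingCat.of A))
    (J : Ideal A) (W : X.affineOpens) :
    ((Curv2.idealSheaf A J).comap f).ideal W =
      J.map ((ModPairLib.res (le_top : W.1 ≤ ⊤)).comp (Coh.toGlobal f)) := by
  rw [ProjLib.comap_ideal_eq _ f ⟨⊤, isAffineOpen_top _⟩ W le_top,
    show (Curv2.idealSheaf A J).ideal ⟨⊤, isAffineOpen_top _⟩ =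
      J.map (Scheme.ΓSpecIso (CommRingCat.of A)).inv.hom from ?_, Ideal.map_map]
  · rfl
  show (J.map (Scheme.ΓSpecIso (CommRingCat.of A)).inv.hom).map
      ((Spec (CommRingCat.of A)).presheaf.map (homOfLE le_top).op).hom = _
  rw [show (homOfLE (le_top : (⊤ : (Spec (CommRingCat.of A)).Opens) ≤ ⊤)).op = 𝟙 _ from rfl,
    CategoryTheory.Functor.map_id]
  exact Ideal.map_id _


/-- Let (A, m) be a local normal Nagata domain of dimension two defining a rational singularity, f : X →
Spec A a proper morphism from an integral normal scheme which is an isomorphism over some nonempty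
open, and suppose the closed fibre, with ideal sheaf I = m O_X, is an effective Cartier divisor.
Then for every n ≥ 0, H^1(X, I^n) = 0 and H^0(X, I^n) = m^n: an element of A, viewed as a global
function on X, lies in I^n on every affine open if and only if it belongs to m^n. -/
theorem result (A : Type u) [CommRing A] [IsDomain A] [IsLocalRing A] [IsNoetherianRing A]
    [IsIntegrallyClosed A] (hN : CAlg.IsNagata A) (hdim : ringKrullDim A = 2) (hA : Curv2.IsRationalSing A)
    (X : Scheme.{u}) (f : X ⟶ Spec (CommRingCat.of A)) [IsProper f] [IsIntegral X] (hXn : Pi1.IsNormalScheme X)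
    (hbir : ∃ U : (Spec (CommRingCat.of A)).Opens, (U : Set (Spec (CommRingCat.of A))).Nonempty ∧ IsIso (f ∣_ U))
    (hE : BlowUp.IsEffCartierIdeal ((Curv2.idealSheaf A (IsLocalRing.maximalIdeal A)).comap f)) (n : ℕ) :
    Subsingleton (Coh.HH X (ClSub.idealMod (((Curv2.idealSheaf A (IsLocalRing.maximalIdeal A)).comap f) ^ n)) 1) ∧
      ∀ a : A, (∀ U : X.affineOpens,
          Coh.resTop X (Opposite.op U.1) (Coh.toGlobal f a) ∈ (((Curv2.idealSheaf A (IsLocalRing.maximalIdeal A)).comap f) ^ n).ideal U) ↔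
        a ∈ IsLocalRing.maximalIdeal A ^ n := by
  let I := (Curv2.idealSheaf A (IsLocalRing.maximalIdeal A)).comap f
  have hdim' : ringKrullDim A ≤ 2 := hdim.le
  obtain ⟨t, gx, hgx⟩ := Submodule.fg_iff_exists_fin_generating_family.1
    (IsNoetherian.noetherian (IsLocalRing.maximalIdeal A))
  replace hgx : Ideal.span (Set.range gx) = IsLocalRing.maximalIdeal A := hgx
  let x : Fin t → Γ(X, ⊤) := fun i => Coh.toGlobal f (gx i)
  have hI : Resolve13.IdealPow.GenBy I x := fun W => by
    rw [ideal_comap_eq f _ W, ← hgx, Ideal.map_span, ← Set.range_comp]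
    rfl
  have hv : Lipman24.NoH2 X := fun M hM =>
    haveI := hM; Resolve13.subsingleton_HH_of_modification f hdim' hbir M 2 le_rfl
  have h1 : Subsingleton (Coh.HH X (Coh.structureModule X) 1) :=
    hA X f inferInstance inferInstance hXn hbir
  refine ⟨Resolve13.IdealPow.subsingleton_H1_pow hI hv h1 n, ?_⟩
  -- the two inclusions
  have hle : ∀ (n : ℕ) (a : A), a ∈ IsLocalRing.maximalIdeal A ^ n → ∀ W : X.affineOpens,
      ModPairLib.res (le_top : W.1 ≤ ⊤) (Coh.toGlobal f a) ∈ (I ^ n).ideal W := fun n a ha W => by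
    rw [Scheme.IdealSheafData.ideal_pow, Pi.pow_apply, ideal_comap_eq f _ W, ← Ideal.map_pow]
    exact Ideal.mem_map_of_mem _ ha
  -- sections of the structure sheaf
  obtain ⟨U, hUne, hU⟩ := hbir
  obtain ⟨hξ, hb⟩ := Coherent.birational_of_isIso_morphismRestrict f U hUne
  have hiso : IsIso (f.app ⊤) := Coherent.isIso_app_of_birational f
    (CommAlg4.Cone.isNormalScheme_spec (CommRingCat.of A)) hξ ((ConcreteCategory.isIso_iff_bijective _).2 hb) ⊤
  have hglob : ∀ c : Γ(X, ⊤), ∃ a : A, Coh.toGlobal f a = c := fun c => by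
    obtain ⟨d, hd⟩ := (ConcreteCategory.bijective_of_isIso (f.app ⊤)).2 c
    exact ⟨(Scheme.ΓSpecIso (CommRingCat.of A)).hom.hom d, (congrArg (f.app ⊤)
      (ConcreteCategory.congr_hom (Scheme.ΓSpecIso (CommRingCat.of A)).hom_inv_id d)).trans hd⟩
  have hinj : Function.Injective (Coh.toGlobal f) :=
    (ConcreteCategory.bijective_of_isIso (f.app ⊤)).1.comp
      (ConcreteCategory.bijective_of_isIso (Scheme.ΓSpecIso (CommRingCat.of A)).inv).1
  -- a point in the closed fibre
  obtain ⟨y, hy⟩ : ∃ y : X, f y = IsLocalRing.closedPoint A := by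
    have hc : IsClosed (Set.range f) := f.isClosedMap.isClosed_range
    exact (genericPoint_specializes (IsLocalRing.closedPoint A : Spec (CommRingCat.of A))).mem_closed hc
      ⟨genericPoint X, hξ⟩
  intro a
  refine ⟨fun ha => ?_, fun ha W => hle n a ha W⟩
  replace ha : ∀ W : X.affineOpens, ModPairLib.res (le_top : W.1 ≤ ⊤) (Coh.toGlobal f a) ∈ (I ^ n).ideal W := ha
  match n with
  | 0 => simp
  | n + 1 =>
    induction n generalizing a with
    | zero =>
      rw [zero_add, pow_one]
      by_contra hm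
      obtain ⟨W, hW, hyW, -⟩ := exists_isAffineOpen_mem_and_subset (x := y) (U := (⊤ : X.Opens)) trivial
      have htop : (I.ideal ⟨W, hW⟩) = ⊤ := by
        refine Ideal.eq_top_of_isUnit_mem _ (by simpa [Scheme.IdealSheafData.ideal_pow] using ha ⟨W, hW⟩) ?_
        exact ((IsLocalRing.notMem_maximalIdeal.1 hm).map (Coh.toGlobal f)).map _
      have hle' : I.ideal ⟨W, hW⟩ ≤
          (IsLocalRing.maximalIdeal (X.presheaf.stalk y)).comap (X.presheaf.germ W y hyW).hom := by
        rw [hI ⟨W, hW⟩, Ideal.span_le]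
        rintro _ ⟨i, rfl⟩
        rw [SetLike.mem_coe, Ideal.mem_comap, IsLocalRing.mem_maximalIdeal, mem_nonunits_iff]
        intro hu
        have h2 : y ∈ X.basicOpen (ModPairLib.res (le_top : W ≤ ⊤) (x i)) := (X.mem_basicOpen _ y hyW).2 hu
        rw [Scheme.basicOpen_res] at h2
        have h3 : f y ∈ (Spec (CommRingCat.of A)).basicOpen ((Scheme.ΓSpecIso (CommRingCat.of A)).inv.hom (gx i)) := by
          have h4 := h2.2
          rw [show x i = f.appTop ((Scheme.ΓSpecIso (CommRingCat.of A)).inv.hom (gx i)) from rfl,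
            ← Scheme.preimage_basicOpen_top] at h4
          exact h4
        rw [hy, basicOpen_eq_of_affine] at h3
        exact h3 (show gx i ∈ IsLocalRing.maximalIdeal A from hgx ▸ Ideal.subset_span ⟨i, rfl⟩)
      have h1' := hle' (htop ▸ Submodule.mem_top : (1 : Γ(X, W)) ∈ I.ideal ⟨W, hW⟩)
      rw [Ideal.mem_comap, map_one] at h1'
      exact (IsLocalRing.maximalIdeal.isMaximal _).ne_top ((Ideal.eq_top_iff_one _).2 h1')
    | succ m ih =>
      obtain ⟨b, hb', hbm⟩ := Resolve13.IdealPow.exists_sum_of_sections hI hE hv h1 m (Coh.toGlobal f a) ha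
      choose c hc using fun i => hglob (b i)
      have hcm : ∀ i, c i ∈ IsLocalRing.maximalIdeal A ^ (m + 1) := fun i =>
        ih (c i) fun W => by rw [hc]; exact hbm i W
      have hsum : a = ∑ i, c i * gx i := hinj (by
        rw [hb', map_sum]
        exact Finset.sum_congr rfl fun i _ => by rw [map_mul, hc]; rfl)
      rw [hsum, pow_succ]
      exact Ideal.sum_mem _ fun i _ => Ideal.mul_mem_mul (hcm i) (hgx ▸ Ideal.subset_span ⟨i, rfl⟩)

end Groth.Agent.S7299
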