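import Groth.Statements.S1650
import Groth.Agent.S7299
import Groth.Agent.Resolve13.NormModif
import Groth.Agent.FlatMor12.AmpleFamily
import Groth.Agent.Resolve13.SncSupport
import Groth.Agent.Resolve13.Modification
import Groth.Agent.BMLib.PointIso


set_option autoImplicit false
set_option backward.isDefEq.respectTransparency.types false
universe u
open CategoryTheory CategoryTheory.Limits AlgebraicGeometry TopologicalSpace
open Resolve
open Groth.Agent.ModPairLib (res res_res ideal_restrict res_mem_nonZeroDivisors)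

namespace Groth.Agent.S1650

variable {X : Scheme.{u}}

theorem res_self (U : X.Opens) (s : Γ(X, U)) : res (le_refl U) s = s := by
  simp [ModPairLib.res]

/-- The pullback of an effective Cartier ideal along a dominant map of integral schemes is effective Cartier. -/
theorem isEff_comap {Y : Scheme.{u}} [IsIntegral X] [IsIntegral Y] (g : Y ⟶ X)
    (hg : g (genericPoint Y) = genericPoint X) {E : X.IdealSheafData} (hE : BlowUp.IsEffCartierIdeal E) :
    BlowUp.IsEffCartierIdeal (E.comap g) := by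
  intro y
  obtain ⟨U, hyU, f, hf, hU⟩ := hE (g y)
  obtain ⟨W, hW, hyW, hWU⟩ := exists_isAffineOpen_mem_and_subset (x := y) (U := g ⁻¹ᵁ U.1) hyU
  haveI : Nonempty W := ⟨⟨y, hyW⟩⟩
  haveI : Nonempty U.1 := ⟨⟨g y, hyU⟩⟩
  refine ⟨⟨W, hW⟩, hyW, (g.appLE U.1 W hWU).hom f, ?_, ?_⟩
  · refine mem_nonZeroDivisors_of_ne_zero fun h => ?_
    have := Resolve13.appLE_injective g hg U.1 ((genericPoint_specializes (g y)).mem_open U.1.2 hyU) W
      ((genericPoint_specializes y).mem_open W.2 hyW) hWU (h.trans (map_zero _).symm)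
    exact zero_ne_one' Γ(X, U.1) (mul_cancel_right_mem_nonZeroDivisors hf |>.1 (by rw [this, mul_zero, mul_zero]))
  · rw [ProjLib.comap_ideal_eq E g U ⟨W, hW⟩ hWU, hU, Ideal.map_span, Set.image_singleton]

/-- An element generating an ideal near every point of an affine open generates it there. -/
theorem ideal_eq_span_of_local (J : X.IdealSheafData) (V : X.affineOpens) (t : Γ(X, V.1)) (ht : t ∈ J.ideal V)
    (h : ∀ y ∈ V.1, ∃ (W : X.affineOpens) (hW : W.1 ≤ V.1), y ∈ W.1 ∧ J.ideal W = Ideal.span {res hW t}) :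
    J.ideal V = Ideal.span {t} := by
  refine le_antisymm (V.2.ideal_le_iff.2 fun y hy => ?_) ((Ideal.span_singleton_le_iff_mem _).2 ht)
  obtain ⟨W, hW, hyW, hJW⟩ := h y hy
  rw [Ideal.map_span, Set.image_singleton, Ideal.map_le_iff_le_comap]
  intro z hz
  have hzW : res hW z ∈ J.ideal W := by
    rw [← J.map_ideal (U := W) (V := V) hW]
    exact Ideal.mem_map_of_mem _ hz
  obtain ⟨d, hd⟩ := Ideal.mem_span_singleton'.1 (hJW.le hzW)
  rw [Ideal.mem_comap, Ideal.mem_span_singleton']
  refine ⟨X.presheaf.germ W.1 y hyW d, ?_⟩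
  rw [← X.presheaf.germ_res_apply (homOfLE hW) y hyW z, ← X.presheaf.germ_res_apply (homOfLE hW) y hyW t]
  exact (map_mul _ _ _).symm.trans (congrArg _ hd)

/-- A function on the locus where a global function `x` generates `J`, times a power of `x`, is a global
section of that power of `J`. -/
theorem exists_extend [IsIntegral X] [CompactSpace X] (J : X.IdealSheafData) (hJ : BlowUp.IsEffCartierIdeal J)
    (x : Γ(X, ⊤)) (hx : ∀ W : X.affineOpens, res (le_top : W.1 ≤ ⊤) x ∈ J.ideal W) (V : X.Opens) [Nonempty V]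
    (hV : ∀ (W : X.affineOpens) (f c : Γ(X, W.1)), f ∈ nonZeroDivisors Γ(X, W.1) → J.ideal W = Ideal.span {f} →
      c * f = res (le_top : W.1 ≤ ⊤) x → V ⊓ W.1 = X.basicOpen c) (r : Γ(X, V)) :
    ∃ (N : ℕ) (c : Γ(X, ⊤)), (∀ W : X.affineOpens, res (le_top : W.1 ≤ ⊤) c ∈ (J ^ N).ideal W) ∧
      res (le_top : V ≤ ⊤) c = r * res (le_top : V ≤ ⊤) x ^ N := by
  classical
  choose W hW f hf hJf using hJ
  have hc : ∀ p, ∃ c, c * f p = res (le_top : (W p).1 ≤ ⊤) (x) := fun p =>
    Ideal.mem_span_singleton'.1 (hJf p ▸ hx (W p))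
  choose c hc using hc
  obtain ⟨T, hT⟩ := isCompact_univ.elim_finite_subcover (fun p : X => ((W p).1 : Set X))
    (fun p => (W p).1.2) (fun p _ => Set.mem_iUnion.2 ⟨p, hW p⟩)
  let Wi : T → X.Opens := fun p => (W p.1).1
  have hle : ∀ p : T, X.basicOpen (c p.1) ≤ V := fun p => (hV _ _ _ (hf p.1) (hJf p.1) (hc p.1)).ge.trans inf_le_left
  have hd : ∀ p : T, ∃ (n : ℕ) (d : Γ(X, (W p.1).1)),
      res (hle p) r * res (X.basicOpen_le (c p.1)) (c p.1) ^ n = res (X.basicOpen_le (c p.1)) d := fun p => by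
    haveI := (W p.1).2.isLocalization_basicOpen (c p.1)
    obtain ⟨n, d, hnd⟩ := IsLocalization.Away.surj (c p.1) (res (hle p) r)
    exact ⟨n, d, hnd⟩
  choose n d hd using hd
  let N := Finset.univ.sup n
  let s : ∀ p : T, Γ(X, (W p.1).1) := fun p => d p * c p.1 ^ (N - n p) * f p.1 ^ N
  have hs : ∀ p : T, res (X.basicOpen_le (c p.1)) (s p) =
      res (hle p) (r * res (le_top : V ≤ ⊤) x ^ N) := fun p => by
    have hx' : res (hle p) (res (le_top : V ≤ ⊤) x) = res (X.basicOpen_le (c p.1)) (c p.1 * f p.1) := by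
      rw [hc, res_res, res_res]
    simp only [s, map_mul, map_pow, hx', ← hd p, mul_pow]
    rw [mul_assoc (res (hle p) r), ← pow_add, Nat.add_sub_cancel' (Finset.le_sup (Finset.mem_univ p))]
    ring
  haveI hWne : ∀ p : T, Nonempty (W p.1).1 := fun p => ⟨⟨_, hW p.1⟩⟩
  have hη : ∀ (O : X.Opens) [Nonempty O], genericPoint X ∈ O := fun O h => by
    obtain ⟨⟨y, hy⟩⟩ := h
    exact (genericPoint_specializes y).mem_open O.2 hy
  have key : ∀ p : T, X.germToFunctionField (W p.1).1 (s p) =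
      X.germToFunctionField V (r * res (le_top : V ≤ ⊤) x ^ N) := fun p => by
    have hm : genericPoint X ∈ X.basicOpen (c p.1) := by
      rw [← hV _ _ _ (hf p.1) (hJf p.1) (hc p.1)]
      exact ⟨hη V, hη (W p.1).1⟩
    show X.presheaf.germ _ (genericPoint X) (hη _) (s p) = X.presheaf.germ _ (genericPoint X) (hη _) _
    rw [← X.presheaf.germ_res_apply (homOfLE (X.basicOpen_le (c p.1))) _ hm (s p),
      ← X.presheaf.germ_res_apply (homOfLE (hle p)) _ hm (r * res (le_top : V ≤ ⊤) x ^ N)]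
    exact congrArg _ (hs p)
  have hcov : (⊤ : X.Opens) ≤ ⨆ p : T, Wi p := fun y _ => by
    obtain ⟨p, hp, hyp⟩ := Set.mem_iUnion₂.1 (hT (Set.mem_univ y))
    exact Opens.mem_iSup.2 ⟨⟨p, hp⟩, hyp⟩
  obtain ⟨g, hg, -⟩ := TopCat.Sheaf.existsUnique_gluing' X.sheaf Wi ⊤ (fun p => homOfLE le_top) hcov s
    fun p q => by
      have hm : genericPoint X ∈ Wi p ⊓ Wi q := ⟨hη _, hη _⟩
      haveI : Nonempty (Wi p ⊓ Wi q : X.Opens) := ⟨⟨_, hm⟩⟩
      refine X.germToFunctionField_injective (Wi p ⊓ Wi q) ?_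
      exact (TopCat.Presheaf.germ_res_apply X.presheaf _ _ hm _).trans ((key p).trans
        ((key q).symm.trans (TopCat.Presheaf.germ_res_apply X.presheaf _ _ hm _).symm))
  refine ⟨N, g, ?_, ?_⟩
  · have h0 : ∀ p : T, res (le_top : Wi p ≤ ⊤) g ∈ (J ^ N).ideal (W p.1) := fun p => by
      rw [show res (le_top : Wi p ≤ ⊤) g = s p from hg p, Scheme.IdealSheafData.ideal_pow, Pi.pow_apply, hJf p.1,
        Ideal.span_singleton_pow]
      exact Ideal.mul_mem_left _ _ (Ideal.mem_span_singleton_self _)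
    have hz : (J ^ N).subschemeι.app ⊤ g = 0 := by
      show (show Γ(ClSub.quotMod (J ^ N), (⊤ : X.Opens)) from (ClSub.toSubscheme (J ^ N)).app ⊤ g) = 0
      refine AmpleLib.sec_ext _ _ _ fun y _ => ?_
      obtain ⟨p, hp⟩ := Opens.mem_iSup.1 (hcov (Opens.mem_top y))
      refine ⟨Wi p, le_top, hp, ?_⟩
      rw [← Coherent.app_resM, map_zero]
      show (J ^ N).subschemeι.app (Wi p) (res (le_top : Wi p ≤ ⊤) g) = 0
      exact RingHom.mem_ker.1 (((J ^ N).ker_subschemeι_app (W p.1)).symm ▸ h0 p)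
    obtain ⟨k, hk⟩ := (AmpleLib.mem_range_idealModι (J ^ N) ⊤ g).2 hz
    intro W'
    have hk' : InjMod14.Kosz.ival (J ^ N) ⊤ k = g := hk
    rw [← hk', ← Resolve13.IdealPow.ival_resM]
    exact InjMod14.Kosz.ival_mem _ _ _
  · refine X.germToFunctionField_injective V ?_
    obtain ⟨p, -⟩ := Opens.mem_iSup.1 (hcov (Opens.mem_top (genericPoint X)))
    refine Eq.trans ?_ (key p)
    show X.presheaf.germ _ (genericPoint X) (hη _) _ = X.presheaf.germ (Wi p) (genericPoint X) (hη _) (s p)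
    rw [← show res (le_top : Wi p ≤ ⊤) g = s p from hg p]
    exact (X.presheaf.germ_res_apply (homOfLE le_top) _ _ g).trans (X.presheaf.germ_res_apply (homOfLE le_top) _ _ g).symm


/-- Let A be a local normal Nagata domain of dimension two defining a rational singularity and b : X →
Spec A a blowing up in the maximal ideal. Then X is a normal scheme. -/
theorem result (A : Type u) [CommRing A] [IsDomain A] [IsLocalRing A] [IsNoetherianRing A]
    [IsIntegrallyClosed A] (hN : CAlg.IsNagata A) (hdim : ringKrullDim A = 2) (hA : Curv2.IsRationalSing A)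
    (X : Scheme.{u}) (b : X ⟶ Spec (CommRingCat.of A)) (hb : BlowUp.IsBlowUp b (Curv2.idealSheaf A (IsLocalRing.maximalIdeal A))) :
    Pi1.IsNormalScheme X := by
  let S := Spec (CommRingCat.of A)
  let I : S.IdealSheafData := Curv2.idealSheaf A (IsLocalRing.maximalIdeal A)
  let T : S.affineOpens := ⟨⊤, isAffineOpen_top _⟩
  let iso := (Scheme.ΓSpecIso (CommRingCat.of A)).inv.hom
  have hIT : I.ideal T = (IsLocalRing.maximalIdeal A).map iso := by
    show ((IsLocalRing.maximalIdeal A).map iso).map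
        ((Spec (CommRingCat.of A)).presheaf.map (homOfLE le_top).op).hom = _
    rw [show (homOfLE (le_top : (⊤ : (Spec (CommRingCat.of A)).Opens) ≤ ⊤)).op = 𝟙 _ from rfl,
      CategoryTheory.Functor.map_id]
    exact Ideal.map_id _
  have hft : BlowUp.IsFiniteTypeIdeal I := fun U => by
    haveI : IsNoetherianRing Γ(S, U.1) := IsLocallyNoetherian.component_noetherian U
    exact IsNoetherian.noetherian _
  have hne : I ≠ ⊥ := fun h => by
    have h1 : (IsLocalRing.maximalIdeal A).map iso = ⊥ := by rw [← hIT, h]; rfl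
    rw [Ideal.map_eq_bot_iff_of_injective
      (ConcreteCategory.bijective_of_isIso (Scheme.ΓSpecIso (CommRingCat.of A)).inv).1] at h1
    have hfld : IsField A := IsLocalRing.isField_iff_maximalIdeal_eq.2 h1
    rw [ringKrullDim_eq_zero_of_isField hfld] at hdim
    exact absurd hdim (by decide)
  have hη : genericPoint S ∈ I.support.compl := Resolve13.genericPoint_notMem_support I hne
  haveI : IsIntegral X := Resolve13.isIntegral_blowUp hb hη
  haveI : IsProper b := BlowUpLib.isProper_of_isBlowUp hb hft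
  haveI : IsLocallyNoetherian X := LocallyOfFiniteType.isLocallyNoetherian b
  haveI : CompactSpace X := QuasiCompact.compactSpace_of_compactSpace b
  haveI : AlgebraicGeometry.IsNoetherian X := {}
  obtain ⟨X', g, hgfin, hint, hnorm, V₀, hV₀ne, hV₀⟩ := Resolve13.exists_finite_normalization hN b
  haveI := hint
  haveI := hgfin
  obtain ⟨hgη, hgb⟩ := Coherent.birational_of_isIso_morphismRestrict g V₀ hV₀ne
  have hX'c : CompactSpace X' := QuasiCompact.compactSpace_of_compactSpace g
  haveI hisoff := SDiv28.isIso_off_center hb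
  let f := g ≫ b
  -- birationality of the composite
  obtain ⟨U₀, hU₀ne, hU₀⟩ : ∃ U : S.Opens, (U : Set S).Nonempty ∧ IsIso (f ∣_ U) := by
    obtain ⟨hbη, -⟩ := Coherent.birational_of_isIso_morphismRestrict b I.support.compl ⟨_, hη⟩
    let C : S.Opens := I.support.compl
    let Z : Set S := b '' ((V₀ : Set X)ᶜ)
    have hZ : IsClosed Z := b.isClosedMap _ V₀.isOpen.isClosed_compl
    let U₁ : S.Opens := C ⊓ ⟨Zᶜ, hZ.isOpen_compl⟩
    have hηU₁ : genericPoint S ∈ U₁ := by
      refine ⟨hη, fun ⟨y, hy, hby⟩ => hy ?_⟩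
      obtain ⟨hbη, hbb⟩ := Coherent.birational_of_isIso_morphismRestrict b C ⟨_, hη⟩
      rw [Resolve13.Modification.eq_genericPoint b hbη hbb y hby]
      exact (genericPoint_spec X).mem_open_set_iff V₀.2 |>.2 (by simpa using hV₀ne)
    have hle : b ⁻¹ᵁ U₁ ≤ V₀ := fun y hy => by_contra fun h => hy.2 ⟨y, h, rfl⟩
    refine ⟨U₁, ⟨_, hηU₁⟩, ?_⟩
    have h1 : IsIso (b ∣_ U₁) := BMLib.isIso_restrict_of_le b (U := C) inf_le_left
    have h2 : IsIso (g ∣_ (b ⁻¹ᵁ U₁)) := BMLib.isIso_restrict_of_le g hle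
    rw [show f ∣_ U₁ = g ∣_ (b ⁻¹ᵁ U₁) ≫ b ∣_ U₁ from morphismRestrict_comp g b U₁]
    exact @IsIso.comp_isIso _ _ _ _ _ _ _ h2 h1
  obtain ⟨hfη, -⟩ := Coherent.birational_of_isIso_morphismRestrict f U₀ hU₀ne
  have hEI : (I.comap f) = (I.comap b).comap g := Scheme.IdealSheafData.comap_comp _ _ _
  have hE' : BlowUp.IsEffCartierIdeal (I.comap f) := hEI ▸ isEff_comap g hgη hb.1
  obtain ⟨t, gx, hgx⟩ := Submodule.fg_iff_exists_fin_generating_family.1
    (IsNoetherian.noetherian (IsLocalRing.maximalIdeal A))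
  replace hgx : Ideal.span (Set.range gx) = IsLocalRing.maximalIdeal A := hgx
  let a : Fin t → Γ(S, T.1) := fun i => iso (gx i)
  have ha : ∀ i, a i ∈ I.ideal T := fun i =>
    hIT ▸ Ideal.mem_map_of_mem iso (hgx ▸ Ideal.subset_span ⟨i, rfl⟩)
  let V : Fin t → X.Opens := fun i => BlowUpLib.locus I b T (a i)
  have hVaff : ∀ i, IsAffineOpen (V i) := fun i => FlatMor12.AmpleFamily.isAffineOpen_locus hb T (ha i)
  have hcov : ⨆ i, V i = ⊤ := top_le_iff.1 fun y _ => by
    obtain ⟨_, ⟨i, rfl⟩, hy⟩ := BlowUpLib.exists_mem_locus b hb.1 T (Opens.mem_top (b y)) (Set.range a) (by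
      rw [hIT, ← hgx, Ideal.map_span, ← Set.range_comp]; rfl)
    exact Opens.mem_iSup.2 ⟨i, hy⟩
  haveI : IsIso g := Resolve13.isIso_of_app_bijective g V hVaff hcov fun i => by
    rcases (V i : Set X).eq_empty_or_nonempty with hE | ⟨y, hy⟩
    · have hV0 : V i = ⊥ := Opens.ext hE
      rw [hV0]
      haveI : Subsingleton Γ(X, (⊥ : X.Opens)) := inferInstance
      haveI : Subsingleton Γ(X', g ⁻¹ᵁ (⊥ : X.Opens)) := inferInstanceAs (Subsingleton Γ(X', (⊥ : X'.Opens)))
      exact ⟨fun p q _ => Subsingleton.elim p q, fun p => ⟨0, Subsingleton.elim _ _⟩⟩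
    have hηV : genericPoint X ∈ V i := (genericPoint_specializes y).mem_open (V i).2 hy
    have hη' : genericPoint X' ∈ g ⁻¹ᵁ V i := show g (genericPoint X') ∈ V i from hgη.symm ▸ hηV
    refine ⟨?_, fun r => ?_⟩
    · have := Resolve13.appLE_injective g hgη (V i) hηV (g ⁻¹ᵁ V i) hη' le_rfl
      rwa [← Scheme.Hom.app_eq_appLE] at this
    · haveI : Nonempty (g ⁻¹ᵁ V i : X'.Opens) := ⟨⟨_, hη'⟩⟩
      haveI : Nonempty (V i) := ⟨⟨_, hηV⟩⟩
      have hxW : ∀ W : X'.affineOpens, res (le_top : W.1 ≤ ⊤) (Coh.toGlobal f (gx i)) ∈ (I.comap f).ideal W := fun W => by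
        rw [S7299.ideal_comap_eq f _ W]
        exact Ideal.mem_map_of_mem _ (hgx ▸ Ideal.subset_span ⟨i, rfl⟩)
      have hloc : ∀ (W : X'.affineOpens) (q c : Γ(X', W.1)), q ∈ nonZeroDivisors Γ(X', W.1) →
          (I.comap f).ideal W = Ideal.span {q} → c * q = res (le_top : W.1 ≤ ⊤) (Coh.toGlobal f (gx i)) →
          g ⁻¹ᵁ V i ⊓ W.1 = X'.basicOpen c := by
        intro W q c hq hqW hcq
        have hpre : g ⁻¹ᵁ V i = BlowUpLib.locus I f T (a i) := BlowUpLib.preimage_locus (ha i) b hb.1 g hE'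
        rw [hpre]
        refine le_antisymm (fun y hy => ?_) (le_inf (fun y hy => ?_) (X'.basicOpen_le c))
        · obtain ⟨W', hyW', hW'⟩ := BlowUpLib.mem_locus.1 hy.1
          obtain ⟨W'', hW''aff, hyW'', hW''le⟩ := exists_isAffineOpen_mem_and_subset (x := y) (U := W.1 ⊓ W'.1) ⟨hy.2, hyW'⟩
          have hleW : W'' ≤ W.1 := fun w hw => (hW''le hw).1
          obtain ⟨e, he⟩ := hW'.mono (V' := ⟨W'', hW''aff⟩) fun w hw => (hW''le hw).2
          have h1 := ideal_restrict (I.comap f) (U := W) (V := ⟨W'', hW''aff⟩) hleW hqW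
          have h2 : res hleW c * res hleW q = (f.appLE ⊤ W'' e).hom (a i) := by
            rw [← map_mul, hcq, res_res]
            rfl
          obtain ⟨k, hk⟩ := Ideal.mem_span_singleton'.1 (he.le (h1.ge (Ideal.mem_span_singleton_self _)))
          have hu : IsUnit (res hleW c) := by
            refine IsUnit.of_mul_eq_one k ?_
            refine (mul_cancel_right_mem_nonZeroDivisors (res_mem_nonZeroDivisors (U := W) (V := ⟨W'', hW''aff⟩) hleW hq)).1 ?_
            rw [one_mul, mul_right_comm, h2, mul_comm]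
            exact hk
          exact BlowUpLib.le_basicOpen_of_isUnit hleW c hu hyW''
        · exact BlowUpLib.mem_locus.2 ⟨X'.affineBasicOpen c, hy,
            BlowUpLib.generates_of_isUnit (V' := X'.affineBasicOpen c) (X'.basicOpen_le c) le_top hqW hcq
              (RingedSpace.isUnit_res_basicOpen X'.toRingedSpace c)⟩
      obtain ⟨N, k, hk, hkr⟩ := exists_extend (I.comap f) hE' (Coh.toGlobal f (gx i)) hxW (g ⁻¹ᵁ V i) hloc r
      have hbirf : ∃ U : S.Opens, (U : Set S).Nonempty ∧ IsIso (f ∣_ U) := ⟨U₀, hU₀ne, hU₀⟩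
      obtain ⟨hξ, hbj⟩ := Coherent.birational_of_isIso_morphismRestrict f U₀ hU₀ne
      haveI : IsIso (f.app ⊤) := Coherent.isIso_app_of_birational f
        (CommAlg4.Cone.isNormalScheme_spec (CommRingCat.of A)) hξ ((ConcreteCategory.isIso_iff_bijective _).2 hbj) ⊤
      obtain ⟨k', hk'⟩ := (ConcreteCategory.bijective_of_isIso (f.app ⊤)).2 k
      let z : A := (Scheme.ΓSpecIso (CommRingCat.of A)).hom.hom k'
      have hz : Coh.toGlobal f z = k := (congrArg (f.app ⊤)
        (ConcreteCategory.congr_hom (Scheme.ΓSpecIso (CommRingCat.of A)).hom_inv_id k')).trans hk'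
      have hzm : z ∈ IsLocalRing.maximalIdeal A ^ N :=
        ((S7299.result A hN hdim hA X' f hnorm hbirf hE' N).2 z).1 (fun W => by
          show res (le_top : W.1 ≤ ⊤) (Coh.toGlobal f z) ∈ _
          rw [hz]; exact hk W)
      let Vi : X.affineOpens := ⟨V i, hVaff i⟩
      have hspan : (I.comap b).ideal Vi = Ideal.span {res (le_top : V i ≤ ⊤) (Coh.toGlobal b (gx i))} := by
        refine ideal_eq_span_of_local _ _ _ (by
          rw [S7299.ideal_comap_eq b _ Vi]
          exact Ideal.mem_map_of_mem _ (hgx ▸ Ideal.subset_span ⟨i, rfl⟩)) fun w hw => ?_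
        obtain ⟨W, hwW, hW⟩ := BlowUpLib.mem_locus.1 hw
        refine ⟨W, ?_, hwW, ?_⟩
        · exact le_iSup (fun W : {W : X.affineOpens // BlowUpLib.Generates I b T (a i) W} => W.1.1) ⟨W, hW⟩
        · obtain ⟨e, he⟩ := hW
          refine he.trans (congrArg (fun q => Ideal.span {q}) ?_)
          rw [res_res]
          rfl
      have hmem : res (le_top : V i ≤ ⊤) (Coh.toGlobal b z) ∈ ((I.comap b) ^ N).ideal Vi := by
        rw [Scheme.IdealSheafData.ideal_pow, Pi.pow_apply, S7299.ideal_comap_eq b _ Vi, ← Ideal.map_pow]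
        exact Ideal.mem_map_of_mem _ hzm
      rw [Scheme.IdealSheafData.ideal_pow, Pi.pow_apply, hspan, Ideal.span_singleton_pow,
        Ideal.mem_span_singleton'] at hmem
      obtain ⟨v, hv⟩ := hmem
      refine ⟨v, ?_⟩
      have hcompat : ∀ w : A, g.app (V i) (res (le_top : V i ≤ ⊤) (Coh.toGlobal b w)) =
          res (le_top : g ⁻¹ᵁ V i ≤ ⊤) (Coh.toGlobal f w) := fun w => by
        show g.app (V i) (res _ (Coh.toGlobal b w)) = res _ (g.app ⊤ (Coh.toGlobal b w))
        exact ConcreteCategory.congr_hom (g.naturality (homOfLE (le_top : V i ≤ ⊤)).op) _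
      have h := congrArg (g.app (V i)) hv
      rw [map_mul, map_pow, hcompat, hcompat, hz] at h
      refine (mul_cancel_right_mem_nonZeroDivisors (pow_mem ?_ N)).1 (h.trans hkr)
      refine mem_nonZeroDivisors_of_ne_zero fun h0 => ?_
      have hnz := BlowUpLib.mem_nonZeroDivisors_of_eff hb.1 hspan
      rw [← hcompat, ← map_zero (g.app (V i)).hom] at h0
      have hinj := Resolve13.appLE_injective g hgη (V i) hηV (g ⁻¹ᵁ V i) hη' le_rfl
      rw [← Scheme.Hom.app_eq_appLE] at hinj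
      exact nonZeroDivisors.ne_zero hnz (hinj h0)
  intro y
  have hX' := hnorm ((inv g) y)
  let e := (CategoryTheory.asIso ((inv g).stalkMap y)).commRingCatIsoToRingEquiv
  haveI := hX'.1
  haveI := hX'.2
  have hd : IsDomain (X.presheaf.stalk y) := e.symm.toMulEquiv.isDomain
  exact ⟨hd, IsIntegrallyClosed.of_equiv e⟩

end Groth.Agent.S1650
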