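import Groth.Statements.S1598
import Groth.Agent.Resolve13.CompletionPts
import Groth.Agent.CAlgH.RegularHom
import Groth.Agent.CAlgH3.RegularHom
import Groth.Agent.Matlis6.CompletionNoetherian
-- import your own Groth.Agent.* helpers here

set_option autoImplicit false
set_option backward.isDefEq.respectTransparency.types false
universe u
open CategoryTheory CategoryTheory.Limits AlgebraicGeometry
open Resolve

namespace Groth.Agent.S1598

/-- Let A be a Noetherian local ring with completion A^, X locally of finite type over Spec A, Y its
base change to Spec A^, and y a point of Y lying over the closed point of Spec A^ with image x in X.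
Then the local ring of Y at y is regular if and only if the local ring of X at x is regular. -/
theorem result (A : Type u) [CommRing A] [IsLocalRing A] [IsNoetherianRing A]
    (X : Scheme.{u}) (f : X ⟶ Spec (CommRingCat.of A)) [LocallyOfFiniteType f]
    (y : Curv2.bcCpl A f) (hy : (Curv2.bcCplSnd A f).base y = IsLocalRing.closedPoint (Curv2.cpl A)) :
    IsRegularLocalRing ((Curv2.bcCpl A f).presheaf.stalk y) ↔
      IsRegularLocalRing (X.presheaf.stalk ((Curv2.bcCplFst A f).base y)) := by
  let g := Curv2.bcCplFst A f
  let c := algebraMap A (Curv2.cpl A)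
  haveI : IsLocallyNoetherian X := LocallyOfFiniteType.isLocallyNoetherian f
  haveI : IsNoetherianRing (Curv2.cpl A) := Agent.Matlis6.isNoetherianRing_adicCompletion _
  haveI : LocallyOfFiniteType (Curv2.bcCplSnd A f) := MorphismProperty.pullback_snd _ _ inferInstance
  haveI : IsLocallyNoetherian (Curv2.bcCpl A f) := LocallyOfFiniteType.isLocallyNoetherian (Curv2.bcCplSnd A f)
  haveI : Flat (Spec.map (CommRingCat.ofHom c)) :=
    Flat.SpecMap_iff.2 (RingHom.flat_algebraMap_iff.2 (AdicCompletion.flat_of_isNoetherian _))
  haveI : Flat g := MorphismProperty.pullback_fst _ _ inferInstance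
  have hq : f.base (g.base y) = IsLocalRing.closedPoint A := by
    have h1 : f.base (g.base y) = (Spec.map (CommRingCat.ofHom c)).base ((Curv2.bcCplSnd A f).base y) := by
      have := congrArg (fun k => k.base y) (pullback.condition (f := f) (g := Spec.map (CommRingCat.ofHom c)))
      exact this
    rw [h1, hy]
    exact IsLocalRing.comap_closedPoint c
  obtain ⟨hmax, -⟩ := Agent.Resolve13.CompletionPts.stalk_props A (IsNoetherian.noetherian _) X f y hq
  letI := (g.stalkMap y).hom.toAlgebra
  haveI : Module.Flat (X.presheaf.stalk (g y)) ((Curv2.bcCpl A f).presheaf.stalk y) := Flat.stalkMap g y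
  haveI : IsLocalHom (algebraMap (X.presheaf.stalk (g y)) ((Curv2.bcCpl A f).presheaf.stalk y)) :=
    inferInstanceAs (IsLocalHom (g.stalkMap y).hom)
  constructor
  · intro h
    haveI := h
    exact Agent.CAlgH3.isRegularLocalRing_of_flat ((Curv2.bcCpl A f).presheaf.stalk y)
  · intro h
    haveI : IsRegularLocalRing (X.presheaf.stalk (g y)) := h
    have hm' : (IsLocalRing.maximalIdeal (X.presheaf.stalk (g y))).map
        (algebraMap (X.presheaf.stalk (g y)) ((Curv2.bcCpl A f).presheaf.stalk y)) = IsLocalRing.maximalIdeal _ := hmax
    haveI : IsRegularLocalRing ((Curv2.bcCpl A f).presheaf.stalk y ⧸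
        (IsLocalRing.maximalIdeal (X.presheaf.stalk (g y))).map
          (algebraMap (X.presheaf.stalk (g y)) ((Curv2.bcCpl A f).presheaf.stalk y))) := by
      rw [hm']
      letI := Ideal.Quotient.field (IsLocalRing.maximalIdeal ((Curv2.bcCpl A f).presheaf.stalk y))
      infer_instance
    exact Agent.CAlgH.isRegularLocalRing_of_flat_fibre (A := X.presheaf.stalk (g y))

end Groth.Agent.S1598
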