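import Groth.Statements.S7338
import Groth.Agent.Resolve13.Modification
import Groth.Agent.Resolve13.RPushOne
import Groth.Agent.Coherent.BirationalFibre
import Groth.Agent.Coherent.SecBridge
import Groth.Agent.Coherent.RpushCoh
import Groth.Agent.H8Lim.FibreDimVanish
import Groth.Agent.CohCmpLib.Edge
import Groth.Agent.EulerLib.Additive

set_option autoImplicit false
set_option backward.isDefEq.respectTransparency.types false
set_option maxHeartbeats 1000000
universe u
open CategoryTheory CategoryTheory.Limits AlgebraicGeometry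
open Resolve
open Groth.Agent.Coherent Groth.Agent.EulerLib

namespace Groth.Agent.S7338

theorem length_comp {A M N P : Type u} [CommRing A] [AddCommGroup M] [Module A M] [AddCommGroup N]
    [Module A N] [AddCommGroup P] [Module A P] (a : M →ₗ[A] N) (b : N →ₗ[A] P) (hb : Function.Injective b) :
    Module.length A (P ⧸ LinearMap.range (b ∘ₗ a)) =
      Module.length A (N ⧸ LinearMap.range a) + Module.length A (P ⧸ LinearMap.range b) := by
  have h₁ : LinearMap.range a ≤ (LinearMap.range (b ∘ₗ a)).comap b := by
    rintro _ ⟨m, rfl⟩; exact ⟨m, rfl⟩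
  refine Module.length_eq_add_of_exact ((LinearMap.range a).mapQ _ b h₁)
    (Submodule.factor (LinearMap.range_comp_le_range a b)) ?_ (Submodule.factor_surjective _) ?_
  · refine (injective_iff_map_eq_zero _).2 fun x hx => ?_
    obtain ⟨n, rfl⟩ := Submodule.mkQ_surjective _ x
    rw [Submodule.mkQ_apply, Submodule.mapQ_apply, Submodule.Quotient.mk_eq_zero] at hx
    obtain ⟨m, hm⟩ := hx
    rw [Submodule.mkQ_apply, Submodule.Quotient.mk_eq_zero]
    exact ⟨m, hb hm⟩
  · intro x
    obtain ⟨y, rfl⟩ := Submodule.mkQ_surjective _ x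
    constructor
    · intro h
      simp only [Submodule.mkQ_apply, Submodule.factor, Submodule.mapQ_apply, LinearMap.id_apply,
        Submodule.Quotient.mk_eq_zero] at h
      obtain ⟨n, rfl⟩ := h
      exact ⟨Submodule.Quotient.mk n, rfl⟩
    · rintro ⟨z, hz⟩
      obtain ⟨n, rfl⟩ := Submodule.mkQ_surjective _ z
      rw [← hz]
      simp [Submodule.factor]

variable {A : Type u} [CommRing A] {X : Scheme.{u}}

/-- `H¹` of the kernel of a map with acyclic source. -/
theorem length_H1_eq (φ : A →+* Γ(X, ⊤)) {S : ShortComplex X.Modules} (hS : S.ShortExact)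
    (h : Subsingleton (HA φ S.X₂ (⊤ : X.Opens) 1)) :
    Module.length A (HA φ S.X₁ (⊤ : X.Opens) 1) =
      Module.length A (GA φ S.X₃ ⧸ LinearMap.range (mapGA φ S.g)) := by
  have hk : LinearMap.ker (deltaG φ hS) = LinearMap.range (mapGA φ S.g) :=
    Submodule.ext fun x => deltaG_eq_zero_iff φ hS x
  exact ((Submodule.quotEquivOfEq _ _ hk.symm).trans
    (LinearMap.quotKerEquivOfSurjective _ (deltaG_surjective φ hS h))).length_eq.symm

theorem mapGA_injective (φ : A →+* Γ(X, ⊤)) {S : ShortComplex X.Modules} (hS : S.ShortExact) :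
    Function.Injective (mapGA φ S.f) :=
  Coherent.sections_injective hS ⊤

/-- Sections of the cokernel of a map with `H¹`-acyclic source. -/
theorem length_H0_eq (φ : A →+* Γ(X, ⊤)) {S : ShortComplex X.Modules} (hS : S.ShortExact)
    (h : Subsingleton (HA φ S.X₁ (⊤ : X.Opens) 1)) :
    Module.length A (HA φ S.X₃ (⊤ : X.Opens) 0) =
      Module.length A (GA φ S.X₂ ⧸ LinearMap.range (mapGA φ S.f)) := by
  have hs : Function.Surjective (mapGA φ S.g) := fun x =>
    (deltaG_eq_zero_iff φ hS x).1 (h.elim _ _)
  have hk : LinearMap.ker (mapGA φ S.g) = LinearMap.range (mapGA φ S.f) := by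
    refine Submodule.ext fun x => ⟨fun hx => ?_, ?_⟩
    · exact Coherent.sections_exact hS (U := ⊤) x hx
    · rintro ⟨y, rfl⟩
      exact Coherent.sections_zero ⊤ y
  rw [(secA φ S.X₃).length_eq]
  exact ((Submodule.quotEquivOfEq _ _ hk.symm).trans
    (LinearMap.quotKerEquivOfSurjective _ hs)).length_eq.symm

theorem isIso_pushRingUnit {X' X : Scheme.{u}} (g : X' ⟶ X) (hc : ∀ V : X.Opens, IsIso (g.app V)) :
    IsIso (Coherent.pushRingUnit g) := by
  refine Scheme.Modules.Hom.isIso_iff_isIso_app.2 fun V => (ConcreteCategory.isIso_iff_bijective _).2 ?_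
  have := hc V
  have hb := ConcreteCategory.bijective_of_isIso (g.app V)
  exact ⟨fun a b h => hb.1 ((Coherent.pushRingUnit_app g V a).symm.trans (h.trans (Coherent.pushRingUnit_app g V b))),
    fun y => by
      obtain ⟨r, hr⟩ := hb.2 y
      exact ⟨r, (Coherent.pushRingUnit_app g V r).trans hr⟩⟩

/-- The two short exact sequences out of the image of a short exact sequence under a left exact functor. -/
theorem shortExact_pair {C : Type*} [Category C] [Abelian C] {D : Type*} [Category D] [Abelian D]
    (G : C ⥤ D) [G.Additive] [PreservesFiniteLimits G] {M I Q : C} (i : M ⟶ I) (q : I ⟶ Q)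
    (w : i ≫ q = 0) (hS : (ShortComplex.mk i q w).ShortExact) :
    ∃ (K : D) (l : G.obj I ⟶ K) (k : K ⟶ G.obj Q) (w₁ : G.map i ≫ l = 0)
      (w₂ : k ≫ cokernel.π (G.map q) = 0),
      (ShortComplex.mk _ l w₁).ShortExact ∧ (ShortComplex.mk k _ w₂).ShortExact ∧ l ≫ k = G.map q := by
  let π : G.obj Q ⟶ cokernel (G.map q) := cokernel.π (G.map q)
  let l : G.obj I ⟶ kernel π := kernel.lift π (G.map q) (cokernel.condition _)
  have hl : Epi l := (ShortComplex.exact_iff_epi_kernel_lift _).1 (ShortComplex.exact_cokernel (G.map q))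
  have wl : G.map i ≫ l = 0 := by
    rw [← cancel_mono (kernel.ι π), Category.assoc, kernel.lift_ι, zero_comp, ← G.map_comp, w, G.map_zero]
  have hmono : Mono i := hS.mono_f
  have hGi : Mono (G.map i) := inferInstance
  have hex : (ShortComplex.mk (G.map i) (G.map q) (by rw [← G.map_comp, w, G.map_zero])).Exact :=
    hS.exact.map_of_mono_of_preservesKernel G hmono inferInstance
  refine ⟨kernel π, l, kernel.ι π, wl, kernel.condition π, ?_, ?_, kernel.lift_ι _ _ _⟩
  · exact
      { exact := (ShortComplex.exact_iff_of_epi_of_isIso_of_mono (S₁ := ShortComplex.mk (G.map i) l wl)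
          (S₂ := ShortComplex.mk (G.map i) (G.map q) (by rw [← G.map_comp, w, G.map_zero]))
          { τ₁ := 𝟙 _, τ₂ := 𝟙 _, τ₃ := kernel.ι π
            comm₁₂ := by simp
            comm₂₃ := by simp [l] }).2 hex
        mono_f := hGi
        epi_g := hl }
  · exact
      { exact := ShortComplex.exact_of_f_is_kernel _ (kernelIsKernel π)
        mono_f := inferInstanceAs (Mono (kernel.ι π))
        epi_g := inferInstanceAs (Epi (cokernel.π _)) }

theorem baseHom_comp (A : Type u) [CommRing A] (X X' : Scheme.{u}) [X.Over (Spec (CommRingCat.of A))]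
    [X'.Over (Spec (CommRingCat.of A))] (g : X' ⟶ X)
    (hg : g ≫ (X ↘ Spec (CommRingCat.of A)) = X' ↘ Spec (CommRingCat.of A)) (a : A) :
    baseHom A X' a = g.app ⊤ (baseHom A X a) := by
  show (Coh.toGlobal (X' ↘ Spec (CommRingCat.of A)) a : Γ(X', ⊤)) =
    g.appTop (Coh.toGlobal (X ↘ Spec (CommRingCat.of A)) a)
  rw [← hg]
  rfl

/-- Additivity of lengths. -/
theorem length_additive (A : Type u) [CommRing A] (X X' : Scheme.{u}) [X.Over (Spec (CommRingCat.of A))]
    [X'.Over (Spec (CommRingCat.of A))] (g : X' ⟶ X)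
    (hg : g ≫ (X ↘ Spec (CommRingCat.of A)) = X' ↘ Spec (CommRingCat.of A))
    [HasInjectiveResolutions X'.Modules] (hc : ∀ V : X.Opens, IsIso (g.app V))
    (hH2' : Subsingleton (Coh.HH X (Coh.structureModule X) 2)) :
    Module.length A (Coh.HH X' (Coh.structureModule X') 1) =
      Module.length A (Coh.HH X (Coh.structureModule X) 1) +
        Module.length A (Coh.HH X ((Coh.Rpush g 1).obj (Coh.structureModule X')) 0) := by
  have : IsGrothendieckAbelian.{u} X'.Modules := DCat.schemeModules_isGrothendieckAbelian X'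
  have : EnoughInjectives X'.Modules := inferInstance
  have : PreservesLimitsOfSize.{0, 0} (Scheme.Modules.pushforward g) :=
    (Scheme.Modules.pullbackPushforwardAdjunction g).rightAdjoint_preservesLimits
  obtain ⟨I, Q, i, q, w, hS, hSI, ⟨eR⟩⟩ :=
    Resolve13.exists_rightDerived_one_seq (Scheme.Modules.pushforward g) (Coh.structureModule X')
  have : Injective I := hSI
  obtain ⟨C, l, k, w₁, w₂, hT1, hT2, hlk⟩ := shortExact_pair (Scheme.Modules.pushforward g) i q w hS
  have := isIso_pushRingUnit g hc
  let eO : (Scheme.Modules.pushforward g).obj (Coh.structureModule X') ≅ Coh.structureModule X :=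
    (asIso (Coherent.pushRingUnit g)).symm
  have hH2 : Subsingleton (HA (baseHom A X) ((Scheme.Modules.pushforward g).obj (Coh.structureModule X')) (⊤ : X.Opens) 2) := by
    have : Subsingleton (HA (baseHom A X) (Coh.structureModule X) (⊤ : X.Opens) 2) :=
      (HHBaseEquiv A (Coh.structureModule X) 2).symm.toEquiv.subsingleton
    exact (isoA (baseHom A X) eO ⊤ 2).toEquiv.subsingleton
  have hI1 : Subsingleton (HA (baseHom A X) ((Scheme.Modules.pushforward g).obj I) (⊤ : X.Opens) 1) :=
    have := CohCmpLib.subsingleton_HH_push_of_injective g I 0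
    (HHBaseEquiv A ((Scheme.Modules.pushforward g).obj I) 1).symm.toEquiv.subsingleton
  have hI1' : Subsingleton (HA (baseHom A X') I (⊤ : X'.Opens) 1) :=
    have := CohCmpLib.subsingleton_HH_of_injective I 0
    (HHBaseEquiv A I 1).symm.toEquiv.subsingleton
  have hC1 : Subsingleton (HA (baseHom A X) C (⊤ : X.Opens) 1) := by
    refine subsingleton_of_forall_eq 0 fun x => ?_
    obtain ⟨y, hy⟩ := (exact_postA_deltaA (baseHom A X) hT1 ⊤ 1 x).1 (hH2.elim _ _)
    rw [← hy, hI1.elim y 0, map_zero]
  let eG : ∀ N : X'.Modules, GA (baseHom A X') N ≃ₗ[A] GA (baseHom A X) ((Scheme.Modules.pushforward g).obj N) := fun N =>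
    { AddEquiv.refl Γ(N, ⊤) with
      map_smul' := fun a m => by
        exact congrArg (fun r : Γ(X', ⊤) => r • (show Γ(N, ⊤) from m)) (baseHom_comp A X X' g hg a) }
  have h1 : Module.length A (Coh.HH X' (Coh.structureModule X') 1) =
      Module.length A (GA (baseHom A X) ((Scheme.Modules.pushforward g).obj Q) ⧸
        LinearMap.range (mapGA (baseHom A X) ((Scheme.Modules.pushforward g).map q))) := by
    rw [(HHBaseEquiv A (Coh.structureModule X') 1).length_eq, length_H1_eq (baseHom A X') hS hI1']
    refine (Submodule.Quotient.equiv _ _ (eG Q) ?_).length_eq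
    ext y
    constructor
    · rintro ⟨x, ⟨z, rfl⟩, rfl⟩
      exact ⟨eG I z, rfl⟩
    · rintro ⟨z, rfl⟩
      exact ⟨mapGA (baseHom A X') q ((eG I).symm z), ⟨_, rfl⟩, rfl⟩
  have hcomp : mapGA (baseHom A X) ((Scheme.Modules.pushforward g).map q) =
      mapGA (baseHom A X) k ∘ₗ mapGA (baseHom A X) l := LinearMap.ext fun x => by
    exact congrArg (fun h : (Scheme.Modules.pushforward g).obj I ⟶ (Scheme.Modules.pushforward g).obj Q => h.app ⊤ x) hlk.symm
  have hk : Function.Injective (mapGA (baseHom A X) k) := mapGA_injective (baseHom A X) hT2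
  rw [h1, hcomp, length_comp (mapGA (baseHom A X) l) (mapGA (baseHom A X) k) hk]
  refine congrArg₂ (· + ·) ?_ ?_
  · rw [(HHBaseEquiv A (Coh.structureModule X) 1).length_eq, ← (isoA (baseHom A X) eO ⊤ 1).length_eq]
    exact (length_H1_eq (baseHom A X) hT1 hI1).symm
  · rw [(HHBaseEquiv A ((Coh.Rpush g 1).obj (Coh.structureModule X')) 0).length_eq,
      (isoA (baseHom A X) eR ⊤ 0).length_eq]
    exact (length_H0_eq (baseHom A X) hT2 hC1).symm

/-- Let (A, m) be a Noetherian normal local domain of dimension two, and X, X' integral schemes proper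
over Spec A, each an isomorphism over some nonempty open of Spec A (modifications), with X normal,
and g : X' → X a morphism over Spec A. Then R^1 g_* O_{X'} is generated by global sections and its
support is a finite set of closed points of X, and there is a short exact sequence 0 → H^1(X, O_X) →
H^1(X', O_{X'}) → H^0(X, R^1 g_* O_{X'}) → 0, recorded here as the additivity of A-lengths. (R^1 g_*
is the right derived functor of g_* on O-modules; that O_{X'}-modules have injective resolutions is
carried as an instance hypothesis.) -/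
theorem result (A : Type u) [CommRing A] [IsDomain A] [IsLocalRing A] [IsNoetherianRing A]
    [IsIntegrallyClosed A] (hdim : ringKrullDim A = 2)
    (X X' : Scheme.{u}) [X.Over (Spec (CommRingCat.of A))] [X'.Over (Spec (CommRingCat.of A))]
    [IsProper (X ↘ Spec (CommRingCat.of A))] [IsProper (X' ↘ Spec (CommRingCat.of A))] [IsIntegral X] [IsIntegral X']
    (hX : ∃ U : (Spec (CommRingCat.of A)).Opens, (U : Set (Spec (CommRingCat.of A))).Nonempty ∧ IsIso ((X ↘ Spec (CommRingCat.of A)) ∣_ U))
    (hX' : ∃ U : (Spec (CommRingCat.of A)).Opens, (U : Set (Spec (CommRingCat.of A))).Nonempty ∧ IsIso ((X' ↘ Spec (CommRingCat.of A)) ∣_ U))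
    (hXn : Pi1.IsNormalScheme X) (g : X' ⟶ X) (hg : g ≫ (X ↘ Spec (CommRingCat.of A)) = X' ↘ Spec (CommRingCat.of A))
    [HasInjectiveResolutions X'.Modules] :
    Curv2.IsGloballyGenerated ((Coh.Rpush g 1).obj (Coh.structureModule X')) ∧
      {x : X | Nontrivial (((Coh.Rpush g 1).obj (Coh.structureModule X')).presheaf.stalk x)}.Finite ∧
      (∀ x : X, Nontrivial (((Coh.Rpush g 1).obj (Coh.structureModule X')).presheaf.stalk x) → IsClosed ({x} : Set X)) ∧
      Module.length A (Coh.HH X' (Coh.structureModule X') 1) =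
        Module.length A (Coh.HH X (Coh.structureModule X) 1) +
          Module.length A (Coh.HH X ((Coh.Rpush g 1).obj (Coh.structureModule X')) 0) := by
  let sX := X ↘ Spec (CommRingCat.of A)
  let sX' := X' ↘ Spec (CommRingCat.of A)
  have : IsProper g := by
    have : IsProper (g ≫ sX) := by rw [hg]; infer_instance
    exact IsProper.of_comp g sX
  have : IsLocallyNoetherian X := LocallyOfFiniteType.isLocallyNoetherian sX
  have : IsLocallyNoetherian X' := LocallyOfFiniteType.isLocallyNoetherian sX'
  have : CompactSpace X := QuasiCompact.compactSpace_of_compactSpace sX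
  have : AlgebraicGeometry.IsNoetherian X := { }
  -- birationality
  obtain ⟨U, hUne, hU⟩ := hX
  obtain ⟨U', hU'ne, hU'⟩ := hX'
  obtain ⟨hξ, hb⟩ := birational_of_isIso_morphismRestrict sX U hUne
  obtain ⟨hξ', hb'⟩ := birational_of_isIso_morphismRestrict sX' U' hU'ne
  have hgη : g (genericPoint X') = genericPoint X :=
    Resolve13.Modification.eq_genericPoint sX hξ hb _ (by
      rw [← Scheme.Hom.comp_apply]
      rw [show g ≫ sX = sX' from hg]
      exact hξ')
  have hgb : Function.Bijective (g.stalkMap (genericPoint X')) := by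
    have hcomp : ∀ (h : X' ⟶ Spec (CommRingCat.of A)), h = sX' →
        Function.Bijective (h.stalkMap (genericPoint X')) := fun h e => by subst e; exact hb'
    have hc := hcomp (g ≫ sX) hg
    rw [Scheme.Hom.stalkMap_comp] at hc
    refine ⟨?_, fun y => ?_⟩
    · have : IsField (X.presheaf.stalk (g (genericPoint X'))) := by
        rw [hgη]; exact Field.toIsField X.functionField
      let := this.toField
      exact (g.stalkMap (genericPoint X')).hom.injective
    · obtain ⟨x, hx⟩ := hc.2 y
      exact ⟨_, hx⟩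
  have hgiso : IsIso (g.stalkMap (genericPoint X')) :=
    (ConcreteCategory.isIso_iff_bijective _).2 hgb
  -- dimensions
  have hA2 : ∀ y : Spec (CommRingCat.of A), ringKrullDim ((Spec (CommRingCat.of A)).presheaf.stalk y) ≤ 2 := by
    intro y
    letI : Algebra A ((Spec (CommRingCat.of A)).presheaf.stalk y) := StructureSheaf.stalkAlgebra A y
    haveI : IsLocalization.AtPrime ((Spec (CommRingCat.of A)).presheaf.stalk y) (y : PrimeSpectrum A).asIdeal :=
      StructureSheaf.IsLocalization.to_stalk A y
    rw [IsLocalization.AtPrime.ringKrullDim_eq_height (y : PrimeSpectrum A).asIdeal, ← hdim]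
    exact Ideal.height_le_ringKrullDim_of_ne_top ((y : PrimeSpectrum A).isPrime.ne_top)
  have hX2 : ∀ x : X, ringKrullDim (X.presheaf.stalk x) ≤ 2 := fun x =>
    (Resolve13.Modification.ringKrullDim_stalk_le sX hξ hb x).trans (hA2 _)
  obtain ⟨Z, hZfin, hZcl, hZ⟩ := Resolve13.Modification.exists_finite_exceptional g hgη hgb hX2
  -- the first direct image
  let O' := Coh.structureModule X'
  let R1 := (Coh.Rpush g 1).obj O'
  have hO' : Coh.IsCoh O' := isCoh_structureModule X'
  have hR1 : Coh.IsCoh R1 := Coherent.isCoh_rpush g hO' 1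
  have hsupp : ∀ x, x ∉ Z → Subsingleton (R1.presheaf.stalk x) := fun x hx =>
    AddCommGrpCat.subsingleton_of_isZero
      ((H8Lim.isZero_stalk_rpushAb_of_fibre_dim g hO' x 0 (hZ x hx) 1 zero_lt_one).of_iso
        ((TopCat.Presheaf.stalkFunctor AddCommGrpCat.{u} x).mapIso
          ((sheafToPresheaf _ _).mapIso ((Coherent.toAbRpushNatIso g 1).app O'))))
  have hnt : ∀ x : X, Nontrivial (R1.presheaf.stalk x) → x ∈ Z := fun x hx => by
    by_contra h
    exact not_subsingleton _ (hsupp x h)
  refine ⟨?_, hZfin.subset fun x hx => hnt x hx, fun x hx => hZcl x (hnt x hx), ?_⟩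
  · exact CommAlg4.isGloballyGenerated_of_support_finite R1 (Coherent.locallyFinGen_of_isFT _ hR1.2) Z
      hZfin hZcl fun x hx => hnt x (not_subsingleton_iff_nontrivial.1 hx)
  -- the structure sheaf downstairs
  have hc : ∀ V : X.Opens, IsIso (g.app V) :=
    Coherent.isIso_app_of_birational g hXn hgη hgiso
  have hfib : ∀ y, topologicalKrullDim ↥(sX.fiber y) ≤ ((1 : ℕ) : WithBot ℕ∞) := fun y =>
    Resolve13.Modification.fiber_dim_le_one sX hξ hb hA2
      ((ringKrullDim_eq_zero_of_field (Spec (CommRingCat.of A)).functionField).le.trans zero_le_one) y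
  have hH2 : Subsingleton (Coh.HH X (Coh.structureModule X) 2) := by
    have := (isCoh_structureModule X).1
    exact H8Lim.subsingleton_HH_of_fibre_dim sX 1 hfib _ 2 one_lt_two
  exact length_additive A X X' g hg hc hH2

end Groth.Agent.S7338
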