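import Groth.Statements.S1649
import Groth.Agent.S1650
import Groth.Agent.S1274
import Groth.Agent.S7338
import Groth.Agent.Resolve13.RatExt
import Groth.Agent.Resolve13.LocalBase
import Groth.Agent.Coherent.HigherQcoh
import Groth.Agent.Coherent.Existence.FullFaithful

set_option autoImplicit false
set_option backward.isDefEq.respectTransparency.types false
universe u
open CategoryTheory CategoryTheory.Limits AlgebraicGeometry
open Resolve

namespace Groth.Agent.S1649

open Resolve13 Resolve13.RatExt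

theorem subsingleton_stalk_of_isZero {X : Scheme.{u}} {M : X.Modules} (hM : IsZero M) (x : X) :
    Subsingleton (M.presheaf.stalk x) := by
  refine ⟨fun a b => ?_⟩
  obtain ⟨U, hx, r, rfl⟩ := M.presheaf.germ_exist a
  obtain ⟨V, hx', r', rfl⟩ := M.presheaf.germ_exist b
  have key : ∀ (U : X.Opens) (r : Γ(M, U)), r = 0 := fun U r => by
    have h := congrArg (fun φ => Scheme.Modules.Hom.app φ U r) (hM.eq_of_src (𝟙 M) 0)
    exact h
  rw [key U r, key V r', map_zero, map_zero]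

/-- Let A be a local normal Nagata domain of dimension two defining a rational singularity, and B a
normal two-dimensional local domain containing A, with A → B local, essentially of finite type and
inducing an equality of fraction fields. Then B defines a rational singularity. -/
theorem result (A B : Type u) [CommRing A] [CommRing B] [IsDomain A] [IsDomain B]
    [IsLocalRing A] [IsLocalRing B] [IsNoetherianRing A] [IsIntegrallyClosed A] (hN : CAlg.IsNagata A) (hdimA : ringKrullDim A = 2)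
    (hA : Curv2.IsRationalSing A) [Algebra A B] [IsLocalHom (algebraMap A B)] (hinj : Function.Injective (algebraMap A B))
    [Algebra.EssFiniteType A B] (hfrac : ∀ b : B, ∃ a a' : A, a' ≠ 0 ∧ algebraMap A B a' * b = algebraMap A B a)
    [IsIntegrallyClosed B] (hdimB : ringKrullDim B = 2) : Curv2.IsRationalSing B := by
  classical
  intro Z zf hzp hZi hZn hzbir
  haveI := hzp
  haveI := hZi
  let φ := algebraMap A B
  haveI : IsNoetherianRing B := Algebra.EssFiniteType.isNoetherianRing A B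
  let SB := Spec (CommRingCat.of B)
  let SA := Spec (CommRingCat.of A)
  let sp : SB ⟶ SA := Spec.map (CommRingCat.ofHom φ)
  have hspη : sp (genericPoint SB) = genericPoint SA := specMap_genericPoint hinj
  -- the first ideal
  obtain ⟨σ, hσ⟩ := (inferInstance : Algebra.EssFiniteType A B).cond
  obtain ⟨s, hs, hsσ⟩ := exists_common_denominator φ hfrac σ
  choose a ha using hsσ
  let I₁ : Ideal A := Ideal.span (insert s (Set.range fun b : σ => a b.1 b.2))
  have hI₁ : I₁ ≠ ⊥ := fun h => hs ((Ideal.mem_bot).1 (h ▸ Ideal.subset_span (Set.mem_insert _ _)))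
  have hI₁φ : I₁.map φ = Ideal.span {φ s} := by
    refine le_antisymm ?_ ((Ideal.span_singleton_le_iff_mem _).2
      (Ideal.mem_map_of_mem φ (Ideal.subset_span (Set.mem_insert _ _))))
    rw [Ideal.map_le_iff_le_comap, Ideal.span_le]
    rintro r (rfl | ⟨b, rfl⟩)
    · exact Ideal.mem_span_singleton_self _
    · exact Ideal.mem_span_singleton'.2 ⟨b.1, by rw [mul_comm]; exact (ha b.1 b.2).symm⟩
  obtain ⟨X₁, m₁, hX₁i, hm₁p, hX₁n, hm₁bir, hm₁e, hm₁u⟩ := exists_normBlowUp hN I₁ hI₁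
  haveI := hX₁i
  haveI := hm₁p
  obtain ⟨U₁, hU₁ne, hU₁⟩ := hm₁bir
  obtain ⟨hm₁η, hm₁b⟩ := Coherent.birational_of_isIso_morphismRestrict m₁ U₁ hU₁ne
  have hspe : BlowUp.IsEffCartierIdeal ((Curv2.idealSheaf A I₁).comap sp) := by
    have := isEff_comap_span (𝟙 SB) rfl ((map_ne_zero_iff φ hinj).2 hs)
    rwa [← hI₁φ, ← idealSheaf_comap_comp, Category.id_comp] at this
  obtain ⟨h, hh⟩ := hm₁u SB (CommAlg4.Cone.isNormalScheme_spec (CommRingCat.of B)) sp hspη hspe
  have hhη : h (genericPoint SB) = genericPoint X₁ := by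
    refine Resolve13.Modification.eq_genericPoint m₁ hm₁η hm₁b _ ?_
    rw [← Scheme.Hom.comp_apply, hh, hspη]
  -- `B` is a local ring of `X₁`
  let c₀ : SB := IsLocalRing.closedPoint B
  let x : X₁ := h c₀
  let φx : X₁.presheaf.stalk x ⟶ CommRingCat.of B := Scheme.stalkClosedPointTo h
  haveI : IsLocalHom φx.hom := Scheme.isLocalHom_stalkClosedPointTo' h
  have hgerm : ∀ (W : X₁.Opens) (hxW : x ∈ W) (r : Γ(X₁, W)),
      φx (X₁.presheaf.germ W x hxW r) = (Scheme.ΓSpecIso (CommRingCat.of B)).hom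
        ((h.appLE W ⊤ (Scheme.preimage_eq_top_of_closedPoint_mem h hxW).ge) r) := fun W hxW r => by
    refine (ConcreteCategory.congr_hom (Scheme.germ_stalkClosedPointTo h W hxW) r).trans ?_
    rfl
  have hφinj : Function.Injective φx.hom := by
    rw [injective_iff_map_eq_zero]
    intro o ho
    obtain ⟨W, hxW, r, rfl⟩ := X₁.presheaf.germ_exist o
    rw [hgerm] at ho
    have := (ConcreteCategory.bijective_of_isIso (Scheme.ΓSpecIso (CommRingCat.of B)).hom).1
      (ho.trans (map_zero _).symm)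
    rw [Resolve13.appLE_injective h hhη W ((genericPoint_specializes x).mem_open W.2 hxW) ⊤ trivial _
      (this.trans (map_zero _).symm)]
    exact map_zero _
  let ψ : A →+* X₁.presheaf.stalk x := (X₁.presheaf.germ ⊤ x trivial).hom.comp (Coh.toGlobal m₁)
  have hφψ : ∀ r : A, φx (ψ r) = φ r := fun r => by
    show φx (X₁.presheaf.germ ⊤ x trivial (Coh.toGlobal m₁ r)) = _
    rw [hgerm]
    have h2 : Coh.toGlobal (h ≫ m₁) r = h.appLE ⊤ ⊤ le_top (Coh.toGlobal m₁ r) := by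
      show (h ≫ m₁).appTop _ = _
      simp [Scheme.Hom.appLE, Coh.toGlobal]
      rfl
    rw [← h2, hh, show sp = 𝟙 SB ≫ sp from (Category.id_comp _).symm, toGlobal_comp]
    exact ConcreteCategory.congr_hom (Scheme.ΓSpecIso (CommRingCat.of B)).inv_hom_id (φ r)
  -- the generators lie in the image
  have hσrange : ∀ b ∈ σ, ∃ o, φx o = b := by
    obtain ⟨W, hxW, f, hf, hfW⟩ := hm₁e x
    rw [S7299.ideal_comap_eq] at hfW
    let γ := (X₁.presheaf.germ W.1 x hxW).hom
    have hψ : ∀ r, γ (ModPairLib.res (le_top : W.1 ≤ ⊤) (Coh.toGlobal m₁ r)) = ψ r := fun r =>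
      X₁.presheaf.germ_res_apply (homOfLE (le_top : W.1 ≤ ⊤)) x hxW _
    have hstalk : I₁.map ψ = Ideal.span {γ f} := by
      rw [← Set.image_singleton, ← Ideal.map_span γ, ← hfW, Ideal.map_map]
      congr 1
      exact RingHom.ext fun r => (hψ r).symm
    obtain ⟨e₀, he₀⟩ := Ideal.mem_span_singleton'.1
      (hstalk ▸ Ideal.mem_map_of_mem ψ (Ideal.subset_span (Set.mem_insert _ _) : s ∈ I₁))
    obtain ⟨e₁, he₁⟩ : ∃ e₁, e₁ * φ s = φx (γ f) := by
      refine Ideal.mem_span_singleton'.1 (hI₁φ ▸ ?_)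
      have h1 := Ideal.mem_map_of_mem φx.hom (hstalk.ge (Ideal.mem_span_singleton_self (γ f)))
      rwa [Ideal.map_map, show φx.hom.comp ψ = φ from RingHom.ext hφψ] at h1
    have hu : IsUnit e₀ := by
      refine (isUnit_map_iff φx.hom e₀).1 (IsUnit.of_mul_eq_one e₁ ?_)
      refine mul_right_cancel₀ ((map_ne_zero_iff φ hinj).2 hs) ?_
      rw [one_mul, mul_assoc, he₁, ← hφψ s, ← he₀]
      exact (map_mul _ _ _).symm
    intro b hb
    obtain ⟨e, he⟩ := Ideal.mem_span_singleton'.1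
      (hstalk ▸ Ideal.mem_map_of_mem ψ (Ideal.subset_span (Set.mem_insert_of_mem _ ⟨⟨b, hb⟩, rfl⟩) : a b hb ∈ I₁))
    refine ⟨e * ↑hu.unit⁻¹, mul_right_cancel₀ ((map_ne_zero_iff φ hinj).2 hs) ?_⟩
    rw [mul_comm b, ← ha b hb, ← hφψ, ← hφψ, ← he, ← he₀]
    refine (map_mul φx.hom _ _).symm.trans (congrArg _ ?_)
    rw [mul_assoc, ← mul_assoc (↑hu.unit⁻¹ : X₁.presheaf.stalk x), hu.val_inv_mul, one_mul]
  have hφsurj : Function.Surjective φx.hom := by
    have hC : ∀ c ∈ Algebra.adjoin A (σ : Set B), ∃ o, φx o = c := fun c hc => by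
      induction hc using Algebra.adjoin_induction with
      | mem b hb => exact hσrange b hb
      | algebraMap r => exact ⟨ψ r, hφψ r⟩
      | add p q _ _ hp hq =>
        obtain ⟨op, rfl⟩ := hp; obtain ⟨oq, rfl⟩ := hq
        exact ⟨op + oq, map_add _ _ _⟩
      | mul p q _ _ hp hq =>
        obtain ⟨op, rfl⟩ := hp; obtain ⟨oq, rfl⟩ := hq
        exact ⟨op * oq, map_mul _ _ _⟩
    intro b
    obtain ⟨⟨c, d⟩, hcd⟩ := IsLocalization.surj
      ((IsUnit.submonoid B).comap (algebraMap (Algebra.adjoin A (σ : Set B)) B)) b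
    obtain ⟨oc, hoc⟩ := hC c.1 c.2
    obtain ⟨od, hod⟩ := hC d.1.1 d.1.2
    have hdu : IsUnit (d.1.1 : B) := d.2
    have hu : IsUnit od := (isUnit_map_iff φx.hom od).1 (hod.symm ▸ hdu)
    refine ⟨oc * ↑hu.unit⁻¹, hdu.mul_right_cancel ?_⟩
    rw [show b * d.1.1 = c.1 from hcd, ← hoc, ← hod]
    refine (map_mul φx.hom _ _).symm.trans (congrArg _ ?_)
    rw [mul_assoc, hu.val_inv_mul, mul_one]
  haveI : IsIso φx := (ConcreteCategory.isIso_iff_bijective _).2 ⟨hφinj, hφsurj⟩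
  haveI : IsIso (Spec.map φx) := inferInstance
  -- the second ideal
  obtain ⟨U, hUne, hU⟩ := hzbir
  obtain ⟨w, hw⟩ := hUne
  obtain ⟨_, ⟨_, ⟨b₀, rfl⟩, rfl⟩, hwb, hbU⟩ :=
    (PrimeSpectrum.isBasis_basic_opens (R := B)).exists_subset_of_mem_open hw U.2
  let U' : SB.Opens := PrimeSpectrum.basicOpen b₀
  haveI : IsIso (zf ∣_ U') := BMLib.isIso_restrict_of_le zf (U := U) hbU
  obtain ⟨K, W, bW, hbW, hadm, k, hk⟩ := S1274.result zf U' (PrimeSpectrum.isCompact_basicOpen b₀)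
  obtain ⟨K₀, hK₀⟩ := exists_eq_idealSheaf K
  have hK₀ne : K₀ ≠ ⊥ := fun h0 => by
    have hη : genericPoint SB ∉ K.support := fun h1 =>
      Set.disjoint_left.1 hadm.2 h1 ((genericPoint_specializes w).mem_open U'.2 hwb)
    refine hη ?_
    rw [hK₀, h0, show Curv2.idealSheaf B (⊥ : Ideal B) = ⊥ from
      Scheme.IdealSheafData.ext_of_isAffine (by rw [RatExt.ideal_top, Ideal.map_bot]; rfl)]
    rw [Scheme.IdealSheafData.support_bot]
    trivial
  obtain ⟨τ, hτ⟩ := (IsNoetherian.noetherian K₀ : K₀.FG)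
  obtain ⟨t, ht, htτ⟩ := exists_common_denominator φ hfrac τ
  choose c hc using htτ
  let I₂ : Ideal A := Ideal.span (Set.range fun b : τ => c b.1 b.2)
  have hI₂φ : I₂.map φ = Ideal.span {φ t} * K₀ := by
    rw [← hτ, Ideal.map_span, Ideal.span_mul_span', ← Set.range_comp]
    congr 1
    ext r
    simp only [Set.mem_range, Function.comp_apply, Set.mem_mul, Set.mem_singleton_iff, exists_eq_left,
      SetLike.mem_coe]
    constructor
    · rintro ⟨⟨b, hb⟩, rfl⟩; exact ⟨b, hb, (hc b hb).symm⟩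
    · rintro ⟨b, hb, rfl⟩; exact ⟨⟨b, hb⟩, hc b hb⟩
  have hI₂ : I₂ ≠ ⊥ := fun h0 => by
    rw [h0, Ideal.map_bot] at hI₂φ
    rcases Ideal.mul_eq_bot.1 hI₂φ.symm with h1 | h1
    · exact (map_ne_zero_iff φ hinj).2 ht (Ideal.span_singleton_eq_bot.1 h1)
    · exact hK₀ne h1
  obtain ⟨X, f, hXi, hfp, hXn, hfbir, hfe, -⟩ :=
    exists_normBlowUp hN (I₁ * I₂) (mul_ne_zero hI₁ hI₂)
  haveI := hXi
  haveI := hfp
  obtain ⟨Uf, hUfne, hUf⟩ := hfbir
  obtain ⟨hfη, hfb⟩ := Coherent.birational_of_isIso_morphismRestrict f Uf hUfne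
  rw [idealSheaf_comap_mul] at hfe
  obtain ⟨g, hg⟩ := hm₁u X hXn f hfη (SDiv28.isEffCartier_left_of_mul hfe)
  have hgη : g (genericPoint X) = genericPoint X₁ := by
    refine Resolve13.Modification.eq_genericPoint m₁ hm₁η hm₁b _ ?_
    rw [← Scheme.Hom.comp_apply, hg, hfη]
  haveI : IsProper (g ≫ m₁) := hg.symm ▸ hfp
  haveI : IsProper g := IsProper.of_comp g m₁
  haveI : HasInjectiveResolutions X.Modules := Coherent.hasInjectiveResolutions_modules X
  -- the first direct image vanishes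
  letI : X₁.Over SA := ⟨m₁⟩
  letI : X.Over SA := ⟨f⟩
  haveI : IsProper (X₁ ↘ SA) := hm₁p
  haveI : IsProper (X ↘ SA) := hfp
  obtain ⟨hgg, -, -, hlen⟩ := S7338.result A hdimA X₁ X ⟨U₁, hU₁ne, hU₁⟩ ⟨Uf, hUfne, hUf⟩ hX₁n g hg
  haveI := hA X f hfp hXi hXn ⟨Uf, hUfne, hUf⟩
  rw [Module.length_eq_zero] at hlen
  have hR0 := (add_eq_zero.1 hlen.symm).2
  rw [Module.length_eq_zero_iff] at hR0
  have hRz : IsZero ((Coh.Rpush g 1).obj (Coh.structureModule X)) :=
    LocalBase.isZero_of_globallyGenerated hgg fun τ => by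
      rw [← (Coherent.Existence.hSec _).apply_symm_apply τ,
        hR0.elim ((Coherent.Existence.hSec _).symm τ) 0, map_zero]
  have hst : Subsingleton (((Coh.Rpush g 1).obj (Coh.structureModule X)).presheaf.stalk x) :=
    subsingleton_stalk_of_isZero hRz x
  haveI hP1 := LocalBase.subsingleton_HH g x 1 hst
  obtain ⟨hPi, hfstη⟩ := LocalBase.isIntegral g x hgη
  haveI := hPi
  have hPn := LocalBase.isNormal g x hXn
  let P := pullback g (X₁.fromSpecStalk x)
  let fst' := pullback.fst g (X₁.fromSpecStalk x)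
  let q : P ⟶ SB := pullback.snd g (X₁.fromSpecStalk x) ≫ inv (Spec.map φx)
  have hq : q ≫ sp = fst' ≫ f := by
    rw [← hg, ← hh, ← Scheme.Spec_stalkClosedPointTo_fromSpecStalk h]
    simp only [q, Category.assoc]
    rw [IsIso.inv_hom_id_assoc]
    exact (pullback.condition_assoc _).symm
  haveI : IsProper q := inferInstance
  obtain ⟨hgη', hgb⟩ : ∃ V : X₁.Opens, (V : Set X₁).Nonempty ∧ IsIso (g ∣_ V) := by
    refine ⟨m₁ ⁻¹ᵁ (U₁ ⊓ Uf), ⟨genericPoint X₁, ?_⟩, ?_⟩
    · show m₁ (genericPoint X₁) ∈ U₁ ⊓ Uf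
      rw [hm₁η]
      exact ⟨(genericPoint_spec SA).mem_open_set_iff U₁.2 |>.2 (by simpa using hU₁ne),
        (genericPoint_spec SA).mem_open_set_iff Uf.2 |>.2 (by simpa using hUfne)⟩
    · haveI : IsIso (m₁ ∣_ (U₁ ⊓ Uf)) := BMLib.isIso_restrict_of_le m₁ (U := U₁) inf_le_left
      haveI : IsIso ((g ≫ m₁) ∣_ (U₁ ⊓ Uf)) := hg.symm ▸ BMLib.isIso_restrict_of_le f (U := Uf) inf_le_right
      rw [morphismRestrict_comp] at this
      exact @IsIso.of_isIso_comp_right _ _ _ _ _ _ (m₁ ∣_ (U₁ ⊓ Uf)) _ this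
  obtain ⟨hgV, hgiso⟩ := hgb
  haveI := hgiso
  haveI hsndiso := LocalBase.exists_isIso_restrict g x hgη'
  have hVη : genericPoint X₁ ∈ hgη' := (genericPoint_spec X₁).mem_open_set_iff hgη'.2 |>.2 (by simpa using hgV)
  let V' : SB.Opens := h ⁻¹ᵁ hgη'
  have hV'ne : (V' : Set SB).Nonempty := ⟨genericPoint SB, show h (genericPoint SB) ∈ hgη' from hhη.symm ▸ hVη⟩
  have hqbir : IsIso (q ∣_ V') := by
    have e : X₁.fromSpecStalk x ⁻¹ᵁ hgη' = inv (Spec.map φx) ⁻¹ᵁ V' := by
      show _ = inv (Spec.map φx) ⁻¹ᵁ (h ⁻¹ᵁ hgη')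
      rw [← Scheme.Hom.comp_preimage]
      conv_rhs => rw [← Scheme.Spec_stalkClosedPointTo_fromSpecStalk h]
      rw [IsIso.inv_hom_id_assoc]
    rw [e] at hsndiso
    rw [morphismRestrict_comp]
    exact @IsIso.comp_isIso _ _ _ _ _ _ _ hsndiso inferInstance
  obtain ⟨hqη, -⟩ := Coherent.birational_of_isIso_morphismRestrict q V' hV'ne
  have hKe : BlowUp.IsEffCartierIdeal (K.comap q) := by
    refine SDiv28.isEffCartier_right_of_mul (I := (Curv2.idealSheaf B (Ideal.span {φ t})).comap q) ?_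
    rw [hK₀, ← idealSheaf_comap_mul, ← hI₂φ, ← idealSheaf_comap_comp, hq, Scheme.IdealSheafData.comap_comp]
    exact S1650.isEff_comap fst' hfstη (SDiv28.isEffCartier_right_of_mul hfe)
  obtain ⟨l, hl, -⟩ := hbW.2 P q hKe
  letI : Z.Over SB := ⟨zf⟩
  letI : P.Over SB := ⟨q⟩
  haveI : IsProper (Z ↘ SB) := hzp
  haveI : IsProper (P ↘ SB) := inferInstanceAs (IsProper q)
  haveI : HasInjectiveResolutions P.Modules := Coherent.hasInjectiveResolutions_modules P
  obtain ⟨-, -, -, hlenB⟩ := S7338.result B hdimB Z P ⟨U, ⟨w, hw⟩, hU⟩ ⟨V', hV'ne, hqbir⟩ hZn (l ≫ k)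
    (by show (l ≫ k) ≫ zf = q; rw [Category.assoc, hk, hl])
  rw [Module.length_eq_zero] at hlenB
  exact Module.length_eq_zero_iff.1 (add_eq_zero.1 hlenB.symm).1

end Groth.Agent.S1649
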