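import Groth.Statements.S0034
import Groth.Agent.Coherent.FlatBaseChangeMain

set_option autoImplicit false
universe u
open Coherent

namespace Groth.Agent.S0034

open AlgebraicGeometry CategoryTheory TensorProduct in
/-- Flat base change over an affine base. Let A → B be flat, X quasi-compact and quasi-separated over
Spec A, X' a scheme over Spec B with g' : X' → X exhibiting X' = X ×_A Spec B, and F a
quasi-coherent O_X-module. Then H^i(X, F) ⊗_A B ≅ H^i(X', g'^* F) as B-modules. The published
statement asserts that the natural map is an isomorphism; only the existence of a B-linear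
isomorphism is asserted here. -/
theorem result (A B : Type u) [CommRing A] [CommRing B] [Algebra A B]
    [Module.Flat A B] (X X' : Scheme.{u}) [X.Over (Spec (CommRingCat.of A))]
    [X'.Over (Spec (CommRingCat.of B))] [CompactSpace X] [QuasiSeparatedSpace X] (g' : X' ⟶ X)
    (h : IsPullback g' (X' ↘ Spec (CommRingCat.of B)) (X ↘ Spec (CommRingCat.of A))
      (Spec.map (CommRingCat.ofHom (algebraMap A B))))
    (M : X.Modules) [Coh.IsQCoh M] (i : ℕ) :
    Nonempty (TensorProduct A B (Coh.HH X M i) ≃ₗ[B] Coh.HH X' ((Scheme.Modules.pullback g').obj M) i) := by
  exact Groth.Agent.Coherent.nonempty_flat_base_change g' M h i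

end Groth.Agent.S0034

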