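import Groth.Statements.S7301
import Groth.Agent.Resolve13.CompletionRat
import Groth.Agent.S1274
import Groth.Agent.S0034
import Groth.Agent.CAlgH.PicPunctCriteria
import Groth.Agent.CommAlg6.CompletionEquidim
import Groth.Agent.FlatMorStrat.Supported

set_option autoImplicit false
set_option linter.style.haveILetI false
set_option backward.isDefEq.respectTransparency.types false
universe u
open CategoryTheory CategoryTheory.Limits AlgebraicGeometry
open Resolve

namespace Groth.Agent.S7301

/-- Let (A, m) be a Nagata local normal domain of dimension two which defines a rational singularity,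
and assume the m-adic completion of A is a normal domain. Then the completion defines a rational
singularity as well. -/
theorem result (A : Type u) [CommRing A] [IsDomain A] [IsLocalRing A] [IsNoetherianRing A]
    [IsIntegrallyClosed A] (hN : CAlg.IsNagata A) (hdim : ringKrullDim A = 2) (hA : Curv2.IsRationalSing A)
    [IsDomain (Curv2.cpl A)] [IsIntegrallyClosed (Curv2.cpl A)] : Curv2.IsRationalSing (Curv2.cpl A) := by
  classical
  open Groth.Agent.Resolve13 in
  intro Z zf hzp hZi hZn hzbir
  haveI := hzp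
  haveI := hZi
  let Ah := Curv2.cpl A
  let s := Spec.map (CommRingCat.ofHom (algebraMap A Ah))
  haveI : IsNoetherianRing Ah := Groth.Agent.Matlis6.isNoetherianRing_adicCompletion _
  haveI : Module.FaithfullyFlat A Ah := Module.FaithfullyFlat.of_flat_of_isLocalHom
  haveI : Flat s := by
    rw [HasRingHomProperty.Spec_iff (P := @Flat)]
    exact RingHom.flat_algebraMap_iff.2 inferInstance
  have hdimh : ringKrullDim Ah ≤ 2 := by
    rw [show ringKrullDim Ah = ringKrullDim A from Groth.Agent.CommAlg6.ringKrullDim_completion A]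
    exact hdim.le
  have hm0 : IsLocalRing.maximalIdeal A ≠ ⊥ := fun h => by
    have h1 := ringKrullDim_eq_zero_of_isField (IsLocalRing.isField_iff_maximalIdeal_eq.2 h)
    rw [hdim] at h1
    norm_num at h1
  let P' : (Spec (CommRingCat.of Ah)).Opens := FEt.puncturedSpec Ah
  let P : (Spec (CommRingCat.of A)).Opens := FEt.puncturedSpec A
  haveI : IsIso (zf ∣_ P') := CompletionRat.isIso_restrict_punctured hdimh zf hzbir
  obtain ⟨K, W, bW, hbW, hadm, k, hk⟩ :=
    S1274.result zf P' (TopologicalSpace.NoetherianSpace.isCompact _)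
  obtain ⟨I0, hsupp, hK, n, hn⟩ := CompletionRat.exists_descend A K hadm.2
  let m0 := IsLocalRing.maximalIdeal A
  have hI0 : I0 ≠ ⊥ := fun h => pow_ne_zero n hm0 (le_bot_iff.1 (h ▸ hn))
  obtain ⟨M, m, hMi, hmp, hMn, hmbir, hme, -⟩ := RatExt.exists_normBlowUp hN (I0 * m0) (mul_ne_zero hI0 hm0)
  haveI := hMi
  haveI := hmp
  haveI : IsIso (m ∣_ P) := CompletionRat.isIso_restrict_punctured hdim.le m hmbir
  let T := Curv2.bcCpl A m
  let q : T ⟶ Spec (CommRingCat.of Ah) := Curv2.bcCplSnd A m
  let π : T ⟶ M := Curv2.bcCplFst A m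
  have hsq : π ≫ m = q ≫ s := pullback.condition
  haveI : Flat π := MorphismProperty.of_isPullback (IsPullback.of_hasPullback m s).flip ‹Flat s›
  haveI : IsProper q := MorphismProperty.of_isPullback (IsPullback.of_hasPullback m s) hmp
  let D : T.IdealSheafData := ((Curv2.idealSheaf A (I0 * m0)).comap m).comap π
  have hDe : BlowUp.IsEffCartierIdeal D := SDiv28.isEffCartier_comap_of_flat hme π
  -- its complement is the punctured spectrum of the completion
  have hDsupp : (D.support.compl : T.Opens) = q ⁻¹ᵁ P' := by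
    refine TopologicalSpace.Opens.ext (Set.ext fun z => ?_)
    have h1 : z ∈ (D.support : Set T) ↔ s (q z) ∈ ({IsLocalRing.closedPoint A} : Set (Spec (CommRingCat.of A))) := by
      rw [show D = (Curv2.idealSheaf A (I0 * m0)).comap (π ≫ m) from (Scheme.IdealSheafData.comap_comp _ _ _).symm,
        hsq, Scheme.IdealSheafData.support_comap, TopologicalSpace.Closeds.coe_preimage, Set.mem_preimage,
        CAlgH3.BlowUpCd.support_idealSheaf, Scheme.Hom.comp_apply]
      constructor
      · intro h
        refine Set.mem_singleton_iff.2 (PrimeSpectrum.ext ((IsLocalRing.maximalIdeal.isMaximal A).eq_of_le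
          (s (q z)).isPrime.ne_top ?_).symm)
        haveI := (s (q z)).isPrime
        refine Ideal.IsPrime.le_of_pow_le (n := n + 1) (le_trans ?_ h)
        rw [pow_succ]
        exact Ideal.mul_mono_left hn
      · intro h
        rw [Set.mem_singleton_iff.1 h]
        show I0 * m0 ≤ m0
        exact Ideal.mul_le_right
    show ¬ z ∈ (D.support : Set T) ↔ ¬ q z = IsLocalRing.closedPoint Ah
    rw [h1]
    refine not_congr ⟨fun h => PrimeSpectrum.ext ?_, fun h => ?_⟩
    · refine ((IsLocalRing.maximalIdeal.isMaximal Ah).eq_of_le (q z).isPrime.ne_top ?_).symm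
      rw [AdicCompletion.maximalIdeal_eq_map, Ideal.map_le_iff_le_comap]
      exact (congrArg PrimeSpectrum.asIdeal (Set.mem_singleton_iff.1 h)).ge
    · rw [h]
      exact Set.mem_singleton_iff.2 (IsLocalRing.comap_closedPoint (algebraMap A Ah))
  have hle : P' ≤ s ⁻¹ᵁ P := fun z hz hzc => hz (Set.mem_singleton_iff.2 (PrimeSpectrum.ext <| by
    refine ((IsLocalRing.maximalIdeal.isMaximal Ah).eq_of_le z.isPrime.ne_top ?_).symm
    rw [AdicCompletion.maximalIdeal_eq_map, Ideal.map_le_iff_le_comap]
    exact (congrArg PrimeSpectrum.asIdeal (Set.mem_singleton_iff.1 hzc)).ge))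
  haveI hqiso : IsIso (q ∣_ P') := by
    let s' : P'.toScheme ⟶ P.toScheme := (Spec (CommRingCat.of Ah)).homOfLE hle ≫ (s ∣_ P)
    have hs' : s' ≫ P.ι = P'.ι ≫ s := by
      rw [Category.assoc, morphismRestrict_ι, Scheme.homOfLE_ι_assoc]
    have H := (isPullback_morphismRestrict q P').flip.paste_horiz (IsPullback.of_hasPullback m s)
    have B := (isPullback_morphismRestrict m P).flip
    obtain ⟨t, ht1, ht2⟩ := B.exists_lift ((q ⁻¹ᵁ P').ι ≫ π) ((q ∣_ P') ≫ s') (by
      rw [Category.assoc, Category.assoc, hs', morphismRestrict_ι_assoc, hsq])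
    have H' : IsPullback (t ≫ (m ⁻¹ᵁ P).ι) (q ∣_ P') m (s' ≫ P.ι) := by rw [ht1, hs']; exact H
    exact MorphismProperty.of_isPullback (P := MorphismProperty.isomorphisms Scheme)
      (IsPullback.of_right H' ht2 B) (show IsIso (m ∣_ P) from inferInstance)
  have hP'ne : (P' : Set (Spec (CommRingCat.of Ah))).Nonempty := by
    refine ⟨⟨⊥, Ideal.isPrime_bot⟩, fun h => hm0 ?_⟩
    have h2 := congrArg PrimeSpectrum.asIdeal (Set.mem_singleton_iff.1 h)
    change (⊥ : Ideal Ah) = IsLocalRing.maximalIdeal Ah at h2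
    rw [AdicCompletion.maximalIdeal_eq_map] at h2
    exact (Ideal.map_eq_bot_iff_of_injective (FaithfulSMul.algebraMap_injective A Ah)).1 h2.symm
  haveI : IsIntegral T := by
    haveI : Nonempty P'.toScheme := ⟨⟨hP'ne.some, hP'ne.some_mem⟩⟩
    haveI : IsIntegral P'.toScheme := isIntegral_of_isOpenImmersion P'.ι
    haveI : Nonempty (q ⁻¹ᵁ P').toScheme := ⟨(inv (q ∣_ P')) (Classical.arbitrary _)⟩
    haveI : IsIntegral (q ⁻¹ᵁ P').toScheme := isIntegral_of_isOpenImmersion (q ∣_ P')
    haveI : IsIntegral (Scheme.Opens.toScheme (X := T) D.support.compl) := by rw [hDsupp]; infer_instance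
    exact CompletionRat.isIntegral_of_effCartier hDe
  -- it dominates the modification
  have hKe : BlowUp.IsEffCartierIdeal (K.comap q) := by
    rw [← hK, ← Scheme.IdealSheafData.comap_comp, ← hsq, Scheme.IdealSheafData.comap_comp]
    refine SDiv28.isEffCartier_comap_of_flat (SDiv28.isEffCartier_left_of_mul
      (J := (Curv2.idealSheaf A m0).comap m) ?_) π
    rw [← RatExt.idealSheaf_comap_mul]
    exact hme
  obtain ⟨l, hl, -⟩ := hbW.2 T q hKe
  refine RatModif.subsingleton_H1_of_dominated hdimh zf q hzbir ⟨P', hP'ne, hqiso⟩ hZn (l ≫ k)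
    (by rw [Category.assoc, hk, hl]) ?_
  letI : M.Over (Spec (CommRingCat.of A)) := ⟨m⟩
  letI : T.Over (Spec (CommRingCat.of Ah)) := ⟨q⟩
  haveI : CompactSpace M := QuasiCompact.compactSpace_of_compactSpace m
  haveI : QuasiSeparatedSpace M := quasiSeparatedSpace_of_quasiSeparated m
  haveI : Coh.IsQCoh (Coh.structureModule M) := Coherent.isQCoh_structureModule
  haveI := hA M m hmp hMi hMn hmbir
  obtain ⟨e⟩ := S0034.result A Ah M T π (IsPullback.of_hasPullback m s) (Coh.structureModule M) 1
  obtain ⟨eO⟩ := CAlgH.PicPunct.nonempty_pullback_unit π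
  haveI : Subsingleton (TensorProduct A Ah (Coh.HH M (Coh.structureModule M) 1)) := inferInstance
  haveI := e.symm.toEquiv.subsingleton
  exact FlatMorStrat.subsingleton_HH_of_iso eO 1 inferInstance

end Groth.Agent.S7301
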