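import Groth.Statements.S7302
import Groth.Agent.S1650
import Groth.Agent.S7301
import Groth.Agent.S7305
import Groth.Agent.CAlgH.ExcellentNormal
import Groth.Agent.CAlgH.NagataFiniteType
import Groth.Agent.CAlgH.FiniteCompletion
import Groth.Agent.CAlgH.ApproximationLocal
import Groth.Agent.CAlgH.GRingRegular
import Groth.Agent.CAlgH.EtaleApprox

set_option autoImplicit false
set_option linter.style.haveILetI false
set_option backward.isDefEq.respectTransparency.types false
universe u
open CategoryTheory CategoryTheory.Limits AlgebraicGeometry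
open Resolve
open IsLocalRing (maximalIdeal closedPoint)

namespace Groth.Agent.S7302

/-- Local homomorphisms bijective modulo powers induce the same completion. -/
theorem nonempty_cpl_equiv {O O' : Type u} [CommRing O] [CommRing O'] [IsLocalRing O] [IsLocalRing O']
    [IsNoetherianRing O'] (ρ : O →+* O') [IsLocalHom ρ]
    (hb : ∀ (n : ℕ), 1 ≤ n → ∀ h : maximalIdeal O ^ n ≤ (maximalIdeal O' ^ n).comap ρ,
      Function.Bijective (Ideal.quotientMap (maximalIdeal O' ^ n) ρ h)) :
    Nonempty (Curv2.cpl O ≃+* Curv2.cpl O') := by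
  haveI : IsNoetherianRing (Curv2.cpl O') := Groth.Agent.Matlis6.isNoetherianRing_adicCompletion (maximalIdeal O')
  haveI : Module.FaithfullyFlat O' (Curv2.cpl O') := Module.FaithfullyFlat.of_flat_of_isLocalHom
  haveI := CAlgH.EtaleApprox.isAdicComplete_cpl O'
  have hle : ∀ n : ℕ, maximalIdeal O ^ n ≤ (maximalIdeal O' ^ n).comap ρ := fun n => by
    rw [← Ideal.map_le_iff_le_comap, Ideal.map_pow]
    exact Ideal.pow_right_mono (((IsLocalRing.local_hom_TFAE ρ).out 0 2).1 ‹IsLocalHom ρ›) n
  let φ : O →+* Curv2.cpl O' := (algebraMap O' (Curv2.cpl O')).comp ρ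
  obtain ⟨e, -⟩ := CAlgH.completion_equiv_of_quotients (maximalIdeal O) (maximalIdeal (Curv2.cpl O')) φ
    (fun j => by
      rw [AdicCompletion.maximalIdeal_eq_map, ← Ideal.map_pow, ← Ideal.comap_comap,
        Ideal.comap_map_eq_self_of_faithfullyFlat]
      refine le_antisymm (fun x hx => ?_) (hle j)
      rcases Nat.eq_zero_or_pos j with rfl | hj
      · simp
      exact Ideal.Quotient.eq_zero_iff_mem.1 ((hb j hj (hle j)).1 (by
        rw [Ideal.quotientMap_mk, map_zero]; exact Ideal.Quotient.eq_zero_iff_mem.2 hx)))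
    (fun j y => by
      obtain ⟨y', hy⟩ := CAlgH.EtaleApprox.exists_sub_mem O' j y
      obtain ⟨r, hr⟩ : ∃ r, y' - ρ r ∈ maximalIdeal O' ^ j := by
        rcases Nat.eq_zero_or_pos j with rfl | hj
        · exact ⟨0, by simp⟩
        obtain ⟨r, hr⟩ := (hb j hj (hle j)).2 (Ideal.Quotient.mk _ y')
        obtain ⟨r, rfl⟩ := Ideal.Quotient.mk_surjective r
        exact ⟨r, Ideal.Quotient.eq.1 hr.symm⟩
      refine ⟨r, ?_⟩
      have hr' : algebraMap O' (Curv2.cpl O') (y' - ρ r) ∈ maximalIdeal (Curv2.cpl O') ^ j := by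
        rw [AdicCompletion.maximalIdeal_eq_map, ← Ideal.map_pow]; exact Ideal.mem_map_of_mem _ hr
      have h2 := Ideal.add_mem _ hy hr'
      rw [map_sub, sub_add_sub_cancel] at h2
      exact h2)
  exact ⟨e⟩

/-- Stalks of schemes locally of finite type over a G-ring are G-rings. -/
theorem isGRing_stalk {R : Type u} [CommRing R] (hR : CAlg.IsGRing R) {Y : Scheme.{u}}
    (g : Y ⟶ Spec (CommRingCat.of R)) [LocallyOfFiniteType g] (y : Y) : CAlg.IsGRing (Y.presheaf.stalk y) := by
  obtain ⟨_, ⟨W, hW, rfl⟩, hy, -⟩ := Y.isBasis_affineOpens.exists_subset_of_mem_open (Set.mem_univ y) isOpen_univ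
  let ψ : CommRingCat.of R ⟶ Γ(Y, W) := Spec.preimage (hW.fromSpec ≫ g)
  have hψ : ψ.hom.FiniteType :=
    (HasRingHomProperty.Spec_iff (P := @LocallyOfFiniteType)).1 (by
      rw [Spec.map_preimage]; infer_instance)
  algebraize [ψ.hom]
  letI := TopCat.Presheaf.algebra_section_stalk Y.presheaf (⟨y, hy⟩ : W)
  haveI := hW.isLocalization_stalk ⟨y, hy⟩
  exact CAlgH.isGRing_localization (hW.primeIdealOf ⟨y, hy⟩).asIdeal.primeCompl _
    (CAlgH.isGRing_of_finiteType R hR Γ(Y, W))

/-- Let (A, m) be a Nagata local normal domain of dimension two which defines a rational singularity and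
whose m-adic completion is a normal domain, and let b : X → Spec A be the blowing up in m. Then for
every closed point x of X the completion of the local ring O_{X,x} at its maximal ideal is a normal
domain. -/
theorem result (A : Type u) [CommRing A] [IsDomain A] [IsLocalRing A] [IsNoetherianRing A]
    [IsIntegrallyClosed A] (hN : CAlg.IsNagata A) (hdim : ringKrullDim A = 2) (hA : Curv2.IsRationalSing A)
    [IsDomain (Curv2.cpl A)] [IsIntegrallyClosed (Curv2.cpl A)]
    (X : Scheme.{u}) (b : X ⟶ Spec (CommRingCat.of A)) (hb : BlowUp.IsBlowUp b (Curv2.idealSheaf A (IsLocalRing.maximalIdeal A)))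
    (x : X) (hx : IsClosed ({x} : Set X)) :
    IsDomain (Curv2.cpl (X.presheaf.stalk x)) ∧ IsIntegrallyClosed (Curv2.cpl (X.presheaf.stalk x)) := by
  let Ah := Curv2.cpl A
  let s := Spec.map (CommRingCat.ofHom (algebraMap A Ah))
  haveI : IsNoetherianRing Ah := Groth.Agent.Matlis6.isNoetherianRing_adicCompletion _
  haveI : Module.FaithfullyFlat A Ah := Module.FaithfullyFlat.of_flat_of_isLocalHom
  haveI := CAlgH.EtaleApprox.isAdicComplete_cpl A
  haveI : Flat s := by
    rw [HasRingHomProperty.Spec_iff (P := @Flat)]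
    exact RingHom.flat_algebraMap_iff.2 inferInstance
  have hNh : CAlg.IsNagata Ah := CAlgH.isNagata_of_complete_local Ah
  have hdimh : ringKrullDim Ah = 2 := (CommAlg6.ringKrullDim_completion A).trans hdim
  have hrat : Curv2.IsRationalSing Ah := Groth.Agent.S7301.result A hN hdim hA
  let Y := Curv2.bcCpl A b
  let g : Y ⟶ Spec (CommRingCat.of Ah) := Curv2.bcCplSnd A b
  have hblow : BlowUp.IsBlowUp g (Curv2.idealSheaf Ah (maximalIdeal Ah)) := by
    have h1 := SDiv28.isBlowUp_flat_baseChange hb s
    have h2 := Groth.Agent.Resolve13.RatExt.idealSheaf_comap_comp (algebraMap A Ah) (𝟙 _) (maximalIdeal A)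
    rw [Category.id_comp, Scheme.IdealSheafData.comap_id, ← AdicCompletion.maximalIdeal_eq_map] at h2
    rw [h2] at h1
    have he : (pullbackSymmetry b s).hom ≫ pullback.fst s b = g := pullbackSymmetry_hom_comp_fst _ _
    rw [← he]
    refine ⟨?_, fun Z k hk => ?_⟩
    · rw [Scheme.IdealSheafData.comap_comp]
      exact SDiv28.isEffCartier_comap_of_flat h1.1 _
    · obtain ⟨l, hl, hu⟩ := h1.2 Z k hk
      refine ⟨l ≫ (pullbackSymmetry b s).inv, ?_, fun l' hl' => ?_⟩
      · show (l ≫ (pullbackSymmetry b s).inv) ≫ (pullbackSymmetry b s).hom ≫ pullback.fst s b = k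
        rw [Category.assoc, Iso.inv_hom_id_assoc, hl]
      · have := hu (l' ≫ (pullbackSymmetry b s).hom) (by
          show (l' ≫ (pullbackSymmetry b s).hom) ≫ pullback.fst s b = k
          rw [Category.assoc]; exact hl')
        rw [← this, Category.assoc, Iso.hom_inv_id, Category.comp_id]
  have hYn : Pi1.IsNormalScheme Y := S1650.result Ah hNh hdimh hrat Y g hblow
  haveI : IsProper b := by
    refine BlowUpLib.isProper_of_isBlowUp hb fun U => ?_
    haveI : IsNoetherianRing Γ(Spec (CommRingCat.of A), U.1) := IsLocallyNoetherian.component_noetherian U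
    exact IsNoetherian.noetherian _
  haveI : LocallyOfFiniteType g := inferInstance
  have hbx : b.base x = IsLocalRing.closedPoint A := by
    have h1 : IsClosed ({b.base x} : Set (Spec (CommRingCat.of A))) := by
      rw [← Set.image_singleton]; exact b.isClosedMap _ hx
    exact PrimeSpectrum.ext (IsLocalRing.eq_maximalIdeal ((PrimeSpectrum.isClosed_singleton_iff_isMaximal _).1 h1))
  obtain ⟨q, hq, -⟩ := Scheme.Pullback.exists_preimage_pullback (f := b) (g := s) x (closedPoint Ah)
    (hbx.trans (IsLocalRing.comap_closedPoint (algebraMap A Ah)).symm)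
  subst hq
  haveI : IsLocallyNoetherian Y := LocallyOfFiniteType.isLocallyNoetherian g
  obtain ⟨hd, hic⟩ := hYn q
  haveI := hd
  haveI := hic
  let O' := Y.presheaf.stalk q
  obtain ⟨e⟩ := nonempty_cpl_equiv ((Curv2.bcCplFst A b).stalkMap q).hom fun n hn h =>
    S7305.result A (maximalIdeal A).fg_of_isNoetherianRing X b q hbx n hn h
  have hG : CAlg.IsGRing O' := isGRing_stalk (CAlgH.isGRing_complete Ah) g q
  haveI : IsNoetherianRing (Curv2.cpl O') := Groth.Agent.Matlis6.isNoetherianRing_adicCompletion _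
  obtain ⟨hD, hI⟩ := CommAlg6.NormalTensor.isDomain_of_local
    (CAlgH.ExcellentNormal.isNormalRing_adicCompletion O' hG
      (CAlgH.ExcellentNormal.isNormalRing_of_isIntegrallyClosed O') (maximalIdeal O'))
  haveI := hD
  haveI := hI
  haveI hD' : IsDomain (Curv2.cpl (X.presheaf.stalk ((Curv2.bcCplFst A b).base q))) := e.toMulEquiv.isDomain _
  exact ⟨hD', IsIntegrallyClosed.of_equiv e.symm⟩

end Groth.Agent.S7302
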