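import Groth.Statements.S7300
import Groth.Agent.Resolve13.TorsionH1

set_option autoImplicit false
set_option backward.isDefEq.respectTransparency.types false
universe u
open CategoryTheory CategoryTheory.Limits AlgebraicGeometry
open Resolve

namespace Groth.Agent.S7300

open Groth.Agent.Resolve13 Groth.Agent.Coherent Groth.Agent.EulerLib

/-- Let (A, m) be a local normal Nagata domain of dimension two and a ∈ A nonzero. There is an integer N
such that for every proper morphism X → Spec A from an integral normal scheme which is an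
isomorphism over some nonempty open (a normal modification), the A-module of a-torsion elements of
H^1(X, O_X) has length at most N. (The published statement bounds the length of the cokernel of A →
H^0(Z, O_Z), where Z ⊂ X is the closed subscheme cut out by a; this row bounds the a-torsion of
H^1(X, O_X), which is the same module by the exact sequence 0 → O_X → O_X → O_Z → 0 given by
multiplication by a and H^0(X, O_X) = A.) -/
theorem result (A : Type u) [CommRing A] [IsDomain A] [IsLocalRing A] [IsNoetherianRing A]
    [IsIntegrallyClosed A] (hN : CAlg.IsNagata A) (hdim : ringKrullDim A = 2) (a : A) (ha : a ≠ 0) :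
    ∃ N : ℕ, ∀ (X : Scheme.{u}) [X.Over (Spec (CommRingCat.of A))], IsProper (X ↘ Spec (CommRingCat.of A)) →
      IsIntegral X → Pi1.IsNormalScheme X →
      (∃ U : (Spec (CommRingCat.of A)).Opens, (U : Set (Spec (CommRingCat.of A))).Nonempty ∧ IsIso ((X ↘ Spec (CommRingCat.of A)) ∣_ U)) →
      Module.length A ↥(Submodule.torsionBy A (Coh.HH X (Coh.structureModule X) 1) a) ≤ (N : ℕ∞) := by
  classical
  by_cases ham : a ∈ IsLocalRing.maximalIdeal A
  swap
  · refine ⟨0, fun X _ _ _ _ _ => ?_⟩
    have hsub : Subsingleton ↥(Submodule.torsionBy A (Coh.HH X (Coh.structureModule X) 1) a) := by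
      refine ⟨fun x y => Subtype.ext ?_⟩
      obtain ⟨u, hu⟩ := IsLocalRing.notMem_maximalIdeal.1 ham
      have key : ∀ z : ↥(Submodule.torsionBy A (Coh.HH X (Coh.structureModule X) 1) a), (z : Coh.HH X (Coh.structureModule X) 1) = 0 := fun z => by
        have hz := (Submodule.mem_torsionBy_iff _ _).1 z.2
        rw [← one_smul A z.1, ← Units.inv_mul u, mul_smul, hu, hz, smul_zero]
      rw [key x, key y]
    rw [Module.length_eq_zero, Nat.cast_zero]
  obtain ⟨P, D, θ, S, hne, hP, hall, hθ, hS⟩ := Torsion.exists_primes hN hdim ha ham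
  let T : A := Torsion.S0 P S ^ ∑ q ∈ P.attach, (D q.1 q.2).V
  let J := Ideal.span ({a, T} : Set A)
  have hJ : ∀ p : Ideal A, p.IsPrime → J ≤ p → p = IsLocalRing.maximalIdeal A := fun p hp hle => by
    by_contra hne'
    have hap : p ∈ P := hall p hp (hle (Ideal.subset_span (by simp))) hne'
    obtain ⟨q, -, hq⟩ := (hp.prod_mem_iff).1 (hp.mem_of_pow_mem _ (hle (Ideal.subset_span (by simp : T ∈ ({a, T} : Set A)))))
    exact (hS q.1 q.2).2 p hap hq
  have hart : IsArtinianRing (A ⧸ J) := by
    rw [isArtinianRing_iff_krullDimLE_zero, Ring.krullDimLE_zero_iff]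
    intro P' hP'
    have h1 : P'.comap (Ideal.Quotient.mk J) = IsLocalRing.maximalIdeal A :=
      hJ _ (hP'.comap _) (fun x hx => by
        show Ideal.Quotient.mk J x ∈ P'
        rw [Ideal.Quotient.eq_zero_iff_mem.2 hx]; exact P'.zero_mem)
    rw [← Ideal.map_comap_of_surjective (Ideal.Quotient.mk J) Ideal.Quotient.mk_surjective P', h1]
    refine ((Ideal.map_eq_top_or_isMaximal_of_surjective (Ideal.Quotient.mk J) Ideal.Quotient.mk_surjective
      (IsLocalRing.maximalIdeal.isMaximal A)).resolve_left fun h => ?_)
    exact hP'.ne_top (by rw [← Ideal.map_comap_of_surjective (Ideal.Quotient.mk J) Ideal.Quotient.mk_surjective P', h1, h])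
  have hfin : Module.length A (A ⧸ J) ≠ ⊤ := by
    haveI : IsArtinian A (A ⧸ J) := by
      haveI := hart
      exact isArtinian_of_surjective_algebraMap (R := A ⧸ J) (S := A) (M := A ⧸ J) Ideal.Quotient.mk_surjective
    exact Module.length_ne_top
  refine ⟨(Module.length A (A ⧸ J)).toNat, fun X hX hprop hint hnorm hmod => ?_⟩
  rw [ENat.natCast_toNat hfin]
  let f : X ⟶ Spec (CommRingCat.of A) := X ↘ Spec (CommRingCat.of A)
  haveI : IsProper f := hprop
  haveI := hint
  have hγ : ∀ x : X, Torsion.γ f x a ≠ 0 := fun x h =>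
    ha (Torsion.γ_injective f hmod x (h.trans (map_zero _).symm))
  have hsh := Torsion.seqA_shortExact f a hγ
  have hglob : Function.Surjective (Coh.toGlobal f) := by
    obtain ⟨U, hU, hUi⟩ := id hmod
    obtain ⟨hη, hb⟩ := Coherent.birational_of_isIso_morphismRestrict f U hU
    have hAn : Pi1.IsNormalScheme (Spec (CommRingCat.of A)) := fun y => by
      refine ⟨inferInstance, ?_⟩
      exact isIntegrallyClosed_of_isLocalization ((Spec.structureSheaf A).presheaf.stalk y) y.asIdeal.primeCompl
        y.asIdeal.primeCompl_le_nonZeroDivisors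
    haveI : IsIso f.appTop := Coherent.isIso_app_of_birational f hAn hη ((ConcreteCategory.isIso_iff_bijective _).2 hb) ⊤
    exact (ConcreteCategory.bijective_of_isIso f.appTop).2.comp
      (ConcreteCategory.bijective_of_isIso (Scheme.ΓSpecIso (CommRingCat.of A)).inv).2
  have hbound := Torsion.length_range_deltaG_le f hsh
    (fun G hG => Torsion.exists_lift f hmod hnorm hdim ha P D θ S hP hall hθ hS hne hG)
    (fun b hb => Torsion.dvd_of_forall_dvd f hmod hnorm hdim ha b hb) hglob
  refine le_trans ?_ hbound
  let e := HHBaseEquiv A (Coh.structureModule X) 1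
  let ι : ↥(Submodule.torsionBy A (Coh.HH X (Coh.structureModule X) 1) a) →ₗ[A]
      HA (Coh.toGlobal f) (Coh.structureModule X) (⊤ : X.Opens) 1 :=
    e.toLinearMap.comp (Submodule.subtype _)
  have hι : ∀ x, ι x ∈ LinearMap.range (deltaG (Coh.toGlobal f) hsh) := fun x => by
    have h0 : a • ι x = 0 := by
      rw [← map_smul, show a • x = 0 from Subtype.ext ((Submodule.mem_torsionBy_iff _ _).1 x.2), map_zero]
    have h1 : postA (Coh.toGlobal f) (Torsion.seqA f a).f ⊤ 1 (ι x) = 0 := by
      refine Eq.trans ?_ h0
      have hμ : (toAbFunctor X).map (Torsion.mulA f a) = smulEndAb (Coh.structureModule X) (Coh.toGlobal f a) := by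
        ext U m
        refine (Torsion.mulA_app f a U.unop m).trans ?_
        refine Eq.trans ?_ (smulEndAb_app (Coh.structureModule X) (Coh.toGlobal f a) U.unop m).symm
        exact mul_comm (show Γ(X, U.unop) from m) _
      show postH (X := X.toTopCat) ((toAbFunctor X).map (Torsion.mulA f a)) 1 (⊤ : X.Opens) (ι x) = _
      rw [hμ]
      rfl
    obtain ⟨y, hy⟩ := (exact_deltaA_postA (Coh.toGlobal f) hsh ⊤ 0 (ι x)).1 h1
    exact ⟨secA (Coh.toGlobal f) _ y, by simpa [deltaG] using hy⟩
  exact Module.length_le_of_injective (ι.codRestrict _ hι) fun x y h =>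
    Subtype.ext (e.injective (congrArg Subtype.val h))

end Groth.Agent.S7300
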