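import Groth.Statements.S7328
import Groth.Agent.S7300
import Groth.Agent.Resolve13.UpTrace
import Groth.Agent.S7338

set_option autoImplicit false
set_option backward.isDefEq.respectTransparency.types false
universe u
open CategoryTheory CategoryTheory.Limits AlgebraicGeometry
open Resolve

namespace Groth.Agent.S7328

open Groth.Agent.Resolve13

/-- Torsion plus image. -/
theorem length_le {A B : Type u} [CommRing A] [CommRing B] [Algebra A B] (M : Type u) [AddCommGroup M] [Module A M]
    [Module B M] [IsScalarTower A B M] (d : A) :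
    Module.length B M ≤ Module.length B (Submodule.torsionBy B M (algebraMap A B d)) +
      Module.length A (LinearMap.range (LinearMap.lsmul A M d)) := by
  let g := (LinearMap.lsmul B M (algebraMap A B d)).rangeRestrict
  rw [Module.length_eq_add_of_exact (Submodule.torsionBy B M (algebraMap A B d)).subtype g
    (Submodule.injective_subtype _) (LinearMap.surjective_rangeRestrict _) (LinearMap.exact_iff.2 (by
      rw [LinearMap.ker_rangeRestrict, Submodule.range_subtype]; rfl))]
  refine add_le_add le_rfl ((Submodule.length_le_length_restrictScalars A _).trans (le_of_eq ?_))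
  rw [show (LinearMap.range (LinearMap.lsmul B M (algebraMap A B d))).restrictScalars A =
      LinearMap.range (LinearMap.lsmul A M d) from Submodule.ext fun x => by
        simp only [Submodule.restrictScalars_mem, LinearMap.mem_range, LinearMap.lsmul_apply, algebraMap_smul]]

/-- A trace identity with coefficients in the order. -/
theorem exists_trace_identity (A B K L : Type u) [CommRing A] [IsDomain A] [CommRing B] [IsDomain B] [Algebra A B]
    [Module.Finite A B] [Field K] [Field L] [Algebra A K] [IsFractionRing A K] [Algebra B L] [IsFractionRing B L]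
    [Algebra K L] [Algebra A L] [IsScalarTower A K L] [IsScalarTower A B L] [Algebra.IsSeparable K L]
    (hinj : Function.Injective (algebraMap A B)) :
    ∃ (n : ℕ) (d : A) (ev bv : Fin n → B), d ≠ 0 ∧ ∀ z : L,
      ∑ j, algebraMap B L (bv j) * algebraMap K L (Algebra.trace K L (algebraMap B L (ev j) * z)) =
        algebraMap B L (algebraMap A B d) * z := by
  haveI : FaithfulSMul A B := (faithfulSMul_iff_algebraMap_injective _ _).mpr hinj
  haveI : Algebra.IsAlgebraic A B := Algebra.IsIntegral.isAlgebraic
  haveI : Module.Finite K L :=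
    Module.Finite.of_isLocalizedModule (nonZeroDivisors A) (IsScalarTower.toAlgHom A B L).toLinearMap
  let b := Module.finBasis K L
  let b' := (Algebra.traceForm K L).dualBasis (traceForm_nondegenerate K L) b
  have clear : ∀ {n : ℕ} (v : Fin n → L), ∃ (s : A) (w : Fin n → B), s ≠ 0 ∧
      ∀ j, algebraMap B L (w j) = algebraMap B L (algebraMap A B s) * v j := fun {n} v => by
    choose ws hw using fun j => IsLocalizedModule.surj (nonZeroDivisors A)
      (IsScalarTower.toAlgHom A B L).toLinearMap (v j)
    classical
    refine ⟨∏ j, ((ws j).2 : A), fun j => algebraMap A B (∏ i ∈ Finset.univ.erase j, ((ws i).2 : A)) * (ws j).1,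
      Finset.prod_ne_zero_iff.2 fun j _ => nonZeroDivisors.ne_zero (ws j).2.2, fun j => ?_⟩
    have h1 : algebraMap B L (ws j).1 = algebraMap B L (algebraMap A B ((ws j).2 : A)) * v j := by
      rw [← IsScalarTower.algebraMap_apply A B L, ← Algebra.smul_def]
      exact (hw j).symm
    rw [map_mul, h1, ← mul_assoc, ← map_mul, ← map_mul, Finset.prod_erase_mul _ _ (Finset.mem_univ j)]
  obtain ⟨s, bv, hs, hbv⟩ := clear (fun j => b' j)
  obtain ⟨t, ev, ht, hev⟩ := clear (fun j => b j)
  refine ⟨_, s * t, ev, bv, mul_ne_zero hs ht, fun z => ?_⟩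
  have hsum : ∑ j, algebraMap K L (Algebra.trace K L (b j * z)) * b' j = z := by
    conv_rhs => rw [← b'.sum_repr z]
    refine Finset.sum_congr rfl fun j _ => ?_
    rw [LinearMap.BilinForm.dualBasis_repr_apply, Algebra.traceForm_apply, Algebra.smul_def, mul_comm z]
  have ht' : algebraMap B L (algebraMap A B t) = algebraMap K L (algebraMap A K t) := by
    rw [← IsScalarTower.algebraMap_apply A B L, ← IsScalarTower.algebraMap_apply A K L]
  conv_rhs => rw [← hsum, Finset.mul_sum, map_mul, map_mul]
  refine Finset.sum_congr rfl fun j _ => ?_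
  rw [hbv, hev, ht', mul_assoc (algebraMap K L (algebraMap A K t)), ← Algebra.smul_def (algebraMap A K t) (b j * z), map_smul, smul_eq_mul, map_mul]
  ring

/-- Lengths of normal modifications. -/
abbrev Bounded (A : Type u) [CommRing A] : Prop :=
  ∃ N : ℕ, ∀ (X : Scheme.{u}) [X.Over (Spec (CommRingCat.of A))], IsProper (X ↘ Spec (CommRingCat.of A)) →
    IsIntegral X → Pi1.IsNormalScheme X →
    (∃ U : (Spec (CommRingCat.of A)).Opens, (U : Set (Spec (CommRingCat.of A))).Nonempty ∧ IsIso ((X ↘ Spec (CommRingCat.of A)) ∣_ U)) →
    Module.length A (Coh.HH X (Coh.structureModule X) 1) ≤ (N : ℕ∞)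

/-- Suppose A and B are two-dimensional local normal Nagata domains and A → B is an injective, finite,
local ring map for which the fraction field of B is separable over that of A. If A admits reduction
to rational singularities (the lengths of the A-modules H^1(X, O_X), over all proper morphisms X →
Spec A from an integral normal scheme which are an isomorphism over a nonempty open, are bounded),
then B admits it as well (the same lengths for B are bounded). The fraction field of B is given an
algebra structure over that of A compatible with A → B. -/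
theorem result (A B : Type u) [CommRing A] [CommRing B] [IsDomain A] [IsDomain B]
    [IsLocalRing A] [IsLocalRing B] [IsNoetherianRing A] [IsNoetherianRing B] [IsIntegrallyClosed A] [IsIntegrallyClosed B]
    (hNA : CAlg.IsNagata A) (hNB : CAlg.IsNagata B) (hdA : ringKrullDim A = 2) (hdB : ringKrullDim B = 2)
    [Algebra A B] [Module.Finite A B] (hinj : Function.Injective (algebraMap A B)) [IsLocalHom (algebraMap A B)]
    [Algebra (FractionRing A) (FractionRing B)]
    (hcompat : ∀ a : A, algebraMap (FractionRing A) (FractionRing B) (algebraMap A (FractionRing A) a) =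
      algebraMap B (FractionRing B) (algebraMap A B a))
    [Algebra.IsSeparable (FractionRing A) (FractionRing B)]
    (hA : (∃ N : ℕ, ∀ (X : Scheme.{u}) [X.Over (Spec (CommRingCat.of A))], IsProper (X ↘ Spec (CommRingCat.of A)) →
        IsIntegral X → Pi1.IsNormalScheme X →
        (∃ U : (Spec (CommRingCat.of A)).Opens, (U : Set (Spec (CommRingCat.of A))).Nonempty ∧ IsIso ((X ↘ Spec (CommRingCat.of A)) ∣_ U)) →
        Module.length A (Coh.HH X (Coh.structureModule X) 1) ≤ (N : ℕ∞))) :
    (∃ N : ℕ, ∀ (X : Scheme.{u}) [X.Over (Spec (CommRingCat.of B))], IsProper (X ↘ Spec (CommRingCat.of B)) →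
        IsIntegral X → Pi1.IsNormalScheme X →
        (∃ U : (Spec (CommRingCat.of B)).Opens, (U : Set (Spec (CommRingCat.of B))).Nonempty ∧ IsIso ((X ↘ Spec (CommRingCat.of B)) ∣_ U)) →
        Module.length B (Coh.HH X (Coh.structureModule X) 1) ≤ (N : ℕ∞)) := by
  let K := FractionRing A
  let L := FractionRing B
  haveI : IsScalarTower A K L := IsScalarTower.of_algebraMap_eq fun a =>
    (IsScalarTower.algebraMap_apply A B L a).trans (hcompat a).symm
  obtain ⟨NA, hNA'⟩ := hA
  obtain ⟨n, d, ev, bv, hd, hid⟩ := exists_trace_identity A B K L hinj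
  obtain ⟨NB, hNB'⟩ := S7300.result B hNB hdB (algebraMap A B d) ((map_ne_zero_iff _ hinj).2 hd)
  refine ⟨NB + n * NA, fun X hX hprop hint hnorm hmod => ?_⟩
  let r : X ⟶ Spec (CommRingCat.of B) := X ↘ Spec (CommRingCat.of B)
  haveI : IsProper r := hprop
  haveI := hint
  obtain ⟨Y, f, hfp, hYi, hYn, hYiso, Y', hY'i, ν, q, hνf, hqp, hY'n, hcomm, hqiso, ⟨hν, σ, i, hσB, hσK⟩, l, hl⟩ :=
    UpModif.exists_dominating hNA hinj K L r hmod
  haveI := hfp; haveI := hYi; haveI := hY'i; haveI := hνf; haveI := hqp
  letI algY : Algebra Y.functionField Y'.functionField := (Groth.Agent.Hyper24.ffMap ν hν).toAlgebra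
  have hid' : ∀ z : Y'.functionField, ∑ j, FiniteExtRat.glob q (bv j) *
      algebraMap Y.functionField Y'.functionField
        (Algebra.trace Y.functionField Y'.functionField (FiniteExtRat.glob q (ev j) * z)) =
      FiniteExtRat.glob q (algebraMap A B d) * z := fun z => by
    apply σ.injective
    rw [map_sum, map_mul, hσB, ← hid (σ z)]
    refine Finset.sum_congr rfl fun j _ => ?_
    rw [map_mul, hσB, Algebra.trace_eq_of_equiv_equiv i.symm σ (RingHom.ext fun w => ?_), RingEquiv.symm_symm,
      map_mul, hσB]
    · exact congrArg (algebraMap B L (bv j) * ·) (hσK _)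
    · show algebraMap K L (i.symm w) = σ (Groth.Agent.Hyper24.ffMap ν hν w)
      rw [← hσK, RingEquiv.apply_symm_apply]
  haveI : HasInjectiveResolutions Y'.Modules := Coherent.hasInjectiveResolutions_modules Y'
  letI : Y.Over (Spec (CommRingCat.of A)) := ⟨f⟩
  letI oB : Y'.Over (Spec (CommRingCat.of B)) := ⟨q⟩
  letI oA : Y'.Over (Spec (CommRingCat.of A)) := ⟨ν ≫ f⟩
  haveI : IsScalarTower A B (Coh.HH Y' (Coh.structureModule Y') 1) := IsScalarTower.of_algebraMap_smul fun a x => by
    show Coh.toGlobal q (algebraMap A B a) • x = Coh.toGlobal (ν ≫ f) a • x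
    rw [UpModif.toGlobal_comp_spec ν f q hcomm]
  have h1 : Module.length B (Coh.HH X (Coh.structureModule X) 1) ≤
      Module.length B (Coh.HH Y' (Coh.structureModule Y') 1) := by
    haveI : IsProper (Y' ↘ Spec (CommRingCat.of B)) := hqp
    haveI : IsProper (X ↘ Spec (CommRingCat.of B)) := hprop
    rw [(S7338.result B hdB X Y' hmod hqiso hnorm l hl).2.2.2]
    exact le_self_add
  refine h1.trans ((length_le (Coh.HH Y' (Coh.structureModule Y') 1) d).trans ?_)
  rw [Nat.cast_add, Nat.cast_mul]
  refine add_le_add (hNB' Y' hqp hY'i hY'n hqiso) ?_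
  exact (UpTrace.length_smul_le ν hν f q hcomm hYn ev bv d hid').trans
    (mul_le_mul_right (hNA' Y hfp hYi hYn hYiso) _)

end Groth.Agent.S7328
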