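import Groth.Statements.S7330
import Groth.Agent.S1274
import Groth.Agent.S7338
import Groth.Agent.S1649
import Groth.Agent.Resolve13.RatExt
import Groth.Agent.Resolve13.RatModif
import Groth.Agent.Resolve13.LocalBase

set_option autoImplicit false
set_option backward.isDefEq.respectTransparency.types false
universe u
open CategoryTheory CategoryTheory.Limits AlgebraicGeometry
open Resolve

namespace Groth.Agent.S7330

open Resolve13

/-- The ideal of an admissible blow-up dominating a modification of the spectrum of a domain. -/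
theorem exists_dominating_ideal {R : Type u} [CommRing R] [IsDomain R] {Z : Scheme.{u}}
    (zf : Z ⟶ Spec (CommRingCat.of R)) [IsProper zf]
    (hbir : ∃ U : (Spec (CommRingCat.of R)).Opens, (U : Set (Spec (CommRingCat.of R))).Nonempty ∧ IsIso (zf ∣_ U)) :
    ∃ K : Ideal R, K ≠ ⊥ ∧ ∀ (T : Scheme.{u}) (q : T ⟶ Spec (CommRingCat.of R)),
      BlowUp.IsEffCartierIdeal ((Curv2.idealSheaf R K).comap q) → ∃ l : T ⟶ Z, l ≫ zf = q := by
  obtain ⟨U, ⟨w, hw⟩, hU⟩ := hbir
  obtain ⟨_, ⟨_, ⟨b₀, rfl⟩, rfl⟩, hwb, hbU⟩ :=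
    (PrimeSpectrum.isBasis_basic_opens (R := R)).exists_subset_of_mem_open hw U.2
  let U' : (Spec (CommRingCat.of R)).Opens := PrimeSpectrum.basicOpen b₀
  haveI : IsIso (zf ∣_ U') := BMLib.isIso_restrict_of_le zf (U := U) hbU
  obtain ⟨𝓚, W, bW, hbW, hadm, k, hk⟩ := S1274.result zf U' (PrimeSpectrum.isCompact_basicOpen b₀)
  obtain ⟨K, hK⟩ := RatExt.exists_eq_idealSheaf 𝓚
  refine ⟨K, fun h0 => ?_, fun T q hq => ?_⟩
  · have hη : genericPoint (Spec (CommRingCat.of R)) ∉ 𝓚.support := fun h1 =>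
      Set.disjoint_left.1 hadm.2 h1 ((genericPoint_specializes w).mem_open U'.2 hwb)
    refine hη ?_
    rw [hK, h0, show Curv2.idealSheaf R (⊥ : Ideal R) = ⊥ from
      Scheme.IdealSheafData.ext_of_isAffine (by rw [RatExt.ideal_top, Ideal.map_bot]; rfl)]
    rw [Scheme.IdealSheafData.support_bot]
    trivial
  · obtain ⟨l, hl, -⟩ := hbW.2 T q (hK ▸ hq)
    exact ⟨l ≫ k, by rw [Category.assoc, hk, hl]⟩

/-- Let (A, m) be a local normal Nagata domain of dimension two for which reduction to rational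
singularities is possible (the lengths of H^1(X, O_X) over all proper morphisms X → Spec A from an
integral normal scheme which are an isomorphism over a nonempty open are bounded). Then there is
such a normal modification f : X → Spec A, with f projective, such that at each closed point x of X
the stalk O_{X,x} is a rational singularity. (The published statement obtains X by a finite sequence
of normalized blowings up in closed points; this row asserts only the resulting modification.) -/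
theorem result (A : Type u) [CommRing A] [IsDomain A] [IsLocalRing A] [IsNoetherianRing A]
    [IsIntegrallyClosed A] (hN : CAlg.IsNagata A) (hdim : ringKrullDim A = 2)
    (hA : (∃ N : ℕ, ∀ (X : Scheme.{u}) [X.Over (Spec (CommRingCat.of A))], IsProper (X ↘ Spec (CommRingCat.of A)) →
        IsIntegral X → Pi1.IsNormalScheme X →
        (∃ U : (Spec (CommRingCat.of A)).Opens, (U : Set (Spec (CommRingCat.of A))).Nonempty ∧ IsIso ((X ↘ Spec (CommRingCat.of A)) ∣_ U)) →
        Module.length A (Coh.HH X (Coh.structureModule X) 1) ≤ (N : ℕ∞))) :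
    ∃ (X : Scheme.{u}) (f : X ⟶ Spec (CommRingCat.of A)), IsProper f ∧ IsIntegral X ∧ Pi1.IsNormalScheme X ∧
      (∃ U : (Spec (CommRingCat.of A)).Opens, (U : Set (Spec (CommRingCat.of A))).Nonempty ∧ IsIso (f ∣_ U)) ∧
      RelProj.IsProjective f ∧
      ∀ x : X, IsClosed ({x} : Set X) → Curv2.IsRationalSing (X.presheaf.stalk x) := by
  classical
  let S := Spec (CommRingCat.of A)
  let Bound : ℕ → Prop := fun k => ∀ (X : Scheme.{u}) [X.Over S], IsProper (X ↘ S) →
    IsIntegral X → Pi1.IsNormalScheme X →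
    (∃ U : S.Opens, (U : Set S).Nonempty ∧ IsIso ((X ↘ S) ∣_ U)) →
    Module.length A (Coh.HH X (Coh.structureModule X) 1) ≤ (k : ℕ∞)
  have hex : ∃ k, Bound k := hA
  let k := Nat.find hex
  have hk : Bound k := Nat.find_spec hex
  -- a modification of maximal length
  obtain ⟨X₀, f₀, hf₀p, hX₀i, hX₀n, hf₀bir, hf₀len⟩ : ∃ (X₀ : Scheme.{u}) (f₀ : X₀ ⟶ S),
      IsProper f₀ ∧ IsIntegral X₀ ∧ Pi1.IsNormalScheme X₀ ∧
      (∃ U : S.Opens, (U : Set S).Nonempty ∧ IsIso (f₀ ∣_ U)) ∧
      (letI : X₀.Over S := ⟨f₀⟩; (k : ℕ∞) ≤ Module.length A (Coh.HH X₀ (Coh.structureModule X₀) 1)) := by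
    rcases Nat.eq_zero_or_pos k with hk0 | hk0
    · refine ⟨S, 𝟙 S, inferInstance, inferInstance, CommAlg4.Cone.isNormalScheme_spec (CommRingCat.of A),
        ⟨⊤, ⟨genericPoint S, trivial⟩, inferInstance⟩, ?_⟩
      rw [hk0, Nat.cast_zero]
      exact bot_le
    · by_contra hcon
      refine Nat.find_min hex (show k - 1 < k by omega) fun X _ hp hi hn hb => ?_
      have hlt : Module.length A (Coh.HH X (Coh.structureModule X) 1) < (k : ℕ∞) := by
        by_contra h
        exact hcon ⟨X, X ↘ S, hp, hi, hn, hb, not_lt.1 h⟩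
      have e : ((k - 1 : ℕ) : ℕ∞) + 1 = (k : ℕ∞) := by exact_mod_cast Nat.sub_add_cancel hk0
      exact ENat.lt_natCast_add_one_iff.1 (e.symm ▸ hlt)
  haveI := hf₀p
  haveI := hX₀i
  -- a projective one dominating it
  obtain ⟨K₀, hK₀, hK₀u⟩ := exists_dominating_ideal f₀ hf₀bir
  obtain ⟨X, f, hXi, hfp, hfproj, hXn, hfbir, hfe⟩ :=
    RatModif.exists_normBlowUp_over hN (𝟙 S) (Curv2.idealSheaf A K₀) (RatExt.idealSheaf_ne_bot hK₀)
  haveI := hXi
  haveI := hfp
  obtain ⟨l, hl⟩ := hK₀u X f hfe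
  letI : X₀.Over S := ⟨f₀⟩
  letI : X.Over S := ⟨f⟩
  haveI : IsProper (X₀ ↘ S) := hf₀p
  haveI : IsProper (X ↘ S) := hfp
  haveI : HasInjectiveResolutions X.Modules := Coherent.hasInjectiveResolutions_modules X
  obtain ⟨-, -, -, hlen₀⟩ := S7338.result A hdim X₀ X hf₀bir hfbir hX₀n l hl
  have hXlen : (k : ℕ∞) ≤ Module.length A (Coh.HH X (Coh.structureModule X) 1) := by
    rw [hlen₀]
    exact hf₀len.trans le_self_add
  refine ⟨X, f, hfp, hXi, hXn, hfbir, hfproj, fun x hx Z zf hzp hZi hZn hzbir => ?_⟩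
  haveI := hzp
  haveI := hZi
  haveI : IsLocallyNoetherian X := LocallyOfFiniteType.isLocallyNoetherian f
  haveI : CompactSpace X := QuasiCompact.compactSpace_of_compactSpace f
  haveI : AlgebraicGeometry.IsNoetherian X := {}
  obtain ⟨Uf, hUfne, hUf⟩ := hfbir
  obtain ⟨hfη, hfb⟩ := Coherent.birational_of_isIso_morphismRestrict f Uf hUfne
  have hdimO : ringKrullDim (X.presheaf.stalk x) ≤ 2 :=
    (Modification.ringKrullDim_stalk_le f hfη hfb x).trans (ringKrullDim_stalk_spec_le hdim.le _)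
  obtain ⟨K, hK, hKu⟩ := exists_dominating_ideal zf hzbir
  obtain ⟨J, hJ⟩ := RatModif.exists_comap_fromSpecStalk x K
  have hJne : J ≠ ⊥ := fun h0 => by
    have h1 := hJ _ (𝟙 _)
    rw [h0, Scheme.IdealSheafData.comap_bot, Scheme.IdealSheafData.comap_id] at h1
    exact RatExt.idealSheaf_ne_bot hK h1.symm
  obtain ⟨X', g, hX'i, hgp, -, hX'n, ⟨V, hVne, hV⟩, hge⟩ := RatModif.exists_normBlowUp_over hN f J hJne
  haveI := hX'i
  haveI := hgp
  haveI := hV
  obtain ⟨hgη, -⟩ := Coherent.birational_of_isIso_morphismRestrict g V hVne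
  haveI := hUf
  obtain ⟨W, hWne, hW⟩ := RatExt.exists_isIso_comp f g Uf hUfne V hVne
  letI : X'.Over S := ⟨g ≫ f⟩
  haveI : IsProper (X' ↘ S) := inferInstanceAs (IsProper (g ≫ f))
  haveI : HasInjectiveResolutions X'.Modules := Coherent.hasInjectiveResolutions_modules X'
  obtain ⟨hgg, -, -, hlen⟩ := S7338.result A hdim X X' ⟨Uf, hUfne, hUf⟩ ⟨W, hWne, hW⟩ hXn g rfl
  have hle := hk X' inferInstance hX'i hX'n ⟨W, hWne, hW⟩
  rw [hlen] at hle
  have hR0 : Module.length A (Coh.HH X ((Coh.Rpush g 1).obj (Coh.structureModule X')) 0) ≤ 0 :=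
    (ENat.add_le_add_iff_left (ENat.coe_ne_top k)).1
      ((add_le_add hXlen le_rfl).trans (hle.trans (add_zero _).ge))
  replace hR0 := Module.length_eq_zero_iff.1 (le_antisymm hR0 bot_le)
  have hRz : IsZero ((Coh.Rpush g 1).obj (Coh.structureModule X')) :=
    LocalBase.isZero_of_globallyGenerated hgg fun τ => by
      rw [← (Coherent.Existence.hSec _).apply_symm_apply τ,
        hR0.elim ((Coherent.Existence.hSec _).symm τ) 0, map_zero]
  have hP1 := LocalBase.subsingleton_HH g x 1 (S1649.subsingleton_stalk_of_isZero hRz x)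
  obtain ⟨hPi, hfstη⟩ := LocalBase.isIntegral g x hgη
  haveI := hPi
  let O := X.presheaf.stalk x
  let q : pullback g (X.fromSpecStalk x) ⟶ Spec (CommRingCat.of O) := pullback.snd g (X.fromSpecStalk x)
  haveI : IsProper q := MorphismProperty.pullback_snd _ _ inferInstance
  have hqiso := LocalBase.exists_isIso_restrict g x V
  have hVη : genericPoint X ∈ V := (genericPoint_spec X).mem_open_set_iff V.2 |>.2 (by simpa using hVne)
  have hV'ne : ((X.fromSpecStalk x ⁻¹ᵁ V : (Spec O).Opens) : Set (Spec O)).Nonempty := by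
    obtain ⟨w, hw⟩ : genericPoint X ∈ Set.range (X.fromSpecStalk x) := by
      rw [Scheme.range_fromSpecStalk]; exact genericPoint_specializes x
    exact ⟨w, show X.fromSpecStalk x w ∈ V from hw.symm ▸ hVη⟩
  obtain ⟨l', hl'⟩ := hKu _ q (by
    rw [← hJ _ q, show q ≫ X.fromSpecStalk x = pullback.fst g (X.fromSpecStalk x) ≫ g from pullback.condition.symm,
      Scheme.IdealSheafData.comap_comp]
    exact S1650.isEff_comap _ hfstη hge)
  exact RatModif.subsingleton_H1_of_dominated hdimO zf q hzbir ⟨_, hV'ne, hqiso⟩ hZn l' hl' hP1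

end Groth.Agent.S7330
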