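import Groth.Statements.S1597
import Groth.Agent.S1598
import Groth.Agent.CAlgH.RegularGenerization
import Groth.Agent.AlgSpLib.EtaleAscend
import Groth.Agent.Matlis6.CompletionNoetherian
-- import your own Groth.Agent.* helpers here

set_option autoImplicit false
set_option backward.isDefEq.respectTransparency.types false
universe u
open CategoryTheory CategoryTheory.Limits AlgebraicGeometry
open Resolve

namespace Groth.Agent.S1597

/-- Let A be a Noetherian local ring with completion A^, X a scheme proper over Spec A and Y its base
change to Spec A^. Then all local rings of X are regular if and only if all local rings of Y are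
regular. -/
theorem result (A : Type u) [CommRing A] [IsLocalRing A] [IsNoetherianRing A]
    (X : Scheme.{u}) (f : X ⟶ Spec (CommRingCat.of A)) [IsProper f] :
    (∀ x : X, IsRegularLocalRing (X.presheaf.stalk x)) ↔
      ∀ y : Curv2.bcCpl A f, IsRegularLocalRing ((Curv2.bcCpl A f).presheaf.stalk y) := by
  let c := algebraMap A (Curv2.cpl A)
  haveI : IsLocallyNoetherian X := LocallyOfFiniteType.isLocallyNoetherian f
  haveI : IsNoetherianRing (Curv2.cpl A) := Agent.Matlis6.isNoetherianRing_adicCompletion _
  haveI : IsProper (Curv2.bcCplSnd A f) := MorphismProperty.pullback_snd _ _ inferInstance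
  haveI : IsLocallyNoetherian (Curv2.bcCpl A f) := LocallyOfFiniteType.isLocallyNoetherian (Curv2.bcCplSnd A f)
  haveI : CompactSpace (Curv2.bcCpl A f) := QuasiCompact.compactSpace_of_compactSpace (Curv2.bcCplSnd A f)
  constructor
  · intro h y
    obtain ⟨y₀, hy₀, hs⟩ : ∃ y₀ : Curv2.bcCpl A f, IsClosed ({y₀} : Set _) ∧ y ⤳ y₀ := by
      obtain ⟨S, hne, hmin⟩ := IsClosed.exists_closed_singleton (isClosed_closure (s := ({y} : Set _)))
        ⟨y, subset_closure rfl⟩
      exact ⟨S, hmin, specializes_iff_mem_closure.2 hne⟩
    have hc : (Curv2.bcCplSnd A f).base y₀ = IsLocalRing.closedPoint (Curv2.cpl A) := by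
      have h1 := (Curv2.bcCplSnd A f).isClosedMap _ hy₀
      rw [Set.image_singleton] at h1
      exact PrimeSpectrum.ext (IsLocalRing.eq_maximalIdeal ((PrimeSpectrum.isClosed_singleton_iff_isMaximal _).1 h1))
    haveI := (Agent.S1598.result A X f y₀ hc).2 (h _)
    exact Agent.CAlgH.RegularGenerization.isRegularLocalRing_of_specializes hs
  · intro h x
    haveI : Flat (Spec.map (CommRingCat.ofHom c)) :=
      Flat.SpecMap_iff.2 (RingHom.flat_algebraMap_iff.2 (AdicCompletion.flat_of_isNoetherian _))
    haveI : Surjective (Spec.map (CommRingCat.ofHom c)) := ⟨by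
      haveI : Module.Flat A (Curv2.cpl A) := AdicCompletion.flat_of_isNoetherian _
      haveI : Module.FaithfullyFlat A (Curv2.cpl A) := Module.FaithfullyFlat.of_flat_of_isLocalHom
      exact PrimeSpectrum.comap_surjective_of_faithfullyFlat⟩
    haveI : Flat (Curv2.bcCplFst A f) := MorphismProperty.pullback_fst _ _ inferInstance
    haveI : Surjective (Curv2.bcCplFst A f) := MorphismProperty.pullback_fst _ _ inferInstance
    exact Agent.AlgSpLib.regular_stalks_of_flat_surjective (Curv2.bcCplFst A f) h x

end Groth.Agent.S1597
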