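import Groth.Statements.S7304
import Groth.Agent.Resolve13.RatExt
import Groth.Agent.SDiv28.BlowUp
import Groth.Agent.BlowUpLib.Proper
import Groth.Agent.BlowUpLib.Exists
import Groth.Agent.CAlgH3.BlowUpCd
import Groth.Agent.CAlgH.EtaleApprox
import Groth.Agent.Matlis6.CompletionNoetherian

set_option autoImplicit false
set_option backward.isDefEq.respectTransparency.types false
universe u
open CategoryTheory CategoryTheory.Limits AlgebraicGeometry
open Resolve

namespace Groth.Agent.S7304

/-- Let (A, m) be a Noetherian local ring with m-adic completion A^, and U ⊂ Spec A, U^ ⊂ Spec A^ the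
punctured spectra. If c : Y → Spec A^ is a U^-admissible blowing up (a blowing up in a
quasi-coherent ideal of finite type whose support misses U^), then there is a U-admissible blowing
up b : X → Spec A such that Y is isomorphic, over Spec A^, to the base change of X to Spec A^. -/
theorem result (A : Type u) [CommRing A] [IsLocalRing A] [IsNoetherianRing A]
    (Y : Scheme.{u}) (c : Y ⟶ Spec (CommRingCat.of (Curv2.cpl A)))
    (J : (Spec (CommRingCat.of (Curv2.cpl A))).IdealSheafData)
    (hJ : BlowUp.IsAdmissibleFor (FEt.puncturedSpec (Curv2.cpl A)) J) (hc : BlowUp.IsBlowUp c J) :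
    ∃ (I : (Spec (CommRingCat.of A)).IdealSheafData) (X : Scheme.{u}) (b : X ⟶ Spec (CommRingCat.of A)),
      BlowUp.IsAdmissibleFor (FEt.puncturedSpec A) I ∧ BlowUp.IsBlowUp b I ∧
      ∃ e : Y ≅ Curv2.bcCpl A b, e.hom ≫ Curv2.bcCplSnd A b = c := by
  let Ah := Curv2.cpl A
  let m := IsLocalRing.maximalIdeal A
  haveI : IsNoetherianRing Ah := Groth.Agent.Matlis6.isNoetherianRing_adicCompletion m
  haveI : Module.FaithfullyFlat A Ah := Module.FaithfullyFlat.of_flat_of_isLocalHom
  obtain ⟨J0, rfl⟩ := Groth.Agent.Resolve13.RatExt.exists_eq_idealSheaf J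
  have hrad : IsLocalRing.maximalIdeal Ah ≤ J0.radical := by
    rw [Ideal.radical_eq_sInf]
    refine le_sInf fun (P : Ideal Ah) hP => ?_
    by_contra hne
    haveI : P.IsPrime := hP.2
    let x : Spec (CommRingCat.of Ah) := ⟨P, hP.2⟩
    refine Set.disjoint_left.1 hJ.2 (show x ∈ _ from ?_) ?_
    · rw [Groth.Agent.CAlgH3.BlowUpCd.support_idealSheaf]; exact hP.1
    · intro h
      exact hne (le_of_eq (congrArg PrimeSpectrum.asIdeal (Set.mem_singleton_iff.1 h)).symm)
  obtain ⟨n, hn⟩ := Ideal.exists_pow_le_of_le_radical_of_fg hrad (IsLocalRing.maximalIdeal Ah).fg_of_isNoetherianRing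
  let I0 : Ideal A := J0.comap (algebraMap A Ah)
  have hmn : IsLocalRing.maximalIdeal Ah ^ n = (m ^ n).map (algebraMap A Ah) := by
    rw [AdicCompletion.maximalIdeal_eq_map, ← Ideal.map_pow]
  have hI0 : I0.map (algebraMap A Ah) = J0 := by
    refine le_antisymm Ideal.map_comap_le fun x hx => ?_
    obtain ⟨a, ha⟩ := Groth.Agent.CAlgH.EtaleApprox.exists_sub_mem A n x
    have ha' : algebraMap A Ah a ∈ J0 := by
      have := J0.sub_mem hx (hn ha)
      rwa [sub_sub_cancel] at this
    have hle : (m ^ n).map (algebraMap A Ah) ≤ I0.map (algebraMap A Ah) :=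
      Ideal.map_mono (Ideal.map_le_iff_le_comap.1 (hmn ▸ hn))
    have h1 := (I0.map (algebraMap A Ah)).add_mem (hle (hmn ▸ ha)) (Ideal.mem_map_of_mem (algebraMap A Ah) (show a ∈ I0 from ha'))
    rwa [sub_add_cancel] at h1
  let I := Curv2.idealSheaf A I0
  obtain ⟨X, b, hb⟩ := Groth.Agent.BlowUpLib.exists_isBlowUp I
  let s := Spec.map (CommRingCat.ofHom (algebraMap A Ah))
  haveI : Flat s := by
    rw [HasRingHomProperty.Spec_iff (P := @Flat)]
    exact RingHom.flat_algebraMap_iff.2 inferInstance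
  have hcomap : I.comap s = Curv2.idealSheaf Ah J0 := by
    have := Groth.Agent.Resolve13.RatExt.idealSheaf_comap_comp (algebraMap A Ah) (𝟙 _) I0
    rwa [Category.id_comp, hI0, Scheme.IdealSheafData.comap_id] at this
  refine ⟨I, X, b, ⟨fun U => ?_, ?_⟩, hb, ?_⟩
  · haveI : IsLocallyNoetherian (Spec (CommRingCat.of A)) := inferInstance
    haveI := IsLocallyNoetherian.component_noetherian (X := Spec (CommRingCat.of A)) U
    exact (I.ideal U).fg_of_isNoetherianRing
  · rw [Groth.Agent.CAlgH3.BlowUpCd.support_idealSheaf]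
    refine Set.disjoint_left.2 fun x hx hxU => hxU ?_
    refine Set.mem_singleton_iff.2 (PrimeSpectrum.ext ?_)
    have h1 : m ^ n ≤ x.asIdeal := (Ideal.map_le_iff_le_comap.1 (hmn ▸ hn)).trans hx
    exact ((IsLocalRing.maximalIdeal.isMaximal A).eq_of_le x.isPrime.ne_top (Ideal.IsPrime.le_of_pow_le h1)).symm
  have hblow := Groth.Agent.SDiv28.isBlowUp_flat_baseChange hb s
  rw [hcomap] at hblow
  obtain ⟨e, he⟩ := Groth.Agent.BlowUpLib.exists_iso_of_isBlowUp hc hblow
  refine ⟨e ≪≫ Limits.pullbackSymmetry s b, ?_⟩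
  show (e.hom ≫ (Limits.pullbackSymmetry s b).hom) ≫ Limits.pullback.snd b s = c
  rw [Category.assoc, Limits.pullbackSymmetry_hom_comp_snd, he]

end Groth.Agent.S7304
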