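import Groth.Statements.S7297
import Groth.Agent.Resolve13.Modification
import Groth.Agent.Coherent.BirationalFibre
import Groth.Agent.H8Lim.FibreDimVanish


set_option autoImplicit false
set_option backward.isDefEq.respectTransparency.types false
universe u
open CategoryTheory CategoryTheory.Limits AlgebraicGeometry
open Resolve

namespace Groth.Agent.S7297

/-- Let A be a local normal Nagata domain of dimension two defining a rational singularity, and f : X →
Spec A a proper morphism from an integral normal scheme which is an isomorphism over some nonempty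
open of Spec A. Then H^p(X, F) = 0 for every quasi-coherent O_X-module F and every p ≥ 2. -/
theorem result (A : Type u) [CommRing A] [IsDomain A] [IsLocalRing A] [IsNoetherianRing A]
    [IsIntegrallyClosed A] (hN : CAlg.IsNagata A) (hdim : ringKrullDim A = 2) (hA : Curv2.IsRationalSing A)
    (X : Scheme.{u}) (f : X ⟶ Spec (CommRingCat.of A)) [IsProper f] [IsIntegral X] (hXn : Pi1.IsNormalScheme X)
    (hbir : ∃ U : (Spec (CommRingCat.of A)).Opens, (U : Set (Spec (CommRingCat.of A))).Nonempty ∧ IsIso (f ∣_ U))
    (F : X.Modules) (hF : Coh.IsQCoh F) (p : ℕ) (hp : 2 ≤ p) : Subsingleton (Coh.HH X F p) := by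
  obtain ⟨U, hUne, hU⟩ := hbir
  obtain ⟨hξ, hb⟩ := Coherent.birational_of_isIso_morphismRestrict f U hUne
  have hA2 : ∀ y : Spec (CommRingCat.of A), ringKrullDim ((Spec (CommRingCat.of A)).presheaf.stalk y) ≤ 2 := by
    intro y
    letI : Algebra A ((Spec (CommRingCat.of A)).presheaf.stalk y) := StructureSheaf.stalkAlgebra A y
    haveI : IsLocalization.AtPrime ((Spec (CommRingCat.of A)).presheaf.stalk y) (y : PrimeSpectrum A).asIdeal :=
      StructureSheaf.IsLocalization.to_stalk A y
    rw [IsLocalization.AtPrime.ringKrullDim_eq_height (y : PrimeSpectrum A).asIdeal, ← hdim]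
    exact Ideal.height_le_ringKrullDim_of_ne_top ((y : PrimeSpectrum A).isPrime.ne_top)
  have hfib : ∀ y, topologicalKrullDim ↥(f.fiber y) ≤ ((1 : ℕ) : WithBot ℕ∞) := fun y =>
    Resolve13.Modification.fiber_dim_le_one f hξ hb hA2
      ((ringKrullDim_eq_zero_of_field (Spec (CommRingCat.of A)).functionField).le.trans zero_le_one) y
  exact H8Lim.subsingleton_HH_of_fibre_dim f 1 hfib F p hp

end Groth.Agent.S7297
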