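import Groth.Statements.S1632
import Groth.Agent.Resolve13.NormalSections
import Groth.Agent.S7302
import Groth.Agent.S1599
import Groth.Agent.S0548
import Groth.Agent.CAlgH.RegularGenerization
import Groth.Agent.CAlgH3.KummerRegular
import Groth.Agent.PicLib.FlatSections
import Groth.Agent.Coherent.Stein
import Groth.Agent.Models7.PointBlowUpIso

set_option autoImplicit false
set_option linter.style.haveILetI false
set_option backward.isDefEq.respectTransparency.types false
universe u
open CategoryTheory CategoryTheory.Limits AlgebraicGeometry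
open Resolve
open CategoryTheory.Limits TensorProduct

namespace Groth.Agent.S1632

/-- The base change of a regular scheme proper over a local ring to the completion is regular. -/
theorem isRegular_bcCpl (A : Type u) [CommRing A] [IsLocalRing A] [IsNoetherianRing A] {X : Scheme.{u}}
    (f : X ⟶ Spec (CommRingCat.of A)) [IsProper f]
    (hreg : ∀ x : X, IsRegularLocalRing (X.presheaf.stalk x)) (y : ↥(Curv2.bcCpl A f)) :
    IsRegularLocalRing ((Curv2.bcCpl A f).presheaf.stalk y) := by
  let Ah := Curv2.cpl A
  haveI : IsNoetherianRing Ah := Groth.Agent.Matlis6.isNoetherianRing_adicCompletion _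
  let Y := Curv2.bcCpl A f
  let g : Y ⟶ Spec (CommRingCat.of Ah) := Curv2.bcCplSnd A f
  haveI : IsProper g := MorphismProperty.of_isPullback (IsPullback.of_hasPullback f _) ‹IsProper f›
  haveI : IsLocallyNoetherian Y := LocallyOfFiniteType.isLocallyNoetherian g
  haveI : IsLocallyNoetherian X := LocallyOfFiniteType.isLocallyNoetherian f
  haveI : CompactSpace Y := QuasiCompact.compactSpace_of_compactSpace g
  obtain ⟨q, hqy, hqc⟩ : ∃ q, y ⤳ q ∧ IsClosed ({q} : Set Y) := by
    obtain ⟨q, hq, hqc⟩ :=
      IsClosed.exists_closed_singleton (isClosed_closure (s := ({y} : Set Y))) ⟨y, subset_closure rfl⟩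
    exact ⟨q, specializes_iff_mem_closure.2 hq, hqc⟩
  have hgq : g.base q = IsLocalRing.closedPoint Ah := by
    have h1 : IsClosed ({g.base q} : Set (Spec (CommRingCat.of Ah))) := by
      rw [← Set.image_singleton]; exact g.isClosedMap _ hqc
    exact PrimeSpectrum.ext (IsLocalRing.eq_maximalIdeal ((PrimeSpectrum.isClosed_singleton_iff_isMaximal _).1 h1))
  have hfq : f.base ((Curv2.bcCplFst A f).base q) = IsLocalRing.closedPoint A := by
    rw [← Scheme.Hom.comp_apply, show Curv2.bcCplFst A f ≫ f = g ≫ _ from pullback.condition,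
      Scheme.Hom.comp_apply, hgq]
    exact IsLocalRing.comap_closedPoint (algebraMap A Ah)
  obtain ⟨e⟩ := S7302.nonempty_cpl_equiv ((Curv2.bcCplFst A f).stalkMap q).hom fun n hn h =>
    S7305.result A (IsLocalRing.maximalIdeal A).fg_of_isNoetherianRing X f q hfq n hn h
  haveI : IsRegularLocalRing (Y.presheaf.stalk q) := by
    rw [Groth.Agent.S0548.result]
    have h0 := (Groth.Agent.S0548.result (X.presheaf.stalk ((Curv2.bcCplFst A f).base q))).1 (hreg _)
    exact IsRegularLocalRing.of_ringEquiv e
  exact CAlgH.RegularGenerization.isRegularLocalRing_of_specializes hqy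

set_option maxHeartbeats 1000000 in
/-- Let (A, m) be a Noetherian local domain such that Spec A admits an alteration X → Spec A with X
regular, and let B be the integral closure of A in its fraction field. Then the m-adic completion of
B is a normal ring. -/
theorem result (A : Type u) [CommRing A] [IsDomain A] [IsLocalRing A] [IsNoetherianRing A]
    (X : Scheme.{u}) (f : X ⟶ Spec (CommRingCat.of A)) (hf : Curv2.IsAlteration f)
    (hreg : ∀ x : X, IsRegularLocalRing (X.presheaf.stalk x)) :
    EGA4.IsNormalRing (AdicCompletion ((IsLocalRing.maximalIdeal A).map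
      (algebraMap A (integralClosure A (FractionRing A)))) (integralClosure A (FractionRing A))) := by
  obtain ⟨hfp, hXi, -, hfd, -⟩ := hf
  haveI := hfp
  haveI := hXi
  haveI := hfd
  haveI : IsLocallyNoetherian X := LocallyOfFiniteType.isLocallyNoetherian f
  haveI : CompactSpace X := QuasiCompact.compactSpace_of_compactSpace f
  haveI : QuasiSeparatedSpace X := quasiSeparatedSpace_of_quasiSeparated f
  have hXn : Pi1.IsNormalScheme X := Groth.Agent.Models7.isNormalScheme_of_regular hreg
  let C := Γ(X, ⊤)
  letI algC : Algebra A C := (Coh.toGlobal f).toAlgebra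
  haveI : Module.Finite A C := by
    refine RingHom.finite_algebraMap.1 ?_
    exact RingHom.Finite.comp (g := (f.app ⊤).hom) (Coherent.finite_app_of_isProper f (isAffineOpen_top _))
      (RingHom.Finite.of_surjective (Scheme.ΓSpecIso (CommRingCat.of A)).inv.hom
        (ConcreteCategory.bijective_of_isIso (Scheme.ΓSpecIso (CommRingCat.of A)).inv).2)
  let j : C →+* X.functionField := (X.presheaf.germ ⊤ (genericPoint X) trivial).hom
  haveI : Nonempty (⊤ : X.Opens) := ⟨⟨genericPoint X, trivial⟩⟩
  have hjinj : Function.Injective j := X.germToFunctionField_injective ⊤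
  have hη : f (genericPoint X) = genericPoint (Spec (CommRingCat.of A)) :=
    ((genericPoint_spec X).image f.continuous).eq (by
      rw [Set.image_univ, f.denseRange.closure_eq]; exact genericPoint_spec _)
  have hinjA : Function.Injective (algebraMap A C) := by
    intro a b h
    have h0 : ∀ r : A, f.appLE ⊤ ⊤ le_top ((Scheme.ΓSpecIso (CommRingCat.of A)).inv r) = algebraMap A C r := fun r => by
      simp [Scheme.Hom.appLE, RingHom.algebraMap_toAlgebra, Coh.toGlobal, algC, C]
    have h2 := Groth.Agent.Resolve13.appLE_injective f hη ⊤ trivial ⊤ trivial le_top ((h0 a).trans (h.trans (h0 b).symm))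
    exact (ConcreteCategory.bijective_of_isIso (Scheme.ΓSpecIso (CommRingCat.of A)).inv).1 h2
  let K := FractionRing A
  have hjA : Function.Injective (j.comp (algebraMap A C)) := hjinj.comp hinjA
  let θ : K →+* X.functionField := IsFractionRing.lift (g := j.comp (algebraMap A C)) hjA
  let B := integralClosure A K
  have hrange : ∀ b : B, ∃ c : C, j c = θ b.1 := fun b => by
    obtain ⟨q, hq, hq0⟩ := b.2
    refine Groth.Agent.Resolve13.mem_range_germ_of_integral hXn (O := ⊤) trivial (algebraMap A C) _ ⟨q, hq, ?_⟩
    show Polynomial.eval₂ (j.comp (algebraMap A C)) (θ b.1) q = 0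
    rw [show j.comp (algebraMap A C) = θ.comp (algebraMap A K) from
      (RingHom.ext fun a => (IsFractionRing.lift_algebraMap hjA a).symm), ← Polynomial.hom_eval₂, hq0, map_zero]
  choose ι hι using hrange
  let ιh : B →+* C :=
    { toFun := ι
      map_one' := hjinj (by rw [hι]; simp)
      map_mul' := fun a b => hjinj (by rw [map_mul, hι, hι, hι, ← map_mul]; rfl)
      map_zero' := hjinj (by rw [hι]; simp)
      map_add' := fun a b => hjinj (by rw [map_add, hι, hι, hι, ← map_add]; rfl) }
  letI : Algebra B C := ιh.toAlgebra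
  haveI : IsScalarTower A B C := IsScalarTower.of_algebraMap_eq fun a => hjinj (by
    show j (algebraMap A C a) = j (ι (algebraMap A B a))
    rw [hι]
    exact (IsFractionRing.lift_algebraMap (g := j.comp (algebraMap A C)) hjA a).symm)
  have hinj : Function.Injective (algebraMap B C) := fun a b h => Subtype.ext (θ.injective (by
    rw [← hι, ← hι]; exact congrArg j h))
  haveI : Module.Finite A B :=
    Module.Finite.of_injective (IsScalarTower.toAlgHom A B C).toLinearMap hinj
  have hB : EGA4.IsNormalRing B := by
    haveI : IsIntegrallyClosed B := Groth.Agent.NormalizationLib.isIntegrallyClosed_integralClosure A K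
    exact CAlgH.ExcellentNormal.isNormalRing_of_isIntegrallyClosed B
  refine S1599.result A B C hinj hB ?_
  obtain ⟨eC⟩ := CAlgH.NormalFinite.exists_map_completion_equiv A C
  refine CommAlg6.isNormalRing_of_ringEquiv eC.symm ?_
  -- the functions on the base change
  let Ah := Curv2.cpl A
  let s := Spec.map (CommRingCat.ofHom (algebraMap A Ah))
  haveI : IsNoetherianRing Ah := Groth.Agent.Matlis6.isNoetherianRing_adicCompletion _
  haveI : Flat s := by
    rw [HasRingHomProperty.Spec_iff (P := @Flat)]
    exact RingHom.flat_algebraMap_iff.2 (AdicCompletion.flat_of_isNoetherian _)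
  let Y := Curv2.bcCpl A f
  let g : Y ⟶ Spec (CommRingCat.of Ah) := Curv2.bcCplSnd A f
  haveI : IsProper g := MorphismProperty.of_isPullback (IsPullback.of_hasPullback f _) ‹IsProper f›
  haveI : IsLocallyNoetherian Y := LocallyOfFiniteType.isLocallyNoetherian g
  haveI : CompactSpace Y := QuasiCompact.compactSpace_of_compactSpace g
  haveI : AlgebraicGeometry.IsNoetherian Y := {}
  have hYn : Pi1.IsNormalScheme Y := fun y => by
    haveI := isRegular_bcCpl A f hreg y
    haveI hd := Groth.Agent.CAlgH3.isDomain_of_isRegularLocalRing (Y.presheaf.stalk y)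
    haveI := Groth.Agent.CAlgH3.ufm_of_regular (Y.presheaf.stalk y)
    exact ⟨hd, inferInstance⟩
  have H := IsPullback.of_hasPullback f s
  have hp := (isIso_pushoutSection_iff ..).1 (isIso_pushoutSection_of_isQuasiSeparated_of_flat_right H (US := ⊤)
    (UT := ⊤) (UX := ⊤) (UY := ⊤) (by simp) (by simp) (by simp) (isAffineOpen_top _) (isAffineOpen_top _)
    isCompact_univ isQuasiSeparated_univ)
  have hp2 : IsPushout (CommRingCat.ofHom (algebraMap A C)) (CommRingCat.ofHom (algebraMap A Ah))
      (CommRingCat.ofHom ((Curv2.bcCplFst A f).appLE ⊤ ⊤ le_top).hom)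
      ((Scheme.ΓSpecIso (CommRingCat.of Ah)).inv ≫ g.appLE ⊤ ⊤ le_top) := by
    refine hp.of_iso (Scheme.ΓSpecIso (CommRingCat.of A)) (Iso.refl _) (Scheme.ΓSpecIso (CommRingCat.of Ah))
      (Iso.refl _) ?_ ?_ ?_ ?_
    · rw [Iso.refl_hom, Category.comp_id, ← Iso.inv_comp_eq]
      simp [Scheme.Hom.appLE, Coh.toGlobal, RingHom.algebraMap_toAlgebra, algC]
    · rw [← Scheme.ΓSpecIso_naturality]
      simp [Scheme.Hom.appLE, s]
    · simp; rfl
    · rw [Iso.refl_hom, Category.comp_id, Iso.hom_inv_id_assoc]
  let e := ((CommRingCat.isPushout_tensorProduct A C Ah).isoPushout ≪≫ hp2.isoPushout.symm).commRingCatIsoToRingEquiv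
  exact CommAlg6.isNormalRing_of_ringEquiv e.symm (Groth.Agent.Resolve13.NormalSections.isNormalRing_top hYn)

end Groth.Agent.S1632
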