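import Groth.Statements.S3244
import Groth.Agent.HenselLib.KummerSheaf

set_option autoImplicit false
universe u
open CategoryTheory AlgebraicGeometry
open Dix

set_option backward.isDefEq.respectTransparency.types false
set_option backward.isDefEq.respectTransparency false

namespace Groth.Agent.S3244

theorem isUnit_natCast (X : Scheme.{u}) (n : ℕ) (hX : ∀ x : X, (n : X.residueField x) ≠ 0) :
    IsUnit (n : Γ(X, ⊤)) := by
  have h : X.basicOpen (n : Γ(X, ⊤)) = ⊤ := top_le_iff.1 fun x _ => by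
    rw [← Scheme.evaluation_ne_zero_iff_mem_basicOpen (X := X) (U := ⊤) x trivial, map_natCast]
    exact hX x
  have h0 := X.toRingedSpace.isUnit_res_basicOpen (n : Γ(X, ⊤))
  have h1 := h0.map (X.presheaf.map (homOfLE h.ge).op).hom
  refine (congrArg IsUnit ?_).mp h1
  refine (ConcreteCategory.comp_apply _ _ _).symm.trans ?_
  exact (ConcreteCategory.congr_hom (X.presheaf.map_comp _ _) _).symm.trans
    (ConcreteCategory.congr_hom (X.presheaf.map_id _) _)



/-- Kummer theory at finite level: let n > 0 be an integer invertible on the scheme X (nonzero in every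
residue field). Then for every i ≥ 1 the image of H^i(X_ét, μ_n) → H^i(X_ét, G_m), induced by the
inclusion μ_n → G_m, is exactly the subgroup of elements of H^i(X_ét, G_m) killed by n; in
particular H²(X_ét, μ_n) maps onto the n-torsion of the cohomological Brauer group H²(X_ét, G_m).
(The published statement gives exact sequences obtained as the colimit of these over the powers n =
ℓ^m of a prime ℓ.) -/
theorem result (X : Scheme.{u}) (n : ℕ) (hn : 0 < n) (hX : Dix.InvertibleOn X n) (i : ℕ) (hi : 1 ≤ i) : Set.range ⇑((EtCoh.HF X i).map (EtCoh.muι X n)) = {ξ : (EtCoh.HF X i).obj (EtCoh.Gm X) | n • ξ = 0} := by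
  haveI := HenselLib.Kummer.epi_powMap (S := X) n (isUnit_natCast X n hX)
  let S := ShortComplex.mk (EtCoh.muι X n) (EtCoh.powMap X n) (Limits.kernel.condition _)
  have hS : S.ShortExact :=
    { exact := ShortComplex.exact_of_f_is_kernel _ (Limits.kernelIsKernel (EtCoh.powMap X n))
      mono_f := inferInstanceAs (Mono (Limits.kernel.ι (EtCoh.powMap X n))) }
  let Z := EtCoh.const X ℤ
  have hn' : ∀ ξ : Abelian.Ext.{u + 1} Z S.X₂ i, ξ.comp (Abelian.Ext.mk₀ S.g) (add_zero i) = n • ξ := fun ξ => by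
    show ξ.comp (Abelian.Ext.mk₀ (n • 𝟙 (EtCoh.Gm X))) (add_zero i) = n • ξ
    have h : Abelian.Ext.mk₀ (n • 𝟙 (EtCoh.Gm X)) = n • Abelian.Ext.mk₀ (𝟙 (EtCoh.Gm X)) :=
      map_nsmul Abelian.Ext.addEquiv₀.symm n (𝟙 (EtCoh.Gm X))
    rw [h]
    show ((Abelian.Ext.bilinearComp Z S.X₂ S.X₂ i 0 i (add_zero i)) ξ) (n • Abelian.Ext.mk₀ (𝟙 (EtCoh.Gm X))) = n • ξ
    rw [map_nsmul]
    exact congrArg (n • ·) (Abelian.Ext.comp_mk₀_id ξ)
  ext ξ
  constructor
  · rintro ⟨x, rfl⟩
    refine (hn' _).symm.trans ?_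
    show (x.comp (Abelian.Ext.mk₀ S.f) (add_zero i)).comp (Abelian.Ext.mk₀ S.g) (add_zero i) = 0
    rw [Abelian.Ext.comp_assoc_of_third_deg_zero, Abelian.Ext.mk₀_comp_mk₀, S.zero, Abelian.Ext.mk₀_zero,
      Abelian.Ext.comp_zero]
  · intro hξ
    exact Abelian.Ext.covariant_sequence_exact₂ Z hS ξ ((hn' ξ).trans hξ)

end Groth.Agent.S3244
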