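import Groth.Statements.S7334
import Groth.Agent.Resolve13.TorsionH1
import Groth.Agent.Dual22Lib.RepLib
import Groth.Agent.Dual22Lib.ScalarD
import Groth.Agent.CommAlg4.GhostLift
import Groth.Agent.FlatBC14.Main
import Groth.Agent.DCat.PullPush
import Groth.Agent.Formal2Lib.SecU

set_option autoImplicit false
set_option backward.isDefEq.respectTransparency.types false
universe u
open CategoryTheory CategoryTheory.Limits CategoryTheory.Pretriangulated DerivedCategory AlgebraicGeometry
attribute [local instance] HasDerivedCategory.standard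
attribute [-instance] Int.instConditionallyCompleteLinearOrder
open Resolve

namespace Groth.Agent.S7334

open Groth.Agent.Resolve13 Groth.Agent.Coherent

/-- Let (A, m, κ) be a local Noetherian normal domain of dimension two which is Nagata, and f : X → Spec
A a proper morphism from an integral normal scheme which is an isomorphism over a nonempty open.
Then Hom(κ[-1], Rf_* O_X) = 0, computed in D(O_{Spec A}) with κ[-1] the shift of the quasi-coherent
module attached to κ. The published statement computes this group in D(A), identified with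
D_QCoh(O_{Spec A}); this row computes it in D(O_{Spec A}), which gives the same group because D_QCoh
is a full subcategory containing both objects. Existence of Rf_* on the unbounded derived category
and left exactness of M ↦ M~ are carried as instance hypotheses. -/
theorem result (A : Type u) [CommRing A] [IsDomain A] [IsLocalRing A] [IsNoetherianRing A]
    [IsIntegrallyClosed A] (hN : CAlg.IsNagata A) (hdim : ringKrullDim A = 2)
    (X : Scheme.{u}) (f : X ⟶ Spec (CommRingCat.of A)) [IsProper f] [IsIntegral X] (hXn : Pi1.IsNormalScheme X)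
    (hbir : ∃ U : (Spec (CommRingCat.of A)).Opens, (U : Set (Spec (CommRingCat.of A))).Nonempty ∧ IsIso (f ∣_ U))
    [PreservesFiniteLimits (tilde.functor (CommRingCat.of A))] [DCoh.HasRpush f] :
    Subsingleton ((((DCoh.tildeD (CommRingCat.of A)).obj (Dual.inD A (IsLocalRing.ResidueField A)))⟦(-1 : ℤ)⟧) ⟶
      (DCoh.Rpush f).obj (DCoh.inD X (Coh.structureModule X))) := by
  classical
  haveI : Ring.KrullDimLE 2 A := Ring.krullDimLE_iff.2 (le_of_eq (by rw [hdim]; rfl))
  obtain ⟨a, ham, ha⟩ : ∃ a ∈ IsLocalRing.maximalIdeal A, a ≠ 0 := by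
    refine Submodule.exists_mem_ne_zero_of_ne_bot fun h => ?_
    have h1 := ringKrullDim_eq_zero_of_isField (IsLocalRing.isField_iff_maximalIdeal_eq.2 h)
    rw [hdim] at h1
    norm_num at h1
  obtain ⟨P, D, θ, S, hne, hP, hall, hθ, hS⟩ := Torsion.exists_primes hN hdim ha ham
  have hγ : ∀ x : X, Torsion.γ f x a ≠ 0 := fun x h =>
    ha (Torsion.γ_injective f hbir x (h.trans (map_zero _).symm))
  have hsh := Torsion.seqA_shortExact f a hγ
  have hlift := fun G hG => Torsion.exists_lift f hbir hXn hdim ha P D θ S hP hall hθ hS hne (G := G) hG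
  -- sections of the quotient killed by the maximal ideal vanish
  have hsec : ∀ σ : Γ((Torsion.seqA f a).X₃, ⊤),
      (∀ r ∈ IsLocalRing.maximalIdeal A, (show Γ(X, ⊤) from Coh.toGlobal f r) • σ = 0) → σ = 0 := fun σ hσ => by
    obtain ⟨b, hb⟩ := Torsion.exists_char f hsh hlift σ
    have h1 : ∀ r ∈ IsLocalRing.maximalIdeal A, a ∣ r * b := fun r hr => by
      refine Torsion.dvd_of_forall_dvd f hbir hXn hdim ha (r * b) fun x => ?_
      obtain ⟨W, t, hx, ht⟩ := Torsion.exists_lift_at f hsh σ x
      let c : Γ(X, W) := X.presheaf.map (homOfLE (le_top : W ≤ ⊤)).op (Coh.toGlobal f r)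
      have h0 : (Torsion.seqA f a).g.app W (c • (t : Γ(Coh.structureModule X, W))) = 0 := by
        refine (Scheme.Modules.Hom.app_smul (Torsion.seqA f a).g c (t : Γ(Coh.structureModule X, W))).trans ?_
        rw [ht]
        refine Eq.trans (resM_smul _ (le_top : W ≤ ⊤) (show Γ(X, ⊤) from Coh.toGlobal f r) σ).symm ?_
        rw [hσ r hr, map_zero]
      obtain ⟨u, hu⟩ := sections_exact hsh _ h0
      have h2 := congrArg (fun s : Γ(X, W) => (X.presheaf.germ W x hx).hom s) hu
      simp only at h2
      rw [Torsion.germ_mulA] at h2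
      have h3 : Torsion.γ f x a ∣ Torsion.γ f x r * (X.presheaf.germ W x hx).hom t := by
        refine ⟨(X.presheaf.germ W x hx).hom u, ?_⟩
        rw [mul_comm (Torsion.γ f x a), h2]
        refine Eq.trans ?_ (map_mul (X.presheaf.germ W x hx).hom c t).symm
        exact congrArg (· * _) (TopCat.Presheaf.germ_res_apply X.presheaf (homOfLE (le_top : W ≤ ⊤)) x hx _).symm
      have h4 := hb W t ht x hx
      have h5 := dvd_sub (h3.mul_left (Torsion.γ f x (Torsion.S0 P S ^ ∑ q ∈ P.attach, (D q.1 q.2).V)))
        (h4.mul_left (Torsion.γ f x r))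
      rw [map_mul]
      convert h5 using 1
      ring
    refine Torsion.eq_zero_of_char f hsh hlift hb ?_
    have hF : algebraMap A (FractionRing A) a ≠ 0 := fun e =>
      ha (IsFractionRing.injective A (FractionRing A) (e.trans (map_zero _).symm))
    obtain ⟨c, hc⟩ := CAlgMisc2.mem_range_of_forall_height_one (algebraMap A (FractionRing A) b / algebraMap A _ a)
      fun p hpr hp => by
        have hpm : ¬ IsLocalRing.maximalIdeal A ≤ p := fun hle => by
          have e : p = IsLocalRing.maximalIdeal A := le_antisymm (IsLocalRing.le_maximalIdeal hpr.ne_top) hle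
          have := IsLocalRing.maximalIdeal_height_eq_ringKrullDim (R := A)
          rw [hdim, ← e, hp] at this
          exact absurd (WithBot.coe_inj.1 this) (by decide)
        obtain ⟨s, hs, hsp⟩ := SetLike.not_le_iff_exists.1 hpm
        obtain ⟨w, hw⟩ := h1 s hs
        refine ⟨w, s, hsp, ?_⟩
        rw [div_mul_eq_mul_div, div_eq_iff hF, ← map_mul, ← map_mul, mul_comm b, hw, mul_comm]
    rw [eq_div_iff hF, ← map_mul] at hc
    exact ⟨c, by rw [mul_comm]; exact (IsFractionRing.injective A _ hc).symm⟩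
  -- the derived category
  letI : X.Over (Spec (CommRingCat.of A)) := ⟨f⟩
  haveI : f.IsOver (Spec (CommRingCat.of A)) := ⟨by
    rw [show (Spec (CommRingCat.of A) ↘ Spec (CommRingCat.of A)) = 𝟙 _ from Spec.map_id _, Category.comp_id]; rfl⟩
  haveI : PreservesFiniteColimits (tilde.functor (CommRingCat.of A)) :=
    haveI : PreservesColimitsOfSize.{0, 0} (tilde.functor (CommRingCat.of A)) :=
      (tilde.adjunction (R := CommRingCat.of A)).leftAdjoint_preservesColimits
    PreservesColimitsOfSize.preservesFiniteColimits _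
  obtain ⟨cs, ht⟩ := DCat.exists_commShift_Rpush f
  let C := (DCoh.Rpush f).obj (DCoh.inD X (Coh.structureModule X))
  let T := (DCoh.Rpush f).mapTriangle.obj hsh.singleTriangle
  have hT : T ∈ distTriang _ := (DCoh.Rpush f).map_distinguished _ hsh.singleTriangle_distinguished
  let κ := ModuleCat.of A (IsLocalRing.ResidueField A)
  let K := (DCoh.tildeD (CommRingCat.of A)).obj (Dual.inD A (IsLocalRing.ResidueField A))
  let eK : K ≅ DCoh.inD _ ((tilde.functor (CommRingCat.of A)).obj κ) :=
    ((tilde.functor (CommRingCat.of A)).mapDerivedCategorySingleFunctor 0).app κ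
  have haκ : a • 𝟙 ((tilde.functor (CommRingCat.of A)).obj κ) = 0 := by
    have e1 : (tilde.functor (CommRingCat.of A)).map (a • 𝟙 κ) = a • 𝟙 _ := by
      refine Eq.trans ?_ ((Formal2Lib.SecU.map_smul_id (R := CommRingCat.of A) κ a).trans ?_)
      · rfl
      · rw [KLin.smul_id]
        refine congrArg (Formal.smulModΓ _) ?_
        show _ = ((Spec (CommRingCat.of A)) ↘ Spec (CommRingCat.of A)).appTop.hom
          ((Scheme.ΓSpecIso (CommRingCat.of A)).inv.hom a)
        rw [show (Spec (CommRingCat.of A) ↘ Spec (CommRingCat.of A)) = 𝟙 _ from Spec.map_id _, Scheme.Hom.id_appTop]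
        rfl
    rw [← e1, show a • 𝟙 κ = 0 from ModuleCat.hom_ext (LinearMap.ext fun x => ?_), Functor.map_zero]
    show a • x = 0
    rw [Algebra.smul_def, IsLocalRing.ResidueField.algebraMap_eq, (IsLocalRing.residue_eq_zero_iff a).2 ham, zero_mul]
  have haK : a • 𝟙 K = 0 := by
    rw [← cancel_mono eK.hom, zero_comp, Linear.smul_comp, Category.id_comp, ← Category.comp_id eK.hom,
      ← Linear.comp_smul]
    rw [show a • 𝟙 (DCoh.inD _ ((tilde.functor (CommRingCat.of A)).obj κ)) =
      (singleFunctor _ 0).map (a • 𝟙 ((tilde.functor (CommRingCat.of A)).obj κ)) by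
        rw [Functor.map_smul, CategoryTheory.Functor.map_id], haκ, Functor.map_zero, comp_zero]
  have hmor : T.mor₁ = a • 𝟙 C := by
    show (DCoh.Rpush f).map ((singleFunctor X.Modules 0).map (Torsion.mulA f a)) = _
    rw [show Torsion.mulA f a = a • 𝟙 (Coh.structureModule X) from ?_, Functor.map_smul,
      CategoryTheory.Functor.map_id, Dual22Lib.ScalarD.Rpush_map_smul_id]
    refine Scheme.Modules.hom_ext _ _ fun V => ConcreteCategory.hom_ext _ _ fun m => ?_
    refine (Torsion.mulA_app f a V m).trans (Eq.trans ?_ (KLin.smul_app_apply a (𝟙 _) V m).symm)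
    exact mul_comm (show Γ(X, V) from m) _
  refine ⟨fun φ₁ φ₂ => sub_eq_zero.1 ?_⟩
  generalize φ₁ - φ₂ = φ
  let φ' : K ⟶ C⟦(1 : ℤ)⟧ := (shiftFunctorCompIsoId (DCoh.D _) (-1 : ℤ) 1 (by omega)).inv.app K ≫ φ⟦(1 : ℤ)⟧'
  suffices hφ' : φ' = 0 by
    apply (shiftFunctor (DCoh.D _) (1 : ℤ)).map_injective
    rw [Functor.map_zero]
    exact (cancel_epi ((shiftFunctorCompIsoId (DCoh.D _) (-1 : ℤ) 1 (by omega)).inv.app K)).1
      (hφ'.trans comp_zero.symm)
  obtain ⟨ψ, hψ⟩ := Triangle.coyoneda_exact₁ T hT φ' (by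
    rw [hmor]
    show φ' ≫ (a • 𝟙 C)⟦(1 : ℤ)⟧' = 0
    rw [Functor.map_smul, CategoryTheory.Functor.map_id, Linear.comp_smul, Category.comp_id,
      ← Category.id_comp φ', ← Linear.smul_comp, haK, zero_comp])
  suffices h0 : ψ = 0 by exact hψ.trans (by rw [h0]; exact zero_comp)
  haveI : T.obj₃.IsGE 0 :=
    Dual22Lib.RepLib.isGE_Rpush f ((singleFunctor X.Modules 0).obj (Torsion.seqA f a).X₃) 0
  haveI : K.IsLE 0 := (DerivedCategory.TStructure.t).isLE_of_iso eK.symm 0
  refine CommAlg4.GhostLift.eq_zero_of_homology 0 ψ ?_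
  obtain ⟨e₁⟩ := FlatBC14.nonempty_homology_Rpush f (Torsion.seqA f a).X₃ 0
  let e₂ : (homologyFunctor _ 0).obj T.obj₃ ≅ (Scheme.Modules.pushforward f).obj (Torsion.seqA f a).X₃ :=
    e₁ ≪≫ (Scheme.Modules.pushforward f).rightDerivedZeroIsoSelf.app _
  let e₀ : (homologyFunctor _ 0).obj K ≅ (tilde.functor (CommRingCat.of A)).obj κ :=
    (homologyFunctor _ 0).mapIso eK ≪≫ (singleFunctorCompHomologyFunctorIso _ 0).app _
  suffices hg : ∀ g : (tilde.functor (CommRingCat.of A)).obj κ ⟶
      (Scheme.Modules.pushforward f).obj (Torsion.seqA f a).X₃, g = 0 by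
    rw [← cancel_epi e₀.inv, ← cancel_mono e₂.hom, Category.assoc, comp_zero, zero_comp]
    exact hg _
  intro g
  refine (map_eq_zero_iff ((tilde.adjunction (R := CommRingCat.of A)).homAddEquiv κ _)
    (AddEquiv.injective _)).1 (ModuleCat.hom_ext (LinearMap.ext fun x => ?_))
  generalize ((tilde.adjunction (R := CommRingCat.of A)).homAddEquiv κ _) g = h
  show h.hom x = 0
  refine hsec (h.hom x) fun r hr => ?_
  have hrx : r • x = 0 := by
    rw [Algebra.smul_def, IsLocalRing.ResidueField.algebraMap_eq, (IsLocalRing.residue_eq_zero_iff r).2 hr, zero_mul]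
  have h6 := h.hom.map_smul r x
  rw [hrx, map_zero] at h6
  refine Eq.trans ?_ h6.symm
  rfl

end Groth.Agent.S7334
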