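import Groth.Prelude.Def_W4c1hurwitzcptBd
import Mathlib

/-!
# Lattices in `k⟦x⟧` over `k⟦x ^ p⟧` have bases with distinct orders modulo `p`
-/

set_option autoImplicit false
set_option linter.unusedSectionVars false

universe u

namespace Groth.Agent.RootDiskLib

open PowerSeries W4c1hurwitzcpt

variable {k : Type u} [Field k] {p : ℕ} [NeZero p]

local notation "val" => (RootDisk.val (p := p) (k := k))

theorem val_smul (a : PowerSeries k) (f : RootDisk p k) :
    val (a • f) = PowerSeries.expand p (NeZero.ne p) a * val f := rfl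

theorem val_X_pow_smul (q : ℕ) (f : RootDisk p k) :
    val ((X ^ q : PowerSeries k) • f) = X ^ (p * q) * val f := by
  rw [val_smul, map_pow, PowerSeries.expand_X, ← pow_mul]

/-- The monomials of degree less than `p` span. -/
theorem span_monomials :
    Submodule.span (PowerSeries k) (Set.range fun j : Fin p => (val).symm (X ^ (j : ℕ))) = ⊤ := by
  refine eq_top_iff.2 fun f _ => ?_
  rw [Submodule.mem_span_range_iff_exists_fun]
  refine ⟨fun j => PowerSeries.mk fun i => coeff (p * i + j) (val f), (val).injective ?_⟩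
  rw [map_sum]
  ext n
  simp only [map_sum, val_smul, RingEquiv.apply_symm_apply, coeff_mul_X_pow', coeff_expand]
  have hp : 0 < p := Nat.pos_of_ne_zero (NeZero.ne p)
  let j₀ : Fin p := ⟨n % p, Nat.mod_lt _ hp⟩
  rw [Finset.sum_eq_single j₀]
  · have hle : (j₀ : ℕ) ≤ n := Nat.mod_le n p
    have hd : p ∣ n - (j₀ : ℕ) := Nat.dvd_sub_mod n
    rw [if_pos hle, if_pos hd, coeff_mk, Nat.mul_div_cancel' hd, Nat.sub_add_cancel hle]
  · intro j _ hj
    by_cases hle : (j : ℕ) ≤ n
    · rw [if_pos hle, if_neg]
      intro hd
      apply hj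
      refine Fin.ext ?_
      have hm : (j : ℕ) % p = n % p := (Nat.modEq_iff_dvd' hle).2 hd
      rw [Nat.mod_eq_of_lt j.2] at hm
      exact hm
    · rw [if_neg hle]
  · simp

/-- A free lattice of rank `p` has a basis with distinct orders modulo `p`. -/
theorem exists_basis (M : Submodule (PowerSeries k) (RootDisk p k))
    (bM : Module.Basis (Fin p) (PowerSeries k) M) :
    ∃ g : Module.Basis (Fin p) (PowerSeries k) M, ∀ i, (val ((g i : M) : RootDisk p k)).order.toNat % p = i := by
  classical
  have hp : 0 < p := Nat.pos_of_ne_zero (NeZero.ne p)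
  -- every element has a multiple in `M`
  have htor : ∀ f : RootDisk p k, ∃ N : ℕ, (X ^ N : PowerSeries k) • f ∈ M := by
    intro f
    obtain ⟨a, ha0, ha⟩ : ∃ a : PowerSeries k, a ≠ 0 ∧ a • f ∈ M := by
      by_contra hc
      push Not at hc
      let v : Option (Fin p) → RootDisk p k := fun o => o.casesOn f fun i => ((bM i : M) : RootDisk p k)
      have hli : LinearIndependent (PowerSeries k) v := by
        rw [Fintype.linearIndependent_iff]
        intro c hc0
        simp only [v, Fintype.sum_option] at hc0
        have hnone : c none = 0 := by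
          by_contra hne
          refine hc _ hne ?_
          rw [eq_neg_of_add_eq_zero_left hc0, ← Finset.sum_neg_distrib]
          exact M.sum_mem fun i _ => M.neg_mem (M.smul_mem _ (bM i).2)
        rw [hnone, zero_smul, zero_add] at hc0
        have := Fintype.linearIndependent_iff.1 bM.linearIndependent (fun i => c (some i))
          (Subtype.ext (by simpa using hc0))
        rintro (_ | i)
        · exact hnone
        · exact this i
      have hcard := linearIndependent_le_span v hli (Set.range fun j : Fin p => (val).symm (X ^ (j : ℕ))) span_monomials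
      rw [Cardinal.mk_fintype, Fintype.card_option, Fintype.card_fin] at hcard
      have h2 := (Nat.cast_le (α := Cardinal)).1 hcard
      have h3 := Fintype.card_range_le (fun j : Fin p => (val).symm (X ^ (j : ℕ)))
      rw [Fintype.card_fin] at h3
      omega
    obtain ⟨n, u, rfl⟩ :=
      IsDiscreteValuationRing.eq_unit_mul_pow_irreducible ha0 PowerSeries.X_prime.irreducible
    refine ⟨n, ?_⟩
    have := M.smul_mem ((u⁻¹ : (PowerSeries k)ˣ) : PowerSeries k) ha
    rwa [smul_smul, ← mul_assoc, Units.inv_mul, one_mul] at this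
  choose N₀ hN₀ using fun j : Fin p => htor ((val).symm (X ^ (j : ℕ)))
  let N := Finset.univ.sup N₀
  have hN : ∀ f : RootDisk p k, (X ^ N : PowerSeries k) • f ∈ M := fun f => by
    have hf : f ∈ Submodule.span (PowerSeries k) (Set.range fun j : Fin p => (val).symm (X ^ (j : ℕ))) :=
      by rw [span_monomials (k := k) (p := p)]; exact Submodule.mem_top
    induction hf using Submodule.span_induction with
    | mem x hx =>
      obtain ⟨j, rfl⟩ := hx
      obtain ⟨d, hd⟩ := Nat.exists_eq_add_of_le (Finset.le_sup (f := N₀) (Finset.mem_univ j))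
      show (X ^ N : PowerSeries k) • _ ∈ M
      rw [show N = d + N₀ j by omega, pow_add, ← smul_smul]
      exact M.smul_mem _ (hN₀ j)
    | zero => simp
    | add x y _ _ hx hy => rw [smul_add]; exact M.add_mem hx hy
    | smul a x _ hx => rw [smul_comm]; exact M.smul_mem _ hx
  -- minimal elements in each class
  have hex : ∀ j : Fin p, ∃ d : ℕ, ∃ m : M, (val (m : RootDisk p k)).order = (d : ℕ∞) ∧ d % p = j := fun j =>
    ⟨p * N + j, ⟨_, hN ((val).symm (X ^ (j : ℕ)))⟩,
      by rw [val_X_pow_smul, RingEquiv.apply_symm_apply, ← pow_add, order_X_pow],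
      by rw [Nat.mul_add_mod, Nat.mod_eq_of_lt j.2]⟩
  have hmin : ∀ j : Fin p, ∃ (d : ℕ) (m : M), (val (m : RootDisk p k)).order = d ∧ d % p = j ∧
      ∀ (n : ℕ) (m' : M), (val (m' : RootDisk p k)).order = n → n % p = j → d ≤ n := fun j => by
    obtain ⟨m, hm, hm'⟩ := Nat.find_spec (hex j)
    exact ⟨_, m, hm, hm', fun n m' h h' => Nat.find_le ⟨m', h, h'⟩⟩
  choose d g hg hgj hgmin using hmin
  let J : Ideal (PowerSeries k) := Ideal.span {X}
  let S : Submodule (PowerSeries k) M := Submodule.span (PowerSeries k) (Set.range g)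
  have hred : ∀ (e n : ℕ) (m : M), p * (N + 1) ≤ n + e → (∀ i < n, coeff i (val (m : RootDisk p k)) = 0) →
      m ∈ S ⊔ J • ⊤ := by
    intro e
    induction e with
    | zero =>
      intro n m hn hm
      obtain ⟨h, hh⟩ : X ^ (p * (N + 1)) ∣ val (m : RootDisk p k) :=
        X_pow_dvd_iff.2 fun i hi => hm i (by omega)
      have hm' : m = (X : PowerSeries k) • (⟨_, hN ((val).symm h)⟩ : M) := Subtype.ext ((val).injective (by
        rw [SetLike.val_smul, smul_smul, ← pow_succ', val_X_pow_smul, RingEquiv.apply_symm_apply, hh]))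
      rw [hm']
      exact Submodule.mem_sup_right (Submodule.smul_mem_smul (Ideal.mem_span_singleton_self _) Submodule.mem_top)
    | succ e ih =>
      intro n m hn hm
      by_cases hc : coeff n (val (m : RootDisk p k)) = 0
      · exact ih (n + 1) m (by omega) fun i hi =>
          (Nat.lt_succ_iff_lt_or_eq.1 hi).elim (hm i) fun h => h ▸ hc
      have hord : (val (m : RootDisk p k)).order = n := order_eq_nat.2 ⟨hc, hm⟩
      let j : Fin p := ⟨n % p, Nat.mod_lt _ hp⟩
      have hle := hgmin j n m hord rfl
      obtain ⟨q, hq⟩ : p ∣ n - d j := Nat.dvd_of_mod_eq_zero (Nat.sub_mod_eq_zero_of_mod_eq (hgj j).symm)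
      let c := coeff n (val (m : RootDisk p k)) / coeff (d j) (val (g j : RootDisk p k))
      let a : PowerSeries k := C c * X ^ q
      have hgd := order_eq_nat.1 (hg j)
      have hval : ∀ i, coeff i (val ((a • g j : M) : RootDisk p k)) =
          c * if p * q ≤ i then coeff (i - p * q) (val (g j : RootDisk p k)) else 0 := fun i => by
        rw [SetLike.val_smul, val_smul, show PowerSeries.expand p (NeZero.ne p) a = C c * X ^ (p * q) by
          rw [map_mul, map_pow, PowerSeries.expand_X, ← pow_mul]
          exact congrArg (· * _) (AlgHom.commutes _ c), mul_assoc, coeff_C_mul, coeff_X_pow_mul']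
      have hm2 : m - a • g j ∈ S ⊔ J • ⊤ := ih (n + 1) _ (by omega) fun i hi => by
        rw [Submodule.coe_sub, map_sub, map_sub, hval]
        rcases Nat.lt_succ_iff_lt_or_eq.1 hi with hi | rfl
        · rw [hm i hi]
          split_ifs with h
          · rw [hgd.2 _ (by omega)]; simp
          · simp
        · rw [if_pos (by omega), show i - p * q = d j by omega, div_mul_cancel₀ _ hgd.1, sub_self]
      rw [← sub_add_cancel m (a • g j)]
      exact Submodule.add_mem _ hm2 (Submodule.mem_sup_left (S.smul_mem _ (Submodule.subset_span ⟨j, rfl⟩)))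
  have hJ : J ≤ Ideal.jacobson ⊥ := by
    rw [IsLocalRing.jacobson_eq_maximalIdeal ⊥ bot_ne_top, PowerSeries.maximalIdeal_eq_span_X]
  haveI : Module.Finite (PowerSeries k) M := Module.Finite.of_basis bM
  have hS : ⊤ ≤ S := Submodule.le_of_le_smul_of_le_jacobson_bot Module.Finite.fg_top hJ
    fun m _ => hred (p * (N + 1)) 0 m (by omega) (fun i hi => absurd hi (Nat.not_lt_zero i))
  let b := basisOfTopLeSpanOfCardEqFinrank g hS
    (by rw [Fintype.card_fin, Module.finrank_eq_card_basis bM, Fintype.card_fin])
  refine ⟨b, fun i => ?_⟩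
  simp only [b, coe_basisOfTopLeSpanOfCardEqFinrank, hg, ENat.toNat_coe, hgj]

end Groth.Agent.RootDiskLib
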