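import Groth.Statements.S0800
import Groth.Agent.Coherent.HigherQcoh
import Groth.Agent.QcqsColim14.Basic


set_option autoImplicit false
universe u
open Coherent

set_option backward.isDefEq.respectTransparency false
set_option linter.style.haveILetI false
set_option maxHeartbeats 1000000

namespace Groth.Agent.S0800

open CategoryTheory CategoryTheory.Limits AlgebraicGeometry Opposite TopologicalSpace

variable {X S : Scheme.{u}}

/-- A map of presheaves bijective on affine opens is inverted by sheafification. -/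
theorem isIso_sheafify_of_affine {P Q : S.Opensᵒᵖ ⥤ AddCommGrpCat.{u}} (c : P ⟶ Q)
    (h : ∀ V : S.Opens, IsAffineOpen V → Function.Bijective (c.app (op V))) :
    IsIso ((presheafToSheaf (Opens.grothendieckTopology S) AddCommGrpCat.{u}).map c) := by
  refine ((Opens.grothendieckTopology S).W_iff c).1 ?_
  rw [GrothendieckTopology.W_iff_isLocallyBijective]
  refine ⟨⟨fun {U} x y hxy z hz => ?_⟩, ⟨fun {U} s z hz => ?_⟩⟩
  · obtain ⟨W, hW, hzW, hWU⟩ := Opens.isBasis_iff_nbhd.mp S.isBasis_affineOpens hz
    refine ⟨W, homOfLE hWU, (h W hW).1 ?_, hzW⟩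
    rw [NatTrans.naturality_apply, NatTrans.naturality_apply, hxy]
  · obtain ⟨W, hW, hzW, hWU⟩ := Opens.isBasis_iff_nbhd.mp S.isBasis_affineOpens hz
    exact ⟨W, homOfLE hWU, (h W hW).2 _, hzW⟩

theorem qcqsBasis (X : Scheme.{u}) : QcqsColim14.HasQcqsBasis X.toTopCat := fun V y hy => by
  obtain ⟨W, hW, hyW, hWV⟩ := Opens.isBasis_iff_nbhd.mp X.isBasis_affineOpens hy
  exact ⟨W, hW.isCompact, hW.isQuasiSeparated, hyW, hWV⟩

theorem preserves (f : X ⟶ S) [QuasiCompact f] [QuasiSeparated f] (p : ℕ) (J : Type u) [SmallCategory J]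
    [IsFiltered J] :
    PreservesColimitsOfShape J (Coh.RpushAb f p) := by
  let Q : Sheaf (Opens.grothendieckTopology X) AddCommGrpCat.{u} ⥤ S.Opensᵒᵖ ⥤ AddCommGrpCat.{u} :=
    Sheaf.cohomologyPresheafFunctor (Opens.grothendieckTopology X) p ⋙
      (Functor.whiskeringLeft _ _ AddCommGrpCat.{u}).obj (Opens.map f.base).op
  let L := presheafToSheaf (Opens.grothendieckTopology S) AddCommGrpCat.{u}
  suffices h : PreservesColimitsOfShape J (Q ⋙ L) from
    @preservesColimitsOfShape_of_natIso _ _ _ _ _ _ (Q ⋙ L) _ ((Functor.associator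
      (Sheaf.cohomologyPresheafFunctor (Opens.grothendieckTopology X) p)
      ((Functor.whiskeringLeft _ _ AddCommGrpCat.{u}).obj (Opens.map f.base).op) L) ≪≫
      (SiteCoh.rpushTopIso (X := X.toTopCat) (Y := S.toTopCat) f.base p).symm) h
  refine ⟨fun {K} => preservesColimit_of_preserves_colimit_cocone (colimit.isColimit K) ?_⟩
  let c : colimit (K ⋙ Q) ⟶ Q.obj (colimit K) := colimit.desc (K ⋙ Q) (Q.mapCocone (colimit.cocone K))
  have hc : IsIso (L.map c) := isIso_sheafify_of_affine c fun V hV => by
    haveI : PreservesColimitsOfShape J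
        (Q ⋙ (evaluation S.Opensᵒᵖ AddCommGrpCat.{u}).obj (op V)) :=
      (QcqsColim14.preservesFilteredColimits_HAt (T := X.toTopCat) (qcqsBasis X)
        (QuasiCompact.isCompact_preimage (f := f) (V : Set S) V.2 hV.isCompact)
        (f.isQuasiSeparated_preimage hV.isQuasiSeparated) J p :)
    let ev := (evaluation S.Opensᵒᵖ AddCommGrpCat.{u}).obj (op V)
    let h1 := isColimitOfPreserves ev (colimit.isColimit (K ⋙ Q))
    let h2 : IsColimit (ev.mapCocone (Q.mapCocone (colimit.cocone K))) :=
      IsColimit.ofIsoColimit (isColimitOfPreserves (Q ⋙ ev) (colimit.isColimit K))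
        (Cocone.ext (Iso.refl _) fun _ => rfl)
    have e : ev.map c = (h1.coconePointUniqueUpToIso h2).hom := h1.hom_ext fun j => by
      rw [h1.comp_coconePointUniqueUpToIso_hom]
      show ev.map ((colimit.cocone (K ⋙ Q)).ι.app j) ≫ ev.map c =
        ev.map (Q.map ((colimit.cocone K).ι.app j))
      rw [← Functor.map_comp]
      exact congrArg _ (colimit.ι_desc _ j)
    have : IsIso (ev.map c) := e ▸ inferInstance
    exact ConcreteCategory.bijective_of_isIso (ev.map c)
  exact IsColimit.ofIsoColimit (isColimitOfPreserves L (colimit.isColimit (K ⋙ Q)))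
    (Cocone.ext (@asIso _ _ _ _ (L.map c) hc) fun j => by
      show L.map ((colimit.cocone (K ⋙ Q)).ι.app j) ≫ L.map c =
        L.map (Q.map ((colimit.cocone K).ι.app j))
      rw [← Functor.map_comp]
      exact congrArg _ (colimit.ι_desc _ j))

end Groth.Agent.S0800

namespace Groth.Agent.S0800

open CategoryTheory CategoryTheory.Limits AlgebraicGeometry in
/-- Let f : X → S be quasi-compact and quasi-separated. Then for every p the higher direct image functor
R^p f_* on abelian sheaves (on the underlying spaces) preserves filtered colimits. -/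
theorem result {X S : Scheme.{u}} (f : X ⟶ S) [QuasiCompact f]
    [QuasiSeparated f] (p : ℕ) (J : Type u) [SmallCategory J] [IsFiltered J] :
    PreservesColimitsOfShape J (Coh.RpushAb f p) := by
  exact preserves f p J

end Groth.Agent.S0800
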