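import Groth.Statements.S0005
import Groth.Agent.FEtFF.PurityGlobal
import Groth.Agent.FEtFF.PurityRegular
-- import your own Groth.Agent.* helpers here

set_option backward.isDefEq.respectTransparency.types false
set_option backward.isDefEq.respectTransparency false
set_option autoImplicit false
universe u
open FEt

namespace Groth.Agent.S0005

open CategoryTheory AlgebraicGeometry in
/-- Purity for finite étale covers, global form: let X be a Noetherian scheme all of whose local rings
are regular and U ⊆ X an open subscheme such that every point of X outside U has local ring of Krull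
dimension at least 2. Then restriction of finite étale covers from X to U is an equivalence of
categories. -/
theorem result (X : Scheme.{u}) [IsNoetherian X]
    (hreg : ∀ x : X, IsRegularLocalRing (X.presheaf.stalk x)) (U : X.Opens)
    (hU : ∀ x : X, x ∉ U → (2 : WithBot ℕ∞) ≤ ringKrullDim (X.presheaf.stalk x)) :
    (FEt.restrict U.ι).IsEquivalence := by
  have hd : ∀ x : X, x ∉ U → 2 ≤ (IsLocalRing.maximalIdeal (X.presheaf.stalk x)).spanFinrank := fun x hx => by
    haveI := hreg x
    have h := hU x hx
    rw [← IsRegularLocalRing.spanFinrank_maximalIdeal] at h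
    exact_mod_cast h
  have hdep : ∀ x : X, x ∉ U → (2 : ℕ∞) ≤ LocCoh.depth (X.presheaf.stalk x) (X.presheaf.stalk x) := fun x hx => by
    haveI := hreg x
    rw [Groth.Agent.CAlgH3.depth_eq_spanFinrank]
    exact_mod_cast hd x hx
  have hff := Groth.Agent.FEtFF.Hartogs.restrict_full_faithful_of_depth U hdep
  haveI := hff.1
  haveI := hff.2
  haveI := Groth.Agent.FEtFF.PurityGlobal.essSurj_of_purityHolds U hdep fun x hx => by
    haveI := hreg x
    refine ⟨fun V => ?_⟩
    haveI : IsFinite V.hom := V.prop.1
    haveI : Etale V.hom := V.prop.2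
    obtain ⟨Y, y, hy, hy', i, hi⟩ :=
      Groth.Agent.FEtFF.Hypersurface.exists_extension_of_regular _ _ (hd x hx) rfl V.hom
    exact ⟨MorphismProperty.Over.mk ⊤ y ⟨hy, hy'⟩, ⟨MorphismProperty.Over.isoMk i hi⟩⟩
  exact {}

end Groth.Agent.S0005
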