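import Groth.Statements.S0011
import Groth.Agent.Coherent.SchemeCoh
import Groth.Agent.Coherent.ProjSpaceFinite
import Groth.Agent.Coherent.DevissageIdeal
import Groth.Agent.Coherent.AffinenessApps
-- import your own Groth.Agent.* helpers here

set_option autoImplicit false
universe u
open Coherent

namespace Groth.Agent.S0011

open CategoryTheory CategoryTheory.Limits AlgebraicGeometry TopologicalSpace Opposite Groth.Agent.Coherent

theorem isAffineHom_ι {X : Scheme.{u}} {U : X.Opens}
    (h : ∀ W : X.Opens, IsAffineOpen W → IsAffineOpen (U ⊓ W)) : IsAffineHom U.ι := by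
  refine ⟨fun W hW => ?_⟩
  rw [← U.ι.isAffineOpen_iff_of_isOpenImmersion, U.ι.image_preimage_eq_opensRange_inf, Scheme.Opens.opensRange_ι]
  exact h W hW

open AlgebraicGeometry CategoryTheory in

/-- On a quasi-compact scheme in which affine opens have affine intersections, every quasi-coherent
module admits a monomorphism into a quasi-coherent module whose cohomology vanishes in all positive
degrees. (Part (2), universality of the delta-functor, is not stated.) -/
theorem result (X : Scheme.{u}) [CompactSpace X]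
    (hd : ∀ V W : X.Opens, IsAffineOpen V → IsAffineOpen W → IsAffineOpen (V ⊓ W))
    (M : X.Modules) [Coh.IsQCoh M] :
    ∃ (M' : X.Modules) (i : M ⟶ M'), Mono i ∧ Coh.IsQCoh M' ∧
      ∀ p : ℕ, 0 < p → Subsingleton (Coh.HH X M' p) := by
  obtain ⟨n, V, hV, hcov⟩ : ∃ (n : ℕ) (V : Fin n → X.Opens), (∀ i, IsAffineOpen (V i)) ∧ ∀ x, ∃ i, x ∈ V i := by
    classical
    have hex : ∀ x : X, ∃ U : X.Opens, IsAffineOpen U ∧ x ∈ U := fun x => by
      obtain ⟨U, hU, hxU, -⟩ := exists_isAffineOpen_mem_and_subset (x := x) (U := ⊤) trivial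
      exact ⟨U, hU, hxU⟩
    choose U hU hxU using hex
    obtain ⟨t, ht⟩ := isCompact_univ.elim_finite_subcover (fun x => (U x : Set X)) (fun x => (U x).2)
      fun x _ => Set.mem_iUnion.2 ⟨x, hxU x⟩
    refine ⟨t.card, fun i => U (t.equivFin.symm i).1, fun i => hU _, fun x => ?_⟩
    obtain ⟨y, hy, hxy⟩ := Set.mem_iUnion₂.1 (ht (Set.mem_univ x))
    exact ⟨t.equivFin ⟨y, hy⟩, by simpa using hxy⟩
  haveI : ∀ i, IsAffineHom (V i).ι := fun i => isAffineHom_ι fun W hW => hd _ _ (hV i) hW
  haveI : ∀ i, IsAffine (V i).toScheme := fun i => hV i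
  haveI : ∀ i, Coh.IsQCoh (M.restrict (V i).ι) := fun i => inferInstance
  haveI := CategoryTheory.Abelian.hasFiniteBiproducts (C := X.Modules)
  let F : Fin n → X.Modules := fun i => (Coh.push (V i).ι).obj (M.restrict (V i).ι)
  let η : M ⟶ ⨁ F := biproduct.lift fun i => (Scheme.Modules.restrictAdjunction (V i).ι).unit.app M
  refine ⟨⨁ F, η, ?_, isQCoh_biproduct F fun i => isQCoh_push (V i).ι _, fun p hp => ?_⟩
  · refine mono_of_sections_injective η fun W => ?_
    intro a b hab
    refine TopCat.Sheaf.eq_of_locally_eq' (⟨M.presheaf, M.isSheaf⟩ : TopCat.Sheaf Ab X)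
      (fun i => (V i).ι ''ᵁ ((V i).ι ⁻¹ᵁ W)) W (fun i => homOfLE ((V i).ι.image_preimage_le W))
      (fun x hx => ?_) a b fun i => ?_
    · obtain ⟨i, hi⟩ := hcov x
      exact TopologicalSpace.Opens.mem_iSup.2 ⟨i, ⟨x, hi⟩, hx, rfl⟩
    · have h1 := congrArg ((biproduct.π F i).app W) hab
      rw [← CategoryTheory.comp_apply, ← CategoryTheory.comp_apply, ← Scheme.Modules.Hom.comp_app,
        biproduct.lift_π] at h1
      exact h1
  · have hi : ∀ i, Subsingleton (Sheaf.H' (Coh.toAb (F i)) p (⊤ : X.Opens)) := fun i => by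
      have := subsingleton_HH_of_isAffine (M.restrict (V i).ι) p hp
      have h2 : Subsingleton (Coh.HH X (F i) p) :=
        (HHAffinePushEquiv (V i).ι (M.restrict (V i).ι) p).symm.toEquiv.subsingleton
      exact (HHTopEquiv (F i) p).symm.toEquiv.subsingleton
    suffices Subsingleton (Sheaf.H' (Coh.toAb (⨁ F)) p (⊤ : X.Opens)) from
      (HHTopEquiv (⨁ F) p).toEquiv.subsingleton
    refine ⟨fun a b => ?_⟩
    suffices h' : ∀ x : Abelian.Ext (freeSh (X := X.toTopCat) (⊤ : X.Opens)) (Coh.toAb (⨁ F)) p, x = 0 from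
      (h' a).trans (h' b).symm
    intro x
    have hterm : ∀ i, postHM (biproduct.π F i ≫ biproduct.ι F i) p ⊤ x = 0 := fun i =>
      (postHM_comp (biproduct.π F i) (biproduct.ι F i) p ⊤ x).trans
        ((congrArg (postHM (biproduct.ι F i) p ⊤) ((hi i).elim _ 0)).trans (map_zero _))
    have hsum : ∀ s : Finset (Fin n), postHM (∑ i ∈ s, biproduct.π F i ≫ biproduct.ι F i) p ⊤ x = 0 :=
      fun s => by
      induction s using Finset.induction with
      | empty => rw [Finset.sum_empty]; exact postHM_zero p ⊤ x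
      | insert a s ha ih => rw [Finset.sum_insert ha, postHM_add, hterm, ih, add_zero]
    have := hsum Finset.univ
    rw [biproduct.total] at this
    exact (postHM_id (⨁ F) p ⊤ x).symm.trans this
end Groth.Agent.S0011
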