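import Groth.Statements.S0014
import Groth.Agent.Coherent.Affineness
import Groth.Agent.FlatMorStrat.Supported
-- import your own Groth.Agent.* helpers here

set_option autoImplicit false
universe u
open Coherent

namespace Groth.Agent.S0014

open AlgebraicGeometry CategoryTheory in
/-- If X is quasi-compact and quasi-separated and H^1 vanishes for every quasi-coherent submodule of
finite type of the structure sheaf, then X is affine. -/
theorem result (X : Scheme.{u}) [CompactSpace X]
    [QuasiSeparatedSpace X]
    (h : ∀ (I : X.Modules) (i : I ⟶ Coh.structureModule X), Mono i →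
      Coh.IsQCoh I → CohB1.IsFT I → Subsingleton (Coh.HH X I 1)) : IsAffine X := by
  refine Groth.Agent.Coherent.isAffine_of_H'_one fun J i hi hJ =>
    @Equiv.subsingleton _ _ (Groth.Agent.Coherent.HHTopEquiv J 1).toEquiv.symm ?_
  haveI := hJ
  refine subsingleton_of_forall_eq 0 fun x => ?_
  obtain ⟨P, y, rfl⟩ := Groth.Agent.FlatMorStrat.exists_goodSub_preimage (F := J) 1 x
  have hy : Subsingleton (Coh.HH X P.1.toMod 1) := h _ (P.1.toι ≫ i) inferInstance
    (Groth.Agent.Coherent.SubM.isQCoh P.2) (Groth.Agent.Coherent.SubM.isFT P.2)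
  rw [hy.elim y 0]
  exact map_zero _
end Groth.Agent.S0014
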