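import Groth.Statements.S0018
import Groth.Agent.Coherent.FinitePres

set_option autoImplicit false
universe u
open Coherent

namespace Groth.Agent.S0018

open AlgebraicGeometry in
/-- On a locally Noetherian scheme an O_X-module is quasi-coherent of finite type if and only if it is
of finite presentation. (Either condition is what 'coherent' means there.) -/
theorem result (X : Scheme.{u}) [IsLocallyNoetherian X] (M : X.Modules) :
    Coh.IsCoh M ↔ CohB1.IsFP M := by
  exact Groth.Agent.Coherent.isCoh_iff_isFP M

end Groth.Agent.S0018
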