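import Groth.Statements.S0021
import Groth.Agent.Coherent.Serre.AmpleCover

set_option autoImplicit false
universe u
open Coherent

namespace Groth.Agent.S0021

open CategoryTheory CategoryTheory.Limits AlgebraicGeometry TopologicalSpace in
theorem vanish {Y X : Scheme.{u}} (f : Y ⟶ X) [IsFinite f] [Surjective f] [IsAffine Y] [IsNoetherian X] :
    IsAffine X := by
  obtain ⟨d, hd⟩ := Groth.Agent.Coherent.exists_bound_subsingleton_H'_top (X := X)
  have hext : ∀ p, Groth.Agent.Coherent.ExtClass
      (fun F : X.Modules => Subsingleton (Sheaf.H' (Coh.toAb F) p (⊤ : X.Opens))) := fun p =>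
    { iso := fun e h => Groth.Agent.Coherent.subsingleton_H'_of_iso e p ⊤ h
      zero := fun M hM => subsingleton_of_forall_eq 0 fun x => by
        exact (CategoryTheory.Abelian.Ext.comp_mk₀_id x).symm.trans ((congrArg
          (fun ψ => CategoryTheory.Abelian.Ext.comp x (CategoryTheory.Abelian.Ext.mk₀ ψ) (add_zero p))
          ((IsZero.iff_id_eq_zero _).1
            (Functor.map_isZero (Groth.Agent.Coherent.toAbFunctor X) hM))).trans (by
          simp only [CategoryTheory.Abelian.Ext.mk₀_zero]
          exact CategoryTheory.Abelian.Ext.comp_zero x _ _ _ _))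
      ext := fun S hS _ _ _ h₁ h₃ => Groth.Agent.Coherent.subsingleton_H'_X₂ hS p ⊤ h₁ h₃ }
  have main : ∀ k p, 0 < p → d ≤ p + k → ∀ F : X.Modules, Coh.IsCoh F →
      Subsingleton (Sheaf.H' (Coh.toAb F) p (⊤ : X.Opens)) := by
    intro k
    induction k with
    | zero => exact fun p hp hdp F hF => hd F hF.1 p (by omega)
    | succ k ih =>
      intro p hp hdp F hF
      refine Groth.Agent.Coherent.mem_of_support (hext p) Set.univ
        (fun Z _ _ _ y hy Z₀ hZ₀ hsm => ?_) ⊤ (Set.subset_univ _) F hF (Set.subset_univ _)
      obtain ⟨z, rfl⟩ := f.surjective y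
      let g := (Groth.Agent.Coherent.Serre.closurePiece z).subschemeι
      have hred := Groth.Agent.Props12.isReduced_subscheme_vanishingIdeal (Y := Y)
        ⟨closure {z}, isClosed_closure⟩
      have hr : Set.range g = closure {z} := Groth.Agent.Coherent.Serre.range_closurePiece z
      refine Groth.Agent.Coherent.Serre.oneK_of_finite_push (hext p) ?_ hsm (g ≫ f) ?_ ?_ (hy ▸ hZ₀)
        fun M hM => ?_
      · intro E G π hπ hE hG h₂
        let S : ShortComplex X.Modules := ShortComplex.mk (kernel.ι π) π (kernel.condition π)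
        have hS : S.ShortExact := { exact := ShortComplex.exact_kernel π }
        exact Groth.Agent.Coherent.Serre.subsingleton_H'_X₃ hS p ⊤
          (ih (p + 1) p.succ_pos (by omega) (kernel π) (Groth.Agent.Coherent.isCoh_kernel π hE hG.1)) h₂
      · rintro _ ⟨w, rfl⟩
        rw [Scheme.Hom.comp_apply]
        have := image_closure_subset_closure_image f.continuous ⟨g w, hr.subset ⟨w, rfl⟩, rfl⟩
        rwa [Set.image_singleton] at this
      · obtain ⟨w, hw⟩ := hr.ge (subset_closure (Set.mem_singleton z))
        exact ⟨w, by rw [Scheme.Hom.comp_apply, hw]⟩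
      · have : IsAffine (Groth.Agent.Coherent.Serre.closurePiece z).subscheme := isAffine_of_isAffineHom g
        have := hM.1
        have h1 := Groth.Agent.Coherent.subsingleton_HH_of_isAffine M p hp
        refine (Groth.Agent.Coherent.Serre.subsingleton_H'_top_iff _ _).2 ?_
        exact @Equiv.subsingleton _ _
          (Groth.Agent.Coherent.HHAffinePushEquiv (g ≫ f) M p).toEquiv.symm h1
  refine Groth.Agent.Coherent.isAffine_of_H'_one fun J i _ hJ => ?_
  exact main d 1 one_pos (by omega) J
    (Groth.Agent.Coherent.isCoh_of_mono i (Groth.Agent.Coherent.isCoh_structureModule X) hJ)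

open AlgebraicGeometry in
/-- Let f : Y → X be finite and surjective with Y affine and X Noetherian. Then X is affine. -/
theorem result {Y X : Scheme.{u}} (f : Y ⟶ X) [IsFinite f]
    [Surjective f] [IsAffine Y] [IsNoetherian X] : IsAffine X := by
  exact vanish f

end Groth.Agent.S0021
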