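import Groth.Statements.S0029
import Groth.Agent.Coherent.AffinenessApps

set_option autoImplicit false
universe u
open Coherent

namespace Groth.Agent.S0029

open AlgebraicGeometry CategoryTheory in
/-- Let f : X → Y be a quasi-compact morphism between quasi-separated schemes. Suppose R^1 f_* I
vanishes for each quasi-coherent submodule I of O_X; then f is affine. -/
theorem result {X Y : Scheme.{u}} (f : X ⟶ Y) [QuasiCompact f]
    [QuasiSeparatedSpace X] [QuasiSeparatedSpace Y]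
    (h : ∀ (I : X.Modules) (i : I ⟶ Coh.structureModule X), Mono i → Coh.IsQCoh I →
      Limits.IsZero ((Coh.RpushAb f 1).obj (Coh.toAb I))) : IsAffineHom f := by
  refine ⟨fun V hV => ?_⟩
  have : CompactSpace (f ⁻¹ᵁ V : Scheme.{u}) :=
    isCompact_iff_compactSpace.mp (f.isCompact_preimage hV.isCompact)
  have : IsAffine (V : Scheme.{u}) := hV
  have : QuasiSeparatedSpace (f ⁻¹ᵁ V : Scheme.{u}) :=
    (f ⁻¹ᵁ V).ι.isOpenEmbedding.quasiSeparatedSpace
  have : QuasiCompact (f ⁻¹ᵁ V).ι :=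
    QuasiCompact.of_comp _ (Limits.terminal.from X)
  have := Groth.Agent.Coherent.hasInjectiveResolutions_modules X
  have := Groth.Agent.Coherent.hasInjectiveResolutions_modules (f ⁻¹ᵁ V : Scheme.{u})
  refine Groth.Agent.Coherent.isAffine_of_H'_one (X := (f ⁻¹ᵁ V : Scheme.{u})) fun J i hi hJ => ?_
  obtain ⟨I, ι, hι, hI, ⟨e⟩⟩ := Groth.Agent.Coherent.exists_extend_ideal (f ⁻¹ᵁ V).ι J i
  refine Groth.Agent.Coherent.subsingleton_H'_of_iso e 1 ⊤ ?_
  have hN : Limits.IsZero ((Coh.Rpush f 1).obj I) := by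
    have h0 : Limits.IsZero (Coh.toAb ((Coh.Rpush f 1).obj I)) :=
      (h I ι hι hI).of_iso (Groth.Agent.Coherent.toAbRpushIso f I 1)
    rw [Limits.IsZero.iff_id_eq_zero]
    exact (SheafOfModules.toSheaf Y.ringCatSheaf).map_injective (h0.eq_of_src _ _)
  have hZ : Limits.IsZero ((Coh.Rpush (f ∣_ V) 1).obj (I.restrict (f ⁻¹ᵁ V).ι)) :=
    ((Scheme.Modules.restrictFunctor V.ι).map_isZero hN).of_iso
      (Groth.Agent.Coherent.rpushRestrictIso f V I 1).symm
  have hbij := Groth.Agent.Coherent.toRpush_bijective (f ∣_ V) (I.restrict (f ⁻¹ᵁ V).ι) 1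
  refine ⟨fun a b => hbij.1 ?_⟩
  have hid := (Limits.IsZero.iff_id_eq_zero _).1 hZ
  have hz : ∀ c : Γ((Coh.Rpush (f ∣_ V) 1).obj (I.restrict (f ⁻¹ᵁ V).ι),
      (⊤ : (V : Scheme.{u}).Opens)), c = 0 := fun c =>
    congrArg (fun ψ : (Coh.Rpush (f ∣_ V) 1).obj (I.restrict (f ⁻¹ᵁ V).ι) ⟶
      (Coh.Rpush (f ∣_ V) 1).obj (I.restrict (f ⁻¹ᵁ V).ι) =>
      ψ.app (⊤ : (V : Scheme.{u}).Opens) c) hid
  exact (hz _).trans (hz _).symm

end Groth.Agent.S0029
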