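import Groth.Statements.S0031
import Groth.Agent.Coherent.RpushVanish

set_option autoImplicit false
universe u
open Coherent

namespace Groth.Agent.S0031

open AlgebraicGeometry CategoryTheory in
/-- If f : X → S is quasi-compact and quasi-separated and S is quasi-compact, there is an integer n with
R^p f_* F = 0 for all p ≥ n and all quasi-coherent F (higher direct images of the underlying abelian
sheaves). -/
theorem result {X S : Scheme.{u}} (f : X ⟶ S) [QuasiCompact f]
    [QuasiSeparated f] [CompactSpace S] :
    ∃ n : ℕ, ∀ (M : X.Modules), Coh.IsQCoh M → ∀ p : ℕ, n ≤ p →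
      Limits.IsZero ((Coh.RpushAb f p).obj (Coh.toAb M)) := by
  exact Groth.Agent.Coherent.exists_bound_isZero_rpushAb f

end Groth.Agent.S0031
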