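import Groth.Statements.S0032
import Groth.Agent.Coherent.RpushSections

set_option autoImplicit false
universe u
open Coherent

namespace Groth.Agent.S0032

open AlgebraicGeometry CategoryTheory Opposite in
/-- Let f : X → S be quasi-compact and quasi-separated with S affine, and F quasi-coherent on X. Then
H^q(X, F) is isomorphic to the global sections of R^q f_* F (higher direct image of the underlying
abelian sheaf), for every q. -/
theorem result {X S : Scheme.{u}} (f : X ⟶ S)
    [QuasiCompact f] [QuasiSeparated f] [IsAffine S] (M : X.Modules) [Coh.IsQCoh M] (q : ℕ) :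
    Nonempty (Coh.HH X M q ≃+ ↑(((Coh.RpushAb f q).obj (Coh.toAb M)).obj.obj (op ⊤))) := by
  have : CompactSpace X := QuasiCompact.compactSpace_of_compactSpace f
  have : QuasiSeparatedSpace X := quasiSeparatedSpace_of_quasiSeparated f
  exact ⟨Groth.Agent.Coherent.rpushAbTopEquiv f M q⟩

end Groth.Agent.S0032
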