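import Groth.Statements.S0049
import Groth.Agent.Coherent.DevissageApps

set_option autoImplicit false
universe u
open Coherent

namespace Groth.Agent.S0049

open AlgebraicGeometry CategoryTheory in
/-- On a Noetherian scheme, if the support of a coherent module F is the union of closed sets Z and Z',
there is a short exact sequence 0 → G' → F → G → 0 of coherent modules with G' supported in Z' and G
supported in Z. -/
theorem result (X : Scheme.{u}) [IsNoetherian X] (M : X.Modules) (hM : Coh.IsCoh M)
    (Z Z' : Set X) (hZ : IsClosed Z) (hZ' : IsClosed Z') (h : CohB1.support M = Z ∪ Z') :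
    ∃ S : ShortComplex X.Modules, S.ShortExact ∧ Nonempty (S.X₂ ≅ M) ∧ Coh.IsCoh S.X₁ ∧ Coh.IsCoh S.X₃ ∧
      CohB1.support S.X₁ ⊆ Z' ∧ CohB1.support S.X₃ ⊆ Z := by
  exact Groth.Agent.Coherent.exists_split_support M hM Z Z' hZ hZ' h

end Groth.Agent.S0049
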