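import Groth.Statements.S0052
import Groth.Agent.Coherent.Serre.AmpleCover

set_option autoImplicit false
universe u
open Coherent

namespace Groth.Agent.S0052

open AlgebraicGeometry CategoryTheory in
/-- Let R be Noetherian, f : Y → X a finite surjective morphism of schemes proper over Spec R, and L
invertible on X. Ampleness of L is equivalent to ampleness of its pullback along f. -/
theorem result (R : Type u) [CommRing R] [IsNoetherianRing R]
    {X Y : Scheme.{u}} (gX : X ⟶ Spec (CommRingCat.of R)) (gY : Y ⟶ Spec (CommRingCat.of R)) [IsProper gX]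
    [IsProper gY] (f : Y ⟶ X) (hf : f ≫ gX = gY) [IsFinite f] [Surjective f] (L : X.Modules)
    (hL : PicF.IsInvertible L) :
    CohB1.IsAmple L ↔ CohB1.IsAmple ((Scheme.Modules.pullback f).obj L) := by
  refine ⟨fun h => Groth.Agent.AmpleLib.isAmple_pullback_of_isAffineHom f h, fun h => ?_⟩
  refine Groth.Agent.Coherent.Serre.isAmple_of_covers R gX hL fun x => ?_
  obtain ⟨z, rfl⟩ := f.surjective x
  let g := (Groth.Agent.Coherent.Serre.closurePiece z).subschemeι
  have hred := Groth.Agent.Props12.isReduced_subscheme_vanishingIdeal (Y := Y)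
    ⟨closure {z}, isClosed_closure⟩
  have hr : Set.range g = closure {z} := Groth.Agent.Coherent.Serre.range_closurePiece z
  refine ⟨_, g ≫ f, hred, inferInstance, ?_, ?_,
    Groth.Agent.AmpleLib.isAmple_of_iso ((Scheme.Modules.pullbackComp g f).app L)
      (Groth.Agent.AmpleLib.isAmple_pullback_of_isAffineHom g h)⟩
  · rintro _ ⟨w, rfl⟩
    rw [Scheme.Hom.comp_apply]
    have := image_closure_subset_closure_image f.continuous
      ⟨g w, hr.subset ⟨w, rfl⟩, rfl⟩
    rwa [Set.image_singleton] at this
  · obtain ⟨w, hw⟩ := hr.ge (subset_closure (Set.mem_singleton z))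
    exact ⟨w, by rw [Scheme.Hom.comp_apply, hw]⟩

end Groth.Agent.S0052
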