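import Groth.Statements.S0061
import Groth.Agent.Coherent.Existence.EssSurj
import Groth.Agent.MorProj.VeryAmple
import Groth.Agent.Coherent.ProjSpaceFinite

set_option autoImplicit false
universe u
open Coherent

namespace Groth.Agent.S0061

open AlgebraicGeometry CategoryTheory in
/-- Grothendieck's existence Theorem in the projective case, essential-surjectivity half. Let A be a
Noetherian ring complete for an ideal I and X a closed subscheme of P^n_A, compatibly with the
structure maps to Spec A. Then every coherent formal module on X with respect to I
(`Formal.IsCohFormal`) is isomorphic to the completion system (M/I^nM)_n of some coherent O_X-module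
M. (Full faithfulness of completion is stated separately.) -/
theorem result (A : Type u) [CommRing A] [IsNoetherianRing A]
    (I : Ideal A) [IsAdicComplete I A] (n : ℕ) (X : Scheme.{u}) [X.Over (Spec (CommRingCat.of A))]
    (i : X ⟶ CohB1.ProjSpace n A) [IsClosedImmersion i]
    (hi : i ≫ CohB1.ProjSpace.toSpec n A = X ↘ Spec (CommRingCat.of A))
    (G : ℕᵒᵖ ⥤ X.Modules) (hG : Formal.IsCohFormal I G) :
    ∃ M : X.Modules, Coh.IsCoh M ∧ Nonempty (Formal.completion I M ≅ G) := by
  have : IsProper (X ↘ Spec (CommRingCat.of A)) := by
    rw [← hi]
    have := Groth.Agent.Coherent.isProper_projSpace_toSpec n A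
    infer_instance
  have : IsLocallyNoetherian X := LocallyOfFiniteType.isLocallyNoetherian (X ↘ Spec (CommRingCat.of A))
  classical
  have h1 : CohB1.IsAmple (GrTwist.twist (CohB1.polyGrading n A) 1) :=
    Groth.Agent.TwistLib.G.isAmple_twist_one (𝒜 := CohB1.polyGrading n A)
      (Finset.univ.image MvPolynomial.X) (by
        intro g hg
        obtain ⟨j, -, rfl⟩ := Finset.mem_image.1 hg
        exact MvPolynomial.isHomogeneous_X _ j)
      (by
        rw [Finset.coe_image, Finset.coe_univ, Set.image_univ]
        refine le_antisymm (Groth.Agent.ProjLib.irrelevant_le_span_X n _) (Ideal.span_le.2 ?_)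
        rintro _ ⟨j, rfl⟩
        exact HomogeneousIdeal.mem_irrelevant_of_mem (CohB1.polyGrading n _) Nat.one_pos
          (MvPolynomial.isHomogeneous_X _ j))
  exact Groth.Agent.Coherent.Existence.exists_algebraization I
    (Groth.Agent.AmpleLib.isAmple_pullback_of_isAffineHom i h1) hG

end Groth.Agent.S0061
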