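import Groth.Statements.S0075
import Groth.Agent.Et18.IntegralPush
import Groth.Agent.Et18.TopInvEquiv
import Groth.Agent.EtTopInv.Descend

set_option autoImplicit false
set_option linter.all false
set_option backward.isDefEq.respectTransparency.types false
set_option backward.isDefEq.respectTransparency false
open CategoryTheory CategoryTheory.Limits AlgebraicGeometry Opposite
universe u

namespace Groth.Agent.EtTopInv

variable {X Y : Scheme.{u}} (f : X ⟶ Y) [IsIntegralHom f] [UniversallyInjective f] [Surjective f]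

theorem exists_cover_nhd (W : X.Etale) (w : W.left) :
    ∃ (U : Y.Etale) (h : (EtCoh.bc f).obj U ⟶ W), w ∈ Set.range h.left := by
  let ξ := Et18.algPoint W.left w ≫ W.hom
  let w' : (Scheme.pointSmallEtale ξ).fiber.obj W := Over.homMk (Et18.algPoint W.left w) rfl
  have hinj : Function.Injective
      (pullback.fst (EtCoh.top Y).hom f : ((EtCoh.bc f).obj (EtCoh.top Y)).left ⟶ (EtCoh.top Y).left) :=
    haveI : UniversallyInjective (pullback.fst (EtCoh.top Y).hom f) :=
      MorphismProperty.pullback_fst _ _ inferInstance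
    Scheme.Hom.injective (pullback.fst (EtCoh.top Y).hom f)
  obtain ⟨V', -, p, h, -, hp⟩ := Et18.exists_bc_lift_of_integral ξ (EtCoh.top Y) hinj W
    ((EtCore.bcTopIsTerminal f).from W) w'
  refine ⟨V', h, ?_⟩
  let pl : Spec (CommRingCat.of _) ⟶ ((EtCoh.bc f).obj V').left := p.left
  have hc : pl ≫ h.left = Et18.algPoint W.left w := congrArg (fun q => q.left) hp
  exact ⟨pl default, by rw [← Scheme.Hom.comp_apply, hc, Et18.algPoint_default]⟩

end Groth.Agent.EtTopInv

namespace Groth.Agent.S0075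

/-- Topological invariance of the small étale site — base change along an integral, universally
injective, surjective morphism (a universal homeomorphism) is an equivalence between the categories
of étale schemes. -/
theorem result {X Y : Scheme.{u}} (f : X ⟶ Y) [IsIntegralHom f] [UniversallyInjective f]
    [Surjective f] : (EtCoh.bc f).IsEquivalence := by
  refine Et18.bc_isEquivalence_of_local_lift f fun W w => ?_
  obtain ⟨O₁, hO₁, hw₁, -⟩ := exists_isAffineOpen_mem_and_subset (U := ⊤) (x := w) trivial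
  haveI : IsAffine O₁.toScheme := hO₁
  let W₁ := Et18.etalePiece W O₁
  obtain ⟨U, h, hwh⟩ := EtTopInv.exists_cover_nhd f W₁ (⟨w, hw₁⟩ : O₁.toScheme)
  haveI : Etale h.left := Et18.etale_left h
  let O₂ : O₁.toScheme.Opens := ⟨Set.range h.left, h.left.isOpenMap.isOpen_range⟩
  let O : W.left.Opens := O₁.ι ''ᵁ O₂
  have hwO : w ∈ O := ⟨⟨w, hw₁⟩, hwh, rfl⟩
  refine ⟨O, hwO, ?_⟩
  let W₂ := Et18.etalePiece W₁ O₂
  haveI : Etale W₂.hom := W₂.prop
  haveI : Etale U.hom := U.prop
  -- `W₂` is separated over `X`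
  haveI : IsSeparated (O₂.ι ≫ terminal.from O₁.toScheme) := inferInstance
  haveI : IsSeparated W₂.hom := by
    have : IsSeparated (W₂.hom ≫ terminal.from X) := by
      rw [Subsingleton.elim (W₂.hom ≫ terminal.from X) (O₂.ι ≫ terminal.from O₁.toScheme)]
      infer_instance
    exact IsSeparated.of_comp W₂.hom (terminal.from X)
  let h₂ : (Over.pullback f).obj U.toComma ⟶ W₂.toComma :=
    Over.homMk (IsOpenImmersion.lift O₂.ι h.left (Scheme.Opens.range_ι O₂).ge) (by
      change _ ≫ O₂.ι ≫ W₁.hom = _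
      rw [IsOpenImmersion.lift_fac_assoc]
      exact Over.w h.hom)
  haveI : Surjective h₂.left := ⟨fun z => by
    obtain ⟨y, hy⟩ := (z.2 : (O₂.ι z) ∈ Set.range h.left)
    refine ⟨y, O₂.ι.isOpenEmbedding.injective ?_⟩
    exact (congrArg (fun k : _ ⟶ O₁.toScheme => k y) (IsOpenImmersion.lift_fac O₂.ι h.left _)).trans hy⟩
  obtain ⟨G, hG, ⟨e⟩⟩ := EtTopInv.exists_descent f U.toComma W₂.toComma h₂
  refine ⟨Scheme.Etale.mk G.hom, ?_⟩
  let a : (EtCoh.bc f).obj (Scheme.Etale.mk G.hom) ⟶ W :=
    MorphismProperty.Over.homMk e.hom.left (Over.w e.hom) ≫ Et18.etalePieceHom W₁ O₂ ≫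
      Et18.etalePieceHom W O₁
  haveI : IsIso e.hom.left := inferInstanceAs (IsIso ((Over.forget X).map e.hom))
  haveI : IsOpenImmersion a.left := inferInstanceAs (IsOpenImmersion (e.hom.left ≫ O₂.ι ≫ O₁.ι))
  obtain ⟨i⟩ := Et18.nonempty_iso_etalePiece a O (by
    change Set.range (e.hom.left ≫ O₂.ι ≫ O₁.ι) = _
    ext z
    constructor
    · rintro ⟨y, rfl⟩
      exact ⟨O₂.ι (e.hom.left y), (e.hom.left y).2, rfl⟩
    · rintro ⟨y, hy, rfl⟩
      obtain ⟨y', hy'⟩ := (Scheme.homeoOfIso (asIso e.hom.left)).surjective ⟨y, hy⟩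
      exact ⟨y', congrArg (fun q : O₂.toScheme => O₁.ι (O₂.ι q)) hy'⟩)
  exact ⟨i⟩

end Groth.Agent.S0075
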