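import Groth.Statements.S0076
import Groth.Agent.Et18.TopInvHom
-- import your own Groth.Agent.* helpers here

set_option autoImplicit false
open CategoryTheory CategoryTheory.Limits AlgebraicGeometry Opposite
universe u
open EtBase

namespace Groth.Agent.S0076

/-- For X étale over S and any S-scheme Y, base change along an integral, universally injective,
surjective S' → S gives a bijection between S-morphisms Y → X and S'-morphisms of the base changes. -/
theorem result {S S' : Scheme.{u}} (g : S' ⟶ S) [IsIntegralHom g] [UniversallyInjective g]
    [Surjective g] (X Y : Over S) [AlgebraicGeometry.Etale X.hom] :
    Function.Bijective (fun φ : Y ⟶ X => (Over.pullback g).map φ) := by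
  exact Et18.pullback_hom_bijective g X Y

end Groth.Agent.S0076
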