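import Groth.Statements.S0088
import Groth.Agent.EtZeroDim.Vanish

set_option autoImplicit false
open CategoryTheory CategoryTheory.Limits AlgebraicGeometry Opposite
universe u
open EtBase

namespace Groth.Agent.S0088

/-- On an affine scheme all of whose points are closed and all of whose residue fields are separably
closed, every abelian étale sheaf has vanishing cohomology in positive degrees. -/
theorem result (S : Scheme.{u}) [IsAffine S] (h1 : ∀ s : S, IsClosed ({s} : Set S))
    (h2 : ∀ s : S, IsSepClosed (S.residueField s)) (F : EtCoh.Ab S) (i : ℕ) (hi : 1 ≤ i) :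
    Subsingleton (EtCoh.H S F i) := by
  obtain ⟨n, rfl⟩ : ∃ n, i = n + 1 := ⟨i - 1, by omega⟩
  exact Groth.Agent.EtZeroDim.subsingleton_ext h1 h2 F n

end Groth.Agent.S0088
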