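import Groth.Statements.S0089
import Groth.Agent.HenselLib.SepClosedGeneric
import Groth.Agent.FlatMorWeight.Comp
import Mathlib.AlgebraicGeometry.Limits

set_option autoImplicit false
open CategoryTheory CategoryTheory.Limits AlgebraicGeometry Opposite
universe u
open EtBase

namespace Groth.Agent.S0089

/-- Part (1) — over an integral normal scheme whose function field is separably closed, any separated
étale scheme is a disjoint union of open subschemes of the base. -/
theorem result {U X : Scheme.{u}} [IsIntegral X] (hN : ∀ x : X, IsIntegrallyClosed (X.presheaf.stalk x))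
    [IsSepClosed X.functionField] (g : U ⟶ X) [AlgebraicGeometry.Etale g] [IsSeparated g] :
    ∃ (ι : Type u) (V : ι → X.Opens) (e : (∐ fun i => (V i : Scheme.{u})) ≅ U),
      ∀ i, Sigma.ι (fun i => (V i : Scheme.{u})) i ≫ e.hom ≫ g = (V i).ι := by
  have hres : IsSepClosed (X.residueField (genericPoint X)) := by
    haveI := hN (genericPoint X)
    exact Groth.Agent.SepClosed.isSepClosed_residueField (A := X.presheaf.stalk (genericPoint X)) X.functionField
  haveI := Groth.Agent.FlatMorWeight.locallyQuasiFinite_of_etale g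
  let η := genericPoint X
  have hη : ∀ x : X, η ⤳ x := genericPoint_specializes
  let S := {ξ : U // g ξ = η}
  have hmax : ∀ (s : S) (ζ : U), ζ ⤳ s.1 → ζ = s.1 := by
    intro s ζ hζ
    have hg : g ζ = η := by
      have h1 := hζ.map g.continuous
      rw [s.2] at h1
      exact (h1.antisymm (hη _)).eq
    haveI := (g.isDiscrete_preimage_singleton η).to_subtype
    have hsp : (⟨ζ, hg⟩ : g ⁻¹' {η}) ⤳ ⟨s.1, s.2⟩ :=
      (Topology.IsInducing.subtypeVal.specializes_iff (x := (⟨ζ, hg⟩ : g ⁻¹' {η})) (y := ⟨s.1, s.2⟩)).mp hζ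
    exact congrArg Subtype.val hsp.eq
  have hdom : ∀ u : U, IsDomain (U.presheaf.stalk u) := fun u =>
    haveI := hN (g.base u)
    ((Groth.Agent.Et18.normal_stalk_iff_of_etale g u).mpr ⟨inferInstance, hN _⟩).1
  have hex : ∀ u : U, ∃ s : S, s.1 ⤳ u := fun u => by
    obtain ⟨ξ, h1, h2⟩ := Flat.generalizingMap g (hη (g u))
    exact ⟨⟨ξ, h2⟩, h1⟩
  have huniq : ∀ (s t : S) (u : U), s.1 ⤳ u → t.1 ⤳ u → s = t := fun s t u h h' =>
    haveI := hdom u
    Subtype.ext (Groth.Agent.HenselLib.eq_of_specializes_of_isDomain_stalk u (hmax s) (hmax t) h h')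
  have hopen : ∀ s : S, IsOpen {u : U | s.1 ⤳ u} := by
    intro s
    rw [isOpen_iff_forall_mem_open]
    intro u hu
    obtain ⟨A, hA, hgu, -⟩ := exists_isAffineOpen_mem_and_subset (X := X) (x := g u) (U := ⊤) trivial
    obtain ⟨B, hB, huB, hBA0⟩ := exists_isAffineOpen_mem_and_subset (X := U) (x := u) (U := g ⁻¹ᵁ A) hgu
    have hBA : B ≤ g ⁻¹ᵁ A := hBA0
    haveI : QuasiCompact (g.resLE A B hBA) := by
      haveI : IsAffine (B : Scheme.{u}) := hB
      haveI : IsAffine (A : Scheme.{u}) := hA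
      infer_instance
    haveI : Finite {t : S // t.1 ∈ B} := by
      have hηA : η ∈ A := (hη (g u)).mem_open A.isOpen hgu
      haveI := ((g.resLE A B hBA).finite_preimage_singleton ⟨η, hηA⟩).to_subtype
      refine Finite.of_injective (β := (g.resLE A B hBA) ⁻¹' {⟨η, hηA⟩})
        (fun t => ⟨⟨t.1.1, t.2⟩, ?_⟩) ?_
      · apply Set.mem_singleton_iff.mpr
        apply Subtype.ext
        have : ((g.resLE A B hBA) ≫ A.ι) ⟨t.1.1, t.2⟩ = (B.ι ≫ g) ⟨t.1.1, t.2⟩ := by
          rw [Scheme.Hom.resLE_comp_ι]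
        exact this.trans t.1.2
      · intro a b hab
        apply Subtype.ext
        apply Subtype.ext
        exact congrArg (fun z : (g.resLE A B hBA) ⁻¹' {⟨η, hηA⟩} => z.1.1) hab
    refine ⟨(B : Set U) ∩ ⋂ t : {t : S // t.1 ∈ B}, {v | t.1 ≠ s → ¬ t.1.1 ⤳ v}, ?_, ?_, huB, ?_⟩
    · rintro v ⟨hvB, hv⟩
      obtain ⟨t, ht⟩ := hex v
      have htB : t.1 ∈ B := ht.mem_open B.isOpen hvB
      by_cases hts : t = s
      · exact hts ▸ ht
      · exact absurd ht (Set.mem_iInter.mp hv ⟨t, htB⟩ hts)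
    · refine B.isOpen.inter (isOpen_iInter_of_finite fun t => ?_)
      by_cases h : t.1 = s
      · simp [h]
      · have : {v | t.1 ≠ s → ¬ t.1.1 ⤳ v} = (closure {t.1.1})ᶜ := by
          ext v; simp [h, specializes_iff_mem_closure]
        rw [this]
        exact isClosed_closure.isOpen_compl
    · exact Set.mem_iInter.mpr fun t hts h => hts (huniq _ _ u h hu)
  let W : S → U.Opens := fun s => ⟨_, hopen s⟩
  have hW : ∀ s, IsOpenImmersion ((W s).ι ≫ g) := by
    intro s
    let ξ : (W s : Scheme.{u}) := ⟨s.1, specializes_rfl (x := s.1)⟩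
    have hgξ : ((W s).ι ≫ g) ξ = η := s.2
    haveI : IsSepClosed (X.residueField (((W s).ι ≫ g) ξ)) := by rw [hgξ]; exact hres
    refine Groth.Agent.HenselLib.isOpenImmersion_of_generic_fibre _ ξ ?_ ?_
      (Groth.Agent.HenselLib.residueFieldMap_bijective_of_isSepClosed _ _)
    · intro x; rw [hgξ]; exact hη x
    · intro ξ' hξ'
      apply (W s).ι.isOpenEmbedding.injective
      exact hmax s _ ((hmax ⟨(W s).ι ξ', hξ'.trans hgξ⟩ s.1 ξ'.2) ▸ specializes_rfl)
  haveI := hW
  have hc := nonempty_isColimit_cofanMk_of (S := U) (fun s : S => (W s).ι) ?_ ?_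
  · obtain ⟨hc⟩ := hc
    let V : S → X.Opens := fun s => ((W s).ι ≫ g).opensRange
    let e₁ : ∀ s, (V s : Scheme.{u}) ≅ (W s : Scheme.{u}) := fun s =>
      (Scheme.Hom.isoOpensRange ((W s).ι ≫ g)).symm
    refine ⟨S, V, Sigma.mapIso e₁ ≪≫ colimit.isoColimitCocone ⟨_, hc⟩, fun s => ?_⟩
    have h1 : Sigma.ι (fun i => (V i : Scheme.{u})) s ≫ (Sigma.mapIso e₁).hom = (e₁ s).hom ≫ Sigma.ι (fun i => (W i : Scheme.{u})) s := by
      simp [Sigma.mapIso]
    rw [Iso.trans_hom, Category.assoc, reassoc_of% h1]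
    erw [colimit.isoColimitCocone_ι_hom_assoc]
    exact Scheme.Hom.isoOpensRange_inv_comp ((W s).ι ≫ g)
  · rw [eq_top_iff]
    intro u _
    obtain ⟨t, ht⟩ := hex u
    exact TopologicalSpace.Opens.mem_iSup.mpr ⟨t, by rw [Scheme.Opens.opensRange_ι]; exact ht⟩
  · intro a b hab
    simp only [Function.onFun, Scheme.Opens.opensRange_ι]
    rw [disjoint_iff]
    ext u
    exact ⟨fun h => absurd (huniq a b u h.1 h.2) hab, fun h => h.elim⟩

end Groth.Agent.S0089
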