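import Groth.Statements.S0095
import Groth.Agent.EtConn.Apps
-- import your own Groth.Agent.* helpers here

set_option autoImplicit false
set_option backward.isDefEq.respectTransparency false
set_option backward.isDefEq.respectTransparency.types false
open CategoryTheory CategoryTheory.Limits AlgebraicGeometry Opposite
universe u
open EtBase

namespace Groth.Agent.S0095

/-- For a scheme over a separably closed field k and a field extension K of k, global sections of an
abelian étale sheaf do not change under base change to K (the source proves this for sheaves of
sets; the abelian case is stated). -/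
theorem result {k K : Type u} [Field k] [IsSepClosed k] [Field K] [Algebra k K]
    {S : Scheme.{u}} (a : S ⟶ Spec (CommRingCat.of k))
    [EtCoh.BCCont (pullback.fst a (Spec.map (CommRingCat.ofHom (algebraMap k K))))]
    (F : EtCoh.Ab S) :
    Function.Bijective (((EtCoh.pullPushAdj
      (pullback.fst a (Spec.map (CommRingCat.ofHom (algebraMap k K))))).unit.app F).hom.app
        (op (EtCoh.top S))) := by
  let q := Spec.map (CommRingCat.ofHom (algebraMap k K))
  let p := pullback.fst a q
  have sq : IsPullback (pullback.snd a q) p q a := (IsPullback.of_hasPullback a q).flip
  have : Surjective q := ⟨fun x => ⟨default, Subsingleton.elim (α := PrimeSpectrum k) _ _⟩⟩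
  have : Flat q := Et18.H0Lift.flat_to_field q
  have : ConnectedSpace ↥(Spec (CommRingCat.of K)) := inferInstanceAs (ConnectedSpace (PrimeSpectrum K))
  have hq : Et18.H0Lift.ConnFibres q := Et18.H0Lift.connFibres_to_sepClosed q
  have : Surjective p := inferInstanceAs (Surjective (pullback.fst a q))
  exact ⟨Et18.H0Lift.injective_unit_of_surjective F p.surjective _,
    Et18.H0Lift.surjective_unit_of_connFibres F (Et18.H0Lift.ConnFibres.isPullback hq sq) _⟩

end Groth.Agent.S0095
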