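import Groth.Statements.S0101
import Groth.Agent.Et18.Stalk

set_option autoImplicit false
open CategoryTheory CategoryTheory.Limits AlgebraicGeometry Opposite
universe u
open EtBase

namespace Groth.Agent.S0101

/-- Part (1) — pullback of abelian étale sheaves along a morphism of schemes is exact (it is a left
adjoint and preserves finite limits). -/
theorem result {X Y : Scheme.{u}} (f : X ⟶ Y) [EtCoh.BCCont f] :
    PreservesFiniteLimits (EtCoh.pull f) := by
  exact Groth.Agent.Et18.pull_preservesFiniteLimits f

end Groth.Agent.S0101
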