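import Groth.Statements.S0102
import Groth.Agent.Et18.SmallSiteBasics
-- import your own Groth.Agent.* helpers here

set_option autoImplicit false
open CategoryTheory CategoryTheory.Limits AlgebraicGeometry Opposite
universe u
open EtBase

namespace Groth.Agent.S0102

/-- A section of an abelian étale sheaf over an étale scheme U vanishes on pullback to an étale V → U
exactly when V maps into a certain largest open subset of U. -/
theorem result {S : Scheme.{u}} (F : EtCoh.Ab S) (U : S.Etale) (σ : EtCoh.sect F U) :
    ∃ W : U.left.Opens, ∀ (V : S.Etale) (φ : V ⟶ U),
      F.obj.map φ.op σ = 0 ↔ Set.range φ.left.base ⊆ (W : Set U.left) := by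
  exact Et18.exists_vanishing_locus F U σ

end Groth.Agent.S0102
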