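import Groth.Statements.S0105
import Groth.Agent.Et18.FLC
-- import your own Groth.Agent.* helpers here

set_option autoImplicit false
open CategoryTheory CategoryTheory.Limits AlgebraicGeometry Opposite
universe u
open EtBase

namespace Groth.Agent.S0105

/-- On a connected scheme X, a finite locally constant abelian sheaf F on the small étale site is, étale
locally, constant with one and the same finite group everywhere: there are a finite abelian group M
and an étale covering (U_i) of X such that the restriction of F to every U_i is isomorphic to the
constant sheaf with value M. (The published statement covers arbitrary locally constant sheaves of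
modules; stated here for finite locally constant abelian sheaves.) -/
theorem result {X : Scheme.{u}} [ConnectedSpace X] (F : EtCoh.Ab X) (h : EtCoh.IsFiniteLocallyConstant F) :
    ∃ (M : Type) (_ : AddCommGroup M) (_ : Finite M) (ι : Type u) (U : ι → X.Etale), EtCoh.Covers U ∧
      ∀ i, Nonempty (EtCoh.restr F (U i) ≅
        (constantSheaf (X.smallEtaleTopology.over (U i)) AddCommGrpCat.{u + 1}).obj
          (AddCommGrpCat.of (ULift.{u + 1} M))) := by
  obtain ⟨A, hA, hloc⟩ := Groth.Agent.Et18.exists_single_group h
  obtain ⟨M, _, _, ⟨e⟩⟩ := Groth.Agent.Et18.addCommGrp_exists_small A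
  choose U y hy hU using hloc
  refine ⟨M, inferInstance, inferInstance, X, U, fun x => ⟨x, y x, hy x⟩, fun x => ?_⟩
  exact (Groth.Agent.Et18.nonempty_restr_iso_const_iff (U x) F _).mpr
    ⟨(hU x).some ≪≫ (Groth.Agent.Et18.cst _).mapIso e⟩

end Groth.Agent.S0105
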