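import Groth.Statements.S0116
import Groth.Agent.AlgSpLib.NoethSource
-- import your own Groth.Agent.* helpers here

set_option autoImplicit false
open CategoryTheory CategoryTheory.Limits AlgebraicGeometry Opposite
universe u
open EtBase

namespace Groth.Agent.S0116

/-- If f : X → Y is surjective, flat and locally of finite presentation and X is locally Noetherian,
then Y is locally Noetherian. (This is the descent half of the statement that, for such f, X is
locally Noetherian if and only if Y is; the ascent half is the fact that a scheme locally of finite
type over a locally Noetherian scheme is locally Noetherian, and is not stated here.) -/
theorem result {X Y : Scheme.{u}} (f : X ⟶ Y) [Surjective f] [Flat f] [LocallyOfFinitePresentation f]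
    [IsLocallyNoetherian X] : IsLocallyNoetherian Y := by
  exact Groth.Agent.AlgSpLib.isLocallyNoetherian_of_surjective f

end Groth.Agent.S0116
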