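import Groth.Statements.S0127
import Groth.Agent.Et18.Strata
-- import your own Groth.Agent.* helpers here

set_option autoImplicit false
universe u
open CategoryTheory CategoryTheory.Limits AlgebraicGeometry Opposite
open EtPBC

namespace Groth.Agent.S0127

/-- Abelian case: if F is a constructible abelian sheaf on Y_et and f : X -> Y is any morphism of
schemes, then f^* F is constructible on X_et. -/
theorem result {X Y : Scheme.{u}} (f : X ⟶ Y) [EtCoh.BCCont f]
    (F : EtCoh.Ab Y) (hF : EtPBC.IsConstructible F) :
    EtPBC.IsConstructible ((EtCoh.pull f).obj F) := by
  exact Groth.Agent.Et18.isConstructible_pull f hF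

end Groth.Agent.S0127
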