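import Groth.Statements.S0128
import Groth.Agent.Et18.Strata
-- import your own Groth.Agent.* helpers here

set_option autoImplicit false
universe u
open CategoryTheory CategoryTheory.Limits AlgebraicGeometry Opposite
open EtPBC

namespace Groth.Agent.S0128

/-- (1) iff (3), abelian case: for X quasi-compact and quasi-separated, F is constructible iff X itself
admits a finite partition into constructible locally closed strata along which F becomes finite
locally constant. -/
theorem result (X : Scheme.{u}) [CompactSpace X] [QuasiSeparatedSpace X]
    (F : EtCoh.Ab X) :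
    EtPBC.IsConstructible F ↔ EtPBC.AdaptedStrata F (Set.univ : Set X) := by
  rw [Groth.Agent.Et18.isConstructible_iff_stratified]
  haveI : CompactSpace (⊤ : X.Opens).toScheme := isCompact_iff_compactSpace.mp (show IsCompact ((⊤ : X.Opens) : Set X) from isCompact_univ)
  haveI : QuasiSeparatedSpace (⊤ : X.Opens).toScheme := quasiSeparatedSpace_of_quasiSeparated (⊤ : X.Opens).ι
  have h := Groth.Agent.Et18.adaptedStrata_iff F (⊤ : X.Opens)
  simp only [TopologicalSpace.Opens.coe_top] at h
  rw [h]
  refine ⟨fun hs => hs.pull _, fun hs => ?_⟩
  have h1 := hs.image (⊤ : X.Opens).ι (Groth.Agent.Et18.isLocallyConstructible_range_opens _ isCompact_univ)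
  rw [Set.image_univ, Scheme.Opens.range_ι] at h1
  exact h1

end Groth.Agent.S0128
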