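import Groth.Statements.S0129
import Groth.Agent.Et18.Strata
-- import your own Groth.Agent.* helpers here

set_option autoImplicit false
universe u
open CategoryTheory CategoryTheory.Limits AlgebraicGeometry Opposite
open EtPBC

namespace Groth.Agent.S0129

/-- Abelian case: if X is covered by opens U_i and the restriction of F to each U_i is constructible,
then F is constructible. -/
theorem result {X : Scheme.{u}} (F : EtCoh.Ab X) {ι : Type u} (U : ι → X.Opens)
    (hU : ⨆ i, U i = ⊤) [∀ i, EtCoh.BCCont (U i).ι]
    (h : ∀ i, EtPBC.IsConstructible ((EtCoh.pull (U i).ι).obj F)) :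
    EtPBC.IsConstructible F := by
  refine Groth.Agent.Et18.isConstructible_of_cover U (fun x => ?_) h
  exact TopologicalSpace.Opens.mem_iSup.mp (hU ▸ TopologicalSpace.Opens.mem_top x)

end Groth.Agent.S0129
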