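import Groth.Statements.S0133
import Groth.Agent.Et18.ExtZeroGeneral
-- import your own Groth.Agent.* helpers here

set_option autoImplicit false
universe u
open CategoryTheory CategoryTheory.Limits AlgebraicGeometry Opposite
open EtPBC

namespace Groth.Agent.S0133

/-- (2): for j : U -> X etale with U and X quasi-compact and quasi-separated and M a finite abelian
group, j_! M is a constructible abelian sheaf on X_et. -/
theorem result (X : Scheme.{u}) [CompactSpace X] [QuasiSeparatedSpace X]
    (U : X.Etale) [CompactSpace U.left] [QuasiSeparatedSpace U.left]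
    (M : Type) [AddCommGroup M] [Finite M] :
    EtPBC.IsConstructible (EtPBC.extZeroConst U M) := by
  haveI : Etale U.hom := U.prop
  haveI : EtShriek.JCont U.hom := Groth.Agent.Et18.jCont U.hom
  obtain ⟨e⟩ := Groth.Agent.Et18.nonempty_extZeroConst_iso U M
  have h := @Groth.Agent.Et18.isConstructible_extZero U.left X U.hom _ _ ‹CompactSpace U.left› ‹QuasiSeparatedSpace U.left› _ _
    (Groth.Agent.Et18.isConstructible_of_isFLC
      (Groth.Agent.Et18.isFLC_cst (X := U.left) (AddCommGrpCat.of (ULift.{u + 1} M))))
  rw [Groth.Agent.Et18.isConstructible_iff_affine] at h ⊢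
  exact fun O hO => (h O hO).of_iso ((EtCoh.pull O.ι).mapIso e.symm)

end Groth.Agent.S0133
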