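import Groth.Statements.S0138
import Groth.Agent.Et18.Presentation
-- import your own Groth.Agent.* helpers here

set_option autoImplicit false
universe u
open CategoryTheory CategoryTheory.Limits AlgebraicGeometry Opposite
open EtPBC

namespace Groth.Agent.S0138

/-- For Lambda = Z/n: on a quasi-compact quasi-separated X, a constructible abelian sheaf killed by n >
0 (that is, a constructible sheaf of Z/n-modules) is isomorphic to the cokernel of a map between
finite direct sums of sheaves j_{U!} Z/n with U affine and etale over X. (The source also proves the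
converse; we state the presentation direction.) -/
theorem result (X : Scheme.{u}) [CompactSpace X] [QuasiSeparatedSpace X]
    (n : ℕ) (hn : 0 < n) (F : EtCoh.Ab X) (hF : EtPBC.IsConstructible F) (hFn : EtCoh.KilledBy n F) :
    ∃ (a b : ℕ) (V : Fin a → X.Etale) (U : Fin b → X.Etale) (_ : ∀ j, IsAffine (V j).left)
      (_ : ∀ i, IsAffine (U i).left)
      (φ : (⨁ fun j => EtPBC.extZeroConst (V j) (ZMod n)) ⟶ ⨁ fun i => EtPBC.extZeroConst (U i) (ZMod n)),
      Nonempty (F ≅ cokernel φ) := by
  have hF0 := Groth.Agent.Et18.nsmul_id_of_killedBy hFn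
  obtain ⟨a, d, b, e, h⟩ := Groth.Agent.Et18.exists_presentation (fun m => m = n) hF
    (fun x t => ⟨n, hn, rfl, Groth.Agent.Et18.nsmul_stalk_eq_zero hF0 _ t⟩)
    (fun a d x t => by
      refine ⟨n, hn, rfl, Groth.Agent.Et18.nsmul_stalk_eq_zero ?_ _ t⟩
      rw [← cancel_mono (kernel.ι (biproduct.desc fun i => (d i).hom)), Preadditive.nsmul_comp, zero_comp,
        Category.id_comp, ← Category.comp_id (kernel.ι _), ← Preadditive.comp_nsmul]
      refine (congrArg (fun z => kernel.ι _ ≫ z) (biproduct.hom_ext' _ 0 fun i => ?_)).trans comp_zero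
      rw [Preadditive.comp_nsmul, Category.comp_id, comp_zero, ← Category.id_comp (biproduct.ι _ i),
        ← Preadditive.nsmul_comp]
      have hp : (d i).n = n := (d i).prop
      exact (congrArg (fun z => z ≫ _) (show n • 𝟙 _ = 0 from (congrArg (fun q => q • 𝟙 (EtPBC.extZeroConst (d i).W (ZMod (d i).n))) hp.symm).trans
        (Groth.Agent.Et18.nsmul_id_extZeroConst (d i).W (d i).n))).trans zero_comp)
  have key : ∀ (c : ℕ) (G : EtCoh.Ab X) (D : Fin c → Groth.Agent.Et18.SectData (fun m => m = n) G),
      Nonempty ((⨁ fun i => EtPBC.extZeroConst (D i).W (ZMod (D i).n)) ≅ ⨁ fun i => EtPBC.extZeroConst (D i).W (ZMod n)) :=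
    fun c G D => ⟨biproduct.mapIso fun i => eqToIso (by
      generalize hm : (D i).n = m
      obtain rfl : m = n := hm.symm.trans (D i).prop
      rfl)⟩
  obtain ⟨i₁⟩ := key b _ e
  obtain ⟨i₂⟩ := key a _ d
  exact ⟨b, a, fun j => (e j).W, fun i => (d i).W, fun j => (e j).isAffine, fun i => (d i).isAffine,
    i₁.inv ≫ _ ≫ i₂.hom, ⟨h.some ≪≫ cokernel.mapIso _ _ i₁ i₂ (i₁.hom_inv_id_assoc _).symm⟩⟩

end Groth.Agent.S0138
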