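import Groth.Statements.S0147
import Groth.Agent.CdAffine9.Devissage
import Groth.Agent.CdDev9.TranscStep
import Groth.Agent.S0148
-- import your own Groth.Agent.* helpers here

set_option autoImplicit false
set_option linter.all false
set_option backward.isDefEq.respectTransparency.types false
set_option backward.isDefEq.respectTransparency false
set_option synthInstance.maxHeartbeats 400000
set_option maxHeartbeats 1000000
universe u
open CategoryTheory CategoryTheory.Limits AlgebraicGeometry Opposite
open EtPBC

namespace Groth.Agent.S0147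

open IsLocalRing Groth.Agent Groth.Agent.Et18 Groth.Agent.GalEt Groth.Agent.CdDev9

/-- Vanishing on geometric fibres. -/
theorem cdKilled_main (K₀ : Type u) [Field K₀] (X : Scheme.{u}) [IsAffine X]
    (f : X ⟶ Spec (CommRingCat.of K₀)) [LocallyOfFiniteType f] (hd : topologicalKrullDim X ≤ 1)
    {N d : ℕ} (hN : 0 < N) (h : CdKilled (Spec (CommRingCat.of K₀)) N d) : CdKilled X N (d + 1) := by
  let Y := Spec (CommRingCat.of K₀)
  let s : Y := IsLocalRing.closedPoint (CommRingCat.of K₀)
  let A : Type u := Y.presheaf.stalk s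
  let ε : A ≃+* K₀ := (stalkClosedPointIso (CommRingCat.of K₀)).commRingCatIsoToRingEquiv
  let Ks : Type u := SeparableClosure K₀
  let ψ : A →+* Ks := (algebraMap K₀ Ks).comp ε.toRingHom
  letI : Algebra (Y.presheaf.stalk s) Ks := ψ.toAlgebra
  letI : Algebra (Y.presheaf.stalk s) K₀ := ε.toRingHom.toAlgebra
  haveI : IsScalarTower (Y.presheaf.stalk s) K₀ Ks := IsScalarTower.of_algebraMap_eq' rfl
  haveI : Algebra.WeaklyEtale (Y.presheaf.stalk s) K₀ :=
    HenselLib.weaklyEtale_of_equiv (R := Y.presheaf.stalk s) (S := Y.presheaf.stalk s) (T := K₀)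
      (AlgEquiv.ofBijective (Algebra.ofId (Y.presheaf.stalk s) K₀) ε.bijective)
  haveI : Algebra.WeaklyEtale K₀ Ks := Et18.SHClosed.weaklyEtale_of_isSeparable K₀ Ks
  haveI : Algebra.WeaklyEtale (Y.presheaf.stalk s) Ks := Algebra.WeaklyEtale.trans (Y.presheaf.stalk s) K₀ Ks
  haveI : IsLocalHom (algebraMap (Y.presheaf.stalk s) Ks) := ⟨fun a ha => by
    have h1 : ε a ≠ 0 := fun h0 => ha.ne_zero (by
      show algebraMap K₀ Ks (ε a) = 0
      rw [h0, map_zero])
    simpa using (isUnit_iff_ne_zero.2 h1).map ε.symm⟩
  haveI : IsSepClosed (ResidueField Ks) := by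
    let e : Ks ≃+* ResidueField Ks :=
      RingEquiv.ofBijective (residue Ks) ⟨(residue Ks).injective, residue_surjective⟩
    refine IsSepClosed.of_exists_root _ fun f hfm hfi hfs => ?_
    obtain ⟨a, ha⟩ := IsSepClosed.exists_root (f.map e.symm.toRingHom)
      (by rw [Polynomial.degree_map]; exact (hfi.degree_pos).ne') (hfs.map)
    exact ⟨e a, by
      have h := congrArg e.toRingHom ha
      rw [← Polynomial.eval₂_at_apply, Polynomial.eval₂_eq_eval_map, Polynomial.map_map] at h
      simpa using h⟩
  haveI := HenselLib.StrictTransfer.isStrictHenselization_of_weaklyEtale (Y.presheaf.stalk s) Ks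
  have hspec : Hens2.specOf Y s Ks = H8Lim.algSpec K₀ Ks := by
    show Spec.map (CommRingCat.ofHom ψ) ≫ Y.fromSpecStalk s = _
    rw [← Spec_stalkClosedPointIso, ← Spec.map_comp]
    congr 1
    refine CommRingCat.hom_ext (RingHom.ext fun r => ?_)
    show algebraMap K₀ Ks ((stalkClosedPointIso (CommRingCat.of K₀)).hom
      ((stalkClosedPointIso (CommRingCat.of K₀)).inv r)) = _
    rw [← CategoryTheory.comp_apply, Iso.inv_hom_id]
    rfl
  have hP : CdKilled (pullback f (Hens2.specOf Y s Ks)) N 1 := by
    let Ω : Type u := AlgebraicClosure Ks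
    let j : Spec (CommRingCat.of Ω) ⟶ Spec (CommRingCat.of Ks) := H8Lim.algSpec Ks Ω
    haveI : IsIntegralHom j := IsIntegralHom.SpecMap_iff.2 (algebraMap_isIntegral_iff.2 inferInstance)
    haveI : UniversallyInjective j := H8Lim.universallyInjective_algSpec Ks Ω
    haveI : Surjective j := ⟨fun z => ⟨Classical.arbitrary _, Subsingleton.elim _ _⟩⟩
    let P := pullback f (Hens2.specOf Y s Ks)
    let p : P ⟶ Spec (CommRingCat.of Ks) := pullback.snd _ _
    haveI : IsIntegralHom (Hens2.specOf Y s Ks) := by
      rw [hspec]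
      exact IsIntegralHom.SpecMap_iff.2 (algebraMap_isIntegral_iff.2 inferInstance)
    have hdP : topologicalKrullDim P ≤ 1 :=
      (AlgSpLib.topologicalKrullDim_le_of_isIntegralHom (pullback.fst f (Hens2.specOf Y s Ks))).trans hd
    haveI : IsAffine P := isAffine_of_isAffineHom (pullback.fst f (Hens2.specOf Y s Ks))
    let π : pullback p j ⟶ P := pullback.fst p j
    haveI : IsIntegralHom π := inferInstance
    haveI : UniversallyInjective π := MorphismProperty.pullback_fst (P := @UniversallyInjective) p j ‹_›
    haveI : Surjective π := inferInstance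
    haveI : IsAffine (pullback p j) := isAffine_of_isAffineHom π
    haveI : QuasiCompact (pullback.snd p j) := inferInstance
    haveI : IsSeparated (pullback.snd p j) := inferInstance
    haveI : LocallyOfFiniteType (pullback.snd p j) := inferInstance
    have hΩ := CdAffine9.Devissage.cohDimLE_one (pullback.snd p j)
      ((AlgSpLib.topologicalKrullDim_le_of_isIntegralHom π).trans hdP)
    exact (S0148.cdKilled_of_cohDimLE hΩ hN).of_universalHomeomorph π
  intro G hG q hq
  refine Transc.subsingleton_H_of_killed f h G hG (fun C ι π w hS p => ?_) q hq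
  refine ClosedPointSupport.isZero_of_supp_empty (Set.eq_empty_iff_forall_notMem.2 fun y hy => ?_)
  exact (mem_supp_iff _ (Hens2.geomPt Y s Ks)
    ((EtStalkLib.geomPt_default Y s Ks).trans (Subsingleton.elim (α := PrimeSpectrum K₀) _ _))).1 hy
    (Transc.isZero_stalk_Rpush f s Ks hP hG hS p)

/-- Let K be a field with cd(K) <= e and X affine of finite type over K of dimension <= 1. Then cd(X) <=
1 + e. (Special case of the affine bound.) -/
theorem result (K : Type u) [Field K] (X : Scheme.{u}) [IsAffine X]
    (f : X ⟶ Spec (CommRingCat.of K)) [LocallyOfFiniteType f]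
    (e : ℕ) (hd : topologicalKrullDim X ≤ 1) (hK : EtCoh.CohDimLE (Spec (CommRingCat.of K)) e) :
    EtCoh.CohDimLE X (1 + e) := by
  refine Groth.Agent.S0148.cohDimLE_of_cdKilled fun m hm => ?_
  rw [Nat.add_comm]
  exact cdKilled_main K X f hd hm (Groth.Agent.S0148.cdKilled_of_cohDimLE hK hm)

end Groth.Agent.S0147
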