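import Groth.Statements.S0149
import Groth.Agent.S3884
import Groth.Agent.Et18.CdField
import Mathlib.CategoryTheory.Presentable.Directed
-- import your own Groth.Agent.* helpers here

set_option autoImplicit false
universe u
open CategoryTheory CategoryTheory.Limits AlgebraicGeometry Opposite
open EtPBC

namespace Groth.Agent.S0149

/-- If X = lim X_i is a cofiltered limit of quasi-compact quasi-separated schemes with affine transition
morphisms and cd(X_i) <= d for all i, then cd(X) <= d. -/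
theorem result {I : Type u} [SmallCategory I] [IsCofiltered I] (D : I ⥤ Scheme.{u})
    [∀ {i j : I} (a : i ⟶ j), IsAffineHom (D.map a)]
    [∀ i, CompactSpace (D.obj i)] [∀ i, QuasiSeparatedSpace (D.obj i)]
    (c : Cone D) (hc : IsLimit c) (d : ℕ) (h : ∀ i, EtCoh.CohDimLE (D.obj i) d) :
    EtCoh.CohDimLE c.pt d := by
  intro F hF q hq
  obtain ⟨α, hα, hdir, hne, K, hK⟩ := CategoryTheory.IsFiltered.exists_directed.{u} Iᵒᵖ
  haveI : IsDirected α (· ≤ ·) := hdir
  let G : αᵒᵖ ⥤ I := K.leftOp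
  haveI : G.Initial := inferInstanceAs (K.op ⋙ (opOpEquivalence I).functor).Initial
  let Xs : αᵒᵖ ⥤ Scheme.{u} := G ⋙ D
  let c' : Cone Xs := c.whisker G
  have hc' : IsLimit c' := (Functor.Initial.isLimitWhiskerEquiv G c).symm hc
  haveI haff : ∀ ⦃a b : αᵒᵖ⦄ (h : a ⟶ b), IsAffineHom (Xs.map h) := fun a b h =>
    inferInstanceAs (IsAffineHom (D.map (G.map h)))
  haveI hqc : ∀ a, CompactSpace ↥(Xs.obj a) := fun a => inferInstanceAs (CompactSpace ↥(D.obj _))
  haveI hqs : ∀ a, QuasiSeparatedSpace ↥(Xs.obj a) := fun a => inferInstanceAs (QuasiSeparatedSpace ↥(D.obj _))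
  haveI : ∀ a, PreservesFiniteLimits (EtCoh.pull (c'.π.app a)) := fun a => inferInstance
  haveI : ∀ ⦃a b : αᵒᵖ⦄ (h : a ⟶ b), PreservesFiniteLimits (EtCoh.pull (Xs.map h)) := fun a b h => inferInstance
  have key := Groth.Agent.S3884.result Xs haff hqc hqs c' hc' F q
  have hz : ∀ ξ : EtCoh.H c.pt F q, ξ = 0 := fun ξ => by
    obtain ⟨j, ξj, rfl⟩ := key.1 ξ
    haveI : IsAffineHom (c.π.app (G.obj (Opposite.op j))) :=
      @isAffineHom_π_app _ _ D c hc _ (fun f => inferInstance) _
    have ht : EtCoh.IsTorsion ((EtCoh.push (c'.π.app (Opposite.op j))).obj F) := by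
      rw [Groth.Agent.Et18.TorsionColim.isTorsion_iff] at hF ⊢
      exact @Groth.Agent.Et18.CdField.isLTorsion_push _ _ _ (c.π.app (G.obj (Opposite.op j))) _ _ _ hF
    have := h (G.obj (Opposite.op j)) _ ht q hq
    rw [@Subsingleton.elim _ this ξj 0, map_zero]
  exact ⟨fun a b => (hz a).trans (hz b).symm⟩

end Groth.Agent.S0149
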