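import Groth.Statements.S0163
import Groth.Agent.Et18.H0Lift.BaseChangeRed
-- import your own Groth.Agent.* helpers here

set_option autoImplicit false
universe u
open CategoryTheory CategoryTheory.Limits AlgebraicGeometry Opposite
open EtPBC

namespace Groth.Agent.S0163

/-- Consider a cartesian square of schemes Y = X ×_S T with projections h : Y → X and e : Y → T, where f
: X → S is flat and locally of finite presentation with geometrically reduced fibres (for every
point s of S and every morphism Spec K → S from the spectrum of a field with image {s}, the base
change X ×_S Spec K is reduced), and g : T → S is quasi-compact and quasi-separated. Then for every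
abelian sheaf F on T_ét the base change map f⁻¹g_*F → h_*e⁻¹F is an isomorphism. The published
statement is for sheaves of sets; stated here for abelian sheaves. (Continuity of the functors of
étale sites along f, g, h and e is carried as instance binders.) -/
theorem result {X S Y T : Scheme.{u}} (f : X ⟶ S) [Flat f]
    [LocallyOfFinitePresentation f]
    (hred : ∀ (s : S) (K : Type u) [Field K] (k : Spec (CommRingCat.of K) ⟶ S),
      Set.range k = {s} → IsReduced (pullback f k))
    (g : T ⟶ S) [QuasiCompact g] [QuasiSeparated g] (h : Y ⟶ X) (e : Y ⟶ T) (hc : IsPullback e h g f)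
    [EtCoh.BCCont f] [EtCoh.BCCont g] [EtCoh.BCCont h] [EtCoh.BCCont e] (F : EtCoh.Ab T) :
    IsIso (EtCoh.baseChange0 g f h e hc.w F) := by
  refine Et18.H0Lift.isIso_baseChange0_of_geomRed f g h e hc F (fun K _ k => hred (k default) K k ?_)
  exact Set.eq_singleton_iff_unique_mem.2 ⟨⟨default, rfl⟩, fun y ⟨z, hz⟩ => by
    rw [← hz, Subsingleton.elim z default]⟩

end Groth.Agent.S0163
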