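import Groth.Statements.S0170
import Groth.Agent.Et18.QFSections
-- import your own Groth.Agent.* helpers here

set_option autoImplicit false
universe u
open CategoryTheory CategoryTheory.Limits AlgebraicGeometry Opposite
open EtPBC

namespace Groth.Agent.S0170

/-- For f : Y -> X quasi-finite and of finite presentation with X and Y affine, one can find an affine
X' mapping onto X such that the base change Y' = X' x_X Y contains a closed subscheme Z' with the
same underlying space (a thickening) for which the composite Z' -> Y' -> X' is finite etale. -/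
theorem result {Y X : Scheme.{u}} [IsAffine X] [IsAffine Y] (f : Y ⟶ X)
    [LocallyQuasiFinite f] [LocallyOfFinitePresentation f] :
    ∃ (X' : Scheme.{u}) (_ : IsAffine X') (a : X' ⟶ X) (_ : Surjective a) (Z' : Scheme.{u})
      (c : Z' ⟶ pullback a f) (_ : IsClosedImmersion c) (_ : Surjective c),
      IsFinite (c ≫ pullback.fst a f) ∧ Etale (c ≫ pullback.fst a f) := by
  algebraize [f.appTop.hom]
  haveI : LocallyQuasiFinite (Spec.map f.appTop) :=
    (MorphismProperty.arrow_mk_iso_iff @LocallyQuasiFinite (arrowIsoSpecΓOfIsAffine f)).1 inferInstance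
  haveI : LocallyOfFinitePresentation (Spec.map f.appTop) :=
    (MorphismProperty.arrow_mk_iso_iff @LocallyOfFinitePresentation (arrowIsoSpecΓOfIsAffine f)).1 inferInstance
  haveI : Algebra.QuasiFinite Γ(X, ⊤) Γ(Y, ⊤) :=
    (HasRingHomProperty.Spec_iff (P := @LocallyQuasiFinite)).1 (inferInstanceAs (LocallyQuasiFinite (Spec.map f.appTop)))
  haveI : Algebra.FinitePresentation Γ(X, ⊤) Γ(Y, ⊤) :=
    (HasRingHomProperty.Spec_iff (P := @LocallyOfFinitePresentation)).1
      (inferInstanceAs (LocallyOfFinitePresentation (Spec.map f.appTop)))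
  obtain ⟨C, _, _, hC, D, _, m, hm, hmS, hfin, het⟩ :=
    Groth.Agent.Et18.QFSections.exists_decompose (A := Γ(X, ⊤)) (B := Γ(Y, ⊤))
  let aS : Spec (CommRingCat.of C) ⟶ Spec Γ(X, ⊤) :=
    Spec.map (CommRingCat.ofHom (algebraMap Γ(X, ⊤) C))
  have hnat : f ≫ X.isoSpec.hom = Y.isoSpec.hom ≫
      Spec.map (CommRingCat.ofHom (algebraMap Γ(X, ⊤) Γ(Y, ⊤))) :=
    (Scheme.isoSpec_hom_naturality f).symm
  let φ : pullback (aS ≫ X.isoSpec.inv) f ⟶
      pullback (Spec.map (CommRingCat.ofHom (algebraMap Γ(X, ⊤) C)))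
        (Spec.map (CommRingCat.ofHom (algebraMap Γ(X, ⊤) Γ(Y, ⊤)))) :=
    pullback.map _ _ _ _ (𝟙 _) Y.isoSpec.hom X.isoSpec.hom
      (by simp [aS]) hnat
  haveI : IsIso φ := by dsimp only [φ]; infer_instance
  let e : pullback (aS ≫ X.isoSpec.inv) f ≅
      Spec (CommRingCat.of (TensorProduct Γ(X, ⊤) C Γ(Y, ⊤))) :=
    asIso φ ≪≫ pullbackSpecIso Γ(X, ⊤) C Γ(Y, ⊤)
  haveI : Surjective aS := ⟨hC⟩
  let Z' := Spec (CommRingCat.of D)
  haveI : IsClosedImmersion (Spec.map (CommRingCat.ofHom m)) := IsClosedImmersion.spec_of_surjective _ hm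
  haveI : Surjective (Spec.map (CommRingCat.ofHom m)) := ⟨hmS⟩
  have he : e.inv ≫ pullback.fst (aS ≫ X.isoSpec.inv) f = Spec.map (CommRingCat.ofHom
      (Algebra.TensorProduct.includeLeftRingHom : C →+* TensorProduct Γ(X, ⊤) C Γ(Y, ⊤))) := by
    rw [← cancel_epi e.hom, Iso.hom_inv_id_assoc]
    simp only [e, Iso.trans_hom, asIso_hom, Category.assoc, pullbackSpecIso_hom_fst]
    exact ((pullback.lift_fst _ _ _).trans (Category.comp_id _)).symm
  refine ⟨Spec (CommRingCat.of C), inferInstance, aS ≫ X.isoSpec.inv, inferInstance, Z',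
    Spec.map (CommRingCat.ofHom m) ≫ e.inv, inferInstance, inferInstance, ?_⟩
  rw [Category.assoc, he, ← Spec.map_comp, ← CommRingCat.ofHom_comp]
  exact ⟨(IsFinite.SpecMap_iff _).2 hfin, (HasRingHomProperty.Spec_iff (P := @Etale)).2 het⟩

end Groth.Agent.S0170
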