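import Groth.Statements.S0173
import Groth.Agent.Et18.ConsColim
-- import your own Groth.Agent.* helpers here

set_option autoImplicit false
universe u
open CategoryTheory CategoryTheory.Limits AlgebraicGeometry Opposite
open EtPBC

namespace Groth.Agent.S0173

/-- (1), for X irreducible: X quasi-compact, quasi-separated and irreducible with generic point η, F a
torsion abelian sheaf on X_et whose stalk over η vanishes. Then F is a filtered colimit of
constructible abelian sheaves each supported in a closed subset not containing η. (The source allows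
η to be the generic point of any irreducible component.) -/
theorem result (X : Scheme.{u}) [CompactSpace X] [QuasiSeparatedSpace X]
    [IrreducibleSpace X] (F : EtCoh.Ab X) (hF : EtCoh.IsTorsion F) (hη : genericPoint X ∉ EtPBC.supp F) :
    ∃ (J : Type (u + 1)) (_ : SmallCategory J) (_ : IsFiltered J) (D : J ⥤ EtCoh.Ab X)
      (c : Cocone D) (_ : IsColimit c), Nonempty (c.pt ≅ F) ∧
      ∀ j, EtPBC.IsConstructible (D.obj j) ∧
        ∃ Z : Set X, IsClosed Z ∧ genericPoint X ∉ Z ∧ EtPBC.supp (D.obj j) ⊆ Z := by
  obtain ⟨hc⟩ := Et18.ColimCons.nonempty_isColimit_at hF (genericPoint X) hη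
  haveI := Et18.ColimCons.isDirected_idxAt (F := F) (genericPoint X) hη
  haveI : Nonempty (Et18.ColimCons.IdxAt F (genericPoint X)) := by
    obtain ⟨q, -, hq⟩ := Et18.ColimCons.exists_le_isZero_stalk (Classical.arbitrary (Et18.ColimCons.Idx F))
      (genericPoint X) hη
    exact ⟨⟨q, hq⟩⟩
  refine ⟨Et18.ColimCons.IdxAt F (genericPoint X), inferInstance, inferInstance, _, _, hc, ⟨Iso.refl _⟩,
    fun j => ⟨Et18.ColimCons.isConstructible_obj j.1, closure (EtPBC.supp ((Et18.ColimCons.D F).obj j.1)),
      isClosed_closure, fun hmem => ?_, subset_closure⟩⟩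
  obtain ⟨y, hy, hyη⟩ := Et18.exists_specializes_of_mem_closure
    (Et18.isLocallyConstructible_supp (Et18.ColimCons.isConstructible_obj j.1)) hmem
  exact j.2 ((hyη.antisymm (genericPoint_specializes y)).eq ▸ hy)

end Groth.Agent.S0173
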