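import Groth.Statements.S0175
import Groth.Agent.Et18.Recollement
-- import your own Groth.Agent.* helpers here

set_option autoImplicit false
universe u
open CategoryTheory CategoryTheory.Limits AlgebraicGeometry Opposite
open EtPBC

namespace Groth.Agent.S0175

/-- Let i : Z → X be a closed immersion of schemes with open complement j : U → X, and I an injective
abelian sheaf on X_ét. Then the subsheaf H_Z(I) of sections supported on Z (the kernel of I → j_*
j^* I), viewed on Z_ét via i^*, is an injective abelian sheaf on Z_ét. -/
theorem result {Z X U : Scheme.{u}} (i : Z ⟶ X) [IsClosedImmersion i]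
    (j : U ⟶ X) [IsOpenImmersion j] (hZU : Set.range j = (Set.range i)ᶜ)
    [EtCoh.BCCont i] [EtCoh.BCCont j] (I : EtCoh.Ab X) [Injective I] :
    Injective ((EtCoh.pull i).obj (kernel ((EtCoh.pullPushAdj j).unit.app I))) := by
  exact Groth.Agent.Et18.injective_sectionsWithSupport hZU I

end Groth.Agent.S0175
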