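import Groth.Statements.S0182
import Groth.Agent.Et18.StrataLoci
-- import your own Groth.Agent.* helpers here

set_option autoImplicit false
universe u
open CategoryTheory CategoryTheory.Limits AlgebraicGeometry Opposite
open EtPBC

namespace Groth.Agent.S0182

/-- (1), surjectivity case, for abelian sheaves: X quasi-compact and quasi-separated, F -> G a map of
constructible abelian sheaves on X_et; the set of points x of X such that F -> G is surjective on
stalks at (every) geometric point over x is constructible. The source states this for constructible
sheaves of sets; an abelian constructible sheaf is one, with the same stalks. -/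
theorem result (X : Scheme.{u}) [CompactSpace X] [QuasiSeparatedSpace X]
    {F G : EtCoh.Ab X} (φ : F ⟶ G) (hF : EtPBC.IsConstructible F) (hG : EtPBC.IsConstructible G) :
    Topology.IsConstructible {x : X | ∀ (Ω : Type u) [Field Ω] [IsSepClosed Ω]
      (ξ : Spec (CommRingCat.of Ω) ⟶ X), Set.range ξ = {x} →
        Function.Surjective ((EtCoh.stalk ξ).map φ)} := by
  exact (Groth.Agent.Et18.isLocallyConstructible_surjective_locus φ hF hG).isConstructible

end Groth.Agent.S0182
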