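import Groth.Statements.S0183
import Groth.Agent.S0694
import Groth.Agent.HenselLib.WContract

set_option autoImplicit false
universe u
open CategoryTheory CategoryTheory.Limits AlgebraicGeometry Opposite
open EtPBC

namespace Groth.Agent.S0183

/-- Suppose A -> B identifies local rings (A_p -> B_q bijective for every prime q of B over p). Then B
can be enlarged along a faithfully flat ind-Zariski extension B' so that B' is already ind-Zariski
over A; ind-Zariski means: a filtered colimit of local isomorphisms in the sense of Mathlib's
Algebra.IsLocalIso (Zariski-locally on the source a standard open immersion). -/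
theorem result (A B : Type u) [CommRing A] [CommRing B] [Algebra A B]
    (h : EtPBC.IdentifiesLocalRings A B) :
    ∃ (B' : Type u) (_ : CommRing B') (_ : Algebra B B') (_ : Algebra A B') (_ : IsScalarTower A B B'),
      Module.FaithfullyFlat B B' ∧ EtPBC.IsIndZariski B B' ∧ EtPBC.IsIndZariski A B' := by
  obtain ⟨B', _, _, hff, hz, hl, -⟩ := Groth.Agent.S0694.result B
  letI : Algebra A B' := ((algebraMap B B').comp (algebraMap A B)).toAlgebra
  haveI : IsScalarTower A B B' := IsScalarTower.of_algebraMap_eq' rfl
  refine ⟨B', inferInstance, inferInstance, inferInstance, inferInstance, hff, hz,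
    Groth.Agent.HenselLib.WLoc.isIndZariski_of_identifies A B' (fun q => ?_) hl⟩
  exact Groth.Agent.HenselLib.WCtr.bijAt_comp (B := B) (h _)
    (Groth.Agent.HenselLib.WCtr.bijAt_of_isIndZariski hz q)

end Groth.Agent.S0183
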