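import Groth.Statements.S0191
import Mathlib.RingTheory.TwoSidedIdeal.Operations
import Mathlib.LinearAlgebra.Basis.VectorSpace
import Mathlib.LinearAlgebra.TensorProduct.Basis
import Mathlib.Algebra.Central.Basic

set_option autoImplicit false
universe u v w
open scoped TensorProduct
open Curves

namespace Groth.Agent.S0191

/-- If K is a skew field with center k, every two-sided ideal of A ⊗ K is generated by the elements a ⊗
1 it contains. -/
theorem result (k : Type u) [Field k] (A : Type v) [Ring A] [Algebra k A]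
    (K : Type w) [DivisionRing K] [Algebra k K] [Algebra.IsCentral k K]
    (I : TwoSidedIdeal (A ⊗[k] K)) :
    I = TwoSidedIdeal.span ((fun a : A => a ⊗ₜ[k] (1 : K)) '' {a : A | a ⊗ₜ[k] (1 : K) ∈ I}) := by
  classical
  refine le_antisymm ?_ (TwoSidedIdeal.span_le.mpr (by rintro _ ⟨a, ha, rfl⟩; exact ha))
  set S := TwoSidedIdeal.span ((fun a : A => a ⊗ₜ[k] (1 : K)) '' {a : A | a ⊗ₜ[k] (1 : K) ∈ I})
  let J : Submodule k A :=
    { carrier := {a | a ⊗ₜ[k] (1 : K) ∈ I}
      zero_mem' := by simp [TensorProduct.zero_tmul, I.zero_mem]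
      add_mem' := fun {a b} ha hb => by
        simpa [TensorProduct.add_tmul] using I.add_mem ha hb
      smul_mem' := fun c a ha => by
        have := I.mul_mem_left (algebraMap k A c ⊗ₜ[k] (1 : K)) _ ha
        simpa [Algebra.smul_def] using this }
  have hS : ∀ j ∈ J, ∀ d : K, j ⊗ₜ[k] d ∈ S := fun j hj d => by
    have := S.mul_mem_right _ ((1 : A) ⊗ₜ[k] d) (TwoSidedIdeal.subset_span ⟨j, hj, rfl⟩)
    simpa using this
  have hSI : ∀ z ∈ S, z ∈ I := fun z hz =>
    TwoSidedIdeal.span_le.mpr (by rintro _ ⟨a, ha, rfl⟩; exact ha) hz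
  obtain ⟨W, hW⟩ := J.exists_isCompl
  let b := Module.Basis.ofVectorSpace k W
  let ι := Module.Basis.ofVectorSpaceIndex k W
  let w : ι → A := fun i => (b i : A)
  -- no nonzero combination of the complement lies in `I`
  have key : ∀ (s : Finset ι) (d : ι → K), (∑ i ∈ s, w i ⊗ₜ[k] d i) ∈ I → ∀ i ∈ s, d i = 0 := by
    intro s
    induction s using Finset.induction with
    | empty => simp
    | insert i₀ s hi₀ ih =>
      intro d hd
      by_cases h0 : d i₀ = 0
      · rw [Finset.sum_insert hi₀, h0, TensorProduct.tmul_zero, zero_add] at hd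
        intro i hi
        rcases Finset.mem_insert.mp hi with rfl | hi
        · exact h0
        · exact ih d hd i hi
      · exfalso
        let e : ι → K := fun i => d i * (d i₀)⁻¹
        have he : (∑ i ∈ insert i₀ s, w i ⊗ₜ[k] e i) ∈ I := by
          have := I.mul_mem_right _ ((1 : A) ⊗ₜ[k] (d i₀)⁻¹) hd
          simpa [Finset.sum_mul, e] using this
        have he0 : e i₀ = 1 := mul_inv_cancel₀ h0
        have hcomm : ∀ c : K, ∀ i ∈ insert i₀ s, e i * c = c * e i := by
          intro c i hi
          have hsum : (∑ i ∈ insert i₀ s, w i ⊗ₜ[k] (e i * c - c * e i)) ∈ I := by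
            have := I.sub_mem (I.mul_mem_right _ ((1 : A) ⊗ₜ[k] c) he) (I.mul_mem_left ((1 : A) ⊗ₜ[k] c) _ he)
            simpa [Finset.sum_mul, Finset.mul_sum, ← Finset.sum_sub_distrib, ← TensorProduct.tmul_sub] using this
          rw [Finset.sum_insert hi₀, he0, one_mul, mul_one, sub_self, TensorProduct.tmul_zero, zero_add] at hsum
          rcases Finset.mem_insert.mp hi with rfl | hi
          · rw [he0, one_mul, mul_one]
          · exact sub_eq_zero.mp (ih _ hsum i hi)
        have hc : ∀ i ∈ insert i₀ s, ∃ r : k, algebraMap k K r = e i := fun i hi => by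
          have : e i ∈ Subalgebra.center k K := Subalgebra.mem_center_iff.2 fun c => (hcomm c i hi).symm
          rw [Algebra.IsCentral.center_eq_bot] at this
          exact Algebra.mem_bot.1 this
        choose! r hr using hc
        have hmem : (∑ i ∈ insert i₀ s, r i • w i) ∈ J := by
          have h : (∑ i ∈ insert i₀ s, r i • w i) ⊗ₜ[k] (1 : K) = ∑ i ∈ insert i₀ s, w i ⊗ₜ[k] e i := by
            rw [TensorProduct.sum_tmul]
            refine Finset.sum_congr rfl fun i hi => ?_
            rw [TensorProduct.smul_tmul, ← hr i hi, Algebra.algebraMap_eq_smul_one]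
          change _ ∈ I
          rw [h]; exact he
        have hmemW : (∑ i ∈ insert i₀ s, r i • w i) ∈ W := sum_mem fun i _ => W.smul_mem _ (b i).2
        have hz := Submodule.disjoint_def.mp hW.disjoint _ hmem hmemW
        have hzero : ∑ i ∈ insert i₀ s, r i • b i = 0 := Subtype.ext (by simpa [w] using hz)
        have hr0 := linearIndependent_iff'.mp b.linearIndependent _ r hzero i₀ (Finset.mem_insert_self _ _)
        have := hr i₀ (Finset.mem_insert_self _ _)
        rw [hr0, map_zero, he0] at this
        exact zero_ne_one this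
  have dec : ∀ x : A ⊗[k] K, ∃ z ∈ S, ∃ f : ι →₀ K, x = z + f.sum fun i d => w i ⊗ₜ[k] d := by
    intro x
    induction x using TensorProduct.induction_on with
    | zero => exact ⟨0, S.zero_mem, 0, by simp⟩
    | tmul a d =>
      obtain ⟨j, hj, v, hv, rfl⟩ := Submodule.mem_sup.mp (hW.sup_eq_top.ge (Submodule.mem_top (x := a)))
      refine ⟨j ⊗ₜ[k] d, hS j hj d, (b.repr ⟨v, hv⟩).mapRange (fun r => r • d) (zero_smul k d), ?_⟩
      rw [TensorProduct.add_tmul, Finsupp.sum_mapRange_index (by simp)]
      congr 1
      have hv' : v = (b.repr ⟨v, hv⟩).sum fun i r => r • w i := by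
        have := congrArg (Subtype.val : W → A) (b.linearCombination_repr ⟨v, hv⟩)
        simpa [Finsupp.linearCombination_apply, Finsupp.sum, w] using this.symm
      conv_lhs => rw [hv']
      simp [Finsupp.sum, TensorProduct.sum_tmul, TensorProduct.smul_tmul, TensorProduct.tmul_smul]
      rfl
    | add x y hx hy =>
      obtain ⟨z, hz, f, rfl⟩ := hx
      obtain ⟨z', hz', g, rfl⟩ := hy
      refine ⟨z + z', S.add_mem hz hz', f + g, ?_⟩
      rw [Finsupp.sum_add_index (by simp) (by simp [TensorProduct.tmul_add])]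
      abel
  intro x hx
  obtain ⟨z, hz, f, rfl⟩ := dec x
  have hf : (f.sum fun i d => w i ⊗ₜ[k] d) ∈ I := by
    have := I.sub_mem hx (hSI z hz)
    rwa [add_sub_cancel_left] at this
  have h0 := key f.support f hf
  have : f = 0 := Finsupp.support_eq_empty.mp (Finset.eq_empty_of_forall_notMem fun i hi =>
    Finsupp.mem_support_iff.mp hi (h0 i hi))
  subst this
  simpa using hz

end Groth.Agent.S0191
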