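import Groth.Statements.S0194
import Groth.Agent.CSA.Centralizer

set_option autoImplicit false
universe u v w
open scoped TensorProduct
open Curves

namespace Groth.Agent.S0194

/-- A central simple subalgebra B of a finite central simple algebra A, together with its centralizer C,
decomposes A as B ⊗ C. -/
theorem result (k : Type u) [Field k] (A : Type v) [Ring A] [Algebra k A]
    [Algebra.IsCentral k A] [IsSimpleRing A] [FiniteDimensional k A]
    (B : Subalgebra k A) [IsSimpleRing B] [Algebra.IsCentral k B] :
    Function.Bijective (Algebra.TensorProduct.lift B.val (Subalgebra.centralizer k (B : Set A)).val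
      (fun x y => y.2 x.1 x.2)) := by
  obtain ⟨hs, hfr⟩ := Groth.Agent.CSA.centralizer_simple_and_finrank k B
  haveI := hs
  haveI := Groth.Agent.CSA.isSimpleRing_tensorProduct k B (Subalgebra.centralizer k (B : Set A))
  have hdim : Module.finrank k (B ⊗[k] (Subalgebra.centralizer k (B : Set A))) = Module.finrank k A := by
    rw [Module.finrank_tensorProduct]; exact hfr
  set f := Algebra.TensorProduct.lift B.val (Subalgebra.centralizer k (B : Set A)).val
    (fun x y => y.2 x.1 x.2)
  have hinj : Function.Injective f := RingHom.injective f.toRingHom
  exact ⟨hinj, (f.toLinearMap.injective_iff_surjective_of_finrank_eq_finrank hdim).1 hinj⟩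

end Groth.Agent.S0194
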