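import Groth.Statements.S0195
import Groth.Agent.CSA.Index

set_option autoImplicit false
universe u v w
open scoped TensorProduct
open Curves

namespace Groth.Agent.S0195

/-- A finite extension k' of k splits a finite central simple algebra A exactly when some algebra
similar to A contains k' with dim equal to [k':k]^2. Uses Mathlib's bundled CSA and Brauer
equivalence. -/
theorem result (k : Type u) [Field k] (A : CSA.{u, u} k)
    (k' : Type u) [Field k'] [Algebra k k'] [FiniteDimensional k k'] :
    Curves.Splits k A k' ↔ ∃ (B : CSA.{u, u} k) (_ : k' →ₐ[k] B), IsBrauerEquivalent A B ∧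
      Module.finrank k B = Module.finrank k k' ^ 2 := by
  haveI : Groth.Agent.CSA.IsCSA k A := {}
  constructor
  · intro h
    obtain ⟨C, _, _, hC, hAC, hfr, ⟨ι⟩⟩ := Groth.Agent.CSA.exists_brEq_containing (k := k) A k' h
    haveI := hC.1
    haveI := hC.2
    haveI := hC.3
    exact ⟨{ __ := AlgCat.of k C }, ι, hAC, hfr⟩
  · rintro ⟨B, ι, hAB, hfr⟩
    haveI : Groth.Agent.CSA.IsCSA k B := {}
    obtain ⟨e⟩ := Groth.Agent.CSA.nonempty_algEquiv_matrix_of_subfield k B k' ι hfr.symm
    exact (Groth.Agent.CSA.splits_congr k' hAB).2 ⟨_, Module.finrank_pos.ne', ⟨e⟩⟩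

end Groth.Agent.S0195
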