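import Groth.Statements.S0196
import Groth.Agent.CSA.Centralizer

set_option autoImplicit false
universe u v w
open scoped TensorProduct
open Curves

namespace Groth.Agent.S0196

theorem isField_sub {k D : Type*} [Field k] [DivisionRing D] [Algebra k D] [FiniteDimensional k D]
    (L : Subalgebra k D) (h : ∀ x ∈ L, ∀ y ∈ L, x * y = y * x) : IsField L where
  exists_pair_ne := exists_pair_ne L
  mul_comm x y := Subtype.ext (h x x.2 y y.2)
  mul_inv_cancel := fun {x} hx => by
    have hinj : Function.Injective (LinearMap.mulLeft k x) := fun a b hab => mul_left_cancel₀ hx hab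
    obtain ⟨y, hy⟩ := (LinearMap.injective_iff_surjective.mp hinj) 1
    exact ⟨y, hy⟩


/-- In a finite central skew field D over k, a maximal commutative k-subalgebra L satisfies dim D = (dim
L)^2. -/
theorem result (k : Type u) [Field k]
    (D : Type v) [DivisionRing D] [Algebra k D] [Algebra.IsCentral k D] [FiniteDimensional k D]
    (L : Subalgebra k D) (hcomm : ∀ x ∈ L, ∀ y ∈ L, x * y = y * x)
    (hmax : ∀ L' : Subalgebra k D, (∀ x ∈ L', ∀ y ∈ L', x * y = y * x) → L ≤ L' → L' = L) :
    Module.finrank k D = Module.finrank k L ^ 2 := by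
  haveI : IsSimpleRing L := by
    letI := (isField_sub L hcomm).toField
    infer_instance
  have hC : Subalgebra.centralizer k (L : Set D) = L := by
    refine le_antisymm (fun x hx => ?_) (fun x hx y hy => hcomm y hy x hx)
    let L' := Algebra.adjoin k ((L : Set D) ∪ {x})
    have hx' : ∀ g ∈ (L : Set D), g * x = x * g := (Subalgebra.mem_centralizer_iff k).mp hx
    have hL' : ∀ a ∈ L', ∀ b ∈ L', a * b = b * a := by
      have hgen : ∀ a ∈ (L : Set D) ∪ {x}, ∀ b ∈ (L : Set D) ∪ {x}, a * b = b * a := by
        rintro a (ha | rfl) b (hb | rfl)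
        · exact hcomm a ha b hb
        · exact hx' a ha
        · exact (hx' b hb).symm
        · rfl
      intro a ha b hb
      exact congrArg Subtype.val ((Algebra.adjoinCommRingOfComm k hgen).mul_comm ⟨a, ha⟩ ⟨b, hb⟩)
    rw [← hmax L' hL' (fun a ha => Algebra.subset_adjoin (Or.inl ha))]
    exact Algebra.subset_adjoin (Or.inr rfl)
  have h := (Groth.Agent.CSA.centralizer_simple_and_finrank k L).2
  rw [hC] at h
  rw [← h, sq]

end Groth.Agent.S0196
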