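import Groth.Statements.S0198
import Groth.Agent.CSA.MaximalSubfield

set_option autoImplicit false
universe u v w
open scoped TensorProduct
open Curves

namespace Groth.Agent.S0198

theorem isField_sub {k D : Type*} [Field k] [DivisionRing D] [Algebra k D] [FiniteDimensional k D]
    (L : Subalgebra k D) (h : ∀ x ∈ L, ∀ y ∈ L, x * y = y * x) : IsField L where
  exists_pair_ne := exists_pair_ne L
  mul_comm x y := Subtype.ext (h x x.2 y y.2)
  mul_inv_cancel := fun {x} hx => by
    have hinj : Function.Injective (LinearMap.mulLeft k x) := fun a b hab => mul_left_cancel₀ hx hab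
    obtain ⟨y, hy⟩ := (LinearMap.injective_iff_surjective.mp hinj) 1
    exact ⟨y, hy⟩


/-- A finite central skew field over k contains a maximal commutative subalgebra that is separable over
k. -/
theorem result (k : Type u) [Field k]
    (D : Type v) [DivisionRing D] [Algebra k D] [Algebra.IsCentral k D] [FiniteDimensional k D] :
    ∃ L : Subalgebra k D, (∀ x ∈ L, ∀ y ∈ L, x * y = y * x) ∧
      (∀ L' : Subalgebra k D, (∀ x ∈ L', ∀ y ∈ L', x * y = y * x) → L ≤ L' → L' = L) ∧
      Algebra.IsSeparable k L := by
  obtain ⟨x, hx, hdeg⟩ := Groth.Agent.CSA.exists_separable_maximal k (D := D)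
  let L := Algebra.adjoin k ({x} : Set D)
  have hcomm : ∀ a ∈ L, ∀ b ∈ L, a * b = b * a := fun a ha b hb => by
    have hgen : ∀ a ∈ ({x} : Set D), ∀ b ∈ ({x} : Set D), a * b = b * a := by
      rintro a rfl b rfl; rfl
    exact congrArg Subtype.val ((Algebra.adjoinCommRingOfComm k hgen).mul_comm ⟨a, ha⟩ ⟨b, hb⟩)
  refine ⟨L, hcomm, fun L' hc hle => ?_, ?_⟩
  · haveI : IsSimpleRing L' := by
      letI := (isField_sub L' hc).toField
      infer_instance
    have h := (Groth.Agent.CSA.centralizer_simple_and_finrank k L').2
    have hle' : L' ≤ Subalgebra.centralizer k (L' : Set D) := fun a ha b hb => hc b hb a ha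
    have h2 : Module.finrank k L' ≤ Module.finrank k (Subalgebra.centralizer k (L' : Set D)) :=
      LinearMap.finrank_le_finrank_of_injective (f := (Subalgebra.inclusion hle').toLinearMap)
        (Subalgebra.inclusion_injective hle')
    have h3 : Module.finrank k L' ≤ Module.finrank k L := by
      refine Nat.pow_le_pow_iff_left two_ne_zero |>.mp ?_
      rw [hdeg, ← h, sq]
      exact Nat.mul_le_mul_left _ h2
    refine (Subalgebra.toSubmodule_injective (Submodule.eq_of_le_of_finrank_le hle ?_)).symm
    simpa using h3
  · letI : Field L := (isField_sub L hcomm).toField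
    have hx' : IsSeparable k (⟨x, Algebra.subset_adjoin rfl⟩ : L) := by
      unfold IsSeparable at hx ⊢
      rw [← minpoly.algHom_eq L.val Subtype.val_injective]
      exact hx
    have hgen : IntermediateField.adjoin k {(⟨x, Algebra.subset_adjoin rfl⟩ : L)} = ⊤ := by
      rw [eq_top_iff]
      rintro ⟨y, hy⟩ -
      induction hy using Algebra.adjoin_induction with
      | mem z hz => obtain rfl := Set.mem_singleton_iff.mp hz; exact IntermediateField.mem_adjoin_simple_self k _
      | algebraMap r => exact IntermediateField.algebraMap_mem _ r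
      | add a b ha hb h1 h2 => exact add_mem h1 h2
      | mul a b ha hb h1 h2 => exact mul_mem h1 h2
    have := (IntermediateField.isSeparable_adjoin_simple_iff_isSeparable k L).2 hx'
    rw [hgen] at this
    exact Algebra.IsSeparable.of_algHom k _ (IntermediateField.topEquiv.symm.toAlgHom)

end Groth.Agent.S0198
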