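import Groth.Statements.S0200
import Groth.Agent.CSA.Split

set_option autoImplicit false
universe u v w
open scoped TensorProduct
open Curves

namespace Groth.Agent.S0200

/-- A k-algebra is finite central simple exactly when its base change to the separable closure of k is a
matrix algebra of positive size. -/
theorem result (k : Type u) [Field k] (A : Type v) [Ring A] [Algebra k A] :
    (Algebra.IsCentral k A ∧ IsSimpleRing A ∧ FiniteDimensional k A) ↔
      Curves.Splits k A (SeparableClosure k) := by
  constructor
  · rintro ⟨_, _, _⟩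
    obtain ⟨n, hn, -, he⟩ := Groth.Agent.CSA.exists_splitting_of_isSepClosed k (SeparableClosure k) A
    exact ⟨n, hn.ne', he⟩
  · rintro ⟨n, hn, ⟨e⟩⟩
    haveI : Nonempty (Fin n) := ⟨⟨0, Nat.pos_of_ne_zero hn⟩⟩
    haveI : Algebra.IsCentral (SeparableClosure k) ((SeparableClosure k) ⊗[k] A) :=
      Groth.Agent.CSA.isCentral_of_algEquiv (SeparableClosure k) e.symm
    haveI : IsSimpleRing ((SeparableClosure k) ⊗[k] A) :=
      IsSimpleRing.of_ringEquiv e.symm.toRingEquiv inferInstance
    haveI : Module.Finite (SeparableClosure k) ((SeparableClosure k) ⊗[k] A) :=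
      Module.Finite.equiv e.symm.toLinearEquiv
    refine ⟨Groth.Agent.CSA.isCentral_of_baseChange k (SeparableClosure k) A,
      Groth.Agent.CSA.isSimpleRing_of_baseChange k (SeparableClosure k) A, ?_⟩
    have h := Module.rank_lt_aleph0 (SeparableClosure k) ((SeparableClosure k) ⊗[k] A)
    rw [Module.rank_baseChange] at h
    exact Module.rank_lt_aleph0_iff.mp (by simpa using h)

end Groth.Agent.S0200
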