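import Groth.Statements.S0201
import Groth.Agent.CSA.Index
import Mathlib.FieldTheory.Normal.Closure
import Mathlib.FieldTheory.Galois.Basic
import Mathlib.FieldTheory.SeparableClosure

set_option autoImplicit false
universe u v w
open scoped TensorProduct
open Curves

namespace Groth.Agent.S0201

/-- Every finite central simple algebra over k is split by a finite Galois extension of k. -/
theorem result (k : Type u) [Field k] (A : Type v) [Ring A] [Algebra k A]
    [Algebra.IsCentral k A] [IsSimpleRing A] [FiniteDimensional k A] :
    ∃ (k' : Type u) (_ : Field k') (_ : Algebra k k'), FiniteDimensional k k' ∧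
      IsGalois k k' ∧ Curves.Splits k A k' := by
  haveI : Groth.Agent.CSA.IsCSA k A := {}
  obtain ⟨L, _, _, h1, h2, r, hr, -, he⟩ := Groth.Agent.CSA.exists_finite_separable_splitting k A
  let E := IntermediateField.normalClosure k L (AlgebraicClosure L)
  have hf : ∀ f : L →ₐ[k] AlgebraicClosure L, Algebra.IsSeparable k f.fieldRange := fun f =>
    Algebra.IsSeparable.of_algHom k L (AlgEquiv.ofInjectiveField f).symm.toAlgHom
  haveI : Algebra.IsSeparable k E := by
    exact IntermediateField.isSeparable_iSup (t := fun f : L →ₐ[k] AlgebraicClosure L => f.fieldRange) (h := hf)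
  haveI : IsGalois k E := {}
  exact ⟨E, inferInstance, inferInstance, inferInstance, inferInstance,
    Groth.Agent.CSA.splits_of_splits L E ⟨r, hr.ne', he⟩⟩

end Groth.Agent.S0201
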