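import Groth.Statements.S0205
import Groth.Agent.CdCurve24.PTorsion
-- import your own Groth.Agent.* helpers here

set_option autoImplicit false
universe u
open CategoryTheory CategoryTheory.Limits AlgebraicGeometry Opposite
open Curves

set_option backward.isDefEq.respectTransparency.types false
namespace Groth.Agent.S0205

/-- In characteristic p, p-power torsion abelian étale sheaves (every section is étale-locally killed by
a power of p) on a separated finite type scheme of dimension at most one over an algebraically
closed field have no cohomology above degree one. -/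
theorem result (k : Type u) [Field k] [IsAlgClosed k] (p : ℕ) [Fact p.Prime] [CharP k p]
    (X : Scheme.{u}) (f : X ⟶ Spec (CommRingCat.of k)) [IsSeparated f] [LocallyOfFiniteType f] [QuasiCompact f]
    (hdim : topologicalKrullDim X ≤ 1) (F : EtCoh.Ab X)
    (hF : ∀ (U : X.Etale) (s : EtCoh.sect F U) (x : U.left), ∃ (V : X.Etale) (g : V ⟶ U),
      (∃ v : V.left, g.left.base v = x) ∧ ∃ n : ℕ, (p ^ n) • (F.obj.map g.op s) = 0)
    (q : ℕ) (hq : 1 < q) :
    Subsingleton (EtCoh.H X F q) := by
  rcases Nat.lt_or_ge q 3 with h | h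
  · obtain rfl : q = 2 := by omega
    exact Groth.Agent.CdCurve24.PTor.subsingleton_H_two p f hdim hF
  · obtain ⟨m, rfl⟩ : ∃ m, q = m + 3 := ⟨q - 3, by omega⟩
    refine Groth.Agent.CdCurve24.subsingleton_H_three f hdim F (fun U s x => ?_) m
    obtain ⟨V, g, hv, n, hn⟩ := hF U s x
    exact ⟨V, g, hv, isOfFinAddOrder_iff_nsmul_eq_zero.2 ⟨p ^ n, pow_pos (Fact.out : p.Prime).pos n, hn⟩⟩

end Groth.Agent.S0205
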