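import Groth.Statements.S0206
import Groth.Agent.CdCurve24.Basic
-- import your own Groth.Agent.* helpers here

set_option autoImplicit false
universe u
open CategoryTheory CategoryTheory.Limits AlgebraicGeometry
open Curves

set_option backward.isDefEq.respectTransparency.types false
namespace Groth.Agent.S0206

/-- For a finite type (not necessarily separated) scheme of dimension one over an algebraically closed
field, torsion abelian étale sheaves have no cohomology in degrees three and up. -/
theorem result (k : Type u) [Field k] [IsAlgClosed k] (X : Scheme.{u})
    (f : X ⟶ Spec (CommRingCat.of k)) [LocallyOfFiniteType f] [QuasiCompact f]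
    (hdim : topologicalKrullDim X = 1) (F : EtCoh.Ab X) (hF : EtCoh.IsTorsion F) (q : ℕ) (hq : 3 ≤ q) :
    Subsingleton (EtCoh.H X F q) := by
  obtain ⟨m, rfl⟩ : ∃ m, q = m + 3 := ⟨q - 3, by omega⟩
  exact Groth.Agent.CdCurve24.subsingleton_H_three f hdim.le F hF m

end Groth.Agent.S0206
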