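import Groth.Statements.S0218
import Mathlib.RingTheory.Jacobson.Ring

set_option autoImplicit false
universe u
open Curves

namespace Groth.Agent.S0218

/-- Over an algebraically closed field k, a commutative k-algebra with exactly two k-subalgebras is
isomorphic to k × k or to the dual numbers over k. -/
theorem result (k : Type u) [Field k] [IsAlgClosed k] (A : Type u) [CommRing A] [Algebra k A]
    (h : Nat.card (Subalgebra k A) = 2) :
    Nonempty (A ≃ₐ[k] (k × k)) ∨ Nonempty (A ≃ₐ[k] DualNumber k) := by
  classical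
  haveI : Finite (Subalgebra k A) := Nat.finite_of_card_ne_zero (by omega)
  obtain ⟨P, Q, hPQ, huniv⟩ := Nat.card_eq_two_iff.1 h
  have hbt : (⊥ : Subalgebra k A) ≠ ⊤ := by
    intro hbt
    haveI := subsingleton_of_bot_eq_top hbt
    exact hPQ (Subsingleton.elim _ _)
  have two : ∀ S : Subalgebra k A, S = ⊥ ∨ S = ⊤ := by
    intro S
    have hm : ∀ T : Subalgebra k A, T = P ∨ T = Q := fun T => by
      have : T ∈ ({P, Q} : Set (Subalgebra k A)) := by rw [huniv]; trivial
      exact this
    rcases hm S with rfl | rfl <;> rcases hm ⊥ with hb | hb <;> rcases hm ⊤ with ht | ht <;>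
      simp_all
  haveI : Nontrivial A := by
    refine not_subsingleton_iff_nontrivial.1 fun hs => hbt ?_
    ext x; simp [Subsingleton.elim x 0]
  have full : ∀ (S : Subalgebra k A) (x : A), x ∈ S → x ∉ (⊥ : Subalgebra k A) → S = ⊤ :=
    fun S x hx hx' => (two S).resolve_left fun hS => hx' (hS ▸ hx)
  obtain ⟨a, ha⟩ : ∃ a : A, a ∉ (⊥ : Subalgebra k A) := by
    by_contra! hcon
    exact hbt (eq_top_iff.2 fun x _ => hcon x).symm.symm
  obtain ⟨b, hb0, hbu⟩ : ∃ b : A, b ≠ 0 ∧ ¬IsUnit b := by
    by_contra! hcon
    letI : Field A := (IsField.mk ⟨0, 1, zero_ne_one⟩ mul_comm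
      (fun {x} hx => ⟨_, (hcon x hx).mul_val_inv⟩)).toField
    haveI : Algebra.FiniteType k A := ⟨⟨{a}, by
      rw [Finset.coe_singleton]
      exact full _ a (Algebra.self_mem_adjoin_singleton k a) ha⟩⟩
    haveI : Module.Finite k A := finite_of_finite_type_of_isJacobsonRing k A
    obtain ⟨c, hc⟩ := (IsAlgClosed.algebraMap_bijective_of_isIntegral (k := k) (K := A)).2 a
    exact ha (Algebra.mem_bot.2 ⟨c, hc⟩)
  have hbscal : ∀ x : A, ¬IsUnit x → x ≠ 0 → x ∉ (⊥ : Subalgebra k A) := by
    intro x hxu hx0 hx
    obtain ⟨c, rfl⟩ := Algebra.mem_bot.1 hx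
    refine hxu ((isUnit_iff_ne_zero.2 fun hc => hx0 ?_).map _)
    rw [hc, map_zero]
  by_cases hb2 : b * b = 0
  · right
    refine ⟨(AlgEquiv.ofBijective (DualNumber.lift ⟨(Algebra.ofId k A, b), hb2,
      fun _ => Commute.all _ _⟩) ⟨?_, ?_⟩).symm⟩
    · rw [injective_iff_map_eq_zero]
      intro z hz
      rw [DualNumber.lift_apply_apply] at hz
      simp only [Algebra.ofId_apply] at hz
      have h1 : algebraMap k A z.fst * b = 0 := by
        have := congrArg (· * b) hz
        simpa [add_mul, mul_assoc, hb2] using this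
      have hf : z.fst = 0 := by
        by_contra hf
        exact hb0 (((isUnit_iff_ne_zero.2 hf).map (algebraMap k A)).mul_right_eq_zero.1 h1)
      have hs : z.snd = 0 := by
        by_contra hs
        rw [hf, map_zero, zero_add] at hz
        exact hb0 (((isUnit_iff_ne_zero.2 hs).map (algebraMap k A)).mul_right_eq_zero.1 hz)
      exact TrivSqZeroExt.ext hf hs
    · intro x
      have := full (DualNumber.lift ⟨(Algebra.ofId k A, b), hb2, fun _ => Commute.all _ _⟩).range b
        ⟨DualNumber.eps, DualNumber.lift_apply_eps _⟩ (hbscal b hbu hb0)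
      exact (this.symm ▸ Algebra.mem_top : x ∈ _)
  · left
    let S : Subalgebra k A :=
      { carrier := {x | ∃ c : k, ∃ t : A, x = algebraMap k A c + t * (b * b)}
        mul_mem' := by
          rintro _ _ ⟨c, t, rfl⟩ ⟨c', t', rfl⟩
          exact ⟨c * c', algebraMap k A c * t' + t * algebraMap k A c' + t * t' * (b * b),
            by rw [map_mul]; ring⟩
        add_mem' := by
          rintro _ _ ⟨c, t, rfl⟩ ⟨c', t', rfl⟩
          exact ⟨c + c', t + t', by rw [map_add]; ring⟩
        algebraMap_mem' := fun c => ⟨c, 0, by simp⟩ }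
    have hSt : S = ⊤ := full S (b * b) ⟨0, 1, by simp⟩
      (hbscal _ (fun hu => hbu (isUnit_of_mul_isUnit_left hu)) hb2)
    obtain ⟨c, t, hct⟩ : b ∈ S := hSt ▸ Algebra.mem_top
    have hc0 : c = 0 := by
      by_contra hc
      refine hbu (isUnit_of_mul_isUnit_left (y := 1 - t * b) ?_)
      have : b * (1 - t * b) = algebraMap k A c := by linear_combination hct
      rw [this]
      exact (isUnit_iff_ne_zero.2 hc).map _
    rw [hc0, map_zero, zero_add] at hct
    set e : A := t * b with hedef
    have hee : e * e = e := by rw [hedef]; linear_combination (-t) * hct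
    have he0 : e ≠ 0 := fun h0 => hb0 (by rw [hedef] at h0; linear_combination hct + b * h0)
    have hen : ¬IsUnit e := fun hu => hbu (isUnit_of_mul_isUnit_right (hedef ▸ hu))
    have he1 : (1 : A) - e ≠ 0 := fun h1 => hen (by rw [(sub_eq_zero.1 h1).symm]; exact isUnit_one)
    let g : (k × k) →ₐ[k] A :=
      AlgHom.ofLinearMap
        ((Algebra.linearMap k A).smulRight (e : A) ∘ₗ LinearMap.fst k k k +
          (Algebra.linearMap k A).smulRight (1 - e : A) ∘ₗ LinearMap.snd k k k)
        (by simp)
        (by
          intro x y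
          simp only [LinearMap.add_apply, LinearMap.comp_apply, LinearMap.fst_apply,
            LinearMap.snd_apply, LinearMap.smulRight_apply, Algebra.linearMap_apply, smul_eq_mul,
            Prod.fst_mul, Prod.snd_mul, map_mul]
          linear_combination (-(algebraMap k A x.1 * algebraMap k A y.1) +
            algebraMap k A x.1 * algebraMap k A y.2 + algebraMap k A x.2 * algebraMap k A y.1 -
            algebraMap k A x.2 * algebraMap k A y.2) * hee)
    have hg : ∀ x : k × k, g x = algebraMap k A x.1 * e + algebraMap k A x.2 * (1 - e) :=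
      fun x => rfl
    refine ⟨(AlgEquiv.ofBijective g ⟨?_, ?_⟩).symm⟩
    · rw [injective_iff_map_eq_zero]
      intro x hx
      rw [hg] at hx
      have h1 : algebraMap k A x.1 * e = 0 := by
        linear_combination e * hx + (algebraMap k A x.2 - algebraMap k A x.1) * hee
      have h2 : algebraMap k A x.2 * (1 - e) = 0 := by linear_combination hx - h1
      refine Prod.ext ?_ ?_
      · by_contra hf
        exact he0 (((isUnit_iff_ne_zero.2 hf).map (algebraMap k A)).mul_right_eq_zero.1 h1)
      · by_contra hf
        exact he1 (((isUnit_iff_ne_zero.2 hf).map (algebraMap k A)).mul_right_eq_zero.1 h2)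
    · intro x
      have := full g.range e ⟨(1, 0), by change g (1, 0) = e; simp [hg]⟩ (hbscal e hen he0)
      exact (this.symm ▸ Algebra.mem_top : x ∈ _)

end Groth.Agent.S0218
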