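import Groth.Statements.S0219
import Groth.Agent.CurvesLib24.Basic
import Groth.Agent.CurveLib.Basic
import Mathlib.AlgebraicGeometry.ZariskisMainTheorem

set_option autoImplicit false
universe u
open CategoryTheory CategoryTheory.Limits AlgebraicGeometry TopologicalSpace
open Curves

namespace Groth.Agent.S0219

theorem isClosed_of_specializes {X : Scheme.{u}} (hdim : topologicalKrullDim X ≤ 1) {η x : X}
    (h1 : η ⤳ x) (hne : x ≠ η) : IsClosed ({x} : Set X) := by
  refine closure_subset_iff_isClosed.mp fun y hy ↦ ?_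
  have h2 : x ⤳ y := specializes_iff_mem_closure.mpr hy
  exact ((Groth.Agent.CurveLib.eq_or_eq_of_dim_one
    ((Groth.Agent.CurvesLib24.stalk_dim_le_topologicalKrullDim y).trans hdim) h1 h2).resolve_right hne).symm

theorem dim_eq_one {X : Scheme.{u}} (hdim : topologicalKrullDim X ≤ 1) {Z : Set X} (hZc : IsClosed Z) {η z : X}
    (hη : IsGenericPoint η Z) (hz : z ∈ Z) (hne : z ≠ η) : topologicalKrullDim Z = 1 := by
  refine le_antisymm ((topologicalKrullDim_subspace_le X Z).trans hdim) ?_
  refine Order.one_le_krullDim_iff.mpr ⟨⟨closure {(⟨z, hz⟩ : Z)}, isIrreducible_singleton.closure, isClosed_closure⟩,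
    ⟨closure {(⟨η, hη.mem⟩ : Z)}, isIrreducible_singleton.closure, isClosed_closure⟩, lt_of_le_of_ne ?_ ?_⟩
  · refine SetLike.coe_subset_coe.mp ((Specializes.closure_subset ?_))
    rw [← Topology.IsInducing.subtypeVal.specializes_iff]
    exact hη.specializes hz
  · intro e
    have he : closure {(⟨z, hz⟩ : Z)} = closure {(⟨η, hη.mem⟩ : Z)} := congrArg (fun W : TopologicalSpace.IrreducibleCloseds Z ↦ (W : Set Z)) e
    have h2 : Inseparable z η := Topology.IsInducing.subtypeVal.inseparable_iff.mpr (inseparable_iff_closure_eq.mpr he)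
    exact hne h2.eq


/-- A morphism over a field from a proper scheme of dimension at most one to a separated scheme, which
does not contract any one-dimensional irreducible component to a point, is finite. -/
theorem result (k : Type u) [Field k] (X Y : Scheme.{u}) (p : X ⟶ Spec (CommRingCat.of k)) (q : Y ⟶ Spec (CommRingCat.of k))
    [IsProper p] [IsSeparated q] (f : X ⟶ Y) (hf : f ≫ q = p) (hdim : topologicalKrullDim X ≤ 1)
    (h : ∀ Z ∈ irreducibleComponents (X : Type u), topologicalKrullDim Z = 1 → (f.base '' Z).Nontrivial) :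
    IsFinite f := by
  haveI : IsLocallyNoetherian X := LocallyOfFiniteType.isLocallyNoetherian p
  haveI : CompactSpace X := QuasiCompact.compactSpace_of_compactSpace p
  haveI : IsNoetherian X := {}
  haveI : IsProper (f ≫ q) := hf ▸ inferInstance
  haveI : IsProper f := IsProper.of_comp f q
  haveI : LocallyQuasiFinite f := by
    refine LocallyQuasiFinite.of_finite_preimage_singleton _ fun y ↦ ?_
    have hfin : (irreducibleComponents (X : Type u)).Finite := TopologicalSpace.NoetherianSpace.finite_irreducibleComponents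
    have hcov : f.base ⁻¹' {y} = ⋃ Z ∈ irreducibleComponents (X : Type u), f.base ⁻¹' {y} ∩ Z := by
      refine Set.Subset.antisymm (fun x hx ↦ Set.mem_biUnion (irreducibleComponent_mem_irreducibleComponents x)
        ⟨hx, mem_irreducibleComponent⟩) (Set.iUnion₂_subset fun Z _ ↦ Set.inter_subset_left)
    show (f.base ⁻¹' {y}).Finite
    rw [hcov]
    refine hfin.biUnion fun Z hZ ↦ ?_
    have hZc : IsClosed Z := isClosed_of_mem_irreducibleComponents Z hZ
    have hZi : IsIrreducible Z := hZ.1
    obtain ⟨η, hη⟩ := QuasiSober.sober hZi hZc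
    have hsp : ∀ z ∈ Z, η ⤳ z := fun z hz ↦ hη.specializes hz
    by_cases hy : IsClosed ({y} : Set Y)
    · have hA : IsClosed (f.base ⁻¹' {y} ∩ Z) := (hy.preimage f.base.hom.2).inter hZc
      obtain ⟨T, hT, hTc, hTi, he⟩ := TopologicalSpace.NoetherianSpace.exists_finite_set_isClosed_irreducible hA
      rw [he]
      refine Set.Finite.sUnion hT fun W hW ↦ ?_
      obtain ⟨ξ, hξ⟩ := QuasiSober.sober (hTi W hW) (hTc W hW)
      have hmem : ξ ∈ f.base ⁻¹' {y} ∩ Z := he ▸ Set.mem_sUnion.mpr ⟨W, hW, hξ.mem⟩
      by_cases hξη : ξ = η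
      · have hZsub : Z ⊆ f.base ⁻¹' {y} := fun z hz ↦
          (hsp z hz).mem_closed (hy.preimage f.base.hom.2) (hξη ▸ hmem.1)
        have hsingle : Z ⊆ {η} := fun z hz ↦ by
          by_contra hzη
          refine Set.not_nontrivial_iff.mpr ?_ (h Z hZ (dim_eq_one hdim hZc hη hz hzη))
          exact Set.subsingleton_of_subset_singleton (Set.image_subset_iff.mpr hZsub)
        refine (Set.finite_singleton η).subset fun z hz ↦ hsingle ?_
        exact ((he ▸ Set.mem_sUnion.mpr ⟨W, hW, hz⟩ : z ∈ f.base ⁻¹' {y} ∩ Z)).2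
      · have hcl : IsClosed ({ξ} : Set X) := isClosed_of_specializes hdim (hsp ξ hmem.2) hξη
        rw [← hξ.def, hcl.closure_eq]
        exact Set.finite_singleton ξ
    · refine (Set.finite_singleton η).subset fun x hx ↦ ?_
      by_contra hxη
      have hcl : IsClosed ({x} : Set X) := isClosed_of_specializes hdim (hsp x hx.2) hxη
      have := f.isClosedMap _ hcl
      rw [Set.image_singleton, show f x = y from hx.1] at this
      exact hy this
  exact IsFinite.of_isProper_of_locallyQuasiFinite f

end Groth.Agent.S0219
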