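import Groth.Statements.S4334
import Groth.Agent.GalEt.GmCurve
import Groth.Agent.GenSmoothLib.SmoothDim
import Groth.Agent.Unram17Lib.RelDim
-- import your own Groth.Agent.* helpers here

set_option autoImplicit false
universe u
open CategoryTheory CategoryTheory.Limits AlgebraicGeometry Opposite
open EtSix

namespace Groth.Agent.S4334

/-- The degree-two step in canonical form: let X be a smooth projective curve over an algebraically
closed field k (here: X integral, with a proper morphism X -> Spec k that is smooth of relative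
dimension 1), and n an integer that is nonzero in k, so that the n-th power map on G_m is an
epimorphism of sheaves on the small etale site (taken as the hypothesis h). Then the boundary map
H^1(X, G_m) -> H^2(X, μ_n) of the Kummer sequence is surjective, and its kernel is the image of
multiplication by n on H^1(X, G_m). -/
theorem result (k : Type u) [Field k] [IsAlgClosed k] {X : Scheme.{u}} [IsIntegral X]
    (f : X ⟶ Spec (CommRingCat.of k)) [IsProper f] [SmoothOfRelativeDimension 1 f]
    (n : ℕ) (hn : (n : k) ≠ 0) (h : Epi (EtCoh.powMap X n)) :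
    Function.Surjective (EtSix.kummerBoundary h 1) ∧
      (EtSix.kummerBoundary h 1).ker = (n • AddMonoidHom.id (EtCoh.H X (EtCoh.Gm X) 1)).range := by
  haveI : Smooth f := SmoothOfRelativeDimension.smooth 1 f
  have hdim : topologicalKrullDim X = 1 := by
    rw [← GenSmoothLib.localDim_eq_topologicalKrullDim f (genericPoint X)]
    exact (Unram17Lib.localDim_of_smoothOfRelativeDimension k f 1 (genericPoint X)).trans Nat.cast_one
  haveI := GalEt.subsingleton_H_Gm_curve f hdim 2 le_rfl
  have hS := EtSix.kummerShortExact h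
  have hpow : ∀ x : EtCoh.H X (EtCoh.Gm X) 1,
      x.comp (Abelian.Ext.mk₀ (EtCoh.powMap X n)) (add_zero 1) = n • x := fun x => by
    let φ : (EtCoh.Gm X ⟶ EtCoh.Gm X) →+ EtCoh.H X (EtCoh.Gm X) 1 :=
      AddMonoidHom.mk' (fun g => x.comp (Abelian.Ext.mk₀ g) (add_zero 1)) fun a b => by
        simp only [Abelian.Ext.mk₀_add, Abelian.Ext.comp_add]
    show φ (n • 𝟙 _) = _
    rw [map_nsmul]
    exact congrArg (n • ·) (Abelian.Ext.comp_mk₀_id x)
  refine ⟨fun y => ?_, AddSubgroup.ext fun x => ⟨fun hx => ?_, ?_⟩⟩
  · exact Abelian.Ext.covariant_sequence_exact₁ _ hS y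
      (Subsingleton.elim (α := EtCoh.H X (EtCoh.Gm X) 2) _ _) rfl
  · obtain ⟨z, hz⟩ := Abelian.Ext.covariant_sequence_exact₃ _ hS x rfl hx
    exact ⟨z, (hpow z).symm.trans hz⟩
  · rintro ⟨z, rfl⟩
    rw [AddMonoidHom.mem_ker]
    have e : (n • AddMonoidHom.id (EtCoh.H X (EtCoh.Gm X) 1)) z =
        z.comp (Abelian.Ext.mk₀ (EtSix.kummerSC X n).g) (add_zero 1) := (hpow z).symm
    rw [e]
    show (z.comp (Abelian.Ext.mk₀ (EtSix.kummerSC X n).g) (add_zero 1)).comp hS.extClass rfl = 0
    exact (Abelian.Ext.comp_assoc_of_second_deg_zero z _ hS.extClass _).trans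
      ((congrArg (fun t => Abelian.Ext.comp z t (rfl : 1 + 1 = 1 + 1)) hS.comp_extClass).trans
        (Abelian.Ext.comp_zero z _ _ _ _))

end Groth.Agent.S4334
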