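import Groth.Statements.S0225
import Groth.Agent.CdAffine9.NormalVanish
import Groth.Agent.S4334
-- import your own Groth.Agent.* helpers here

set_option autoImplicit false
set_option linter.all false
set_option backward.isDefEq.respectTransparency.types false
set_option backward.isDefEq.respectTransparency false
set_option synthInstance.maxHeartbeats 400000
set_option maxHeartbeats 1000000
universe u
open CategoryTheory CategoryTheory.Limits AlgebraicGeometry
open Curves

namespace Groth.Agent.S0225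

/-- For a smooth proper curve X over an algebraically closed field k and an integer n ≥ 1 invertible in
k, the étale cohomology group H²(X, ℤ/n) of the constant sheaf ℤ/n is isomorphic to ℤ/n. (The
published statement is for smooth projective curves; smooth proper is assumed here.) -/
theorem result (k : Type u) [Field k] [IsAlgClosed k] (X : Scheme.{u}) [X.Over (Spec (CommRingCat.of k))]
    (hX : Curve.IsSmoothProperCurve k X (X ↘ Spec (CommRingCat.of k)))
    (n : ℕ) (hn : 1 ≤ n) (hnk : (n : k) ≠ 0) :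
    Nonempty (EtCoh.H X (EtCoh.const X (ZMod n)) 2 ≃+ ZMod n) := by
  classical
  obtain ⟨hproper, hsm, hint, hdim⟩ := hX
  haveI := hproper
  haveI := hsm
  haveI := hint
  let f := X ↘ Spec (CommRingCat.of k)
  haveI : SmoothOfRelativeDimension 1 f := Groth.Agent.CdAffine9.smoothOfRelativeDimension_one f hdim
  haveI : IsLocallyNoetherian X := LocallyOfFiniteType.isLocallyNoetherian f
  haveI : CompactSpace X := QuasiCompact.compactSpace_of_compactSpace f
  haveI : NeZero n := ⟨by omega⟩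
  -- `μ_n` is constant
  let φ : k →+* Γ(X, ⊤) := f.appTop.hom.comp (Scheme.ΓSpecIso (CommRingCat.of k)).inv.hom
  have hu : IsUnit (n : Γ(X, ⊤)) := by
    have := (isUnit_iff_ne_zero.2 hnk).map φ
    rwa [map_natCast] at this
  have hepi : Epi (EtCoh.powMap X n) := Groth.Agent.HenselLib.Kummer.epi_powMap n hu
  haveI : NeZero (n : k) := ⟨hnk⟩
  obtain ⟨ζ, hζ⟩ := HasEnoughRootsOfUnity.exists_primitiveRoot k n
  let z : Γ(X, ⊤)ˣ := Units.map φ.toMonoidHom (hζ.isUnit (by omega)).unit
  have hz : z ^ n = 1 := Units.ext (by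
    show φ ζ ^ n = 1
    rw [← map_pow, hζ.pow_eq_one, map_one])
  have hc : Polynomial.aeval (z : Γ(X, ⊤)) (Polynomial.cyclotomic n ℤ) = 0 := by
    show Polynomial.aeval (φ ζ) (Polynomial.cyclotomic n ℤ) = 0
    rw [Polynomial.aeval_def, show algebraMap ℤ Γ(X, ⊤) = φ.comp (Int.castRingHom k) from RingHom.ext_int _ _,
      ← Polynomial.hom_eval₂, ← Polynomial.eval_map, Polynomial.map_cyclotomic_int,
      (hζ.isRoot_cyclotomic (by omega)).eq_zero, map_zero]
  obtain ⟨i⟩ := Groth.Agent.HenselLib.Kummer.nonempty_iso n hn z hz hu hc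
  refine (?_ : Nonempty (EtCoh.H X (EtCoh.mu X n) 2 ≃+ ZMod n)).map fun e =>
    ((EtCoh.HF X 2).mapIso i).symm.addCommGroupIsoToAddEquiv.trans e
  -- the boundary of the point class
  obtain ⟨hsurj, hker⟩ := Groth.Agent.S4334.result k f n hnk hepi
  obtain ⟨law⟩ := Groth.Agent.PicH127.nonempty_law X
  letI := law
  have e := (Groth.Agent.CAlgH3.EtPic.nonempty_pic_addEquiv X).some
  obtain ⟨P, hP⟩ : ∃ P : X, IsClosed ({P} : Set X) :=
    (IsClosed.exists_closed_singleton isClosed_univ Set.univ_nonempty).imp fun y hy => hy.2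
  haveI : Smooth ((⊤ : X.Opens).ι ≫ f) := inferInstance
  obtain ⟨_, _⟩ := Groth.Agent.Models7.isDVR_of_smooth_chart f hdim.le
    (Groth.Agent.CdAffine9.not_isClosed_genericPoints X hdim) ⊤ (x := P) trivial hP
  have hI := Groth.Agent.CurveRR24.isInvertible_ptIdeal_of_dvr hP
  let p : PicLoc.PicSet X := ⟨(Groth.Agent.PicLib.PicM.of hI).val, (Groth.Agent.PicLib.PicM.of hI).prop⟩
  let b := EtSix.kummerBoundary hepi 1
  let w : EtCoh.H X (EtCoh.mu X n) 2 := b (e (Additive.ofMul p))
  have hw : n • w = 0 := by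
    rw [← map_nsmul]
    exact AddMonoidHom.mem_ker.1 (hker ▸ ⟨e (Additive.ofMul p), rfl⟩)
  let Ψ : ZMod n →+ EtCoh.H X (EtCoh.mu X n) 2 :=
    ZMod.lift n ⟨zmultiplesHom _ w, (natCast_zsmul w n).trans hw⟩
  refine ⟨(AddEquiv.ofBijective Ψ ⟨?_, fun y => ?_⟩).symm⟩
  · refine (ZMod.lift_injective n).2 fun m hm => ?_
    have hm' : b (e (Additive.ofMul (p ^ m))) = 0 := by
      rw [ofMul_zpow, map_zsmul, map_zsmul]
      exact hm
    obtain ⟨c, hc⟩ := (hker ▸ AddMonoidHom.mem_ker.2 hm' : e (Additive.ofMul (p ^ m)) ∈ _)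
    obtain ⟨c, rfl⟩ := e.surjective c
    have hc' : e (n • c) = e (Additive.ofMul (p ^ m)) := (map_nsmul e n c).trans hc
    have hpc : p ^ m = c.toMul ^ n := by
      have h := congrArg Additive.toMul (e.injective hc')
      rw [toMul_nsmul, toMul_ofMul] at h
      exact h.symm
    rw [ZMod.intCast_zmod_eq_zero_iff_dvd]
    let deg : PicLoc.PicSet X →* Multiplicative ℤ :=
      MonoidHom.mk' (fun a => Multiplicative.ofAdd (Curv2.deg k X (Groth.Agent.PicLib.PicM.exists_eq_of
        (Groth.Agent.CdAffine9.toM a)).choose 1)) fun a a' => by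
        obtain ⟨hA, hA'⟩ := (Groth.Agent.PicLib.PicM.exists_eq_of (Groth.Agent.CdAffine9.toM a)).choose_spec
        obtain ⟨hB, hB'⟩ := (Groth.Agent.PicLib.PicM.exists_eq_of (Groth.Agent.CdAffine9.toM a')).choose_spec
        obtain ⟨hC, hC'⟩ := (Groth.Agent.PicLib.PicM.exists_eq_of (Groth.Agent.CdAffine9.toM (a * a'))).choose_spec
        have hC'' := ((congrArg₂ (· * ·) hA' hB').symm.trans (map_mul Groth.Agent.CdAffine9.toM a a').symm).trans hC'
        rw [Groth.Agent.PicLib.PicM.of_mul] at hC''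
        obtain ⟨ψ⟩ := (Groth.Agent.PicLib.PicM.of_eq_iff _ _).1 hC''
        rw [← ofAdd_add, ← Groth.Agent.CurveRR24.deg_tensor k hdim.le hA hB, Groth.Agent.CurveRR24.deg_congr k ψ]
    have hdegp : (deg p).toAdd = -1 := by
      obtain ⟨hA, hA'⟩ := (Groth.Agent.PicLib.PicM.exists_eq_of (Groth.Agent.CdAffine9.toM p)).choose_spec
      have h1 : Groth.Agent.PicLib.PicM.of hI = Groth.Agent.PicLib.PicM.of hA := hA'
      obtain ⟨ψ⟩ := (Groth.Agent.PicLib.PicM.of_eq_iff _ _).1 h1
      show Curv2.deg k X _ 1 = -1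
      rw [← Groth.Agent.CurveRR24.deg_congr k ψ]
      let _ := Curv2.resAlgebra k X P
      rw [Groth.Agent.CurveRR24.deg_ptIdeal k hP, Groth.Agent.CurveRR24.finrank_resField k hP]
      rfl
    have h := congrArg (fun a => (deg a).toAdd) hpc
    simp only [map_zpow, map_pow, toAdd_zpow, toAdd_pow, hdegp, smul_eq_mul, nsmul_eq_mul] at h
    exact ⟨-(deg c.toMul).toAdd, by linarith⟩
  · obtain ⟨x, rfl⟩ := hsurj y
    obtain ⟨c, rfl⟩ := e.surjective x
    obtain ⟨d, a, hd⟩ := Groth.Agent.CdAffine9.exists_pow_mul_point X hdim n hnk hP hI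
      (Groth.Agent.CdAffine9.toM c.toMul)
    refine ⟨(a : ℕ), ?_⟩
    let d' : PicLoc.PicSet X := ⟨d.val, d.prop⟩
    have hcd : c.toMul = d' ^ n * p ^ a := Subtype.ext (congrArg Groth.Agent.PicLib.PicM.val (hd.trans
      (show d ^ n * Groth.Agent.PicLib.PicM.of hI ^ a = Groth.Agent.CdAffine9.toM (d' ^ n * p ^ a) by
        rw [map_mul, map_pow, map_pow]; rfl)))
    have h0 : b (e (n • Additive.ofMul d')) = 0 := by
      rw [map_nsmul e]
      exact AddMonoidHom.mem_ker.1 (hker ▸ ⟨e (Additive.ofMul d'), rfl⟩)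
    rw [← ofMul_toMul c, hcd, ofMul_mul, ofMul_pow, ofMul_pow, map_add, map_add, h0, zero_add, map_nsmul, map_nsmul]
    show ZMod.lift n _ ((a : ℕ) : ZMod n) = _
    exact (congrArg (ZMod.lift n _) (Int.cast_natCast a).symm).trans ((ZMod.lift_coe n _ (a : ℤ)).trans (natCast_zsmul w a))

end Groth.Agent.S0225
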