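import Groth.Statements.S0226
import Mathlib
import Groth.Agent.QReg6.Regular
import Groth.Agent.EGA41Lib.QuasiRegular
import Groth.Agent.CAlgH3.Factorial
import Groth.Agent.DimLib.Algebra

set_option linter.all false

set_option autoImplicit false
universe u
open Curves

open scoped TensorProduct

namespace Groth.Agent.S0226

/-- In a regular local ring of dimension two, an ideal inside the maximal ideal with reduced quotient is
zero, the maximal ideal, or principal. -/
theorem result (A : Type u) [CommRing A] [IsRegularLocalRing A] (hdim : ringKrullDim A = 2)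
    (I : Ideal A) (hI : I ≤ IsLocalRing.maximalIdeal A) [IsReduced (A ⧸ I)] :
    I = ⊥ ∨ I = IsLocalRing.maximalIdeal A ∨ ∃ f ∈ IsLocalRing.maximalIdeal A, f ≠ 0 ∧ I = Ideal.span {f} := by
  classical
  haveI := Groth.Agent.CAlgH3.isDomain_of_isRegularLocalRing A
  haveI := Groth.Agent.CAlgH3.ufm_of_regular A
  set m := IsLocalRing.maximalIdeal A
  have hrad : I.radical = I := ((Ideal.isRadical_iff_quotient_reduced I).2 ‹_›).radical
  have hfin := I.finite_minimalPrimes_of_isNoetherianRing
  have hInf : sInf I.minimalPrimes = I := by rw [Ideal.sInf_minimalPrimes, hrad]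
  by_cases hm : m ∈ I.minimalPrimes
  · refine Or.inr (Or.inl (le_antisymm hI ?_))
    rw [← hInf]
    refine le_sInf fun P hP => ?_
    exact hm.2 ⟨hP.isPrime, hP.1.2⟩ (IsLocalRing.le_maximalIdeal hP.isPrime.ne_top)
  by_cases hb : (⊥ : Ideal A) ∈ I.minimalPrimes
  · exact Or.inl (le_bot_iff.1 hb.1.2)
  have hpr : ∀ P ∈ I.minimalPrimes, ∃ g : A, Prime g ∧ P = Ideal.span {g} := by
    intro P hP
    haveI := hP.isPrime
    have hlt : P < m := lt_of_le_of_ne (IsLocalRing.le_maximalIdeal hP.isPrime.ne_top) fun e => hm (e ▸ hP)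
    have h2 : P.height < m.height := Ideal.height_strict_mono_of_isPrime hlt
    have hm2 : m.height = 2 := by
      have := IsLocalRing.maximalIdeal_height_eq_ringKrullDim (R := A)
      rw [hdim] at this
      exact WithBot.coe_inj.1 this
    rw [hm2] at h2
    have h1 : P.height ≤ 1 := Order.le_of_lt_succ (by simpa [Order.succ_eq_add_one, show (1 : ℕ∞) + 1 = 2 from rfl] using h2)
    obtain ⟨g, hg⟩ := Groth.Agent.CAlgH3.isPrincipal_of_height_le_one P h1
    have hg' : P = Ideal.span {g} := hg
    have hg0 : g ≠ 0 := fun e => hb (by rw [e, Ideal.span_singleton_eq_bot.2 rfl] at hg'; exact hg' ▸ hP)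
    exact ⟨g, (Ideal.span_singleton_prime hg0).1 (hg' ▸ hP.isPrime), hg'⟩
  choose g hg hgP using hpr
  have key : ∀ s : Finset (Ideal A), (∀ P ∈ s, P ∈ I.minimalPrimes) → ∃ f : A, f ≠ 0 ∧ s.inf id = Ideal.span {f} ∧
      ∀ q : A, Prime q → q ∣ f → Ideal.span {q} ∈ s := by
    intro s
    induction s using Finset.induction_on with
    | empty => exact fun _ => ⟨1, one_ne_zero, by simp, fun q hq h => absurd (isUnit_of_dvd_one h) hq.not_isUnit⟩
    | @insert P s hPs ih =>
      intro hs
      obtain ⟨f, hf0, hf, hfq⟩ := ih fun Q hQ => hs Q (Finset.mem_insert_of_mem hQ)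
      have hP := hs P (Finset.mem_insert_self P s)
      have hndvd : ¬ g P hP ∣ f := fun h => hPs (by rw [hgP P hP]; exact hfq _ (hg P hP) h)
      refine ⟨g P hP * f, mul_ne_zero (hg P hP).ne_zero hf0, ?_, fun q hq h => ?_⟩
      · rw [Finset.inf_insert, id_eq, hf]
        conv_lhs => rw [hgP P hP]
        refine le_antisymm (fun x hx => ?_) ?_
        · obtain ⟨hx1, hx2⟩ := Submodule.mem_inf.1 hx
          obtain ⟨y, rfl⟩ := Ideal.mem_span_singleton.1 hx2
          obtain ⟨z, rfl⟩ := ((hg P hP).dvd_or_dvd (Ideal.mem_span_singleton.1 hx1)).resolve_left hndvd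
          exact Ideal.mem_span_singleton.2 ⟨z, by ring⟩
        · exact le_inf (Ideal.span_singleton_le_span_singleton.2 (dvd_mul_right _ _)) (Ideal.span_singleton_le_span_singleton.2 (dvd_mul_left _ _))
      · rcases hq.dvd_or_dvd h with h | h
        · rw [Ideal.span_singleton_eq_span_singleton.2 (hq.associated_of_dvd (hg P hP) h), ← hgP P hP]
          exact Finset.mem_insert_self _ _
        · exact Finset.mem_insert_of_mem (hfq q hq h)
  obtain ⟨f, hf0, hf, -⟩ := key hfin.toFinset fun P hP => hfin.mem_toFinset.1 hP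
  rw [Finset.inf_id_eq_sInf, Set.Finite.coe_toFinset, hInf] at hf
  exact Or.inr (Or.inr ⟨f, hI (hf ▸ Ideal.mem_span_singleton_self f), hf0, hf⟩)

end Groth.Agent.S0226
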