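import Groth.Statements.S0237
import Groth.Agent.FEtLib.Section
import Groth.Prelude.Def_FEt
import Mathlib.AlgebraicGeometry.Fiber

set_option autoImplicit false
universe u
open Pi1

namespace Groth.Agent.S0237
open CategoryTheory CategoryTheory.Limits AlgebraicGeometry

open AlgebraicGeometry CategoryTheory in
/-- If a morphism of schemes has dense image, pulling back finite etale covers along it is faithful. -/
theorem result {X Y : Scheme.{u}} (f : X ⟶ Y)
    (h : DenseRange f.base) : (FEt.restrict f).Faithful := by
  refine ⟨fun {V W} a b hab => ?_⟩
  haveI := W.prop.1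
  haveI := W.prop.2
  haveI := V.prop.2
  have h1 := congrArg (fun t => t.left ≫ pullback.fst W.hom f) hab
  simp only [FEt.restrict, MorphismProperty.Over.pullback_map_left, pullback.lift_fst] at h1
  apply MorphismProperty.Over.Hom.ext
  refine Groth.Agent.FEtLib.eq_of_denseRange W.hom a.left b.left (pullback.fst V.hom f) ?_
    ((pullback.lift_fst _ _ _).symm.trans (h1.trans (pullback.lift_fst _ _ _)))
    ((MorphismProperty.Over.w a).trans (MorphismProperty.Over.w b).symm)
  show Dense (Set.range (pullback.fst V.hom f))
  rw [Scheme.Pullback.range_fst]
  exact Dense.preimage h V.hom.isOpenMap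

end Groth.Agent.S0237
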