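import Groth.Statements.S0241
import Groth.Agent.FEtStein.ProperHensel

set_option backward.isDefEq.respectTransparency.types false
set_option backward.isDefEq.respectTransparency false
-- import your own Groth.Agent.* helpers here

set_option autoImplicit false
universe u
open Pi1

namespace Groth.Agent.S0241

open AlgebraicGeometry CategoryTheory CategoryTheory.Limits in
/-- Let (A, I) be a henselian pair and X a proper A-scheme. Restricting finite etale covers of X to X
x_A Spec(A/I) is an equivalence of categories. -/
theorem result (A : Type u) [CommRing A] (I : Ideal A) [HenselianRing A I] {X : Scheme.{u}}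
    (f : X ⟶ Spec (CommRingCat.of A)) [IsProper f] :
    (FEt.restrict (pullback.fst f (Spec.map (CommRingCat.ofHom (Ideal.Quotient.mk I))))).IsEquivalence := by
  exact Groth.Agent.FEtStein.restrict_isEquivalence_henselian I f

end Groth.Agent.S0241
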