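import Groth.Statements.S0243
import Groth.Agent.FEtLib.Section
import Groth.Prelude.Def_FEt
import Mathlib.AlgebraicGeometry.Fiber

set_option autoImplicit false
universe u
open Pi1

namespace Groth.Agent.S0243
open CategoryTheory CategoryTheory.Limits AlgebraicGeometry

open AlgebraicGeometry CategoryTheory CategoryTheory.Limits in
/-- If a closed subscheme meets every connected component of the ambient scheme, restricting finite
etale covers to it is a faithful functor. -/
theorem result {X Y : Scheme.{u}} (i : Y ⟶ X) [IsClosedImmersion i]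
    (h : ∀ x : X, (connectedComponent x ∩ Set.range i.base).Nonempty) :
    (FEt.restrict i).Faithful := by
  refine ⟨fun {V W} a b hab => ?_⟩
  haveI := W.prop.1
  haveI := W.prop.2
  haveI := V.prop.1
  haveI := V.prop.2
  have h1 := congrArg (fun t => t.left ≫ pullback.fst W.hom i) hab
  simp only [FEt.restrict, MorphismProperty.Over.pullback_map_left, pullback.lift_fst] at h1
  apply MorphismProperty.Over.Hom.ext
  have w := (MorphismProperty.Over.w a).trans (MorphismProperty.Over.w b).symm
  set U := Groth.Agent.FEtLib.eqLocus W.hom a.left b.left w with hU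
  refine Groth.Agent.FEtLib.eq_of_eqLocus_eq_top W.hom a.left b.left w (top_unique fun v _ => ?_)
  by_contra hv
  have hclopen : IsClopen (V.hom '' (U : Set V.left)ᶜ) :=
    ⟨V.hom.isClosedMap _ U.isOpen.isClosed_compl,
      V.hom.isOpenMap _ (Groth.Agent.FEtLib.isClosed_eqLocus W.hom a.left b.left w).isOpen_compl⟩
  obtain ⟨x, hx, hxi⟩ := h (V.hom v)
  obtain ⟨z, hz, rfl⟩ := hclopen.connectedComponent_subset ⟨v, hv, rfl⟩ hx
  refine hz (Groth.Agent.FEtLib.range_subset W.hom a.left b.left w (pullback.fst V.hom i)
    ((pullback.lift_fst _ _ _).symm.trans (h1.trans (pullback.lift_fst _ _ _))) ?_)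
  rw [Scheme.Pullback.range_fst]
  exact hxi

end Groth.Agent.S0243
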