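import Groth.Statements.S0244
import Groth.Agent.FEtFF.Generic

set_option autoImplicit false
universe u
open Pi1

namespace Groth.Agent.S0244

open AlgebraicGeometry CategoryTheory CategoryTheory.Limits in
/-- Let X be a normal integral scheme and U ⊆ X a nonempty open subscheme. Then the restriction functor
from finite étale covers of X to finite étale covers of U is full and faithful. -/
theorem result {X : Scheme.{u}} [IsIntegral X] (hX : Pi1.IsNormalScheme X) (U : X.Opens)
    (hU : (U : Set X).Nonempty) : (FEt.restrict U.ι).Full ∧ (FEt.restrict U.ι).Faithful := by
  exact Groth.Agent.FEtFF.restrict_open hX U hU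

end Groth.Agent.S0244
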