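import Groth.Statements.S0253
import Groth.Agent.SepClosed.Normal
import Mathlib.RingTheory.Localization.LocalizationLocalization
import Mathlib.RingTheory.LocalRing.ResidueField.Ideal

set_option autoImplicit false
universe u
open Pi1

namespace Groth.Agent.S0253

open AlgebraicGeometry CategoryTheory CategoryTheory.Limits in
/-- Let A be an integrally closed domain whose fraction field is separably closed. Then the residue
field at any nonzero prime ideal of A is algebraically closed. -/
theorem result (A : Type u) [CommRing A] [IsDomain A] [IsIntegrallyClosed A] [IsSepClosed (FractionRing A)]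
    (p : Ideal A) [p.IsPrime] (hp : p ≠ ⊥) : IsAlgClosed p.ResidueField := by
  let B := Localization.AtPrime p
  have hle : p.primeCompl ≤ nonZeroDivisors A := p.primeCompl_le_nonZeroDivisors
  haveI : IsDomain B := IsLocalization.isDomain_localization hle
  haveI : IsIntegrallyClosed B := isIntegrallyClosed_of_isLocalization B p.primeCompl hle
  letI : Algebra B (FractionRing A) := (IsLocalization.lift (M := p.primeCompl) (g := algebraMap A (FractionRing A))
    (fun y => IsLocalization.map_units (FractionRing A) (⟨y.1, hle y.2⟩ : nonZeroDivisors A))).toAlgebra
  haveI : IsScalarTower A B (FractionRing A) := IsScalarTower.of_algebraMap_eq (fun x => (IsLocalization.lift_eq _ x).symm)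
  haveI : IsFractionRing B (FractionRing A) := IsFractionRing.isFractionRing_of_isDomain_of_isLocalization p.primeCompl B (FractionRing A)
  refine Groth.Agent.SepClosed.isAlgClosed_residueField (A := B) (FractionRing A) ?_
  rw [← Localization.AtPrime.map_eq_maximalIdeal]
  obtain ⟨x, hx, hx0⟩ := Submodule.exists_mem_ne_zero_of_ne_bot hp
  intro h
  apply hx0
  have : algebraMap A B x ∈ (⊥ : Ideal B) := h ▸ Ideal.mem_map_of_mem _ hx
  exact (map_eq_zero_iff _ (IsLocalization.injective B hle)).mp this

end Groth.Agent.S0253
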