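import Groth.Statements.S0255
import Groth.Agent.FEtFF.PurityLocal
-- import your own Groth.Agent.* helpers here

set_option backward.isDefEq.respectTransparency.types false
set_option backward.isDefEq.respectTransparency false
set_option autoImplicit false
universe u
open Pi1

namespace Groth.Agent.S0255

open AlgebraicGeometry CategoryTheory CategoryTheory.Limits in
/-- Let f be a morphism locally of finite type between locally Noetherian schemes and x a point with
image y, such that the local ring at x is a normal domain, the local ring at y is regular of the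
same dimension, this dimension is at least 1, f is quasi-finite at x, and f is unramified at every
point of dimension one specializing to x. Then f is etale on an open neighbourhood of x. -/
theorem result {X Y : Scheme.{u}} (f : X ⟶ Y) [LocallyOfFiniteType f] [IsLocallyNoetherian X]
    [IsLocallyNoetherian Y] (x : X)
    (hx : IsDomain (X.presheaf.stalk x) ∧ IsIntegrallyClosed (X.presheaf.stalk x))
    (hy : IsRegularLocalRing (Y.presheaf.stalk (f.base x)))
    (hq : f.QuasiFiniteAt x)
    (hdim : ringKrullDim (X.presheaf.stalk x) = ringKrullDim (Y.presheaf.stalk (f.base x)))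
    (hdim1 : (1 : WithBot ℕ∞) ≤ ringKrullDim (X.presheaf.stalk x))
    (hunr : ∀ x' : X, x' ⤳ x → ringKrullDim (X.presheaf.stalk x') = 1 →
      (f.stalkMap x').hom.FormallyUnramified) :
    ∃ U : X.Opens, x ∈ U ∧ Etale (U.ι ≫ f) := by
  obtain ⟨U, hU, hxU, -⟩ := exists_isAffineOpen_mem_and_subset (X := Y) (x := f.base x) (U := ⊤) trivial
  obtain ⟨V, hV, hxV, hle⟩ := exists_isAffineOpen_mem_and_subset (X := X) (x := x) (U := f ⁻¹ᵁ U) hxU
  replace hle : V ≤ f ⁻¹ᵁ U := hle
  let A := Γ(Y, U)
  let B := Γ(X, V)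
  haveI : IsNoetherianRing A := IsLocallyNoetherian.component_noetherian ⟨U, hU⟩
  have hqf := hq.quasiFiniteAt hV hU hle hxV
  have hft := f.finiteType_appLE hU hV hle
  letI := (f.appLE U V hle).hom.toAlgebra
  haveI : Algebra.FiniteType A B := hft
  let q := (hV.primeIdealOf ⟨x, hxV⟩).asIdeal
  haveI : Algebra.QuasiFiniteAt A q := hqf
  obtain ⟨⟨ex⟩, ⟨ey⟩, -⟩ := Groth.Agent.FEtFF.PurityLocal.stalk_transfer f hU hV hle x hxV
  haveI := hx.1
  haveI := hx.2
  haveI := hy
  have hd : ringKrullDim (Localization.AtPrime q) =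
      ringKrullDim (Localization.AtPrime (q.comap (algebraMap A B))) := by
    rw [← ringKrullDim_eq_of_ringEquiv ex, ← ringKrullDim_eq_of_ringEquiv ey]; exact hdim
  haveI : Algebra.IsEtaleAt A q := Groth.Agent.FEtFF.PurityLocal.isEtaleAt_of_quasiFiniteAt q
    (IsRegularLocalRing.of_ringEquiv ey) ⟨ex.symm.toMulEquiv.isDomain _, IsIntegrallyClosed.of_equiv ex⟩ hd
    (ringKrullDim_eq_of_ringEquiv ex ▸ hdim1) (fun q' _ hle' hq' => by
      let Q : PrimeSpectrum B := ⟨q', inferInstance⟩
      have hxV' : hV.fromSpec Q ∈ V := by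
        rw [← SetLike.mem_coe, ← hV.range_fromSpec]; exact ⟨_, rfl⟩
      have hQ : hV.primeIdealOf ⟨hV.fromSpec Q, hxV'⟩ = Q :=
        hV.fromSpec.isOpenEmbedding.injective (hV.fromSpec_primeIdealOf ⟨hV.fromSpec Q, hxV'⟩)
      obtain ⟨⟨ex'⟩, -, hu⟩ := Groth.Agent.FEtFF.PurityLocal.stalk_transfer f hU hV hle (hV.fromSpec Q) hxV'
      have hsp : hV.fromSpec Q ⤳ x := by
        have := ((PrimeSpectrum.le_iff_specializes Q (hV.primeIdealOf ⟨x, hxV⟩)).1 hle').map hV.fromSpec.continuous
        rwa [hV.fromSpec_primeIdealOf ⟨x, hxV⟩] at this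
      have hdimQ : ringKrullDim (X.presheaf.stalk (hV.fromSpec Q)) = 1 := by
        rw [ringKrullDim_eq_of_ringEquiv ex', IsLocalization.AtPrime.ringKrullDim_eq_height (hV.primeIdealOf ⟨hV.fromSpec Q, hxV'⟩).asIdeal (Localization.AtPrime (hV.primeIdealOf ⟨hV.fromSpec Q, hxV'⟩).asIdeal), hQ]
        exact_mod_cast hq'
      have h2 := hu (hunr _ hsp hdimQ)
      convert h2 using 1
      exact (congrArg PrimeSpectrum.asIdeal hQ).symm)
  haveI : Algebra.FinitePresentation A B := Algebra.FinitePresentation.of_finiteType.1 inferInstance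
  obtain ⟨r, hr, hre⟩ := Algebra.exists_etale_of_isEtaleAt (R := A) q
  have hW : X.basicOpen r ≤ f ⁻¹ᵁ U := (X.basicOpen_le r).trans hle
  refine ⟨X.basicOpen r, ?_, ?_⟩
  · have h1 : hV.primeIdealOf ⟨x, hxV⟩ ∈ hV.fromSpec ⁻¹ᵁ X.basicOpen r := by
      rw [hV.fromSpec_preimage_basicOpen]; exact hr
    have h2 : hV.fromSpec (hV.primeIdealOf ⟨x, hxV⟩) ∈ X.basicOpen r := h1
    rwa [hV.fromSpec_primeIdealOf ⟨x, hxV⟩] at h2
  haveI := hV.isLocalization_basicOpen r
  have he : (f.appLE U (X.basicOpen r) hW).hom.Etale := by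
    letI := (f.appLE U (X.basicOpen r) hW).hom.toAlgebra
    haveI : IsScalarTower A B Γ(X, X.basicOpen r) := IsScalarTower.of_algebraMap_eq fun a =>
      (ConcreteCategory.congr_hom (Scheme.Hom.appLE_map f hle (homOfLE (X.basicOpen_le r)).op) a).symm
    exact RingHom.etale_algebraMap.2 (Algebra.Etale.of_equiv
      ((IsLocalization.algEquiv (Submonoid.powers r) (Localization.Away r) Γ(X, X.basicOpen r)).restrictScalars A))
  haveI : IsAffine (X.basicOpen r).toScheme := hV.basicOpen r
  haveI : IsAffine U.toScheme := hU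
  have : Etale (f.resLE U (X.basicOpen r) hW) := by
    rw [HasRingHomProperty.iff_of_isAffine (P := @Etale)]
    exact (RingHom.Etale.respectsIso.arrow_mk_iso_iff (arrowResLEAppIso f U (X.basicOpen r) hW)).2 he
  rw [← Scheme.Hom.resLE_comp_ι f hW]
  infer_instance

end Groth.Agent.S0255
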