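import Groth.Statements.S0257
import Groth.Agent.PurityFlat.Local
import Groth.Agent.FlatLocal.StalkCrit
import Mathlib.AlgebraicGeometry.Morphisms.QuasiFinite
import Groth.Prelude

set_option autoImplicit false
universe u
open Pi1

namespace Groth.Agent.S0257
open CategoryTheory AlgebraicGeometry
set_option backward.isDefEq.respectTransparency.types false
set_option linter.style.haveILetI false

open AlgebraicGeometry CategoryTheory CategoryTheory.Limits in
/-- Let f be flat and locally of finite type between locally Noetherian schemes, x a point of X which is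
not a generic point of an irreducible component (its local ring has dimension at least 1), with f
quasi-finite at x and unramified at all points of dimension one specializing to x. Then f is etale
on an open neighbourhood of x. -/
theorem result {X Y : Scheme.{u}} (f : X ⟶ Y) [LocallyOfFiniteType f] [Flat f] [IsLocallyNoetherian X]
    [IsLocallyNoetherian Y] (x : X) (hq : f.QuasiFiniteAt x)
    (hdim1 : (1 : WithBot ℕ∞) ≤ ringKrullDim (X.presheaf.stalk x))
    (hunr : ∀ x' : X, x' ⤳ x → ringKrullDim (X.presheaf.stalk x') = 1 →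
      (f.stalkMap x').hom.FormallyUnramified) :
    ∃ U : X.Opens, x ∈ U ∧ Etale (U.ι ≫ f) := by
  haveI : LocallyOfFinitePresentation f := inferInstance
  refine (Groth.Agent.FlatLocal.etale_nhd_iff f x).mpr ⟨Flat.stalkMap f x, ?_⟩
  obtain ⟨W, hW, V, hV, hxW, hxV, e⟩ := Groth.Agent.FlatLocal.exists_chart f x
  haveI : IsNoetherianRing Γ(Y, W) := IsLocallyNoetherian.component_noetherian (X := Y) ⟨W, hW⟩
  have hft : (f.appLE W V e).hom.FiniteType :=
    HasRingHomProperty.appLE @LocallyOfFiniteType f inferInstance ⟨W, hW⟩ ⟨V, hV⟩ e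
  have hfl : (f.appLE W V e).hom.Flat :=
    HasRingHomProperty.appLE @Flat f inferInstance ⟨W, hW⟩ ⟨V, hV⟩ e
  have hqa : (f.appLE W V e).hom.QuasiFiniteAt (hV.primeIdealOf ⟨x, hxV⟩).asIdeal :=
    hq.quasiFiniteAt hV hW e hxV
  letI := (f.appLE W V e).hom.toAlgebra
  haveI : Algebra.FiniteType Γ(Y, W) Γ(X, V) := hft
  haveI : Module.Flat Γ(Y, W) Γ(X, V) := hfl
  let q := (hV.primeIdealOf ⟨x, hxV⟩).asIdeal
  haveI : Algebra.QuasiFiniteAt Γ(Y, W) q := hqa
  have hq1 : (1 : ℕ∞) ≤ q.height := by
    letI : Algebra Γ(X, V) (X.presheaf.stalk x) := TopCat.Presheaf.algebra_section_stalk X.presheaf ⟨x, hxV⟩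
    haveI : IsLocalization.AtPrime (X.presheaf.stalk x) q := hV.isLocalization_stalk ⟨x, hxV⟩
    rw [IsLocalization.AtPrime.ringKrullDim_eq_height q (X.presheaf.stalk x)] at hdim1
    exact_mod_cast hdim1
  have hu : Algebra.IsUnramifiedAt Γ(Y, W) q := by
    refine Groth.Agent.PurityFlat.isUnramifiedAt_of_height_one q hq1 fun q' hq'p hle hq'1 => ?_
    let x' : X := hV.fromSpec ⟨q', hq'p⟩
    have hx'V : x' ∈ V := hV.range_fromSpec.le ⟨_, rfl⟩
    have hprime : hV.primeIdealOf ⟨x', hx'V⟩ = ⟨q', hq'p⟩ :=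
      hV.fromSpec.isOpenEmbedding.injective (hV.fromSpec_primeIdealOf ⟨x', hx'V⟩)
    have hspec : x' ⤳ x := by
      exact (((PrimeSpectrum.le_iff_specializes ⟨q', hq'p⟩ (hV.primeIdealOf ⟨x, hxV⟩)).mp hle).map hV.fromSpec.continuous).trans
        (specializes_of_eq (hV.fromSpec_primeIdealOf ⟨x, hxV⟩))
    have hd : ringKrullDim (X.presheaf.stalk x') = 1 := by
      letI : Algebra Γ(X, V) (X.presheaf.stalk x') := TopCat.Presheaf.algebra_section_stalk X.presheaf ⟨x', hx'V⟩
      haveI : IsLocalization.AtPrime (X.presheaf.stalk x') (hV.primeIdealOf ⟨x', hx'V⟩).asIdeal := hV.isLocalization_stalk ⟨x', hx'V⟩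
      rw [IsLocalization.AtPrime.ringKrullDim_eq_height (hV.primeIdealOf ⟨x', hx'V⟩).asIdeal (X.presheaf.stalk x'), hprime]
      exact_mod_cast hq'1
    have := Groth.Agent.FlatLocal.isUnramifiedAt_of_stalkMap f hW hV e hx'V (hunr x' hspec hd)
    simp only [hprime] at this
    exact this
  obtain ⟨s, hs, hsu⟩ := Algebra.exists_formallyUnramified_of_isUnramifiedAt (R := Γ(Y, W)) q
  exact (Groth.Agent.FlatLocal.formallyUnramified_nhd_iff f x).mp ⟨X.basicOpen s, Groth.Agent.FlatLocal.mem_basicOpen_of_notMem hV hxV hs,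
    Groth.Agent.FlatLocal.prop_basicOpen (P := @FormallyUnramified) f (fun ι _ => inferInstance) hW hV e s
      (RingHom.formallyUnramified_algebraMap.mpr hsu)⟩

end Groth.Agent.S0257
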