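import Groth.Statements.S0263
import Groth.Agent.FEtFF.Punctured

set_option autoImplicit false
set_option backward.isDefEq.respectTransparency.types false
universe u
open Pi1

namespace Groth.Agent.S0263

open AlgebraicGeometry CategoryTheory CategoryTheory.Limits in
/-- Let A be a Noetherian local ring of depth at least 2 and V a finite étale cover of the punctured
spectrum of A which is isomorphic to the restriction of some finite étale cover of Spec A. Then the
ring of global sections Γ(V, O_V) is finite and étale over A, via the ring map A → Γ(V, O_V) induced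
by the composite V → Spec A. (Only this implication of the published statement is asserted here; its
converse is not.) -/
theorem result (A : Type u) [CommRing A] [IsNoetherianRing A] [IsLocalRing A] (hA : (2 : ℕ∞) ≤ LocCoh.depth A A)
    (V : FEt.Cat (FEt.puncturedSpec A : Scheme.{u}))
    (hV : ∃ Y : FEt.Cat (Spec (CommRingCat.of A)),
      Nonempty ((FEt.restrict (FEt.puncturedSpec A).ι).obj Y ≅ V)) :
    ((Scheme.ΓSpecIso (CommRingCat.of A)).inv ≫ (V.hom ≫ (FEt.puncturedSpec A).ι).appTop).hom.Finite ∧
    ((Scheme.ΓSpecIso (CommRingCat.of A)).inv ≫ (V.hom ≫ (FEt.puncturedSpec A).ι).appTop).hom.Etale := by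
  obtain ⟨Y, ⟨e⟩⟩ := hV
  let S := Spec (CommRingCat.of A)
  let f := (FEt.puncturedSpec A).ι
  have hb : Function.Bijective ((pullback.fst Y.hom f).app (Y.hom ⁻¹ᵁ ⊤)) :=
    Groth.Agent.FEtFF.bijective_app f Y.hom (IsPullback.of_hasPullback Y.hom f) (isAffineOpen_top S)
      (Groth.Agent.FEtFF.Hartogs.bijective_ι_app _ (Groth.Agent.FEtFF.Hartogs.two_le_depth_stalk hA) (isAffineOpen_top S))
  haveI : IsIso (pullback.fst Y.hom f).appTop := (ConcreteCategory.isIso_iff_bijective _).mpr hb
  haveI : IsIso e.inv.left := (inferInstance : IsIso (((MorphismProperty.Over.forget _ _ _).mapIso e.symm).hom).left)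
  let θ := e.inv.left ≫ pullback.fst Y.hom f
  haveI hi : IsIso e.inv.left.appTop := by
    refine ⟨(CategoryTheory.inv e.inv.left).appTop, ?_, ?_⟩ <;> rw [← Scheme.Hom.comp_appTop]
    · rw [IsIso.inv_hom_id]; rfl
    · rw [IsIso.hom_inv_id]; rfl
  haveI : IsIso θ.appTop := by rw [Scheme.Hom.comp_appTop]; exact IsIso.comp_isIso' ‹_› hi
  have he : V.hom ≫ f = θ ≫ Y.hom := by
    have h1 : e.inv.left ≫ pullback.snd Y.hom f = V.hom := Groth.Agent.FEtQuot.hom_w e.inv
    have h2 : θ ≫ Y.hom = e.inv.left ≫ pullback.snd Y.hom f ≫ f := by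
      simp only [θ, Category.assoc]; exact congrArg (e.inv.left ≫ ·) pullback.condition
    rw [h2, ← h1]; exact Category.assoc _ _ _
  rw [he, Scheme.Hom.comp_appTop]
  have h1 : Y.hom.appTop.hom.Finite := IsFinite.finite_app Y.hom ⊤ (isAffineOpen_top S)
  have h2 : Y.hom.appTop.hom.Etale := by
    have := Y.hom.etale_appLE (isAffineOpen_top S) ((isAffineOpen_top S).preimage Y.hom) le_rfl
    rwa [← Scheme.Hom.app_eq_appLE] at this
  exact ⟨RingHom.finite_respectsIso.1 _ (asIso θ.appTop).commRingCatIsoToRingEquiv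
      (RingHom.finite_respectsIso.2 _ (Scheme.ΓSpecIso (CommRingCat.of A)).symm.commRingCatIsoToRingEquiv h1),
    RingHom.Etale.respectsIso.1 _ (asIso θ.appTop).commRingCatIsoToRingEquiv
      (RingHom.Etale.respectsIso.2 _ (Scheme.ΓSpecIso (CommRingCat.of A)).symm.commRingCatIsoToRingEquiv h2)⟩

end Groth.Agent.S0263
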