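import Groth.Statements.S0266
import Groth.Agent.GaloisCat.Whisker
import Groth.Agent.GaloisCat.Uniq

set_option autoImplicit false
universe u v w
open Pi1

namespace Groth.Agent.S0266
open CategoryTheory Limits PreGaloisCategory

open CategoryTheory CategoryTheory.Limits in
/-- Transported along the equivalence of a Galois category with finite continuous G-sets : on a Galois
category in Mathlib's sense, every functor to finite sets that preserves finite limits and finite
colimits is isomorphic to the fibre functor. In particular two fibre functors are isomorphic. -/
theorem result {C : Type u} [Category.{v} C] [GaloisCategory C]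
    (F : C ⥤ FintypeCat.{w}) [PreGaloisCategory.FiberFunctor F] (F' : C ⥤ FintypeCat.{w})
    [PreservesFiniteLimits F'] [PreservesFiniteColimits F'] : Nonempty (F' ≅ F) := by
  exact Groth.Agent.GaloisCat.nonempty_iso_of_exact F F'

end Groth.Agent.S0266
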