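import Groth.Statements.S0269
import Groth.Agent.FEtQuot.FieldLimit

set_option backward.isDefEq.respectTransparency.types false
set_option backward.isDefEq.respectTransparency false

set_option autoImplicit false
universe u
open Pi1

namespace Groth.Agent.S0269

open AlgebraicGeometry CategoryTheory CategoryTheory.Limits in
/-- Functor form of the injectivity of pi_1(X_{kbar}) -> pi_1(X): Let X be quasi-compact and
quasi-separated over a field k with X_{kbar} connected. Every finite etale cover of X_{kbar} admits
an open and closed immersion, over X_{kbar}, into the base change of some finite etale cover of X. -/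
theorem result (k : Type u) [Field k] {X : Scheme.{u}} (f : X ⟶ Spec (CommRingCat.of k)) [CompactSpace X]
    [QuasiSeparatedSpace X]
    [ConnectedSpace ↥(pullback f (Spec.map (CommRingCat.ofHom (algebraMap k (AlgebraicClosure k)))))]
    (V : FEt.Cat (pullback f (Spec.map (CommRingCat.ofHom (algebraMap k (AlgebraicClosure k)))))) :
    ∃ (U : FEt.Cat X) (ι : V ⟶ (FEt.restrict (pullback.fst f (Spec.map (CommRingCat.ofHom (algebraMap k (AlgebraicClosure k)))))).obj U),
      IsOpenImmersion ι.left ∧ IsClosedImmersion ι.left := by
  exact Groth.Agent.FEtQuot.FieldLimit.exists_dominating f V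

end Groth.Agent.S0269
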