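import Groth.Statements.S0270
import Groth.Agent.FEtQuot.FieldLimit

set_option backward.isDefEq.respectTransparency.types false
set_option backward.isDefEq.respectTransparency false

set_option autoImplicit false
universe u
open Pi1

namespace Groth.Agent.S0270

open AlgebraicGeometry CategoryTheory CategoryTheory.Limits in
/-- (Exactness of the homotopy sequence of etale fundamental groups at pi_1(X), in functor form.) Let X
be quasi-compact and quasi-separated over a field k with X_{kbar} connected, kbar an algebraic
closure of k. If a finite etale cover U of X becomes completely split (a disjoint union of copies of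
X_{kbar}) after base change to kbar, then there are a finite etale k-scheme V and an X-morphism from
V x_k X to U which is surjective. -/
theorem result (k : Type u) [Field k] {X : Scheme.{u}} (f : X ⟶ Spec (CommRingCat.of k)) [CompactSpace X]
    [QuasiSeparatedSpace X]
    [ConnectedSpace ↥(pullback f (Spec.map (CommRingCat.ofHom (algebraMap k (AlgebraicClosure k)))))]
    (U : FEt.Cat X) (hU : Pi1.IsSplit ((FEt.restrict (pullback.fst f (Spec.map (CommRingCat.ofHom (algebraMap k (AlgebraicClosure k)))))).obj U)) :
    ∃ (V : FEt.Cat (Spec (CommRingCat.of k))) (e : (FEt.restrict f).obj V ⟶ U), Surjective e.left := by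
  exact Groth.Agent.FEtQuot.FieldLimit.exists_from_field f U hU

end Groth.Agent.S0270
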