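import Groth.Statements.S0273
import Groth.Agent.Purity10.SmoothPurity

set_option linter.style.haveILetI false
-- import your own Groth.Agent.* helpers here

set_option autoImplicit false
universe u
open Pi1

namespace Groth.Agent.S0273

open AlgebraicGeometry CategoryTheory CategoryTheory.Limits in
/-- Let f : X -> S be smooth with S Noetherian and U an open of X such that U contains the whole fibre
over every point of S whose local ring has depth at most 1, and U is dense in every fibre. Then
restricting finite etale covers from X to U is an equivalence of categories. -/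
theorem result {X S : Scheme.{u}} (f : X ⟶ S) [Smooth f] [IsNoetherian S] (U : X.Opens)
    (h3 : ∀ s : S, LocCoh.depth (S.presheaf.stalk s) (S.presheaf.stalk s) ≤ 1 → f.base ⁻¹' {s} ⊆ (U : Set X))
    (h4 : ∀ s : S, f.base ⁻¹' {s} ⊆ closure ((U : Set X) ∩ f.base ⁻¹' {s})) :
    (FEt.restrict U.ι).IsEquivalence := by
  haveI : IsLocallyNoetherian X := LocallyOfFiniteType.isLocallyNoetherian f
  have hlt : ∀ {a : ℕ∞}, ¬ a ≤ 1 → (2 : ℕ∞) ≤ a := fun h => by
    have := Order.add_one_le_of_lt (not_le.1 h)
    rwa [one_add_one_eq_two] at this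
  have key : ∀ x : X, x ∉ U →
      (2 : ℕ∞) ≤ LocCoh.depth (X.presheaf.stalk x) (X.presheaf.stalk x) ∧ FEt.PurityHolds (X.presheaf.stalk x) := by
    intro x hx
    obtain ⟨z, hzU, hzx, hfz⟩ := Groth.Agent.Purity10.exists_generization_in_fibre f U (f.base x) rfl (h4 (f.base x) rfl)
    exact Groth.Agent.Purity10.purityHolds_stalk_of_smooth f x (hlt fun h => hx (h3 (f.base x) h rfl))
      ⟨z, hzx, hfz, fun e => hx (e ▸ hzU)⟩
  obtain ⟨hfull, hfaith⟩ := Groth.Agent.FEtFF.Hartogs.restrict_full_faithful_of_depth U fun x hx => (key x hx).1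
  exact { faithful := hfaith
          full := hfull
          essSurj := Groth.Agent.FEtFF.PurityGlobal.essSurj_of_purityHolds U (fun x hx => (key x hx).1) fun x hx => (key x hx).2 }

end Groth.Agent.S0273
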