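import Groth.Statements.S0275
import Groth.Agent.Pi1Alg.UnivInj

set_option autoImplicit false
universe u
open scoped TensorProduct
open Pi1

namespace Groth.Agent.S0275

/-- Let R -> S be universally injective and M an R-module such that S ⊗_R M is finitely generated over
S. Then M is finitely generated over R. -/
theorem result (R S : Type u) [CommRing R] [CommRing S] [Algebra R S]
    (h : Pi1.UnivInjective R S) (M : Type u) [AddCommGroup M] [Module R M]
    [Module.Finite S (S ⊗[R] M)] : Module.Finite R M := by
  classical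
  obtain ⟨s, hs⟩ := Module.Finite.fg_top (R := S) (M := S ⊗[R] M)
  have (x : s) := TensorProduct.exists_sum_tmul_eq x.1
  choose k t m hk using this
  let f : ((Σ x : s, Fin (k x)) → R) →ₗ[R] M := Fintype.linearCombination R (fun p => m p.1 p.2)
  refine Module.Finite.of_surjective f (Groth.Agent.Pi1Alg.surjective_of_univInjective h f ?_)
  intro y
  have hy : y ∈ Submodule.span S (s : Set (S ⊗[R] M)) := hs ▸ Submodule.mem_top
  have hle : Submodule.span S (s : Set (S ⊗[R] M)) ≤ LinearMap.range (f.baseChange S) := by
    rw [Submodule.span_le]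
    intro x hx
    refine ⟨∑ j : Fin (k ⟨x, hx⟩), t ⟨x, hx⟩ j ⊗ₜ Pi.single ⟨⟨x, hx⟩, j⟩ 1, ?_⟩
    rw [map_sum]
    refine Eq.trans (Finset.sum_congr rfl fun j _ => ?_) (hk ⟨x, hx⟩).symm
    rw [LinearMap.baseChange_tmul, Fintype.linearCombination_apply_single, one_smul]
  exact hle hy

end Groth.Agent.S0275
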