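import Groth.Statements.S0276
import Groth.Agent.Pi1Alg.UnivInj
import Groth.Agent.S0275

set_option autoImplicit false
universe u
open scoped TensorProduct
open Pi1

namespace Groth.Agent.S0276

/-- Let R -> S be universally injective and M an R-module such that S ⊗_R M is finitely presented over
S. Then M is finitely presented over R. -/
theorem result (R S : Type u) [CommRing R] [CommRing S] [Algebra R S]
    (h : Pi1.UnivInjective R S) (M : Type u) [AddCommGroup M] [Module R M]
    [Module.FinitePresentation S (S ⊗[R] M)] : Module.FinitePresentation R M := by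
  classical
  haveI : Module.Finite R M := Groth.Agent.S0275.result R S h M
  obtain ⟨n, f, hf⟩ := Module.Finite.exists_fin' R M
  refine Module.finitePresentation_of_surjective f hf ?_
  let j := TensorProduct.mk R S (Fin n → R) 1
  have hker : (LinearMap.ker (f.baseChange S)) = Submodule.span S (j '' (LinearMap.ker f : Set (Fin n → R))) := by
    refine le_antisymm (fun y hy => ?_) ?_
    · obtain ⟨z, rfl⟩ := (lTensor_exact S (LinearMap.exact_subtype_ker_map f) hf y).mp hy
      clear hy
      induction z with
      | zero => rw [map_zero]; exact zero_mem _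
      | add u v hu hv => rw [map_add]; exact add_mem hu hv
      | tmul a x =>
        rw [LinearMap.lTensor_tmul]
        have : a ⊗ₜ[R] (x : Fin n → R) = a • j (x : Fin n → R) := by simp [j, TensorProduct.smul_tmul']
        exact this ▸ Submodule.smul_mem _ a (Submodule.subset_span ⟨x, x.2, rfl⟩)
    · rw [Submodule.span_le]
      rintro _ ⟨x, hx, rfl⟩
      show f.baseChange S ((1 : S) ⊗ₜ x) = 0
      rw [LinearMap.baseChange_tmul, show f x = 0 from hx, TensorProduct.tmul_zero]
  have hfgS : (Submodule.span S (j '' (LinearMap.ker f : Set (Fin n → R)))).FG :=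
    hker ▸ Module.FinitePresentation.fg_ker (f.baseChange S) (LinearMap.lTensor_surjective S hf)
  obtain ⟨t, hts, ht⟩ := (Submodule.fg_span_iff_fg_span_finset_subset _).mp hfgS
  obtain ⟨s, hsI, hs⟩ := Finset.subset_set_image_iff.mp hts
  refine ⟨s, le_antisymm (Submodule.span_le.mpr fun x hx => hsI hx) fun x hx => ?_⟩
  let K₀ := Submodule.span R (s : Set (Fin n → R))
  rw [← Submodule.Quotient.mk_eq_zero]
  apply Groth.Agent.Pi1Alg.one_tmul_injective h
  have h1 : j x ∈ Submodule.span S (t : Set (S ⊗[R] (Fin n → R))) :=
    ht ▸ Submodule.subset_span ⟨x, hx, rfl⟩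
  have h2 : Submodule.span S (t : Set (S ⊗[R] (Fin n → R))) ≤ LinearMap.ker (K₀.mkQ.baseChange S) := by
    rw [Submodule.span_le, ← hs, Finset.coe_image]
    rintro _ ⟨z, hz, rfl⟩
    show K₀.mkQ.baseChange S ((1 : S) ⊗ₜ z) = 0
    rw [LinearMap.baseChange_tmul, Submodule.mkQ_apply, (Submodule.Quotient.mk_eq_zero K₀).mpr (Submodule.subset_span hz),
      TensorProduct.tmul_zero]
  exact h2 h1

end Groth.Agent.S0276
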