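import Groth.Statements.S0278
import Groth.Agent.Pi1Alg.UnivInj

set_option autoImplicit false
universe u
open scoped TensorProduct
open Pi1

namespace Groth.Agent.S0278

/-- Let R -> S be universally injective and A an R-algebra such that S ⊗_R A is of finite presentation
over S. Then A is of finite presentation over R. -/
theorem result (R S : Type u) [CommRing R] [CommRing S] [Algebra R S]
    (h : Pi1.UnivInjective R S) (A : Type u) [CommRing A] [Algebra R A]
    [Algebra.FinitePresentation S (S ⊗[R] A)] : Algebra.FinitePresentation R A := by
  exact Groth.Agent.Pi1Alg.finitePresentation_of_univInjective h A

end Groth.Agent.S0278
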