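import Groth.Statements.S0281
import Groth.Agent.CAlgH.EtaleLiftCharP

set_option autoImplicit false
universe u
open scoped TensorProduct
open Pi1

namespace Groth.Agent.S0281

/-- Let k be a field of characteristic p > 0, I an ideal of the polynomial ring P in n variables over k,
and B a finite etale algebra over P/I. Then there are a finite etale P-algebra C and a surjective
P/I-algebra map from (P/I) ⊗_P C onto B (so Spec B is an open and closed subscheme of Spec C
restricted to V(I)). -/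
theorem result (k : Type u) [Field k] (p : ℕ)
    [Fact p.Prime] [CharP k p] (n : ℕ) (I : Ideal (MvPolynomial (Fin n) k)) (B : Type u) [CommRing B]
    [Algebra (MvPolynomial (Fin n) k ⧸ I) B] [Module.Finite (MvPolynomial (Fin n) k ⧸ I) B]
    [Algebra.Etale (MvPolynomial (Fin n) k ⧸ I) B] :
    ∃ (C : Type u) (_ : CommRing C) (_ : Algebra (MvPolynomial (Fin n) k) C),
      Module.Finite (MvPolynomial (Fin n) k) C ∧ Algebra.Etale (MvPolynomial (Fin n) k) C ∧
      ∃ ψ : (MvPolynomial (Fin n) k ⧸ I) ⊗[MvPolynomial (Fin n) k] C →ₐ[MvPolynomial (Fin n) k ⧸ I] B,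
        Function.Surjective ψ := by
  obtain ⟨C, _, _, hCf, hCe, θ, hθ, hθa⟩ :=
    _root_.Groth.Agent.CAlgH.EtaleLiftCharP.exists_finite_etale_lift_quotient p I B
  refine ⟨C, inferInstance, inferInstance, hCf, hCe, ?_⟩
  letI : Algebra (MvPolynomial (Fin n) k) B :=
    ((algebraMap (MvPolynomial (Fin n) k ⧸ I) B).comp (Ideal.Quotient.mk I)).toAlgebra
  haveI : IsScalarTower (MvPolynomial (Fin n) k) (MvPolynomial (Fin n) k ⧸ I) B :=
    ⟨fun a x b => by
      obtain ⟨q, rfl⟩ := Ideal.Quotient.mk_surjective x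
      show (Ideal.Quotient.mk I (a * q)) • b = algebraMap _ B (Ideal.Quotient.mk I a) * (Ideal.Quotient.mk I q • b)
      rw [Algebra.smul_def, Algebra.smul_def, map_mul, map_mul, mul_assoc]⟩
  let θ' : C →ₐ[MvPolynomial (Fin n) k] B := ⟨θ, hθa⟩
  let ψ := Algebra.TensorProduct.lift (Algebra.ofId (MvPolynomial (Fin n) k ⧸ I) B) θ' fun _ _ => Commute.all _ _
  refine ⟨ψ, fun b => ?_⟩
  obtain ⟨c, rfl⟩ := hθ b
  exact ⟨1 ⊗ₜ c, by simp [ψ, θ']⟩

end Groth.Agent.S0281
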