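import Groth.Statements.S0282
import Groth.Agent.CAlgH.EtaleLiftCharP
import Groth.Agent.CAlgH.FiniteEtaleDescent

set_option autoImplicit false
universe u
open scoped TensorProduct
open Pi1

namespace Groth.Agent.S0282

/-- Let R be a ring of prime characteristic p, A a quotient ring of R and B a finite étale A-algebra.
Then there are a finite étale R-algebra C and a surjective A-algebra homomorphism from A ⊗_R C onto
B. (This covering-level statement yields the injectivity of π₁(Spec A) → π₁(Spec R).) -/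
theorem result (p : ℕ) [Fact p.Prime] (R A B : Type u)
    [CommRing R] [CommRing A] [CommRing B] [CharP R p] [Algebra R A]
    (hRA : Function.Surjective (algebraMap R A)) [Algebra A B] [Module.Finite A B]
    [Algebra.Etale A B] :
    ∃ (C : Type u) (_ : CommRing C) (_ : Algebra R C), Module.Finite R C ∧ Algebra.Etale R C ∧
      ∃ ψ : A ⊗[R] C →ₐ[A] B, Function.Surjective ψ := by
  letI : Algebra (ULift.{u} (ZMod p)) R :=
    ((ZMod.castHom dvd_rfl R).comp (ULift.ringEquiv (R := ZMod p)).toRingHom).toAlgebra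
  letI : Algebra (ULift.{u} (ZMod p)) A := ((algebraMap R A).comp (algebraMap (ULift.{u} (ZMod p)) R)).toAlgebra
  haveI : IsScalarTower (ULift.{u} (ZMod p)) R A := IsScalarTower.of_algebraMap_eq fun _ => rfl
  obtain ⟨A₁, _, _, hft, φ, B₁, _, _, _, _, θ₁, hθ₁, hgen⟩ :=
    _root_.Groth.Agent.CAlgH.FiniteEtaleDescent.exists_finite_etale_model (ULift.{u} (ZMod p)) A B
  obtain ⟨n, π, hπ⟩ := Algebra.FiniteType.iff_quotient_mvPolynomial''.mp hft
  obtain ⟨C₀, _, _, _, _, θ₀, hθ₀, hθ₀a⟩ :=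
    _root_.Groth.Agent.CAlgH.EtaleLiftCharP.exists_finite_etale_lift p π.toRingHom hπ B₁
  choose y hy using fun i => hRA (φ (π (MvPolynomial.X i)))
  let r : MvPolynomial (Fin n) (ULift.{u} (ZMod p)) →ₐ[ULift.{u} (ZMod p)] R := MvPolynomial.aeval y
  have hr : (IsScalarTower.toAlgHom _ R A).comp r = φ.comp π := MvPolynomial.algHom_ext fun i => by
    simp [r, hy]
  letI := r.toRingHom.toAlgebra
  letI : Algebra R B := ((algebraMap A B).comp (algebraMap R A)).toAlgebra
  haveI : IsScalarTower R A B := IsScalarTower.of_algebraMap_eq fun _ => rfl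
  letI : Algebra (MvPolynomial (Fin n) (ULift.{u} (ZMod p))) B :=
    ((algebraMap R B).comp r.toRingHom).toAlgebra
  haveI : IsScalarTower (MvPolynomial (Fin n) (ULift.{u} (ZMod p))) R B := IsScalarTower.of_algebraMap_eq fun _ => rfl
  let f : C₀ →ₐ[MvPolynomial (Fin n) (ULift.{u} (ZMod p))] B :=
    ⟨θ₁.comp θ₀, fun q => by
      show θ₁ (θ₀ (algebraMap _ C₀ q)) = _
      rw [hθ₀a, hθ₁]
      exact congrArg (algebraMap A B) (AlgHom.congr_fun hr q).symm⟩
  let g : R ⊗[MvPolynomial (Fin n) (ULift.{u} (ZMod p))] C₀ →ₐ[R] B :=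
    Algebra.TensorProduct.lift (Algebra.ofId R B) f fun _ _ => Commute.all _ _
  refine ⟨R ⊗[MvPolynomial (Fin n) (ULift.{u} (ZMod p))] C₀, inferInstance, inferInstance, inferInstance,
    inferInstance, Algebra.TensorProduct.lift (Algebra.ofId A B) g fun _ _ => Commute.all _ _, ?_⟩
  refine AlgHom.range_eq_top _ |>.mp (hgen _ ?_)
  rintro _ ⟨b, rfl⟩
  obtain ⟨c, rfl⟩ := hθ₀ b
  exact ⟨1 ⊗ₜ (1 ⊗ₜ c), by simp [g, f]⟩

end Groth.Agent.S0282
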