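import Groth.Statements.S0286
import Groth.Agent.S0289
import Groth.Agent.UnivHomeo.Scheme

set_option backward.isDefEq.respectTransparency.types false
set_option backward.isDefEq.respectTransparency false

set_option autoImplicit false
universe u
open Pi1

namespace Groth.Agent.S0286

open AlgebraicGeometry CategoryTheory CategoryTheory.Limits in
/-- For a scheme X over a field k of characteristic p (p a prime), pulling back finite étale covers
along the projection X ×_{Spec k} Spec(k^perf) → X, where k^perf is the perfect closure of k, is an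
equivalence of categories. -/
theorem result (k : Type u) [Field k] (p : ℕ) [Fact p.Prime] [CharP k p] {X : Scheme.{u}}
    (f : X ⟶ Spec (CommRingCat.of k)) :
    (FEt.restrict (pullback.fst f
      (Spec.map (CommRingCat.ofHom (PerfectClosure.of k p))))).IsEquivalence := by
  let φ := PerfectClosure.of k p
  haveI : Nontrivial (PerfectClosure k p) := inferInstance
  have hpow : ∀ b : PerfectClosure k p, ∃ (n : ℕ) (x : k), b ^ p ^ n = φ x := fun b =>
    PerfectClosure.induction_on b fun ⟨n, x⟩ => ⟨n, x, by
      rw [← PerfectClosure.iterate_frobenius_mk k p n x]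
      exact (iterate_frobenius (R := PerfectClosure k p) p n _).symm⟩
  have hint : φ.IsIntegral := fun b => by
    obtain ⟨n, x, hb⟩ := hpow b
    exact ⟨Polynomial.X ^ p ^ n - Polynomial.C x,
      Polynomial.monic_X_pow_sub_C x (pow_ne_zero _ (Fact.out (p := p.Prime)).ne_zero), by simp [hb]⟩
  have hrad : Groth.Agent.UnivHomeo.Rad φ := fun K _ g₁ g₂ hg => RingHom.ext fun b => by
    haveI : CharP K p := charP_of_injective_ringHom (g₁.comp φ).injective p
    obtain ⟨n, x, hb⟩ := hpow b
    have h : (g₁ b - g₂ b) ^ p ^ n = 0 := by
      rw [sub_pow_char_pow, ← map_pow, ← map_pow, hb, sub_eq_zero]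
      exact congrArg (fun ψ : k →+* K => ψ x) hg
    exact sub_eq_zero.1 (pow_eq_zero_iff (pow_ne_zero _ (Fact.out (p := p.Prime)).ne_zero) |>.1 h)
  haveI : IsIntegralHom (Spec.map (CommRingCat.ofHom φ)) := (Groth.Agent.UnivHomeo.isIntegralHom_iff φ).2 hint
  haveI : UniversallyInjective (Spec.map (CommRingCat.ofHom φ)) := (Groth.Agent.UnivHomeo.rad_iff φ).1 hrad
  haveI : Surjective (Spec.map (CommRingCat.ofHom φ)) :=
    Groth.Agent.UnivHomeo.surjective_of_ker_le φ hint
      (((RingHom.injective_iff_ker_eq_bot φ).1 φ.injective).trans_le bot_le)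
  haveI : IsIntegralHom (pullback.fst f (Spec.map (CommRingCat.ofHom φ))) := MorphismProperty.pullback_fst _ _ inferInstance
  haveI : UniversallyInjective (pullback.fst f (Spec.map (CommRingCat.ofHom φ))) := MorphismProperty.pullback_fst _ _ inferInstance
  haveI : Surjective (pullback.fst f (Spec.map (CommRingCat.ofHom φ))) := MorphismProperty.pullback_fst _ _ inferInstance
  exact Groth.Agent.S0289.result (pullback.fst f (Spec.map (CommRingCat.ofHom φ)))

end Groth.Agent.S0286
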