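import Groth.Statements.S0288
import Groth.Agent.FEtFF.NormalGeomUnibranch
import Groth.Agent.FlatMorWeight.UnramifiedEtale

set_option autoImplicit false
set_option backward.isDefEq.respectTransparency.types false
universe u
open Pi1

namespace Groth.Agent.S0288

open AlgebraicGeometry CategoryTheory CategoryTheory.Limits in
/-- Let X be a normal integral scheme with function field K, L a finite field extension of K and Y -> X
the normalization of X in Spec L. If Y -> X is unramified (formally unramified and locally of finite
type), then it is etale, and finite. -/
theorem result {X : Scheme.{u}} [IsIntegral X] (hX : Pi1.IsNormalScheme X) (L : Type u) [Field L]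
    [Algebra X.functionField L] [FiniteDimensional X.functionField L]
    [QuasiCompact (Spec.map (CommRingCat.ofHom (algebraMap X.functionField L)) ≫ X.fromSpecStalk (genericPoint X))]
    [QuasiSeparated (Spec.map (CommRingCat.ofHom (algebraMap X.functionField L)) ≫ X.fromSpecStalk (genericPoint X))]
    [FormallyUnramified (Spec.map (CommRingCat.ofHom (algebraMap X.functionField L)) ≫ X.fromSpecStalk (genericPoint X)).fromNormalization]
    [LocallyOfFiniteType (Spec.map (CommRingCat.ofHom (algebraMap X.functionField L)) ≫ X.fromSpecStalk (genericPoint X)).fromNormalization] :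
    Etale (Spec.map (CommRingCat.ofHom (algebraMap X.functionField L)) ≫ X.fromSpecStalk (genericPoint X)).fromNormalization ∧
    IsFinite (Spec.map (CommRingCat.ofHom (algebraMap X.functionField L)) ≫ X.fromSpecStalk (genericPoint X)).fromNormalization := by
  set f := Spec.map (CommRingCat.ofHom (algebraMap X.functionField L)) ≫ X.fromSpecStalk (genericPoint X) with hf
  have hY : ∀ x : X, CAlg2.IsGeomUnibranch (X.presheaf.stalk x) := fun x => by
    haveI := (hX x).1
    haveI := (hX x).2
    exact Groth.Agent.FEtFF.isGeomUnibranch_of_normal _
  haveI : IsIntegral f.normalization := inferInstance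
  have hdom : genericPoint X ∈ Set.range f.fromNormalization := by
    let z : Spec (CommRingCat.of L) := (inferInstance : Nonempty (Spec (CommRingCat.of L))).some
    refine ⟨f.toNormalization z, ?_⟩
    rw [← Scheme.Hom.comp_apply, f.toNormalization_fromNormalization, hf, Scheme.Hom.comp_apply]
    haveI : Subsingleton (Spec X.functionField) := (inferInstance : Subsingleton (PrimeSpectrum X.functionField))
    rw [Subsingleton.elim (Spec.map (CommRingCat.ofHom (algebraMap X.functionField L)) z)
      (IsLocalRing.closedPoint X.functionField)]
    exact Scheme.fromSpecStalk_closedPoint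
  refine ⟨(Groth.Agent.FlatMorWeight.etale_and_irreducible f.fromNormalization hY hdom).1, ?_⟩
  exact (IsFinite.iff_isIntegralHom_and_locallyOfFiniteType _).mpr ⟨inferInstance, inferInstance⟩

end Groth.Agent.S0288
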