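import Groth.Statements.S0290
import Groth.Agent.FEtQuot.Field

set_option autoImplicit false
universe u
open Pi1

namespace Groth.Agent.S0290

open AlgebraicGeometry CategoryTheory CategoryTheory.Limits FintypeCatDiscrete in
/-- For a field K, the category of finite étale schemes over Spec K is equivalent to the category of
finite sets with a continuous action of the absolute Galois group of K. Only the existence of an
equivalence is asserted; its compatibility with the fibre functor is not stated. -/
theorem result (K : Type u) [Field K] :
    Nonempty (FEt.Cat (Spec (CommRingCat.of K)) ≌ ContAction FintypeCat.{u} (Field.absoluteGaloisGroup K)) := by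
  letI := Groth.Agent.FEtQuot.preGaloisCategory (Spec (CommRingCat.of K))
  obtain ⟨h⟩ := Groth.Agent.FEtQuot.fiberFunctor (Groth.Agent.FEtQuot.ξK K)
  haveI : GaloisCategory (FEt.Cat (Spec (CommRingCat.of K))) := { hasFiberFunctor := ⟨Groth.Agent.FEtQuot.FK K, ⟨h⟩⟩ }
  haveI := Groth.Agent.FEtQuot.isFundamentalGroup K
  let e := PreGaloisCategory.toAutMulEquiv (Groth.Agent.FEtQuot.FK K) (Field.absoluteGaloisGroup K)
  let e' : Field.absoluteGaloisGroup K ≃ₜ* Aut (Groth.Agent.FEtQuot.FK K) :=
    { e with
      continuous_toFun := (PreGaloisCategory.toAut_isHomeomorph _ _).continuous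
      continuous_invFun := Continuous.continuous_symm_of_equiv_compact_to_t2
        (f := e.toEquiv) (PreGaloisCategory.toAut_isHomeomorph _ _).continuous }
  exact ⟨(PreGaloisCategory.functorToContAction (Groth.Agent.FEtQuot.FK K)).asEquivalence.trans (ContAction.resEquiv _ e')⟩

end Groth.Agent.S0290
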