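import Groth.Statements.S0291
import Groth.Agent.FEtFF.Punctured

set_option autoImplicit false
universe u
open Pi1

namespace Groth.Agent.S0291

open AlgebraicGeometry CategoryTheory CategoryTheory.Limits in
/-- Let A be a Noetherian local ring and B a finite A-algebra such that the local rings of Spec B at all
closed points have depth at least 2. Then restriction from global sections of Spec B to sections
over the preimage of the punctured spectrum of A is an isomorphism. -/
theorem result (A B : Type u) [CommRing A] [IsNoetherianRing A] [IsLocalRing A] [CommRing B] [Algebra A B]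
    [Module.Finite A B]
    (h : ∀ (m : Ideal B) (_ : m.IsMaximal), (2 : ℕ∞) ≤ LocCoh.depth (Localization.AtPrime m) (Localization.AtPrime m)) :
    IsIso ((Spec (CommRingCat.of B)).presheaf.map (homOfLE (le_top :
      Spec.map (CommRingCat.ofHom (algebraMap A B)) ⁻¹ᵁ FEt.puncturedSpec A ≤ ⊤)).op) := by
  haveI : IsNoetherianRing B := IsNoetherianRing.of_finite A B
  have key : ∀ x : Spec (CommRingCat.of B), x ∉ Spec.map (CommRingCat.ofHom (algebraMap A B)) ⁻¹ᵁ FEt.puncturedSpec A →
      (2 : ℕ∞) ≤ LocCoh.depth ((Spec (CommRingCat.of B)).presheaf.stalk x) ((Spec (CommRingCat.of B)).presheaf.stalk x) := by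
    intro x hx
    have hx' : PrimeSpectrum.comap (algebraMap A B) x = IsLocalRing.closedPoint A := by
      by_contra hne
      exact hx hne
    haveI : x.asIdeal.IsPrime := x.2
    have hc : (x.asIdeal.comap (algebraMap A B)).IsMaximal := by
      rw [show x.asIdeal.comap (algebraMap A B) = IsLocalRing.maximalIdeal A from congrArg PrimeSpectrum.asIdeal hx']
      exact IsLocalRing.maximalIdeal.isMaximal A
    haveI : Algebra.IsIntegral A B := inferInstance
    have hm : x.asIdeal.IsMaximal := Ideal.isMaximal_of_isIntegral_of_isMaximal_comap x.asIdeal hc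
    let y : PrimeSpectrum B := x
    let e := IsLocalization.algEquiv y.asIdeal.primeCompl ((Spec.structureSheaf B).presheaf.stalk y) (Localization.AtPrime y.asIdeal)
    haveI : IsLocalRing ((Spec.structureSheaf B).presheaf.stalk y) := IsLocalization.AtPrime.isLocalRing _ y.asIdeal
    exact (h x.asIdeal hm).trans_eq (Groth.Agent.CAlgH3.depth_ringEquiv e.toRingEquiv).symm
  haveI : IsLocallyNoetherian (Spec (CommRingCat.of B)) := inferInstance
  exact (ConcreteCategory.isIso_iff_bijective _).mpr
    (Groth.Agent.FEtFF.Hartogs.bijective_restrict _ key (isAffineOpen_top _) (top_inf_eq _).symm le_top)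

end Groth.Agent.S0291
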