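import Groth.Statements.S0292
import Groth.Agent.FEtFF.PushforwardDepth

set_option autoImplicit false
universe u
open Pi1

namespace Groth.Agent.S0292

open AlgebraicGeometry CategoryTheory CategoryTheory.Limits in
/-- Let X be a locally Noetherian scheme, U ⊆ X an open subscheme such that at every point x outside U
the local ring 𝒪_{X,x} has depth at least 2, and V → U a finite étale cover. Then there exist a
scheme Y and a finite morphism π : Y → X whose restriction π⁻¹(U) → U is isomorphic to V over U, and
such that at every point y of Y with π(y) outside U the local ring 𝒪_{Y,y} has depth at least 2.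
(Existence only; uniqueness is not asserted here.) -/
theorem result {X : Scheme.{u}} [IsLocallyNoetherian X] (U : X.Opens)
    (hU : ∀ x : X, x ∉ U → (2 : ℕ∞) ≤ LocCoh.depth (X.presheaf.stalk x) (X.presheaf.stalk x)) (V : FEt.Cat (U : Scheme.{u})) :
    ∃ (Y : Scheme.{u}) (π : Y ⟶ X) (e : pullback π U.ι ≅ V.left), IsFinite π ∧
      e.hom ≫ V.hom = pullback.snd π U.ι ∧
      ∀ y : Y, π.base y ∉ U → (2 : ℕ∞) ≤ LocCoh.depth (Y.presheaf.stalk y) (Y.presheaf.stalk y) := by
  haveI : IsFinite V.hom := V.prop.1
  haveI : Etale V.hom := V.prop.2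
  obtain ⟨e, he⟩ := Groth.Agent.FEtFF.Pushforward.exists_pullback_iso (U := U) V.hom
  exact ⟨_, _, e, Groth.Agent.FEtFF.Pushforward.isFinite_fromNormalization V.hom hU, he,
    Groth.Agent.FEtFF.Pushforward.two_le_depth_normalization V.hom hU⟩

end Groth.Agent.S0292
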