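import Groth.Statements.S0297
import Groth.Agent.FEtQuot.Fiber
import Groth.Agent.GaloisCat.Uniq
import Mathlib.CategoryTheory.Galois.Prorepresentability

set_option autoImplicit false
universe u
open Pi1

namespace Groth.Agent.S0297

open AlgebraicGeometry CategoryTheory CategoryTheory.Limits in
/-- For a connected scheme X and geometric points ξ : Spec Ω → X and ξ' : Spec Ω' → X (Ω, Ω'
algebraically closed fields), every morphism of functors from the fibre functor at ξ to the fibre
functor at ξ' on finite étale covers of X is an isomorphism. -/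
theorem result {X : Scheme.{u}} [ConnectedSpace X] {Ω Ω' : Type u} [Field Ω]
    [IsAlgClosed Ω] [Field Ω'] [IsAlgClosed Ω'] (ξ : Spec (CommRingCat.of Ω) ⟶ X)
    (ξ' : Spec (CommRingCat.of Ω') ⟶ X) (φ : FEt.fiber ξ ⟶ FEt.fiber ξ') : IsIso φ := by
  letI := Groth.Agent.FEtQuot.preGaloisCategory X
  obtain ⟨h⟩ := Groth.Agent.FEtQuot.fiberFunctor ξ
  obtain ⟨h'⟩ := Groth.Agent.FEtQuot.fiberFunctor ξ'
  haveI : GaloisCategory (FEt.Cat X) := { hasFiberFunctor := ⟨Groth.Agent.FEtQuot.fiberFin ξ, ⟨h⟩⟩ }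
  let F := Groth.Agent.FEtQuot.fiberFin ξ
  let F' := Groth.Agent.FEtQuot.fiberFin ξ'
  obtain ⟨e⟩ := Groth.Agent.GaloisCat.nonempty_iso_fiberFunctor F F' (Groth.Agent.GaloisCat.isInitial_of_isEmpty _)
  let φ' : F ⟶ F' :=
    { app := fun Y => FintypeCat.homMk (φ.app Y)
      naturality := fun Y Z g => FintypeCat.hom_ext _ _ fun y => ConcreteCategory.congr_hom (φ.naturality g) y }
  have he : IsIso (φ' ≫ e.hom) := PreGaloisCategory.FibreFunctor.end_isIso F (φ' ≫ e.hom)
  have hφ : IsIso φ' := IsIso.of_isIso_comp_right φ' e.hom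
  haveI : ∀ Y, IsIso (φ.app Y) := fun Y =>
    haveI : IsIso (φ'.app Y) := NatIso.isIso_app_of_isIso _ _
    Functor.map_isIso FintypeCat.incl (φ'.app Y)
  exact NatIso.isIso_of_isIso_app φ

end Groth.Agent.S0297
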