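import Groth.Statements.S0298
import Groth.Agent.FEtQuot.Field

set_option autoImplicit false
universe u
open Pi1

namespace Groth.Agent.S0298

open AlgebraicGeometry CategoryTheory CategoryTheory.Limits in
/-- For a field K with algebraic closure K̄, the fundamental group of Spec K at the geometric point Spec
K̄ → Spec K (the automorphism group of the fibre functor on finite étale K-schemes) is isomorphic to
the absolute Galois group of K. The isomorphism is one of abstract groups; the fundamental group
used here carries no topology. -/
theorem result (K : Type u) [Field K] :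
    Nonempty (Field.absoluteGaloisGroup K ≃*
      FEt.piOne (Spec (CommRingCat.of K))
        (Spec.map (CommRingCat.ofHom (algebraMap K (AlgebraicClosure K))))) := by
  letI := Groth.Agent.FEtQuot.preGaloisCategory (Spec (CommRingCat.of K))
  obtain ⟨h⟩ := Groth.Agent.FEtQuot.fiberFunctor (Groth.Agent.FEtQuot.ξK K)
  haveI : GaloisCategory (FEt.Cat (Spec (CommRingCat.of K))) := { hasFiberFunctor := ⟨Groth.Agent.FEtQuot.FK K, ⟨h⟩⟩ }
  haveI := Groth.Agent.FEtQuot.isFundamentalGroup K
  let e := PreGaloisCategory.toAutMulEquiv (Groth.Agent.FEtQuot.FK K) (Field.absoluteGaloisGroup K)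
  exact ⟨e.trans (Groth.Agent.FEtQuot.autFiberEquiv _)⟩

end Groth.Agent.S0298
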