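import Groth.Statements.S0302
import Groth.Agent.InjHullLib.Basic

set_option autoImplicit false
universe u v
open InjHull

namespace Groth.Agent.S0302

/-- Two injective hulls of the same module are isomorphic by an isomorphism compatible with the two
embeddings. -/
theorem result (R : Type u) [CommRing R] (M : Type u) [AddCommGroup M] [Module R M] (E : Type u) [AddCommGroup E] [Module R E] (E' : Type u) [AddCommGroup E'] [Module R E'] (f : M →ₗ[R] E) (hf : InjHull.IsInjectiveHull f) (g : M →ₗ[R] E') (hg : InjHull.IsInjectiveHull g) : ∃ e : E ≃ₗ[R] E', e.toLinearMap ∘ₗ f = g := by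
  obtain ⟨e, he⟩ := hg.isInjective.out f hf.injective g
  have he' : e ∘ₗ f = g := LinearMap.ext he
  have hinj : Function.Injective e :=
    Groth.Agent.InjHullLib.injective_of_comp_injective hf.toIsEssentialInj e (by rw [he']; exact hg.injective)
  obtain ⟨Q, hQ⟩ := Groth.Agent.InjHullLib.exists_isCompl_range hf.isInjective e hinj
  have hQbot : Q = ⊥ := by
    by_contra h
    obtain ⟨x, ⟨hxQ, m, hm⟩, hx0⟩ := (Submodule.ne_bot_iff _).1 (hg.essential Q h)
    exact hx0 (Submodule.disjoint_def.1 hQ.disjoint x ⟨f m, by rw [he m, hm]⟩ hxQ)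
  rw [hQbot] at hQ
  exact ⟨LinearEquiv.ofBijective e ⟨hinj, LinearMap.range_eq_top.1 (eq_top_of_isCompl_bot hQ)⟩, he'⟩

end Groth.Agent.S0302
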