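import Groth.Statements.S0304
import Groth.Agent.InjHullLib.Basic

set_option autoImplicit false
universe u v
open InjHull

namespace Groth.Agent.S0304

/-- Let R be a commutative ring and E an indecomposable injective R-module. Then any two nonzero
submodules of E have nonzero intersection, and the set of elements r ∈ R such that r·x = 0 for some
nonzero x ∈ E is a prime ideal of R. -/
theorem result (R : Type u) [CommRing R] (E : Type u) [AddCommGroup E] [Module R E] (hE : InjHull.IsIndecomposable R E) (hinj : Module.Injective R E) : (∀ N N' : Submodule R E, N ≠ ⊥ → N' ≠ ⊥ → N ⊓ N' ≠ ⊥) ∧ ∃ p : Ideal R, p.IsPrime ∧ (p : Set R) = {r : R | ∃ x : E, x ≠ 0 ∧ r • x = 0} := by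
  have hu := Groth.Agent.InjHullLib.inf_ne_bot_of_indecomposable hE hinj
  refine ⟨hu, ?_⟩
  obtain ⟨⟨x₀, y₀, hne⟩⟩ := hE.1
  refine ⟨{ carrier := {r : R | ∃ x : E, x ≠ 0 ∧ r • x = 0}
            zero_mem' := ?_
            add_mem' := ?_
            smul_mem' := ?_ }, ⟨?_, ?_⟩, rfl⟩
  · rintro r s ⟨x, hx, hrx⟩ ⟨y, hy, hsy⟩
    obtain ⟨z, ⟨hzx, hzy⟩, hz⟩ := (Submodule.ne_bot_iff _).1 (hu (R ∙ x) (R ∙ y)
      (fun h => hx (Submodule.span_singleton_eq_bot.1 h))
      (fun h => hy (Submodule.span_singleton_eq_bot.1 h)))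
    obtain ⟨a, rfl⟩ := Submodule.mem_span_singleton.1 hzx
    obtain ⟨b, hb⟩ := Submodule.mem_span_singleton.1 hzy
    refine ⟨a • x, hz, ?_⟩
    have h1 : r • a • x = 0 := by rw [smul_comm, hrx, smul_zero]
    have h2 : s • a • x = 0 := by rw [← hb, smul_comm, hsy, smul_zero]
    rw [add_smul, h1, h2, add_zero]
  · exact ⟨x₀ - y₀, sub_ne_zero.2 hne, zero_smul _ _⟩
  · rintro c r ⟨x, hx, hrx⟩
    exact ⟨x, hx, by rw [smul_eq_mul, mul_smul, hrx, smul_zero]⟩
  · rw [Ideal.ne_top_iff_one]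
    rintro ⟨x, hx, h1⟩
    exact hx (by simpa using h1)
  · rintro r s ⟨x, hx, hrs⟩
    by_cases h : s • x = 0
    · exact Or.inr ⟨x, hx, h⟩
    · exact Or.inl ⟨s • x, h, by rw [smul_smul]; exact hrs⟩

end Groth.Agent.S0304
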