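import Groth.Statements.S0312
import Groth.Agent.Matlis6.Recognition
import Mathlib.RingTheory.LocalRing.Length
import Mathlib.RingTheory.Flat.FaithfullyFlat.Algebra

set_option autoImplicit false
universe u v
open Matlis

namespace Groth.Agent.S0312

/-- For a flat local homomorphism A → B of Noetherian local rings with m_A B equal to the maximal ideal
of B, tensoring an injective hull of the residue field of A with B gives an injective hull of the
residue field of B. -/
theorem result (A : Type u) [CommRing A] [IsLocalRing A] [IsNoetherianRing A] (B : Type u) [CommRing B] [IsLocalRing B] [IsNoetherianRing B] [Algebra A B] [IsLocalHom (algebraMap A B)] [Module.Flat A B] (hm : (IsLocalRing.maximalIdeal A).map (algebraMap A B) = IsLocalRing.maximalIdeal B) (E : Type u) [AddCommGroup E] [Module A E] (f : IsLocalRing.ResidueField A →ₗ[A] E) (hf : InjHull.IsInjectiveHull f) : ∃ g : IsLocalRing.ResidueField B →ₗ[B] TensorProduct A B E, InjHull.IsInjectiveHull g := by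
  set m := IsLocalRing.maximalIdeal A
  set n := IsLocalRing.maximalIdeal B
  haveI := Module.FaithfullyFlat.of_flat_of_isLocalHom (A := A) (B := B)
  have hE : Matlis6.IsHullAt m E := Matlis6.of_isInjectiveHull_residueField hf
  obtain ⟨e, he, hme, hsoc⟩ := hE.isSocleAt.soc
  have key : ∀ (I : Ideal A) (z : TensorProduct A B E), (∀ a ∈ I, a • z = 0) →
      ∀ b ∈ I.map (algebraMap A B), b • z = 0 := by
    intro I z hz b hb
    refine Submodule.span_induction ?_ (zero_smul _ _) (fun x y _ _ hx hy => by rw [add_smul, hx, hy, add_zero])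
      (fun c x _ hx => by rw [smul_eq_mul, mul_smul, hx, smul_zero]) hb
    rintro _ ⟨a, ha, rfl⟩
    rw [algebraMap_smul]
    exact hz a ha
  have ht : LocCoh.IsPowerTorsion n (TensorProduct A B E) := by
    intro z
    suffices ∃ j : ℕ, ∀ a ∈ m ^ j, a • z = 0 by
      obtain ⟨j, hj⟩ := this
      exact ⟨j, by rw [← hm, ← Ideal.map_pow]; exact key _ _ hj⟩
    induction z using TensorProduct.induction_on with
    | zero => exact ⟨0, fun a _ => smul_zero a⟩
    | tmul b x =>
      obtain ⟨j, hj⟩ := hE.isPowerTorsion x
      exact ⟨j, fun a ha => by rw [← TensorProduct.tmul_smul, hj a ha, TensorProduct.tmul_zero]⟩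
    | add p q hp hq =>
      obtain ⟨i, hi⟩ := hp; obtain ⟨j, hj⟩ := hq
      exact ⟨max i j, fun a ha => by rw [smul_add, hi a (Ideal.pow_le_pow_right (le_max_left i j) ha),
        hj a (Ideal.pow_le_pow_right (le_max_right i j) ha), add_zero]⟩
  have h1e : (1 : B) ⊗ₜ[A] e ≠ 0 := fun h =>
    he (Module.FaithfullyFlat.tensorProduct_mk_injective (A := A) (B := B) E (h.trans (TensorProduct.tmul_zero E (1 : B)).symm))
  have hme' : ∀ b ∈ n, b • ((1 : B) ⊗ₜ[A] e) = 0 := by
    rw [← hm]
    exact key m _ fun a ha => by rw [← TensorProduct.tmul_smul, hme a ha, TensorProduct.tmul_zero]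
  have hsoc' : ∀ z : TensorProduct A B E, (∀ b ∈ n, b • z = 0) → ∃ c : B, z = c • ((1 : B) ⊗ₜ[A] e) := by
    intro z hz
    obtain ⟨k, a, ha⟩ := Submodule.fg_iff_exists_fin_generating_family.1 (IsNoetherian.noetherian m)
    let ψ : E →ₗ[A] (Fin k → E) := LinearMap.pi fun i => a i • LinearMap.id
    have hex : Function.Exact (LinearMap.toSpanSingleton A E e) ψ := by
      intro x
      constructor
      · intro hx
        obtain ⟨c, hc⟩ := hsoc x (fun r hr => by
          rw [← ha] at hr
          exact Submodule.span_induction (by rintro _ ⟨i, rfl⟩; exact congrFun hx i) (zero_smul _ _)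
            (fun x y _ _ hx hy => by rw [add_smul, hx, hy, add_zero])
            (fun c y _ hy => by rw [smul_eq_mul, mul_smul, hy, smul_zero]) hr)
        exact ⟨c, hc.symm⟩
      · rintro ⟨c, rfl⟩
        funext i
        change a i • c • e = 0
        rw [smul_comm, hme (a i) (ha ▸ Submodule.subset_span ⟨i, rfl⟩), smul_zero]
    have hzero : ψ.lTensor B z = 0 := by
      have hdec : ψ = ∑ i, (LinearMap.single A (fun _ : Fin k => E) i).comp (a i • LinearMap.id) := by
        refine LinearMap.ext fun x => funext fun i => ?_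
        simp [ψ, LinearMap.sum_apply, Finset.sum_apply, Pi.single_apply]
      rw [hdec, ← LinearMap.coe_lTensorHom, map_sum, LinearMap.sum_apply]
      refine Finset.sum_eq_zero fun i _ => ?_
      have hai : algebraMap A B (a i) • z = 0 :=
        hz _ (hm ▸ Ideal.mem_map_of_mem _ (ha ▸ Submodule.subset_span ⟨i, rfl⟩))
      rw [algebraMap_smul] at hai
      rw [LinearMap.coe_lTensorHom, LinearMap.lTensor_comp, LinearMap.comp_apply, LinearMap.lTensor_smul,
        LinearMap.smul_apply, LinearMap.lTensor_id_apply, hai, map_zero]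
    obtain ⟨w, hw⟩ := ((Module.Flat.lTensor_exact B hex) z).1 hzero
    refine ⟨TensorProduct.rid A B w, ?_⟩
    rw [← hw]
    clear hw
    induction w using TensorProduct.induction_on with
    | zero => simp
    | tmul b r =>
      rw [LinearMap.lTensor_tmul, LinearMap.toSpanSingleton_apply, TensorProduct.rid_tmul,
        TensorProduct.smul_tmul', smul_eq_mul, mul_one, TensorProduct.tmul_smul, TensorProduct.smul_tmul']
    | add p q hp hq => rw [map_add, map_add, add_smul, hp, hq]
  refine (Matlis6.isHullAt_of_length ht h1e hme' hsoc' fun j => ?_).exists_isInjectiveHull_residueField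
  have hone : Module.length B (B ⧸ (IsLocalRing.maximalIdeal A).map (algebraMap A B)) = 1 := by
    rw [hm]
    haveI : IsSimpleModule B (B ⧸ n) := isSimpleModule_iff_quot_maximal.2 ⟨n, inferInstance, ⟨LinearEquiv.refl B _⟩⟩
    exact Module.length_eq_one B _
  let Ej := Submodule.torsionBySet A E ((m ^ j : Ideal A) : Set A)
  have hEj := hE.isSocleAt.length_torsion j
  have hL : Module.length B (B ⧸ n ^ j) = Module.length B (TensorProduct A B Ej) := by
    rw [IsLocalRing.length_baseChange A B Ej, hEj, ← IsLocalRing.length_baseChange A B (A ⧸ m ^ j),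
      ← (Ideal.qoutMapEquivTensorQout B (I := m ^ j)).length_eq,
      ← hm, Ideal.map_pow]
  rw [hL]
  let g : TensorProduct A B Ej →ₗ[B] TensorProduct A B E := TensorProduct.AlgebraTensorModule.lTensor B B Ej.subtype
  have hg : Function.Injective g := Module.Flat.lTensor_preserves_injective_linearMap Ej.subtype Subtype.val_injective
  refine Module.length_le_of_injective (g.codRestrict _ fun z => ?_) (fun p q h => hg (congrArg Subtype.val h))
  rw [Submodule.mem_torsionBySet_iff]
  rintro ⟨b, hb⟩
  rw [SetLike.mem_coe, ← hm, ← Ideal.map_pow] at hb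
  refine key _ _ (fun a ha => ?_) b hb
  induction z using TensorProduct.induction_on with
  | zero => rw [map_zero, smul_zero]
  | tmul c x =>
    change a • (c ⊗ₜ[A] (x : E)) = 0
    rw [← TensorProduct.tmul_smul, (Submodule.mem_torsionBySet_iff _ _).1 x.2 ⟨a, ha⟩, TensorProduct.tmul_zero]
  | add p q hp hq => rw [map_add, smul_add, hp, hq, add_zero]

end Groth.Agent.S0312
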