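import Groth.Statements.S0328
import Groth.Agent.LocCoh.NonVanishing

set_option autoImplicit false
universe u v
open LocCoh

namespace Groth.Agent.S0328

/-- In a Noetherian local ring, if a prime p and a proper ideal I together have radical the maximal
ideal and dim R/p = d ≥ 1, then local cohomology with support in I does not vanish in all degrees ≥
d. -/
theorem result (R : Type u) [CommRing R] [IsLocalRing R] [IsNoetherianRing R] (I : Ideal R) (hI : I ≠ ⊤) (p : Ideal R) [p.IsPrime] (hpI : (p ⊔ I).radical = IsLocalRing.maximalIdeal R) (d : ℕ) (hd : ringKrullDim (R ⧸ p) = d) (hd1 : 1 ≤ d) : ¬ LocCoh.CdLE R I (d - 1) := by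
  intro hcd
  haveI := hcd (R ⧸ p) d (by omega)
  haveI : IsLocalRing (R ⧸ p) :=
    IsLocalRing.of_surjective' (Ideal.Quotient.mk p) Ideal.Quotient.mk_surjective
  obtain ⟨φ, -⟩ := Groth.Agent.LocCoh.exists_H_independence R (R ⧸ p) I d (R ⧸ p)
  haveI := φ.toEquiv.subsingleton
  have hrad : (I.map (algebraMap R (R ⧸ p))).radical = (IsLocalRing.maximalIdeal (R ⧸ p)).radical := by
    refine le_antisymm (Ideal.radical_mono (IsLocalRing.le_maximalIdeal fun h => ?_)) ?_
    · refine (Ideal.IsMaximal.ne_top (IsLocalRing.maximalIdeal.isMaximal (R ⧸ p))) (top_le_iff.1 ?_)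
      rw [← h, ← IsLocalRing.map_maximalIdeal_of_surjective (algebraMap R (R ⧸ p)) Ideal.Quotient.mk_surjective]
      exact Ideal.map_mono (IsLocalRing.le_maximalIdeal hI)
    · refine Ideal.radical_le_radical_iff.2 ?_
      rw [← IsLocalRing.map_maximalIdeal_of_surjective (algebraMap R (R ⧸ p)) Ideal.Quotient.mk_surjective,
        ← hpI, Ideal.map_le_iff_le_comap]
      intro x hx
      obtain ⟨k, hk⟩ := hx
      refine ⟨k, ?_⟩
      rw [← map_pow]
      obtain ⟨a, ha, b, hb, hab⟩ := Submodule.mem_sup.1 hk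
      rw [← hab, map_add, Ideal.Quotient.algebraMap_eq, Ideal.Quotient.eq_zero_iff_mem.2 ha, zero_add]
      exact Ideal.mem_map_of_mem _ hb
  obtain ⟨ε⟩ := Groth.Agent.LocCoh.nonempty_H_equiv_of_radical hrad d (R ⧸ p)
  haveI := ε.symm.toEquiv.subsingleton
  exact (not_nontrivial_iff_subsingleton.2 inferInstance) (Groth.Agent.LocCoh.nontrivial_H_ring (R ⧸ p) d hd)

end Groth.Agent.S0328
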