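import Groth.Statements.S0332
import Groth.Agent.LocCoh.HLV

set_option autoImplicit false
universe u v
open LocCoh

namespace Groth.Agent.S0332

/-- Let R be Noetherian local of dimension d with completion R^; suppose that for every minimal prime p
of R^ with dim R^/p = d the quotient of R^ by I R^ + p has Krull dimension at least 1 (i.e. some
prime containing I R^ + p is not maximal). Then local cohomology with support in I vanishes in all
degrees ≥ d for every module. -/
theorem result (R : Type u) [CommRing R] [IsLocalRing R] [IsNoetherianRing R] (I : Ideal R) (d : ℕ) (hd : ringKrullDim R = d) (h : ∀ p ∈ minimalPrimes (AdicCompletion (IsLocalRing.maximalIdeal R) R), ringKrullDim (AdicCompletion (IsLocalRing.maximalIdeal R) R ⧸ p) = d → 1 ≤ ringKrullDim (AdicCompletion (IsLocalRing.maximalIdeal R) R ⧸ (I.map (algebraMap R (AdicCompletion (IsLocalRing.maximalIdeal R) R)) ⊔ p))) (M : Type u) [AddCommGroup M] [Module R M] (i : ℕ) (hi : d ≤ i) : Subsingleton (LocCoh.H I i M) := by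
  exact Groth.Agent.LocCoh.hartshorne_lichtenbaum I d hd h M i hi

end Groth.Agent.S0332
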