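import Groth.Statements.S0334
import Groth.Agent.LocCoh.NonVanishing

set_option autoImplicit false
universe u v
open LocCoh

namespace Groth.Agent.S0334

open Groth.Agent
open scoped Pointwise

/-- Over a Noetherian local ring of dimension d, multiplication by an element lying in no minimal prime
p with dim R/p = d is surjective on H^d_I(M) for every finite module M and every ideal I. -/
theorem result (R : Type u) [CommRing R] [IsLocalRing R] [IsNoetherianRing R] (I : Ideal R) (d : ℕ) (hd : ringKrullDim R = d) (f : R) (hf : ∀ p ∈ minimalPrimes R, ringKrullDim (R ⧸ p) = d → f ∉ p) (M : Type u) [AddCommGroup M] [Module R M] [Module.Finite R M] : Function.Surjective (fun x : LocCoh.H I d M => f • x) := by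
  refine Groth.Agent.LocCoh.smul_H_surjective f (hd ▸ Module.supportDim_le_ringKrullDim R M) ?_
  refine Groth.Agent.LocCoh.supportDim_lt_of_forall _ d fun q hq => ?_
  have hfq : f ∈ q.asIdeal := by
    rw [Module.support_eq_zeroLocus] at hq
    exact hq (Module.mem_annihilator.2 fun z => by
      obtain ⟨z, rfl⟩ := Submodule.Quotient.mk_surjective _ z
      rw [← Submodule.Quotient.mk_smul, Submodule.Quotient.mk_eq_zero]
      exact Submodule.smul_mem_pointwise_smul z f ⊤ trivial)
  obtain ⟨p, hp, hpq⟩ := Ideal.exists_minimalPrimes_le (I := (⊥ : Ideal R)) (J := q.asIdeal) bot_le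
  haveI := hp.1.1
  have hpd : ringKrullDim (R ⧸ p) ≤ d := hd ▸ ringKrullDim_quotient_le p
  rcases hpq.eq_or_lt with h | h
  · refine lt_of_le_of_ne (hd ▸ ringKrullDim_quotient_le _) fun he => hf p hp ?_ (h ▸ hfq)
    rw [h]; exact he
  · exact Groth.Agent.LocCoh.lt_of_add_one_le hpd (CAlgH3.ringKrullDim_quotient_add_one_le h)

end Groth.Agent.S0334
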