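import Groth.Statements.S0338
import Groth.Agent.CAlgH3.TorInj.Colon
import Groth.Agent.CAlgH3.TorInj.FrobFree
-- import your own Groth.Agent.* helpers here

set_option autoImplicit false
universe u v
open CategoryTheory
open LocCoh

namespace Groth.Agent.S0338

/-- Over a regular local ring of prime characteristic p, let M be a module killed elementwise by powers
of the maximal ideal and isomorphic to its own base change along Frobenius; then M is isomorphic to
a (possibly infinite) sum of copies of E, where E is an injective hull of the residue field. -/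
theorem result (p : ℕ) [Fact p.Prime] (R : Type u) [CommRing R] [IsRegularLocalRing R] [CharP R p] (E : Type u) [AddCommGroup E] [Module R E] (f : IsLocalRing.ResidueField R →ₗ[R] E) (hf : InjHull.IsInjectiveHull f) (M : Type u) [AddCommGroup M] [Module R M] (hM : LocCoh.IsPowerTorsion (IsLocalRing.maximalIdeal R) M) (h : Nonempty ((ModuleCat.extendScalars (frobenius R p)).obj (ModuleCat.of R M) ≅ ModuleCat.of R M)) : ∃ ι : Type u, Nonempty (M ≃ₗ[R] (ι →₀ E)) := by
  classical
  obtain ⟨iso⟩ := h
  refine Groth.Agent.CAlgH3.TorInj.exists_iso_finsupp hf hM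
    (Groth.Agent.CAlgH3.TorInj.injective_of_extend hM fun φ => ?_)
  have hfg := (IsNoetherian.noetherian (IsLocalRing.maximalIdeal R) : (IsLocalRing.maximalIdeal R).FG)
  obtain ⟨s, hs1, hs2⟩ := Submodule.FG.exists_span_finset_card_eq_spanFinrank hfg
  let x : Fin s.card → R := fun i => (s.equivFin.symm i : R)
  have hrange : Set.range x = (s : Set R) := by
    ext z; constructor
    · rintro ⟨i, rfl⟩; exact (s.equivFin.symm i).2
    · intro hz; exact ⟨s.equivFin ⟨z, hz⟩, by simp [x]⟩
  have hx : Ideal.span (Set.range x) = IsLocalRing.maximalIdeal R := by rw [hrange]; exact hs2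
  have hF := Groth.Agent.CAlgH3.Kunz.flat_of_regular R p
  have hfree : ∀ e : ℕ, Groth.Agent.CAlgH3.TorInj.TorsionFreeOver (Ideal.span (Set.range fun i => x i ^ p ^ e)) M := by
    intro e
    induction e with
    | zero =>
      rw [show (fun i => x i ^ p ^ 0) = x from funext fun i => by rw [pow_zero, pow_one], hx]
      exact Groth.Agent.CAlgH3.TorInj.torsionFreeOver_maximal M
    | succ e ih =>
      have hmap : (Ideal.span (Set.range fun i => x i ^ p ^ e)).map (frobenius R p) =
          Ideal.span (Set.range fun i => x i ^ p ^ (e + 1)) := by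
        rw [Ideal.map_span, ← Set.range_comp]
        congr 2
        funext i
        show frobenius R p (x i ^ p ^ e) = _
        rw [frobenius_def, ← pow_mul, ← pow_succ]
      rw [← hmap]
      exact Groth.Agent.CAlgH3.TorInj.torsionFreeOver_twist _ hF iso (IsNoetherian.noetherian _) ih
  obtain ⟨k, hk⟩ := Groth.Agent.InjHullLib.exists_pow_inf_le_ker (IsLocalRing.maximalIdeal R) (IsLocalRing.maximalIdeal R) hM φ
  -- all values are killed by a bracket power
  obtain ⟨q, hq⟩ : ∃ q, p ^ k = q + 1 := ⟨p ^ k - 1, by have := Nat.pow_pos (n := k) (Fact.out : p.Prime).pos; omega⟩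
  have hble : Ideal.span (Set.range fun i => x i ^ p ^ k) ≤ IsLocalRing.maximalIdeal R ^ k := by
    rw [Ideal.span_le]
    rintro _ ⟨i, rfl⟩
    refine Ideal.pow_le_pow_right (Nat.lt_pow_self (Fact.out : p.Prime).one_lt).le (Ideal.pow_mem_pow ?_ _)
    exact hx ▸ Ideal.subset_span ⟨i, rfl⟩
  obtain ⟨κ, v, hv, hvr⟩ := hfree k
  have hval : ∀ r, φ r ∈ LinearMap.range v := fun r => by
    rw [hvr, Submodule.mem_torsionBySet_iff]
    rintro ⟨a, ha⟩
    show a • φ r = 0
    rw [← map_smul]
    exact hk _ (Ideal.mul_mem_right _ _ (hble ha))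
  let ψ := (LinearEquiv.ofInjective v hv).symm.toLinearMap ∘ₗ φ.codRestrict (LinearMap.range v) hval
  have hψ : ∀ r, v (ψ r) = φ r := fun r =>
    congrArg Subtype.val ((LinearEquiv.ofInjective v hv).apply_symm_apply ⟨φ r, hval r⟩)
  have hy := Groth.Agent.CAlgH3.Kunz.indep_pow p hF k x hx hs1.symm
  rw [hq] at hy
  obtain ⟨z, hz⟩ := Groth.Agent.CAlgH3.TorInj.extend_quotient x q hx hy (by rw [hq]) ψ
    fun r hr => hv (by rw [hψ, map_zero]; exact hk r (hble hr))
  exact ⟨v z, fun r => by rw [← hψ, hz, map_smul]⟩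

end Groth.Agent.S0338
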