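import Groth.Statements.S0343
import Groth.Agent.LocCoh.GorensteinCriteria

set_option autoImplicit false
universe u v
open Goren

namespace Groth.Agent.S0343

/-- For a Noetherian local ring A and a non-zero-divisor f in the maximal ideal, A is Gorenstein exactly
when A/(f) is. -/
theorem result (A : Type u) [CommRing A] [IsLocalRing A] [IsNoetherianRing A] (f : A) (hf : f ∈ IsLocalRing.maximalIdeal A) (hreg : IsSMulRegular A f) : LocCoh.IsGorensteinLocalRing A ↔ LocCoh.IsGorensteinLocalRing (A ⧸ Ideal.span {f}) := by
  exact Groth.Agent.LocCoh.gorenstein_quotient_iff hf hreg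

end Groth.Agent.S0343
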