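import Groth.Statements.S0345
import Groth.Agent.LocCoh.GorensteinCriteria

set_option autoImplicit false
universe u v
open Goren

namespace Groth.Agent.S0345

/-- For a Noetherian ring A, the A-module A has finite injective dimension exactly when every
localization of A at a prime is Gorenstein and A has finite Krull dimension. -/
theorem result (A : Type u) [CommRing A] [IsNoetherianRing A] : (∃ n : ℕ, CategoryTheory.HasInjectiveDimensionLT (ModuleCat.of A A) n) ↔ (LocCoh.IsGorensteinRing A ∧ ringKrullDim A < ⊤) := by
  open Groth.Agent.LocCoh in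
  constructor
  · rintro ⟨N, hN⟩
    have hloc : ∀ (p : Ideal A) [p.IsPrime], ∀ i, N ≤ i → Subsingleton (CategoryTheory.Abelian.Ext
        (ModuleCat.of (Localization.AtPrime p) (Localization.AtPrime p ⧸ IsLocalRing.maximalIdeal (Localization.AtPrime p)))
        (ModuleCat.of (Localization.AtPrime p) (Localization.AtPrime p)) i) := by
      intro p _ i hi
      have h1 := subsingleton_ext_localized p.primeCompl i (A ⧸ p) A
        (CategoryTheory.HasInjectiveDimensionLT.subsingleton (ModuleCat.of A A) N i hi _)
      refine subsingleton_ext_equiv (Localization.AtPrime p)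
        ((localizedQuotientEquiv p.primeCompl p).symm.trans (Submodule.quotEquivOfEq _ _ ?_)) i h1
      rw [← Localization.AtPrime.map_eq_maximalIdeal]
      exact Ideal.localized'_eq_map (Localization.AtPrime p) p.primeCompl p
    refine ⟨⟨fun p _ => gorenstein_of_forall_ext N (hloc p)⟩, lt_of_le_of_lt (?_ : _ ≤ ((N : ℕ∞) : WithBot ℕ∞)) ?_⟩
    · rw [ringKrullDim, Order.krullDim_eq_iSup_height]
      refine iSup_le fun q => WithBot.coe_le_coe.2 ?_
      haveI := gorenstein_of_forall_ext N (hloc q.asIdeal)
      obtain ⟨n, hn⟩ := exists_dim_eq (R := Localization.AtPrime q.asIdeal)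
      have hnN : n ≤ N := by
        by_contra h
        haveI := nontrivial_ext_residueField hn
        exact not_subsingleton _ (hloc q.asIdeal n (by omega))
      rw [IsLocalization.AtPrime.ringKrullDim_eq_height q.asIdeal (Localization.AtPrime q.asIdeal)] at hn
      rw [← PrimeSpectrum.height_eq_orderHeight]
      exact (WithBot.coe_inj.1 (hn : ((q.asIdeal.height : ℕ∞) : WithBot ℕ∞) = ((n : ℕ∞) : WithBot ℕ∞))).trans_le (Nat.cast_le.2 hnN)
    · exact WithBot.coe_lt_coe.2 (ENat.natCast_lt_top N)
  · rintro ⟨hG, hdim⟩
    obtain ⟨D, hD⟩ : ∃ D : ℕ, ringKrullDim A ≤ D := by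
      generalize ringKrullDim A = e at hdim
      induction e with
      | bot => exact ⟨0, bot_le⟩
      | coe e =>
        induction e with
        | top => exact absurd hdim (lt_irrefl _)
        | coe e => exact ⟨e, le_rfl⟩
    refine ⟨D + 1, CAlgH3.hasInjectiveDimensionLT_of_forall_ideal D _ fun I => ?_⟩
    refine subsingleton_ext_of_local (D + 1) (A ⧸ I) A fun m _ => ?_
    haveI := hG.isGorensteinLocalRing_localization m
    haveI : Module.Finite (Localization.AtPrime m) (LocalizedModule m.primeCompl (A ⧸ I)) :=
      Module.Finite.of_isLocalizedModule (Rₚ := Localization.AtPrime m) m.primeCompl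
        (LocalizedModule.mkLinearMap m.primeCompl (A ⧸ I))
    obtain ⟨n, hn⟩ := exists_dim_eq (R := Localization.AtPrime m)
    have hnD : n ≤ D := by
      have h1 := ((IsLocalization.AtPrime.ringKrullDim_eq_height m (Localization.AtPrime m)).trans_le
        (Ideal.height_le_ringKrullDim_of_ne_top (Ideal.IsPrime.ne_top inferInstance))).trans hD
      rw [hn] at h1
      exact_mod_cast h1
    exact subsingleton_ext_of_dim_lt hn (D + 1) (by omega) _

end Groth.Agent.S0345
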