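import Groth.Statements.S0346
import Mathlib.AlgebraicGeometry.Morphisms.Separated
import Mathlib.CategoryTheory.Monoidal.Cartesian.Grp
import Mathlib.CategoryTheory.Limits.Constructions.Over.Connected

set_option autoImplicit false
universe u v
open CategoryTheory MonoidalCategory CartesianMonoidalCategory MonObj GrpObj AlgebraicGeometry
open GrpSch

namespace Groth.Agent.S0346

/-- A group scheme over any base scheme is separated over the base exactly when its unit section is a
closed immersion, and quasi-separated exactly when the unit section is quasi-compact. -/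
theorem result (S : Scheme.{u}) (G : Over S) [GrpObj G] : (IsSeparated G.hom ↔ IsClosedImmersion η[G].left) ∧ (QuasiSeparated G.hom ↔ QuasiCompact η[G].left) := by
  let δ : G ⊗ G ⟶ G := fst G G * (snd G G)⁻¹
  let Δ : G ⟶ G ⊗ G := lift (𝟙 G) (𝟙 G)
  have hone : ∀ T : Over S, (1 : T ⟶ G) = toUnit T ≫ η[G] := fun T => Hom.one_def
  have hw : Δ ≫ δ = toUnit G ≫ η[G] := by
    simp only [δ, Δ, MonObj.comp_mul, GrpObj.comp_inv, lift_fst, lift_snd, mul_inv_cancel]
    exact hone G
  have hp : IsPullback Δ (toUnit G) δ η[G] := by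
    refine ⟨⟨hw⟩, ⟨Limits.PullbackCone.IsLimit.mk hw (fun c => c.fst ≫ fst G G) (fun c => ?_) (fun c => toUnit_unique _ _)
      (fun c m h1 _ => ?_)⟩⟩
    · have h : c.fst ≫ δ = 1 :=
        c.condition.trans ((congrArg (· ≫ η[G]) (toUnit_unique c.snd (toUnit c.pt))).trans (hone _).symm)
      simp only [δ, MonObj.comp_mul, GrpObj.comp_inv, mul_inv_eq_one] at h
      apply CartesianMonoidalCategory.hom_ext
      · simp [Δ]
      · simp [Δ, h]
    · rw [← h1]; simp [Δ]
  have hη : η[G].left ≫ G.hom = 𝟙 S := Over.w η[G]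
  have hdiag : Δ.left = Limits.pullback.diagonal G.hom := by
    apply Limits.pullback.hom_ext
    · rw [Limits.pullback.diagonal_fst]; exact congrArg (fun t : G ⟶ G => t.left) (lift_fst (𝟙 G) (𝟙 G))
    · rw [Limits.pullback.diagonal_snd]; exact congrArg (fun t : G ⟶ G => t.left) (lift_snd (𝟙 G) (𝟙 G))
  have hp' : IsPullback Δ.left (toUnit G).left δ.left η[G].left := hp.map (Over.forget _)
  -- the unit section is a base change of the diagonal
  let σ : G ⟶ G ⊗ G := lift (𝟙 G) (toUnit G ≫ η[G])
  have hq : IsPullback η[G] η[G] σ Δ := by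
    have hw2 : η[G] ≫ σ = η[G] ≫ Δ := by
      apply CartesianMonoidalCategory.hom_ext <;> simp [σ, Δ, toUnit_unique (η[G] ≫ toUnit G) (𝟙 _)]
    refine ⟨⟨hw2⟩, ⟨Limits.PullbackCone.IsLimit.mk hw2 (fun c => toUnit c.pt) (fun c => ?_) (fun c => ?_)
      (fun c m _ _ => toUnit_unique _ _)⟩⟩
    all_goals
      have h1 := congrArg (· ≫ fst G G) c.condition
      have h2 := congrArg (· ≫ snd G G) c.condition
      simp only [σ, Δ, Category.assoc, lift_fst, lift_snd, Category.comp_id] at h1 h2
      rw [← Category.assoc, toUnit_unique (c.fst ≫ toUnit G) (toUnit c.pt)] at h2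
    · exact h2.trans h1.symm
    · exact h2
  have hq' : IsPullback η[G].left η[G].left σ.left Δ.left := hq.map (Over.forget _)
  refine ⟨⟨fun h => ?_, fun h => ⟨?_⟩⟩, ⟨fun h => ?_, fun h => ⟨?_⟩⟩⟩
  · exact MorphismProperty.of_isPullback (P := @IsClosedImmersion) hq'.flip (hdiag ▸ h.diagonal_isClosedImmersion)
  · exact hdiag ▸ MorphismProperty.of_isPullback (P := @IsClosedImmersion) hp'.flip h
  · exact MorphismProperty.of_isPullback (P := @QuasiCompact) hq'.flip (hdiag ▸ h.quasiCompact_diagonal)
  · exact hdiag ▸ MorphismProperty.of_isPullback (P := @QuasiCompact) hp'.flip h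

end Groth.Agent.S0346
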