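import Groth.Statements.S0349
import Groth.Agent.AlgGrpLib.DenseMul

set_option autoImplicit false
universe u v
open CategoryTheory MonoidalCategory CartesianMonoidalCategory MonObj GrpObj AlgebraicGeometry
open GrpSch

namespace Groth.Agent.S0349
open Groth.Agent.AlgGrpLib

/-- An irreducible group scheme over a field is quasi-compact. -/
theorem result (K : Type u) [Field K] (G : Over (Spec (CommRingCat.of K))) [GrpObj G] [IrreducibleSpace G.left] : CompactSpace G.left := by
  obtain ⟨x⟩ : Nonempty G.left := inferInstance
  obtain ⟨U, (hU : IsAffineOpen U), hxU, -⟩ :=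
    TopologicalSpace.Opens.isBasis_iff_nbhd.1 G.left.isBasis_affineOpens (U := ⊤) (TopologicalSpace.Opens.mem_top x)
  have hd : Dense (U : Set G.left) := U.isOpen.dense ⟨x, hxU⟩
  refine isCompact_univ_iff.1 ?_
  rw [← Set.eq_univ_of_forall (fun z => DenseMul.mem_mul_of_dense z U.isOpen hd hd)]
  exact (DenseMul.isCompact_prodSet U U hU.isCompact hU.isCompact).image μ[G].left.continuous

end Groth.Agent.S0349
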