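import Groth.Statements.S0350
import Groth.Agent.SGA3cLib.Components
import Groth.Agent.H8Top.SchemeComponents

set_option autoImplicit false
universe u v
open CategoryTheory MonoidalCategory CartesianMonoidalCategory MonObj GrpObj AlgebraicGeometry
open GrpSch

namespace Groth.Agent.S0350

/-- Let G be a group scheme over a field K. Then for every point x of G the local ring O_{G,x} has at
most one (hence exactly one) minimal prime, and there is exactly one irreducible component of G
passing through the identity point. The published statement also asserts that this component is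
geometrically irreducible, which is not asserted here. -/
theorem result (K : Type u) [Field K] (G : Over (Spec (CommRingCat.of K))) [GrpObj G] : (∀ x : G.left, (minimalPrimes (G.left.presheaf.stalk x)).Subsingleton) ∧ ∃! Z : Set G.left, Z ∈ irreducibleComponents (G.left : Type u) ∧ η[G].left (IsLocalRing.closedPoint K) ∈ Z := by
  have h : ∀ x : G.left, ∃! C, C ∈ irreducibleComponents (G.left : Type u) ∧ x ∈ C := fun x =>
    SGA3cLib.existsUnique_irreducibleComponent (SGA3cLib.regAction G) (SGA3cLib.surjective_regAction G) x
  refine ⟨fun x => ?_, h _⟩
  have hp : (nilradical (G.left.presheaf.stalk x)).IsPrime :=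
    (H8Top.nilradical_stalk_isPrime_iff (X := G.left) x).2 fun Z hZ Z' hZ' hx hx' => (h x).unique ⟨hZ, hx⟩ ⟨hZ', hx'⟩
  have key : ∀ p ∈ minimalPrimes (G.left.presheaf.stalk x), p = nilradical (G.left.presheaf.stalk x) := fun p hp' => by
    have : p.IsPrime := hp'.1.1
    exact le_antisymm (hp'.2 ⟨hp, bot_le⟩ (nilradical_le_prime p)) (nilradical_le_prime p)
  exact fun p hp' q hq' => (key p hp').trans (key q hq').symm

end Groth.Agent.S0350
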