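import Groth.Statements.S0351
import Groth.Agent.SGA3cLib.SubgroupClosed
import Groth.Agent.SGA3cLib.Transporter
import Mathlib.CategoryTheory.Monoidal.Cartesian.Grp
import Mathlib.AlgebraicGeometry.Morphisms.UniversallyOpen
import Mathlib.CategoryTheory.Limits.Constructions.Over.Connected

set_option autoImplicit false
universe u v
open CategoryTheory MonoidalCategory CartesianMonoidalCategory MonObj GrpObj AlgebraicGeometry
open GrpSch

namespace Groth.Agent.S0351

/-- A homomorphism of group schemes over a field which is an immersion is a closed immersion. -/
theorem result (K : Type u) [Field K] (H G : Over (Spec (CommRingCat.of K))) [GrpObj H] [GrpObj G] (i : H ⟶ G) [IsMonHom i] [IsImmersion i.left] : IsClosedImmersion i.left := by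
  exact IsClosedImmersion.of_isPreimmersion _ (Groth.Agent.SGA3cLib.isClosed_range_of_isImmersion i)

end Groth.Agent.S0351
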