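import Groth.Statements.S0357
import Groth.Agent.DualLib.NonvanishingProper
import Groth.Agent.DualLib.Lichtenbaum
import Groth.Agent.Props12.KerReduced

set_option autoImplicit false
universe u v
open CategoryTheory AlgebraicGeometry
open Dual

namespace Groth.Agent.S0357

/-- (1)⇔(3): let X be nonempty, separated and of finite type over a field, of dimension d. Then H^d(X,
F) vanishes for every coherent F exactly when no irreducible closed subscheme of X of dimension d is
proper over the field. ((3) is phrased with irreducible closed subschemes of dimension d, which are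
the same as irreducible components of dimension d.) -/
theorem result (k : Type u) [Field k] (X : Scheme.{u}) (f : X ⟶ Spec (CommRingCat.of k)) [IsSeparated f] [LocallyOfFiniteType f] [QuasiCompact f] [Nonempty X] (d : ℕ) (hd : topologicalKrullDim X = d) : (∀ M : X.Modules, Coh.IsCoh M → Subsingleton (Coh.HH X M d)) ↔ ∀ (Z : Scheme.{u}) (i : Z ⟶ X) [IsClosedImmersion i] [IrreducibleSpace Z], topologicalKrullDim Z = d → ¬ IsProper (i ≫ f) := by
  constructor
  · intro h Z i _ _ hZd hp
    let I := Scheme.IdealSheafData.vanishingIdeal (⊤ : TopologicalSpace.Closeds Z)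
    let ι := I.subschemeι
    haveI : IsReduced I.subscheme := Groth.Agent.Props12.isReduced_subscheme_vanishingIdeal _
    have hι : IsHomeomorph ι := by
      refine isHomeomorph_iff_isEmbedding_surjective.2 ⟨ι.isEmbedding, fun z => ?_⟩
      have : z ∈ Set.range ι := by
        rw [Scheme.IdealSheafData.range_subschemeι, Scheme.IdealSheafData.coe_support_vanishingIdeal]
        trivial
      exact this
    haveI : IrreducibleSpace I.subscheme :=
      (Homeomorph.irreducibleSpace_iff hι.homeomorph).2 inferInstance
    haveI : IsIntegral I.subscheme := isIntegral_of_irreducibleSpace_of_isReduced _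
    letI : I.subscheme.Over (Spec (CommRingCat.of k)) := ⟨ι ≫ i ≫ f⟩
    haveI : IsProper (I.subscheme ↘ Spec (CommRingCat.of k)) := by
      change IsProper (ι ≫ i ≫ f)
      infer_instance
    obtain ⟨W, hW, hns⟩ := Groth.Agent.DualLib.Nonvanish.exists_not_subsingleton_HH (k := k) I.subscheme
      (d := d) (by rw [IsHomeomorph.topologicalKrullDim_eq _ hι]; exact hZd)
    haveI : IsLocallyNoetherian X := LocallyOfFiniteType.isLocallyNoetherian f
    haveI : IsLocallyNoetherian I.subscheme := LocallyOfFiniteType.isLocallyNoetherian (ι ≫ i)
    haveI : Coh.IsQCoh W := hW.1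
    exact hns ((Groth.Agent.Coherent.HHAffinePushEquiv (ι ≫ i) W d).toEquiv.subsingleton_congr.2
      (h _ (Groth.Agent.Coherent.isCoh_push_finite (ι ≫ i) hW)))
  · intro hp M hM
    haveI : Coh.IsQCoh M := hM.1
    exact Groth.Agent.DualLib.Lichtenbaum.subsingleton_HH_of_no_proper f hd.le
      (fun Z i _ _ => hp Z i) M

end Groth.Agent.S0357
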