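import Groth.Statements.S0360
import Groth.Agent.CAlgH3.TorProZero
-- import your own Groth.Agent.* helpers here

set_option autoImplicit false
universe u v
open CategoryTheory
open LocCoh

namespace Groth.Agent.S0360

/-- For an ideal I of a Noetherian ring and integers m ≥ 0, i > 0 there is c ≥ 0 such that for every
module M killed by I^m and every n ≥ c the map Tor_i(M, R/I^n) → Tor_i(M, R/I^{n−c}) is zero. -/
theorem result (R : Type u) [CommRing R] [IsNoetherianRing R] (I : Ideal R) (m i : ℕ) (hi : 0 < i) : ∃ c : ℕ, ∀ (M : Type u) [AddCommGroup M] [Module R M], (∀ a ∈ I ^ m, ∀ x : M, a • x = 0) → ∀ n : ℕ, c ≤ n → (((Tor (ModuleCat.{u} R) i).obj (ModuleCat.of R M)).map (ModuleCat.ofHom (Submodule.mapQ (I ^ n) (I ^ (n - c)) LinearMap.id (Ideal.pow_le_pow_right (Nat.sub_le n c))))) = 0 := by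
  exact Groth.Agent.CAlgH3.TorProZero.result m i hi

end Groth.Agent.S0360
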