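import Groth.Statements.S0363
import Groth.Agent.CAlgH.TorHullExt
import Groth.Agent.Matlis6.Basic

set_option autoImplicit false
universe u v
open CategoryTheory
open Goren

namespace Groth.Agent.S0363

/-- Over a Gorenstein local ring of dimension d with E an injective hull of the residue field κ,
Tor_i(E, κ) vanishes for i ≠ d and Tor_d(E, κ) is isomorphic to κ. -/
theorem result (A : Type u) [CommRing A] [LocCoh.IsGorensteinLocalRing A] (d : ℕ) (hd : ringKrullDim A = d) (E : Type u) [AddCommGroup E] [Module A E] (f : IsLocalRing.ResidueField A →ₗ[A] E) (hf : InjHull.IsInjectiveHull f) : (∀ i : ℕ, i ≠ d → Limits.IsZero (((Tor (ModuleCat.{u} A) i).obj (ModuleCat.of A E)).obj (ModuleCat.of A (IsLocalRing.ResidueField A)))) ∧ Nonempty ((((Tor (ModuleCat.{u} A) d).obj (ModuleCat.of A E)).obj (ModuleCat.of A (IsLocalRing.ResidueField A))) ≅ ModuleCat.of A (IsLocalRing.ResidueField A)) := by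
  haveI := hf.isInjective
  obtain ⟨P, hP⟩ := Groth.Agent.CommAlg4.TorRegular.exists_free_resolution A (IsLocalRing.ResidueField A)
  have hE := Groth.Agent.Matlis6.of_isInjectiveHull_residueField hf
  have hlen : ∀ i : ℕ, Module.length A (CategoryTheory.Abelian.Ext.{u} (ModuleCat.of A (IsLocalRing.ResidueField A))
      (ModuleCat.of A A) i) = if i = d then 1 else 0 :=
    fun i => Groth.Agent.CAlgH3.GrGorenstein.length_ext_residue hd i
  refine ⟨fun i hi => ?_, ?_⟩
  · obtain ⟨e⟩ := Groth.Agent.CAlgH.TorHullExt.nonempty_tor_iso P E hP i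
    refine Limits.IsZero.of_iso ?_ e
    have := Module.length_eq_zero_iff.1 ((hlen i).trans (if_neg hi))
    exact ModuleCat.isZero_of_subsingleton _
  · obtain ⟨e⟩ := Groth.Agent.CAlgH.TorHullExt.nonempty_tor_iso P E hP d
    have h1 : IsSimpleModule A (CategoryTheory.Abelian.Ext.{u} (ModuleCat.of A (IsLocalRing.ResidueField A))
        (ModuleCat.of A A) d) := Module.length_eq_one_iff.1 ((hlen d).trans (if_pos rfl))
    obtain ⟨J, hJ, ⟨e3⟩⟩ := isSimpleModule_iff_quot_maximal.1 h1
    obtain rfl := IsLocalRing.eq_maximalIdeal hJ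
    have h2 := hE.isSimpleModule_dual (Q := CategoryTheory.Abelian.Ext.{u} (ModuleCat.of A (IsLocalRing.ResidueField A))
        (ModuleCat.of A A) d) fun a ha q => e3.injective (by
          obtain ⟨b, hb⟩ := Submodule.Quotient.mk_surjective _ (e3 q)
          rw [map_smul, map_zero, ← hb, ← Submodule.Quotient.mk_smul, Submodule.Quotient.mk_eq_zero, smul_eq_mul]
          exact Ideal.mul_mem_right _ _ ha)
    obtain ⟨I, hI, ⟨e2⟩⟩ := isSimpleModule_iff_quot_maximal.1 h2
    obtain rfl := IsLocalRing.eq_maximalIdeal hI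
    exact ⟨e ≪≫ e2.toModuleIso⟩

end Groth.Agent.S0363
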