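import Groth.Statements.S0365
import Groth.Agent.DualLib.Depth

set_option autoImplicit false
universe u v
open CategoryTheory
attribute [local instance] HasDerivedCategory.standard
open Dual

namespace Groth.Agent.S0365

open Groth.Agent.DualLib in
lemma key {A : Type u} [CommRing A] [IsLocalRing A] [IsNoetherianRing A] {ω : Dual.D A} (hω : Dual.IsDualizing A ω)
    (hn : Dual.IsNormalized A ω) {n : ℕ} (h : LocCoh.depth A A = n) :
    (∀ δ : ℕ, δ < n → Subsingleton (Dual.HD A ω (-(δ : ℤ)))) ∧ Nontrivial (Dual.HD A ω (-(n : ℤ))) := by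
  obtain ⟨h1, h2⟩ := depth_spec hω hn n A h
  exact ⟨fun δ hδ => haveI := h1 (-(δ : ℤ)) (by omega); (eSelf ω _).symm.injective.subsingleton,
    haveI := h2; (eSelf ω _).symm.toEquiv.nontrivial⟩

/-- For a Noetherian local ring with normalized dualizing complex ω, the depth of the ring is the least
δ ≥ 0 with H^{-δ}(ω) nonzero. -/
theorem result (A : Type u) [CommRing A] [IsLocalRing A] [IsNoetherianRing A] (ω : Dual.D A) (hω : Dual.IsDualizing A ω) (hn : Dual.IsNormalized A ω) (n : ℕ) : LocCoh.depth A A = n ↔ ((∀ δ : ℕ, δ < n → Subsingleton (Dual.HD A ω (-(δ : ℤ)))) ∧ Nontrivial (Dual.HD A ω (-(n : ℤ)))) := by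
  refine ⟨key hω hn, fun ⟨h1, h2⟩ => ?_⟩
  obtain ⟨m, hm⟩ : ∃ m : ℕ, LocCoh.depth A A = m := by
    refine ⟨_, (ENat.coe_toNat ?_).symm⟩
    exact ne_of_lt (CAlgH3.depth_lt_top (R := A) (M := A))
  obtain ⟨g1, g2⟩ := key hω hn hm
  rw [hm]
  congr 1
  rcases lt_trichotomy m n with h | h | h
  · exact absurd (h1 m h) (not_subsingleton_iff_nontrivial.2 g2)
  · exact h
  · exact absurd (g1 n h) (not_subsingleton_iff_nontrivial.2 h2)

end Groth.Agent.S0365
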