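import Groth.Statements.S0367
import Groth.Agent.DualLib.Depth

set_option autoImplicit false
universe u v
open CategoryTheory
attribute [local instance] HasDerivedCategory.standard
open Dual

namespace Groth.Agent.S0367

/-- For a Noetherian local ring with normalized dualizing complex ω and a finite module M with mM ≠ M,
the depth of M is the least δ ≥ 0 with Hom(M, ω[−δ]) nonzero in D(A). -/
theorem result (A : Type u) [CommRing A] [IsLocalRing A] [IsNoetherianRing A] (ω : Dual.D A) (hω : Dual.IsDualizing A ω) (hn : Dual.IsNormalized A ω) (M : Type u) [AddCommGroup M] [Module A M] [Module.Finite A M] [Nontrivial M] (n : ℕ) : LocCoh.depth A M = n ↔ ((∀ δ : ℕ, δ < n → Subsingleton (Dual.inD A M ⟶ ω⟦(-(δ : ℤ))⟧)) ∧ Nontrivial (Dual.inD A M ⟶ ω⟦(-(n : ℤ))⟧)) := by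
  obtain ⟨m, hm⟩ := Groth.Agent.CAlgH3.exists_depth_eq_natCast (R := A) (M := M)
  obtain ⟨h1, h2⟩ := Groth.Agent.DualLib.depth_spec hω hn m M hm
  rw [hm, Nat.cast_inj]
  constructor
  · rintro rfl
    exact ⟨fun δ hδ => h1 _ (by omega), h2⟩
  · rintro ⟨g1, g2⟩
    rcases lt_trichotomy m n with hlt | heq | hgt
    · exact absurd (g1 m hlt) (not_subsingleton_iff_nontrivial.2 h2)
    · exact heq
    · exact absurd (h1 _ (by omega)) (not_subsingleton_iff_nontrivial.2 g2)

end Groth.Agent.S0367
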