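import Groth.Statements.S0368
import Groth.Agent.DualLib.Depth

set_option autoImplicit false
universe u v
open CategoryTheory
attribute [local instance] HasDerivedCategory.standard
open Dual

namespace Groth.Agent.S0368

/-- (1)⇔(3): for a Noetherian local ring with normalized dualizing complex ω, a nonzero finite module M
with support of dimension d is Cohen–Macaulay exactly when Hom(M, ω[−i]) vanishes in D(A) for every
i ≠ d. -/
theorem result (A : Type u) [CommRing A] [IsLocalRing A] [IsNoetherianRing A] (ω : Dual.D A) (hω : Dual.IsDualizing A ω) (hn : Dual.IsNormalized A ω) (M : Type u) [AddCommGroup M] [Module A M] [Module.Finite A M] [Nontrivial M] (d : ℕ) (hd : Module.supportDim A M = d) : LocCoh.IsCohenMacaulayModule A M ↔ ∀ i : ℤ, i ≠ d → Subsingleton (Dual.inD A M ⟶ ω⟦(-i)⟧) := by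
  obtain ⟨m, hm⟩ := Groth.Agent.CAlgH3.exists_depth_eq_natCast (R := A) (M := M)
  obtain ⟨h1, h2⟩ := Groth.Agent.DualLib.depth_spec hω hn m M hm
  rw [LocCoh.IsCohenMacaulayModule, hd, hm]
  constructor
  · intro h i hi
    have hdm : d = m := by exact_mod_cast h
    rcases lt_or_gt_of_ne hi with hlt | hgt
    · exact h1 _ (by omega)
    · exact Groth.Agent.DualLib.subsingleton_of_lt hω hn M d
        (fun p hp => Groth.Agent.DualLib.coheight_le_of_supportDim_le hd.le hp) _ (by omega)
  · intro h
    by_contra hne
    have hmd : (m : ℤ) ≠ d := fun e => hne (by rw [show m = d by exact_mod_cast e]; rfl)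
    exact absurd (h m hmd) (not_subsingleton_iff_nontrivial.2 h2)

end Groth.Agent.S0368
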