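import Groth.Statements.S0370
import Groth.Agent.DualLib.LocalDepth
import Groth.Agent.DualLib.Self
import Groth.Agent.LocCoh.DepthLocal

set_option autoImplicit false
universe u v
open CategoryTheory
attribute [local instance] HasDerivedCategory.standard
open Dual

namespace Groth.Agent.S0370

open Groth.Agent.DualLib in
/-- Chains raise the degree. -/
lemma deg_add_length {A : Type u} [CommRing A] [IsNoetherianRing A] {ω : Dual.D A} (hω : Dual.IsDualizing A ω)
    (s : LTSeries (PrimeSpectrum A)) : deg hω s.head + (s.length : ℤ) ≤ deg hω s.last := by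
  have key : ∀ j : Fin (s.length + 1), deg hω s.head + (j : ℤ) ≤ deg hω (s j) := by
    intro j
    induction j using Fin.induction with
    | zero => simp [RelSeries.head]
    | succ j ih =>
      have := deg_lt hω (s.step j)
      simp only [Fin.val_succ, Fin.val_castSucc] at ih ⊢
      push_cast
      omega
  simpa [RelSeries.last] using key (Fin.last _)


/-- A Noetherian ring admitting a finite module which, placed in degree 0, is a dualizing complex, is
Cohen–Macaulay. -/
theorem result (A : Type u) [CommRing A] [IsNoetherianRing A] (W : Type u) [AddCommGroup W] [Module A W] [Module.Finite A W] (h : Dual.IsDualizing A (Dual.inD A W)) : LocCoh.IsCohenMacaulayRing A := by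
  refine ⟨fun p hp => ?_⟩
  let P : PrimeSpectrum A := ⟨p, hp⟩
  haveI : IsNoetherianRing (Localization.AtPrime p) :=
    IsLocalization.isNoetherianRing p.primeCompl (Localization.AtPrime p) inferInstance
  rw [Groth.Agent.CAlgH3.isCohenMacaulayLocalRing_iff_depth,
    IsLocalization.AtPrime.ringKrullDim_eq_height p (Localization.AtPrime p),
    ← Groth.Agent.LocCoh.depth_localization_self]
  have hmemA : ∀ q : PrimeSpectrum A, q ∈ Module.support A A := fun q =>
    Module.mem_support_iff_of_finite.2 fun a ha => by
      have h1 := Module.mem_annihilator.1 ha 1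
      rw [smul_eq_mul, mul_one] at h1
      exact h1 ▸ q.asIdeal.zero_mem
  haveI : Nontrivial (LocalizedModule p.primeCompl A) := hmemA P
  obtain ⟨n, hn⟩ := Groth.Agent.CAlgH3.exists_depth_eq_natCast (R := Localization.AtPrime p)
    (M := LocalizedModule p.primeCompl A)
  have hzero : ∀ (q : PrimeSpectrum A) (i : ℤ),
      q ∈ Module.support A (Groth.Agent.DualLib.E (Dual.inD A W) A i) → i = 0 := fun q i hq => by
    by_contra hi
    haveI := Groth.Agent.DualLib.hd_single_subsingleton (A := A) W i hi
    rw [(Groth.Agent.DualLib.eSelf (Dual.inD A W) i).support_eq] at hq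
    exact Groth.Agent.DualLib.notMem_support_of_subsingleton q hq
  have hdeg : Groth.Agent.DualLib.deg h P = (n : ℤ) := by
    have := hzero P _ (Groth.Agent.DualLib.localDepth_spec h P n A (hmemA P) hn).2
    omega
  have hle := Groth.Agent.CAlgH3.depth_le_supportDim (R := Localization.AtPrime p)
    (M := LocalizedModule p.primeCompl A)
  have hle' := hle.trans (Module.supportDim_le_ringKrullDim (Localization.AtPrime p)
    (LocalizedModule p.primeCompl A))
  rw [IsLocalization.AtPrime.ringKrullDim_eq_height p (Localization.AtPrime p)] at hle'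
  refine le_antisymm (WithBot.coe_le_coe.2 ?_) hle'
  rw [hn, show p = P.asIdeal from rfl, PrimeSpectrum.height_eq_orderHeight]
  refine Order.height_le fun s hs => ?_
  obtain ⟨q, hq, hqh⟩ := Ideal.exists_minimalPrimes_le (bot_le : (⊥ : Ideal A) ≤ s.head.asIdeal)
  let Q : PrimeSpectrum A := ⟨q, hq.1.1⟩
  have h1 := hzero Q _ (Groth.Agent.DualLib.mem_support_of_minimal' h (q := Q) le_rfl A
    (fun r _ hr => PrimeSpectrum.ext (le_antisymm hr (hq.2 ⟨r.2, bot_le⟩ hr))) (hmemA Q))
  have h2 : Groth.Agent.DualLib.deg h Q ≤ Groth.Agent.DualLib.deg h s.head := by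
    rcases (show Q ≤ s.head from hqh).lt_or_eq with hlt | heq
    · exact (Groth.Agent.DualLib.deg_lt h hlt).le
    · rw [heq]
  have h3 := deg_add_length h s
  rw [hs] at h3
  exact_mod_cast (show s.length ≤ n by omega)

end Groth.Agent.S0370
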