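import Groth.Statements.S1716
import Groth.Agent.DualLib.SerreLoci

set_option autoImplicit false
universe u
open CategoryTheory
attribute [local instance] HasDerivedCategory.standard
open Dual

namespace Groth.Agent.S1716

/-- Let A be a Noetherian ring with a dualizing complex and M a finite A-module. The set U of primes p
at which M_p is zero or a Cohen–Macaulay module is open in Spec A, and the primes of the support of
M at which M_p is Cohen–Macaulay are dense in the support of M. (The zero module is counted as
Cohen–Macaulay here.) -/
theorem result (A : Type u) [CommRing A] [IsNoetherianRing A] (hA : ∃ ω : Dual.D A, Dual.IsDualizing A ω) (M : Type u) [AddCommGroup M] [Module A M] [Module.Finite A M] : IsOpen {p : PrimeSpectrum A | Subsingleton (LocalizedModule p.asIdeal.primeCompl M) ∨ LocCoh.IsCohenMacaulayModule (Localization.AtPrime p.asIdeal) (LocalizedModule p.asIdeal.primeCompl M)} ∧ Module.support A M ⊆ closure ({p : PrimeSpectrum A | LocCoh.IsCohenMacaulayModule (Localization.AtPrime p.asIdeal) (LocalizedModule p.asIdeal.primeCompl M)} ∩ Module.support A M) := by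
  obtain ⟨ω, hω⟩ := hA
  have key : ∀ p : PrimeSpectrum A,
      (Subsingleton (LocalizedModule p.asIdeal.primeCompl M) ∨
        LocCoh.IsCohenMacaulayModule (Localization.AtPrime p.asIdeal) (LocalizedModule p.asIdeal.primeCompl M)) ↔
      Module.supportDim (Localization.AtPrime p.asIdeal) (LocalizedModule p.asIdeal.primeCompl M) ≤
        ((LocCoh.depth (Localization.AtPrime p.asIdeal)
          (LocalizedModule p.asIdeal.primeCompl M) : ℕ∞) : WithBot ℕ∞) + (0 : ℕ) := fun p => by
    rw [Nat.cast_zero, add_zero]
    constructor
    · rintro (h | h)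
      · rw [Module.supportDim_eq_bot_of_subsingleton]; exact bot_le
      · exact h.le
    · intro h
      rcases subsingleton_or_nontrivial (LocalizedModule p.asIdeal.primeCompl M) with hs | hs
      · exact Or.inl hs
      · haveI : IsNoetherianRing (Localization.AtPrime p.asIdeal) :=
          IsLocalization.isNoetherianRing p.asIdeal.primeCompl (Localization.AtPrime p.asIdeal) inferInstance
        exact Or.inr (le_antisymm h Groth.Agent.CAlgH3.depth_le_supportDim)
  refine ⟨?_, fun p hp => ?_⟩
  · rw [show {p : PrimeSpectrum A | Subsingleton (LocalizedModule p.asIdeal.primeCompl M) ∨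
        LocCoh.IsCohenMacaulayModule (Localization.AtPrime p.asIdeal) (LocalizedModule p.asIdeal.primeCompl M)} = _
      from Set.ext key]
    exact Groth.Agent.DualLib.isOpen_codepth hω M 0
  · obtain ⟨q, hq, hqp, hmin⟩ := Groth.Agent.DualLib.exists_min_below p M hp hp le_rfl
    suffices hcm : LocCoh.IsCohenMacaulayModule (Localization.AtPrime q.asIdeal)
        (LocalizedModule q.asIdeal.primeCompl M) by
      exact closure_mono (Set.singleton_subset_iff.2
        (show q ∈ {p : PrimeSpectrum A | LocCoh.IsCohenMacaulayModule (Localization.AtPrime p.asIdeal)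
          (LocalizedModule p.asIdeal.primeCompl M)} ∩ Module.support A M from ⟨hcm, hq⟩))
        ((PrimeSpectrum.le_iff_mem_closure q p).1 hqp)
    obtain ⟨d, n, hd, hn, hle, -, -, -⟩ := Groth.Agent.DualLib.local_degrees hω M q hq
    obtain ⟨d', hd', -, r, hr, hrq, -, hrd⟩ := Groth.Agent.DualLib.exists_localDim hω q M hq
    obtain rfl := hmin r hr hrq
    unfold LocCoh.IsCohenMacaulayModule
    rw [hd] at hd'
    have hdd : d = d' := by exact_mod_cast hd'
    rw [hd, hn, show n = d by omega]
    rfl

end Groth.Agent.S1716
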