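import Groth.Statements.S0372
import Groth.Agent.S1716

set_option autoImplicit false
universe u v
open CategoryTheory
attribute [local instance] HasDerivedCategory.standard
open Dual

namespace Groth.Agent.S0372

/-- If a Noetherian ring has a dualizing complex then the set of primes at which the localization is
Cohen–Macaulay is open and dense in the prime spectrum. -/
theorem result (A : Type u) [CommRing A] [IsNoetherianRing A] (ω : Dual.D A) (hω : Dual.IsDualizing A ω) : IsOpen {p : PrimeSpectrum A | LocCoh.IsCohenMacaulayLocalRing (Localization.AtPrime p.asIdeal)} ∧ Dense {p : PrimeSpectrum A | LocCoh.IsCohenMacaulayLocalRing (Localization.AtPrime p.asIdeal)} := by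
  have hsupp : ∀ p : PrimeSpectrum A, p ∈ Module.support A A := fun p => by
    rw [Module.support_eq_zeroLocus, Module.annihilator_eq_bot.2 inferInstance]
    exact fun a ha => by simp [(Submodule.mem_bot A).1 ha]
  have key : ∀ p : PrimeSpectrum A, LocCoh.IsCohenMacaulayLocalRing (Localization.AtPrime p.asIdeal) ↔
      (Subsingleton (LocalizedModule p.asIdeal.primeCompl A) ∨
        LocCoh.IsCohenMacaulayModule (Localization.AtPrime p.asIdeal) (LocalizedModule p.asIdeal.primeCompl A)) :=
    fun p => by
      haveI : IsNoetherianRing (Localization.AtPrime p.asIdeal) :=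
        IsLocalization.isNoetherianRing p.asIdeal.primeCompl (Localization.AtPrime p.asIdeal) inferInstance
      haveI : Nontrivial (LocalizedModule p.asIdeal.primeCompl A) := hsupp p
      rw [or_iff_right (not_subsingleton _),
        Groth.Agent.CAlgH3.isCohenMacaulayModule_congr (Groth.Agent.CAlgH3.localizedModuleSelf p.asIdeal),
        Groth.Agent.CAlgH3.isCohenMacaulayLocalRing_iff]
  obtain ⟨h1, h2⟩ := Groth.Agent.S1716.result A ⟨ω, hω⟩ A
  refine ⟨?_, fun p => ?_⟩
  · rw [show {p : PrimeSpectrum A | LocCoh.IsCohenMacaulayLocalRing (Localization.AtPrime p.asIdeal)} = _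
      from Set.ext key]
    exact h1
  · refine closure_mono (fun q hq => ?_) (h2 (hsupp p))
    exact (key q).2 (Or.inr hq.1)

end Groth.Agent.S0372
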