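import Groth.Statements.S0373
import Groth.Agent.DualLib.Gorenstein

set_option autoImplicit false
universe u v
open CategoryTheory
attribute [local instance] HasDerivedCategory.standard
open Dual

namespace Groth.Agent.S0373

/-- If a Noetherian ring has a dualizing complex then the set of primes at which the localization is
Gorenstein is open. -/
theorem result (A : Type u) [CommRing A] [IsNoetherianRing A] (ω : Dual.D A) (hω : Dual.IsDualizing A ω) : IsOpen {p : PrimeSpectrum A | LocCoh.IsGorensteinLocalRing (Localization.AtPrime p.asIdeal)} := by
  exact Groth.Agent.DualLib.isOpen_gorenstein hω

end Groth.Agent.S0373
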