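import Groth.Statements.S0375
import Groth.Agent.DualLib.Matlis
import Groth.Agent.DualLib.Trunc

set_option autoImplicit false
universe u v
open CategoryTheory
attribute [local instance] HasDerivedCategory.standard
open Dual

namespace Groth.Agent.S0375

/-- Over a Noetherian local ring of dimension 0, a normalized dualizing complex is isomorphic in D(A) to
an injective hull of the residue field placed in degree 0. -/
theorem result (A : Type u) [CommRing A] [IsLocalRing A] [IsNoetherianRing A] (h0 : ringKrullDim A = 0) (ω : Dual.D A) (hω : Dual.IsDualizing A ω) (hn : Dual.IsNormalized A ω) (E : Type u) [AddCommGroup E] [Module A E] (f : IsLocalRing.ResidueField A →ₗ[A] E) (hf : InjHull.IsInjectiveHull f) : Nonempty (ω ≅ Dual.inD A E) := by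
  haveI : IsArtinianRing A := by
    haveI : Ring.KrullDimLE 0 A := Ring.krullDimLE_iff.2 h0.le
    exact isArtinianRing_iff_krullDimLE_zero.2 inferInstance
  have hfl : IsFiniteLength A A := isFiniteLength_iff_isNoetherian_isArtinian.2 ⟨inferInstance, inferInstance⟩
  have hz : ∀ i : ℤ, i ≠ 0 → Subsingleton (Dual.HD A ω i) := fun i hi =>
    haveI := Groth.Agent.DualLib.subsingleton_of_ne hn A
      (Groth.Agent.DualLib.support_subset_of_isFiniteLength hfl) i hi
    (Groth.Agent.DualLib.eSelf ω i).symm.injective.subsingleton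
  haveI : ω.IsGE 0 := (Groth.Agent.DRingLib.isGE_iff_HD ω 0).2 fun i hi => hz i (by omega)
  haveI : ω.IsLE 0 := (Groth.Agent.DRingLib.isLE_iff_HD ω 0).2 fun i hi => hz i (by omega)
  obtain ⟨e⟩ := Groth.Agent.DualLib.exists_single_iso ω 0
  obtain ⟨e'⟩ := Groth.Agent.DualLib.exists_matlis_equiv hω hn hf A hfl
  exact ⟨e.symm ≪≫ (Groth.Agent.DualLib.S0 A).mapIso
    ((Groth.Agent.DualLib.eSelf ω 0).symm.trans (e'.trans (LinearMap.ringLmapEquivSelf A A E))).toModuleIso⟩

end Groth.Agent.S0375
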