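import Groth.Statements.S0378
import Groth.Agent.LocCoh.BaseChange

set_option autoImplicit false
universe u v
open LocCoh

namespace Groth.Agent.S0378

/-- (1)⇔(2): local cohomology with support in I vanishes above degree d on every module as soon as it
does so on the ring itself. (Part (3) about the punctured spectrum is not stated.) -/
theorem result (R : Type u) [CommRing R] [IsNoetherianRing R] (I : Ideal R) (d : ℕ) : (∀ i : ℕ, d < i → Subsingleton (LocCoh.H I i R)) ↔ LocCoh.CdLE R I d := by
  exact Groth.Agent.LocCoh.cdLE_iff I d

end Groth.Agent.S0378
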