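import Groth.Statements.S0380
import Groth.Agent.LocCoh.BaseChange
import Mathlib.RingTheory.Localization.BaseChange
import Mathlib.RingTheory.Support

set_option autoImplicit false
universe u v
open LocCoh

namespace Groth.Agent.S0380

/-- Local cohomology with support in I vanishes above degree d on all modules exactly when, for every
prime p, local cohomology over A_p with support in I A_p vanishes above degree d on all A_p-modules. -/
theorem result (R : Type u) [CommRing R] [IsNoetherianRing R] (I : Ideal R) (d : ℕ) : LocCoh.CdLE R I d ↔ ∀ (p : Ideal R) [p.IsPrime], LocCoh.CdLE (Localization.AtPrime p) (I.map (algebraMap R (Localization.AtPrime p))) d := by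
  constructor
  · intro h p _ M _ _ i hi
    letI : Module R M := Module.compHom M (algebraMap R (Localization.AtPrime p))
    haveI : IsScalarTower R (Localization.AtPrime p) M :=
      IsScalarTower.of_algebraMap_smul fun _ _ => rfl
    obtain ⟨φ, -⟩ := Groth.Agent.LocCoh.exists_H_independence R (Localization.AtPrime p) I i M
    haveI := h M i hi
    exact φ.toEquiv.subsingleton
  · intro h
    rw [← Groth.Agent.LocCoh.cdLE_iff]
    intro i hi
    by_contra hne
    rw [not_subsingleton_iff_nontrivial] at hne
    obtain ⟨⟨p, hp⟩, hmem⟩ := Module.nonempty_support_of_nontrivial (R := R) (M := LocCoh.H I i R)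
    obtain ⟨e⟩ := Groth.Agent.LocCoh.nonempty_H_baseChange R (Localization.AtPrime p) I i R
    haveI := h p (TensorProduct R (Localization.AtPrime p) R) i hi
    haveI : Subsingleton (TensorProduct R (Localization.AtPrime p) (LocCoh.H I i R)) :=
      e.toEquiv.subsingleton
    rw [Module.mem_support_iff] at hmem
    exact not_subsingleton_iff_nontrivial.2 hmem
      (LocalizedModule.equivTensorProduct p.primeCompl (LocCoh.H I i R)).toEquiv.subsingleton

end Groth.Agent.S0380
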