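import Groth.Statements.S0382
import Groth.Agent.AbVarLib.MulIsogeny
import Groth.Agent.AlgGrpLib.TangentVector
import Mathlib.AlgebraicGeometry.Geometrically.Integral

set_option autoImplicit false
universe u v
open CategoryTheory MonoidalCategory CartesianMonoidalCategory MonObj GrpObj AlgebraicGeometry
open GrpSch

namespace Groth.Agent.S0382

/-- On an abelian variety of positive dimension over a field K (a proper, geometrically integral group
scheme over K), multiplication by an integer d is étale exactly when d is nonzero in K.
Multiplication by d is written as the d-th power of the identity morphism in the group Hom(A, A),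
whose multiplication is pointwise, induced by the group structure of A. -/
theorem result (K : Type u) [Field K] (A : Over (Spec (CommRingCat.of K))) [GrpObj A] [IsProper A.hom] [GeometricallyIntegral A.hom] (hA : 0 < topologicalKrullDim A.left) (d : ℤ) : Etale ((𝟙 A ^ d).left) ↔ ((d : K) ≠ 0) := by
  constructor
  · intro het hd
    haveI : IrreducibleSpace A.left := GeometricallyIrreducible.irreducibleSpace_of_subsingleton A.hom
    obtain ⟨w, hw, hw1⟩ := Groth.Agent.AlgGrpLib.exists_tangent_ne_one A hA
    refine hw1 (Groth.Agent.AlgGrpLib.eq_one_of_comp_eq_one A (𝟙 A ^ d) (Groth.Agent.AbVarLib.one_comp_zpow A d) w hw ?_)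
    rw [GrpObj.comp_zpow, Category.comp_id, Groth.Agent.AbVarLib.zpow_eq_tmap_comp _ hw,
      show (d • LinearMap.id : K →ₗ[K] K) = 0 from by
        rw [← Int.cast_smul_eq_zsmul K, hd, zero_smul],
      Groth.Agent.AbVarLib.tmap_zero, Category.assoc, hw, MonObj.comp_one]
  · intro hd
    haveI : GeometricallyConnected A.hom := Groth.Agent.AbSchLib.geometricallyConnected_of_irreducible A.hom
    haveI := Groth.Agent.AbSchLib.isCommMonObj_of_proper A
    haveI := Groth.Agent.AbVarLib.smooth_of_geometricallyReduced A
    exact Groth.Agent.AbVarLib.etale_zpow A d (by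
      have := hd.isUnit.map (Scheme.ΓSpecIso (CommRingCat.of K)).inv.hom
      rwa [map_intCast] at this)

end Groth.Agent.S0382
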