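import Groth.Statements.S0383
import Groth.Agent.AbCubeLib.MulBy

set_option autoImplicit false
universe u v
open CategoryTheory MonoidalCategory CartesianMonoidalCategory MonObj GrpObj AlgebraicGeometry
open GrpSch

namespace Groth.Agent.S0383

/-- On an abelian variety over a field (a proper, geometrically integral group scheme), multiplication
by any integer n ≥ 1 (the n-th power of the identity in the pointwise group Hom(A, A)) is a
surjective morphism. -/
theorem result (K : Type u) [Field K] (A : Over (Spec (CommRingCat.of K))) [GrpObj A] [IsProper A.hom] [GeometricallyIntegral A.hom] (n : ℕ) (hn : 1 ≤ n) : Surjective ((𝟙 A ^ n).left) := by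
  exact Groth.Agent.AbCubeLib.surjective_pow hn

end Groth.Agent.S0383
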