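import Groth.Statements.S0392
import Groth.Agent.FlatCrit.Inj

set_option autoImplicit false
universe u
open FlatMor

namespace Groth.Agent.S0392

open Groth.Agent.FlatCrit

open TensorProduct in
/-- Fibrewise criterion of flatness, Noetherian local form: for local homomorphisms R → S → S' of
Noetherian local rings and a nonzero finite S'-module M that is flat over R and whose reduction
modulo the maximal ideal of R is flat over the corresponding fibre ring of S, the ring S is flat
over R and M is flat over S. -/
theorem result {R S S' M : Type u} [CommRing R] [CommRing S] [CommRing S'] [IsLocalRing R] [IsLocalRing S] [IsLocalRing S']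
    [IsNoetherianRing R] [IsNoetherianRing S] [IsNoetherianRing S'] [Algebra R S] [Algebra S S'] [Algebra R S'] [IsScalarTower R S S']
    [IsLocalHom (algebraMap R S)] [IsLocalHom (algebraMap S S')]
    [AddCommGroup M] [Module S' M] [Module S M] [Module R M] [IsScalarTower S S' M] [IsScalarTower R S M]
    [Module.Finite S' M] [Nontrivial M] [Module.Flat R M]
    (h : Module.Flat (S ⧸ ((IsLocalRing.maximalIdeal R).map (algebraMap R S))) ((S ⧸ ((IsLocalRing.maximalIdeal R).map (algebraMap R S))) ⊗[S] M)) :
    Module.Flat R S ∧ Module.Flat S M := by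
  set J := (IsLocalRing.maximalIdeal R).map (algebraMap R S)
  have hJ' : J.map (algebraMap S S') ≤ IsLocalRing.maximalIdeal S' :=
    (Ideal.map_mono (IsLocalRing.map_maximalIdeal_le _)).trans (IsLocalRing.map_maximalIdeal_le _)
  have hMS : Module.Flat S M := by
    refine flat_of_rTensor_injective (S := S') J ?_
      (rTensor_map_injective (Module.Flat.rTensor_preserves_injective_linearMap _ Subtype.val_injective))
      (quotFlat_of_flat J h)
    rwa [IsLocalRing.jacobson_eq_maximalIdeal ⊥ bot_ne_top]
  have hff : Module.FaithfullyFlat S M := by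
    refine ⟨fun {m} hm heq => ?_⟩
    have h1 : (⊤ : Submodule S M) ≤ ((IsLocalRing.maximalIdeal S') • (⊤ : Submodule S' M)).restrictScalars S := by
      refine heq.ge.trans (Submodule.smul_le.mpr fun r hr x _ => ?_)
      rw [Submodule.restrictScalars_mem, ← algebraMap_smul S' r x]
      refine Submodule.smul_mem_smul (IsLocalRing.map_maximalIdeal_le (algebraMap S S')
        (Ideal.mem_map_of_mem _ ?_)) trivial
      rwa [← IsLocalRing.eq_maximalIdeal hm]
    exact Submodule.top_ne_ideal_smul_of_le_jacobson_annihilator
      (IsLocalRing.maximalIdeal_le_jacobson _) (eq_top_iff.mpr fun x _ => h1 trivial).symm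
  exact ⟨flat_of_flat_of_faithfullyFlat (M := M), hMS⟩

end Groth.Agent.S0392
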