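import Groth.Statements.S0395
import Groth.Agent.FlatCrit.Inj

set_option autoImplicit false
universe u
open FlatMor

namespace Groth.Agent.S0395

open Groth.Agent.FlatCrit

open TensorProduct nonZeroDivisors in
/-- For a flat local homomorphism R → S of Noetherian local rings and an element f of S that is regular
on the fibre ring S/mS, the quotient of S by f is again R-flat and f is regular on S. -/
theorem result {R S : Type u} [CommRing R] [CommRing S] [IsLocalRing R] [IsLocalRing S] [IsNoetherianRing R] [IsNoetherianRing S] [Algebra R S] [IsLocalHom (algebraMap R S)] [Module.Flat R S]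
    (f : S) (hf : Ideal.Quotient.mk ((IsLocalRing.maximalIdeal R).map (algebraMap R S)) f ∈ nonZeroDivisors (S ⧸ ((IsLocalRing.maximalIdeal R).map (algebraMap R S)))) :
    Module.Flat R (S ⧸ Ideal.span {f}) ∧ f ∈ nonZeroDivisors S := by
  have hjac : (IsLocalRing.maximalIdeal R).map (algebraMap R S) ≤ Ideal.jacobson ⊥ := by
    rw [IsLocalRing.jacobson_eq_maximalIdeal ⊥ bot_ne_top]
    exact IsLocalRing.map_maximalIdeal_le _
  set J := (IsLocalRing.maximalIdeal R).map (algebraMap R S)
  let u : S →ₗ[R] S := LinearMap.mulLeft R f
  have hker : ∀ s : S, TensorProduct.mk R (IsLocalRing.ResidueField R) S 1 s = 0 ↔ s ∈ J := by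
    intro s
    rw [← LinearMap.mem_ker]
    rw [show LinearMap.ker (TensorProduct.mk R (IsLocalRing.ResidueField R) S 1) =
      IsLocalRing.maximalIdeal R • (⊤ : Submodule R S) from
      LinearMap.ker_tensorProductMk (Q := S) (I := IsLocalRing.maximalIdeal R), Ideal.smul_top_eq_map]
    rfl
  have h : Function.Injective (LinearMap.lTensor (IsLocalRing.ResidueField R) u) := by
    rw [injective_iff_map_eq_zero]
    intro z hz
    obtain ⟨s, rfl⟩ := TensorProduct.mk_surjective R S (IsLocalRing.ResidueField R)
      (Ideal.Quotient.mk_surjective (I := IsLocalRing.maximalIdeal R)) z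
    have h1 : f * s ∈ J := (hker (f * s)).mp (by simpa [u] using hz)
    refine (hker s).mpr ?_
    rw [← Ideal.Quotient.eq_zero_iff_mem] at h1 ⊢
    rw [map_mul] at h1
    exact (mul_right_mem_nonZeroDivisors_eq_zero_iff hf).mp ((mul_comm _ _).trans h1)
  have hinj := injective_of_injective_mod_max u h hjac
  refine ⟨?_, ?_⟩
  · have := flat_coker_of_injective_mod_max u h hjac
    have hr : LinearMap.range u = (Ideal.span {f}).restrictScalars R := by
      ext x
      simp [u, Ideal.mem_span_singleton', mul_comm]
    exact Module.Flat.of_linearEquiv ((Submodule.quotEquivOfEq _ _ hr).trans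
      (Submodule.Quotient.restrictScalarsEquiv R (Ideal.span {f}))).symm
  · rw [mem_nonZeroDivisors_iff_right]
    intro x hx
    exact hinj (by simpa [u, mul_comm] using hx)

end Groth.Agent.S0395
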