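import Groth.Statements.S0398
import Groth.Agent.CAlgH3.FlatDescent

set_option autoImplicit false
universe u
open FlatMor

namespace Groth.Agent.S0398

open TensorProduct in
/-- For an injective ring map R → S with R Artinian and an R-module M, if S ⊗ M is flat over S then M is
flat over R. -/
theorem result {R S M : Type u} [CommRing R] [CommRing S] [IsArtinianRing R] [Algebra R S] (hinj : Function.Injective (algebraMap R S))
    [AddCommGroup M] [Module R M] [Module.Flat S (S ⊗[R] M)] : Module.Flat R M := by
  refine Module.flat_of_localized_maximal M fun m hm => ?_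
  let A := Localization.AtPrime m
  let T := Localization (Algebra.algebraMapSubmonoid S m.primeCompl)
  haveI : IsLocalization (Submonoid.map (algebraMap R S) m.primeCompl) T := inferInstanceAs (IsLocalization (Algebra.algebraMapSubmonoid S m.primeCompl) T)
  letI : Algebra A T := localizationAlgebra m.primeCompl S
  haveI : IsScalarTower R A T := IsScalarTower.of_algebraMap_eq fun r =>
    (IsLocalization.map_eq (S := A) (Q := T) (T := Submonoid.map (algebraMap R S) m.primeCompl) m.primeCompl.le_comap_map r).symm
  have hinj' : Function.Injective (algebraMap A T) := IsLocalization.map_injective_of_injective m.primeCompl A T hinj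
  haveI : IsArtinianRing A := inferInstance
  haveI : Module.Flat T (T ⊗[A] (A ⊗[R] M)) :=
    Module.Flat.of_linearEquiv (M := T ⊗[S] (S ⊗[R] M))
      ((TensorProduct.AlgebraTensorModule.cancelBaseChange R A T T M).trans
        (TensorProduct.AlgebraTensorModule.cancelBaseChange R S T T M).symm)
  have := Groth.Agent.CAlgH3.flat_descent_of_isNilpotent (A := A) (A' := T)
    (by obtain ⟨n, hn⟩ := IsArtinianRing.isNilpotent_jacobson_bot (R := A); exact ⟨n, le_bot_iff.1 ((Ideal.pow_right_mono (IsLocalRing.maximalIdeal_le_jacobson ⊥) n).trans hn.le)⟩) hinj' (A ⊗[R] M)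
  haveI : Module.Flat R (A ⊗[R] M) := Module.Flat.trans R A _
  exact Module.Flat.of_linearEquiv ((LocalizedModule.equivTensorProduct m.primeCompl M).restrictScalars R)

end Groth.Agent.S0398
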