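import Groth.Statements.S0401
import Mathlib

set_option autoImplicit false
universe u
open FlatMor

namespace Groth.Agent.S0401

/-- For a finite type ring map R → S quasi-finite at a prime q lying over p, the dimension of S_q is at
most the dimension of R_p. -/
theorem result {R S : Type u} [CommRing R] [CommRing S] [Algebra R S] [Algebra.FiniteType R S] (q : Ideal S) [q.IsPrime] [Algebra.QuasiFiniteAt R q] :
    ringKrullDim (Localization.AtPrime q) ≤ ringKrullDim (Localization.AtPrime (q.under R)) := by
  haveI : Algebra.QuasiFinite R (Localization.AtPrime q) := ‹Algebra.QuasiFiniteAt R q›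
  let φ := Localization.localRingHom (q.under R) q (algebraMap R S) rfl
  refine Order.krullDim_le_of_strictMono (PrimeSpectrum.comap φ) fun P Q hPQ => ?_
  refine lt_of_le_of_ne (Ideal.comap_mono hPQ.le) fun h => hPQ.ne (PrimeSpectrum.ext ?_)
  refine Algebra.QuasiFinite.eq_of_le_of_under_eq (R := R) P.asIdeal Q.asIdeal hPQ.le ?_
  have hcomp : algebraMap R (Localization.AtPrime q) = φ.comp (algebraMap R (Localization.AtPrime (q.under R))) := by
    refine RingHom.ext fun r => ?_
    rw [RingHom.comp_apply, Localization.localRingHom_to_map]
    exact IsScalarTower.algebraMap_apply R S _ r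
  show P.asIdeal.comap (algebraMap R _) = Q.asIdeal.comap (algebraMap R _)
  rw [hcomp, ← Ideal.comap_comap, ← Ideal.comap_comap]
  exact congrArg _ (congrArg PrimeSpectrum.asIdeal h)

end Groth.Agent.S0401
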