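import Groth.Statements.S0410
import Groth.Agent.FlatMorAIC.Finite

set_option autoImplicit false
universe u
open FlatMor

namespace Groth.Agent.S0410

open AlgebraicGeometry CategoryTheory Limits in
/-- For a surjective étale morphism U → X with X quasi-compact and quasi-separated there is a
surjective, finite, finitely presented morphism Y → X that factors through U locally on Y. -/
theorem result {U X : Scheme.{u}} (g : U ⟶ X) [Etale g] [Surjective g] [CompactSpace ↑X] [QuasiSeparatedSpace ↑X] :
    ∃ (Y : Scheme.{u}) (π : Y ⟶ X), Surjective π ∧ IsFinite π ∧ LocallyOfFinitePresentation π ∧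
      ∀ y : ↑Y, ∃ (V : Y.Opens) (h : ↑V ⟶ U), y ∈ V ∧ h ≫ g = V.ι ≫ π := by
  exact FlatMorAIC.exists_finite_lift g

end Groth.Agent.S0410
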