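import Groth.Statements.S0413
import Groth.Agent.FlatMorSlice.EtaleCut
import Groth.Agent.FlatLocal.StalkCrit
import Mathlib.AlgebraicGeometry.Morphisms.QuasiFinite
import Mathlib.AlgebraicGeometry.Morphisms.Etale
import Mathlib.RingTheory.Etale.QuasiFinite
import Mathlib.RingTheory.Unramified.LocalStructure

set_option autoImplicit false
universe u
open FlatMor

namespace Groth.Agent.S0413

open AlgebraicGeometry CategoryTheory Limits in
/-- For a smooth morphism and a point that is closed in its fibre with separable residue field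
extension, there is a locally closed subscheme through the point which is étale over the base and
meets the fibre only in that point. -/
theorem result {X S : Scheme.{u}} (f : X ⟶ S) [Smooth f] (x : X)
    (hcl : IsClosed ({f.asFiber x} : Set ↑(f.fiber (f x))))
    (hsep : @Algebra.IsSeparable (S.residueField (f x)) (X.residueField x) _ _ (f.residueFieldMap x).hom.toAlgebra) :
    ∃ (Z : Scheme.{u}) (i : Z ⟶ X) (z : Z), IsImmersion i ∧ Etale (i ≫ f) ∧ i z = x ∧
      ∀ z' : ↑Z, f (i z') = f x → z' = z := by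
  obtain ⟨T, hT, hsT, -⟩ := exists_isAffineOpen_mem_and_subset (x := f x) (U := ⊤) trivial
  obtain ⟨U, hU, hxU, e⟩ := exists_isAffineOpen_mem_and_subset (x := x) (U := f ⁻¹ᵁ T) hsT
  let e : U ≤ f ⁻¹ᵁ T := e
  let φ := f.appLE T U e
  let _ : Algebra Γ(S, T) Γ(X, U) := φ.hom.toAlgebra
  have : Algebra.Smooth Γ(S, T) Γ(X, U) := f.smooth_appLE hT hU e
  let q := (hU.primeIdealOf ⟨x, hxU⟩).asIdeal
  let O := X.presheaf.stalk x
  let O' := S.presheaf.stalk (f x)
  let _ : Algebra Γ(X, U) O := X.presheaf.algebra_section_stalk ⟨x, hxU⟩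
  have : IsLocalization.AtPrime O q := hU.isLocalization_stalk ⟨x, hxU⟩
  let _ : Algebra Γ(S, T) O' := S.presheaf.algebra_section_stalk ⟨f x, hsT⟩
  have : IsLocalization.AtPrime O' (hT.primeIdealOf ⟨f x, hsT⟩).asIdeal :=
    hT.isLocalization_stalk ⟨f x, hsT⟩
  let _ : Algebra O' O := (f.stalkMap x).hom.toAlgebra
  have : IsLocalHom (algebraMap O' O) := inferInstanceAs <| IsLocalHom (f.stalkMap x).hom
  let _ : Algebra Γ(S, T) O := ((algebraMap Γ(X, U) O).comp φ.hom).toAlgebra
  have : IsScalarTower Γ(S, T) Γ(X, U) O := .of_algebraMap_eq' rfl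
  have : IsScalarTower Γ(S, T) O' O := by
    refine IsScalarTower.of_algebraMap_eq' ?_
    have h2 : S.presheaf.germ T (f x) (e hxU) ≫ f.stalkMap x = f.appLE T U e ≫ X.presheaf.germ U x hxU := by
      erw [Scheme.Hom.germ_stalkMap]
      simp only [Scheme.Hom.appLE, Category.assoc, TopCat.Presheaf.germ_res]
    exact (congrArg CommRingCat.Hom.hom h2).symm
  let k' := IsLocalRing.ResidueField O'
  let k := IsLocalRing.ResidueField O
  have hs : Algebra.IsSeparable k' k := by
    have he : (inferInstance : Algebra k' k) = (f.residueFieldMap x).hom.toAlgebra := by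
      refine Algebra.algebra_ext _ _ fun z ↦ ?_
      obtain ⟨z, rfl⟩ := IsLocalRing.residue_surjective z
      rfl
    exact Eq.mpr (congrArg (fun a => @Algebra.IsSeparable _ _ _ _ a) he) hsep
  have : IsScalarTower Γ(S, T) k' k := .of_algebraMap_eq fun a => by
    show IsLocalRing.residue O (algebraMap Γ(S, T) O a) = algebraMap k' k (IsLocalRing.residue O' (algebraMap Γ(S, T) O' a))
    rw [IsScalarTower.algebraMap_apply Γ(S, T) O' O]
    rfl
  have : Algebra.FormallyUnramified Γ(S, T) O' :=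
    .of_isLocalization (hT.primeIdealOf ⟨f x, hsT⟩).asIdeal.primeCompl
  have : Algebra.FormallyUnramified Γ(S, T) k' :=
    .of_surjective (IsScalarTower.toAlgHom Γ(S, T) O' k') IsLocalRing.residue_surjective
  have : Algebra.FormallyUnramified k' k := .of_isSeparable k' k
  have : Algebra.FormallyUnramified Γ(S, T) k := .comp _ k' _
  have : Algebra.FormallyUnramified Γ(S, T) q.ResidueField := .of_equiv
    (IsLocalRing.ResidueField.mapAlgEquiv
      ((IsLocalization.algEquiv q.primeCompl O (Localization.AtPrime q)).restrictScalars Γ(S, T)))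
  obtain ⟨I, hIq, g, hgq, het⟩ := Groth.Agent.FlatMorSlice.EtaleCut.exists_etale_cut (A := Γ(S, T)) q
  let C := Γ(X, U) ⧸ I
  let L := Localization.Away (Ideal.Quotient.mk I g)
  let i₁ : Spec (.of L) ⟶ Spec (.of C) := Spec.map (CommRingCat.ofHom (algebraMap C L))
  let i₂ : Spec (.of C) ⟶ Spec Γ(X, U) := Spec.map (CommRingCat.ofHom (Ideal.Quotient.mk I))
  have : IsOpenImmersion i₁ := IsOpenImmersion.of_isLocalization (Ideal.Quotient.mk I g)
  have : IsClosedImmersion i₂ := IsClosedImmersion.spec_of_surjective _ Ideal.Quotient.mk_surjective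
  let i : Spec (.of L) ⟶ X := i₁ ≫ i₂ ≫ hU.fromSpec
  have hi : IsImmersion i := inferInstance
  let h := i ≫ f
  have hcomp : i ≫ f = Spec.map (CommRingCat.ofHom (algebraMap Γ(S, T) L)) ≫ hT.fromSpec := by
    simp only [i, i₁, i₂, Category.assoc]
    rw [← hT.SpecMap_appLE_fromSpec f hU e, ← Category.assoc, ← Category.assoc, ← Spec.map_comp, ← Spec.map_comp]
    rfl
  have hEt : Etale (i ≫ f) := by
    rw [hcomp]
    have : Etale (Spec.map (CommRingCat.ofHom (algebraMap Γ(S, T) L))) :=
      (HasRingHomProperty.Spec_iff (P := @Etale)).2 (RingHom.etale_algebraMap.2 het)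
    exact AlgebraicGeometry.Etale.etale_comp _ _
  have : LocallyQuasiFinite (i ≫ f) := by
    rw [hcomp]
    have : Algebra.QuasiFinite Γ(S, T) L := inferInstance
    have h1 : LocallyQuasiFinite (Spec.map (CommRingCat.ofHom (algebraMap Γ(S, T) L))) :=
      (HasRingHomProperty.Spec_iff (P := @LocallyQuasiFinite)).2 (RingHom.quasiFinite_algebraMap.2 this)
    infer_instance
  have hgI : (Ideal.Quotient.mk I g) ∉ q.map (Ideal.Quotient.mk I) := fun h => hgq
    ((Ideal.comap_map_of_surjective' (Ideal.Quotient.mk I) Ideal.Quotient.mk_surjective q).trans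
      (by rw [Ideal.mk_ker, sup_eq_left.2 hIq]) ▸ (Ideal.mem_comap.2 h))
  have : (q.map (Ideal.Quotient.mk I)).IsPrime :=
    Ideal.map_isPrime_of_surjective Ideal.Quotient.mk_surjective (by rwa [Ideal.mk_ker])
  obtain ⟨z₀, hz₀⟩ : (⟨q.map (Ideal.Quotient.mk I), this⟩ : PrimeSpectrum C) ∈ Set.range (PrimeSpectrum.comap (algebraMap C L)) := by
    rw [PrimeSpectrum.localization_away_comap_range L (Ideal.Quotient.mk I g)]
    exact hgI
  let z : Spec (.of L) := z₀
  have hz : i z = x := by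
    show hU.fromSpec (i₂ (i₁ z)) = x
    have h1 : i₁ z = (⟨q.map (Ideal.Quotient.mk I), this⟩ : PrimeSpectrum C) := hz₀
    rw [h1]
    have h2 : i₂ (⟨q.map (Ideal.Quotient.mk I), this⟩ : PrimeSpectrum C) = hU.primeIdealOf ⟨x, hxU⟩ := by
      refine PrimeSpectrum.ext ?_
      show (q.map (Ideal.Quotient.mk I)).comap (Ideal.Quotient.mk I) = q
      rw [Ideal.comap_map_of_surjective' _ Ideal.Quotient.mk_surjective, Ideal.mk_ker, sup_eq_left.2 hIq]
    rw [h2]
    exact hU.fromSpec_primeIdealOf ⟨x, hxU⟩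
  have hd := (i ≫ f).isDiscrete_preimage_singleton (f x)
  obtain ⟨V, hV, hVz⟩ : ∃ V : Set (Spec (.of L)), IsOpen V ∧ V ∩ (i ≫ f) ⁻¹' {f x} = {z} := by
    have hzm : z ∈ (i ≫ f) ⁻¹' {f x} := congrArg f hz
    obtain ⟨V, hV, hVe⟩ := (isDiscrete_iff_forall_mem_exists_isOpen.1 hd) z hzm
    exact ⟨V, hV, hVe⟩
  let O₁ : (Spec (.of L)).Opens := ⟨V, hV⟩
  have hzV : z ∈ O₁ := (hVz.ge rfl).1
  refine ⟨O₁, O₁.ι ≫ i, ⟨z, hzV⟩, inferInstance, ?_, hz, fun z' hz' => ?_⟩
  · rw [Category.assoc]
    have : Etale O₁.ι := inferInstance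
    exact AlgebraicGeometry.Etale.etale_comp _ _
  · have : (O₁.ι z' : Spec (.of L)) ∈ V ∩ (i ≫ f) ⁻¹' {f x} := ⟨z'.2, hz'⟩
    rw [hVz] at this
    exact Subtype.ext this

end Groth.Agent.S0413
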