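import Groth.Statements.S0420
import Groth.Agent.FlatMorGeomIrr.CountOne

set_option autoImplicit false
universe u
open FlatMor

namespace Groth.Agent.S0420

open AlgebraicGeometry CategoryTheory Limits in
/-- For a morphism of finite type to an irreducible scheme whose generic fibre is geometrically
connected, all fibres over some nonempty open of the target are geometrically connected. -/
theorem result {X Y : Scheme.{u}} (f : X ⟶ Y) [IrreducibleSpace ↑Y] [LocallyOfFiniteType f] [QuasiCompact f]
    (h : GeometricallyConnected (f.fiberToSpecResidueField (genericPoint ↑Y))) :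
    ∃ V : Y.Opens, (V : Set ↑Y).Nonempty ∧ GeometricallyConnected (f ∣_ V) := by
  obtain ⟨V, hV, H⟩ := Groth.Agent.FlatMorGeomIrr.exists_opens_forall_counts_eq f
  refine ⟨V, hV, (GeometricallyConnected.iff_geometricallyConnected_fiber (f ∣_ V)).2 fun v => ?_⟩
  rw [Groth.Agent.FlatMorGeomIrr.geometricallyConnected_iff_count] at h ⊢
  have h2 := (Groth.Agent.FlatMorGeomIrr.counts_baseChange f (f ∣_ V) _ V.ι
    (isPullback_morphismRestrict f V).flip v).2
  exact h2.trans ((H (V.ι v) v.2).2.trans h)

end Groth.Agent.S0420
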