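import Groth.Statements.S0421
import Groth.Agent.FlatMorDVR.Connected

set_option autoImplicit false
universe u
open FlatMor

namespace Groth.Agent.S0421

open AlgebraicGeometry CategoryTheory Limits in
/-- For a flat morphism from a connected scheme to the spectrum of a discrete valuation ring with
reduced closed fibre, the generic fibre is connected. -/
theorem result {R : Type u} [CommRing R] [IsDomain R] [IsDiscreteValuationRing R] {X : Scheme.{u}}
    (f : X ⟶ Spec (CommRingCat.of R)) [Flat f] [ConnectedSpace ↑X]
    (hred : IsReduced (f.fiber (IsLocalRing.closedPoint R))) :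
    ConnectedSpace ↑(f.fiber (⟨⊥, Ideal.isPrime_bot⟩ : PrimeSpectrum R)) := by
  exact FlatMorDVR.connectedSpace_generic_fiber f hred

end Groth.Agent.S0421
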