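import Groth.Statements.S0423
import Groth.Agent.HenselLib.WEtale
import Groth.Agent.SchMor12.WeaklyEtale

set_option autoImplicit false
universe u
open FlatMor

namespace Groth.Agent.S0423

open AlgebraicGeometry CategoryTheory Limits in
/-- A weakly étale morphism of schemes (flat with flat diagonal) is formally unramified. -/
theorem result {X Y : Scheme.{u}} (f : X ⟶ Y) [WeaklyEtale f] : FormallyUnramified f := by
  rw [HasRingHomProperty.iff_appLE (P := @FormallyUnramified)]
  intro V U e
  have := (SchMor12.weaklyEtale_iff_affineOpens f).1 ‹WeaklyEtale f› U.1 V.1 U.2 V.2 e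
  algebraize [(f.appLE V.1 U.1 e).hom]
  exact RingHom.formallyUnramified_algebraMap.2 (HenselLib.WEt.formallyUnramified (A := Γ(Y, V.1)) (B := Γ(X, U.1)))

end Groth.Agent.S0423
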