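import Groth.Statements.S0433
import Groth.Agent.KerEval.Ferrand
import Mathlib.CategoryTheory.Limits.Shapes.ConcreteCategory

set_option autoImplicit false
universe u
open FlatMor

namespace Groth.Agent.S0433

open AlgebraicGeometry CategoryTheory Limits in
/-- For a surjective ring map A' → A and any ring map B → A, the spectra of A, A', B and of the fibre
product ring B ×_A A' form a pushout square of schemes. -/
theorem result {A A' B : Type u} [CommRing A] [CommRing A'] [CommRing B] (p : A' →+* A) (hp : Function.Surjective p) (q : B →+* A) :
    IsPushout (Spec.map (CommRingCat.ofHom p)) (Spec.map (CommRingCat.ofHom q))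
      (Spec.map (pullback.snd (CommRingCat.ofHom q) (CommRingCat.ofHom p)))
      (Spec.map (pullback.fst (CommRingCat.ofHom q) (CommRingCat.ofHom p))) := by

  let q' := CommRingCat.ofHom q
  let p' := CommRingCat.ofHom p
  let S : KerEval.Sq (pullback q' p' : CommRingCat.{u}) B A' A :=
    { f := (pullback.fst q' p').hom
      g := (pullback.snd q' p').hom
      q := q
      p := p
      surj := hp
      comm := fun c => congrArg (fun φ : _ ⟶ CommRingCat.of A => φ.hom c) (pullback.condition (f := q') (g := p'))
      exist := fun b a h => ⟨Concrete.pullbackMk q' p' b a h, Concrete.pullbackMk_fst q' p' b a h,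
        Concrete.pullbackMk_snd q' p' b a h⟩
      ext := fun c c' h1 h2 => by
        obtain ⟨a, b, h, rfl⟩ := Concrete.pullbackMk_surjective q' p' c
        obtain ⟨a', b', h', rfl⟩ := Concrete.pullbackMk_surjective q' p' c'
        obtain rfl : a = a' := (Concrete.pullbackMk_fst q' p' a b h).symm.trans
          (h1.trans (Concrete.pullbackMk_fst q' p' a' b' h'))
        obtain rfl : b = b' := (Concrete.pullbackMk_snd q' p' a b h).symm.trans
          (h2.trans (Concrete.pullbackMk_snd q' p' a b' h'))
        rfl }
  have w : CommSq (Spec.map (CommRingCat.ofHom p)) (Spec.map (CommRingCat.ofHom q))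
      (Spec.map (pullback.snd q' p')) (Spec.map (pullback.fst q' p')) :=
    ⟨by rw [← Spec.map_comp, ← Spec.map_comp, pullback.condition]⟩
  refine ⟨w, ⟨PushoutCocone.IsColimit.mk w.w
    (fun s => (S.exists_hom s.inr s.inl s.condition.symm).choose)
    (fun s => (S.exists_hom s.inr s.inl s.condition.symm).choose_spec.2)
    (fun s => (S.exists_hom s.inr s.inl s.condition.symm).choose_spec.1)
    (fun s m h1 h2 => ?_)⟩⟩
  exact S.hom_ext _ _ (h2.trans (S.exists_hom s.inr s.inl s.condition.symm).choose_spec.1.symm)
    (h1.trans (S.exists_hom s.inr s.inl s.condition.symm).choose_spec.2.symm)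

end Groth.Agent.S0433
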