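import Groth.Statements.S0434
import Groth.Agent.FlatMorGeomRed.Constr

set_option autoImplicit false
universe u
open FlatMor

namespace Groth.Agent.S0434

open AlgebraicGeometry CategoryTheory Limits in
/-- For a morphism of finite type to an irreducible scheme whose generic fibre is geometrically reduced,
all fibres over some nonempty open of the target are geometrically reduced. -/
theorem result {X Y : Scheme.{u}} (f : X ⟶ Y) [IrreducibleSpace ↑Y] [LocallyOfFiniteType f] [QuasiCompact f]
    (h : GeometricallyReduced (f.fiberToSpecResidueField (genericPoint ↑Y))) :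
    ∃ V : Y.Opens, (V : Set ↑Y).Nonempty ∧ GeometricallyReduced (f ∣_ V) := by
  have : MorphismProperty.RespectsIso @GeometricallyReduced.{u} :=
    MorphismProperty.IsStableUnderBaseChange.respectsIso
  obtain ⟨V, hV, hV'⟩ := Groth.Agent.FlatMorGeneric.exists_opens_forall_iff @GeometricallyReduced.{u}
    (fun g => Groth.Agent.FlatMorGeomRed.isLocallyConstructible_setOf_geometricallyReduced g) f
  refine ⟨V, hV, ⟨geometrically_iff_forall_fiberToSpecResidueField.2 fun v => ?_⟩⟩
  have h1 := (Groth.Agent.FlatMorGeneric.prop_fiberToSpec_iff_of_pullback @GeometricallyReduced.{u}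
    (isPullback_morphismRestrict f V).flip v).2 ((hV' _ v.2).2 h)
  exact h1.geometrically_isReduced

end Groth.Agent.S0434
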