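import Groth.Statements.S0435
import Groth.Agent.S2549
import Groth.Agent.FlatMorGeomRed.Constr

set_option autoImplicit false
universe u
open FlatMor

namespace Groth.Agent.S0435

open AlgebraicGeometry CategoryTheory Limits in
/-- For a flat proper morphism of finite presentation, the points of the target whose fibre is
geometrically reduced form an open subset. -/
theorem result {X Y : Scheme.{u}} (f : X ⟶ Y) [Flat f] [IsProper f] [LocallyOfFinitePresentation f] :
    IsOpen {y : ↑Y | GeometricallyReduced (f.fiberToSpecResidueField y)} := by
  have hcl : IsClosed (f '' {x : X | FBase.IsGeomReducedAt (f.fiberToSpecResidueField (f x)) (f.asFiber x)}ᶜ) :=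
    f.isClosedMap _ (Groth.Agent.S2549.result f).isClosed_compl
  convert hcl.isOpen_compl
  ext y
  refine (Groth.Agent.FlatMorGeomRed.geometricallyReduced_iff_forall (k := Y.residueField y)
    (f.fiberToSpecResidueField y)).trans ?_
  constructor
  · rintro h ⟨x, hx, rfl⟩
    exact hx (h _)
  · intro h z
    by_contra hz
    have hy : f (f.fiberι y z) = y := (f.range_fiberι y).le ⟨z, rfl⟩
    exact h ⟨f.fiberι y z, fun hx => hz
      (Groth.Agent.FlatMorGeomRed.isGeomReducedAt_of_asFiber f _ y hy z rfl hx), hy⟩

end Groth.Agent.S0435
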