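import Groth.Statements.S0438
import Groth.Agent.FlatMorVal.Reduced
import Mathlib.AlgebraicGeometry.Fiber
import Mathlib.AlgebraicGeometry.Morphisms.Proper
import Mathlib.AlgebraicGeometry.Morphisms.Flat
import Mathlib.AlgebraicGeometry.AffineScheme

set_option autoImplicit false
universe u
open FlatMor
set_option backward.isDefEq.respectTransparency false
open scoped TensorProduct

namespace Groth.Agent.S0438

open AlgebraicGeometry CategoryTheory Limits in
/-- For a proper flat morphism to the spectrum of a valuation ring whose special fibre is reduced, the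
total space and every fibre are reduced. -/
theorem result {R : Type u} [CommRing R] [IsDomain R] [ValuationRing R] {X : Scheme.{u}}
    (f : X ⟶ Spec (CommRingCat.of R)) [IsProper f] [Flat f]
    (hred : IsReduced (f.fiber (IsLocalRing.closedPoint R))) :
    IsReduced X ∧ ∀ s : ↑(Spec (CommRingCat.of R)), IsReduced (f.fiber s) := by
  classical
  have : CompactSpace X := QuasiCompact.compactSpace_of_compactSpace f
  let S := Spec (CommRingCat.of R)
  have hspec : ∀ x : X, ∃ (x₀ : X) (U : X.Opens), x ⤳ x₀ ∧ f x₀ = IsLocalRing.closedPoint R ∧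
      IsAffineOpen U ∧ x₀ ∈ U ∧ x ∈ U := by
    intro x
    obtain ⟨x₀, hx₀, hc⟩ := (isClosed_closure (s := ({x} : Set X))).exists_closed_singleton
      ⟨x, subset_closure rfl⟩
    have := f.isClosedMap _ hc
    rw [Set.image_singleton] at this
    have hmax := (PrimeSpectrum.isClosed_singleton_iff_isMaximal _).mp this
    obtain ⟨U, hU, hxU, -⟩ := exists_isAffineOpen_mem_and_subset (x := x₀) (U := ⊤) (Set.mem_univ _)
    have hs : x ⤳ x₀ := specializes_iff_mem_closure.mpr hx₀
    exact ⟨x₀, U, hs, PrimeSpectrum.ext (IsLocalRing.eq_maximalIdeal hmax), hU, hxU,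
      hs.mem_open U.isOpen hxU⟩
  have main : ∀ x : X, ∃ (U : X.Opens) (_ : IsAffineOpen U) (_ : x ∈ U),
      _root_.IsReduced (X.presheaf.stalk x) ∧
      ∀ (s : S) (z : f.fiber s), f.fiberι s z = x → _root_.IsReduced ((f.fiber s).presheaf.stalk z) := by
    intro x
    obtain ⟨x₀, U, hs, hx₀, hU, hx₀U, hxU⟩ := hspec x
    let g := hU.fromSpec ≫ f
    let φ := Spec.preimage g
    let B := Γ(X, U)
    let _ : Algebra R B := φ.hom.toAlgebra
    have hg : Spec.map (CommRingCat.ofHom (algebraMap R B)) = g := Spec.map_preimage g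
    have : Algebra.FiniteType R B := by
      have : LocallyOfFiniteType g := inferInstance
      rw [← hg] at this
      exact (HasRingHomProperty.Spec_iff (P := @LocallyOfFiniteType)).mp this
    have : Module.Flat R B := by
      have : Flat g := inferInstance
      rw [← hg] at this
      exact (HasRingHomProperty.Spec_iff (P := @Flat)).mp this
    -- the comparison map
    have hm : ∀ s : S, ∃ m : Spec (CommRingCat.of (B ⊗[R] s.asIdeal.ResidueField)) ⟶ f.fiber s,
        IsOpenImmersion m ∧
        m ≫ f.fiberι s = Spec.map (CommRingCat.ofHom (algebraMap B (B ⊗[R] s.asIdeal.ResidueField))) ≫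
          hU.fromSpec ∧ ∀ z, f.fiberι s z ∈ U → z ∈ Set.range m := by
      intro s
      let r := Spec.map (Scheme.Spec.residueFieldIso (.of R) s).hom
      have hr : r ≫ S.fromSpecResidueField s =
          Spec.map (CommRingCat.ofHom (algebraMap R s.asIdeal.ResidueField)) := by
        rw [← Scheme.Spec.map_residueFieldIso_inv_eq_fromSpecResidueField, ← Category.assoc]
        simp [r, ← Spec.map_comp]
      have w₁ : Spec.map (CommRingCat.ofHom (algebraMap R B)) ≫ 𝟙 S = hU.fromSpec ≫ f := by
        rw [Category.comp_id]; exact hg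
      have w₂ : Spec.map (CommRingCat.ofHom (algebraMap R s.asIdeal.ResidueField)) ≫ 𝟙 S =
          r ≫ S.fromSpecResidueField s := by rw [Category.comp_id, hr]
      let m₀ : pullback (Spec.map (CommRingCat.ofHom (algebraMap R B)))
          (Spec.map (CommRingCat.ofHom (algebraMap R s.asIdeal.ResidueField))) ⟶ f.fiber s :=
        pullback.map _ _ f (S.fromSpecResidueField s) hU.fromSpec r (𝟙 S) w₁ w₂
      have : IsOpenImmersion m₀ := MorphismProperty.pullbackMap (P := @IsOpenImmersion.{u})
        (inferInstance : IsOpenImmersion hU.fromSpec) (inferInstance : IsOpenImmersion r)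
        (by rw [hg]) (by rw [hr])
      refine ⟨(pullbackSpecIso R B s.asIdeal.ResidueField).inv ≫ m₀, inferInstance, ?_, fun z hz => ?_⟩
      · show ((pullbackSpecIso R B s.asIdeal.ResidueField).inv ≫ m₀) ≫ pullback.fst _ _ = _
        rw [Category.assoc, pullback.lift_fst, pullbackSpecIso_inv_fst_assoc]; rfl
      · have : z ∈ Set.range m₀ := by
          show z ∈ Set.range (pullback.map _ _ f (S.fromSpecResidueField s) hU.fromSpec r (𝟙 S) w₁ w₂)
          rw [Scheme.Pullback.range_map]
          refine ⟨?_, ?_⟩
          · show _ ∈ Set.range hU.fromSpec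
            rw [hU.range_fromSpec]
            exact hz
          · exact r.surjective _
        obtain ⟨w, rfl⟩ := this
        exact ⟨(pullbackSpecIso R B s.asIdeal.ResidueField).hom w, by
          rw [← Scheme.Hom.comp_apply, Iso.hom_inv_id_assoc]⟩
    have hrad : ((IsLocalRing.maximalIdeal R).map (algebraMap R B)).IsRadical := by
      obtain ⟨m, hmo, -, -⟩ := hm (IsLocalRing.closedPoint R)
      let κ := (IsLocalRing.maximalIdeal R).ResidueField
      have hTred : _root_.IsReduced (B ⊗[R] κ) :=
        (affine_isReduced_iff _).mp (have := hred; isReduced_of_isOpenImmersion m)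
      let e : B ⊗[R] (R ⧸ IsLocalRing.maximalIdeal R) ≃ₐ[R] B ⊗[R] κ :=
        Algebra.TensorProduct.congr AlgEquiv.refl
          (AlgEquiv.ofBijective (IsScalarTower.toAlgHom R (R ⧸ IsLocalRing.maximalIdeal R) κ)
            (Ideal.bijective_algebraMap_quotient_residueField _))
      let e' : (B ⧸ (IsLocalRing.maximalIdeal R).map (algebraMap R B)) ≃ₐ[B]
          B ⊗[R] (R ⧸ IsLocalRing.maximalIdeal R) :=
        Algebra.TensorProduct.quotIdealMapEquivTensorQuot B _
      have : _root_.IsReduced (B ⧸ (IsLocalRing.maximalIdeal R).map (algebraMap R B)) :=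
        isReduced_of_injective (e.toRingEquiv.toRingHom.comp e'.toRingEquiv.toRingHom)
          (e.injective.comp e'.injective)
      exact (Ideal.isRadical_iff_quotient_reduced _).2 this
    let q := hU.primeIdealOf ⟨x, hxU⟩
    let q₀ := hU.primeIdealOf ⟨x₀, hx₀U⟩
    have hle : q.asIdeal ≤ q₀.asIdeal := by
      refine (PrimeSpectrum.le_iff_specializes q q₀).mpr ?_
      rw [← hU.fromSpec.isOpenEmbedding.isInducing.specializes_iff, hU.fromSpec_primeIdealOf,
        hU.fromSpec_primeIdealOf]
      exact hs
    have hq₀ : (IsLocalRing.maximalIdeal R).map (algebraMap R B) ≤ q₀.asIdeal := by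
      have h1 : g q₀ = IsLocalRing.closedPoint R := by
        show f (hU.fromSpec q₀) = _
        rw [hU.fromSpec_primeIdealOf]
        exact hx₀
      rw [← hg] at h1
      rw [Ideal.map_le_iff_le_comap]
      exact (congrArg PrimeSpectrum.asIdeal h1).ge
    have hnot : ∀ e : B, e - 1 ∈ (IsLocalRing.maximalIdeal R).map (algebraMap R B) →
        e ∉ q.asIdeal := fun e he h => q₀.isPrime.ne_top ((Ideal.eq_top_iff_one _).2 (by
      have := q₀.asIdeal.sub_mem (hle h) (hq₀ he)
      rwa [sub_sub_cancel] at this))
    have hloc : ∀ (T : Type u) [CommRing T] (Q : Ideal T) [Q.IsPrime] (e : T), e ∉ Q →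
        (∀ t, IsNilpotent t → e * t = 0) → ∀ (L : Type u) [CommRing L] [Algebra T L]
        [IsLocalization.AtPrime L Q], _root_.IsReduced L := by
      intro T _ Q _ e he hkill L _ _ _
      refine ⟨fun a ha => ?_⟩
      obtain ⟨n, hn⟩ := ha
      obtain ⟨⟨b, t⟩, hb⟩ := IsLocalization.surj Q.primeCompl a
      have h1 : algebraMap T L (b ^ (n + 1)) = 0 := by
        rw [map_pow, ← hb, mul_pow, pow_succ a, hn, zero_mul, zero_mul]
      obtain ⟨⟨t', ht'⟩, h2⟩ := (IsLocalization.map_eq_zero_iff Q.primeCompl L _).mp h1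
      have hnil : IsNilpotent (t' * b) := ⟨n + 1, by
        rw [mul_pow, pow_succ t', mul_assoc, h2, mul_zero]⟩
      have h3 : algebraMap T L b = 0 := (IsLocalization.map_eq_zero_iff Q.primeCompl L _).mpr
        ⟨⟨e * t', Q.primeCompl.mul_mem he ht'⟩, by
          show e * t' * b = 0
          rw [mul_assoc, hkill _ hnil]⟩
      exact (IsLocalization.map_units L t).mul_left_eq_zero.mp (hb.trans h3)
    refine ⟨U, hU, hxU, ?_, fun s z hz => ?_⟩
    · obtain ⟨e, he, hkill⟩ := Groth.Agent.FlatMorVal.exists_kill (B := B) (fun r b hr h => by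
        refine Module.Flat.isSMulRegular_of_nonZeroDivisors (R := R) (M := B)
          (mem_nonZeroDivisors_of_ne_zero hr) ?_
        show r • b = r • (0 : B)
        rw [smul_zero, Algebra.smul_def]
        exact h) hrad
      let _ := TopCat.Presheaf.algebra_section_stalk X.presheaf (⟨x, hxU⟩ : U)
      have := hU.isLocalization_stalk ⟨x, hxU⟩
      exact hloc B q.asIdeal e (hnot e he) hkill (X.presheaf.stalk x)
    · obtain ⟨e, he, hkill⟩ := Groth.Agent.FlatMorVal.exists_kill_fibre (B := B) hrad s.asIdeal
      obtain ⟨m, hmo, hmι, hmr⟩ := hm s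
      obtain ⟨Q, rfl⟩ := hmr z (by rw [hz]; exact hxU)
      let T := B ⊗[R] s.asIdeal.ResidueField
      have hQ : PrimeSpectrum.comap (algebraMap B T) Q = q := by
        refine hU.fromSpec.isOpenEmbedding.injective ?_
        refine Eq.trans ?_ (hU.fromSpec_primeIdealOf ⟨x, hxU⟩).symm
        refine Eq.trans ?_ hz
        rw [← Scheme.Hom.comp_apply, hmι]
        rfl
      have heQ : e ⊗ₜ[R] (1 : s.asIdeal.ResidueField) ∉ Q.asIdeal := fun h => hnot e he (by
        rw [← hQ]
        exact h)
      have := hloc T Q.asIdeal _ heQ hkill (Localization.AtPrime Q.asIdeal)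
      let e₁ := (asIso (m.stalkMap Q)).commRingCatIsoToRingEquiv
      let e₂ := (StructureSheaf.stalkIso T Q).symm.toRingEquiv
      exact isReduced_of_injective (e₂.toRingHom.comp e₁.toRingHom)
        (e₂.injective.comp e₁.injective)
  refine ⟨?_, fun s => ?_⟩
  · refine @isReduced_of_isReduced_stalk X fun x => ?_
    exact (main x).choose_spec.choose_spec.choose_spec.1
  · refine @isReduced_of_isReduced_stalk _ fun z => ?_
    exact (main (f.fiberι s z)).choose_spec.choose_spec.choose_spec.2 s z rfl

end Groth.Agent.S0438
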