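import Groth.Statements.S0442
import Groth.Agent.FlatMorLocalStr.Chart
import Groth.Agent.FlatMorQFSplit.Split

set_option autoImplicit false
universe u
open FlatMor

namespace Groth.Agent.S0442

open AlgebraicGeometry CategoryTheory Limits in
/-- Local structure of a morphism locally of finite type: let f : X → S be locally of finite type, x a
point of X, and n the local dimension at x of its fibre. Then there are an étale morphism g : X' → X
with a point x' mapping to x such that the residue field map κ(x) → κ(x') is surjective (trivial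
residue field extension), a morphism h : Y → S smooth of relative dimension n, and a finite morphism
π : X' → Y with f ∘ g = h ∘ π, such that x' is the only point of X' mapping to π(x'). The published
statement also makes the residue field of π(x') purely transcendental over that of the image of x in
S; that is not stated here. -/
theorem result {X S : Scheme.{u}} (f : X ⟶ S) [LocallyOfFiniteType f] (x : X) (n : ℕ) (hn : FlatMor.fibreDimAt f x = n) :
    ∃ (X' Y : Scheme.{u}) (g : X' ⟶ X) (π : X' ⟶ Y) (h : Y ⟶ S) (x' : X'), g ≫ f = π ≫ h ∧ Etale g ∧ g x' = x ∧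
      Function.Surjective (g.residueFieldMap x') ∧ IsFinite π ∧ SmoothOfRelativeDimension n h ∧
      ∀ z : ↑X', π z = π x' → z = x' := by
  obtain ⟨U, hU, V, hV, hxV, e, φ, hφ, hft, hqf, -⟩ :=
    Groth.Agent.FlatMorLocalStr.exists_chart f x n hn.le
  have : LocallyOfFiniteType (Spec.map φ) :=
    (HasRingHomProperty.Spec_iff (P := @LocallyOfFiniteType)).2 hft
  obtain ⟨Y, g, y, hgy, W, v, hfin, hvW, hv, hvy, huniq⟩ :=
    Groth.Agent.FlatMorQFSplit.exists_split_unique (Spec.map φ) rfl hqf
  have := hgy.etale
  let h₀ : Spec (CommRingCat.of (MvPolynomial (Fin n) Γ(S, U))) ⟶ S :=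
    Spec.map (CommRingCat.ofHom (algebraMap Γ(S, U) (MvPolynomial (Fin n) Γ(S, U)))) ≫ hU.fromSpec
  have hh₀ : SmoothOfRelativeDimension n h₀ :=
    Groth.Agent.FlatMorLocalStr.smoothOfRelativeDimension_affineSpace hU n
  refine ⟨W.toScheme, Y, W.ι ≫ pullback.fst _ _ ≫ hV.fromSpec, W.ι ≫ pullback.snd _ _, g ≫ h₀,
    ⟨v, hvW⟩, ?_, inferInstance, ?_, ?_, hfin, ?_, ?_⟩
  · simp only [Category.assoc]
    rw [← pullback.condition_assoc]
    simp only [h₀]
    rw [← Spec.map_comp_assoc, hφ, IsAffineOpen.SpecMap_appLE_fromSpec]
  · show hV.fromSpec ((pullback.fst (Spec.map φ) g) v) = x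
    rw [hv, IsAffineOpen.fromSpec_primeIdealOf]
  · erw [Scheme.residueFieldMap_comp W.ι, Scheme.residueFieldMap_comp (pullback.fst (Spec.map φ) g)]
    refine ((ConcreteCategory.isIso_iff_bijective (W.ι.residueFieldMap ⟨v, hvW⟩)).1
      (Groth.Agent.FlatMorThick.isIso_residueFieldMap W.ι _)).surjective.comp ?_
    refine (Groth.Agent.FlatMorQFSplit.fst_residueFieldMap_bijective (Spec.map φ) hgy v
      hvy).surjective.comp ?_
    exact ((ConcreteCategory.isIso_iff_bijective (hV.fromSpec.residueFieldMap _)).1
      inferInstance).surjective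
  · simpa using smoothOfRelativeDimension_comp g h₀ (n := 0) (m := n)
  · intro z hz
    exact Subtype.ext (huniq z.1 z.2 (hz.trans hvy))

end Groth.Agent.S0442
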