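import Groth.Statements.S0444
import Groth.Agent.FlatMorDim.Valuation

set_option autoImplicit false
universe u
open FlatMor

namespace Groth.Agent.S0444

open TensorProduct in
/-- Let R be a valuation ring with residue field κ and fraction field K, and S a domain of finite type
over R with R → S injective. If the special fibre κ ⊗_R S is nonzero, then its Krull dimension
equals the Krull dimension of the generic fibre K ⊗_R S. (The published statement also asserts that
the special fibre is equidimensional; that is not stated here.) -/
theorem result {R S : Type u} [CommRing R] [IsDomain R] [ValuationRing R] [CommRing S] [IsDomain S] [Algebra R S]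
    (hinj : Function.Injective (algebraMap R S)) [Algebra.FiniteType R S]
    [Nontrivial (IsLocalRing.ResidueField R ⊗[R] S)] :
    ringKrullDim (IsLocalRing.ResidueField R ⊗[R] S) = ringKrullDim (FractionRing R ⊗[R] S) := by
  exact Groth.Agent.FlatMorDim.dim_special_eq_dim_generic hinj

end Groth.Agent.S0444
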