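import Groth.Statements.S0446
import Groth.Agent.FlatMorDevissage.SchemeNhd

set_option autoImplicit false
universe u
open FlatMor

namespace Groth.Agent.S0446

open AlgebraicGeometry CategoryTheory Limits in
/-- For a morphism locally of finite presentation which is flat at a point x, there are affine étale
neighbourhoods (X', x') of (X, x) and (S', s') of (S, f x) with trivial residue field extensions and
a compatible morphism X' → S' such that the ring of global sections of X' is a projective module
over that of S'. -/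
theorem result {X S : Scheme.{u}} (f : X ⟶ S) [LocallyOfFinitePresentation f] (x : X) (hx : (f.stalkMap x).hom.Flat) :
    ∃ (X' S' : Scheme.{u}) (g : X' ⟶ X) (e : S' ⟶ S) (f' : X' ⟶ S') (x' : X'),
      IsAffine X' ∧ IsAffine S' ∧ Etale g ∧ Etale e ∧ g ≫ f = f' ≫ e ∧ g x' = x ∧ e (f' x') = f x ∧
      Function.Surjective (g.residueFieldMap x') ∧ Function.Surjective (e.residueFieldMap (f' x')) ∧
      @Module.Projective Γ(S', ⊤) _ Γ(X', ⊤) _ (f'.appTop).hom.toAlgebra.toModule := by
  obtain ⟨U, hU, hfx, -⟩ := TopologicalSpace.Opens.isBasis_iff_nbhd.mp S.isBasis_affineOpens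
    (TopologicalSpace.Opens.mem_top (f x))
  obtain ⟨V, hV, hxV, e⟩ := TopologicalSpace.Opens.isBasis_iff_nbhd.mp X.isBasis_affineOpens
    (show x ∈ f ⁻¹ᵁ U from hfx)
  let φ := (f.appLE U V e).hom
  let _ := φ.toAlgebra
  have : Algebra.FinitePresentation Γ(S, U) Γ(X, V) :=
    HasRingHomProperty.appLE @LocallyOfFinitePresentation f inferInstance ⟨U, hU⟩ ⟨V, hV⟩ e
  let y := hV.primeIdealOf ⟨x, hxV⟩
  let z := hU.primeIdealOf ⟨f x, hfx⟩
  have hzy : z.asIdeal = y.asIdeal.comap (algebraMap Γ(S, U) Γ(X, V)) :=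
    congr($(IsAffineOpen.comap_primeIdealOf_appLE U hU V hV e hxV).1).symm
  have : y.asIdeal.LiesOver z.asIdeal := ⟨hzy⟩
  have hflat : FlatCA.FlatAt Γ(S, U) y.asIdeal Γ(X, V) := by
    rw [RingHom.Flat.respectsIso.arrow_mk_iso_iff (IsAffineOpen.arrowStalkMapIso f U hU V hV e hxV)]
      at hx
    exact (EGA43.FlatDescent.flat_localRingHom_iff (R := Γ(S, U)) (S := Γ(X, V)) _ _ hzy).1 hx
  obtain ⟨R', T', _, _, _, _, _, _, _, _, p', q', _, _, hR, hT, ho, hproj⟩ :=
    FlatMorDevissage.exists_projective_nhd (S := Γ(X, V)) Γ(X, V) z.asIdeal y.asIdeal hflat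
  obtain ⟨hRe, hRo, hRb⟩ := id hR
  obtain ⟨hTe, hTo, hTb⟩ := id hT
  have hP : Module.Projective R' T' :=
    Module.Projective.of_equiv
      ((TensorProduct.AlgebraTensorModule.rid Γ(X, V) T' T').restrictScalars R')
  let gT := Spec.map (CommRingCat.ofHom (algebraMap Γ(X, V) T'))
  let gR := Spec.map (CommRingCat.ofHom (algebraMap Γ(S, U) R'))
  let f' := Spec.map (CommRingCat.ofHom (algebraMap R' T'))
  let x' : Spec (CommRingCat.of T') := ⟨q', inferInstance⟩
  have hgT : gT x' = y := PrimeSpectrum.ext hTo.over.symm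
  have hf' : f' x' = ⟨p', inferInstance⟩ := PrimeSpectrum.ext ho.over.symm
  have hgR : gR ⟨p', inferInstance⟩ = z := PrimeSpectrum.ext hRo.over.symm
  have hw : (gT ≫ hV.fromSpec) ≫ f = f' ≫ gR ≫ hU.fromSpec := by
    rw [Category.assoc, ← IsAffineOpen.SpecMap_appLE_fromSpec f hU hV e, ← Category.assoc,
      ← Category.assoc]
    congr 1
    simp only [gT, gR, f', ← Spec.map_comp]
    congr 1
    ext a
    exact (IsScalarTower.algebraMap_apply Γ(S, U) Γ(X, V) T' a).symm.trans
      (IsScalarTower.algebraMap_apply Γ(S, U) R' T' a)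
  have : Etale gT := by
    rw [HasRingHomProperty.Spec_iff (P := @Etale)]
    exact RingHom.etale_algebraMap.2 hTe
  have : Etale gR := by
    rw [HasRingHomProperty.Spec_iff (P := @Etale)]
    exact RingHom.etale_algebraMap.2 hRe
  have := hV.isOpenImmersion_fromSpec
  have := hU.isOpenImmersion_fromSpec
  refine ⟨Spec (CommRingCat.of T'), Spec (CommRingCat.of R'), gT ≫ hV.fromSpec,
    gR ≫ hU.fromSpec, f', x', inferInstance, inferInstance, inferInstance, inferInstance, hw, ?_,
    ?_, ?_, ?_, ?_⟩
  · show hV.fromSpec (gT x') = x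
    rw [hgT]
    exact hV.fromSpec_primeIdealOf _
  · show hU.fromSpec (gR (f' x')) = f x
    rw [hf', hgR]
    exact hU.fromSpec_primeIdealOf _
  · refine FlatMorDevissage.surjective_residueFieldMap_comp gT _ x' ?_
      (FlatMorDevissage.surjective_residueFieldMap_of_isOpenImmersion _ _)
    refine FlatMorDevissage.surjective_residueFieldMap_Spec _ x' ?_
    have : ∀ (J : Ideal Γ(X, V)) [J.IsPrime] (hJ : J = q'.comap (algebraMap Γ(X, V) T')),
        Function.Surjective (Ideal.ResidueField.map J q' (algebraMap Γ(X, V) T') hJ) := by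
      intro J _ hJ
      obtain rfl : J = y.asIdeal := hJ.trans hTo.over.symm
      exact hTb.2
    exact this _ rfl
  · rw [hf']
    refine FlatMorDevissage.surjective_residueFieldMap_comp gR _ _ ?_
      (FlatMorDevissage.surjective_residueFieldMap_of_isOpenImmersion _ _)
    refine FlatMorDevissage.surjective_residueFieldMap_Spec _ _ ?_
    have : ∀ (J : Ideal Γ(S, U)) [J.IsPrime] (hJ : J = p'.comap (algebraMap Γ(S, U) R')),
        Function.Surjective (Ideal.ResidueField.map J p' (algebraMap Γ(S, U) R') hJ) := by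
      intro J _ hJ
      obtain rfl : J = z.asIdeal := hJ.trans hRo.over.symm
      exact hRb.2
    exact this _ rfl
  · let _ := (f'.appTop).hom.toAlgebra
    exact FlatMorDevissage.projective_of_ringEquiv_square
      (Scheme.ΓSpecIso (CommRingCat.of R')).symm.commRingCatIsoToRingEquiv
      (Scheme.ΓSpecIso (CommRingCat.of T')).symm.commRingCatIsoToRingEquiv
      fun a => ConcreteCategory.congr_hom
        (Scheme.ΓSpecIso_inv_naturality (CommRingCat.ofHom (algebraMap R' T'))) a

end Groth.Agent.S0446
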