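import Groth.Statements.S0447
import Groth.Agent.FlatMorDevissage.IntegralProjective

set_option autoImplicit false
universe u
open FlatMor

namespace Groth.Agent.S0447

open AlgebraicGeometry CategoryTheory Limits in
/-- For a flat morphism of finite presentation between affine schemes whose fibres are geometrically
integral, the coordinate ring of the source is a projective module over that of the target. -/
theorem result {X S : Scheme.{u}} (f : X ⟶ S) [IsAffine X] [IsAffine S] [Flat f] [LocallyOfFinitePresentation f] [GeometricallyIntegral f] :
    @Module.Projective Γ(S, ⊤) _ Γ(X, ⊤) _ (f.appTop).hom.toAlgebra.toModule := by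
  algebraize [(f.appTop).hom]
  have hflat : (f.appTop).hom.Flat := (HasRingHomProperty.iff_of_isAffine (P := @Flat)).1 ‹Flat f›
  have hfp : (f.appTop).hom.FinitePresentation :=
    (HasRingHomProperty.iff_of_isAffine (P := @LocallyOfFinitePresentation)).1 ‹LocallyOfFinitePresentation f›
  have : Module.Flat Γ(S, ⊤) Γ(X, ⊤) := hflat
  have : Algebra.FinitePresentation Γ(S, ⊤) Γ(X, ⊤) := hfp
  have : MorphismProperty.RespectsIso @GeometricallyIntegral.{u} := MorphismProperty.IsStableUnderBaseChange.respectsIso
  have h : GeometricallyIntegral (Spec.map f.appTop) :=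
    (MorphismProperty.arrow_mk_iso_iff @GeometricallyIntegral (arrowIsoSpecΓOfIsAffine f)).1 ‹GeometricallyIntegral f›
  exact Groth.Agent.FlatMorDevissage.projective_of_fibresDomain
    (Groth.Agent.FlatMorDevissage.fibresDomain_of_geomIntegral h)

end Groth.Agent.S0447
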