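import Groth.Statements.S0448
import Mathlib

set_option autoImplicit false
universe u
open FlatMor

namespace Groth.Agent.S0448

open TensorProduct in
/-- Over a local ring, a linear map from a projective module to a flat module which is injective modulo
the maximal ideal is universally injective (injective after tensoring with any module). -/
theorem result {R M N : Type u} [CommRing R] [IsLocalRing R] [AddCommGroup M] [Module R M] [Module.Projective R M]
    [AddCommGroup N] [Module R N] [Module.Flat R N] (u : M →ₗ[R] N)
    (h : Function.Injective (LinearMap.lTensor (IsLocalRing.ResidueField R) u)) :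
    ∀ (Q : Type u) [AddCommGroup Q] [Module R Q], Function.Injective (LinearMap.rTensor Q u) := by
  classical
  suffices key : ∀ (ι : Type u) (N : Type u) [AddCommGroup N] [Module R N] [Module.Flat R N] (v : (ι →₀ R) →ₗ[R] N),
      Function.Injective (LinearMap.lTensor (IsLocalRing.ResidueField R) v) →
      ∀ (Q : Type u) [AddCommGroup Q] [Module R Q], Function.Injective (LinearMap.rTensor Q v) by
    intro Q _ _
    obtain ⟨s, hs⟩ := (Module.projective_def.1 ‹Module.Projective R M›)
    let F := M →₀ R
    let π : F →ₗ[R] M := Finsupp.linearCombination R id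
    have hπs : π.comp s = LinearMap.id := LinearMap.ext fun m => hs m
    let u' : F →ₗ[R] N × F := (u.comp π).prod (LinearMap.id - s.comp π)
    have hu'1 : (LinearMap.fst R N F).comp u' = u.comp π := LinearMap.fst_prod _ _
    have hu'2 : (LinearMap.snd R N F).comp u' = LinearMap.id - s.comp π := LinearMap.snd_prod _ _
    have hinj : Function.Injective (u'.lTensor (IsLocalRing.ResidueField R)) := by
      rw [injective_iff_map_eq_zero]
      intro z hz
      have h1 := congrArg ((LinearMap.fst R N F).lTensor (IsLocalRing.ResidueField R)) hz
      rw [map_zero, ← LinearMap.lTensor_comp_apply, hu'1, LinearMap.lTensor_comp_apply] at h1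
      have h1' := h (h1.trans (map_zero _).symm)
      have h2 := congrArg ((LinearMap.snd R N F).lTensor (IsLocalRing.ResidueField R)) hz
      rw [map_zero, ← LinearMap.lTensor_comp_apply, hu'2, LinearMap.lTensor_sub, LinearMap.sub_apply,
        LinearMap.lTensor_comp_apply, h1', map_zero, sub_zero, LinearMap.lTensor_id, LinearMap.id_apply] at h2
      exact h2
    haveI : Module.Flat R (N × F) := by
      rw [Module.Flat.iff_lTensor_preserves_injective_linearMap]
      intro P P' _ _ _ _ f hf
      have hN := Module.Flat.lTensor_preserves_injective_linearMap (M := N) f hf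
      have hF := Module.Flat.lTensor_preserves_injective_linearMap (M := F) f hf
      rw [injective_iff_map_eq_zero]
      intro z hz
      have e1 : (LinearMap.fst R N F).rTensor P z = 0 := by
        apply hN
        rw [map_zero, ← LinearMap.comp_apply, LinearMap.lTensor_comp_rTensor, ← LinearMap.rTensor_comp_lTensor,
          LinearMap.comp_apply, hz, map_zero]
      have e2 : (LinearMap.snd R N F).rTensor P z = 0 := by
        apply hF
        rw [map_zero, ← LinearMap.comp_apply, LinearMap.lTensor_comp_rTensor, ← LinearMap.rTensor_comp_lTensor,
          LinearMap.comp_apply, hz, map_zero]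
      have : z = (LinearMap.inl R N F).rTensor P ((LinearMap.fst R N F).rTensor P z) +
          (LinearMap.inr R N F).rTensor P ((LinearMap.snd R N F).rTensor P z) := by
        rw [← LinearMap.rTensor_comp_apply, ← LinearMap.rTensor_comp_apply, ← LinearMap.add_apply,
          ← LinearMap.rTensor_add,
          show (LinearMap.inl R N F).comp (LinearMap.fst R N F) + (LinearMap.inr R N F).comp (LinearMap.snd R N F) =
            LinearMap.id from LinearMap.ext fun x => by simp, LinearMap.rTensor_id, LinearMap.id_apply]
      rw [this, e1, e2, map_zero, map_zero, add_zero]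
    have H := key M (N × F) u' hinj Q
    rw [injective_iff_map_eq_zero]
    intro z hz
    have hπz : π.rTensor Q (s.rTensor Q z) = z := by
      rw [← LinearMap.rTensor_comp_apply, hπs, LinearMap.rTensor_id, LinearMap.id_apply]
    have hzero : u'.rTensor Q (s.rTensor Q z) = 0 := by
      have hu : u'.comp s = (LinearMap.inl R N F).comp u := by
        refine LinearMap.ext fun m => ?_
        have : π (s m) = m := hs m
        simp [u', this]
      rw [← LinearMap.rTensor_comp_apply, hu, LinearMap.rTensor_comp_apply, hz, map_zero]
    rw [← hπz, H (hzero.trans (map_zero _).symm), map_zero]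
  intro ι N _ _ _ v hv Q _ _
  rw [injective_iff_map_eq_zero]
  intro z hz
  let e := TensorProduct.finsuppScalarLeft R Q ι
  let q : ι →₀ Q := e z
  let s := q.support
  have hzq : z = ∑ i : {i // i ∈ s}, Finsupp.single i.1 (1 : R) ⊗ₜ[R] q i.1 := by
    apply e.injective
    show q = _
    rw [map_sum]
    conv_lhs => rw [← q.sum_single, Finsupp.sum, ← Finset.sum_coe_sort]
    refine Finset.sum_congr rfl fun i _ => ?_
    ext j
    simp [e, Finsupp.single_apply]
  rw [hzq] at hz ⊢
  let Q' := Submodule.span R (Set.range fun i : {i // i ∈ s} => q i.1)
  let q' : {i // i ∈ s} → Q' := fun i => ⟨q i.1, Submodule.subset_span ⟨i, rfl⟩⟩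
  have hspan : Submodule.span R (Set.range q') = ⊤ := by
    apply Submodule.map_injective_of_injective Q'.injective_subtype
    rw [Submodule.map_span, Submodule.map_top, Submodule.range_subtype, ← Set.range_comp]
    rfl
  have h0 : ∑ i, q' i ⊗ₜ[R] v (Finsupp.single i.1 1) = 0 := by
    apply Module.Flat.rTensor_preserves_injective_linearMap (M := N) Q'.subtype Q'.injective_subtype
    rw [map_zero, map_sum]
    apply (TensorProduct.comm R Q N).injective
    rw [map_zero, map_sum]
    rw [map_sum] at hz
    exact hz
  obtain ⟨k, a, y, hy, ha⟩ := TensorProduct.vanishesTrivially_of_sum_tmul_eq_zero R hspan h0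
  let L : ({i // i ∈ s} → R) →ₗ[R] (Fin k → R) :=
    LinearMap.pi fun j => ∑ i, a i j • (LinearMap.proj i : ({i // i ∈ s} → R) →ₗ[R] R)
  let incl : ({i // i ∈ s} → R) →ₗ[R] (ι →₀ R) := Fintype.linearCombination R fun i => Finsupp.single i.1 1
  let res : (ι →₀ R) →ₗ[R] ({i // i ∈ s} → R) := LinearMap.pi fun i => Finsupp.lapply i.1
  have hres : res.comp incl = LinearMap.id := by
    refine LinearMap.pi_ext' fun i => LinearMap.ext_ring ?_
    funext j
    simp only [res, incl, LinearMap.comp_apply, LinearMap.single_apply, Fintype.linearCombination_apply_single,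
      one_smul, LinearMap.pi_apply, Finsupp.lapply_apply, LinearMap.id_apply]
    rw [Finsupp.single_apply, Pi.single_apply]
    by_cases h : j = i
    · subst h; simp
    · rw [if_neg h, if_neg fun h' => h (Subtype.ext h'.symm)]
  have hfac : v.comp incl = (Fintype.linearCombination R y).comp L := by
    refine LinearMap.pi_ext' fun i => LinearMap.ext_ring ?_
    simp [incl, L, Fintype.linearCombination_apply_single, Fintype.linearCombination_apply, hy i,
      LinearMap.sum_apply, Pi.single_apply, Finset.sum_ite_eq']
  have hL : Function.Injective (L.lTensor (IsLocalRing.ResidueField R)) := by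
    have : Function.Injective ((v.comp incl).lTensor (IsLocalRing.ResidueField R)) := by
      rw [LinearMap.lTensor_comp]
      refine hv.comp (Function.LeftInverse.injective (g := res.lTensor (IsLocalRing.ResidueField R)) fun x => ?_)
      rw [← LinearMap.lTensor_comp_apply, hres, LinearMap.lTensor_id, LinearMap.id_apply]
    rw [hfac, LinearMap.lTensor_comp] at this
    exact Function.Injective.of_comp this
  obtain ⟨r, hr⟩ := (IsLocalRing.split_injective_iff_lTensor_residueField_injective L).2 hL
  refine Finset.sum_eq_zero fun i _ => ?_
  have hqi : q i.1 = 0 := by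
    have h3 : ∀ i', ((r.comp L) (Pi.single i' 1)) i = ∑ j, a i' j * r (Pi.single j 1) i := by
      intro i'
      have hLi : L (Pi.single i' 1) = ∑ j, a i' j • Pi.single j (1 : R) := by
        funext j
        simp [L, LinearMap.sum_apply, Pi.single_apply, Finset.sum_ite_eq', Finset.sum_ite_eq]
      rw [LinearMap.comp_apply, hLi, map_sum, Finset.sum_apply]
      simp [map_smul]
    calc q i.1 = ∑ i', (((r.comp L) (Pi.single i' 1)) i) • q i'.1 := by
          rw [hr]
          simp [Pi.single_apply, ite_smul]
      _ = ∑ i', ∑ j, (a i' j * r (Pi.single j 1) i) • q i'.1 := by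
          simp only [h3, Finset.sum_smul]
      _ = ∑ j, r (Pi.single j 1) i • ∑ i', a i' j • q i'.1 := by
          rw [Finset.sum_comm]
          simp only [Finset.smul_sum, smul_smul, mul_comm]
      _ = 0 := Finset.sum_eq_zero fun j _ => by
          have := congrArg Subtype.val (ha j)
          simp only [Submodule.coe_sum, Submodule.coe_smul, Submodule.coe_zero, q'] at this
          rw [this, smul_zero]
  rw [hqi, TensorProduct.tmul_zero]

end Groth.Agent.S0448
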