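import Groth.Statements.S0449
import Groth.Agent.FlatMorDense.EpiOpen
import Mathlib.AlgebraicGeometry.Morphisms.UniversallyInjective
import Mathlib.Algebra.Category.Ring.Epi
import Mathlib.AlgebraicGeometry.Morphisms.FinitePresentation
import Mathlib.AlgebraicGeometry.Morphisms.ClosedImmersion
import Mathlib.AlgebraicGeometry.Morphisms.SchemeTheoreticallyDominant

set_option autoImplicit false
universe u
open FlatMor
set_option backward.isDefEq.respectTransparency false

namespace Groth.Agent.S0449

open AlgebraicGeometry CategoryTheory Limits in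
/-- A separated, flat morphism locally of finite type that is an isomorphism over a quasi-compact,
scheme-theoretically dense open of the target is an open immersion. -/
theorem result {X S : Scheme.{u}} (f : X ⟶ S) [IsSeparated f] [LocallyOfFiniteType f] [Flat f] (U : S.Opens)
    [QuasiCompact U.ι] [IsSchemeTheoreticallyDominant U.ι] [IsIso (f ∣_ U)] : IsOpenImmersion f := by
  classical
  -- `f` is a monomorphism
  have hmono : Mono f := by
    let h := pullback.fst f f ≫ f
    have : Flat h := inferInstance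
    let q := pullback.snd U.ι h
    have hmem : ∀ p : pullback f f ⟶ X, p ≫ f = h → Set.range (q ≫ p) ⊆ Set.range (f ⁻¹ᵁ U).ι := by
      rintro p hp _ ⟨z, rfl⟩
      rw [Scheme.Opens.range_ι]
      show f ((q ≫ p) z) ∈ U
      rw [← Scheme.Hom.comp_apply, Category.assoc, hp, ← pullback.condition, Scheme.Hom.comp_apply]
      exact (pullback.fst U.ι h z).2
    let l₁ := IsOpenImmersion.lift (f ⁻¹ᵁ U).ι (q ≫ pullback.fst f f) (hmem _ rfl)
    let l₂ := IsOpenImmersion.lift (f ⁻¹ᵁ U).ι (q ≫ pullback.snd f f) (hmem _ pullback.condition.symm)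
    have hl : l₁ = l₂ := by
      rw [← cancel_mono (f ∣_ U), ← cancel_mono U.ι]
      simp only [Category.assoc, morphismRestrict_ι, l₁, l₂, IsOpenImmersion.lift_fac_assoc,
        pullback.condition]
    have he : q ≫ pullback.fst f f = q ≫ pullback.snd f f := by
      rw [← IsOpenImmersion.lift_fac (f ⁻¹ᵁ U).ι (q ≫ pullback.fst f f) (hmem _ rfl),
        ← IsOpenImmersion.lift_fac (f ⁻¹ᵁ U).ι (q ≫ pullback.snd f f) (hmem _ pullback.condition.symm)]
      exact congrArg (· ≫ (f ⁻¹ᵁ U).ι) hl
    have hq : (q ≫ pullback.fst f f) ≫ pullback.diagonal f = q := by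
      apply pullback.hom_ext
      · rw [Category.assoc, pullback.diagonal_fst, Category.comp_id]
      · rw [Category.assoc, pullback.diagonal_snd, Category.comp_id, he]
    have hbot : (pullback.diagonal f).ker = ⊥ := by
      refine le_bot_iff.1 (le_of_le_of_eq (Scheme.Hom.le_ker_comp (q ≫ pullback.fst f f) (pullback.diagonal f)) ?_)
      rw [hq]
      exact q.ker_eq_bot
    exact (pullback.isIso_diagonal_iff f).1 (IsClosedImmersion.isIso_iff_ker_eq_bot.2 hbot)
  -- local statement
  have key : ∀ x : X, ∃ O : X.Opens, x ∈ O ∧ IsOpenImmersion (O.ι ≫ f) := by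
    intro x
    obtain ⟨V, hV, hxV, -⟩ := exists_isAffineOpen_mem_and_subset (x := f x) (U := ⊤) (Set.mem_univ _)
    obtain ⟨W, hW, hxW, e⟩ := exists_isAffineOpen_mem_and_subset (x := x) (U := f ⁻¹ᵁ V) hxV
    have e : W ≤ f ⁻¹ᵁ V := e
    let φ := f.appLE V W e
    let _ := φ.hom.toAlgebra
    have : Algebra.FiniteType Γ(S, V) Γ(X, W) := f.finiteType_appLE hV hW e
    have : Module.Flat Γ(S, V) Γ(X, W) := f.flat_appLE hV hW e
    have hφ : Mono (Spec.map φ) := by
      have : Mono (Spec.map φ ≫ hV.fromSpec) := by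
        rw [hV.SpecMap_appLE_fromSpec f hW e]
        infer_instance
      exact mono_of_mono (Spec.map φ) hV.fromSpec
    have hepi : Algebra.IsEpi Γ(S, V) Γ(X, W) := by
      have : Epi φ := ⟨fun {R} a b h => Spec.map_injective
        ((cancel_mono (Spec.map φ)).1 (by rw [← Spec.map_comp, ← Spec.map_comp, h]))⟩
      exact CommRingCat.epi_iff_epi.1 this
    let O : Set (PrimeSpectrum Γ(S, V)) := hV.fromSpec ⁻¹' U
    have hOc : IsCompact O := by
      have h1 : IsCompact ((V : Set S) ∩ U) := by
        have := (U.ι.isCompact_preimage hV.isCompact).image U.ι.continuous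
        rw [show (U.ι ⁻¹ᵁ V : Set U.toScheme) = U.ι ⁻¹' V from rfl, Set.image_preimage_eq_inter_range,
          Scheme.Opens.range_ι] at this
        exact this
      rw [hV.fromSpec.isOpenEmbedding.isInducing.isCompact_iff, Set.image_preimage_eq_inter_range,
        hV.range_fromSpec, Set.inter_comm]
      exact h1
    obtain ⟨t, htO, htfin, htU⟩ := PrimeSpectrum.isBasis_basic_opens.exists_finite_of_isCompact
      (U := ⟨O, U.2.preimage hV.fromSpec.continuous⟩) hOc
    choose u hu using fun i : t => htO i.2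
    have := htfin.fintype
    let σ : Finset Γ(S, V) := Finset.univ.image u
    have hσ : ∀ v ∈ σ, S.basicOpen v ≤ U := by
      intro v hv
      obtain ⟨i, -, rfl⟩ := Finset.mem_image.1 hv
      intro y hy
      obtain ⟨z, rfl⟩ : y ∈ Set.range hV.fromSpec := by
        rw [hV.range_fromSpec]; exact S.basicOpen_le _ hy
      have hz : z ∈ PrimeSpectrum.basicOpen (u i) := by
        have : z ∈ hV.fromSpec ⁻¹ᵁ S.basicOpen (u i) := hy
        rwa [hV.fromSpec_preimage_basicOpen] at this
      have h2 : PrimeSpectrum.basicOpen (u i) ≤ sSup t := le_sSup (by rw [hu i]; exact i.2)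
      exact htU.ge (h2 hz)
    have hcov : ∀ y, y ∈ U → y ∈ V → ∃ v ∈ σ, y ∈ S.basicOpen v := by
      intro y hyU hyV
      obtain ⟨z, rfl⟩ : y ∈ Set.range hV.fromSpec := by rw [hV.range_fromSpec]; exact hyV
      obtain ⟨i, hi, hzi⟩ := TopologicalSpace.Opens.mem_sSup.1 (htU.le (show z ∈ O from hyU))
      refine ⟨u ⟨i, hi⟩, Finset.mem_image_of_mem _ (Finset.mem_univ _), ?_⟩
      show z ∈ hV.fromSpec ⁻¹ᵁ S.basicOpen _
      rw [hV.fromSpec_preimage_basicOpen]
      exact (hu ⟨i, hi⟩).symm ▸ hzi
    have hinj : ∀ a : Γ(S, V), (∀ v ∈ σ, ∃ n : ℕ, v ^ n * a = 0) → a = 0 := by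
      intro a ha
      refine (injective_iff_map_eq_zero _).1 (U.ι.app_injective V) a ?_
      rw [Scheme.Opens.ι_app]
      refine S.IsSheaf.section_ext fun y hy => ?_
      obtain ⟨y', hy', rfl⟩ := hy
      obtain ⟨v, hv, hyv⟩ := hcov (U.ι y') y'.2 hy'
      refine ⟨S.basicOpen v, fun z hz => ⟨⟨z, hσ v hv hz⟩, S.basicOpen_le _ hz, rfl⟩, hyv, ?_⟩
      obtain ⟨n, hn⟩ := ha v hv
      have hloc := hV.isLocalization_basicOpen v
      refine Eq.trans ?_ (map_zero _).symm
      exact ((congrArg (fun φ : Γ(S, V) ⟶ Γ(S, S.basicOpen v) => φ a)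
        (S.presheaf.map_comp _ _)).symm).trans
          ((IsLocalization.map_eq_zero_iff (Submonoid.powers v) _ a).2 ⟨⟨_, n, rfl⟩, hn⟩)
    have hfp : ∀ v ∈ σ, (Localization.awayMap (algebraMap Γ(S, V) Γ(X, W)) v).FinitePresentation := by
      intro v hv
      let v' : Γ(X, W) := algebraMap Γ(S, V) Γ(X, W) v
      have hW' : X.basicOpen v' = W ⊓ f ⁻¹ᵁ S.basicOpen v := Scheme.basicOpen_appLE f W V e v
      have e' : X.basicOpen v' ≤ f ⁻¹ᵁ S.basicOpen v := hW'.le.trans inf_le_right
      have hU' : X.basicOpen v' ≤ f ⁻¹ᵁ U := fun y hy => hσ v hv (e' hy)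
      let fU := (f ⁻¹ᵁ U).ι ≫ f
      have : LocallyOfFinitePresentation fU := by
        show LocallyOfFinitePresentation ((f ⁻¹ᵁ U).ι ≫ f)
        rw [← morphismRestrict_ι]
        infer_instance
      have hW'' : IsAffineOpen ((f ⁻¹ᵁ U).ι ⁻¹ᵁ X.basicOpen v') :=
        (hW.basicOpen v').preimage_of_isOpenImmersion _ (by
          rw [Scheme.Opens.opensRange_ι]; exact hU')
      have h1 := fU.finitePresentation_appLE (hV.basicOpen v) hW''
        (show (f ⁻¹ᵁ U).ι ⁻¹ᵁ X.basicOpen v' ≤ fU ⁻¹ᵁ S.basicOpen v from fun y hy => e' hy)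
      rw [← Scheme.Hom.appLE_comp_appLE (f ⁻¹ᵁ U).ι f (S.basicOpen v) (X.basicOpen v') _ e' le_rfl] at h1
      have : IsIso ((f ⁻¹ᵁ U).ι.appLE (X.basicOpen v') ((f ⁻¹ᵁ U).ι ⁻¹ᵁ X.basicOpen v') le_rfl) := by
        rw [Scheme.Hom.appLE_eq_app]
        exact Scheme.Hom.isIso_app _ _ (by rw [Scheme.Opens.opensRange_ι]; exact hU')
      rw [CommRingCat.hom_comp,
        RingHom.finitePresentation_respectsIso.cancel_right_isIso] at h1
      have := hV.isLocalization_basicOpen v
      have := hW.isLocalization_basicOpen v'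
      let e₁ := IsLocalization.algEquiv (Submonoid.powers v) (Localization.Away v) Γ(S, S.basicOpen v)
      let e₂ := IsLocalization.algEquiv (Submonoid.powers v') (Localization.Away v') Γ(X, X.basicOpen v')
      have hcomp : Localization.awayMap (algebraMap Γ(S, V) Γ(X, W)) v =
          e₂.symm.toRingEquiv.toRingHom.comp
            ((f.appLE (S.basicOpen v) (X.basicOpen v') e').hom.comp e₁.toRingEquiv.toRingHom) := by
        refine IsLocalization.ringHom_ext (Submonoid.powers v) (RingHom.ext fun a => ?_)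
        simp only [RingHom.comp_apply, Localization.awayMap, IsLocalization.Away.map,
          IsLocalization.map_eq]
        refine (e₂.symm_apply_eq.2 ?_).symm
        rw [AlgEquiv.commutes]
        show f.appLE _ _ e' (e₁ (algebraMap _ _ a)) = _
        rw [AlgEquiv.commutes]
        show (S.presheaf.map (homOfLE (S.basicOpen_le v)).op ≫ f.appLE _ _ e') a =
          (f.appLE V W e ≫ X.presheaf.map (homOfLE (X.basicOpen_le v')).op) a
        rw [Scheme.Hom.map_appLE, Scheme.Hom.appLE_map]
      rw [hcomp]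
      exact RingHom.finitePresentation_respectsIso.1 _ e₂.symm.toRingEquiv
        (RingHom.finitePresentation_respectsIso.2 _ e₁.toRingEquiv h1)
    let q := hW.primeIdealOf ⟨x, hxW⟩
    obtain ⟨G, hG, hGi⟩ := Groth.Agent.FlatMorDense.exists_isStandardOpenImmersion
      (fun b => ((Algebra.isEpi_iff_forall_one_tmul_eq _ _).1 hepi b).symm) σ hinj hfp q.asIdeal
    let ι₀ := CommRingCat.ofHom (algebraMap Γ(X, W) (Localization.Away G))
    let j := Spec.map ι₀ ≫ hW.fromSpec
    have : IsOpenImmersion (Spec.map ι₀) := IsOpenImmersion.of_isLocalization G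
    have hjf : IsOpenImmersion (j ≫ f) := by
      obtain ⟨r, hr⟩ := hGi.exists_away
      have : IsOpenImmersion (Spec.map (φ ≫ ι₀)) := by
        have := IsOpenImmersion.of_isLocalization (S := Localization.Away G) r
        exact this
      show IsOpenImmersion ((Spec.map ι₀ ≫ hW.fromSpec) ≫ f)
      rw [Category.assoc, ← hV.SpecMap_appLE_fromSpec f hW e, ← Category.assoc, ← Spec.map_comp]
      infer_instance
    refine ⟨j.opensRange, ?_, ?_⟩
    · obtain ⟨z, hz⟩ : q ∈ Set.range (Spec.map ι₀) :=
        (PrimeSpectrum.localization_away_comap_range (Localization.Away G) G).ge hG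
      exact ⟨z, by
        rw [show j z = hW.fromSpec (Spec.map ι₀ z) from rfl, hz]
        exact hW.fromSpec_primeIdealOf _⟩
    · rw [← Scheme.Hom.isoOpensRange_inv_comp, Category.assoc]
      infer_instance
  choose O hxO hO using key
  exact IsOpenImmersion.of_openCover_source f
    (X.openCoverOfIsOpenCover O (top_le_iff.1 fun x _ => TopologicalSpace.Opens.mem_iSup.2 ⟨x, hxO x⟩))
    f.injective hO

end Groth.Agent.S0449
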