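import Groth.Statements.S0450
import Groth.Agent.FlatMorDim.Semicont
import Groth.Agent.DimLib.Zero
import Groth.Agent.FlatMorWeight.GeomPoints

set_option autoImplicit false
universe u
open FlatMor

namespace Groth.Agent.S0450

open AlgebraicGeometry CategoryTheory Limits in
/-- A flat proper morphism locally of finite presentation that is finite over a dense open subset of the
target is finite (the source alternatively allows the open to be retrocompact instead of assuming
finite presentation; only this alternative is stated). -/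
theorem result {X S : Scheme.{u}} (f : X ⟶ S) [Flat f] [IsProper f] [LocallyOfFinitePresentation f] (U : S.Opens)
    (hU : Dense (U : Set ↑S)) [IsFinite (f ∣_ U)] : IsFinite f := by
  haveI : LocallyQuasiFinite (f ∣_ U) := inferInstance
  let π : (f ⁻¹ᵁ U).toScheme ⟶ S := (f ⁻¹ᵁ U).ι ≫ f
  haveI : LocallyQuasiFinite π := by
    have hh : LocallyQuasiFinite ((f ∣_ U) ≫ U.ι) := inferInstance
    rwa [morphismRestrict_ι] at hh
  have hres : ∀ x : X, f x ∈ U → Groth.Agent.DimLib.trdegHom (f.residueFieldMap x).hom = 0 := by
    intro x hx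
    let u : (f ⁻¹ᵁ U).toScheme := ⟨x, hx⟩
    have h1 : (π.residueFieldMap u).hom.Finite :=
      Groth.Agent.FlatMorWeight.residueFieldMap_finite π u
    have h2 : π.residueFieldMap u =
        f.residueFieldMap x ≫ (f ⁻¹ᵁ U).ι.residueFieldMap u := Scheme.residueFieldMap_comp _ _ _
    rw [h2] at h1
    let e := (asIso ((f ⁻¹ᵁ U).ι.residueFieldMap u)).commRingCatIsoToRingEquiv
    have h3 : (f.residueFieldMap x).hom.Finite := by
      have h4 := RingHom.Finite.comp (RingHom.Finite.of_surjective e.symm.toRingHom e.symm.surjective) h1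
      have h5 : e.symm.toRingHom.comp
          (f.residueFieldMap x ≫ (f ⁻¹ᵁ U).ι.residueFieldMap u).hom = (f.residueFieldMap x).hom := by
        ext a
        exact e.symm_apply_apply _
      exact h5 ▸ h4
    letI := (f.residueFieldMap x).hom.toAlgebra
    haveI : Module.Finite (S.residueField (f x)) (X.residueField x) := h3
    haveI : Algebra.IsAlgebraic (S.residueField (f x)) (X.residueField x) := inferInstance
    show (Algebra.trdeg _ _).toNat = 0
    rw [trdeg_eq_zero, map_zero]
  have hle : ∀ x : X, f x ∈ U → FlatMor.fibreDimAt f x ≤ ((0 : ℕ) : WithBot ℕ∞) := fun x hx =>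
    (Groth.Agent.FlatMorDim.fibreDimAt_le_iff f x 0).2 fun x' hx' _ =>
      (hres x' (hx' ▸ hx)).le
  have hall : ∀ x : X, Groth.Agent.DimLib.trdegHom (f.residueFieldMap x).hom ≤ 0 := fun x =>
    Groth.Agent.FlatMorDim.trdegHom_le_of_fibreDimAt_le f x 0
      (Groth.Agent.FlatMorDim.fibreDimAt_le_of_le_over_dense_open f U hU 0 hle (Or.inl inferInstance) x)
  haveI : LocallyQuasiFinite f := by
    refine locallyQuasiFinite_iff_isDiscrete_preimage_singleton.mpr fun s => ?_
    haveI : LocallyOfFiniteType (f.fiberToSpecResidueField s) :=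
      inferInstanceAs (LocallyOfFiniteType (pullback.snd f (S.fromSpecResidueField s)))
    have hd : topologicalKrullDim ↥(f.fiber s) ≤ 0 := by
      have := (Groth.Agent.FlatMorDim.fiber_dim_le_iff f s 0).2 fun x _ => hall x
      exact_mod_cast this
    haveI := Groth.Agent.DimLib.discreteTopology_of_dim_le_zero (k := S.residueField s) (f.fiberToSpecResidueField s) hd
    rw [← f.range_fiberι s]
    exact (f.fiberι s).isEmbedding.isDiscrete_range
  exact IsFinite.of_isProper_of_locallyQuasiFinite f

end Groth.Agent.S0450
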