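import Groth.Prelude.Def_CohTop
import Groth.Agent.SiteCoh.Criterion

set_option autoImplicit false
universe u
open CategoryTheory
open CohTop

namespace Groth.Agent.S0466

open TopologicalSpace Opposite in
/-- Consider a short exact sequence of abelian sheaves with kernel F, middle term G and quotient H, and
an open U. If every open covering of U admits a refinement on which the first Cech cohomology of F
vanishes, then sections of G over U map onto sections of H over U. -/
theorem result {X : TopCat.{u}}
    (S : CategoryTheory.ShortComplex (CohTop.Ab X)) (hS : S.ShortExact) (U : Opens X)
    (h : ∀ (ι : Type u) (V : ι → Opens X), iSup V = U →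
      ∃ (κ : Type u) (W : κ → Opens X) (r : κ → ι), iSup W = U ∧ (∀ k, W k ≤ V (r k)) ∧
        CategoryTheory.Limits.IsZero (CohTop.cechH S.X₁.obj W 1)) :
    Function.Surjective (S.g.hom.app (op U)) := by
  exact Groth.Agent.SiteCoh.surjective_sections_of_cechTop hS U h

end Groth.Agent.S0466
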