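import Groth.Prelude.Def_CohTop
import Groth.Agent.SiteCoh.ExtAcyclic
import Mathlib.Topology.Separation.DisjointCover
import Mathlib.Topology.Sheaves.SheafCondition.UniqueGluing
import Mathlib.CategoryTheory.Sites.LocallySurjective
import Mathlib.CategoryTheory.Sites.EpiMono
import Groth.Agent.SiteCoh.Space

set_option autoImplicit false
universe u
namespace CategoryTheory
end CategoryTheory
open CategoryTheory
namespace CohTop
end CohTop
open CohTop

namespace Groth.Agent.S0471

open Opposite TopologicalSpace

/-- Global sections of an epimorphism on a profinite space. -/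
theorem surjective_top {X : TopCat.{u}} [CompactSpace X] [T2Space X] [TotallyDisconnectedSpace X]
    {G Q : CohTop.Ab X} (g : G ⟶ Q) [Epi g] : Function.Surjective (g.hom.app (op ⊤)) := fun s => by
  haveI : Sheaf.IsLocallySurjective g := (Sheaf.isLocallySurjective_iff_epi' _ g).2 inferInstance
  have hT := Presheaf.imageSieve_mem (Opens.grothendieckTopology X) g.hom (U := op ⊤) s
  choose W f hf hW using fun x : X => hT x trivial
  choose y hy using hf
  obtain ⟨n, D, hD, hcov, hdis⟩ := ((IsOpenCover.mk (u := W) (eq_top_iff.2 fun x _ =>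
    Opens.mem_iSup.2 ⟨x, hW x⟩)) : IsOpenCover W).exists_finite_nonempty_disjoint_clopen_cover
  choose r hr using fun j => (hD j).2
  let D' : ULift.{u} (Fin n) → Opens X := fun j => ⟨D j.down, (D j.down).isClopen.isOpen⟩
  have hle : ∀ j, D' j ≤ W (r j.down) := fun j => hr j.down
  have htop : (⊤ : Opens X) ≤ iSup D' := fun x _ => by
    obtain ⟨j, hj⟩ := Set.mem_iUnion.1 (hcov (Set.mem_univ x))
    exact Opens.mem_iSup.2 ⟨⟨j⟩, hj⟩
  obtain ⟨z, hz, -⟩ := TopCat.Sheaf.existsUnique_gluing' G D' ⊤ (fun j => homOfLE le_top) htop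
    (fun j => G.obj.map (homOfLE (hle j)).op (y (r j.down))) (fun i j => by
      rcases eq_or_ne i j with rfl | hij
      · rfl
      have hemp : D' i ⊓ D' j = ⊥ := by
        refine Opens.ext ?_
        have : Disjoint (D i.down : Set X) (D j.down : Set X) := by
          have h := hdis (fun e => hij (ULift.ext _ _ e))
          rw [Set.disjoint_iff]
          intro x hx
          exact (show x ∈ ((D i.down ⊓ D j.down : Clopens X) : Set X) from hx) |> fun hx' => by
            rw [h.eq_bot] at hx'
            simp at hx'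
        show (D i.down : Set X) ∩ (D j.down : Set X) = ∅; exact this.inter_eq
      refine TopCat.Sheaf.eq_of_locally_eq' G (fun k : PEmpty.{u + 1} => k.elim) _ (fun k => k.elim) ?_ _ _ fun k => k.elim
      intro x hx
      have hx' : x ∈ (D' i ⊓ D' j : Opens X) := hx
      rw [hemp] at hx'
      exact absurd hx' (by simp))
  refine ⟨z, TopCat.Sheaf.eq_of_locally_eq' Q D' ⊤ (fun j => homOfLE le_top) htop _ _ fun j => ?_⟩
  refine (NatTrans.naturality_apply g.hom (homOfLE (le_top : D' j ≤ ⊤)).op z).symm.trans ?_
  refine (congrArg (g.hom.app (op (D' j))) (hz j)).trans ?_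
  refine (NatTrans.naturality_apply g.hom (homOfLE (hle j)).op (y (r j.down))).trans ?_
  refine (congrArg (Q.obj.map (homOfLE (hle j)).op) (hy (r j.down))).trans ?_
  refine (ConcreteCategory.congr_hom (Q.obj.map_comp _ _) s).symm.trans ?_
  exact congrArg (fun q => Q.obj.map (Quiver.Hom.op q) s) (Subsingleton.elim (α := D' j ⟶ ⊤) _ _)

/-- If X is profinite (compact, Hausdorff, totally disconnected), then H^(p+1)(X, F) = 0 for every
abelian sheaf F. -/
theorem result {X : TopCat.{u}} [CompactSpace X] [T2Space X] [TotallyDisconnectedSpace X]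
    (F : CohTop.Ab X) (p : ℕ) : Subsingleton (CohTop.H F (p + 1)) := by
  induction p generalizing F with
  | zero =>
    let S := Groth.Agent.SiteCoh.injEmbed F
    have hS : S.ShortExact := Groth.Agent.SiteCoh.injEmbed_shortExact F
    haveI : Injective S.X₂ := inferInstanceAs (Injective (Injective.under F))
    refine Groth.Agent.SiteCoh.subsingleton_ext_one hS (Abelian.Ext.subsingleton_of_injective _ S.X₂ 0) fun f => ?_
    haveI := hS.epi_g
    let adj := constantSheafAdj (Opens.grothendieckTopology X) AddCommGrpCat.{u}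
      (Limits.isTerminalTop : Limits.IsTerminal (⊤ : Opens X))
    let e := fun M : CohTop.Ab X => (adj.homAddEquiv (AddCommGrpCat.of (ULift.{u} ℤ)) M).trans
      (AddCommGrpCat.uliftZMultiplesAddEquiv _)
    obtain ⟨z, hz⟩ := surjective_top S.g (e S.X₃ f)
    refine ⟨(e S.X₂).symm z, (e S.X₃).injective ?_⟩
    refine Eq.trans ?_ hz
    show AddCommGrpCat.uliftZMultiplesAddEquiv _ (adj.homEquiv _ _ ((e S.X₂).symm z ≫ S.g)) = _
    rw [adj.homEquiv_naturality_right]
    exact congrArg (S.g.hom.app (Opposite.op ⊤)) ((e S.X₂).apply_symm_apply z)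
  | succ p ih =>
    let S := Groth.Agent.SiteCoh.injEmbed F
    haveI : Injective S.X₂ := inferInstanceAs (Injective (Injective.under F))
    exact Groth.Agent.SiteCoh.subsingleton_ext_X₁ (Groth.Agent.SiteCoh.injEmbed_shortExact F) (p + 1) (ih S.X₃)
      (Abelian.Ext.subsingleton_of_injective _ S.X₂ _)

end Groth.Agent.S0471
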