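import Groth.Statements.S0476
import Groth.Agent.DCat.KInjRes

set_option autoImplicit false
set_option backward.isDefEq.respectTransparency false
set_option backward.defeqAttrib.useBackward true
universe v u
open CategoryTheory
open CohDer

namespace Groth.Agent.S0476

/-- Let A be a Grothendieck abelian category. Every cochain complex M in A admits a quasi-isomorphism M
→ I which is a monomorphism in each degree, where I is a K-injective complex all of whose terms are
injective objects. (The published statement also asserts that the construction can be made
functorial in M; that is not asserted here.) -/
theorem result {A : Type u} [Category.{v} A] [Abelian A] [IsGrothendieckAbelian.{v} A]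
    (M : CochainComplex A ℤ) :
    ∃ (I : CochainComplex A ℤ) (f : M ⟶ I), I.IsKInjective ∧ QuasiIso f ∧ (∀ n, Mono (f.f n)) ∧
      ∀ n, Injective (I.X n) := by
  exact Groth.Agent.DCat.exists_kInj_res M


end Groth.Agent.S0476
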