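import Groth.Prelude.Def_CohTop
import Mathlib.Algebra.Homology.HomotopyCategory.KInjective
import Mathlib.Algebra.Homology.Additive
import Groth.Agent.DCat.RFBasic
import Groth.Agent.SiteCoh.Restrict

set_option autoImplicit false
universe u
open CohTop CategoryTheory

namespace Groth.Agent.S0488

open TopologicalSpace in
/-- For an open U of X, restriction to U sends K-injective complexes of abelian sheaves on X to
K-injective complexes on U. -/
theorem result {X : TopCat.{u}} (U : Opens X) (I : CochainComplex (CohTop.Ab X) ℤ)
    (h : I.IsKInjective) :
    CochainComplex.IsKInjective (((CohTop.restrFunctor U).mapHomologicalComplex (ComplexShape.up ℤ)).obj I) := by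
  haveI := Groth.Agent.SiteCoh.sheafPullback_overForget_preservesFiniteLimits
    (Opens.grothendieckTopology X) U
  let adj₁ := (Over.forget U).sheafAdjunctionContinuous AddCommGrpCat.{u}
    ((Opens.grothendieckTopology X).over U) (Opens.grothendieckTopology X)
  haveI := adj₁.isLeftAdjoint
  let adj := (((U.sheafEquivOver (A := AddCommGrpCat.{u})).symm.toAdjunction).comp adj₁).ofNatIsoRight
    U.overPullbackSheafEquivOver
  haveI := adj.isLeftAdjoint
  let L := (U.sheafEquivOver (A := AddCommGrpCat.{u})).symm.functor ⋙
    (Over.forget U).sheafPullback AddCommGrpCat.{u} ((Opens.grothendieckTopology X).over U)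
      (Opens.grothendieckTopology X)
  haveI : Limits.PreservesFiniteLimits L :=
    Limits.comp_preservesFiniteLimits _ _
  haveI : Limits.PreservesFiniteColimits L :=
    ⟨fun _ _ _ => inferInstance⟩
  haveI : L.Additive := Functor.additive_of_preserves_binary_products _
  exact Groth.Agent.DCat.isKInjective_map_of_adj adj I

end Groth.Agent.S0488
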