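import Groth.Statements.S0489
import Mathlib.Algebra.Homology.HomotopyCategory.HomComplexCohomology
import Mathlib.Algebra.Homology.HomotopyCategory.KInjective
import Mathlib.CategoryTheory.Functor.OfSequence
import Mathlib.CategoryTheory.Limits.Preserves.Limits

set_option autoImplicit false
set_option backward.isDefEq.respectTransparency false
universe v u
open CategoryTheory
open CohDer

namespace Groth.Agent.S0489

open CochainComplex CochainComplex.HomComplex in
lemma exists_coboundary {A : Type u} [Category.{v} A] [Abelian A] {K L : CochainComplex A ℤ}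
    [L.IsKInjective] (hK : K.Acyclic) {n : ℤ} (m : ℤ) (hm : m + 1 = n) (x : Cochain K L n) (k : ℤ)
    (hk : n + 1 = k) (hx : δ n k x = 0) :
    ∃ y : Cochain K L m, δ m n y = x := by
  let c : Cocycle K L n := Cocycle.mk x k hk hx
  have h0 : CohomologyClass.toHom (CohomologyClass.mk c) = 0 := by
    apply IsKInjective.rightOrthogonal (L⟦n⟧)
    rwa [HomotopyCategory.quotient_obj_mem_subcategoryAcyclic_iff_acyclic]
  rw [CohomologyClass.toHom_mk_eq_zero_iff, HomComplex.mem_coboundaries_iff _ m hm] at h0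
  obtain ⟨y, hy⟩ := h0
  exact ⟨y, hy⟩

open CategoryTheory.Limits Opposite CochainComplex.HomComplex in
/-- Let … → I_3 → I_2 → I_1 be an inverse system of K-injective cochain complexes in an abelian category
with sequential limits, such that each transition map is a split epimorphism in each degree. Then
the (termwise) limit complex is K-injective. -/
theorem result {A : Type u} [Category.{v} A] [Abelian A] [HasLimitsOfShape ℕᵒᵖ A]
    (I : ℕᵒᵖ ⥤ CochainComplex A ℤ) (h1 : ∀ n : ℕ, (I.obj (op n)).IsKInjective)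
    (h2 : ∀ (n : ℕ) (m : ℤ), IsSplitEpi ((I.map (homOfLE (Nat.le_succ n)).op).f m)) :
    (limit I).IsKInjective := by
  classical
  refine ⟨fun {K} f hK => ?_⟩
  have := h1
  let π : ∀ k : ℕ, I.obj (op (k + 1)) ⟶ I.obj (op k) := fun k => I.map (homOfLE (Nat.le_succ k)).op
  let fk : ∀ k : ℕ, K ⟶ I.obj (op k) := fun k => f ≫ limit.π I (op k)
  have hfk : ∀ k, fk (k + 1) ≫ π k = fk k := fun k => by
    simp only [fk, π, Category.assoc, limit.w]
  have hbase : ∀ k, ∃ a : Cochain K (I.obj (op k)) (-1), δ (-1) 0 a = Cochain.ofHom (fk k) := by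
    intro k
    refine ⟨(Cochain.equivHomotopy (fk k) 0 (CochainComplex.IsKInjective.homotopyZero (fk k) hK)).1, ?_⟩
    have := (Cochain.equivHomotopy (fk k) 0 (CochainComplex.IsKInjective.homotopyZero (fk k) hK)).2
    refine Eq.trans ?_ this.symm; simp
  have hstep : ∀ (k : ℕ) (h : Cochain K (I.obj (op k)) (-1)), δ (-1) 0 h = Cochain.ofHom (fk k) →
      ∃ h' : Cochain K (I.obj (op (k + 1))) (-1), δ (-1) 0 h' = Cochain.ofHom (fk (k + 1)) ∧
        h'.comp (Cochain.ofHom (π k)) (add_zero (-1)) = h := by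
    intro k h hh
    obtain ⟨a, ha⟩ := hbase (k + 1)
    obtain ⟨η, hη⟩ := exists_coboundary hK (-2) (show (-2 : ℤ) + 1 = -1 by omega)
      (h - a.comp (Cochain.ofHom (π k)) (add_zero (-1))) 0 (by omega)
      (by rw [δ_sub, δ_comp_ofHom, hh, ha, ← Cochain.ofHom_comp, hfk, sub_self])
    let s := fun m => (h2 k m).exists_splitEpi.some
    let σ : Cochain (I.obj (op k)) (I.obj (op (k + 1))) 0 := Cochain.ofHoms fun m => (s m).section_
    refine ⟨a + δ (-2) (-1) (η.comp σ (add_zero (-2))), by rw [δ_add, δ_δ, add_zero, ha], ?_⟩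
    rw [Cochain.add_comp, ← δ_comp_ofHom, Cochain.comp_assoc_of_third_is_zero_cochain,
      show σ.comp (Cochain.ofHom (π k)) (add_zero 0) = Cochain.ofHom (𝟙 _) from ?_, Cochain.comp_id, hη,
      add_sub_cancel]
    ext m
    simp only [Cochain.comp_zero_cochain_v, σ, Cochain.ofHoms_v, Cochain.ofHom_v, HomologicalComplex.id_f]
    exact (s m).id
  choose next hnext₁ hnext₂ using hstep
  let H : ∀ k, {h : Cochain K (I.obj (op k)) (-1) // δ (-1) 0 h = Cochain.ofHom (fk k)} := fun k =>
    Nat.rec ⟨(hbase 0).choose, (hbase 0).choose_spec⟩ (fun k r => ⟨next k r.1 r.2, hnext₁ k r.1 r.2⟩) k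
  let hlim := fun q : ℤ => isLimitOfPreserves (HomologicalComplex.eval A (ComplexShape.up ℤ) q) (limit.isLimit I)
  let cone : ∀ (p q : ℤ) (hpq : p + -1 = q), Cone (I ⋙ HomologicalComplex.eval A (ComplexShape.up ℤ) q) :=
    fun p q hpq =>
      { pt := K.X p
        π := NatTrans.ofOpSequence (fun k => (H k).1.v p q hpq) (fun k => by
          have := Cochain.congr_v (hnext₂ k (H k).1 (H k).2) p q hpq
          rw [Cochain.comp_zero_cochain_v, Cochain.ofHom_v] at this
          dsimp
          rw [Category.id_comp]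
          exact this.symm) }
  let h : Cochain K (limit I) (-1) := Cochain.mk fun p q hpq => (hlim q).lift (cone p q hpq)
  have hh : ∀ k, h.comp (Cochain.ofHom (limit.π I (op k))) (add_zero (-1)) = (H k).1 := by
    intro k
    ext p q hpq
    rw [Cochain.comp_zero_cochain_v, Cochain.ofHom_v]
    exact (hlim q).fac (cone p q hpq) (op k)
  refine ⟨(Cochain.equivHomotopy f 0).symm ⟨h, ?_⟩⟩
  rw [Cochain.ofHom_zero, add_zero]
  ext p
  apply (hlim p).hom_ext
  intro j
  have := (H j.unop).2
  rw [← hh, δ_comp_ofHom] at this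
  have := Cochain.congr_v this p p (add_zero p)
  rw [Cochain.comp_zero_cochain_v, Cochain.ofHom_v, Cochain.ofHom_v] at this
  rw [Cochain.ofHom_v]
  exact this.symm

end Groth.Agent.S0489
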