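import Groth.Prelude.Def_CohSite
import Mathlib.CategoryTheory.Abelian.GrothendieckAxioms.Basic
import Groth.Agent.SiteCoh.SheafTools
import Mathlib.Algebra.Homology.ShortComplex.ExactFunctor

set_option autoImplicit false
universe u
open CategoryTheory
open CohSite

namespace Groth.Agent.S0492

open CategoryTheory CategoryTheory.Limits Opposite Groth.Agent.SiteCoh in
lemma epi_lim_map {C : Type u} [SmallCategory C] (J : GrothendieckTopology C)
    (B : Set C) (hB : ∀ U ∈ B, CohSite.IsWeaklyContractible J U)
    (hcov : ∀ V : C, ∃ (ι : Type u) (U : ι → C) (f : ∀ i, U i ⟶ V), (∀ i, U i ∈ B) ∧ Sieve.ofArrows U f ∈ J V)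
    {α : Type u} {P Q : Discrete α ⥤ Sheaf J AddCommGrpCat.{u}} (φ : P ⟶ Q) [Epi φ] :
    Epi (lim.map φ) := by
  rw [← Sheaf.isLocallySurjective_iff_epi' (A := AddCommGrpCat.{u})]
  constructor
  intro V (z : (limit Q).obj.obj (op V))
  obtain ⟨ι, U, f, hU, hf⟩ := hcov V
  refine J.superset_covering ((Sieve.generate_le_iff _ _).2 ?_) hf
  rintro _ _ ⟨i⟩
  have hsurj : ∀ j, Function.Surjective ((φ.app j).hom.app (op (U i))) := fun j => by
    have h₁ : Sheaf.IsLocallySurjective (φ.app j) :=
      (Sheaf.isLocallySurjective_iff_epi' (A := AddCommGrpCat.{u}) _).2 inferInstance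
    exact hB _ (hU i) _ _ ((sheafCompose J (forget AddCommGrpCat.{u})).map (φ.app j))
      ((Sheaf.isLocallySurjective_iff_epi _).1
        ((Presheaf.isLocallySurjective_iff_whisker_forget J (φ.app j).hom).1 h₁))
  let T := sectionsAt J (U i)
  let z' : (limit Q).obj.obj (op (U i)) := (limit Q).obj.map (f i).op z
  choose x hx using fun j => hsurj j ((limit.π Q j).hom.app (op (U i)) z')
  let c : Cone (P ⋙ T) :=
    { pt := AddCommGrpCat.of (ULift.{u} ℤ)
      π := Discrete.natTrans fun j => AddCommGrpCat.ofHom (uliftZMultiplesHom _ (x j)) }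
  let hP := isLimitOfPreserves T (limit.isLimit P)
  let hQ := isLimitOfPreserves T (limit.isLimit Q)
  refine ⟨hP.lift c (ULift.up 1), Concrete.isLimit_ext _ hQ _ _ fun j => ?_⟩
  refine (ConcreteCategory.congr_hom
    (T.map_comp (lim.map φ) (limit.π Q j)) (hP.lift c (ULift.up 1))).symm.trans ?_
  rw [lim_map, limMap_π, T.map_comp, ConcreteCategory.comp_apply]
  refine (congrArg (T.map (φ.app j)) (ConcreteCategory.congr_hom (hP.fac c j) (ULift.up 1))).trans ?_
  exact (congrArg _ (one_zsmul (x j))).trans (hx j)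

open CategoryTheory.Limits in
/-- Part (4), for sheaves of abelian groups: let B be a set of weakly contractible objects of a small
site such that every object admits a covering family by members of B. Then products in the category
of abelian sheaves are exact (Grothendieck's AB4*). -/
theorem result {C : Type u} [SmallCategory C] (J : GrothendieckTopology C)
    (B : Set C) (hB : ∀ U ∈ B, CohSite.IsWeaklyContractible J U)
    (hcov : ∀ V : C, ∃ (ι : Type u) (U : ι → C) (f : ∀ i, U i ⟶ V), (∀ i, U i ∈ B) ∧ Sieve.ofArrows U f ∈ J V) :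
    AB4Star (Sheaf J AddCommGrpCat.{u}) := by
  refine ⟨fun α => ⟨?_⟩⟩
  haveI : (lim : (Discrete α ⥤ Sheaf J AddCommGrpCat.{u}) ⥤ _).Additive :=
    Functor.additive_of_preserves_binary_products _
  rw [Functor.preservesFiniteColimits_iff_forall_exact_map_and_epi]
  intro S hS
  haveI := hS.epi_g
  exact ⟨((Functor.preservesFiniteLimits_iff_forall_exact_map_and_mono _).1 inferInstance S hS).1,
    epi_lim_map J B hB hcov S.g⟩

end Groth.Agent.S0492
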