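import Groth.Statements.S0495
import Groth.Agent.HenselLib.Perm

set_option autoImplicit false
universe u
open Hensel

namespace Groth.Agent.S0495

/-- A local ring whose Krull dimension is zero is henselian. -/
theorem result (R : Type u) [CommRing R] [IsLocalRing R]
    (h : ringKrullDim R = 0) : HenselianLocalRing R := by
  have : Ring.KrullDimLE 0 R := Ring.krullDimLE_iff.mpr h.le
  have : HenselianRing R (IsLocalRing.maximalIdeal R) := by
    refine HenselLib.henselianRing_of_nilpotent _ fun x hx => ?_
    rw [← mem_nilradical, nilradical_eq_sInf, Submodule.mem_sInf]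
    intro (p : Ideal R) hp
    have hp' : p.IsPrime := hp
    rw [IsLocalRing.eq_maximalIdeal (I := p) (Ideal.IsPrime.isMaximal' hp')]
    exact hx
  exact HenselLib.henselianLocalRing_of_henselianRing R

end Groth.Agent.S0495
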