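import Groth.Statements.S0502
import Groth.Agent.HenselLib.Unique
import Mathlib.RingTheory.QuasiFinite.Basic

set_option autoImplicit false
universe u
open Hensel

namespace Groth.Agent.S0502

/-- A local ring `R` is henselian as soon as every étale `R`-algebra having a prime over the maximal
ideal with trivial residue field extension admits an `R`-algebra retraction to `R`. -/
theorem result (R : Type u) [CommRing R] [IsLocalRing R]
    (h : ∀ (S : Type u) [CommRing S] [Algebra R S] [Algebra.Etale R S] (q : Ideal S) [q.IsPrime],
      q.LiesOver (IsLocalRing.maximalIdeal R) → Function.Surjective (algebraMap R q.ResidueField) →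
      Nonempty (S →ₐ[R] R)) :
    HenselianLocalRing R := by
  have : HenselianRing R (IsLocalRing.maximalIdeal R) :=
    HenselLib.henselianRing_of_etale_lift _ fun E _ _ _ σ => by
      let q : Ideal E := RingHom.ker σ
      have hσ : Function.Surjective σ := fun x => by
        obtain ⟨a, rfl⟩ := Ideal.Quotient.mk_surjective x
        exact ⟨algebraMap R E a, σ.commutes a⟩
      letI : Field (R ⧸ IsLocalRing.maximalIdeal R) := Ideal.Quotient.field _
      have hqp : q.IsPrime := RingHom.ker_isPrime σ
      have hmem : ∀ r, algebraMap R E r ∈ q ↔ r ∈ IsLocalRing.maximalIdeal R := fun r => by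
        show σ (algebraMap R E r) = 0 ↔ _
        rw [σ.commutes]
        exact Ideal.Quotient.eq_zero_iff_mem
      have hq : q.LiesOver (IsLocalRing.maximalIdeal R) := ⟨Ideal.ext fun r => (hmem r).symm⟩
      obtain ⟨g, hgq, hg⟩ :=
        Ideal.exists_not_mem_forall_mem_of_ne_of_liesOver (IsLocalRing.maximalIdeal R) q
      have hu : IsUnit (σ g) := (Ne.isUnit fun h0 => hgq h0)
      let σ' : Localization.Away g →ₐ[R] R ⧸ IsLocalRing.maximalIdeal R :=
        IsLocalization.Away.liftAlgHom g (f := σ) hu
      have hσ' : ∀ x, σ' (algebraMap E _ x) = σ x := fun x => by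
        rw [IsLocalization.Away.liftAlgHom_apply, IsLocalization.Away.lift_eq]; rfl
      let q' : Ideal (Localization.Away g) := RingHom.ker σ'
      have hq'p : q'.IsPrime := RingHom.ker_isPrime σ'
      have hq' : q'.LiesOver (IsLocalRing.maximalIdeal R) := ⟨Ideal.ext fun r => by
        show r ∈ IsLocalRing.maximalIdeal R ↔ σ' (algebraMap R _ r) = 0
        rw [σ'.commutes]
        exact Ideal.Quotient.eq_zero_iff_mem.symm⟩
      have hsurj' : Function.Surjective σ' := fun z => by
        obtain ⟨r, rfl⟩ := Ideal.Quotient.mk_surjective z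
        exact ⟨algebraMap R _ r, σ'.commutes r⟩
      have hq'm : q'.IsMaximal := RingHom.ker_isMaximal_of_surjective σ' hsurj'
      have hres : Function.Surjective (algebraMap R q'.ResidueField) := by
        intro z
        obtain ⟨y, rfl⟩ := (Ideal.bijective_algebraMap_quotient_residueField q').surjective z
        obtain ⟨x, rfl⟩ := Ideal.Quotient.mk_surjective y
        obtain ⟨r, hr⟩ := Ideal.Quotient.mk_surjective (σ' x)
        refine ⟨r, ?_⟩
        rw [IsScalarTower.algebraMap_apply R (Localization.Away g ⧸ q') q'.ResidueField]
        refine congrArg _ ((Ideal.Quotient.mk_eq_mk_iff_sub_mem _ _).mpr ?_)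
        show σ' (algebraMap R _ r - x) = 0
        rw [map_sub, σ'.commutes, ← hr]
        exact sub_self _
      obtain ⟨τ⟩ := h (Localization.Away g) q' hq' hres
      refine ⟨τ.comp (IsScalarTower.toAlgHom R E _), AlgHom.ext fun x => ?_⟩
      let τE : E →ₐ[R] R := τ.comp (IsScalarTower.toAlgHom R E _)
      let P : Ideal E := Ideal.comap τE.toRingHom (IsLocalRing.maximalIdeal R)
      have hPp : P.IsPrime := Ideal.IsPrime.comap _
      have hP : P = q := by
        by_contra hne
        have hlies : P.LiesOver (IsLocalRing.maximalIdeal R) := ⟨Ideal.ext fun r => by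
          show r ∈ _ ↔ τE (algebraMap R E r) ∈ IsLocalRing.maximalIdeal R
          rw [τE.commutes]; rfl⟩
        have h1 : τE g ∈ IsLocalRing.maximalIdeal R := hg P hPp hne hlies
        exact (IsLocalRing.mem_maximalIdeal _).mp h1
          ((IsLocalization.Away.algebraMap_isUnit (S := Localization.Away g) g).map τ)
      obtain ⟨r, hr⟩ := Ideal.Quotient.mk_surjective (σ x)
      have h2 : x - algebraMap R E r ∈ P := by
        rw [hP]
        show σ (x - algebraMap R E r) = 0
        rw [map_sub, σ.commutes, ← hr]
        exact sub_self _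
      have h3 : τE (x - algebraMap R E r) ∈ IsLocalRing.maximalIdeal R := h2
      rw [map_sub, τE.commutes] at h3
      exact ((Ideal.Quotient.mk_eq_mk_iff_sub_mem _ _).mpr h3).trans hr
  exact HenselLib.henselianLocalRing_of_henselianRing R

end Groth.Agent.S0502
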