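import Groth.Statements.S0503
import Groth.Agent.HenselLib.QFPart
import Groth.Agent.HenselLib.Perm

set_option autoImplicit false
universe u
open Hensel

namespace Groth.Agent.S0503

/-- A finite-type quasi-finite algebra `S` over a henselian local ring `R` contains an idempotent `e`
such that `S/(1-e)` is finitely generated as an `R`-module and the maximal ideal of `R` generates
the unit ideal of `S/(e)`; in other words `S` is a product of a module-finite algebra and an algebra
whose fibre over the closed point is empty. -/
theorem result (R : Type u) [CommRing R] [HenselianLocalRing R]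
    (S : Type u) [CommRing S] [Algebra R S] [Algebra.FiniteType R S] [Algebra.QuasiFinite R S] :
    ∃ e : S, IsIdempotentElem e ∧ Module.Finite R (S ⧸ Ideal.span ({1 - e} : Set S)) ∧
      Ideal.map (algebraMap R (S ⧸ Ideal.span ({e} : Set S))) (IsLocalRing.maximalIdeal R) = ⊤ := by
  set m := IsLocalRing.maximalIdeal R
  have : HenselianRing R m := Groth.Agent.HenselLib.henselianRing_maximalIdeal R
  let k := R ⧸ m
  let : Field k := Ideal.Quotient.field m
  have : Algebra.QuasiFinite k (S ⧸ m.map (algebraMap R S)) :=
    Algebra.QuasiFinite.of_restrictScalars R k _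
  have : Module.Finite k (S ⧸ m.map (algebraMap R S)) := Module.Finite.of_quasiFinite
  have : Module.Finite R (S ⧸ m.map (algebraMap R S)) := Module.Finite.trans k _
  obtain ⟨e, he, he1, hfin⟩ := Groth.Agent.HenselLib.exists_finite_part_of_quasiFinite (A := R) (B := S) m
  refine ⟨e, he, hfin, Ideal.eq_top_iff_one _ |>.mpr ?_⟩
  have h1 := Ideal.mem_map_of_mem (Ideal.Quotient.mk (Ideal.span ({e} : Set S))) he1
  rw [Ideal.map_map, map_sub, map_one,
    Ideal.Quotient.eq_zero_iff_mem.mpr (Ideal.mem_span_singleton_self e), zero_sub] at h1
  exact neg_mem_iff.mp h1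

end Groth.Agent.S0503
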