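import Groth.Statements.S0508
import Groth.Agent.HenselLib.PairQuot
import Groth.Agent.HenselLib.LocalHens

set_option autoImplicit false
universe u
open Hensel

namespace Groth.Agent.S0508

/-- The henselization of a local ring induces an isomorphism on residue fields. -/
theorem result (R : Type u) [CommRing R] [IsLocalRing R] (S : Type u) [CommRing S] [IsLocalRing S]
    [Algebra R S] [IsLocalHom (algebraMap R S)] [Hensel.IsHenselization R S] :
    Function.Bijective (IsLocalRing.ResidueField.map (algebraMap R S)) := by
  refine ⟨(IsLocalRing.ResidueField.map (algebraMap R S)).injective, fun x => ?_⟩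
  obtain ⟨s, rfl⟩ := IsLocalRing.residue_surjective x
  obtain ⟨r, hr⟩ := ((Groth.Agent.HenselLib.isPairHull_of_isHenselization S (R := R)).bijective_quotientMap 1).2
    (Ideal.Quotient.mk _ s)
  obtain ⟨r, rfl⟩ := Ideal.Quotient.mk_surjective r
  refine ⟨IsLocalRing.residue R r, ?_⟩
  rw [IsLocalRing.ResidueField.map_residue]
  rw [Ideal.quotientMap_mk, Ideal.Quotient.eq, pow_one] at hr
  exact Ideal.Quotient.eq.mpr
    ((((IsLocalRing.local_hom_TFAE (algebraMap R S)).out 0 2).mp ‹_› :) hr)

end Groth.Agent.S0508
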