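import Groth.Statements.S0511
import Groth.Agent.HenselLib.HullProps

set_option autoImplicit false
universe u
open Hensel

namespace Groth.Agent.S0511

/-- A local ring is Noetherian exactly when its henselization is Noetherian. -/
theorem result (R : Type u) [CommRing R] [IsLocalRing R] (S : Type u) [CommRing S] [IsLocalRing S]
    [Algebra R S] [IsLocalHom (algebraMap R S)] [Hensel.IsHenselization R S] :
    IsNoetherianRing R ↔ IsNoetherianRing S := by
  obtain ⟨e⟩ := Groth.Agent.HenselLib.exists_equiv_localH S (R := R)
  refine ⟨fun _ => ?_, fun _ => ?_⟩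
  · have := Groth.Agent.HenselLib.isNoetherianRing_localH (R := R)
    exact isNoetherianRing_of_ringEquiv _ e.toRingEquiv
  · have : Module.FaithfullyFlat R S := Module.FaithfullyFlat.of_linearEquiv _ _ e.toLinearEquiv.symm
    exact Groth.Agent.HenselLib.isNoetherianRing_of_faithfullyFlat R S

end Groth.Agent.S0511
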