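import Groth.Statements.S0513
import Groth.Agent.HenselLib.HullProps

set_option autoImplicit false
universe u
open Hensel

namespace Groth.Agent.S0513

/-- A Noetherian local ring is regular exactly when its henselization is a regular local ring. -/
theorem result (R : Type u) [CommRing R] [IsLocalRing R] (S : Type u) [CommRing S] [IsLocalRing S]
    [Algebra R S] [IsLocalHom (algebraMap R S)] [Hensel.IsHenselization R S] [IsNoetherianRing R] :
    IsRegularLocalRing R ↔ IsRegularLocalRing S := by
  obtain ⟨e⟩ := Groth.Agent.HenselLib.exists_equiv_localH S (R := R)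
  have := Groth.Agent.HenselLib.isNoetherianRing_localH (R := R)
  rw [Groth.Agent.HenselLib.isRegularLocalRing_iff_of_flat (Groth.Agent.HenselLib.LocalH R)
    Groth.Agent.HenselLib.map_maximalIdeal_localH Groth.Agent.HenselLib.ringKrullDim_hull]
  exact ⟨fun _ => IsRegularLocalRing.of_ringEquiv e.toRingEquiv,
    fun _ => IsRegularLocalRing.of_ringEquiv e.symm.toRingEquiv⟩

end Groth.Agent.S0513
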