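import Groth.Statements.S0514
import Groth.Agent.HenselLib.HullProps

set_option autoImplicit false
universe u
open Hensel

namespace Groth.Agent.S0514

/-- A local ring is reduced exactly when its henselization is reduced. -/
theorem result (R : Type u) [CommRing R] [IsLocalRing R] (S : Type u) [CommRing S] [IsLocalRing S]
    [Algebra R S] [IsLocalHom (algebraMap R S)] [Hensel.IsHenselization R S] :
    IsReduced R ↔ IsReduced S := by
  obtain ⟨e⟩ := Groth.Agent.HenselLib.exists_equiv_localH S (R := R)
  refine ⟨fun _ => ?_, fun _ => ?_⟩
  · have : IsReduced (Groth.Agent.HenselLib.LocalH R) := by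
      rw [← nilradical_eq_bot_iff, ← Groth.Agent.HenselLib.map_nilradical_hull,
        nilradical_eq_zero, Ideal.zero_eq_bot, Ideal.map_bot]
    exact isReduced_of_injective e.symm e.symm.injective
  · have : Module.FaithfullyFlat R S := Module.FaithfullyFlat.of_linearEquiv _ _ e.toLinearEquiv.symm
    exact isReduced_of_injective (algebraMap R S) (FaithfulSMul.algebraMap_injective R S)

end Groth.Agent.S0514
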