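import Groth.Statements.S0515
import Groth.Agent.HenselLib.NormalHens
import Groth.Agent.HenselLib.HullWEt
import Groth.Agent.HenselLib.LocalHens
import Mathlib.RingTheory.Flat.FaithfullyFlat.Algebra

set_option autoImplicit false
universe u
open Hensel

namespace Groth.Agent.S0515

/-- A local ring is an integrally closed domain exactly when its henselization is. -/
theorem result (R : Type u) [CommRing R] [IsLocalRing R] (S : Type u) [CommRing S] [IsLocalRing S]
    [Algebra R S] [IsLocalHom (algebraMap R S)] [Hensel.IsHenselization R S] :
    (IsDomain R ∧ IsIntegrallyClosed R) ↔ (IsDomain S ∧ IsIntegrallyClosed S) := by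
  obtain ⟨e⟩ := HenselLib.exists_equiv_localH (R := R) S
  haveI : Algebra.WeaklyEtale R S := HenselLib.weaklyEtale_of_equiv e
  haveI : Module.FaithfullyFlat R S := Module.FaithfullyFlat.of_flat_of_isLocalHom
  constructor
  · rintro ⟨_, _⟩
    exact HenselLib.normalDomain_of_weaklyEtale R S
  · rintro ⟨_, _⟩
    exact HenselLib.normalDomain_of_faithfullyFlat R S

end Groth.Agent.S0515
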