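import Groth.Statements.S0516
import Groth.Agent.HenselLib.QFPart
import Groth.Agent.HenselLib.Local
import Groth.Agent.HenselLib.Perm
import Mathlib.RingTheory.Unramified.LocalRing

set_option autoImplicit false
universe u
open Hensel

namespace Groth.Agent.S0516

/-- An unramified algebra `S` (formally unramified of finite type) over a strictly henselian local ring
`R` is isomorphic over `R` to a product of finitely many quotient rings of `R` and an `R`-algebra in
which the maximal ideal of `R` generates the unit ideal. -/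
theorem result (R : Type u) [CommRing R]
    [HenselianLocalRing R] [IsSepClosed (IsLocalRing.ResidueField R)] (S : Type u) [CommRing S] [Algebra R S]
    [Algebra.Unramified R S] :
    ∃ (ι : Type u) (_ : Fintype ι) (A : ι → Type u) (_ : ∀ i, CommRing (A i))
      (_ : ∀ i, Algebra R (A i)) (B : Type u) (_ : CommRing B) (_ : Algebra R B),
      (∀ i, Function.Surjective (algebraMap R (A i))) ∧
      Ideal.map (algebraMap R B) (IsLocalRing.maximalIdeal R) = ⊤ ∧
      Nonempty (S ≃ₐ[R] ((∀ i, A i) × B)) := by
  classical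
  set m := IsLocalRing.maximalIdeal R
  have : HenselianRing R m := Groth.Agent.HenselLib.henselianRing_maximalIdeal R
  let k := R ⧸ m
  let : Field k := Ideal.Quotient.field m
  have : Algebra.QuasiFinite k (S ⧸ m.map (algebraMap R S)) :=
    Algebra.QuasiFinite.of_restrictScalars R k _
  have : Module.Finite k (S ⧸ m.map (algebraMap R S)) := Module.Finite.of_quasiFinite
  have : Module.Finite R (S ⧸ m.map (algebraMap R S)) := Module.Finite.trans k _
  obtain ⟨e, he, he1, hfin⟩ := Groth.Agent.HenselLib.exists_finite_part_of_quasiFinite (A := R) (B := S) m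
  obtain ⟨ι, _, C, _, hC, ⟨φ⟩⟩ :=
    Groth.Agent.HenselLib.isPiLocal_of_henselian R (S ⧸ Ideal.span {1 - e})
  let p : ∀ i, S ⧸ Ideal.span {1 - e} →+* C i := fun i => (Pi.evalRingHom C i).comp φ.toRingHom
  let iA : ∀ i, Algebra R (C i) := fun i => ((p i).comp (algebraMap R _)).toAlgebra
  let pA : ∀ i, (S ⧸ Ideal.span {1 - e}) →ₐ[R] C i := fun i => { p i with commutes' := fun r => rfl }
  have hp : ∀ i, Function.Surjective (pA i) := fun i =>
    (Function.surjective_eval i).comp φ.surjective
  refine ⟨ι, inferInstance, C, inferInstance, iA, S ⧸ Ideal.span {e}, inferInstance, inferInstance,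
    fun i => ?_, ?_, ?_⟩
  · have := hC i
    have hfinC : Module.Finite R (C i) := Module.Finite.of_surjective (pA i).toLinearMap (hp i)
    have : IsLocalHom (algebraMap R (C i)) := by
      have h1 : (IsLocalRing.maximalIdeal (C i)).comap (algebraMap R (C i)) = m :=
        IsLocalRing.eq_maximalIdeal (Ideal.isMaximal_comap_of_isIntegral_of_isMaximal _)
      exact ((IsLocalRing.local_hom_TFAE (algebraMap R (C i))).out 4 0).mp h1
    have : Algebra.FormallyUnramified R (C i) :=
      Algebra.FormallyUnramified.of_surjective ((pA i).comp (Ideal.Quotient.mkₐ R _))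
        ((hp i).comp Ideal.Quotient.mk_surjective)
    have hmax := Algebra.FormallyUnramified.map_maximalIdeal (R := R) (S := C i)
    have hres : Function.Surjective (algebraMap (IsLocalRing.ResidueField R) (IsLocalRing.ResidueField (C i))) :=
      IsSepClosed.algebraMap_surjective _ _
    refine fun c => ?_
    have htop : (⊤ : Submodule R (C i)) ≤ LinearMap.range (Algebra.linearMap R (C i)) := by
      refine Submodule.le_of_le_smul_of_le_jacobson_bot hfinC.fg_top (IsLocalRing.maximalIdeal_le_jacobson ⊥) ?_
      intro x _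
      obtain ⟨y, hy⟩ := hres (IsLocalRing.residue (C i) x)
      obtain ⟨r, rfl⟩ := IsLocalRing.residue_surjective y
      refine Submodule.mem_sup.mpr ⟨algebraMap R (C i) r, ⟨r, rfl⟩, x - algebraMap R (C i) r, ?_, by ring⟩
      rw [Ideal.smul_top_eq_map, Submodule.restrictScalars_mem, hmax]
      exact Ideal.Quotient.eq.mp hy.symm
    exact htop (show c ∈ ⊤ from trivial)
  · refine (Ideal.eq_top_iff_one _).mpr ?_
    have h1 := Ideal.mem_map_of_mem (Ideal.Quotient.mk (Ideal.span ({e} : Set S))) he1
    rw [Ideal.map_map, map_sub, map_one,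
      Ideal.Quotient.eq_zero_iff_mem.mpr (Ideal.mem_span_singleton_self e), zero_sub] at h1
    exact neg_mem_iff.mp h1
  · let Φ : S →ₐ[R] (∀ i, C i) × (S ⧸ Ideal.span {e}) :=
      ((AlgHom.pi fun i => pA i).comp (Ideal.Quotient.mkₐ R _)).prod (Ideal.Quotient.mkₐ R _)
    refine ⟨AlgEquiv.ofBijective Φ ⟨(injective_iff_map_eq_zero _).mpr fun x hx => ?_, fun ⟨a, b⟩ => ?_⟩⟩
    · obtain ⟨h1, h2⟩ := Prod.ext_iff.mp hx
      have h1' : Ideal.Quotient.mk (Ideal.span {1 - e}) x = 0 :=
        φ.injective (h1.trans (map_zero φ).symm)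
      obtain ⟨c, hc⟩ := Ideal.mem_span_singleton.mp (Ideal.Quotient.eq_zero_iff_mem.mp h1')
      obtain ⟨d, hd⟩ := Ideal.mem_span_singleton.mp (Ideal.Quotient.eq_zero_iff_mem.mp h2)
      have h3 : e * x = 0 := by rw [hc]; linear_combination (-c) * he.eq
      have h4 : (1 - e) * x = 0 := by rw [hd]; linear_combination (-d) * he.eq
      linear_combination h3 + h4
    · obtain ⟨a', ha'⟩ := φ.surjective a
      obtain ⟨a'', rfl⟩ := Ideal.Quotient.mk_surjective a'
      obtain ⟨b', rfl⟩ := Ideal.Quotient.mk_surjective b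
      refine ⟨e * a'' + (1 - e) * b', Prod.ext ?_ ?_⟩
      · rw [← ha']
        show φ (Ideal.Quotient.mk _ _) = _
        refine congrArg φ (Ideal.Quotient.eq.mpr (Ideal.mem_span_singleton.mpr ⟨b' - a'', by ring⟩))
      · exact Ideal.Quotient.eq.mpr (Ideal.mem_span_singleton.mpr ⟨a'' - b', by ring⟩)

end Groth.Agent.S0516
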