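import Groth.Statements.S0517
import Groth.Agent.HenselLib.Unique

set_option autoImplicit false
universe u
open Hensel

namespace Groth.Agent.S0517

/-- Given strictly henselian local rings `R` and `S`, a local ring map `φ` between them, and a square
system of `n` polynomial equations in `n` unknowns over `R` whose quotient algebra is étale over
`R`, applying `φ` coordinatewise matches the solutions of the system in `Rⁿ` bijectively with the
solutions of the transported system in `Sⁿ`. -/
theorem result (R : Type u) [CommRing R]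
    [HenselianLocalRing R] [IsSepClosed (IsLocalRing.ResidueField R)] (S : Type u) [CommRing S]
    [HenselianLocalRing S] [IsSepClosed (IsLocalRing.ResidueField S)] (φ : R →+* S) [IsLocalHom φ] (n : ℕ)
    (P : Fin n → MvPolynomial (Fin n) R)
    [Algebra.Etale R (MvPolynomial (Fin n) R ⧸ Ideal.span (Set.range P))] :
    Set.BijOn (fun r : Fin n → R => φ ∘ r)
      {r : Fin n → R | ∀ i, MvPolynomial.eval r (P i) = 0}
      {s : Fin n → S | ∀ i, MvPolynomial.eval s (MvPolynomial.map φ (P i)) = 0} := by
  algebraize [φ]
  have : IsLocalHom (algebraMap R S) := ‹IsLocalHom φ›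
  let E := MvPolynomial (Fin n) R ⧸ Ideal.span (Set.range P)
  let sol : ∀ (T : Type u) [CommRing T] [Algebra R T] (t : Fin n → T),
      (∀ i, MvPolynomial.aeval t (P i) = 0) → (E →ₐ[R] T) := fun T _ _ t ht =>
    Ideal.Quotient.liftₐ _ (MvPolynomial.aeval t) fun a ha => by
      refine RingHom.mem_ker.mp ((Ideal.span_le (I := RingHom.ker _)).mpr ?_ ha)
      rintro _ ⟨i, rfl⟩
      exact ht i
  have hsol : ∀ (T : Type u) [CommRing T] [Algebra R T] (t : Fin n → T) ht j,
      sol T t ht (Ideal.Quotient.mk _ (MvPolynomial.X j)) = t j := fun T _ _ t ht j =>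
    MvPolynomial.aeval_X t j
  have hS : ∀ (s : Fin n → S) (i), MvPolynomial.eval s (MvPolynomial.map φ (P i)) =
      MvPolynomial.aeval s (P i) := fun s i => by
    rw [MvPolynomial.eval_map]; rfl
  let ι : IsLocalRing.ResidueField R →ₐ[R] IsLocalRing.ResidueField S :=
    { IsLocalRing.ResidueField.map (algebraMap R S) with
      commutes' := fun r => rfl }
  refine ⟨fun r hr i => ?_, fun r hr r' hr' h => ?_, fun s hs => ?_⟩
  · rw [hS]
    have h1 := MvPolynomial.aeval_algebraMap_apply (B := S) r (P i)
    rw [MvPolynomial.aeval_eq_eval, hr i, map_zero] at h1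
    exact h1
  · have hr1 : ∀ i, MvPolynomial.aeval r (P i) = 0 := fun i => by
      rw [MvPolynomial.aeval_eq_eval]; exact hr i
    have hr2 : ∀ i, MvPolynomial.aeval r' (P i) = 0 := fun i => by
      rw [MvPolynomial.aeval_eq_eval]; exact hr' i
    have heq : (Ideal.Quotient.mkₐ R (IsLocalRing.maximalIdeal R)).comp (sol R r hr1) =
        (Ideal.Quotient.mkₐ R (IsLocalRing.maximalIdeal R)).comp (sol R r' hr2) := by
      refine Ideal.Quotient.algHom_ext R (MvPolynomial.algHom_ext fun j => ?_)
      show IsLocalRing.residue R (sol R r hr1 (Ideal.Quotient.mk _ _)) =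
        IsLocalRing.residue R (sol R r' hr2 (Ideal.Quotient.mk _ _))
      rw [hsol R r hr1, hsol R r' hr2]
      apply (IsLocalRing.ResidueField.map φ).injective
      exact congrArg (IsLocalRing.residue S) (congrFun h j)
    have := (HenselLib.existsUnique_lift (IsLocalRing.maximalIdeal R) _).unique heq rfl
    funext j
    simpa [hsol] using congr($this (Ideal.Quotient.mk _ (MvPolynomial.X j)))
  · have hs1 : ∀ i, MvPolynomial.aeval s (P i) = 0 := fun i => by rw [← hS]; exact hs i
    let gs : E →ₐ[R] IsLocalRing.ResidueField S :=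
      (IsScalarTower.toAlgHom R S (IsLocalRing.ResidueField S)).comp (sol S s hs1)
    obtain ⟨g₀, hg₀⟩ := HenselLib.exists_factor_residueField ι gs
    obtain ⟨f, hf, -⟩ := HenselLib.existsUnique_to_residueField R g₀
    refine ⟨fun j => f (Ideal.Quotient.mk _ (MvPolynomial.X j)), fun i => ?_, ?_⟩
    · have h1 : f (Ideal.Quotient.mk _ (P i)) = 0 := by
        rw [Ideal.Quotient.eq_zero_iff_mem.mpr (Ideal.subset_span (Set.mem_range_self i)), map_zero]
      rw [← MvPolynomial.aeval_eq_eval, ← h1]
      exact congr($((MvPolynomial.aeval_unique (f.comp (Ideal.Quotient.mkₐ R _))).symm) (P i))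
    · have := (HenselLib.existsUnique_to_residueField S gs).unique (y₁ := (Algebra.ofId R S).comp f)
        (y₂ := sol S s hs1) (fun e => by
          rw [← congr($hg₀ e), AlgHom.comp_apply, AlgHom.comp_apply, ← hf e]
          rfl) (fun e => rfl)
      funext j
      show φ (f _) = s j
      rw [← hsol S s hs1 j, ← this]
      rfl

end Groth.Agent.S0517
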