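import Groth.Statements.S0529
import Groth.Agent.HenselLib.Pair
import Mathlib.Algebra.Group.Pi.Units

set_option autoImplicit false
universe u
open Hensel

namespace Groth.Agent.S0529

/-- A product of rings, with the product ideal, is Henselian exactly when every factor is Henselian at
its ideal. -/
theorem result (J : Type u) (A : J → Type u) [∀ j, CommRing (A j)]
    (I : ∀ j, Ideal (A j)) :
    HenselianRing (∀ j, A j) (⨅ j, Ideal.comap (Pi.evalRingHom A j) (I j)) ↔
      ∀ j, HenselianRing (A j) (I j) := by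
  classical
  set II := ⨅ j, Ideal.comap (Pi.evalRingHom A j) (I j) with hII
  have hmem : ∀ x : ∀ j, A j, x ∈ II ↔ ∀ j, x j ∈ I j := fun x => by
    simp [hII, Submodule.mem_iInf]
  refine ⟨fun h j => ⟨fun x hx => ?_, fun f _ a₀ h0 h1 => ?_⟩, fun h => ⟨fun x hx => ?_, fun f _ a₀ h0 h1 => ?_⟩⟩
  · have hx' : Pi.single j x ∈ II := (hmem _).mpr fun k => by
      by_cases hk : k = j
      · subst hk; simpa using hx
      · simp [Pi.single_eq_of_ne hk]
    refine Ideal.mem_jacobson_bot.mpr fun y => ?_
    have := (Ideal.mem_jacobson_bot.mp (h.jac hx') (Pi.single j y)).map (Pi.evalRingHom A j)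
    simpa using this
  · obtain ⟨F₀, hF₀⟩ := Polynomial.map_surjective (Pi.evalRingHom A j) (Function.surjective_eval j) f
    let δ : ∀ k, A k := Pi.single j 1
    let F : Polynomial (∀ k, A k) := Polynomial.C δ * F₀ + Polynomial.C (1 - δ) * Polynomial.X
    have hev : ∀ (k : J) (G : Polynomial (∀ k, A k)) (x : ∀ k, A k),
        G.eval x k = (G.map (Pi.evalRingHom A k)).eval (x k) := fun k G x =>
      ((Polynomial.eval_map _ _).trans (Polynomial.eval₂_at_apply (Pi.evalRingHom A k) x)).symm
    have hFj : F.map (Pi.evalRingHom A j) = f := by simp [F, δ, hF₀]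
    have hFk : ∀ k, k ≠ j → F.map (Pi.evalRingHom A k) = Polynomial.X := fun k hk => by
      simp [F, δ, Pi.single_eq_of_ne hk]
    let x₀ : ∀ k, A k := Pi.single j a₀
    have h0' : F.eval x₀ ∈ II := (hmem _).mpr fun k => by
      rw [hev]
      by_cases hk : k = j
      · subst hk; rw [hFj]; simpa [x₀] using h0
      · rw [hFk k hk]; simp [x₀, Pi.single_eq_of_ne hk]
    obtain ⟨u, hu⟩ := h1.exists_left_inv
    obtain ⟨u₀, rfl⟩ := Ideal.Quotient.mk_surjective u
    rw [← map_mul, ← map_one (Ideal.Quotient.mk (I j)), Ideal.Quotient.eq] at hu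
    have h1' : IsUnit (Ideal.Quotient.mk II (F.derivative.eval x₀)) := by
      refine IsUnit.of_mul_eq_one (Ideal.Quotient.mk II (Function.update 1 j u₀)) ?_
      rw [← map_mul, ← map_one (Ideal.Quotient.mk II), Ideal.Quotient.eq, hmem]
      intro k
      rw [Pi.sub_apply, Pi.mul_apply, hev, ← Polynomial.derivative_map]
      by_cases hk : k = j
      · subst hk; rw [hFj]; simpa [x₀, mul_comm] using hu
      · rw [hFk k hk]; simp [Function.update_of_ne hk]
    obtain ⟨a, ha, ha'⟩ := Groth.Agent.HenselLib.exists_root II F x₀ h0' h1'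
    refine ⟨a j, ?_, by simpa [x₀] using (hmem _).mp ha' j⟩
    have := congrFun ha.eq_zero j
    rw [hev, hFj] at this
    exact this
  · refine Ideal.mem_jacobson_bot.mpr fun y => Pi.isUnit_iff.mpr fun j => ?_
    exact Ideal.mem_jacobson_bot.mp ((h j).jac ((hmem x).mp hx j)) (y j)
  · have hev : ∀ (k : J) (G : Polynomial (∀ k, A k)) (x : ∀ k, A k),
        G.eval x k = (G.map (Pi.evalRingHom A k)).eval (x k) := fun k G x =>
      ((Polynomial.eval_map _ _).trans (Polynomial.eval₂_at_apply (Pi.evalRingHom A k) x)).symm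
    obtain ⟨u, hu⟩ := h1.exists_left_inv
    obtain ⟨u₀, rfl⟩ := Ideal.Quotient.mk_surjective u
    rw [← map_mul, ← map_one (Ideal.Quotient.mk II), Ideal.Quotient.eq, hmem] at hu
    have hroot : ∀ j, ∃ a, (f.map (Pi.evalRingHom A j)).IsRoot a ∧ a - a₀ j ∈ I j := fun j => by
      have := h j
      refine Groth.Agent.HenselLib.exists_root (I j) _ _ (by rw [← hev]; exact (hmem _).mp h0 j) ?_
      refine IsUnit.of_mul_eq_one (Ideal.Quotient.mk (I j) (u₀ j)) ?_
      rw [← map_mul, ← map_one (Ideal.Quotient.mk (I j)), Ideal.Quotient.eq, Polynomial.derivative_map,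
        ← hev, mul_comm]
      exact hu j
    choose a ha ha' using hroot
    exact ⟨a, funext fun j => (hev j f a).trans (ha j), (hmem _).mpr ha'⟩

end Groth.Agent.S0529
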