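import Groth.Statements.S0530
import Groth.Agent.HenselLib.Perm

set_option autoImplicit false
universe u
open Hensel

namespace Groth.Agent.S0530

/-- If `A` is Henselian at `I` and `p` is a prime ideal of `A`, then the spectrum of `A/(p + I)` is
connected. -/
theorem result (A : Type u) [CommRing A] (I : Ideal A) [HenselianRing A I]
    (p : Ideal A) [p.IsPrime] : ConnectedSpace (PrimeSpectrum (A ⧸ p ⊔ I)) := by
  have : HenselianRing (A ⧸ p) (Ideal.map (Ideal.Quotient.mk p) I) :=
    HenselLib.henselianRing_quotient I p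
  have hbij := HenselLib.bijOn_idempotents (Ideal.map (Ideal.Quotient.mk p) I) (A ⧸ p)
  rw [Algebra.algebraMap_self, Ideal.map_id] at hbij
  have hne : Nontrivial (A ⧸ p ⊔ I) := Ideal.Quotient.nontrivial_iff.mpr fun h => by
    obtain ⟨x, hx, i, hi, hxi⟩ := Submodule.mem_sup.mp ((Ideal.eq_top_iff_one _).mp h)
    exact Ideal.IsPrime.ne_top' (Ideal.eq_top_of_isUnit_mem p hx
      (HenselLib.isUnit_of_sub_one_mem (HenselianRing.jac (I := I))
        (by rw [show x - 1 = -i by linear_combination hxi]; exact I.neg_mem hi)))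
  rw [connectedSpace_iff_clopen]
  refine ⟨inferInstance, fun s hs => ?_⟩
  obtain ⟨e, he, rfl⟩ := PrimeSpectrum.exists_idempotent_basicOpen_eq_of_isClopen hs
  obtain ⟨x, rfl⟩ := Ideal.Quotient.mk_surjective e
  have hx : x * x - x ∈ p ⊔ I :=
    (Ideal.Quotient.mk_eq_mk_iff_sub_mem _ _).mp (by rw [map_mul]; exact he)
  obtain ⟨e', he', heq⟩ := hbij.surjOn (show IsIdempotentElem
      (Ideal.Quotient.mk (Ideal.map (Ideal.Quotient.mk p) I) (Ideal.Quotient.mk p x)) by
    show _ * _ = _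
    rw [← map_mul, ← map_mul]
    refine (Ideal.Quotient.mk_eq_mk_iff_sub_mem _ _).mpr ?_
    rw [← map_sub]
    have := Ideal.mem_map_of_mem (Ideal.Quotient.mk p) hx
    rwa [Ideal.map_sup, Ideal.map_quotient_self, bot_sup_eq] at this)
  obtain ⟨y, rfl⟩ := Ideal.Quotient.mk_surjective e'
  have hy : y - x ∈ p ⊔ I := by
    have h1 := (Ideal.Quotient.mk_eq_mk_iff_sub_mem _ _).mp heq
    rw [← map_sub, ← Ideal.mem_comap, Ideal.comap_map_of_surjective _
      Ideal.Quotient.mk_surjective, ← RingHom.ker_eq_comap_bot, Ideal.mk_ker, sup_comm] at h1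
    exact h1
  rw [← (Ideal.Quotient.mk_eq_mk_iff_sub_mem y x).mpr hy]
  rcases IsIdempotentElem.iff_eq_zero_or_one.mp he' with h | h
  · left
    rw [(Ideal.Quotient.eq_zero_iff_mem).mpr (Ideal.mem_sup_left (Ideal.Quotient.eq_zero_iff_mem.mp h))]
    simp
  · right
    rw [← map_one (Ideal.Quotient.mk p)] at h
    rw [(Ideal.Quotient.mk_eq_mk_iff_sub_mem y 1).mpr
      (Ideal.mem_sup_left ((Ideal.Quotient.mk_eq_mk_iff_sub_mem y 1).mp h)), map_one]
    simp

end Groth.Agent.S0530
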