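import Groth.Statements.S0534
import Groth.Agent.HenselLib.Idem
import Groth.Agent.HenselLib.Local
import Mathlib.LinearAlgebra.Matrix.Charpoly.Coeff

set_option autoImplicit false
universe u
open Hensel

namespace Groth.Agent.S0534

/-- If `R` is Henselian at `I`, every finitely generated projective `R/I`-module is the base change of a
finitely generated projective `R`-module. -/
theorem result (R : Type u) [CommRing R] (I : Ideal R)
    [HenselianRing R I] (Q : Type u) [AddCommGroup Q] [Module (R ⧸ I) Q] [Module.Finite (R ⧸ I) Q]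
    [Module.Projective (R ⧸ I) Q] :
    ∃ (P : Type u) (_ : AddCommGroup P) (_ : Module R P), Module.Finite R P ∧ Module.Projective R P ∧
      Nonempty (TensorProduct R (R ⧸ I) P ≃ₗ[R ⧸ I] Q) := by
  classical
  obtain ⟨n, p, hp⟩ := Module.Finite.exists_fin' (R ⧸ I) Q
  obtain ⟨s, hps⟩ := Module.projective_lifting_property p LinearMap.id hp
  let π := Ideal.Quotient.mk I
  let E : Matrix (Fin n) (Fin n) (R ⧸ I) := LinearMap.toMatrix' (s ∘ₗ p)
  have hE : E * E = E := by
    rw [← LinearMap.toMatrix'_mul]
    refine congrArg LinearMap.toMatrix' (LinearMap.ext fun v => ?_)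
    show s (p (s (p v))) = s (p v)
    rw [show p (s (p v)) = p v from congr($hps (p v))]
  choose l hl using fun x : R ⧸ I => Ideal.Quotient.mk_surjective x
  let M : Matrix (Fin n) (Fin n) R := E.map l
  have hM : M.map π = E := by ext i j; simp [M, π, hl]
  let N := M * M - M
  have hN : N.map π = 0 := by
    show π.mapMatrix N = 0
    rw [map_sub, map_mul, RingHom.mapMatrix_apply, hM, hE, sub_self]
  let P : Polynomial R := N.charpoly.comp (Polynomial.X * Polynomial.X - Polynomial.X)
  have hPm : P.Monic := by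
    nontriviality R
    have h2 : (Polynomial.X * Polynomial.X - Polynomial.X : Polynomial R).Monic :=
      (Polynomial.monic_X.mul Polynomial.monic_X).sub_of_left (by
        rw [← pow_two, Polynomial.degree_X_pow, Polynomial.degree_X]; norm_num)
    refine N.charpoly_monic.comp h2 ?_
    rw [show (Polynomial.X * Polynomial.X - Polynomial.X : Polynomial R).natDegree = 2 by compute_degree!]
    norm_num
  have hPM : Polynomial.aeval M P = 0 := by
    rw [Polynomial.aeval_comp, map_sub, map_mul, Polynomial.aeval_X]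
    exact Matrix.aeval_self_charpoly N
  have hPI : P.map π = (Polynomial.X * Polynomial.X - Polynomial.X) ^ n := by
    rw [Polynomial.map_comp, ← Matrix.charpoly_map, hN, Matrix.charpoly_zero]
    simp
  let B := AdjoinRoot P
  have : Module.Finite R B := hPm.finite_adjoinRoot
  let x : B := AdjoinRoot.root P
  set IB := I.map (algebraMap R B) with hIB
  let ρ := Ideal.Quotient.mk IB
  let J : Ideal (B ⧸ IB) := Ideal.span {ρ (x * x - x)}
  have hJ : ∀ z ∈ J, IsNilpotent z := fun z hz => by
    obtain ⟨d, rfl⟩ := Ideal.mem_span_singleton.mp hz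
    refine (Commute.all _ _).isNilpotent_mul_right ⟨n, ?_⟩
    have h0 : Polynomial.aeval (ρ x) P = 0 := by
      rw [show ρ x = Ideal.Quotient.mkₐ R IB x from rfl, Polynomial.aeval_algHom_apply,
        AdjoinRoot.aeval_eq, AdjoinRoot.mk_self, map_zero]
    let φ : R ⧸ I →+* B ⧸ IB := Ideal.quotientMap IB (algebraMap R B) Ideal.le_comap_map
    rw [Polynomial.aeval_def, show algebraMap R (B ⧸ IB) = φ.comp π from rfl, ← Polynomial.eval₂_map,
      hPI] at h0
    simpa only [Polynomial.eval₂_pow, Polynomial.eval₂_sub, Polynomial.eval₂_mul, Polynomial.eval₂_X, map_sub, map_mul] using h0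
  obtain ⟨e₀, he₀, he₀x⟩ := Groth.Agent.HenselLib.idemLift_of_nilpotent hJ (ρ x)
    (by rw [← map_mul, ← map_sub]; exact Ideal.mem_span_singleton_self _)
  obtain ⟨b, rfl⟩ := Ideal.Quotient.mk_surjective e₀
  obtain ⟨e, he, heb⟩ := Groth.Agent.HenselLib.exists_idempotent I b
    (Ideal.Quotient.eq.mp (by rw [map_mul]; exact he₀))
  let Ψ : B →ₐ[R] Matrix (Fin n) (Fin n) R :=
    Ideal.Quotient.liftₐ (Ideal.span {P}) (Polynomial.aeval M) fun q hq => by
      obtain ⟨d, rfl⟩ := Ideal.mem_span_singleton.mp hq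
      rw [map_mul, hPM, zero_mul]
  have hΨx : Ψ x = M := Polynomial.aeval_X M
  let Et := Ψ e
  have hEt : Et * Et = Et := by rw [← map_mul, he.eq]
  let μ : B →+* Matrix (Fin n) (Fin n) (R ⧸ I) := π.mapMatrix.comp Ψ.toRingHom
  have hμIB : IB ≤ RingHom.ker μ := Ideal.map_le_iff_le_comap.mpr fun a ha => by
    show π.mapMatrix (Ψ (algebraMap R B a)) = 0
    rw [Ψ.commutes, Matrix.algebraMap_eq_diagonal]
    ext i j
    by_cases hij : i = j
    · subst hij; simp [π, Ideal.Quotient.eq_zero_iff_mem.mpr ha]
    · simp [Matrix.diagonal_apply_ne _ hij]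
  have hEtI : Et.map π = E := by
    have h1 : μ e = μ b := by
      rw [← sub_eq_zero, ← map_sub]; exact hμIB heb
    obtain ⟨d, hd⟩ := Ideal.mem_span_singleton.mp he₀x
    obtain ⟨d, rfl⟩ := Ideal.Quotient.mk_surjective d
    rw [← map_sub, ← map_mul, Ideal.Quotient.eq] at hd
    have h2 : μ (b - x - (x * x - x) * d) = 0 := hμIB hd
    have hμx : μ x = E := by
      show π.mapMatrix (Ψ x) = E
      rw [hΨx]; exact hM
    rw [map_sub, map_sub, map_mul, map_sub, map_mul, hμx, hE, sub_self, zero_mul, sub_zero,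
      sub_eq_zero] at h2
    exact h1.trans h2
  let f : (Fin n → R) →ₗ[R] (Fin n → R) := Matrix.mulVecLin Et
  have hff : ∀ v, f (f v) = f v := fun v => by simp [f, Matrix.mulVec_mulVec, hEt]
  refine ⟨LinearMap.range f, inferInstance, inferInstance, inferInstance,
    Module.Projective.of_split (LinearMap.range f).subtype f.rangeRestrict
      (LinearMap.ext fun ⟨v, w, hw⟩ => Subtype.ext (by
        show f v = v
        rw [← hw, hff])), ?_⟩
  let : Module R Q := Module.compHom Q π
  have : IsScalarTower R (R ⧸ I) Q := IsScalarTower.of_algebraMap_smul fun r q => rfl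
  let red : (Fin n → R) →ₗ[R] (Fin n → R ⧸ I) := (Algebra.linearMap R (R ⧸ I)).compLeft (Fin n)
  have hred : ∀ v, red (f v) = s (p (red v)) := fun v => by
    have h1 : red (f v) = E.mulVec (red v) := by
      rw [← hEtI]
      funext i
      exact RingHom.map_mulVec π Et v i
    rw [h1, ← Matrix.toLin'_apply, Matrix.toLin'_toMatrix']
    rfl
  let ψ : LinearMap.range f →ₗ[R] Q := (p.restrictScalars R) ∘ₗ red ∘ₗ (LinearMap.range f).subtype
  let Λ : TensorProduct R (R ⧸ I) (LinearMap.range f) →ₗ[R ⧸ I] Q :=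
    TensorProduct.AlgebraTensorModule.lift (LinearMap.toSpanSingleton (R ⧸ I) _ ψ)
  have hΛ : ∀ v, Λ ((1 : R ⧸ I) ⊗ₜ[R] v) = ψ v := fun v => by simp [Λ]
  refine ⟨LinearEquiv.ofBijective Λ ⟨(injective_iff_map_eq_zero _).mpr fun z hz => ?_, fun q => ?_⟩⟩
  · obtain ⟨⟨v, w, hw⟩, rfl⟩ :=
      TensorProduct.mk_surjective R (LinearMap.range f) (R ⧸ I) Ideal.Quotient.mk_surjective z
    simp only [TensorProduct.mk_apply] at hz ⊢
    rw [hΛ] at hz
    have h0 : red v = 0 := by
      have hv : f v = v := by rw [← hw, hff]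
      rw [← hv, hred, show p (red v) = 0 from hz, map_zero]
    have hdec : (⟨v, w, hw⟩ : LinearMap.range f) = ∑ i, v i • f.rangeRestrict (Pi.single i 1) := by
      refine Subtype.ext ?_
      show v = _
      rw [Submodule.coe_sum]
      simp only [LinearMap.codRestrict_apply, ← map_smul, ← map_sum]
      rw [← pi_eq_sum_univ' v, ← hw]
      exact (hff w).symm
    rw [hdec, TensorProduct.tmul_sum]
    refine Finset.sum_eq_zero fun i _ => ?_
    rw [TensorProduct.tmul_smul, TensorProduct.smul_tmul', Algebra.smul_def, mul_one,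
      show algebraMap R (R ⧸ I) (v i) = 0 from congrFun h0 i, TensorProduct.zero_tmul]
  · choose v hv using fun i => Ideal.Quotient.mk_surjective (s q i)
    refine ⟨(1 : R ⧸ I) ⊗ₜ[R] f.rangeRestrict v, (hΛ _).trans ?_⟩
    show p (red (f v)) = q
    rw [hred, show red v = s q from funext hv]
    rw [show p (s q) = q from congr($hps q)]
    exact congr($hps q)

end Groth.Agent.S0534
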