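import Groth.Statements.S0536
import Groth.Agent.HenselLib.Lift
import Mathlib.RingTheory.Smooth.Basic

set_option autoImplicit false
universe u
open Hensel

namespace Groth.Agent.S0536

/-- Let `S` be a smooth `R`-algebra and `A` an `R`-algebra Henselian at an ideal `I`. Every `R`-algebra
map `S → A/I` lifts to an `R`-algebra map `S → A`. -/
theorem result (R : Type u) [CommRing R] (S : Type u) [CommRing S]
    [Algebra R S] [Algebra.Smooth R S] (A : Type u) [CommRing A] [Algebra R A] (I : Ideal A)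
    [HenselianRing A I] (σ : S →ₐ[R] A ⧸ I) :
    ∃ τ : S →ₐ[R] A, (Ideal.Quotient.mkₐ R I).comp τ = σ := by
  open TensorProduct in
  let σ' : A ⊗[R] S →ₐ[A] A ⧸ I := Algebra.TensorProduct.lift (Algebra.ofId A (A ⧸ I)) σ
    fun _ _ => Commute.all _ _
  obtain ⟨τ, hτ⟩ := HenselLib.exists_lift_of_smooth I σ'
  refine ⟨(τ.restrictScalars R).comp Algebra.TensorProduct.includeRight, AlgHom.ext fun s => ?_⟩
  simpa [σ'] using congr($hτ ((1 : A) ⊗ₜ[R] s))

end Groth.Agent.S0536
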