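import Mathlib.RingTheory.AdicCompletion.Algebra
import Mathlib.RingTheory.AdicCompletion.Basic
import Mathlib.RingTheory.Noetherian.Defs
import Groth.Agent.AdicRing.Noetherian
import Mathlib

set_option autoImplicit false
universe u
namespace CAlg
end CAlg
open CAlg

namespace Groth.Agent.S0542

/-- If `I` is a finitely generated ideal of a ring `R` and `R/I` is Noetherian, then the `I`-adic
completion of `R` is a Noetherian ring. (The source also states completeness of the completion along
the extended ideal, which Mathlib already has; only Noetherianity is stated here.) -/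
theorem result (R : Type u) [CommRing R] (I : Ideal R)
    (hI : I.FG) [IsNoetherianRing (R ⧸ I)] : IsNoetherianRing (AdicCompletion I R) := by
  let J := I.map (algebraMap R (AdicCompletion I R))
  have hcomp : IsAdicComplete J (AdicCompletion I R) :=
    (IsAdicComplete.map_algebraMap_iff _ _).mpr (AdicCompletion.isAdicComplete hI)
  have hJ : RingHom.ker (AdicCompletion.evalOneₐ I).toRingHom = J := AdicCompletion.ker_evalOneₐ_eq_map I hI
  have : IsNoetherianRing (AdicCompletion I R ⧸ J) :=
    isNoetherianRing_of_ringEquiv (R ⧸ I)
      ((Ideal.quotEquivOfEq hJ.symm).trans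
        (RingHom.quotientKerEquivOfSurjective (f := (AdicCompletion.evalOneₐ I).toRingHom)
          (AdicCompletion.evalOneₐ_surjective I))).symm
  exact Groth.Agent.AdicRing.isNoetherianRing_of_isAdicComplete J (hI.map _)

end Groth.Agent.S0542
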