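import Mathlib.RingTheory.AdicCompletion.Algebra
import Mathlib.RingTheory.AdicCompletion.Basic
import Mathlib.RingTheory.Noetherian.Defs
import Groth.Agent.CAlgMisc2.TwoIdeals

set_option autoImplicit false
universe u
namespace CAlg
end CAlg
open CAlg

namespace Groth.Agent.S0545

/-- For a Noetherian ring `A` with two ideals `I` and `J`, completeness of `A` along `I` together with
completeness of the quotient `A/I` along the image of `J` forces completeness of `A` along `J`. -/
theorem result (A : Type u) [CommRing A] [IsNoetherianRing A]
    (I J : Ideal A) [IsAdicComplete I A]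
    [IsAdicComplete (Ideal.map (Ideal.Quotient.mk I) J) (A ⧸ I)] : IsAdicComplete J A := by
  exact Groth.Agent.CAlgMisc2.isAdicComplete_of_quotient I J

end Groth.Agent.S0545
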