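import Mathlib.RingTheory.AdicCompletion.Algebra
import Mathlib.RingTheory.AdicCompletion.Basic
import Mathlib.RingTheory.Noetherian.Defs
import Groth.Agent.CAlgMisc1.Basic

set_option autoImplicit false
universe u
namespace CAlg
end CAlg
open CAlg

namespace Groth.Agent.S0546

/-- If `I ≤ J` are ideals with `I` finitely generated and `M` is `J`-adically complete, then `M` is
`I`-adically complete. -/
theorem result (A : Type u) [CommRing A] (I J : Ideal A) (hIJ : I ≤ J)
    (hI : I.FG) (M : Type u) [AddCommGroup M] [Module A M] [IsAdicComplete J M] :
    IsAdicComplete I M := by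
  exact Groth.Agent.CAlgMisc1.isAdicComplete_of_le I J hIJ hI M

end Groth.Agent.S0546
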