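import Mathlib.RingTheory.AdicCompletion.Algebra
import Mathlib.RingTheory.AdicCompletion.Basic
import Mathlib.RingTheory.Noetherian.Defs
import Mathlib.RingTheory.AdicCompletion.LocalRing
import Mathlib.RingTheory.KrullDimension.Basic
import Groth.Agent.CommAlg6.CompletionEquidim

set_option autoImplicit false
universe u
namespace CAlg
end CAlg
open CAlg

namespace Groth.Agent.S0547

/-- The completion of a Noetherian local ring at its maximal ideal has the same Krull dimension as the
ring. -/
theorem result (A : Type u) [CommRing A] [IsLocalRing A]
    [IsNoetherianRing A] :
    ringKrullDim (AdicCompletion (IsLocalRing.maximalIdeal A) A) = ringKrullDim A := by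
  exact Groth.Agent.CommAlg6.ringKrullDim_completion (A := A)

end Groth.Agent.S0547
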