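import Groth.Statements.S0551
import Groth.Agent.CAlgH.CompletionFlat

set_option autoImplicit false
universe u
open CAlg

namespace Groth.Agent.S0551

/-- Let `R` be a ring, `I` a finitely generated ideal with `R/I` Noetherian, and `M` an `R`-module such
that `M/IM` is flat over `R/I` and the multiplication map `I ⊗ M → M` is injective (the vanishing of
the first Tor of `M` against `R/I`). Then the `I`-adic completion of `M` is flat over the `I`-adic
completion of `R`. (The published statement also records that the completed ring is Noetherian; that
is stated separately.) -/
theorem result (R : Type u) [CommRing R] (I : Ideal R) (hI : I.FG)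
    [IsNoetherianRing (R ⧸ I)] (M : Type u) [AddCommGroup M] [Module R M]
    [Module.Flat (R ⧸ I) (M ⧸ (I • ⊤ : Submodule R M))]
    (hT : Function.Injective (TensorProduct.lift ((LinearMap.lsmul R M).comp (Submodule.subtype I)))) :
    Module.Flat (AdicCompletion I R) (AdicCompletion I M) := by
  exact _root_.Groth.Agent.CAlgH.CompletionFlat.flat_adicCompletion I M hI hT

end Groth.Agent.S0551
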