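import Groth.Prelude.Def_Found
import Mathlib.RingTheory.Localization.AtPrime.Basic
import Groth.Agent.CAlgMisc2.CatenaryLocal

set_option autoImplicit false
universe u
namespace CAlg
end CAlg
open CAlg

namespace Groth.Agent.S0552

/-- A ring is catenary exactly when its localization at every maximal ideal is catenary. -/
theorem result (R : Type u) [CommRing R] :
    CAlg.IsCatenary R ↔ ∀ (m : Ideal R) [m.IsMaximal], CAlg.IsCatenary (Localization.AtPrime m) := by
  exact ⟨fun h m _ => Groth.Agent.CAlgMisc2.isCatenary_of_isLocalization m.primeCompl _ h,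
    fun h => Groth.Agent.CAlgMisc2.isCatenary_of_forall_maximal h⟩

end Groth.Agent.S0552
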