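import Groth.Statements.S0555
import Groth.Agent.EGA43.DimFormula.Points
import Groth.Agent.EGA43.DimFormula.Ring
-- import your own Groth.Agent.* helpers here

set_option autoImplicit false
universe u
open CAlg

open Groth.Agent
namespace Groth.Agent.S0555

/-- In the situation of the dimension formula, if the Noetherian base ring is universally catenary then
equality holds. -/
theorem result (R : Type u) [CommRing R] [IsDomain R]
    (hR : CAlg.IsUniversallyCatenary R) (S : Type u) [CommRing S] [IsDomain S] [Algebra R S]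
    [FaithfulSMul R S] [Algebra.FiniteType R S] (p : Ideal R) [p.IsPrime] (q : Ideal S) [q.IsPrime]
    [q.LiesOver p] :
    (q.height : Cardinal.{u}) + Algebra.trdeg (R ⧸ p) (S ⧸ q) =
      (p.height : Cardinal.{u}) + Algebra.trdeg R S := by
  haveI := hR.1
  let A := Localization.AtPrime p
  let B := Localization.AtPrime q
  letI algAB : Algebra A B := (Localization.localRingHom p q (algebraMap R S) Ideal.LiesOver.over).toAlgebra
  haveI : IsScalarTower R A B := .of_algebraMap_eq fun a => by
    show _ = Localization.localRingHom p q (algebraMap R S) Ideal.LiesOver.over (algebraMap R A a)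
    rw [Localization.localRingHom_to_map, ← IsScalarTower.algebraMap_apply]
  haveI : IsLocalHom (algebraMap A B) := inferInstanceAs (IsLocalHom (Localization.localRingHom p q (algebraMap R S) _))
  haveI : Algebra.EssFiniteType R B := Algebra.EssFiniteType.comp R S B
  haveI : Algebra.EssFiniteType A B := Algebra.EssFiniteType.of_comp R A B
  haveI : IsDomain A := IsLocalization.isDomain_localization p.primeCompl_le_nonZeroDivisors
  haveI : IsDomain B := IsLocalization.isDomain_localization q.primeCompl_le_nonZeroDivisors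
  haveI : IsNoetherianRing A := IsLocalization.isNoetherianRing p.primeCompl _ inferInstance
  have hRB : Function.Injective (algebraMap R B) := by
    rw [IsScalarTower.algebraMap_eq R S B]
    exact (IsLocalization.injective B q.primeCompl_le_nonZeroDivisors).comp (FaithfulSMul.algebraMap_injective R S)
  haveI : FaithfulSMul A B := by
    refine (faithfulSMul_iff_algebraMap_injective _ _).2 ((injective_iff_map_eq_zero _).2 fun a ha => ?_)
    obtain ⟨⟨r, m⟩, hrm⟩ := IsLocalization.surj p.primeCompl a
    have h1 : algebraMap R B r = 0 := by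
      rw [IsScalarTower.algebraMap_apply R A B, ← hrm, map_mul, ha, zero_mul]
    rw [(map_eq_zero_iff _ hRB).1 h1, map_zero] at hrm
    exact ((IsLocalization.map_units A m).mul_left_eq_zero).1 hrm
  have hUC : CAlg.IsUniversallyCatenary A :=
    CAlgMisc2.isUniversallyCatenary_localization p.primeCompl A hR
  have key := (EGA43.DimFormula.domain_formula (A := A) (B := B)).2 hUC
  have hsos : (algebraMap R A).SurjectiveOnStalks :=
    RingHom.surjectiveOnStalks_of_isLocalization (M := p.primeCompl) _
  have hφ : (IsScalarTower.toAlgHom R S B).toRingHom.SurjectiveOnStalks :=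
    RingHom.surjectiveOnStalks_of_isLocalization (M := q.primeCompl) _
  let q₀ : PrimeSpectrum S := ⟨q, inferInstance⟩
  let η : PrimeSpectrum S := ⟨⊥, Ideal.isPrime_bot⟩
  have h1 : EGA43.FibDepth.trd A (IsLocalRing.closedPoint B) = (Algebra.trdeg (R ⧸ p) (S ⧸ q)).toNat := by
    rw [← EGA43.DimFormula.trd_eq_of_tower hsos,
      ← EGA43.FibDepth.trd_comap_of_surjectiveOnStalks (IsScalarTower.toAlgHom R S B) hφ]
    have : PrimeSpectrum.comap (IsScalarTower.toAlgHom R S B).toRingHom (IsLocalRing.closedPoint B) = q₀ :=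
      PrimeSpectrum.ext (IsLocalization.AtPrime.comap_maximalIdeal B q)
    rw [this]
    exact EGA43.Chevalley.trd_eq_trdeg_quotient p q₀
  have h2 : EGA43.FibDepth.trd A (⟨⊥, Ideal.isPrime_bot⟩ : PrimeSpectrum B) = (Algebra.trdeg R S).toNat := by
    rw [← EGA43.DimFormula.trd_eq_of_tower hsos,
      ← EGA43.FibDepth.trd_comap_of_surjectiveOnStalks (IsScalarTower.toAlgHom R S B) hφ]
    have : PrimeSpectrum.comap (IsScalarTower.toAlgHom R S B).toRingHom (⟨⊥, Ideal.isPrime_bot⟩ : PrimeSpectrum B) = η :=
      PrimeSpectrum.ext (Ideal.comap_bot_of_injective _ (IsLocalization.injective B q.primeCompl_le_nonZeroDivisors))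
    rw [this]
    haveI : η.asIdeal.LiesOver (⊥ : Ideal R) :=
      ⟨(Ideal.comap_bot_of_injective _ (FaithfulSMul.algebraMap_injective R S)).symm⟩
    rw [EGA43.Chevalley.trd_eq_trdeg_quotient (⊥ : Ideal R) η]
    haveI : FaithfulSMul (R ⧸ (⊥ : Ideal R)) (S ⧸ η.asIdeal) :=
      (faithfulSMul_iff_algebraMap_injective _ _).2 (Ideal.quotientMap_injective'
        (by rw [Ideal.comap_bot_of_injective _ (FaithfulSMul.algebraMap_injective R S)]))
    congr 1
    exact (EGA43.Chevalley.trdeg_eq_of_ringEquiv (RingEquiv.quotientBot R).symm (RingEquiv.quotientBot S).symm rfl).symm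
  haveI : FaithfulSMul (R ⧸ p) (S ⧸ q) := (faithfulSMul_iff_algebraMap_injective _ _).2
    (Ideal.quotientMap_injective' (le_of_eq (Ideal.LiesOver.over (p := p) (P := q)).symm))
  haveI : Algebra.FiniteType (R ⧸ p) (S ⧸ q) := Algebra.FiniteType.of_restrictScalars_finiteType R _ _
  have f1 : Algebra.trdeg (R ⧸ p) (S ⧸ q) < Cardinal.aleph0 := trdeg_lt_aleph0_of_finiteType
  have f2 : Algebra.trdeg R S < Cardinal.aleph0 := trdeg_lt_aleph0_of_finiteType
  rw [h1, h2, IsLocalization.AtPrime.ringKrullDim_eq_height q B,
    IsLocalization.AtPrime.ringKrullDim_eq_height p A] at key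
  obtain ⟨c, hc⟩ := Cardinal.lt_aleph0.1 f1
  obtain ⟨d, hd⟩ := Cardinal.lt_aleph0.1 f2
  rw [hc, hd, Cardinal.toNat_natCast, Cardinal.toNat_natCast] at key
  rw [hc, hd, ← Cardinal.ofENat_nat, ← Cardinal.ofENat_nat, ← Cardinal.ofENat_add, ← Cardinal.ofENat_add]
  congr 1
  exact_mod_cast key

end Groth.Agent.S0555
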