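import Groth.Statements.S0557
import Mathlib.RingTheory.OrderOfVanishing.Basic
import Mathlib.LinearAlgebra.LinearIndependent.Lemmas
import Mathlib.RingTheory.Localization.Module
-- import your own Groth.Agent.* helpers here

set_option autoImplicit false
set_option linter.all false
open Pointwise
set_option backward.isDefEq.respectTransparency false
universe u
open CAlg

namespace Groth.Agent.S0557

variable {R : Type u} [CommRing R]

theorem length_le_of_forall_fg {M : Type u} [AddCommGroup M] [Module R M] {Q : Type u} [AddCommGroup Q] [Module R Q]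
    (π : M →ₗ[R] Q) (hπ : Function.Surjective π) (B : ℕ)
    (h : ∀ N : Submodule R M, N.FG → Module.length R (N.map π) ≤ B) : Module.length R Q ≤ B := by
  classical
  by_contra hlt
  rw [not_le] at hlt
  have h1 : ((B + 1 : ℕ) : WithBot ℕ∞) ≤ Order.krullDim (Submodule R Q) := by
    rw [← Module.coe_length]
    exact_mod_cast Order.add_one_le_of_lt hlt
  obtain ⟨c, hc⟩ := Order.le_krullDim_iff.mp h1
  have hw : ∀ i : Fin c.length, ∃ q, q ∈ c i.succ ∧ q ∉ c i.castSucc :=
    fun i => SetLike.exists_of_lt (c.step i)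
  choose q hq hq' using hw
  choose m hm using fun i => hπ (q i)
  let N := Submodule.span R (Set.range m)
  let G := N.map π
  have hG : ∀ i, q i ∈ G := fun i => ⟨m i, Submodule.subset_span ⟨i, rfl⟩, hm i⟩
  let c' : LTSeries (Submodule R G) := LTSeries.mk c.length (fun i => (c i).comap G.subtype)
    (Fin.strictMono_iff_lt_succ.mpr fun i => lt_of_le_of_ne (Submodule.comap_mono (c.step i).le) fun e => hq' i
      (show (⟨q i, hG i⟩ : G) ∈ (c i.castSucc).comap G.subtype from e ▸ hq i))
  have h2 := Order.LTSeries.length_le_krullDim c'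
  rw [← Module.coe_length] at h2
  have h3 : ((c.length : ℕ∞)) ≤ Module.length R G := by exact_mod_cast h2
  have h4 := h3.trans (h N (Submodule.fg_span (Set.finite_range m)))
  rw [hc, Nat.cast_le] at h4
  omega

theorem length_free_quot (x : R) (s : ℕ) :
    Module.length R ((Fin s → R) ⧸ (x • ⊤ : Submodule R (Fin s → R))) =
      s * Module.length R (R ⧸ Ideal.span {x}) := by
  let p : (Fin s → R) →ₗ[R] (Fin s → R ⧸ Ideal.span {x}) :=
    LinearMap.pi fun i => (Submodule.mkQ (Ideal.span {x})).comp (LinearMap.proj i)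
  have hp : Function.Surjective p := fun y => by
    choose z hz using fun i => Submodule.mkQ_surjective (Ideal.span {x}) (y i)
    exact ⟨z, funext hz⟩
  have hker : LinearMap.ker p = (x • ⊤ : Submodule R (Fin s → R)) := by
    ext v
    constructor
    · intro hv
      have hv' : ∀ i, v i ∈ Ideal.span {x} := fun i => (Submodule.Quotient.mk_eq_zero _).mp (congrFun hv i)
      choose z hz using fun i => Ideal.mem_span_singleton'.mp (hv' i)
      exact ⟨z, trivial, funext fun i => by simp [← hz i, mul_comm]⟩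
    · rintro ⟨z, -, rfl⟩
      refine funext fun i => (Submodule.Quotient.mk_eq_zero _).mpr ?_
      exact Ideal.mem_span_singleton'.mpr ⟨z i, by simp [mul_comm]⟩
  rw [((Submodule.quotEquivOfEq _ _ hker).symm.trans (LinearMap.quotKerEquivOfSurjective p hp)).length_eq,
    Module.length_pi_of_fintype]
  simp

theorem length_quot_smul_eq {N : Type u} [AddCommGroup N] [Module R N] (F : Submodule R N) (x : R)
    (hinj : Function.Injective fun z : N => x • z) (hfin : Module.length R (N ⧸ F) ≠ ⊤) :
    Module.length R (N ⧸ (x • ⊤ : Submodule R N)) = Module.length R (F ⧸ (x • ⊤ : Submodule R F)) := by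
  -- two exact sequences
  let P : Submodule R N := x • F
  have hPle : P ≤ (x • ⊤ : Submodule R N) := by
    rintro _ ⟨z, -, rfl⟩; exact ⟨z, trivial, rfl⟩
  have hPF : P ≤ F := by
    rintro _ ⟨z, hz, rfl⟩; exact F.smul_mem x hz
  let μ : N ⧸ F →ₗ[R] N ⧸ P := Submodule.mapQ F P (LinearMap.lsmul R N x) fun z hz => ⟨z, hz, rfl⟩
  have hμ : Function.Injective μ := by
    rw [injective_iff_map_eq_zero]
    intro z hz
    obtain ⟨z, rfl⟩ := Submodule.mkQ_surjective _ z
    obtain ⟨w, hw, hw'⟩ := (Submodule.Quotient.mk_eq_zero P).mp hz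
    have hsub : w = z := hinj hw'
    exact (Submodule.Quotient.mk_eq_zero _).mpr (hsub ▸ hw)
  have hex₁ : Function.Exact μ (Submodule.factor hPle) := fun y => by
    obtain ⟨y, rfl⟩ := Submodule.mkQ_surjective _ y
    constructor
    · intro hy
      obtain ⟨z, -, hz⟩ := (Submodule.Quotient.mk_eq_zero _).mp hy
      exact ⟨Submodule.Quotient.mk z, congrArg (Submodule.Quotient.mk (p := P)) hz⟩
    · rintro ⟨z, hz⟩
      obtain ⟨z, rfl⟩ := Submodule.mkQ_surjective _ z
      rw [← hz]
      exact (Submodule.Quotient.mk_eq_zero _).mpr ⟨z, trivial, rfl⟩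
  let P' : Submodule R F := x • ⊤
  let ν : F ⧸ P' →ₗ[R] N ⧸ P := Submodule.mapQ P' P F.subtype fun z hz => by
    obtain ⟨w, -, rfl⟩ := hz
    exact ⟨w.1, w.2, rfl⟩
  have hν : Function.Injective ν := by
    rw [injective_iff_map_eq_zero]
    intro z hz
    obtain ⟨z, rfl⟩ := Submodule.mkQ_surjective _ z
    obtain ⟨w, hw, hw'⟩ := (Submodule.Quotient.mk_eq_zero P).mp hz
    exact (Submodule.Quotient.mk_eq_zero _).mpr ⟨⟨w, hw⟩, trivial, Subtype.ext hw'⟩
  have hex₂ : Function.Exact ν (Submodule.factor hPF) := fun y => by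
    obtain ⟨y, rfl⟩ := Submodule.mkQ_surjective _ y
    constructor
    · intro hy
      exact ⟨Submodule.Quotient.mk ⟨y, (Submodule.Quotient.mk_eq_zero _).mp hy⟩, rfl⟩
    · rintro ⟨z, hz⟩
      obtain ⟨z, rfl⟩ := Submodule.mkQ_surjective _ z
      rw [← hz]
      exact (Submodule.Quotient.mk_eq_zero _).mpr z.2
  have h1 := Module.length_eq_add_of_exact μ _ hμ (Submodule.factor_surjective hPle) hex₁
  have h2 := Module.length_eq_add_of_exact ν _ hν (Submodule.factor_surjective hPF) hex₂
  rw [h2, add_comm (Module.length R (↥F ⧸ P'))] at h1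
  exact (WithTop.add_left_cancel hfin h1).symm

theorem length_quot_of_basis {N : Type u} [AddCommGroup N] [Module R N] (F : Submodule R N) (x : R) {s : ℕ}
    (eF : (Fin s → R) ≃ₗ[R] F) :
    Module.length R (F ⧸ (x • ⊤ : Submodule R F)) = s * Module.length R (R ⧸ Ideal.span {x}) := by
  have hmap : (x • ⊤ : Submodule R (Fin s → R)).map eF.toLinearMap = (x • ⊤ : Submodule R F) := by
    refine le_antisymm ?_ ?_
    · rintro _ ⟨_, ⟨z, -, rfl⟩, rfl⟩
      exact ⟨eF z, trivial, (eF.map_smul x z).symm⟩
    · rintro _ ⟨z, -, rfl⟩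
      exact ⟨x • eF.symm z, ⟨eF.symm z, trivial, rfl⟩, by
        show eF (x • eF.symm z) = x • z
        rw [map_smul, eF.apply_symm_apply]⟩
  rw [← length_free_quot, (Submodule.Quotient.equiv _ _ eF hmap).length_eq]

theorem length_map_mkQ_le {M W : Type u} [AddCommGroup M] [Module R M] [AddCommGroup W] [Module R W]
    (N : Submodule R M) (N' : Submodule R W) (e : N ≃ₗ[R] N') (x : R) :
    Module.length R (N.map (Submodule.mkQ (x • ⊤ : Submodule R M))) ≤
      Module.length R (N' ⧸ (x • ⊤ : Submodule R N')) := by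
  let g : N' →ₗ[R] N.map (Submodule.mkQ (x • ⊤ : Submodule R M)) :=
    (LinearMap.submoduleMap (Submodule.mkQ (x • ⊤ : Submodule R M)) N).comp e.symm.toLinearMap
  have hle : (x • ⊤ : Submodule R N') ≤ LinearMap.ker g := by
    rintro _ ⟨z, -, rfl⟩
    refine Subtype.ext ((Submodule.Quotient.mk_eq_zero _).mpr ⟨(e.symm z).1, trivial, ?_⟩)
    exact (congrArg Subtype.val (e.symm.map_smul x z)).symm
  refine Module.length_le_of_surjective (Submodule.liftQ _ g hle) fun y => ?_
  obtain ⟨z, hz⟩ := LinearMap.submoduleMap_surjective (Submodule.mkQ (x • ⊤ : Submodule R M)) N y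
  refine ⟨Submodule.Quotient.mk (e z), ?_⟩
  show LinearMap.submoduleMap _ N (e.symm (e z)) = y
  rw [e.symm_apply_apply, hz]

theorem exists_smul_mem_span_of_mem_span [IsDomain R] {K : Type u} [Field K] [Algebra R K] [IsFractionRing R K]
    {V : Type u} [AddCommGroup V] [Module K V] [Module R V] [IsScalarTower R K V] {b : Set V} {n : V}
    (hn : n ∈ Submodule.span K b) : ∃ t : R, t ≠ 0 ∧ t • n ∈ Submodule.span R b := by
  induction hn using Submodule.span_induction with
  | mem y hy => exact ⟨1, one_ne_zero, (one_smul R y).symm ▸ Submodule.subset_span hy⟩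
  | zero => exact ⟨1, one_ne_zero, by simp⟩
  | add y z _ _ hy hz =>
    obtain ⟨s, hs, hs'⟩ := hy
    obtain ⟨t, ht, ht'⟩ := hz
    refine ⟨s * t, mul_ne_zero hs ht, ?_⟩
    rw [smul_add]
    refine add_mem ?_ ?_
    · rw [mul_comm, mul_smul]; exact Submodule.smul_mem _ _ hs'
    · rw [mul_smul]; exact Submodule.smul_mem _ _ ht'
  | smul c y _ hy =>
    obtain ⟨t, ht, ht'⟩ := hy
    obtain ⟨p, q, hq, rfl⟩ := IsFractionRing.div_surjective (A := R) c
    refine ⟨q * t, mul_ne_zero (nonZeroDivisors.ne_zero hq) ht, ?_⟩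
    have hq0 : algebraMap R K q ≠ 0 := IsFractionRing.to_map_ne_zero_of_mem_nonZeroDivisors hq
    rw [mul_smul, smul_comm t, ← algebraMap_smul K q, smul_smul, mul_div_cancel₀ _ hq0, algebraMap_smul]
    exact Submodule.smul_mem _ _ ht'

theorem length_fg_le [IsNoetherianRing R] [IsDomain R] [Ring.KrullDimLE 1 R] {K : Type u} [Field K] [Algebra R K]
    [IsFractionRing R K] {r : ℕ} (N : Submodule R (Fin r → K)) (hN : N.FG) (x : R) (hx : x ≠ 0) :
    Module.length R (N ⧸ (x • ⊤ : Submodule R N)) ≤ r * Module.length R (R ⧸ Ideal.span {x}) := by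
  classical
  obtain ⟨b, hbN, hspan, hli⟩ := exists_linearIndependent K (N : Set (Fin r → K))
  haveI : Fintype b := hli.setFinite.fintype
  have hcard : Fintype.card b ≤ r := by simpa using hli.fintype_card_le_finrank
  let e := Fintype.equivFin b
  let F' : Submodule R N := Submodule.span R (Set.range fun i : Fin (Fintype.card b) => (⟨(e.symm i).1, hbN (e.symm i).2⟩ : N))
  let v : Fin (Fintype.card b) → N := fun i => ⟨(e.symm i).1, hbN (e.symm i).2⟩
  have hv : LinearIndependent R v := by
    refine LinearIndependent.of_comp N.subtype ?_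
    exact (LinearIndependent.restrict_scalars' R hli).comp e.symm e.symm.injective
  let eF : (Fin (Fintype.card b) → R) ≃ₗ[R] F' := ((Module.Basis.span hv).equivFun).symm
  haveI : Module.Finite R N := Module.Finite.iff_fg.mpr hN
  -- `N ⧸ F'` is killed by a nonzero element
  have htors : ∀ n : N, ∃ a : R, a ≠ 0 ∧ a • n ∈ F' := by
    intro n
    have hn : (n : Fin r → K) ∈ Submodule.span K b := hspan ▸ Submodule.subset_span n.2
    obtain ⟨t, ht, z⟩ := exists_smul_mem_span_of_mem_span (R := R) hn
    refine ⟨t, ht, ?_⟩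
    have h5 : Submodule.span R b = F'.map N.subtype := by
      rw [Submodule.map_span, ← Set.range_comp]
      congr 1
      ext y
      exact ⟨fun hy => ⟨e ⟨y, hy⟩, by simp⟩, fun ⟨i, hi⟩ => hi ▸ (e.symm i).2⟩
    rw [h5] at z
    obtain ⟨w, hw, hw'⟩ := z
    exact (show w = t • n from Subtype.ext hw') ▸ hw
  obtain ⟨G, hG⟩ := Module.Finite.fg_top (R := R) (M := N)
  choose a ha ha' using htors
  let a₀ := ∏ g ∈ G, a g
  have ha₀ : a₀ ≠ 0 := Finset.prod_ne_zero_iff.mpr fun g _ => ha g
  have hker : ∀ n : N, a₀ • n ∈ F' := by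
    intro n
    have : n ∈ Submodule.span R (G : Set N) := hG.symm ▸ Submodule.mem_top
    induction this using Submodule.span_induction with
    | mem g hg =>
      obtain ⟨c, hc⟩ := Finset.dvd_prod_of_mem a (Finset.mem_coe.mp hg)
      rw [show a₀ = a g * c from hc, mul_comm, mul_smul]
      exact F'.smul_mem _ (ha' g)
    | zero => simp
    | add p q _ _ hp hq => rw [smul_add]; exact add_mem hp hq
    | smul c p _ hp => rw [smul_comm]; exact F'.smul_mem _ hp
  have hfin : Module.length R (N ⧸ F') ≠ ⊤ := by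
    obtain ⟨m, φ, hφ⟩ := Module.Finite.exists_fin' R N
    let Ψ : (Fin m → R) →ₗ[R] N ⧸ F' := F'.mkQ.comp φ
    have hle : (a₀ • ⊤ : Submodule R (Fin m → R)) ≤ LinearMap.ker Ψ := by
      rintro _ ⟨z, -, rfl⟩
      show F'.mkQ (φ (a₀ • z)) = 0
      rw [map_smul]
      exact (Submodule.Quotient.mk_eq_zero _).mpr (hker _)
    have hs : Function.Surjective (Submodule.liftQ _ Ψ hle) := fun y => by
      obtain ⟨y, rfl⟩ := F'.mkQ_surjective y
      obtain ⟨z, rfl⟩ := hφ y
      exact ⟨Submodule.Quotient.mk z, rfl⟩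
    refine ne_top_of_le_ne_top ?_ (Module.length_le_of_surjective _ hs)
    rw [length_free_quot]
    exact WithTop.mul_ne_top (ENat.coe_ne_top m)
      (Module.length_ne_top_iff.mpr (isFiniteLength_quotient_span_singleton R (mem_nonZeroDivisors_of_ne_zero ha₀)))
  have hinj : Function.Injective fun z : N => x • z := fun w z hwz => by
    refine Subtype.ext (funext fun i => ?_)
    have h6 := congrFun (congrArg Subtype.val hwz) i
    change x • (w : Fin r → K) i = x • (z : Fin r → K) i at h6
    rw [Algebra.smul_def, Algebra.smul_def] at h6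
    exact mul_left_cancel₀ (fun h7 => hx (IsFractionRing.injective R K (h7.trans (map_zero _).symm))) h6
  rw [length_quot_smul_eq F' x hinj hfin, length_quot_of_basis F' x eF]
  exact mul_le_mul_left (Nat.cast_le.mpr hcard) _

/-- Let `R` be a Noetherian local domain of dimension one with fraction field `K`, `M` an `R`-submodule
of `K^r`, and `x` a nonzero element of `R`. Then `R/xR` has finite length and the length of `M/xM`
is at most `r` times the length of `R/xR`. -/
theorem result (R : Type u) [CommRing R] [IsDomain R]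
    [IsNoetherianRing R] [IsLocalRing R] (hdim : ringKrullDim R = 1) (K : Type u) [Field K]
    [Algebra R K] [IsFractionRing R K] (r : ℕ) (M : Submodule R (Fin r → K)) (x : R) (hx : x ≠ 0) :
    Module.length R (R ⧸ Ideal.span ({x} : Set R)) ≠ ⊤ ∧
      Module.length R (M ⧸ (Ideal.span ({x} : Set R) • (⊤ : Submodule R M))) ≤
        r * Module.length R (R ⧸ Ideal.span ({x} : Set R)) := by
  haveI : Ring.KrullDimLE 1 R := by
    rw [Ring.krullDimLE_iff, hdim]
    rfl
  have hfin : Module.length R (R ⧸ Ideal.span ({x} : Set R)) ≠ ⊤ :=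
    Module.length_ne_top_iff.mpr (isFiniteLength_quotient_span_singleton R (mem_nonZeroDivisors_of_ne_zero hx))
  refine ⟨hfin, ?_⟩
  obtain ⟨B, hB⟩ := ENat.ne_top_iff_exists.mp hfin
  rw [Submodule.ideal_span_singleton_smul, ← hB, ← Nat.cast_mul]
  refine length_le_of_forall_fg (Submodule.mkQ (x • ⊤ : Submodule R M)) (Submodule.mkQ_surjective _) _ fun N hN => ?_
  rw [Nat.cast_mul, hB]
  let N' : Submodule R (Fin r → K) := N.map M.subtype
  let e : N ≃ₗ[R] N' := Submodule.equivMapOfInjective M.subtype M.subtype_injective N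
  exact (length_map_mkQ_le N N' e x).trans (length_fg_le N' (hN.map _) x hx)

end Groth.Agent.S0557
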