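import Groth.Statements.S0560
import Groth.Agent.CAlgH3.RegularCore

set_option autoImplicit false
universe u
open CAlg

namespace Groth.Agent.S0560

/-- Regularity of a Noetherian local ring can be checked after dividing out one nonzerodivisor lying in
the maximal ideal: if that quotient is a regular local ring, so is the original ring. -/
theorem result (R : Type u) [CommRing R] [IsLocalRing R]
    [IsNoetherianRing R] (x : R) (hx : x ∈ IsLocalRing.maximalIdeal R) (hreg : x ∈ nonZeroDivisors R)
    [IsRegularLocalRing (R ⧸ Ideal.span ({x} : Set R))] : IsRegularLocalRing R := by
  exact CAlgH3.isRegularLocalRing_of_quotient hx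
    (Module.Flat.isSMulRegular_of_nonZeroDivisors hreg)

end Groth.Agent.S0560
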