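import Groth.Statements.S0571
import Groth.Agent.CAlgH.NormalLocus


set_option autoImplicit false
universe u
open CAlg

namespace Groth.Agent.S0571

/-- A Noetherian domain `R` is N-1 exactly when (a) `R_f` is integrally closed for some nonzero `f`, and
(b) the localization of `R` at every maximal ideal is N-1. -/
theorem result (R : Type u) [CommRing R] [IsDomain R]
    [IsNoetherianRing R] :
    CAlg.IsN1 R ↔ ((∃ f : R, f ≠ 0 ∧ IsIntegrallyClosed (Localization.Away f)) ∧
      ∀ (m : Ideal R) [m.IsMaximal], CAlg.IsN1 (Localization.AtPrime m)) := by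
  refine ⟨fun h => ⟨Groth.Agent.CAlgH.exists_normal_localization_of_isN1 h, fun m hm => Groth.Agent.CAlgH.isN1_localization m.primeCompl h⟩, fun ⟨⟨f, hf, hn⟩, hloc⟩ => Groth.Agent.CAlgH.isN1_of_exists_normal_localization hf hn hloc⟩

end Groth.Agent.S0571
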