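import Groth.Statements.S0574
import Groth.Agent.CAlgH.NagataBase


set_option autoImplicit false
universe u
open CAlg

namespace Groth.Agent.S0574

/-- For Noetherian domains of characteristic zero the conditions N-1 and N-2 coincide. -/
theorem result (R : Type u) [CommRing R] [IsDomain R] [IsNoetherianRing R]
    [CharZero R] : CAlg.IsN1 R ↔ CAlg.IsN2 R := by
  refine ⟨fun h => Groth.Agent.CAlgH.isN2_of (FractionRing R) fun L _ _ _ _ _ => ?_, fun h => h (FractionRing R) (Module.Finite.self _)⟩
  have : CharZero (FractionRing R) := charZero_of_injective_algebraMap (IsFractionRing.injective R (FractionRing R))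
  have : Algebra.IsSeparable (FractionRing R) L := inferInstance
  exact Groth.Agent.CAlgH.finite_ic_of_separable_top (K := FractionRing R) (K' := FractionRing R) h

end Groth.Agent.S0574
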