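import Groth.Statements.S0577
import Groth.Agent.CAlgH.AnalyticallyUnramified


set_option autoImplicit false
universe u
open CAlg

namespace Groth.Agent.S0577

/-- Let `A` be a Noetherian local domain of prime characteristic `p` which is a Nagata ring. If `a ∈ A`
has a `p`-th root in the completion of `A`, then it has a `p`-th root in `A`. -/
theorem result (A : Type u) [CommRing A] [IsDomain A]
    [IsLocalRing A] (hA : CAlg.IsNagata A) (p : ℕ) [Fact p.Prime] [CharP A p] (a : A)
    (h : ∃ α : AdicCompletion (IsLocalRing.maximalIdeal A) A,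
      α ^ p = algebraMap A (AdicCompletion (IsLocalRing.maximalIdeal A) A) a) :
    ∃ b : A, b ^ p = a := by
  have := hA.1
  obtain ⟨α, hα⟩ := h
  let Ah := AdicCompletion (IsLocalRing.maximalIdeal A) A
  have hff : Module.FaithfullyFlat A Ah := Module.FaithfullyFlat.of_flat_of_isLocalHom
  have hinj : Function.Injective (algebraMap A Ah) := FaithfulSMul.algebraMap_injective A Ah
  haveI : CharP Ah p := (RingHom.charP_iff (algebraMap A Ah) hinj p).mp inferInstance
  have hp := (Fact.out : p.Prime)
  by_cases hK : ∃ u v : A, v ≠ 0 ∧ u ^ p = a * v ^ p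
  · obtain ⟨u, v, hv, huv⟩ := hK
    have := Groth.Agent.CAlgH.isReduced_completion_of_isNagata hA
    have h1 : (algebraMap A Ah u - α * algebraMap A Ah v) ^ p = 0 := by
      rw [sub_pow_char, mul_pow, hα, ← map_pow, ← map_pow, ← map_mul, huv, sub_self]
    have h2 : algebraMap A Ah u = α * algebraMap A Ah v := sub_eq_zero.mp (IsReduced.eq_zero _ ⟨p, h1⟩)
    have h3 : u ∈ Ideal.span {v} := by
      rw [← Ideal.comap_map_eq_self_of_faithfullyFlat (B := Ah) (Ideal.span {v}), Ideal.mem_comap, Ideal.map_span,
        Set.image_singleton, h2]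
      exact Ideal.mul_mem_left _ _ (Ideal.mem_span_singleton_self _)
    obtain ⟨b, rfl⟩ := Ideal.mem_span_singleton'.mp h3
    exact ⟨b, mul_right_cancel₀ (pow_ne_zero p hv) (by rw [← mul_pow, huv])⟩
  · exfalso
    let K := FractionRing A
    let f : Polynomial A := Polynomial.X ^ p - Polynomial.C a
    have hf : f.Monic := Polynomial.monic_X_pow_sub_C a hp.ne_zero
    have hfK : f.map (algebraMap A K) = Polynomial.X ^ p - Polynomial.C (algebraMap A K a) := by simp [f]
    have hirr : Prime (f.map (algebraMap A K)) := by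
      rw [hfK]
      refine Irreducible.prime (X_pow_sub_C_irreducible_of_prime hp fun b hb => hK ?_)
      obtain ⟨u, v, hv, rfl⟩ := IsFractionRing.div_surjective A b
      have hv0 := nonZeroDivisors.ne_zero hv
      have hv' : algebraMap A K v ≠ 0 := (map_ne_zero_iff _ (IsFractionRing.injective A K)).mpr hv0
      refine ⟨u, v, hv0, IsFractionRing.injective A K ?_⟩
      rw [div_pow, div_eq_iff (pow_ne_zero p hv')] at hb
      rw [map_mul, map_pow, map_pow, hb]
    have hprime : Prime f := by
      refine ⟨hf.ne_zero, fun hu => hirr.not_unit (hu.map (Polynomial.mapRingHom (algebraMap A K))), fun g h hgh => ?_⟩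
      refine (hirr.dvd_or_dvd (a := g.map (algebraMap A K)) (b := h.map (algebraMap A K)) (by rw [← Polynomial.map_mul]; exact Polynomial.map_dvd (algebraMap A K) hgh)).imp ?_ ?_ <;>
        exact (Polynomial.map_dvd_map _ (IsFractionRing.injective A K) hf).mp
    haveI := AdjoinRoot.isDomain_of_prime hprime
    haveI := hf.finite_adjoinRoot
    have hred := Groth.Agent.CAlgH.isReduced_completion_tensor hA (AdjoinRoot f)
    let g : Polynomial Ah := f.map (algebraMap A Ah)
    have hroot : Polynomial.aeval (AdjoinRoot.root g) f = 0 := by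
      rw [← Polynomial.aeval_map_algebraMap Ah, AdjoinRoot.aeval_eq, AdjoinRoot.mk_self]
    let ψ : TensorProduct A Ah (AdjoinRoot f) →ₐ[A] AdjoinRoot g :=
      Algebra.TensorProduct.lift (IsScalarTower.toAlgHom A Ah (AdjoinRoot g)) (AdjoinRoot.liftAlgHom f (Algebra.ofId A _) _ (by rw [← hroot, Polynomial.aeval_def]; rfl)) (fun _ _ => Commute.all _ _)
    haveI : CharP (TensorProduct A Ah (AdjoinRoot f)) p := (RingHom.charP_iff
      (algebraMap Ah (TensorProduct A Ah (AdjoinRoot f))) (Algebra.TensorProduct.includeLeft_injective (S := Ah) (AdjoinRoot.of.injective_of_degree_ne_zero (by rw [Polynomial.degree_X_pow_sub_C hp.pos]; exact_mod_cast hp.ne_zero))) p).mp inferInstance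
    let z : TensorProduct A Ah (AdjoinRoot f) := TensorProduct.tmul A 1 (AdjoinRoot.root f) - TensorProduct.tmul A α 1
    have hz : z ^ p = 0 := by
      have hr : (AdjoinRoot.root f) ^ p = algebraMap A _ a := by
        have := AdjoinRoot.eval₂_root f
        simpa [f, sub_eq_zero] using this
      simp only [z, sub_pow_char, Algebra.TensorProduct.tmul_pow, one_pow, hr, hα]
      rw [Algebra.algebraMap_eq_smul_one, Algebra.algebraMap_eq_smul_one, TensorProduct.smul_tmul, sub_self]
    have h0 : ψ z = 0 := by rw [IsReduced.eq_zero z ⟨p, hz⟩, map_zero]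
    haveI : Nontrivial Ah := hinj.nontrivial
    refine AdjoinRoot.mk_ne_zero_of_natDegree_lt (hf.map (algebraMap A Ah)) (Polynomial.X_sub_C_ne_zero α) ?_ ?_
    · rw [Polynomial.natDegree_X_sub_C, hf.natDegree_map, Polynomial.natDegree_X_pow_sub_C]; exact hp.one_lt
    · rw [map_sub, AdjoinRoot.mk_X, AdjoinRoot.mk_C]
      simpa [z, ψ, AdjoinRoot.algebraMap_eq] using h0

end Groth.Agent.S0577
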