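import Groth.Statements.S0578
import Groth.Agent.CAlgH.CohenExistence

set_option autoImplicit false
universe u
open CAlg

namespace Groth.Agent.S0578

/-- For every prime `p` and every field `k` of characteristic `p` there is a Cohen ring (a complete
discrete valuation ring with uniformizer `p`) whose residue field is isomorphic to `k`. -/
theorem result (p : ℕ) [Fact p.Prime] (k : Type u) [Field k] [CharP k p] :
    ∃ (Λ : Type u) (_ : CommRing Λ) (_ : IsLocalRing Λ), CAlg.IsCohenRing Λ ∧
      Nonempty (IsLocalRing.ResidueField Λ ≃+* k) := by
  exact Groth.Agent.CAlgH.exists_cohenRing p k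

end Groth.Agent.S0578
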