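import Groth.Statements.S0579
import Groth.Agent.CAlgH.FieldSmooth

set_option autoImplicit false
universe u
open CAlg

namespace Groth.Agent.S0579

/-- A local ring which is complete with respect to its maximal ideal and whose residue field has
characteristic zero admits a coefficient field: there is a ring homomorphism from the residue field
to the ring which is a section of the residue map. -/
theorem result (R : Type u) [CommRing R] [IsLocalRing R]
    [IsAdicComplete (IsLocalRing.maximalIdeal R) R] [CharZero (IsLocalRing.ResidueField R)] :
    ∃ s : IsLocalRing.ResidueField R →+* R, (IsLocalRing.residue R).comp s = RingHom.id _ := by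
  have hu : ∀ m : nonZeroDivisors ℤ, IsUnit ((Int.castRingHom R) m) := by
    intro m
    by_contra hm
    have h0 : IsLocalRing.residue R ((m : ℤ) : R) = 0 := Ideal.Quotient.eq_zero_iff_mem.mpr hm
    rw [map_intCast, Int.cast_eq_zero] at h0
    exact nonZeroDivisors.coe_ne_zero m h0
  letI : Algebra ℚ R := (IsLocalization.lift (M := nonZeroDivisors ℤ) (S := ℚ) hu).toAlgebra
  have : Algebra.FormallySmooth ℚ (IsLocalRing.ResidueField R) := Groth.Agent.CAlgH.formallySmooth_of_perfectField_any ℚ _
  obtain ⟨g, hg⟩ := Algebra.FormallySmooth.exists_mkₐ_comp_eq_of_isAdicComplete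
    (R := ℚ) (A := IsLocalRing.ResidueField R) (S := R) (I := IsLocalRing.maximalIdeal R)
    { RingHom.id (IsLocalRing.ResidueField R) with
      commutes' := fun q => DFunLike.congr_fun
        (Subsingleton.elim (algebraMap ℚ (IsLocalRing.ResidueField R))
          ((Ideal.Quotient.mk _).comp (algebraMap ℚ R))) q }
  exact ⟨g.toRingHom, congrArg AlgHom.toRingHom hg⟩

end Groth.Agent.S0579
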