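import Groth.Prelude.Def_Found
import Mathlib.Algebra.Module.Projective
import Mathlib.LinearAlgebra.FreeModule.Basic
import Mathlib.RingTheory.LocalRing.Basic
import Mathlib.Algebra.DirectSum.Module
import Mathlib.RingTheory.Flat.Basic
import Groth.Agent.CAlgML.Projective

set_option autoImplicit false
universe u
namespace CAlg
end CAlg
open CAlg

namespace Groth.Agent.S0582

/-- A projective module, not necessarily finitely generated, over a local ring is free. -/
theorem result (R : Type u) [CommRing R] [IsLocalRing R] (P : Type u)
    [AddCommGroup P] [Module R P] [Module.Projective R P] : Module.Free R P := by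
  exact Groth.Agent.CAlgML.free_of_projective

end Groth.Agent.S0582
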