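import Groth.Statements.S0597
import Groth.Agent.CAlgH.Approximation

set_option autoImplicit false
universe u
open CAlg

namespace Groth.Agent.S0597

/-- Let `A` be Noetherian and Henselian at `I`, and suppose the map to the `I`-adic completion is
regular. Any solution in the completion of a finite system of polynomial equations over `A` can be
approximated to any `I`-adic order by a solution in `A`. -/
theorem result (A : Type u) [CommRing A] [IsNoetherianRing A]
    (I : Ideal A) [HenselianRing A I] (hreg : CAlg.IsRegularHom A (AdicCompletion I A)) (n m : ℕ)
    (F : Fin m → MvPolynomial (Fin n) A) (a : Fin n → (AdicCompletion I A))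
    (ha : ∀ j, MvPolynomial.eval a (MvPolynomial.map (algebraMap A (AdicCompletion I A)) (F j)) = 0) (N : ℕ) :
    ∃ b : Fin n → A, (∀ j, MvPolynomial.eval b (F j) = 0) ∧
      ∀ i, a i - algebraMap A (AdicCompletion I A) (b i) ∈ (I ^ N).map (algebraMap A (AdicCompletion I A)) := by
  exact _root_.Groth.Agent.CAlgH.Approximation.exists_solution I hreg F a
    (fun j => (MvPolynomial.eval_map (algebraMap A _) a (F j)).symm.trans (ha j)) N

end Groth.Agent.S0597
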