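import Groth.Statements.S0601
import Groth.Agent.CAlgH3.Serre

set_option autoImplicit false
universe u
open CAlg

namespace Groth.Agent.S0601

/-- A Noetherian ring has all its local rings integrally closed domains exactly when it satisfies the
regularity condition R₁ and the depth condition S₂. -/
theorem result (R : Type u) [CommRing R] [IsNoetherianRing R] :
    (∀ (p : Ideal R) [p.IsPrime], IsDomain (Localization.AtPrime p) ∧
      IsIntegrallyClosed (Localization.AtPrime p)) ↔ (LocCoh.HasRk 1 R ∧ LocCoh.HasSk 2 R R) := by
  exact CAlgH3.normal_localization_iff

end Groth.Agent.S0601
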