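import Groth.Statements.S0608
import Mathlib
import Groth.Agent.QReg6.Regular

set_option linter.all false

set_option autoImplicit false
universe u
open RRAlg

open MvPolynomial

namespace Groth.Agent.S0608

open Groth.Agent.QReg6 in
theorem mem_rel_of_eval_eq_zero {R : Type u} [CommRing R] : ∀ {c : ℕ} (f : Fin c → R), IsRevRegular f →
    ∀ (n : ℕ) (P : MvPolynomial (Fin c) R), P.IsHomogeneous n → eval f P = 0 →
      P ∈ Ideal.span {q : MvPolynomial (Fin c) R | ∃ i j : Fin c, q = C (f i) * X j - C (f j) * X i} := by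
  intro c
  induction c with
  | zero =>
    intro f _ n P _ h0
    have hP : P = C (P.coeff 0) := MvPolynomial.ext _ _ fun e => by
      obtain rfl : e = 0 := Subsingleton.elim _ _
      simp
    rw [hP, eval_C] at h0
    rw [hP, h0, map_zero]; exact Submodule.zero_mem _
  | succ c ihc =>
    intro f hf
    have hg := isQuasiRegular_of_eval_eq_zero (eval_eq_zero_coeff_mem (Fin.tail f) hf.2)
    set K := Ideal.span (Set.range (Fin.tail f))
    set L := Ideal.span {q : MvPolynomial (Fin (c + 1)) R | ∃ i j, q = C (f i) * X j - C (f j) * X i}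
    intro n
    induction n with
    | zero =>
      intro P hP h0
      rw [totalDegree_eq_zero_iff_eq_C.mp (Nat.le_zero.mp hP.totalDegree_le), eval_C] at h0
      rw [totalDegree_eq_zero_iff_eq_C.mp (Nat.le_zero.mp hP.totalDegree_le), h0, map_zero]
      exact Submodule.zero_mem _
    | succ n ihn =>
      intro P hP h0
      obtain ⟨P0, P1, hP0, hdec⟩ := eval_decomp f P
      have hP0h : P0.IsHomogeneous (n + 1) := by
        rw [hP0]; exact hP.finSuccEquiv_coeff_isHomogeneous 0 (n + 1) (by simp)
      have hP1h : P1.IsHomogeneous n := by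
        intro e he
        have hmul : (X 0 * P1).IsHomogeneous (n + 1) := by
          have : X 0 * P1 = P - rename Fin.succ P0 := by rw [hdec]; ring
          rw [this]
          exact hP.sub hP0h.rename_isHomogeneous
        have := @hmul (Finsupp.single 0 1 + e) (by rwa [coeff_X_mul])
        simp [Finsupp.weight_apply, Finsupp.sum_add_index'] at this ⊢
        omega
      have h0' : eval (Fin.tail f) P0 + f 0 * eval f P1 = 0 := by
        rw [← h0, hdec, map_add, map_mul, eval_X, eval_rename]
        rfl
      have hP1K : eval f P1 ∈ K ^ (n + 1) := by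
        refine mem_pow_of_mul_mem_pow hg (f 0) hf.1 (n + 1) _ ?_
        rw [mul_comm, eq_neg_of_add_eq_zero_right h0']
        exact (K ^ (n + 1)).neg_mem (eval_mem_pow _ hP0h)
      obtain ⟨H, hH, hHe⟩ : ∃ H : Fin c → MvPolynomial (Fin c) R, (∀ j, (H j).IsHomogeneous n) ∧
          ∑ j, Fin.tail f j * eval (Fin.tail f) (H j) = eval f P1 := by
        revert hP1K
        generalize eval f P1 = x
        intro hx
        rw [pow_succ] at hx
        refine Submodule.mul_induction_on hx (fun a ha b hb => ?_) (fun a b ha hb => ?_)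
        · obtain ⟨Q, hQ, rfl⟩ := exists_homogeneous_eval (Fin.tail f) ha
          obtain ⟨b', rfl⟩ := Ideal.mem_span_range_iff_exists_fun.mp hb
          exact ⟨fun j => C (b' j) * Q, fun j => hQ.C_mul _, by
            rw [Finset.mul_sum]; exact Finset.sum_congr rfl fun j _ => by rw [map_mul, eval_C]; ring⟩
        · obtain ⟨A, hA, rfl⟩ := ha
          obtain ⟨B, hB, rfl⟩ := hb
          exact ⟨A + B, fun j => (hA j).add (hB j), by simp [mul_add, Finset.sum_add_distrib]⟩
      have hT : P0 + C (f 0) * ∑ j, X j * H j ∈ Ideal.span {q : MvPolynomial (Fin c) R | ∃ i j, q = C (Fin.tail f i) * X j - C (Fin.tail f j) * X i} := by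
        refine ihc (Fin.tail f) hf.2 (n + 1) _ (hP0h.add ((IsHomogeneous.sum _ _ _ fun j _ => ?_).C_mul _)) ?_
        · rw [add_comm n 1]; exact (isHomogeneous_X R j).mul (hH j)
        · simp only [map_add, map_mul, eval_C, map_sum, eval_X, hHe]
          exact h0'
      have hT' : rename Fin.succ (P0 + C (f 0) * ∑ j, X j * H j) ∈ L := by
        have := Ideal.mem_map_of_mem (rename Fin.succ : MvPolynomial (Fin c) R →ₐ[R] _).toRingHom hT
        rw [Ideal.map_span] at this
        refine Ideal.span_mono ?_ this
        rintro _ ⟨q, ⟨i, j, rfl⟩, rfl⟩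
        exact ⟨i.succ, j.succ, by simp [Fin.tail]⟩
      have hP1' : P1 - ∑ j, C (f j.succ) * rename Fin.succ (H j) ∈ L := by
        refine ihn _ (hP1h.sub (IsHomogeneous.sum _ _ _ fun j _ => (hH j).rename_isHomogeneous.C_mul _)) ?_
        simp only [map_sub, map_sum, map_mul, eval_C, eval_rename]
        rw [sub_eq_zero, ← hHe]; rfl
      have hkey : P = rename Fin.succ (P0 + C (f 0) * ∑ j, X j * H j) + X 0 * (P1 - ∑ j, C (f j.succ) * rename Fin.succ (H j)) +
          ∑ j, (C (f j.succ) * X 0 - C (f 0) * X j.succ) * rename Fin.succ (H j) := by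
        simp only [map_add, map_mul, map_sum, rename_C, rename_X, Finset.mul_sum, mul_sub, sub_mul, Finset.sum_sub_distrib]
        simp only [← mul_assoc, mul_comm (X (0 : Fin (c+1))) (C _)]
        rw [hdec]; ring
      rw [hkey]
      exact add_mem (add_mem hT' (Ideal.mul_mem_left _ _ hP1'))
        (Submodule.sum_mem _ fun j _ => Ideal.mul_mem_right _ _ (Ideal.subset_span ⟨j.succ, 0, rfl⟩))

/-- Homogeneous forms vanishing at a weakly regular sequence are combinations of the linear relations. -/
theorem mem_rel_of_isWeaklyRegular {R : Type u} [CommRing R] {c : ℕ} (f : Fin c → R)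
    (hf : RingTheory.Sequence.IsWeaklyRegular R (List.ofFn f)) (n : ℕ) (P : MvPolynomial (Fin c) R)
    (hP : P.IsHomogeneous n) (h0 : eval f P = 0) :
    P ∈ Ideal.span {q : MvPolynomial (Fin c) R | ∃ i j : Fin c, q = C (f i) * X j - C (f j) * X i} := by
  rw [RingTheory.Sequence.isWeaklyRegular_iff_Fin] at hf
  have hrev : Groth.Agent.QReg6.IsRevRegular (f ∘ Fin.rev) := by
    refine Groth.Agent.QReg6.isRevRegular_of _ fun k a ha => ?_
    have hk := hf ⟨(Fin.rev k : ℕ), by rw [List.length_ofFn]; exact (Fin.rev k).2⟩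
    have e1 : (Ideal.ofList ((List.ofFn f).take (Fin.rev k : ℕ)) : Ideal R) = Ideal.span ((f ∘ Fin.rev) '' Set.Ioi k) := by
      rw [Ideal.ofList]
      congr 1
      ext x
      constructor
      · intro hx
        obtain ⟨i, hi, rfl⟩ := List.mem_take_iff_getElem.mp hx
        rw [List.length_ofFn] at hi
        exact ⟨Fin.rev ⟨i, by omega⟩, Fin.lt_rev_iff.1 (Fin.lt_def.mpr (lt_min_iff.mp hi).1),
          by simp⟩
      · rintro ⟨i, hi, rfl⟩
        exact List.mem_take_iff_getElem.mpr ⟨(Fin.rev i : ℕ),
          by rw [List.length_ofFn]; exact lt_min (Fin.rev_lt_rev.2 hi) (Fin.rev i).2, by rw [List.getElem_ofFn]; rfl⟩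
    simp only [List.getElem_ofFn, Fin.getElem_fin, e1, smul_eq_mul, Ideal.mul_top,
      isSMulRegular_quotient_iff_mem_of_smul_mem] at hk
    exact hk a (by rw [mul_comm]; exact ha)
  have h := mem_rel_of_eval_eq_zero (f ∘ Fin.rev) hrev n (rename Fin.rev P) hP.rename_isHomogeneous (by
    rw [eval_rename, show (f ∘ Fin.rev) ∘ Fin.rev = f from funext fun i => by simp]
    exact h0)
  have h' := Ideal.mem_map_of_mem (rename Fin.rev : MvPolynomial (Fin c) R →ₐ[R] MvPolynomial (Fin c) R).toRingHom h
  rw [Ideal.map_span] at h'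
  have e : (rename Fin.rev : MvPolynomial (Fin c) R →ₐ[R] MvPolynomial (Fin c) R).toRingHom (rename Fin.rev P) = P := by
    show rename Fin.rev (rename Fin.rev P) = P
    rw [rename_rename, show (Fin.rev ∘ Fin.rev : Fin c → Fin c) = id from funext Fin.rev_rev, rename_id_apply]
  rw [e] at h'
  refine Ideal.span_mono ?_ h'
  rintro _ ⟨q, ⟨i, j, rfl⟩, rfl⟩
  exact ⟨Fin.rev i, Fin.rev j, by simp⟩

theorem aeval_homogeneous_mul {A B : Type*} [CommRing A] [CommRing B] [Algebra A B] {σ : Type*}
    (x : σ → B) (t : B) {Q : MvPolynomial σ A} {n : ℕ} (hQ : Q.IsHomogeneous n) :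
    aeval (fun i => x i * t) Q = aeval x Q * t ^ n := by
  conv_lhs => rw [Q.as_sum]
  conv_rhs => rw [Q.as_sum]
  simp only [map_sum, Finset.sum_mul]
  refine Finset.sum_congr rfl fun d hd => ?_
  have hdeg : d.sum (fun _ k => k) = n := by
    rw [← hQ (mem_support_iff.mp hd)]; simp [Finsupp.weight_apply]
  rw [aeval_monomial, aeval_monomial, mul_assoc]
  congr 1
  simp only [Finsupp.prod, mul_pow, Finset.prod_mul_distrib, Finset.prod_pow_eq_pow_sum, ← hdeg, Finsupp.sum]

/-- Let a_1, …, a_n be a weakly regular sequence in a commutative ring A (each a_i is a non-zero-divisor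
modulo (a_1, …, a_(i−1)); the a_i are allowed to generate the unit ideal). Then the kernel of the
A-algebra map A[X_1, …, X_n] → A[T] sending X_i to a_i·T, whose image is the Rees algebra of the
ideal (a_1, …, a_n), is the ideal generated by the elements a_i X_j − a_j X_i. (The published
statement assumes a regular sequence; only weak regularity is assumed here.) -/
theorem result {A : Type u} [CommRing A] {n : ℕ} (a : Fin n → A)
    (ha : RingTheory.Sequence.IsWeaklyRegular A (List.ofFn a)) :
    RingHom.ker (MvPolynomial.aeval (R := A)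
      (fun i : Fin n => Polynomial.C (a i) * (Polynomial.X : Polynomial A))) =
      Ideal.span {q : MvPolynomial (Fin n) A | ∃ i j : Fin n,
        q = MvPolynomial.C (a i) * MvPolynomial.X j - MvPolynomial.C (a j) * MvPolynomial.X i} := by
  refine le_antisymm (fun P hP => ?_) (Ideal.span_le.2 ?_)
  · rw [← sum_homogeneousComponent P]
    refine Submodule.sum_mem _ fun m hm => mem_rel_of_isWeaklyRegular a ha m _ (homogeneousComponent_isHomogeneous m P) ?_
    have key : ∀ k, aeval (fun i : Fin n => Polynomial.C (a i) * (Polynomial.X : Polynomial A)) (homogeneousComponent k P) =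
        Polynomial.C (eval a (homogeneousComponent k P)) * Polynomial.X ^ k := fun k => by
      rw [aeval_homogeneous_mul _ _ (homogeneousComponent_isHomogeneous k P)]
      congr 1
      rw [← Polynomial.algebraMap_eq]
      exact (aeval_algebraMap_apply _ _ _).trans (by rw [aeval_eq_eval])
    rw [RingHom.mem_ker, ← sum_homogeneousComponent P, map_sum, Finset.sum_congr rfl fun k _ => key k] at hP
    have := congrArg (fun p => Polynomial.coeff p m) hP
    simpa [Polynomial.finsetSum_coeff, Polynomial.coeff_C_mul_X_pow, Finset.sum_ite_eq, Finset.mem_range.1 hm] using this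
  · rintro _ ⟨i, j, rfl⟩
    rw [SetLike.mem_coe, RingHom.mem_ker]
    simp only [map_sub, map_mul, aeval_C, aeval_X, Polynomial.algebraMap_eq]
    ring

end Groth.Agent.S0608
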