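import Groth.Statements.S0610
import Groth.Agent.Zeta24.Count
import Groth.Agent.Zeta24.Genus

set_option autoImplicit false
universe u
open AlgebraicGeometry CategoryTheory
open Zeta

namespace Groth.Agent.S0610

open Groth.Agent

theorem genus_eq {k : Type u} [Field k] [Finite k] {C : Scheme.{u}} [C.Over (Spec (CommRingCat.of k))]
    [IsIntegral C] [IsProper (C ↘ Spec (CommRingCat.of k))] [Smooth (C ↘ Spec (CommRingCat.of k))]
    (hdim : topologicalKrullDim C = 1) [Algebra k C.functionField]
    (hc : algebraMap k C.functionField = Curv2.stalkMap k C (genericPoint C))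
    (hK : FunFld.IsFunctionField k C.functionField) {g : ℕ}
    (hg : Nat.card (Coh.HH C (Coh.structureModule C) 1) = Nat.card k ^ g) :
    FunFld.genus k C.functionField = g := by
  haveI : Module.Finite k (Coh.HH C (Coh.structureModule C) 1) :=
    CurveRR24.finite_HH_of_isCoh k (CurveRR24.isCoh_of_isInvertible k AmpleLib.isInvertible_structureModule) 1
  rw [Module.natCard_eq_pow_finrank (K := k), Zeta24.finrank_h1 hdim hc hK] at hg
  exact Nat.pow_right_injective Finite.one_lt_card hg

/-- Weil conjectures for curves, in elementary form (rationality of the zeta function with numerator of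
degree 2g, the functional equation and the Riemann hypothesis, packaged as a point-count formula):
let k be a finite field with q elements and C a smooth, proper, geometrically irreducible curve over
k of genus g, the genus being pinned down by #H¹(C, O_C) = q^g (equivalent to dim_k H¹(C, O_C) = g).
Then there are complex numbers α_1, …, α_{2g}, each an algebraic integer with |α_i|² = q, and a
permutation σ of the indices with α_{σ(i)} · α_i = q for all i, such that for every finite extension
k' of k the number of k'-points of C equals q^{[k':k]} + 1 − Σ_i α_i^{[k':k]}. -/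
theorem result {k : Type u} [Field k] [Finite k] {C : Scheme.{u}}
    (f : C ⟶ Spec (CommRingCat.of k)) (hC : Curve.IsSmoothProperCurve k C f)
    [GeometricallyIrreducible f] (g : ℕ)
    (hg : Nat.card (Coh.HH C (Coh.structureModule C) 1) = Nat.card k ^ g) :
    ∃ α : Fin (2 * g) → ℂ, (∀ i, IsIntegral ℤ (α i)) ∧ (∀ i, ‖α i‖ ^ 2 = Nat.card k) ∧
      (∃ σ : Equiv.Perm (Fin (2 * g)), ∀ i, α (σ i) * α i = Nat.card k) ∧
      ∀ (k' : Type u) [Field k'] [Algebra k k'] [Finite k'],
        (SgaExt.pointCount f k' : ℂ) =
          (Nat.card k : ℂ) ^ Module.finrank k k' + 1 - ∑ i, α i ^ Module.finrank k k' := by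
  classical
  obtain ⟨hp, hs, hi, hdim⟩ := hC
  letI : C.Over (Spec (CommRingCat.of k)) := ⟨f⟩
  haveI : IsProper (C ↘ Spec (CommRingCat.of k)) := hp
  haveI : Smooth (C ↘ Spec (CommRingCat.of k)) := hs
  haveI : GeometricallyIrreducible (C ↘ Spec (CommRingCat.of k)) := ‹GeometricallyIrreducible f›
  letI : Algebra k C.functionField := (Curv2.stalkMap k C (genericPoint C)).toAlgebra
  have hK := Zeta24.isFunctionField (k := k) hdim rfl
  obtain rfl := genus_eq hdim rfl hK hg
  obtain ⟨α, hint, hnorm, hpair, hN⟩ := Zeta24.exists_alpha hdim rfl hK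
  refine ⟨α, hint, hnorm, ⟨Fin.revPerm, hpair⟩, fun k' _ _ _ => ?_⟩
  haveI : Module.Finite k k' := Module.Finite.of_finite
  rw [ZetaLib.pointCount_eq f k']
  exact hN _ Module.finrank_pos.ne'

end Groth.Agent.S0610
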