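import Groth.Statements.S12482
import Mathlib
import Groth.Agent.QReg6.Regular
import Groth.Agent.EGA41Lib.QuasiRegular
import Groth.Agent.CAlgH3.Factorial
import Groth.Agent.DimLib.Algebra

set_option linter.all false

set_option autoImplicit false
universe u
open Dual

open scoped TensorProduct

namespace Groth.Agent.S12482

theorem isQuasiRegular_self {R : Type u} [CommRing R] {c : ℕ} {f : Fin c → R}
    (hf : RingTheory.Sequence.IsWeaklyRegular R (List.ofFn f)) : CAlgX.IsQuasiRegular f := by
  refine Groth.Agent.QReg6.isQuasiRegular_of_regular fun k a ha => ?_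
  rw [RingTheory.Sequence.isWeaklyRegular_iff_Fin] at hf
  have hk := hf ⟨k, by simp⟩
  have e1 : (Ideal.ofList ((List.ofFn f).take k) : Ideal R) = Ideal.span (f '' Set.Iio k) := by
    rw [Ideal.ofList]
    congr 1
    ext x
    constructor
    · intro hx
      obtain ⟨i, hi, rfl⟩ := List.mem_take_iff_getElem.mp hx
      rw [List.length_ofFn] at hi
      exact ⟨⟨i, by omega⟩, Fin.lt_def.mpr (lt_min_iff.mp hi).1, (List.getElem_ofFn _).symm⟩
    · rintro ⟨i, hi, rfl⟩
      exact List.mem_take_iff_getElem.mpr ⟨i, by rw [List.length_ofFn]; exact lt_min hi i.2,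
        List.getElem_ofFn _⟩
  simp only [List.getElem_ofFn, Fin.getElem_fin, e1, smul_eq_mul, Ideal.mul_top,
    isSMulRegular_quotient_iff_mem_of_smul_mem] at hk
  exact hk a (by rw [mul_comm]; exact ha)

/-- Let `A` be a commutative ring, `x_1, …, x_p` a sequence of elements of `A` such that each `x_i` is a
non-zero-divisor on `A/(x_1, …, x_{i-1})`, and `J` the ideal generated by the `x_i`. Then `J/J²` is
a free `(A/J)`-module with basis the classes of the `x_i`: there is a basis of `J/J²` over `A/J`,
indexed by `1, …, p`, whose `i`-th vector is the class of `x_i`. (The other assertions of the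
published statement, on the Koszul complex and on Ext and Tor against `A/J`, are stated separately.) -/
theorem result (A : Type u) [CommRing A] (p : ℕ) (x : Fin p → A)
    (hreg : RingTheory.Sequence.IsWeaklyRegular A (List.ofFn x)) :
    ∃ b : Module.Basis (Fin p) (A ⧸ Ideal.span (Set.range x)) (Ideal.span (Set.range x)).Cotangent,
      ∀ i, b i = (Ideal.span (Set.range x)).toCotangent ⟨x i, Ideal.subset_span (Set.mem_range_self i)⟩ := by
  classical
  set J := Ideal.span (Set.range x) with hJ
  let v : Fin p → J.Cotangent := fun i => J.toCotangent ⟨x i, Ideal.subset_span (Set.mem_range_self i)⟩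
  have hsum : ∀ a : Fin p → A, ∑ i, (Ideal.Quotient.mk J (a i)) • v i =
      J.toCotangent ⟨∑ i, a i * x i, Submodule.sum_mem _ fun i _ => Ideal.mul_mem_left _ _ (Ideal.subset_span (Set.mem_range_self i))⟩ := by
    intro a
    rw [show (⟨∑ i, a i * x i, _⟩ : J) = ∑ i, a i • (⟨x i, Ideal.subset_span (Set.mem_range_self i)⟩ : J) from
      Subtype.ext (by simp), map_sum]
    refine Finset.sum_congr rfl fun i _ => ?_
    rw [map_smul]
    exact (algebraMap_smul (A ⧸ J) (a i) (v i))
  have hli : LinearIndependent (A ⧸ J) v := by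
    rw [Fintype.linearIndependent_iff]
    intro c hc i
    choose a ha using fun j => Ideal.Quotient.mk_surjective (I := J) (c j)
    simp only [← ha] at hc ⊢
    rw [hsum a, Ideal.toCotangent_eq_zero] at hc
    exact Ideal.Quotient.eq_zero_iff_mem.2 (Groth.Agent.QReg6.mem_of_sum_mem_sq (isQuasiRegular_self hreg) a hc i)
  have hsp : ⊤ ≤ Submodule.span (A ⧸ J) (Set.range v) := by
    intro z _
    obtain ⟨⟨y, hy⟩, rfl⟩ := J.toCotangent_surjective z
    obtain ⟨a, ha⟩ := Ideal.mem_span_range_iff_exists_fun.1 hy
    rw [show (⟨y, hy⟩ : J) = ⟨∑ i, a i * x i, by rw [ha]; exact hy⟩ from Subtype.ext ha.symm, ← hsum a]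
    exact Submodule.sum_mem _ fun i _ => Submodule.smul_mem _ _ (Submodule.subset_span ⟨i, rfl⟩)
  exact ⟨Module.Basis.mk hli hsp, fun i => Module.Basis.mk_apply hli hsp i⟩

end Groth.Agent.S12482
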