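import Groth.Statements.S0611
import Mathlib
import Groth.Agent.S12482
import Groth.Agent.QReg6.Regular
import Groth.Agent.EGA41Lib.QuasiRegular
import Groth.Agent.CAlgH3.Factorial
import Groth.Agent.DimLib.Algebra

set_option linter.all false

set_option autoImplicit false
universe u
open RRAlg

open scoped TensorProduct

namespace Groth.Agent.S0611

/-- In a Noetherian local ring, any minimal generating set of an ideal generated by a regular sequence
is again a regular sequence: if a₁, …, aₙ is a regular sequence and b₁, …, bₙ are n elements
generating the same ideal, then b₁, …, bₙ is a regular sequence. (A regular sequence of length n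
generating an ideal I is a minimal generating set of I, so "minimal" amounts to "of length n".) -/
theorem result {A : Type u} [CommRing A] [IsLocalRing A] [IsNoetherianRing A]
    {n : ℕ} (a b : Fin n → A) (ha : RingTheory.Sequence.IsRegular A (List.ofFn a))
    (hab : Ideal.span (Set.range a) = Ideal.span (Set.range b)) :
    RingTheory.Sequence.IsRegular A (List.ofFn b) := by
  have hl : ∀ c : Fin n → A, Ideal.ofList (List.ofFn c) = Ideal.span (Set.range c) := fun c => by
    rw [Ideal.ofList]; congr 1; ext; simp [List.mem_ofFn]
  have hne : Ideal.span (Set.range b) ≠ ⊤ := fun h => ha.top_ne_smul (by rw [hl, hab, h, Submodule.top_smul])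
  refine ⟨Groth.Agent.EGA41Lib.isWeaklyRegular_of_isQuasiRegular n A b (fun i m hm => ?_)
    (Groth.Agent.QReg6.isQuasiRegular_of_span_eq (Groth.Agent.S12482.isQuasiRegular_self ha.toIsWeaklyRegular) hab.symm), fun h => hne ?_⟩
  · rw [IsLocalRing.eq_maximalIdeal hm]
    exact IsLocalRing.le_maximalIdeal hne (Ideal.subset_span ⟨i, rfl⟩)
  · rw [hl, smul_eq_mul, Ideal.mul_top] at h
    exact h.symm

end Groth.Agent.S0611
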