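import Groth.Statements.S0615
import Mathlib
import Groth.Agent.S0608
import Groth.Agent.QReg6.Regular

set_option linter.all false

set_option autoImplicit false
universe u
open RRAlg

open MvPolynomial

namespace Groth.Agent.S0615

/-- Let A be a commutative ring and a_0, a_1, …, a_n a weakly regular sequence in A (for each i, a_i is
a non-zero-divisor on A/(a_0, …, a_{i−1}); the sequence is indexed here by Fin (n+1)). Then the
kernel of the A-algebra homomorphism A[T_1, …, T_n] → A[1/a_0] sending T_i to a_i/a_0 is the ideal
generated by the elements a_0 T_i − a_i for 1 ≤ i ≤ n (a presentation of the affine blow-up algebra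
A[a_1/a_0, …, a_n/a_0]). -/
theorem result {A : Type u} [CommRing A] {n : ℕ}
    (a : Fin (n + 1) → A) (ha : RingTheory.Sequence.IsWeaklyRegular A (List.ofFn a)) :
    RingHom.ker (MvPolynomial.aeval (R := A) (S₁ := Localization.Away (a 0))
      (fun i : Fin n => IsLocalization.mk' (Localization.Away (a 0)) (a i.succ)
        (⟨a 0, Submonoid.mem_powers (a 0)⟩ : Submonoid.powers (a 0)))) =
      Ideal.span (Set.range fun i : Fin n =>
        MvPolynomial.C (a 0) * MvPolynomial.X i - MvPolynomial.C (a i.succ)) := by
  classical
  set J := Ideal.span (Set.range fun i : Fin n => C (a 0) * X i - C (a i.succ))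
  let u : Fin n → Localization.Away (a 0) := fun i => IsLocalization.mk' _ (a i.succ)
        (⟨a 0, Submonoid.mem_powers (a 0)⟩ : Submonoid.powers (a 0))
  let t : Localization.Away (a 0) := algebraMap A _ (a 0)
  have hut : ∀ i, u i * t = algebraMap A _ (a i.succ) := fun i => IsLocalization.mk'_spec _ _ _
  refine le_antisymm (fun P hP => ?_) (Ideal.span_le.2 ?_)
  · rw [RingHom.mem_ker] at hP
    set D := P.totalDegree
    let e : A := ∑ i ∈ Finset.range (D + 1), a 0 ^ (D - i) * eval (fun j => a j.succ) (homogeneousComponent i P)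
    have he : algebraMap A (Localization.Away (a 0)) e = 0 := by
      have : algebraMap A (Localization.Away (a 0)) e = t ^ D * aeval u P := by
        conv_rhs => rw [← sum_homogeneousComponent P, map_sum, Finset.mul_sum]
        rw [map_sum]
        refine Finset.sum_congr rfl fun i hi => ?_
        have hi' : i ≤ D := Nat.lt_succ_iff.1 (Finset.mem_range.1 hi)
        have h1 := Groth.Agent.S0608.aeval_homogeneous_mul u t (homogeneousComponent_isHomogeneous i P)
        simp only [hut] at h1
        rw [map_mul, map_pow, ← aeval_eq_eval, ← aeval_algebraMap_apply (B := Localization.Away (a 0))]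
        erw [h1]
        rw [mul_comm (aeval u _), ← mul_assoc, ← pow_add, Nat.sub_add_cancel hi']
      rw [this]
      show t ^ D * aeval u P = 0
      rw [hP, mul_zero]
    obtain ⟨⟨_, M, rfl⟩, hM⟩ := (IsLocalization.map_eq_zero_iff (Submonoid.powers (a 0)) (Localization.Away (a 0)) e).1 he
    let Q : MvPolynomial (Fin (n + 1)) A := ∑ i ∈ Finset.range (D + 1), X 0 ^ (M + (D - i)) * rename Fin.succ (homogeneousComponent i P)
    have hQh : Q.IsHomogeneous (M + D) := IsHomogeneous.sum _ _ _ fun i hi => by
      have hi' : i ≤ D := Nat.lt_succ_iff.1 (Finset.mem_range.1 hi)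
      rw [show M + D = 1 * (M + (D - i)) + i by omega]
      exact ((isHomogeneous_X A 0).pow _).mul (homogeneousComponent_isHomogeneous i P).rename_isHomogeneous
    have hQe : eval a Q = 0 := by
      rw [← hM]
      simp only [Q, e, map_sum, map_mul, map_pow, eval_X, eval_rename, Finset.mul_sum, pow_add, mul_assoc]
      rfl
    have hQ := Groth.Agent.S0608.mem_rel_of_isWeaklyRegular a ha (M + D) Q hQh hQe
    let φ : MvPolynomial (Fin (n + 1)) A →ₐ[A] MvPolynomial (Fin n) A := aeval (Fin.cons 1 X)
    have hφQ : φ Q = P := by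
      simp only [Q, φ, map_sum, map_mul, map_pow, aeval_X, Fin.cons_zero, one_pow, one_mul, aeval_rename]
      have : ∀ p : MvPolynomial (Fin n) A, aeval ((Fin.cons 1 X : Fin (n+1) → MvPolynomial (Fin n) A) ∘ Fin.succ) p = p := fun p => by
        rw [show ((Fin.cons 1 X : Fin (n+1) → MvPolynomial (Fin n) A) ∘ Fin.succ) = X from funext fun i => by simp, aeval_X_left_apply]
      simp only [this]
      exact sum_homogeneousComponent P
    have hd : ∀ i : Fin (n + 1), C (a 0) * (Fin.cons 1 X : Fin (n+1) → MvPolynomial (Fin n) A) i - C (a i) ∈ J := by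
      intro i
      induction i using Fin.cases with
      | zero => simp
      | succ i => rw [Fin.cons_succ]; exact Ideal.subset_span ⟨i, rfl⟩
    have hle : Ideal.span {q : MvPolynomial (Fin (n + 1)) A | ∃ i j, q = C (a i) * X j - C (a j) * X i} ≤ J.comap φ.toRingHom := by
      refine Ideal.span_le.2 ?_
      rintro _ ⟨i, j, rfl⟩
      show φ _ ∈ J
      simp only [φ, map_sub, map_mul, aeval_C, aeval_X, MvPolynomial.algebraMap_eq]
      rw [show ∀ (x y p q : MvPolynomial (Fin n) A), p * y - q * x = (C (a 0) * y - q) * x - (C (a 0) * x - p) * y from fun x y p q => by ring]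
      exact sub_mem (Ideal.mul_mem_right _ _ (hd j)) (Ideal.mul_mem_right _ _ (hd i))
    rw [← hφQ]
    exact hle hQ
  · rintro _ ⟨i, rfl⟩
    rw [SetLike.mem_coe, RingHom.mem_ker]
    simp only [map_sub, map_mul, aeval_C, aeval_X]
    rw [sub_eq_zero, mul_comm]
    exact hut i

end Groth.Agent.S0615
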