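import Groth.Statements.S0619
import Groth.Agent.Zeta24.Count
import Groth.Agent.Zeta24.Genus

set_option autoImplicit false
universe u
open AlgebraicGeometry CategoryTheory
open Zeta

namespace Groth.Agent.S0619

open Groth.Agent

theorem genus_eq {k : Type u} [Field k] [Finite k] {C : Scheme.{u}} [C.Over (Spec (CommRingCat.of k))]
    [IsIntegral C] [IsProper (C ↘ Spec (CommRingCat.of k))] [Smooth (C ↘ Spec (CommRingCat.of k))]
    (hdim : topologicalKrullDim C = 1) [Algebra k C.functionField]
    (hc : algebraMap k C.functionField = Curv2.stalkMap k C (genericPoint C))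
    (hK : FunFld.IsFunctionField k C.functionField) {g : ℕ}
    (hg : Nat.card (Coh.HH C (Coh.structureModule C) 1) = Nat.card k ^ g) :
    FunFld.genus k C.functionField = g := by
  haveI : Module.Finite k (Coh.HH C (Coh.structureModule C) 1) :=
    CurveRR24.finite_HH_of_isCoh k (CurveRR24.isCoh_of_isInvertible k AmpleLib.isInvertible_structureModule) 1
  rw [Module.natCard_eq_pow_finrank (K := k), Zeta24.finrank_h1 hdim hc hK] at hg
  exact Nat.pow_right_injective Finite.one_lt_card hg

/-- For a geometrically connected smooth proper curve of genus g over a finite field k with q elements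
and a finite extension k' of degree n, |#C(k') − (qⁿ + 1)| ≤ 2g·q^(n/2). -/
theorem result {k : Type u} [Field k] [Finite k] {C : Scheme.{u}}
    (f : C ⟶ Spec (CommRingCat.of k)) (hC : Curve.IsSmoothProperCurve k C f)
    [GeometricallyIrreducible f] (g : ℕ)
    (hg : Nat.card (Coh.HH C (Coh.structureModule C) 1) = Nat.card k ^ g)
    (k' : Type u) [Field k'] [Algebra k k'] [Finite k'] :
    |(SgaExt.pointCount f k' : ℝ) - ((Nat.card k : ℝ) ^ Module.finrank k k' + 1)| ≤
      2 * g * (Nat.card k : ℝ) ^ ((Module.finrank k k' : ℝ) / 2) := by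
  classical
  obtain ⟨hp, hs, hi, hdim⟩ := hC
  letI : C.Over (Spec (CommRingCat.of k)) := ⟨f⟩
  haveI : IsProper (C ↘ Spec (CommRingCat.of k)) := hp
  haveI : Smooth (C ↘ Spec (CommRingCat.of k)) := hs
  haveI : GeometricallyIrreducible (C ↘ Spec (CommRingCat.of k)) := ‹GeometricallyIrreducible f›
  letI : Algebra k C.functionField := (Curv2.stalkMap k C (genericPoint C)).toAlgebra
  have hK := Zeta24.isFunctionField (k := k) hdim rfl
  obtain rfl := genus_eq hdim rfl hK hg
  haveI : Module.Finite k k' := Module.Finite.of_finite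
  rw [ZetaLib.pointCount_eq f k']
  exact Zeta24.abs_nPts_sub_le hdim rfl hK Module.finrank_pos.ne'

end Groth.Agent.S0619
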