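import Groth.Statements.S0624
import Groth.Agent.EtSplit.Scheme

set_option autoImplicit false
open CategoryTheory CategoryTheory.Limits AlgebraicGeometry Opposite
universe u
open EtCore

namespace Groth.Agent.S0624

/-- Let X be an affine, integral and normal scheme with separably closed function field, Z -> X a closed
immersion and V -> Z etale with V affine. Then V splits, over Z, as the disjoint union of finitely
many open subschemes of Z. -/
theorem result {V Z X : Scheme.{u}} [IsAffine X] [IsIntegral X]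
    (hN : ∀ x : X, IsIntegrallyClosed (X.presheaf.stalk x)) [IsSepClosed X.functionField]
    (i : Z ⟶ X) [IsClosedImmersion i] (φ : V ⟶ Z) [AlgebraicGeometry.Etale φ] [IsAffine V] :
    ∃ (ι : Type u) (_ : Finite ι) (W : ι → Z.Opens) (e : (∐ fun k => (W k : Scheme.{u})) ≅ V),
      ∀ k, Sigma.ι (fun k => (W k : Scheme.{u})) k ≫ e.hom ≫ φ = (W k).ι := by
  classical
  obtain ⟨ι, hι, U, hU, hdisj, hcov, -⟩ := Groth.Agent.EtSplit.exists_split hN i φ
  haveI := hU
  let α : ∀ k, ((((U k).ι ≫ φ).opensRange : Z.Opens) : Scheme.{u}) ⟶ V := fun k =>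
    ((U k).ι ≫ φ).isoOpensRange.inv ≫ (U k).ι
  have hr : ∀ k, (α k).opensRange = U k := fun k => by
    rw [Scheme.Hom.opensRange_comp_of_isIso]
    exact (U k).opensRange_ι
  obtain ⟨hc⟩ := AlgebraicGeometry.nonempty_isColimit_cofanMk_of α
    (by simp only [hr]; exact hcov) (fun k l hkl => by
      show Disjoint (α k).opensRange (α l).opensRange
      rw [hr, hr]; exact hdisj hkl)
  refine ⟨ι, hι, fun k => ((U k).ι ≫ φ).opensRange, (coproductIsCoproduct _).coconePointUniqueUpToIso hc, fun k => ?_⟩
  have h1 : Sigma.ι (fun k => ((((U k).ι ≫ φ).opensRange : Z.Opens) : Scheme.{u})) k ≫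
      ((coproductIsCoproduct _).coconePointUniqueUpToIso hc).hom = α k :=
    IsColimit.comp_coconePointUniqueUpToIso_hom (coproductIsCoproduct _) hc ⟨k⟩
  rw [← Category.assoc, h1]
  show (((U k).ι ≫ φ).isoOpensRange.inv ≫ (U k).ι) ≫ φ = _
  rw [Category.assoc]
  exact Scheme.Hom.isoOpensRange_inv_comp _

end Groth.Agent.S0624
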