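import Groth.Statements.S0631
import Groth.Agent.Et18.IntegralPush
-- import your own Groth.Agent.* helpers here

set_option autoImplicit false
open CategoryTheory CategoryTheory.Limits AlgebraicGeometry Opposite
universe u
open EtCore

namespace Groth.Agent.S0631

/-- For a morphism f : X -> Y that is integral and universally injective, the direct image f_* on
abelian etale sheaves is full and faithful, an abelian sheaf on Y lies in its essential image
exactly when its support is contained in the image of f, and the counit f^{-1} f_* F -> F is an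
isomorphism for every F. -/
theorem result {X Y : Scheme.{u}} (f : X ⟶ Y)
    [IsIntegralHom f] [UniversallyInjective f] :
    (EtCoh.push f).Full ∧ (EtCoh.push f).Faithful ∧
    (∀ G : EtCoh.Ab Y, (EtCoh.push f).essImage G ↔ EtPBC.supp G ⊆ Set.range f.base) ∧
    ∀ F : EtCoh.Ab X, IsIso ((EtCoh.pullPushAdj f).counit.app F) := by
  have := Groth.Agent.Et18.isIso_counit_of_integral f
  have hff := (EtCoh.pullPushAdj f).fullyFaithfulROfIsIsoCounit
  refine ⟨hff.full, hff.faithful, fun G => ⟨?_, fun hG => ?_⟩, fun F => inferInstance⟩
  · rintro ⟨F, ⟨e⟩⟩ y ⟨Ω, hΩ, hs, ξ, hξ, hne⟩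
    by_contra hy
    refine hne (IsZero.of_iso ?_ ((EtCoh.stalk ξ).mapIso e.symm))
    refine Groth.Agent.Et18.isZero_stalk_push_of_disjoint f F ξ
      ⟨(Set.range f)ᶜ, (Groth.Agent.Et18.isClosed_range_of_integral f).isOpen_compl⟩ ?_
      disjoint_compl_left
    have : ξ default = y := by
      have h := Set.mem_range_self (f := fun t => ξ t) (default : Spec (CommRingCat.of Ω))
      rw [hξ] at h
      exact h
    rw [this]
    exact hy
  · refine Groth.Agent.Et18.essImage_push_of_supp_subset f G fun y hy => ?_
    by_contra hne
    refine hy (hG ⟨_, _, inferInstance, Groth.Agent.Et18.sepPoint Y y, ?_, hne⟩)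
    ext t
    constructor
    · rintro ⟨s, rfl⟩
      rw [Subsingleton.elim s default, Groth.Agent.Et18.sepPoint_default]
      rfl
    · rintro rfl
      exact ⟨default, Groth.Agent.Et18.sepPoint_default _ _⟩

end Groth.Agent.S0631
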