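import Groth.Statements.S0632
import Groth.Agent.Et18.StalkPush
-- import your own Groth.Agent.* helpers here

set_option autoImplicit false
open CategoryTheory CategoryTheory.Limits AlgebraicGeometry Opposite
universe u
open EtCore

namespace Groth.Agent.S0632

/-- Let X -> Y be a closed immersion and U_i -> X (i in ι) a jointly surjective family of etale
morphisms. Then one can find a jointly surjective family of etale Y-schemes V_j each of which either
has empty preimage over X or, after base change to X, maps into one of the U_i over X. -/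
theorem result {X Y : Scheme.{u}} (f : X ⟶ Y) [IsClosedImmersion f]
    {ι : Type u} (U : ι → X.Etale) (hU : EtCoh.Covers U) :
    ∃ (κ : Type u) (V : κ → Y.Etale), EtCoh.Covers V ∧
      ∀ j, IsEmpty ↥(pullback (V j).hom f) ∨
        ∃ (i : ι) (h : pullback (V j).hom f ⟶ (U i).left), h ≫ (U i).hom = pullback.snd (V j).hom f := by
  have : ∀ i, Etale (U i).hom := fun i => (U i).prop
  choose W j hj hw V p hp l hl using fun a : Σ i, (U i).left =>
    Groth.Agent.Et18.liftsEtale_of_isClosedImmersion f (U a.1).hom a.2
  haveI := hp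
  let O : Y.Opens := ⟨(Set.range f)ᶜ, f.isClosedEmbedding.isClosed_range.isOpen_compl⟩
  refine ⟨Option (Σ i, (U i).left), fun a => a.elim (Scheme.Etale.mk O.ι) fun a => Scheme.Etale.mk (p a),
    fun y => ?_, fun a => ?_⟩
  · by_cases hy : y ∈ Set.range f
    · obtain ⟨x, rfl⟩ := hy
      obtain ⟨i, u, rfl⟩ := hU x
      obtain ⟨w, hw⟩ := hw ⟨i, u⟩
      refine ⟨some ⟨i, u⟩, l ⟨i, u⟩ w, ?_⟩
      have e := congrArg (fun t => t w) (hl ⟨i, u⟩).w
      exact e.trans (congrArg (fun z => f ((U i).hom z)) hw)
    · exact ⟨none, ⟨y, hy⟩, rfl⟩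
  · cases a with
    | none =>
      refine Or.inl ⟨fun t => ?_⟩
      exact (pullback.fst O.ι f t).2
        ⟨pullback.snd O.ι f t, congrArg (fun k => k t) (pullback.condition (f := O.ι) (g := f)).symm⟩
    | some a =>
      exact Or.inr ⟨a.1, (hl a).isoPullback.inv ≫ j a,
        (Category.assoc _ _ _).trans ((hl a).isoPullback_inv_snd)⟩

end Groth.Agent.S0632
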