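import Groth.Statements.S0633
import Groth.Agent.Et18.StalkPush
-- import your own Groth.Agent.* helpers here

set_option autoImplicit false
open CategoryTheory CategoryTheory.Limits AlgebraicGeometry Opposite
universe u
open EtCore

namespace Groth.Agent.S0633

/-- Let X -> Y be a closed immersion and U -> X etale. Then there exist etale morphisms V_i -> Y and
X-morphisms V_i x_Y X -> U which are open immersions whose images cover U. -/
theorem result {X Y : Scheme.{u}} (f : X ⟶ Y) [IsClosedImmersion f]
    (U : X.Etale) :
    ∃ (κ : Type u) (V : κ → Y.Etale) (h : ∀ j, pullback (V j).hom f ⟶ U.left),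
      (∀ j, h j ≫ U.hom = pullback.snd (V j).hom f) ∧ (∀ j, IsOpenImmersion (h j)) ∧
      ∀ x : U.left, ∃ (j : κ) (y : ↥(pullback (V j).hom f)), (h j).base y = x := by
  have : Etale U.hom := U.prop
  choose W j hj hw V p hp l hl using fun x : U.left =>
    Groth.Agent.Et18.liftsEtale_of_isClosedImmersion f U.hom x
  haveI := hp
  haveI := hj
  refine ⟨U.left, fun x => Scheme.Etale.mk (p x), fun x => (hl x).isoPullback.inv ≫ j x, fun x => ?_,
    fun x => inferInstance, fun x => ?_⟩
  · exact (Category.assoc _ _ _).trans ((hl x).isoPullback_inv_snd)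
  · obtain ⟨w, hw⟩ := hw x
    refine ⟨x, (hl x).isoPullback.hom w, ?_⟩
    change ((hl x).isoPullback.hom ≫ (hl x).isoPullback.inv ≫ j x) w = x
    rw [Iso.hom_inv_id_assoc]
    exact hw

end Groth.Agent.S0633
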