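import Groth.Statements.S0634
import Groth.Agent.Et18.SectionAgree
-- import your own Groth.Agent.* helpers here

set_option autoImplicit false
open CategoryTheory CategoryTheory.Limits AlgebraicGeometry Opposite
universe u
open EtCore

namespace Groth.Agent.S0634

/-- For an abelian sheaf F on the small etale site of S and two global sections s, t there is an open W
of S such that a morphism f : T -> S has image inside W if and only if the pullbacks of s and t
along f (images under the adjunction unit, as sections of the pullback sheaf over T) coincide. -/
theorem result {S : Scheme.{u}} (F : EtCoh.Ab S) (s t : EtCoh.sect F (EtCoh.top S)) :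
    ∃ W : S.Opens, ∀ (T : Scheme.{u}) (f : T ⟶ S),
      Set.range f.base ⊆ (W : Set S) ↔
        ((EtCoh.pullPushAdj f).unit.app F).hom.app (op (EtCoh.top S)) s =
          ((EtCoh.pullPushAdj f).unit.app F).hom.app (op (EtCoh.top S)) t := by
  exact ⟨_, Groth.Agent.Et18.pull_eq_iff F s t⟩

end Groth.Agent.S0634
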