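import Groth.Statements.S0643
-- import your own Groth.Agent.* helpers here

set_option autoImplicit false
universe u
open EtCore

namespace Groth.Agent.S0643

open Polynomial in
/-- Let A be a ring, assumed nonzero here (the published statement does not say so; over the zero ring
no polynomial has positive degree in Lean's sense), and a, b elements generating the unit ideal such
that some positive power of a is congruent to 1 modulo b. Then there is a monic polynomial P of
positive degree over A such that in B = A[y]/(P) the element a - b y is a unit. -/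
theorem result (A : Type u) [CommRing A] [Nontrivial A] (a b : A) (hab : IsCoprime a b)
    (hroot : ∃ n : ℕ, 0 < n ∧ a ^ n - 1 ∈ Ideal.span ({b} : Set A)) :
    ∃ P : A[X], P.Monic ∧ 0 < P.natDegree ∧
      IsUnit (algebraMap A (AdjoinRoot P) a - algebraMap A (AdjoinRoot P) b * AdjoinRoot.root P) := by
  obtain ⟨n, hn, h⟩ := hroot
  obtain ⟨c, hc⟩ := Ideal.mem_span_singleton'.mp h
  obtain ⟨u, v, huv⟩ := hab
  have hdeg : (C c * (C u * X + C v) ^ (n - 1)).degree < (n : WithBot ℕ) := by
    refine lt_of_le_of_lt degree_le_natDegree ?_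
    refine WithBot.coe_lt_coe.mpr ?_
    calc (C c * (C u * X + C v) ^ (n - 1)).natDegree ≤ ((C u * X + C v) ^ (n - 1)).natDegree :=
          natDegree_C_mul_le _ _
      _ ≤ (n - 1) * 1 := natDegree_pow_le.trans
          (Nat.mul_le_mul_left _ (natDegree_linear_le))
      _ < n := by omega
  set P : A[X] := X ^ n - C c * (C u * X + C v) ^ (n - 1) with hP
  have hmon : P.Monic := (monic_X_pow n).sub_of_left (by rwa [degree_X_pow])
  have hnat : P.natDegree = n := natDegree_eq_of_degree_eq_some <| by
    rw [hP, degree_sub_eq_left_of_degree_lt (by rwa [degree_X_pow]), degree_X_pow]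
  refine ⟨P, hmon, hnat ▸ hn, ?_⟩
  set y := AdjoinRoot.root P
  set f := algebraMap A (AdjoinRoot P)
  have hy : y ^ n = f c * (f u * y + f v) ^ (n - 1) := by
    have := AdjoinRoot.eval₂_root P
    rw [hP, eval₂_sub, eval₂_mul, eval₂_pow, eval₂_pow, eval₂_add, eval₂_mul, eval₂_C, eval₂_C, eval₂_C, eval₂_X] at this
    simpa [sub_eq_zero, f, y, AdjoinRoot.algebraMap_eq, ← hP] using this
  set e := f a - f b * y with he
  -- everything vanishes modulo `e`, except `1`
  suffices Ideal.span {e} = ⊤ from Ideal.span_singleton_eq_top.mp this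
  rw [Ideal.eq_top_iff_one]
  rw [← Ideal.Quotient.eq_zero_iff_mem, map_one]
  set q := Ideal.Quotient.mk (Ideal.span {e})
  have hq : q e = 0 := Ideal.Quotient.eq_zero_iff_mem.mpr (Ideal.subset_span rfl)
  have h1 : q (f a) = q (f b) * q y := by
    exact sub_eq_zero.mp (by rw [← map_mul, ← map_sub]; exact hq)
  have h2 : q (f u) * q (f a) + q (f v) * q (f b) = 1 := by
    simp only [← map_mul, ← map_add, huv, map_one]
  have h3 : q (f c) * q (f b) = q (f a) ^ n - 1 := by
    simp only [← map_mul, ← map_pow, hc, map_sub, map_one]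
  have h4 : q y ^ n = q (f c) * (q (f u) * q y + q (f v)) ^ (n - 1) := by
    simp only [← map_mul, ← map_pow, ← map_add, hy]
  have h5 : q (f b) * (q (f u) * q y + q (f v)) = 1 := by
    linear_combination h2 - q (f u) * h1
  have h6 : q (f b) ^ n * q y ^ n = q (f c) * q (f b) := by
    obtain ⟨m, rfl⟩ : ∃ m, n = m + 1 := ⟨n - 1, by omega⟩
    rw [h4, Nat.add_sub_cancel, pow_succ]
    have := congrArg (· ^ m) h5
    simp only [mul_pow, one_pow] at this
    linear_combination (q (f b) * q (f c)) * this
  rw [h3, ← mul_pow, ← h1] at h6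
  linear_combination h6

end Groth.Agent.S0643
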