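import Groth.Statements.S0644
import Groth.Agent.Et18.Subterminal
-- import your own Groth.Agent.* helpers here

set_option autoImplicit false
open CategoryTheory CategoryTheory.Limits AlgebraicGeometry Opposite
universe u
open EtCore

namespace Groth.Agent.S0644

/-- Let F be a sheaf of sets on the small etale site of S which is a subsheaf of the final sheaf, i.e.
every set of sections has at most one element. Then there is exactly one open W of S such that F is
isomorphic to the sheaf represented by W (viewed as a scheme etale over S). -/
theorem result (S : Scheme.{u}) (F : Sheaf S.smallEtaleTopology (Type u))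
    (hF : ∀ U : S.Etale, Subsingleton (F.obj.obj (op U))) :
    ∃! W : S.Opens, Nonempty (F.obj ≅ yoneda.obj (Scheme.Etale.mk W.ι)) := by
  have h := (isSheaf_iff_isSheaf_of_type _ _).mp F.property
  refine ⟨_, ⟨Groth.Agent.Et18.isoOfSubterminal h⟩, fun W => ?_⟩
  rintro ⟨e⟩
  let i := e.symm ≪≫ Groth.Agent.Et18.isoOfSubterminal h
  exact le_antisymm (Groth.Agent.Et18.le_of_hom (Yoneda.fullyFaithful.preimage i.hom))
    (Groth.Agent.Et18.le_of_hom (Yoneda.fullyFaithful.preimage i.inv))

end Groth.Agent.S0644
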