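import Groth.Statements.S0653
import Groth.Agent.Et18.FiniteExtZero
-- import your own Groth.Agent.* helpers here

set_option autoImplicit false
open CategoryTheory CategoryTheory.Limits AlgebraicGeometry Opposite
universe u
open EtCore

namespace Groth.Agent.S0653

/-- Consider a cartesian square U = X x_Y V with f : X -> Y finite, j : V -> Y an open immersion, j' : U
-> X and g : U -> V the projections. Then for every abelian sheaf F on the small etale site of U,
f_* j'_! F is isomorphic to j_! g_* F. (The source also asserts functoriality in F; only the
objectwise isomorphism is stated.) (Continuity of the composition functor of etale sites, which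
always holds, is carried as an instance hypothesis.) -/
theorem result {U X V Y : Scheme.{u}} (f : X ⟶ Y) [IsFinite f] (j : V ⟶ Y)
    [IsOpenImmersion j] [AlgebraicGeometry.Etale j] [EtShriek.JCont j] (j' : U ⟶ X) [IsOpenImmersion j']
    [AlgebraicGeometry.Etale j'] [EtShriek.JCont j'] (g : U ⟶ V) (h : IsPullback j' g f j) (F : EtCoh.Ab U) :
    Nonempty ((EtCoh.push f).obj ((EtShriek.extZero j').obj F) ≅ (EtShriek.extZero j).obj ((EtCoh.push g).obj F)) := by
  exact Groth.Agent.Et18.nonempty_push_extZero_iso f j j' g h F

end Groth.Agent.S0653
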