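import Groth.Statements.S0658
import Groth.Agent.AlgSpLib.EtaleAscend
import Groth.Agent.AlgSpLib.EtaleField

set_option autoImplicit false
set_option linter.all false
set_option backward.isDefEq.respectTransparency.types false
set_option backward.isDefEq.respectTransparency false
open CategoryTheory CategoryTheory.Limits AlgebraicGeometry Opposite
universe u
open EtCore

namespace Groth.Agent.S0658

/-- Let k be a field and φ : U → Spec k a morphism of schemes. Then φ is étale if and only if U is
isomorphic over k to a disjoint union ∐ Spec K_i with each K_i a finite separable field extension of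
k. -/
theorem result (k : Type u) [Field k] (U : Scheme.{u}) (φ : U ⟶ Spec (CommRingCat.of k)) :
    AlgebraicGeometry.Etale φ ↔
      ∃ (ι : Type u) (K : ι → Type u) (_ : ∀ i, Field (K i)) (_ : ∀ i, Algebra k (K i))
        (_ : ∀ i, FiniteDimensional k (K i)) (_ : ∀ i, Algebra.IsSeparable k (K i))
        (e : (∐ fun i => Spec (CommRingCat.of (K i))) ≅ U),
        ∀ i, Sigma.ι (fun i => Spec (CommRingCat.of (K i))) i ≫ e.hom ≫ φ =
          Spec.map (CommRingCat.ofHom (algebraMap k (K i))) := by
  constructor
  · intro hφ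
    haveI : LocallyQuasiFinite φ := Groth.Agent.AlgSpLib.locallyQuasiFinite_of_etale φ
    haveI : DiscreteTopology U := discreteTopology_iff_isOpen_singleton.2 fun w => by
      have h := φ.isDiscrete_preimage_singleton (φ w)
      rw [show φ ⁻¹' {φ w} = Set.univ from Set.eq_univ_of_forall fun v =>
        Subsingleton.elim (α := PrimeSpectrum k) _ _] at h
      have := isDiscrete_univ_iff.1 h
      exact isOpen_discrete _
    haveI : IsReduced U := Groth.Agent.AlgSpLib.isReduced_of_smooth' φ
    let W : U → U.Opens := fun u => ⟨{u}, isOpen_discrete _⟩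
    haveI hsub : ∀ u, Subsingleton (W u) := fun u => inferInstanceAs (Subsingleton ({u} : Set U))
    haveI hne : ∀ u, Nonempty (W u) := fun u => ⟨⟨u, rfl⟩⟩
    haveI hint : ∀ u, IsIntegral (W u : Scheme.{u}) := fun u =>
      haveI : IsReduced (W u : Scheme.{u}) := isReduced_of_isOpenImmersion (W u).ι
      (isIntegral_iff_irreducibleSpace_and_isReduced _).mpr ⟨⟨inferInstance⟩, inferInstance⟩
    haveI haff : ∀ u, IsAffine (W u : Scheme.{u}) := fun u =>
      haveI : DiscreteTopology (W u) := (W u).ι.isOpenEmbedding.discreteTopology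
      inferInstance
    let K : U → Type u := fun u => Γ((W u : Scheme.{u}), ⊤)
    let c : ∀ u, (W u : Scheme.{u}) ⟶ Spec (CommRingCat.of k) := fun u => (W u).ι ≫ φ
    letI fK : ∀ u, Field (K u) := fun u => (isField_of_isIntegral_of_subsingleton (W u : Scheme.{u})).toField
    let ρ : ∀ u, CommRingCat.of k ⟶ CommRingCat.of (K u) := fun u => (Scheme.ΓSpecIso _).inv ≫ (c u).appTop
    letI aK : ∀ u, Algebra k (K u) := fun u => (ρ u).hom.toAlgebra
    haveI het : ∀ u, Algebra.Etale k (K u) := fun u => by
      have h1 : RingHom.Etale (c u).appTop.hom :=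
        (HasRingHomProperty.iff_of_isAffine (P := @AlgebraicGeometry.Etale)).1 inferInstance
      rw [← RingHom.etale_algebraMap]
      exact RingHom.Etale.stableUnderComposition _ _
        (RingHom.Etale.of_bijective (Scheme.ΓSpecIso (CommRingCat.of k)).symm.commRingCatIsoToRingEquiv.bijective) h1
    haveI hfin : ∀ u, FiniteDimensional k (K u) := fun u => Algebra.FormallyUnramified.finite_of_free k (K u)
    haveI hsep : ∀ u, Algebra.IsSeparable k (K u) := fun u => Algebra.FormallyUnramified.isSeparable k (K u)
    let α : ∀ u, Spec (CommRingCat.of (K u)) ⟶ U := fun u => (W u : Scheme.{u}).isoSpec.inv ≫ (W u).ι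
    have hr : ∀ u, ((α u).opensRange : Set U) = {u} := fun u => by
      rw [Scheme.Hom.opensRange_comp_of_isIso, Scheme.Opens.opensRange_ι]
      rfl
    have hcov : ⨆ u, (α u).opensRange = ⊤ := by
      refine eq_top_iff.2 fun x _ => TopologicalSpace.Opens.mem_iSup.2 ⟨x, ?_⟩
      show x ∈ ((α x).opensRange : Set U)
      rw [hr]
      rfl
    have hdis : Pairwise (Function.onFun Disjoint fun u => (α u).opensRange) := fun a b hab => by
      rw [Function.onFun_apply, disjoint_iff, TopologicalSpace.Opens.ext_iff]
      simp only [TopologicalSpace.Opens.coe_inf, TopologicalSpace.Opens.coe_bot, hr]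
      exact Set.disjoint_iff_inter_eq_empty.1 (Set.disjoint_singleton.2 hab)
    obtain ⟨hl⟩ := nonempty_isColimit_cofanMk_of (f := α) hcov hdis
    refine ⟨U, K, fK, aK, hfin, hsep, (coproductIsCoproduct _).coconePointUniqueUpToIso hl, fun u => ?_⟩
    rw [← Category.assoc]
    refine (congrArg (· ≫ φ) ((coproductIsCoproduct _).comp_coconePointUniqueUpToIso_hom hl ⟨u⟩)).trans ?_
    show ((W u : Scheme.{u}).isoSpec.inv ≫ (W u).ι) ≫ φ = _
    rw [Category.assoc]
    change (W u : Scheme.{u}).isoSpec.inv ≫ c u = Spec.map (ρ u)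
    have := Scheme.isoSpec_inv_naturality (c u)
    rw [← this, Scheme.isoSpec_Spec_inv, ← Spec.map_comp]
  · rintro ⟨ι, K, _, _, _, _, e, he⟩
    rw [← MorphismProperty.cancel_left_of_respectsIso @AlgebraicGeometry.Etale e.hom]
    refine (IsZariskiLocalAtSource.iff_of_openCover (P := @AlgebraicGeometry.Etale) (sigmaOpenCover _)).2 fun i => ?_
    show AlgebraicGeometry.Etale (Sigma.ι (fun i => Spec (CommRingCat.of (K i))) i ≫ e.hom ≫ φ)
    rw [he i, HasRingHomProperty.Spec_iff (P := @AlgebraicGeometry.Etale)]
    show RingHom.Etale (algebraMap k (K i))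
    rw [RingHom.etale_algebraMap]
    haveI := Algebra.FormallyEtale.of_isSeparable k (K i)
    haveI : Algebra.FinitePresentation k (K i) := Algebra.FinitePresentation.of_finiteType.mp inferInstance
    exact { }

end Groth.Agent.S0658
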