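import Groth.Statements.S0659
import Groth.Agent.EtMV.Main
-- import your own Groth.Agent.* helpers here

set_option autoImplicit false
set_option backward.isDefEq.respectTransparency false
set_option backward.isDefEq.respectTransparency.types false
set_option maxHeartbeats 1000000
open CategoryTheory CategoryTheory.Limits AlgebraicGeometry Opposite
universe u
open EtCore

namespace Groth.Agent.S0659

/-- Let X = U ∪ V be a union of two open subschemes and F an abelian sheaf on the small etale site of X.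
Writing r_U, r_V for the pullback maps H^n(X, F) -> H^n(U, F|_U), H^n(V, F|_V) and d for the
difference of the two further pullbacks to H^n(U ∩ V, F|_{U ∩ V}), there are connecting
homomorphisms δ_n : H^n(U ∩ V) -> H^{n+1}(X) making the Mayer-Vietoris sequence exact: (r_U, r_V) is
injective in degree 0 and has kernel the image of δ in positive degrees, d has kernel the image of
(r_U, r_V), and δ has kernel the image of d. (Functoriality in F is not stated.) (Exactness of
pullback of abelian sheaves, which always holds, is carried as an instance hypothesis.) -/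
theorem result (X : Scheme.{u}) (U V : X.Opens) (hUV : U ⊔ V = ⊤) (F : EtCoh.Ab X)
    [PreservesFiniteLimits (EtCoh.pull U.ι)] [PreservesFiniteLimits (EtCoh.pull V.ι)]
    [PreservesFiniteLimits (EtCoh.pull (X.homOfLE (inf_le_left : U ⊓ V ≤ U)))]
    [PreservesFiniteLimits (EtCoh.pull (X.homOfLE (inf_le_right : U ⊓ V ≤ V)))] :
    ∃ δ : ∀ n : ℕ, EtCoh.H ↑(U ⊓ V) ((EtCoh.pull (U ⊓ V).ι).obj F) n →+ EtCoh.H X F (n + 1),
      (AddMonoidHom.prod (EtCore.Hpull U.ι F 0) (EtCore.Hpull V.ι F 0)).ker = ⊥ ∧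
      (∀ n : ℕ, (AddMonoidHom.prod (EtCore.Hpull U.ι F (n + 1)) (EtCore.Hpull V.ι F (n + 1))).ker = (δ n).range) ∧
      (∀ n : ℕ, (((EtCore.HpullVia (X.homOfLE (inf_le_left : U ⊓ V ≤ U)) U.ι (U ⊓ V).ι (X.homOfLE_ι inf_le_left) F n)).comp (AddMonoidHom.fst _ _) - ((EtCore.HpullVia (X.homOfLE (inf_le_right : U ⊓ V ≤ V)) V.ι (U ⊓ V).ι (X.homOfLE_ι inf_le_right) F n)).comp (AddMonoidHom.snd _ _)).ker =
        (AddMonoidHom.prod (EtCore.Hpull U.ι F n) (EtCore.Hpull V.ι F n)).range) ∧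
      (∀ n : ℕ, (δ n).ker = (((EtCore.HpullVia (X.homOfLE (inf_le_left : U ⊓ V ≤ U)) U.ι (U ⊓ V).ι (X.homOfLE_ι inf_le_left) F n)).comp (AddMonoidHom.fst _ _) - ((EtCore.HpullVia (X.homOfLE (inf_le_right : U ⊓ V ≤ V)) V.ι (U ⊓ V).ι (X.homOfLE_ι inf_le_right) F n)).comp (AddMonoidHom.snd _ _)).range) := by
  exact EtMV.exists_mv _ _ _ _ _ (EtMV.shortExact_square U.ι V.ι (U ⊓ V).ι
      (X.homOfLE inf_le_left) (X.homOfLE_ι inf_le_left) (X.homOfLE inf_le_right) (X.homOfLE_ι inf_le_right)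
      (fun x => by
        simp only [Scheme.Opens.range_ι]
        exact TopologicalSpace.Opens.mem_sup.1 (hUV ▸ TopologicalSpace.Opens.mem_top x))
      (fun x => by simp only [Scheme.Opens.range_ι]; exact Iff.rfl)) F
    (EtMV.psi (U ⊓ V).ι F) (EtMV.psi U.ι F) (EtMV.psi V.ι F)
    (EtMV.psi_bijective _ F) (EtMV.psi_bijective _ F) (EtMV.psi_bijective _ F)
    (fun n => EtCore.Hpull U.ι F n) (fun n => EtCore.Hpull V.ι F n)
    (EtMV.hpull_eq U.ι F) (EtMV.hpull_eq V.ι F)
    (fun n => EtCore.HpullVia (X.homOfLE inf_le_left) U.ι (U ⊓ V).ι (X.homOfLE_ι inf_le_left) F n)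
    (fun n => EtCore.HpullVia (X.homOfLE inf_le_right) V.ι (U ⊓ V).ι (X.homOfLE_ι inf_le_right) F n)
    (EtMV.hpullVia_psi U.ι (U ⊓ V).ι _ _ F) (EtMV.hpullVia_psi V.ι (U ⊓ V).ι _ _ F)

end Groth.Agent.S0659
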