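import Groth.Statements.S0660
import Groth.Agent.FEtLib.EqLocus

set_option autoImplicit false
set_option backward.isDefEq.respectTransparency.types false
set_option backward.isDefEq.respectTransparency false
set_option linter.all false
set_option maxHeartbeats 800000
open CategoryTheory CategoryTheory.Limits AlgebraicGeometry Opposite
universe u
open EtCore

namespace Groth.Agent.S0660

/-- Let i : Z -> X be a closed immersion, U and U' schemes etale over X, and h a Z-morphism from U x_X Z
to U' x_X Z. Then there are an etale X-scheme W and X-morphisms a : W -> U, b : W -> U' such that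
the base change of a to Z is an isomorphism and h is the base change of b composed with the inverse
of the base change of a. -/
theorem result {Z X : Scheme.{u}} (i : Z ⟶ X) [IsClosedImmersion i] (U U' : X.Etale)
    (h : (EtCoh.bc i).obj U ⟶ (EtCoh.bc i).obj U') :
    ∃ (W : X.Etale) (a : W ⟶ U) (b : W ⟶ U'), IsIso ((EtCoh.bc i).map a) ∧ (EtCoh.bc i).map a ≫ h = (EtCoh.bc i).map b := by
  let P : Scheme.{u} := pullback U.hom U'.hom
  haveI : Etale U.hom := U.prop
  haveI : Etale U'.hom := U'.prop
  let pr₁ : P ⟶ U.left := pullback.fst U.hom U'.hom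
  let pr₂ : P ⟶ U'.left := pullback.snd U.hom U'.hom
  let q : P ⟶ X := pr₁ ≫ U.hom
  haveI : Etale pr₁ := MorphismProperty.pullback_fst (P := @Etale) U.hom U'.hom U'.prop
  haveI : Etale q := inferInstance
  let UZ : Scheme.{u} := pullback U.hom i
  let hl : UZ ⟶ pullback U'.hom i := h.left
  have hw : hl ≫ pullback.snd U'.hom i = pullback.snd U.hom i := CategoryTheory.Over.w h.hom
  let γ : UZ ⟶ P := pullback.lift (pullback.fst U.hom i) (hl ≫ pullback.fst U'.hom i) (by
    rw [Category.assoc, pullback.condition, pullback.condition, reassoc_of% hw])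
  have hγ₁ : γ ≫ pr₁ = pullback.fst U.hom i := pullback.lift_fst _ _ _
  have hγ₂ : γ ≫ pr₂ = hl ≫ pullback.fst U'.hom i := pullback.lift_snd _ _ _
  let PZ : Scheme.{u} := pullback q i
  let ι₀ : PZ ⟶ P := pullback.fst q i
  haveI : IsClosedImmersion ι₀ := MorphismProperty.pullback_fst (P := @IsClosedImmersion) q i inferInstance
  let γ' : UZ ⟶ PZ := pullback.lift γ (pullback.snd U.hom i) (by
    rw [← Category.assoc, hγ₁, pullback.condition])
  let r : PZ ⟶ UZ := pullback.lift (ι₀ ≫ pr₁) (pullback.snd q i) (by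
    rw [Category.assoc, pullback.condition])
  have hr : γ' ≫ r = 𝟙 UZ := by
    refine pullback.hom_ext ?_ ?_
    · rw [Category.assoc, pullback.lift_fst, pullback.lift_fst_assoc, hγ₁, Category.id_comp]
    · rw [Category.assoc, pullback.lift_snd, pullback.lift_snd, Category.id_comp]
  haveI : Mono γ' := mono_of_mono_fac hr
  haveI : Etale (pullback.snd q i) := MorphismProperty.pullback_snd (P := @Etale) q i inferInstance
  haveI : Etale (γ' ≫ pullback.snd q i) := by
    rw [pullback.lift_snd]
    exact MorphismProperty.pullback_snd (P := @Etale) U.hom i U.prop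
  haveI : Etale γ' := Etale.of_comp γ' (pullback.snd q i)
  haveI : IsOpenImmersion γ' := Groth.Agent.FEtLib.isOpenImmersion_of_etale_universallyInjective γ'
  let O : P.Opens := ⟨(ι₀ '' (Set.range γ')ᶜ)ᶜ,
    (ι₀.isClosedEmbedding.isClosedMap _ γ'.isOpenEmbedding.isOpen_range.isClosed_compl).isOpen_compl⟩
  let W : X.Etale := Scheme.Etale.mk (O.ι ≫ q)
  let a : W ⟶ U := MorphismProperty.Over.homMk (O.ι ≫ pr₁) (Category.assoc _ _ _) trivial
  let b : W ⟶ U' := MorphismProperty.Over.homMk (O.ι ≫ pr₂) (by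
    show (O.ι ≫ pr₂) ≫ U'.hom = O.ι ≫ q
    rw [Category.assoc, ← pullback.condition]) trivial
  have hγO : Set.range γ ⊆ Set.range O.ι := by
    rw [Scheme.Opens.range_ι]
    rintro _ ⟨x, rfl⟩ ⟨p, hp, hpx⟩
    refine hp ⟨x, ι₀.isClosedEmbedding.injective ?_⟩
    rw [hpx, ← Scheme.Hom.comp_apply, pullback.lift_fst]
  let γO : UZ ⟶ O := IsOpenImmersion.lift O.ι γ hγO
  have hγO' : γO ≫ O.ι = γ := IsOpenImmersion.lift_fac _ _ hγO
  let m : pullback (O.ι ≫ q) i ⟶ UZ := ((EtCoh.bc i).map a).left
  have hm₁ : m ≫ pullback.fst U.hom i = pullback.fst (O.ι ≫ q) i ≫ O.ι ≫ pr₁ := pullback.lift_fst _ _ _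
  have hm₂ : m ≫ pullback.snd U.hom i = pullback.snd (O.ι ≫ q) i := pullback.lift_snd _ _ _
  let j : pullback (O.ι ≫ q) i ⟶ PZ := pullback.lift (pullback.fst (O.ι ≫ q) i ≫ O.ι) (pullback.snd (O.ι ≫ q) i)
    ((Category.assoc _ _ _).trans pullback.condition)
  have hj : Set.range j ⊆ Set.range γ' := by
    rintro _ ⟨w, rfl⟩
    by_contra hn
    have hO : ι₀ (j w) ∈ O := by
      rw [← Scheme.Hom.comp_apply, pullback.lift_fst, Scheme.Hom.comp_apply]
      exact (pullback.fst (O.ι ≫ q) i w).2
    exact hO ⟨j w, hn, rfl⟩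
  have hjm : j = m ≫ γ' := by
    have hk := IsOpenImmersion.lift_fac γ' j hj
    have e : m = IsOpenImmersion.lift γ' j hj := by
      refine Eq.trans ?_ ((congrArg (IsOpenImmersion.lift γ' j hj ≫ ·) hr).trans (Category.comp_id _))
      refine Eq.trans ?_ ((congrArg (· ≫ r) hk).symm.trans (Category.assoc _ _ _))
      refine pullback.hom_ext ?_ ?_
      · rw [hm₁, Category.assoc, pullback.lift_fst, pullback.lift_fst_assoc, Category.assoc]
      · rw [hm₂, Category.assoc, pullback.lift_snd, pullback.lift_snd]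
    rw [e, hk]
  have hmγ : m ≫ γ = pullback.fst (O.ι ≫ q) i ≫ O.ι := by
    have := congrArg (fun t : pullback (O.ι ≫ q) i ⟶ PZ => t ≫ ι₀) hjm
    simp only [j, γ', ι₀, Category.assoc, pullback.lift_fst] at this
    exact this.symm
  let n : UZ ⟶ pullback (O.ι ≫ q) i := pullback.lift γO (pullback.snd U.hom i) (by
    rw [reassoc_of% hγO', ← Category.assoc, hγ₁, pullback.condition])
  haveI hiso : IsIso m := by
    refine ⟨n, pullback.hom_ext ?_ ?_, pullback.hom_ext ?_ ?_⟩
    · rw [Category.assoc, pullback.lift_fst, Category.id_comp, ← cancel_mono O.ι, Category.assoc, hγO', hmγ]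
    · rw [Category.assoc, pullback.lift_snd, hm₂, Category.id_comp]
    · rw [Category.assoc, hm₁, pullback.lift_fst_assoc, reassoc_of% hγO', hγ₁, Category.id_comp]
    · rw [Category.assoc, hm₂, pullback.lift_snd, Category.id_comp]
  refine ⟨W, a, b, ?_, ?_⟩
  · haveI : IsIso ((Scheme.Etale.forget Z ⋙ CategoryTheory.Over.forget Z).map ((EtCoh.bc i).map a)) := hiso
    exact isIso_of_reflects_iso _ (Scheme.Etale.forget Z ⋙ CategoryTheory.Over.forget Z)
  · refine (Scheme.Etale.forget Z ⋙ CategoryTheory.Over.forget Z).map_injective ?_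
    show m ≫ hl = ((EtCoh.bc i).map b).left
    refine pullback.hom_ext ?_ ?_
    · refine ((Category.assoc _ _ _).trans ((congrArg (m ≫ ·) hγ₂.symm).trans ?_)).trans
        (pullback.lift_fst _ _ _).symm
      rw [reassoc_of% hmγ]
      rfl
    · refine ((Category.assoc _ _ _).trans ((congrArg (m ≫ ·) hw).trans hm₂)).trans
        (pullback.lift_snd _ _ _).symm

end Groth.Agent.S0660
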