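import Groth.Statements.S0663
import Groth.Agent.CdAffine9.NormalVanish
import Groth.Agent.CdCurve24.Basic
-- import your own Groth.Agent.* helpers here

set_option autoImplicit false
set_option linter.all false
set_option backward.isDefEq.respectTransparency.types false
set_option backward.isDefEq.respectTransparency false
set_option synthInstance.maxHeartbeats 400000
set_option maxHeartbeats 1000000
open CategoryTheory CategoryTheory.Limits AlgebraicGeometry Opposite
universe u
open EtCore

namespace Groth.Agent.S0663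

/-- Let k be an algebraically closed field, Xb a smooth proper curve over k, U the open complement of r
≥ 1 closed points of Xb and n ≥ 1 invertible in k. Then the global sections of the sheaf of n-th
roots of unity on U form a group isomorphic to the n-th roots of unity of k, and H^q(U, μ_n)
vanishes for q ≥ 2. -/
theorem result (k : Type u) [Field k] [IsAlgClosed k] (Xb : Scheme.{u})
    [Xb.Over (Spec (CommRingCat.of k))] (hXb : Curve.IsSmoothProperCurve k Xb (Xb ↘ Spec (CommRingCat.of k)))
    (U : Xb.Opens) (r : ℕ) (hr : 1 ≤ r) (hUc : ((U : Set Xb)ᶜ).Finite) (hUr : Nat.card ↥((U : Set Xb)ᶜ) = r)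
    (n : ℕ) (hn : 1 ≤ n) (hnk : (n : k) ≠ 0) :
    Nonempty (EtCoh.H (↑U : Scheme.{u}) (EtCoh.mu ↑U n) 0 ≃+ Additive ↥(rootsOfUnity n k)) ∧
    ∀ q : ℕ, 2 ≤ q → Subsingleton (EtCoh.H (↑U : Scheme.{u}) (EtCoh.mu ↑U n) q) := by
  obtain ⟨hproper, hsm, hint, hdim⟩ := hXb
  haveI := hproper
  haveI := hsm
  haveI := hint
  let f := Xb ↘ Spec (CommRingCat.of k)
  haveI : SmoothOfRelativeDimension 1 f := Groth.Agent.CdAffine9.smoothOfRelativeDimension_one f hdim
  have hne : (U : Set Xb).Nonempty := by
    by_contra h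
    rw [Set.not_nonempty_iff_eq_empty] at h
    rw [h, Set.compl_empty] at hUc
    haveI : Finite Xb := Set.finite_univ_iff.1 hUc
    haveI : JacobsonSpace Xb := LocallyOfFiniteType.jacobsonSpace f
    haveI : DiscreteTopology Xb := inferInstance
    have h0 : topologicalKrullDim Xb ≤ 0 := topologicalKrullDim_zero_of_discreteTopology Xb
    rw [hdim] at h0
    exact absurd h0 (by decide)
  haveI : Nonempty (U : Scheme.{u}) := ⟨⟨hne.some, hne.some_mem⟩⟩
  haveI : IsIntegral (U : Scheme.{u}) := isIntegral_of_isOpenImmersion U.ι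
  have hη : genericPoint Xb ∈ U := (genericPoint_specializes hne.some).mem_open U.isOpen hne.some_mem
  obtain ⟨P, hP⟩ : ∃ P : Xb, P ∉ U := by
    by_contra h
    push Not at h
    have : (U : Set Xb)ᶜ = ∅ := Set.compl_empty_iff.2 (Set.eq_univ_of_forall h)
    rw [this, Nat.card_of_isEmpty] at hUr
    omega
  have hPcl : IsClosed ({P} : Set Xb) :=
    Groth.Agent.VarietyLib.isClosed_of_specializes_ne hdim.le (genericPoint_specializes P) fun e => hP (e ▸ hη)
  let g := U.ι ≫ f
  haveI : IsLocallyNoetherian Xb := LocallyOfFiniteType.isLocallyNoetherian f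
  haveI : CompactSpace Xb := QuasiCompact.compactSpace_of_compactSpace f
  haveI : IsNoetherian Xb := {}
  haveI : QuasiCompact g := inferInstance
  haveI : SmoothOfRelativeDimension 1 g := by
    have h : SmoothOfRelativeDimension (0 + 1) g := inferInstance
    simpa using h
  have hdimU : topologicalKrullDim (U : Scheme.{u}) = 1 := by
    rw [← GenSmoothLib.localDim_eq_topologicalKrullDim g ⟨genericPoint Xb, hη⟩,
      Unram17Lib.localDim_of_smoothOfRelativeDimension k g 1 _, Nat.cast_one]
  refine ⟨Groth.Agent.CdAffine9.nonempty_H_zero_mu _ g n hn hnk, fun q hq => ?_⟩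
  obtain ⟨⟨i⟩, h2⟩ := Groth.Agent.CdAffine9.subsingleton_H_two_of_root _ g hdimU n hn hnk
    (Groth.Agent.CdAffine9.exists_root Xb hdim n hnk U hPcl hP hη)
  rcases Nat.lt_or_ge q 3 with h | h
  · obtain rfl : q = 2 := by omega
    exact h2
  · obtain ⟨m, rfl⟩ : ∃ m, q = m + 3 := ⟨q - 3, by omega⟩
    refine Groth.Agent.CdCurve24.subsingleton_H_three g hdimU.le _ ?_ m
    intro V s x
    refine ⟨V, 𝟙 V, ⟨x, rfl⟩, isOfFinAddOrder_iff_nsmul_eq_zero.2 ⟨n, hn, ?_⟩⟩
    rw [op_id, CategoryTheory.Functor.map_id]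
    haveI : Mono (EtCoh.muι (U : Scheme.{u}) n) := inferInstanceAs (Mono (kernel.ι _))
    have h0 : n • 𝟙 (EtCoh.mu (U : Scheme.{u}) n) = 0 := by
      rw [← cancel_mono (EtCoh.muι (U : Scheme.{u}) n), Preadditive.nsmul_comp, Category.id_comp, zero_comp]
      have := kernel.condition (EtCoh.powMap (U : Scheme.{u}) n)
      rwa [EtCoh.powMap, Preadditive.comp_nsmul, Category.comp_id] at this
    show n • s = 0
    have e : ∀ m : ℕ, ((m • 𝟙 (EtCoh.mu (U : Scheme.{u}) n)).hom.app (op V)).hom s = m • s := fun m => by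
      induction m with
      | zero => simp
      | succ m ih => rw [succ_nsmul, succ_nsmul, ← ih]; rfl
    rw [← e, h0]
    rfl

end Groth.Agent.S0663
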