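import Groth.Statements.S0671
import Groth.Agent.Et18.GermBasics
-- import your own Groth.Agent.* helpers here

set_option autoImplicit false
open CategoryTheory CategoryTheory.Limits AlgebraicGeometry Opposite
universe u
open EtCore

namespace Groth.Agent.S0671

/-- For an abelian sheaf F on the small etale site of S and a section σ over an etale S-scheme U, the
support of σ is a closed subset of U; and a point of S has a nonzero geometric stalk exactly when it
is the image of a point lying in the support of some section over some etale S-scheme. -/
theorem result {S : Scheme.{u}} (F : EtCoh.Ab S) :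
    (∀ (U : S.Etale) (σ : EtCoh.sect F U), IsClosed (EtShriek.sectSupp F U σ)) ∧
    EtPBC.supp F = ⋃ (U : S.Etale) (σ : EtCoh.sect F U), U.hom.base '' EtShriek.sectSupp F U σ := by
  exact ⟨Groth.Agent.Et18.isClosed_sectSupp F, Groth.Agent.Et18.supp_eq_union F⟩

end Groth.Agent.S0671
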