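import Groth.Statements.S0683
import Groth.Agent.Et18.ShriekStalk
-- import your own Groth.Agent.* helpers here

set_option autoImplicit false
open CategoryTheory CategoryTheory.Limits AlgebraicGeometry Opposite
universe u
open EtShriek

namespace Groth.Agent.S0683

/-- Let f : X → Y be a morphism of schemes that is separated, locally of finite type and locally
quasi-finite, F an abelian sheaf on X_ét, and η : Spec Ω → Y a geometric point with Ω algebraically
closed. Then the stalk (f_!F)_η of the direct image with proper support is isomorphic to the direct
sum of the stalks F_ξ over the geometric points ξ : Spec Ω → X with f ∘ ξ = η. Only the existence of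
an isomorphism is asserted (the identification is in fact canonical and functorial in F). -/
theorem result {X Y : Scheme.{u}} (f : X ⟶ Y) [IsSeparated f]
    [LocallyOfFiniteType f] [LocallyQuasiFinite f] (F : EtCoh.Ab X) {Ω : Type u} [Field Ω] [IsAlgClosed Ω]
    (η : Spec (CommRingCat.of Ω) ⟶ Y) :
    Nonempty ((EtCoh.stalk η).obj ((EtShriek.lowerShriek f).obj F) ≅
      ∐ fun ξ : {ξ : Spec (CommRingCat.of Ω) ⟶ X // ξ ≫ f = η} => (EtCoh.stalk ξ.1).obj F) := by
  exact ⟨Groth.Agent.Et18.stalkShriekSumIso f η F⟩

end Groth.Agent.S0683
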