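import Groth.Statements.S0688
import Groth.Agent.Et18.H0Lift.ShriekStalkH0c
-- import your own Groth.Agent.* helpers here

set_option autoImplicit false
open CategoryTheory CategoryTheory.Limits AlgebraicGeometry Opposite
universe u
open EtShriek

namespace Groth.Agent.S0688

/-- Let f : X → Y be separated and locally of finite type, F an abelian sheaf on X_ét and ȳ : Spec k → Y
a geometric point (k algebraically closed), with fibre X_ȳ = X ×_Y Spec k. Then the stalk (f_! F)_ȳ
of the direct image with proper support is isomorphic to H⁰_c(X_ȳ, F|X_ȳ), the group of sections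
with proper support over the geometric fibre. (Only the existence of an isomorphism of groups is
asserted; the published isomorphism is a specific canonical one.) -/
theorem result {X Y : Scheme.{u}} (f : X ⟶ Y) [IsSeparated f] [LocallyOfFiniteType f]
    (F : EtCoh.Ab X) {Ω : Type u} [Field Ω] [IsAlgClosed Ω] (η : Spec (CommRingCat.of Ω) ⟶ Y)
    [EtCoh.BCCont (pullback.fst f η)] :
    Nonempty ((EtCoh.stalk η).obj ((EtShriek.lowerShriek f).obj F) ≅
      AddCommGrpCat.of (EtShriek.H0c (pullback.snd f η) ((EtCoh.pull (pullback.fst f η)).obj F))) := by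
  let sq := IsPullback.of_hasPullback f η
  let p := pullback.snd f η
  let G := (EtCoh.pull (pullback.fst f η)).obj F
  let Φ := Et18.H0Lift.shriekToFibreSec f F sq
  have : LocallyOfFiniteType p := MorphismProperty.pullback_snd (P := @LocallyOfFiniteType) f η inferInstance
  have hmem : ∀ e, Φ e ∈ EtShriek.H0c p G := fun e =>
    (Et18.mem_H0c_iff p G _).mpr ((Et18.H0Lift.range_shriekToFibreSec (f := f) (F := F) sq).le ⟨e, rfl⟩)
  let ψ := Φ.hom.codRestrict (EtShriek.H0c p G) hmem
  have hψ : Function.Bijective ψ := by
    refine ⟨fun a b h => Et18.H0Lift.injective_shriekToFibreSec (f := f) (F := F) sq (congrArg Subtype.val h),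
      fun σ => ?_⟩
    obtain ⟨e, he⟩ := (Et18.H0Lift.range_shriekToFibreSec (f := f) (F := F) sq).ge
      (show σ.1 ∈ {σ : Et18.H0Lift.gSec (pullback.fst f η) F | ClSub.IsProperOver p (Et18.H0Lift.gSupp σ)} from
        (Et18.mem_H0c_iff p G σ.1).mp σ.2)
    exact ⟨e, Subtype.ext he⟩
  exact ⟨(AddEquiv.ofBijective ψ hψ).toAddCommGrpIso⟩

end Groth.Agent.S0688
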