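import Groth.Statements.S0706


set_option autoImplicit false
open CategoryTheory CategoryTheory.Limits AlgebraicGeometry Opposite Topology
universe u
open ProEtW

namespace Groth.Agent.S0706

/-- Let f be an element and I an ideal of A, and Z the intersection of D(f) and V(I) in Spec A. There is
a multiplicative subset S of A for which the image of Spec(S^{-1}A) in Spec A consists precisely of
the points having a specialization in Z. -/
theorem result (A : Type u) [CommRing A] (f : A) (I : Ideal A) :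
    ∃ S : Submonoid A,
      Set.range (PrimeSpectrum.comap (algebraMap A (Localization S))) =
        {x | ∃ z : PrimeSpectrum A,
          z ∈ (PrimeSpectrum.basicOpen f : Set (PrimeSpectrum A)) ∩ PrimeSpectrum.zeroLocus I ∧ x ⤳ z} := by
  let S : Submonoid A :=
    { carrier := {a | ∃ n : ℕ, f ^ n ∈ I ⊔ Ideal.span {a}}
      one_mem' := ⟨0, by simp⟩
      mul_mem' := by
        rintro a b ⟨n, hn⟩ ⟨m, hm⟩
        refine ⟨n + m, ?_⟩
        rw [pow_add]
        have := Ideal.mul_mem_mul hn hm
        refine (?_ : (I ⊔ Ideal.span {a}) * (I ⊔ Ideal.span {b}) ≤ _) this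
        rw [Ideal.sup_mul, Ideal.mul_sup, Ideal.mul_sup, Ideal.span_singleton_mul_span_singleton]
        exact sup_le (sup_le (Ideal.mul_le_left.trans le_sup_left) (Ideal.mul_le_left.trans le_sup_left))
          (sup_le (Ideal.mul_le_right.trans le_sup_left) le_sup_right) }
  refine ⟨S, ?_⟩
  rw [PrimeSpectrum.localization_comap_range (Localization S) S]
  ext p
  simp only [Set.mem_setOf_eq, Set.mem_inter_iff, PrimeSpectrum.mem_zeroLocus, SetLike.mem_coe,
    PrimeSpectrum.mem_basicOpen, ← PrimeSpectrum.le_iff_specializes]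
  constructor
  · intro hd
    have hf : ∀ n : ℕ, f ^ n ∉ I ⊔ p.asIdeal := fun n hn => by
      obtain ⟨i, hi, a, ha, hia⟩ := Submodule.mem_sup.1 hn
      exact Set.disjoint_left.1 hd (show a ∈ (S : Set A) from
        ⟨n, Submodule.mem_sup.2 ⟨i, hi, a, Ideal.subset_span rfl, hia⟩⟩) ha
    obtain ⟨z, hz, hle, hfz⟩ := Ideal.exists_le_prime_disjoint (I ⊔ p.asIdeal) (Submonoid.powers f)
      (Set.disjoint_right.2 fun x ⟨n, hn⟩ hx => hf n (by subst hn; exact hx))
    exact ⟨⟨z, hz⟩, ⟨fun hc => Set.disjoint_left.1 hfz hc ⟨1, pow_one f⟩, fun x hx => hle (Ideal.mem_sup_left hx)⟩,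
      fun x hx => hle (Ideal.mem_sup_right hx)⟩
  · rintro ⟨z, ⟨hfz, hIz⟩, hpz⟩
    refine Set.disjoint_left.2 fun a ⟨n, hn⟩ ha => hfz (z.isPrime.mem_of_pow_mem n ?_)
    exact (sup_le (fun x hx => hIz hx) ((Ideal.span_singleton_le_iff_mem _).2 (hpz ha))) hn

end Groth.Agent.S0706
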