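import Groth.Statements.S0707
import Groth.Agent.HenselLib.WContractIff
import Groth.Agent.HenselLib.ExtrDisc
import Groth.Agent.HenselLib.WLocAtPoint

set_option autoImplicit false
open CategoryTheory CategoryTheory.Limits AlgebraicGeometry Opposite Topology
universe u
open ProEtW

namespace Groth.Agent.S0707

/-- Let A be w-contractible, E a finite set of elements of A with zero set Z in Spec A, and B a
localization of A at a multiplicative subset S such that the image of Spec B → Spec A is precisely
the set of points of Spec A specializing to some point of Z. Then B is w-contractible. -/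
theorem result (A B : Type u) [CommRing A] [CommRing B]
    [Algebra A B] (S : Submonoid A) [IsLocalization S B] (E : Finset A)
    (hB : Set.range (PrimeSpectrum.comap (algebraMap A B)) =
      {x | ∃ z : PrimeSpectrum A, z ∈ PrimeSpectrum.zeroLocus (R := A) E ∧ x ⤳ z})
    (hA : EtPBC.IsWContractible A) : EtPBC.IsWContractible B := by
  classical
  obtain ⟨hl, hext, hsh⟩ := Groth.Agent.HenselLib.WCtr.isWContractible_iff.1 hA
  haveI := hext
  haveI := Groth.Agent.HenselLib.WLoc.compactSpace_CP hl
  haveI := Groth.Agent.HenselLib.WLoc.t2Space_CP hl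
  haveI := Groth.Agent.HenselLib.WCtr.t2Space_components (A := A)
  let Z : Set (PrimeSpectrum A) := PrimeSpectrum.zeroLocus (R := A) E
  let Z₀ : Set (Groth.Agent.HenselLib.WLoc.CP A) := Subtype.val ⁻¹' Z
  have hZ₀c : IsClosed Z₀ := (PrimeSpectrum.isClosed_zeroLocus _).preimage continuous_subtype_val
  have hZ₀o : IsOpen Z₀ := by
    rw [← isClosed_compl_iff]
    have : Z₀ᶜ = ⋃ f ∈ E, (Subtype.val ⁻¹' (PrimeSpectrum.basicOpen f : Set (PrimeSpectrum A))) := by
      ext c
      simp only [Z₀, Z, Set.mem_compl_iff, Set.mem_preimage, PrimeSpectrum.mem_zeroLocus, Set.mem_iUnion,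
        SetLike.mem_coe, PrimeSpectrum.mem_basicOpen]
      constructor
      · intro h
        obtain ⟨f, hf, hfc⟩ := Set.not_subset.1 h
        exact ⟨f, hf, hfc⟩
      · rintro ⟨f, hf, hfc⟩ h
        exact hfc (h hf)
    rw [this]
    refine isClosed_biUnion_finset fun f _ => IsCompact.isClosed ?_
    rw [Topology.IsEmbedding.subtypeVal.isCompact_iff, Set.image_preimage_eq_inter_range, Subtype.range_coe_subtype]
    exact (PrimeSpectrum.isCompact_basicOpen f).inter_right hl.2.1
  -- the image is a closed union of components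
  have hW : Set.range (PrimeSpectrum.comap (algebraMap A B)) =
      ConnectedComponents.mk ⁻¹' ((fun c : Groth.Agent.HenselLib.WLoc.CP A => ConnectedComponents.mk c.1) '' Z₀) := by
    rw [hB]
    ext x
    obtain ⟨y, ⟨hy, hxy⟩, huniq⟩ := hl.2.2 x
    have hcomp : ConnectedComponents.mk x = ConnectedComponents.mk y :=
      ConnectedComponents.coe_eq_coe'.2 (by
        have : y ∈ connectedComponent x := hxy.mem_closed isClosed_connectedComponent mem_connectedComponent
        rw [← connectedComponent_eq this]
        exact mem_connectedComponent)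
    constructor
    · rintro ⟨z, hz, hxz⟩
      obtain ⟨w, ⟨hw, hzw⟩, -⟩ := hl.2.2 z
      have hwy : w = y := huniq w ⟨hw, hxz.trans hzw⟩
      exact ⟨⟨y, hy⟩, hwy ▸ hzw.mem_closed (PrimeSpectrum.isClosed_zeroLocus _) hz, hcomp.symm⟩
    · rintro ⟨c, hc, hcx⟩
      have hcy : c = ⟨y, hy⟩ := Groth.Agent.HenselLib.WLoc.closedPoint_eq_of_component hl (hcx.trans hcomp)
      subst hcy
      exact ⟨y, hc, hxy⟩
  have hemb : Topology.IsClosedEmbedding (PrimeSpectrum.comap (algebraMap A B)) :=
    ⟨PrimeSpectrum.localization_comap_isEmbedding B S, by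
      rw [hW]
      exact ((hZ₀c.isCompact.image (ConnectedComponents.continuous_coe.comp continuous_subtype_val)).isClosed).preimage
        ConnectedComponents.continuous_coe⟩
  obtain ⟨hBl, hcl⟩ := Groth.Agent.HenselLib.WCtr.isWLocal_of_closedEmbedding hl hemb
  refine Groth.Agent.HenselLib.WCtr.isWContractible_iff.2 ⟨hBl, ?_, fun n _ => ?_⟩
  · haveI : ExtremallyDisconnected (Groth.Agent.HenselLib.WLoc.CP A) :=
      Groth.Agent.HenselLib.WCtr.extremallyDisconnected_homeo (Groth.Agent.HenselLib.WCtr.cpHomeo hl).symm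
    let ι : Groth.Agent.HenselLib.WLoc.CP B → Groth.Agent.HenselLib.WLoc.CP A :=
      fun c => ⟨PrimeSpectrum.comap (algebraMap A B) c.1, (hcl c.1).1 c.2⟩
    have hι : Topology.IsOpenEmbedding ι := by
      refine ⟨(hemb.isEmbedding.comp Topology.IsEmbedding.subtypeVal).codRestrict _ fun c => (hcl c.1).1 c.2, ?_⟩
      have : Set.range ι = Z₀ := by
        ext m
        constructor
        · rintro ⟨c, rfl⟩
          obtain ⟨c', hc', hcc⟩ := hW.le ⟨c.1, rfl⟩
          exact (Groth.Agent.HenselLib.WLoc.closedPoint_eq_of_component hl (c := c')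
            (c' := ι c) hcc) ▸ hc'
        · intro hm
          obtain ⟨b, hb⟩ := hW.ge (show m.1 ∈ ConnectedComponents.mk ⁻¹' _ from ⟨m, hm, rfl⟩)
          exact ⟨⟨b, (hcl b).2 (hb ▸ m.2)⟩, Subtype.ext hb⟩
      rw [this]
      exact hZ₀o
    haveI := Groth.Agent.HenselLib.ExtrDisc.of_isOpenEmbedding hι
    exact Groth.Agent.HenselLib.WCtr.extremallyDisconnected_homeo (Groth.Agent.HenselLib.WCtr.cpHomeo hBl)
  · let q : PrimeSpectrum B := ⟨n, inferInstance⟩
    haveI : (n.comap (algebraMap A B)).IsMaximal :=
      (PrimeSpectrum.isClosed_singleton_iff_isMaximal _).1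
        ((hcl q).1 ((PrimeSpectrum.isClosed_singleton_iff_isMaximal q).2 ‹_›))
    exact Groth.Agent.HenselLib.WLoc.strictlyHenselian_of_equiv
      (RingEquiv.ofBijective _ (Groth.Agent.HenselLib.WCtr.bijAt_of_isLocalization S q)) (hsh _)

end Groth.Agent.S0707
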