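import Groth.Statements.S0708
import Groth.Agent.HenselLib.EtRetr
import Groth.Agent.HenselLib.LocColimit

set_option autoImplicit false
open CategoryTheory CategoryTheory.Limits AlgebraicGeometry Opposite Topology
universe u
open ProEtW

namespace Groth.Agent.S0708

/-- Let A be a ring all of whose faithfully flat etale algebras have retractions, I an ideal with zero
set Z, and B a localization of A at a multiplicative subset such that the image of Spec B → Spec A
is precisely the set of points of Spec A specializing to some point of Z. Then every faithfully flat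
etale B-algebra has a retraction. -/
theorem result (A B : Type u) [CommRing A] [CommRing B]
    [Algebra A B] (S : Submonoid A) [IsLocalization S B] (I : Ideal A)
    (hB : Set.range (PrimeSpectrum.comap (algebraMap A B)) =
      {x | ∃ z : PrimeSpectrum A, z ∈ PrimeSpectrum.zeroLocus (R := A) I ∧ x ⤳ z})
    (hA : ProEtW.HasEtaleRetractions A) : ProEtW.HasEtaleRetractions B := by
  classical
  intro C _ _ hff het
  letI : Algebra A C := ((algebraMap B C).comp (algebraMap A B)).toAlgebra
  haveI : IsScalarTower A B C := IsScalarTower.of_algebraMap_eq' rfl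
  obtain ⟨C₀, _, _, _, κ, hκ⟩ := Groth.Agent.HenselLib.LocColim.exists_descent S B C
  haveI : Module.Flat A C₀ := Algebra.Smooth.flat A C₀
  let U : Set (PrimeSpectrum A) := Set.range (PrimeSpectrum.comap (algebraMap A C₀))
  have hU : IsOpen U :=
    (PrimeSpectrum.isOpenMap_comap_of_hasGoingDown_of_finitePresentation (R := A) (S := C₀)).isOpen_range
  have hVU : PrimeSpectrum.zeroLocus (I : Set A) ⊆ U := by
    intro z hz
    obtain ⟨b, hb⟩ := hB.ge ⟨z, hz, specializes_rfl⟩
    obtain ⟨c, hc⟩ := PrimeSpectrum.comap_surjective_of_faithfullyFlat (A := B) (B := C) b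
    refine ⟨PrimeSpectrum.comap κ.toRingHom c, ?_⟩
    rw [← PrimeSpectrum.comap_comp_apply, AlgHom.toRingHom_eq_coe, AlgHom.comp_algebraMap,
      IsScalarTower.algebraMap_eq A B C, PrimeSpectrum.comap_comp_apply, hc, hb]
  obtain ⟨t, ht⟩ : ∃ t : Finset {a // a ∈ I},
      Uᶜ ⊆ ⋃ a ∈ t, (PrimeSpectrum.basicOpen a.1 : Set (PrimeSpectrum A)) := by
    refine hU.isClosed_compl.isCompact.elim_finite_subcover _ (fun a => (PrimeSpectrum.basicOpen a.1).isOpen)
      fun p hp => ?_
    obtain ⟨a, ha, hap⟩ := Set.not_subset.1 (fun hle => hp (hVU hle))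
    exact Set.mem_iUnion.2 ⟨⟨a, ha⟩, hap⟩
  obtain ⟨r⟩ := Groth.Agent.HenselLib.EtRetr.exists_retraction hA C₀ (fun a : {x // x ∈ t} => a.1.1) fun p => by
    by_cases hp : p ∈ U
    · exact Or.inl hp
    · obtain ⟨a, ha, hpa⟩ := Set.mem_iUnion₂.1 (ht hp)
      exact Or.inr ⟨⟨a, ha⟩, hpa⟩
  -- the component of the etale algebra is everything after localising
  let e : A := r (1, 0)
  have hef : e + r (0, 1) = 1 := by
    rw [← map_add]
    convert map_one r using 2
    exact Prod.ext (by simp) (by simp)
  have hzero : r (0, 1) ∈ I := by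
    have hsum : ((0 : C₀), (1 : ∀ a : {x // x ∈ t}, Localization.Away a.1.1)) =
        ∑ a : {x // x ∈ t}, ((0 : C₀), (Pi.single a 1 : ∀ a : {x // x ∈ t}, Localization.Away a.1.1)) := by
      refine Prod.ext ?_ ?_
      · simp [Prod.fst_sum]
      · rw [Prod.snd_sum]
        exact (Finset.univ_sum_single (1 : ∀ a : {x // x ∈ t}, Localization.Away a.1.1)).symm
    rw [hsum, map_sum]
    refine Ideal.sum_mem _ fun a _ => ?_
    have : ((0 : C₀), (Pi.single a 1 : ∀ a : {x // x ∈ t}, Localization.Away a.1.1)) =
        algebraMap A (C₀ × (∀ a : {x // x ∈ t}, Localization.Away a.1.1)) a.1.1 *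
          ((0 : C₀), Pi.single a (IsLocalization.Away.invSelf a.1.1)) := by
      refine Prod.ext (by simp) (funext fun b => ?_)
      rcases eq_or_ne b a with rfl | hne
      · simp [IsLocalization.Away.mul_invSelf]
      · simp [hne]
    rw [this, map_mul, r.commutes]
    exact Ideal.mul_mem_right _ _ a.1.2
  have heI : IsUnit (algebraMap A B e) := by
    by_contra hne
    obtain ⟨m, hm, hem⟩ := exists_max_ideal_of_mem_nonunits hne
    obtain ⟨z, hz, hspec⟩ := hB.le ⟨⟨m, hm.isPrime⟩, rfl⟩
    have h1 : e ∈ z.asIdeal := (PrimeSpectrum.le_iff_specializes _ _).2 hspec hem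
    exact z.isPrime.ne_top ((Ideal.eq_top_iff_one _).2 (hef ▸ z.asIdeal.add_mem h1 (hz hzero)))
  have hidem : e * e = e := by
    rw [← map_mul]
    congr 1
    exact Prod.ext (mul_one 1) (mul_zero 0)
  have he1 : algebraMap A B e = 1 := heI.mul_left_cancel (by rw [← map_mul, hidem, mul_one])
  refine hκ { toFun := fun x => algebraMap A B (r (x, 0))
              map_one' := he1
              map_mul' := fun x y => by
                rw [← map_mul, ← map_mul]; congr 2; exact Prod.ext rfl (by simp)
              map_zero' := by rw [show ((0 : C₀), (0 : ∀ a : {x // x ∈ t}, Localization.Away a.1.1)) = 0 from rfl, map_zero, map_zero]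
              map_add' := fun x y => by
                rw [← map_add, ← map_add]; congr 2; exact Prod.ext rfl (by simp)
              commutes' := fun a => ?_ }
  have hprod : ((algebraMap A C₀ a, 0) : C₀ × (∀ a : {x // x ∈ t}, Localization.Away a.1.1)) =
      algebraMap A _ a * (1, 0) := Prod.ext (by simp) (by simp)
  show algebraMap A B (r (algebraMap A C₀ a, 0)) = algebraMap A B a
  rw [hprod, map_mul, r.commutes, map_mul, Algebra.algebraMap_self, RingHom.id_apply]
  show algebraMap A B a * algebraMap A B e = _
  rw [he1, mul_one]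

end Groth.Agent.S0708
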