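import Groth.Statements.S0719
import Groth.Agent.EtCmp.Derived
-- import your own Groth.Agent.* helpers here

set_option autoImplicit false
open CategoryTheory CategoryTheory.Limits AlgebraicGeometry Opposite
universe u
open ProEtS

namespace Groth.Agent.S0719

/-- For an abelian sheaf F on X_et and every i, H^i(X_et, F) and H^i(X_proet, eps^{-1} F) are isomorphic
(assuming, as a binder, the continuity of X_et -> X_proet). -/
theorem result (X : Scheme.{u}) [ProEtS.EpsCont X] (F : EtCoh.Ab X) (i : ℕ) :
    Nonempty (EtCoh.H X F i ≃+ ProEtS.HP X ((ProEtS.epsPull X).obj F) i) := by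
  exact ⟨Groth.Agent.EtCmp.hEquiv F i⟩

end Groth.Agent.S0719
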