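import Groth.Statements.S0726
import Groth.Agent.ProEtWC.ShortExact

set_option autoImplicit false
open CategoryTheory CategoryTheory.Limits AlgebraicGeometry Opposite
universe u
open ProEtS

namespace Groth.Agent.S0726

/-- Let i : Z -> X be a closed immersion and j : U -> X an open immersion with image the complement of
i(Z), j quasi-compact. For every abelian sheaf F on X_proet the sequence 0 -> j_! j^{-1} F -> F ->
i_* i^{-1} F -> 0 (counit of j_! -| j^{-1}, unit of i^{-1} -| i_*) is short exact (continuity of the
site functors assumed as binders). -/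
theorem result {X Z U : Scheme.{u}} (i : Z ⟶ X) [IsClosedImmersion i]
    (j : U ⟶ X) [IsOpenImmersion j] [QuasiCompact j]
    (hc : Set.range j.base = (Set.range i.base)ᶜ) [ProEtS.JPCont j] [ProEtS.PCont i]
    (F : ProEtS.AbP X) :
    ∃ h : (ProEtS.extZeroPAdj j).counit.app F ≫ (ProEtS.pullPushAdjP i).unit.app F = 0,
      (ShortComplex.mk _ _ h).ShortExact := by
  exact Groth.Agent.ProEtWC.shortExact_extZero_restr_push_pull i j hc F

end Groth.Agent.S0726
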