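import Groth.Statements.S0728
import Groth.Agent.Et18.H0Lift.Excision
-- import your own Groth.Agent.* helpers here

set_option autoImplicit false
open CategoryTheory CategoryTheory.Limits AlgebraicGeometry Opposite
universe u
open EtShriek

namespace Groth.Agent.S0728

/-- In the case where the inverse image of Z is Z' (so that the bijection is restriction): let phi : U'
-> U be a morphism of the small etale site of X and Z a closed subset of U such that phi restricted
to the inverse image Z' of Z is a bijection onto Z inducing isomorphisms of residue fields (so Z' ->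
U is a closed immersion with image Z, for the reduced structures). Then restriction along phi is a
bijection from the sections of F over U supported in Z to the sections of F over U' supported in Z'. -/
theorem result {X : Scheme.{u}} (F : EtCoh.Ab X) {U U' : X.Etale}
    (φ : U' ⟶ U) (Z : Set ↥U.left) (hZ : IsClosed Z)
    (hbij : Set.BijOn φ.left.base (φ.left.base ⁻¹' Z) Z)
    (hres : ∀ x ∈ φ.left.base ⁻¹' Z, Function.Bijective (φ.left.residueFieldMap x)) :
    Set.BijOn (F.obj.map φ.op) {s | EtShriek.sectSupp F U s ⊆ Z}
      {s' | EtShriek.sectSupp F U' s' ⊆ φ.left.base ⁻¹' Z} := by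
  have hmem := fun (s : EtCoh.sect F U) (x : U'.left) => Et18.H0Lift.mem_sectSupp_map F φ s x
  refine ⟨fun s hs x hx => hs ((hmem s x).1 hx), ?_, fun s' hs' => ?_⟩
  · intro s hs t ht hst
    refine sub_eq_zero.1 (Et18.eq_zero_of_sectSupp_eq_empty F U (s - t) (Set.eq_empty_iff_forall_notMem.2
      fun x hx => ?_))
    by_cases hxZ : x ∈ Z
    · obtain ⟨w, -, rfl⟩ := hbij.surjOn hxZ
      have h0 : F.obj.map φ.op (s - t) = 0 := (map_sub _ _ _).trans (sub_eq_zero.2 hst)
      have := (hmem (s - t) w).2 hx
      rw [h0] at this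
      exact this U' (𝟙 U') ⟨w, rfl⟩ (map_zero _)
    · obtain ⟨v, hv⟩ := Et18.exists_fiber_point (Et18.algPoint X (U.hom x)) U x (Et18.algPoint_default X _).symm
      rw [← hv] at hx hxZ
      refine (Et18.H0Lift.gm_eq_zero_iff F _ U v _).1 ?_ hx
      exact (map_sub _ _ _).trans (sub_eq_zero.2 (((Et18.H0Lift.gm_eq_zero_iff F _ U v s).2 fun h => hxZ (hs h)).trans
        ((Et18.H0Lift.gm_eq_zero_iff F _ U v t).2 fun h => hxZ (ht h)).symm))
  · obtain ⟨s, h1, h2⟩ := Et18.H0Lift.exists_supported_extension F φ Z hZ hbij hres s' hs'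
    exact ⟨s, h1, h2⟩

end Groth.Agent.S0728
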