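import Groth.Statements.S0738


set_option autoImplicit false
open Topology
universe u
open ProEtW

namespace Groth.Agent.S0738

/-- A closed subset of a w-local spectral space is w-local (with the subspace topology). -/
theorem result (X : Type u) [TopologicalSpace X] (hX : ProEtW.IsWLocal X)
    (Y : Set X) (hY : IsClosed Y) : ProEtW.IsWLocal ↥Y := by
  obtain ⟨hs, hcl, huniq⟩ := hX
  have he : Topology.IsClosedEmbedding (Subtype.val : Y → X) := hY.isClosedEmbedding_subtypeVal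
  haveI : T0Space Y := he.isEmbedding.t0Space
  haveI : CompactSpace Y := he.compactSpace
  haveI : QuasiSober Y := he.quasiSober
  haveI : PrespectralSpace Y := PrespectralSpace.of_isClosedEmbedding _ he
  have key : ∀ W : Set Y, IsOpen W → IsCompact W →
      ∃ V : Set X, IsCompact V ∧ IsOpen V ∧ W = Subtype.val ⁻¹' V := by
    intro W hWo hWc
    obtain ⟨U, hU, rfl⟩ := isOpen_induced_iff.1 hWo
    obtain ⟨V, hVc, hVo, hWV, hVU⟩ := PrespectralSpace.exists_isCompact_and_isOpen_between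
      (hWc.image continuous_subtype_val) hU (Set.image_preimage_subset _ _)
    exact ⟨V, hVc, hVo, Set.Subset.antisymm (fun y hy => hWV ⟨y, hy, rfl⟩) fun y hy => hVU hy⟩
  haveI : QuasiSeparatedSpace Y := ⟨fun W₁ W₂ h₁ h₁' h₂ h₂' => by
    obtain ⟨V₁, c₁, o₁, rfl⟩ := key W₁ h₁ h₁'
    obtain ⟨V₂, c₂, o₂, rfl⟩ := key W₂ h₂ h₂'
    rw [← Set.preimage_inter]
    exact he.isCompact_preimage (QuasiSeparatedSpace.inter_isCompact V₁ V₂ o₁ c₁ o₂ c₂)⟩
  have hpt : ∀ y : Y, IsClosed ({y} : Set Y) ↔ IsClosed ({(y : X)} : Set X) := fun y => by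
    rw [he.isClosed_iff_image_isClosed, Set.image_singleton]
  refine ⟨{}, ?_, fun y => ?_⟩
  · have : {y : Y | IsClosed ({y} : Set Y)} = Subtype.val ⁻¹' {x : X | IsClosed ({x} : Set X)} :=
      Set.ext hpt
    rw [this]
    exact hcl.preimage continuous_subtype_val
  · obtain ⟨z, ⟨hz1, hz2⟩, hz3⟩ := huniq y
    refine ⟨⟨z, hz2.mem_closed hY y.2⟩, ⟨(hpt _).2 hz1, (subtype_specializes_iff _ _).2 hz2⟩, fun w hw => ?_⟩
    exact Subtype.ext (hz3 w ⟨(hpt w).1 hw.1, (subtype_specializes_iff _ _).1 hw.2⟩)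

end Groth.Agent.S0738
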