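import Groth.Statements.S0742
import Groth.Agent.ProEtWC.ExtZeroLimits
-- import your own Groth.Agent.* helpers here

set_option autoImplicit false
set_option backward.isDefEq.respectTransparency false
set_option backward.isDefEq.respectTransparency.types false
open CategoryTheory CategoryTheory.Limits AlgebraicGeometry Opposite
universe u
open ProEtS

namespace Groth.Agent.S0742

/-- For an open immersion j : U -> X, the unit F -> j^{-1} j_! F and the counit j^{-1} j_* G -> G are
isomorphisms on abelian pro-etale sheaves (so j_! and j_* are fully faithful; continuity binders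
assumed). -/
theorem result {U X : Scheme.{u}} (j : U ⟶ X) [IsOpenImmersion j]
    [ProEtS.JPCont j] [ProEtS.PCont j] (F G : ProEtS.AbP U) :
    IsIso ((ProEtS.extZeroPAdj j).unit.app F) ∧ IsIso ((ProEtS.pullPushAdjP j).counit.app G) := by
  let adj₁ := ProEtS.extZeroPAdj j
  let cb : ProEtS.compP j ⊣ ProEtS.bcP j :=
    MorphismProperty.Over.mapPullbackAdj (P := @WeaklyEtale.{u}) ⊤ j (inferInstanceAs (WeaklyEtale j)) trivial
  let adj₂ : ProEtS.restrP j ⊣ ProEtS.pushP j :=
    cb.sheafPushforwardContinuous (Scheme.ProEt.topology U) (Scheme.ProEt.topology X)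
  haveI h1 : IsIso adj₁.unit := adj₁.isIso_unit_of_iso (ProEtWC.restrExtZeroIso j)
  let t : Adjunction.Triple (ProEtS.extZeroP j) (ProEtS.restrP j) (ProEtS.pushP j) := ⟨adj₁, adj₂⟩
  haveI h2 : IsIso adj₂.counit := t.isIso_unit_iff_isIso_counit.1 h1
  refine ⟨NatIso.isIso_app_of_isIso adj₁.unit F, ?_⟩
  let e := (ProEtS.pullPushAdjP j).leftAdjointUniq adj₂
  have he : (ProEtS.pullPushAdjP j).counit.app G = e.hom.app ((ProEtS.pushP j).obj G) ≫ adj₂.counit.app G :=
    (Adjunction.leftAdjointUniq_hom_app_counit _ _ _).symm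
  rw [he]
  infer_instance

end Groth.Agent.S0742
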