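import Groth.Statements.S0743
import Groth.Prelude.Def_ProEtS
-- import your own Groth.Agent.* helpers here

set_option autoImplicit false
set_option backward.isDefEq.respectTransparency false
set_option backward.isDefEq.respectTransparency.types false
set_option backward.defeqAttrib.useBackward true
open CategoryTheory CategoryTheory.Limits AlgebraicGeometry Opposite
universe u
open ProEtS

namespace Groth.Agent.S0743

/-- For an etale morphism j : U -> X and an abelian sheaf G on U_et, eps^{-1} (j_! G) and j_! (eps^{-1}
G) are isomorphic as abelian sheaves on X_proet (existence of an isomorphism; continuity binders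
assumed). -/
theorem result {U X : Scheme.{u}} (j : U ⟶ X) [Etale j] [EtShriek.JCont j]
    [ProEtS.JPCont j] [ProEtS.EpsCont U] [ProEtS.EpsCont X] (G : EtCoh.Ab U) :
    Nonempty ((ProEtS.epsPull X).obj ((EtShriek.extZero j).obj G) ≅
      (ProEtS.extZeroP j).obj ((ProEtS.epsPull U).obj G)) := by
  let a₁ := (EtShriek.extZeroAdj j).comp (ProEtS.epsAdj X)
  let a₂ := (ProEtS.epsAdj U).comp (ProEtS.extZeroPAdj j)
  let α : ProEtS.eps U ⋙ ProEtS.compP j ≅ EtShriek.compEtale j ⋙ ProEtS.eps X :=
    NatIso.ofComponents (fun V => MorphismProperty.Over.isoMk (Iso.refl _) (Category.id_comp _)) (fun {V W} f => by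
      refine (Scheme.ProEt.forget X ⋙ CategoryTheory.Over.forget X).map_injective ?_
      show f.left ≫ 𝟙 _ = 𝟙 _ ≫ f.left
      rw [Category.comp_id, Category.id_comp])
  let e : ProEtS.epsPush X ⋙ EtShriek.restrAlong j ≅ ProEtS.restrP j ⋙ ProEtS.epsPush U :=
    NatIso.ofComponents (fun F => (fullyFaithfulSheafToPresheaf _ _).preimageIso
        (Functor.isoWhiskerRight (NatIso.op α) F.obj)) (fun {F F'} φ => by
      refine (sheafToPresheaf _ _).map_injective ?_
      ext V : 2
      simp)
  exact ⟨(a₁.ofNatIsoRight e).leftAdjointUniq a₂ |>.app G⟩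

end Groth.Agent.S0743
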