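import Groth.Statements.S0761
import Groth.Agent.Et18.LocAcycBC.Main
-- import your own Groth.Agent.* helpers here

set_option autoImplicit false
open CategoryTheory CategoryTheory.Limits AlgebraicGeometry Opposite
open scoped TensorProduct
universe u
open EtRest

namespace Groth.Agent.S0761

/-- In the case of a locally quasi-finite base change and for constant coefficients: if f : X -> S is
locally acyclic and g : S' -> S is locally quasi-finite, then the base change f' : X x_S S' -> S' is
locally acyclic. -/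
theorem result {X S S' : Scheme.{u}} (f : X ⟶ S) (g : S' ⟶ S)
    [LocallyOfFiniteType g] [LocallyQuasiFinite g] (hf : EtRest.IsLocallyAcyclic f) :
    EtRest.IsLocallyAcyclic (pullback.snd f g) := by
  refine Groth.Agent.Et18.LocAcycBC.isLocallyAcyclic_baseChange f g (fun s' => ?_) hf
  obtain ⟨_, ⟨U, hU, rfl⟩, hsU, -⟩ := S.isBasis_affineOpens.exists_subset_of_mem_open (Set.mem_univ (g s')) isOpen_univ
  obtain ⟨_, ⟨V, hV, rfl⟩, hsV, hVU⟩ := S'.isBasis_affineOpens.exists_subset_of_mem_open
    (show s' ∈ g ⁻¹ᵁ U from hsU) (g ⁻¹ᵁ U).2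
  exact ⟨Γ(S, U), Γ(S', V), hU.fromSpec, hV.fromSpec, inferInstance, inferInstance,
    g.appLE U V hVU, (IsAffineOpen.SpecMap_appLE_fromSpec g hU hV hVU).symm,
    hV.range_fromSpec.symm ▸ hsV, Groth.Agent.Et18.LocAcycBC.directedQF_of_quasiFinite _
      (HasRingHomProperty.appLE @LocallyOfFiniteType g inferInstance ⟨U, hU⟩ ⟨V, hV⟩ hVU)
      (HasRingHomProperty.appLE @LocallyQuasiFinite g inferInstance ⟨U, hU⟩ ⟨V, hV⟩ hVU)⟩

end Groth.Agent.S0761
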