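import Groth.Statements.S0762
import Groth.Agent.Et18.LocAcycBC.Main
-- import your own Groth.Agent.* helpers here

set_option autoImplicit false
open CategoryTheory CategoryTheory.Limits AlgebraicGeometry Opposite
open scoped TensorProduct
universe u
open EtRest

namespace Groth.Agent.S0762

/-- In the case of an integral base change and for constant coefficients: if f : X -> S is locally
acyclic and g : S' -> S is integral, then the base change f' : X x_S S' -> S' is locally acyclic. -/
theorem result {X S S' : Scheme.{u}} (f : X ⟶ S) (g : S' ⟶ S)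
    [IsIntegralHom g] (hf : EtRest.IsLocallyAcyclic f) :
    EtRest.IsLocallyAcyclic (pullback.snd f g) := by
  refine Groth.Agent.Et18.LocAcycBC.isLocallyAcyclic_baseChange f g (fun s' => ?_) hf
  obtain ⟨_, ⟨U, hU, rfl⟩, hsU, -⟩ := S.isBasis_affineOpens.exists_subset_of_mem_open (Set.mem_univ (g s')) isOpen_univ
  have hV : IsAffineOpen (g ⁻¹ᵁ U) := hU.preimage g
  refine ⟨Γ(S, U), Γ(S', g ⁻¹ᵁ U), hU.fromSpec, hV.fromSpec, inferInstance, inferInstance,
    g.appLE U (g ⁻¹ᵁ U) le_rfl, (IsAffineOpen.SpecMap_appLE_fromSpec g hU hV le_rfl).symm,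
    hV.range_fromSpec.symm ▸ hsU, Groth.Agent.Et18.LocAcycBC.directedQF_of_isIntegral _ ?_⟩
  rw [← Scheme.Hom.app_eq_appLE]
  exact g.isIntegral_app U hU

end Groth.Agent.S0762
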