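import Groth.Statements.S0763
import Groth.Agent.Et18.DC.Apps
-- import your own Groth.Agent.* helpers here

set_option autoImplicit false
open CategoryTheory CategoryTheory.Limits AlgebraicGeometry Opposite
universe u
open ProEtDC

namespace Groth.Agent.S0763

/-- Part (1), for the site X_proet (which has enough weakly contractible objects): for a Noetherian ring
L (in the value universe) and an ideal I, the derived complete sheaves of L-modules form a weak
Serre subcategory: kernels and cokernels of maps between derived complete sheaves are derived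
complete, and an extension of derived complete sheaves is derived complete. -/
theorem result (X : Scheme.{u}) (Λ : Type (u + 1)) [CommRing Λ]
    [IsNoetherianRing Λ] (I : Ideal Λ) :
    (∀ (F G : EtModW.ModP Λ X) (φ : F ⟶ G), ProEtDC.IsDCSheaf Λ I F → ProEtDC.IsDCSheaf Λ I G →
      ProEtDC.IsDCSheaf Λ I (kernel φ) ∧ ProEtDC.IsDCSheaf Λ I (cokernel φ)) ∧
    ∀ (S : ShortComplex (EtModW.ModP Λ X)), S.ShortExact →
      ProEtDC.IsDCSheaf Λ I S.X₁ → ProEtDC.IsDCSheaf Λ I S.X₃ → ProEtDC.IsDCSheaf Λ I S.X₂ := by
  exact ⟨fun F G φ hF hG => Et18.DC.isDCSheaf_kernel_cokernel φ hF hG,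
    fun S hS h₁ h₃ => Et18.DC.isDCSheaf_extension hS h₁ h₃⟩

end Groth.Agent.S0763
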