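import Groth.Statements.S0766
import Groth.Agent.Et18.DC.Apps
-- import your own Groth.Agent.* helpers here

set_option autoImplicit false
open CategoryTheory CategoryTheory.Limits AlgebraicGeometry Opposite
universe u
open ProEtDC

namespace Groth.Agent.S0766

/-- Let L be a ring (value universe), I an ideal generated by finitely many elements a_1, ..., a_r, and
F a sheaf of L-modules on X_proet which is derived complete with respect to I and satisfies F/IF = 0
(the map F^r -> F, (s_k) |-> sum a_k s_k, is an epimorphism). Then F = 0. -/
theorem result (X : Scheme.{u}) (Λ : Type (u + 1)) [CommRing Λ]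
    {r : ℕ} (a : Fin r → Λ) (F : EtModW.ModP Λ X)
    (hF : ProEtDC.IsDCSheaf Λ (Ideal.span (Set.range a)) F) (h0 : ProEtDC.ModGensIsZero Λ a F) :
    IsZero F := by
  exact Et18.DC.isZero_of_modGensIsZero a hF h0

end Groth.Agent.S0766
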