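import Groth.Statements.S0776
import Groth.Agent.Et18.DC.Apps
-- import your own Groth.Agent.* helpers here

set_option autoImplicit false
open CategoryTheory CategoryTheory.Limits AlgebraicGeometry Opposite
universe u
open ProEtDC

namespace Groth.Agent.S0776

/-- For a Noetherian ring L (value universe) and an ideal I, the sheaf L^ = lim_n L/I^n (limit of
constant sheaves) on X_proet is derived complete with respect to I. -/
theorem result (X : Scheme.{u}) (Λ : Type (u + 1)) [CommRing Λ]
    [IsNoetherianRing Λ] (I : Ideal Λ) : ProEtDC.IsDCSheaf Λ I (ProEtDC.lambdaHat Λ X I) := by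
  exact Et18.DC.isDCSheaf_lambdaHat

end Groth.Agent.S0776
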