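import Groth.Statements.S0781
import Mathlib.AlgebraicGeometry.Morphisms.Etale

set_option autoImplicit false
open CategoryTheory CategoryTheory.Limits AlgebraicGeometry Opposite
universe u
open Desc

namespace Groth.Agent.S0781

/-- If p : X → S is a surjective morphism of schemes, then for schemes U₁, U₂ étale over S, two
S-morphisms U₁ → U₂ whose base changes to X agree, as morphisms of canonical descent data relative
to p, are equal; that is, the canonical-descent-datum functor is faithful on schemes étale over S.
(Descent data are taken in functor-of-points form, equivalent by the Yoneda lemma to an isomorphism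
over X ×_S X satisfying the cocycle condition.) -/
theorem result {X S : Scheme.{u}} (p : X ⟶ S) [Surjective p] (U₁ U₂ : Over S)
    [Etale U₁.hom] [Etale U₂.hom] : Function.Injective ((Desc.toDD p).map : (U₁ ⟶ U₂) → _) := by
  intro a b hab
  have h : (Desc.SchDD.Hom.hom ((Desc.toDD p).map a)).left = (Desc.SchDD.Hom.hom ((Desc.toDD p).map b)).left := by rw [hab]
  have h2 := h =≫ pullback.snd p U₂.hom
  simp only [Desc.toDD, pullback.map] at h2
  erw [pullback.lift_snd, pullback.lift_snd] at h2
  let j := pullback.fst (pullback.diagonal U₂.hom) (pullback.lift a.left b.left ((Over.w a).trans (Over.w b).symm))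
  let i := pullback.snd (pullback.diagonal U₂.hom) (pullback.lift a.left b.left ((Over.w a).trans (Over.w b).symm))
  have hi : i ≫ a.left = i ≫ b.left := by
    have h1 := pullback.condition (f := pullback.diagonal U₂.hom) (g := pullback.lift a.left b.left ((Over.w a).trans (Over.w b).symm))
    have h3 := h1 =≫ pullback.fst U₂.hom U₂.hom
    have h4 := h1 =≫ pullback.snd U₂.hom U₂.hom
    simp only [Category.assoc, pullback.diagonal_fst, pullback.diagonal_snd, pullback.lift_fst, pullback.lift_snd, Category.comp_id] at h3 h4
    exact h3.symm.trans h4
  let l : pullback p U₁.hom ⟶ pullback (pullback.diagonal U₂.hom) (pullback.lift a.left b.left ((Over.w a).trans (Over.w b).symm)) :=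
    pullback.lift (pullback.snd p U₁.hom ≫ a.left) (pullback.snd p U₁.hom) (by
      apply pullback.hom_ext
      · simp only [Category.assoc, pullback.diagonal_fst, Category.comp_id]
        erw [pullback.lift_fst]
      · simp only [Category.assoc, pullback.diagonal_snd, pullback.lift_snd, Category.comp_id]; exact h2)
  haveI : Surjective (pullback.snd p U₁.hom) := ⟨Set.range_eq_univ.1 (by rw [Scheme.Pullback.range_snd, p.surjective.range_eq, Set.preimage_univ])⟩
  haveI : Surjective (l ≫ i) := by rw [show l ≫ i = pullback.snd p U₁.hom from pullback.lift_snd _ _ _]; infer_instance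
  haveI : Surjective i := Surjective.of_comp l i
  haveI : IsOpenImmersion i := inferInstance
  haveI : IsIso i := (isIso_iff_isOpenImmersion_and_epi_base i).2 ⟨inferInstance, (TopCat.epi_iff_surjective _).2 i.surjective⟩
  exact Over.OverMorphism.ext ((cancel_epi i).1 hi)

end Groth.Agent.S0781
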