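import Groth.Statements.S0784
import Groth.Agent.HenselLib.Idem
import Groth.Agent.FEtDesc.Fpqc
import Mathlib.AlgebraicGeometry.ZariskisMainTheorem

set_option autoImplicit false
open CategoryTheory CategoryTheory.Limits AlgebraicGeometry Opposite
universe u
open Desc

set_option backward.isDefEq.respectTransparency.types false
set_option backward.isDefEq.respectTransparency false

namespace Groth.Agent.S0784


/-- Let (A, I) be a henselian pair and g : U ⟶ Spec A quasi-compact, separated and etale such that the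
base change of U to Spec(A/I) is finite over Spec(A/I). Then U is the disjoint union of an open and
closed subscheme finite over Spec A and an open and closed subscheme with no points lying over V(I). -/
theorem result (A : Type u) [CommRing A] (I : Ideal A) [HenselianRing A I]
    {U : Scheme.{u}} (g : U ⟶ Spec (CommRingCat.of A)) [QuasiCompact g] [IsSeparated g] [Etale g]
    (hfin : IsFinite (pullback.snd g (Spec.map (CommRingCat.ofHom (Ideal.Quotient.mk I))))) :
    ∃ W : U.Opens, IsClosed (W : Set U) ∧ IsFinite (W.ι ≫ g) ∧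
      ∀ u : U, u ∉ W → ¬ I ≤ (g.base u : PrimeSpectrum A).asIdeal := by
  haveI : IsAffine g.normalization := isAffine_of_isAffineHom g.fromNormalization
  obtain ⟨φ, hφ⟩ := Spec.map_surjective (g.normalization.isoSpec.inv ≫ g.fromNormalization)
    (R := CommRingCat.of A) (S := Γ(g.normalization, ⊤))
  let j : U ⟶ Spec Γ(g.normalization, ⊤) := g.toNormalization ≫ g.normalization.isoSpec.hom
  haveI := Groth.Agent.FEtDesc.locallyQuasiFinite_of_formallyUnramified g
  haveI : IsOpenImmersion j := inferInstance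
  have hjφ : j ≫ Spec.map φ = g := by
    simp only [j, hφ, Category.assoc, Iso.hom_inv_id_assoc, Scheme.Hom.toNormalization_fromNormalization]
  haveI : IsIntegralHom (Spec.map φ) := by rw [hφ]; infer_instance
  algebraize [φ.hom]
  let B := Γ(g.normalization, ⊤)
  haveI : Algebra.IsIntegral A B := Algebra.isIntegral_def.2 fun x => (IsIntegralHom.SpecMap_iff.1 ‹_›) x
  let J : Ideal B := I.map (algebraMap A B)
  let m := pullback.fst g (Spec.map (CommRingCat.ofHom (Ideal.Quotient.mk I))) ≫ j
  haveI : IsFinite m := by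
    have h1 : m ≫ Spec.map φ = pullback.snd g (Spec.map (CommRingCat.ofHom (Ideal.Quotient.mk I))) ≫
        Spec.map (CommRingCat.ofHom (Ideal.Quotient.mk I)) := by
      simp only [m, Category.assoc, hjφ]; exact pullback.condition
    haveI := hfin
    haveI : IsFinite (Spec.map (CommRingCat.ofHom (Ideal.Quotient.mk I))) :=
      (IsFinite.SpecMap_iff _).2 (RingHom.Finite.of_surjective _ Ideal.Quotient.mk_surjective)
    haveI : IsFinite (m ≫ Spec.map φ) := by rw [h1]; infer_instance
    exact IsFinite.of_comp m (Spec.map φ)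
  have hU0 : Set.range m = Set.range j ∩ PrimeSpectrum.zeroLocus (J : Set B) := by
    have hr : Set.range (pullback.fst g (Spec.map (CommRingCat.ofHom (Ideal.Quotient.mk I)))) =
        g ⁻¹' PrimeSpectrum.zeroLocus (I : Set A) := by
      rw [Scheme.Pullback.range_fst]
      congr 1
      exact (range_comap_of_surjective _ _ Ideal.Quotient.mk_surjective).trans (by rw [Ideal.mk_ker])
    have hg : ∀ u : U, g u ∈ PrimeSpectrum.zeroLocus (I : Set A) ↔ j u ∈ PrimeSpectrum.zeroLocus (J : Set B) :=
      fun u => by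
        have hu : g u = Spec.map φ (j u) := by rw [← Scheme.Hom.comp_apply, hjφ]
        rw [hu]
        show I ≤ (PrimeSpectrum.comap φ.hom (j u)).asIdeal ↔ J ≤ (j u).asIdeal
        exact Ideal.map_le_iff_le_comap.symm
    ext x
    constructor
    · rintro ⟨z, rfl⟩
      have : pullback.fst g (Spec.map (CommRingCat.ofHom (Ideal.Quotient.mk I))) z ∈
          g ⁻¹' PrimeSpectrum.zeroLocus (I : Set A) := hr ▸ ⟨z, rfl⟩
      exact ⟨⟨_, rfl⟩, (hg _).1 this⟩
    · rintro ⟨⟨u, rfl⟩, hu⟩
      obtain ⟨z, hz⟩ : u ∈ Set.range (pullback.fst g (Spec.map (CommRingCat.ofHom (Ideal.Quotient.mk I)))) := by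
        rw [hr]; exact (hg u).2 hu
      exact ⟨z, by simp only [m, Scheme.Hom.comp_apply, hz]⟩
  let c := PrimeSpectrum.comap (Ideal.Quotient.mk J)
  have hclop : IsClopen (c ⁻¹' Set.range m) := by
    refine ⟨m.isClosedMap.isClosed_range.preimage (PrimeSpectrum.continuous_comap _), ?_⟩
    have h2 : c ⁻¹' Set.range m = c ⁻¹' Set.range j := by
      ext q
      simp only [Set.mem_preimage, hU0, Set.mem_inter_iff, and_iff_left_iff_imp]
      intro _
      show (J : Set B) ⊆ _
      intro a ha
      show Ideal.Quotient.mk J a ∈ q.asIdeal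
      rw [Ideal.Quotient.eq_zero_iff_mem.2 ha]
      exact q.asIdeal.zero_mem
    rw [h2]
    exact j.isOpenEmbedding.isOpen_range.preimage (PrimeSpectrum.continuous_comap _)
  obtain ⟨e₀, he₀, heq⟩ := PrimeSpectrum.isClopen_iff.1 hclop
  obtain ⟨b, rfl⟩ := Ideal.Quotient.mk_surjective e₀
  obtain ⟨e, he, heb⟩ := Groth.Agent.HenselLib.exists_idempotent I b
    ((Ideal.Quotient.mk_eq_mk_iff_sub_mem _ _).1 (by rw [map_mul]; exact he₀.eq))
  let D : TopologicalSpace.Opens (PrimeSpectrum B) := PrimeSpectrum.basicOpen e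
  have hD : IsClosed (D : Set (PrimeSpectrum B)) :=
    (PrimeSpectrum.isClopen_iff.2 ⟨e, he, rfl⟩).1
  have hDZ : ∀ q : PrimeSpectrum B, J ≤ q.asIdeal → (q ∈ D ↔ q ∈ Set.range m) := fun q hq => by
    obtain ⟨q', rfl⟩ : q ∈ Set.range c := by
      rw [range_comap_of_surjective _ _ Ideal.Quotient.mk_surjective, Ideal.mk_ker]; exact hq
    have h3 : Ideal.Quotient.mk J e = Ideal.Quotient.mk J b := (Ideal.Quotient.mk_eq_mk_iff_sub_mem _ _).2 heb
    show Ideal.Quotient.mk J e ∉ q'.asIdeal ↔ q' ∈ c ⁻¹' Set.range m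
    rw [heq, h3]
    rfl
  have hDj : (D : Set (PrimeSpectrum B)) ⊆ Set.range j := by
    intro q hq
    by_contra hn
    have hC : IsClosed ((Spec.map φ) '' ((D : Set (PrimeSpectrum B)) \ Set.range j)) :=
      (Spec.map φ).isClosedMap _ (hD.sdiff j.isOpenEmbedding.isOpen_range)
    obtain ⟨M, hM, hle⟩ := Ideal.exists_le_maximal (Spec.map φ q).asIdeal (Spec.map φ q).isPrime.ne_top
    have hsp : Spec.map φ q ⤳ (⟨M, hM.isPrime⟩ : PrimeSpectrum A) :=
      (PrimeSpectrum.le_iff_specializes _ _).1 hle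
    obtain ⟨q', hq', hq'M⟩ := hsp.mem_closed hC ⟨q, ⟨hq, hn⟩, rfl⟩
    refine hq'.2 ?_
    have hJ : J ≤ q'.asIdeal := Ideal.map_le_iff_le_comap.2 (by
      show I ≤ (Spec.map φ q').asIdeal
      rw [hq'M]
      exact (HenselianRing.jac (R := A) (I := I)).trans (sInf_le ⟨bot_le, hM⟩))
    exact (hU0 ▸ (hDZ q' hJ).1 hq'.1 : q' ∈ Set.range j ∩ PrimeSpectrum.zeroLocus (J : Set B)).1
  let W : U.Opens := j ⁻¹ᵁ D
  refine ⟨W, hD.preimage j.continuous, ?_, fun u hu hI => hu ?_⟩
  · haveI : IsClosedImmersion (W.ι ≫ j) := IsClosedImmersion.of_isPreimmersion _ (by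
      have : Set.range (W.ι ≫ j) = (D : Set (PrimeSpectrum B)) := by
        ext x
        constructor
        · rintro ⟨w, rfl⟩; rw [Scheme.Hom.comp_apply]; exact w.2
        · intro hx
          obtain ⟨u, rfl⟩ := hDj hx
          exact ⟨⟨u, hx⟩, Scheme.Hom.comp_apply _ _ _⟩
      exact this ▸ hD)
    haveI : IsIntegralHom (W.ι ≫ g) := by
      rw [← hjφ, ← Category.assoc]; infer_instance
    exact (IsFinite.iff_isIntegralHom_and_locallyOfFiniteType _).2 ⟨inferInstance, inferInstance⟩
  · have hJ : J ≤ (j u).asIdeal := Ideal.map_le_iff_le_comap.2 (by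
      show I ≤ (Spec.map φ (j u)).asIdeal
      rw [← Scheme.Hom.comp_apply, hjφ]
      exact hI)
    exact (hDZ _ hJ).2 (hU0 ▸ ⟨⟨u, rfl⟩, hJ⟩)

end Groth.Agent.S0784
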