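import Groth.Statements.S0785
import Groth.Agent.CommAlg6.FlatLocalModule
import Groth.Agent.CAlgH3.Depth
import Mathlib.RingTheory.Smooth.Flat
import Mathlib.RingTheory.Unramified.LocalRing
import Mathlib.RingTheory.Flat.Localization

set_option autoImplicit false
universe u
open Desc

namespace Groth.Agent.S0785

/-- Let A → B be a local homomorphism of Noetherian local rings which is etale in the sense that B is
the localization at a prime of an etale A-algebra. Then A and B have the same depth. -/
theorem result (A B : Type u) [CommRing A] [CommRing B] [IsLocalRing A] [IsLocalRing B]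
    [IsNoetherianRing A] [IsNoetherianRing B] [Algebra A B] [IsLocalHom (algebraMap A B)]
    (E : Type u) [CommRing E] [Algebra A E] [Algebra.Etale A E] (P : Ideal E) [P.IsPrime]
    [Algebra E B] [IsScalarTower A E B] [IsLocalization.AtPrime B P] :
    LocCoh.depth A A = LocCoh.depth B B := by
  haveI : Module.Flat E B := IsLocalization.flat B P.primeCompl
  haveI : Module.Flat A B := Module.Flat.trans A E B
  haveI : Algebra.FormallyUnramified E B := Algebra.FormallyUnramified.of_isLocalization P.primeCompl
  haveI : Algebra.FormallyUnramified A B := Algebra.FormallyUnramified.comp A E B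
  haveI : Algebra.EssFiniteType E B := Algebra.EssFiniteType.of_isLocalization B P.primeCompl
  haveI : Algebra.EssFiniteType A B := Algebra.EssFiniteType.comp A E B
  have h := Groth.Agent.CommAlg6.depth_tensor_eq (A := A) (B := B) B A
  rw [Groth.Agent.CAlgH3.depth_congr (TensorProduct.AlgebraTensorModule.rid A B B)] at h
  rw [h]
  suffices H : LocCoh.depth B (B ⧸ (IsLocalRing.maximalIdeal A).map (algebraMap A B) • (⊤ : Submodule B B)) = 0 by
    rw [H, add_zero]
  rw [Algebra.FormallyUnramified.map_maximalIdeal, Ideal.smul_eq_mul, Ideal.mul_top]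
  haveI : Nontrivial (B ⧸ IsLocalRing.maximalIdeal B) :=
    Ideal.Quotient.nontrivial_iff.mpr (IsLocalRing.maximalIdeal.isMaximal B).ne_top
  rw [Groth.Agent.CAlgH3.depth_eq_zero_iff]
  rw [associatedPrimes.eq_singleton_of_isPrimary (IsLocalRing.maximalIdeal.isMaximal B).isPrime.isPrimary, Ideal.IsPrime.radical (IsLocalRing.maximalIdeal.isMaximal B).isPrime]; exact Set.mem_singleton _

end Groth.Agent.S0785
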