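import Groth.Statements.S0799
import Groth.Agent.Coherent.Existence.ProperSupport
-- import your own Groth.Agent.* helpers here

set_option autoImplicit false
universe u
open Formal

namespace Groth.Agent.S0799

open CategoryTheory AlgebraicGeometry Opposite in
/-- Grothendieck's existence Theorem with proper support, essential surjectivity half. Let A be a
Noetherian ring complete with respect to an ideal I, and X a scheme separated and of finite type
over Spec A. Let (G_n) be a coherent formal module for I on X (coherent terms, the term in position
n killed by I^{n+1}, transitions identifying G_n with G_{n+1}/I^{n+1}G_{n+1}; indices shifted by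
one) such that the support of its first term is proper over Spec A. Then there is a coherent
O_X-module M whose support is proper over Spec A and whose system (M/I^{n+1}M) is isomorphic to
(G_n). -/
theorem result (A : Type u) [CommRing A] [IsNoetherianRing A]
    (I : Ideal A) [IsAdicComplete I A] (X : Scheme.{u}) [X.Over (Spec (CommRingCat.of A))]
    [IsSeparated (X ↘ Spec (CommRingCat.of A))] [LocallyOfFiniteType (X ↘ Spec (CommRingCat.of A))]
    [QuasiCompact (X ↘ Spec (CommRingCat.of A))] (G : ℕᵒᵖ ⥤ X.Modules) (hG : Formal.IsCohFormal I G)
    (hGs : ClSub.IsProperOver (X ↘ Spec (CommRingCat.of A)) (CohB1.support (G.obj (op 0)))) :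
    ∃ M : X.Modules, Coh.IsCoh M ∧
      ClSub.IsProperOver (X ↘ Spec (CommRingCat.of A)) (CohB1.support M) ∧
      Nonempty (Formal.completion I M ≅ G) := by
  exact Groth.Agent.Coherent.Existence.algebraizable_of_properSupport X G hG hGs

end Groth.Agent.S0799
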