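import Groth.Statements.S0801
import Groth.Agent.Formal2Lib.SectionsLimit

set_option autoImplicit false
universe u
open Formal2

namespace Groth.Agent.S0801

open AlgebraicGeometry in
/-- Let A be a Noetherian ring that is complete for the f-adic topology, where f lies in an ideal 𝔞, let
M be a finite A-module, and assume the local cohomology modules H^1_𝔞(M) and H^2_𝔞(M) are each
annihilated by a power of f. Then, with U the complement of V(𝔞) in Spec A, the canonical map from
the sections of M~ over U to the limit of the sections of (M/f^nM)~ over U is bijective (sections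
are taken as degree-0 cohomology over U). -/
theorem result (A : Type u) [CommRing A]
    [IsNoetherianRing A] (𝔞 : Ideal A) (f : A) (hf : f ∈ 𝔞) [IsAdicComplete (Ideal.span {f}) A]
    (M : Type u) [AddCommGroup M] [Module A M] [Module.Finite A M]
    (h₁ : ∃ n : ℕ, ∀ x : LocCoh.H 𝔞 1 M, f ^ n • x = 0) (h₂ : ∃ n : ℕ, ∀ x : LocCoh.H 𝔞 2 M, f ^ n • x = 0) :
    Formal2.FormalCohBijective A (Ideal.span {f}) M 0 (LocCoh.puncturedOpen A 𝔞) := by
  obtain ⟨n₁, hn₁⟩ := h₁
  obtain ⟨n₂, hn₂⟩ := h₂
  have kill₁ : ∀ x : LocCoh.H 𝔞 1 M, f ^ (n₁ + n₂) • x = 0 := fun x => by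
    rw [add_comm, pow_add, mul_smul, hn₁, smul_zero]
  have kill₂ : ∀ x : LocCoh.H 𝔞 2 M, f ^ (n₁ + n₂) • x = 0 := fun x => by
    rw [pow_add, mul_smul, hn₂, smul_zero]
  obtain ⟨hi, hs⟩ := Groth.Agent.Formal2Lib.SecU.sections_bijective (R := CommRingCat.of A) f 𝔞 (ModuleCat.of A M)
    kill₁ kill₂ (fun n => Formal2.quotPowTrans A (Ideal.span {f}) M n)
    (fun n => LinearMap.ext fun x => rfl)
  refine ⟨fun x x' h => sub_eq_zero.1 (hi (x - x') fun n => ?_), hs⟩
  exact (map_sub _ x x').trans (sub_eq_zero.2 (h n))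

end Groth.Agent.S0801
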