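import Groth.Statements.S0802
import Groth.Agent.Formal2Lib.SectionsColim

set_option autoImplicit false
universe u
open Formal2

namespace Groth.Agent.S0802

open AlgebraicGeometry in
/-- Let A be a Noetherian ring, f an element of an ideal 𝔞, and M a finite A-module on which f acts as a
nonzerodivisor; suppose A is complete for the f-adic topology and H^1_𝔞(M/fM) is a finite A-module.
Then, with U the complement of V(𝔞), the canonical map from the colimit of the sections of M~ over
the opens V ⊆ U containing U ∩ V(f) to the limit of the sections of (M/f^nM)~ over U is bijective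
(in the elementwise formulation of the prelude, degree-0 cohomology standing for sections). -/
theorem result (A : Type u) [CommRing A] [IsNoetherianRing A]
    (𝔞 : Ideal A) (f : A) (hf : f ∈ 𝔞) [IsAdicComplete (Ideal.span {f}) A]
    (M : Type u) [AddCommGroup M] [Module A M] [Module.Finite A M] (hreg : IsSMulRegular M f)
    (hfin : Module.Finite A (LocCoh.H 𝔞 1 (M ⧸ (Ideal.span {f} • (⊤ : Submodule A M))))) :
    Formal2.FormalCohColimBijective A (Ideal.span {f}) M 0 (LocCoh.puncturedOpen A 𝔞) := by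
  have hz : ∀ p : Spec (CommRingCat.of A),
      p ∈ PrimeSpectrum.zeroLocus (R := A) (Ideal.span ({f} : Set A) : Set A) ↔ f ∈ p.asIdeal := fun p => by
    show ((Ideal.span ({f} : Set A) : Set A) ⊆ (p.asIdeal : Set A)) ↔ _
    rw [SetLike.coe_subset_coe, Ideal.span_le, Set.singleton_subset_iff]
    rfl
  obtain ⟨h1, h2⟩ := Groth.Agent.Formal2Lib.SecU.sections_colim_bijective (R := CommRingCat.of A) f 𝔞
    (ModuleCat.of A M) hreg hfin (fun n => quotPowTrans A (Ideal.span {f}) M n) (fun n m => rfl)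
  refine ⟨fun V hV x hx => ?_, fun y hy => ?_⟩
  · obtain ⟨V', ⟨⟨hV1, hV2⟩, hle⟩, hx'⟩ := h1 V ⟨hV.1, fun p hp hf' => hV.2 p hp ((hz p).2 hf')⟩ x hx
    exact ⟨V', ⟨⟨hV1, fun p hp hp' => hV2 p hp ((hz p).1 hp')⟩, hle⟩, hx'⟩
  · obtain ⟨V, ⟨hV1, hV2⟩, x, hx⟩ := h2 y hy
    exact ⟨V, ⟨hV1, fun p hp hp' => hV2 p hp ((hz p).1 hp')⟩, x, hx⟩

end Groth.Agent.S0802
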