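import Groth.Statements.S0803
import Groth.Agent.Formal2Lib.CohLimit

set_option autoImplicit false
universe u
open Formal2

namespace Groth.Agent.S0803

open AlgebraicGeometry in
/-- Let A be a Noetherian ring that is complete for the f-adic topology, where f lies in an ideal 𝔞, let
M be a finite A-module and s ≥ 0, and assume H^i_𝔞(M) is annihilated by a power of f for every i ≤ s
+ 1. Then, with U the complement of V(𝔞), the canonical map H^i(U, M~) → lim_n H^i(U, (M/f^nM)~) is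
bijective for every i < s. -/
theorem result (A : Type u) [CommRing A]
    [IsNoetherianRing A] (𝔞 : Ideal A) (f : A) (hf : f ∈ 𝔞) [IsAdicComplete (Ideal.span {f}) A]
    (M : Type u) [AddCommGroup M] [Module A M] [Module.Finite A M] (s : ℕ)
    (h : ∀ i : ℕ, i ≤ s + 1 → ∃ n : ℕ, ∀ x : LocCoh.H 𝔞 i M, f ^ n • x = 0) (i : ℕ) (hi : i < s) :
    Formal2.FormalCohBijective A (Ideal.span {f}) M i (LocCoh.puncturedOpen A 𝔞) := by
  have kill : ∀ j : ℕ, j ≤ s + 1 → ∀ N : ℕ, (∀ x : LocCoh.H 𝔞 j M, f ^ N • x = 0) → ∀ k, N ≤ k →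
      ∀ x : LocCoh.H 𝔞 j M, f ^ k • x = 0 := fun j _ N hN k hk x => by
    rw [← Nat.sub_add_cancel hk, pow_add, mul_smul, hN, smul_zero]
  obtain ⟨n₁, hn₁⟩ := h (i + 1) (by omega)
  obtain ⟨n₂, hn₂⟩ := h (i + 2) (by omega)
  have k₁ := kill (i + 1) (by omega) n₁ hn₁ (n₁ + n₂) (by omega)
  have k₂ := kill (i + 2) (by omega) n₂ hn₂ (n₁ + n₂) (by omega)
  rcases i with _ | q
  · obtain ⟨hi', hs⟩ := Groth.Agent.Formal2Lib.SecU.sections_bijective (R := CommRingCat.of A) f 𝔞 (ModuleCat.of A M)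
      k₁ k₂ (fun n => Formal2.quotPowTrans A (Ideal.span {f}) M n)
      (fun n => LinearMap.ext fun x => rfl)
    refine ⟨fun x x' h => sub_eq_zero.1 (hi' (x - x') fun n => ?_), hs⟩
    exact (map_sub _ x x').trans (sub_eq_zero.2 (h n))
  · obtain ⟨hi', hs⟩ := Groth.Agent.Formal2Lib.SecU.coh_bijective (R := CommRingCat.of A) f 𝔞 (ModuleCat.of A M)
      q k₁ k₂ (fun n => Formal2.quotPowTrans A (Ideal.span {f}) M n)
      (fun n => LinearMap.ext fun x => rfl)
    refine ⟨fun x x' h => sub_eq_zero.1 (hi' (x - x') fun n => ?_), hs⟩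
    exact (map_sub _ x x').trans (sub_eq_zero.2 (h n))

end Groth.Agent.S0803

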