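import Groth.Statements.S0813
import Groth.Agent.Formal2Lib.PicCompletion
import Groth.Agent.PicLib.FormalGen
import Groth.Agent.CommAlg6.CompletionEquidim
import Groth.Agent.LocCoh.DepthLocal

set_option autoImplicit false
universe u
open Formal2

namespace Groth.Agent.S0813

open CategoryTheory AlgebraicGeometry in
/-- Let (A, 𝔪) be a Noetherian local ring of depth at least 2, A^ its 𝔪-adic completion, U the punctured
spectrum of A and U^ its preimage in Spec A^ (the punctured spectrum of A^). Then an invertible
O_U-module whose pullback to U^ is trivial is trivial. -/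
theorem result (A : Type u) [CommRing A] [IsNoetherianRing A]
    [IsLocalRing A] (hdepth : (2 : ℕ∞) ≤ LocCoh.depth A A) :
    Formal2.PicPullbackInjective
      (Spec.map (CommRingCat.ofHom (algebraMap A (AdicCompletion (IsLocalRing.maximalIdeal A) A))) ∣_
        FEt.puncturedSpec A) := by
  intro L hL h
  let B := AdicCompletion (IsLocalRing.maximalIdeal A) A
  have := Groth.Agent.CommAlg6.isLocalHom_completion A
  have : Module.FaithfullyFlat A B := Module.FaithfullyFlat.of_flat_of_isLocalHom
  have hd : ((2 : ℕ) : ℕ∞) ≤ _root_.LocCoh.idealDepth ((IsLocalRing.maximalIdeal A).map (algebraMap A B)) B :=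
    (show ((2 : ℕ) : ℕ∞) ≤ _root_.LocCoh.idealDepth (IsLocalRing.maximalIdeal A) A from hdepth).trans
      ((((Groth.Agent.LocCoh.idealDepth_baseChange B (IsLocalRing.maximalIdeal A) A).2 ‹_›).symm).le.trans
        (le_of_eq (Groth.Agent.CAlgH3.idealDepth_congr _ (TensorProduct.AlgebraTensorModule.rid A B B))))
  exact Groth.Agent.Formal2Lib.Punct.nonempty_iso_of_pullback (IsLocalRing.maximalIdeal A)
    ((Groth.Agent.LocCoh.natCast_le_idealDepth_iff_H (I := (IsLocalRing.maximalIdeal A).map (algebraMap A B)) (M := B) (n := 2)).1 hd) (FEt.puncturedSpec A)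
    (Groth.Agent.Formal2Lib.Punct.puncturedSpec_eq A) L (Groth.Agent.PicLib.isCoh_of_isInvertible hL) h

end Groth.Agent.S0813
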