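import Groth.Statements.S0815
import Groth.Agent.LocCoh.ConnDimRing
import Groth.Agent.LocCoh.NonVanishing
import Groth.Agent.CAlgH3.CohenMacaulay
-- import your own Groth.Agent.* helpers here

set_option autoImplicit false
universe u
open Formal2

namespace Groth.Agent.S0815

theorem closedPoint_mem_of_nonempty {A : Type u} [CommRing A] [IsLocalRing A] {C : Set (PrimeSpectrum A)} (hC : IsClosed C)
    (hne : C.Nonempty) : IsLocalRing.closedPoint A ∈ C :=
  let ⟨y, hy⟩ := hne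
  ((PrimeSpectrum.le_iff_specializes _ _).1 (IsLocalRing.le_maximalIdeal y.isPrime.ne_top)).mem_closed hC hy

/-- If a closed piece `C` is the closure of points outside `Z`, then `C ∩ Z` has smaller dimension than `C`. -/
theorem dim_lt_of_closure {A : Type u} [CommRing A] [IsNoetherianRing A] [IsLocalRing A] (S : Set (PrimeSpectrum A))
    {Z : Set (PrimeSpectrum A)} (hZ : IsClosed Z) (hS : Disjoint S Z) {J : Ideal A} (hJ : J ≠ ⊤)
    (hJZ : PrimeSpectrum.zeroLocus (J : Set A) ⊆ closure S ∩ Z) :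
    ringKrullDim (A ⧸ J) < ringKrullDim (A ⧸ PrimeSpectrum.vanishingIdeal S) := by
  classical
  let b := PrimeSpectrum.vanishingIdeal S
  have hzb : PrimeSpectrum.zeroLocus (b : Set A) = closure S := PrimeSpectrum.zeroLocus_vanishingIdeal_eq_closure S
  obtain ⟨q, hq, hJq, hdq⟩ := Groth.Agent.LocCoh.exists_prime_ringKrullDim_quotient_eq hJ
  haveI := hq
  have hqS := hJZ (show (⟨q, hq⟩ : PrimeSpectrum A) ∈ PrimeSpectrum.zeroLocus (J : Set A) from hJq)
  have hbq : b ≤ q := (hzb.ge hqS.1 : (⟨q, hq⟩ : PrimeSpectrum A) ∈ PrimeSpectrum.zeroLocus (b : Set A))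
  obtain ⟨p, hp, hpq⟩ := Ideal.exists_minimalPrimes_le hbq
  haveI := hp.1.1
  have hpZ : (⟨p, hp.1.1⟩ : PrimeSpectrum A) ∉ Z := fun hpZ => by
    have hfin := Ideal.finite_minimalPrimes_of_isNoetherianRing A b
    let others := hfin.toFinset.erase p
    let C : Set (PrimeSpectrum A) := ⋃ p' ∈ others, PrimeSpectrum.zeroLocus (p' : Set A)
    have hC : IsClosed C := isClosed_biUnion_finset fun p' _ => PrimeSpectrum.isClosed_zeroLocus _
    have hSC : S ⊆ C := by
      intro y hy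
      have hby : b ≤ y.asIdeal := (hzb.ge (subset_closure hy) : y ∈ PrimeSpectrum.zeroLocus (b : Set A))
      obtain ⟨p', hp', hp'y⟩ := Ideal.exists_minimalPrimes_le hby
      refine Set.mem_biUnion (Finset.mem_erase.2 ⟨?_, hfin.mem_toFinset.2 hp'⟩) hp'y
      rintro rfl
      exact Set.disjoint_left.1 hS hy (((PrimeSpectrum.le_iff_specializes (⟨p', hp.1.1⟩ : PrimeSpectrum A) y).1 hp'y).mem_closed hZ hpZ)
    have h1 : (⟨p, hp.1.1⟩ : PrimeSpectrum A) ∈ closure S := hzb.le hp.1.2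
    obtain ⟨p', hp', hp'p⟩ := Set.mem_iUnion₂.1 ((closure_minimal hSC hC) h1)
    obtain ⟨hne, hp'm⟩ := Finset.mem_erase.1 hp'
    rw [hfin.mem_toFinset] at hp'm
    exact hne (le_antisymm hp'p (hp.2 hp'm.1 hp'p))
  have hlt : p < q := lt_of_le_of_ne hpq fun e => hpZ (by
    have : (⟨p, hp.1.1⟩ : PrimeSpectrum A) = ⟨q, hq⟩ := PrimeSpectrum.ext e
    rw [this]; exact hqS.2)
  have h3 := (Groth.Agent.CAlgH3.ringKrullDim_quotient_add_one_le hlt).trans
    (ringKrullDim_le_of_surjective (Ideal.Quotient.factor hp.1.2) (Ideal.Quotient.factor_surjective _))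
  rw [hdq] at h3
  obtain ⟨n, hn⟩ := Groth.Agent.LocCoh.exists_dim_quotient_eq J hJ
  have hb : b ≠ ⊤ := ne_top_of_le_ne_top hq.ne_top hbq
  obtain ⟨m, hm⟩ := Groth.Agent.LocCoh.exists_dim_quotient_eq b hb
  rw [hn, hm] at h3
  rw [hn, hm]
  have : n + 1 ≤ m := by exact_mod_cast h3
  exact_mod_cast (by omega : n < m)


open CategoryTheory AlgebraicGeometry in
/-- Let (A, 𝔪) be a complete Noetherian local ring, I a proper ideal, e a bound for the cohomological
dimension of I, and Z ⊆ V(I) a closed subset of Spec A. Assume that dim Z + e + 1 < dim A/𝔭 for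
every minimal prime 𝔭 of A, and that dim Z + e < dim Z' for every closed subset Z' of Spec A whose
complement is not connected (the empty complement counts as not connected). Then V(I) ∖ Z is
connected, in particular nonempty. -/
theorem result (A : Type u) [CommRing A] [IsNoetherianRing A] [IsLocalRing A]
    [IsAdicComplete (IsLocalRing.maximalIdeal A) A] (I : Ideal A) (hI : I ≠ ⊤) (e : ℕ) (he : LocCoh.CdLE A I e)
    (Z : Set (PrimeSpectrum A)) (hZ : IsClosed Z) (hZI : Z ⊆ PrimeSpectrum.zeroLocus (I : Set A))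
    (hdim : ∀ p ∈ minimalPrimes A, topologicalKrullDim Z + ((e + 1 : ℕ) : WithBot ℕ∞) < ringKrullDim (A ⧸ p))
    (hc : ∀ Z' : Set (PrimeSpectrum A), IsClosed Z' → ¬ _root_.IsConnected Z'ᶜ →
      topologicalKrullDim Z + ((e : ℕ) : WithBot ℕ∞) < topologicalKrullDim Z') :
    _root_.IsConnected (PrimeSpectrum.zeroLocus (I : Set A) \ Z) := by
  classical
  rcases Z.eq_empty_or_nonempty with rfl | hZne
  · rw [Set.diff_empty]
    have hm : IsLocalRing.closedPoint A ∈ PrimeSpectrum.zeroLocus (I : Set A) := IsLocalRing.le_maximalIdeal hI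
    refine ⟨⟨_, hm⟩, isPreconnected_closed_iff.2 fun C₁ C₂ h₁ h₂ _ hne₁ hne₂ =>
      ⟨_, hm, closedPoint_mem_of_nonempty h₁ ⟨_, hne₁.some_mem.2⟩, closedPoint_mem_of_nonempty h₂ ⟨_, hne₂.some_mem.2⟩⟩⟩
  let z := PrimeSpectrum.vanishingIdeal Z
  have hzz : PrimeSpectrum.zeroLocus (z : Set A) = Z := by
    rw [PrimeSpectrum.zeroLocus_vanishingIdeal_eq_closure, hZ.closure_eq]
  have hz : z ≠ ⊤ := fun h => by
    rw [h, Submodule.top_coe, PrimeSpectrum.zeroLocus_univ] at hzz
    exact hZne.ne_empty hzz.symm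
  have hdZ : topologicalKrullDim ↥Z = ringKrullDim (A ⧸ z) := by
    rw [← Groth.Agent.LocCoh.topDim_zeroLocus z, hzz]
  obtain ⟨δ, hδ⟩ := Groth.Agent.LocCoh.exists_dim_quotient_eq z hz
  rw [hdZ, hδ] at hdim hc
  refine ⟨?_, isPreconnected_closed_iff.2 fun C₁ C₂ h₁ h₂ hcov hne₁ hne₂ => ?_⟩
  · by_contra hemp
    rw [Set.not_nonempty_iff_eq_empty, Set.diff_eq_empty] at hemp
    obtain ⟨p, hp⟩ := Ideal.nonempty_minimalPrimes (I := (⊥ : Ideal A)) bot_ne_top
    have hle : ringKrullDim (A ⧸ (I ⊔ p)) ≤ δ := by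
      rw [← Groth.Agent.LocCoh.topDim_zeroLocus, ← hδ, ← hdZ]
      exact Groth.Agent.LocCoh.topDim_mono ((PrimeSpectrum.zeroLocus_anti_mono (SetLike.coe_subset_coe.2 le_sup_left)).trans hemp)
    have h := Groth.Agent.LocCoh.dim_quotient_le_cd_add hp.1.1.ne_top hI he hle
    have h2 := hdim p hp
    refine absurd (h2.trans_le h) (not_lt.2 ?_)
    exact_mod_cast (by omega : e + δ ≤ δ + (e + 1))
  by_contra hempty
  rw [Set.not_nonempty_iff_eq_empty] at hempty
  let S : Set (PrimeSpectrum A) → Set (PrimeSpectrum A) := fun C => (PrimeSpectrum.zeroLocus (I : Set A) \ Z) ∩ C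
  suffices key : ∀ C C' : Set (PrimeSpectrum A), IsClosed C → IsClosed C' →
      PrimeSpectrum.zeroLocus (I : Set A) \ Z ⊆ C ∪ C' → (S C).Nonempty → (S C').Nonempty →
      (∀ x ∈ PrimeSpectrum.zeroLocus (I : Set A) \ Z, x ∈ C → x ∈ C' → False) →
      ringKrullDim (A ⧸ PrimeSpectrum.vanishingIdeal (S C')) ≤ ringKrullDim (A ⧸ PrimeSpectrum.vanishingIdeal (S C)) → False by
    have hd : ∀ x ∈ PrimeSpectrum.zeroLocus (I : Set A) \ Z, x ∈ C₁ → x ∈ C₂ → False :=
      fun x hx a b => (Set.eq_empty_iff_forall_notMem.1 hempty x) ⟨hx, a, b⟩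
    rcases le_total (ringKrullDim (A ⧸ PrimeSpectrum.vanishingIdeal (S C₂))) (ringKrullDim (A ⧸ PrimeSpectrum.vanishingIdeal (S C₁))) with h | h
    · exact key C₁ C₂ h₁ h₂ hcov hne₁ hne₂ hd h
    · exact key C₂ C₁ h₂ h₁ (by rwa [Set.union_comm]) hne₂ hne₁ (fun x hx a b => hd x hx b a) h
  intro C C' hC hC' hcov hne hne' hdis hord
  let a := PrimeSpectrum.vanishingIdeal (S C ∪ Z)
  let b := PrimeSpectrum.vanishingIdeal (S C')
  have hVI := PrimeSpectrum.isClosed_zeroLocus (I : Set A)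
  have hScl : ∀ C : Set (PrimeSpectrum A), IsClosed C → closure (S C) ⊆ PrimeSpectrum.zeroLocus (I : Set A) ∩ C :=
    fun C hC => closure_minimal (fun x hx => ⟨hx.1.1, hx.2⟩) (hVI.inter hC)
  have hza : PrimeSpectrum.zeroLocus (a : Set A) = closure (S C) ∪ Z := by
    rw [PrimeSpectrum.zeroLocus_vanishingIdeal_eq_closure, closure_union, hZ.closure_eq]
  have hzb : PrimeSpectrum.zeroLocus (b : Set A) = closure (S C') := PrimeSpectrum.zeroLocus_vanishingIdeal_eq_closure _
  have hnetop : ∀ (T : Set (PrimeSpectrum A)), T.Nonempty → PrimeSpectrum.vanishingIdeal T ≠ ⊤ := by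
    rintro T ⟨y, hy⟩ h
    exact y.isPrime.ne_top (top_le_iff.1 (h ▸ fun _ hf => (PrimeSpectrum.mem_vanishingIdeal _ _).1 hf y hy))
  have ha : a ≠ ⊤ := hnetop _ (hne.mono Set.subset_union_left)
  have hb : b ≠ ⊤ := hnetop _ hne'
  have hne3 : a ⊔ b ≠ ⊤ := ne_top_of_le_ne_top (IsLocalRing.maximalIdeal.isMaximal A).ne_top
    (sup_le (IsLocalRing.le_maximalIdeal ha) (IsLocalRing.le_maximalIdeal hb))
  have hW : PrimeSpectrum.zeroLocus ((a ⊔ b : Ideal A) : Set A) ⊆ closure (S C') ∩ Z := by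
    rw [PrimeSpectrum.zeroLocus_sup, hza, hzb]
    rintro x ⟨hx | hx, hx'⟩
    · refine ⟨hx', by_contra fun hxZ => hdis x ⟨(hScl C hC hx).1, hxZ⟩ (hScl C hC hx).2 (hScl C' hC' hx').2⟩
    · exact ⟨hx', hx⟩
  have hlt := dim_lt_of_closure (S C') hZ (Set.disjoint_left.2 fun x hx hxZ => hx.1.2 hxZ) hne3 hW
  have hab : ringKrullDim (A ⧸ (a ⊔ b)) < min (ringKrullDim (A ⧸ a)) (ringKrullDim (A ⧸ b)) := by
    refine lt_min (hlt.trans_le (hord.trans ?_)) hlt
    exact ringKrullDim_le_of_surjective (Ideal.Quotient.factor (PrimeSpectrum.vanishingIdeal_anti_mono Set.subset_union_left))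
      (Ideal.Quotient.factor_surjective _)
  have hrad : (a ⊓ b).radical = I.radical := by
    rw [← PrimeSpectrum.zeroLocus_eq_iff, PrimeSpectrum.zeroLocus_inf, hza, hzb]
    refine Set.Subset.antisymm ?_ fun x hx => ?_
    · rintro x ((hx | hx) | hx)
      · exact (hScl C hC hx).1
      · exact hZI hx
      · exact (hScl C' hC' hx).1
    · by_cases hxZ : x ∈ Z
      · exact Or.inl (Or.inr hxZ)
      · rcases hcov ⟨hx, hxZ⟩ with h | h
        · exact Or.inl (Or.inl (subset_closure ⟨⟨hx, hxZ⟩, h⟩))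
        · exact Or.inr (subset_closure ⟨⟨hx, hxZ⟩, h⟩)
  have hcd : LocCoh.CdLE A (a ⊓ b) e := fun M _ _ i hi => by
    obtain ⟨E⟩ := Groth.Agent.LocCoh.nonempty_H_equiv_of_radical hrad i M
    haveI := he M i hi
    exact E.toEquiv.subsingleton
  have hbd := Groth.Agent.LocCoh.min_connDim_subdim_le a b ha hb hab e hcd
  have hδ' : ringKrullDim (A ⧸ (a ⊔ b)) ≤ (δ : WithBot ℕ∞) := by
    rw [← hδ, ← hdZ, ← Groth.Agent.LocCoh.topDim_zeroLocus (a ⊔ b)]
    exact Groth.Agent.LocCoh.topDim_mono (hW.trans Set.inter_subset_right)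
  have hbd' : min (LocCoh.connDim (PrimeSpectrum A) + 1) (LocCoh.subdim (PrimeSpectrum A)) ≤ ((δ + e + 1 : ℕ) : WithBot ℕ∞) := by
    refine hbd.trans ?_
    rw [Nat.cast_add, Nat.cast_add, Nat.cast_one]
    exact add_le_add_left (add_le_add_left hδ' _) _
  rcases min_le_iff.1 hbd' with h | h
  · have h1 : ((δ + e + 1 : ℕ) : WithBot ℕ∞) ≤ LocCoh.connDim (PrimeSpectrum A) := by
      refine le_iInf₂ fun Z' hZ' => ?_
      have h2 := hc Z' hZ'.1 hZ'.2
      revert h2
      induction topologicalKrullDim ↥Z' using WithBot.recBotCoe with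
      | bot => intro h2; exact absurd h2 not_lt_bot
      | coe x =>
        induction x using ENat.recTopCoe with
        | top => intro _; exact WithBot.coe_le_coe.2 le_top
        | coe m =>
          intro h2
          have h3 : δ + e < m := by exact_mod_cast h2
          exact_mod_cast (by omega : δ + e + 1 ≤ m)
    have h4 := (add_le_add_left h1 1).trans h
    have : δ + e + 1 + 1 ≤ δ + e + 1 := by exact_mod_cast h4
    omega
  · obtain ⟨p, hp, hpd⟩ : ∃ p ∈ minimalPrimes A, LocCoh.subdim (PrimeSpectrum A) = ringKrullDim (A ⧸ p) := by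
      obtain ⟨p, hp, hpd⟩ := Groth.Agent.LocCoh.exists_minimal_subdim (R := A)
      exact ⟨p, hp, hpd.symm⟩
    rw [hpd] at h
    refine absurd ((hdim p hp).trans_le h) (not_lt.2 ?_)
    exact_mod_cast (by omega : δ + e + 1 ≤ δ + (e + 1))

end Groth.Agent.S0815
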