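import Groth.Statements.S0818
import Groth.Agent.Coherent.DevissageTwoThree

set_option autoImplicit false
universe u
open Coherent

namespace Groth.Agent.S0818

open CategoryTheory AlgebraicGeometry in
/-- Let X be a nonempty Noetherian scheme and P an isomorphism-invariant property of O_X-modules such
that (1) in every short exact sequence of coherent O_X-modules, if two of the three terms satisfy P
then so does the third, and (2) for every integral scheme Z and closed immersion i : Z → X, with ξ
the generic point of Z, there is a coherent O_X-module G satisfying P whose support is exactly i(Z)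
and whose stalk at i(ξ) is isomorphic, as a module over the local ring O_{X,i(ξ)}, to the residue
field of that local ring. Then every coherent O_X-module satisfies P. (The published statement
leaves the nonemptiness of X implicit; it is needed to handle the zero module and is assumed
explicitly here.) -/
theorem result (X : Scheme.{u}) [IsNoetherian X] [Nonempty X]
    (P : X.Modules → Prop) (hP : ∀ M N : X.Modules, Nonempty (M ≅ N) → P M → P N)
    (h₁ : ∀ S : ShortComplex X.Modules, S.ShortExact → Coh.IsCoh S.X₁ → Coh.IsCoh S.X₂ → Coh.IsCoh S.X₃ →
      (P S.X₁ → P S.X₂ → P S.X₃) ∧ (P S.X₁ → P S.X₃ → P S.X₂) ∧ (P S.X₂ → P S.X₃ → P S.X₁))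
    (h₂ : ∀ (Z : Scheme.{u}) (i : Z ⟶ X) [IsClosedImmersion i] [IsIntegral Z],
      ∃ G : X.Modules, Coh.IsCoh G ∧ CohB1.support G = Set.range ⇑i ∧
        Nonempty (↑(G.presheaf.stalk (i (genericPoint Z))) ≃ₗ[X.presheaf.stalk (i (genericPoint Z))]
          IsLocalRing.ResidueField (X.presheaf.stalk (i (genericPoint Z)))) ∧ P G)
    (M : X.Modules) (hM : Coh.IsCoh M) : P M := by
  exact Groth.Agent.Coherent.mem_of_twoThree P hP h₁ h₂ M hM

end Groth.Agent.S0818
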