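import Groth.Statements.S0820
import Groth.Agent.Coherent.DevissageIdeal
import Groth.Agent.Coherent.ProperOverApps

set_option autoImplicit false
universe u
open Coherent

open Groth.Agent Groth.Agent.Coherent Groth.Agent.AssSch12 CategoryTheory.Limits TopologicalSpace Opposite

namespace Groth.Agent.S0820

open CategoryTheory AlgebraicGeometry in
/-- Let f : Y → X be finite and surjective with X locally Noetherian, and let i : Z → X be a closed
immersion from an integral scheme, ξ the image of the generic point of Z. Then some coherent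
O_Y-module F has f_* F supported exactly on i(Z), with the stalk of f_* F at ξ killed by every
element of 𝔪_{X,ξ}, the maximal ideal of O_{X,ξ}. -/
theorem result {Y X : Scheme.{u}} (f : Y ⟶ X) [IsFinite f]
    [Surjective f] [IsLocallyNoetherian X] (Z : Scheme.{u}) (i : Z ⟶ X) [IsClosedImmersion i] [IsIntegral Z] :
    ∃ F : Y.Modules, Coh.IsCoh F ∧ CohB1.support ((Coh.push f).obj F) = Set.range ⇑i ∧
      ∀ a ∈ IsLocalRing.maximalIdeal (X.presheaf.stalk (i (genericPoint Z))),
        ∀ m : ↑(((Coh.push f).obj F).presheaf.stalk (i (genericPoint Z))), a • m = 0 := by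
  haveI : IsLocallyNoetherian Y := LocallyOfFiniteType.isLocallyNoetherian f
  let ξ := i (genericPoint Z)
  obtain ⟨y, hy⟩ := f.surjective ξ
  let g := (clI y).subschemeι ≫ f
  let F := clM y
  have hcl : closure {ξ} = Set.range i := by
    have h1 := (genericPoint_spec Z).image i.continuous
    rw [Set.image_univ, i.isClosedEmbedding.isClosed_range.closure_eq] at h1
    exact h1
  have hgr : ∀ w, g w ∈ closure {ξ} := fun w => by
    have hw : (clI y).subschemeι w ∈ closure {y} := by rw [← range_clι]; exact ⟨w, rfl⟩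
    have := (specializes_iff_mem_closure.2 hw).map f.continuous
    rw [hy] at this
    exact specializes_iff_mem_closure.1 this
  have hF : Coh.IsCoh F := isCoh_clM y
  have hG : Coh.IsCoh ((Coh.push f).obj F) := isCoh_push_finite f hF
  haveI : IsReduced (clI y).subscheme := inferInstance
  refine ⟨F, hF, Set.Subset.antisymm (fun z hz => ?_) ?_, fun a ha m => ?_⟩
  · by_contra hzZ
    refine notMem_support_of_subsingleton _ (U := ⟨(Set.range i)ᶜ,
      i.isClosedEmbedding.isClosed_range.isOpen_compl⟩) hzZ (fun V _ hle => ?_) hz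
    have hbot : g ⁻¹ᵁ V = ⊥ := eq_bot_iff.2 fun w hw => hle hw (hcl ▸ hgr w)
    change Subsingleton Γ((clI y).subscheme, g ⁻¹ᵁ V)
    rw [hbot]
    infer_instance
  · rw [← hcl]
    refine (isClosed_support _ (locallyFinGen_of_isFT _ hG.2)).closure_subset_iff.2
      (Set.singleton_subset_iff.2 fun hsub => ?_)
    obtain ⟨w, hw⟩ : y ∈ Set.range (clI y).subschemeι := by rw [range_clι]; exact subset_closure rfl
    obtain ⟨V, hξV, i₁, i₂, h1⟩ := TopCat.Presheaf.germ_eq ((Coh.push f).obj F).presheaf ξ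
      (U := (⊤ : X.Opens)) (V := (⊤ : X.Opens)) trivial trivial
      (1 : Γ((clI y).subscheme, g ⁻¹ᵁ ⊤)) (0 : Γ((clI y).subscheme, g ⁻¹ᵁ ⊤)) (hsub.elim _ _)
    have h2 : (1 : Γ((clI y).subscheme, g ⁻¹ᵁ V)) = 0 :=
      ((map_one ((clI y).subscheme.presheaf.map ((Opens.map g.base).map i₁).op).hom).symm.trans
        (h1.trans (map_zero _)))
    have : w ∈ g ⁻¹ᵁ V := show f ((clI y).subschemeι w) ∈ V by rw [hw, hy]; exact hξV
    have : Nonempty (g ⁻¹ᵁ V : (clI y).subscheme.Opens) := ⟨⟨w, this⟩⟩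
    exact one_ne_zero h2
  · obtain ⟨V, hV, r, rfl⟩ := X.presheaf.exists_germ_eq a
    obtain ⟨V', hV', s, rfl⟩ := ((Coh.push f).obj F).presheaf.exists_germ_eq m
    rw [← TopCat.Presheaf.germ_res_apply X.presheaf (homOfLE (inf_le_left : V ⊓ V' ≤ V)) _ ⟨hV, hV'⟩ r,
      ← TopCat.Presheaf.germ_res_apply ((Coh.push f).obj F).presheaf (homOfLE (inf_le_right : V ⊓ V' ≤ V')) _
        ⟨hV, hV'⟩ s, ← QCohLoc.germ_smul']
    rw [← TopCat.Presheaf.germ_res_apply X.presheaf (homOfLE (inf_le_left : V ⊓ V' ≤ V)) _ ⟨hV, hV'⟩ r] at ha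
    generalize X.presheaf.map (homOfLE (inf_le_left : V ⊓ V' ≤ V)).op r = r' at ha ⊢
    generalize ((Coh.push f).obj F).presheaf.map (homOfLE (inf_le_right : V ⊓ V' ≤ V')).op s = s'
    have h0 : g.app (V ⊓ V') r' = 0 := (basicOpen_eq_bot_iff _).1 (by
      rw [← Scheme.preimage_basicOpen]
      refine eq_bot_iff.2 fun w hw => ?_
      exact (IsLocalRing.mem_maximalIdeal _).1 ha ((Scheme.mem_basicOpen _ _ _ _).1
        ((specializes_iff_mem_closure.2 (hgr w)).mem_open (X.basicOpen r').2 hw)))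
    have h1 : (r' • s' : Γ((Coh.push f).obj F, V ⊓ V')) = 0 := by
      let t : Γ((clI y).subscheme, g ⁻¹ᵁ (V ⊓ V')) := s'
      change g.app (V ⊓ V') r' * t = 0
      rw [h0, zero_mul]
    rw [h1, map_zero]

end Groth.Agent.S0820
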