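import Groth.Statements.S0823
import Groth.Agent.Formal2Lib.ProCohom

set_option autoImplicit false
universe u
open Formal2

namespace Groth.Agent.S0823

open CategoryTheory AlgebraicGeometry in
/-- The short exact sequences in positive degrees (the degree-0 statement H^0(X, F)^ ≅ lim H^0(X,
F/I^nF) and the vanishing of the R^1 lim term for proper X are not restated). Let A be a Noetherian
ring, I an ideal, X a Noetherian scheme over Spec A and F a coherent O_X-module such that every
H^p(X, F) is a finite A-module. Then for every p there is a short exact sequence 0 → R^1 lim_n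
H^p(X, F/I^nF) → H^(p+1)(X, F)^ → lim_n H^(p+1)(X, F/I^nF) → 0 of abelian groups, where ^ is I-adic
completion; the second map is the one induced by the maps H^(p+1)(X, F) → H^(p+1)(X, F/I^(n+1)F),
and the first map is only asserted to exist. -/
theorem result (A : Type u) [CommRing A] [IsNoetherianRing A] (I : Ideal A)
    (X : Scheme.{u}) [X.Over (Spec (CommRingCat.of A))] [IsNoetherian X] (F : X.Modules) (hF : Coh.IsCoh F)
    (hfin : ∀ p : ℕ, Module.Finite A (Coh.HH X F p)) (p : ℕ) :
    ∃ (α : Formal2.limOne (fun n => Formal.HHmodPow I F p n) (fun n => Formal.HHmodPowTrans I F p n) →+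
        AdicCompletion I (Coh.HH X F (p + 1)))
      (β : AdicCompletion I (Coh.HH X F (p + 1)) →+ Formal.HHlim I F (p + 1)),
      Function.Injective α ∧ Function.Surjective β ∧ α.range = β.ker ∧
      ∀ (x : AdicCompletion I (Coh.HH X F (p + 1))) (n : ℕ) (h : Coh.HH X F (p + 1)),
        AdicCompletion.eval I (Coh.HH X F (p + 1)) (n + 1) x = Submodule.Quotient.mk h →
          (β x : ∀ n, Formal.HHmodPow I F (p + 1) n) n = Formal.toHHmodPow I F (p + 1) n h := by
  have hfin' := fun q => (Groth.Agent.Coherent.finite_HH_iff A F q).1 (hfin q)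
  have hsurj := Groth.Agent.Formal2Lib.towerDiff_surjective hF hfin' I p
  have hlim : Subsingleton (Formal2.limOne (fun n => Formal.HHmodPow I F p n)
      (fun n => Formal.HHmodPowTrans I F p n)) :=
    QuotientAddGroup.subsingleton_iff.2 (AddMonoidHom.range_eq_top.2 hsurj)
  obtain ⟨hinj, hβ⟩ := Groth.Agent.Formal2Lib.complToLim_bijective' hF hfin' I (p + 1)
  refine ⟨0, Groth.Agent.Coherent.complToLim I F (p + 1), fun a b _ => Subsingleton.elim a b, hβ, ?_,
    fun x n h hx => ?_⟩
  · exact (AddMonoidHom.range_eq_bot_iff.2 rfl).trans ((AddMonoidHom.ker_eq_bot_iff _).2 hinj).symm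
  · rw [AdicCompletion.eval_apply] at hx
    exact Groth.Agent.Formal2Lib.complToLim_apply I (p + 1) n x h hx

end Groth.Agent.S0823
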