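import Groth.Statements.S0825
import Groth.Agent.CAlgH3.CdOneLift
-- import your own Groth.Agent.* helpers here

set_option autoImplicit false
universe u
open scoped BigOperators
open LocCoh

namespace Groth.Agent.S0825

/-- Let A be a Noetherian ring and I the ideal generated by f_1, …, f_r, with cohomological dimension
exactly 1. Then there are c ≥ 1 and A-linear maps φ_j : I^c → A such that x = Σ_j f_j φ_j(x) for
every x ∈ I^c. -/
theorem result (A : Type u) [CommRing A] [IsNoetherianRing A] (r : ℕ) (f : Fin r → A)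
    (h₁ : LocCoh.CdLE A (Ideal.span (Set.range f)) 1) (h₀ : ¬ LocCoh.CdLE A (Ideal.span (Set.range f)) 0) :
    ∃ (c : ℕ) (φ : Fin r → (↥(Ideal.span (Set.range f) ^ (c + 1)) →ₗ[A] A)),
      ∀ x : ↥(Ideal.span (Set.range f) ^ (c + 1)), (x : A) = ∑ j, f j * φ j x := by
  exact Groth.Agent.CAlgH3.CdOneLift.exists_lift r f h₁

end Groth.Agent.S0825
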