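import Groth.Statements.S0827
import Groth.Agent.LimCohLib.Modules
import Groth.Agent.S0826
-- import your own Groth.Agent.* helpers here

set_option autoImplicit false
universe u
open Formal2

namespace Groth.Agent.S0827

open CategoryTheory CategoryTheory.Limits AlgebraicGeometry Opposite in
/-- Part (3), for the ideal sheaf generated by an ideal I of a base ring A. Let X be a scheme over Spec
A and (G_n) an inverse system of quasi-coherent O_X-modules with G_n killed by I^(n+1) and G_n =
G_{n+1}/I^(n+1)G_{n+1}. Then for every p there is a short exact sequence 0 → R^1 lim_n H^p(X, G_n) →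
H^(p+1)(X, lim G_n) → lim_n H^(p+1)(X, G_n) → 0 of abelian groups, the second map being induced by
the projections lim G_n → G_n (the degree-0 statement is not restated). -/
theorem result (A : Type u) [CommRing A] (I : Ideal A) (X : Scheme.{u})
    [X.Over (Spec (CommRingCat.of A))] (G : ℕᵒᵖ ⥤ X.Modules) (hG : Formal2.IsQCohFormal I G) (p : ℕ) :
    ∃ (α : Formal2.limOne (fun n => Coh.HH X (G.obj (op n)) p) (Formal2.HHsysMap G p) →+
        Coh.HH X (limit G) (p + 1))
      (β : Coh.HH X (limit G) (p + 1) →+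
        Formal2.limZero (fun n => Coh.HH X (G.obj (op n)) (p + 1)) (Formal2.HHsysMap G (p + 1))),
      Function.Injective α ∧ Function.Surjective β ∧ α.range = β.ker ∧
      ∀ (x : Coh.HH X (limit G) (p + 1)) (n : ℕ),
        (β x : ∀ n, Coh.HH X (G.obj (op n)) (p + 1)) n =
          Sheaf.H.map ((SheafOfModules.toSheaf _).map (limit.π G (op n))) (p + 1) x := by
  have hepi := Groth.Agent.S0826.epi_transition hG
  obtain ⟨α, hα, hrange⟩ := Groth.Agent.LimCohLib.exists_HH_limOne G hG.1 hepi p
  let β₀ : Coh.HH X (limit G) (p + 1) →+ (∀ n, Coh.HH X (G.obj (op n)) (p + 1)) :=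
    AddMonoidHom.pi fun n => Sheaf.H.map ((SheafOfModules.toSheaf _).map (limit.π G (op n))) (p + 1)
  have hβ : ∀ x, β₀ x ∈ Formal2.limZero (fun n => Coh.HH X (G.obj (op n)) (p + 1)) (Formal2.HHsysMap G (p + 1)) :=
    fun x => funext fun n => sub_eq_zero.2 (by
      show _ = Formal2.HHsysMap G (p + 1) n (Sheaf.H.map _ (p + 1) x)
      refine Eq.trans ?_ (Sheaf.H.map_comp_apply _ _ _)
      rw [← Functor.map_comp]
      exact (congrArg (fun g => Sheaf.H.map ((SheafOfModules.toSheaf X.ringCatSheaf).map g) (p + 1) x)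
        (limit.w G (homOfLE (Nat.le_succ n)).op)).symm)
  refine ⟨α, β₀.codRestrict _ hβ, hα, fun y => ?_, ?_, fun x n => rfl⟩
  · obtain ⟨η, hη⟩ := Groth.Agent.LimCohLib.exists_HH_limit G hG.1 hepi (p + 1) y.1
      fun n => (sub_eq_zero.1 (congrFun y.2 n)).symm
    exact ⟨η, Subtype.ext (funext hη)⟩
  · ext η
    exact (hrange η).trans ⟨fun h => Subtype.ext (funext h), fun h n => congrFun (congrArg Subtype.val h) n⟩

end Groth.Agent.S0827
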