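import Groth.Statements.S0828
import Groth.Agent.S0605
import Groth.Agent.CAlgH3.Depth
import Groth.Agent.CAlgH3.RegularCore
import Groth.Agent.EGA43.DimFormula.StalkSupport
import Groth.Agent.Props12.FinLocFree
import Groth.Agent.Coherent.FinitePres


set_option autoImplicit false
universe u
open Coherent


set_option backward.isDefEq.respectTransparency false

namespace Groth.Agent.S0828Aux
open CategoryTheory AlgebraicGeometry TopologicalSpace Groth.Agent

theorem n_pos {X : Scheme.{u}} (M : X.Modules) {U : X.Opens} {n : ℕ}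
    (e : M.restrict U.ι ≅ FlatMod.freeMod U.toScheme n) {x : X} (hx : x ∈ U)
    (hs : ¬ Subsingleton (M.presheaf.stalk x)) : 0 < n := by
  by_contra h
  obtain rfl : n = 0 := by omega
  refine hs ⟨fun a b => ?_⟩
  obtain ⟨V, hxV, a', rfl⟩ := M.presheaf.exists_germ_eq a
  obtain ⟨W, hxW, b', rfl⟩ := M.presheaf.exists_germ_eq b
  have hW : U ⊓ V ⊓ W ≤ U := inf_le_left.trans inf_le_left
  obtain ⟨c⟩ := Props12.exists_basis_sections e hW
  have : Subsingleton Γ(M, U ⊓ V ⊓ W) := c.repr.toEquiv.subsingleton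
  rw [← TopCat.Presheaf.germ_res_apply M.presheaf (homOfLE (inf_le_left.trans inf_le_right : U ⊓ V ⊓ W ≤ V)) x ⟨⟨hx, hxV⟩, hxW⟩,
    ← TopCat.Presheaf.germ_res_apply M.presheaf (homOfLE (inf_le_right : U ⊓ V ⊓ W ≤ W)) x ⟨⟨hx, hxV⟩, hxW⟩]
  exact congrArg _ (Subsingleton.elim _ _)

theorem supportDim_eq {X : Scheme.{u}} (M : X.Modules) [M.IsQuasicoherent] (hs : CohB1.support M = Set.univ) (x : X) :
    Module.supportDim (X.presheaf.stalk x) (M.presheaf.stalk x) = ringKrullDim (X.presheaf.stalk x) := by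
  have : Module.support (X.presheaf.stalk x) (M.presheaf.stalk x) = Set.univ :=
    Set.eq_univ_of_forall fun P => (EGA43.DimFormula.mem_support_stalk_iff M x P).2 (hs ▸ Set.mem_univ _)
  exact (Order.krullDim_eq_of_orderIso ((OrderIso.setCongr _ _ this).trans OrderIso.Set.univ))

theorem main (X : Scheme.{u}) [IsLocallyNoetherian X]
    (hreg : ∀ x : X, IsRegularLocalRing (X.presheaf.stalk x)) (F : X.Modules) (hF : Coh.IsCoh F) :
    (CohB1.support F = Set.univ ∧
        ∀ x : X, LocCoh.IsCohenMacaulayModule (X.presheaf.stalk x) ↑(F.presheaf.stalk x)) ↔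
      ∀ x : X, ∃ (U : X.Opens) (n : ℕ), x ∈ U ∧ 0 < n ∧
        Nonempty (F.restrict U.ι ≅ FlatMod.freeMod (↑U) n) := by
  haveI : Coh.IsQCoh F := hF.1
  haveI : F.IsQuasicoherent := hF.1
  constructor
  · rintro ⟨hs, hcm⟩ x
    have hfree : ∀ y : X, Module.Free (X.presheaf.stalk y) (F.presheaf.stalk y) := fun y => by
      haveI := hreg y
      haveI := Props12.finite_stalk_of_isFT F hF.2 y
      exact Groth.Agent.S0605.result _ _ ((hcm y).symm.trans (supportDim_eq F hs y))
    have hFP : CohB1.IsFP F := Coherent.isFP_of_isCoh hF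
    obtain ⟨U, n, hx, ⟨e⟩⟩ := Props12.isFinLocFree_of_isFP_of_free_stalks F hFP hfree x
    exact ⟨U, n, hx, n_pos F e hx (hs.ge (Set.mem_univ x)), ⟨e⟩⟩
  · intro h
    have hlf : FlatMod.IsFinLocFree F := fun x =>
      let ⟨U, n, hx, _, he⟩ := h x; ⟨U, n, hx, he⟩
    have hs : CohB1.support F = Set.univ := Set.eq_univ_of_forall fun x => by
      obtain ⟨U, n, hx, hn, ⟨e⟩⟩ := h x
      obtain ⟨W, hW, hxW, hWU⟩ := Opens.isBasis_iff_nbhd.mp X.isBasis_affineOpens hx
      obtain ⟨b⟩ := Props12.exists_basis_sections e hWU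
      let _ := (X.presheaf.germ W x hxW).hom.toAlgebra
      let _ := Module.compHom (F.presheaf.stalk x) (X.presheaf.germ W x hxW).hom
      have : IsScalarTower Γ(X, W) (X.presheaf.stalk x) (F.presheaf.stalk x) :=
        IsScalarTower.of_algebraMap_smul fun _ _ => rfl
      let φ : Γ(F, W) →ₗ[Γ(X, W)] F.presheaf.stalk x :=
        { toFun := F.presheaf.germ W x hxW
          map_add' := map_add _
          map_smul' := QCohLoc.germ_smul' (M := F) hxW }
      have := EGA43.QcohFP.isLocalizedModule_germ F hW hxW φ fun _ => rfl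
      have := hW.isLocalization_stalk ⟨x, hxW⟩
      haveI : Nonempty (Fin n) := ⟨⟨0, hn⟩⟩
      let c := b.ofIsLocalizedModule (X.presheaf.stalk x) (hW.primeIdealOf ⟨x, hxW⟩).asIdeal.primeCompl φ
      exact not_subsingleton_iff_nontrivial.2 c.repr.toEquiv.nontrivial
    refine ⟨hs, fun x => ?_⟩
    haveI := hreg x
    haveI := Props12.free_stalk_of_isFinLocFree F hlf x
    haveI := Props12.finite_stalk_of_isFT F hF.2 x
    haveI : Nontrivial (F.presheaf.stalk x) := not_subsingleton_iff_nontrivial.1 (hs.ge (Set.mem_univ x))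
    show Module.supportDim _ _ = _
    rw [supportDim_eq F hs x, CAlgH3.depth_free, CAlgH3.depth_eq_ringKrullDim]

end Groth.Agent.S0828Aux

namespace Groth.Agent.S0828

open CategoryTheory AlgebraicGeometry in
/-- Let X be a regular scheme (locally Noetherian with regular local rings) and F a coherent O_X-module.
Then F has support all of X and Cohen–Macaulay stalks if and only if F is finite locally free of
positive rank near every point. -/
theorem result (X : Scheme.{u}) [IsLocallyNoetherian X]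
    (hreg : ∀ x : X, IsRegularLocalRing (X.presheaf.stalk x)) (F : X.Modules) (hF : Coh.IsCoh F) :
    (CohB1.support F = Set.univ ∧
        ∀ x : X, LocCoh.IsCohenMacaulayModule (X.presheaf.stalk x) ↑(F.presheaf.stalk x)) ↔
      ∀ x : X, ∃ (U : X.Opens) (n : ℕ), x ∈ U ∧ 0 < n ∧
        Nonempty (F.restrict U.ι ≅ FlatMod.freeMod (↑U) n) := by
  exact Groth.Agent.S0828Aux.main X hreg F hF

end Groth.Agent.S0828
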