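import Groth.Statements.S0830
import Groth.Agent.Formal2Lib.KPow

set_option autoImplicit false
universe u
open Formal2

namespace Groth.Agent.S0830

open CategoryTheory CategoryTheory.Limits AlgebraicGeometry Opposite in
/-- For the ideal sheaf I·O_X of an ideal I of a base ring A, with the closed subschemes X_e = V(K^e)
replaced by coherent modules and systems annihilated by K^e. Let X be a Noetherian scheme over Spec
A, K a quasi-coherent ideal sheaf, (F_n) a coherent formal module for I. Assume: (1) for every e,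
maps between the systems (M/I^nM), (N/I^nN) of coherent modules M, N killed by K^e come from unique
maps M → N, and every coherent formal module all of whose terms are killed by K^e is isomorphic to
(M/I^nM) for a coherent M killed by K^e; (2) there are a coherent H and a map (F_n) → (H/I^nH) with
componentwise kernels and cokernels killed by a fixed power of K. Then (F_n) is isomorphic to
(F/I^nF) for some coherent O_X-module F. -/
theorem result (A : Type u) [CommRing A] (I : Ideal A) (X : Scheme.{u})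
    [X.Over (Spec (CommRingCat.of A))] [IsNoetherian X] (K : X.IdealSheafData) (F : ℕᵒᵖ ⥤ X.Modules) (hF : Formal.IsCohFormal I F)
    (h₁ : ∀ e : ℕ,
      (∀ (M N : X.Modules), Coh.IsCoh M → Coh.IsCoh N → ClSub.KilledByIdeal (K ^ e) M →
        ClSub.KilledByIdeal (K ^ e) N → ∀ ψ : Formal.completion I M ⟶ Formal.completion I N,
          ∃! φ : M ⟶ N, ∀ n : ℕ, Formal.modPowπ I (n + 1) M ≫ ψ.app (op n) = φ ≫ Formal.modPowπ I (n + 1) N) ∧
      (∀ G : ℕᵒᵖ ⥤ X.Modules, Formal.IsCohFormal I G → (∀ n : ℕ, ClSub.KilledByIdeal (K ^ e) (G.obj (op n))) →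
        ∃ M : X.Modules, Coh.IsCoh M ∧ ClSub.KilledByIdeal (K ^ e) M ∧ Nonempty (Formal.completion I M ≅ G)))
    (h₂ : ∃ (H : X.Modules) (α : F ⟶ Formal.completion I H), Coh.IsCoh H ∧ Formal2.KerCokerKilledByPow K α) :
    ∃ M : X.Modules, Coh.IsCoh M ∧ Nonempty (Formal.completion I M ≅ F) := by
  obtain ⟨A₀, iC, iN, I₀, iO, hred⟩ := Groth.Agent.Formal2Lib.exists_baseRed X I
  obtain ⟨H, α, hH, t, ht⟩ := h₂
  let η := hred.completionIso H
  obtain ⟨M, hM, ⟨e⟩⟩ := Groth.Agent.Formal2Lib.exists_algebraization_of_kerCoker (I := I₀) K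
    (hred.isCohFormal_iff.2 hF)
    (fun k M N hM hN hMk hNk ψ => by
      obtain ⟨φ, hφ, -⟩ := (h₁ k).1 M N hM hN hMk hNk
        ((hred.completionIso M).inv ≫ ψ ≫ (hred.completionIso N).hom)
      refine ⟨φ, fun n => (cancel_mono ((hred.completionIso N).hom.app (op n))).1 ?_⟩
      refine ((Category.assoc _ _ _).trans (congrArg (· ≫ ψ.app (op n) ≫ (hred.completionIso N).hom.app (op n))
        (hred.π_completionIso_inv M n)).symm).trans ?_
      refine ((Category.assoc _ _ _).trans (hφ n)).trans ?_
      exact ((Category.assoc _ _ _).trans (congrArg (φ ≫ ·) (hred.π_completionIso N n))).symm)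
    (fun k G hG hGk => by
      obtain ⟨M, hM, hMk, ⟨e⟩⟩ := (h₁ k).2 G (hred.isCohFormal_iff.1 hG) hGk
      exact ⟨M, hM, hMk, ⟨hred.completionIso M ≪≫ e⟩⟩)
    hH (α ≫ η.inv)
    (fun n => Groth.Agent.Formal2Lib.killedByIdeal_of_iso
      (kernelCompMono (α.app (op n)) (η.inv.app (op n))).symm (ht n).1)
    (fun n => Groth.Agent.Formal2Lib.killedByIdeal_of_iso
      (cokernelCompIsIso (α.app (op n)) (η.inv.app (op n))).symm (ht n).2)
  exact ⟨M, hM, ⟨(hred.completionIso M).symm ≪≫ e⟩⟩

end Groth.Agent.S0830
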