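import Groth.Statements.S0832
import Groth.Agent.Formal2Lib.Torsion

set_option autoImplicit false
universe u
open Formal2

namespace Groth.Agent.S0832

open CategoryTheory AlgebraicGeometry Opposite in
/-- First assertion, for the ideal sheaf I·O_X of an ideal I of a base ring A. Let X be a Noetherian
scheme over Spec A and (F_n) a coherent formal module for I such that some fixed power I^c
annihilates every F_n. Then (F_n) is isomorphic to the system (M/I^nM) of a coherent O_X-module M. -/
theorem result (A : Type u) [CommRing A] (I : Ideal A) (X : Scheme.{u})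
    [X.Over (Spec (CommRingCat.of A))] [IsNoetherian X] (F : ℕᵒᵖ ⥤ X.Modules) (hF : Formal.IsCohFormal I F)
    (hc : ∃ c : ℕ, ∀ n : ℕ, Formal.KilledBy (I ^ c) (F.obj (op n))) :
    ∃ M : X.Modules, Coh.IsCoh M ∧ Nonempty (Formal.completion I M ≅ F) := by
  obtain ⟨c, hc⟩ := hc
  obtain ⟨e, -⟩ := Groth.Agent.Formal2Lib.exists_iso_completion_of_killed hF hc
  exact ⟨_, hF.1 c, ⟨e⟩⟩

end Groth.Agent.S0832
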