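import Groth.Statements.S0833
import Groth.Agent.Formal2Lib.Almost
import Groth.Agent.Formal2Lib.BaseRed

set_option autoImplicit false
universe u
open Formal2

namespace Groth.Agent.S0833

open CategoryTheory AlgebraicGeometry Opposite in
/-- The assertion on homomorphisms, for the ideal sheaf I·O_X of an ideal I of a base ring A. Let X be a
Noetherian scheme over Spec A and F, G coherent O_X-modules one of which is annihilated by a power
of I. Then every map of systems (F/I^nF) → (G/I^nG) is induced by exactly one map F → G. (The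
assertion on Ext groups is not stated.) -/
theorem result (A : Type u) [CommRing A] (I : Ideal A) (X : Scheme.{u})
    [X.Over (Spec (CommRingCat.of A))] [IsNoetherian X] (F G : X.Modules) (hF : Coh.IsCoh F) (hG : Coh.IsCoh G)
    (hc : ∃ c : ℕ, Formal.KilledBy (I ^ c) F ∨ Formal.KilledBy (I ^ c) G)
    (ψ : Formal.completion I F ⟶ Formal.completion I G) :
    ∃! φ : F ⟶ G, ∀ n : ℕ, Formal.modPowπ I (n + 1) F ≫ ψ.app (op n) = φ ≫ Formal.modPowπ I (n + 1) G := by
  obtain ⟨c, hc | hc⟩ := hc
  · obtain ⟨A₀, iC, iN, I₀, iO, hred⟩ := Groth.Agent.Formal2Lib.exists_baseRed X I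
    obtain ⟨φ, hφ, huniq⟩ := Groth.Agent.Formal2Lib.existsUnique_hom_of_killed_source I₀ hF hG
      (hred.killedBy_iff.2 hc) ((hred.completionIso F).hom ≫ ψ ≫ (hred.completionIso G).inv)
    have key : ∀ (φ : F ⟶ G) (n : ℕ),
        (Formal.modPowπ I₀ (n + 1) F ≫
            ((hred.completionIso F).hom ≫ ψ ≫ (hred.completionIso G).inv).app (op n) =
          φ ≫ Formal.modPowπ I₀ (n + 1) G) ↔
        Formal.modPowπ I (n + 1) F ≫ ψ.app (op n) = φ ≫ Formal.modPowπ I (n + 1) G := by
      intro φ n
      have e : Formal.modPowπ I₀ (n + 1) F ≫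
            ((hred.completionIso F).hom ≫ ψ ≫ (hred.completionIso G).inv).app (op n) =
          (Formal.modPowπ I (n + 1) F ≫ ψ.app (op n)) ≫ (hred.completionIso G).inv.app (op n) :=
        (congrArg (· ≫ ψ.app (op n) ≫ (hred.completionIso G).inv.app (op n))
          (hred.π_completionIso F n).symm).symm.trans (Category.assoc _ _ _).symm |>
          fun h => (Category.assoc _ _ _).symm.trans h
      rw [e, ← hred.π_completionIso_inv G n]
      refine ⟨fun h => ?_, fun h => ?_⟩
      · exact (cancel_mono ((hred.completionIso G).inv.app (op n))).1 (h.trans (Category.assoc _ _ _).symm)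
      · exact (congrArg (· ≫ (hred.completionIso G).inv.app (op n)) h).trans (Category.assoc _ _ _)
    exact ⟨φ, fun n => (key φ n).1 (hφ n), fun φ' hφ' => huniq φ' fun n => (key φ' n).2 (hφ' n)⟩
  · exact Groth.Agent.Formal2Lib.existsUnique_hom_of_killed_target I hc ψ

end Groth.Agent.S0833
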