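import Groth.Statements.S0834
import Groth.Agent.Formal2Lib.BaseRed
import Groth.Agent.Formal2Lib.KerSys

set_option autoImplicit false
universe u
open Formal2

namespace Groth.Agent.S0834

open CategoryTheory CategoryTheory.Limits AlgebraicGeometry in
/-- Let A be a ring, I ⊆ A an ideal and X a Noetherian scheme over Spec A. Then the full subcategory of
inverse systems of 𝒪_X-modules formed by the coherent formal modules for the ideal sheaf I·𝒪_X has
kernels. (This is the kernel half of the statement that this category is abelian; cokernels are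
componentwise, and abelianness itself is not asserted here.) -/
theorem result (A : Type u) [CommRing A] (I : Ideal A) (X : Scheme.{u})
    [X.Over (Spec (CommRingCat.of A))] [IsNoetherian X] : HasKernels (Formal2.CohFormalCat I X) := by
  obtain ⟨A₀, iC, iN, I₀, iO, hred⟩ := Groth.Agent.Formal2Lib.exists_baseRed X I
  refine ⟨fun {P G} f => ?_⟩
  obtain ⟨K, ι, hK, hι, huniv⟩ := Groth.Agent.Formal2Lib.exists_kernel
    (hred.isCohFormal_iff.2 P.property) (hred.isCohFormal_iff.2 G.property)
    (Groth.Agent.Formal2Lib.compat_app f.hom)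
  let K' : Formal2.CohFormalCat I X := ⟨K, hred.isCohFormal_iff.1 hK⟩
  have hc : ObjectProperty.homMk ι ≫ f = (0 : K' ⟶ P) ≫ f := by
    rw [zero_comp]
    exact ObjectProperty.hom_ext _ (NatTrans.ext (funext fun k => hι k.unop))
  let F : KernelFork f := KernelFork.ofι (ObjectProperty.homMk ι : K' ⟶ P) (hc.trans zero_comp)
  refine HasLimit.mk ⟨F, Fork.IsLimit.mk' _ fun s => ?_⟩
  have hg : ∀ n, s.ι.hom.app (Opposite.op n) ≫ f.hom.app (Opposite.op n) = 0 := fun n =>
    congrArg (fun t : s.pt ⟶ G => t.hom.app (Opposite.op n)) (KernelFork.condition s)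
  have hex := huniv s.pt.obj (hred.isCohFormal_iff.2 s.pt.property) s.ι.hom hg
  refine ⟨ObjectProperty.homMk hex.choose, ObjectProperty.hom_ext _ hex.choose_spec.1,
    fun {m} hm => ObjectProperty.hom_ext _ (hex.choose_spec.2 m.hom ?_)⟩
  exact congrArg (fun t : s.pt ⟶ P => t.hom) hm

end Groth.Agent.S0834
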