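import Groth.Statements.S0836
import Groth.Agent.Formal2Lib.CohFormalPullback
-- import your own Groth.Agent.* helpers here

set_option autoImplicit false
set_option backward.isDefEq.respectTransparency false
universe u
open Formal2
open Groth.Agent Groth.Agent.Coherent.Serre Groth.Agent.Coherent.Existence

namespace Groth.Agent.S0836

open CategoryTheory CategoryTheory.Limits AlgebraicGeometry in
/-- For the ideal sheaf generated by an ideal I of a base ring A (so Z = X ×_A Spec(A/I)). Let f : X' →
X be a flat morphism of Noetherian schemes over Spec A such that the induced morphism X' ×_A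
Spec(A/I) → X ×_A Spec(A/I) is an isomorphism. Then componentwise pullback along f is fully faithful
and essentially surjective from coherent formal modules for I on X to those on X'. -/
theorem result (A : Type u) [CommRing A] (I : Ideal A) (X X' : Scheme.{u})
    [X.Over (Spec (CommRingCat.of A))] [X'.Over (Spec (CommRingCat.of A))] [IsNoetherian X] [IsNoetherian X']
    (f : X' ⟶ X) [Flat f] (hf : f ≫ (X ↘ Spec (CommRingCat.of A)) = X' ↘ Spec (CommRingCat.of A))
    (hZ : IsIso (pullback.map (X' ↘ Spec (CommRingCat.of A)) (CohB1.specQuot I 0)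
      (X ↘ Spec (CommRingCat.of A)) (CohB1.specQuot I 0) f (𝟙 _) (𝟙 _)
      ((Category.comp_id _).trans hf.symm) ((Category.comp_id _).trans (Category.id_comp _).symm))) :
    (∀ G₁ G₂ : ℕᵒᵖ ⥤ X.Modules, Formal.IsCohFormal I G₁ → Formal.IsCohFormal I G₂ →
      Function.Bijective (fun φ : G₁ ⟶ G₂ => Functor.whiskerRight φ (Scheme.Modules.pullback f))) ∧
    (∀ G' : ℕᵒᵖ ⥤ X'.Modules, Formal.IsCohFormal I G' →
      ∃ G : ℕᵒᵖ ⥤ X.Modules, Formal.IsCohFormal I G ∧ Nonempty (G ⋙ Scheme.Modules.pullback f ≅ G')) := by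
  let F := Scheme.Modules.pullback f
  let adj := Scheme.Modules.pullbackPushforwardAdjunction f
  refine ⟨fun G₁ G₂ _ hG₂ => ⟨fun φ ψ h => ?_, fun ψ => ?_⟩, fun G' hG' => ?_⟩
  · ext n : 2
    exact (Formal2Lib.bijective_pullback_map hf hZ (hG₂.2.1 n.unop)).1 (congrArg (fun t => t.app n) h)
  · choose φ hφ using fun n : ℕ => (Formal2Lib.bijective_pullback_map hf hZ (M := G₁.obj (Opposite.op n))
      (hG₂.2.1 n)).2 (ψ.app (Opposite.op n))
    refine ⟨{ app := fun n => φ n.unop, naturality := fun m n i => ?_ }, ?_⟩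
    · refine (Formal2Lib.bijective_pullback_map hf hZ (hG₂.2.1 n.unop)).1 ?_
      rw [Functor.map_comp, Functor.map_comp, hφ, hφ]
      exact ψ.naturality i
    · ext n : 2
      exact hφ n.unop
  · let G := G' ⋙ Scheme.Modules.pushforward f
    have hε : ∀ n : ℕᵒᵖ, IsIso (adj.counit.app (G'.obj n)) := fun n =>
      Formal2Lib.isIso_counit hf hZ (hG'.2.1 n.unop)
    let e : G ⋙ F ≅ G' := NatIso.ofComponents (fun n => @asIso _ _ _ _ _ (hε n)) fun i => adj.counit.naturality _
    refine ⟨G, ⟨fun n => Formal2Lib.isCoh_pushforward hf hZ (hG'.2.1 n) (hG'.1 n),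
      fun n => Formal2Lib.killedBy_pushforward hf (hG'.2.1 n), fun n => ?_⟩, ⟨e⟩⟩
    obtain ⟨h', hd'⟩ := hG'.2.2 n
    let t' := G'.map (homOfLE (Nat.le_succ n)).op
    let t := G.map (homOfLE (Nat.le_succ n)).op
    have h : Formal.smulFamily (I ^ (n + 1)) (G.obj (Opposite.op (n + 1))) ≫ t = 0 := by
      refine Sigma.hom_ext _ _ fun c => ?_
      rw [comp_zero, ← Category.assoc, ι_smulFamily]
      show Formal.smulMod A ((Coh.push f).obj (G'.obj (Opposite.op (n + 1)))) c ≫ (Coh.push f).map t' = 0
      rw [← push_map_smulMod hf, ← Functor.map_comp, ← ι_smulFamily (I ^ (n + 1)) _ c, Category.assoc,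
        show Formal.smulFamily _ _ ≫ t' = 0 from h', comp_zero, Functor.map_zero]
    refine ⟨h, ?_⟩
    let π := cokernel.π (Formal.smulFamily (I ^ (n + 1)) (G.obj (Opposite.op (n + 1))))
    have hC : Formal.KilledBy (I ^ (n + 1)) (cokernel (Formal.smulFamily (I ^ (n + 1)) (G.obj (Opposite.op (n + 1))))) :=
      killedBy_modPow (I := I) (n + 1) _
    let d := cokernel.desc _ t h
    let eN : F.obj (G.obj (Opposite.op (n + 1))) ≅ G'.obj (Opposite.op (n + 1)) := e.app (Opposite.op (n + 1))
    haveI : IsIso (cokernel.desc _ t' h') := hd'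
    have hb : Formal.smulFamily (I ^ (n + 1)) (G'.obj (Opposite.op (n + 1))) ≫ eN.inv ≫ F.map π = 0 := by
      refine Sigma.hom_ext _ _ fun c => ?_
      rw [comp_zero, ← Category.assoc, ι_smulFamily, ← Category.assoc, smulMod_natural, Category.assoc,
        ← pull_map_smulMod hf, ← Functor.map_comp, ← ι_smulFamily (I ^ (n + 1)) _ c, Category.assoc,
        cokernel.condition, comp_zero, Functor.map_zero, comp_zero]
    let b : G'.obj (Opposite.op n) ⟶ F.obj (cokernel (Formal.smulFamily (I ^ (n + 1)) (G.obj (Opposite.op (n + 1))))) :=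
      inv (cokernel.desc _ t' h') ≫ cokernel.desc _ _ hb
    have htb : t' ≫ b = eN.inv ≫ F.map π := by
      calc t' ≫ b = (cokernel.π _ ≫ cokernel.desc _ t' h') ≫ b := congrArg (· ≫ b) (cokernel.π_desc _ _ h').symm
        _ = _ := by
          show (cokernel.π _ ≫ cokernel.desc _ t' h') ≫ inv (cokernel.desc _ t' h') ≫ _ = _
          rw [Category.assoc, IsIso.hom_inv_id_assoc, cokernel.π_desc]
    haveI : Epi t' := by
      rw [show t' = cokernel.π _ ≫ cokernel.desc _ t' h' from (cokernel.π_desc _ _ _).symm]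
      haveI : Epi (cokernel.desc _ t' h') := IsIso.epi_of_iso _
      exact epi_comp _ _
    haveI : Epi (F.map π) := by
      haveI := Adjunction.leftAdjoint_preservesColimits.{0, 0} adj
      infer_instance
    let en : F.obj (G.obj (Opposite.op n)) ≅ G'.obj (Opposite.op n) := e.app (Opposite.op n)
    have hnat : F.map t ≫ en.hom = eN.hom ≫ t' := e.hom.naturality (homOfLE (Nat.le_succ n)).op
    have hπk : F.map π ≫ F.map d ≫ en.hom = eN.hom ≫ t' := by
      rw [← Functor.map_comp_assoc, cokernel.π_desc]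
      exact hnat
    have hdI : IsIso (F.map d) := by
      haveI : IsIso (F.map d ≫ en.hom) := by
        refine ⟨b, ?_, ?_⟩
        · rw [← cancel_epi (F.map π), Category.assoc]
          refine (show F.map π ≫ F.map d ≫ en.hom ≫ b = eN.hom ≫ t' ≫ b by rw [reassoc_of% hπk]).trans ?_
          rw [htb, Iso.hom_inv_id_assoc, Category.comp_id]
        · rw [← cancel_epi t', reassoc_of% htb, hπk, Iso.inv_hom_id_assoc, Category.comp_id]
      exact IsIso.of_isIso_comp_right (F.map d) en.hom
    obtain ⟨i, hi⟩ := (Formal2Lib.bijective_pullback_map hf hZ hC (M := G.obj (Opposite.op n))).2 (inv (F.map d))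
    refine ⟨i, (Formal2Lib.bijective_pullback_map hf hZ hC).1 ?_,
      (Formal2Lib.bijective_pullback_map hf hZ (Formal2Lib.killedBy_pushforward hf (hG'.2.1 n))).1 ?_⟩
    · rw [Functor.map_comp, hi, CategoryTheory.Functor.map_id]; exact IsIso.hom_inv_id _
    · rw [Functor.map_comp, hi, CategoryTheory.Functor.map_id]; exact IsIso.inv_hom_id _

end Groth.Agent.S0836
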