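import Groth.Statements.S0840
import Groth.Agent.Formal2Lib.BaseRed
import Groth.Agent.Coherent.Existence.NoSep
import Groth.Agent.Coherent.CohBC.HomSheaf

set_option autoImplicit false
universe u
open Formal2

namespace Groth.Agent.S0840

open CategoryTheory AlgebraicGeometry Opposite in
/-- Bijectivity of sections to the limit only depends on the ideal sheaf. -/
theorem toHHlim_bijective_baseRed {A A₀ : Type u} [CommRing A] [CommRing A₀] {X : Scheme.{u}}
    [X.Over (Spec (CommRingCat.of A))] [X.Over (Spec (CommRingCat.of A₀))] {I : Ideal A} {I₀ : Ideal A₀}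
    (hred : Groth.Agent.Formal2Lib.BaseRed X I I₀) (M : X.Modules) (p : ℕ)
    (h : Function.Bijective (Formal.toHHlim I M p)) : Function.Bijective (Formal.toHHlim I₀ M p) := by
  let e : ∀ n, Formal.HHmodPow I₀ M p n →+ Formal.HHmodPow I M p n := fun n =>
    Sheaf.H.map ((SheafOfModules.toSheaf X.ringCatSheaf).map (hred.modPowIso (n + 1) M).hom) p
  have he : ∀ n, Function.Injective (e n) := fun n a b hab => by
    have h1 := congrArg (Sheaf.H.map ((SheafOfModules.toSheaf X.ringCatSheaf).map
      (hred.modPowIso (n + 1) M).inv) p) hab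
    have h2 : ∀ z, Sheaf.H.map ((SheafOfModules.toSheaf X.ringCatSheaf).map
        (hred.modPowIso (n + 1) M).inv) p (e n z) = z := fun z => by
      refine (Formal.HHmap_comp _ _ p z).trans ?_
      refine (congrArg (fun g => Sheaf.H.map ((SheafOfModules.toSheaf X.ringCatSheaf).map g) p z)
        (hred.modPowIso (n + 1) M).hom_inv_id).trans ?_
      refine (congrArg (fun g => Sheaf.H.map g p z) ((SheafOfModules.toSheaf X.ringCatSheaf).map_id _)).trans ?_
      exact Sheaf.H.map_id_apply _
    rwa [h2, h2] at h1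
  have hcomp : ∀ n x, e n (Formal.toHHmodPow I₀ M p n x) = Formal.toHHmodPow I M p n x := fun n x =>
    (Formal.HHmap_comp _ _ p x).trans (congrArg (fun g => Sheaf.H.map
      ((SheafOfModules.toSheaf X.ringCatSheaf).map g) p x) (hred.π_modPowIso (n + 1) M))
  refine ⟨fun a b hab => h.1 (Subtype.ext (funext fun n => ?_)), fun ξ => ?_⟩
  · exact (hcomp n a).symm.trans ((congrArg (e n) (congrFun (congrArg Subtype.val hab) n)).trans (hcomp n b))
  · obtain ⟨x, hx⟩ := h.2 ⟨fun n => e n (ξ.1 n), fun n => by
      refine ((Formal.HHmap_comp _ _ p _).trans ?_).trans (congrArg (e n) (ξ.2 n))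
      refine (congrArg (fun g => Sheaf.H.map ((SheafOfModules.toSheaf X.ringCatSheaf).map g) p (ξ.1 (n + 1)))
        (hred.modPowIso_trans (n + 1) M).symm).trans ?_
      exact (Formal.HHmap_comp _ _ p _).symm⟩
    exact ⟨x, Subtype.ext (funext fun n => he n ((hcomp n x).trans (congrFun (congrArg Subtype.val hx) n)))⟩


open CategoryTheory AlgebraicGeometry Opposite in
/-- Let A be a ring, I ⊆ A an ideal and X a Noetherian scheme over Spec A such that for every finite
locally free O_X-module E the canonical map H^0(X, E) → lim_n H^0(X, E/I^(n+1)E) is bijective. Then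
for all finite locally free O_X-modules E and E', every map of inverse systems ψ : (E/I^(n+1)E)_n →
(E'/I^(n+1)E')_n is induced by exactly one map φ : E → E', in the sense that for every n the
projection E → E/I^(n+1)E followed by ψ_n equals φ followed by the projection E' → E'/I^(n+1)E'.
(The published statement also asserts the converse implication, which is not stated here.) -/
theorem result (A : Type u) [CommRing A] (I : Ideal A) (X : Scheme.{u})
    [X.Over (Spec (CommRingCat.of A))] [IsNoetherian X]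
    (h : ∀ E : X.Modules, FlatMod.IsFinLocFree E → Function.Bijective (Formal.toHHlim I E 0))
    (E E' : X.Modules) (hE : FlatMod.IsFinLocFree E) (hE' : FlatMod.IsFinLocFree E')
    (ψ : Formal.completion I E ⟶ Formal.completion I E') :
    ∃! φ : E ⟶ E', ∀ n : ℕ, Formal.modPowπ I (n + 1) E ≫ ψ.app (op n) = φ ≫ Formal.modPowπ I (n + 1) E' := by
  obtain ⟨A₀, iC, iN, I₀, iO, hred⟩ := Groth.Agent.Formal2Lib.exists_baseRed X I
  let a := hred.completionIso E
  let b := hred.completionIso E'
  have hbij := toHHlim_bijective_baseRed hred _ 0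
    (h _ (Groth.Agent.Coherent.CohBC.isFinLocFree_internalHom hE hE'))
  obtain ⟨φ, hφ, huniq⟩ := Groth.Agent.Coherent.NoSep.existsUnique_hom_of_bijective I₀
    (Groth.Agent.Coherent.CohBC.isCoh_of_isFinLocFree hE) (Groth.Agent.Coherent.CohBC.isCoh_of_isFinLocFree hE')
    hbij (a.hom ≫ ψ ≫ b.inv)
  have key : ∀ (φ' : E ⟶ E') (n : ℕ),
      (Formal.modPowπ I (n + 1) E ≫ ψ.app (op n) = φ' ≫ Formal.modPowπ I (n + 1) E') ↔
      (Formal.modPowπ I₀ (n + 1) E ≫ (a.hom ≫ ψ ≫ b.inv).app (op n) =
        φ' ≫ Formal.modPowπ I₀ (n + 1) E') := fun φ' n => by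
    have h1 : Formal.modPowπ I₀ (n + 1) E ≫ (a.hom ≫ ψ ≫ b.inv).app (op n) =
        (Formal.modPowπ I (n + 1) E ≫ ψ.app (op n)) ≫ b.inv.app (op n) :=
      ((Category.assoc _ _ _).symm.trans (congrArg (· ≫ ψ.app (op n) ≫ b.inv.app (op n))
        (hred.π_completionIso E n))).trans (Category.assoc _ _ _).symm
    have h2 : φ' ≫ Formal.modPowπ I₀ (n + 1) E' =
        (φ' ≫ Formal.modPowπ I (n + 1) E') ≫ b.inv.app (op n) :=
      ((congrArg (φ' ≫ ·) (hred.π_completionIso_inv E' n)).symm.trans (Category.assoc _ _ _).symm)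
    rw [h1, h2]
    exact ⟨fun hh => congrArg (· ≫ b.inv.app (op n)) hh, fun hh => (cancel_mono (b.inv.app (op n))).1 hh⟩
  exact ⟨φ, fun n => (key φ n).2 (hφ n), fun φ' hφ' => huniq φ' fun n => (key φ' n).1 (hφ' n)⟩

end Groth.Agent.S0840
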