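import Groth.Statements.S0848
import Groth.Agent.Coherent.Serre.FormalKernels

set_option autoImplicit false
universe u
open Coherent

namespace Groth.Agent.S0848

open CategoryTheory CategoryTheory.Limits AlgebraicGeometry in
/-- Let A be a Noetherian ring, I an ideal of A, X a scheme proper over Spec A carrying an ample
invertible O_X-module L, and (F_n)_{n ≥ 0} a coherent formal module for I on X (F_n coherent and
killed by I^(n+1), with F_n = F_(n+1)/I^(n+1)F_(n+1)). Then there is d₀ such that H^1(X, Ker(F_(n+1)
→ F_n) ⊗ L^⊗d) = 0 for every n ≥ 0 and every d ≥ d₀. (Indices are shifted by one relative to the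
published statement, which indexes from 1 and also covers the first term itself as the kernel of F_1
→ F_0 = 0; here only the kernels of the transition maps appear, so the first term is not among
them.) -/
theorem result (A : Type u) [CommRing A] [IsNoetherianRing A] (I : Ideal A)
    (X : Scheme.{u}) [X.Over (Spec (CommRingCat.of A))] [IsProper (X ↘ Spec (CommRingCat.of A))]
    (L : X.Modules) (hL : CohB1.IsAmple L) (G : ℕᵒᵖ ⥤ X.Modules) (hG : Formal.IsCohFormal I G) :
    ∃ d₀ : ℕ, ∀ (n d : ℕ), d₀ ≤ d →
      Subsingleton (Coh.HH X (CohB1.tensorMod (kernel (G.map (homOfLE (Nat.le_succ n)).op))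
        (CohB1.tensorPow L d)) 1) := by
  have : IsLocallyNoetherian X := LocallyOfFiniteType.isLocallyNoetherian (X ↘ Spec (CommRingCat.of A))
  have : CompactSpace X := QuasiCompact.compactSpace_of_compactSpace (X ↘ Spec (CommRingCat.of A))
  obtain ⟨r, a, ha⟩ := Submodule.fg_iff_exists_fin_generating_family.1 (IsNoetherian.noetherian I)
  have hai : ∀ i, a i ∈ I := fun i => ha.le (Submodule.subset_span ⟨i, rfl⟩)
  obtain ⟨d₀, hd⟩ := Groth.Agent.Coherent.Serre.exists_uniform_vanishesFrom hL.1
    (Groth.Agent.Coherent.Serre.exists_vanishesFrom_of_ample A hL) r _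
    (Groth.Agent.Coherent.Serre.isCoh_kernel_tr hG)
    (fun i k => Groth.Agent.Coherent.Serre.kerOp hG (hai i) k)
    (fun i j k => Groth.Agent.Coherent.Serre.kerOp_comm hG (hai i) (hai j) k)
    (Groth.Agent.Coherent.Serre.secEG_kerOp hG hai ha)
  exact ⟨d₀, fun n d hd' => (Groth.Agent.Coherent.Serre.subsingleton_H'_top_iff _ 1).1
    (hd n d hd' 1 one_pos)⟩

end Groth.Agent.S0848
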