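import Groth.Statements.S0851
import Groth.Agent.Formal2Lib.Almost
import Groth.Agent.Formal2Lib.BaseRed

set_option autoImplicit false
universe u
open Formal2

namespace Groth.Agent.S0851

open CategoryTheory CategoryTheory.Limits AlgebraicGeometry Opposite in
/-- Part (2), existence, for the ideal sheaf I·O_X of an ideal I of a base ring A (position n of a
system holds the quotient by I^(n+1)). Let X be a Noetherian scheme over Spec A, G a coherent
O_X-module and (F_n) a coherent formal module for I. Suppose α : (G/I^nG) → (F_n) is a map of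
systems such that one fixed power of I kills the kernel and the cokernel of every component. Then
there are a coherent O_X-module F, a map a : G → F with I-power-torsion kernel and cokernel, and an
isomorphism β : (F/I^nF) ≅ (F_n) under which α becomes the map induced by a. -/
theorem result (A : Type u) [CommRing A] (I : Ideal A) (X : Scheme.{u})
    [X.Over (Spec (CommRingCat.of A))] [IsNoetherian X] (G : X.Modules) (hG : Coh.IsCoh G)
    (F : ℕᵒᵖ ⥤ X.Modules) (hF : Formal.IsCohFormal I F) (α : Formal.completion I G ⟶ F)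
    (hα : Formal2.KerCokerKilledByIPow I α) :
    ∃ (F' : X.Modules) (a : G ⟶ F') (β : Formal.completion I F' ≅ F), Coh.IsCoh F' ∧
      Formal2.KerCokerKilledByIPowHom I a ∧
      ∀ n : ℕ, Formal.modPowπ I (n + 1) G ≫ α.app (op n) = a ≫ Formal.modPowπ I (n + 1) F' ≫ β.hom.app (op n) := by
  obtain ⟨A₀, iC, iN, I₀, iO, hred⟩ := Groth.Agent.Formal2Lib.exists_baseRed X I
  let η := hred.completionIso G
  obtain ⟨t, ht⟩ := (hred.kerCokerKilled_iff (η.hom ≫ α)).2 (by
    obtain ⟨t, ht⟩ := hα
    refine ⟨t, fun n => ⟨?_, ?_⟩⟩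
    · exact Groth.Agent.Formal2Lib.killedBy_of_iso
        (kernelIsIsoComp (η.hom.app (op n)) (α.app (op n))).symm (ht n).1
    · exact Groth.Agent.Formal2Lib.killedBy_of_iso
        (cokernelEpiComp (η.hom.app (op n)) (α.app (op n))).symm (ht n).2)
  obtain ⟨F', a, β, c, hF', hk, hck, he⟩ := Groth.Agent.Formal2Lib.exists_algebraization_right
    (hred.isCohFormal_iff.2 hF) hG (η.hom ≫ α) (fun n => (ht n).1) (fun n => (ht n).2)
  refine ⟨F', a, (hred.completionIso F').symm ≪≫ β, hF',
    ⟨c, hred.killedBy_iff.1 (Groth.Agent.Coherent.Existence.killedBy_of_le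
        (Ideal.pow_le_pow_right (Nat.le_succ c)) hk),
      hred.killedBy_iff.1 (Groth.Agent.Coherent.Existence.killedBy_of_le
        (Ideal.pow_le_pow_right (Nat.le_succ c)) hck)⟩, fun n => ?_⟩
  refine ((congrArg (· ≫ α.app (op n)) (hred.π_completionIso G n).symm).trans
    ((Category.assoc _ _ _).trans (he n))).trans ?_
  refine congrArg (a ≫ ·) ?_
  simp only [Iso.trans_hom, Iso.symm_hom, NatTrans.comp_app]
  exact (congrArg (· ≫ β.hom.app (op n)) (hred.π_completionIso_inv F' n).symm).trans
    (Category.assoc _ _ _)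

end Groth.Agent.S0851
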