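import Groth.Prelude.Def_CohSite
import Groth.Agent.SiteCoh.RpushColim

set_option autoImplicit false
universe u
open CategoryTheory
open CohSite

namespace Groth.Agent.S0882

open Opposite CategoryTheory.Limits in
/-- Let u : D -> C be a continuous functor underlying a morphism of sites f : C -> D, (F_i) a diagram of
abelian sheaves on C indexed by a small category and p >= 0. Let B be the class of objects V of D
such that colim_i H^p(u(V), F_i) -> H^p(u(V), colim F_i) is an isomorphism. If every object of D has
a covering by members of B, then colim_i R^p f_* F_i -> R^p f_* (colim F_i) is an isomorphism (both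
phrased as preservation of the colimit). -/
theorem result {C D : Type u} [SmallCategory C]
    [SmallCategory D] (J : GrothendieckTopology C) (K : GrothendieckTopology D) (u : D ⥤ C)
    [u.IsContinuous K J]
    {ι : Type u} [SmallCategory ι] (F : ι ⥤ Sheaf J AddCommGrpCat.{u})
    (p : ℕ)
    (h : ∀ V : D, ∃ (κ : Type u) (Y : κ → D) (g : ∀ k, Y k ⟶ V), Sieve.ofArrows Y g ∈ K V ∧
      ∀ k, PreservesColimit F ((Sheaf.cohomologyPresheafFunctor J p).flip.obj (op (u.obj (Y k))))) :
    PreservesColimit F (CohSite.Rpush J K u p) := by
  haveI : Limits.PreservesColimit F (Sheaf.cohomologyPresheafFunctor.{u} J p ⋙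
      (Functor.whiskeringLeft _ _ AddCommGrpCat.{u}).obj u.op ⋙
        presheafToSheaf K AddCommGrpCat.{u}) :=
    Groth.Agent.SiteCoh.preservesColimit_comp_sheafify K F
      (Sheaf.cohomologyPresheafFunctor.{u} J p ⋙
        (Functor.whiskeringLeft _ _ AddCommGrpCat.{u}).obj u.op) h
  exact Limits.preservesColimit_of_natIso F (Groth.Agent.SiteCoh.rpushIso J K u p).symm

end Groth.Agent.S0882
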