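import Groth.Prelude.Def_CohSite
import Mathlib.Algebra.Category.ModuleCat.Sheaf
import Mathlib.Algebra.Category.ModuleCat.Sheaf.Abelian
import Mathlib.Algebra.Category.ModuleCat.Presheaf.Generator
import Mathlib.Algebra.Category.ModuleCat.Presheaf.Sheafification

set_option autoImplicit false
universe u
namespace CategoryTheory
end CategoryTheory
open CategoryTheory
namespace CohSite
end CohSite
open CohSite

namespace Groth.Agent.S0856

open Opposite in
/-- Let (C, O) be a ringed site, a : U' -> U a monomorphism of C and I an injective sheaf of O-modules.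
Then the restriction map I(U) -> I(U') is surjective. -/
theorem result {C : Type u} [SmallCategory C]
    {J : GrothendieckTopology C} (O : Sheaf J RingCat.{u}) (I : SheafOfModules.{u} O) [Injective I]
    {U U' : C} (a : U' ⟶ U) [Mono a] : Function.Surjective (I.val.map a.op) := by
  intro s
  let FP := PresheafOfModules.free.{u} O.obj
  let Sh := PresheafOfModules.sheafification.{u} (𝟙 O.obj)
  let adj := PresheafOfModules.sheafificationAdjunction.{u} (𝟙 O.obj)
  haveI : Mono (FP.map (yoneda.map a)) := by
    haveI : ∀ W, Mono ((yoneda.map a).app W) := fun W => inferInstance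
    refine PresheafOfModules.mono_of_injective (fun {W} => ?_)
    exact Finsupp.mapDomain_injective ((mono_iff_injective ((yoneda.map a).app W)).1 inferInstance)
  haveI : Mono (Sh.map (FP.map (yoneda.map a))) := inferInstance
  let e : ∀ V : C, (Sh.obj (FP.obj (yoneda.obj V)) ⟶ I) ≃
      ((SheafOfModules.toSheaf O).obj I).obj.obj (Opposite.op V) := fun V =>
    (adj.homEquiv _ I).trans (((PresheafOfModules.freeAdjunction.{u} O.obj).homEquiv _ _).trans yonedaEquiv)
  let t := Injective.factorThru ((e U').symm s) (Sh.map (FP.map (yoneda.map a)))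
  refine ⟨e U t, ?_⟩
  have key : ∀ z : Sh.obj (FP.obj (yoneda.obj U)) ⟶ I,
      e U' (Sh.map (FP.map (yoneda.map a)) ≫ z) = I.val.map a.op (e U z) := by
    intro z
    dsimp only [e, Equiv.trans_apply]
    rw [adj.homEquiv_naturality_left]
    erw [(PresheafOfModules.freeAdjunction.{u} O.obj).homEquiv_naturality_left]
    exact (yonedaEquiv_naturality _ a).symm
  rw [← key, Injective.comp_factorThru, Equiv.apply_symm_apply]

end Groth.Agent.S0856
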