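import Groth.Prelude.Def_CohSite
import Groth.Agent.SiteCoh.ExtAcyclic
import Groth.Agent.SiteCoh.Basics
import Mathlib.Algebra.Homology.DerivedCategory.Ext.ExtClass

set_option autoImplicit false
universe u
open CategoryTheory
open CohSite

namespace Groth.Agent.S0857

open CategoryTheory.Limits CategoryTheory.Abelian Groth.Agent.SiteCoh in
lemma eq_zero_of_proj {A : Type*} [Category* A] [Abelian A] [HasExt.{u} A] [EnoughInjectives A]
    {I : Type u} (F : I → A) [HasProductsOfShape I A] {X : A} (x : Ext X (∏ᶜ F) 1)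
    (hx : ∀ i, x.comp (Ext.mk₀ (Pi.π F i)) (add_zero 1) = 0) : x = 0 := by
  let j : ∏ᶜ F ⟶ ∏ᶜ fun i => Injective.under (F i) := Limits.Pi.map fun i => Injective.ι (F i)
  let S := ShortComplex.mk j (cokernel.π j) (cokernel.condition j)
  have hS : S.ShortExact :=
    { exact := ShortComplex.exact_cokernel _
      mono_f := inferInstanceAs (Mono (Limits.Pi.map fun i => Injective.ι (F i)))
      epi_g := inferInstanceAs (Epi (cokernel.π _)) }
  let g' : (∏ᶜ fun i => Injective.under (F i)) ⟶ ∏ᶜ fun i => (injEmbed (F i)).X₃ :=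
    Limits.Pi.map fun i => (injEmbed (F i)).g
  let T := ShortComplex.mk j g' (Pi.hom_ext _ _ fun i => by simp [j, g'])
  have hT : T.Exact := by
    refine ShortComplex.exact_of_f_is_kernel _ (KernelFork.IsLimit.ofι' _ _ fun {W} k hk => ?_)
    have hki : ∀ i, (k ≫ Pi.π _ i) ≫ (injEmbed (F i)).g = 0 := fun i => by
      have := congrArg (fun m => m ≫ Pi.π _ i) hk
      simpa [T, g'] using this
    have := fun i => (injEmbed_shortExact (F i)).mono_f
    exact ⟨Pi.lift fun i => (injEmbed_shortExact (F i)).exact.lift _ (hki i),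
      Pi.hom_ext _ _ fun i => by
        simp only [T, j, Category.assoc, Limits.Pi.map_π, Pi.lift_π_assoc]
        exact (injEmbed_shortExact (F i)).exact.lift_f _ (hki i)⟩
  have hmono : Mono (cokernel.desc T.f T.g T.zero) := T.exact_iff_mono_cokernel_desc.1 hT
  let q : S.X₃ ⟶ ∏ᶜ fun i => (injEmbed (F i)).X₃ := cokernel.desc T.f T.g T.zero
  have hI : Injective S.X₂ := by
    have := fun i => (inferInstance : Injective (Injective.under (F i)))
    exact inferInstanceAs (Injective (∏ᶜ fun i => Injective.under (F i)))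
  obtain ⟨y, rfl⟩ := Ext.covariant_sequence_exact₁ X hS x (Ext.eq_zero_of_injective _) (zero_add 1)
  obtain ⟨a, rfl⟩ := (Ext.mk₀_bijective X S.X₃).2 y
  let φ (i : I) : S ⟶ injEmbed (F i) :=
    { τ₁ := Pi.π F i
      τ₂ := Pi.π _ i
      τ₃ := q ≫ Pi.π _ i
      comm₁₂ := by simp [S, j]
      comm₂₃ := by simp [S, q, T, g'] }
  have hb : ∀ i, ∃ b : X ⟶ (injEmbed (F i)).X₂,
      b ≫ (injEmbed (F i)).g = a ≫ (φ i).τ₃ := fun i => by
    have h := hx i
    rw [Ext.comp_assoc_of_third_deg_zero] at h
    rw [show Pi.π F i = (φ i).τ₁ from rfl,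
      ShortComplex.ShortExact.extClass_naturality hS (injEmbed_shortExact (F i)) (φ i),
      Ext.mk₀_comp_mk₀_assoc] at h
    obtain ⟨z, hz⟩ := Ext.covariant_sequence_exact₃ X (injEmbed_shortExact (F i))
      (Ext.mk₀ (a ≫ (φ i).τ₃)) (zero_add 1) h
    obtain ⟨c, rfl⟩ := (Ext.mk₀_bijective X _).2 z
    exact ⟨c, (Ext.mk₀_bijective X _).1 (by rw [← hz, Ext.mk₀_comp_mk₀])⟩
  choose b hb using hb
  have : a = Pi.lift b ≫ S.g := by
    have : (a - Pi.lift b ≫ S.g) ≫ q = 0 := Pi.hom_ext _ _ fun i => by
      simp [S, q, T, g', Preadditive.sub_comp, hb, φ]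
    exact sub_eq_zero.1 ((cancel_mono q).1 (this.trans zero_comp.symm))
  rw [this, ← Ext.mk₀_comp_mk₀, Ext.comp_assoc_of_second_deg_zero, hS.comp_extClass, Ext.comp_zero]

open Opposite CategoryTheory.Limits in
/-- For a family of abelian sheaves F_i on a site and an object U, the map H^1(U, ∏ F_i) -> ∏ H^1(U,
F_i) induced by the projections is injective. (The degree-zero part of the published statement, that
sections of a product are the product of sections, is not restated.) -/
theorem result {C : Type u} [SmallCategory C] {J : GrothendieckTopology C}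
    {I : Type u} (F : I → Sheaf J AddCommGrpCat.{u}) (U : C) :
    Function.Injective (fun (x : CohSite.HU (∏ᶜ F) 1 U) (i : I) =>
      (((Sheaf.cohomologyPresheafFunctor J 1).map (Pi.π F i)).app (op U)).hom x) := by
  refine (injective_iff_map_eq_zero (AddMonoidHom.pi fun i =>
    (((Sheaf.cohomologyPresheafFunctor J 1).map (Pi.π F i)).app (op U)).hom)).2 ?_
  intro x hx
  exact eq_zero_of_proj F x fun i => congrFun hx i

end Groth.Agent.S0857
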