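import Groth.Prelude.Def_CohTop
import Mathlib.Topology.Category.TopCat.Adjunctions
import Groth.Agent.SiteCoh.SheafTools
import Groth.Agent.SiteCoh.Criterion
import Mathlib.Topology.Sheaves.Skyscraper

set_option autoImplicit false
universe u
open CategoryTheory
open CohTop

namespace Groth.Agent.S0866

open CategoryTheory CategoryTheory.Limits Opposite TopologicalSpace Groth.Agent.SiteCoh

/-- Every sheaf on a discrete space is flasque. -/
lemma isFlasque_of_discrete {Y : TopCat.{u}} [DiscreteTopology Y] (G : CohTop.Ab Y) :
    TopCat.Sheaf.IsFlasque G where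
  epi {U V} i := (AddCommGrpCat.epi_iff_surjective _).2 fun t => by
    let W : Opens Y := ⟨(U.unop : Set Y) \ V.unop, isOpen_discrete _⟩
    let T : ULift.{u} Bool → Opens Y := fun b => if b.down then V.unop else W
    have hT : ∀ b, T b ≤ U.unop := fun b => by
      cases b with
      | up b => cases b
                · exact fun y hy => hy.1
                · exact leOfHom i.unop
    let s : ∀ b, G.obj.obj (op (T b)) := fun b =>
      if h : b.down then G.obj.map (eqToHom (congrArg op (if_pos h).symm)) t else 0
    have hbot : ∀ Z : Opens Y, Z ≤ V.unop → Z ≤ W → Subsingleton (G.obj.obj (op Z)) := by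
      intro Z h₁ h₂
      obtain rfl : Z = ⊥ := Opens.ext (Set.eq_empty_of_forall_notMem fun y hy => (h₂ hy).2 (h₁ hy))
      exact AddCommGrpCat.subsingleton_of_isZero (TopCat.Sheaf.isTerminalOfEmpty G).isZero
    obtain ⟨r, hr, -⟩ := existsUnique_amalgamation G (fun b => homOfLE (hT b))
      (ofArrows_mem_of_le T hT fun y hy => Opens.mem_iSup.2 (by
        by_cases hyV : y ∈ V.unop
        · exact ⟨⟨true⟩, hyV⟩
        · exact ⟨⟨false⟩, hy, hyV⟩))
      s fun b b' Z g g' _ => by
        obtain ⟨b⟩ := b
        obtain ⟨b'⟩ := b'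
        cases b <;> cases b'
        · rw [Subsingleton.elim g g']
        · exact (hbot Z (leOfHom g') (leOfHom g)).elim _ _
        · exact (hbot Z (leOfHom g) (leOfHom g')).elim _ _
        · rw [Subsingleton.elim g g']
    refine ⟨r, ?_⟩
    have := hr ⟨true⟩
    simp only [s, dite_true] at this
    refine Eq.trans ?_ (this.trans (ConcreteCategory.congr_hom (G.obj.map_id V) t))
    exact congrArg (fun m => G.obj.map m r) (Subsingleton.elim _ _)

/-- A morphism vanishing on all stalks vanishes. -/
lemma eq_zero_of_stalk {Y : TopCat.{u}} {W F : CohTop.Ab Y} (ψ : W ⟶ F)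
    (h : ∀ y : Y, (TopCat.Presheaf.stalkFunctor AddCommGrpCat.{u} y).map ψ.hom = 0) : ψ = 0 := by
  ext U w
  refine TopCat.Presheaf.section_ext F U.unop _ _ fun y hy => ?_
  refine Eq.trans ?_ (map_zero (TopCat.Presheaf.germ F.obj U.unop y hy).hom).symm
  refine (TopCat.Presheaf.stalkFunctor_map_germ_apply U.unop y hy ψ.hom w).symm.trans ?_
  rw [h y]
  rfl

/-- The first step of the Godement resolution, for abelian sheaves: let f : X_disc -> X be the identity
map from X with the discrete topology. For an abelian sheaf F on X, the adjunction unit F -> f_*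
f^{-1} F is a monomorphism and f_* f^{-1} F is a flasque sheaf. (The source builds the whole
functorial flasque resolution by iterating f_* f^{-1} and proves it is a stalkwise homotopy
equivalence; only this first step is asserted here.) -/
theorem result {X : TopCat.{u}} (F : CohTop.Ab X) :
    Mono ((TopCat.Sheaf.pullbackPushforwardAdjunction AddCommGrpCat.{u}
      (TopCat.adj₁.counit.app X)).unit.app F) ∧
    TopCat.Sheaf.IsFlasque ((CohTop.push (TopCat.adj₁.counit.app X)).obj
      ((CohTop.pull (TopCat.adj₁.counit.app X)).obj F)) := by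
  classical
  haveI : DiscreteTopology ↥(TopCat.discrete.obj X) := ⟨rfl⟩
  let f := TopCat.adj₁.counit.app X
  refine ⟨?_, ?_⟩
  · let adj := TopCat.Sheaf.pullbackPushforwardAdjunction AddCommGrpCat.{u} f
    let G : X → CohTop.Ab _ := fun x =>
      skyscraperSheaf (C := AddCommGrpCat.{u}) (X := (TopCat.discrete.obj ((CategoryTheory.forget TopCat).obj X))) x
        (CohTop.stalk F x)
    let P : X → CohTop.Ab X := fun x => (CohTop.push f).obj (G x)
    let η : ∀ x, F ⟶ P x := fun x => (stalkSkyscraperSheafAdjunction (C := AddCommGrpCat.{u}) (X := X) x).unit.app F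
    haveI : (CohTop.push f).IsRightAdjoint := adj.isRightAdjoint
    let φ : F ⟶ (CohTop.push f).obj (∏ᶜ G) := Pi.lift η ≫ (PreservesProduct.iso (CohTop.push f) G).inv
    have : Mono (Pi.lift η) := Preadditive.mono_of_cancel_zero _ fun {W} ψ hψ =>
      eq_zero_of_stalk ψ fun x => by
        let adjx := stalkSkyscraperSheafAdjunction (C := AddCommGrpCat.{u}) (X := X) x
        apply (adjx.homEquiv W _).injective
        have h0 : ψ ≫ η x = 0 := by
          have := congrArg (fun m => m ≫ Pi.π P x) hψ
          simpa using this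
        refine ((adjx.homEquiv_unit ..).trans ((adjx.unit.naturality ψ).symm.trans h0)).trans ?_
        exact (Functor.map_zero (skyscraperSheafFunctor (C := AddCommGrpCat.{u}) (X := X) x) _ _ ▸
          (Limits.comp_zero (f := adjx.unit.app W)).symm).trans (adjx.homEquiv_unit ..).symm
    have : Mono φ := mono_comp _ _
    have hfac : φ = adj.unit.app F ≫ (CohTop.push f).map ((adj.homEquiv _ _).symm φ) :=
      ((adj.homEquiv _ _).apply_symm_apply φ).symm.trans (adj.homEquiv_unit ..)
    haveI : Mono (adj.unit.app F ≫ (CohTop.push f).map ((adj.homEquiv _ _).symm φ)) := hfac ▸ this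
    exact mono_of_mono (adj.unit.app F) ((CohTop.push f).map ((adj.homEquiv _ _).symm φ))
  · haveI : DiscreteTopology ↥((CategoryTheory.forget TopCat.{u} ⋙ TopCat.discrete).obj X) := ⟨rfl⟩
    haveI := isFlasque_of_discrete ((CohTop.pull f).obj F)
    exact TopCat.Sheaf.IsFlasque.pushforward_isFlasque _ f

end Groth.Agent.S0866
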