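import Groth.Prelude.Def_CohTop
import Mathlib.Algebra.Homology.Embedding.CochainComplex
import Mathlib.Algebra.Homology.QuasiIso
import Groth.Prelude.Def_CohCx
import Mathlib.Algebra.Homology.HomotopyCategory
import Groth.Agent.HTop16.GodementSpace

set_option autoImplicit false
universe u
namespace CategoryTheory
end CategoryTheory
open CategoryTheory
namespace CohTop
end CohTop
open CohTop

namespace Groth.Agent.S0867

/-- For a complex F of abelian sheaves on X with F^n = 0 for n < a there are a complex G with G^n = 0
for n < a whose terms are all flasque and a morphism F -> G which is a quasi-isomorphism and which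
induces, at every point x, a homotopy equivalence between the complexes of stalks F_x -> G_x. -/
theorem result {X : TopCat.{u}} (F : CochainComplex (CohTop.Ab X) ℤ)
    (a : ℤ) (hF : F.IsStrictlyGE a) :
    ∃ (G : CochainComplex (CohTop.Ab X) ℤ) (φ : F ⟶ G), G.IsStrictlyGE a ∧ QuasiIso φ ∧
      (∀ n : ℤ, TopCat.Sheaf.IsFlasque (G.X n)) ∧
      ∀ x : X, ∃ e : HomotopyEquiv ((CohCx.stalkCx x).obj F) ((CohCx.stalkCx x).obj G),
        e.hom = (CohCx.stalkCx x).map φ := by
  exact Groth.Agent.HTop16.GodementSpace.exists_flasque_stalkwise F a hF

end Groth.Agent.S0867
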