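import Groth.Prelude.Def_CohCx
import Mathlib.Algebra.Homology.DerivedCategory.ExactFunctor
import Groth.Agent.SiteCoh.Restrict
import Groth.Agent.SiteCoh.Sections
import Groth.Agent.SiteDer16.SubcatEquiv
import Mathlib.CategoryTheory.Localization.Adjunction

set_option autoImplicit false
universe u
namespace CategoryTheory
end CategoryTheory
open CategoryTheory
namespace CohTop
end CohTop
open CohTop

namespace Groth.Agent.S0871

open Groth.Agent.SiteCoh in
theorem exists_shriek {X : TopCat.{u}} (U : TopologicalSpace.Opens X) :
    ∃ (L : CohTop.Ab (TopCat.of U) ⥤ CohTop.Ab X) (_ : L ⊣ CohTop.restrFunctor U),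
      Limits.PreservesFiniteLimits L := by
  let J := _root_.Opens.grothendieckTopology X
  let adj₁ := (Over.forget U).sheafAdjunctionContinuous AddCommGrpCat.{u} (J.over U) J
  refine ⟨_, (U.sheafEquivOver.symm.toAdjunction.comp adj₁).ofNatIsoRight
    U.overPullbackSheafEquivOver, ?_⟩
  haveI := sheafPullback_overForget_preservesFiniteLimits J U
  exact Limits.comp_preservesFiniteLimits _ _

open TopologicalSpace CategoryTheory.Limits in
/-- For an object K of the derived category of abelian sheaves on X and an open U, H^p(U, K) is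
isomorphic to H^p(U, K|_U), where K|_U is the image of K under the functor on derived categories
induced by the (exact) restriction to U. Exactness of restriction is assumed through instance
arguments (true, but not recorded by Mathlib in this generality). -/
theorem result {X : TopCat.{u}} (U : Opens X)
    [HasDerivedCategory.{u} (CohTop.Ab X)] [HasDerivedCategory.{u} (CohTop.Ab (TopCat.of U))]
    [PreservesFiniteLimits (CohTop.restrFunctor U)] [PreservesFiniteColimits (CohTop.restrFunctor U)]
    (K : DerivedCategory (CohTop.Ab X)) (p : ℤ) :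
    Nonempty (CohCx.HDU K p U ≃+ CohCx.HDU ((CohTop.restrFunctor U).mapDerivedCategory.obj K) p ⊤) := by
  classical
  obtain ⟨L, adj, hL⟩ := exists_shriek U
  haveI := hL
  haveI : L.IsLeftAdjoint := adj.isLeftAdjoint
  haveI : Limits.PreservesFiniteColimits L := ⟨fun _ _ _ => inferInstance⟩
  haveI : L.Additive := Functor.additive_of_preserves_binary_products L
  let R := CohTop.restrFunctor U
  letI : CatCommSq (L.mapHomologicalComplex (ComplexShape.up ℤ)) DerivedCategory.Q DerivedCategory.Q
      L.mapDerivedCategory := ⟨L.mapDerivedCategoryFactors.symm⟩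
  letI : CatCommSq (R.mapHomologicalComplex (ComplexShape.up ℤ)) DerivedCategory.Q DerivedCategory.Q
      R.mapDerivedCategory := ⟨R.mapDerivedCategoryFactors.symm⟩
  let adjD : L.mapDerivedCategory ⊣ R.mapDerivedCategory :=
    (SiteDer16.SubcatEquiv.adjCx (ComplexShape.up ℤ) adj).localization
      DerivedCategory.Q (HomologicalComplex.quasiIso _ _) DerivedCategory.Q (HomologicalComplex.quasiIso _ _) _ _
  let T : CohTop.Ab (TopCat.of U) := CohCx.freeSheaf (_root_.Opens.grothendieckTopology (TopCat.of U)) ⊤
  let e : ∀ F : CohTop.Ab X, (L.obj T ⟶ F) ≃ (CohCx.freeSheaf (_root_.Opens.grothendieckTopology X) U ⟶ F) :=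
    fun F => (adj.homEquiv T F).trans ((SiteCoh.homEquiv (⊤ : TopologicalSpace.Opens U) (R.obj F)).toEquiv.trans
      ((F.obj.mapIso (eqToIso (congrArg Opposite.op (SiteCoh.opensIncl_top U)))).addCommGroupIsoToAddEquiv.toEquiv.trans
        (SiteCoh.homEquiv U F).symm.toEquiv))
  have he : ∀ {F G : CohTop.Ab X} (g : F ⟶ G) (a : L.obj T ⟶ F), e G (a ≫ g) = e F a ≫ g := by
    intro F G g a
    refine (SiteCoh.homEquiv U G).injective ?_
    rw [SiteCoh.homEquiv_postcomp]
    simp only [e, Equiv.trans_apply, AddEquiv.toEquiv_eq_coe, AddEquiv.coe_toEquiv, AddEquiv.apply_symm_apply,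
      Adjunction.homEquiv_naturality_right, SiteCoh.homEquiv_postcomp]
    erw [AddEquiv.apply_symm_apply, AddEquiv.apply_symm_apply, SiteCoh.homEquiv_postcomp]
    exact ConcreteCategory.congr_hom
      (g.hom.naturality (eqToHom (congrArg Opposite.op (SiteCoh.opensIncl_top U)))).symm _
  let ε : L.obj T ≅ CohCx.freeSheaf (_root_.Opens.grothendieckTopology X) U :=
    (Coyoneda.fullyFaithful.preimageIso
      (NatIso.ofComponents (fun F => (e F).symm.toIso) fun {F G} g => by
        ext a
        change (e G).symm (a ≫ g) = (e F).symm a ≫ g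
        apply (e G).injective
        rw [he, Equiv.apply_symm_apply, Equiv.apply_symm_apply] :
        coyoneda.obj (Opposite.op (CohCx.freeSheaf (_root_.Opens.grothendieckTopology X) U)) ≅
          coyoneda.obj (Opposite.op (L.obj T)))).unop
  let a : L.mapDerivedCategory.obj ((DerivedCategory.singleFunctor (CohTop.Ab (TopCat.of U)) 0).obj T) ≅
      (DerivedCategory.singleFunctor (CohTop.Ab X) 0).obj
        (CohCx.freeSheaf (_root_.Opens.grothendieckTopology X) U) :=
    (L.mapDerivedCategorySingleFunctor 0).app T ≪≫ (DerivedCategory.singleFunctor (CohTop.Ab X) 0).mapIso ε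
  haveI : L.mapDerivedCategory.Additive := inferInstance
  exact ⟨{ toFun := fun φ => adjD.homEquiv _ _ (a.hom ≫ φ) ≫ (R.mapDerivedCategory.commShiftIso p).hom.app K
           invFun := fun ψ => a.inv ≫ (adjD.homEquiv _ _).symm (ψ ≫ (R.mapDerivedCategory.commShiftIso p).inv.app K)
           left_inv := fun φ => by
             dsimp only
             rw [Category.assoc, Iso.hom_inv_id_app]
             erw [Category.comp_id, Equiv.symm_apply_apply, Iso.inv_hom_id_assoc]
           right_inv := fun ψ => by
             dsimp only
             rw [Iso.hom_inv_id_assoc, Equiv.apply_symm_apply, Category.assoc, Iso.inv_hom_id_app]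
             exact Category.comp_id ψ
           map_add' := fun φ ψ => by
             simp only [Preadditive.comp_add, Adjunction.homEquiv_unit, Functor.map_add, Preadditive.add_comp] }⟩

end Groth.Agent.S0871
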