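import Groth.Prelude.Def_CohCx
import Mathlib.Topology.Sheaves.Stalks
import Groth.Agent.SiteDer16.RlimSingle

set_option autoImplicit false
universe u
namespace CategoryTheory
end CategoryTheory
open CategoryTheory
namespace CohTop
end CohTop
open CohTop

namespace Groth.Agent.S0874

open TopologicalSpace CategoryTheory.Limits in
/-- Let (K_n) be an inverse system in D(Ab X), the derived category of sheaves of abelian groups on X,
with derived limit L (through maps a_n : L -> K_n), x a point and m an integer. Suppose there are an
index n(x) and a fundamental system of open neighbourhoods U of x such that (1) the inverse system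
H^{m-1}(U, K_n) has vanishing R^1 lim and (2) for every n >= n(x), the transition map from H^m(U,
K_n) to H^m(U, K_{n(x)}) is one-to-one. Then a_{n(x)} induces an injection of stalks at x, from
H^m(L) into H^m(K_{n(x)}). -/
theorem result {X : TopCat.{u}} [HasDerivedCategory.{u} (CohTop.Ab X)]
    (K : ℕ → DerivedCategory (CohTop.Ab X)) (t : ∀ n, K (n + 1) ⟶ K n) [HasProduct K]
    (L : DerivedCategory (CohTop.Ab X)) (a : ∀ n, L ⟶ K n) (hL : CohCx.IsRlimVia K t L a)
    (x : X) (m : ℤ) (nx : ℕ)
    (h : ∀ V : Opens X, x ∈ V → ∃ U : Opens X, x ∈ U ∧ U ≤ V ∧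
      CohCx.LimOneIsZero (fun n => CohCx.HDU (K n) (m - 1) U)
        (fun n => Preadditive.rightComp _ ((shiftFunctor _ (m - 1)).map (t n))) ∧
      ∀ k : ℕ, Function.Injective
        (Preadditive.rightComp _ ((shiftFunctor _ m).map (CohCx.transition K t nx k)) :
          CohCx.HDU (K (nx + k)) m U → CohCx.HDU (K nx) m U)) :
    Function.Injective ((TopCat.Presheaf.stalkFunctor AddCommGrpCat.{u} x).map
      ((DerivedCategory.homologyFunctor (CohTop.Ab X) m).map (a nx)).hom) := by
  exact Groth.Agent.SiteDer16.stalk_injective K t L a hL x m nx h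

end Groth.Agent.S0874
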