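import Groth.Prelude.Def_CohCx
import Groth.Agent.SiteDer16.RlimSites

set_option autoImplicit false
universe u
namespace CategoryTheory
end CategoryTheory
open CategoryTheory
namespace CohTop
end CohTop
open CohTop

namespace Groth.Agent.S0875

open TopologicalSpace CategoryTheory.Limits in
/-- Let E be an object of the derived category of abelian sheaves on X. Assume every point x has a
function p(x, -) and a fundamental system of open neighbourhoods U with H^p(U, H^{m-p}(E)) = 0 for
all m and all p > p(x, m). Then E is a derived limit of the tower of its truncations τ_{≥ -n} E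
through the canonical maps E -> τ_{≥ -n} E (equivalently, E -> R lim τ_{≥ -n} E is an isomorphism).
The existence of the countable product of the truncations is assumed. -/
theorem result {X : TopCat.{u}}
    [HasDerivedCategory.{u} (CohTop.Ab X)] (E : DerivedCategory (CohTop.Ab X))
    [HasProduct (CohCx.truncTower E)]
    (h : ∀ x : X, ∃ p : ℤ → ℤ, ∀ V : Opens X, x ∈ V → ∃ U : Opens X, x ∈ U ∧ U ≤ V ∧
      ∀ (m : ℤ) (k : ℕ), p m < k → Subsingleton (CohTop.HU (CohCx.HD E (m - k)) k U)) :
    CohCx.IsRlimVia (CohCx.truncTower E) (CohCx.truncTowerMap E) E (CohCx.toTruncTower E) := by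
  exact SiteDer16.isRlimVia_top E h

end Groth.Agent.S0875
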