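import Groth.Prelude.Def_CohCx
import Mathlib.CategoryTheory.Sites.MayerVietorisSquare
import Mathlib.Algebra.Homology.ExactSequence
import Mathlib.Algebra.Homology.DerivedCategory.ShortExact
import Mathlib.Algebra.Category.Grp.Abelian

set_option autoImplicit false
universe u
namespace CategoryTheory
end CategoryTheory
open CategoryTheory
namespace CohSite
end CohSite
open CohSite

namespace Groth.Agent.S0876

set_option maxHeartbeats 1000000

variable {T : Type*} [Category T] [Preadditive T] [Limits.HasZeroObject T] [HasShift T ℤ]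
    [∀ n : ℤ, (shiftFunctor T n).Additive] [Pretriangulated T]

theorem exists_connecting (Tr : Pretriangulated.Triangle T)
    (hT : Tr ∈ Pretriangulated.distinguishedTriangles) (K : T) (n m : ℤ) (hm : n + 1 = m) :
    ∃ δ : (Tr.obj₁ ⟶ K⟦n⟧) →+ (Tr.obj₃ ⟶ K⟦m⟧),
      (∀ y : Tr.obj₂ ⟶ K⟦n⟧, δ (Tr.mor₁ ≫ y) = 0) ∧
      (∀ x, δ x = 0 → ∃ y, Tr.mor₁ ≫ y = x) ∧
      (∀ x, Tr.mor₂ ≫ δ x = 0) ∧
      (∀ z, Tr.mor₂ ≫ z = 0 → ∃ x, δ x = z) := by
  let e := (shiftFunctorAdd' T n 1 m hm).app K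
  refine ⟨AddMonoidHom.mk' (fun x => Tr.mor₃ ≫ x⟦(1 : ℤ)⟧' ≫ e.inv) (by simp [Functor.map_add]),
    fun y => ?_, fun x hx => ?_, fun x => ?_, fun z hz => ?_⟩
  · show Tr.mor₃ ≫ (shiftFunctor T (1 : ℤ)).map (Tr.mor₁ ≫ y) ≫ e.inv = 0
    rw [Functor.map_comp, Category.assoc,
      reassoc_of% (Pretriangulated.comp_distTriang_mor_zero₃₁ _ hT), Limits.zero_comp]
  · have h : Tr.mor₃ ≫ x⟦(1 : ℤ)⟧' = 0 := by
      rw [← cancel_mono e.inv, Category.assoc, Limits.zero_comp]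
      exact hx
    obtain ⟨g, hg⟩ := Pretriangulated.Triangle.yoneda_exact₂ _
      (Pretriangulated.rot_of_distTriang _ (Pretriangulated.rot_of_distTriang _ hT)) (x⟦(1 : ℤ)⟧') h
    obtain ⟨g', hg'⟩ : ∃ g' : Tr.obj₂ ⟶ K⟦n⟧, (shiftFunctor T (1 : ℤ)).map g' = g :=
      (shiftFunctor T (1 : ℤ)).map_surjective g
    refine ⟨-g', (shiftFunctor T (1 : ℤ)).map_injective ?_⟩
    have hg2 : (shiftFunctor T (1 : ℤ)).map x = (-(shiftFunctor T (1 : ℤ)).map Tr.mor₁) ≫ g := hg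
    rw [Functor.map_comp, Functor.map_neg, hg2, hg', Preadditive.neg_comp, Preadditive.comp_neg]
  · show Tr.mor₂ ≫ Tr.mor₃ ≫ _ = 0
    rw [reassoc_of% (Pretriangulated.comp_distTriang_mor_zero₂₃ _ hT), Limits.zero_comp]
  · obtain ⟨g, hg⟩ := Pretriangulated.Triangle.yoneda_exact₃ _ hT z hz
    refine ⟨(shiftFunctor T (1 : ℤ)).preimage (g ≫ e.hom), ?_⟩
    show Tr.mor₃ ≫ _ ≫ e.inv = z
    rw [Functor.map_preimage, Category.assoc, Iso.hom_inv_id, Category.comp_id, hg]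

variable {A : Type*} [Category A] [Preadditive A] [Limits.HasBinaryBiproducts A] (F : A ⥤ T) [F.Additive]

theorem mayerVietoris {P₁ P₂ P₃ P₄ : A} (a : P₁ ⟶ P₂) (b : P₁ ⟶ P₃) (c : P₂ ⟶ P₄) (d : P₃ ⟶ P₄)
    (h : F.obj P₄ ⟶ (F.obj P₁)⟦(1 : ℤ)⟧)
    (hT : Pretriangulated.Triangle.mk (F.map (Limits.biprod.lift a (-b))) (F.map (Limits.biprod.desc c d)) h ∈
      Pretriangulated.distinguishedTriangles) (K : T) :
    ∃ δ : ∀ n : ℤ, (F.obj P₁ ⟶ K⟦n⟧) →+ (F.obj P₄ ⟶ K⟦n + 1⟧), ∀ n : ℤ,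
      (∀ x, F.map a ≫ F.map c ≫ x + -(F.map b ≫ F.map d ≫ x) = (0 : F.obj P₁ ⟶ K⟦n⟧)) ∧
      (∀ (p : F.obj P₂ ⟶ K⟦n⟧) (q : F.obj P₃ ⟶ K⟦n⟧), F.map a ≫ p + -(F.map b ≫ q) = 0 →
        ∃ g, F.map c ≫ g = p ∧ F.map d ≫ g = q) ∧
      (∀ (p : F.obj P₂ ⟶ K⟦n⟧) (q : F.obj P₃ ⟶ K⟦n⟧), δ n (F.map a ≫ p + -(F.map b ≫ q)) = 0) ∧
      (∀ x, δ n x = 0 → ∃ p q, F.map a ≫ p + -(F.map b ≫ q) = x) ∧
      (∀ x, F.map c ≫ δ n x = 0 ∧ F.map d ≫ δ n x = 0) ∧
      (∀ z, F.map c ≫ z = 0 → F.map d ≫ z = 0 → ∃ x, δ n x = z) := by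
  choose δ h1 h2 h3 h4 using fun n : ℤ => exists_connecting _ hT K n (n + 1) rfl
  have hdec : ∀ {Z : T} (y : F.obj (P₂ ⊞ P₃) ⟶ Z),
      y = F.map Limits.biprod.fst ≫ F.map Limits.biprod.inl ≫ y + F.map Limits.biprod.snd ≫ F.map Limits.biprod.inr ≫ y :=
    fun y => by
      rw [← Category.assoc, ← Category.assoc, ← Functor.map_comp, ← Functor.map_comp, ← Preadditive.add_comp,
        ← Functor.map_add, Limits.biprod.total, CategoryTheory.Functor.map_id, Category.id_comp]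
  have hAB : ∀ {Z : T} (p : F.obj P₂ ⟶ Z) (q : F.obj P₃ ⟶ Z),
      F.map (Limits.biprod.lift a (-b)) ≫ (F.map Limits.biprod.fst ≫ p + F.map Limits.biprod.snd ≫ q) =
        F.map a ≫ p + -(F.map b ≫ q) := fun p q => by
    rw [Preadditive.comp_add, ← Category.assoc, ← Category.assoc, ← Functor.map_comp, ← Functor.map_comp,
      Limits.biprod.lift_fst, Limits.biprod.lift_snd, Functor.map_neg, Preadditive.neg_comp]
  have hc : ∀ {Z : T} (z : F.obj P₄ ⟶ Z), F.map Limits.biprod.inl ≫ F.map (Limits.biprod.desc c d) ≫ z = F.map c ≫ z :=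
    fun z => by rw [← Category.assoc, ← Functor.map_comp, Limits.biprod.inl_desc]
  have hd : ∀ {Z : T} (z : F.obj P₄ ⟶ Z), F.map Limits.biprod.inr ≫ F.map (Limits.biprod.desc c d) ≫ z = F.map d ≫ z :=
    fun z => by rw [← Category.assoc, ← Functor.map_comp, Limits.biprod.inr_desc]
  have h12 : F.map (Limits.biprod.lift a (-b)) ≫ F.map (Limits.biprod.desc c d) = 0 :=
    Pretriangulated.comp_distTriang_mor_zero₁₂ _ hT
  refine ⟨δ, fun n => ⟨fun x => ?_, fun p q hpq => ?_, fun p q => ?_, fun x hx => ?_, fun x => ?_, fun z hz1 hz2 => ?_⟩⟩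
  · rw [← hAB, ← hc x, ← hd x, ← hdec, reassoc_of% h12, Limits.zero_comp]
  · rw [← hAB] at hpq
    obtain ⟨g, hg⟩ := Pretriangulated.Triangle.yoneda_exact₂ _ hT _ hpq
    change F.map Limits.biprod.fst ≫ p + F.map Limits.biprod.snd ≫ q = F.map (Limits.biprod.desc c d) ≫ g at hg
    refine ⟨g, ?_, ?_⟩
    · rw [← hc g, ← hg, Preadditive.comp_add, ← Category.assoc, ← Category.assoc, ← Functor.map_comp,
        ← Functor.map_comp, Limits.biprod.inl_fst, Limits.biprod.inl_snd, Functor.map_zero, Limits.zero_comp, add_zero,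
        CategoryTheory.Functor.map_id, Category.id_comp]
    · rw [← hd g, ← hg, Preadditive.comp_add, ← Category.assoc, ← Category.assoc, ← Functor.map_comp,
        ← Functor.map_comp, Limits.biprod.inr_snd, Limits.biprod.inr_fst, Functor.map_zero, Limits.zero_comp, zero_add,
        CategoryTheory.Functor.map_id, Category.id_comp]
  · rw [← hAB]
    exact h1 n _
  · obtain ⟨y, hy⟩ := h2 n x hx
    refine ⟨F.map Limits.biprod.inl ≫ y, F.map Limits.biprod.inr ≫ y, ?_⟩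
    rw [← hAB, ← hdec]
    exact hy
  · have := h3 n x
    change F.map (Limits.biprod.desc c d) ≫ δ n x = 0 at this
    exact ⟨(hc (δ n x)).symm.trans ((congrArg (F.map Limits.biprod.inl ≫ ·) this).trans Limits.comp_zero),
      (hd (δ n x)).symm.trans ((congrArg (F.map Limits.biprod.inr ≫ ·) this).trans Limits.comp_zero)⟩
  · refine h4 n z ?_
    show F.map (Limits.biprod.desc c d) ≫ z = 0
    rw [hdec (F.map (Limits.biprod.desc c d) ≫ z), hc, hd, hz1, hz2, Limits.comp_zero, Limits.comp_zero, add_zero]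

open CategoryTheory.Limits in
/-- As a long exact sequence of cohomology groups rather than a triangle of complexes: let S be a
Mayer-Vietoris square of a site, with corners X₁ (playing the role of the intersection), X₂, X₃ and
X₄ (the union). For every object K of the derived category of abelian sheaves there are connecting
homomorphisms H^n(X₁, K) -> H^{n+1}(X₄, K) which together with the restriction maps (sum into
H^n(X₂, K) ⊕ H^n(X₃, K), difference out of it) form a long exact sequence ... -> H^n(X₄, K) ->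
H^n(X₂, K) ⊕ H^n(X₃, K) -> H^n(X₁, K) -> H^{n+1}(X₄, K) -> .... Here H^n(U, K) is the group of maps
from the free abelian sheaf on U to K[n]. -/
theorem result {C : Type u} [SmallCategory C] {J : GrothendieckTopology C}
    [HasWeakSheafify J (Type u)] [HasDerivedCategory.{u} (Sheaf J AddCommGrpCat.{u})]
    (S : J.MayerVietorisSquare) (K : DerivedCategory (Sheaf J AddCommGrpCat.{u})) :
    ∃ δ : ∀ n : ℤ, CohCx.HDU K n S.X₁ →+ CohCx.HDU K (n + 1) S.X₄,
      ∀ n : ℤ,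
        (ComposableArrows.mk₂
          (AddCommGrpCat.ofHom ((CohCx.HDUres K n S.f₂₄).prod (CohCx.HDUres K n S.f₃₄)))
          (AddCommGrpCat.ofHom ((CohCx.HDUres K n S.f₁₂).coprod (-(CohCx.HDUres K n S.f₁₃))))).Exact ∧
        (ComposableArrows.mk₂
          (AddCommGrpCat.ofHom ((CohCx.HDUres K n S.f₁₂).coprod (-(CohCx.HDUres K n S.f₁₃))))
          (AddCommGrpCat.ofHom (δ n))).Exact ∧
        (ComposableArrows.mk₂ (AddCommGrpCat.ofHom (δ n))
          (AddCommGrpCat.ofHom ((CohCx.HDUres K (n + 1) S.f₂₄).prod (CohCx.HDUres K (n + 1) S.f₃₄)))).Exact := by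
  have hS := S.shortComplex_shortExact
  obtain ⟨δ, hδ⟩ := mayerVietoris (DerivedCategory.singleFunctor (Sheaf J AddCommGrpCat.{u}) 0)
    (CohCx.freeSheafMap J S.f₁₂) (CohCx.freeSheafMap J S.f₁₃) (CohCx.freeSheafMap J S.f₂₄) (CohCx.freeSheafMap J S.f₃₄)
    _ hS.singleTriangle_distinguished K
  refine ⟨δ, fun n => ?_⟩
  obtain ⟨hA, hA', hB, hB', hC, hC'⟩ := hδ n
  refine ⟨?_, ?_, ?_⟩
  · exact ComposableArrows.exact₂_mk _ (AddCommGrpCat.ext hA) ((ShortComplex.ab_exact_iff _).2 fun pq h => by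
      obtain ⟨g, h1, h2⟩ := hA' pq.1 pq.2 h
      exact ⟨g, Prod.ext h1 h2⟩)
  · exact ComposableArrows.exact₂_mk _ (AddCommGrpCat.ext fun pq => hB pq.1 pq.2)
      ((ShortComplex.ab_exact_iff _).2 fun x h => by
        obtain ⟨p, q, h1⟩ := hB' x h
        exact ⟨(p, q), h1⟩)
  · exact ComposableArrows.exact₂_mk _ (AddCommGrpCat.ext fun x => Prod.ext (hC x).1 (hC x).2)
      ((ShortComplex.ab_exact_iff _).2 fun z h => by
        obtain ⟨h1, h2⟩ := Prod.ext_iff.1 h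
        exact hC' z h1 h2)

end Groth.Agent.S0876
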