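import Groth.Prelude.Def_CohCx
import Groth.Agent.SiteDer16.RlimClassesAb

set_option autoImplicit false
universe u
namespace CategoryTheory
end CategoryTheory
open CategoryTheory
namespace CohSite
end CohSite
open CohSite

namespace Groth.Agent.S0880

open Opposite CategoryTheory.Limits in
/-- Let (K_n) be an inverse system in the derived category of abelian sheaves on a site with derived
limit L through maps a_n : L -> K_n, V an object and m an integer. Suppose there is an index n(V)
such that every covering sieve of V contains a covering family {V_i -> V} with, for each i, (1)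
vanishing R^1 lim of the system H^{m-1}(V_i, K_n) and (2) H^m(V_i, K_n) -> H^m(V_i, K_{n(V)})
injective for n >= n(V). Then H^m(L)(V) -> H^m(K_{n(V)})(V) is injective. -/
theorem result {C : Type u} [SmallCategory C]
    {J : GrothendieckTopology C} [HasDerivedCategory.{u} (Sheaf J AddCommGrpCat.{u})]
    (K : ℕ → DerivedCategory (Sheaf J AddCommGrpCat.{u})) (t : ∀ n, K (n + 1) ⟶ K n) [HasProduct K]
    (L : DerivedCategory (Sheaf J AddCommGrpCat.{u})) (a : ∀ n, L ⟶ K n) (hL : CohCx.IsRlimVia K t L a)
    (V : C) (m : ℤ) (nV : ℕ)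
    (h : ∀ T ∈ J V, ∃ (ι : Type u) (Y : ι → C) (f : ∀ i, Y i ⟶ V), (∀ i, T.arrows (f i)) ∧
      Sieve.ofArrows Y f ∈ J V ∧ ∀ i,
        CohCx.LimOneIsZero (fun n => CohCx.HDU (K n) (m - 1) (Y i))
          (fun n => Preadditive.rightComp _ ((shiftFunctor _ (m - 1)).map (t n))) ∧
        ∀ k : ℕ, Function.Injective
          (Preadditive.rightComp _ ((shiftFunctor _ m).map (CohCx.transition K t nV k)) :
            CohCx.HDU (K (nV + k)) m (Y i) → CohCx.HDU (K nV) m (Y i))) :
    Function.Injective (((DerivedCategory.homologyFunctor _ m).map (a nV)).hom.app (op V)) := by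
  refine (injective_iff_map_eq_zero _).2 fun s hs => ?_
  let x := (Groth.Agent.SiteCoh.homEquiv V (CohCx.HD L m)).symm s
  have hx : x ≫ (DerivedCategory.homologyFunctor _ m).map (a nV) = 0 := by
    apply (Groth.Agent.SiteCoh.homEquiv V (CohCx.HD (K nV) m)).injective
    rw [Groth.Agent.SiteCoh.homEquiv_postcomp, map_zero]
    exact (congrArg _ ((Groth.Agent.SiteCoh.homEquiv V (CohCx.HD L m)).apply_symm_apply s)).trans hs
  have := (Groth.Agent.SiteDer16.abSections J).eq_zero_of_transition_injective hL m (Groth.Agent.SiteDer16.enoughKInj _) nV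
    (fun W _ => CohCx.LimOneIsZero (fun n => CohCx.HDU (K n) (m - 1) W)
          (fun n => Preadditive.rightComp _ ((shiftFunctor _ (m - 1)).map (t n))) ∧
        ∀ k : ℕ, Function.Injective
          (Preadditive.rightComp _ ((shiftFunctor _ m).map (CohCx.transition K t nV k)) :
            CohCx.HDU (K (nV + k)) m W → CohCx.HDU (K nV) m W))
    h (fun W f hW => ⟨fun z => by
        obtain ⟨w, hw⟩ := hW.1 z
        exact ⟨w, fun n => congrFun hw n⟩,
      fun k y hy => hW.2 k (hy.trans (Limits.zero_comp).symm)⟩) x hx
  exact ((Groth.Agent.SiteCoh.homEquiv V (CohCx.HD L m)).apply_symm_apply s).symm.trans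
    ((congrArg _ this).trans (map_zero _))

end Groth.Agent.S0880
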