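import Groth.Prelude.Def_CohTop
import Mathlib.Algebra.Homology.HomotopyCategory
import Mathlib.Algebra.Homology.Single
import Groth.Agent.SiteDer16.CechHomotopy

set_option autoImplicit false
universe u
namespace CategoryTheory
end CategoryTheory
open CategoryTheory
namespace CohTop
end CohTop
open CohTop

namespace Groth.Agent.S0885

open TopologicalSpace Opposite CategoryTheory.Limits in
/-- Let F be a presheaf of abelian groups on a topological space X and (U_i)_{i ∈ ι} a family of open
subsets with union U such that U_i = U for some index i. Then the Čech complex of F with respect to
the family (formed with all ordered tuples of indices) is homotopy equivalent to the complex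
consisting of F(U) placed in degree 0. (The published statement phrases this as contractibility of
the extended Čech complex; stated here as a homotopy equivalence with F(U) in degree zero.) -/
theorem result {X : TopCat.{u}} (F : (Opens X)ᵒᵖ ⥤ AddCommGrpCat.{u})
    {ι : Type u} (U : ι → Opens X) (i : ι) (hi : U i = iSup U) :
    Nonempty (HomotopyEquiv ((CochainComplex.single₀ AddCommGrpCat.{u}).obj (F.obj (op (iSup U))))
      ((cechComplexFunctor U).obj F)) := by
  exact Groth.Agent.SiteDer16.CechHomotopy.nonempty_homotopyEquiv F U i hi

end Groth.Agent.S0885
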