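import Groth.Prelude.Def_CohSite
import Mathlib.CategoryTheory.Sites.CoverPreserving
import Groth.Agent.S0937
import Groth.Agent.SiteCoh.Basics

set_option autoImplicit false
universe u
open CategoryTheory
open CohSite

namespace Groth.Agent.S0886

open CategoryTheory.Limits in
/-- Let u : C → D be a functor between sites which is cocontinuous, continuous (it sends coverings to
coverings and commutes with fibre products, which exist in C), fully faithful, and sends a final
object of C to a final object of D. For an abelian sheaf F on D let g^{-1}F be the sheaf U ↦ F(u(U))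
on C. Then H^p(C, g^{-1}F) ≅ H^p(D, F) for all p. This is the comparison of global cohomology; the
comparison object by object holds under weaker hypotheses and is a separate statement. -/
theorem result {C D : Type u} [SmallCategory C] [SmallCategory D]
    (J : GrothendieckTopology C) (K : GrothendieckTopology D) (u : C ⥤ D)
    [u.IsCocontinuous J K] [u.IsContinuous J K] (hu : CoverPreserving J K u) [u.Full] [u.Faithful]
    [HasPullbacks C] [PreservesLimitsOfShape WalkingCospan u]
    [HasTerminal C] [PreservesLimit (Functor.empty.{0} C) u]
    (F : Sheaf K AddCommGrpCat.{u}) (p : ℕ) :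
    Nonempty (Sheaf.H ((CohSite.push K J u).obj F) p ≃+ Sheaf.H F p) := by
  obtain ⟨e⟩ := Groth.Agent.S0937.result J K u hu F (⊤_ C) p
  have hT : IsTerminal (u.obj (⊤_ C)) := IsTerminal.isTerminalObj u _ terminalIsTerminal
  exact ⟨(Groth.Agent.SiteCoh.hUEquivH ((CohSite.push K J u).obj F) p terminalIsTerminal).symm.trans
    (e.trans (Groth.Agent.SiteCoh.hUEquivH F p hT))⟩

end Groth.Agent.S0886
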