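import Groth.Statements.S0888
import Groth.Agent.DCat.PCTriangle

set_option autoImplicit false
set_option backward.isDefEq.respectTransparency false
set_option backward.defeqAttrib.useBackward true
universe u
open CategoryTheory
attribute [local instance] HasDerivedCategory.standard
open DCoh

namespace Groth.Agent.S0888

open AlgebraicGeometry CategoryTheory.Limits in
/-- Let K, L be objects of D(O_X) and m an integer. If the direct sum K ⊕ L is m-pseudo-coherent, then K
and L are m-pseudo-coherent. -/
theorem result {X : Scheme.{u}} (m : ℤ) (K L : DCoh.D X) [HasBinaryBiproduct K L]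
    (h : DCoh.IsPseudoCoherentD m (K ⊞ L)) :
    DCoh.IsPseudoCoherentD m K ∧ DCoh.IsPseudoCoherentD m L := by
  exact ⟨Groth.Agent.DCat.PCTriangle.psc_summand m K L h,
    Groth.Agent.DCat.PCTriangle.psc_summand m L K (Groth.Agent.DCat.PCTriangle.psc_iso (biprod.braiding K L) h)⟩


end Groth.Agent.S0888
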