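import Groth.Prelude.Def_Hyper
import Groth.Prelude.Def_Hyper
import Mathlib.AlgebraicTopology.SimplicialObject.Basic

set_option autoImplicit false
universe u
namespace CategoryTheory
end CategoryTheory
open CategoryTheory
namespace Hyper
end Hyper
open Hyper

namespace Groth.Agent.S0894

open Opposite in
/-- For a hypercovering K of an object X of a site with fibre products (a simplicial semi-representable
object over X; coskeleta are assumed to exist): (1) for each n the family K_n is a covering of X,
and (2) every face map d_i : K_{n+1} -> K_n is a covering morphism of semi-representable objects. -/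
theorem result {C : Type u} [SmallCategory C] [Limits.HasPullbacks C]
    (J : GrothendieckTopology C) (X : C) (K : SimplicialObject (Limits.FormalCoproduct.{u} (Over X)))
    [∀ (n : ℕ) (F : (SimplexCategory.Truncated n)ᵒᵖ ⥤ Limits.FormalCoproduct.{u} (Over X)),
      (SimplexCategory.Truncated.inclusion n).op.HasRightKanExtension F]
    (hK : Hyper.IsHypercovering J X K) :
    (∀ n : ℕ, Sieve.ofArrows (fun i => ((K.obj (op (SimplexCategory.mk n))).obj i).left)
      (fun i => ((K.obj (op (SimplexCategory.mk n))).obj i).hom) ∈ J X) ∧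
    ∀ (n : ℕ) (i : Fin (n + 2)), Hyper.IsSRCovering (J.over X) (K.δ i) := by
  have sect : ∀ {A B : Limits.FormalCoproduct.{u} (Over X)} (f : A ⟶ B) (s : B ⟶ A),
      s ≫ f = 𝟙 B → Hyper.IsSRCovering (J.over X) f := fun {A B} f s h j => by
    obtain ⟨h₁, h₂⟩ := (Limits.FormalCoproduct.hom_ext_iff' _ _).1 h j
    refine (J.over X).superset_covering ?_ ((J.over X).top_mem _)
    intro W g _
    refine ⟨A.obj (s.f j), g ≫ s.φ j, _, ⟨(⟨s.f j, h₁⟩ : {i : A.I // f.f i = j})⟩, ?_⟩
    rw [Category.assoc]
    refine Eq.trans ?_ (Category.comp_id g)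
    congr 1
    exact (Category.assoc _ _ _).symm.trans h₂
  refine ⟨fun n => ?_, fun n i => ?_⟩
  · refine J.superset_covering ?_ hK.1
    rintro W g ⟨Y, a, _, ⟨k⟩, rfl⟩
    let p := K.map ((SimplexCategory.mk n).const (SimplexCategory.mk 0) 0).op
    refine ⟨_, a ≫ (p.φ k).left, _, ⟨p.f k⟩, ?_⟩
    rw [Category.assoc, Over.w]
  · induction i using Fin.lastCases with
    | last => exact sect _ (K.σ (Fin.last n)) (K.δ_comp_σ_succ (i := Fin.last n))
    | cast i => exact sect _ (K.σ i) K.δ_comp_σ_self

end Groth.Agent.S0894
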