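import Groth.Statements.S0900
import Groth.Agent.CommAlg4.ExactProd
import Groth.Agent.DCat.DerivedLimits
import Groth.Agent.SiteDer16.RpushRlim
-- import your own Groth.Agent.* helpers here

set_option autoImplicit false
universe v u
open CategoryTheory
open CohDer

namespace Groth.Agent.S0900

open CategoryTheory.Limits in
/-- Let F : A -> B be an additive functor between abelian categories with A Grothendieck abelian, B
having exact countable products (here: ℕ-indexed products exist and preserve epimorphisms) and F
commuting with ℕ-indexed products. Then the total right derived functor RF : D(A) -> D(B) (whose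
existence is assumed as an instance argument; it exists because A has enough K-injective complexes)
sends a derived limit of an inverse system (K_n) to a derived limit of (RF K_n). The relevant
countable products in the derived categories are assumed to exist. -/
theorem result {A : Type u} [Category.{v} A] [Abelian A] [IsGrothendieckAbelian.{v} A]
    [HasDerivedCategory.{v} A] {B : Type u} [Category.{v} B] [Abelian B] [HasDerivedCategory.{v} B]
    [HasProductsOfShape ℕ B] [(lim : (Discrete ℕ ⥤ B) ⥤ B).PreservesEpimorphisms]
    (F : A ⥤ B) [F.Additive] [PreservesLimitsOfShape (Discrete ℕ) F]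
    [(F.mapHomotopyCategory (ComplexShape.up ℤ) ⋙ DerivedCategory.Qh).HasRightDerivedFunctor
      (HomotopyCategory.quasiIso A (ComplexShape.up ℤ))]
    (K : ℕ → DerivedCategory A) (t : ∀ n, K (n + 1) ⟶ K n) (L : DerivedCategory A) [HasProduct K]
    [HasProduct fun n => ((F.mapHomotopyCategory (ComplexShape.up ℤ) ⋙ DerivedCategory.Qh).totalRightDerived
      DerivedCategory.Qh (HomotopyCategory.quasiIso A (ComplexShape.up ℤ))).obj (K n)]
    (hL : DCoh.IsRlim K t L) :
    DCoh.IsRlim
      (fun n => ((F.mapHomotopyCategory (ComplexShape.up ℤ) ⋙ DerivedCategory.Qh).totalRightDerived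
        DerivedCategory.Qh (HomotopyCategory.quasiIso A (ComplexShape.up ℤ))).obj (K n))
      (fun n => ((F.mapHomotopyCategory (ComplexShape.up ℤ) ⋙ DerivedCategory.Qh).totalRightDerived
        DerivedCategory.Qh (HomotopyCategory.quasiIso A (ComplexShape.up ℤ))).map (t n))
      (((F.mapHomotopyCategory (ComplexShape.up ℤ) ⋙ DerivedCategory.Qh).totalRightDerived
        DerivedCategory.Qh (HomotopyCategory.quasiIso A (ComplexShape.up ℤ))).obj L) := by
  let R := (F.mapHomotopyCategory (ComplexShape.up ℤ) ⋙ DerivedCategory.Qh).totalRightDerived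
      DerivedCategory.Qh (HomotopyCategory.quasiIso A (ComplexShape.up ℤ))
  let h := Groth.Agent.DCat.enoughKInj_of_isGrothendieckAbelian (A := A)
  obtain ⟨_, _⟩ := Groth.Agent.SiteDer16.exists_commShift_rf_map h F
  let rho := Groth.Agent.DCat.rho h
  haveI : PreservesLimit (Discrete.functor K) rho :=
    (Groth.Agent.DCat.rhoAdj h).rightAdjoint_preservesLimits.preservesLimitsOfShape.preservesLimit
  haveI : PreservesLimit (Discrete.functor K ⋙ rho) (F.mapHomotopyCategory (ComplexShape.up ℤ) ⋙ DerivedCategory.Qh) :=
    haveI := Groth.Agent.CommAlg4.ExactProd.preservesLimit_mapHomotopy F (fun n => rho.obj (K n))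
    preservesLimit_of_iso_diagram _ (Discrete.natIso (fun _ => Iso.refl _) :
      Discrete.functor (fun n => rho.obj (K n)) ≅ Discrete.functor K ⋙ rho)
  haveI : PreservesLimit (Discrete.functor K) R :=
    preservesLimit_of_natIso _ (Groth.Agent.DCat.rfIso h
      (F.mapHomotopyCategory (ComplexShape.up ℤ) ⋙ DerivedCategory.Qh)).symm
  exact Groth.Agent.CommAlg4.ExactProd.isRlim_map R K t L hL

end Groth.Agent.S0900
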