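import Groth.Prelude.Def_CohSite
import Groth.Agent.SiteCoh.SheafTools
import Mathlib.Algebra.Homology.ShortComplex.ExactFunctor

set_option autoImplicit false
universe u
open CategoryTheory
open CohSite

namespace Groth.Agent.S0905

open Opposite CategoryTheory.Limits in
/-- Parts (1) and (2), for a weakly contractible object U of a site (one over which every epimorphism of
sheaves of sets is surjective on sections): (1) the functor F ↦ F(U) from abelian sheaves to abelian
groups preserves finite colimits (it is exact, finite limits being automatic), and (2) H^p(U, F) = 0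
for every abelian sheaf F and every p > 0. (Part (3) about torsors is not included.) -/
theorem result {C : Type u} [SmallCategory C] (J : GrothendieckTopology C)
    (U : C) (hU : CohSite.IsWeaklyContractible J U) :
    PreservesFiniteColimits (sheafToPresheaf J AddCommGrpCat.{u} ⋙ (evaluation Cᵒᵖ AddCommGrpCat.{u}).obj (op U)) ∧
    ∀ (F : Sheaf J AddCommGrpCat.{u}) (p : ℕ), Subsingleton (CohSite.HU F (p + 1) U) := by
  have hsurj : ∀ {F G : Sheaf J AddCommGrpCat.{u}} (φ : F ⟶ G), Epi φ →
      Function.Surjective (φ.hom.app (op U)) := by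
    intro F G φ hφ
    rw [← Sheaf.isLocallySurjective_iff_epi'] at hφ
    exact hU _ _ ((sheafCompose J (forget AddCommGrpCat.{u})).map φ)
      ((Sheaf.isLocallySurjective_iff_epi _).1
        ((Presheaf.isLocallySurjective_iff_whisker_forget J φ.hom).1 hφ))
  refine ⟨?_, fun F p => ?_⟩
  · let Γ := Groth.Agent.SiteCoh.sectionsAt J U
    have : Γ.PreservesEpimorphisms :=
      ⟨fun {F G} φ hφ => (AddCommGrpCat.epi_iff_surjective _).2 (hsurj φ hφ)⟩
    rw [Functor.preservesFiniteColimits_iff_forall_exact_map_and_epi]
    intro S hS
    have := hS.epi_g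
    exact ⟨((Functor.preservesFiniteLimits_iff_forall_exact_map_and_mono Γ).1 inferInstance S hS).1,
      inferInstanceAs (Epi (Γ.map S.g))⟩
  · exact Groth.Agent.SiteCoh.subsingleton_HU_of_class (fun _ => True) (fun V => V = U)
      (fun G _ => ⟨trivial, fun V hV => hV ▸ hsurj _ (Groth.Agent.SiteCoh.injEmbed_shortExact G).epi_g⟩)
      (F := F) trivial rfl p

end Groth.Agent.S0905
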