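import Groth.Statements.S0915
import Groth.Agent.DCat.TorSheaf

set_option autoImplicit false
set_option backward.isDefEq.respectTransparency false
set_option backward.defeqAttrib.useBackward true
universe u
open CategoryTheory
attribute [local instance] HasDerivedCategory.standard
open DCoh

namespace Groth.Agent.S0915

open AlgebraicGeometry CategoryTheory.Limits in
/-- On a scheme X, let K and L be objects of D(𝒪_X). If K ⊕ L has tor-amplitude in [a, b] then K and L
each have tor-amplitude in [a, b]. (The hypothesis is taken in the flat-representative form and the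
conclusion in the derived-tensor form.) -/
theorem result {X : Scheme.{u}} (K L : DCoh.D X) [HasBinaryBiproduct K L] (a b : ℤ)
    (h : DCoh.HasFlatAmplitudeIn a b (K ⊞ L)) : DCoh.HasTorAmplitudeIn a b K ∧ DCoh.HasTorAmplitudeIn a b L := by
  have h' := Groth.Agent.DCat.torAmp_of_flatAmp h
  have key : ∀ {M : DCoh.D X} (s : M ⟶ K ⊞ L) (r : K ⊞ L ⟶ M), s ≫ r = 𝟙 M →
      DCoh.HasTorAmplitudeIn a b M := fun {M} s r hsr F _ i hi => by
    refine (Retract.map (Retract.map (⟨s, r, hsr⟩ : Retract M (K ⊞ L)) (DCoh.LTensorMod F))
      (DerivedCategory.homologyFunctor X.Modules i)) |> fun t => ?_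
    rw [IsZero.iff_id_eq_zero, ← t.retract, (h' F i hi).eq_of_tgt t.i 0, zero_comp]
  exact ⟨key biprod.inl biprod.fst biprod.inl_fst, key biprod.inr biprod.snd biprod.inr_snd⟩


end Groth.Agent.S0915
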