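import Groth.Statements.S0916
import Groth.Agent.DCat.TorSheaf

set_option autoImplicit false
set_option backward.isDefEq.respectTransparency false
set_option backward.defeqAttrib.useBackward true
universe u
open CategoryTheory
attribute [local instance] HasDerivedCategory.standard
open DCoh

namespace Groth.Agent.S0916

open AlgebraicGeometry CategoryTheory.Limits in
/-- Flatness of an O_X-module F (all stalks flat) is equivalent to the following Tor-vanishing: for
every O_X-module G the sheaf Tor_1(F, G), i.e. H^{-1} of F ⊗^L G, vanishes; the existence of the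
derived tensor product with every G is assumed (hypothesis hL). -/
theorem result {X : Scheme.{u}} (F : X.Modules) (hL : ∀ G : X.Modules, DCoh.HasLTensorMod G) :
    FlatMod.IsFlat F ↔ ∀ (G : X.Modules) [DCoh.HasLTensorMod G],
      IsZero (DCoh.HD ((DCoh.LTensorMod G).obj (DCoh.inD X F)) (-1)) := by
  refine ⟨fun h G _ => Groth.Agent.DCat.torAmp_of_flatAmp (a := 0) (b := 0) ?_ G (-1) (Or.inl (by omega)), fun h => ?_⟩
  · refine ⟨(CochainComplex.singleFunctor X.Modules 0).obj F, fun i hi => ?_, fun i => ?_,
      ⟨((SingleFunctors.evaluation _ _ (0 : ℤ)).mapIso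
        (DerivedCategory.singleFunctorsPostcompQIso X.Modules)).app F |>.symm⟩⟩
    · exact HomologicalComplex.isZero_single_obj_X _ _ _ _ (by omega)
    · by_cases hi : i = 0
      · subst hi
        exact Groth.Agent.DCat.isFlat_of_iso (HomologicalComplex.singleObjXSelf _ 0 F).symm h
      · exact Groth.Agent.DCat.isFlat_of_isZero (HomologicalComplex.isZero_single_obj_X _ _ _ _ hi)
  · obtain ⟨P, c, hP, hPf, hc, hPb⟩ := Groth.Agent.DCat.exists_kflat_sheaf_le
      ((CochainComplex.singleFunctor X.Modules 0).obj F) 0
      (fun n hn => HomologicalComplex.isZero_single_obj_X _ _ _ _ (by omega))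
    haveI := hc
    have hcok := Groth.Agent.DCat.isFlat_cokernel_of_exactAt P hPf 0 fun G => by
      haveI := hL G
      exact (Groth.Agent.DCat.isZero_HD_ltensorMod_iff G hP (asIso (DerivedCategory.Q.map c) ≪≫
        (((SingleFunctors.evaluation _ _ (0 : ℤ)).mapIso
        (DerivedCategory.singleFunctorsPostcompQIso X.Modules)).app F).symm) (0 - 1)).1 (h G)
    haveI := P.isIso_homologyι 0 1 (by simp) ((hPb 1 (by omega)).eq_of_tgt _ _)
    refine Groth.Agent.DCat.isFlat_of_iso ?_ hcok
    exact IsColimit.coconePointUniqueUpToIso (colimit.isColimit _)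
        (P.opcyclesIsCokernel (0 - 1) 0 (by simp)) ≪≫ (asIso (P.homologyι 0)).symm ≪≫
      asIso (HomologicalComplex.homologyMap c 0) ≪≫ HomologicalComplex.singleObjHomologySelfIso _ 0 F


end Groth.Agent.S0916
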