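import Groth.Statements.S0919
import Mathlib.CategoryTheory.Adjunction.AdjointFunctorTheorems
import Mathlib.CategoryTheory.Abelian.GrothendieckCategory.Subobject
import Mathlib.CategoryTheory.Limits.Yoneda
import Mathlib.CategoryTheory.Abelian.Subobject
import Mathlib.CategoryTheory.Limits.Opposites

set_option autoImplicit false
set_option backward.isDefEq.respectTransparency false
set_option backward.defeqAttrib.useBackward true
universe v u
open CategoryTheory
open CohDer

namespace Groth.Agent.S0919

open CategoryTheory.Limits in
/-- Let A be a Grothendieck abelian category and F a contravariant functor from A to sets (a functor on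
the opposite category). Then F is representable if and only if F turns all small colimits of A into
limits, i.e. preserves small limits as a functor on the opposite category. -/
theorem result {A : Type u} [Category.{v} A] [Abelian A]
    [IsGrothendieckAbelian.{v} A] (F : Aᵒᵖ ⥤ Type v) :
    F.IsRepresentable ↔ PreservesLimitsOfSize.{v, v} F := by
  constructor
  · intro h
    exact preservesLimits_of_natIso F.representableBy.toIso
  · intro h
    haveI : HasLimitsOfSize.{v, v} Aᵒᵖ := inferInstance
    have hsep : IsCoseparator (Opposite.op (separator A)) := (isCoseparator_op_iff _).2 (isSeparator_separator A)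
    haveI : F.IsRightAdjoint := isRightAdjoint_of_preservesLimits_of_isCoseparating hsep F
    let adj := Adjunction.ofIsRightAdjoint F
    let X := (F.leftAdjoint.obj PUnit.{v + 1}).unop
    refine ⟨X, ⟨{
      homEquiv := fun {Y} => (⟨fun f => f.op, fun g => g.unop, fun _ => rfl, fun _ => rfl⟩ :
          (Y ⟶ X) ≃ (F.leftAdjoint.obj PUnit.{v + 1} ⟶ Opposite.op Y)).trans
        ((adj.homEquiv PUnit.{v + 1} (Opposite.op Y)).trans
          ⟨fun f => f PUnit.unit, fun x => ↾(fun _ => x), fun f => by ext ⟨⟩; rfl, fun x => rfl⟩)
      homEquiv_comp := fun {Y Y'} f g => by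
        show (adj.homEquiv _ _ (g.op ≫ f.op)) PUnit.unit = F.map f.op ((adj.homEquiv _ _ g.op) PUnit.unit)
        rw [adj.homEquiv_naturality_right]
        rfl }⟩⟩


end Groth.Agent.S0919
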