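import Groth.Statements.S0923
import Groth.Agent.DQCoh.RHomQCoh
import Groth.Agent.DCat.RHomDual
-- import your own Groth.Agent.* helpers here

set_option autoImplicit false
universe u
open CategoryTheory
attribute [local instance] HasDerivedCategory.standard
open DCoh

namespace Groth.Agent.S0923

open AlgebraicGeometry CategoryTheory.Limits in
/-- On a scheme X, an object E of D(𝒪_X) is perfect if and only if every point has an open neighbourhood
V such that the restriction to V of any complex representing E is isomorphic in D(𝒪_V) to a bounded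
complex each of whose terms is isomorphic to a finite free 𝒪_V-module. (The published statement is
for ringed spaces whose stalks are local rings and lists further equivalent conditions; here X is a
scheme and only this equivalence is stated.) -/
theorem result {X : Scheme.{u}} (E : DCoh.D X) :
    DCoh.IsPerfect E ↔ ∀ x : X, ∃ V : X.Opens, x ∈ V ∧
      ∀ F : CochainComplex X.Modules ℤ, Nonempty (DCoh.toD X F ≅ E) →
        ∃ (P : CochainComplex (V : Scheme.{u}).Modules ℤ) (a b : ℤ), DCoh.VanishesOutside P a b ∧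
          (∀ i : ℤ, ∃ n : ℕ, Nonempty (P.X i ≅ FlatMod.freeMod (V : Scheme.{u}) n)) ∧
          Nonempty (DerivedCategory.Q.obj ((DCoh.restrictCx V).obj F) ≅ DerivedCategory.Q.obj P) := by
  open Groth.Agent.DCat Groth.Agent.DCat.PerfLocal in
  refine ⟨fun h x => ?_, fun h x => ?_⟩
  · obtain ⟨W, k, hk, E₀, a, b, hx, hab, hfree, ⟨e⟩⟩ := Groth.Agent.DQCoh.exists_free_model h x
    obtain ⟨c⟩ := Groth.Agent.DCat.PerfLocal.rd_comp k.isoOpensRange.inv k E
    refine ⟨k.opensRange, hx, fun F ⟨eF⟩ =>
      ⟨((Scheme.Modules.restrictFunctor k.isoOpensRange.inv).mapHomologicalComplex (ComplexShape.up ℤ)).obj E₀, a, b,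
        fun i hi => (Scheme.Modules.restrictFunctor k.isoOpensRange.inv).map_isZero (hab i hi), fun i => ?_, ⟨?_⟩⟩⟩
    · obtain ⟨n, ⟨f⟩⟩ := hfree i
      exact ⟨n, ⟨(Scheme.Modules.restrictFunctorIsoPullback k.isoOpensRange.inv).app _ ≪≫ (Scheme.Modules.pullback _).mapIso f ≪≫
        (Groth.Agent.DCat.PerfTensor.nonempty_pullback_free k.isoOpensRange.inv n).some⟩⟩
    · exact ((Scheme.Modules.restrictFunctor _).mapDerivedCategoryFactors.app F).symm ≪≫ (rd _).mapIso eF ≪≫
        eqToIso (by simp only [k.isoOpensRange_inv_comp]) ≪≫ c ≪≫ (rd _).mapIso e.symm ≪≫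
        (Scheme.Modules.restrictFunctor _).mapDerivedCategoryFactors.app E₀
  · obtain ⟨V, hV, hF⟩ := h x
    refine ⟨V, hV, fun F eF => ?_⟩
    obtain ⟨P, a, b, hab, hfree, hP⟩ := hF F eF
    exact ⟨P, ⟨⟨a, b, hab⟩, fun i => by
      obtain ⟨n, ⟨f⟩⟩ := hfree i
      exact Groth.Agent.DCat.PerfTensor.isFinLocFree_of_iso f.symm (Groth.Agent.DCat.ProjPerf.isFinLocFree_freeMod n)⟩, hP⟩

end Groth.Agent.S0923

#print axioms Groth.Agent.S0923.result
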