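import Groth.Statements.S0927
import Groth.Agent.Coherent.ProjFormula
-- import your own Groth.Agent.* helpers here

set_option autoImplicit false
universe u
open CategoryTheory
open Coh

namespace Groth.Agent.S0927

open AlgebraicGeometry CategoryTheory.Limits in
/-- Projection formula, for schemes and one degree at a time: let f : X → Y be a morphism of schemes, F
an O_X-module and E a finite locally free O_Y-module. Then for every q the O_Y-module E ⊗ R^q f_* F
is isomorphic to R^q f_* (f^* E ⊗ F). The higher direct images are the right derived functors of
f_*, under the instance argument recording that O_X-modules have injective resolutions. (The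
published statement treats ringed spaces and also gives a version for bounded-below complexes.) -/
theorem result {X Y : Scheme.{u}} (f : X ⟶ Y) [HasInjectiveResolutions X.Modules]
    (F : X.Modules) (E : Y.Modules) (hE : FlatMod.IsFinLocFree E) (q : ℕ) :
    Nonempty (CohB1.tensorMod E ((Coh.Rpush f q).obj F) ≅
      (Coh.Rpush f q).obj (CohB1.tensorMod ((Scheme.Modules.pullback f).obj E) F)) := by
  exact Groth.Agent.Coherent.nonempty_projection_formula hE F q

end Groth.Agent.S0927
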