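import Groth.Statements.S0928
import Mathlib.CategoryTheory.Abelian.GrothendieckAxioms.Sheaf
import Mathlib.CategoryTheory.Abelian.GrothendieckCategory.EnoughInjectives
import Mathlib.Algebra.Category.Grp.AB

set_option autoImplicit false
set_option backward.isDefEq.respectTransparency false
set_option backward.defeqAttrib.useBackward true
universe u
open CategoryTheory
open CohDer

namespace Groth.Agent.S0928

open CategoryTheory Limits MorphismProperty ZeroObject in
lemma functorialInj (A : Type*) [Category A] [Abelian A] [IsGrothendieckAbelian.{u} A] :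
    ∃ (J : A ⥤ A) (j : 𝟭 A ⟶ J), ∀ F, Injective (J.obj F) ∧ Mono (j.app F) := by
  let T : A ⥤ Arrow A :=
    { obj := fun F => Arrow.mk (0 : F ⟶ 0)
      map := fun f => Arrow.homMk f (𝟙 _) (by simp) }
  let d := functorialFactorizationData (monomorphisms A) (monomorphisms A).rlp
  refine ⟨T ⋙ d.Z, { app := fun F => d.i.app (T.obj F),
                      naturality := fun F G f => d.i.naturality (T.map f) }, fun F => ⟨?_, d.hi _⟩⟩
  rw [injective_iff_rlp_monomorphisms_zero]
  have := d.hp (T.obj F)
  rwa [(isZero_zero A).eq_of_tgt (d.p.app (T.obj F)) 0] at this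

/-- On a small category C the category of presheaves of abelian groups has functorial injective
embeddings: there are an endofunctor J of the presheaf category and a natural transformation from
the identity to J with each component a monomorphism into an injective presheaf. -/
theorem result {C : Type u} [SmallCategory C] :
    ∃ (J : (Cᵒᵖ ⥤ AddCommGrpCat.{u}) ⥤ (Cᵒᵖ ⥤ AddCommGrpCat.{u})) (j : 𝟭 _ ⟶ J),
      ∀ F : Cᵒᵖ ⥤ AddCommGrpCat.{u}, Injective (J.obj F) ∧ Mono (j.app F) := by
  haveI : IsGrothendieckAbelian.{u} (Cᵒᵖ ⥤ AddCommGrpCat.{u}) :=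
    IsGrothendieckAbelian.of_equivalence (sheafBotEquivalence (C := C) AddCommGrpCat.{u})
  exact functorialInj _


end Groth.Agent.S0928
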