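import Groth.Statements.S0929
import Groth.Agent.DCat.ModulesGrothendieck

set_option autoImplicit false
set_option backward.isDefEq.respectTransparency false
set_option backward.defeqAttrib.useBackward true
universe u
open CategoryTheory
open CohDer

namespace Groth.Agent.S0929

open CategoryTheory Limits MorphismProperty ZeroObject in
lemma functorialInj (A : Type*) [Category A] [Abelian A] [IsGrothendieckAbelian.{u} A] :
    ∃ (J : A ⥤ A) (j : 𝟭 A ⟶ J), ∀ F, Injective (J.obj F) ∧ Mono (j.app F) := by
  let T : A ⥤ Arrow A :=
    { obj := fun F => Arrow.mk (0 : F ⟶ 0)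
      map := fun f => Arrow.homMk f (𝟙 _) (by simp) }
  let d := functorialFactorizationData (monomorphisms A) (monomorphisms A).rlp
  refine ⟨T ⋙ d.Z, { app := fun F => d.i.app (T.obj F),
                      naturality := fun F G f => d.i.naturality (T.map f) }, fun F => ⟨?_, d.hi _⟩⟩
  rw [injective_iff_rlp_monomorphisms_zero]
  have := d.hp (T.obj F)
  rwa [(isZero_zero A).eq_of_tgt (d.p.app (T.obj F)) 0] at this

/-- For a presheaf of rings O on a small category C, the category of presheaves of O-modules has
functorial injective embeddings (an endofunctor J with a natural transformation from the identity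
whose components are monomorphisms into injective objects). -/
theorem result {C : Type u} [SmallCategory C]
    (O : Cᵒᵖ ⥤ RingCat.{u}) :
    ∃ (J : PresheafOfModules.{u} O ⥤ PresheafOfModules.{u} O) (j : 𝟭 _ ⟶ J),
      ∀ F : PresheafOfModules.{u} O, Injective (J.obj F) ∧ Mono (j.app F) := by
  haveI : IsGrothendieckAbelian.{u} (PresheafOfModules.{u} O) :=
    { hasFilteredColimitsOfSize := ⟨fun K _ _ => inferInstance⟩
      ab5OfSize := ⟨fun K _ _ => Groth.Agent.DCat.presheafOfModules_exactColimits O K⟩
      hasSeparator := ⟨_, (PresheafOfModules.freeYoneda.isSeparating O).isSeparator_coproduct⟩ }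
  exact functorialInj _


end Groth.Agent.S0929
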