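import Groth.Prelude.Def_CohTop
import Mathlib.Algebra.Homology.DerivedCategory.RightDerivedFunctorPlus
import Groth.Agent.DCat.RDPlus
import Groth.Agent.SiteCoh.Leray

set_option autoImplicit false
universe u
namespace CategoryTheory
end CategoryTheory
open CategoryTheory
attribute [local instance] HasDerivedCategory.standard
namespace CohTop
end CohTop
open CohTop

namespace Groth.Agent.S0930

noncomputable def compIso {A B D : Type*} [Category* A] [Category* B] [Category* D] [Abelian A] [Abelian B]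
    [Abelian D] [HasDerivedCategory A] [HasDerivedCategory B] [HasDerivedCategory D]
    [EnoughInjectives A] [EnoughInjectives B]
    (T : A ⥤ B) [T.Additive] [T.PreservesInjectiveObjects] (S : B ⥤ D) [S.Additive]
    (H : A ⥤ D) [H.Additive] (e : T ⋙ S ≅ H) :
    T.rightDerivedFunctorPlus ⋙ S.rightDerivedFunctorPlus ≅ H.rightDerivedFunctorPlus :=
  let T' : InjectiveObject A ⥤ InjectiveObject B :=
    ObjectProperty.lift _ (InjectiveObject.ι A ⋙ T) (fun I => T.injective_obj_of_injective I.property)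
  haveI : T'.Additive := { map_add := fun {X Y f g} => ObjectProperty.hom_ext _ (T.map_add) }
  let Φ := (DCat.injToDPlus A).asEquivalence
  let c₁ : (InjectiveObject.ι A).mapHomotopyCategoryPlus ⋙ T.mapHomotopyCategoryPlus ≅
      T'.mapHomotopyCategoryPlus ⋙ (InjectiveObject.ι B).mapHomotopyCategoryPlus :=
    Functor.mapHomotopyCategoryPlusCompIso (H := InjectiveObject.ι A ⋙ T) (Iso.refl _) ≪≫
      (Functor.mapHomotopyCategoryPlusCompIso (F := T') (G := InjectiveObject.ι B)
        (H := InjectiveObject.ι A ⋙ T) (Iso.refl _)).symm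
  let b₁ : DCat.injToDPlus A ⋙ T.rightDerivedFunctorPlus ≅ T'.mapHomotopyCategoryPlus ⋙ DCat.injToDPlus B :=
    DCat.injCompRDIso T ≪≫ (Functor.associator _ _ _).symm ≪≫
      Functor.isoWhiskerRight c₁ _ ≪≫ Functor.associator _ _ _
  let c₂ : T'.mapHomotopyCategoryPlus ⋙ DCat.onInj S ≅ DCat.onInj H :=
    (Functor.associator _ _ _).symm ≪≫ Functor.isoWhiskerRight c₁.symm _ ≪≫ Functor.associator _ _ _ ≪≫
      Functor.isoWhiskerLeft _ ((Functor.associator _ _ _).symm ≪≫
        Functor.isoWhiskerRight (Functor.mapHomotopyCategoryPlusCompIso e) _)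
  let b₂ : DCat.injToDPlus A ⋙ T.rightDerivedFunctorPlus ⋙ S.rightDerivedFunctorPlus ≅
      DCat.injToDPlus A ⋙ H.rightDerivedFunctorPlus :=
    (Functor.associator _ _ _).symm ≪≫ Functor.isoWhiskerRight b₁ _ ≪≫ Functor.associator _ _ _ ≪≫
      Functor.isoWhiskerLeft _ (DCat.injCompRDIso S) ≪≫ c₂ ≪≫ (DCat.injCompRDIso H).symm
  (Functor.leftUnitor _).symm ≪≫ Functor.isoWhiskerRight Φ.counitIso.symm _ ≪≫ Functor.associator _ _ _ ≪≫
    Functor.isoWhiskerLeft Φ.inverse b₂ ≪≫ (Functor.associator _ _ _).symm ≪≫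
    Functor.isoWhiskerRight Φ.counitIso _ ≪≫ Functor.leftUnitor _

/-- For continuous maps f : X -> Y and g : Y -> Z, the composite of the right derived functors Rf_* :
D^+(X) -> D^+(Y) and Rg_* : D^+(Y) -> D^+(Z) is isomorphic to R(g ∘ f)_* (existence of an
isomorphism of functors between bounded below derived categories). -/
theorem result {X Y Z : TopCat.{u}} (f : X ⟶ Y) (g : Y ⟶ Z) :
    Nonempty ((CohTop.push f).rightDerivedFunctorPlus ⋙ (CohTop.push g).rightDerivedFunctorPlus ≅
      (CohTop.push (f ≫ g)).rightDerivedFunctorPlus) := by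
  exact ⟨compIso (CohTop.push f) (CohTop.push g) (CohTop.push (f ≫ g)) (Iso.refl _)⟩

end Groth.Agent.S0930
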