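import Groth.Prelude.Def_CohCx
import Groth.Agent.SiteDer16.RlimClassesAb
import Mathlib.CategoryTheory.Sites.LocallyBijective

set_option autoImplicit false
universe u
namespace CategoryTheory
end CategoryTheory
open CategoryTheory
namespace CohSite
end CohSite
open CohSite

namespace Groth.Agent.S0931

open Groth.Agent.SiteDer16

variable {C : Type u} [SmallCategory C] {J : GrothendieckTopology C}
    [HasDerivedCategory.{u} (Sheaf J AddCommGrpCat.{u})]

theorem sec_res (K : DerivedCategory (Sheaf J AddCommGrpCat.{u})) (q : ℤ) {W V : C} (g : W ⟶ V)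
    (y : CohCx.HDU K q V) :
    sec K q W ((DerivedCategory.singleFunctor (Sheaf J AddCommGrpCat.{u}) 0).map (CohCx.freeSheafMap J g) ≫ y) =
      (CohCx.HD K q).obj.map g.op (sec K q V y) := by
  refine Eq.trans (congrArg (SiteCoh.homEquiv W (CohCx.HD K q))
    ((congrArg (· ≫ _) ((abSections J).θ_map g (show (abSections J).pt.obj V ⟶ K⟦q⟧ from y))).trans
      (Category.assoc _ _ _))) ?_
  exact SiteCoh.homEquiv_precomp g ((abSections J).θm q V K y)

/-- Classes give sections of the cohomology sheaf. -/
noncomputable def secHom (K : DerivedCategory (Sheaf J AddCommGrpCat.{u})) (q : ℤ) :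
    CohCx.HDUPresheaf K q ⟶ (CohCx.HD K q).obj where
  app V := AddCommGrpCat.ofHom (sec K q V.unop)
  naturality V W g := by
    ext y
    exact sec_res K q g.unop y

/-- Let K be an object of the derived category of abelian sheaves on a site and q an integer. Then the
sheafification of the presheaf U ↦ H^q(U, K) is isomorphic to the q-th cohomology sheaf H^q(K). -/
theorem result {C : Type u} [SmallCategory C] {J : GrothendieckTopology C}
    [HasDerivedCategory.{u} (Sheaf J AddCommGrpCat.{u})] (K : DerivedCategory (Sheaf J AddCommGrpCat.{u}))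
    (q : ℤ) :
    Nonempty ((presheafToSheaf J AddCommGrpCat.{u}).obj (CohCx.HDUPresheaf K q) ≅ CohCx.HD K q) := by
  have hinj : Presheaf.IsLocallyInjective J (secHom K q) := ⟨fun {V} x y h => by
    change Groth.Agent.SiteDer16.sec K q V.unop x = Groth.Agent.SiteDer16.sec K q V.unop y at h
    let S := Groth.Agent.SiteDer16.abSections J
    let σ := (Functor.shiftIso (DerivedCategory.homologyFunctor (Sheaf J AddCommGrpCat.{u}) 0) q 0 q (add_zero q))
    have h1 : S.θm q V.unop K (x - y) = 0 := by
      apply (Groth.Agent.SiteCoh.homEquiv V.unop (CohCx.HD K q)).injective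
      refine Eq.trans ?_ (map_zero _).symm
      exact (map_sub (Groth.Agent.SiteDer16.sec K q V.unop) x y).trans (sub_eq_zero.2 h)
    have h2 : S.θ (show S.pt.obj V.unop ⟶ K⟦q⟧ from (x - y)) = 0 :=
      (cancel_mono (σ.hom.app K)).1 (h1.trans Limits.zero_comp.symm)
    obtain ⟨T, hT, hl⟩ := S.exists_local_zero (Groth.Agent.SiteDer16.enoughKInj _) _ h2
    refine J.superset_covering (fun W g hg => ?_) hT
    show (CohCx.HDUPresheaf K q).map g.op x = (CohCx.HDUPresheaf K q).map g.op y
    rw [← sub_eq_zero, ← map_sub]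
    exact hl g hg⟩
  have hsurj : Presheaf.IsLocallySurjective J (secHom K q) := ⟨fun {V} s => by
    let S := Groth.Agent.SiteDer16.abSections J
    obtain ⟨T, hT, hl⟩ := S.exists_local_liftm q ((Groth.Agent.SiteCoh.homEquiv V (CohCx.HD K q)).symm s)
    refine J.superset_covering (fun W g hg => ?_) hT
    obtain ⟨y, hy⟩ := hl g hg
    refine ⟨y, (congrArg (Groth.Agent.SiteCoh.homEquiv W (CohCx.HD K q)) hy).trans ?_⟩
    exact (Groth.Agent.SiteCoh.homEquiv_precomp g _).trans (congrArg _
      ((Groth.Agent.SiteCoh.homEquiv V (CohCx.HD K q)).apply_symm_apply s))⟩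
  haveI : IsIso ((presheafToSheaf J AddCommGrpCat.{u}).map (secHom K q)) :=
    (J.W_iff _).1 (J.W_of_isLocallyBijective _)
  exact ⟨asIso ((presheafToSheaf J AddCommGrpCat.{u}).map (secHom K q)) ≪≫
    asIso ((sheafificationAdjunction J AddCommGrpCat.{u}).counit.app (CohCx.HD K q))⟩

end Groth.Agent.S0931
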