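import Groth.Statements.S0934
import Groth.Agent.Coherent.InternalHomLocal
import Groth.Agent.Coherent.TensorFinLoc
-- import your own Groth.Agent.* helpers here

set_option autoImplicit false
universe u
open CategoryTheory
open Coh

namespace Groth.Agent.S0934

open AlgebraicGeometry in
/-- Schemes; E finite locally free, which on a scheme is locally the same as a direct summand of a
finite free module: let p : G -> F be an epimorphism of O_X-modules and φ : E -> F a morphism with E
finite locally free. Then every point has an open neighbourhood V and a morphism ψ : E|_V -> G|_V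
with ψ ≫ p|_V = φ|_V. -/
theorem result {X : Scheme.{u}} {E F G : X.Modules} (p : G ⟶ F) [Epi p] (φ : E ⟶ F)
    (hE : FlatMod.IsFinLocFree E) (x : X) :
    ∃ (V : X.Opens) (ψ : E.restrict V.ι ⟶ G.restrict V.ι), x ∈ V ∧
      ψ ≫ (Scheme.Modules.restrictFunctor V.ι).map p = (Scheme.Modules.restrictFunctor V.ι).map φ := by
  classical
  obtain ⟨U, n, e, hxU, -, he⟩ := Groth.Agent.Coherent.exists_basis_nhd hE x ⊤ trivial
  choose V hV hxV b hb using fun i =>
    Groth.Agent.Coherent.exists_lift_of_epi p U (φ.app U (e i)) x hxU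
  let V₀ : X.Opens := ⟨U ∩ ⋂ i, (V i : Set X), U.2.inter (isOpen_iInter_of_finite fun i => (V i).2)⟩
  have h0 : V₀ ≤ U := fun z hz => hz.1
  have hi : ∀ i, V₀ ≤ V i := fun i z hz => Set.mem_iInter.1 hz.2 i
  have he' : Groth.Agent.PicLib.IsBasisOn E V₀ (fun i => Groth.Agent.Coherent.resM E h0 (e i)) := by
    intro W hW
    simpa only [Groth.Agent.Coherent.resM_resM] using he (hW.trans h0)
  refine ⟨V₀, Groth.Agent.Coherent.restrictHom (Groth.Agent.Coherent.locHomOfBasis he'
    fun i => Groth.Agent.Coherent.resM G (hi i) (b i)), ⟨hxU, Set.mem_iInter.2 hxV⟩, ?_⟩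
  refine Scheme.Modules.hom_ext _ _ fun W => ConcreteCategory.hom_ext _ _ fun a => ?_
  let W' : X.Opens := V₀.ι ''ᵁ W
  have hW' : W' ≤ V₀ := V₀.ι_image_le W
  show p.app W' (∑ i, he'.coef hW' a i • Groth.Agent.Coherent.resM G hW'
    (Groth.Agent.Coherent.resM G (hi i) (b i))) = φ.app W' a
  conv_rhs => rw [← he'.coef_spec hW' a]
  rw [map_sum, map_sum]
  refine Finset.sum_congr rfl fun i _ => ?_
  rw [Scheme.Modules.Hom.app_smul, Scheme.Modules.Hom.app_smul]
  simp only [Groth.Agent.Coherent.resM_resM, Groth.Agent.Coherent.app_resM, hb]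

end Groth.Agent.S0934
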