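import Groth.Prelude.Def_CohCx
import Groth.Agent.SiteCoh.CechAcyclic

set_option autoImplicit false
universe u
open CategoryTheory
open CohSite

namespace Groth.Agent.S0941

open CategoryTheory.Limits in
/-- Let C be a site with fibre products, {Y_i -> U} a covering family and F an abelian sheaf with
H^q(Y_{i_0} x_U ... x_U Y_{i_p}, F) = 0 for all q > 0 and all finite tuples of indices. Then for
every p the p-th Cech cohomology group of F with respect to the covering is isomorphic to H^p(U, F). -/
theorem result {C : Type u} [SmallCategory C] [HasPullbacks C]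
    (J : GrothendieckTopology C) (F : Sheaf J AddCommGrpCat.{u}) {U : C} {ι : Type u} (Y : ι → Over U)
    (hY : Sieve.ofArrows (fun i => (Y i).left) (fun i => (Y i).hom) ∈ J U)
    (h : ∀ (p : ℕ) (a : Fin (p + 1) → ι) (q : ℕ),
      Subsingleton (CohSite.HU F (q + 1) (∏ᶜ fun k => Y (a k)).left))
    (p : ℕ) : Nonempty (CohCx.cechH F.obj Y p ≃+ CohSite.HU F p U) := by
  exact Groth.Agent.SiteCoh.nonempty_cech_equiv (Over.forget U) Y (fun i => (Y i).hom)
    (fun Z i j f g => (Over.w f).trans (Over.w g).symm) hY
    (fun Z i j f g e => ⟨Over.mk (f ≫ (Y i).hom), 𝟙 Z, Over.homMk f rfl, Over.homMk g e.symm,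
      Category.id_comp _, Category.id_comp _⟩)
    (fun I _ q => Groth.Agent.SiteCoh.isZero_cechH_of_injective I Y q) F h p

end Groth.Agent.S0941
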