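import Groth.Prelude.Def_CohSite
import Mathlib.Algebra.Homology.HomotopyCategory.KInjective
import Mathlib.CategoryTheory.Sites.Over
import Groth.Agent.DCat.RFBasic
import Groth.Agent.SiteCoh.Restrict

set_option autoImplicit false
universe u
open CategoryTheory
open CohSite

namespace Groth.Agent.S0942

/-- Let U be an object of a site and I a K-injective complex of abelian sheaves. Then the restriction of
I to the site of objects over U (precomposition with the forgetful functor from the over category)
is a K-injective complex. -/
theorem result {C : Type u} [SmallCategory C] (J : GrothendieckTopology C) (U : C)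
    (I : CochainComplex (Sheaf J AddCommGrpCat.{u}) ℤ) (hI : I.IsKInjective) :
    CochainComplex.IsKInjective ((((Over.forget U).sheafPushforwardContinuous AddCommGrpCat.{u} (J.over U) J).mapHomologicalComplex
      (ComplexShape.up ℤ)).obj I) := by
  haveI := Groth.Agent.SiteCoh.sheafPullback_overForget_preservesFiniteLimits J U
  let adj := (Over.forget U).sheafAdjunctionContinuous AddCommGrpCat.{u} (J.over U) J
  haveI := adj.isLeftAdjoint
  haveI : Limits.PreservesFiniteColimits
      ((Over.forget U).sheafPullback AddCommGrpCat.{u} (J.over U) J) :=
    ⟨fun _ _ _ => inferInstance⟩
  haveI : ((Over.forget U).sheafPullback AddCommGrpCat.{u} (J.over U) J).Additive :=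
    Functor.additive_of_preserves_binary_products _
  exact Groth.Agent.DCat.isKInjective_map_of_adj adj I

end Groth.Agent.S0942
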