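import Groth.Prelude.Def_CohTop
import Mathlib.CategoryTheory.ObjectProperty.FullSubcategory
import Groth.Agent.SiteCoh.NeighColim

set_option autoImplicit false
universe u
namespace CategoryTheory
end CategoryTheory
open CategoryTheory
namespace CohTop
end CohTop
open CohTop

namespace Groth.Agent.S0946

open Groth.Agent.SiteCoh

open TopologicalSpace Opposite CategoryTheory.Limits in
/-- Take a quasi-compact subset Z of a topological space X whose points are pairwise separated by
disjoint opens of X, and an abelian sheaf F on X. For every p the group H^p(Z, F|_Z) (cohomology of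
the pullback of F to the subspace Z) is isomorphic to the colimit of the groups H^p(U, F) over the
open neighbourhoods U of Z (existence of an isomorphism with the colimit of the cohomology presheaf
restricted to the opens containing Z). -/
theorem result {X : TopCat.{u}} (Z : Set X) (hZ : IsCompact Z)
    (hsep : ∀ x ∈ Z, ∀ y ∈ Z, x ≠ y → ∃ U V : Opens X, x ∈ U ∧ y ∈ V ∧ Disjoint U V)
    (F : CohTop.Ab X) (p : ℕ) :
    Nonempty ((colimit (ObjectProperty.ι (fun U : (Opens X)ᵒᵖ => Z ⊆ (U.unop : Set X)) ⋙
        (Sheaf.cohomologyPresheafFunctor (Opens.grothendieckTopology X) p).obj F) : AddCommGrpCat.{u}) ≃+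
      CohTop.H ((CohTop.pull (TopCat.ofHom ⟨Subtype.val, continuous_subtype_val⟩ : TopCat.of Z ⟶ X)).obj F) p) := by
  let g : TopCat.of Z ⟶ X := TopCat.ofHom ⟨Subtype.val, continuous_subtype_val⟩
  have hs : Compact.Sep Z := fun x hx y hy hne => by
    obtain ⟨U, V, hU, hV, hUV⟩ := hsep x hx y hy hne
    exact ⟨U, V, U.2, V.2, hU, hV, Opens.coe_disjoint.2 hUV⟩
  obtain ⟨e⟩ := Compact.nonempty_colim_iso (g := g) (Compact.isCompactSub_incl hZ hs) F p
  have hr : Compact.Nbhds g = fun U : (Opens X)ᵒᵖ => Z ⊆ (U.unop : Set X) := by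
    funext U
    exact congrArg (fun A => A ⊆ (U.unop : Set X)) (Subtype.range_val (s := Z))
  suffices h : ∀ (P : ObjectProperty (Opens X)ᵒᵖ), P = Compact.Nbhds g →
      Nonempty ((colimit (P.ι ⋙ (Sheaf.cohomologyPresheafFunctor (Opens.grothendieckTopology X) p).obj F) :
        AddCommGrpCat.{u}) ≃+
        CohTop.H ((CohTop.pull g).obj F) p) from h _ hr.symm
  rintro P rfl
  exact ⟨e.addCommGroupIsoToAddEquiv⟩

end Groth.Agent.S0946
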