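import Groth.Prelude.Def_CohTop
import Mathlib.CategoryTheory.ObjectProperty.FullSubcategory
import Mathlib.Topology.Spectral.Basic
import Groth.Agent.HTop16.SpectralStalk

set_option autoImplicit false
universe u
namespace CategoryTheory
end CategoryTheory
open CategoryTheory
namespace CohTop
end CohTop
open CohTop

namespace Groth.Agent.S0947

open TopologicalSpace Opposite CategoryTheory.Limits in
/-- Let X be a spectral space, F an abelian sheaf on X, E ⊆ X a quasi-compact subset and W the set of
points of X specializing to some point of E. Then for every p the group H^p(W, F|_W) (cohomology of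
the pullback of F to the subspace W) is isomorphic to the colimit of the groups H^p(U, F) over the
quasi-compact open neighbourhoods U of E (existence of an isomorphism). -/
theorem result {X : TopCat.{u}} [SpectralSpace X] (E : Set X)
    (hE : IsCompact E) (F : CohTop.Ab X) (p : ℕ) :
    Nonempty ((colimit (ObjectProperty.ι (fun U : (Opens X)ᵒᵖ => E ⊆ (U.unop : Set X) ∧ IsCompact (U.unop : Set X)) ⋙
        (Sheaf.cohomologyPresheafFunctor (Opens.grothendieckTopology X) p).obj F) : AddCommGrpCat.{u}) ≃+
      CohTop.H ((CohTop.pull (TopCat.ofHom ⟨Subtype.val, continuous_subtype_val⟩ :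
        TopCat.of {x : X | ∃ e ∈ E, e ∈ closure {x}} ⟶ X)).obj F) p) := by
  exact Groth.Agent.HTop16.Spectral.nonempty_colim_gener E hE F p

end Groth.Agent.S0947
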