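import Groth.Prelude.Def_CohCx
import Mathlib.CategoryTheory.Sites.SheafCohomology.Basic
import Groth.Agent.CohColim.Apps
import Groth.Agent.CohColim.Covered

set_option autoImplicit false
universe u
namespace CategoryTheory
end CategoryTheory
open CategoryTheory
namespace CohSite
end CohSite
open CohSite

namespace Groth.Agent.S0948

open CategoryTheory.Limits in
/-- Let S be a class of sheaves of sets on a site such that (1) some member of S maps epimorphically to
the final sheaf, (2) every epimorphism F -> K onto a member K of S is refined by a map K' -> F from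
a member K' of S with K' -> K epimorphic, (3) for K, K' in S some member of S maps epimorphically
onto K × K', (4) for parallel maps a, b : K -> K' between members of S some member of S maps
epimorphically onto their equalizer, and (5) every member of S is a quasi-compact object. Then for
every p the functor F ↦ H^p(C, F) on abelian sheaves preserves filtered colimits. -/
theorem result {C : Type u} [SmallCategory C]
    {J : GrothendieckTopology C} (S : Set (Sheaf J (Type u)))
    (h1 : ∃ K ∈ S, Epi (terminal.from K))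
    (h2 : ∀ (F : Sheaf J (Type u)) (K : Sheaf J (Type u)) (g : F ⟶ K), K ∈ S → Epi g →
      ∃ (K' : Sheaf J (Type u)) (k : K' ⟶ F), K' ∈ S ∧ Epi (k ≫ g))
    (h3 : ∀ K ∈ S, ∀ K' ∈ S, ∃ (K'' : Sheaf J (Type u)) (g : K'' ⟶ K ⨯ K'), K'' ∈ S ∧ Epi g)
    (h4 : ∀ K ∈ S, ∀ K' ∈ S, ∀ (a b : K ⟶ K'), ∃ (K'' : Sheaf J (Type u)) (g : K'' ⟶ equalizer a b), K'' ∈ S ∧ Epi g)
    (h5 : ∀ K ∈ S, CohCx.IsQcObject K)
    (Λ : Type u) [SmallCategory Λ] [IsFiltered Λ] (p : ℕ) :
    PreservesColimitsOfShape Λ (Sheaf.functorH J p : Sheaf J AddCommGrpCat.{u} ⥤ AddCommGrpCat.{u}) := by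
  have hjs : ∀ {K : Sheaf J (Type u)} {I : Type u} {L : I → Sheaf J (Type u)} (f : ∀ i, L i ⟶ K),
      CohCx.JointlySurjective f ↔ Groth.Agent.ToposFinLib.EFam f := fun {K I L} f => by
    rw [Groth.Agent.ToposFinLib.efam_iff_famSieve]
    constructor
    · intro h U x
      obtain ⟨T, hT, hT'⟩ := h U.unop x
      exact J.superset_covering (fun V g hg => hT' V g hg) hT
    · intro h U x
      exact ⟨_, h (Opposite.op U) x, fun V g hg => hg⟩
  have hqc : ∀ K ∈ S, ToposFin.IsQC K := fun K hK => Groth.Agent.ToposFinLib.isQC_iff.2 fun I L f hf => by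
    obtain ⟨t, ht⟩ := h5 K hK I L f ((hjs f).2 hf)
    exact ⟨t, (hjs _).1 ht⟩
  obtain ⟨K₀, hK₀, hp⟩ := h1
  have hT : Groth.Agent.CohColim.CovEmb S (Limits.terminal (Sheaf J (Type u))) :=
    ⟨⟨K₀, _, hK₀, hp⟩, Empty, inferInstance, fun i => i.elim, fun i => i.elim, fun i => i.elim,
      fun W a b _ => Limits.terminalIsTerminal.hom_ext a b⟩
  exact (Groth.Agent.CohColim.cls_covEmb hqc h2 h3 h4).preservesColimitsOfShape_functorH Λ hT Limits.terminalIsTerminal p

end Groth.Agent.S0948
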