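import Groth.Statements.S0952
import Groth.Agent.DCat.KFlatSheaf
import Groth.Agent.S6906

set_option autoImplicit false
set_option backward.isDefEq.respectTransparency false
set_option backward.defeqAttrib.useBackward true
universe u
open CategoryTheory
attribute [local instance] HasDerivedCategory.standard
open DCoh

namespace Groth.Agent.S0952

open AlgebraicGeometry in
/-- For a morphism f : X -> Y and a K-flat complex K of O_Y-modules, the termwise pullback f^* K is a
K-flat complex of O_X-modules. -/
theorem result {X Y : Scheme.{u}} (f : X ⟶ Y) (K : CochainComplex Y.Modules ℤ) (hK : DCoh.IsKFlat K) :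
    DCoh.IsKFlat (((Scheme.Modules.pullback f).mapHomologicalComplex (ComplexShape.up ℤ)).obj K) := by
  open Groth.Agent.DCat Groth.Agent.ModStalk in
  rw [isKFlat_iff_sheaf, isKFlatFor_iff_stalks]
  intro x
  have h := (Groth.Agent.DCat.isKFlatFor_iff_stalks K).1
    ((Groth.Agent.DCat.isKFlat_iff_sheaf K).1 hK) (f.base x)
  have h' := (Groth.Agent.DCat.isKFlat_iff _).1
    (Groth.Agent.S6906.result _ _ (f.stalkMap x).hom _ ((Groth.Agent.DCat.isKFlat_iff _).2 h))
  exact h'.of_iso (HomologicalComplex.Hom.isoOfComponents
    (fun n => ((Groth.Agent.ModStalk.pullbackStalkIso f x).app (K.X n)).symm)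
    (fun i j _ => ((Groth.Agent.ModStalk.pullbackStalkIso f x).inv.naturality (K.d i j)).symm))


end Groth.Agent.S0952
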