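import Groth.Statements.S0973
import Groth.Agent.CommAlg4.GhostLift
import Groth.Agent.CommAlg4.Postnikov
-- import your own Groth.Agent.* helpers here

set_option autoImplicit false
universe w v u
open CategoryTheory CategoryTheory.Limits
open CohDer

namespace Groth.Agent.S0973

/-- Let K be an object of the derived category of an abelian category with cohomology concentrated in
degrees a, …, b. Suppose that for all i > j and p ≥ 2 every morphism H^i(K) ⟶ H^j(K)[p] in the
derived category (an element of Ext^p) vanishes. Then K splits: it is isomorphic to ⨁_{a ≤ i ≤ b}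
Hⁱ(K)[-i]. -/
theorem result {A : Type u} [Category.{v} A] [Abelian A] [HasDerivedCategory.{w} A]
    (K : DerivedCategory A) (a b : ℤ) [K.IsGE a] [K.IsLE b]
    (hExt : ∀ (i j : ℤ) (p : ℕ), j < i → 2 ≤ p →
      ∀ f : (DerivedCategory.singleFunctor A 0).obj ((DerivedCategory.homologyFunctor A i).obj K) ⟶
        ((DerivedCategory.singleFunctor A 0).obj ((DerivedCategory.homologyFunctor A j).obj K))⟦(p : ℤ)⟧, f = 0)
    [HasBiproduct (fun i : Finset.Icc a b => (DerivedCategory.singleFunctor A (i : ℤ)).obj ((DerivedCategory.homologyFunctor A (i : ℤ)).obj K))] :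
    Nonempty (K ≅ ⨁ (fun i : Finset.Icc a b => (DerivedCategory.singleFunctor A (i : ℤ)).obj ((DerivedCategory.homologyFunctor A (i : ℤ)).obj K))) := by
  open DerivedCategory CommAlg4.Postnikov CommAlg4.GhostLift Limits Pretriangulated in
  let t := TStructure.t (C := A)
  have hsingle : ∀ (X : DerivedCategory A) (j : ℤ), X.IsGE j → X.IsLE j →
      Nonempty ((singleFunctor A j).obj ((homologyFunctor A j).obj X) ≅ X) := by
    intro X j _ _
    obtain ⟨M, ⟨e⟩⟩ := exists_iso_singleFunctor_obj_of_isGE_of_isLE X j
    exact ⟨(singleFunctor A j).mapIso ((homologyFunctor A j).mapIso e ≪≫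
      (singleFunctorCompHomologyFunctorIso A j).app M) ≪≫ e.symm⟩
  -- `Hom(H^i[-i-1], X) = 0` when `X` has cohomology among the lower `H^j K`
  have hvan : ∀ (i : ℤ) (n : ℕ) (X : DerivedCategory A), X.IsGE a → X.IsLE (a + n - 1) →
      (∀ j, a ≤ j → j < a + n → Nonempty ((homologyFunctor A j).obj X ≅ (homologyFunctor A j).obj K)) →
      a + n ≤ i → ∀ φ : ((singleFunctor A i).obj ((homologyFunctor A i).obj K))⟦(-1 : ℤ)⟧ ⟶ X,
        φ = 0 := by
    intro i n
    induction n with
    | zero =>
      intro X hge hle _ _ φ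
      exact (t.isZero X (a + (0 : ℕ) - 1) a (by omega)).eq_of_tgt _ _
    | succ n ih =>
      intro X hge hle hH hi φ
      let c : ℤ := a + n
      have hc : X.IsLE c := t.isLE_of_le X (a + (n + 1 : ℕ) - 1) c (by omega)
      have hY : ((t.truncGE c).obj X).IsLE c := by
        rw [isLE_iff]
        intro q hq
        have := isIso_homology_truncGEπ (A := A) X (show c ≤ q by omega)
        exact IsZero.of_iso (isZero_of_isLE X c q hq)
          (asIso ((homologyFunctor A q).map ((t.truncGEπ c).app X))).symm
      obtain ⟨e⟩ := hsingle ((t.truncGE c).obj X) c inferInstance hY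
      obtain ⟨u⟩ := hH c (by omega) (by omega)
      have := isIso_homology_truncGEπ (A := A) X (le_refl c)
      let e' : (t.truncGE c).obj X ≅ (singleFunctor A c).obj ((homologyFunctor A c).obj K) :=
        e.symm ≪≫ (singleFunctor A c).mapIso
          ((asIso ((homologyFunctor A c).map ((t.truncGEπ c).app X))).symm ≪≫ u)
      have h0 : φ ≫ (t.truncGEπ c).app X = 0 := by
        rw [← cancel_mono e'.hom, zero_comp]
        obtain ⟨si⟩ : Nonempty ((singleFunctor A i).obj ((homologyFunctor A i).obj K) ≅
            ((singleFunctor A 0).obj ((homologyFunctor A i).obj K))⟦-i⟧) :=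
          ⟨(((singleFunctors A).shiftIso (-i) i 0 (by omega)).app _).symm⟩
        obtain ⟨sc⟩ : Nonempty ((singleFunctor A c).obj ((homologyFunctor A c).obj K) ≅
            ((singleFunctor A 0).obj ((homologyFunctor A c).obj K))⟦-c⟧) :=
          ⟨(((singleFunctors A).shiftIso (-c) c 0 (by omega)).app _).symm⟩
        obtain ⟨p, hp⟩ : ∃ p : ℕ, (p : ℤ) = i + 1 - c := ⟨(i + 1 - c).toNat, by omega⟩
        have hv := vanish_shift (D := DerivedCategory A)
          (A := (singleFunctor A 0).obj ((homologyFunctor A i).obj K))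
          (B := (singleFunctor A 0).obj ((homologyFunctor A c).obj K)) 0 (p : ℤ) (-i + -1) (-c) (i + 1)
          (by omega) (by omega) (vanish_from_zero 0 rfl (hExt i c p (by omega) (by omega)))
          ((shiftFunctorAdd' (DerivedCategory A) (-i) (-1) (-i + -1) rfl).hom.app _ ≫
            si.inv⟦(-1 : ℤ)⟧' ≫ ((φ ≫ (t.truncGEπ c).app X) ≫ e'.hom) ≫ sc.hom)
        rw [Preadditive.IsIso.comp_left_eq_zero, Preadditive.IsIso.comp_left_eq_zero,
          Preadditive.IsIso.comp_right_eq_zero] at hv
        exact hv
      obtain ⟨ψ, hψ⟩ := Triangle.coyoneda_exact₂ _ (t.triangleLTGE_distinguished c X) φ h0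
      rw [hψ, ih ((t.truncLT c).obj X) (isGE_truncLT_obj' (A := A) X a c)
        (t.isLE_truncLT_obj _ _ _ (by omega)) (fun j hj hj' => ?_) (by omega) ψ]
      · exact zero_comp
      · obtain ⟨v⟩ := hH j hj (by omega)
        have := isIso_homology_truncLTι (A := A) X hj'
        exact ⟨asIso ((homologyFunctor A j).map ((t.truncLTι c).app X)) ≪≫ v⟩
  -- each `H^i[-i]` maps to `K`
  have hs : ∀ i : Finset.Icc a b, ∃ s : (singleFunctor A (i : ℤ)).obj ((homologyFunctor A (i : ℤ)).obj K) ⟶ K,
      IsIso ((homologyFunctor A (i : ℤ)).map s) := by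
    rintro ⟨i, hi⟩
    obtain ⟨hai, hib⟩ := Finset.mem_Icc.1 hi
    dsimp only
    let L := (t.truncLT (i + 1)).obj K
    have hL : L.IsLE i := t.isLE_truncLT_obj _ _ _ (by omega)
    have hLge : L.IsGE a := isGE_truncLT_obj' (A := A) K a (i + 1)
    have hY : ((t.truncGE i).obj L).IsLE i := by
      rw [isLE_iff]
      intro q hq
      have := isIso_homology_truncGEπ (A := A) L (show i ≤ q by omega)
      exact IsZero.of_iso (isZero_of_isLE L i q hq)
        (asIso ((homologyFunctor A q).map ((t.truncGEπ i).app L))).symm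
    obtain ⟨e⟩ := hsingle ((t.truncGE i).obj L) i inferInstance hY
    have hι := isIso_homology_truncLTι (A := A) K (show i < i + 1 by omega)
    have hπ := isIso_homology_truncGEπ (A := A) L (le_refl i)
    let σ : (singleFunctor A i).obj ((homologyFunctor A i).obj K) ≅ (t.truncGE i).obj L :=
      (singleFunctor A i).mapIso ((asIso ((homologyFunctor A i).map ((t.truncLTι (i + 1)).app K))).symm ≪≫
        asIso ((homologyFunctor A i).map ((t.truncGEπ i).app L))) ≪≫ e
    have hobs : σ.hom ≫ (t.truncGEδLT i).app L = 0 := by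
      obtain ⟨n, hn⟩ : ∃ n : ℕ, (n : ℤ) = i - a := ⟨(i - a).toNat, by omega⟩
      have hv := hvan i n ((t.truncLT i).obj L) (isGE_truncLT_obj' (A := A) L a i)
        (t.isLE_truncLT_obj _ _ _ (by omega)) (fun j hj hj' => by
          have := isIso_homology_truncLTι (A := A) L (show j < i by omega)
          have := isIso_homology_truncLTι (A := A) K (show j < i + 1 by omega)
          exact ⟨asIso ((homologyFunctor A j).map ((t.truncLTι i).app L)) ≪≫
            asIso ((homologyFunctor A j).map ((t.truncLTι (i + 1)).app K))⟩) (by omega)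
        ((σ.hom ≫ (t.truncGEδLT i).app L)⟦(-1 : ℤ)⟧' ≫
          (shiftFunctorCompIsoId (DerivedCategory A) (1 : ℤ) (-1) (by omega)).hom.app _)
      apply (shiftFunctor (DerivedCategory A) (-1 : ℤ)).map_injective
      rw [Functor.map_zero]
      exact (cancel_mono ((shiftFunctorCompIsoId (DerivedCategory A) (1 : ℤ) (-1) (by omega)).hom.app _)).1
        (hv.trans zero_comp.symm)
    obtain ⟨r, hr⟩ : ∃ r, σ.hom = r ≫ (t.truncGEπ i).app L :=
      Triangle.coyoneda_exact₃ _ (t.triangleLTGE_distinguished i L) σ.hom hobs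
    refine ⟨r ≫ (t.truncLTι (i + 1)).app K, ?_⟩
    rw [Functor.map_comp]
    have h1 : IsIso ((homologyFunctor A i).map σ.hom) := inferInstance
    rw [hr, Functor.map_comp] at h1
    have : IsIso ((homologyFunctor A i).map r) :=
      IsIso.of_isIso_comp_right _ ((homologyFunctor A i).map ((t.truncGEπ i).app L))
    infer_instance
  choose s hs using hs
  have : IsIso (biproduct.desc s) := by
    rw [DerivedCategory.isIso_iff]
    intro j
    let S : Finset.Icc a b → DerivedCategory A :=
      fun i => (singleFunctor A (i : ℤ)).obj ((homologyFunctor A (i : ℤ)).obj K)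
    have hSz : ∀ i : Finset.Icc a b, (i : ℤ) ≠ j → IsZero ((homologyFunctor A j).obj (S i)) := by
      intro i hi
      rcases lt_or_gt_of_ne hi with h | h
      · exact isZero_of_isLE (S i) (i : ℤ) j h
      · exact isZero_of_isGE (S i) (i : ℤ) j h
    have htot : ∀ i₀ : Finset.Icc a b, (∀ i, i ≠ i₀ → IsZero ((homologyFunctor A j).obj (S i))) →
        (homologyFunctor A j).map (biproduct.π S i₀) ≫ (homologyFunctor A j).map (biproduct.ι S i₀) =
          𝟙 _ := by
      intro i₀ hz
      have h := congrArg (homologyFunctor A j).map (biproduct.total (f := S))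
      rw [Functor.map_sum, CategoryTheory.Functor.map_id, Finset.sum_eq_single i₀] at h
      · rw [← Functor.map_comp]; exact h
      · intro i _ hi
        rw [Functor.map_comp, (hz i hi).eq_of_tgt ((homologyFunctor A j).map (biproduct.π S i)) 0,
          zero_comp]
      · exact fun h => absurd (Finset.mem_univ _) h
    by_cases hj : j ∈ Finset.Icc a b
    · have hz : ∀ i : Finset.Icc a b, i ≠ ⟨j, hj⟩ → IsZero ((homologyFunctor A j).obj (S i)) :=
        fun i hi => hSz i (fun h => hi (Subtype.ext h))
      have : IsIso ((homologyFunctor A j).map (biproduct.ι S ⟨j, hj⟩)) :=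
        ⟨(homologyFunctor A j).map (biproduct.π S ⟨j, hj⟩), by
          rw [← Functor.map_comp, biproduct.ι_π_self, CategoryTheory.Functor.map_id],
          htot ⟨j, hj⟩ hz⟩
      have h1 : IsIso ((homologyFunctor A j).map (biproduct.ι S ⟨j, hj⟩) ≫
          (homologyFunctor A j).map (biproduct.desc s)) := by
        rw [← Functor.map_comp, biproduct.ι_desc]
        exact hs ⟨j, hj⟩
      exact IsIso.of_isIso_comp_left ((homologyFunctor A j).map (biproduct.ι S ⟨j, hj⟩)) _
    · have hK0 : IsZero ((homologyFunctor A j).obj K) := by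
        rw [Finset.mem_Icc] at hj
        by_cases hja : j < a
        · exact isZero_of_isGE K a j hja
        · exact isZero_of_isLE K b j (by omega)
      have hP : IsZero ((homologyFunctor A j).obj (⨁ S)) := by
        rw [IsZero.iff_id_eq_zero, ← CategoryTheory.Functor.map_id, ← biproduct.total (f := S),
          Functor.map_sum]
        refine Finset.sum_eq_zero fun i _ => ?_
        rw [Functor.map_comp, (hSz i (fun h => hj (h ▸ i.2))).eq_of_tgt
          ((homologyFunctor A j).map (biproduct.π S i)) 0, zero_comp]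
      exact ⟨0, hP.eq_of_src _ _, hK0.eq_of_src _ _⟩
  exact ⟨(asIso (biproduct.desc s)).symm⟩

end Groth.Agent.S0973
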