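import Groth.Statements.S0978
import Groth.Agent.DCat.CompactPres

set_option autoImplicit false
set_option backward.isDefEq.respectTransparency false
set_option backward.defeqAttrib.useBackward true
universe v u
open CategoryTheory
open CohDer

namespace Groth.Agent.S0978

open CategoryTheory.Limits in
/-- Let D be a triangulated category with all small direct sums and E a compact object. Then E generates
D (an object admitting only zero maps from all shifts of E is zero) if and only if D is compactly
generated and every compact object lies in the triangulated envelope of E (objects reachable from E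
by shifts, finite sums, direct summands and extensions). -/
theorem result {D : Type u} [Category.{v} D] [Preadditive D] [Limits.HasZeroObject D] [HasShift D ℤ]
    [∀ n : ℤ, (shiftFunctor D n).Additive] [Pretriangulated D] [IsTriangulated D] [HasCoproducts.{v} D]
    [HasColimitsOfShape (Discrete ℕ) D]
    (E : D) (hE : CohDer.IsCompactObject E) :
    CohDer.Generates (fun _ : Unit => E) ↔
      (CohDer.IsCompactlyGenerated D ∧ ∀ X : D, CohDer.IsCompactObject X → ObjectProperty.triangEnvelope (fun Y : D => Y = E) X) := by
  constructor
  · intro h
    let E' : PUnit.{v+1} → D := fun _ => E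
    have hg : CohDer.Generates E' := fun K hK => h K fun _ n f => hK PUnit.unit n f
    refine ⟨⟨PUnit.{v+1}, E', fun _ => hE, hg⟩, fun X hX => ?_⟩
    obtain ⟨s, hs⟩ := Groth.Agent.DCat.exists_env_of_compact (E := E') (fun _ => hE) hg X hX
    exact ObjectProperty.monotone_triangEnvelope (fun Y hY => by
      obtain ⟨_, _, rfl⟩ := hY
      rfl) _ hs
  · rintro ⟨⟨ι, F, hF, hgF⟩, hX⟩ K hK
    let P : ObjectProperty D := fun X => ∀ (m : ℤ) (f : (shiftFunctor D m).obj X ⟶ K), f = 0
    haveI : P.IsStableUnderShift ℤ := ⟨fun n => ⟨fun X hX m f => by
      have h := hX (n + m) ((shiftFunctorAdd D n m).hom.app X ≫ f)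
      rw [← cancel_epi ((shiftFunctorAdd D n m).hom.app X), h, comp_zero]⟩⟩
    haveI : P.IsTriangulatedClosed₂ := ObjectProperty.IsTriangulatedClosed₂.mk fun T hT h₁ h₃ =>
      ObjectProperty.le_isoClosure _ _ fun m f => by
        obtain ⟨g, hg⟩ := Pretriangulated.Triangle.yoneda_exact₂ _ (Pretriangulated.Triangle.shift_distinguished T hT m) f (h₁ m _)
        rw [hg, h₃ m g]
        exact comp_zero
    haveI : P.ContainsZero := ⟨⟨_, Limits.isZero_zero D, fun m f => ((shiftFunctor D m).map_isZero (Limits.isZero_zero D)).eq_of_src _ _⟩⟩
    haveI : P.IsStableUnderRetracts := ⟨fun {X Y} r hY m f => by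
      have h := hY m ((shiftFunctor D m).map r.r ≫ f)
      have h' := congrArg ((shiftFunctor D m).map r.i ≫ ·) h
      simpa [← Functor.map_comp_assoc] using h'⟩
    haveI : P.IsTriangulated := by constructor
    have hle : (fun Y : D => Y = E : ObjectProperty D) ≤ P := by
      intro X hX' m f
      obtain rfl : X = E := hX'
      let i := (shiftFunctorCompIsoId D m (-m) (by omega)).app X
      refine (shiftFunctor D (-m)).map_injective ?_
      rw [Functor.map_zero, ← cancel_epi i.inv, comp_zero]
      exact hK () (-m) _
    refine hgF K fun i n f => ?_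
    refine (shiftFunctor D (-n)).map_injective ?_
    rw [Functor.map_zero, ← cancel_mono ((shiftFunctorCompIsoId D n (-n) (by omega)).hom.app K), zero_comp]
    exact (ObjectProperty.triangEnvelope_le_iff (P := (fun Y : D => Y = E : ObjectProperty D)) (Q := P)).2 hle _ (hX (F i) (hF i)) (-n) _


end Groth.Agent.S0978
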