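import Groth.Statements.S0981
import Groth.Agent.FEtStein.General
-- import your own Groth.Agent.* helpers here

set_option autoImplicit false
universe u
open CategoryTheory AlgebraicGeometry
open Perf

namespace Groth.Agent.S0981

open CategoryTheory.Limits in
/-- Let f : X ⟶ S be proper, flat and of finite presentation, and assume that for every algebraically
closed field K and every point Spec K ⟶ S the fibre X ×_S Spec K is a reduced, connected (in
particular nonempty) scheme. Then O_S ⟶ f_*O_X is an isomorphism: for every open V of S the map
O_S(V) ⟶ O_X(f⁻¹V) is an isomorphism. (The source adds that this persists after any base change.) -/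
theorem result {X S : Scheme.{u}} (f : X ⟶ S)
    [IsProper f] [Flat f] [LocallyOfFinitePresentation f]
    (h : ∀ (K : Type u) [Field K] [IsAlgClosed K] (g : Spec (CommRingCat.of K) ⟶ S),
      IsReduced (pullback f g) ∧ ConnectedSpace ↥(pullback f g))
    (V : S.Opens) : IsIso (f.app V) := by
  haveI : GeometricallyReduced f :=
    Groth.Agent.FEtStein.geometricallyReduced_of_algClosed f fun Ω _ _ σ => (h Ω σ).1
  haveI : GeometricallyConnected f := ⟨fun K _ y Q a b H => by
    let j : Spec (CommRingCat.of (AlgebraicClosure K)) ⟶ Spec (CommRingCat.of K) :=
      Spec.map (CommRingCat.ofHom (algebraMap K (AlgebraicClosure K)))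
    haveI : Surjective j := ⟨fun _ => ⟨IsLocalRing.closedPoint _, Subsingleton.elim _ _⟩⟩
    haveI := (h (AlgebraicClosure K) (j ≫ y)).2
    let e := (IsPullback.of_hasPullback b j).paste_horiz H
    haveI : ConnectedSpace ↥(pullback b j) :=
      e.isoPullback.inv.homeomorph.surjective.connectedSpace e.isoPullback.inv.continuous
    haveI : Surjective (pullback.fst b j) := MorphismProperty.pullback_fst (P := @Surjective) _ _ inferInstance
    exact (pullback.fst b j).surjective.connectedSpace (pullback.fst b j).continuous⟩
  haveI : GeometricallyConnected (f ∣_ V) :=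
    MorphismProperty.of_isPullback (P := @GeometricallyConnected) (isPullback_morphismRestrict f V).flip inferInstance
  haveI : GeometricallyReduced (f ∣_ V) :=
    MorphismProperty.of_isPullback (P := @GeometricallyReduced) (isPullback_morphismRestrict f V).flip inferInstance
  haveI : IsProper (f ∣_ V) :=
    MorphismProperty.of_isPullback (P := @IsProper) (isPullback_morphismRestrict f V).flip inferInstance
  haveI : LocallyOfFinitePresentation (f ∣_ V) :=
    MorphismProperty.of_isPullback (P := @LocallyOfFinitePresentation) (isPullback_morphismRestrict f V).flip inferInstance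
  haveI : Flat (f ∣_ V) :=
    MorphismProperty.of_isPullback (P := @Flat) (isPullback_morphismRestrict f V).flip inferInstance
  haveI : IsIso (f ∣_ V).appTop :=
    (ConcreteCategory.isIso_iff_bijective _).2 (Groth.Agent.FEtStein.bijective_appTop (f ∣_ V))
  have e := morphismRestrict_appTop f V
  haveI : IsIso (f.app (V.ι ''ᵁ ⊤)) := by
    have h2 : IsIso (f ∣_ V).appTop := inferInstance
    have hm : IsIso (X.presheaf.map (eqToHom (image_morphismRestrict_preimage f V ⊤)).op) := inferInstance
    exact @IsIso.of_isIso_fac_right _ _ _ _ _ _ _ _ hm h2 e.symm
  have key : ∀ W : S.Opens, W = V → IsIso (f.app W) → IsIso (f.app V) := by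
    rintro W rfl hW; exact hW
  exact key _ V.ι_image_top this

end Groth.Agent.S0981
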