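import Mathlib.Algebra.Homology.DerivedCategory.Basic
import Mathlib.Algebra.Homology.Embedding.CochainComplex
import Groth.Agent.CohDer1.ComposeTrunc

set_option autoImplicit false
universe w v u
namespace CategoryTheory
end CategoryTheory
namespace CategoryTheory.Limits
end CategoryTheory.Limits
open CategoryTheory CategoryTheory.Limits
namespace CohDer
end CohDer
open CohDer

namespace Groth.Agent.S0982

/-- Let K : ℕ ⥤ CochainComplex A ℤ be a sequence of cochain maps K₀ → K₁ → K₂ → … in an abelian category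
with Hⁱ(K₀) = 0 for i > 0 and such that for every j < n the map H⁻ʲ(Kⱼ) → H⁻ʲ(Kⱼ₊₁) is zero. Then in
the derived category the composite K₀ → Kₙ factors through the canonical truncation τ_{≤ -n}Kₙ → Kₙ. -/
theorem result {A : Type u} [Category.{v} A] [Abelian A] [HasDerivedCategory.{w} A]
    (K : ℕ ⥤ CochainComplex A ℤ) (n : ℕ)
    (h0 : ∀ i : ℤ, 0 < i → IsZero ((K.obj 0).homology i))
    (hz : ∀ j : ℕ, j < n → HomologicalComplex.homologyMap (K.map (homOfLE (Nat.le_succ j))) (-(j : ℤ)) = 0) :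
    ∃ φ : DerivedCategory.Q.obj (K.obj 0) ⟶ DerivedCategory.Q.obj ((K.obj n).truncLE (-(n : ℤ))),
      φ ≫ DerivedCategory.Q.map ((K.obj n).ιTruncLE (-(n : ℤ))) = DerivedCategory.Q.map (K.map (homOfLE (Nat.zero_le n))) := by
  obtain ⟨Z, hZ, φ, ι, h⟩ := Groth.Agent.CohDer1.ComposeTrunc.exists_lift_seq K h0 n hz
  obtain ⟨g, hg⟩ := Groth.Agent.CohDer1.HomTrunc.exists_lift_Q (-(n : ℤ)) (K.obj n) ι
  exact ⟨φ ≫ g, by rw [Category.assoc, hg, h]⟩

end Groth.Agent.S0982
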