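import Groth.Statements.S0983
import Mathlib
-- import your own Groth.Agent.* helpers here

set_option autoImplicit false
universe v u
open CategoryTheory
open CohDer

namespace Groth.Agent.S0983

open CategoryTheory.Pretriangulated in
/-- In a triangulated category, a commutative square f ≫ v = u ≫ f' (with f : X ⟶ Y, f' : X' ⟶ Y', u : X
⟶ X', v : Y ⟶ Y') extends to a diagram with three distinguished rows (X, Y, Z), (X', Y', Z'), (X'',
Y'', Z'') and three distinguished columns (X, X', X''), (Y, Y', Y''), (Z, Z', Z''), in which all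
squares commute except the one formed by the third morphisms of the last row and last column, which
anticommutes; the fourth row and column are the shifts of the first ones. -/
theorem result {D : Type u} [Category.{v} D] [Preadditive D] [Limits.HasZeroObject D] [HasShift D ℤ]
    [∀ n : ℤ, (shiftFunctor D n).Additive] [Pretriangulated D] [IsTriangulated D]
    {X Y X' Y' : D} (f : X ⟶ Y) (f' : X' ⟶ Y') (u : X ⟶ X') (v : Y ⟶ Y') (comm : f ≫ v = u ≫ f') :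
    ∃ (Z Z' X'' Y'' Z'' : D) (g : Y ⟶ Z) (h : Z ⟶ (shiftFunctor D (1 : ℤ)).obj X)
      (g' : Y' ⟶ Z') (h' : Z' ⟶ (shiftFunctor D (1 : ℤ)).obj X')
      (f'' : X'' ⟶ Y'') (g'' : Y'' ⟶ Z'') (h'' : Z'' ⟶ (shiftFunctor D (1 : ℤ)).obj X'')
      (u' : X' ⟶ X'') (u'' : X'' ⟶ (shiftFunctor D (1 : ℤ)).obj X)
      (v' : Y' ⟶ Y'') (v'' : Y'' ⟶ (shiftFunctor D (1 : ℤ)).obj Y)
      (w : Z ⟶ Z') (w' : Z' ⟶ Z'') (w'' : Z'' ⟶ (shiftFunctor D (1 : ℤ)).obj Z),
      Triangle.mk f g h ∈ distinguishedTriangles ∧ Triangle.mk f' g' h' ∈ distinguishedTriangles ∧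
      Triangle.mk f'' g'' h'' ∈ distinguishedTriangles ∧
      Triangle.mk u u' u'' ∈ distinguishedTriangles ∧ Triangle.mk v v' v'' ∈ distinguishedTriangles ∧
      Triangle.mk w w' w'' ∈ distinguishedTriangles ∧
      g ≫ w = v ≫ g' ∧ h ≫ (shiftFunctor D (1 : ℤ)).map u = w ≫ h' ∧
      f' ≫ v' = u' ≫ f'' ∧ g' ≫ w' = v' ≫ g'' ∧ h' ≫ (shiftFunctor D (1 : ℤ)).map u' = w' ≫ h'' ∧
      f'' ≫ v'' = u'' ≫ (shiftFunctor D (1 : ℤ)).map f ∧ g'' ≫ w'' = v'' ≫ (shiftFunctor D (1 : ℤ)).map g ∧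
      h'' ≫ (shiftFunctor D (1 : ℤ)).map u'' = -(w'' ≫ (shiftFunctor D (1 : ℤ)).map h) := by
  obtain ⟨Z, g, h, hf⟩ := Pretriangulated.distinguished_cocone_triangle f
  obtain ⟨Z', g', h', hf'⟩ := Pretriangulated.distinguished_cocone_triangle f'
  obtain ⟨X'', u', u'', hu⟩ := Pretriangulated.distinguished_cocone_triangle u
  obtain ⟨Y'', v', v'', hv⟩ := Pretriangulated.distinguished_cocone_triangle v
  obtain ⟨A, p, q, hA⟩ := Pretriangulated.distinguished_cocone_triangle (f ≫ v)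
  have hA' : Triangle.mk (u ≫ f') p q ∈ distinguishedTriangles := by rw [← comm]; exact hA
  obtain ⟨o₁⟩ : Nonempty (Triangulated.Octahedron rfl hf hv hA) :=
    IsTriangulated.octahedron_axiom rfl hf hv hA
  obtain ⟨o₂⟩ : Nonempty (Triangulated.Octahedron rfl hu hf' hA') :=
    IsTriangulated.octahedron_axiom rfl hu hf' hA'
  obtain ⟨Z'', w', w'', hw⟩ := Pretriangulated.distinguished_cocone_triangle (o₁.m₁ ≫ o₂.m₃)
  have h23 : Triangle.mk o₂.m₃ (h' ≫ (shiftFunctor D (1 : ℤ)).map u')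
      (-(shiftFunctor D (1 : ℤ)).map o₂.m₁) ∈ distinguishedTriangles := rot_of_distTriang _ o₂.mem
  obtain ⟨o₃⟩ : Nonempty (Triangulated.Octahedron rfl o₁.mem h23 hw) :=
    IsTriangulated.octahedron_axiom rfl o₁.mem h23 hw
  refine ⟨Z, Z', X'', Y'', Z'', g, h, g', h', o₂.m₁ ≫ o₁.m₃, o₃.m₁, o₃.m₃, u', u'', v', v'',
    o₁.m₁ ≫ o₂.m₃, w', w'', hf, hf', ?_, hu, hv, hw, ?_, ?_, ?_, ?_, ?_, ?_, ?_, ?_⟩
  · rw [rotate_distinguished_triangle]
    refine isomorphic_distinguished _ o₃.mem _ (Triangle.isoMk _ _ (Iso.refl _) (Iso.refl _)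
      (Iso.refl _) ?_ ?_ ?_)
    · exact (Category.comp_id _).trans (Category.id_comp _).symm
    · exact (Category.comp_id _).trans (Category.id_comp _).symm
    · refine (?_ : (-(shiftFunctor D (1 : ℤ)).map (o₂.m₁ ≫ o₁.m₃)) ≫ (shiftFunctor D (1 : ℤ)).map (𝟙 Y'') =
        𝟙 _ ≫ ((-(shiftFunctor D (1 : ℤ)).map o₂.m₁) ≫ (shiftFunctor D (1 : ℤ)).map o₁.m₃))
      simp
  · rw [reassoc_of% o₁.comm₁, o₂.comm₃]
  · rw [Category.assoc, ← o₂.comm₄, reassoc_of% o₁.comm₂]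
  · rw [← Category.assoc, o₂.comm₁, Category.assoc, o₁.comm₃]
  · calc g' ≫ w' = (p ≫ o₂.m₃) ≫ w' := congrArg (· ≫ w') o₂.comm₃.symm
      _ = (p ≫ o₁.m₃) ≫ o₃.m₁ := by rw [Category.assoc, Category.assoc, o₃.comm₁]
      _ = v' ≫ o₃.m₁ := congrArg (· ≫ o₃.m₁) o₁.comm₃
  · exact o₃.comm₃.symm
  · rw [Category.assoc, ← o₁.comm₄, reassoc_of% o₂.comm₂]
  · exact o₃.comm₂
  · have h4 := o₃.comm₄
    calc o₃.m₃ ≫ (shiftFunctor D (1 : ℤ)).map u''
        = o₃.m₃ ≫ (shiftFunctor D (1 : ℤ)).map (o₂.m₁ ≫ q) := by rw [o₂.comm₂]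
      _ = -((w'' ≫ (shiftFunctor D (1 : ℤ)).map o₁.m₁) ≫ (shiftFunctor D (1 : ℤ)).map q) := by
          rw [h4]; simp
      _ = -(w'' ≫ (shiftFunctor D (1 : ℤ)).map (o₁.m₁ ≫ q)) := by simp
      _ = _ := congrArg (fun t => -(w'' ≫ (shiftFunctor D (1 : ℤ)).map t)) o₁.comm₂

end Groth.Agent.S0983
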