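import Groth.Statements.S0987
import Groth.Agent.KZeroLib.DerivedEuler
import Mathlib

set_option autoImplicit false
universe w v u
open CategoryTheory CategoryTheory.Limits
open KZero

namespace Groth.Agent.S0987

/-- For an abelian category A there is an isomorphism between K₀(A) and K₀ of the bounded derived
category D^b(A) (objects of D(A) with bounded cohomology, with the distinguished triangles of D(A))
which sends the class of an object X to the class of X placed in degree 0. -/
theorem result (A : Type u) [Category.{v} A] [Abelian A] [HasDerivedCategory.{w} A] :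
    ∃ φ : KZero.K0 A ≃+ KZero.K0tr (fun X : DerivedCategory A => ∃ a b : ℤ, X.IsGE a ∧ X.IsLE b),
      ∀ X : A, φ (KZero.cl X) =
        KZero.clTr (fun X : DerivedCategory A => ∃ a b : ℤ, X.IsGE a ∧ X.IsLE b) ((DerivedCategory.singleFunctor A 0).obj X) := by
  obtain ⟨φ, hφ⟩ := Groth.Agent.KZeroLib.exists_equiv (P := (⊤ : ObjectProperty A))
    (Q := fun X : DerivedCategory A => ∃ a b : ℤ, X.IsGE a ∧ X.IsLE b)
    (fun K => ⟨fun h => ⟨fun _ => trivial, h⟩, fun h => h.2⟩)
  let f₀ : FreeAbelianGroup A →+ KZero.K0sub (⊤ : ObjectProperty A) :=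
    FreeAbelianGroup.lift fun X => KZero.clSub ⊤ X
  have hf₀ : KZero.relAb A ≤ f₀.ker := by
    refine (AddSubgroup.closure_le _).2 ?_
    rintro x ⟨S, hS, rfl⟩
    simp only [SetLike.mem_coe, AddMonoidHom.mem_ker, map_sub, f₀, FreeAbelianGroup.lift_apply_of]
    rw [Groth.Agent.Resolution28.clSub_rel hS trivial trivial trivial]; abel
  let f : KZero.K0 A →+ KZero.K0sub (⊤ : ObjectProperty A) := QuotientAddGroup.lift _ f₀ hf₀
  let g₀ : FreeAbelianGroup (Subtype (⊤ : ObjectProperty A)) →+ KZero.K0 A :=
    FreeAbelianGroup.lift fun X => KZero.cl X.1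
  have hg₀ : KZero.relSub (⊤ : ObjectProperty A) ≤ g₀.ker := by
    refine (AddSubgroup.closure_le _).2 ?_
    rintro x ⟨S, _, _, _, hS, rfl⟩
    simp only [SetLike.mem_coe, AddMonoidHom.mem_ker, map_sub, g₀, FreeAbelianGroup.lift_apply_of]
    exact (QuotientAddGroup.eq_zero_iff _).2 (AddSubgroup.subset_closure ⟨S, hS, rfl⟩)
  let g : KZero.K0sub (⊤ : ObjectProperty A) →+ KZero.K0 A := QuotientAddGroup.lift _ g₀ hg₀
  have hf : ∀ X : A, f (KZero.cl X) = KZero.clSub ⊤ X := fun X => FreeAbelianGroup.lift_apply_of _ _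
  have hg : ∀ X : A, g (KZero.clSub ⊤ X) = KZero.cl X := fun X => by
    rw [KZero.clSub, dif_pos (show (⊤ : ObjectProperty A) X from trivial)]
    exact FreeAbelianGroup.lift_apply_of _ _
  have hgf : ∀ x, g (f x) = x := by
    intro x
    obtain ⟨z, rfl⟩ := QuotientAddGroup.mk_surjective x
    induction z using FreeAbelianGroup.induction_on with
    | zero => simp
    | of X => exact (congrArg g (hf X)).trans (hg X)
    | neg X h => simp only [QuotientAddGroup.mk_neg, map_neg, h]
    | add a b ha hb => simp only [QuotientAddGroup.mk_add, map_add, ha, hb]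
  have hfg : ∀ x, f (g x) = x := by
    intro x
    obtain ⟨z, rfl⟩ := QuotientAddGroup.mk_surjective x
    induction z using FreeAbelianGroup.induction_on with
    | zero => simp
    | of X =>
      have hX : (QuotientAddGroup.mk (FreeAbelianGroup.of X) : KZero.K0sub (⊤ : ObjectProperty A)) =
          KZero.clSub ⊤ X.1 := by rw [KZero.clSub, dif_pos X.2]
      rw [hX, hg, hf]
    | neg X h => simp only [QuotientAddGroup.mk_neg, map_neg, h]
    | add a b ha hb => simp only [QuotientAddGroup.mk_add, map_add, ha, hb]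
  let e : KZero.K0 A ≃+ KZero.K0sub (⊤ : ObjectProperty A) :=
    { f with invFun := g, left_inv := hgf, right_inv := hfg }
  exact ⟨e.trans φ, fun X => (congrArg φ (hf X)).trans (hφ X trivial)⟩
end Groth.Agent.S0987
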