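import Groth.Statements.S0988
import Groth.Agent.InjMod14.QCohInjective
import Groth.Agent.Coherent.ModExt
-- import your own Groth.Agent.* helpers here

set_option autoImplicit false
set_option backward.isDefEq.respectTransparency false
set_option backward.isDefEq.respectTransparency.types false
set_option linter.style.haveILetI false
universe u
open CategoryTheory AlgebraicGeometry Opposite
open Perf

namespace Groth.Agent.S0988

/-- Let X be a Noetherian scheme and J an injective object of the category QCoh(O_X) of quasi-coherent
O_X-modules (the full subcategory of all O_X-modules). Then J is flasque: for opens U ⊆ V of X the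
restriction map J(V) → J(U) is surjective. -/
theorem result (X : Scheme.{u}) [IsNoetherian X]
    (J : ObjectProperty.FullSubcategory (fun M : X.Modules => Coh.IsQCoh M)) (hJ : Injective J)
    (U V : X.Opens) (hUV : U ≤ V) :
    Function.Surjective (J.obj.val.map (homOfLE hUV).op).hom := by
  haveI : Injective J.obj := by
    obtain ⟨I, e, he, hq, hI⟩ := InjMod14.exists_qcoh_injective J.obj J.property
    let JI : ObjectProperty.FullSubcategory (fun M : X.Modules => Coh.IsQCoh M) := ⟨I, hq⟩
    haveI := he
    haveI := hI
    haveI := hJ
    haveI : Mono (ObjectProperty.homMk e : J ⟶ JI) :=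
      (ObjectProperty.ι (fun M : X.Modules => Coh.IsQCoh M)).mono_of_mono_map he
    let r : JI ⟶ J := Injective.factorThru (𝟙 J) (ObjectProperty.homMk e : J ⟶ JI)
    exact InjMod14.injective_of_retraction e r.hom
      (congrArg (fun f : J ⟶ J => f.hom) (Injective.comp_factorThru (𝟙 J) (ObjectProperty.homMk e : J ⟶ JI)))
  have := (Coherent.isFlasque_toAb_of_injective J.obj).epi (homOfLE hUV).op
  exact (AddCommGrpCat.epi_iff_surjective _).1 this

end Groth.Agent.S0988

#print axioms Groth.Agent.S0988.result
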