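import Mathlib.Algebra.Homology.DerivedCategory.HomologySequence
import Mathlib.Algebra.Homology.ExactSequence
import Mathlib.CategoryTheory.Triangulated.Subcategory
import Mathlib.CategoryTheory.ObjectProperty.Retract
import Groth.Agent.CohDer1.WeakSerre

set_option autoImplicit false
universe w v u
namespace CategoryTheory
end CategoryTheory
namespace CategoryTheory.Limits
end CategoryTheory.Limits
open CategoryTheory CategoryTheory.Limits
namespace CohDer
end CohDer
open CohDer

namespace Groth.Agent.S0989

/-- Let P be a weak Serre class in an abelian category A: P is closed under isomorphisms, holds for a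
zero object, and whenever X₀ → X₁ → X₂ → X₃ → X₄ is exact with P holding for X₀, X₁, X₃, X₄ it holds
for X₂. Then the class of objects of the derived category all of whose cohomology objects satisfy P
is a triangulated subcategory (contains zero, stable under shifts, closed under extensions) which is
moreover closed under retracts (saturated). -/
theorem result {A : Type u} [Category.{v} A] [Abelian A] [HasDerivedCategory.{w} A]
    (P : ObjectProperty A) [P.IsClosedUnderIsomorphisms] (h0 : ∃ Z : A, IsZero Z ∧ P Z)
    (hP : ∀ S : ComposableArrows A 4, S.Exact → P (S.obj 0) → P (S.obj 1) → P (S.obj 3) → P (S.obj 4) → P (S.obj 2)) :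
    ObjectProperty.IsTriangulated (fun X : DerivedCategory A => ∀ n : ℤ, P ((DerivedCategory.homologyFunctor A n).obj X)) ∧
    ObjectProperty.IsStableUnderRetracts (fun X : DerivedCategory A => ∀ n : ℤ, P ((DerivedCategory.homologyFunctor A n).obj X)) := by
  exact Groth.Agent.CohDer1.WeakSerre.main P h0 hP

end Groth.Agent.S0989
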