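import Groth.Statements.S0992
import Mathlib
-- import your own Groth.Agent.* helpers here

set_option autoImplicit false
universe w
open CategoryTheory CategoryTheory.Limits Opposite
open CohDer

namespace Groth.Agent.S0992

/-- Let I be a well-ordered type and K : Iᵒᵖ ⥤ CochainComplex Ab an inverse system of acyclic complexes
of abelian groups such that for every β and every degree n, each family of elements of the Kⁿ_γ (γ <
β) compatible under the transition maps lifts to an element of Kⁿ_β (i.e. Kⁿ_β → lim_{γ<β} Kⁿ_γ is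
surjective). Then the limit complex lim K is acyclic. -/
theorem result {I : Type w} [LinearOrder I] [WellFoundedLT I]
    (K : Iᵒᵖ ⥤ CochainComplex AddCommGrpCat.{w} ℤ)
    (hac : ∀ (β : I) (n : ℤ), (K.obj (op β)).ExactAt n)
    (hsurj : ∀ (β : I) (n : ℤ) (x : ∀ γ : {γ : I // γ < β}, (K.obj (op γ.1)).X n),
      (∀ (γ γ' : {γ : I // γ < β}) (h : γ.1 ≤ γ'.1), ((K.map (homOfLE h).op).f n).hom (x γ') = x γ) →
      ∃ y : (K.obj (op β)).X n, ∀ γ : {γ : I // γ < β}, ((K.map (homOfLE γ.2.le).op).f n).hom y = x γ)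
    (n : ℤ) : (limit K).ExactAt n := by
  classical
  let X : I → ℤ → Type w := fun β m => (K.obj (op β)).X m
  let r : ∀ {γ β : I}, γ ≤ β → ∀ m, X β m →+ X γ m :=
    fun h m => ((K.map (homOfLE h).op).f m).hom
  let d : ∀ β m m', X β m →+ X β m' := fun β m m' => ((K.obj (op β)).d m m').hom
  have rr : ∀ {α γ β : I} (h : α ≤ γ) (h' : γ ≤ β) m x, r h m (r h' m x) = r (h.trans h') m x := by
    intro α γ β h h' m x
    show _ = ((K.map ((homOfLE h').op ≫ (homOfLE h).op)).f m).hom x
    rw [K.map_comp]
    rfl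
  have rd : ∀ {γ β : I} (h : γ ≤ β) m m' x, r h m' (d β m m' x) = d γ m m' (r h m x) := by
    intro γ β h m m' x
    exact (ConcreteCategory.congr_hom ((K.map (homOfLE h).op).comm m m') x).symm
  have hex : ∀ β m (z : X β m), d β m (m + 1) z = 0 → ∃ x : X β (m - 1), d β (m - 1) m x = z := by
    intro β m z hz
    have := hac β m
    rw [HomologicalComplex.exactAt_iff' _ (m - 1) m (m + 1) (by simp) (by simp),
      ShortComplex.ab_exact_iff] at this
    exact this z hz
  -- families on a down-closed set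
  let Q : (S : I → Prop) → Prop := fun S => ∀ (m : ℤ) (z : ∀ β, S β → X β m),
    (∀ β hβ, d β m (m + 1) (z β hβ) = 0) →
    (∀ γ β hγ hβ (h : γ ≤ β), r h m (z β hβ) = z γ hγ) →
    ∃ x : ∀ β, S β → X β (m - 1), (∀ β hβ, d β (m - 1) m (x β hβ) = z β hβ) ∧
      ∀ γ β hγ hβ (h : γ ≤ β), r h (m - 1) (x β hβ) = x γ hγ
  have build : ∀ S : I → Prop, (∀ γ β, γ ≤ β → S β → S γ) →
      (∀ β, S β → Q (fun γ => γ < β)) → Q S := by
    intro S hS hQ m z hz hzc
    -- the recursive choice
    let Good : ∀ β, S β → (∀ γ, γ < β → X γ (m - 1)) → X β (m - 1) → Prop :=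
      fun β hβ xs y => d β (m - 1) m y = z β hβ ∧ ∀ γ (h : γ < β), r h.le (m - 1) y = xs γ h
    let F : ∀ β, (∀ γ, γ < β → X γ (m - 1)) → X β (m - 1) := fun β xs =>
      if h : ∃ hβ : S β, ∃ y, Good β hβ xs y then h.choose_spec.choose else 0
    let x : ∀ β, X β (m - 1) := WellFounded.fix wellFounded_lt F
    have hxeq : ∀ β, x β = F β (fun γ _ => x γ) := fun β => WellFounded.fix_eq wellFounded_lt F β
    have main : ∀ β (hβ : S β), Good β hβ (fun γ _ => x γ) (x β) := by
      intro β
      induction β using WellFoundedLT.induction with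
      | _ β ih =>
        intro hβ
        have hdown : ∀ γ, γ < β → S γ := fun γ h => hS γ β h.le hβ
        have hcomp : ∀ (γ γ' : {γ : I // γ < β}) (h : γ.1 ≤ γ'.1),
            r h (m - 1) (x γ'.1) = x γ.1 := by
          intro γ γ' h
          rcases h.lt_or_eq with h' | h'
          · exact (ih γ'.1 γ'.2 (hdown _ γ'.2)).2 γ.1 h'
          · obtain rfl : γ = γ' := Subtype.ext h'
            show ((K.map (homOfLE h).op).f (m - 1)).hom (x γ.1) = x γ.1
            rw [Subsingleton.elim (homOfLE h).op (𝟙 _), K.map_id]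
            rfl
        obtain ⟨y, hy⟩ := hsurj β (m - 1) (fun γ => x γ.1) hcomp
        have hy' : ∀ γ (h : γ < β), r h.le (m - 1) y = x γ := fun γ h => hy ⟨γ, h⟩
        obtain ⟨x'', hx''⟩ := hex β m (z β hβ - d β (m - 1) m y) (by
          rw [map_sub, hz β hβ, sub_eq_zero]
          exact (ConcreteCategory.congr_hom ((K.obj (op β)).d_comp_d (m - 1) m (m + 1)) y).symm)
        have hres : ∀ γ (h : γ < β), d γ (m - 1) m (r h.le (m - 1) x'') = 0 := by
          intro γ h
          rw [← rd, hx'', map_sub, rd, hy' γ h, hzc γ β (hdown γ h) hβ h.le,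
            (ih γ h (hdown γ h)).1, sub_self]
        obtain ⟨u, hu, huc⟩ := hQ β hβ (m - 1) (fun γ h => r h.le (m - 1) x'')
          (fun γ h => by
            have : m - 1 + 1 = m := sub_add_cancel m 1
            rw [this]; exact hres γ h)
          (fun γ γ' _ h' hle => rr hle h'.le _ _)
        obtain ⟨v, hv⟩ := hsurj β (m - 1 - 1) (fun γ => u γ.1 γ.2)
          (fun γ γ' h => huc γ.1 γ'.1 γ.2 γ'.2 h)
        have hv' : ∀ γ (h : γ < β), r h.le (m - 1 - 1) v = u γ h := fun γ h => hv ⟨γ, h⟩
        have hex' : ∃ hβ : S β, ∃ y, Good β hβ (fun γ _ => x γ) y := by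
          refine ⟨hβ, y + (x'' - d β (m - 1 - 1) (m - 1) v), ?_, fun γ h => ?_⟩
          · rw [map_add, map_sub, hx'']
            have : d β (m - 1) m (d β (m - 1 - 1) (m - 1) v) = 0 :=
              ConcreteCategory.congr_hom ((K.obj (op β)).d_comp_d (m - 1 - 1) (m - 1) m) v
            rw [this, sub_zero, add_sub_cancel]
          · rw [map_add, map_sub, hy' γ h, rd, hv' γ h, hu γ h, sub_self, add_zero]
        rw [hxeq β]
        simp only [F, dif_pos hex']
        exact hex'.choose_spec.choose_spec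
    refine ⟨fun β _ => x β, fun β hβ => (main β hβ).1, fun γ β hγ hβ h => ?_⟩
    rcases h.lt_or_eq with h' | h'
    · exact (main β hβ).2 γ h'
    · subst h'
      show ((K.map (homOfLE h).op).f (m - 1)).hom (x γ) = x γ
      rw [Subsingleton.elim (homOfLE h).op (𝟙 _), K.map_id]
      rfl
  have hlt : ∀ β, Q (fun γ => γ < β) := by
    intro β
    induction β using WellFoundedLT.induction with
    | _ β ih => exact build _ (fun γ γ' h h' => lt_of_le_of_lt h h') (fun γ h => ih γ h)
  have hall : Q (fun _ => True) := build _ (fun _ _ _ _ => trivial) (fun β _ => hlt β)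
  -- transfer to the limit
  have hsec : ∀ m : ℤ, Nonempty (IsLimit ((HomologicalComplex.eval AddCommGrpCat.{w} (ComplexShape.up ℤ) m ⋙
      forget AddCommGrpCat.{w}).mapCone (limit.cone K))) := fun m =>
    ⟨isLimitOfPreserves _ (limit.isLimit K)⟩
  rw [HomologicalComplex.exactAt_iff' _ (n - 1) n (n + 1) (by simp) (by simp),
    ShortComplex.ab_exact_iff]
  intro z hz
  change ((limit K).d n (n + 1)).hom z = 0 at hz
  obtain ⟨x, hx, hxc⟩ := hall n (fun β _ => ((limit.π K (op β)).f n).hom z)
    (fun β _ => by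
      refine (ConcreteCategory.congr_hom ((limit.π K (op β)).comm n (n + 1)) z).trans ?_
      exact (congrArg ((limit.π K (op β)).f (n + 1)).hom hz).trans (map_zero _))
    (fun γ β _ _ h => by
      have := limit.w K (homOfLE h).op
      exact ConcreteCategory.congr_hom (congrArg (fun φ => HomologicalComplex.Hom.f φ n) this) z)
  let s : (K ⋙ HomologicalComplex.eval AddCommGrpCat.{w} (ComplexShape.up ℤ) (n - 1) ⋙
      forget AddCommGrpCat.{w}).sections :=
    ⟨fun β => x β.unop trivial, fun {β γ} f => hxc γ.unop β.unop trivial trivial (leOfHom f.unop)⟩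
  refine ⟨(Types.isLimitEquivSections (hsec (n - 1)).some).symm s, ?_⟩
  apply (Types.isLimitEquivSections (hsec n).some).injective
  refine Subtype.ext (funext fun β => ?_)
  refine Eq.trans ?_ (hx β.unop trivial)
  refine (ConcreteCategory.congr_hom ((limit.π K β).comm (n - 1) n)
    ((Types.isLimitEquivSections (hsec (n - 1)).some).symm s)).symm.trans ?_
  refine congrArg ((K.obj β).d (n - 1) n).hom ?_
  exact Types.isLimitEquivSections_symm_apply (hsec (n - 1)).some s β

end Groth.Agent.S0992
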