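import Groth.Statements.S0993
import Groth.Agent.SerreK0Lib28.Basic

set_option linter.style.haveILetI false

set_option autoImplicit false
universe v v' u u'
open CategoryTheory CategoryTheory.Limits
open KZero

namespace Groth.Agent.S0993

/-- Let P be a Serre class in an abelian category A and L : A ⥤ Q an exact localization at the morphisms
with kernel and cokernel in P (a model of the quotient A/P). There are homomorphisms ι : K₀(P) →
K₀(A) and λ : K₀(A) → K₀(Q) given on classes of objects by the inclusion and by L; λ is surjective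
and its kernel is the image of ι (part (1)); and an element of K₀(P) lies in the kernel of ι exactly
when it has the form [H⁰] - [H¹] for a 2-periodic complex … → M → M → M → … with maps φ, ψ (φψ = 0 =
ψφ) on an object M of A whose two cohomology objects H⁰ = Ker ψ / Im φ and H¹ = Ker φ / Im ψ satisfy
P (part (2)). -/
theorem result {A : Type u} [Category.{v} A] [Abelian A] (P : ObjectProperty A) [P.IsSerreClass]
    {Q : Type u'} [Category.{v'} Q] [Abelian Q]
    (L : A ⥤ Q) [L.IsLocalization P.isoModSerre] [L.Additive] [PreservesFiniteLimits L] [PreservesFiniteColimits L] :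
    ∃ (ι : KZero.K0sub P →+ KZero.K0 A) (lam : KZero.K0 A →+ KZero.K0 Q),
      (∀ X : A, P X → ι (KZero.clSub P X) = KZero.cl X) ∧
      (∀ X : A, lam (KZero.cl X) = KZero.cl (L.obj X)) ∧
      Function.Surjective lam ∧ lam.ker = ι.range ∧
      ∀ x : KZero.K0sub P, ι x = 0 ↔
        ∃ (M : A) (φ ψ : M ⟶ M) (h₁ : φ ≫ ψ = 0) (h₂ : ψ ≫ φ = 0),
          P (ShortComplex.mk φ ψ h₁).homology ∧ P (ShortComplex.mk ψ φ h₂).homology ∧
          x = KZero.clSub P (ShortComplex.mk φ ψ h₁).homology - KZero.clSub P (ShortComplex.mk ψ φ h₂).homology := by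
  let ι := SerreK0Lib28.incl P
  have hι : ∀ X : A, P X → ι (clSub P X) = cl X := fun X hX => SerreK0Lib28.incl_clSub P hX
  let lam : K0 A →+ K0 Q :=
    QuotientAddGroup.lift _ (FreeAbelianGroup.lift fun X : A => cl (L.obj X)) (by
      rw [relAb, AddSubgroup.closure_le]
      rintro _ ⟨S, hS, rfl⟩
      have h := SerreK0Lib28.cl_ses (hS.map_of_exact L)
      simp only [SetLike.mem_coe, AddMonoidHom.mem_ker, map_sub, FreeAbelianGroup.lift_apply_of]
      erw [h]
      simp only [ShortComplex.map_X₁, ShortComplex.map_X₂, ShortComplex.map_X₃]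
      abel)
  have hlam : ∀ X : A, lam (cl X) = cl (L.obj X) := fun X => FreeAbelianGroup.lift_apply_of _ _
  have : L.EssSurj := Localization.essSurj L P.isoModSerre
  let π : K0 A →+ K0 A ⧸ ι.range := QuotientAddGroup.mk' _
  have hP0 : ∀ X : A, P X → π (cl X) = 0 := fun X hX =>
    (QuotientAddGroup.eq_zero_iff _).2 ⟨clSub P X, hι X hX⟩
  have hW : ∀ {X Y : A} (f : X ⟶ Y), P.isoModSerre f → π (cl X) = π (cl Y) := by
    intro X Y f hf
    have h := congrArg π (SerreK0Lib28.cl_kernel_cokernel f)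
    rw [map_sub, map_sub, hP0 _ hf.2, hP0 _ hf.1, sub_zero, sub_eq_zero] at h
    exact h.symm
  have hiso : ∀ {X Y : A}, (L.obj X ≅ L.obj Y) → π (cl X) = π (cl Y) := by
    intro X Y e
    obtain ⟨φ, hφ⟩ := Localization.exists_rightFraction L P.isoModSerre e.hom
    have hs : IsIso (L.map φ.s) := Localization.inverts L _ _ φ.hs
    have hf : IsIso (L.map φ.f) := by
      rw [← φ.map_s_comp_map L (Localization.inverts L _), ← hφ]
      infer_instance
    rw [← hW φ.s φ.hs]
    exact hW φ.f ⟨(ObjectProperty.SerreClassLocalization.mono_map_iff L P φ.f).1 inferInstance,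
      (ObjectProperty.SerreClassLocalization.epi_map_iff L P φ.f).1 inferInstance⟩
  let pre : Q → K0 A ⧸ ι.range := fun X => π (cl (L.objPreimage X))
  let inv : K0 Q →+ K0 A ⧸ ι.range :=
    QuotientAddGroup.lift _ (FreeAbelianGroup.lift pre) (by
      rw [relAb, AddSubgroup.closure_le]
      rintro _ ⟨S, hS, rfl⟩
      have := hS.mono_f
      obtain ⟨X', Y', f', hf', ⟨e⟩⟩ := (ObjectProperty.SerreClassLocalization.mono_iff L P S.f).1 hS.mono_f
      have hS' : (ShortComplex.mk f' (cokernel.π f') (cokernel.condition f')).ShortExact :=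
        { exact := ShortComplex.exact_of_g_is_cokernel _ (cokernelIsCokernel f')
          mono_f := hf'
          epi_g := inferInstanceAs (Epi (cokernel.π f')) }
      have h1 : π (cl (L.objPreimage S.X₁)) = π (cl X') :=
        hiso (L.objObjPreimageIso S.X₁ ≪≫ (Arrow.leftFunc.mapIso e).symm)
      have h2 : π (cl (L.objPreimage S.X₂)) = π (cl Y') :=
        hiso (L.objObjPreimageIso S.X₂ ≪≫ (Arrow.rightFunc.mapIso e).symm)
      have h3 : π (cl (L.objPreimage S.X₃)) = π (cl (cokernel f')) :=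
        hiso (L.objObjPreimageIso S.X₃ ≪≫
          (IsColimit.coconePointUniqueUpToIso (cokernelIsCokernel S.f) hS.gIsCokernel).symm ≪≫
          (cokernel.mapIso (L.map f') S.f (Arrow.leftFunc.mapIso e) (Arrow.rightFunc.mapIso e)
            e.hom.w.symm).symm ≪≫ (PreservesCokernel.iso L f').symm)
      have h := congrArg π (SerreK0Lib28.cl_ses hS')
      rw [map_add] at h
      simp only [SetLike.mem_coe, AddMonoidHom.mem_ker, map_sub, FreeAbelianGroup.lift_apply_of, pre]
      rw [h1, h2, h3]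
      erw [h]
      abel)
  have hinv : ∀ X : Q, inv (cl X) = pre X := fun X => FreeAbelianGroup.lift_apply_of _ _
  refine ⟨ι, lam, hι, hlam, ?_, ?_, fun x => ⟨?_, ?_⟩⟩
  · intro y
    induction y using QuotientAddGroup.induction_on with | _ z
    induction z using FreeAbelianGroup.induction_on with
    | zero => exact ⟨0, map_zero lam⟩
    | of X => exact ⟨cl (L.objPreimage X), (hlam _).trans (SerreK0Lib28.cl_iso (L.objObjPreimageIso X))⟩
    | neg X hX =>
      obtain ⟨a, ha⟩ := hX
      exact ⟨-a, by rw [map_neg, ha]; rfl⟩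
    | add a b ha hb =>
      obtain ⟨c, hc⟩ := ha
      obtain ⟨d, hd⟩ := hb
      exact ⟨c + d, by rw [map_add, hc, hd]; rfl⟩
  · have hcomp : inv.comp lam = π := by
      refine QuotientAddGroup.addMonoidHom_ext _ (FreeAbelianGroup.lift_ext _ _ fun X => ?_)
      show inv (lam (cl X)) = π (cl X)
      rw [hlam, hinv]
      exact hiso (L.objObjPreimageIso _)
    refine le_antisymm (fun y hy => ?_) ?_
    · refine (QuotientAddGroup.eq_zero_iff y).1 ?_
      show π y = 0
      rw [← hcomp, AddMonoidHom.comp_apply, AddMonoidHom.mem_ker.1 hy, map_zero]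
    · rintro _ ⟨z, rfl⟩
      obtain ⟨E₁, E₂, h₁, h₂, rfl⟩ := SerreK0Lib28.exists_sub P z
      have hz : ∀ E : A, P E → cl (L.obj E) = (0 : K0 Q) := fun E hE =>
        SerreK0Lib28.cl_isZero ((ObjectProperty.SerreClassLocalization.isZero_obj_iff L P E).2 hE)
      rw [AddMonoidHom.mem_ker, map_sub, map_sub, hι _ h₁, hι _ h₂, hlam, hlam, hz _ h₁, hz _ h₂, sub_self]
  · intro hx
    obtain ⟨E₁, E₂, h₁, h₂, rfl⟩ := SerreK0Lib28.exists_sub P x
    rw [map_sub, hι _ h₁, hι _ h₂, sub_eq_zero] at hx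
    obtain ⟨M, φ, ψ, w₁, w₂, ⟨e₁⟩, ⟨e₂⟩⟩ := SerreK0Lib28.exists_periodic_of_cl_eq hx
    exact ⟨M, φ, ψ, w₁, w₂, P.prop_of_iso e₁.symm h₁, P.prop_of_iso e₂.symm h₂, by
      rw [SerreK0Lib28.clSub_iso P e₁.symm h₁, SerreK0Lib28.clSub_iso P e₂.symm h₂]⟩
  · rintro ⟨M, φ, ψ, w₁, w₂, h₁, h₂, rfl⟩
    have a1 := SerreK0Lib28.cl_homology φ ψ w₁
    have a2 := SerreK0Lib28.cl_homology ψ φ w₂
    have b1 := SerreK0Lib28.cl_kernel φ
    have b2 := SerreK0Lib28.cl_kernel ψ
    rw [map_sub, hι _ h₁, hι _ h₂]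
    rw [b1, a2] at b2
    rw [a1] at b2
    rw [sub_eq_zero]
    exact add_left_cancel (a := cl (Abelian.image φ) + cl (Abelian.image ψ)) (by linear_combination (norm := abel) b2.symm)

end Groth.Agent.S0993
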