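import Groth.Statements.S0994
import Groth.Agent.DCat.Acyclic
-- import your own Groth.Agent.* helpers here

set_option autoImplicit false
universe w w' v v' u u'
open CategoryTheory CategoryTheory.Limits
open CohDer

namespace Groth.Agent.S0994

/-- Part (1), in the case of enough injectives: take abelian categories A and B, with A having injective
resolutions, and a left exact functor F : A ⥤ B, and suppose RⁿF = 0 for some n ≥ 0. Then F, viewed
as a functor from the homotopy category K(A) to D(B), has a right derived functor with respect to
quasi-isomorphisms, i.e. RF : D(A) ⥤ D(B) exists on the unbounded derived category (as a left Kan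
extension along K(A) → D(A)). -/
theorem result {A : Type u} [Category.{v} A] [Abelian A] [HasDerivedCategory.{w} A] [HasInjectiveResolutions A]
    {B : Type u'} [Category.{v'} B] [Abelian B] [HasDerivedCategory.{w'} B]
    (F : A ⥤ B) [F.Additive] [PreservesFiniteLimits F] (n : ℕ) (hn : ∀ X : A, IsZero ((F.rightDerived n).obj X)) :
    (F.mapHomotopyCategory (ComplexShape.up ℤ) ⋙ DerivedCategory.Qh).HasRightDerivedFunctor
      (HomotopyCategory.quasiIso A (ComplexShape.up ℤ)) := by
  
    haveI := Groth.Agent.DCat.Acyclic.enoughInjectives (A := A)
    exact Groth.Agent.DCat.hasRightDerived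
      (P := fun X : HomotopyCategory A (ComplexShape.up ℤ) => ∀ m, Groth.Agent.DCat.Acyclic.Acy F (X.as.X m))
      (fun X => by
        obtain ⟨J, s, hJ, hs⟩ := Groth.Agent.DCat.Acyclic.exists_model (F := F) n X.as fun m i hi =>
          Groth.Agent.DCat.Acyclic.isZero_rightDerived_of_le F n hn i hi.le _
        exact ⟨(HomotopyCategory.quotient A _).obj J, (HomotopyCategory.quotient A _).map s, hJ,
          (HomotopyCategory.quotient_map_mem_quasiIso_iff s).2 hs⟩)
      (fun X Y s hX hY hs => Groth.Agent.DCat.Acyclic.isIso_Qh_map_map s hs fun f hf =>
        Groth.Agent.DCat.Acyclic.acyclic_map n hn _ hf (Groth.Agent.DCat.Acyclic.acy_mappingCone_X f hX hY))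

end Groth.Agent.S0994

#print axioms Groth.Agent.S0994.result
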