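import Groth.Statements.S10003
import Groth.Agent.AlgSpLib.CutOut
-- import your own Groth.Agent.* helpers here

set_option autoImplicit false
universe u
open CategoryTheory CategoryTheory.Limits AlgebraicGeometry Opposite
open AlgSp

namespace Groth.Agent.S10003

set_option backward.isDefEq.respectTransparency.types false

/-- For a quasi-compact morphism f : X ⟶ Y of algebraic spaces that is representable by schemes, the
sheaf of ideals Ker(O_Y ⟶ f_* O_X) (the kernel family on affine etale charts of Y) is
quasi-coherent, and the scheme theoretic image of f is exactly the closed subspace it cuts out. (The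
published statement is for an arbitrary quasi-compact morphism of algebraic spaces; f_* O_X on the
small etale site with scheme charts is available only for representable f, the case stated.) -/
theorem result {S : Scheme.{u}} {X Y : AlgSp.Space S} (f : X ⟶ Y)
    (hf : AlgSp.Representable f.hom) (hqc : AlgSp.IsQuasiCompactMor f.hom) :
    (AlgSp.idealOfRep hf).IsQCoh ∧
      ∀ (Z : AlgSp.Space S) (i : Z ⟶ Y), AlgSp.IsSchImage f.hom i.hom ↔ AlgSp.IsCutOutBy (AlgSp.idealOfRep hf) i.hom := by
  obtain ⟨h1, h2⟩ := Groth.Agent.AlgSpLib.isSchImage_iff_isCutOutBy X.property Y.property hf hqc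
  exact ⟨h1, fun Z i => h2 _ _⟩

end Groth.Agent.S10003
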