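import Groth.Statements.S10005
import Groth.Agent.AlgSpLib.LimitSeparated
-- import your own Groth.Agent.* helpers here

set_option autoImplicit false
universe u
open CategoryTheory CategoryTheory.Limits AlgebraicGeometry
open AlgSp

namespace Groth.Agent.S10005

open Groth.Agent.AlgSpLib

/-- Let `S` be a quasi-separated scheme and `X` the limit, in fppf sheaves over `S`, of a cofiltered
system `(X_i)` of quasi-compact algebraic spaces over `S`, each quasi-separated over `S`, whose
transition maps are affine. If `X` is separated over `S`, then `X_i` is separated over `S` for some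
`i`. (The published statement uses absolute separatedness and quasi-separatedness and puts no
condition on `S`; this row assumes `S` quasi-separated and takes both notions over `S`, which gives
the same quasi-separatedness and, when `S` is separated, the same separatedness.) -/
theorem result (S : Scheme.{u}) [QuasiSeparatedSpace S] {I : Type u} [SmallCategory I] [IsCofiltered I]
    (D : I ⥤ AlgSp.Sp S) (hD : ∀ i, AlgSp.IsAlgSpace (D.obj i))
    (hDa : ∀ (i j : I) (φ : i ⟶ j), AlgSp.IsAffineMor (D.map φ))
    (hqc : ∀ i, AlgSp.IsQuasiCompactSp (D.obj i)) (hqs : ∀ i, AlgSp.IsQuasiSeparatedSp (D.obj i))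
    (c : Cone D) (hc : IsLimit c)
    (hX : AlgSp.IsSeparatedSp c.pt) : ∃ i, AlgSp.IsSeparatedSp (D.obj i) := by
  let B := (AlgSp.yon S).obj (Over.mk (𝟙 S))
  have hq : ∀ {F : AlgSp.Sp S} (q : F ⟶ B), AlgSp.IsSeparatedMor q ↔ AlgSp.IsSeparatedSp F := fun q =>
    repWith_diagonal_iff_diag _ (isTerminal_yon_base S).some q
  let t : D ⟶ (Functor.const I).obj B :=
    { app := fun i => (isTerminal_yon_base S).some.from (D.obj i)
      naturality := fun _ _ _ => (isTerminal_yon_base S).some.hom_ext _ _ }
  let g : c.pt ⟶ B := (isTerminal_yon_base S).some.from c.pt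
  obtain ⟨o, ho⟩ := LimitSep.exists_stage_isSeparatedMor t (AlgSp.IsAlgSpace.yon_obj _)
    ((isQuasiSeparatedMor_iff_sp (𝟙 _)).1 (isQuasiSeparatedMor_of_mono _)) hD hDa hc (g := g)
    (fun i => (isTerminal_yon_base S).some.hom_ext _ _) hqc hqs ((hq g).2 hX)
  exact ⟨o, (hq (t.app o)).1 (ho o (𝟙 o))⟩

end Groth.Agent.S10005
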