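import Groth.Statements.S10008
import Groth.Agent.AlgSpLib.LimitSystem
import Groth.Agent.H8Lim.TopologicalProps
-- import your own Groth.Agent.* helpers here

set_option autoImplicit false
universe u
open CategoryTheory CategoryTheory.Limits AlgebraicGeometry
open AlgSp

namespace Groth.Agent.S10008

set_option backward.isDefEq.respectTransparency.types false

/-- Let `X` be the limit, in fppf sheaves over `S`, of a cofiltered system `(X_i)` of algebraic spaces
over `S` whose transition maps are affine. If every `X_i` is quasi-compact and has at least one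
point, then `X` has a point. -/
theorem result (S : Scheme.{u}) {I : Type u} [SmallCategory I] [IsCofiltered I]
    (D : I ⥤ AlgSp.Sp S) (hD : ∀ i, AlgSp.IsAlgSpace (D.obj i))
    (hDa : ∀ (i j : I) (φ : i ⟶ j), AlgSp.IsAffineMor (D.map φ))
    (c : Cone D) (hc : IsLimit c)
    (hqc : ∀ i, AlgSp.IsQuasiCompactSp (D.obj i)) (hne : ∀ i, Nonempty (AlgSp.Points (D.obj i))) :
    Nonempty (AlgSp.Points c.pt) := by
  obtain ⟨i₀⟩ := IsCofiltered.nonempty (C := I)
  have := (Groth.Agent.AlgSpLib.isQuasiCompactSp_iff_compactSpace (hD i₀)).1 (hqc i₀)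
  obtain ⟨V, v, hV, hve, hvs⟩ := Groth.Agent.AlgSpLib.exists_affine_chart (hD i₀)
  obtain ⟨E, η, pr, cE, hcE, θ, haff, -, -, hpr, hη, hθe, hθs, -⟩ :=
    Groth.Agent.AlgSpLib.exists_chart_system D hDa c hc v hve hvs
  have : ∀ {j k : Over i₀} (f : j ⟶ k), IsAffineHom ((E ⋙ Over.forget S).map f) := fun f => haff f
  have hj : ∀ j, Nonempty (E.obj j).left := fun j => by
    obtain ⟨x⟩ := hne j.left
    obtain ⟨u, -⟩ := Groth.Agent.AlgSpLib.surjective_ofPt (η j) (hη j).2 x
    exact ⟨u⟩
  have hc₀ : CompactSpace ((E ⋙ Over.forget S).obj (Over.mk (𝟙 i₀))) := by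
    have := hpr (Over.mk (𝟙 i₀))
    have : IsAffine (E.obj (Over.mk (𝟙 i₀))).left := isAffine_of_isAffineHom (pr (Over.mk (𝟙 i₀))).left
    exact inferInstanceAs (CompactSpace (E.obj (Over.mk (𝟙 i₀))).left)
  obtain ⟨z⟩ := Groth.Agent.H8Lim.nonempty_pt (hc := hcE) (Over.mk (𝟙 i₀)) fun j _ => hj j
  exact ⟨AlgSp.Points.ofPt θ z⟩

end Groth.Agent.S10008
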