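import Groth.Statements.S10017
import Groth.Agent.AlgSpLib.LimitOverAffine
import Groth.Agent.AlgSpLib.MorMore2
import Groth.Agent.AlgSpLib.LimitDescend
-- import your own Groth.Agent.* helpers here

set_option autoImplicit false
universe u
open CategoryTheory CategoryTheory.Limits AlgebraicGeometry
open AlgSp

namespace Groth.Agent.S10017

open Groth.Agent.AlgSpLib

theorem comp_affine {S : Scheme.{u}} {F G H : AlgSp.Sp S} {a : F ⟶ G} {b : G ⟶ H} (ha : AlgSp.IsAffineMor a)
    (hb : AlgSp.IsAffineMor b) : AlgSp.IsAffineMor (a ≫ b) :=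
  (isAffineMor_iff_repWith _).2 (RepWith.comp ((isAffineMor_iff_repWith _).1 ha) ((isAffineMor_iff_repWith _).1 hb))

theorem diag_of_affine {S : Scheme.{u}} {F G : AlgSp.Sp S} {a : F ⟶ G} (ha : AlgSp.IsAffineMor a) :
    AlgSp.RepWith @IsClosedImmersion (pullback.diagonal a) :=
  have hr := (isAffineMor_iff_repWith _).1 ha
  (repWith_diagonal_iff hr.1).2 (RepWith.mono (fun _ _ q (_ : IsAffineHom q) =>
    (inferInstance : IsSeparated q).diagonal_isClosedImmersion) hr)

/-- Let `S` be a quasi-separated scheme and `B` the limit, in fppf sheaves over `S`, of a cofiltered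
system `(B_i)` of algebraic spaces over `S` whose transition maps are affine; fix an index `i₀` such
that `B_{i₀}` is quasi-compact and quasi-separated over `S`, and a morphism `f₀ : X₀ ⟶ Y₀` of
algebraic spaces over `B_{i₀}` whose source and target are quasi-compact and quasi-separated over
`S`. Write `f_i` (for `i` mapping to `i₀`) and `f` for the base changes of `f₀` to `B_i` and to `B`,
given by pullback squares. If `f` is affine (no finiteness condition on `f₀`), then for some `i`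
mapping to `i₀` every such base change `f_i` is affine. (The published statement allows any base
scheme and uses absolute quasi-separatedness; this row assumes the base quasi-separated, over which
quasi-separatedness relative to the base is the absolute notion.) -/
theorem result (S : Scheme.{u}) [QuasiSeparatedSpace S] {I : Type u} [SmallCategory I] [IsCofiltered I]
    (D : I ⥤ AlgSp.Sp S) (hD : ∀ i, AlgSp.IsAlgSpace (D.obj i))
    (hDa : ∀ (i j : I) (φ : i ⟶ j), AlgSp.IsAffineMor (D.map φ))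
    (c : Cone D) (hc : IsLimit c) (i₀ : I)
    (hBqc : AlgSp.IsQuasiCompactSp (D.obj i₀)) (hBqs : AlgSp.IsQuasiSeparatedSp (D.obj i₀))
    (X₀ Y₀ : AlgSp.Space S) (f₀ : X₀.obj ⟶ Y₀.obj) (b₀ : Y₀.obj ⟶ D.obj i₀)
    (hXqc : AlgSp.IsQuasiCompactSp X₀.obj) (hXqs : AlgSp.IsQuasiSeparatedSp X₀.obj)
    (hYqc : AlgSp.IsQuasiCompactSp Y₀.obj) (hYqs : AlgSp.IsQuasiSeparatedSp Y₀.obj)
    (X Y : AlgSp.Sp S) (f : X ⟶ Y) (pY : Y ⟶ Y₀.obj) (qY : Y ⟶ c.pt)
    (hY : IsPullback pY qY b₀ (c.π.app i₀)) (pX : X ⟶ X₀.obj) (hX : IsPullback pX f f₀ pY)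
    (hf : AlgSp.IsAffineMor f) :
    ∃ (i : I) (φ : i ⟶ i₀), ∀ (Xi Yi : AlgSp.Sp S) (fi : Xi ⟶ Yi) (pYi : Yi ⟶ Y₀.obj) (qYi : Yi ⟶ D.obj i)
      (_ : IsPullback pYi qYi b₀ (D.map φ)) (pXi : Xi ⟶ X₀.obj) (_ : IsPullback pXi fi f₀ pYi),
      AlgSp.IsAffineMor fi := by
  let g₁ : X₀.obj ⟶ D.obj i₀ := f₀ ≫ b₀
  let D' : Over i₀ ⥤ AlgSp.Sp S := spStage D g₁
  have hfst : ∀ j : Over i₀, AlgSp.IsAffineMor (pullback.fst g₁ (D.map j.hom)) := fun j =>
    isAffineMor_of_isPullback (IsPullback.of_hasPullback g₁ (D.map j.hom)).flip (hDa _ _ j.hom)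
  have hD' : ∀ j, AlgSp.IsAlgSpace (D'.obj j) := fun j =>
    isAlgSpace_of_isPullback (hD i₀).diag X₀.property (hD j.left) (IsPullback.of_hasPullback g₁ (D.map j.hom))
  have hDa' : ∀ (a b : Over i₀) (φ : a ⟶ b), AlgSp.IsAffineMor (D'.map φ) := fun a b φ =>
    isAffineMor_of_isPullback (spStage_isPullback D g₁ φ).flip (hDa _ _ φ.left)
  obtain ⟨hc'⟩ := isLimit_spStageCone D g₁ c hc
  let t' : D' ⟶ (Functor.const (Over i₀)).obj Y₀.obj :=
    { app := fun j => pullback.fst g₁ (D.map j.hom) ≫ f₀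
      naturality := fun a b φ => ((Category.assoc _ _ _).symm.trans
        (congrArg (· ≫ f₀) (pullback.lift_fst _ _ _))).trans (Category.comp_id _).symm }
  let g' : (spStageCone D g₁ c).pt ⟶ Y₀.obj := pullback.fst g₁ (c.π.app i₀) ≫ f₀
  have hg' : ∀ j, (spStageCone D g₁ c).π.app j ≫ t'.app j = g' := fun j =>
    (Category.assoc _ _ _).symm.trans (congrArg (· ≫ f₀) (pullback.lift_fst _ _ _))
  have sqX : IsPullback pX (f ≫ qY) g₁ (c.π.app i₀) := hX.paste_vert hY
  have hg'a : AlgSp.IsAffineMor g' := by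
    have e : g' = ((IsPullback.of_hasPullback g₁ (c.π.app i₀)).isoIsPullback _ _ sqX).hom ≫ (f ≫ pY) := by
      rw [← hX.w, ← Category.assoc, IsPullback.isoIsPullback_hom_fst]
      rfl
    rw [e, isAffineMor_iff_repWith]
    refine (MorphismProperty.cancel_left_of_respectsIso (AlgSp.RepWith @IsAffineHom) _ _).2 ?_
    exact (isAffineMor_iff_repWith _).1
      (comp_affine hf (isAffineMor_of_isPullback hY.flip (isAffineMor_π D hDa c hc i₀)))
  obtain ⟨j, hj⟩ := LimitOver.exists_stage_isAffineMor (t := t') Y₀.property hYqc hYqs hD' hDa'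
    (spStageCone D g₁ c) hc' g' hg'
    (fun j => (repWith_quasiCompact_iff (hD' j) X₀.property ((isAffineMor_iff_repWith _).1 (hfst j)).1).1
      (RepWith.mono (fun _ _ q (_ : IsAffineHom q) => (inferInstance : QuasiCompact q))
        ((isAffineMor_iff_repWith _).1 (hfst j))) X₀.property hXqc (𝟙 _) (𝟙 _) (pullback.fst g₁ (D.map j.hom))
        (IsPullback.of_horiz_isIso ⟨by simp⟩))
    (fun j => by
      obtain ⟨q, -⟩ := exists_to_base X₀.obj
      exact (isQuasiSeparatedMor_iff_sp (pullback.fst g₁ (D.map j.hom) ≫ q)).1 (isQuasiSeparatedMor_comp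
        (isQuasiSeparatedMor_of_isSeparatedMor (diag_of_affine (hfst j)))
        ((isQuasiSeparatedMor_iff_sp q).2 hXqs)))
    hg'a
  refine ⟨j.left, j.hom, fun Xi Yi fi pYi qYi hYi pXi hXi => ?_⟩
  have sqi : IsPullback pXi (fi ≫ qYi) g₁ (D.map j.hom) := hXi.paste_vert hYi
  have hcomp : AlgSp.RepWith @IsAffineHom (fi ≫ pYi) := by
    have e : fi ≫ pYi = (sqi.isoIsPullback _ _ (IsPullback.of_hasPullback g₁ (D.map j.hom))).hom ≫ t'.app j := by
      rw [← hXi.w]
      exact ((Category.assoc _ _ _).symm.trans (congrArg (· ≫ f₀) (IsPullback.isoIsPullback_hom_fst _ _ _ _))).symm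
    rw [e]
    exact (MorphismProperty.cancel_left_of_respectsIso (AlgSp.RepWith @IsAffineHom) _ _).2
      ((isAffineMor_iff_repWith _).1 (hj j (𝟙 _)))
  have hpY : AlgSp.IsAffineMor pYi := isAffineMor_of_isPullback hYi.flip (hDa _ _ j.hom)
  exact (isAffineMor_iff_repWith _).2 (repWith_of_comp @IsAffineHom hcomp
    (RepWith.mono (fun _ _ q (_ : IsClosedImmersion q) => (inferInstance : IsAffineHom q)) (diag_of_affine hpY)))

end Groth.Agent.S10017
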