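import Groth.Statements.S10018
import Groth.Agent.AlgSpLib.LimitRep
import Groth.Agent.AlgSpLib.FpqcBaseAffine2
-- import your own Groth.Agent.* helpers here

set_option autoImplicit false
universe u
open CategoryTheory CategoryTheory.Limits AlgebraicGeometry
open AlgSp

namespace Groth.Agent.S10018

set_option backward.isDefEq.respectTransparency.types false

/-- Let `S` be a quasi-separated scheme and `B` the limit, in fppf sheaves over `S`, of a cofiltered
system `(B_i)` of algebraic spaces over `S` whose transition maps are affine; fix an index `i₀` such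
that `B_{i₀}` is quasi-compact and quasi-separated over `S`, and a morphism `f₀ : X₀ ⟶ Y₀` of
algebraic spaces over `B_{i₀}` whose source and target are quasi-compact and quasi-separated over
`S`. Write `f_i` (for `i` mapping to `i₀`) and `f` for the base changes of `f₀` to `B_i` and to `B`,
given by pullback squares. If `f` is finite and `f₀` locally of finite type, then for some `i`
mapping to `i₀` every such base change `f_i` is finite. (The published statement allows any base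
scheme and uses absolute quasi-separatedness; this row assumes the base quasi-separated, over which
quasi-separatedness relative to the base is the absolute notion.) -/
theorem result (S : Scheme.{u}) [QuasiSeparatedSpace S] {I : Type u} [SmallCategory I] [IsCofiltered I]
    (D : I ⥤ AlgSp.Sp S) (hD : ∀ i, AlgSp.IsAlgSpace (D.obj i))
    (hDa : ∀ (i j : I) (φ : i ⟶ j), AlgSp.IsAffineMor (D.map φ))
    (c : Cone D) (hc : IsLimit c) (i₀ : I)
    (hBqc : AlgSp.IsQuasiCompactSp (D.obj i₀)) (hBqs : AlgSp.IsQuasiSeparatedSp (D.obj i₀))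
    (X₀ Y₀ : AlgSp.Space S) (f₀ : X₀.obj ⟶ Y₀.obj) (b₀ : Y₀.obj ⟶ D.obj i₀)
    (hXqc : AlgSp.IsQuasiCompactSp X₀.obj) (hXqs : AlgSp.IsQuasiSeparatedSp X₀.obj)
    (hYqc : AlgSp.IsQuasiCompactSp Y₀.obj) (hYqs : AlgSp.IsQuasiSeparatedSp Y₀.obj)
    (X Y : AlgSp.Sp S) (f : X ⟶ Y) (pY : Y ⟶ Y₀.obj) (qY : Y ⟶ c.pt)
    (hY : IsPullback pY qY b₀ (c.π.app i₀)) (pX : X ⟶ X₀.obj) (hX : IsPullback pX f f₀ pY)
    (hf : AlgSp.IsFiniteMor f) (hf₀ : AlgSp.LocP @LocallyOfFiniteType f₀) :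
    ∃ (i : I) (φ : i ⟶ i₀), ∀ (Xi Yi : AlgSp.Sp S) (fi : Xi ⟶ Yi) (pYi : Yi ⟶ Y₀.obj) (qYi : Yi ⟶ D.obj i)
      (_ : IsPullback pYi qYi b₀ (D.map φ)) (pXi : Xi ⟶ X₀.obj) (_ : IsPullback pXi fi f₀ pYi),
      AlgSp.IsFiniteMor fi := by
  have hc' := Groth.Agent.AlgSpLib.isAlgSpace_limit D hD hDa c hc
  have hYa : AlgSp.IsAlgSpace Y :=
    Groth.Agent.AlgSpLib.isAlgSpace_of_isPullback (hD i₀).diag Y₀.property hc' hY
  have hXa : AlgSp.IsAlgSpace X :=
    Groth.Agent.AlgSpLib.isAlgSpace_of_isPullback Y₀.property.diag X₀.property hYa hX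
  have hr : AlgSp.RepWith @IsFinite f := (Groth.Agent.AlgSpLib.isFiniteMor_iff_repWith f).1 hf
  have hfl : AlgSp.RepWith (@LocallyQuasiFinite ⊓ @LocallyOfFiniteType) f :=
    Groth.Agent.AlgSpLib.RepWith.mono
      (fun _ _ g (_ : IsFinite g) => ⟨inferInstance, inferInstance⟩) hr
  have hfs : AlgSp.IsSeparatedMor f :=
    (Groth.Agent.AlgSpLib.repWith_diagonal_iff hr.1).2 (Groth.Agent.AlgSpLib.RepWith.mono
      (fun _ _ g (_ : IsFinite g) => (inferInstance : IsSeparated g).diagonal_isClosedImmersion) hr)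
  obtain ⟨i₂, φ₂, h₂⟩ := Groth.Agent.AlgSpLib.exists_stage_diagonal D hDa c hc
    Groth.Agent.EGA43.Limit.descends_isClosedImmersion X₀.property Y₀.property hXqc hXqs hYqc hYqs
    f₀ b₀ (Groth.Agent.AlgSpLib.repWith_diagonal f₀
      (Groth.Agent.AlgSpLib.repWith_diag_lft X₀.property)) f pY qY hY pX hX hfs
  have hl := Groth.Agent.AlgSpLib.etLocal_lqf.{u}
  have := hl.bc
  have := hl.comp
  have := hl.localTarget
  have hd : Groth.Agent.EGA43.Limit.Descends.{u} @LocallyOfFiniteType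
      (@LocallyQuasiFinite ⊓ @LocallyOfFiniteType) := by
    intro J _ _ E cE hcE hE j₀ _ _ A₀ g₀ _ _ hQ A p g sq hg
    obtain ⟨j, φ, hj⟩ := Groth.Agent.EGA43.Limit.descends_locallyQuasiFinite E cE hcE j₀ g₀ hQ p g sq
      hg.1
    exact ⟨j, φ, hj, MorphismProperty.pullback_snd _ _ hQ⟩
  obtain ⟨i₃, φ₃, h₃⟩ := Groth.Agent.AlgSpLib.exists_stage_source_chart D hDa c hc hd X₀.property
    Y₀.property hXqc hYqc hYqs f₀ b₀ (fun a ha => Groth.Agent.AlgSpLib.repWith_comp_of_locP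
      Groth.Agent.AlgSpLib.etLocal_lft Y₀.property hf₀ a ha) f pY qY hY pX hX hXa
    (fun a _ hae _ _ => Groth.Agent.AlgSpLib.RepWith.comp
      (Groth.Agent.AlgSpLib.RepWith.mono hl.of_etale hae) hfl)
  have h₃' : Groth.Agent.AlgSpLib.HoldsAtStage D
      (AlgSp.LocP (@LocallyQuasiFinite ⊓ @LocallyOfFiniteType)) f₀ b₀ φ₃ := by
    intro Xi Yi fi pYi qYi hYi pXi hXi
    obtain ⟨Ui, ai, hUi, haie, hais, hP⟩ := h₃ Xi Yi fi pYi qYi hYi pXi hXi
    have hYia := Groth.Agent.AlgSpLib.isAlgSpace_of_isPullback (hD i₀).diag Y₀.property (hD i₃) hYi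
    have hXia := Groth.Agent.AlgSpLib.isAlgSpace_of_isPullback Y₀.property.diag X₀.property hYia hXi
    obtain ⟨W, w, hwe, hws⟩ := (hUi hXia).atlas
    refine Groth.Agent.AlgSpLib.locP_of_atlas hl hXia (w ≫ ai)
      (Groth.Agent.AlgSpLib.RepWith.comp hwe haie) (Groth.Agent.AlgSpLib.RepWith.comp hws hais) ?_
    rw [Category.assoc]
    exact Groth.Agent.AlgSpLib.RepWith.comp (Groth.Agent.AlgSpLib.RepWith.mono hl.of_etale hwe) hP
  obtain ⟨l, g₂, g₃, hg⟩ := IsCofiltered.cospan φ₂ φ₃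
  have hsep : Groth.Agent.AlgSpLib.HoldsAtStage D AlgSp.IsSeparatedMor f₀ b₀ (g₂ ≫ φ₂) :=
    Groth.Agent.AlgSpLib.HoldsAtStage.comp D (fun _ _ _ sq h =>
      Groth.Agent.AlgSpLib.RepWith.baseChange
        (Groth.Agent.AlgSpLib.isPullback_diagonal_map sq).flip.flip h)
      hD X₀.property Y₀.property h₂ _
  have hlqf := Groth.Agent.AlgSpLib.HoldsAtStage.comp D (fun hA hB hA' sq h =>
      Groth.Agent.AlgSpLib.locP_of_isPullback hl hA hB hA' sq h) hD X₀.property Y₀.property h₃' g₃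
  rw [← hg] at hlqf
  obtain ⟨i, φ, hi⟩ := Groth.Agent.AlgSpLib.exists_stage_of_lqf_separated D hD hDa c hc
    Groth.Agent.AlgSpLib.limDescends_isFinite X₀.property Y₀.property hXqc hYqc hYqs f₀ b₀
    hf₀ (g₂ ≫ φ₂) hsep hlqf f pY qY hY pX hX hr
  exact ⟨i, φ, fun Xi Yi fi pYi qYi hYi pXi hXi =>
    (Groth.Agent.AlgSpLib.isFiniteMor_iff_repWith fi).2 (hi Xi Yi fi pYi qYi hYi pXi hXi)⟩

end Groth.Agent.S10018
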