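import Groth.Statements.S10021
import Groth.Agent.AlgSpLib.LimitDiag
import Groth.Agent.AlgSpLib.FpqcBaseIso
-- import your own Groth.Agent.* helpers here

set_option autoImplicit false
universe u
open CategoryTheory CategoryTheory.Limits AlgebraicGeometry
open AlgSp

namespace Groth.Agent.S10021

set_option backward.isDefEq.respectTransparency.types false

/-- Let `S` be a quasi-separated scheme and `B` the limit, in fppf sheaves over `S`, of a cofiltered
system `(B_i)` of algebraic spaces over `S` whose transition maps are affine; fix an index `i₀` such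
that `B_{i₀}` is quasi-compact and quasi-separated over `S`, and a morphism `f₀ : X₀ ⟶ Y₀` of
algebraic spaces over `B_{i₀}` whose source and target are quasi-compact and quasi-separated over
`S`. Write `f_i` (for `i` mapping to `i₀`) and `f` for the base changes of `f₀` to `B_i` and to `B`,
given by pullback squares. If `f` is an isomorphism and `f₀` locally of finite presentation, then
for some `i` mapping to `i₀` every such base change `f_i` is an isomorphism. (The published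
statement allows any base scheme and uses absolute quasi-separatedness; this row assumes the base
quasi-separated, over which quasi-separatedness relative to the base is the absolute notion.) -/
theorem result (S : Scheme.{u}) [QuasiSeparatedSpace S] {I : Type u} [SmallCategory I] [IsCofiltered I]
    (D : I ⥤ AlgSp.Sp S) (hD : ∀ i, AlgSp.IsAlgSpace (D.obj i))
    (hDa : ∀ (i j : I) (φ : i ⟶ j), AlgSp.IsAffineMor (D.map φ))
    (c : Cone D) (hc : IsLimit c) (i₀ : I)
    (hBqc : AlgSp.IsQuasiCompactSp (D.obj i₀)) (hBqs : AlgSp.IsQuasiSeparatedSp (D.obj i₀))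
    (X₀ Y₀ : AlgSp.Space S) (f₀ : X₀.obj ⟶ Y₀.obj) (b₀ : Y₀.obj ⟶ D.obj i₀)
    (hXqc : AlgSp.IsQuasiCompactSp X₀.obj) (hXqs : AlgSp.IsQuasiSeparatedSp X₀.obj)
    (hYqc : AlgSp.IsQuasiCompactSp Y₀.obj) (hYqs : AlgSp.IsQuasiSeparatedSp Y₀.obj)
    (X Y : AlgSp.Sp S) (f : X ⟶ Y) (pY : Y ⟶ Y₀.obj) (qY : Y ⟶ c.pt)
    (hY : IsPullback pY qY b₀ (c.π.app i₀)) (pX : X ⟶ X₀.obj) (hX : IsPullback pX f f₀ pY)
    [IsIso f] (hf₀ : AlgSp.LocP @LocallyOfFinitePresentation f₀) :
    ∃ (i : I) (φ : i ⟶ i₀), ∀ (Xi Yi : AlgSp.Sp S) (fi : Xi ⟶ Yi) (pYi : Yi ⟶ Y₀.obj) (qYi : Yi ⟶ D.obj i)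
      (_ : IsPullback pYi qYi b₀ (D.map φ)) (pXi : Xi ⟶ X₀.obj) (_ : IsPullback pXi fi f₀ pYi),
      IsIso fi := by
  have hc' := Groth.Agent.AlgSpLib.isAlgSpace_limit D hD hDa c hc
  have hYa : AlgSp.IsAlgSpace Y :=
    Groth.Agent.AlgSpLib.isAlgSpace_of_isPullback (hD i₀).diag Y₀.property hc' hY
  have hXa : AlgSp.IsAlgSpace X :=
    Groth.Agent.AlgSpLib.isAlgSpace_of_isPullback Y₀.property.diag X₀.property hYa hX
  have he := Groth.Agent.AlgSpLib.etLocal_etale.{u}
  -- monomorphism at a stage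
  obtain ⟨W, w, -, -, -, -, -, -, hdl⟩ := Groth.Agent.AlgSpLib.exists_diag_chart X₀.property
    Y₀.property hXqc hXqs hYqc hYqs f₀
  have hft : AlgSp.LocP @LocallyOfFiniteType f₀ := fun U V a b h ha hb w => by
    have : LocallyOfFinitePresentation h.left := hf₀ a b h ha hb w
    infer_instance
  obtain ⟨i₁, φ₁, h₁⟩ := Groth.Agent.AlgSpLib.exists_stage_diagonal D hDa c hc
    Groth.Agent.EGA43.Limit.descends_iso X₀.property Y₀.property hXqc hXqs hYqc hYqs f₀ b₀
    (hdl hft) f pY qY hY pX hX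
    (Groth.Agent.AlgSpLib.repWith_of_isIso (MorphismProperty.isomorphisms Scheme.{u}) _)
  -- etale at a stage
  obtain ⟨i₂, φ₂, h₂⟩ := Groth.Agent.AlgSpLib.exists_stage_locP D hD hDa c hc he
    Groth.Agent.AlgSpLib.limDescends_etale hXqc hYqc hYqs f₀ b₀ hf₀ f pY qY hY pX hX
    (Groth.Agent.AlgSpLib.locP_of_repWith he hXa (Groth.Agent.AlgSpLib.repWith_of_isIso @Etale f))
  -- surjective at a stage
  obtain ⟨i₃, φ₃, h₃⟩ := Groth.Agent.AlgSpLib.exists_stage_source_chart D hDa c hc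
    Groth.Agent.EGA43.Limit.descends_surjective X₀.property Y₀.property hXqc hYqc hYqs f₀ b₀
    (fun a ha => Groth.Agent.AlgSpLib.repWith_comp_of_locP Groth.Agent.AlgSpLib.etLocal_lfp
      Y₀.property hf₀ a ha) f pY qY hY pX hX hXa
    (fun a _ _ has _ =>
      Groth.Agent.AlgSpLib.RepWith.comp has (Groth.Agent.AlgSpLib.repWith_of_isIso @Surjective f))
  obtain ⟨l, g₁, g₂, hg⟩ := IsCofiltered.cospan φ₁ φ₂
  obtain ⟨m, k, g₃, hk⟩ := IsCofiltered.cospan (g₁ ≫ φ₁) φ₃
  refine ⟨m, k ≫ g₁ ≫ φ₁, ?_⟩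
  have hmono : Groth.Agent.AlgSpLib.HoldsAtStage D (MorphismProperty.monomorphisms _) f₀ b₀
      ((k ≫ g₁) ≫ φ₁) :=
    Groth.Agent.AlgSpLib.HoldsAtStage.comp D (fun _ _ _ sq hm =>
        (MorphismProperty.monomorphisms _).of_isPullback sq hm) hD X₀.property Y₀.property
      (fun Xi Yi fi pYi qYi hYi pXi hXi => (pullback.isIso_diagonal_iff fi).1
        (Groth.Agent.AlgSpLib.isIso_of_repWith_isomorphisms (h₁ Xi Yi fi pYi qYi hYi pXi hXi))) _
  have het : Groth.Agent.AlgSpLib.HoldsAtStage D (AlgSp.LocP @Etale) f₀ b₀ ((k ≫ g₂) ≫ φ₂) :=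
    Groth.Agent.AlgSpLib.HoldsAtStage.comp D (fun hA hB hA' sq h =>
      Groth.Agent.AlgSpLib.locP_of_isPullback he hA hB hA' sq h) hD X₀.property Y₀.property h₂ _
  have hsur : Groth.Agent.AlgSpLib.HoldsAtStage D AlgSp.IsSurjectiveMor f₀ b₀ (g₃ ≫ φ₃) :=
    Groth.Agent.AlgSpLib.HoldsAtStage.comp D (fun _ _ _ sq h =>
        Groth.Agent.AlgSpLib.surjective_map_of_isPullback sq.flip.flip h) hD X₀.property Y₀.property
      (fun Xi Yi fi pYi qYi hYi pXi hXi => by
        obtain ⟨Ui, ai, -, -, -, hP⟩ := h₃ Xi Yi fi pYi qYi hYi pXi hXi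
        have h := Groth.Agent.AlgSpLib.surjective_map_of_repWith hP
        rw [show AlgSp.Points.map (ai ≫ fi) = AlgSp.Points.map fi ∘ AlgSp.Points.map ai from
          funext fun x => AlgSp.Points.map_comp _ _ x] at h
        exact h.of_comp) _
  rw [Category.assoc] at hmono het
  rw [hg] at hmono
  rw [← hk] at hsur
  intro Xi Yi fi pYi qYi hYi pXi hXi
  have hYia := Groth.Agent.AlgSpLib.isAlgSpace_of_isPullback (hD i₀).diag Y₀.property (hD m) hYi
  have hXia := Groth.Agent.AlgSpLib.isAlgSpace_of_isPullback Y₀.property.diag X₀.property hYia hXi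
  have e2 : k ≫ g₂ ≫ φ₂ = k ≫ g₁ ≫ φ₁ := by rw [hg]
  have : Mono fi := hmono Xi Yi fi pYi qYi (by rw [e2]; exact hYi) pXi hXi
  refine Groth.Agent.AlgSpLib.isIso_of_mono_etale_surjective hXia hYia fi
    ((Groth.Agent.AlgSpLib.isEtaleMor_iff_locP he hXia hYia fi).2
      (het Xi Yi fi pYi qYi (by rw [e2]; exact hYi) pXi hXi)) ?_
  exact hsur Xi Yi fi pYi qYi hYi pXi hXi

end Groth.Agent.S10021
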