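import Groth.Statements.S10023
import Groth.Agent.AlgSpLib.ProperStage
import Groth.Agent.AlgSpLib.LimitChart
import Groth.Agent.AlgSpLib.LimitDiag
import Groth.Agent.AlgSpLib.FppfLocal
import Groth.Agent.H8Lim.DescentProper
import Groth.Agent.S10020
-- import your own Groth.Agent.* helpers here

set_option autoImplicit false
universe u
open CategoryTheory CategoryTheory.Limits AlgebraicGeometry
open AlgSp

namespace Groth.Agent.S10023

open Groth.Agent.AlgSpLib

set_option backward.isDefEq.respectTransparency false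
set_option backward.isDefEq.respectTransparency.types false
set_option linter.style.haveILetI false

theorem limDescends_isProper : Groth.Agent.EGA43.Limit.Descends.{u} @LocallyOfFiniteType @IsProper := by
  intro I _ _ D c hc hI i₀ _ _ X₀ f₀ _ _ hQ X p f sq hf
  exact Groth.Agent.H8Lim.descends_isProper D c hc (fun φ => hI _ _ φ) i₀ f₀ hQ f p sq hf

theorem repWith_isProper {S : Scheme.{u}} {F G : Sp S} (hF : IsAlgSpace F) (hG : IsAlgSpace G) {f : F ⟶ G}
    (hr : Representable f) (h : IsProperMor f) : RepWith @IsProper f :=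
  ⟨hr, fun U V g fst snd sq => (isProperMor_yon_map_iff' snd).1
    (isProperMor_of_isPullback hF hG (IsAlgSpace.yon_obj _) sq h)⟩


/-- Let `S` be a quasi-separated scheme and `B` the limit, in fppf sheaves over `S`, of a cofiltered
system `(B_i)` of algebraic spaces over `S` whose transition maps are affine; fix an index `i₀` such
that `B_{i₀}` is quasi-compact and quasi-separated over `S`, and a morphism `f₀ : X₀ ⟶ Y₀` of
algebraic spaces over `B_{i₀}` whose source and target are quasi-compact and quasi-separated over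
`S`. Write `f_i` (for `i` mapping to `i₀`) and `f` for the base changes of `f₀` to `B_i` and to `B`,
given by pullback squares. If `f` is proper and `f₀` locally of finite type, then for some `i`
mapping to `i₀` every such base change `f_i` is proper. (The published statement allows any base
scheme and uses absolute quasi-separatedness; this row assumes the base quasi-separated, over which
quasi-separatedness relative to the base is the absolute notion.) -/
theorem result (S : Scheme.{u}) [QuasiSeparatedSpace S] {I : Type u} [SmallCategory I] [IsCofiltered I]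
    (D : I ⥤ AlgSp.Sp S) (hD : ∀ i, AlgSp.IsAlgSpace (D.obj i))
    (hDa : ∀ (i j : I) (φ : i ⟶ j), AlgSp.IsAffineMor (D.map φ))
    (c : Cone D) (hc : IsLimit c) (i₀ : I)
    (hBqc : AlgSp.IsQuasiCompactSp (D.obj i₀)) (hBqs : AlgSp.IsQuasiSeparatedSp (D.obj i₀))
    (X₀ Y₀ : AlgSp.Space S) (f₀ : X₀.obj ⟶ Y₀.obj) (b₀ : Y₀.obj ⟶ D.obj i₀)
    (hXqc : AlgSp.IsQuasiCompactSp X₀.obj) (hXqs : AlgSp.IsQuasiSeparatedSp X₀.obj)
    (hYqc : AlgSp.IsQuasiCompactSp Y₀.obj) (hYqs : AlgSp.IsQuasiSeparatedSp Y₀.obj)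
    (X Y : AlgSp.Sp S) (f : X ⟶ Y) (pY : Y ⟶ Y₀.obj) (qY : Y ⟶ c.pt)
    (hY : IsPullback pY qY b₀ (c.π.app i₀)) (pX : X ⟶ X₀.obj) (hX : IsPullback pX f f₀ pY)
    (hf : AlgSp.IsProperMor f) (hf₀ : AlgSp.LocP @LocallyOfFiniteType f₀) :
    ∃ (i : I) (φ : i ⟶ i₀), ∀ (Xi Yi : AlgSp.Sp S) (fi : Xi ⟶ Yi) (pYi : Yi ⟶ Y₀.obj) (qYi : Yi ⟶ D.obj i)
      (_ : IsPullback pYi qYi b₀ (D.map φ)) (pXi : Xi ⟶ X₀.obj) (_ : IsPullback pXi fi f₀ pYi),
      AlgSp.IsProperMor fi := by
  haveI := compactSpace_points_of_isQuasiCompactSp hYqc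
  obtain ⟨B, b, hB, hbe, hbs⟩ := exists_affine_chart Y₀.property
  haveI := hB
  have hT : IsTerminal ((yon S).obj (Over.mk (𝟙 S))) := IsTerminal.isTerminalObj (yon S) _ Over.mkIdTerminal
  have hBs : IsQuasiSeparatedSp ((yon S).obj B) := by
    haveI : QuasiSeparated (B.hom ≫ terminal.from S) := (quasiSeparated_iff_quasiSeparatedSpace _).2 inferInstance
    haveI : QuasiSeparated B.hom := QuasiSeparated.of_comp _ (terminal.from S)
    exact (isQuasiSeparatedMor_iff_sp _).1
      ((isQuasiSeparatedMor_yon_map_iff (Over.homMk B.hom : B ⟶ Over.mk (𝟙 S))).2 ‹QuasiSeparated B.hom›)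
  have sqP := IsPullback.of_hasPullback f₀ b
  let P : AlgSp.Space S := ⟨pullback f₀ b,
    isAlgSpace_of_isPullback Y₀.property.diag X₀.property (IsAlgSpace.yon_obj B) sqP⟩
  have hPc : IsQuasiCompactSp P.obj :=
    isQuasiCompactMor_of_qc_qs X₀.property Y₀.property f₀ hXqc hYqs (IsAlgSpace.yon_obj B)
      (Stk19.isQuasiCompactSp_yon B) b _ _ sqP
  have hbsep : IsSeparatedMor b := by
    refine isSeparatedMor_of_comp (q := hT.from Y₀.obj) ?_
    haveI : IsSeparated (B.hom ≫ terminal.from S) := inferInstance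
    haveI : IsSeparated B.hom := IsSeparated.of_comp _ (terminal.from S)
    have e : b ≫ hT.from Y₀.obj = (yon S).map (Over.homMk B.hom : B ⟶ Over.mk (𝟙 S)) := hT.hom_ext _ _
    rw [e]
    exact (isSeparatedMor_yon_map_iff _).2 ‹IsSeparated B.hom›
  have hPs : IsQuasiSeparatedSp P.obj :=
    ProperSt.isQuasiSeparatedSp_of_separated (isSeparatedMor_of_isPullback sqP.flip hbsep) hXqs
  haveI := compactSpace_points_of_isQuasiCompactSp hPc
  obtain ⟨U, p, -, hpe, hps⟩ := exists_affine_chart P.property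
  obtain ⟨W, h, hh, hhs, -, -⟩ := Groth.Agent.S10048.result S P hPc hPs U p hpe hps
  have hW := IsAlgSpace.yon_obj W
  have hhp : IsProperMor h := ((Groth.Agent.S10271.result (X := (AlgSp.ofScheme S).obj W) (Y := P)
    (ObjectProperty.homMk h)).1 hh).2
  obtain ⟨τ, hτ⟩ := (yon S).map_surjective (h ≫ pullback.snd f₀ b)
  have hτl : LocP @LocallyOfFiniteType ((yon S).map τ) := by
    rw [hτ]
    exact locP_comp etLocal_lft hW P.property (IsAlgSpace.yon_obj B) hhp.2.1.1
      (locP_of_isPullback etLocal_lft X₀.property Y₀.property P.property sqP hf₀)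
  haveI : LocallyOfFiniteType τ.left := locP_yon_map hτl
  have hPBc : IsQuasiCompactMor (pullback.snd f₀ b) :=
    isQuasiCompactMor_of_qc_qs P.property (IsAlgSpace.yon_obj B) _ hPc hBs
  have hτc : IsQuasiCompactMor ((yon S).map τ) := by
    rw [hτ]
    exact isQuasiCompactMor_comp hW P.property (IsAlgSpace.yon_obj B) hhp.2.1.2 hPBc
  haveI : QuasiCompact τ.left := (repWith_yon_map_iff _ _).1 ((repWith_quasiCompact_iff hW
    (IsAlgSpace.yon_obj B) ((IsAlgSpace.yon_obj B).representable_from_yon _)).2 hτc)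
  haveI : QuasiSeparatedSpace W.left := by
    have hWs := ProperSt.isQuasiSeparatedSp_of_separated hhp.1 hPs
    haveI : QuasiSeparated W.hom := (isQuasiSeparatedMor_yon_map_iff (Over.homMk W.hom : W ⟶ Over.mk (𝟙 S))).1
      ((isQuasiSeparatedMor_iff_sp _).2 hWs)
    exact quasiSeparatedSpace_of_quasiSeparated W.hom
  haveI : QuasiSeparatedSpace B.left := inferInstance
  haveI : CompactSpace B.left := inferInstance
  haveI : QuasiSeparated τ.left := QuasiSeparated.of_quasiSeparatedSpace τ.left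
  -- the limit
  let C : Sp S := pullback b pY
  have sqC := IsPullback.of_hasPullback b pY
  have hCl : IsPullback (pullback.fst b pY) (pullback.snd b pY ≫ qY) (b ≫ b₀) (c.π.app i₀) :=
    (sqC.flip.paste_horiz hY.flip).flip
  let A : Sp S := pullback ((yon S).map τ) (pullback.fst b pY)
  have sqA := IsPullback.of_hasPullback ((yon S).map τ) (pullback.fst b pY)
  have hc' : IsAlgSpace c.pt := isAlgSpace_limit D hD hDa c hc
  have hYa : IsAlgSpace Y := isAlgSpace_of_isPullback (hD i₀).diag Y₀.property hc' hY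
  have hXa : IsAlgSpace X := isAlgSpace_of_isPullback Y₀.property.diag X₀.property hYa hX
  have hCa : IsAlgSpace C := isAlgSpace_of_isPullback Y₀.property.diag (IsAlgSpace.yon_obj B) hYa sqC
  have hAa : IsAlgSpace A := isAlgSpace_of_isPullback (IsAlgSpace.yon_obj B).diag hW hCa sqA
  have hg : IsProperMor (pullback.snd ((yon S).map τ) (pullback.fst b pY)) := by
    let X' : Sp S := pullback f (pullback.snd b pY)
    have sqX' := IsPullback.of_hasPullback f (pullback.snd b pY)
    have hX'a : IsAlgSpace X' := isAlgSpace_of_isPullback hYa.diag hXa hCa sqX'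
    let r : X' ⟶ P.obj := pullback.lift (pullback.fst _ _ ≫ pX) (pullback.snd _ _ ≫ pullback.fst _ _) (by
      rw [Category.assoc, hX.w, ← Category.assoc, pullback.condition]
      simp [pullback.condition])
    have sqr : IsPullback r (pullback.snd f (pullback.snd b pY)) (pullback.snd f₀ b) (pullback.fst b pY) := by
      refine IsPullback.of_right (h₁₂ := pullback.fst f₀ b) ?_ (pullback.lift_snd _ _ _) sqP
      rw [show r ≫ pullback.fst f₀ b = pullback.fst _ _ ≫ pX from pullback.lift_fst _ _ _, pullback.condition]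
      exact sqX'.paste_horiz hX
    let k : A ⟶ X' := sqr.lift (pullback.fst _ _ ≫ h) (pullback.snd _ _) (by
      rw [Category.assoc, ← hτ]; exact pullback.condition)
    have sqk : IsPullback (pullback.fst ((yon S).map τ) (pullback.fst b pY)) k h r := by
      refine IsPullback.of_bot ?_ (sqr.lift_fst _ _ _).symm sqr
      rw [show k ≫ pullback.snd f (pullback.snd b pY) = pullback.snd _ _ from sqr.lift_snd _ _ _, ← hτ]
      exact sqA
    have hk : IsProperMor k := isProperMor_of_isPullback hW P.property hX'a sqk hhp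
    have h' : IsProperMor (pullback.snd f (pullback.snd b pY)) := isProperMor_of_isPullback hXa hYa hCa sqX' hf
    have e : k ≫ pullback.snd f (pullback.snd b pY) = pullback.snd _ _ := sqr.lift_snd _ _ _
    rw [← e]
    exact isProperMor_comp hAa hX'a hCa hk h'
  obtain ⟨i₂, φ₂, h₂⟩ := exists_stage_of_descends D hDa c hc limDescends_isProper ((yon S).map τ) (b ≫ b₀)
    (𝟙 ((yon S).obj B)) (repWith_of_isIso @Etale _) (repWith_of_isIso @Surjective _)
    ((repWith_yon_map_iff @LocallyOfFiniteType τ).2 inferInstance)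
    ((repWith_yon_map_iff @QuasiCompact τ).2 inferInstance)
    ((repWith_yon_map_iff @QuasiSeparated τ).2 inferInstance)
    (pullback.snd ((yon S).map τ) (pullback.fst b pY)) (pullback.fst b pY) (pullback.snd b pY ≫ qY) hCl
    (pullback.fst _ _) sqA
    (repWith_isProper hAa hCa (RepWith.baseChange sqA ((repWith_yon_map_iff @QuasiCompact τ).2 inferInstance)).1 hg)
  obtain ⟨i₁, φ₁, h₁⟩ := Groth.Agent.S10020.result S D hD hDa c hc i₀ hBqc hBqs X₀ Y₀ f₀ b₀ hXqc hXqs hYqc hYqs
    X Y f pY qY hY pX hX hf.1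
  obtain ⟨i, a₁, a₂, ha⟩ := IsCofiltered.cospan φ₁ φ₂
  have hsep : HoldsAtStage D IsSeparatedMor f₀ b₀ (a₁ ≫ φ₁) :=
    HoldsAtStage.comp D (fun _ _ _ sq hg => isSeparatedMor_of_isPullback sq hg) hD X₀.property Y₀.property h₁ a₁
  have hpr : HoldsAtStage D (RepWith @IsProper) ((yon S).map τ) (b ≫ b₀) (a₁ ≫ φ₁) := ha ▸
    HoldsAtStage.comp D (fun _ _ _ sq hg => RepWith.baseChange sq hg) hD hW (IsAlgSpace.yon_obj B) h₂ a₂
  refine ⟨i, a₁ ≫ φ₁, fun Xi Yi fi pYi qYi hYi pXi hXi => ?_⟩
  have hYia : IsAlgSpace Yi := isAlgSpace_of_isPullback (hD i₀).diag Y₀.property (hD i) hYi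
  have hXia : IsAlgSpace Xi := isAlgSpace_of_isPullback Y₀.property.diag X₀.property hYia hXi
  have hr := ((isAffineMor_iff_repWith _).1 (hDa _ _ (a₁ ≫ φ₁))).1
  let Bi : Over S := hr.pullback (b ≫ b₀)
  have sqB := hr.isPullback (b ≫ b₀)
  let v' : (yon S).obj Bi ⟶ Yi := hYi.lift ((yon S).map (hr.snd (b ≫ b₀)) ≫ b) (hr.fst (b ≫ b₀)) (by
    rw [Category.assoc]; exact sqB.w.symm)
  have sqv : IsPullback ((yon S).map (hr.snd (b ≫ b₀))) v' b pYi := by
    refine IsPullback.of_bot ?_ (hYi.lift_fst _ _ _).symm hYi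
    rw [show v' ≫ qYi = hr.fst (b ≫ b₀) from hYi.lift_snd _ _ _]
    exact sqB.flip
  have sqX' := IsPullback.of_hasPullback fi v'
  let R : AlgSp.Space S := ⟨pullback fi v',
    isAlgSpace_of_isPullback hYia.diag hXia (IsAlgSpace.yon_obj Bi) sqX'⟩
  let r : R.obj ⟶ P.obj := pullback.lift (pullback.fst _ _ ≫ pXi)
    (pullback.snd _ _ ≫ (yon S).map (hr.snd (b ≫ b₀))) (by
      rw [Category.assoc, hXi.w, ← Category.assoc, pullback.condition]
      simp [sqv.w])
  have sqr : IsPullback r (pullback.snd fi v') (pullback.snd f₀ b) ((yon S).map (hr.snd (b ≫ b₀))) := by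
    refine IsPullback.of_right (h₁₂ := pullback.fst f₀ b) ?_ (pullback.lift_snd _ _ _) sqP
    rw [show r ≫ pullback.fst f₀ b = pullback.fst _ _ ≫ pXi from pullback.lift_fst _ _ _, sqv.w]
    exact sqX'.paste_horiz hXi
  have sqA' := IsPullback.of_hasPullback ((yon S).map τ) ((yon S).map (hr.snd (b ≫ b₀)))
  let k : pullback ((yon S).map τ) ((yon S).map (hr.snd (b ≫ b₀))) ⟶ R.obj :=
    sqr.lift (pullback.fst _ _ ≫ h) (pullback.snd _ _) (by
      rw [Category.assoc, ← hτ]; exact pullback.condition)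
  have ek : k ≫ pullback.snd fi v' = pullback.snd _ _ := sqr.lift_snd _ _ _
  have sqk : IsPullback (pullback.fst ((yon S).map τ) ((yon S).map (hr.snd (b ≫ b₀)))) k h r := by
    refine IsPullback.of_bot ?_ (sqr.lift_fst _ _ _).symm sqr
    rw [ek, ← hτ]
    exact sqA'
  have hR : IsProperMor (pullback.snd fi v') :=
    ⟨isSeparatedMor_of_isPullback sqX' (hsep _ _ _ _ _ hYi _ hXi),
      ⟨locP_of_isPullback etLocal_lft P.property (IsAlgSpace.yon_obj B) R.property sqr
          (locP_of_isPullback etLocal_lft X₀.property Y₀.property P.property sqP hf₀),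
        isQuasiCompactMor_of_isPullback P.property (IsAlgSpace.yon_obj B) (IsAlgSpace.yon_obj Bi) sqr hPBc⟩,
      isUnivClosedMor_of_surjective (surjective_map_of_isPullback sqk hhs)
        (ek.symm ▸ (isProperMor_of_repWith (isAlgSpace_of_isPullback (IsAlgSpace.yon_obj B).diag hW
          (IsAlgSpace.yon_obj Bi) sqA') (IsAlgSpace.yon_obj Bi) (hpr _ _ _ _ _ sqB.flip _ sqA')).2.2)⟩
  exact Groth.Agent.S10274.result (X := ⟨Xi, hXia⟩) (Y := ⟨Yi, hYia⟩) (ObjectProperty.homMk fi) Bi v'
    (RepWith.baseChange sqv hbe) (RepWith.baseChange sqv hbs) _ _ sqX' hR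

end Groth.Agent.S10023
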