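import Groth.Statements.S10024
import Groth.Agent.AlgSpLib.LfpLimit
import Groth.Agent.AlgSpLib.LfpCrit
import Groth.Agent.AlgSpLib.RelLimit
-- import your own Groth.Agent.* helpers here

set_option autoImplicit false
universe u
open CategoryTheory CategoryTheory.Limits AlgebraicGeometry
open AlgSp

namespace Groth.Agent.S10024

/-- A morphism `f : X ⟶ Y` of algebraic spaces over `S` is locally of finite presentation if and only if
it is limit preserving as a transformation of functors (relatively limit preserving: every fibre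
functor over a scheme turns directed limits of affine schemes into colimits). -/
theorem result (S : Scheme.{u}) {X Y : AlgSp.Space S} (f : X ⟶ Y) :
    AlgSp.LocP @LocallyOfFinitePresentation f.hom ↔ AlgSp.IsRelLimitPreserving f.hom.hom := by
---
  have hnat : ∀ {F G : AlgSp.Sp S} (a : F ⟶ G) {U : Over S} (p : (AlgSp.yon S).obj U ⟶ F),
      a.hom.app _ ((GrothendieckTopology.uliftYonedaEquiv.{u+1} (AlgSp.J S)) p) = (GrothendieckTopology.uliftYonedaEquiv.{u+1} (AlgSp.J S)) (p ≫ a) := fun a U p => rfl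
  have hmap : ∀ {F : AlgSp.Sp S} {U V : Over S} (g : V ⟶ U) (p : (AlgSp.yon S).obj U ⟶ F),
      F.obj.map g.op ((GrothendieckTopology.uliftYonedaEquiv.{u+1} (AlgSp.J S)) p) = (GrothendieckTopology.uliftYonedaEquiv.{u+1} (AlgSp.J S)) ((AlgSp.yon S).map g ≫ p) :=
    fun g p => GrothendieckTopology.uliftYonedaEquiv_naturality.{u+1} (AlgSp.J S) p g
  constructor
  · intro hf
    refine Groth.Agent.AlgSpLib.isRelLimitPreserving_of_relLimCond ?_
    intro I _ _ D c hc hD hT
    refine ⟨fun x i y hxy => ?_, fun i x x' hxx he => ?_⟩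
    · obtain ⟨x, rfl⟩ := (GrothendieckTopology.uliftYonedaEquiv.{u+1} (AlgSp.J S)).surjective x
      obtain ⟨y, rfl⟩ := (GrothendieckTopology.uliftYonedaEquiv.{u+1} (AlgSp.J S)).surjective y
      rw [hnat, hmap] at hxy
      obtain ⟨j, φ, x', h1, h2⟩ := Groth.Agent.AlgSpLib.LfpLimit.exists_stage_point f hf D c hc x i y
        ((GrothendieckTopology.uliftYonedaEquiv.{u+1} (AlgSp.J S)).injective hxy)
      refine ⟨j, φ, (GrothendieckTopology.uliftYonedaEquiv.{u+1} (AlgSp.J S)) x', ?_, ?_⟩
      · rw [hmap, h1]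
      · rw [hnat, hmap, h2]
    · obtain ⟨x, rfl⟩ := (GrothendieckTopology.uliftYonedaEquiv.{u+1} (AlgSp.J S)).surjective x
      obtain ⟨x', rfl⟩ := (GrothendieckTopology.uliftYonedaEquiv.{u+1} (AlgSp.J S)).surjective x'
      rw [hnat, hnat] at hxx
      rw [hmap, hmap] at he
      obtain ⟨j, φ, h1⟩ := Groth.Agent.AlgSpLib.LfpLimit.exists_stage_eq f
        (Groth.Agent.AlgSpLib.locP_mono (fun _ _ g hg => by
          have : LocallyOfFinitePresentation g := hg
          exact inferInstanceAs (LocallyOfFiniteType g)) hf)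
        D c hc (fun i => inferInstance) (fun i => inferInstance) (fun φ => inferInstance) x x'
        ((GrothendieckTopology.uliftYonedaEquiv.{u+1} (AlgSp.J S)).injective hxx) ((GrothendieckTopology.uliftYonedaEquiv.{u+1} (AlgSp.J S)).injective he)
      exact ⟨j, φ, by rw [hmap, hmap, h1]⟩
  · intro h
    refine Groth.Agent.AlgSpLib.LfpCrit.locP_lfp_of_surjective f ?_
    intro I _ _ D c hc hD hT x i y hxy
    obtain ⟨j, φ, x', h1, h2⟩ := ((Groth.Agent.AlgSpLib.relLimCond_of_isRelLimitPreserving h) D c hc hD hT).1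
      ((GrothendieckTopology.uliftYonedaEquiv.{u+1} (AlgSp.J S)) x) i ((GrothendieckTopology.uliftYonedaEquiv.{u+1} (AlgSp.J S)) y) (by rw [hnat, hmap, hxy])
    obtain ⟨x', rfl⟩ := (GrothendieckTopology.uliftYonedaEquiv.{u+1} (AlgSp.J S)).surjective x'
    rw [hmap] at h1
    rw [hnat, hmap] at h2
    exact ⟨j, φ, x', (GrothendieckTopology.uliftYonedaEquiv.{u+1} (AlgSp.J S)).injective h1, (GrothendieckTopology.uliftYonedaEquiv.{u+1} (AlgSp.J S)).injective h2⟩

end Groth.Agent.S10024
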