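import Groth.Statements.S10028
import Groth.Agent.AlgSpLib.SheafifyLimit
-- import your own Groth.Agent.* helpers here

set_option autoImplicit false
universe u
open CategoryTheory CategoryTheory.Limits AlgebraicGeometry
open AlgSp

namespace Groth.Agent.S10028

set_option backward.isDefEq.respectTransparency.types false

open Groth.Agent.AlgSpLib Opposite

variable {S : Scheme.{u}}

/-- the terminal presheaf -/
abbrev pt (S : Scheme.{u}) : AlgSp.PSp S := (Functor.const (Over S)ᵒᵖ).obj PUnit.{u + 2}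

/-- the map to it -/
abbrev toPt (F : AlgSp.PSp S) : F ⟶ pt S where
  app _ := ↾fun _ => PUnit.unit
  naturality _ _ _ := by ext; rfl

theorem relLimCond_toPt {F : AlgSp.PSp S} (hF : AlgSp.IsLimitPreserving F) : RelLimCond (toPt F) := by
  intro I _ _ D c hc hD hT
  obtain ⟨h⟩ := hF D c hc hD hT
  refine ⟨fun x i y _ => ?_, fun i x x' _ e => ?_⟩
  · obtain ⟨j, z, hz⟩ := Types.jointly_surjective_of_isColimit h x
    refine ⟨IsCofiltered.min j.unop i, IsCofiltered.minToRight _ _, F.map (D.map (IsCofiltered.minToLeft _ _)).op z,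
      (pmap_cone F c (IsCofiltered.minToLeft _ _) z).trans hz, rfl⟩
  · obtain ⟨j, f, hf⟩ := (Types.FilteredColimit.isColimit_eq_iff' h (i := op i) x x').1 e
    exact ⟨j.unop, f.unop, hf⟩

theorem isLimitPreserving_of_relLimCond {F : AlgSp.PSp S} (h : RelLimCond (toPt F)) : AlgSp.IsLimitPreserving F := by
  intro I _ _ D c hc hD hT
  obtain ⟨h1, h2⟩ := h D c hc hD hT
  refine ⟨Types.FilteredColimit.isColimitOf' _ _ (fun x => ?_) (fun i x x' e => ?_)⟩
  · obtain ⟨i⟩ := IsCofiltered.nonempty (C := I)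
    obtain ⟨j, φ, y, hy, -⟩ := h1 x i PUnit.unit rfl
    exact ⟨op j, y, hy.symm⟩
  · obtain ⟨j, φ, hj⟩ := h2 i.unop x x' rfl e
    exact ⟨op j, φ.op, hj⟩

theorem isSheaf_pt : Presheaf.IsSheaf (AlgSp.J S) (pt S) := by
  rw [isSheaf_iff_isSheaf_of_type]
  intro X R _ x _
  exact ⟨PUnit.unit, fun _ _ _ => rfl, fun _ _ => rfl⟩

/-- If a presheaf of sets `F` on schemes over `S` is limit preserving, then so is (the underlying
presheaf of) its fppf sheafification. -/
theorem result (S : Scheme.{u}) (F : AlgSp.PSp S) (hF : AlgSp.IsLimitPreserving F) :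
    AlgSp.IsLimitPreserving ((presheafToSheaf (AlgSp.J S) (Type (u + 1))).obj F).obj := by
  refine isLimitPreserving_of_relLimCond (SheafifyLimit.relLimCond (ηF := CategoryTheory.toSheafify (AlgSp.J S) F)
    (ηG := 𝟙 (pt S)) rfl (relLimCond_toPt hF) ((presheafToSheaf (AlgSp.J S) (Type (u + 1))).obj F).2 isSheaf_pt)

end Groth.Agent.S10028
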