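import Groth.Statements.S10030
import Groth.Agent.AlgSpLib.LfpLimit
import Groth.Agent.AlgSpLib.RelLimit
import Groth.Agent.AlgSpLib.RepLocal
import Mathlib.AlgebraicGeometry.Morphisms.UniversallyOpen
-- import your own Groth.Agent.* helpers here

set_option autoImplicit false
universe u
open CategoryTheory CategoryTheory.Limits AlgebraicGeometry
open AlgSp

namespace Groth.Agent.S10030

set_option backward.isDefEq.respectTransparency.types false
set_option backward.isDefEq.respectTransparency false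

open Groth.Agent.AlgSpLib Groth.Agent.AlgSpLib.LfpLimit Opposite

variable {S : Scheme.{u}}

/-- finitely many affine pieces of an fppf covering over an affine scheme -/
theorem exists_pieces {ι : Type u} (U : ι → Over S) (hfl : ∀ j, Flat (U j).hom)
    (hfp : ∀ j, LocallyOfFinitePresentation (U j).hom)
    (hsurj : ∀ s : ↥S, ∃ (j : ι) (x : ↥(U j).left), (U j).hom.base x = s) (T : Over S) [IsAffine T.left] :
    ∃ (κ : Type u) (_ : Finite κ) (j : κ → ι) (Z : κ → Scheme.{u}) (z : ∀ a, Z a ⟶ T.left)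
      (_ : ∀ a, Over.mk (z a ≫ T.hom) ⟶ U (j a)),
      (∀ a, IsAffine (Z a)) ∧ (∀ a, Flat (z a)) ∧ (∀ a, LocallyOfFinitePresentation (z a)) ∧
        ∀ t, ∃ a, t ∈ Set.range (z a) := by
  let W := fun j => pullback T.hom (U j).hom
  let p : ∀ j, W j ⟶ T.left := fun j => pullback.fst _ _
  have hpfl : ∀ j, Flat (p j) := fun j =>
    have := hfl j
    inferInstanceAs (Flat (pullback.fst T.hom (U j).hom))
  have hpfp : ∀ j, LocallyOfFinitePresentation (p j) := fun j =>
    have := hfp j
    inferInstanceAs (LocallyOfFinitePresentation (pullback.fst T.hom (U j).hom))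
  have hpt : ∀ t : T.left, ∃ (j : ι) (O : (W j).Opens), IsAffineOpen O ∧ t ∈ (p j) '' (O : Set (W j)) := fun t => by
    obtain ⟨j, x, hx⟩ := hsurj (T.hom t)
    obtain ⟨w, hw, -⟩ := Scheme.Pullback.exists_preimage_pullback t x hx.symm
    obtain ⟨O, hO, -⟩ := exists_affine_mem (x := w) (O := ⊤) trivial
    exact ⟨j, O.1, O.2, w, hO, hw⟩
  choose j O hO hmem using hpt
  obtain ⟨s, hs⟩ := isCompact_univ.elim_finite_subcover (fun t => (p (j t)) '' (O t : Set (W (j t))))
    (fun t => by
      have := hpfl (j t); have := hpfp (j t)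
      exact (p (j t)).isOpenMap _ (O t).2)
    (fun t _ => Set.mem_iUnion.2 ⟨t, hmem t⟩)
  refine ⟨↥s, inferInstance, fun a => j a.1, fun a => (O a.1).toScheme, fun a => (O a.1).ι ≫ p (j a.1),
    fun a => Over.homMk ((O a.1).ι ≫ pullback.snd _ _) (by
      show ((O a.1).ι ≫ pullback.snd _ _) ≫ (U (j a.1)).hom = ((O a.1).ι ≫ p (j a.1)) ≫ T.hom
      rw [Category.assoc, Category.assoc, ← pullback.condition]),
    fun a => hO a.1, fun a => ?_, fun a => ?_, fun t => ?_⟩
  · have := hpfl (j a.1); infer_instance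
  · have := hpfp (j a.1); infer_instance
  · obtain ⟨t', ht', w, hw, rfl⟩ := Set.mem_iUnion₂.1 (hs (Set.mem_univ t))
    exact ⟨⟨t', ht'⟩, ⟨w, hw⟩, rfl⟩

variable {I : Type u} [SmallCategory I] [IsCofiltered I] {D : I ⥤ Over S} (c : Cone D)
  (hc : IsLimit ((Over.forget S).mapCone c)) (hD : ∀ i, IsAffine (D.obj i).left) (hT : IsAffine c.pt.left)
  {i : I} {Z : Scheme.{u}} (z : Z ⟶ (D.obj i).left)

noncomputable section

/-- the piece over the limit -/
abbrev OO : Over S := Over.mk (pullback.snd z (c.π.app i).left ≫ c.pt.hom)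

/-- its map to the limit -/
abbrev ee : OO c z ⟶ c.pt := Over.homMk (pullback.snd z (c.π.app i).left) rfl

theorem sqz : IsPullback (pullback.fst z (c.π.app i).left) (ee c z).left z (c.π.app i).left :=
  IsPullback.of_hasPullback _ _

/-- the projection of the piece to the stages -/
abbrev pr (k : Over i) : OO c z ⟶ (stageOver D z).obj k :=
  stageOverProj c z (pullback.fst z (c.π.app i).left) (ee c z) (sqz c z) k

include hD in
omit [IsCofiltered I] in
theorem affine_stage [IsAffine Z] (k : Over i) : IsAffine (pullback z ((D ⋙ Over.forget S).map k.hom)) :=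
  have h1 : IsAffine ((D ⋙ Over.forget S).obj k.left) := hD k.left
  have h2 : IsAffine ((D ⋙ Over.forget S).obj i) := hD i
  inferInstance

include hD hT in
omit [IsCofiltered I] in
theorem affine_pt [IsAffine Z] : IsAffine (pullback z (c.π.app i).left) :=
  have h1 : IsAffine ((D.obj i).left) := hD i
  have h2 : IsAffine (((Functor.const I).obj c.pt).obj i).left := hT
  inferInstance

omit [IsCofiltered I] in
theorem stage_hom {U : Over S} (g : Over.mk (z ≫ (D.obj i).hom) ⟶ U) (k : Over i) :
    (H8Lim.stageFst (D ⋙ Over.forget S) z k ≫ g.left) ≫ U.hom = ((stageOver D z).obj k).hom :=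
  (Category.assoc _ _ _).trans ((congrArg (_ ≫ ·) (Over.w g)).trans ((stage_w D z k (D.obj i).hom).trans
    (congrArg (_ ≫ ·) (Over.w (D.map k.hom)))))

omit [IsCofiltered I] in
theorem pt_hom {U : Over S} (g : Over.mk (z ≫ (D.obj i).hom) ⟶ U) :
    (pullback.fst z (c.π.app i).left ≫ g.left) ≫ U.hom = pullback.snd z (c.π.app i).left ≫ c.pt.hom :=
  (Category.assoc _ _ _).trans ((congrArg (_ ≫ ·) (Over.w g)).trans ((Category.assoc _ _ _).symm.trans
    ((congrArg (· ≫ (D.obj i).hom) pullback.condition).trans ((Category.assoc _ _ _).trans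
      (congrArg (_ ≫ ·) (Over.w (c.π.app i)))))))

/-- a diagram of schemes over a scheme -/
abbrev overDiag {J : Type u} [SmallCategory J] (E : J ⥤ Scheme.{u}) {X : Scheme.{u}} (f : ∀ j, E.obj j ⟶ X)
    (hf : ∀ ⦃k l⦄ (φ : k ⟶ l), E.map φ ≫ f l = f k) : J ⥤ Over X where
  obj j := Over.mk (f j)
  map {k l} φ := Over.homMk (E.map φ) (hf φ)
  map_id k := Over.OverMorphism.ext (E.map_id k)
  map_comp φ ψ := Over.OverMorphism.ext (E.map_comp φ ψ)

/-- a cone of schemes over a scheme -/
abbrev overCone {J : Type u} [SmallCategory J] {E : J ⥤ Scheme.{u}} {X : Scheme.{u}} {f : ∀ j, E.obj j ⟶ X}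
    {hf : ∀ ⦃k l⦄ (φ : k ⟶ l), E.map φ ≫ f l = f k} (κ : Cone E) (f₀ : κ.pt ⟶ X)
    (h₀ : ∀ j, κ.π.app j ≫ f j = f₀) : Cone (overDiag E f hf) where
  pt := Over.mk f₀
  π := { app := fun j => Over.homMk (κ.π.app j) (h₀ j)
         naturality := fun k l φ => Over.OverMorphism.ext (κ.π.naturality φ) }

def isLimitOverCone {J : Type u} [SmallCategory J] {E : J ⥤ Scheme.{u}} {X : Scheme.{u}} {f : ∀ j, E.obj j ⟶ X}
    {hf : ∀ ⦃k l⦄ (φ : k ⟶ l), E.map φ ≫ f l = f k} {κ : Cone E} (hκ : IsLimit κ) (f₀ : κ.pt ⟶ X)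
    (h₀ : ∀ j, κ.π.app j ≫ f j = f₀) : IsLimit ((Over.forget X).mapCone (overCone (hf := hf) κ f₀ h₀)) :=
  hκ.ofIsoLimit (Cone.ext (Iso.refl _) (fun k => (Category.id_comp _).symm))

include hc hD hT in
/-- sections over the pieces are limit preserving -/
theorem piece_colim {F : PSp S} {U : Over S} [IsAffine Z]
    (hloc : IsLimitPreserving (S := U.left) ((Over.map U.hom).op ⋙ F)) (g : Over.mk (z ≫ (D.obj i).hom) ⟶ U) :
    (∀ x : F.obj (op (OO c z)), ∃ (k : Over i) (y : F.obj (op ((stageOver D z).obj k))),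
        F.map (pr c z k).op y = x) ∧
    ∀ (k : Over i) (y y' : F.obj (op ((stageOver D z).obj k))), F.map (pr c z k).op y = F.map (pr c z k).op y' →
      ∃ (l : Over i) (φ : l ⟶ k), F.map ((stageOver D z).map φ).op y = F.map ((stageOver D z).map φ).op y' := by
  let f : ∀ k : CategoryTheory.Over i, (H8Lim.stage (D ⋙ Over.forget S) z).obj k ⟶ U.left := fun k =>
    H8Lim.stageFst (D ⋙ Over.forget S) z k ≫ g.left
  let hf : ∀ ⦃k l : CategoryTheory.Over i⦄ (φ : k ⟶ l), (H8Lim.stage (D ⋙ Over.forget S) z).map φ ≫ f l = f k :=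
    fun k l φ => H8Lim.stageMap_fst_assoc (D ⋙ Over.forget S) z φ g.left
  let D' : CategoryTheory.Over i ⥤ Over U.left := overDiag (H8Lim.stage (D ⋙ Over.forget S) z) f hf
  let κ := schemeStageCone c z (pullback.fst z (c.π.app i).left) (ee c z) (sqz c z)
  let f₀ : (OO c z).left ⟶ U.left := pullback.fst z (c.π.app i).left ≫ g.left
  have h₀ : ∀ k, H8Lim.stageProj z ((Over.forget S).mapCone c) (pullback.fst z (c.π.app i).left) (ee c z).left (sqz c z) k ≫
      f k = f₀ := fun k =>
    H8Lim.stageProj_fst_assoc (D := D ⋙ Over.forget S) z ((Over.forget S).mapCone c) _ _ (sqz c z) k g.left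
  let c' : Cone D' := overCone (hf := hf) κ f₀ h₀
  have hκ : IsLimit κ :=
    H8Lim.isLimitStageCone (D := D ⋙ Over.forget S) (i₀ := i) (X := (OO c z).left) z
      (pullback.fst z (c.π.app i).left) (ee c z).left (sqz c z) hc
  have hc' : IsLimit ((Over.forget U.left).mapCone c') := isLimitOverCone hκ f₀ h₀
  have hA : ∀ k, IsAffine (D'.obj k).left := fun k => affine_stage hD z k
  have hA' : IsAffine c'.pt.left := affine_pt c hD hT z
  obtain ⟨hcol⟩ := hloc D' c' hc' hA hA'
  have hw : ∀ k : CategoryTheory.Over i, ((Over.map U.hom).obj (D'.obj k)).hom = ((stageOver D z).obj k).hom :=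
    fun k => stage_hom z g k
  have hw' : ((Over.map U.hom).obj c'.pt).hom = (OO c z).hom := pt_hom c z g
  let e : ∀ k, (stageOver D z).obj k ⟶ (Over.map U.hom).obj (D'.obj k) := fun k =>
    Over.homMk (𝟙 _) ((Category.id_comp _).trans (hw k))
  let e' : ∀ k, (Over.map U.hom).obj (D'.obj k) ⟶ (stageOver D z).obj k := fun k =>
    Over.homMk (𝟙 _) ((Category.id_comp _).trans (hw k).symm)
  let f : OO c z ⟶ (Over.map U.hom).obj c'.pt := Over.homMk (𝟙 _) ((Category.id_comp _).trans hw')
  let f' : (Over.map U.hom).obj c'.pt ⟶ OO c z := Over.homMk (𝟙 _) ((Category.id_comp _).trans hw'.symm)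
  have e1 : ∀ k, f ≫ (Over.map U.hom).map (c'.π.app k) = pr c z k ≫ e k := fun k =>
    Over.OverMorphism.ext ((Category.id_comp _).trans (Category.comp_id _).symm)
  have e2 : ∀ k, f' ≫ pr c z k = (Over.map U.hom).map (c'.π.app k) ≫ e' k := fun k =>
    Over.OverMorphism.ext ((Category.id_comp _).trans (Category.comp_id _).symm)
  refine ⟨fun x => ?_, fun k y y' h => ?_⟩
  · obtain ⟨k, w, hw⟩ := Types.jointly_surjective_of_isColimit hcol (F.map f'.op x)
    refine ⟨k.unop, F.map (e k.unop).op w, ?_⟩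
    have hwx : F.map ((Over.map U.hom).map (c'.π.app k.unop)).op w = F.map f'.op x := hw
    rw [pmap_comp, ← pmap_congr F (e1 k.unop), ← pmap_comp]
    refine (congrArg (F.map f.op) hwx).trans ((pmap_comp F f f' x).trans ((pmap_congr F
      (show f ≫ f' = 𝟙 _ from Over.OverMorphism.ext (Category.id_comp _)) x).trans ?_))
    exact Functor.map_id_apply F (op (OO c z)) x
  · have h' := congrArg (F.map f'.op) h
    rw [pmap_comp, pmap_comp, pmap_congr F (e2 k), ← pmap_comp, pmap_congr F (e2 k), ← pmap_comp] at h'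
    obtain ⟨l, φ, hl⟩ := (Types.FilteredColimit.isColimit_eq_iff' hcol (i := op k)
      (F.map (e' k).op y) (F.map (e' k).op y')).1 h'
    refine ⟨l.unop, φ.unop, ?_⟩
    have hl' : F.map ((Over.map U.hom).map (D'.map φ.unop)).op (F.map (e' k).op y) =
        F.map ((Over.map U.hom).map (D'.map φ.unop)).op (F.map (e' k).op y') := hl
    have he : e l.unop ≫ (Over.map U.hom).map (D'.map φ.unop) ≫ e' k = (stageOver D z).map φ.unop :=
      Over.OverMorphism.ext ((Category.id_comp _).trans (Category.comp_id _))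
    have hl'' := congrArg (F.map (e l.unop).op) hl'
    rw [pmap_comp, pmap_comp, pmap_comp, pmap_comp, pmap_congr F ((Category.assoc _ _ _).trans he),
      pmap_congr F ((Category.assoc _ _ _).trans he)] at hl''
    exact hl''

/-- covering the stages -/
theorem isSheafFor_stage {F : PSp S} (hF : Presheaf.IsSheaf (AlgSp.J S) F) {κ : Type u} {Za : κ → Scheme.{u}}
    (za : ∀ a, Za a ⟶ (D.obj i).left) (hfl : ∀ a, Flat (za a)) (hfp : ∀ a, LocallyOfFinitePresentation (za a))
    (hs : ∀ t, ∃ a, t ∈ Set.range (za a)) (k : Over i) :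
    (Presieve.ofArrows (fun a => (stageOver D (za a)).obj k) fun a => stageOverSnd D (za a) k).IsSheafFor F := by
  have sq := fun a => H8Lim.isPullback_stage (D ⋙ Over.forget S) (za a) k
  have : ∀ a, Flat (stageOverSnd D (za a) k).left := fun a => MorphismProperty.of_isPullback (sq a) (hfl a)
  have : ∀ a, LocallyOfFinitePresentation (stageOverSnd D (za a) k).left := fun a =>
    MorphismProperty.of_isPullback (sq a) (hfp a)
  refine (Presieve.isSheafFor_iff_generate _).2
    ((isSheaf_iff_isSheaf_of_type _ _).1 hF _ (ofArrows_mem_J _ fun t => ?_))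
  obtain ⟨a, w, hw⟩ := hs ((D.map k.hom).left t)
  obtain ⟨p, -, hp⟩ := Scheme.Pullback.exists_preimage_pullback w t hw
  exact ⟨a, p, hp⟩

/-- covering the limit -/
theorem isSheafFor_limit {F : PSp S} (hF : Presheaf.IsSheaf (AlgSp.J S) F) {κ : Type u} {Za : κ → Scheme.{u}}
    (za : ∀ a, Za a ⟶ (D.obj i).left) (hfl : ∀ a, Flat (za a)) (hfp : ∀ a, LocallyOfFinitePresentation (za a))
    (hs : ∀ t, ∃ a, t ∈ Set.range (za a)) :
    (Presieve.ofArrows (fun a => OO c (za a)) fun a => ee c (za a)).IsSheafFor F := by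
  have : ∀ a, Flat (ee c (za a)).left := fun a => MorphismProperty.of_isPullback (sqz c (za a)) (hfl a)
  have : ∀ a, LocallyOfFinitePresentation (ee c (za a)).left := fun a =>
    MorphismProperty.of_isPullback (sqz c (za a)) (hfp a)
  refine (Presieve.isSheafFor_iff_generate _).2
    ((isSheaf_iff_isSheaf_of_type _ _).1 hF _ (ofArrows_mem_J _ fun t => ?_))
  obtain ⟨a, w, hw⟩ := hs ((c.π.app i).left t)
  obtain ⟨p, -, hp⟩ := Scheme.Pullback.exists_preimage_pullback w t hw
  exact ⟨a, p, hp⟩

variable {z} {Z' : Scheme.{u}} {z' : Z' ⟶ (D.obj i).left} (h : Z' ⟶ Z) (w : h ≫ z = z')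

/-- functoriality of the stages -/
def stMap (k : Over i) : (stageOver D z').obj k ⟶ (stageOver D z).obj k :=
  Over.homMk (pullback.lift (pullback.fst _ _ ≫ h) (pullback.snd _ _)
      (by rw [Category.assoc, w]; exact pullback.condition))
    (by
      show pullback.lift _ _ _ ≫ pullback.snd _ _ ≫ (D.obj k.left).hom = pullback.snd _ _ ≫ (D.obj k.left).hom
      rw [pullback.lift_snd_assoc])

theorem stMap_snd (k : Over i) : stMap h w k ≫ stageOverSnd D z k = stageOverSnd D z' k :=
  Over.OverMorphism.ext (pullback.lift_snd _ _ _)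

theorem stMap_nat {k l : Over i} (φ : k ⟶ l) :
    (stageOver D z').map φ ≫ stMap h w l = stMap h w k ≫ (stageOver D z).map φ := by
  apply Over.OverMorphism.ext
  simp only [Over.comp_left, stMap, stageOver, Over.homMk_left, H8Lim.stage, H8Lim.stageTrans]
  apply pullback.hom_ext <;> simp

/-- functoriality of the pieces over the limit -/
def ptMap : OO c z' ⟶ OO c z :=
  Over.homMk (pullback.lift (pullback.fst _ _ ≫ h) (pullback.snd _ _)
      (by rw [Category.assoc, w]; exact pullback.condition))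
    (by
      show pullback.lift _ _ _ ≫ pullback.snd _ _ ≫ c.pt.hom = pullback.snd _ _ ≫ c.pt.hom
      rw [pullback.lift_snd_assoc])

theorem ptMap_ee : ptMap c h w ≫ ee c z = ee c z' := Over.OverMorphism.ext (pullback.lift_snd _ _ _)

theorem ptMap_pr (k : Over i) : ptMap c h w ≫ pr c z k = pr c z' k ≫ stMap h w k := by
  have f1 := schemeStageCone_fst c z (pullback.fst z (c.π.app i).left) (ee c z) (sqz c z) k
  have f2 := schemeStageCone_fst c z' (pullback.fst z' (c.π.app i).left) (ee c z') (sqz c z') k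
  have s1 := schemeStageCone_snd c z (pullback.fst z (c.π.app i).left) (ee c z) (sqz c z) k
  have s2 := schemeStageCone_snd c z' (pullback.fst z' (c.π.app i).left) (ee c z') (sqz c z') k
  apply Over.OverMorphism.ext
  apply pullback.hom_ext
  · show ((ptMap c h w).left ≫ (pr c z k).left) ≫ H8Lim.stageFst (D ⋙ Over.forget S) z k =
      ((pr c z' k).left ≫ (stMap h w k).left) ≫ H8Lim.stageFst (D ⋙ Over.forget S) z k
    have e1 : (ptMap c h w).left ≫ pullback.fst z (c.π.app i).left = pullback.fst z' (c.π.app i).left ≫ h :=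
      pullback.lift_fst _ _ _
    have e2 : (stMap h w k).left ≫ H8Lim.stageFst (D ⋙ Over.forget S) z k =
        H8Lim.stageFst (D ⋙ Over.forget S) z' k ≫ h := pullback.lift_fst _ _ _
    exact (Category.assoc _ _ _).trans ((congrArg (_ ≫ ·) f1).trans (e1.trans ((congrArg (· ≫ h) f2.symm).trans
      ((Category.assoc _ _ _).trans ((congrArg (_ ≫ ·) e2.symm).trans (Category.assoc _ _ _).symm)))))
  · show ((ptMap c h w).left ≫ (pr c z k).left) ≫ H8Lim.stageSnd (D ⋙ Over.forget S) z k =
      ((pr c z' k).left ≫ (stMap h w k).left) ≫ H8Lim.stageSnd (D ⋙ Over.forget S) z k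
    have e1 : (ptMap c h w).left ≫ (ee c z).left = (ee c z').left := pullback.lift_snd _ _ _
    have e2 : (stMap h w k).left ≫ H8Lim.stageSnd (D ⋙ Over.forget S) z k =
        H8Lim.stageSnd (D ⋙ Over.forget S) z' k := pullback.lift_snd _ _ _
    exact (Category.assoc _ _ _).trans ((congrArg (_ ≫ ·) s1).trans ((Category.assoc _ _ _).symm.trans
      ((congrArg (· ≫ _) e1).trans (s2.symm.trans ((congrArg (_ ≫ ·) e2.symm).trans (Category.assoc _ _ _).symm)))))

end

/-- Let `F` be an fppf sheaf of sets on schemes over `S` and `{U_j ⟶ S}` an fppf covering (flat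
morphisms locally of finite presentation, jointly surjective). If the restriction of `F` to schemes
over each `U_j` is limit preserving, then `F` is limit preserving. -/
theorem result (S : Scheme.{u}) (F : AlgSp.PSp S)
    (hF : Presheaf.IsSheaf (AlgSp.J S) F) {ι : Type u} (U : ι → Over S)
    (hfl : ∀ j, Flat (U j).hom) (hfp : ∀ j, LocallyOfFinitePresentation (U j).hom)
    (hsurj : ∀ s : ↥S, ∃ (j : ι) (x : ↥(U j).left), (U j).hom.base x = s)
    (hloc : ∀ j, AlgSp.IsLimitPreserving (S := (U j).left) ((Over.map (U j).hom).op ⋙ F)) :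
    AlgSp.IsLimitPreserving F := by
  intro I _ _ D c hc hD hT
  refine ⟨Types.FilteredColimit.isColimitOf' _ _ (fun x => ?_) (fun io x x' hxx => ?_)⟩
  · obtain ⟨i⟩ := IsCofiltered.nonempty (C := I)
    have := hD i
    obtain ⟨κ, _, jj, Za, za, g, hZ, hzf, hzp, hzs⟩ := exists_pieces U hfl hfp hsurj (D.obj i)
    have h1 : ∀ a, ∃ (k : CategoryTheory.Over i) (y : F.obj (op ((stageOver D (za a)).obj k))),
        F.map (pr c (za a) k).op y = F.map (ee c (za a)).op x := fun a =>
      have := hZ a
      (piece_colim c hc hD hT (za a) (hloc (jj a)) (g a)).1 _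
    choose k y hy using h1
    classical
    have := Fintype.ofFinite κ
    obtain ⟨k₁, hk₁⟩ := IsCofiltered.inf_objs_exists (Finset.univ.image k)
    have ψ : ∀ a, k₁ ⟶ k a := fun a => (hk₁ (Finset.mem_image_of_mem k (Finset.mem_univ a))).some
    obtain ⟨y₁, hy₁⟩ : ∃ y₁ : ∀ a, F.obj (op ((stageOver D (za a)).obj k₁)),
        ∀ a, F.map (pr c (za a) k₁).op (y₁ a) = F.map (ee c (za a)).op x :=
      ⟨fun a => F.map ((stageOver D (za a)).map (ψ a)).op (y a), fun a =>
        (pmap_comp F _ _ _).trans ((pmap_congr F ((stageOverCone c (za a) _ _ (sqz c (za a))).w (ψ a)) _).trans (hy a))⟩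
    let zab : ∀ p : κ × κ, pullback (za p.1) (za p.2) ⟶ (D.obj i).left := fun p => pullback.fst _ _ ≫ za p.1
    let m₁ : ∀ (p : κ × κ) (k : CategoryTheory.Over i), (stageOver D (zab p)).obj k ⟶ (stageOver D (za p.1)).obj k :=
      fun p k => stMap (pullback.fst _ _) rfl k
    let m₂ : ∀ (p : κ × κ) (k : CategoryTheory.Over i), (stageOver D (zab p)).obj k ⟶ (stageOver D (za p.2)).obj k :=
      fun p k => stMap (pullback.snd _ _) pullback.condition.symm k
    have h2 : ∀ p : κ × κ, ∃ (l : CategoryTheory.Over i) (φ : l ⟶ k₁),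
        F.map ((stageOver D (zab p)).map φ).op (F.map (m₁ p k₁).op (y₁ p.1)) =
          F.map ((stageOver D (zab p)).map φ).op (F.map (m₂ p k₁).op (y₁ p.2)) := fun p => by
      have := hZ p.1; have := hZ p.2
      refine (piece_colim c hc hD hT (zab p) (hloc (jj p.1))
        ((Over.homMk (pullback.fst _ _) (Category.assoc _ _ _).symm :
          Over.mk (zab p ≫ (D.obj i).hom) ⟶ Over.mk (za p.1 ≫ (D.obj i).hom)) ≫ g p.1)).2 k₁ _ _ ?_
      rw [pmap_comp, pmap_comp, pmap_congr F (ptMap_pr c (pullback.fst _ _) rfl k₁).symm,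
        pmap_congr F (ptMap_pr c (pullback.snd _ _) pullback.condition.symm k₁).symm,
        ← pmap_comp, ← pmap_comp F (ptMap c (pullback.snd _ _) pullback.condition.symm), hy₁, hy₁, pmap_comp,
        pmap_comp, pmap_congr F (ptMap_ee c (pullback.fst (za p.1) (za p.2)) rfl),
        pmap_congr F (ptMap_ee c (pullback.snd (za p.1) (za p.2)) pullback.condition.symm)]
    choose l φ hl using h2
    let G : κ × κ → ({k₁} : Finset _) → CategoryTheory.Over i := fun _ q => q.1
    obtain ⟨k₂, ψ₂, hk₂⟩ : ∃ (k₂ : CategoryTheory.Over i) (ψ₂ : k₂ ⟶ k₁), ∀ p, ∃ χ : k₂ ⟶ l p, χ ≫ φ p = ψ₂ := by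
      let H : Finset (Σ' (X Y : CategoryTheory.Over i) (_ : X ∈ insert k₁ (Finset.univ.image l))
          (_ : Y ∈ insert k₁ (Finset.univ.image l)), X ⟶ Y) :=
        Finset.univ.image fun p => ⟨l p, k₁, Finset.mem_insert_of_mem (Finset.mem_image_of_mem l (Finset.mem_univ p)),
          Finset.mem_insert_self _ _, φ p⟩
      obtain ⟨k₂, T, hT⟩ := IsCofiltered.inf_exists (insert k₁ (Finset.univ.image l)) H
      exact ⟨k₂, T (Finset.mem_insert_self _ _), fun p => ⟨_, hT (Finset.mem_insert_of_mem
        (Finset.mem_image_of_mem l (Finset.mem_univ p))) _ (Finset.mem_image_of_mem _ (Finset.mem_univ p))⟩⟩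
    choose χ hχ using hk₂
    obtain ⟨y₂, hy₂⟩ : ∃ y₂ : ∀ a, F.obj (op ((stageOver D (za a)).obj k₂)),
        ∀ a, y₂ a = F.map ((stageOver D (za a)).map ψ₂).op (y₁ a) := ⟨_, fun a => rfl⟩
    obtain ⟨t, ht, -⟩ := (Presieve.isSheafFor_arrows_iff _ _).1 (isSheafFor_stage hF za hzf hzp hzs k₂) y₂
      (fun a b W u v e => by
        have e' : u.left ≫ pullback.snd (za a) ((D ⋙ Over.forget S).map k₂.hom) =
            v.left ≫ pullback.snd (za b) ((D ⋙ Over.forget S).map k₂.hom) := congrArg (fun m => m.left) e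
        let r₀ := pullback.lift (u.left ≫ pullback.fst (za a) ((D ⋙ Over.forget S).map k₂.hom))
          (v.left ≫ pullback.fst (za b) ((D ⋙ Over.forget S).map k₂.hom))
          (by rw [Category.assoc, Category.assoc, pullback.condition, pullback.condition, ← Category.assoc, e',
            Category.assoc])
        let r : W ⟶ (stageOver D (zab (a, b))).obj k₂ :=
          Over.homMk (pullback.lift r₀ (u.left ≫ pullback.snd _ _) (by
              show r₀ ≫ pullback.fst _ _ ≫ za a = _
              rw [pullback.lift_fst_assoc, Category.assoc, Category.assoc, pullback.condition])) (by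
            show pullback.lift _ _ _ ≫ pullback.snd _ _ ≫ (D.obj k₂.left).hom = W.hom
            rw [pullback.lift_snd_assoc, Category.assoc]
            exact Over.w u)
        have hr1 : r ≫ m₁ (a, b) k₂ = u := by
          apply Over.OverMorphism.ext
          apply pullback.hom_ext
          · show (pullback.lift r₀ _ _ ≫ pullback.lift _ _ _) ≫ pullback.fst _ _ = _
            rw [Category.assoc, pullback.lift_fst, ← Category.assoc, pullback.lift_fst]
            exact pullback.lift_fst _ _ _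
          · show (pullback.lift r₀ _ _ ≫ pullback.lift _ _ _) ≫ pullback.snd _ _ = _
            rw [Category.assoc, pullback.lift_snd]
            exact pullback.lift_snd _ _ _
        have hr2 : r ≫ m₂ (a, b) k₂ = v := by
          apply Over.OverMorphism.ext
          apply pullback.hom_ext
          · show (pullback.lift r₀ _ _ ≫ pullback.lift _ _ _) ≫ pullback.fst _ _ = _
            rw [Category.assoc, pullback.lift_fst, ← Category.assoc, pullback.lift_fst]
            exact pullback.lift_snd _ _ _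
          · show (pullback.lift r₀ _ _ ≫ pullback.lift _ _ _) ≫ pullback.snd _ _ = _
            rw [Category.assoc, pullback.lift_snd]
            exact (pullback.lift_snd _ _ _).trans e'
        have key : F.map (m₁ (a, b) k₂).op (y₂ a) = F.map (m₂ (a, b) k₂).op (y₂ b) := by
          rw [hy₂, hy₂]
          rw [pmap_comp, pmap_comp, pmap_congr F (stMap_nat (pullback.fst _ _) rfl ψ₂).symm,
            pmap_congr F (stMap_nat (pullback.snd _ _) pullback.condition.symm ψ₂).symm,
            ← pmap_comp, ← pmap_comp, ← hχ (a, b), Functor.map_comp, ← pmap_comp, ← pmap_comp]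
          exact congrArg _ (hl (a, b))
        rw [← hr1, ← hr2, ← pmap_comp, ← pmap_comp, key])
    refine ⟨op k₂.left, t, ?_⟩
    show x = F.map (c.π.app k₂.left).op t
    refine (isSheafFor_limit c hF za hzf hzp hzs).isSeparatedFor.ext fun Y f hf => ?_
    obtain ⟨a⟩ := hf
    refine Eq.trans ?_ (((pmap_comp F _ _ t).trans (pmap_congr F
      (stageOverProj_snd c (za a) _ (ee c (za a)) (sqz c (za a)) k₂) t)).trans (pmap_comp F _ _ t).symm)
    rw [ht, hy₂, pmap_comp]
    exact (hy₁ a).symm.trans (pmap_congr F ((stageOverCone c (za a) _ _ (sqz c (za a))).w ψ₂) _).symm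
  · obtain ⟨i, rfl⟩ : ∃ i, op i = io := ⟨io.unop, rfl⟩
    have := hD i
    obtain ⟨κ, _, jj, Za, za, g, hZ, hzf, hzp, hzs⟩ := exists_pieces U hfl hfp hsurj (D.obj i)
    let k₀ : CategoryTheory.Over i := CategoryTheory.Over.mk (𝟙 i)
    have h1 : ∀ a, ∃ (l : CategoryTheory.Over i) (φ : l ⟶ k₀),
        F.map ((stageOver D (za a)).map φ).op (F.map (stageOverSnd D (za a) k₀).op x) =
          F.map ((stageOver D (za a)).map φ).op (F.map (stageOverSnd D (za a) k₀).op x') := fun a => by
      have := hZ a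
      refine (piece_colim c hc hD hT (za a) (hloc (jj a)) (g a)).2 k₀ _ _ ?_
      rw [pmap_comp, pmap_comp, pmap_congr F (stageOverProj_snd c (za a) _ (ee c (za a)) (sqz c (za a)) k₀),
        pmap_congr F (stageOverProj_snd c (za a) _ (ee c (za a)) (sqz c (za a)) k₀), ← pmap_comp, ← pmap_comp]
      exact congrArg _ hxx
    choose l φ hl using h1
    classical
    have := Fintype.ofFinite κ
    obtain ⟨k₂, hk₂⟩ := IsCofiltered.inf_objs_exists (insert k₀ (Finset.univ.image l))
    have χ : ∀ a, k₂ ⟶ l a := fun a =>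
      (hk₂ (Finset.mem_insert_of_mem (Finset.mem_image_of_mem l (Finset.mem_univ a)))).some
    refine ⟨op k₂.left, k₂.hom.op, ?_⟩
    show F.map (D.map k₂.hom).op x = F.map (D.map k₂.hom).op x'
    refine (isSheafFor_stage hF za hzf hzp hzs k₂).isSeparatedFor.ext fun Y f hf => ?_
    obtain ⟨a⟩ := hf
    have hh : (χ a).left ≫ (φ a).left = k₂.hom := by
      have hw := CategoryTheory.Over.w (χ a ≫ φ a)
      simpa [k₀] using hw
    have e : stageOverSnd D (za a) k₂ ≫ D.map k₂.hom =
        ((stageOver D (za a)).map (χ a) ≫ (stageOver D (za a)).map (φ a)) ≫ stageOverSnd D (za a) k₀ := by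
      rw [← Functor.map_comp, stageOver_map_snd]
      exact congrArg (fun m => stageOverSnd D (za a) k₂ ≫ D.map m) hh.symm
    rw [pmap_comp, pmap_comp, pmap_congr F e, pmap_congr F e, ← pmap_comp, ← pmap_comp, ← pmap_comp, ← pmap_comp]
    exact congrArg _ (hl a)

end Groth.Agent.S10030
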