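import Groth.Statements.S10061
import Groth.Agent.AlgSpLib.LimitOverFinite
-- import your own Groth.Agent.* helpers here

set_option autoImplicit false
universe u
open CategoryTheory CategoryTheory.Limits AlgebraicGeometry
open AlgSp

namespace Groth.Agent.S10061

open Groth.Agent.AlgSpLib

/-- Let `S` be a quasi-separated scheme, `Y` an algebraic space over `S` which is quasi-compact and
quasi-separated over `S`, and `X` the limit, in fppf sheaves, of a cofiltered system `(X_i)` of
algebraic spaces over `Y`, each quasi-compact and quasi-separated over `S`, whose transition maps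
are finite. If each `X_i ⟶ Y` is locally of finite type and `X ⟶ Y` is integral, then `X_i ⟶ Y` is
finite for all `i` mapping to some `i₀`. (The published statement allows any base scheme and uses
absolute quasi-separatedness; this row assumes the base quasi-separated, over which
quasi-separatedness relative to the base is the absolute notion.) -/
theorem result (S : Scheme.{u}) [QuasiSeparatedSpace S] {I : Type u} [SmallCategory I] [IsCofiltered I]
    (Y : AlgSp.Space S) (D : I ⥤ AlgSp.Sp S) (hD : ∀ i, AlgSp.IsAlgSpace (D.obj i))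
    (t : D ⟶ (Functor.const I).obj Y.obj)
    (hDf : ∀ (i j : I) (φ : i ⟶ j), AlgSp.IsFiniteMor (D.map φ))
    (c : Cone D) (hc : IsLimit c) (g : c.pt ⟶ Y.obj) (hg : ∀ i, c.π.app i ≫ t.app i = g)
    (hqc : ∀ i, AlgSp.IsQuasiCompactSp (D.obj i)) (hqs : ∀ i, AlgSp.IsQuasiSeparatedSp (D.obj i))
    (hYqc : AlgSp.IsQuasiCompactSp Y.obj) (hYqs : AlgSp.IsQuasiSeparatedSp Y.obj)
    (hft : ∀ i, AlgSp.LocP @LocallyOfFiniteType (t.app i)) (hX : AlgSp.IsIntegralMor g) :
    ∃ i₀ : I, ∀ (i : I) (_ : i ⟶ i₀), AlgSp.IsFiniteMor (t.app i) := by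
  have hfa : ∀ {F G : AlgSp.Sp S} {q : F ⟶ G}, AlgSp.IsFiniteMor q → AlgSp.IsAffineMor q := fun h Z hZ z => by
    obtain ⟨W, w, fst, sq, hW, -⟩ := h hZ z
    exact ⟨W, w, fst, sq, hW⟩
  have hDa : ∀ (i j : I) (φ : i ⟶ j), AlgSp.IsAffineMor (D.map φ) := fun i j φ => hfa (hDf i j φ)
  have hga : AlgSp.IsAffineMor g := fun Z hZ z => by
    obtain ⟨W, w, fst, sq, hW, -⟩ := hX hZ z
    exact ⟨W, w, fst, sq, hW⟩
  obtain ⟨o, ho⟩ := LimitOver.exists_stage_isAffineMor Y.property hYqc hYqs hD hDa c hc g hg hqc hqs hga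
  obtain ⟨B, p, E, cE, f, finf, η, θ, hcE, hB, hpe, hps, hE, hf, hfi, hnat, hsq, hsqi⟩ :=
    LimitOver.exists_affine_system Y.property hYqc hDa c hc g hg o (ho o (𝟙 o))
  haveI := hB
  haveI : ∀ j, IsAffine ((E ⋙ Over.forget S).obj j) := hE
  let top : Over o := Over.mk (𝟙 o)
  haveI : @LocallyOfFiniteType ((E ⋙ Over.forget S).obj top) B.left (f top).left :=
    hft o (η top) p (f top) (RepWith.baseChange (hsq top).flip hpe) hpe (hsq top).w
  haveI : @IsIntegralHom ((Over.forget S).mapCone cE).pt B.left finf.left := ((isIntegralMor_iff_repWith g).1 hX).2 _ _ _ hsqi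
  obtain ⟨j, hj⟩ := LimitOver.exists_stage_isFinite (E := E ⋙ Over.forget S) hcE
    (fun k => (f k).left) (fun φ => congrArg (fun m => m.left) (hf φ)) finf.left
    (fun k => congrArg (fun m => m.left) (hfi k)) top
    (fun {a b} φ => ((isFiniteMor_iff_repWith _).1 (hDf _ _ φ.left)).2 _ _ _ (hnat φ).flip)
  refine ⟨j.left, fun i φ => ?_⟩
  let k : Over o := Over.mk (φ ≫ j.hom)
  haveI := isLocallySurjective_of_etale hpe hps
  rw [isFiniteMor_iff_repWith]
  exact repWith_of_isLocallySurjective ((isAffineMor_iff_repWith _).1 (ho i (φ ≫ j.hom))).1 p (hsq k) _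
    ((AlgSp.repWith_yon_map_iff _ _).2 (hj k (Over.homMk φ rfl)))

end Groth.Agent.S10061
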