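import Groth.Statements.S10034
import Groth.Agent.AlgSpLib.VCartClosed
import Groth.Agent.AlgSpLib.DirectedRestrict
import Groth.Agent.AlgSpLib.FpqcBaseAffine2
import Groth.Agent.AlgSpLib.LocP
import Groth.Agent.S10035
import Groth.Agent.S10061
-- import your own Groth.Agent.* helpers here

set_option autoImplicit false
universe u
open CategoryTheory CategoryTheory.Limits AlgebraicGeometry
open AlgSp

namespace Groth.Agent.S10034

open Groth.Agent.AlgSpLib Groth.Agent.AlgSpLib.LimitSep

/-- Let `Y` be an algebraic space, quasi-compact and quasi-separated over the scheme `S`, and `f : X ⟶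
Y` a finite morphism from another algebraic space. Then `X` is the limit of a directed system of
algebraic spaces `X_i`, each finite and of finite presentation over `Y`, whose transition maps are
closed immersions (limit in fppf sheaves, indexed by a nonempty directed preorder, compatible with
`f`). (The published statement allows any base scheme and uses absolute quasi-separatedness; this
row assumes the base quasi-separated, over which quasi-separatedness relative to the base is the
absolute notion.) -/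
theorem result (S : Scheme.{u}) [QuasiSeparatedSpace S]
    {X Y : AlgSp.Space S} (f : X ⟶ Y) (hf : AlgSp.IsFiniteMor f.hom) (hYqc : AlgSp.IsQuasiCompactSp Y.obj) (hYqs : AlgSp.IsQuasiSeparatedSp Y.obj) :
    ∃ (I : Type u) (_ : Preorder I) (_ : IsDirected I (fun a b => a ≤ b)) (_ : Nonempty I) (D : Iᵒᵖ ⥤ AlgSp.Sp S)
      (t : D ⟶ (Functor.const Iᵒᵖ).obj Y.obj) (c : Cone D) (_ : IsLimit c) (e : c.pt ≅ X.obj),
      (∀ i, AlgSp.IsAlgSpace (D.obj i)) ∧ (∀ (i j : Iᵒᵖ) (φ : i ⟶ j), AlgSp.RepWith @IsClosedImmersion (D.map φ)) ∧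
      (∀ i, AlgSp.IsFiniteMor (t.app i) ∧ AlgSp.IsFinitePresentationMor (t.app i)) ∧ (∀ i, e.inv ≫ c.π.app i ≫ t.app i = f.hom) := by
  classical
  obtain ⟨V, π, i, hiπ, hi, hπfp, hπa, hVqc, hVqs⟩ := VCart.exists_closed_factor hf
    ((isAffineMor_iff_repWith _).1 (VCart.isAffineMor_of_finiteMor hf)).1 hYqc hYqs
  obtain ⟨I, _, hdir, hne, D, t, c, hc, e, hD, hDc, hDt, hce⟩ :=
    S10035.result S (X := X) (Y := V) (ObjectProperty.homMk i) hi hVqc hVqs
  let T : D ⟶ (Functor.const Iᵒᵖ).obj Y.obj :=
    { app := fun a => t.app a ≫ π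
      naturality := fun a b φ => by
        have h := (t.naturality φ).trans (Category.comp_id _)
        show D.map φ ≫ t.app b ≫ π = (t.app a ≫ π) ≫ 𝟙 _
        rw [Category.comp_id, ← Category.assoc, h] }
  have hcl : ∀ {F G : AlgSp.Sp S} {q : F ⟶ G}, AlgSp.RepWith @IsClosedImmersion q → AlgSp.IsFiniteMor q := fun h =>
    (isFiniteMor_iff_repWith _).2 (RepWith.mono (fun _ _ g (_ : IsClosedImmersion g) => (inferInstance : IsFinite g)) h)
  have hTfp : ∀ a, AlgSp.IsFinitePresentationMor (T.app a) := fun a =>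
    ⟨locP_comp etLocal_lfp (hD a) V.property Y.property (hDt a).2.1 hπfp.1,
      isQuasiCompactMor_comp (hD a) V.property Y.property (hDt a).2.2.1 hπfp.2.1,
      isQuasiSeparatedMor_comp (hDt a).2.2.2 hπfp.2.2⟩
  have hTa : ∀ a, AlgSp.IsAffineMor (T.app a) := fun a => (isAffineMor_iff_repWith _).2
    (RepWith.comp ((isAffineMor_iff_repWith _).1 (VCart.isAffineMor_of_finiteMor (hcl (hDt a).1)))
      ((isAffineMor_iff_repWith _).1 hπa))
  have hg : ∀ a, c.π.app a ≫ T.app a = e.hom ≫ f.hom := fun a => by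
    have h : e.inv ≫ c.π.app a ≫ t.app a = i := hce a
    show c.π.app a ≫ t.app a ≫ π = _
    rw [← hiπ, ← h]
    simp only [Category.assoc, Iso.hom_inv_id_assoc]
  have hint : AlgSp.IsIntegralMor (e.hom ≫ f.hom) := (isIntegralMor_iff_repWith _).2
    (RepWith.mono (fun _ _ g (_ : IsFinite g) => (inferInstance : IsIntegralHom g))
      (RepWith.comp (repWith_of_isIso @IsFinite e.hom) ((isFiniteMor_iff_repWith _).1 hf)))
  haveI := compactSpace_points_of_isQuasiCompactSp hYqc
  obtain ⟨B, b, hB, hbe, hbs⟩ := Groth.Agent.AlgSpLib.exists_affine_chart Y.property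
  have hqcs : ∀ a, AlgSp.IsQuasiCompactSp (D.obj a) := fun a => by
    obtain ⟨W, w, fst, sq, hW⟩ := hTa a hB b
    haveI := hW
    exact ⟨W, fst, RepWith.baseChange sq.flip hbe, RepWith.baseChange sq.flip hbs, inferInstance⟩
  obtain ⟨a₀, ha₀⟩ := S10061.result S Y D hD T (fun a b φ => hcl (hDc a b φ)) c hc (e.hom ≫ f.hom) hg hqcs
    (fun a => VCart.isQuasiSeparatedSp_of_affineMor (hTa a) hYqs) hYqc hYqs
    (fun a U W x y h hx hy hxy => by
      haveI : LocallyOfFinitePresentation h.left := (hTfp a).1 x y h hx hy hxy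
      exact (inferInstance : LocallyOfFiniteType h.left)) hint
  obtain ⟨hc'⟩ := DirRes.nonempty_isLimit_restrict c hc a₀.unop
  refine ⟨DirRes.Above a₀.unop, inferInstance, inferInstance, inferInstance, DirRes.incl a₀.unop ⋙ D,
    { app := fun a => T.app ((DirRes.incl a₀.unop).obj a)
      naturality := fun a b φ => T.naturality ((DirRes.incl a₀.unop).map φ) },
    c.whisker (DirRes.incl a₀.unop), hc', e, fun a => hD _, fun a b φ => hDc _ _ _,
    fun a => ⟨ha₀ _ (homOfLE a.unop.2).op, hTfp _⟩, fun a => ?_⟩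
  show e.inv ≫ c.π.app _ ≫ T.app _ = f.hom
  rw [hg, Iso.inv_hom_id_assoc]

end Groth.Agent.S10034
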