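import Groth.Statements.S10039
import Groth.Agent.AlgSpLib.ApproxRel
import Groth.Agent.S10032

set_option autoImplicit false
universe u
open CategoryTheory CategoryTheory.Limits AlgebraicGeometry
open AlgSp

namespace Groth.Agent.S10039

/-- Let `f : X ⟶ Y` be a morphism between algebraic spaces over `S`, where `X` is quasi-compact and
quasi-separated over `S` and `Y` is quasi-separated over `S`. Then `X` is the limit of a directed
system of algebraic spaces `X_i`, each of finite presentation over `Y`, whose transition maps are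
affine morphisms over `Y` (limit in fppf sheaves, indexed by a nonempty directed preorder,
compatible with `f`). (The published statement allows any base scheme and uses absolute
quasi-separatedness; this row assumes the base quasi-separated, over which quasi-separatedness
relative to the base is the absolute notion.) -/
theorem result (S : Scheme.{u}) [QuasiSeparatedSpace S]
    {X Y : AlgSp.Space S} (f : X ⟶ Y) (hXqc : AlgSp.IsQuasiCompactSp X.obj) (hXqs : AlgSp.IsQuasiSeparatedSp X.obj)
    (hYqs : AlgSp.IsQuasiSeparatedSp Y.obj) :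
    ∃ (I : Type u) (_ : Preorder I) (_ : IsDirected I (fun a b => a ≤ b)) (_ : Nonempty I)
      (D : Iᵒᵖ ⥤ AlgSp.Sp S) (t : D ⟶ (Functor.const Iᵒᵖ).obj Y.obj) (c : Cone D) (_ : IsLimit c) (e : c.pt ≅ X.obj),
      (∀ i, AlgSp.IsAlgSpace (D.obj i)) ∧ (∀ (i j : Iᵒᵖ) (φ : i ⟶ j), AlgSp.IsAffineMor (D.map φ)) ∧
      (∀ i, AlgSp.IsFinitePresentationMor (t.app i)) ∧ (∀ i, e.inv ≫ c.π.app i ≫ t.app i = f.hom) := by
  obtain ⟨Q, a, g, hag, ha, hg, hQc, hQs⟩ :=
    Groth.Agent.AlgSpLib.Approx.exists_affine_fp_factor f.hom hXqc hXqs hYqs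
  obtain ⟨I, x1, x2, x3, D, t, c, hc, e, hD, hDa, ht, hcomp⟩ :=
    Groth.Agent.S10032.result S (X := X) (Y := Q) (ObjectProperty.homMk a) ha hQc hQs
  refine ⟨I, x1, x2, x3, D, t ≫ (Functor.const Iᵒᵖ).map g, c, hc, e, hD, hDa, fun i => ?_, fun i => ?_⟩
  · exact Groth.Agent.AlgSpLib.AffineLftClosed.fp_comp (hD i) Q.property Y.property (ht i).2 hg
  · rw [← hag]
    show e.inv ≫ c.π.app i ≫ t.app i ≫ g = a ≫ g
    have := hcomp i
    rw [← Category.assoc (c.π.app i), ← Category.assoc, this]
    rfl

end Groth.Agent.S10039
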