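import Groth.Statements.S10040
import Groth.Agent.AlgSpLib.MorApprox
import Groth.Agent.AlgSpLib.OpenFac
import Groth.Agent.AlgSpLib.FibreDimFun
import Groth.Agent.Stk19.AlgSt.Props
import Groth.Agent.S10039

set_option autoImplicit false
universe u
open CategoryTheory CategoryTheory.Limits AlgebraicGeometry
open AlgSp
set_option linter.style.haveILetI false
set_option backward.isDefEq.respectTransparency.types false
set_option backward.isDefEq.respectTransparency false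

namespace Groth.Agent.S10040

/-- Over a terminal base scheme `S` (the spectrum of the integers), let `f : X ⟶ Y` be a morphism
between algebraic spaces each of which is quasi-compact and quasi-separated. Then `f` is a directed
limit of morphisms `f_i : X_i ⟶ Y_i`, where every `X_i` and every `Y_i` is of finite type and
quasi-separated over `S` and both systems have affine transition maps (limits in fppf sheaves,
indexed by one nonempty directed preorder, compatible with `f`). -/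
theorem result (S : Scheme.{u}) (hS : IsTerminal S) {X Y : AlgSp.Space S} (f : X ⟶ Y)
    (hXqc : AlgSp.IsQuasiCompactSp X.obj) (hXqs : AlgSp.IsQuasiSeparatedSp X.obj)
    (hYqc : AlgSp.IsQuasiCompactSp Y.obj) (hYqs : AlgSp.IsQuasiSeparatedSp Y.obj) :
    ∃ (I : Type u) (_ : Preorder I) (_ : IsDirected I (fun a b => a ≤ b)) (_ : Nonempty I)
      (DX DY : Iᵒᵖ ⥤ AlgSp.Sp S) (φ : DX ⟶ DY) (cX : Cone DX) (cY : Cone DY) (_ : IsLimit cX) (_ : IsLimit cY)
      (eX : cX.pt ≅ X.obj) (eY : cY.pt ≅ Y.obj),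
      (∀ i, AlgSp.IsAlgSpace (DX.obj i) ∧ AlgSp.IsAlgSpace (DY.obj i)) ∧
      (∀ (i j : Iᵒᵖ) (g : i ⟶ j), AlgSp.IsAffineMor (DX.map g) ∧ AlgSp.IsAffineMor (DY.map g)) ∧
      (∀ i, AlgSp.IsQuasiSeparatedSp (DX.obj i) ∧ AlgSp.IsQuasiSeparatedSp (DY.obj i) ∧
        (∀ q : DX.obj i ⟶ (AlgSp.yon S).obj (Over.mk (𝟙 S)), AlgSp.IsFiniteTypeMor q) ∧
        (∀ q : DY.obj i ⟶ (AlgSp.yon S).obj (Over.mk (𝟙 S)), AlgSp.IsFiniteTypeMor q)) ∧
      (∀ i, cX.π.app i ≫ φ.app i = eX.hom ≫ f.hom ≫ eY.inv ≫ cY.π.app i) := by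
  classical
  haveI : IsAffine S := IsAffine.of_isIso (hS.uniqueUpToIso specULiftZIsTerminal).hom
  haveI : CompactSpace ↥(Over.mk (𝟙 S)).left := inferInstanceAs (CompactSpace ↥S)
  let T : AlgSp.Space S := (AlgSp.ofScheme S).obj (Over.mk (𝟙 S))
  have hT : IsTerminal T.obj := IsTerminal.isTerminalObj (AlgSp.yon S) _ Over.mkIdTerminal
  have hTc : AlgSp.IsQuasiCompactSp T.obj := Groth.Agent.Stk19.isQuasiCompactSp_yon (Over.mk (𝟙 S))
  have hTs : AlgSp.IsQuasiSeparatedSp T.obj := (Groth.Agent.AlgSpLib.isQuasiSeparatedMor_iff_sp (𝟙 T.obj)).1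
    (Groth.Agent.AlgSpLib.isQuasiSeparatedMor_of_isSeparatedMor (Groth.Agent.AlgSpLib.isSeparatedMor_of_mono _))
  obtain ⟨A, _, _, _, DX, tX, cX, hcX, eX, hDX, hDXa, hXfp, -⟩ :=
    Groth.Agent.S10039.result S (X := X) (Y := T) (ObjectProperty.homMk (hT.from _)) hXqc hXqs hTs
  obtain ⟨B, _, _, _, DY, tY, cY, hcY, eY, hDY, hDYa, hYfp, -⟩ :=
    Groth.Agent.S10039.result S (X := Y) (Y := T) (ObjectProperty.homMk (hT.from _)) hYqc hYqs hTs
  have hsp : ∀ {F : AlgSp.Sp S} (_ : AlgSp.IsAlgSpace F) {r : F ⟶ T.obj}, AlgSp.IsFinitePresentationMor r →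
      AlgSp.IsQuasiSeparatedSp F ∧ AlgSp.IsQuasiCompactSp F ∧
        (∀ q : F ⟶ T.obj, AlgSp.LocP @LocallyOfFinitePresentation q) ∧
        (∀ q : F ⟶ T.obj, AlgSp.IsFiniteTypeMor q) := fun {F} hF {r} hr =>
    ⟨(Groth.Agent.AlgSpLib.isQuasiSeparatedMor_iff_sp r).1 hr.2.2,
      Groth.Agent.AlgSpLib.OpenFac.isQuasiCompactSp_of_mor hF T.property hr.2.1 hTc,
      fun q => hT.hom_ext r q ▸ hr.1,
      fun q => hT.hom_ext r q ▸ ⟨Groth.Agent.AlgSpLib.locP_lft_of_lfp hr.1, hr.2.1⟩⟩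
  obtain ⟨R, hR, hRa, hRb⟩ := Groth.Agent.AlgSpLib.MorApprox.exists_system (cX := cX) (cY := cY)
    (v := eX.hom ≫ f.hom ≫ eY.inv) hDX hDXa (fun i => (hsp (hDX i) (hXfp i)).2.1)
    (fun i => (hsp (hDX i) (hXfp i)).1) hcX hDY (fun i => (hsp (hDY i) (hYfp i)).2.2.1)
  have hα : Monotone fun F => (R F).a := fun F G h => (hR F G h).1
  have hβ : Monotone fun F => (R F).b := fun F G h => (hR F G h).2.1
  haveI : hα.functor.Final := hα.final_functor_iff.2 fun a => ⟨{Sum.inl a}, hRa a⟩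
  haveI : hβ.functor.Final := hβ.final_functor_iff.2 fun b => ⟨{Sum.inr b}, hRb b⟩
  let φ : hα.functor.op ⋙ DX ⟶ hβ.functor.op ⋙ DY :=
    { app := fun F => (R F.unop).g
      naturality := fun F G k => by
        obtain ⟨h₁, h₂, e⟩ := hR G.unop F.unop k.unop.le
        exact e }
  refine ⟨Finset (A ⊕ B), inferInstance, inferInstance, inferInstance, hα.functor.op ⋙ DX, hβ.functor.op ⋙ DY, φ,
    cX.whisker hα.functor.op, cY.whisker hβ.functor.op,
    (Functor.Initial.isLimitWhiskerEquiv hα.functor.op cX).symm hcX,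
    (Functor.Initial.isLimitWhiskerEquiv hβ.functor.op cY).symm hcY, eX, eY, fun i => ⟨hDX _, hDY _⟩,
    fun i j g => ⟨hDXa _ _ _, hDYa _ _ _⟩,
    fun i => ⟨(hsp (hDX _) (hXfp _)).1, (hsp (hDY _) (hYfp _)).1, (hsp (hDX _) (hXfp _)).2.2.2,
      (hsp (hDY _) (hYfp _)).2.2.2⟩, fun i => ?_⟩
  have e := (R i.unop).w
  simp only [Category.assoc] at e
  exact e

end Groth.Agent.S10040
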