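import Groth.Statements.S10041
import Groth.Agent.AlgSpLib.ApproxSep
import Groth.Agent.S10277
import Groth.Agent.S10276

set_option autoImplicit false
universe u
open CategoryTheory CategoryTheory.Limits AlgebraicGeometry
open AlgSp
set_option backward.isDefEq.respectTransparency.types false
set_option backward.isDefEq.respectTransparency false

namespace Groth.Agent.S10041

/-- Let `Y` be an algebraic space, quasi-compact and quasi-separated over the scheme `S`, and `f : X ⟶
Y` a proper morphism from another algebraic space. Then `X` is the limit of a directed system of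
algebraic spaces `X_i`, each proper and of finite presentation over `Y`, in which the transition
maps and the projections `X ⟶ X_i` are closed immersions (limit in fppf sheaves, indexed by a
nonempty directed preorder, compatible with `f`). (The published statement allows any base scheme
and uses absolute quasi-separatedness; this row assumes the base quasi-separated, over which
quasi-separatedness relative to the base is the absolute notion.) -/
theorem result (S : Scheme.{u}) [QuasiSeparatedSpace S]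
    {X Y : AlgSp.Space S} (f : X ⟶ Y) (hf : AlgSp.IsProperMor f.hom) (hYqc : AlgSp.IsQuasiCompactSp Y.obj) (hYqs : AlgSp.IsQuasiSeparatedSp Y.obj) :
    ∃ (I : Type u) (_ : Preorder I) (_ : IsDirected I (fun a b => a ≤ b)) (_ : Nonempty I) (D : Iᵒᵖ ⥤ AlgSp.Sp S)
      (t : D ⟶ (Functor.const Iᵒᵖ).obj Y.obj) (c : Cone D) (_ : IsLimit c) (e : c.pt ≅ X.obj),
      (∀ i, AlgSp.IsAlgSpace (D.obj i)) ∧ (∀ (i j : Iᵒᵖ) (φ : i ⟶ j), AlgSp.RepWith @IsClosedImmersion (D.map φ)) ∧
      (∀ i, AlgSp.RepWith @IsClosedImmersion (c.π.app i)) ∧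
      (∀ i, AlgSp.IsProperMor (t.app i) ∧ AlgSp.IsFinitePresentationMor (t.app i)) ∧
      (∀ i, e.inv ≫ c.π.app i ≫ t.app i = f.hom) := by
  obtain ⟨hsep, hft, huc⟩ := hf
  obtain ⟨I, _, _, _, D, t, c, hc, e, hD, hDc, hπ, ht, hcomp⟩ :=
    Groth.Agent.AlgSpLib.Approx.exists_closed_system f.hom hft hsep hYqc hYqs
  have hg : ∀ i, c.π.app i ≫ t.app i = e.hom ≫ f.hom := fun i => (Iso.inv_comp_eq e).1 (hcomp i)
  have hpe : AlgSp.IsProperMor (e.hom ≫ f.hom) :=
    Groth.Agent.AlgSpLib.isProperMor_comp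
      (Groth.Agent.AlgSpLib.isAlgSpace_limit D hD (fun i j φ => Groth.Agent.AlgSpLib.isAffineMor_of_closedImmersion (hDc i j φ)) c hc)
      X.property Y.property
      (Groth.Agent.S10277.result (X := ⟨c.pt, Groth.Agent.AlgSpLib.isAlgSpace_limit D hD (fun i j φ => Groth.Agent.AlgSpLib.isAffineMor_of_closedImmersion (hDc i j φ)) c hc⟩) (Y := X) (ObjectProperty.homMk e.hom)
        (Groth.Agent.AlgSpLib.repWith_of_isIso _ e.hom)) ⟨hsep, hft, huc⟩
  obtain ⟨o, ho⟩ := Groth.Agent.AlgSpLib.ProperSt.exists_stage_isProperMor D t c hc hD hDc hYqc hYqs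
    (fun i => (ht i).1) (fun i => ⟨Groth.Agent.AlgSpLib.locP_lft_of_lfp (ht i).2.1, (ht i).2.2.1⟩) hg hpe
  obtain ⟨hlim⟩ := Groth.Agent.AlgSpLib.DirRes.nonempty_isLimit_restrict c hc o.unop
  refine ⟨Groth.Agent.AlgSpLib.DirRes.Above o.unop, inferInstance, inferInstance, inferInstance,
    Groth.Agent.AlgSpLib.DirRes.incl o.unop ⋙ D,
    Functor.whiskerLeft (Groth.Agent.AlgSpLib.DirRes.incl o.unop) t,
    c.whisker (Groth.Agent.AlgSpLib.DirRes.incl o.unop), hlim, e, fun i => hD _, fun i j φ => hDc _ _ _,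
    fun i => hπ _, fun i => ⟨?_, (ht _).2⟩, fun i => hcomp _⟩
  let i' := (Groth.Agent.AlgSpLib.DirRes.incl o.unop).obj i
  let φ : i' ⟶ o := (homOfLE i.unop.2).op
  show AlgSp.IsProperMor (t.app i')
  rw [← (t.naturality φ).trans (Category.comp_id _)]
  exact Groth.Agent.S10276.result (X := ⟨D.obj i', hD i'⟩) (Y := ⟨D.obj o, hD o⟩) (Z := Y)
    (ObjectProperty.homMk (D.map φ)) (ObjectProperty.homMk (t.app o))
    (Groth.Agent.S10277.result (X := ⟨D.obj i', hD i'⟩) (Y := ⟨D.obj o, hD o⟩) (ObjectProperty.homMk (D.map φ)) (hDc _ _ φ)) ho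

end Groth.Agent.S10041
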