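import Groth.Statements.S10042
import Groth.Agent.AlgSpLib.ImmAffineSpace
import Groth.Agent.AlgSpLib.Filtration
import Groth.Agent.AlgSpLib.PointsTop
import Groth.Agent.AlgSpLib.YonCoprod
import Groth.Agent.Stk19b.InvSub
import Groth.Agent.Desc19b.HensSp.Lift
-- import your own Groth.Agent.* helpers here

set_option autoImplicit false
universe u
open CategoryTheory CategoryTheory.Limits AlgebraicGeometry
open AlgSp

namespace Groth.Agent.S10042

set_option backward.isDefEq.respectTransparency.types false
set_option backward.isDefEq.respectTransparency false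
open CategoryTheory CategoryTheory.Limits AlgebraicGeometry Groth.Agent.AlgSpLib AlgSp

section
variable {S : Scheme.{u}} {X : Sp S}

/-- finitely many affine charts cover the image of a quasi-compact scheme -/
theorem exists_affine_chart_image (hX : IsAlgSpace X) {U : Over S} [CompactSpace U.left]
    (f : (yon S).obj U ⟶ X) :
    ∃ (V : Over S) (p : (yon S).obj V ⟶ X), IsAffine V.left ∧ RepWith @Etale p ∧
      Set.range (Points.ofPt f) ⊆ Set.range (Points.ofPt p) := by
  classical
  obtain ⟨V, b, hb, hbs⟩ := hX.atlas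
  obtain ⟨T, hT⟩ := (isCompact_range (Points.continuous_ofPt f)).elim_finite_subcover
    (fun O : V.left.affineOpens => Points.ofPt b '' (O.1 : Set ↥V.left))
    (fun O => isOpenMap_ofPt b hb _ O.1.2) (fun x _ => by
      obtain ⟨v, rfl⟩ := surjective_ofPt b hbs x
      obtain ⟨O, hO, hv, -⟩ := exists_isAffineOpen_mem_and_subset (x := v) (U := ⊤) trivial
      exact Set.mem_iUnion.2 ⟨⟨O, hO⟩, v, hv, rfl⟩)
  let W : T → Over S := fun O => Over.mk (O.1.1.ι ≫ V.hom)
  let j : ∀ O, W O ⟶ V := fun O => Over.homMk O.1.1.ι rfl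
  haveI : ∀ O : T, IsAffine (W O).left := fun O => O.1.2
  obtain ⟨g, hg, -⟩ := existsUnique_desc_sigma W fun O => (yon S).map (j O) ≫ b
  refine ⟨sigmaOver W, g, inferInstanceAs (IsAffine (∐ fun O => (W O).left)),
    Desc19b.HensSp.repWith_etale_desc hX W _ (fun O => RepWith.comp ((repWith_yon_map_iff @Etale (j O)).2
      (inferInstanceAs (Etale O.1.1.ι))) hb) g hg, fun x hx => ?_⟩
  obtain ⟨O, hO, v, hv, rfl⟩ : ∃ O ∈ T, x ∈ Points.ofPt b '' (O.1 : Set ↥V.left) := by
    simpa using hT hx
  refine ⟨(sigmaOverι W ⟨O, hO⟩).left ⟨v, hv⟩, ?_⟩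
  rw [← ofPt_map (sigmaOverι W ⟨O, hO⟩), hg, ofPt_map]
  rfl

/-- affine space over the base -/
noncomputable abbrev An (S : Scheme.{u}) (n : Type u) : Over S := Over.mk (𝔸(n; S) ↘ S)

/-- affine space over a scheme over the base -/
noncomputable abbrev AnV (V : Over S) (n : Type u) : Over S := Over.mk (𝔸(n; V.left) ↘ V.left ≫ V.hom)

noncomputable abbrev projV (V : Over S) (n : Type u) : AnV V n ⟶ V := Over.homMk (𝔸(n; V.left) ↘ V.left) rfl

noncomputable abbrev projA (V : Over S) (n : Type u) : AnV V n ⟶ An S n :=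
  Over.homMk (AffineSpace.map n V.hom) (AffineSpace.map_over _)

theorem immersion_pair (hls : IsLocallySeparatedSp X) {U V W : Over S} {f : (yon S).obj U ⟶ X}
    {p : (yon S).obj V ⟶ X} {w : W ⟶ U} {k : W ⟶ V} (sq : IsPullback ((yon S).map w) ((yon S).map k) f p) :
    IsImmersion (pullback.lift k.left w.left ((Over.w k).trans (Over.w w).symm) : W.left ⟶ pullback V.hom U.hom) := by
  let T : Over S := Over.mk (pullback.fst V.hom U.hom ≫ V.hom)
  let t₁ : T ⟶ V := Over.homMk (pullback.fst V.hom U.hom) rfl
  let t₂ : T ⟶ U := Over.homMk (pullback.snd V.hom U.hom) pullback.condition.symm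
  let pr := Limits.prod.lift ((yon S).map t₂ ≫ f) ((yon S).map t₁ ≫ p)
  let K : W ⟶ T := Over.homMk (pullback.lift k.left w.left ((Over.w k).trans (Over.w w).symm))
    (by simp [T])
  have hK1 : K ≫ t₁ = k := Over.OverMorphism.ext (pullback.lift_fst _ _ _)
  have hK2 : K ≫ t₂ = w := Over.OverMorphism.ext (pullback.lift_snd _ _ _)
  have sqd : IsPullback ((yon S).map w ≫ f) ((yon S).map K) (Limits.diag X) pr := by
    refine isPullback_of_yon (Limits.prod.hom_ext ?_ ?_) fun T' x y hxy => ?_
    · simp only [pr, Category.assoc, Limits.prod.lift_fst, Category.comp_id]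
      rw [← Functor.map_comp_assoc, hK2]
    · simp only [pr, Category.assoc, Limits.prod.lift_snd, Category.comp_id]
      rw [← Functor.map_comp_assoc, hK1, sq.w]
    have h1 : x = y ≫ (yon S).map t₂ ≫ f := by
      simpa [pr] using congrArg (fun z => z ≫ Limits.prod.fst) hxy
    have h2 : x = y ≫ (yon S).map t₁ ≫ p := by
      simpa [pr] using congrArg (fun z => z ≫ Limits.prod.snd) hxy
    obtain ⟨y', rfl⟩ := (yon S).map_surjective y
    obtain ⟨l, hl⟩ := (yon S).map_surjective (sq.lift ((yon S).map (y' ≫ t₂)) ((yon S).map (y' ≫ t₁)) (by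
      rw [Functor.map_comp, Category.assoc, ← h1, Functor.map_comp, Category.assoc, ← h2]))
    have hl1 : l ≫ w = y' ≫ t₂ := (yon S).map_injective (by rw [Functor.map_comp, hl, sq.lift_fst])
    have hl2 : l ≫ k = y' ≫ t₁ := (yon S).map_injective (by rw [Functor.map_comp, hl, sq.lift_snd])
    refine ⟨(yon S).map l, ⟨?_, ?_⟩, fun z hz => ?_⟩
    · rw [← Functor.map_comp_assoc, hl1, Functor.map_comp, Category.assoc, ← h1]
    · rw [← Functor.map_comp]
      refine congrArg _ (Over.OverMorphism.ext (pullback.hom_ext ?_ ?_))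
      · have := congrArg CommaMorphism.left (show (l ≫ K) ≫ t₁ = y' ≫ t₁ by rw [Category.assoc, hK1, hl2])
        exact this
      · have := congrArg CommaMorphism.left (show (l ≫ K) ≫ t₂ = y' ≫ t₂ by rw [Category.assoc, hK2, hl1])
        exact this
    · obtain ⟨z', rfl⟩ := (yon S).map_surjective z
      have hz' : z' ≫ K = y' := (yon S).map_injective (by rw [Functor.map_comp]; exact hz.2)
      rw [hl]
      refine sq.hom_ext ?_ ?_
      · rw [sq.lift_fst, ← Functor.map_comp, ← hz', Category.assoc, hK2]
      · rw [sq.lift_snd, ← Functor.map_comp, ← hz', Category.assoc, hK1]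
  exact hls.property _ _ _ sqd

/-- all functions of an affine scheme embed it into affine space over any base -/
theorem immersion_graph {U : Over S} [IsAffine U.left] :
    IsImmersion (AffineSpace.homOfVector U.hom (fun x : Γ(U.left, ⊤) => x)) := by
  let u := AffineSpace.homOfVector U.hom (fun x : Γ(U.left, ⊤) => x)
  have h : IsClosedImmersion (u ≫ AffineSpace.toSpecMvPoly _ S) := by
    refine IsClosedImmersion.of_surjective_of_isAffine _ fun x => ⟨(Scheme.ΓSpecIso _).inv (MvPolynomial.X x), ?_⟩
    show AffineSpace.toSpecMvPolyIntEquiv _ (u ≫ AffineSpace.toSpecMvPoly _ S) x = x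
    rw [AffineSpace.homOfVector_toSpecMvPoly, Equiv.apply_symm_apply]
  exact IsImmersion.of_comp u (AffineSpace.toSpecMvPoly _ S)

theorem immersion_reindex {σ τ : Type u} {F : Finset σ} (eF : τ ≃ ↥F) {V W : Scheme.{u}} (g : W ⟶ 𝔸(σ; V))
    [IsImmersion (g ≫ AffineSpace.reindex ((↑) : F → σ) V)] :
    IsImmersion (g ≫ AffineSpace.reindex (fun i => ((eF i : ↥F) : σ)) V) := by
  let r₁ := AffineSpace.reindex (fun i => eF i : τ → ↥F) V
  have : IsIso r₁ := ⟨AffineSpace.reindex (fun i => eF.symm i : ↥F → τ) V, by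
    apply AffineSpace.hom_ext <;> simp [r₁], by apply AffineSpace.hom_ext <;> simp [r₁]⟩
  have e : g ≫ AffineSpace.reindex (fun i => ((eF i : ↥F) : σ)) V =
      (g ≫ AffineSpace.reindex ((↑) : F → σ) V) ≫ r₁ := by
    rw [Category.assoc]; congr 1
    apply AffineSpace.hom_ext <;> simp [r₁]
  rw [e]; infer_instance

theorem immersion_chart (hls : IsLocallySeparatedSp X) {U V W : Over S} [IsAffine U.left] {f : (yon S).obj U ⟶ X}
    {p : (yon S).obj V ⟶ X} {w : W ⟶ U} {k : W ⟶ V} (sq : IsPullback ((yon S).map w) ((yon S).map k) f p) :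
    IsImmersion (AffineSpace.homOfVector k.left (fun x : Γ(U.left, ⊤) => w.left.appTop x)) := by
  have h0 := immersion_pair hls sq
  let σ : Type u := Γ(U.left, ⊤)
  let u := AffineSpace.homOfVector U.hom (fun x : σ => x)
  have : IsImmersion u := immersion_graph
  let m : pullback V.hom U.hom ⟶ 𝔸(σ; V.left) :=
    AffineSpace.homOfVector (pullback.fst V.hom U.hom) (fun x : σ => (pullback.snd V.hom U.hom).appTop x)
  have hm : IsPullback (pullback.snd V.hom U.hom) m u (AffineSpace.map σ V.hom) := by
    refine IsPullback.of_bot (h₂₁ := AffineSpace.map σ V.hom) ?_ ?_ (AffineSpace.isPullback_map (n := σ) V.hom)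
    · rw [AffineSpace.homOfVector_over, AffineSpace.homOfVector_over]
      exact (IsPullback.of_hasPullback V.hom U.hom).flip
    · apply AffineSpace.hom_ext
      · simp [m, u, pullback.condition]
      · intro i; simp [m, u]
  have : IsImmersion m := MorphismProperty.of_isPullback hm ‹IsImmersion u›
  have e : AffineSpace.homOfVector k.left (fun x : σ => w.left.appTop x) =
      pullback.lift k.left w.left ((Over.w k).trans (Over.w w).symm) ≫ m := by
    rw [AffineSpace.comp_homOfVector, pullback.lift_fst]
    congr 1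
    funext x
    simp only [Function.comp_apply, ← CommRingCat.comp_apply, ← Scheme.Hom.comp_appTop, pullback.lift_snd]
  rw [e]
  infer_instance

end


/-- Let `X` be a quasi-separated and locally separated algebraic space over `S`, `U` an affine scheme
over `S` and `f : U ⟶ X` locally of finite type. Then there are an `n` and an immersion `U ⟶ 𝐀^n_X =
X ×_S 𝐀^n_S` over `X`. (The published statement allows any base scheme and uses absolute
quasi-separatedness; this row assumes the base quasi-separated, over which quasi-separatedness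
relative to the base is the absolute notion.) -/
theorem result (S : Scheme.{u}) [QuasiSeparatedSpace S]
    (X : AlgSp.Space S) (hqs : AlgSp.IsQuasiSeparatedSp X.obj) (hls : AlgSp.IsLocallySeparatedSp X.obj)
    (U : Over S) (hU : IsAffine U.left) (f : (AlgSp.yon S).obj U ⟶ X.obj) (hf : AlgSp.LocP @LocallyOfFiniteType f) :
    ∃ (n : ℕ) (i : (AlgSp.yon S).obj U ⟶ X.obj ⨯ (AlgSp.yon S).obj (Over.mk (𝔸(ULift.{u} (Fin n); S) ↘ S))),
      i ≫ prod.fst = f ∧ AlgSp.RepWith @IsImmersion i := by
  classical
  have hX := X.property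
  have := hU
  obtain ⟨V, p, hV, hp, hcov⟩ := exists_affine_chart_image hX f
  have := hV
  have hq := repWith_qc_chart hX hqs p
  let W : Over S := hp.1.pullback f
  obtain ⟨k, hk⟩ := (yon S).map_surjective (hp.1.fst f)
  let w : W ⟶ U := hp.1.snd f
  have sq : IsPullback ((yon S).map w) ((yon S).map k) f p := (hk ▸ hp.1.isPullback f).flip
  have hwe : Etale w.left := hp.property _ _ _ sq.flip
  have hwq : QuasiCompact w.left := hq.property _ _ _ sq.flip
  have : CompactSpace ↥W.left := QuasiCompact.compactSpace_of_compactSpace w.left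
  have hlft : LocallyOfFiniteType k.left :=
    hf ((yon S).map w) p k ((repWith_yon_map_iff @Etale w).2 hwe) hp sq.w
  have himm := immersion_chart hls sq
  let g := AffineSpace.homOfVector k.left (fun x : Γ(U.left, ⊤) => w.left.appTop x)
  have : LocallyOfFiniteType (g ≫ 𝔸(Γ(U.left, ⊤); V.left) ↘ V.left) := by
    rw [AffineSpace.homOfVector_over]; exact hlft
  obtain ⟨F, hF⟩ := ImmAff.exists_coords_affineSpace g
  let eF : ULift.{u} (Fin F.card) ≃ ↥F := Equiv.ulift.trans F.equivFin.symm
  let n := ULift.{u} (Fin F.card)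
  let x : n → Γ(U.left, ⊤) := fun i => ((eF i : ↥F) : Γ(U.left, ⊤))
  let gV : W.left ⟶ 𝔸(n; V.left) := AffineSpace.homOfVector k.left (fun i => w.left.appTop (x i))
  have hgV : IsImmersion gV := by
    have e : gV = g ≫ AffineSpace.reindex x V.left := by
      apply AffineSpace.hom_ext <;> simp [gV, g]
    rw [e]
    exact immersion_reindex eF g
  refine ⟨F.card, prod.lift f ((yon S).map (Over.homMk (AffineSpace.homOfVector U.hom x)
    (AffineSpace.homOfVector_over _ _) : U ⟶ An S n)), prod.lift_fst _ _, ?_⟩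
  let O : Set (Points X.obj) := Set.range (Points.ofPt p)
  have hO : IsOpen O := (isOpenMap_ofPt p hp).isOpen_range
  let jO := openSubspaceι X.obj O
  have hX' := isAlgSpace_openSubspace hX hO
  obtain ⟨f', hf'⟩ := (exists_lift_openSubspace_iff O f).2 fun t => hcov ⟨t, rfl⟩
  obtain ⟨p', hp'⟩ := (exists_lift_openSubspace_iff O p).2 fun t => ⟨t, rfl⟩
  have hjo := repWith_openSubspaceι X.obj hO
  have : Mono jO := mono_of_repWith (fun _ _ g (_ : IsOpenImmersion g) => (inferInstance : Mono g)) hjo
  have hpe' : RepWith @Etale p' := by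
    refine (RepWith.baseChange (fst := 𝟙 _) (g := jO) ?_ hp)
    exact (IsPullback.of_horiz_isIso_mono (fst := 𝟙 _) (snd := p') (f := p) (g := jO) ⟨by simpa using hp'.symm⟩)
  have hps' : RepWith @Surjective p' := repWith_surjective_of_surjective_ofPt p' hpe'.1 fun y => by
    obtain ⟨t, ht⟩ : Points.map jO y ∈ O := (range_openSubspaceι X.obj O).le ⟨y, rfl⟩
    exact ⟨t, injective_map_of_mono jO (by rw [Points.map_ofPt, hp', ht])⟩
  let hu : U ⟶ An S n := Over.homMk (AffineSpace.homOfVector U.hom x) (AffineSpace.homOfVector_over _ _)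
  let i' := prod.lift f' ((yon S).map hu)
  let b := prod.lift ((yon S).map (projV V n) ≫ p') ((yon S).map (projA V n))
  have sqb : IsPullback b ((yon S).map (projV V n)) prod.fst p' := by
    refine isPullback_of_yon (prod.lift_fst _ _) fun T a c hac => ?_
    obtain ⟨c', rfl⟩ := (yon S).map_surjective c
    obtain ⟨a', ha'⟩ := (yon S).map_surjective (a ≫ prod.snd)
    have hb : c'.left ≫ V.hom = a'.left ≫ 𝔸(n; S) ↘ S := (Over.w c').trans (Over.w a').symm
    have sqA := AffineSpace.isPullback_map (n := n) V.hom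
    let l : T ⟶ AnV V n := Over.homMk (sqA.lift a'.left c'.left hb.symm) (by
      show sqA.lift _ _ _ ≫ 𝔸(n; V.left) ↘ V.left ≫ V.hom = T.hom
      rw [sqA.lift_snd_assoc]; exact Over.w c')
    have hl1 : l ≫ projV V n = c' := Over.OverMorphism.ext (sqA.lift_snd _ _ _)
    have hl2 : l ≫ projA V n = a' := Over.OverMorphism.ext (sqA.lift_fst _ _ _)
    refine ⟨(yon S).map l, ⟨prod.hom_ext ?_ ?_, ?_⟩, fun z hz => ?_⟩
    · simp [b, ← Functor.map_comp_assoc, hl1, hac]
    · simp [b, ← Functor.map_comp, hl2, ha']
    · rw [← Functor.map_comp, hl1]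
    · obtain ⟨z', rfl⟩ := (yon S).map_surjective z
      refine congrArg _ (Over.OverMorphism.ext (sqA.hom_ext ?_ ?_))
      · rw [show l.left = sqA.lift a'.left c'.left hb.symm from rfl, sqA.lift_fst]
        have := (yon S).map_injective ((Functor.map_comp _ z' (projA V n)).trans
          ((by simpa [b] using congrArg (fun q => q ≫ prod.snd) hz.1 : _ = a ≫ prod.snd).trans ha'.symm))
        exact congrArg CommaMorphism.left this
      · rw [show l.left = sqA.lift a'.left c'.left hb.symm from rfl, sqA.lift_snd]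
        exact congrArg CommaMorphism.left ((yon S).map_injective ((Functor.map_comp _ z' (projV V n)).trans hz.2))
  have hbs : Sheaf.IsLocallySurjective b :=
    isLocallySurjective_of_etale (RepWith.baseChange sqb.flip hpe') (RepWith.baseChange sqb.flip hps')
  let gW : W ⟶ AnV V n := Over.homMk gV (by
    show gV ≫ 𝔸(n; V.left) ↘ V.left ≫ V.hom = W.hom
    rw [AffineSpace.homOfVector_over_assoc]; exact Over.w k)
  have hgW1 : gW ≫ projV V n = k := Over.OverMorphism.ext (AffineSpace.homOfVector_over _ _)
  have hgW2 : gW ≫ projA V n = w ≫ hu := Over.OverMorphism.ext (by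
    show gV ≫ AffineSpace.map n V.hom = w.left ≫ AffineSpace.homOfVector U.hom x
    apply AffineSpace.hom_ext
    · simp [gV]; rfl
    · intro i; simp [gV])
  have sqi : IsPullback ((yon S).map w) ((yon S).map gW) i' b := by
    refine isPullback_of_yon (prod.hom_ext ?_ ?_) fun T a c hac => ?_
    · simp only [i', b, Category.assoc, prod.lift_fst, ← Functor.map_comp_assoc, hgW1]
      rw [← cancel_mono jO, Category.assoc, Category.assoc, hf', hp', sq.w]
    · simp only [i', b, Category.assoc, prod.lift_snd, ← Functor.map_comp, hgW2]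
    obtain ⟨a', rfl⟩ := (yon S).map_surjective a
    obtain ⟨c', rfl⟩ := (yon S).map_surjective c
    have h1 : (yon S).map a' ≫ f' = (yon S).map (c' ≫ projV V n) ≫ p' := by
      simpa [i', b] using congrArg (fun q => q ≫ prod.fst) hac
    have h2 : a' ≫ hu = c' ≫ projA V n := (yon S).map_injective (by
      simpa [i', b] using congrArg (fun q => q ≫ prod.snd) hac)
    obtain ⟨l, hl⟩ := (yon S).map_surjective (sq.lift ((yon S).map a') ((yon S).map (c' ≫ projV V n)) (by
      rw [← hf', ← hp', reassoc_of% h1]))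
    have hl1 : l ≫ w = a' := (yon S).map_injective (by rw [Functor.map_comp, hl, sq.lift_fst])
    have hl2 : l ≫ k = c' ≫ projV V n := (yon S).map_injective (by rw [Functor.map_comp, hl, sq.lift_snd])
    refine ⟨(yon S).map l, ⟨by rw [← Functor.map_comp, hl1], ?_⟩, fun z hz => ?_⟩
    · rw [← Functor.map_comp]
      refine congrArg _ (Over.OverMorphism.ext ((AffineSpace.isPullback_map (n := n) V.hom).hom_ext ?_ ?_))
      · exact congrArg CommaMorphism.left (show (l ≫ gW) ≫ projA V n = c' ≫ projA V n by
          rw [Category.assoc, hgW2, reassoc_of% hl1, h2])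
      · exact congrArg CommaMorphism.left (show (l ≫ gW) ≫ projV V n = c' ≫ projV V n by
          rw [Category.assoc, hgW1, hl2])
    · rw [hl]
      refine sq.hom_ext ?_ ?_
      · rw [sq.lift_fst]; exact hz.1
      · rw [sq.lift_snd, ← hgW1, Functor.map_comp, ← Category.assoc, hz.2, Functor.map_comp]
  have hA := isAlgSpace_prod hX' (IsAlgSpace.yon_obj (S := S) (An S n))
  have hi' : RepWith @IsImmersion i' :=
    repWith_of_isLocallySurjective (representable_diag_iff.1 hA.diag i') b sqi @IsImmersion
      ((repWith_yon_map_iff (P := @IsImmersion) gW).2 hgV)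
  have hj : RepWith @IsImmersion (prod.map jO (𝟙 ((yon S).obj (An S n)))) :=
    RepWith.mono (fun _ _ g (_ : IsOpenImmersion g) => (inferInstance : IsImmersion g))
      (RepWith.baseChange (isPullback_prod_map_id jO) hjo)
  have := RepWith.comp hi' hj
  simp only [i', hu, prod.lift_map, Category.comp_id] at this
  rwa [show f' ≫ jO = f from hf'] at this

end Groth.Agent.S10042
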