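import Groth.Statements.S10044
import Groth.Agent.AlgSpLib.ChevMain
-- import your own Groth.Agent.* helpers here

set_option autoImplicit false
universe u
open CategoryTheory CategoryTheory.Limits AlgebraicGeometry
open AlgSp

namespace Groth.Agent.S10044

/-- Let `f : X ⟶ Y` be a surjective and universally closed morphism of algebraic spaces over `S` with
`X` an affine scheme. Then `Y` is an affine scheme. -/
theorem result (S : Scheme.{u}) {X Y : AlgSp.Space S} (f : X ⟶ Y)
    (hsurj : AlgSp.IsSurjectiveMor f.hom) (huc : AlgSp.IsUnivClosedMor f.hom) (hX : ∃ (T : Over S), IsAffine T.left ∧ Nonempty ((AlgSp.yon S).obj T ≅ X.obj)) :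
    ∃ (T : Over S), IsAffine T.left ∧ Nonempty ((AlgSp.yon S).obj T ≅ Y.obj) := by
  obtain ⟨T, hT, ⟨e⟩⟩ := hX
  haveI := hT
  refine Groth.Agent.AlgSpLib.ChevGen.exists_affine_of_univClosed (e.hom ≫ f.hom)
    (Groth.Agent.AlgSpLib.ChevGen.isSurjectiveMor_precomp_iso e hsurj) ?_
  refine Groth.Agent.AlgSpLib.isUnivClosedMor_of_isPullback (fst := e.hom) (g := 𝟙 _) ?_ huc
  exact IsPullback.of_horiz_isIso ⟨by simp⟩

end Groth.Agent.S10044
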