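import Groth.Statements.S10046
import Groth.Agent.AlgSpLib.ChevEquiv
-- import your own Groth.Agent.* helpers here

set_option autoImplicit false
universe u
open CategoryTheory CategoryTheory.Limits AlgebraicGeometry
open AlgSp

namespace Groth.Agent.S10046

/-- Let `f : X ⟶ Y`, a morphism of algebraic spaces over `S`, be integral and induce a bijection on
points. Then `X` is representable by a scheme over `S` exactly when `Y` is. -/
theorem result (S : Scheme.{u}) {X Y : AlgSp.Space S} (f : X ⟶ Y)
    (hint : AlgSp.IsIntegralMor f.hom) (hbij : Function.Bijective (AlgSp.Points.map f.hom)) :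
    X.obj.obj.IsRepresentable ↔ Y.obj.obj.IsRepresentable := by
  open Groth.Agent.AlgSpLib Groth.Agent.AlgSpLib.ChevGen in
  refine ⟨fun h => ?_, fun h => ?_⟩
  · obtain ⟨T, ⟨e⟩⟩ := exists_iso_yon_of_isRepresentable h
    have huc : AlgSp.IsUnivClosedMor (e.hom ≫ f.hom) := by
      refine isUnivClosedMor_of_isPullback (fst := e.hom) (g := 𝟙 _) ?_ (isUnivClosedMor_of_integral hint)
      exact IsPullback.of_horiz_isIso ⟨by simp⟩
    have he : AlgSp.Points.ofPt (e.hom ≫ f.hom) =
        AlgSp.Points.map f.hom ∘ AlgSp.Points.map e.hom ∘ AlgSp.Points.schemeEquiv T := funext fun t =>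
      (AlgSp.Points.ofPt_eq_map_ofScheme _ t).trans (AlgSp.Points.map_comp e.hom f.hom _)
    have hb : Function.Bijective (AlgSp.Points.map e.hom) :=
      Function.bijective_iff_has_inverse.2 ⟨AlgSp.Points.map e.inv,
        fun x => by rw [← AlgSp.Points.map_comp, e.hom_inv_id, AlgSp.Points.map_id],
        fun x => by rw [← AlgSp.Points.map_comp, e.inv_hom_id, AlgSp.Points.map_id]⟩
    obtain ⟨G, ⟨θ⟩⟩ := exists_scheme_of_bijective (e.hom ≫ f.hom) huc
      (he ▸ hbij.comp (hb.comp (AlgSp.Points.schemeEquiv T).bijective))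
    exact isRepresentable_of_iso_yon θ
  · obtain ⟨G, ⟨θ⟩⟩ := exists_iso_yon_of_isRepresentable h
    have hr := ((isIntegralMor_iff_repWith f.hom).1 hint).1
    have sq := hr.isPullback θ.hom
    haveI : IsIso (hr.fst θ.hom) := sq.isIso_fst_of_isIso
    exact isRepresentable_of_iso_yon (asIso (hr.fst θ.hom))

end Groth.Agent.S10046
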