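import Groth.Statements.S10047
import Groth.Agent.AlgSpLib.ThickScheme
import Groth.Agent.AlgSpLib.FpqcBaseAffine2
import Groth.Agent.AlgSpLib.LocP
import Groth.Agent.AlgSpLib.EtLocalInst

set_option autoImplicit false
universe u
open CategoryTheory CategoryTheory.Limits AlgebraicGeometry
open AlgSp

namespace Groth.Agent.S10047

open Groth.Agent.AlgSpLib

set_option backward.isDefEq.respectTransparency.types false
set_option backward.isDefEq.respectTransparency false
set_option linter.style.haveILetI false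

/-- Nakayama for a nilpotent finitely generated ideal -/
theorem surjective_of_add_nilpotent {A R : Type u} [CommRing A] [CommRing R] (φ : A →+* R) (J : Ideal A)
    (hfg : J.FG) (hnil : J ≤ nilradical A) (h : ∀ r, ∃ a, r - φ a ∈ J.map φ) : Function.Surjective φ := by
  obtain ⟨n, hn⟩ := Ideal.exists_pow_le_of_le_radical_of_fg (J := (⊥ : Ideal A)) hnil hfg
  have key : ∀ m : ℕ, ∀ r, ∃ a, r - φ a ∈ (J ^ m).map φ := by
    intro m
    induction m with
    | zero => exact fun r => ⟨0, by simp [Ideal.map_top]⟩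
    | succ m ih =>
      have aux : ∀ x ∈ (J ^ m).map φ, ∃ a, x - φ a ∈ (J ^ (m + 1)).map φ := by
        intro x hx
        rw [Ideal.map] at hx
        induction hx using Submodule.span_induction with
        | mem y hy =>
          obtain ⟨j, -, rfl⟩ := hy
          exact ⟨j, by simp⟩
        | zero => exact ⟨0, by simp⟩
        | add y z _ _ hy hz =>
          obtain ⟨a, ha⟩ := hy
          obtain ⟨b, hb⟩ := hz
          exact ⟨a + b, by rw [map_add, add_sub_add_comm]; exact Ideal.add_mem _ ha hb⟩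
        | smul r y hy' hy =>
          obtain ⟨a, ha⟩ := hy
          obtain ⟨b, hb⟩ := h r
          refine ⟨b * a, ?_⟩
          have e : r • y - φ (b * a) = (r - φ b) * y + φ b * (y - φ a) := by
            rw [map_mul, smul_eq_mul]; ring
          rw [e]
          refine Ideal.add_mem _ ?_ (Ideal.mul_mem_left _ _ ha)
          rw [pow_succ', Ideal.map_mul]
          exact Ideal.mul_mem_mul hb hy'
      intro r
      obtain ⟨a, ha⟩ := ih r
      obtain ⟨b, hb⟩ := aux _ ha
      exact ⟨a + b, by rw [map_add, ← sub_sub]; exact hb⟩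
  intro r
  obtain ⟨a, ha⟩ := key n r
  have hn' : J ^ n = ⊥ := le_bot_iff.1 hn
  rw [hn', Ideal.map_bot, Submodule.mem_bot, sub_eq_zero] at ha
  exact ⟨a, ha.symm⟩

/-- finite type algebras only need a finitely generated part of the ideal -/
theorem exists_fg_le {A R : Type u} [CommRing A] [CommRing R] (φ : A →+* R) (J : Ideal A)
    (hft : φ.FiniteType) (h : ∀ r, ∃ a, r - φ a ∈ J.map φ) :
    ∃ J₀ : Ideal A, J₀.FG ∧ J₀ ≤ J ∧ ∀ r, ∃ a, r - φ a ∈ J₀.map φ := by
  classical
  letI := φ.toAlgebra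
  obtain ⟨s, hs⟩ := (show Algebra.FiniteType A R from hft).out
  choose a ha using h
  have hex : ∀ x ∈ J.map φ, ∃ J₀ : Ideal A, J₀.FG ∧ J₀ ≤ J ∧ x ∈ J₀.map φ := by
    intro x hx
    rw [Ideal.map] at hx
    induction hx using Submodule.span_induction with
    | mem y hy =>
      obtain ⟨j, hj, rfl⟩ := hy
      exact ⟨Ideal.span {j}, Submodule.fg_span_singleton j, Ideal.span_le.2 (Set.singleton_subset_iff.2 hj),
        Ideal.mem_map_of_mem φ (Ideal.subset_span rfl)⟩
    | zero => exact ⟨⊥, Submodule.fg_bot, bot_le, Ideal.zero_mem _⟩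
    | add y z _ _ hy hz =>
      obtain ⟨J₁, h₁, l₁, m₁⟩ := hy
      obtain ⟨J₂, h₂, l₂, m₂⟩ := hz
      exact ⟨J₁ ⊔ J₂, Submodule.FG.sup h₁ h₂, sup_le l₁ l₂,
        Ideal.add_mem _ (Ideal.map_mono le_sup_left m₁) (Ideal.map_mono le_sup_right m₂)⟩
    | smul r y _ hy =>
      obtain ⟨J₁, h₁, l₁, m₁⟩ := hy
      exact ⟨J₁, h₁, l₁, Ideal.mul_mem_left _ r m₁⟩
  choose K hK₁ hK₂ hK₃ using fun x : s => hex _ (ha x.1)
  refine ⟨⨆ x, K x, Submodule.fg_iSup K hK₁, iSup_le hK₂, fun r => ?_⟩
  have hr : r ∈ Algebra.adjoin A (s : Set R) := hs ▸ trivial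
  induction hr using Algebra.adjoin_induction with
  | mem x hx => exact ⟨a x, Ideal.map_mono (le_iSup K ⟨x, hx⟩) (hK₃ ⟨x, hx⟩)⟩
  | algebraMap b => exact ⟨b, by rw [show algebraMap A R b = φ b from rfl, sub_self]; exact Ideal.zero_mem _⟩
  | add x y _ _ hx hy =>
    obtain ⟨a, ha⟩ := hx
    obtain ⟨b, hb⟩ := hy
    exact ⟨a + b, by rw [map_add, add_sub_add_comm]; exact Ideal.add_mem _ ha hb⟩
  | mul x y _ _ hx hy =>
    obtain ⟨a, ha⟩ := hx
    obtain ⟨b, hb⟩ := hy
    refine ⟨a * b, ?_⟩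
    rw [map_mul, show x * y - φ a * φ b = (x - φ a) * y + φ a * (y - φ b) by ring]
    exact Ideal.add_mem _ (Ideal.mul_mem_right _ _ ha) (Ideal.mul_mem_left _ _ hb)


/-- Let `f : X ⟶ B` and `g : B' ⟶ B` be morphisms of algebraic spaces over `S` with `g` a closed
immersion inducing a bijection on points, and suppose the base change `X ×_B B' ⟶ B'` is a closed
immersion. If `f` is of finite type or `g` is of finite presentation, then `f` is a closed
immersion. -/
theorem result (S : Scheme.{u}) {X B B' : AlgSp.Space S}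
    (f : X ⟶ B) (g : B' ⟶ B) (hg : AlgSp.RepWith @IsClosedImmersion g.hom)
    (hbij : Function.Bijective (AlgSp.Points.map g.hom))
    (X' : AlgSp.Sp S) (fst : X' ⟶ X.obj) (snd : X' ⟶ B'.obj) (hX' : IsPullback fst snd f.hom g.hom)
    (hsnd : AlgSp.RepWith @IsClosedImmersion snd)
    (hor : AlgSp.IsFiniteTypeMor f.hom ∨ AlgSp.IsFinitePresentationMor g.hom) :
    AlgSp.RepWith @IsClosedImmersion f.hom := by
  classical
  have hgs : AlgSp.RepWith @Surjective g.hom := repWith_surjective_of_surjective_map hg.1 hbij.surjective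
  have main : ∀ (Z : Over S), IsAffine Z.left → ∀ z : (AlgSp.yon S).obj Z ⟶ B.obj,
      ∃ (P : Over S) (p : P ⟶ Z) (l : (AlgSp.yon S).obj P ⟶ X.obj),
        IsPullback l ((AlgSp.yon S).map p) f.hom z ∧ IsAffine P.left ∧ IsClosedImmersion p.left := by
    intro Z hZ z
    haveI := hZ
    obtain ⟨W₀, w₀, gf, sq₀, hw₀⟩ := exists_yon_of_repWith hg z
    haveI : IsClosedImmersion w₀.left := hw₀
    haveI : IsAffine W₀.left := isAffine_of_isAffineHom w₀.left
    haveI hw₀s : Surjective w₀.left := hgs.property _ _ _ sq₀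
    obtain ⟨W₁, w₁, xf, sq₁, hw₁⟩ := exists_yon_of_repWith hsnd gf
    haveI : IsClosedImmersion w₁.left := hw₁
    haveI : IsAffine W₁.left := isAffine_of_isAffineHom w₁.left
    let P := pullback f.hom z
    have sqP : IsPullback (pullback.fst f.hom z) (pullback.snd f.hom z) f.hom z := IsPullback.of_hasPullback _ _
    have hP : AlgSp.IsAlgSpace P :=
      isAlgSpace_of_isPullback B.property.diag X.property (IsAlgSpace.yon_obj Z) sqP
    have h1 : IsPullback (xf ≫ fst) ((AlgSp.yon S).map w₁) f.hom ((AlgSp.yon S).map w₀ ≫ z) :=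
      sq₀.w ▸ sq₁.paste_horiz hX'
    let t := sqP.lift (xf ≫ fst) ((AlgSp.yon S).map w₁ ≫ (AlgSp.yon S).map w₀)
      (by rw [h1.w, Category.assoc])
    have sqW : IsPullback ((AlgSp.yon S).map w₁) t ((AlgSp.yon S).map w₀) (pullback.snd f.hom z) := by
      refine IsPullback.of_bot ?_ (sqP.lift_snd _ _ _).symm sqP.flip
      rw [sqP.lift_fst]
      exact h1.flip
    have hthick : AlgSp.IsThickMor t := RepWith.baseChange sqW
      (RepWith.and ((AlgSp.repWith_yon_map_iff (P := @IsClosedImmersion) w₀).2 hw₀)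
        ((AlgSp.repWith_yon_map_iff (P := @Surjective) w₀).2 hw₀s))
    obtain ⟨P', hP', ⟨e⟩⟩ := ThickAff.isAff_of_thick hP t hthick
    haveI := hP'
    obtain ⟨p, hp⟩ := (AlgSp.yon S).map_surjective (e.hom ≫ pullback.snd f.hom z)
    have sqP' : IsPullback (e.hom ≫ pullback.fst f.hom z) ((AlgSp.yon S).map p) f.hom z :=
      sqP.of_iso e.symm (Iso.refl _) (Iso.refl _) (Iso.refl _) (by simp) (by simp [hp]) (by simp) (by simp)
    refine ⟨P', p, _, sqP', hP', ?_⟩
    obtain ⟨t', ht'⟩ := (AlgSp.yon S).map_surjective (t ≫ e.inv)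
    have sqS : IsPullback w₁ t' w₀ p := isPullback_of_map_yon
      (sqW.of_iso (Iso.refl _) (Iso.refl _) e.symm (Iso.refl _) (by simp) (by simp [ht']) (by simp) (by simp [hp]))
    have sqR := isPushout_appTop_of_isPullback (isPullback_left sqS)
    obtain ⟨-, hs₁⟩ := IsClosedImmersion.isAffine_surjective_of_isAffine w₁.left
    obtain ⟨-, hs₀⟩ := IsClosedImmersion.isAffine_surjective_of_isAffine w₀.left
    let φ := p.left.appTop.hom
    let J := RingHom.ker w₀.left.appTop.hom
    have hJ : ∀ r, ∃ a, r - φ a ∈ J.map φ := by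
      let q : Γ(P'.left, ⊤) ⟶ CommRingCat.of (Γ(P'.left, ⊤) ⧸ J.map φ) := CommRingCat.ofHom (Ideal.Quotient.mk _)
      let σ : Γ(W₀.left, ⊤) →+* Γ(P'.left, ⊤) ⧸ J.map φ :=
        (Ideal.Quotient.lift J ((Ideal.Quotient.mk _).comp φ) fun a ha =>
          Ideal.Quotient.eq_zero_iff_mem.2 (Ideal.mem_map_of_mem φ ha)).comp
          (RingHom.quotientKerEquivOfSurjective hs₀).symm.toRingHom
      have hσ : w₀.left.appTop ≫ CommRingCat.ofHom σ = p.left.appTop ≫ q := by
        ext a
        show σ (w₀.left.appTop.hom a) = Ideal.Quotient.mk _ (φ a)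
        simp only [σ, RingHom.comp_apply]
        rw [show (RingHom.quotientKerEquivOfSurjective hs₀).symm.toRingHom (w₀.left.appTop.hom a) =
          Ideal.Quotient.mk _ a from (RingEquiv.symm_apply_eq _).2 rfl, Ideal.Quotient.lift_mk]
        rfl
      intro r
      obtain ⟨b, hb⟩ := hs₁ (t'.left.appTop.hom r)
      obtain ⟨a, rfl⟩ := hs₀ b
      refine ⟨a, (Ideal.Quotient.eq (I := J.map φ)).1 ?_⟩
      show q.hom r = q.hom (φ a)
      have hq : t'.left.appTop ≫ sqR.desc (CommRingCat.ofHom σ) q hσ = q := sqR.inr_desc _ _ _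
      rw [← hq]
      simp only [CommRingCat.hom_comp, RingHom.comp_apply]
      rw [← hb]
      exact congrArg _ (congrArg (fun m => m.hom a) sqR.w)
    have hnil : J ≤ nilradical _ := fun a ha => by
      haveI hsp : Surjective (Spec.map w₀.left.appTop) :=
        (MorphismProperty.arrow_mk_iso_iff @Surjective (arrowIsoSpecΓOfIsAffine w₀.left)).1 hw₀s
      rw [mem_nilradical, nilpotent_iff_mem_prime]
      intro Q hQ
      obtain ⟨y, hy⟩ := (Spec.map w₀.left.appTop).surjective ⟨Q, hQ⟩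
      have hy' : y.asIdeal.comap w₀.left.appTop.hom = Q := congrArg PrimeSpectrum.asIdeal hy
      rw [← hy', Ideal.mem_comap, show w₀.left.appTop.hom a = 0 from ha]
      exact Ideal.zero_mem _
    obtain ⟨J₀, hJ₀, hJ₀le, hJ₀'⟩ : ∃ J₀ : Ideal Γ(Z.left, ⊤), J₀.FG ∧ J₀ ≤ J ∧ ∀ r, ∃ a, r - φ a ∈ J₀.map φ := by
      rcases hor with hft | hfp
      · refine exists_fg_le φ J ?_ hJ
        have hrp : AlgSp.RepWith @LocallyOfFiniteType ((AlgSp.yon S).map p) :=
          (repWith_iff_locP etLocal_lft (IsAlgSpace.yon_obj _) (IsAlgSpace.yon_obj _)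
            (AlgSp.representable_yon_map p)).2 (locP_of_isPullback etLocal_lft X.property B.property (IsAlgSpace.yon_obj _) sqP' hft.1)
        exact (HasRingHomProperty.iff_of_isAffine (P := @LocallyOfFiniteType)).1 ((AlgSp.repWith_yon_map_iff _ p).1 hrp)
      · refine ⟨J, ?_, le_rfl, hJ⟩
        have hrg := (repWith_iff_locP etLocal_lfp B'.property B.property hg.1).2 hfp.1
        haveI : LocallyOfFinitePresentation w₀.left := hrg.property _ _ _ sq₀
        have hfp' : w₀.left.appTop.hom.FinitePresentation :=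
          (HasRingHomProperty.iff_of_isAffine (P := @LocallyOfFinitePresentation)).1 inferInstance
        letI := w₀.left.appTop.hom.toAlgebra
        haveI : Algebra.FinitePresentation Γ(Z.left, ⊤) Γ(W₀.left, ⊤) := hfp'
        exact Algebra.FinitePresentation.ker_fG_of_surjective (Algebra.ofId Γ(Z.left, ⊤) Γ(W₀.left, ⊤)) hs₀
    exact IsClosedImmersion.of_surjective_of_isAffine p.left
      (surjective_of_add_nilpotent φ J₀ hJ₀ (hJ₀le.trans hnil) hJ₀')
  have hfa : AlgSp.IsAffineMor f.hom := fun Z hZ z => by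
    obtain ⟨P, p, l, sq, hP, -⟩ := main Z hZ z
    exact ⟨P, p, l, sq, hP⟩
  obtain ⟨U, a, hae, has⟩ := B.property.atlas
  have hr := ((isAffineMor_iff_repWith _).1 hfa).1
  haveI := isLocallySurjective_of_etale hae has
  refine repWith_of_isLocallySurjective hr a (hr.isPullback a) _ ((AlgSp.repWith_yon_map_iff _ _).2 ?_)
  refine IsZariskiLocalAtTarget.of_forall_exists_morphismRestrict (P := @IsClosedImmersion) fun x => ?_
  obtain ⟨O, hO, hxO, -⟩ := exists_isAffineOpen_mem_and_subset (x := x) (U := ⊤) trivial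
  let ι : Over.mk (O.ι ≫ U.hom) ⟶ U := Over.homMk O.ι rfl
  obtain ⟨P, p, l, sq, hP, hpc⟩ := main (Over.mk (O.ι ≫ U.hom)) hO ((AlgSp.yon S).map ι ≫ a)
  refine ⟨O, hxO, ?_⟩
  obtain ⟨m, hm⟩ := (AlgSp.yon S).map_surjective ((hr.isPullback a).lift l ((AlgSp.yon S).map (p ≫ ι))
    (by rw [Functor.map_comp, Category.assoc]; exact sq.w))
  have sqm : IsPullback m p (hr.snd a) ι := isPullback_of_map_yon (by
    refine (IsPullback.of_right ?_ ?_ (hr.isPullback a))
    · rw [hm, (hr.isPullback a).lift_fst]; exact sq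
    · rw [hm, (hr.isPullback a).lift_snd, Functor.map_comp])
  have h2 := (isPullback_morphismRestrict (hr.snd a).left O).flip
  have h3 := isPullback_left sqm
  rw [show p.left = (h3.isoIsPullback _ _ h2).hom ≫ (hr.snd a).left ∣_ O from
    (h3.isoIsPullback_hom_snd _ _ h2).symm] at hpc
  exact (MorphismProperty.cancel_left_of_respectsIso @IsClosedImmersion _ _).1 hpc

end Groth.Agent.S10047
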