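import Groth.Statements.S10051
import Groth.Agent.S10007
import Groth.Agent.AlgSpLib.BaseSch
import Groth.Agent.AlgSpLib.LimitOverAffine
import Groth.Agent.H8Lim.StalkLimit
import Groth.Agent.AlgSpLib.SheafCoprod2
import Groth.Agent.AlgSpLib.MorSep
-- import your own Groth.Agent.* helpers here

set_option autoImplicit false
universe u
open CategoryTheory CategoryTheory.Limits AlgebraicGeometry
open AlgSp

namespace Groth.Agent.S10051

open Groth.Agent.AlgSpLib
open Groth.Agent.H8Lim

/-- over an affine base, if the base change to a local scheme is a scheme so is one to a neighbourhood -/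
theorem local_step {Z : Scheme.{u}} [IsAffine Z] (G : AlgSp.Sp Z) (hG : AlgSp.IsAlgSpace G)
    (hqc : AlgSp.IsQuasiCompactSp G) (hqs : AlgSp.IsQuasiSeparatedSp G)
    (q₀ : G ⟶ (AlgSp.yon Z).obj (Over.mk (𝟙 Z))) (y : Z)
    (h : (pullback ((AlgSp.yon Z).map (Over.homMk (U := Over.mk (Z.fromSpecStalk y)) (V := Over.mk (𝟙 Z))
      (Z.fromSpecStalk y) (Category.comp_id _))) q₀).obj.IsRepresentable) :
    ∃ V : StalkLimit.AffNhd y, (pullback ((AlgSp.yon Z).map (Over.homMk (U := Over.mk (StalkLimit.incMap y V))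
      (V := Over.mk (𝟙 Z)) (StalkLimit.incMap y V) (Category.comp_id _))) q₀).obj.IsRepresentable := by
  let E : StalkLimit.AffNhd y ⥤ Over Z :=
    { obj := fun V => Over.mk (StalkLimit.incMap y V)
      map := fun f => Over.homMk ((StalkLimit.diagram y).map f) (StalkLimit.map_incMap y f)
      map_id := fun V => Over.OverMorphism.ext ((StalkLimit.diagram y).map_id V)
      map_comp := fun f f' => Over.OverMorphism.ext ((StalkLimit.diagram y).map_comp f f') }
  let cE : Cone E :=
    { pt := Over.mk (Z.fromSpecStalk y)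
      π :=
        { app := fun V => Over.homMk ((StalkLimit.cone y).π.app V) (StalkLimit.cone_incMap y V)
          naturality := fun V W f => Over.OverMorphism.ext ((StalkLimit.cone y).π.naturality f) } }
  have hcE' : IsLimit ((Over.forget Z).mapCone cE) :=
    (StalkLimit.isLimitCone y).ofIsoLimit (Cone.ext (Iso.refl _) fun V => (Category.id_comp _).symm)
  haveI : IsConnected (StalkLimit.AffNhd y) := IsCofiltered.isConnected _
  have hcE : IsLimit cE := isLimitOfReflects (Over.forget Z) hcE'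
  let D := E ⋙ AlgSp.yon Z
  let c : Cone D := (AlgSp.yon Z).mapCone cE
  have hc : IsLimit c := isLimitOfPreserves (AlgSp.yon Z) hcE
  let t : D ⟶ (Functor.const _).obj ((AlgSp.yon Z).obj (Over.mk (𝟙 Z))) :=
    { app := fun V => (AlgSp.yon Z).map (Over.homMk (U := Over.mk (StalkLimit.incMap y V))
        (V := Over.mk (𝟙 Z)) (StalkLimit.incMap y V) (Category.comp_id _))
      naturality := fun V W f => (isTerminal_yon_base Z).some.hom_ext _ _ }
  have hD : ∀ V, AlgSp.IsAlgSpace (D.obj V) := fun V => AlgSp.IsAlgSpace.yon_obj _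
  have hta : ∀ V, AlgSp.IsAffineMor (t.app V) := fun V => by
    refine (isAffineMor_iff_repWith _).2 ((AlgSp.repWith_yon_map_iff _ _).2 ?_)
    exact (isAffineHom_of_isAffine (StalkLimit.incMap y V))
  have hDa : ∀ (V W : StalkLimit.AffNhd y) (f : V ⟶ W), AlgSp.IsAffineMor (D.map f) := fun V W f => by
    refine (isAffineMor_iff_repWith _).2 ((AlgSp.repWith_yon_map_iff _ _).2 ?_)
    exact (inferInstance : IsAffineHom ((StalkLimit.diagram y).map f))
  have hsa : ∀ V, AlgSp.IsAlgSpace ((LimitOver.sys t q₀).obj V) := fun V =>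
    isAlgSpace_of_isPullback (AlgSp.IsAlgSpace.yon_obj _).diag (hD V) hG (IsPullback.of_hasPullback _ _)
  have haff : ∀ V, AlgSp.IsAffineMor (pullback.snd (t.app V) q₀) := fun V =>
    isAffineMor_of_isPullback (IsPullback.of_hasPullback _ _) (hta V)
  obtain ⟨hcl⟩ := LimitOver.isLimit_cone t q₀ (c := c) (g := (AlgSp.yon Z).map (Over.homMk
      (U := Over.mk (Z.fromSpecStalk y)) (V := Over.mk (𝟙 Z)) (Z.fromSpecStalk y) (Category.comp_id _)))
    (fun V => (isTerminal_yon_base Z).some.hom_ext _ _) hc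
  exact Groth.Agent.S10007.result Z (LimitOver.sys t q₀) hsa (LimitOver.isAffineMor_sys_map hDa)
    (fun V => (Groth.Agent.S10007.qc_qs_of_affineMor (hsa V) hG (haff V)).1 hqc)
    (fun V => (Groth.Agent.S10007.qc_qs_of_affineMor (hsa V) hG (haff V)).2 hqs) _ hcl h

theorem isRepresentable_of_iso {S : Scheme.{u}} {F G : AlgSp.Sp S} (h : F.obj.IsRepresentable) (e : F ≅ G) :
    G.obj.IsRepresentable := by
  obtain ⟨Y, ⟨eY⟩⟩ := exists_iso_yon_of_isRepresentable h
  exact isRepresentable_of_iso_yon (eY ≪≫ e)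

section Transfer

variable {S S' : Scheme.{u}} {g : S ⟶ S'}

open BaseSch in
theorem isIso_of_shriek {F G : AlgSp.Sp S} (t₀ : F ⟶ G) [IsIso ((shriek g).map t₀)] : IsIso t₀ := by
  haveI : IsIso ((Over.forget _).map ((toOver g).map t₀)) := ‹IsIso ((shriek g).map t₀)›
  haveI := isIso_of_reflects_iso ((toOver g).map t₀) (Over.forget _)
  exact isIso_of_reflects_iso t₀ (toOver g)

open BaseSch in
theorem isRepresentable_shriek {G : AlgSp.Sp S} (h : G.obj.IsRepresentable) :
    ((shriek g).obj G).obj.IsRepresentable := by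
  obtain ⟨Y, ⟨e⟩⟩ := exists_iso_yon_of_isRepresentable h
  exact isRepresentable_of_iso_yon ((shriekYonIso g Y).symm ≪≫ (shriek g).mapIso e)

open BaseSch in
theorem isRepresentable_of_shriek {G : AlgSp.Sp S} (h : ((shriek g).obj G).obj.IsRepresentable) :
    G.obj.IsRepresentable := by
  obtain ⟨T', ⟨e⟩⟩ := exists_iso_yon_of_isRepresentable h
  obtain ⟨φ, hφ⟩ := (AlgSp.yon S').map_surjective (e.hom ≫ proj g G)
  obtain ⟨t₀, h₀⟩ := exists_lift_over φ e.hom hφ.symm
  haveI : IsIso ((shriek g).map t₀) := by rw [h₀]; infer_instance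
  haveI := isIso_of_shriek (g := g) t₀
  exact isRepresentable_of_iso_yon (asIso t₀)

open BaseSch in
theorem isQuasiCompactSp_of_shriek {G : AlgSp.Sp S} (h : AlgSp.IsQuasiCompactSp ((shriek g).obj G)) :
    AlgSp.IsQuasiCompactSp G := by
  obtain ⟨U, p, h1, h2, hU⟩ := h
  obtain ⟨φ, hφ⟩ := (AlgSp.yon S').map_surjective (p ≫ proj g G)
  obtain ⟨p₀, h₀⟩ := exists_lift_over φ p hφ.symm
  have key : ∀ (P : MorphismProperty Scheme.{u}) [P.IsStableUnderBaseChange],
      AlgSp.RepWith P p → AlgSp.RepWith P p₀ := by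
    intro P _ hp
    rw [← repWith_shriek_iff (g := g), h₀]
    exact MorphismProperty.RespectsIso.precomp _ _ _ (MorphismProperty.RespectsIso.precomp _ _ _ hp)
  exact ⟨_, p₀, key _ h1, key _ h2, hU⟩

open BaseSch in
theorem isQuasiSeparatedMor_of_shriek {F G : AlgSp.Sp S} (f : F ⟶ G)
    (h : AlgSp.IsQuasiSeparatedMor ((shriek g).map f)) : AlgSp.IsQuasiSeparatedMor f := by
  have sq := (isPullback_shriek_iff g).2 (IsPullback.of_hasPullback f f)
  have e : (shriek g).map (pullback.diagonal f) ≫ sq.isoPullback.hom = pullback.diagonal ((shriek g).map f) := by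
    apply pullback.hom_ext
    · rw [Category.assoc, sq.isoPullback_hom_fst, ← Functor.map_comp, pullback.diagonal_fst, pullback.diagonal_fst]
      exact (shriek g).map_id _
    · rw [Category.assoc, sq.isoPullback_hom_snd, ← Functor.map_comp, pullback.diagonal_snd, pullback.diagonal_snd]
      exact (shriek g).map_id _
  change AlgSp.RepWith @QuasiCompact _ at h ⊢
  rwa [← e, MorphismProperty.cancel_right_of_respectsIso (AlgSp.RepWith @QuasiCompact),
    repWith_shriek_iff] at h

open BaseSch in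
theorem proj_yon (W : Over S) (k : (AlgSp.yon S).obj W ⟶ (AlgSp.yon S).obj (Over.mk (𝟙 S))) :
    (shriek g).map k ≫ proj g _ = (shriekYonIso g W).hom ≫ (AlgSp.yon S').map (can g W) := by
  rw [shriek_map_proj, shriekYonIso_hom_can]

open BaseSch in
theorem isIso_proj_base : IsIso (proj g ((AlgSp.yon S).obj (Over.mk (𝟙 S)))) := by
  rw [← shriekYonIso_hom_can]
  haveI : IsIso (can g (Over.mk (𝟙 S))) :=
    ⟨Over.homMk (𝟙 S) (by show 𝟙 S ≫ 𝟙 S ≫ g = g; simp),
      Over.OverMorphism.ext (Category.comp_id (𝟙 S)), Over.OverMorphism.ext (Category.comp_id (𝟙 S))⟩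
  infer_instance

end Transfer

theorem mem_range_of_isPullback {S : Scheme.{u}} {X P : AlgSp.Sp S} {q : X ⟶ (AlgSp.yon S).obj (Over.mk (𝟙 S))}
    {x : AlgSp.Points X} {s : S} (hs : AlgSp.Points.map q x = AlgSp.Points.ofScheme (Over.mk (𝟙 S)) s)
    {T : Over S} {m : T ⟶ Over.mk (𝟙 S)} {fst : P ⟶ X} {snd : P ⟶ (AlgSp.yon S).obj T}
    (sq : IsPullback fst snd q ((AlgSp.yon S).map m)) (z : T.left) (hz : m.left z = s) :
    x ∈ Set.range (AlgSp.Points.map fst) := by
  obtain ⟨p, hp, -⟩ := exists_point_of_isPullback sq (x := x) (y := AlgSp.Points.ofScheme T z)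
    (by rw [hs, map_yon_map_ofScheme, hz])
  exact ⟨p, hp⟩

set_option maxHeartbeats 2000000 in
open BaseSch in
/-- every point has an open neighbourhood which is a scheme -/
theorem exists_open_nbhd {S : Scheme.{u}} (X : AlgSp.Space S)
    (q : X.obj ⟶ (AlgSp.yon S).obj (Over.mk (𝟙 S))) (hqc : AlgSp.IsQuasiCompactMor q) (hqs : AlgSp.IsQuasiSeparatedMor q)
    (x : AlgSp.Points X.obj) (s : S) (hs : AlgSp.Points.map q x = AlgSp.Points.ofScheme (Over.mk (𝟙 S)) s)
    (h : ∀ (P : AlgSp.Sp S) (fst : P ⟶ X.obj) (snd : P ⟶ (AlgSp.yon S).obj (Over.mk (S.fromSpecStalk s))),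
      IsPullback fst snd q ((AlgSp.yon S).map (Over.homMk (S.fromSpecStalk s))) → P.obj.IsRepresentable) :
    ∃ (W : AlgSp.Sp S) (j : W ⟶ X.obj), AlgSp.RepWith @IsOpenImmersion j ∧ W.obj.IsRepresentable ∧
      x ∈ Set.range (AlgSp.Points.map j) := by
  obtain ⟨U, hU, hsU, -⟩ := exists_isAffineOpen_mem_and_subset (X := S) (x := s) (U := ⊤) trivial
  haveI : IsAffine U.toScheme := hU
  let g : U.toScheme ⟶ S := U.ι
  haveI hgo : IsOpenImmersion g := inferInstanceAs (IsOpenImmersion U.ι)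
  let bg : (AlgSp.yon S).obj (Over.mk g) ⟶ (AlgSp.yon S).obj (Over.mk (𝟙 S)) :=
    (AlgSp.yon S).map (Over.homMk g)
  let P := pullback q bg
  obtain ⟨G, ⟨eO⟩⟩ := Functor.EssSurj.mem_essImage (F := toOver g) (Over.mk (pullback.snd q bg))
  let eG : (shriek g).obj G ≅ P := (Over.forget _).mapIso eO
  have hwG : eG.hom ≫ pullback.snd q bg = proj g G := Over.w eO.hom
  have hY : AlgSp.IsAlgSpace ((AlgSp.yon S).obj (Over.mk g)) := AlgSp.IsAlgSpace.yon_obj _
  have hY1 : AlgSp.IsAlgSpace ((AlgSp.yon S).obj (Over.mk (𝟙 S))) := AlgSp.IsAlgSpace.yon_obj _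
  have hPa : AlgSp.IsAlgSpace P := isAlgSpace_of_isPullback hY1.diag X.property hY (IsPullback.of_hasPullback _ _)
  have hG : AlgSp.IsAlgSpace G := (isAlgSpace_shriek_iff (g := g) G).1 (hPa.of_iso eG.symm)
  have hYqc : AlgSp.IsQuasiCompactSp ((AlgSp.yon S).obj (Over.mk g)) :=
    ⟨_, 𝟙 _, repWith_of_isIso _ (𝟙 _), repWith_of_isIso _ (𝟙 _), inferInstanceAs (CompactSpace ↥U.toScheme)⟩
  have hGqc : AlgSp.IsQuasiCompactSp G := isQuasiCompactSp_of_shriek (g := g)
    (hqc hY hYqc bg (eG.hom ≫ pullback.fst q bg) (eG.hom ≫ pullback.snd q bg)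
      ((IsPullback.of_hasPullback q bg).of_iso eG.symm (Iso.refl _) (Iso.refl _) (Iso.refl _)
        (by simp) (by simp) (by simp) (by simp)))
  obtain ⟨q₀, -⟩ := exists_to_base G
  haveI := isIso_proj_base (g := g)
  have sqG : IsPullback eG.hom ((shriek g).map q₀) (pullback.snd q bg)
      (proj g ((AlgSp.yon U.toScheme).obj (Over.mk (𝟙 U.toScheme)))) :=
    IsPullback.of_horiz_isIso ⟨by rw [hwG, shriek_map_proj]⟩
  have hGqs : AlgSp.IsQuasiSeparatedSp G := (isQuasiSeparatedMor_iff_sp q₀).1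
    (isQuasiSeparatedMor_of_shriek (g := g) q₀ (isQuasiSeparatedMor_of_isPullback sqG
      (isQuasiSeparatedMor_of_isPullback (IsPullback.of_hasPullback q bg) hqs)))
  have sqX : IsPullback (eG.hom ≫ pullback.fst q bg) ((shriek g).map q₀) q
      (proj g ((AlgSp.yon U.toScheme).obj (Over.mk (𝟙 U.toScheme))) ≫ bg) :=
    sqG.paste_horiz (IsPullback.of_hasPullback q bg)
  -- base changes along schemes over the open
  have hbc : ∀ (W : Over U.toScheme) (k : W ⟶ Over.mk (𝟙 U.toScheme)),
      IsPullback ((shriek g).map (pullback.snd ((AlgSp.yon U.toScheme).map k) q₀) ≫ eG.hom ≫ pullback.fst q bg)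
        ((shriek g).map (pullback.fst ((AlgSp.yon U.toScheme).map k) q₀) ≫ (shriekYonIso g W).hom)
        q ((AlgSp.yon S).map (Over.homMk (U := (Over.map g).obj W) (V := Over.mk (𝟙 S)) (W.hom ≫ g))) := by
    intro W k
    have sq := ((isPullback_shriek_iff g).2 (IsPullback.of_hasPullback ((AlgSp.yon U.toScheme).map k) q₀).flip).paste_horiz sqX
    refine sq.of_iso (Iso.refl _) (Iso.refl _) (shriekYonIso g W) (Iso.refl _) (by simp) (by simp) (by simp) ?_
    exact (isTerminal_yon_base S).some.hom_ext _ _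
  let y : U.toScheme := ⟨s, hsU⟩
  have hrep : (pullback ((AlgSp.yon U.toScheme).map (Over.homMk (U := Over.mk (U.toScheme.fromSpecStalk y))
      (V := Over.mk (𝟙 _)) (U.toScheme.fromSpecStalk y) (Category.comp_id _))) q₀).obj.IsRepresentable := by
    refine isRepresentable_of_shriek (g := g) ?_
    let W : Over U.toScheme := Over.mk (U.toScheme.fromSpecStalk y)
    let σ : (Over.map g).obj W ≅ Over.mk (S.fromSpecStalk s) :=
      Over.isoMk (f := (Over.map g).obj W) (g := Over.mk (S.fromSpecStalk s))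
        (Scheme.Spec.mapIso (asIso (g.stalkMap y)).op) (by exact Scheme.SpecMap_stalkMap_fromSpecStalk g)
    refine h _ _ _ ((hbc W _).of_iso (Iso.refl _) (Iso.refl _) ((AlgSp.yon S).mapIso σ) (Iso.refl _)
      ((Category.comp_id _).trans (Category.id_comp _).symm) (Category.id_comp _).symm
      ((Category.comp_id _).trans (Category.id_comp _).symm) ?_)
    exact (isTerminal_yon_base S).some.hom_ext _ _
  obtain ⟨V, hV⟩ := local_step G hG hGqc hGqs q₀ y hrep
  refine ⟨_, _, RepWith.baseChange (hbc _ _).flip ((AlgSp.repWith_yon_map_iff _ _).2 ?_),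
    isRepresentable_shriek (g := g) hV, ?_⟩
  · show IsOpenImmersion (StalkLimit.incMap y V ≫ g)
    infer_instance
  · obtain ⟨z, hz⟩ := StalkLimit.mem_range_incMap y V
    have e : (StalkLimit.incMap y V ≫ g) z = s :=
      (Scheme.Hom.comp_apply _ _ z).trans (congrArg (fun a => g a) hz)
    exact mem_range_of_isPullback hs (hbc _ _) z e

/-- Let `X` be an algebraic space whose structure morphism to the scheme `S` is quasi-compact and
quasi-separated. If for every `x ∈ |X|` with image `s ∈ S` the base change `X ×_S Spec(O_{S,s})` is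
a scheme, then `X` is a scheme. -/
theorem result (S : Scheme.{u}) (X : AlgSp.Space S)
    (q : X.obj ⟶ (AlgSp.yon S).obj (Over.mk (𝟙 S))) (hqc : AlgSp.IsQuasiCompactMor q) (hqs : AlgSp.IsQuasiSeparatedMor q)
    (h : ∀ x : AlgSp.Points X.obj, ∀ (P : AlgSp.Sp S) (fst : P ⟶ X.obj)
      (snd : P ⟶ (AlgSp.yon S).obj (Over.mk (S.fromSpecStalk ((AlgSp.Points.schemeHomeo (Over.mk (𝟙 S))).symm (AlgSp.Points.map q x))))),
      IsPullback fst snd q ((AlgSp.yon S).map (Over.homMk (S.fromSpecStalk _))) → P.obj.IsRepresentable) :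
    X.obj.obj.IsRepresentable := by
  classical
  obtain ⟨W', hW'o, hW'r, hW'max⟩ := exists_largest_scheme_open X.property
  have huniv : W' = Set.univ := Set.eq_univ_of_forall fun x => by
    obtain ⟨W, j, hj, hr, hx⟩ := exists_open_nbhd X q hqc hqs x _
      ((AlgSp.Points.schemeHomeo (Over.mk (𝟙 S))).apply_symm_apply (AlgSp.Points.map q x)).symm (h x)
    exact hW'max _ j hj hr hx
  obtain ⟨ε, -⟩ := Induct.exists_iso_of_range_eq (repWith_openSubspaceι _ hW'o) (repWith_of_isIso _ (𝟙 X.obj))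
    (by rw [range_openSubspaceι, huniv]; exact (Set.range_eq_univ.2 fun y => ⟨y, AlgSp.Points.map_id y⟩).symm)
  exact isRepresentable_of_iso hW'r ε

end Groth.Agent.S10051
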