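import Groth.Statements.S10052
import Groth.Agent.S10007
import Groth.Agent.AlgSpLib.LimitClosed
import Groth.Agent.AlgSpLib.Descent
-- import your own Groth.Agent.* helpers here

set_option autoImplicit false
universe u
open CategoryTheory CategoryTheory.Limits AlgebraicGeometry
open AlgSp

namespace Groth.Agent.S10052

open Groth.Agent.AlgSpLib

/-- factorisation through a monomorphism is detected on schemes -/
theorem exists_fac_of_yon {S : Scheme.{u}} {T X Y : AlgSp.Sp S} (f : X ⟶ Y) [Mono f] (g : T ⟶ Y)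
    (h : ∀ (U : Over S) (x : (AlgSp.yon S).obj U ⟶ T), ∃ k, k ≫ f = x ≫ g) : ∃ k, k ≫ f = g := by
  choose k hk using h
  refine ⟨⟨{ app := fun U => ↾fun t =>
      (AlgSp.J S).uliftYonedaEquiv (k U.unop ((AlgSp.J S).uliftYonedaEquiv.symm t))
             naturality := fun U U' m => ?_ }⟩, ?_⟩
  · ext t
    show (AlgSp.J S).uliftYonedaEquiv (k U'.unop ((AlgSp.J S).uliftYonedaEquiv.symm (T.obj.map m t))) =
      X.obj.map m ((AlgSp.J S).uliftYonedaEquiv (k U.unop ((AlgSp.J S).uliftYonedaEquiv.symm t)))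
    rw [GrothendieckTopology.uliftYonedaEquiv_naturality']
    congr 1
    rw [← cancel_mono f, Category.assoc, hk, hk, ← Category.assoc]
    congr 1
    exact ((AlgSp.J S).uliftYonedaEquiv_symm_naturality_left m.unop T t).symm
  · ext U t
    show f.hom.app U ((AlgSp.J S).uliftYonedaEquiv (k U.unop ((AlgSp.J S).uliftYonedaEquiv.symm t))) = g.hom.app U t
    rw [← GrothendieckTopology.uliftYonedaEquiv_comp, hk, GrothendieckTopology.uliftYonedaEquiv_comp,
      Equiv.apply_symm_apply]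

/-- factorisation of the structure map through the closed subscheme of an ideal -/
theorem factors_quot_iff {A : CommRingCat.{u}} (I : Ideal A) (U : Over (Spec A)) :
    Nonempty (U ⟶ Over.mk (Spec.map (CommRingCat.ofHom (Ideal.Quotient.mk I)))) ↔
      I ≤ RingHom.ker ((Scheme.ΓSpecIso A).inv ≫ U.hom.appTop).hom := by
  constructor
  · rintro ⟨k⟩ a ha
    have e : (Scheme.ΓSpecIso A).inv ≫ U.hom.appTop =
        CommRingCat.ofHom (Ideal.Quotient.mk I) ≫ (Scheme.ΓSpecIso _).inv ≫ k.left.appTop := by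
      rw [← Over.w k, Scheme.Hom.comp_appTop]
      exact (Category.assoc _ _ _).symm.trans ((congrArg (· ≫ k.left.appTop)
        (Scheme.ΓSpecIso_inv_naturality (CommRingCat.ofHom (Ideal.Quotient.mk I))).symm).trans (Category.assoc _ _ _))
    rw [RingHom.mem_ker, e]
    rw [CommRingCat.hom_comp, RingHom.comp_apply, CommRingCat.hom_ofHom, Ideal.Quotient.eq_zero_iff_mem.2 ha, map_zero]
  · intro h
    let φ := Ideal.Quotient.lift I ((Scheme.ΓSpecIso A).inv ≫ U.hom.appTop).hom fun a ha => h ha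
    refine ⟨Over.homMk (U.left.toSpecΓ ≫ Spec.map (CommRingCat.ofHom φ)) ?_⟩
    have e : CommRingCat.ofHom (Ideal.Quotient.mk I) ≫ CommRingCat.ofHom φ = (Scheme.ΓSpecIso A).inv ≫ U.hom.appTop := by
      ext a; rfl
    show (U.left.toSpecΓ ≫ Spec.map (CommRingCat.ofHom φ)) ≫ Spec.map (CommRingCat.ofHom (Ideal.Quotient.mk I)) = U.hom
    rw [Category.assoc, ← Spec.map_comp, e, Spec.map_comp, ← Category.assoc, ← Scheme.toSpecΓ_naturality,
      Category.assoc, toSpecΓ_SpecMap_ΓSpecIso_inv, Category.comp_id]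

/-- the closed subscheme of an ideal -/
noncomputable abbrev quo {A : CommRingCat.{u}} (I : Ideal A) : Over (Spec A) :=
  Over.mk (Spec.map (CommRingCat.ofHom (Ideal.Quotient.mk I)))

/-- its inclusion -/
noncomputable abbrev quoι {A : CommRingCat.{u}} (I : Ideal A) : quo I ⟶ Over.mk (𝟙 (Spec A)) :=
  Over.homMk (Spec.map (CommRingCat.ofHom (Ideal.Quotient.mk I)))

theorem repWith_quoι {A : CommRingCat.{u}} (I : Ideal A) :
    AlgSp.RepWith @IsClosedImmersion ((AlgSp.yon (Spec A)).map (quoι I)) :=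
  (AlgSp.repWith_yon_map_iff _ _).2 (IsClosedImmersion.spec_of_surjective _ Ideal.Quotient.mk_surjective)

theorem fac_iff {A : CommRingCat.{u}} {X : AlgSp.Sp (Spec A)}
    (q : X ⟶ (AlgSp.yon (Spec A)).obj (Over.mk (𝟙 (Spec A)))) (I : Ideal A) (U : Over (Spec A))
    (x : (AlgSp.yon (Spec A)).obj U ⟶ X) :
    (∃ l, l ≫ pullback.fst q ((AlgSp.yon (Spec A)).map (quoι I)) = x) ↔
      I ≤ RingHom.ker ((Scheme.ΓSpecIso A).inv ≫ U.hom.appTop).hom := by
  rw [← factors_quot_iff]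
  constructor
  · rintro ⟨l, -⟩
    exact ⟨((AlgSp.yon (Spec A)).map_surjective (l ≫ pullback.snd _ _)).choose⟩
  · rintro ⟨k⟩
    exact ⟨pullback.lift x ((AlgSp.yon (Spec A)).map k) ((isTerminal_yon_base (Spec A)).some.hom_ext _ _), pullback.lift_fst _ _ _⟩

theorem isRepresentable_of_iso {S : Scheme.{u}} {F G : AlgSp.Sp S} (h : F.obj.IsRepresentable) (e : F ≅ G) :
    G.obj.IsRepresentable := by
  obtain ⟨Y, ⟨eY⟩⟩ := exists_iso_yon_of_isRepresentable h
  exact isRepresentable_of_iso_yon (eY ≪≫ e)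
/-- a chain of closed subspaces whose intersection is a scheme contains a scheme -/
theorem exists_rep_of_union {S : Scheme.{u}} [QuasiSeparatedSpace S] {X : AlgSp.Sp S} (hX : AlgSp.IsAlgSpace X)
    (hXqc : AlgSp.IsQuasiCompactSp X) (hXqs : AlgSp.IsQuasiSeparatedSp X)
    {ι : Type u} [Preorder ι] [Nonempty ι] [IsDirected ι (fun a a' => a ≤ a')]
    (Z : ι → AlgSp.Sp S) (i : ∀ a, Z a ⟶ X) (hi : ∀ a, AlgSp.RepWith @IsClosedImmersion (i a))
    (k : ∀ a a' : ι, a ≤ a' → (Z a' ⟶ Z a)) (hk : ∀ a a' h, k a a' h ≫ i a = i a')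
    {Z' : AlgSp.Sp S} (i' : Z' ⟶ X) (hi' : AlgSp.RepWith @IsClosedImmersion i')
    (p : ∀ a, Z' ⟶ Z a) (hp : ∀ a, p a ≫ i a = i')
    (hfac : ∀ (U : Over S) (x : (AlgSp.yon S).obj U ⟶ X), (∀ a, ∃ l, l ≫ i a = x) → ∃ l, l ≫ i' = x)
    (h : Z'.obj.IsRepresentable) : ∃ a, (Z a).obj.IsRepresentable := by
  haveI : ∀ a, Mono (i a) := fun a => mono_closedImmersion (hi a)
  haveI : Mono i' := mono_closedImmersion hi'
  let D : ιᵒᵖ ⥤ AlgSp.Sp S :=
    { obj := fun a => Z a.unop
      map := fun φ => k _ _ (leOfHom φ.unop)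
      map_id := fun a => by rw [← cancel_mono (i a.unop), hk, Category.id_comp]
      map_comp := fun {a b c} φ ψ => by rw [← cancel_mono (i c.unop), Category.assoc, hk, hk, hk] }
  let cn : Cone D :=
    { pt := Z'
      π :=
        { app := fun a => p a.unop
          naturality := fun a b φ => by
            rw [← cancel_mono (i b.unop)]
            erw [Category.id_comp, Category.assoc, hk, hp, hp] } }
  obtain ⟨a₀⟩ := ‹Nonempty ι›
  have hsame : ∀ (s : Cone D) (a : ι), s.π.app ⟨a⟩ ≫ i a = s.π.app ⟨a₀⟩ ≫ i a₀ := by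
    intro s a
    obtain ⟨c', hc, hc'⟩ := directed_of (fun a a' : ι => a ≤ a') a a₀
    rw [← s.w (homOfLE hc).op, ← s.w (homOfLE hc').op, Category.assoc, Category.assoc]
    exact congrArg (s.π.app ⟨c'⟩ ≫ ·) ((hk _ _ hc).trans (hk _ _ hc').symm)
  have hg : ∀ s : Cone D, ∃ l : s.pt ⟶ Z', l ≫ i' = s.π.app ⟨a₀⟩ ≫ i a₀ := fun s =>
    exists_fac_of_yon _ _ fun U x => hfac U _ fun a =>
      ⟨x ≫ s.π.app ⟨a⟩, by rw [Category.assoc]; exact congrArg (x ≫ ·) (hsame s a)⟩
  choose l hl using hg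
  have hcn : IsLimit cn :=
    { lift := l
      fac := fun s a => by
        rw [← cancel_mono (i a.unop)]
        show (l s ≫ p a.unop) ≫ i a.unop = s.π.app a ≫ i a.unop
        rw [Category.assoc, hp, hl]
        exact (hsame s a.unop).symm
      uniq := fun s m hm => by
        rw [← cancel_mono i', hl, ← hm ⟨a₀⟩]
        exact (congrArg (m ≫ ·) (hp a₀).symm).trans (Category.assoc _ _ _).symm }
  have hZ : ∀ a, AlgSp.IsAlgSpace (Z a) := fun a => isAlgSpace_of_representable hX (hi a).1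
  have hcl : ∀ (a a' : ιᵒᵖ) (φ : a ⟶ a'), AlgSp.IsAffineMor (D.map φ) := fun a a' φ => by
    refine isAffineMor_of_closedImmersion (repWith_of_comp_mono _ (i a'.unop) ?_)
    rw [show D.map φ ≫ i a'.unop = i a.unop from hk _ _ _]
    exact hi _
  have hqq := fun a : ι => Groth.Agent.S10007.qc_qs_of_affineMor (hZ a) hX (isAffineMor_of_closedImmersion (hi a))
  obtain ⟨a, ha⟩ := Groth.Agent.S10007.result S D (fun a => hZ _) hcl
    (fun a => (hqq a.unop).1 hXqc) (fun a => (hqq a.unop).2 hXqs) cn hcn h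
  exact ⟨a.unop, ha⟩

/-- Let `X` be an algebraic space over `Spec A` with quasi-compact and quasi-separated structure
morphism. If `X` is not a scheme, there is an ideal `I ⊂ A` such that `X_{A/I}` is not a scheme but
`X_{A/I'}` is a scheme for every ideal `I'` strictly containing `I`. -/
theorem result (A : CommRingCat.{u}) (X : AlgSp.Space (Spec A))
    (q : X.obj ⟶ (AlgSp.yon (Spec A)).obj (Over.mk (𝟙 (Spec A))))
    (hqc : AlgSp.IsQuasiCompactMor q) (hqs : AlgSp.IsQuasiSeparatedMor q) (hX : ¬ X.obj.obj.IsRepresentable) :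
    ∃ I : Ideal A,
      (∀ (P : AlgSp.Sp (Spec A)) (fst : P ⟶ X.obj)
        (snd : P ⟶ (AlgSp.yon (Spec A)).obj (Over.mk (Spec.map (CommRingCat.ofHom (Ideal.Quotient.mk I))))),
        IsPullback fst snd q ((AlgSp.yon (Spec A)).map (Over.homMk (Spec.map (CommRingCat.ofHom (Ideal.Quotient.mk I))))) →
          ¬ P.obj.IsRepresentable) ∧
      ∀ I' : Ideal A, I < I' →
        ∀ (P : AlgSp.Sp (Spec A)) (fst : P ⟶ X.obj)
          (snd : P ⟶ (AlgSp.yon (Spec A)).obj (Over.mk (Spec.map (CommRingCat.ofHom (Ideal.Quotient.mk I'))))),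
          IsPullback fst snd q ((AlgSp.yon (Spec A)).map (Over.homMk (Spec.map (CommRingCat.ofHom (Ideal.Quotient.mk I'))))) →
            P.obj.IsRepresentable := by
  classical
  let Y := (AlgSp.yon (Spec A)).obj (Over.mk (𝟙 (Spec A)))
  have hY : AlgSp.IsAlgSpace Y := AlgSp.IsAlgSpace.yon_obj _
  have hYqc : AlgSp.IsQuasiCompactSp Y :=
    ⟨_, 𝟙 _, repWith_of_isIso _ (𝟙 _), repWith_of_isIso _ (𝟙 _), inferInstanceAs (CompactSpace ↥(Spec A))⟩
  have hXqc : AlgSp.IsQuasiCompactSp X.obj :=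
    hqc hY hYqc (𝟙 _) (𝟙 _) q (IsPullback.of_horiz_isIso ⟨by simp⟩)
  have hXqs : AlgSp.IsQuasiSeparatedSp X.obj := (isQuasiSeparatedMor_iff_sp q).1 hqs
  let P : Ideal A → AlgSp.Sp (Spec A) := fun I => pullback q ((AlgSp.yon (Spec A)).map (quoι I))
  let π : ∀ I, P I ⟶ X.obj := fun I => pullback.fst _ _
  have hπ : ∀ I, AlgSp.RepWith @IsClosedImmersion (π I) := fun I =>
    RepWith.baseChange (IsPullback.of_hasPullback _ _).flip (repWith_quoι I)
  haveI : ∀ I, Mono (π I) := fun I => mono_closedImmersion (hπ I)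
  have hPa : ∀ I, AlgSp.IsAlgSpace (P I) := fun I => isAlgSpace_of_representable X.property (hπ I).1
  let T : Set (Ideal A) := {I | ¬ (P I).obj.IsRepresentable}
  have h0 : (⊥ : Ideal A) ∈ T := fun h => by
    obtain ⟨l, hl⟩ := exists_fac_of_yon (π ⊥) (𝟙 X.obj) fun U x => by
      rw [Category.comp_id]
      exact (fac_iff q ⊥ U x).2 bot_le
    haveI : IsIso (π ⊥) := ⟨l, by rw [← cancel_mono (π ⊥), Category.assoc, hl, Category.comp_id, Category.id_comp], hl⟩
    exact hX (isRepresentable_of_iso h (asIso (π ⊥)))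
  have hzorn : ∀ c ⊆ T, IsChain (· ≤ ·) c → ∀ y ∈ c, ∃ ub ∈ T, ∀ z ∈ c, z ≤ ub := by
    intro c hcT hchain y hy
    let ι : Type u := {a // a ∈ c}
    letI : Preorder ι := Preorder.lift (fun a : ι => a.1)
    haveI : Nonempty ι := ⟨⟨y, hy⟩⟩
    haveI : IsDirected ι (fun a a' => a ≤ a') := ⟨fun a a' => by
      rcases hchain.total a.2 a'.2 with h | h
      · exact ⟨a', h, le_refl _⟩
      · exact ⟨a, le_refl _, h⟩⟩
    have hfac : ∀ I I' : Ideal A, I ≤ I' → ∃ k, k ≫ π I = π I' := fun I I' h =>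
      exists_fac_of_yon (π I) (π I') fun U x => (fac_iff q I U (x ≫ π I')).2 (h.trans ((fac_iff q I' U _).1 ⟨x, rfl⟩))
    choose k hk using fun (a a' : ι) (h : a ≤ a') => hfac a.1 a'.1 h
    let J : Ideal A := ⨆ a : ι, a.1
    choose p hp using fun a : ι => hfac a.1 J (le_iSup (fun a : ι => a.1) a)
    refine ⟨J, fun h => ?_, fun z hz => le_iSup (fun a : ι => a.1) ⟨z, hz⟩⟩
    obtain ⟨a, ha⟩ := exists_rep_of_union X.property hXqc hXqs (fun a : ι => P a.1) (fun a => π a.1) (fun a => hπ a.1)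
      k hk (π J) (hπ J) p hp (fun U x hx => (fac_iff q J U x).2 (iSup_le fun a => (fac_iff q a.1 U x).1 (hx a))) h
    exact hcT a.2 ha
  obtain ⟨I, -, hI, hmax⟩ := zorn_le_nonempty₀ T hzorn _ h0
  refine ⟨I, fun Q fst snd sq h => hI (isRepresentable_of_iso h sq.isoPullback), fun I' hII' Q fst snd sq => ?_⟩
  by_contra h
  exact absurd (hmax (y := I') (fun h' => h (isRepresentable_of_iso h' sq.isoPullback.symm)) hII'.le) hII'.not_ge

end Groth.Agent.S10052
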