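import Groth.Statements.S10053
import Groth.Agent.AlgSpLib.UnivClosedQC
import Groth.Agent.AlgSpLib.EtLocalInst
-- import your own Groth.Agent.* helpers here

set_option autoImplicit false
universe u
open CategoryTheory CategoryTheory.Limits AlgebraicGeometry
open AlgSp

namespace Groth.Agent.S10053

/-- For a quasi-compact morphism `f : X ⟶ Y` of algebraic spaces over `S` these conditions are
equivalent: (1) `f` is universally closed; (2) for every `Z ⟶ Y` locally of finite presentation,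
with `Z` an algebraic space, the map `|X ×_Y Z| → |Z|` is closed; (3) for some scheme `V` with a
surjective etale morphism `V ⟶ Y`, the maps `|X ×_Y 𝐀^n_V| → |𝐀^n_V|` are closed for all `n`. Stated
as (1) ↔ (2) and (1) ↔ (3). -/
theorem result (S : Scheme.{u}) {X Y : AlgSp.Space S} (f : X ⟶ Y)
    (hqc : AlgSp.IsQuasiCompactMor f.hom) :
    (AlgSp.IsUnivClosedMor f.hom ↔
      ∀ (Z : AlgSp.Space S) (g : Z ⟶ Y), AlgSp.LocP @LocallyOfFinitePresentation g.hom →
        ∀ (P : AlgSp.Sp S) (fst : P ⟶ X.obj) (snd : P ⟶ Z.obj), IsPullback fst snd f.hom g.hom →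
          IsClosedMap (AlgSp.Points.map snd)) ∧
    (AlgSp.IsUnivClosedMor f.hom ↔
      ∃ (V : Over S) (p : (AlgSp.yon S).obj V ⟶ Y.obj), AlgSp.RepWith @Etale p ∧ AlgSp.RepWith @Surjective p ∧
        ∀ (n : ℕ) (P : AlgSp.Sp S) (fst : P ⟶ X.obj)
          (snd : P ⟶ (AlgSp.yon S).obj (Over.mk ((𝔸(ULift.{u} (Fin n); V.left) ↘ V.left) ≫ V.hom))),
          IsPullback fst snd f.hom ((AlgSp.yon S).map (Over.homMk (𝔸(ULift.{u} (Fin n); V.left) ↘ V.left)) ≫ p) →
            IsClosedMap (AlgSp.Points.map snd)) := by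
  have key : ∀ (V : Over S) (p : (AlgSp.yon S).obj V ⟶ Y.obj), AlgSp.RepWith @Etale p →
      AlgSp.RepWith @Surjective p →
      (∀ (Z : AlgSp.Space S) (g : Z ⟶ Y), AlgSp.LocP @LocallyOfFinitePresentation g.hom →
          ∀ (P : AlgSp.Sp S) (fst : P ⟶ X.obj) (snd : P ⟶ Z.obj), IsPullback fst snd f.hom g.hom →
            IsClosedMap (AlgSp.Points.map snd)) →
      ∀ (n : ℕ) (P : AlgSp.Sp S) (fst : P ⟶ X.obj)
        (snd : P ⟶ (AlgSp.yon S).obj (Over.mk ((𝔸(ULift.{u} (Fin n); V.left) ↘ V.left) ≫ V.hom))),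
        IsPullback fst snd f.hom
          ((AlgSp.yon S).map (Over.homMk (𝔸(ULift.{u} (Fin n); V.left) ↘ V.left)) ≫ p) →
          IsClosedMap (AlgSp.Points.map snd) := fun V p hpe hps h2 n P fst snd sq =>
    h2 ⟨_, AlgSp.IsAlgSpace.yon_obj
        (Over.mk ((𝔸(ULift.{u} (Fin n); V.left) ↘ V.left) ≫ V.hom))⟩
      (ObjectProperty.homMk _) (AlgSpLib.locP_of_repWith AlgSpLib.etLocal_lfp
        (AlgSp.IsAlgSpace.yon_obj _)
        (AlgSpLib.RepWith.comp ((AlgSp.repWith_yon_map_iff @LocallyOfFinitePresentation _).2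
            (inferInstanceAs (LocallyOfFinitePresentation (𝔸(ULift.{u} (Fin n); V.left) ↘ V.left))))
          (AlgSpLib.RepWith.mono AlgSpLib.etLocal_lfp.of_etale hpe))) P fst snd sq
  constructor
  · refine ⟨fun h Z g _ P fst snd sq => h Z.property g.hom fst snd sq, fun h => ?_⟩
    obtain ⟨V, p, hpe, hps⟩ := Y.property.atlas
    exact AlgSpLib.isUnivClosedMor_of_affineSpace X.property Y.property hqc p hpe hps
      (key V p hpe hps h)
  · refine ⟨fun h => ?_, fun ⟨V, p, hpe, hps, hn⟩ =>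
      AlgSpLib.isUnivClosedMor_of_affineSpace X.property Y.property hqc p hpe hps hn⟩
    obtain ⟨V, p, hpe, hps⟩ := Y.property.atlas
    exact ⟨V, p, hpe, hps, key V p hpe hps fun Z g _ P fst snd sq => h Z.property g.hom fst snd sq⟩

end Groth.Agent.S10053
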