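import Groth.Statements.S10054
import Groth.Agent.AlgSpLib.ValuativeDVR
import Groth.Agent.EGA43.ProperDvr.Submersive
import Groth.Agent.AlgSpLib.PointsCompact
import Mathlib.RingTheory.PowerSeries.Inverse
-- import your own Groth.Agent.* helpers here

set_option autoImplicit false
universe u
open CategoryTheory CategoryTheory.Limits AlgebraicGeometry
open AlgSp

namespace Groth.Agent.S10054

open Groth.Agent.AlgSpLib

theorem exists_dvr_point {X Y : Scheme.{u}} [IsLocallyNoetherian Y] (g : X ⟶ Y) [LocallyOfFiniteType g]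
    (w : X) (v : Y) (h : g w ⤳ v) :
    ∃ (A : Type u) (_ : CommRing A) (_ : IsDomain A) (_ : IsDiscreteValuationRing A)
      (α : Spec (CommRingCat.of A) ⟶ Y) (ψ : X.residueField w →+* FractionRing A),
      α (IsLocalRing.closedPoint A) = v ∧
        Spec.map (CommRingCat.ofHom ψ) ≫ X.fromSpecResidueField w ≫ g =
          Spec.map (CommRingCat.ofHom (algebraMap A (FractionRing A))) ≫ α := by
  by_cases hne : v = g w
  · subst hne
    let A := PowerSeries (X.residueField w : Type u)
    refine ⟨A, inferInstance, inferInstance, inferInstance,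
      Spec.map (CommRingCat.ofHom (PowerSeries.C (R := X.residueField w))) ≫ X.fromSpecResidueField w ≫ g,
      (algebraMap A (FractionRing A)).comp PowerSeries.C, ?_, ?_⟩
    · simp only [Scheme.Hom.comp_apply]
      exact congrArg g (Scheme.fromSpecResidueField_apply w _)
    · rw [CommRingCat.ofHom_comp, Spec.map_comp, Category.assoc]
  · obtain ⟨V, hV, hVd, hVc, hVK⟩ := Groth.Agent.ValExtLib.exists_dvr_valuationSubring g w h hne
    haveI := hVd
    let e := IsLocalization.algEquiv (nonZeroDivisors V) (X.residueField w : Type u) (FractionRing V)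
    refine ⟨V, inferInstance, inferInstance, inferInstance, hV, e.toRingEquiv.toRingHom, hVc, ?_⟩
    rw [← hVK, ← Spec.map_comp_assoc, ← CommRingCat.ofHom_comp]
    congr 3
    ext a
    exact e.commutes a

/-- Let `f : X ⟶ Y` be a morphism of finite type of algebraic spaces over `S` with `Y` locally
Noetherian, and `y ∈ |Y|` a point lying in the closure of `f`'s image on points. Then one can find a
discrete valuation ring `A` with fraction field `K` and a commutative square `Spec K ⟶ X`, `Spec A ⟶
Y` (over `f` and `Spec K ⟶ Spec A`) sending the closed point of `Spec A` to `y`. (The refinement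
that the `K`-point may be taken at a codimension-0 point with `K` a residue field of an etale chart
is not included.) -/
theorem result (S : Scheme.{u}) {X Y : AlgSp.Space S} (f : X ⟶ Y)
    (hft : AlgSp.IsFiniteTypeMor f.hom) (hY : AlgSp.IsLocNoethSp Y.obj) (y : AlgSp.Points Y.obj)
    (hy : y ∈ closure (Set.range (AlgSp.Points.map f.hom))) :
    ∃ (A : Type u) (_ : CommRing A) (_ : IsDomain A) (_ : IsDiscreteValuationRing A)
      (a : Spec (CommRingCat.of A) ⟶ S)
      (α : (AlgSp.yon S).obj (Over.mk a) ⟶ Y.obj)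
      (κ : (AlgSp.yon S).obj (Over.mk (Spec.map (CommRingCat.ofHom (algebraMap A (FractionRing A))) ≫ a)) ⟶ X.obj),
      κ ≫ f.hom = (AlgSp.yon S).map (Over.homMk (Spec.map (CommRingCat.ofHom (algebraMap A (FractionRing A))))) ≫ α ∧
      AlgSp.Points.map α (AlgSp.Points.schemeEquiv (Over.mk a) (IsLocalRing.closedPoint A)) = y := by
  obtain ⟨U, a, hae, has⟩ := Y.property.atlas
  obtain ⟨u, rfl⟩ := surjective_ofPt a has y
  obtain ⟨_, ⟨O₀, hO, rfl⟩, huO, -⟩ :=
    U.left.isBasis_affineOpens.exists_subset_of_mem_open (Set.mem_univ u) isOpen_univ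
  let O : U.left.Opens := O₀
  let V : Over S := Over.mk (O.ι ≫ U.hom)
  let ι : V ⟶ U := Over.homMk O.ι
  let b : (AlgSp.yon S).obj V ⟶ Y.obj := (AlgSp.yon S).map ι ≫ a
  have hbe : AlgSp.RepWith @Etale b :=
    RepWith.comp ((AlgSp.repWith_yon_map_iff _ _).2 (inferInstanceAs (Etale O.ι))) hae
  haveI : IsAffine V.left := hO
  haveI : IsLocallyNoetherian V.left := isLocallyNoetherian_of_chart Y.property hY b hbe
  let v : V.left := ⟨u, huO⟩
  have hv : AlgSp.Points.ofPt b v = AlgSp.Points.ofPt a u := ofPt_map ι a v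
  have sq := IsPullback.of_hasPullback f.hom b
  have hP := isAlgSpace_of_isPullback Y.property.diag X.property (AlgSp.IsAlgSpace.yon_obj V) sq
  have hPq : AlgSp.IsQuasiCompactSp (pullback f.hom b) :=
    hft.2 (AlgSp.IsAlgSpace.yon_obj V) ⟨V, 𝟙 _, repWith_of_isIso _ (𝟙 _), repWith_of_isIso _ (𝟙 _), inferInstance⟩
      b _ _ sq
  haveI := compactSpace_points_of_isQuasiCompactSp hPq
  obtain ⟨U₀, c, hU₀, hce, hcs⟩ := Groth.Agent.AlgSpLib.exists_affine_chart hP
  obtain ⟨g, hg⟩ := (AlgSp.yon S).map_surjective (c ≫ pullback.snd f.hom b)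
  haveI := hU₀
  haveI : LocallyOfFiniteType g.left :=
    locP_of_isPullback etLocal_lft X.property Y.property hP sq hft.1 c (𝟙 _) g hce (AlgSp.repWith_id _ V)
      (hg.symm.trans (Category.comp_id _).symm)
  haveI : IsLocallyNoetherian U₀.left := LocallyOfFiniteType.isLocallyNoetherian g.left
  haveI : LocallyOfFinitePresentation g.left := inferInstance
  haveI : QuasiCompact g.left := inferInstance
  have hrange : AlgSp.Points.ofPt b ⁻¹' Set.range (AlgSp.Points.map f.hom) ⊆ Set.range g.left := by
    rintro e ⟨x, hx⟩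
    rw [AlgSp.Points.ofPt_eq_map_ofScheme] at hx
    obtain ⟨p, -, hp⟩ := exists_point_of_isPullback sq hx
    obtain ⟨w, rfl⟩ := surjective_ofPt c hcs p
    refine ⟨w, (AlgSp.Points.schemeEquiv V).injective ?_⟩
    rw [AlgSp.Points.map_ofPt, ← hg, AlgSp.Points.ofPt_eq_map_ofScheme, map_yon_map_ofScheme] at hp
    exact hp
  have hvc : v ∈ closure (Set.range g.left) := by
    refine closure_mono hrange ?_
    refine (isOpenMap_ofPt b hbe).preimage_closure_subset_closure_preimage ?_
    show AlgSp.Points.ofPt b v ∈ closure (Set.range (AlgSp.Points.map f.hom))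
    rw [hv]
    exact hy
  have hcons : Topology.IsLocallyConstructible (Set.range g.left) := by
    rw [← Set.image_univ]
    exact g.left.isLocallyConstructible_image Topology.IsLocallyConstructible.univ
  obtain ⟨_, ⟨w, rfl⟩, hwv⟩ := Groth.Agent.EGA43.ProperDvr.exists_specializes_of_mem_closure hcons hvc
  obtain ⟨A, _, _, _, α, ψ, hα, he⟩ := exists_dvr_point g.left w v hwv
  refine ⟨A, inferInstance, inferInstance, inferInstance, α ≫ V.hom,
    (AlgSp.yon S).map (Over.homMk α : Over.mk (α ≫ V.hom) ⟶ V) ≫ b,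
    (AlgSp.yon S).map (Over.homMk (Spec.map (CommRingCat.ofHom ψ) ≫ U₀.left.fromSpecResidueField w) (by
      show (Spec.map (CommRingCat.ofHom ψ) ≫ U₀.left.fromSpecResidueField w) ≫ U₀.hom =
        Spec.map (CommRingCat.ofHom (algebraMap A (FractionRing A))) ≫ α ≫ V.hom
      rw [← Over.w g, Category.assoc, ← reassoc_of% he])) ≫ c ≫ pullback.fst f.hom b, ?_, ?_⟩
  · have e1 : c ≫ pullback.fst f.hom b ≫ f.hom = (AlgSp.yon S).map g ≫ b := by
      rw [sq.w, ← Category.assoc, ← hg]
    refine (Category.assoc _ _ _).trans ((congrArg (_ ≫ ·) ((Category.assoc _ _ _).trans e1)).trans ?_)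
    refine (Category.assoc _ _ _).symm.trans (Eq.trans ?_ (Category.assoc _ _ _))
    rw [← Functor.map_comp, ← Functor.map_comp]
    congr 2
    refine Over.OverMorphism.ext ?_
    show (Spec.map (CommRingCat.ofHom ψ) ≫ U₀.left.fromSpecResidueField w) ≫ g.left = Spec.map _ ≫ α
    rw [Category.assoc]
    exact he
  · rw [← hv, AlgSp.Points.map_comp]
    refine (congrArg (AlgSp.Points.map b) (map_yon_map_ofScheme _ _)).trans ?_
    rw [AlgSp.Points.ofPt_eq_map_ofScheme]
    exact congrArg (fun z => AlgSp.Points.map b (AlgSp.Points.ofScheme V z)) hα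

end Groth.Agent.S10054
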