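import Groth.Statements.S10055
import Groth.Agent.AlgSpLib.LimitSystemCoh
import Groth.Agent.AlgSpLib.UnivClosedQC
-- import your own Groth.Agent.* helpers here

set_option autoImplicit false
universe u
open CategoryTheory CategoryTheory.Limits AlgebraicGeometry
open AlgSp

namespace Groth.Agent.S10055

set_option backward.isDefEq.respectTransparency.types false
set_option maxHeartbeats 1000000

/-- Let `(X_i) ⟶ (Y_i)` be a morphism of cofiltered systems of algebraic spaces over `S`, both with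
affine transition morphisms, with every `X_i ⟶ Y_i` a closed immersion. Then the induced morphism of
limits (in fppf sheaves) `lim X_i ⟶ lim Y_i` is a closed immersion. -/
theorem result (S : Scheme.{u}) {I : Type u} [SmallCategory I] [IsCofiltered I]
    (DX DY : I ⥤ AlgSp.Sp S) (hDX : ∀ i, AlgSp.IsAlgSpace (DX.obj i)) (hDY : ∀ i, AlgSp.IsAlgSpace (DY.obj i))
    (hXa : ∀ (i j : I) (φ : i ⟶ j), AlgSp.IsAffineMor (DX.map φ)) (hYa : ∀ (i j : I) (φ : i ⟶ j), AlgSp.IsAffineMor (DY.map φ))
    (τ : DX ⟶ DY) (hτ : ∀ i, AlgSp.RepWith @IsClosedImmersion (τ.app i))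
    (cX : Cone DX) (hcX : IsLimit cX) (cY : Cone DY) (hcY : IsLimit cY)
    (g : cX.pt ⟶ cY.pt) (hg : ∀ i, g ≫ cY.π.app i = cX.π.app i ≫ τ.app i) :
    AlgSp.RepWith @IsClosedImmersion g := by
  refine Groth.Agent.AlgSpLib.repWith_of_affine @IsClosedImmersion fun Z hZ z => ?_
  obtain ⟨o⟩ := IsCofiltered.nonempty (C := I)
  let v : (AlgSp.yon S).obj Z ⟶ DY.obj o := z ≫ cY.π.app o
  let W₀ : Over S := (hτ o).1.pullback v
  let v' : (AlgSp.yon S).obj W₀ ⟶ DX.obj o := (hτ o).1.fst v
  let w₀ : W₀ ⟶ Z := (hτ o).1.snd v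
  have sq₀ : IsPullback v' ((AlgSp.yon S).map w₀) (τ.app o) v := (hτ o).1.isPullback v
  have : IsClosedImmersion w₀.left := (hτ o).2 _ _ _ sq₀
  have : IsAffine W₀.left := isAffine_of_isAffineHom w₀.left
  obtain ⟨Ex, ηx, prx, cx, hcx, θx, haffx, -, hsqx, hprx, ⟨fx, sqθx, hfx⟩, hπx⟩ :=
    Groth.Agent.AlgSpLib.exists_stage_system_coh DX hXa cX hcX v'
  obtain ⟨Ey, ηy, pry, cy, hcy, θy, haffy, -, hsqy, hpry, ⟨fy, sqθy, hfy⟩, hπy⟩ :=
    Groth.Agent.AlgSpLib.exists_stage_system_coh DY hYa cY hcY v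
  have hXaff : ∀ j, IsAffine (Ex.obj j).left := fun j => by
    have := hprx j
    exact isAffine_of_isAffineHom (prx j).left
  have hYaff : ∀ j, IsAffine (Ey.obj j).left := fun j => by
    have := hpry j
    exact isAffine_of_isAffineHom (pry j).left
  have : ∀ j, IsAffine ((Ex ⋙ Over.forget S).obj j) := hXaff
  -- the map of the limits
  let m : (AlgSp.yon S).obj cx.pt ⟶ (AlgSp.yon S).obj cy.pt :=
    sqθy.lift (fx ≫ (AlgSp.yon S).map w₀) (θx ≫ g) (by
      simp only [Category.assoc]; rw [← sq₀.w, ← Category.assoc, sqθx.w, Category.assoc, hg])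
  obtain ⟨a, ha⟩ := (AlgSp.yon S).map_surjective m
  have sqa : IsPullback θx ((AlgSp.yon S).map a) g θy := by
    rw [ha]
    refine IsPullback.of_bot ?_ (sqθy.lift_snd _ _ _).symm sqθy.flip
    rw [sqθy.lift_fst, hg]
    exact ((sqθx.flip.paste_horiz (IsPullback.of_horiz_isIso ⟨by simp⟩ :
      IsPullback (𝟙 _) (cX.π.app o) (cX.π.app o) (𝟙 _))).of_iso (Iso.refl _) (Iso.refl _) (Iso.refl _)
      (Iso.refl _) (by simp) (by simp) (by simp) (by simp)).paste_vert sq₀
  have hax : IsAffine cx.pt.left := Scheme.isAffine_of_isLimit _ hcx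
  have : ∀ j, IsAffine ((Ey ⋙ Over.forget S).obj j) := hYaff
  have hay : IsAffine cy.pt.left := Scheme.isAffine_of_isLimit _ hcy
  have hcl : IsClosedImmersion a.left := by
    refine IsClosedImmersion.of_surjective_of_isAffine a.left fun s => ?_
    obtain ⟨j, t, ht⟩ := exists_appTop_π_eq_of_isAffine_of_isLimit (Ex ⋙ Over.forget S) _ hcx s
    let α : (AlgSp.yon S).obj (Ex.obj j) ⟶ (AlgSp.yon S).obj (Ey.obj j) :=
      (hsqy j).lift ((AlgSp.yon S).map (prx j ≫ w₀)) (ηx j ≫ τ.app j.left) (by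
        rw [Functor.map_comp, Category.assoc, ← sq₀.w, ← Category.assoc, (hsqx j).w,
          Category.assoc, Category.assoc, τ.naturality])
    obtain ⟨b, hb⟩ := (AlgSp.yon S).map_surjective α
    have sqb : IsPullback (ηx j) ((AlgSp.yon S).map b) (τ.app j.left) (ηy j) := by
      rw [hb]
      refine IsPullback.of_bot ?_ ((hsqy j).lift_snd _ _ _).symm (hsqy j).flip
      rw [(hsqy j).lift_fst, Functor.map_comp]
      have h1 := (hsqx j).flip.paste_vert sq₀
      rw [τ.naturality] at h1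
      exact h1
    have : IsClosedImmersion b.left := (hτ j.left).2 _ _ _ sqb
    obtain ⟨t', ht'⟩ := b.left.app_surjective _ (isAffineOpen_top _) t
    refine ⟨(cy.π.app j).left.appTop t', ?_⟩
    have e : a ≫ cy.π.app j = cx.π.app j ≫ b := by
      apply (AlgSp.yon S).map_injective
      apply (hsqy j).hom_ext
      · simp only [Functor.map_comp, Category.assoc]
        rw [← Functor.map_comp (AlgSp.yon S) (cy.π.app j), hfy j, hb, (hsqy j).lift_fst, ha,
          sqθy.lift_fst, Functor.map_comp, ← Category.assoc _ ((AlgSp.yon S).map (prx j)),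
          ← Functor.map_comp (AlgSp.yon S) (cx.π.app j), hfx j]
      · simp only [Functor.map_comp, Category.assoc]
        rw [(hπy j).w, hb, (hsqy j).lift_snd, ← Category.assoc _ (ηx j), (hπx j).w, ha,
          ← Category.assoc, sqθy.lift_snd, Category.assoc, Category.assoc, hg]
    show ((cy.π.app j).left.appTop ≫ a.left.appTop) t' = s
    rw [← Scheme.Hom.comp_appTop, ← Over.comp_left, e, Over.comp_left, Scheme.Hom.comp_appTop]
    show (cx.π.app j).left.appTop (b.left.appTop t') = s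
    erw [ht']
    exact ht
  let sec : (AlgSp.yon S).obj Z ⟶ (AlgSp.yon S).obj cy.pt := sqθy.lift (𝟙 _) z (Category.id_comp _)
  obtain ⟨l, hl⟩ := (AlgSp.yon S).map_surjective sec
  have sq2 := Groth.Agent.AlgSpLib.isPullback_over_forget
    (A := Over.mk (pullback.snd a.left l.left ≫ Z.hom)) (B := cx.pt) (C := Z) (D := cy.pt)
    (f := (Over.homMk (pullback.fst a.left l.left) (by
      show pullback.fst a.left l.left ≫ cx.pt.hom = pullback.snd a.left l.left ≫ Z.hom
      rw [← Over.w a, ← Category.assoc, pullback.condition, Category.assoc, Over.w l]) :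
      Over.mk (pullback.snd a.left l.left ≫ Z.hom) ⟶ cx.pt))
    (g := (Over.homMk (pullback.snd a.left l.left) rfl :
      Over.mk (pullback.snd a.left l.left ≫ Z.hom) ⟶ Z)) (h := a) (i := l)
    (IsPullback.of_hasPullback a.left l.left)
  refine ⟨_, _, _, (by
    have h1 := sq2.paste_horiz sqa
    rw [hl, sqθy.lift_snd] at h1
    exact h1), MorphismProperty.pullback_snd _ _ hcl⟩

end Groth.Agent.S10055
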