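import Groth.Statements.S10056
import Groth.Agent.AlgSpLib.LimitSystem
import Groth.Agent.AlgSpLib.EtaleAscend
import Groth.Agent.H8Lim.Stalk
-- import your own Groth.Agent.* helpers here

set_option autoImplicit false
universe u
open CategoryTheory CategoryTheory.Limits AlgebraicGeometry
open AlgSp

namespace Groth.Agent.S10056

set_option backward.isDefEq.respectTransparency.types false

/-- Let `X` be the limit, in fppf sheaves over `S`, of a cofiltered system `(X_i)` of algebraic spaces
over `S` whose transition maps are affine. If each `X_i` is reduced, then `X` is reduced. (The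
published statement does not restate that the transition morphisms are affine; the limit it refers
to is formed under that assumption, which this row states.) -/
theorem result (S : Scheme.{u}) {I : Type u} [SmallCategory I] [IsCofiltered I]
    (D : I ⥤ AlgSp.Sp S) (hD : ∀ i, AlgSp.IsAlgSpace (D.obj i))
    (hDa : ∀ (i j : I) (φ : i ⟶ j), AlgSp.IsAffineMor (D.map φ))
    (c : Cone D) (hc : IsLimit c)
    (hred : ∀ i, AlgSp.IsReducedSp (D.obj i)) : AlgSp.IsReducedSp c.pt := by
  obtain ⟨i₀⟩ := IsCofiltered.nonempty (C := I)
  obtain ⟨V, v, hve, hvs⟩ := (hD i₀).atlas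
  obtain ⟨E, η, pr, cE, hcE, θ, haff, -, -, -, hη, hθe, hθs, -⟩ :=
    Groth.Agent.AlgSpLib.exists_chart_system D hDa c hc v hve hvs
  have : ∀ {j k : Over i₀} (f : j ⟶ k), IsAffineHom ((E ⋙ Over.forget S).map f) := fun f => haff f
  have hj : ∀ j, IsReduced (E.obj j).left := fun j => by
    obtain ⟨U, a, hae, has, hU⟩ := hred j.left
    have hr := (hD j.left).representable_from_yon a
    have sq := hr.isPullback' (η j)
    have : IsReduced U.left := hU
    have : Etale (hr.fst' (η j)).left := (hη j).1.2 _ _ _ sq.flip
    have : Etale (hr.snd (η j)).left := hae.2 _ _ _ sq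
    have : Surjective (hr.snd (η j)).left := has.2 _ _ _ sq
    have := Groth.Agent.AlgSpLib.isReduced_of_etale' (hr.fst' (η j)).left
    exact Groth.Agent.AlgSpLib.isReduced_of_flat_surjective (hr.snd (η j)).left
  refine ⟨cE.pt, θ, hθe, hθs, ?_⟩
  exact Groth.Agent.H8Lim.isReduced_pt_of_forall hcE (Over.mk (𝟙 i₀)) fun j _ => hj j

end Groth.Agent.S10056
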