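import Groth.Statements.S10063
import Groth.Agent.AlgSpLib.ProperStage
import Groth.Agent.AlgSpLib.LimitSeparated
import Groth.Agent.AlgSpLib.LimitDescend
import Groth.Agent.S10039
import Groth.Agent.S10009
-- import your own Groth.Agent.* helpers here

set_option autoImplicit false
universe u
open CategoryTheory CategoryTheory.Limits AlgebraicGeometry
open AlgSp

namespace Groth.Agent.S10063

open Groth.Agent.AlgSpLib

set_option backward.isDefEq.respectTransparency false
set_option backward.isDefEq.respectTransparency.types false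
set_option linter.style.haveILetI false

attribute [local instance] CategoryTheory.isConnected_of_hasTerminal

theorem closedImmersion_section {S : Scheme.{u}} {P X' : Sp S} {q : P ⟶ X'} (hq : IsSeparatedMor q) (s : X' ⟶ P)
    (h : s ≫ q = 𝟙 X') : RepWith @IsClosedImmersion s := by
  let m : P ⟶ pullback q q := pullback.lift (𝟙 P) (q ≫ s) (by rw [Category.id_comp, Category.assoc, h, Category.comp_id])
  have key : ∀ {T : Sp S} (x z : T ⟶ P), x ≫ pullback.diagonal q = z ≫ m → x = z ∧ z = (z ≫ q) ≫ s := by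
    intro T x z e
    have e1 := congrArg (· ≫ pullback.fst q q) e
    have e2 := congrArg (· ≫ pullback.snd q q) e
    simp only [m, Category.assoc, pullback.diagonal_fst, pullback.diagonal_snd, pullback.lift_fst, pullback.lift_snd,
      Category.comp_id] at e1 e2
    exact ⟨e1, by rw [Category.assoc, ← e2, e1]⟩
  have sq : IsPullback s s (pullback.diagonal q) m := by
    refine ⟨⟨?_⟩, ⟨PullbackCone.IsLimit.mk _ (fun c => c.snd ≫ q) (fun c => ?_) (fun c => ?_) (fun c g h1 h2 => ?_)⟩⟩
    · apply pullback.hom_ext <;> simp [m, reassoc_of% h]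
    · exact (key _ _ c.condition).2.symm.trans (key _ _ c.condition).1.symm
    · exact (key _ _ c.condition).2.symm
    · show g = c.snd ≫ q
      rw [← h2, Category.assoc, h, Category.comp_id]
  exact RepWith.baseChange sq hq


/-- Let `B` be the limit, in fppf sheaves over `S`, of a cofiltered system `(B_i)` of Noetherian
algebraic spaces over `S` (quasi-compact and quasi-separated over `S`, locally Noetherian) whose
transition maps are affine, and `X ⟶ B` a quasi-separated morphism of finite type. Then for some `i`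
there are `W ⟶ B_i` of finite type and `X ⟶ W` compatible with `X ⟶ B ⟶ B_i` such that `X ⟶ B
×_{B_i} W` is a closed immersion. (The published statement allows any base scheme and uses absolute
quasi-separatedness; this row assumes the base quasi-separated, over which quasi-separatedness
relative to the base is the absolute notion.) -/
theorem result (S : Scheme.{u}) [QuasiSeparatedSpace S] {I : Type u} [SmallCategory I] [IsCofiltered I]
    (D : I ⥤ AlgSp.Sp S) (hD : ∀ i, AlgSp.IsAlgSpace (D.obj i))
    (hDa : ∀ (i j : I) (φ : i ⟶ j), AlgSp.IsAffineMor (D.map φ))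
    (hqc : ∀ i, AlgSp.IsQuasiCompactSp (D.obj i)) (hqs : ∀ i, AlgSp.IsQuasiSeparatedSp (D.obj i))
    (c : Cone D) (hc : IsLimit c)
    (hln : ∀ i, AlgSp.IsLocNoethSp (D.obj i))
    (X : AlgSp.Space S) (a : X.obj ⟶ c.pt) (haqs : AlgSp.IsQuasiSeparatedMor a) (hft : AlgSp.IsFiniteTypeMor a) :
    ∃ (i : I) (W : AlgSp.Space S) (w : W.obj ⟶ D.obj i) (b : X.obj ⟶ W.obj),
      AlgSp.IsFiniteTypeMor w ∧ b ≫ w = a ≫ c.π.app i ∧
      ∀ (P : AlgSp.Sp S) (fst : P ⟶ c.pt) (snd : P ⟶ W.obj), IsPullback fst snd (c.π.app i) w →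
        ∀ k : X.obj ⟶ P, k ≫ fst = a → k ≫ snd = b → AlgSp.RepWith @IsClosedImmersion k := by
  obtain ⟨i₀⟩ := IsCofiltered.nonempty (C := I)
  have hc' : IsAlgSpace c.pt := isAlgSpace_limit D hD hDa c hc
  have hπa : IsAffineMor (c.π.app i₀) := isAffineMor_π D hDa c hc i₀
  have hBc : IsQuasiCompactSp c.pt := OpenFac.isQuasiCompactSp_of_affine (hD i₀) hπa (hqc i₀)
  have hBs : IsQuasiSeparatedSp c.pt := ProperSt.isQuasiSeparatedSp_of_separated (LimitSep.diag_separated hπa) (hqs i₀)
  have hXc : IsQuasiCompactSp X.obj := OpenFac.isQuasiCompactSp_of_mor X.property hc' hft.2 hBc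
  have hXs : IsQuasiSeparatedSp X.obj := by
    have hT : IsTerminal ((yon S).obj (Over.mk (𝟙 S))) := IsTerminal.isTerminalObj (yon S) _ Over.mkIdTerminal
    refine (isQuasiSeparatedMor_iff_sp (hT.from X.obj)).1 ?_
    rw [hT.hom_ext (hT.from X.obj) (a ≫ hT.from c.pt)]
    exact isQuasiSeparatedMor_comp haqs ((isQuasiSeparatedMor_iff_sp _).2 hBs)
  obtain ⟨J, _, _, _, E, tE, cE, hcE, e, hE, hEa, hEp, hEe⟩ := Groth.Agent.S10039.result S
    (X := X) (Y := ⟨D.obj i₀, hD i₀⟩) (ObjectProperty.homMk (a ≫ c.π.app i₀)) hXc hXs (hqs i₀)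
  have tEn : ∀ {j k : Jᵒᵖ} (φ : j ⟶ k), E.map φ ≫ tE.app k = tE.app j := fun φ =>
    (tE.naturality φ).trans (Category.comp_id _)
  let π := c.π.app i₀
  let F : Jᵒᵖ ⥤ Sp S :=
    { obj := fun j => pullback π (tE.app j)
      map := fun {j k} φ => pullback.lift (pullback.fst _ _) (pullback.snd _ _ ≫ E.map φ)
        (by rw [Category.assoc, tEn, pullback.condition])
      map_id := fun j => by apply pullback.hom_ext <;> simp
      map_comp := fun φ ψ => by apply pullback.hom_ext <;> simp }
  let tF : F ⟶ (Functor.const Jᵒᵖ).obj c.pt :=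
    { app := fun j => pullback.fst _ _
      naturality := fun j k φ => by simp [F] }
  let α : F ⟶ E :=
    { app := fun j => pullback.snd _ _
      naturality := fun j k φ => by simp [F] }
  let g : cE.pt ⟶ D.obj i₀ := e.hom ≫ a ≫ π
  have hg : ∀ j, cE.π.app j ≫ tE.app j = g := fun j => by
    have := hEe j
    rw [Iso.inv_comp_eq] at this
    exact this
  let cF : Cone F :=
    { pt := pullback π g
      π :=
      { app := fun j => pullback.lift (pullback.fst π g) (pullback.snd π g ≫ cE.π.app j)
          (by rw [Category.assoc, hg, pullback.condition])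
        naturality := fun j k φ => by apply pullback.hom_ext <;> simp [F] } }
  have hFsq : ∀ j, IsPullback (cF.π.app j) (pullback.snd π g) (α.app j) (cE.π.app j) := fun j => by
    refine IsPullback.of_right (h₁₂ := pullback.fst π (tE.app j)) ?_ (pullback.lift_snd _ _ _)
      (IsPullback.of_hasPullback π (tE.app j))
    rw [show cF.π.app j ≫ pullback.fst π (tE.app j) = pullback.fst π g from pullback.lift_fst _ _ _, hg]
    exact IsPullback.of_hasPullback π g
  haveI : IsConnected Jᵒᵖ := IsCofiltered.isConnected _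
  have hcF : IsLimit cF := isLimitOfIsPullbackOfIsConnected α cF cE
    { hom := pullback.snd π g, w := fun j => (pullback.lift_snd _ _ _).symm } hFsq hcE
  have hFalg : ∀ j, IsAlgSpace (F.obj j) := fun j =>
    isAlgSpace_of_isPullback (hD i₀).diag hc' (hE j) (IsPullback.of_hasPullback π (tE.app j))
  have hFa : ∀ (j k : Jᵒᵖ) (φ : j ⟶ k), IsAffineMor (F.map φ) := fun j k φ => by
    have sq : IsPullback (F.map φ) (α.app j) (α.app k) (E.map φ) := by
      refine IsPullback.of_right (h₁₂ := pullback.fst π (tE.app k)) ?_ (pullback.lift_snd _ _ _)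
        (IsPullback.of_hasPullback π (tE.app k))
      rw [show F.map φ ≫ pullback.fst π (tE.app k) = pullback.fst π (tE.app j) from pullback.lift_fst _ _ _, tEn]
      exact IsPullback.of_hasPullback π (tE.app j)
    exact isAffineMor_of_repWith (RepWith.baseChange sq.flip ((isAffineMor_iff_repWith _).1 (hEa j k φ)))
  have hEc : ∀ j, IsQuasiCompactSp (E.obj j) := fun j =>
    OpenFac.isQuasiCompactSp_of_mor (hE j) (hD i₀) (hEp j).2.1 (hqc i₀)
  have hαa : ∀ j, IsAffineMor (α.app j) := fun j => isAffineMor_of_repWith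
    (RepWith.baseChange (IsPullback.of_hasPullback π (tE.app j)) ((isAffineMor_iff_repWith _).1 hπa))
  have hFc : ∀ j, IsQuasiCompactSp (F.obj j) := fun j =>
    OpenFac.isQuasiCompactSp_of_affine (hE j) (hαa j) (hEc j)
  let y : X.obj ⟶ cF.pt := pullback.lift a e.inv (by simp [g, π])
  have hy : RepWith @IsClosedImmersion y := by
    refine closedImmersion_section (q := pullback.snd π g ≫ e.hom) ?_ y (by simp [y]; rfl)
    exact isSeparatedMor_comp (isSeparatedMor_of_isPullback (IsPullback.of_hasPullback π g) (LimitSep.diag_separated hπa))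
      (isSeparatedMor_of_mono _)
  obtain ⟨j₁⟩ := IsCofiltered.nonempty (C := Jᵒᵖ)
  obtain ⟨j₀, hj₀⟩ := Groth.Agent.S10009.result S ⟨c.pt, hc'⟩ F hFalg tF hFa cF hcF hFc X y hy j₁ (by
    rw [show y ≫ cF.π.app j₁ ≫ tF.app j₁ = a by simp [y, tF, cF]]
    exact hft.1)
  refine ⟨i₀, ⟨E.obj j₀, hE j₀⟩, tE.app j₀, e.inv ≫ cE.π.app j₀,
    ⟨locP_mono (fun _ _ m (_ : LocallyOfFinitePresentation m) => (inferInstance : LocallyOfFiniteType m)) (hEp j₀).1, (hEp j₀).2.1⟩, by rw [Category.assoc]; exact hEe j₀, ?_⟩
  intro P fst snd sq k hk1 hk2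
  have ek : k = (y ≫ cF.π.app j₀) ≫ sq.isoPullback.inv := by
    apply sq.hom_ext
    · rw [hk1]; simp [y, cF, π]
    · rw [hk2]; simp [y, cF, π]
  rw [ek]
  exact RepWith.comp (hj₀ j₀ (𝟙 _)) (repWith_of_isIso @IsClosedImmersion _)

end Groth.Agent.S10063
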