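import Groth.Statements.S10066
import Groth.Agent.AlgSpLib.SchemeStage
import Groth.Agent.AlgSpLib.FpqcBaseAffine2
import Groth.Agent.S10068
import Groth.Agent.S10421
-- import your own Groth.Agent.* helpers here

set_option autoImplicit false
universe u
open CategoryTheory CategoryTheory.Limits AlgebraicGeometry
open AlgSp

namespace Groth.Agent.S10066

open Groth.Agent.AlgSpLib

/-- Let `X` be an algebraic space, quasi-compact and quasi-separated over the scheme `S`, whose space of
points `|X|` has only finitely many irreducible components, and `V ⟶ X` a surjective etale morphism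
from a scheme. Then there are a scheme `Y`, a finite surjective morphism `g : Y ⟶ X` of finite
presentation which is finite etale over some quasi-compact dense open subspace `U ⊂ X`, and for
every point of `Y` an open neighbourhood whose map to `X` factors through `V`. (Part (1) of the
published statement, the existence of such `Y ⟶ X` and `U`, is the case where `V` is an etale atlas
of `X`.) (The published statement allows any base scheme and uses absolute quasi-separatedness; this
row assumes the base quasi-separated, over which quasi-separatedness relative to the base is the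
absolute notion.) -/
theorem result (S : Scheme.{u}) [QuasiSeparatedSpace S]
    (X : AlgSp.Space S) (hXqc : AlgSp.IsQuasiCompactSp X.obj) (hXqs : AlgSp.IsQuasiSeparatedSp X.obj)
    (hirr : (irreducibleComponents (AlgSp.Points X.obj)).Finite)
    (V : Over S) (p : (AlgSp.yon S).obj V ⟶ X.obj) (hpe : AlgSp.RepWith @Etale p) (hps : AlgSp.RepWith @Surjective p) :
    ∃ (Y : Over S) (g : (AlgSp.yon S).obj Y ⟶ X.obj) (U : AlgSp.Space S) (j : U ⟶ X),
      AlgSp.IsFiniteMor g ∧ AlgSp.IsSurjectiveMor g ∧ AlgSp.IsFinitePresentationMor g ∧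
      AlgSp.RepWith @IsOpenImmersion j.hom ∧ AlgSp.IsQuasiCompactSp U.obj ∧ Dense (Set.range (AlgSp.Points.map j.hom)) ∧
      (∀ (P : AlgSp.Sp S) (fst : P ⟶ (AlgSp.yon S).obj Y) (snd : P ⟶ U.obj), IsPullback fst snd g j.hom →
        AlgSp.IsFiniteMor snd ∧ AlgSp.IsEtaleMor snd) ∧
      ∀ y : ↥Y.left, ∃ (W : Y.left.Opens), y ∈ W ∧
        ∃ k : Over.mk (W.ι ≫ Y.hom) ⟶ V, (AlgSp.yon S).map k ≫ p = (AlgSp.yon S).map (Over.homMk W.ι) ≫ g := by
  classical
  obtain ⟨Y₀, g₀, U, jU, hgi, hgs, hjU, hUqc, hUd, hfe, hloc⟩ := S10421.result X hXqc hXqs hirr p hpe hps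
  have sqP := IsPullback.of_hasPullback g₀ jU.hom
  obtain ⟨hPf, hPe⟩ := hfe _ _ _ sqP
  have hPa : AlgSp.IsAlgSpace (pullback g₀ jU.hom) :=
    isAlgSpace_of_isPullback X.property.diag (IsAlgSpace.yon_obj _) U.property sqP
  have hfin : AlgSp.IsFiniteMor (pullback.snd g₀ jU.hom) := (isFiniteMor_iff_repWith _).2 hPf
  have hfp : AlgSp.IsFinitePresentationMor (pullback.snd g₀ jU.hom) :=
    ⟨locP_of_repWith etLocal_lfp hPa (RepWith.mono etale_le_lfp hPe),
      (repWith_quasiCompact_iff hPa U.property hPe.1).1 (RepWith.mono (fun _ _ q (_ : IsFinite q) =>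
        (inferInstance : QuasiCompact q)) hPf),
      isQuasiSeparatedMor_of_isSeparatedMor (LimitSep.diag_separated (VCart.isAffineMor_of_finiteMor hfin))⟩
  obtain ⟨I, _, _, _, D, t, c, hc, e, hD, hDa, hDt, hce, hiso⟩ := S10068.result S
    (X := ⟨(AlgSp.yon S).obj Y₀, IsAlgSpace.yon_obj _⟩) (Y := X) (ObjectProperty.homMk g₀)
    ((isIntegralMor_iff_repWith g₀).2 hgi) hXqc hXqs U jU hjU hUqc _ _ _ sqP hfin hfp
  have hta : ∀ i, AlgSp.IsAffineMor (t.app i) := fun i => VCart.isAffineMor_of_finiteMor (hDt i).1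
  obtain ⟨i, Y, ε, hY⟩ := SchStage.exists_scheme_stage hXqc hXqs D t c hc hD hDa hta e g₀ hce p hpe hloc
  refine ⟨Y, ε.hom ≫ t.app i, U, jU, ?_, fun x => ?_, ?_, hjU, hUqc, hUd, fun P fst snd hP => ?_, hY⟩
  · exact (isFiniteMor_iff_repWith _).2
      (RepWith.comp (repWith_of_isIso @IsFinite ε.hom) ((isFiniteMor_iff_repWith _).1 (hDt i).1))
  · obtain ⟨y, rfl⟩ := surjective_map_of_repWith hgs x
    refine ⟨AlgSp.Points.map (e.inv ≫ c.π.app i ≫ ε.inv) y, ?_⟩
    rw [← AlgSp.Points.map_comp]
    simp only [Category.assoc, Iso.inv_hom_id_assoc]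
    exact congrArg (fun q => AlgSp.Points.map q y) (hce i)
  · haveI : Mono ε.hom := inferInstance
    refine ⟨locP_comp etLocal_lfp (IsAlgSpace.yon_obj _) (hD i) X.property
      (locP_of_repWith etLocal_lfp (IsAlgSpace.yon_obj _) (RepWith.mono (fun _ _ q (_ : IsOpenImmersion q) =>
        (inferInstance : LocallyOfFinitePresentation q)) (repWith_of_isIso @IsOpenImmersion ε.hom)))
      (hDt i).2.1, ?_, isQuasiSeparatedMor_comp (isQuasiSeparatedMor_of_mono _) (hDt i).2.2.2⟩
    exact isQuasiCompactMor_comp (IsAlgSpace.yon_obj _) (hD i) X.property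
      ((repWith_quasiCompact_iff (IsAlgSpace.yon_obj _) (hD i) (repWith_of_isIso @QuasiCompact ε.hom).1).1
        (repWith_of_isIso @QuasiCompact ε.hom)) (hDt i).2.2.1
  · have sq : IsPullback (fst ≫ ε.hom) snd (t.app i) jU.hom :=
      hP.of_iso (Iso.refl _) ε (Iso.refl _) (Iso.refl _) (by simp) (by simp) (by simp) (by simp)
    obtain ⟨k, hk1, hk2⟩ : ∃ k, k ≫ fst ≫ ε.hom = pullback.fst g₀ jU.hom ≫ e.inv ≫ c.π.app i ∧
        k ≫ snd = pullback.snd g₀ jU.hom := ⟨sq.lift _ _ (by
          rw [Category.assoc, Category.assoc, hce i]; exact sqP.w), sq.lift_fst _ _ _, sq.lift_snd _ _ _⟩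
    haveI : IsIso k := hiso i P _ snd sq k hk1 hk2
    have hs : snd = inv k ≫ pullback.snd g₀ jU.hom := by rw [← hk2, IsIso.inv_hom_id_assoc]
    rw [hs]
    exact ⟨(isFiniteMor_iff_repWith _).2 (RepWith.comp (repWith_of_isIso @IsFinite (inv k)) hPf),
      fun _ φ hφ => RepWith.comp hφ (RepWith.comp (repWith_of_isIso @Etale (inv k)) hPe)⟩

end Groth.Agent.S10066
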