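import Groth.Statements.S10072
import Groth.Agent.AlgSpLib.UnivClosedQC
import Groth.Agent.AlgSpLib.WeakAssEtSite
import Groth.Agent.AlgSpLib.EtLocalInst
-- import your own Groth.Agent.* helpers here

set_option autoImplicit false
universe u
open CategoryTheory CategoryTheory.Limits AlgebraicGeometry
open AlgSp

namespace Groth.Agent.S10072

open Opposite Groth.Agent.AlgSpLib

set_option backward.isDefEq.respectTransparency false

/-- Let `f : X ⟶ Y` be quasi-compact, `g : Z ⟶ Y` a morphism of algebraic spaces over `S`, `P = X ×_Y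
Z`, `z ∈ |Z|` and `T ⊂ |P|` closed with `z` not in the image of `T`. Then there are an affine etale
neighbourhood `(V, v) ⟶ (Z, z)`, an affine scheme `Z'` with `b : Z' ⟶ Y` locally of finite
presentation and `a : V ⟶ Z'` over `Y`, and for every fibre product `P' = X ×_Y Z'` a closed `T' ⊂
|P'|` whose image in `|Z'|` misses `a(v)` and which contains the image of the inverse image of `T`
in `|X ×_Y V|`. (The variant with `V` an open neighbourhood when `Z` is a scheme is not included.) -/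
theorem result (S : Scheme.{u}) {X Y Z : AlgSp.Space S} (f : X ⟶ Y) (g : Z ⟶ Y)
    (hf : AlgSp.IsQuasiCompactMor f.hom)
    (P : AlgSp.Sp S) (p₁ : P ⟶ X.obj) (p₂ : P ⟶ Z.obj) (hP : IsPullback p₁ p₂ f.hom g.hom)
    (z : AlgSp.Points Z.obj) (T : Set (AlgSp.Points P)) (hT : IsClosed T) (hz : z ∉ AlgSp.Points.map p₂ '' T) :
    ∃ (V : Over S) (_ : IsAffine V.left) (e : (AlgSp.yon S).obj V ⟶ Z.obj) (_ : AlgSp.RepWith @Etale e) (v : ↥V.left)
      (_ : AlgSp.Points.map e (AlgSp.Points.schemeEquiv V v) = z)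
      (Z' : Over S) (_ : IsAffine Z'.left) (b : (AlgSp.yon S).obj Z' ⟶ Y.obj) (_ : AlgSp.LocP @LocallyOfFinitePresentation b)
      (a : V ⟶ Z') (_ : (AlgSp.yon S).map a ≫ b = e ≫ g.hom),
      ∀ (P' : AlgSp.Sp S) (q₁ : P' ⟶ X.obj) (q₂ : P' ⟶ (AlgSp.yon S).obj Z'), IsPullback q₁ q₂ f.hom b →
        ∃ T' : Set (AlgSp.Points P'), IsClosed T' ∧
          AlgSp.Points.schemeEquiv Z' (a.left v) ∉ AlgSp.Points.map q₂ '' T' ∧
          ∀ (PV : AlgSp.Sp S) (r₁ : PV ⟶ X.obj) (r₂ : PV ⟶ (AlgSp.yon S).obj V), IsPullback r₁ r₂ f.hom (e ≫ g.hom) →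
            ∀ (κ₁ : PV ⟶ P) (κ₂ : PV ⟶ P'), κ₁ ≫ p₁ = r₁ → κ₁ ≫ p₂ = r₂ ≫ e → κ₂ ≫ q₁ = r₁ → κ₂ ≫ q₂ = r₂ ≫ (AlgSp.yon S).map a →
              ∀ w : AlgSp.Points PV, AlgSp.Points.map κ₁ w ∈ T → AlgSp.Points.map κ₂ w ∈ T' := by
  classical
  -- an affine neighbourhood over an affine chart of the target
  obtain ⟨EZ, hEZ, uZ, huZ⟩ := QCohEt.exists_affine_chart Z.property z
  obtain ⟨EY, hEY, uY, huY⟩ := QCohEt.exists_affine_chart Y.property (Points.map g.hom z)
  let hYr := EY.property.1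
  have sqO := hYr.isPullback' (EZ.obj.hom ≫ g.hom)
  obtain ⟨o, ho1, ho2⟩ := (ofPt_eq_ofPt_iff sqO uY uZ).1 (by rw [huY, ← huZ, Points.map_ofPt])
  obtain ⟨O₁, hO₁, hoO, -⟩ := exists_isAffineOpen_mem_and_subset (X := (hYr.pullback (EZ.obj.hom ≫ g.hom)).left)
    (x := o) (U := ⊤) trivial
  let V : Over S := Over.mk (O₁.ι ≫ (hYr.pullback (EZ.obj.hom ≫ g.hom)).hom)
  let jV : V ⟶ hYr.pullback (EZ.obj.hom ≫ g.hom) := Over.homMk O₁.ι
  let e : (yon S).obj V ⟶ Z.obj := (yon S).map (jV ≫ hYr.snd _) ≫ EZ.obj.hom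
  have he : RepWith @Etale e := RepWith.comp ((repWith_yon_map_iff @Etale _).2 (by
    have : Etale (hYr.snd (EZ.obj.hom ≫ g.hom)).left := EY.property.property_snd _
    show Etale (O₁.ι ≫ (hYr.snd (EZ.obj.hom ≫ g.hom)).left)
    infer_instance)) EZ.property
  let v : ↥V.left := ⟨o, hoO⟩
  have hv : Points.ofPt e v = z := by
    rw [← huZ, ← ho2]
    exact ofPt_map (jV ≫ hYr.snd _) EZ.obj.hom v
  -- coordinates on the chart of the target
  have : IsAffine V.left := hO₁
  have hWa : IsAffine EY.obj.left.left := hEY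
  let R : CommRingCat.{u} := Γ(EY.obj.left.left, ⊤)
  let str : Spec R ⟶ S := EY.obj.left.left.isoSpec.inv ≫ EY.obj.left.hom
  let iW : Over.mk str ≅ EY.obj.left := Over.isoMk EY.obj.left.left.isoSpec.symm rfl
  let w : (yon S).obj (Over.mk str) ⟶ Y.obj := (yon S).map iW.hom ≫ EY.obj.hom
  have hw : RepWith @Etale w := RepWith.comp ((repWith_yon_map_iff @Etale _).2 (by
    show Etale EY.obj.left.left.isoSpec.inv; infer_instance)) EY.property
  let cV : V ⟶ Over.mk str := jV ≫ hYr.fst' _ ≫ iW.inv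
  have hcV : (yon S).map cV ≫ w = e ≫ g.hom := by
    simp only [cV, e, w, Functor.map_comp, Category.assoc]
    rw [← Functor.map_comp_assoc (yon S) iW.inv, iW.inv_hom_id, CategoryTheory.Functor.map_id, Category.id_comp, sqO.w]
  let B : CommRingCat.{u} := Γ(V.left, ⊤)
  let ψ : R ⟶ B := Spec.preimage (V.left.isoSpec.inv ≫ cV.left)
  have hψ : Spec.map ψ = V.left.isoSpec.inv ≫ cV.left := Spec.map_preimage _
  clear_value e cV w
  let P₀ := pullback f.hom w
  have sq₀ : IsPullback (pullback.fst f.hom w) (pullback.snd f.hom w) f.hom w := IsPullback.of_hasPullback _ _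
  have hP₀ : IsAlgSpace P₀ := isAlgSpace_of_isPullback Y.property.diag X.property (IsAlgSpace.yon_obj _) sq₀
  have : CompactSpace (Points P₀) := compactSpace_points_of_isQuasiCompactSp
    (hf (IsAlgSpace.yon_obj _) ⟨_, 𝟙 _, repWith_of_isIso _ _, repWith_of_isIso _ _,
      (inferInstance : CompactSpace ↥(Spec R))⟩ w _ _ sq₀)
  obtain ⟨U, p, hU, hpe, hps⟩ := exists_affine_chart hP₀
  obtain ⟨φ, hφ⟩ := Spec.map_surjective (U.left.isoSpec.inv ≫ ((yon S).preimage (p ≫ pullback.snd f.hom w)).left)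
  let WU : Over S := Over.mk (Spec.map φ ≫ str)
  let i : WU ≅ U := Over.isoMk U.left.isoSpec.symm (by
    show U.left.isoSpec.inv ≫ U.hom = Spec.map φ ≫ str
    rw [hφ, Category.assoc]
    exact congrArg (U.left.isoSpec.inv ≫ ·) (Over.w ((yon S).preimage (p ≫ pullback.snd f.hom w))).symm)
  let h₀ : WU ⟶ Over.mk str := Over.homMk (Spec.map φ) rfl
  let a : (yon S).obj WU ⟶ P₀ := (yon S).map i.hom ≫ p
  have hae : RepWith @Etale a := RepWith.comp ((repWith_yon_map_iff @Etale i.hom).2 (by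
    show Etale U.left.isoSpec.inv; infer_instance)) hpe
  have has : RepWith @Surjective a := RepWith.comp ((repWith_yon_map_iff @Surjective i.hom).2 (by
    show Surjective U.left.isoSpec.inv; infer_instance)) hps
  have ha : a ≫ pullback.snd f.hom w = (yon S).map h₀ := by
    rw [show h₀ = i.hom ≫ (yon S).preimage (p ≫ pullback.snd f.hom w) from Over.OverMorphism.ext hφ,
      Functor.map_comp, Functor.map_preimage, Category.assoc]
  clear_value a
  -- the pulled back closed set, inside an affine space over the chart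
  let π : MvPolynomial ↥B ↥R →+* ↥B := MvPolynomial.eval₂Hom ψ.hom id
  have hπC : π.comp MvPolynomial.C = ψ.hom := MvPolynomial.eval₂Hom_comp_C ψ.hom id
  let jB : V ⟶ polyOver str ↥B := Over.homMk (V.left.isoSpec.hom ≫ Spec.map (CommRingCat.ofHom π)) (by
    show (V.left.isoSpec.hom ≫ Spec.map (CommRingCat.ofHom π)) ≫ Spec.map _ ≫ str = V.hom
    rw [Category.assoc, ← Spec.map_comp_assoc, ← CommRingCat.ofHom_comp, hπC, CommRingCat.ofHom_hom, hψ]
    simp only [Category.assoc, Iso.hom_inv_id_assoc]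
    exact Over.w cV)
  have hjB : jB ≫ polyHom str ↥B = cV := Over.OverMorphism.ext (by
    show (V.left.isoSpec.hom ≫ Spec.map (CommRingCat.ofHom π)) ≫ Spec.map _ = cV.left
    rw [Category.assoc, ← Spec.map_comp, ← CommRingCat.ofHom_comp, hπC, CommRingCat.ofHom_hom, hψ,
      Iso.hom_inv_id_assoc])
  have : IsClosedImmersion jB.left := by
    have : IsClosedImmersion (Spec.map (CommRingCat.ofHom π)) :=
      IsClosedImmersion.spec_of_surjective _ fun b => ⟨MvPolynomial.X b, MvPolynomial.eval₂Hom_X' _ _ b⟩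
    show IsClosedImmersion (V.left.isoSpec.hom ≫ Spec.map (CommRingCat.ofHom π))
    infer_instance
  obtain ⟨PV₀, r₁, r₂, hPV₀⟩ : ∃ (PV₀ : Sp S) (r₁ : PV₀ ⟶ X.obj) (r₂ : PV₀ ⟶ (yon S).obj V),
    IsPullback r₁ r₂ f.hom (e ≫ g.hom) := ⟨_, _, _, IsPullback.of_hasPullback _ _⟩
  obtain ⟨κ₀, hκ₀1, hκ₀2⟩ := hP.exists_lift r₁ (r₂ ≫ e) (by rw [hPV₀.w, Category.assoc])
  obtain ⟨pV, hpV1, hpV2⟩ := sq₀.exists_lift r₁ (r₂ ≫ (yon S).map cV) (by rw [hPV₀.w, Category.assoc, hcV])
  have sqV : IsPullback pV r₂ (pullback.snd f.hom w) ((yon S).map cV) :=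
    IsPullback.of_right (by rw [hpV1, hcV]; exact hPV₀) hpV2 sq₀
  obtain ⟨aI, hIs, sI⟩ := exists_poly_chart str (pullback.snd f.hom w) φ a ha ↥B
    (IsPullback.of_hasPullback (pullback.snd f.hom w) ((yon S).map (polyHom str ↥B)))
  have sqI := IsPullback.of_hasPullback (pullback.snd f.hom w) ((yon S).map (polyHom str ↥B))
  obtain ⟨jP, hjP1, hjP2⟩ := sqI.exists_lift pV (r₂ ≫ (yon S).map jB)
    (by rw [sqV.w, Category.assoc, ← Functor.map_comp, hjB])
  have sqJ : IsPullback jP r₂ (pullback.snd (pullback.snd f.hom w) ((yon S).map (polyHom str ↥B))) ((yon S).map jB) :=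
    IsPullback.of_right (by rw [hjP1, ← Functor.map_comp, hjB]; exact sqV) hjP2 sqI
  have hjc : RepWith @IsClosedImmersion jP :=
    haveI := IsClosedImmersion.isStableUnderBaseChange.{u}
    RepWith.baseChange sqJ.flip ((repWith_yon_map_iff @IsClosedImmersion jB).2 ‹_›)
  let ZT : Set (PrimeSpectrum (MvPolynomial ↥B Γ(U.left, ⊤))) :=
    Points.ofPt aI ⁻¹' (Points.map jP '' (Points.map κ₀ ⁻¹' T))
  have hZT : IsClosed ZT :=
    by
    show IsClosed (Points.ofPt aI ⁻¹' (Points.map jP '' (Points.map κ₀ ⁻¹' T)))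
    rw [ofPt_preimage_image (hjc.1.isPullback aI)]
    have : IsClosedImmersion (hjc.1.snd aI).left := hjc.property_snd aI
    exact (hjc.1.snd aI).left.isClosedEmbedding.isClosedMap _
      ((hT.preimage (Points.continuous_map κ₀)).preimage (Points.continuous_ofPt _))
  let t : PrimeSpectrum (MvPolynomial ↥B ↥R) := jB.left v
  have hev : Points.map e (Points.ofScheme V v) = z := by rw [← Points.ofPt_eq_map_ofScheme]; exact hv
  have ht : ∀ Q ∈ ZT, PrimeSpectrum.comap (MvPolynomial.map φ.hom) Q ≠ t := by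
    rintro Q ⟨x, hx, hQ⟩ ht
    apply hz
    refine ⟨Points.map κ₀ x, hx, ?_⟩
    have h1 : Points.map ((yon S).map jB) (Points.map r₂ x) = Points.ofScheme _ (jB.left v) := by
      rw [← Points.map_comp, ← sqJ.w, Points.map_comp, hQ, Points.map_ofPt, hIs, Points.ofPt_eq_map_ofScheme,
        map_yon_map_ofScheme]
      exact congrArg _ ((polyBC_apply str φ ↥B Q).trans ht)
    obtain ⟨v', hv'⟩ := (Points.schemeEquiv V).surjective (Points.map r₂ x)
    rw [← hv', show Points.schemeEquiv V v' = Points.ofScheme V v' from rfl, map_yon_map_ofScheme] at h1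
    have h2 : v' = v := jB.left.isClosedEmbedding.injective ((Points.schemeEquiv _).injective h1)
    rw [← Points.map_comp, hκ₀2, Points.map_comp, ← hv', h2]
    exact hev
  obtain ⟨n, k, hk⟩ := exists_finite_separating φ.hom hZT t ht
  -- the finite level
  let ja : V ⟶ polyOver str (ULift.{u} (Fin n)) := jB ≫ polyRename str k
  refine ⟨V, ‹_›, e, he, v, hev, polyOver str (ULift.{u} (Fin n)), inferInstanceAs (IsAffine (Spec _)),
    (yon S).map (polyHom str _) ≫ w, ?_, ja, ?_, fun P' q₁ q₂ hP' => ?_⟩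
  · refine locP_comp etLocal_lfp (IsAlgSpace.yon_obj _) (IsAlgSpace.yon_obj _) Y.property
      (locP_of_repWith etLocal_lfp (IsAlgSpace.yon_obj _) ((repWith_yon_map_iff @LocallyOfFinitePresentation _).2 ?_))
      (locP_of_repWith etLocal_lfp (IsAlgSpace.yon_obj _) (RepWith.mono etale_le_lfp hw))
    show LocallyOfFinitePresentation (Spec.map _)
    rw [HasRingHomProperty.Spec_iff (P := @LocallyOfFinitePresentation), CommRingCat.hom_ofHom,
      show (MvPolynomial.C : ↥R →+* MvPolynomial (ULift.{u} (Fin n)) ↥R) = algebraMap _ _ from rfl,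
      RingHom.finitePresentation_algebraMap]
    infer_instance
  · rw [← Category.assoc, ← Functor.map_comp, Category.assoc jB, polyRename_comp_polyHom, hjB, hcV]
  obtain ⟨m₀, hm₀1, hm₀2⟩ := sq₀.exists_lift q₁ (q₂ ≫ (yon S).map (polyHom str _)) (by rw [hP'.w, Category.assoc])
  have sQ : IsPullback m₀ q₂ (pullback.snd f.hom w) ((yon S).map (polyHom str (ULift.{u} (Fin n)))) :=
    IsPullback.of_right (by rw [hm₀1]; exact hP') hm₀2 sq₀
  obtain ⟨aσ, hσs, sσ⟩ := exists_poly_chart str (pullback.snd f.hom w) φ a ha _ sQ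
  have haσe : RepWith @Etale aσ := RepWith.baseChange sσ.flip hae
  have haσs : RepWith @Surjective aσ := RepWith.baseChange sσ.flip has
  obtain ⟨pP, hp1, hp2⟩ := sQ.exists_lift (pullback.fst (pullback.snd f.hom w) ((yon S).map (polyHom str ↥B)))
    (pullback.snd _ _ ≫ (yon S).map (polyRename str k))
    (by rw [Category.assoc, ← Functor.map_comp, polyRename_comp_polyHom, sqI.w])
  have hwI : aI ≫ pP = (yon S).map (polyRename (Spec.map φ ≫ str) k) ≫ aσ := by
    refine sQ.hom_ext ?_ ?_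
    · rw [Category.assoc, hp1, Category.assoc, sσ.w, sI.w, ← Functor.map_comp_assoc,
        polyRename_comp_polyHom]
    · rw [Category.assoc, hp2]
      refine (Category.assoc _ _ _).symm.trans ?_
      rw [hIs, Category.assoc, hσs, ← Functor.map_comp,
        ← Functor.map_comp, polyBC_comp_polyRename]
  have sW : IsPullback aI ((yon S).map (polyRename (Spec.map φ ≫ str) k)) pP aσ := by
    refine (IsPullback.of_right ?_ hwI.symm sσ.flip).flip
    rw [← Functor.map_comp, hp1, polyRename_comp_polyHom]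
    exact sI.flip
  refine ⟨closure (Points.map pP '' (Points.map jP '' (Points.map κ₀ ⁻¹' T))), isClosed_closure, ?_, ?_⟩
  · rintro ⟨x, hx, hxv⟩
    obtain ⟨q, rfl⟩ := surjective_ofPt aσ haσs x
    have hq : q ∈ closure (Points.ofPt aσ ⁻¹' (Points.map pP '' (Points.map jP '' (Points.map κ₀ ⁻¹' T)))) := by
      rw [← (isOpenMap_ofPt aσ haσe).preimage_closure_eq_closure_preimage (Points.continuous_ofPt aσ)]
      exact hx
    rw [ofPt_preimage_image sW] at hq
    have h1 : Points.ofScheme _ ((polyBC str φ (ULift.{u} (Fin n))).left q) = Points.ofScheme _ (ja.left v) := by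
      rw [← map_yon_map_ofScheme, ← Points.ofPt_eq_map_ofScheme, ← hσs, ← Points.map_ofPt]
      exact hxv
    refine hk q ?_ ((Points.schemeEquiv _).injective h1)
    exact hq
  · intro PV s₁ s₂ hPV κ₁ κ₂ e1 e2 e3 e4 x hx
    let τ := hPV.isoIsPullback _ _ hPV₀
    have hτ1 : τ.hom ≫ r₁ = s₁ := IsPullback.isoIsPullback_hom_fst _ _ _ _
    have hτ2 : τ.hom ≫ r₂ = s₂ := IsPullback.isoIsPullback_hom_snd _ _ _ _
    have hκ : τ.hom ≫ κ₀ = κ₁ := by
      apply hP.hom_ext
      · rw [Category.assoc, hκ₀1, hτ1, e1]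
      · rw [Category.assoc, hκ₀2, ← Category.assoc, hτ2, e2]
    have hκ' : τ.hom ≫ jP ≫ pP = κ₂ := by
      apply hP'.hom_ext
      · rw [Category.assoc, Category.assoc, ← hm₀1, reassoc_of% hp1, reassoc_of% hjP1, hpV1, hτ1, hm₀1, e3]
      · rw [Category.assoc, Category.assoc, hp2, reassoc_of% hjP2, ← Functor.map_comp, reassoc_of% hτ2, e4]
    refine subset_closure ⟨Points.map jP (Points.map τ.hom x), ⟨Points.map τ.hom x, ?_, rfl⟩, ?_⟩
    · show Points.map κ₀ _ ∈ T
      rw [← Points.map_comp, hκ]; exact hx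
    · rw [← Points.map_comp, ← Points.map_comp, hκ']

end Groth.Agent.S10072
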