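import Groth.Statements.S10073
import Groth.Agent.AlgSpLib.SchImage
import Groth.Agent.AlgSpLib.LimitClosed
import Groth.Agent.AlgSpLib.LfpSpaces
import Groth.Agent.AlgSpLib.ThickMor
import Groth.Agent.S10055
-- import your own Groth.Agent.* helpers here

set_option autoImplicit false
universe u
open CategoryTheory CategoryTheory.Limits AlgebraicGeometry
open AlgSp

namespace Groth.Agent.S10073

open Opposite Groth.Agent.AlgSpLib

set_option backward.isDefEq.respectTransparency false

/-- closed subschemes of an affine limit are ordered by their images in the stages -/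
theorem ker_le_of_stages {J : Type u} [SmallCategory J] [IsCofiltered J] (E : J ⥤ Scheme.{u})
    [∀ j, IsAffine (E.obj j)] (c : Cone E) (hc : IsLimit c) {A B : Scheme.{u}} (q : A ⟶ c.pt) (w : B ⟶ c.pt)
    [QuasiCompact q] [QuasiCompact w] [IsAffine c.pt]
    (h : ∀ j, (q ≫ c.π.app j).ker ≤ (w ≫ c.π.app j).ker) : q.ker ≤ w.ker := by
  refine Scheme.IdealSheafData.le_of_isAffine ?_
  rw [Scheme.Hom.ker_apply, Scheme.Hom.ker_apply]
  intro a ha
  obtain ⟨j, t, rfl⟩ := exists_appTop_π_eq_of_isAffine_of_isLimit E c hc a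
  let π : c.pt ⟶ E.obj j := c.π.app j
  have hj := h j ⟨⊤, isAffineOpen_top _⟩
  rw [Scheme.Hom.ker_apply, Scheme.Hom.ker_apply] at hj
  exact hj (x := t) ha

/-- Let `B = lim B_i` be a cofiltered limit (in fppf sheaves over `S`) of Noetherian algebraic spaces
(quasi-compact and quasi-separated over `S`, locally Noetherian) whose transition maps are affine,
`X ⟶ B` quasi-separated of finite type, and `X ⟶ W` over `B ⟶ B_i` with `W ⟶ B_i` of finite type and
`X ⟶ B ×_{B_i} W` a closed immersion. For `i'` over `i` write `X_{i'}` for the scheme-theoretic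
image of `X` in `B_{i'} ×_{B_i} W`, with the induced transition maps. Then `X = lim_{i'} X_{i'}`:
the cone of maps `X ⟶ X_{i'}` is a limit cone. (The published statement allows any base scheme and
uses absolute quasi-separatedness; this row assumes the base quasi-separated, over which
quasi-separatedness relative to the base is the absolute notion.) -/
theorem result (S : Scheme.{u}) [QuasiSeparatedSpace S] {I : Type u} [SmallCategory I] [IsCofiltered I]
    (D : I ⥤ AlgSp.Sp S) (hD : ∀ i, AlgSp.IsAlgSpace (D.obj i))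
    (hDa : ∀ (i j : I) (φ : i ⟶ j), AlgSp.IsAffineMor (D.map φ))
    (hqc : ∀ i, AlgSp.IsQuasiCompactSp (D.obj i)) (hqs : ∀ i, AlgSp.IsQuasiSeparatedSp (D.obj i))
    (c : Cone D) (hc : IsLimit c)
    (hln : ∀ i, AlgSp.IsLocNoethSp (D.obj i))
    (X : AlgSp.Space S) (a : X.obj ⟶ c.pt) (hXqs : AlgSp.IsQuasiSeparatedMor a) (hXft : AlgSp.IsFiniteTypeMor a)
    (i : I) (W : AlgSp.Space S) (w : W.obj ⟶ D.obj i) (hw : AlgSp.IsFiniteTypeMor w) (b : X.obj ⟶ W.obj)
    (hb : b ≫ w = a ≫ c.π.app i)
    (hci : ∀ (P : AlgSp.Sp S) (fst : P ⟶ c.pt) (snd : P ⟶ W.obj), IsPullback fst snd (c.π.app i) w →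
      ∀ k : X.obj ⟶ P, k ≫ fst = a → k ≫ snd = b → AlgSp.RepWith @IsClosedImmersion k)
    (DP : Over i ⥤ AlgSp.Sp S) (π₁ : DP ⟶ Over.forget i ⋙ D) (π₂ : DP ⟶ (Functor.const (Over i)).obj W.obj)
    (hDP : ∀ i' : Over i, IsPullback (π₁.app i') (π₂.app i') (D.map i'.hom) w)
    (DX : Over i ⥤ AlgSp.Sp S) (hDX : ∀ i', AlgSp.IsAlgSpace (DX.obj i')) (ε : DX ⟶ DP)
    (ξ : (Functor.const (Over i)).obj X.obj ⟶ DX)
    (hξ : ∀ i' : Over i, ξ.app i' ≫ ε.app i' ≫ π₁.app i' = a ≫ c.π.app i'.left ∧ ξ.app i' ≫ ε.app i' ≫ π₂.app i' = b)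
    (himg : ∀ i' : Over i, AlgSp.IsSchImage (ξ.app i' ≫ ε.app i') (ε.app i')) :
    Nonempty (IsLimit (Cone.mk X.obj ξ)) := by
  have hDfa : ∀ (x y : Over i) (φ : x ⟶ y), IsAffineMor ((Over.forget i ⋙ D).map φ) := fun x y φ => hDa _ _ φ.left
  have hP : IsAlgSpace (pullback (c.π.app i) w) :=
    isAlgSpace_of_isPullback (hD i).diag (isAlgSpace_limit D hD hDa c hc) W.property (IsPullback.of_hasPullback _ _)
  have hDPa : ∀ i', IsAlgSpace (DP.obj i') := fun i' =>
    isAlgSpace_of_isPullback (hD i).diag (hD i'.left) W.property (hDP i')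
  have hn₂ : ∀ {x y : Over i} (φ : x ⟶ y), DP.map φ ≫ π₂.app y = π₂.app x := fun φ =>
    (π₂.naturality φ).trans (Category.comp_id _)
  have sqφ : ∀ {x y : Over i} (φ : x ⟶ y), IsPullback (π₁.app x) (DP.map φ) (D.map φ.left) (π₁.app y) :=
    fun {x y} φ => by
      refine (IsPullback.of_bot ?_ (π₁.naturality φ).symm (hDP y).flip.flip).flip.flip
      rw [hn₂, show (Over.forget i ⋙ D).map φ ≫ D.map y.hom = D.map x.hom from (D.map_comp _ _).symm.trans (congrArg D.map (Over.w φ))]
      exact hDP x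
  have hDPt : ∀ (x y : Over i) (φ : x ⟶ y), IsAffineMor (DP.map φ) := fun x y φ =>
    (isAffineMor_iff_repWith _).2 (RepWith.baseChange (sqφ φ) ((isAffineMor_iff_repWith _).1 (hDa _ _ φ.left)))
  haveI : ∀ x, Mono (ε.app x) := fun x => mono_closedImmersion (himg x).1
  have hDXt : ∀ (x y : Over i) (φ : x ⟶ y), IsAffineMor (DX.map φ) := fun x y φ => by
    refine Groth.Agent.AlgSpLib.ThickAff.isAffineMor_of_mono_comp (j := ε.app y) ?_
    rw [ε.naturality, isAffineMor_iff_repWith]
    exact RepWith.comp ((isAffineMor_iff_repWith _).1 (isAffineMor_of_closedImmersion (himg x).1))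
      ((isAffineMor_iff_repWith _).1 (hDPt x y φ))
  -- the limit of the fibre products
  have hD' : IsLimit (c.whisker (Over.forget i)) := (Functor.Initial.isLimitWhiskerEquiv (Over.forget i) c).symm hc
  let t : Over i := Over.mk (𝟙 i)
  let tt : ∀ x : Over i, x ⟶ t := fun x => Over.homMk x.hom (Category.comp_id _)
  let πP : ∀ x : Over i, pullback (c.π.app i) w ⟶ DP.obj x := fun x =>
    (hDP x).lift (pullback.fst _ _ ≫ c.π.app x.left) (pullback.snd _ _)
      (by rw [Category.assoc, c.w, pullback.condition])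
  have hπP : ∀ (x y : Over i) (φ : x ⟶ y), 𝟙 _ ≫ πP y = πP x ≫ DP.map φ := fun x y φ => by
    rw [Category.id_comp]
    apply (hDP y).hom_ext
    · rw [Category.assoc, π₁.naturality φ, ← Category.assoc]
      simp only [πP, IsPullback.lift_fst, Category.assoc]
      exact congrArg _ (c.w φ.left).symm
    · rw [Category.assoc, hn₂]
      simp only [πP, IsPullback.lift_snd]
  let cP : Cone DP := ⟨pullback (c.π.app i) w, { app := πP, naturality := hπP }⟩
  have hcP : IsLimit cP := by
    let f₁ : ∀ s : Cone DP, s.pt ⟶ c.pt := fun s => hD'.lift ((Cone.postcompose π₁).obj s)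
    have hf₁ : ∀ s x, f₁ s ≫ c.π.app x.left = s.π.app x ≫ π₁.app x := fun s x =>
      hD'.fac ((Cone.postcompose π₁).obj s) x
    have hs₂ : ∀ (s : Cone DP) x, s.π.app x ≫ π₂.app x = s.π.app t ≫ π₂.app t := fun s x => by
      rw [← hn₂ (tt x), ← Category.assoc, s.w]
    refine ⟨fun s => pullback.lift (f₁ s) (s.π.app t ≫ π₂.app t) ?_, fun s x => ?_, fun s m hm => ?_⟩
    · refine (hf₁ s t).trans ?_
      rw [Category.assoc, ← (hDP t).w]
      simp [t]
    · apply (hDP x).hom_ext
      · show (_ ≫ πP x) ≫ _ = _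
        simp only [πP, Category.assoc, IsPullback.lift_fst, pullback.lift_fst_assoc]
        exact hf₁ s x
      · show (_ ≫ πP x) ≫ _ = _
        simp only [πP, Category.assoc, IsPullback.lift_snd, pullback.lift_snd]
        exact (hs₂ s x).symm
    · apply pullback.hom_ext
      · rw [pullback.lift_fst]
        refine hD'.hom_ext fun x => ?_
        refine Eq.trans ?_ (hf₁ s x).symm
        rw [← hm x]
        show (m ≫ _) ≫ c.π.app x.left = (m ≫ πP x) ≫ π₁.app x
        simp [πP]
      · rw [pullback.lift_snd, ← hm t]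
        show m ≫ _ = (m ≫ πP t) ≫ π₂.app t
        simp [πP]
  -- the closed subspaces
  let cL := limit.cone DX
  have hcL : IsLimit cL := limit.isLimit DX
  let g : cL.pt ⟶ cP.pt := hcP.lift ((Cone.postcompose ε).obj cL)
  have hg : ∀ x, g ≫ cP.π.app x = cL.π.app x ≫ ε.app x := fun x => hcP.fac _ x
  have hgc : RepWith @IsClosedImmersion g :=
    Groth.Agent.S10055.result S DX DP hDX hDPa hDXt hDPt ε (fun x => (himg x).1) cL hcL cP hcP g hg
  haveI : Mono g := mono_closedImmersion hgc
  let cξ : Cone DX := Cone.mk X.obj ξ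
  let k : X.obj ⟶ cP.pt := pullback.lift a b hb.symm
  have hk : RepWith @IsClosedImmersion k :=
    hci _ _ _ (IsPullback.of_hasPullback _ _) k (pullback.lift_fst _ _ _) (pullback.lift_snd _ _ _)
  have hkξ : ∀ x, k ≫ cP.π.app x = ξ.app x ≫ ε.app x := fun x => by
    apply (hDP x).hom_ext
    · show (k ≫ πP x) ≫ _ = _
      simp only [k, πP, Category.assoc, IsPullback.lift_fst, pullback.lift_fst_assoc]
      exact (hξ x).1.symm
    · show (k ≫ πP x) ≫ _ = _
      simp only [k, πP, Category.assoc, IsPullback.lift_snd, pullback.lift_snd]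
      exact (hξ x).2.symm
  let l : X.obj ⟶ cL.pt := hcL.lift cξ
  have hl : l ≫ g = k := hcP.hom_ext fun x => by
    rw [Category.assoc, hg, ← Category.assoc, hcL.fac cξ x]
    exact (hkξ x).symm
  -- a chart
  have htq : IsQuasiCompactSp (DP.obj t) :=
    hw.2 (hD t.left) (hqc t.left) (D.map t.hom) (π₂.app t) (π₁.app t) (hDP t).flip
  have := compactSpace_points_of_isQuasiCompactSp htq
  obtain ⟨V, v, hV, hve, hvs⟩ := exists_affine_chart (hDPa t)
  obtain ⟨E, η, pr, cE, hcE, θ, haff, hnat, hsq, hpr, hη, hθe, hθs, hπ⟩ :=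
    exists_chart_system DP hDPt cP hcP v hve hvs
  have hEa : ∀ j, IsAffine ((E ⋙ Over.forget S).obj j) := fun j => by
    have := hpr j
    show IsAffine (E.obj j).left
    exact isAffine_of_isAffineHom (pr j).left
  have hcEa : IsAffine cE.pt.left := Scheme.isAffine_of_isLimit _ hcE
  have sqk := hk.1.isPullback θ
  have sqg := hgc.1.isPullback θ
  have : IsClosedImmersion (hk.1.snd θ).left := hk.property_snd θ
  have : IsClosedImmersion (hgc.1.snd θ).left := hgc.property_snd θ
  have : IsAffine (hk.1.pullback θ).left := isAffine_of_isAffineHom (hk.1.snd θ).left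
  have hle : chartIdeal hk θ ≤ chartIdeal hgc θ := by
    refine @ker_le_of_stages (Over t) _ _ (E ⋙ Over.forget S) hEa _ hcE _ _ (hk.1.snd θ).left (hgc.1.snd θ).left
      inferInstance inferInstance hcEa fun j => ?_
    have : IsAffine (E.obj j).left := hEa j
    let πj : cE.pt ⟶ E.obj j := cE.π.app j
    -- the image ideal at the stage
    have sqj : IsPullback (hk.1.fst θ) ((yon S).map (hk.1.snd θ ≫ πj)) (ξ.app j.left ≫ ε.app j.left) (η j) := by
      rw [Functor.map_comp, ← hkξ]
      exact sqk.paste_vert (hπ j).flip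
    let C : ImgChart (ξ.app j.left ≫ ε.app j.left) :=
      ⟨E.obj j, η j, (hη j).1, (hη j).2, _, _, _, sqj, hk.1.pullback θ, 𝟙 _, repWith_of_isIso _ _,
        repWith_of_isIso _ _, hk.1.snd θ ≫ πj, Category.id_comp _⟩
    have hC : QuasiCompact C.h.left := inferInstanceAs (QuasiCompact ((hk.1.snd θ).left ≫ πj.left))
    have h1 : chartIdeal (himg j.left).1 (η j) = ((hk.1.snd θ).left ≫ πj.left).ker :=
      chartIdeal_of_isSchImage X.property (hDPa j.left) C hC (himg j.left)
    refine h1.symm.le.trans ((factors_comp_iff (himg j.left).1 (hgc.1.snd θ ≫ πj) (η j)).1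
      ⟨hgc.1.fst θ ≫ cL.π.app j.left, ?_⟩)
    rw [Functor.map_comp, Category.assoc, Category.assoc, ← hg, ← Category.assoc, sqg.w, Category.assoc,
      (hπ j).w]
  obtain ⟨m, hm⟩ := (factors_closed_iff hgc hk hθe hθs).2 hle
  haveI := mono_closedImmersion hk
  haveI : IsIso l := ⟨m, by rw [← cancel_mono k, Category.assoc, hm, hl, Category.id_comp],
    by rw [← cancel_mono g, Category.assoc, hl, hm, Category.id_comp]⟩
  exact ⟨hcL.ofIsoLimit (Cone.ext (asIso l).symm fun x => by
    show cL.π.app x = inv l ≫ ξ.app x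
    rw [IsIso.eq_inv_comp]
    exact hcL.fac cξ x)⟩

end Groth.Agent.S10073
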