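import Groth.Statements.S10074
import Groth.Agent.AlgSpLib.SchImage
import Groth.Agent.AlgSpLib.LimitClosed
import Groth.Agent.AlgSpLib.LfpSpaces
import Groth.Agent.AlgSpLib.ThickMor
import Groth.Agent.AlgSpLib.VCartSpace
import Groth.Agent.AlgSpLib.OpenFac
import Groth.Agent.S10073
-- import your own Groth.Agent.* helpers here

set_option autoImplicit false
universe u
open CategoryTheory CategoryTheory.Limits AlgebraicGeometry
open AlgSp

namespace Groth.Agent.S10074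

open Groth.Agent.AlgSpLib

set_option backward.isDefEq.respectTransparency false
set_option backward.isDefEq.respectTransparency.types false
set_option linter.style.haveILetI false
set_option maxHeartbeats 1600000

/-- a map out of a scheme theoretic image factors through a closed subspace if its restriction does -/
theorem exists_factor {S : Scheme.{u}} {X D P D' P' : AlgSp.Sp S} (hD : IsAlgSpace D) (hD' : IsAlgSpace D')
    (hP' : IsAlgSpace P') {ξ : X ⟶ D} {ε : D ⟶ P} (himg : IsSchImage (ξ ≫ ε) ε)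
    {ε' : D' ⟶ P'} (hε' : RepWith @IsClosedImmersion ε') (g : D ⟶ P') (η : X ⟶ D') (h : ξ ≫ g = η ≫ ε') :
    ∃ q : D ⟶ D', q ≫ ε' = g := by
  have sq := IsPullback.of_hasPullback g ε'
  obtain ⟨k, hk⟩ := himg.2.2 (pullback.fst g ε' ≫ ε) (isAlgSpace_of_isPullback hP'.diag hD hD' sq)
    (RepWith.comp (RepWith.baseChange sq.flip hε') himg.1) ⟨pullback.lift ξ η h, by rw [pullback.lift_fst_assoc]⟩
  haveI := mono_closedImmersion himg.1
  have hk' : k ≫ pullback.fst g ε' = 𝟙 D := by rw [← cancel_mono ε, Category.assoc, hk, Category.id_comp]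
  exact ⟨k ≫ pullback.snd g ε', by rw [Category.assoc, ← pullback.condition, reassoc_of% hk']⟩

/-- Let `B = lim B_i` be a cofiltered limit (in fppf sheaves over `S`) of Noetherian algebraic spaces
(quasi-compact and quasi-separated over `S`, locally Noetherian) whose transition maps are affine,
`f : X ⟶ Y` a morphism over `B` between algebraic spaces each of finite type and quasi-separated
over `B`, and `X ⟶ W` over `B_{i₁}`, `Y ⟶ V` over `B_{i₂}` good diagrams (`W ⟶ B_{i₁}` and `V ⟶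
B_{i₂}` of finite presentation, `X ⟶ B ×_{B_{i₁}} W` and `Y ⟶ B ×_{B_{i₂}} V` closed immersions)
with their systems of scheme-theoretic images `(X_i)`, `(Y_i)`. Then for some `i₀` over `i₁`, `i₂`
there is a morphism of systems `(f_i : X_i ⟶ Y_i)_{i ≥ i₀}` over `(B_i)` with `f = lim f_i`
(compatible with `X ⟶ X_i`, `Y ⟶ Y_i`), and any two such families agree for all `i` over some index.
(The published statement takes `W` and `V` only of finite type over `B_{i₁}`, `B_{i₂}`; this row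
takes them of finite presentation, which its proof uses.) (The published statement allows any base
scheme and uses absolute quasi-separatedness; this row assumes the base quasi-separated, over which
quasi-separatedness relative to the base is the absolute notion.) -/
theorem result (S : Scheme.{u}) [QuasiSeparatedSpace S] {I : Type u} [SmallCategory I] [IsCofiltered I]
    (D : I ⥤ AlgSp.Sp S) (hD : ∀ i, AlgSp.IsAlgSpace (D.obj i))
    (hDa : ∀ (i j : I) (φ : i ⟶ j), AlgSp.IsAffineMor (D.map φ))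
    (hqc : ∀ i, AlgSp.IsQuasiCompactSp (D.obj i)) (hqs : ∀ i, AlgSp.IsQuasiSeparatedSp (D.obj i))
    (c : Cone D) (hc : IsLimit c)
    (hln : ∀ i, AlgSp.IsLocNoethSp (D.obj i))
    (X Y : AlgSp.Space S) (aX : X.obj ⟶ c.pt) (aY : Y.obj ⟶ c.pt) (f : X.obj ⟶ Y.obj) (hf : f ≫ aY = aX)
    (hXqs : AlgSp.IsQuasiSeparatedMor aX) (hXft : AlgSp.IsFiniteTypeMor aX)
    (hYqs : AlgSp.IsQuasiSeparatedMor aY) (hYft : AlgSp.IsFiniteTypeMor aY)
    (i₁ : I) (W : AlgSp.Space S) (w : W.obj ⟶ D.obj i₁) (hw : AlgSp.IsFinitePresentationMor w) (bX : X.obj ⟶ W.obj)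
    (hbX : bX ≫ w = aX ≫ c.π.app i₁)
    (hciX : ∀ (P : AlgSp.Sp S) (fst : P ⟶ c.pt) (snd : P ⟶ W.obj), IsPullback fst snd (c.π.app i₁) w →
      ∀ k : X.obj ⟶ P, k ≫ fst = aX → k ≫ snd = bX → AlgSp.RepWith @IsClosedImmersion k)
    (PX : Over i₁ ⥤ AlgSp.Sp S) (PXπ₁ : PX ⟶ Over.forget i₁ ⋙ D) (PXπ₂ : PX ⟶ (Functor.const (Over i₁)).obj W.obj)
    (hPX : ∀ i' : Over i₁, IsPullback (PXπ₁.app i') (PXπ₂.app i') (D.map i'.hom) w)
    (DX : Over i₁ ⥤ AlgSp.Sp S) (hDX : ∀ i', AlgSp.IsAlgSpace (DX.obj i')) (εX : DX ⟶ PX)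
    (ξX : (Functor.const (Over i₁)).obj X.obj ⟶ DX)
    (hξX : ∀ i' : Over i₁, ξX.app i' ≫ εX.app i' ≫ PXπ₁.app i' = aX ≫ c.π.app i'.left ∧ ξX.app i' ≫ εX.app i' ≫ PXπ₂.app i' = bX)
    (himgX : ∀ i' : Over i₁, AlgSp.IsSchImage (ξX.app i' ≫ εX.app i') (εX.app i'))
    (i₂ : I) (V : AlgSp.Space S) (v : V.obj ⟶ D.obj i₂) (hv : AlgSp.IsFinitePresentationMor v) (bY : Y.obj ⟶ V.obj)
    (hbY : bY ≫ v = aY ≫ c.π.app i₂)
    (hciY : ∀ (P : AlgSp.Sp S) (fst : P ⟶ c.pt) (snd : P ⟶ V.obj), IsPullback fst snd (c.π.app i₂) v →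
      ∀ k : Y.obj ⟶ P, k ≫ fst = aY → k ≫ snd = bY → AlgSp.RepWith @IsClosedImmersion k)
    (PY : Over i₂ ⥤ AlgSp.Sp S) (PYπ₁ : PY ⟶ Over.forget i₂ ⋙ D) (PYπ₂ : PY ⟶ (Functor.const (Over i₂)).obj V.obj)
    (hPY : ∀ i' : Over i₂, IsPullback (PYπ₁.app i') (PYπ₂.app i') (D.map i'.hom) v)
    (DY : Over i₂ ⥤ AlgSp.Sp S) (hDY : ∀ i', AlgSp.IsAlgSpace (DY.obj i')) (εY : DY ⟶ PY)
    (ξY : (Functor.const (Over i₂)).obj Y.obj ⟶ DY)
    (hξY : ∀ i' : Over i₂, ξY.app i' ≫ εY.app i' ≫ PYπ₁.app i' = aY ≫ c.π.app i'.left ∧ ξY.app i' ≫ εY.app i' ≫ PYπ₂.app i' = bY)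
    (himgY : ∀ i' : Over i₂, AlgSp.IsSchImage (ξY.app i' ≫ εY.app i') (εY.app i')) :
    ∃ (i₀ : I) (φ₁ : i₀ ⟶ i₁) (φ₂ : i₀ ⟶ i₂) (fam : Over.map φ₁ ⋙ DX ⟶ Over.map φ₂ ⋙ DY),
      (∀ i' : Over i₀, ξX.app ((Over.map φ₁).obj i') ≫ fam.app i' = f ≫ ξY.app ((Over.map φ₂).obj i')) ∧
        (∀ i' : Over i₀, fam.app i' ≫ εY.app ((Over.map φ₂).obj i') ≫ PYπ₁.app ((Over.map φ₂).obj i') =
          εX.app ((Over.map φ₁).obj i') ≫ PXπ₁.app ((Over.map φ₁).obj i')) ∧
      ∀ gam : Over.map φ₁ ⋙ DX ⟶ Over.map φ₂ ⋙ DY,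
        (∀ i' : Over i₀, ξX.app ((Over.map φ₁).obj i') ≫ gam.app i' = f ≫ ξY.app ((Over.map φ₂).obj i')) ∧
        (∀ i' : Over i₀, gam.app i' ≫ εY.app ((Over.map φ₂).obj i') ≫ PYπ₁.app ((Over.map φ₂).obj i') =
          εX.app ((Over.map φ₁).obj i') ≫ PXπ₁.app ((Over.map φ₁).obj i')) →
        ∃ (j₀ : I) (ψ : j₀ ⟶ i₀), ∀ j : Over j₀, fam.app ((Over.map ψ).obj j) = gam.app ((Over.map ψ).obj j) := by
  obtain ⟨i₀, φ₁, φ₂, -⟩ := IsCofilteredOrEmpty.cone_objs i₁ i₂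
  obtain ⟨hcX⟩ := Groth.Agent.S10073.result S D hD hDa hqc hqs c hc hln X aX hXqs hXft i₁ W w ⟨locP_mono
    (fun _ _ g hg => by have : LocallyOfFinitePresentation g := hg; exact inferInstanceAs (LocallyOfFiniteType g)) hw.1,
    hw.2.1⟩ bX hbX hciX PX PXπ₁ PXπ₂ hPX DX hDX εX ξX hξX himgX
  haveI : ∀ x, Mono (εX.app x) := fun x => mono_closedImmersion (himgX x).1
  haveI : ∀ x, Mono (εY.app x) := fun x => mono_closedImmersion (himgY x).1
  have hPa : ∀ x, IsAlgSpace (PX.obj x) := fun x =>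
    isAlgSpace_of_isPullback (hD i₁).diag (hD x.left) W.property (hPX x)
  have hPb : ∀ x, IsAlgSpace (PY.obj x) := fun x =>
    isAlgSpace_of_isPullback (hD i₂).diag (hD x.left) V.property (hPY x)
  have hn₂ : ∀ {x y : Over i₁} (φ : x ⟶ y), PX.map φ ≫ PXπ₂.app y = PXπ₂.app x := fun φ =>
    (PXπ₂.naturality φ).trans (Category.comp_id _)
  have hn₂Y : ∀ {x y : Over i₂} (φ : x ⟶ y), PY.map φ ≫ PYπ₂.app y = PYπ₂.app x := fun φ =>
    (PYπ₂.naturality φ).trans (Category.comp_id _)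
  have hPt : ∀ (x y : Over i₁) (φ : x ⟶ y), IsAffineMor (PX.map φ) := fun x y φ => by
    have sq : IsPullback (PXπ₁.app x) (PX.map φ) (D.map φ.left) (PXπ₁.app y) := by
      refine (IsPullback.of_bot ?_ (PXπ₁.naturality φ).symm (hPX y).flip.flip).flip.flip
      rw [hn₂, show (Over.forget i₁ ⋙ D).map φ ≫ D.map y.hom = D.map x.hom from
        (D.map_comp _ _).symm.trans (congrArg D.map (Over.w φ))]
      exact hPX x
    exact (isAffineMor_iff_repWith _).2 (RepWith.baseChange sq ((isAffineMor_iff_repWith _).1 (hDa _ _ φ.left)))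
  have hDXt : ∀ (x y : Over i₁) (φ : x ⟶ y), IsAffineMor (DX.map φ) := fun x y φ => by
    refine Groth.Agent.AlgSpLib.ThickAff.isAffineMor_of_mono_comp (j := εX.app y) ?_
    rw [εX.naturality, isAffineMor_iff_repWith]
    exact RepWith.comp ((isAffineMor_iff_repWith _).1 (isAffineMor_of_closedImmersion (himgX x).1))
      ((isAffineMor_iff_repWith _).1 (hPt x y φ))
  have hWs : IsQuasiSeparatedSp W.obj := by
    have hT : IsTerminal ((yon S).obj (Over.mk (𝟙 S))) := IsTerminal.isTerminalObj (yon S) _ Over.mkIdTerminal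
    exact (isQuasiSeparatedMor_iff_sp _).1
      (isQuasiSeparatedMor_comp (g := hT.from (D.obj i₁)) hw.2.2 ((isQuasiSeparatedMor_iff_sp _).2 (hqs i₁)))
  have hDXs : ∀ x, IsQuasiSeparatedSp (DX.obj x) := fun x =>
    VCart.isQuasiSeparatedSp_of_affineMor (isAffineMor_of_closedImmersion (himgX x).1)
      (VCart.isQuasiSeparatedSp_of_affineMor ((isAffineMor_iff_repWith _).2
        (RepWith.baseChange (hPX x) ((isAffineMor_iff_repWith _).1 (hDa _ _ x.hom)))) hWs)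
  have hDXc : ∀ x, IsQuasiCompactSp (DX.obj x) := fun x =>
    OpenFac.isQuasiCompactSp_of_affine (hPa x) (isAffineMor_of_closedImmersion (himgX x).1)
      (hw.2.1 (hD x.left) (hqc x.left) (D.map x.hom) (PXπ₂.app x) (PXπ₁.app x) (hPX x).flip)
  have hnp : ∀ {x y : Over i₁} (φ : x ⟶ y),
      DX.map φ ≫ εX.app y ≫ PXπ₁.app y = εX.app x ≫ PXπ₁.app x ≫ D.map φ.left := fun φ => by
    rw [εX.naturality_assoc, PXπ₁.naturality]
    rfl
  -- the map to V at a stage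
  obtain ⟨k, φ, x', hx', hx'v⟩ := LfpSpaces.exists_point DX hDX hDXt hDXc hDXs (Cone.mk X.obj ξX) hcX
    (X := V) (Y := ⟨D.obj i₂, hD i₂⟩) (ObjectProperty.homMk v) hv.1 (f ≫ bY) (Over.mk φ₁)
    (εX.app (Over.mk φ₁) ≫ PXπ₁.app (Over.mk φ₁) ≫ D.map φ₂) (by
      show (f ≫ bY) ≫ v = ξX.app (Over.mk φ₁) ≫ _
      rw [Category.assoc, hbY, ← Category.assoc, hf, reassoc_of% (hξX (Over.mk φ₁)).1, ← Category.assoc,
        ← c.w φ₂, Category.assoc]
      rfl)
  have hx'v' : x' ≫ v = εX.app k ≫ PXπ₁.app k ≫ D.map (φ.left ≫ φ₂) := by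
    refine hx'v.trans ?_
    rw [reassoc_of% (hnp φ), D.map_comp]
  have hw₁ : φ.left ≫ φ₁ = k.hom := Over.w φ
  let ψ₁ : k.left ⟶ i₁ := k.hom
  let ψ₂ : k.left ⟶ i₂ := φ.left ≫ φ₂
  let t : ∀ x : Over k.left, (Over.map ψ₁).obj x ⟶ k := fun x => Over.homMk x.hom rfl
  have ht : ∀ {x y : Over k.left} (g : x ⟶ y), (Over.map ψ₁).map g ≫ t y = t x := fun g => by
    ext
    exact Over.w g
  have hgx : ∀ x : Over k.left, (εX.app ((Over.map ψ₁).obj x) ≫ PXπ₁.app _) ≫ D.map ((Over.map ψ₂).obj x).hom =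
      (DX.map (t x) ≫ x') ≫ v := fun x => by
    rw [Category.assoc (DX.map (t x)), hx'v', reassoc_of% (hnp (t x))]
    show (_ ≫ _) ≫ D.map (x.hom ≫ ψ₂) = _
    rw [D.map_comp]
    simp only [Category.assoc, ψ₂, t, D.map_comp]
    rfl
  let g : ∀ x : Over k.left, DX.obj ((Over.map ψ₁).obj x) ⟶ PY.obj ((Over.map ψ₂).obj x) := fun x =>
    (hPY _).lift (εX.app _ ≫ PXπ₁.app _) (DX.map (t x) ≫ x') (hgx x)
  have hξg : ∀ x, ξX.app ((Over.map ψ₁).obj x) ≫ g x = (f ≫ ξY.app _) ≫ εY.app ((Over.map ψ₂).obj x) := fun x => by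
    apply (hPY _).hom_ext
    · simp only [g, Category.assoc, IsPullback.lift_fst]
      rw [(hξY _).1, ← Category.assoc f, hf]
      exact (hξX _).1
    · simp only [g, Category.assoc, IsPullback.lift_snd]
      rw [(hξY _).2, ← hx', ← Category.assoc]
      congr 1
      exact (ξX.naturality (t x)).symm.trans (Category.id_comp _)
  choose q hq using fun x => exists_factor (hDX _) (hDY _) (hPb _) (himgX ((Over.map ψ₁).obj x))
    (himgY ((Over.map ψ₂).obj x)).1 (g x) _ (hξg x)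
  let fam : Over.map ψ₁ ⋙ DX ⟶ Over.map ψ₂ ⋙ DY :=
    { app := q
      naturality := fun x y u => by
        show DX.map ((Over.map ψ₁).map u) ≫ q y = q x ≫ DY.map ((Over.map ψ₂).map u)
        rw [← cancel_mono (εY.app ((Over.map ψ₂).obj y)), Category.assoc, Category.assoc, hq, εY.naturality,
          reassoc_of% (hq x)]
        apply (hPY _).hom_ext
        · simp only [g, Category.assoc, IsPullback.lift_fst]
          rw [PYπ₁.naturality, ← Category.assoc (IsPullback.lift _ _ _ _), IsPullback.lift_fst, hnp, Category.assoc]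
          rfl
        · simp only [g, Category.assoc, IsPullback.lift_snd]
          rw [hn₂Y, IsPullback.lift_snd, ← Category.assoc, ← DX.map_comp, ht] }
  refine ⟨k.left, ψ₁, ψ₂, fam, fun x => ?_, fun x => ?_, fun gam ⟨hg₁, hg₂⟩ => ?_⟩
  · rw [← cancel_mono (εY.app ((Over.map ψ₂).obj x)), Category.assoc]
    exact (congrArg (_ ≫ ·) (hq x)).trans (hξg x)
  · refine (reassoc_of% (hq x)) _ |>.trans ?_
    exact IsPullback.lift_fst _ _ _ _
  -- uniqueness
  let top : Over k.left := Over.mk (𝟙 k.left)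
  let y : ∀ γ : Over.map ψ₁ ⋙ DX ⟶ Over.map ψ₂ ⋙ DY, DX.obj ((Over.map ψ₁).obj top) ⟶ V.obj :=
    fun γ => γ.app top ≫ εY.app _ ≫ PYπ₂.app _
  have hyv : ∀ γ : Over.map ψ₁ ⋙ DX ⟶ Over.map ψ₂ ⋙ DY,
      (∀ x, γ.app x ≫ εY.app _ ≫ PYπ₁.app _ = εX.app ((Over.map ψ₁).obj x) ≫ PXπ₁.app _) →
      y γ ≫ v = εX.app ((Over.map ψ₁).obj top) ≫ PXπ₁.app ((Over.map ψ₁).obj top) ≫
        D.map ((Over.map ψ₂).obj top).hom := fun γ h => by
    simp only [y, Category.assoc]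
    rw [← (hPY _).w, ← Category.assoc (εX.app _), ← h top]
    simp only [Category.assoc]
  have hfam₁ : ∀ x, ξX.app ((Over.map ψ₁).obj x) ≫ fam.app x = f ≫ ξY.app ((Over.map ψ₂).obj x) := fun x => by
    rw [← cancel_mono (εY.app ((Over.map ψ₂).obj x)), Category.assoc]
    exact (congrArg (_ ≫ ·) (hq x)).trans (hξg x)
  have hfam₂ : ∀ x, fam.app x ≫ εY.app _ ≫ PYπ₁.app _ = εX.app ((Over.map ψ₁).obj x) ≫ PXπ₁.app _ := fun x =>
    (reassoc_of% (hq x)) _ |>.trans (IsPullback.lift_fst _ _ _ _)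
  have hlt : LocP @LocallyOfFiniteType v := locP_mono
    (fun _ _ g hg => by have : LocallyOfFinitePresentation g := hg; exact inferInstanceAs (LocallyOfFiniteType g)) hv.1
  obtain ⟨j, π, hj⟩ := LfpSpaces.exists_eq DX hDX hDXt hDXc (Cone.mk X.obj ξX) hcX
    (X := V) (Y := ⟨D.obj i₂, hD i₂⟩) (ObjectProperty.homMk v) hlt (y fam) (y gam)
    ((hyv fam hfam₂).trans (hyv gam hg₂).symm) (by
      show ξX.app _ ≫ y fam = ξX.app _ ≫ y gam
      simp only [y]
      rw [← Category.assoc, hfam₁, ← Category.assoc (ξX.app _), hg₁])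
  have hwπ : π.left ≫ ψ₁ = j.hom := by simpa [top] using Over.w π
  refine ⟨j.left, π.left, fun z => ?_⟩
  let z' : Over k.left := (Over.map π.left).obj z
  let u : z' ⟶ top := Over.homMk (z.hom ≫ π.left) (Category.comp_id _)
  let z₁ : (Over.map ψ₁).obj z' ⟶ j := Over.homMk z.hom (by
    show z.hom ≫ j.hom = (z.hom ≫ π.left) ≫ ψ₁
    rw [Category.assoc, hwπ])
  have hz₁ : z₁ ≫ π = (Over.map ψ₁).map u := by ext; rfl
  rw [← cancel_mono (εY.app ((Over.map ψ₂).obj z'))]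
  apply (hPY _).hom_ext
  · simp only [Category.assoc]
    exact (hfam₂ z').trans (hg₂ z').symm
  · have key : ∀ γ : Over.map ψ₁ ⋙ DX ⟶ Over.map ψ₂ ⋙ DY,
        γ.app z' ≫ εY.app _ ≫ PYπ₂.app _ = DX.map z₁ ≫ DX.map π ≫ y γ := fun γ => by
      rw [← Category.assoc (DX.map z₁), ← DX.map_comp, hz₁]
      simp only [y]
      rw [← Category.assoc (DX.map _), show DX.map ((Over.map ψ₁).map u) ≫ γ.app top =
        γ.app z' ≫ DY.map ((Over.map ψ₂).map u) from γ.naturality u, Category.assoc, εY.naturality_assoc, hn₂Y]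
    simp only [Category.assoc]
    rw [key, key, hj]

end Groth.Agent.S10074
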