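import Groth.Statements.S10075
import Groth.Agent.AlgSpLib.LimitPoints
import Groth.Agent.AlgSpLib.RedUniv
import Groth.Agent.AlgSpLib.ThickMor
import Groth.Agent.AlgSpLib.LimitClosed
import Groth.Agent.S10055
import Groth.Agent.S10056
-- import your own Groth.Agent.* helpers here

set_option autoImplicit false
universe u
open CategoryTheory CategoryTheory.Limits AlgebraicGeometry
open AlgSp

namespace Groth.Agent.S10075

open Groth.Agent.AlgSpLib

/-- Let `X` be the limit, in fppf sheaves over `S`, of a cofiltered system `(X_i)` of decent algebraic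
spaces over `S` with affine transition morphisms, and `x ∈ |X|` with images `x_i ∈ |X_i|`. Then the
closure of `x` is the limit of the closures of the `x_i` as sets, and, endowing these closures with
their reduced induced subspace structures `Z ⊂ X`, `Z_i ⊂ X_i` (with the induced maps), `Z = lim
Z_i` as algebraic spaces. -/
theorem result (S : Scheme.{u}) {I : Type u} [SmallCategory I] [IsCofiltered I]
    (D : I ⥤ AlgSp.Sp S) (hD : ∀ i, AlgSp.IsAlgSpace (D.obj i))
    (hDa : ∀ (i j : I) (φ : i ⟶ j), AlgSp.IsAffineMor (D.map φ))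
    (c : Cone D) (hc : IsLimit c)
    (hdec : ∀ i, AlgSp.IsDecent (D.obj i))
    (x : AlgSp.Points c.pt) :
    closure {x} = {x' | ∀ i, AlgSp.Points.map (c.π.app i) x' ∈ closure {AlgSp.Points.map (c.π.app i) x}} ∧
    ∀ (Z : AlgSp.Space S) (zι : Z.obj ⟶ c.pt) (_ : AlgSp.IsRedInduced (closure {x}) zι)
      (DZ : I ⥤ AlgSp.Sp S) (_ : ∀ i, AlgSp.IsAlgSpace (DZ.obj i)) (ι : DZ ⟶ D)
      (_ : ∀ i, AlgSp.IsRedInduced (closure {AlgSp.Points.map (c.π.app i) x}) (ι.app i))
      (ξ : (Functor.const I).obj Z.obj ⟶ DZ) (_ : ∀ i, ξ.app i ≫ ι.app i = zι ≫ c.π.app i),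
      Nonempty (IsLimit (Cone.mk Z.obj ξ)) := by
  have h1 : closure {x} =
      {x' | ∀ i, AlgSp.Points.map (c.π.app i) x' ∈ closure {AlgSp.Points.map (c.π.app i) x}} := by
    refine Set.Subset.antisymm (fun x' hx' i => ?_) fun x' hx' => ?_
    · have := image_closure_subset_closure_image (AlgSp.Points.continuous_map (c.π.app i)) ⟨x', hx', rfl⟩
      rwa [Set.image_singleton] at this
    · refine mem_closure_iff.2 fun W hW hx'W => ?_
      obtain ⟨i, O, hO, hxO, hOW⟩ := LimitPoints.exists_nbhd hD hDa c hc hW hx'W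
      obtain ⟨y, hyO, hy⟩ := mem_closure_iff.1 (hx' i) O hO hxO
      exact ⟨x, hOW (show AlgSp.Points.map (c.π.app i) x ∈ O from (Set.mem_singleton_iff.1 hy) ▸ hyO), rfl⟩
  refine ⟨h1, fun Z zι hz DZ hDZ ι hι ξ hξ => ?_⟩
  have hX := isAlgSpace_limit D hD hDa c hc
  haveI : ∀ i, Mono (ι.app i) := fun i =>
    mono_of_repWith (fun _ _ g (_ : IsClosedImmersion g) => (inferInstance : Mono g)) (hι i).1
  haveI : Mono zι := mono_of_repWith (fun _ _ g (_ : IsClosedImmersion g) => (inferInstance : Mono g)) hz.1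
  have hDZa : ∀ (a b : I) (φ : a ⟶ b), AlgSp.IsAffineMor (DZ.map φ) := fun a b φ => by
    refine ThickAff.isAffineMor_of_mono_comp (j := ι.app b) ?_
    rw [ι.naturality, isAffineMor_iff_repWith]
    exact RepWith.comp ((isAffineMor_iff_repWith _).1 (isAffineMor_of_closedImmersion (hι a).1))
      ((isAffineMor_iff_repWith _).1 (hDa a b φ))
  let cL := limit.cone DZ
  have hcL : IsLimit cL := limit.isLimit DZ
  let g : cL.pt ⟶ c.pt := hc.lift ((Cone.postcompose ι).obj cL)
  have hg : ∀ i, g ≫ c.π.app i = cL.π.app i ≫ ι.app i := fun i => hc.fac _ i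
  have hgc : AlgSp.RepWith @IsClosedImmersion g :=
    Groth.Agent.S10055.result S DZ D hDZ hD hDZa hDa ι (fun i => (hι i).1) cL hcL c hc g hg
  haveI : Mono g := mono_of_repWith (fun _ _ g (_ : IsClosedImmersion g) => (inferInstance : Mono g)) hgc
  let cξ : Cone DZ := Cone.mk Z.obj ξ
  let l : Z.obj ⟶ cL.pt := hcL.lift cξ
  have hl : l ≫ g = zι := hc.hom_ext fun i => by
    rw [Category.assoc, hg, ← Category.assoc, hcL.fac cξ i]
    exact hξ i
  have hLred : AlgSp.IsReducedSp cL.pt :=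
    Groth.Agent.S10056.result S DZ hDZ hDZa cL hcL fun i => (hι i).2.2
  obtain ⟨k, hk⟩ := exists_lift_of_reduced hLred hz.1 (f := g) (by
    rw [hz.2.1, h1]
    rintro _ ⟨p, rfl⟩ i
    rw [← AlgSp.Points.map_comp, hg, AlgSp.Points.map_comp]
    exact (hι i).2.1.subset ⟨_, rfl⟩)
  haveI : IsIso l := ⟨k, by rw [← cancel_mono zι, Category.assoc, hk, hl, Category.id_comp],
    by rw [← cancel_mono g, Category.assoc, hl, hk, Category.id_comp]⟩
  exact ⟨hcL.ofIsoLimit (Cone.ext (asIso l).symm fun i => by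
    show cL.π.app i = inv l ≫ ξ.app i
    rw [IsIso.eq_inv_comp]
    exact hcL.fac cξ i)⟩

end Groth.Agent.S10075
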