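import Groth.Statements.S10076
import Groth.Agent.AlgSpLib.ImmAffineSpace
import Groth.Agent.AlgSpLib.Filtration
import Groth.Agent.AlgSpLib.PointsTop
import Groth.Agent.AlgSpLib.YonCoprod
import Groth.Agent.Stk19b.InvSub
import Groth.Agent.Desc19b.HensSp.Lift
import Groth.Agent.AlgSpLib.ProperStage
import Groth.Agent.AlgSpLib.DenseScheme
import Groth.Agent.AlgSpLib.DecentComponents
import Groth.Agent.AlgSpLib.PointsCompact
import Groth.Agent.AlgSpLib.NoethSpace
import Groth.Agent.AlgSpLib.FlatAt
import Groth.Agent.AlgSpLib.ThickDeg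
import Groth.Agent.FlatMorQF.Scheme
import Groth.Agent.FlatMorAdm.Nagata
-- import your own Groth.Agent.* helpers here

set_option autoImplicit false
universe u
open CategoryTheory CategoryTheory.Limits AlgebraicGeometry
open AlgSp

namespace Groth.Agent.S10076

set_option backward.isDefEq.respectTransparency.types false
set_option backward.isDefEq.respectTransparency false
set_option linter.style.haveILetI false
open CategoryTheory CategoryTheory.Limits AlgebraicGeometry Groth.Agent.AlgSpLib AlgSp TopologicalSpace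

section
variable {S : Scheme.{u}} {X : Sp S}

/-- affine space over the base -/
noncomputable abbrev An (S : Scheme.{u}) (n : Type u) : Over S := Over.mk (𝔸(n; S) ↘ S)

/-- affine space over a scheme over the base -/
noncomputable abbrev AnV (V : Over S) (n : Type u) : Over S := Over.mk (𝔸(n; V.left) ↘ V.left ≫ V.hom)

noncomputable abbrev projV (V : Over S) (n : Type u) : AnV V n ⟶ V := Over.homMk (𝔸(n; V.left) ↘ V.left) rfl

noncomputable abbrev projA (V : Over S) (n : Type u) : AnV V n ⟶ An S n :=
  Over.homMk (AffineSpace.map n V.hom) (AffineSpace.map_over _)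

/-- the chart pullback of a finite piece embeds into the product over the base -/
theorem closedImmersion_pair {U V W : Over S} [IsAffine V.left] {f : (yon S).obj U ⟶ X}
    {p : (yon S).obj V ⟶ X} {w : W ⟶ U} {k : W ⟶ V} (sq : IsPullback ((yon S).map w) ((yon S).map k) f p)
    [IsFinite w.left] :
    IsClosedImmersion (pullback.lift k.left w.left ((Over.w k).trans (Over.w w).symm) :
      W.left ⟶ pullback V.hom U.hom) := by
  let l : W.left ⟶ pullback V.hom U.hom := pullback.lift k.left w.left ((Over.w k).trans (Over.w w).symm)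
  have hl : l ≫ pullback.snd V.hom U.hom = w.left := pullback.lift_snd _ _ _
  have : IsSeparated V.hom := inferInstance
  have : IsFinite (l ≫ pullback.snd V.hom U.hom) := by rw [hl]; infer_instance
  have : IsFinite l := IsFinite.of_comp l (pullback.snd V.hom U.hom)
  have : Mono l := ⟨fun {T} g₁ g₂ hg => by
    have a1 : g₁ ≫ k.left = g₂ ≫ k.left := by
      simpa [l] using congrArg (fun z => z ≫ pullback.fst V.hom U.hom) hg
    have a2 : g₁ ≫ w.left = g₂ ≫ w.left := by
      simpa [l] using congrArg (fun z => z ≫ pullback.snd V.hom U.hom) hg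
    have e : g₁ ≫ W.hom = g₂ ≫ W.hom := by rw [← Over.w w, reassoc_of% a2]
    let T' : Over S := Over.mk (g₁ ≫ W.hom)
    let h₁ : T' ⟶ W := Over.homMk g₁ rfl
    let h₂ : T' ⟶ W := Over.homMk g₂ e.symm
    have : h₁ = h₂ := (yon S).map_injective (sq.hom_ext
      (by rw [← Functor.map_comp, ← Functor.map_comp]; exact congrArg _ (Over.OverMorphism.ext a2))
      (by rw [← Functor.map_comp, ← Functor.map_comp]; exact congrArg _ (Over.OverMorphism.ext a1)))
    exact congrArg CommaMorphism.left this⟩
  exact (IsClosedImmersion.iff_isFinite_and_mono l).2 ⟨inferInstance, inferInstance⟩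

/-- all functions of an affine scheme embed it into affine space over any base -/
theorem immersion_graph {U : Over S} [IsAffine U.left] :
    IsImmersion (AffineSpace.homOfVector U.hom (fun x : Γ(U.left, ⊤) => x)) := by
  let u := AffineSpace.homOfVector U.hom (fun x : Γ(U.left, ⊤) => x)
  have h : IsClosedImmersion (u ≫ AffineSpace.toSpecMvPoly _ S) := by
    refine IsClosedImmersion.of_surjective_of_isAffine _ fun x => ⟨(Scheme.ΓSpecIso _).inv (MvPolynomial.X x), ?_⟩
    show AffineSpace.toSpecMvPolyIntEquiv _ (u ≫ AffineSpace.toSpecMvPoly _ S) x = x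
    rw [AffineSpace.homOfVector_toSpecMvPoly, Equiv.apply_symm_apply]
  exact IsImmersion.of_comp u (AffineSpace.toSpecMvPoly _ S)

theorem immersion_reindex {σ τ : Type u} {F : Finset σ} (eF : τ ≃ ↥F) {V W : Scheme.{u}} (g : W ⟶ 𝔸(σ; V))
    [IsImmersion (g ≫ AffineSpace.reindex ((↑) : F → σ) V)] :
    IsImmersion (g ≫ AffineSpace.reindex (fun i => ((eF i : ↥F) : σ)) V) := by
  let r₁ := AffineSpace.reindex (fun i => eF i : τ → ↥F) V
  have : IsIso r₁ := ⟨AffineSpace.reindex (fun i => eF.symm i : ↥F → τ) V, by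
    apply AffineSpace.hom_ext <;> simp [r₁], by apply AffineSpace.hom_ext <;> simp [r₁]⟩
  have e : g ≫ AffineSpace.reindex (fun i => ((eF i : ↥F) : σ)) V =
      (g ≫ AffineSpace.reindex ((↑) : F → σ) V) ≫ r₁ := by
    rw [Category.assoc]; congr 1
    apply AffineSpace.hom_ext <;> simp [r₁]
  rw [e]; infer_instance

theorem immersion_chart {U V W : Over S} [IsAffine U.left] [IsAffine V.left] {f : (yon S).obj U ⟶ X}
    {p : (yon S).obj V ⟶ X} {w : W ⟶ U} {k : W ⟶ V} (sq : IsPullback ((yon S).map w) ((yon S).map k) f p) [IsFinite w.left] :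
    IsImmersion (AffineSpace.homOfVector k.left (fun x : Γ(U.left, ⊤) => w.left.appTop x)) := by
  have h0 := closedImmersion_pair sq
  let σ : Type u := Γ(U.left, ⊤)
  let u := AffineSpace.homOfVector U.hom (fun x : σ => x)
  have : IsImmersion u := immersion_graph
  let m : pullback V.hom U.hom ⟶ 𝔸(σ; V.left) :=
    AffineSpace.homOfVector (pullback.fst V.hom U.hom) (fun x : σ => (pullback.snd V.hom U.hom).appTop x)
  have hm : IsPullback (pullback.snd V.hom U.hom) m u (AffineSpace.map σ V.hom) := by
    refine IsPullback.of_bot (h₂₁ := AffineSpace.map σ V.hom) ?_ ?_ (AffineSpace.isPullback_map (n := σ) V.hom)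
    · rw [AffineSpace.homOfVector_over, AffineSpace.homOfVector_over]
      exact (IsPullback.of_hasPullback V.hom U.hom).flip
    · apply AffineSpace.hom_ext
      · simp [m, u, pullback.condition]
      · intro i; simp [m, u]
  have : IsImmersion m := MorphismProperty.of_isPullback hm ‹IsImmersion u›
  have e : AffineSpace.homOfVector k.left (fun x : σ => w.left.appTop x) =
      pullback.lift k.left w.left ((Over.w k).trans (Over.w w).symm) ≫ m := by
    rw [AffineSpace.comp_homOfVector, pullback.lift_fst]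
    congr 1
    funext x
    simp only [Function.comp_apply, ← CommRingCat.comp_apply, ← Scheme.Hom.comp_appTop, pullback.lift_snd]
  rw [e]
  infer_instance

end
theorem exists_immersion_of_finite {S : Scheme.{u}} [QuasiSeparatedSpace ↥S] {X₀ : Sp S} (hX : IsAlgSpace X₀) (U V W : Over S) [IsAffine U.left]
    [IsAffine V.left] (f : (yon S).obj U ⟶ X₀) (p : (yon S).obj V ⟶ X₀) (hp : RepWith @Etale p)
    (hcov : Set.range (Points.ofPt f) ⊆ Set.range (Points.ofPt p))
    (w : W ⟶ U) (k : W ⟶ V) (sq : IsPullback ((yon S).map w) ((yon S).map k) f p)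
    [IsFinite w.left] (hlft : LocallyOfFiniteType k.left) :
    ∃ (n : ℕ) (i : (yon S).obj U ⟶ X₀ ⨯ (yon S).obj (Over.mk (𝔸(ULift.{u} (Fin n); S) ↘ S))),
      i ≫ prod.fst = f ∧ RepWith @IsImmersion i := by
  classical
  have : CompactSpace ↥W.left := QuasiCompact.compactSpace_of_compactSpace w.left
  have himm := immersion_chart sq
  let g := AffineSpace.homOfVector k.left (fun x : Γ(U.left, ⊤) => w.left.appTop x)
  have : LocallyOfFiniteType (g ≫ 𝔸(Γ(U.left, ⊤); V.left) ↘ V.left) := by
    rw [AffineSpace.homOfVector_over]; exact hlft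
  obtain ⟨F, hF⟩ := ImmAff.exists_coords_affineSpace g
  let eF : ULift.{u} (Fin F.card) ≃ ↥F := Equiv.ulift.trans F.equivFin.symm
  let n := ULift.{u} (Fin F.card)
  let x : n → Γ(U.left, ⊤) := fun i => ((eF i : ↥F) : Γ(U.left, ⊤))
  let gV : W.left ⟶ 𝔸(n; V.left) := AffineSpace.homOfVector k.left (fun i => w.left.appTop (x i))
  have hgV : IsImmersion gV := by
    have e : gV = g ≫ AffineSpace.reindex x V.left := by
      apply AffineSpace.hom_ext <;> simp [gV, g]
    rw [e]
    exact immersion_reindex eF g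
  refine ⟨F.card, prod.lift f ((yon S).map (Over.homMk (AffineSpace.homOfVector U.hom x)
    (AffineSpace.homOfVector_over _ _) : U ⟶ An S n)), prod.lift_fst _ _, ?_⟩
  let O : Set (Points X₀) := Set.range (Points.ofPt p)
  have hO : IsOpen O := (isOpenMap_ofPt p hp).isOpen_range
  let jO := openSubspaceι X₀ O
  have hX' := isAlgSpace_openSubspace hX hO
  obtain ⟨f', hf'⟩ := (exists_lift_openSubspace_iff O f).2 fun t => hcov ⟨t, rfl⟩
  obtain ⟨p', hp'⟩ := (exists_lift_openSubspace_iff O p).2 fun t => ⟨t, rfl⟩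
  have hjo := repWith_openSubspaceι X₀ hO
  have : Mono jO := mono_of_repWith (fun _ _ g (_ : IsOpenImmersion g) => (inferInstance : Mono g)) hjo
  have hpe' : RepWith @Etale p' := by
    refine (RepWith.baseChange (fst := 𝟙 _) (g := jO) ?_ hp)
    exact (IsPullback.of_horiz_isIso_mono (fst := 𝟙 _) (snd := p') (f := p) (g := jO) ⟨by simpa using hp'.symm⟩)
  have hps' : RepWith @Surjective p' := repWith_surjective_of_surjective_ofPt p' hpe'.1 fun y => by
    obtain ⟨t, ht⟩ : Points.map jO y ∈ O := (range_openSubspaceι X₀ O).le ⟨y, rfl⟩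
    exact ⟨t, injective_map_of_mono jO (by rw [Points.map_ofPt, hp', ht])⟩
  let hu : U ⟶ An S n := Over.homMk (AffineSpace.homOfVector U.hom x) (AffineSpace.homOfVector_over _ _)
  let i' := prod.lift f' ((yon S).map hu)
  let b := prod.lift ((yon S).map (projV V n) ≫ p') ((yon S).map (projA V n))
  have sqb : IsPullback b ((yon S).map (projV V n)) prod.fst p' := by
    refine isPullback_of_yon (prod.lift_fst _ _) fun T a c hac => ?_
    obtain ⟨c', rfl⟩ := (yon S).map_surjective c
    obtain ⟨a', ha'⟩ := (yon S).map_surjective (a ≫ prod.snd)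
    have hb : c'.left ≫ V.hom = a'.left ≫ 𝔸(n; S) ↘ S := (Over.w c').trans (Over.w a').symm
    have sqA := AffineSpace.isPullback_map (n := n) V.hom
    let l : T ⟶ AnV V n := Over.homMk (sqA.lift a'.left c'.left hb.symm) (by
      show sqA.lift _ _ _ ≫ 𝔸(n; V.left) ↘ V.left ≫ V.hom = T.hom
      rw [sqA.lift_snd_assoc]; exact Over.w c')
    have hl1 : l ≫ projV V n = c' := Over.OverMorphism.ext (sqA.lift_snd _ _ _)
    have hl2 : l ≫ projA V n = a' := Over.OverMorphism.ext (sqA.lift_fst _ _ _)
    refine ⟨(yon S).map l, ⟨prod.hom_ext ?_ ?_, ?_⟩, fun z hz => ?_⟩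
    · simp [b, ← Functor.map_comp_assoc, hl1, hac]
    · simp [b, ← Functor.map_comp, hl2, ha']
    · rw [← Functor.map_comp, hl1]
    · obtain ⟨z', rfl⟩ := (yon S).map_surjective z
      refine congrArg _ (Over.OverMorphism.ext (sqA.hom_ext ?_ ?_))
      · rw [show l.left = sqA.lift a'.left c'.left hb.symm from rfl, sqA.lift_fst]
        have := (yon S).map_injective ((Functor.map_comp _ z' (projA V n)).trans
          ((by simpa [b] using congrArg (fun q => q ≫ prod.snd) hz.1 : _ = a ≫ prod.snd).trans ha'.symm))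
        exact congrArg CommaMorphism.left this
      · rw [show l.left = sqA.lift a'.left c'.left hb.symm from rfl, sqA.lift_snd]
        exact congrArg CommaMorphism.left ((yon S).map_injective ((Functor.map_comp _ z' (projV V n)).trans hz.2))
  have hbs : Sheaf.IsLocallySurjective b :=
    isLocallySurjective_of_etale (RepWith.baseChange sqb.flip hpe') (RepWith.baseChange sqb.flip hps')
  let gW : W ⟶ AnV V n := Over.homMk gV (by
    show gV ≫ 𝔸(n; V.left) ↘ V.left ≫ V.hom = W.hom
    rw [AffineSpace.homOfVector_over_assoc]; exact Over.w k)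
  have hgW1 : gW ≫ projV V n = k := Over.OverMorphism.ext (AffineSpace.homOfVector_over _ _)
  have hgW2 : gW ≫ projA V n = w ≫ hu := Over.OverMorphism.ext (by
    show gV ≫ AffineSpace.map n V.hom = w.left ≫ AffineSpace.homOfVector U.hom x
    apply AffineSpace.hom_ext
    · simp [gV]
    · intro i; simp [gV])
  have sqi : IsPullback ((yon S).map w) ((yon S).map gW) i' b := by
    refine isPullback_of_yon (prod.hom_ext ?_ ?_) fun T a c hac => ?_
    · simp only [i', b, Category.assoc, prod.lift_fst, ← Functor.map_comp_assoc, hgW1]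
      rw [← cancel_mono jO, Category.assoc, Category.assoc, hf', hp', sq.w]
    · simp only [i', b, Category.assoc, prod.lift_snd, ← Functor.map_comp, hgW2]
    obtain ⟨a', rfl⟩ := (yon S).map_surjective a
    obtain ⟨c', rfl⟩ := (yon S).map_surjective c
    have h1 : (yon S).map a' ≫ f' = (yon S).map (c' ≫ projV V n) ≫ p' := by
      simpa [i', b] using congrArg (fun q => q ≫ prod.fst) hac
    have h2 : a' ≫ hu = c' ≫ projA V n := (yon S).map_injective (by
      simpa [i', b] using congrArg (fun q => q ≫ prod.snd) hac)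
    obtain ⟨l, hl⟩ := (yon S).map_surjective (sq.lift ((yon S).map a') ((yon S).map (c' ≫ projV V n)) (by
      rw [← hf', ← hp', reassoc_of% h1]))
    have hl1 : l ≫ w = a' := (yon S).map_injective (by rw [Functor.map_comp, hl, sq.lift_fst])
    have hl2 : l ≫ k = c' ≫ projV V n := (yon S).map_injective (by rw [Functor.map_comp, hl, sq.lift_snd])
    refine ⟨(yon S).map l, ⟨by rw [← Functor.map_comp, hl1], ?_⟩, fun z hz => ?_⟩
    · rw [← Functor.map_comp]
      refine congrArg _ (Over.OverMorphism.ext ((AffineSpace.isPullback_map (n := n) V.hom).hom_ext ?_ ?_))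
      · exact congrArg CommaMorphism.left (show (l ≫ gW) ≫ projA V n = c' ≫ projA V n by
          rw [Category.assoc, hgW2, reassoc_of% hl1, h2])
      · exact congrArg CommaMorphism.left (show (l ≫ gW) ≫ projV V n = c' ≫ projV V n by
          rw [Category.assoc, hgW1, hl2])
    · rw [hl]
      refine sq.hom_ext ?_ ?_
      · rw [sq.lift_fst]; exact hz.1
      · rw [sq.lift_snd, ← hgW1, Functor.map_comp, ← Category.assoc, hz.2, Functor.map_comp]
  have hA := isAlgSpace_prod hX' (IsAlgSpace.yon_obj (S := S) (An S n))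
  have hi' : RepWith @IsImmersion i' :=
    repWith_of_isLocallySurjective (representable_diag_iff.1 hA.diag i') b sqi @IsImmersion
      ((repWith_yon_map_iff (P := @IsImmersion) gW).2 hgV)
  have hj : RepWith @IsImmersion (prod.map jO (𝟙 ((yon S).obj (An S n)))) :=
    RepWith.mono (fun _ _ g (_ : IsOpenImmersion g) => (inferInstance : IsImmersion g))
      (RepWith.baseChange (isPullback_prod_map_id jO) hjo)
  have := RepWith.comp hi' hj
  simp only [i', hu, prod.lift_map, Category.comp_id] at this
  rwa [show f' ≫ jO = f from hf'] at this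

/-- Let `X` be a Noetherian algebraic space over `S` (quasi-compact and quasi-separated over `S`,
locally Noetherian) and `f : Y ⟶ X` of finite presentation. Then there are a dense open subspace `V
⊂ Y`, an `n`, and an immersion `V ⟶ 𝐀^n_X = X ×_S 𝐀^n_S` over `X`. (The published statement allows
any base scheme and uses absolute quasi-separatedness; this row assumes the base quasi-separated,
over which quasi-separatedness relative to the base is the absolute notion.) -/
theorem result (S : Scheme.{u}) [QuasiSeparatedSpace S]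
    {Y X : AlgSp.Space S} (f : Y ⟶ X) (hf : AlgSp.IsFinitePresentationMor f.hom)
    (hXqc : AlgSp.IsQuasiCompactSp X.obj) (hXqs : AlgSp.IsQuasiSeparatedSp X.obj) (hXln : AlgSp.IsLocNoethSp X.obj) :
    ∃ (V : AlgSp.Space S) (j : V ⟶ Y) (n : ℕ)
      (i : V.obj ⟶ X.obj ⨯ (AlgSp.yon S).obj (Over.mk (𝔸(ULift.{u} (Fin n); S) ↘ S))),
      AlgSp.RepWith @IsOpenImmersion j.hom ∧ Dense (Set.range (AlgSp.Points.map j.hom)) ∧
      i ≫ prod.fst = j.hom ≫ f.hom ∧ AlgSp.RepWith @IsImmersion i := by
  classical
  have hX := X.property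
  haveI := compactSpace_points_of_isQuasiCompactSp hXqc
  obtain ⟨V, p, hV, hpe, hps⟩ := exists_affine_chart hX
  haveI := hV
  have hq := repWith_qc_chart hX hXqs p
  have hlN : IsLocNoethSp Y.obj := by
    obtain ⟨Vn, b, hbe, hbs, hVn⟩ := hXln
    obtain ⟨U, a, c, hae, has, hc⟩ := exists_chart_over Y.property hX f.hom b hbe hbs
    have : LocallyOfFinitePresentation c.left := hf.1 a b c hae hbe hc
    have : IsLocallyNoetherian Vn.left := hVn
    exact ⟨U, a, hae, has, LocallyOfFiniteType.isLocallyNoetherian c.left⟩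
  haveI := compactSpace_points_of_isQuasiCompactSp (OpenFac.isQuasiCompactSp_of_mor Y.property hX hf.2.1 hXqc)
  haveI := noetherianSpace_points hlN
  have hYs : IsQuasiSeparatedSp Y.obj := by
    have hT : IsTerminal ((yon S).obj (Over.mk (𝟙 S))) := IsTerminal.isTerminalObj (yon S) _ Over.mkIdTerminal
    exact (isQuasiSeparatedMor_iff_sp _).1 (isQuasiSeparatedMor_comp (g := hT.from X.obj) hf.2.2
      ((isQuasiSeparatedMor_iff_sp _).2 hXqs))
  obtain ⟨G, j, hj, hdense, -⟩ := exists_dense_scheme Y.property (isDecent_of_qsep Y.property hYs)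
  have hje := isOpenEmbedding_ofPt hj
  haveI : NoetherianSpace ↥G.left := hje.toIsEmbedding.isInducing.noetherianSpace
  have hGd : Dense (Set.range (Points.ofPt j)) := hdense.mono (by
    rintro _ ⟨z, rfl⟩
    obtain ⟨x, rfl⟩ := (Points.schemeEquiv G).surjective z
    exact ⟨x, Points.ofPt_eq_map_ofScheme _ _⟩)
  have hje' : RepWith @Etale j := RepWith.mono (fun _ _ g (_ : IsOpenImmersion g) => (inferInstance : Etale g)) hj
  let WG : Over S := hpe.1.pullback (j ≫ f.hom)
  obtain ⟨kG, hkG⟩ := (yon S).map_surjective (hpe.1.fst (j ≫ f.hom))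
  let wG : WG ⟶ G := hpe.1.snd (j ≫ f.hom)
  have sqG : IsPullback ((yon S).map wG) ((yon S).map kG) (j ≫ f.hom) p :=
    (hkG ▸ hpe.1.isPullback (j ≫ f.hom)).flip
  haveI : Etale wG.left := hpe.property _ _ _ sqG.flip
  haveI : QuasiCompact wG.left := hq.property _ _ _ sqG.flip
  obtain ⟨O, hOd, hOf⟩ := FlatMorQF.exists_dense_isFinite wG.left
  obtain ⟨A, hA, hAO, hAd⟩ : ∃ A : G.left.Opens, IsAffineOpen A ∧ A ≤ O ∧ Dense (A : Set G.left) := by
    rcases isEmpty_or_nonempty ↥G.left with h | h
    · exact ⟨⊥, isAffineOpen_bot _, bot_le, fun x => isEmptyElim x⟩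
    · obtain ⟨x, hx⟩ := hOd.nonempty
      haveI : NoetherianSpace ↥O.toScheme := O.ι.isOpenEmbedding.toIsEmbedding.isInducing.noetherianSpace
      obtain ⟨B, hB, -, hBd⟩ := FlatMorAdm.exists_dense_affine (X := O.toScheme) ⟨x, hx⟩
      refine ⟨O.ι ''ᵁ B, hB.image_of_isOpenImmersion O.ι, ?_, ?_⟩
      · rintro _ ⟨y, -, rfl⟩; exact y.2
      · have hr : DenseRange O.ι := by
          show Dense (Set.range O.ι)
          rwa [Scheme.Opens.range_ι]
        rw [Scheme.Hom.coe_image]
        exact hr.dense_image O.ι.continuous hBd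
  let U : Over S := Over.mk (A.ι ≫ G.hom)
  let jU : U ⟶ G := Over.homMk A.ι rfl
  let W : Over S := Over.mk ((wG.left ⁻¹ᵁ A).ι ≫ WG.hom)
  let e : W ⟶ WG := Over.homMk (wG.left ⁻¹ᵁ A).ι rfl
  let w : W ⟶ U := Over.homMk (wG.left ∣_ A) (by
    show (wG.left ∣_ A) ≫ A.ι ≫ G.hom = (wG.left ⁻¹ᵁ A).ι ≫ WG.hom
    rw [morphismRestrict_ι_assoc, Over.w wG])
  have sqA : IsPullback w e jU wG :=
    IsPullback.of_map (Over.forget S) (Over.OverMorphism.ext (morphismRestrict_ι _ _))
      (isPullback_morphismRestrict wG.left A)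
  have sq : IsPullback ((yon S).map w) ((yon S).map (e ≫ kG)) ((yon S).map jU ≫ j ≫ f.hom) p := by
    rw [Functor.map_comp]
    exact ((sqA.map (yon S)).flip.paste_horiz sqG.flip).flip
  haveI : IsAffine U.left := hA
  haveI : IsFinite w.left := by
    haveI := hOf
    let a := G.left.homOfLE hAO
    let b := WG.left.homOfLE ((Opens.map wG.left.base).monotone hAO)
    have hsq : IsPullback (wG.left ∣_ A) b a (wG.left ∣_ O) := by
      refine IsPullback.of_bot ?_ ?_ (isPullback_morphismRestrict wG.left O)
      · simpa [a, b] using isPullback_morphismRestrict wG.left A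
      · rw [← cancel_mono O.ι]; simp [a, b]
    show IsFinite (wG.left ∣_ A)
    exact MorphismProperty.of_isPullback hsq.flip ‹IsFinite (wG.left ∣_ O)›
  have hUe : RepWith @Etale ((yon S).map jU) := (repWith_yon_map_iff @Etale jU).2 (inferInstanceAs (Etale A.ι))
  have hlft : LocallyOfFiniteType (e ≫ kG).left := by
    have hwe : Etale w.left := hpe.property _ _ _ sq.flip
    have := hf.1 ((yon S).map w ≫ (yon S).map jU ≫ j) p (e ≫ kG)
      (RepWith.comp ((repWith_yon_map_iff @Etale w).2 hwe) (RepWith.comp hUe hje')) hpe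
      (by simpa [Category.assoc] using sq.w)
    exact inferInstance
  obtain ⟨n, i, hi, hii⟩ := exists_immersion_of_finite hX U V W ((yon S).map jU ≫ j ≫ f.hom) p hpe
    (fun x _ => surjective_ofPt p hps x) w (e ≫ kG) sq hlft
  have hUo : RepWith @IsOpenImmersion ((yon S).map jU ≫ j) :=
    RepWith.comp ((repWith_yon_map_iff (P := @IsOpenImmersion) jU).2 (inferInstanceAs (IsOpenImmersion A.ι))) hj
  refine ⟨⟨(yon S).obj U, IsAlgSpace.yon_obj U⟩, ObjectProperty.homMk ((yon S).map jU ≫ j), n, i,
    hUo, ?_, by rw [hi]; rfl, hii⟩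
  have hd : Dense (Set.range (Points.ofPt ((yon S).map jU ≫ j))) := by
    have : Set.range (Points.ofPt ((yon S).map jU ≫ j)) = Points.ofPt j '' (A : Set G.left) := by
      ext x
      constructor
      · rintro ⟨u, rfl⟩; exact ⟨jU.left u, u.2, (ofPt_map jU j u).symm⟩
      · rintro ⟨u, hu, rfl⟩; exact ⟨⟨u, hu⟩, ofPt_map jU j _⟩
    rw [this]
    exact DenseRange.dense_image hGd (Points.continuous_ofPt j) hAd
  refine hd.mono ?_
  rintro _ ⟨u, rfl⟩
  exact ⟨Points.ofScheme U u, (Points.ofPt_eq_map_ofScheme _ _).symm⟩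

end Groth.Agent.S10076
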