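import Groth.Statements.S10077
import Groth.Agent.AlgSpLib.LfpSpaces
import Groth.Agent.AlgSpLib.LfpCrit
import Groth.Agent.AlgSpLib.DiagCrit
-- import your own Groth.Agent.* helpers here

set_option autoImplicit false
universe u
open CategoryTheory CategoryTheory.Limits AlgebraicGeometry
open AlgSp

namespace Groth.Agent.S10077

open Opposite Groth.Agent.AlgSpLib

set_option backward.isDefEq.respectTransparency false

theorem isQuasiSeparatedSp_yon {S : Scheme.{u}} (U : Over S) [IsAffine U.left] :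
    IsQuasiSeparatedSp ((yon S).obj U) := by
  refine isQuasiSeparatedSp_of_affine (IsAlgSpace.yon_obj U) fun T R a b fst snd hT sq => ?_
  obtain ⟨a, rfl⟩ := (yon S).map_surjective a
  obtain ⟨b, rfl⟩ := (yon S).map_surjective b
  have w : fst ≫ a = snd ≫ b := (yon S).map_injective (by rw [Functor.map_comp, Functor.map_comp, sq.w])
  have sq' := (IsPullback.of_map (yon S) w sq).map (Over.forget S)
  have : IsAffine ((Over.forget S).obj T) := hT
  have : IsAffine ((Over.forget S).obj U) := inferInstanceAs (IsAffine U.left)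
  exact sq'.isoPullback.hom.homeomorph.symm.compactSpace

section

variable {S : Scheme.{u}} {I : Type u} [SmallCategory I] (D : I ⥤ Sp S) {A B : Sp S}

theorem map_ι (g : A ⟶ B) (i : Iᵒᵖ) (x : D.obj i.unop ⟶ A) :
    colimMap (Functor.whiskerLeft D.op (yoneda.map g)) (colimit.ι (D.op ⋙ yoneda.obj A) i x) =
      colimit.ι (D.op ⋙ yoneda.obj B) i (x ≫ g) :=
  congr($(ι_colimMap (Functor.whiskerLeft D.op (yoneda.map g)) i) x)

theorem desc_ι (c : Cone D) (i : Iᵒᵖ) (x : D.obj i.unop ⟶ A) :
    colimit.desc (D.op ⋙ yoneda.obj A) ((yoneda.obj A).mapCocone c.op) (colimit.ι (D.op ⋙ yoneda.obj A) i x) =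
      c.π.app i.unop ≫ x :=
  congr($(colimit.ι_desc ((yoneda.obj A).mapCocone c.op) i) x)

theorem ι_eq_iff [IsCofiltered I] (i j : Iᵒᵖ) (x : D.obj i.unop ⟶ A) (y : D.obj j.unop ⟶ A) :
    colimit.ι (D.op ⋙ yoneda.obj A) i x = colimit.ι (D.op ⋙ yoneda.obj A) j y ↔
      ∃ (k : I) (a : k ⟶ i.unop) (b : k ⟶ j.unop), D.map a ≫ x = D.map b ≫ y := by
  rw [Types.FilteredColimit.colimit_eq_iff]
  exact ⟨fun ⟨k, a, b, e⟩ => ⟨k.unop, a.unop, b.unop, e⟩, fun ⟨k, a, b, e⟩ => ⟨op k, a.op, b.op, e⟩⟩

end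

/-- A morphism `f : X ⟶ Y` of algebraic spaces over `S` is locally of finite presentation if and only if
for every directed limit `T = lim T_i` of algebraic spaces over `S`, each quasi-compact and
quasi-separated over `S`, with affine transition maps, the square formed by `colim Mor(T_i, X) →
Mor(T, X)`, `colim Mor(T_i, Y) → Mor(T, Y)` and composition with `f` is cartesian in sets. (The
published statement allows any base scheme and uses absolute quasi-separatedness; this row assumes
the base quasi-separated, over which quasi-separatedness relative to the base is the absolute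
notion.) -/
theorem result (S : Scheme.{u}) [QuasiSeparatedSpace S]
    {X Y : AlgSp.Space S} (f : X ⟶ Y) :
    AlgSp.LocP @LocallyOfFinitePresentation f.hom ↔
      ∀ ⦃I : Type u⦄ [SmallCategory I] [IsCofiltered I] (D : I ⥤ AlgSp.Sp S),
        (∀ i, AlgSp.IsAlgSpace (D.obj i)) → (∀ (i j : I) (φ : i ⟶ j), AlgSp.IsAffineMor (D.map φ)) →
        (∀ i, AlgSp.IsQuasiCompactSp (D.obj i)) → (∀ i, AlgSp.IsQuasiSeparatedSp (D.obj i)) →
        ∀ (c : Cone D) (_ : IsLimit c),
          IsPullback (colimMap (Functor.whiskerLeft D.op (yoneda.map f.hom)))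
            (colimit.desc (D.op ⋙ yoneda.obj X.obj) ((yoneda.obj X.obj).mapCocone c.op))
            (colimit.desc (D.op ⋙ yoneda.obj Y.obj) ((yoneda.obj Y.obj).mapCocone c.op))
            ((yoneda.map f.hom).app (Opposite.op c.pt)) := by
  constructor
  · intro hf I _ _ D hD hDa hqc hqs c hc
    have hft : LocP @LocallyOfFiniteType f.hom :=
      locP_mono (fun _ _ g hg => by have : LocallyOfFinitePresentation g := hg; exact inferInstanceAs (LocallyOfFiniteType g)) hf
    rw [Types.isPullback_iff]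
    refine ⟨colimit.hom_ext fun i => by
      ext (x : D.obj i.unop ⟶ X.obj)
      exact ((congrArg _ (map_ι D f.hom i x)).trans (desc_ι D c i (x ≫ f.hom))).trans
        ((Category.assoc _ _ _).symm.trans (congrArg (· ≫ f.hom) (desc_ι D c i x)).symm), ?_, ?_⟩
    · rintro p q ⟨h1, h2⟩
      obtain ⟨i₁, x₁, rfl⟩ := Types.jointly_surjective' p
      obtain ⟨i₂, x₂, rfl⟩ := Types.jointly_surjective' q
      have g1 := ((map_ι D f.hom i₁ x₁).symm.trans h1).trans (map_ι D f.hom i₂ x₂)
      have g2 := ((desc_ι D c i₁ x₁).symm.trans h2).trans (desc_ι D c i₂ x₂)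
      obtain ⟨k, a, b, e⟩ := (ι_eq_iff D i₁ i₂ _ _).1 g1
      obtain ⟨j, φ, hj⟩ := LfpSpaces.exists_eq D hD hDa hqc c hc f hft (D.map a ≫ x₁) (D.map b ≫ x₂)
        (by rw [Category.assoc, Category.assoc]; exact e)
        (by rw [← Category.assoc, ← Category.assoc, c.w, c.w]; exact g2)
      refine (ι_eq_iff D i₁ i₂ x₁ x₂).2 ⟨j, φ ≫ a, φ ≫ b, ?_⟩
      rw [D.map_comp, D.map_comp, Category.assoc, Category.assoc]
      exact hj
    · intro q x h
      obtain ⟨i, y, rfl⟩ := Types.jointly_surjective' q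
      have h' : c.π.app i.unop ≫ y = x ≫ f.hom := (desc_ι D c i y).symm.trans h
      obtain ⟨k, φ, x', h1, h2⟩ := LfpSpaces.exists_point D hD hDa hqc hqs c hc f hf x i.unop y h'.symm
      exact ⟨colimit.ι (D.op ⋙ yoneda.obj X.obj) (op k) x',
        (map_ι D f.hom (op k) x').trans ((ι_eq_iff D (op k) i _ y).2 ⟨k, 𝟙 k, φ, by
          simp only [CategoryTheory.Functor.map_id, Category.id_comp]; exact h2⟩),
        (desc_ι D c (op k) x').trans h1⟩
  · intro h
    refine LfpCrit.locP_lfp_of_surjective f fun I _ _ D c hc hDa hca x i y hxy => ?_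
    have := IsCofiltered.isConnected I
    have haff : ∀ (a b : I) (φ : a ⟶ b), IsAffineMor ((D ⋙ yon S).map φ) := fun a b φ =>
      (isAffineMor_iff_repWith _).2 ((repWith_yon_map_iff @IsAffineHom _).2 (inferInstance : IsAffineHom (D.map φ).left))
    have hc' : IsLimit ((yon S).mapCone c) := isLimitOfPreserves (yon S) (isLimitOfReflects (Over.forget S) hc)
    have H := h (D ⋙ yon S) (fun i => IsAlgSpace.yon_obj _) haff
      (fun i => ⟨D.obj i, 𝟙 _, repWith_of_isIso _ _, repWith_of_isIso _ _, inferInstance⟩)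
      (fun i => isQuasiSeparatedSp_yon (D.obj i)) _ hc'
    rw [Types.isPullback_iff] at H
    obtain ⟨p, hp1, hp2⟩ := H.2.2 (colimit.ι ((D ⋙ yon S).op ⋙ yoneda.obj Y.obj) (op i) y) x
      ((desc_ι (D ⋙ yon S) _ (op i) y).trans hxy.symm)
    obtain ⟨k, x', rfl⟩ := Types.jointly_surjective' p
    obtain ⟨l, a, b, e⟩ := (ι_eq_iff (D ⋙ yon S) _ _ _ _).1 ((map_ι (D ⋙ yon S) f.hom k x').symm.trans hp1)
    refine ⟨l, b, (yon S).map (D.map a) ≫ x', ?_, (Category.assoc _ _ _).trans e⟩
    rw [← Category.assoc, ← Functor.map_comp, c.w]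
    exact (desc_ι (D ⋙ yon S) _ k x').symm.trans hp2

end Groth.Agent.S10077
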