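import Groth.Statements.S10079
import Groth.Agent.AlgSpLib.QCohEtSubColim
-- import your own Groth.Agent.* helpers here

set_option autoImplicit false
universe u
open CategoryTheory CategoryTheory.Limits AlgebraicGeometry Opposite
open AlgSp

namespace Groth.Agent.S10079

open Groth.Agent.AlgSpLib.QCohEt in
theorem exists_sub {S : Scheme.{u}} [QuasiSeparatedSpace ↥S] (X : AlgSp.Space S)
    (hqc : AlgSp.IsQuasiCompactSp X.obj) (hqs : AlgSp.IsQuasiSeparatedSp X.obj)
    (M : AlgSp.ModEt X.obj) [M.IsQuasicoherent] (E : AlgSp.EtOver X.obj) (hE : IsAff E) (m : Sec M E) :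
    ∃ N : Subobject M, ((Subobject.underlying.obj N).IsQuasicoherent ∧ (Subobject.underlying.obj N).IsFiniteType) ∧
      ∃ a, secMap N.arrow E a = m := by
  obtain ⟨Q, hQ, hm⟩ := exists_fg_containing hqc hqs M (ι := PUnit.{1}) (fun _ => E) (fun _ => hE) (fun _ => m)
  obtain ⟨a, ha⟩ := (Q.range_incl hE).symm.subset (hm PUnit.unit)
  refine ⟨Subobject.mk Q.incl, Q.mk_mem hQ, secMap (Subobject.underlyingIso Q.incl).inv E a, ?_⟩
  rw [← secMap_comp, Subobject.underlyingIso_arrow]
  exact ha

open Groth.Agent.AlgSpLib.QCohEt in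
theorem exists_upper {S : Scheme.{u}} (X : AlgSp.Space S) (M : AlgSp.ModEt X.obj) [M.IsQuasicoherent]
    (N₁ N₂ : Subobject M) (h₁ : (Subobject.underlying.obj N₁).IsQuasicoherent ∧ (Subobject.underlying.obj N₁).IsFiniteType)
    (h₂ : (Subobject.underlying.obj N₂).IsQuasicoherent ∧ (Subobject.underlying.obj N₂).IsFiniteType) :
    ∃ N : Subobject M, ((Subobject.underlying.obj N).IsQuasicoherent ∧ (Subobject.underlying.obj N).IsFiniteType) ∧
      N₁ ≤ N ∧ N₂ ≤ N := by
  haveI := h₁.1
  haveI := h₁.2
  haveI := h₂.1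
  haveI := h₂.2
  let Q := QSub.iSup (fun b : Bool => Bool.rec (QSub.image N₁.arrow) (QSub.image N₂.arrow) b)
  refine ⟨Subobject.mk Q.incl, Q.mk_mem fun E hE => ?_, le_mk_of_subset Q fun E hE a => ?_,
    le_mk_of_subset Q fun E hE a => ?_⟩
  · exact Submodule.fg_iSup _ fun b => by cases b <;> exact QSub.fg_image _ E hE
  · exact Submodule.mem_iSup_of_mem false ⟨a, rfl⟩
  · exact Submodule.mem_iSup_of_mem true ⟨a, rfl⟩

/-- Let `S` be a quasi-separated scheme, `X` an algebraic space over `S`, quasi-compact and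
quasi-separated over `S`, and `M` a quasi-coherent `O_X`-module on the small etale site of `X`. Then
the subobjects of `M` whose underlying module is quasi-coherent of finite type form a directed
(filtered, nonempty) partial order, and the cocone of their inclusion arrows exhibits `M` as the
colimit of these submodules. (The published statement allows any base scheme and uses absolute
quasi-separatedness; this row assumes the base quasi-separated, over which quasi-separatedness
relative to the base is the absolute notion.) -/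
theorem result {S : Scheme.{u}} [QuasiSeparatedSpace ↥S]
    (X : AlgSp.Space S) (hqc : AlgSp.IsQuasiCompactSp X.obj) (hqs : AlgSp.IsQuasiSeparatedSp X.obj)
    (M : AlgSp.ModEt X.obj) [M.IsQuasicoherent]
    (P : ObjectProperty (Subobject M))
    (hP : P = fun N => (Subobject.underlying.obj N).IsQuasicoherent ∧ (Subobject.underlying.obj N).IsFiniteType)
    (ι : P.ι ⋙ Subobject.underlying ⟶ (Functor.const P.FullSubcategory).obj M)
    (hι : ∀ N : P.FullSubcategory, ι.app N = N.obj.arrow) :
    IsFiltered P.FullSubcategory ∧ Nonempty (IsColimit (Cocone.mk M ι)) := by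
  open Groth.Agent.AlgSpLib.QCohEt in
  have hfil : IsFiltered P.FullSubcategory := by
    subst hP
    haveI : Nonempty (ObjectProperty.FullSubcategory fun N : Subobject M =>
        (Subobject.underlying.obj N).IsQuasicoherent ∧ (Subobject.underlying.obj N).IsFiniteType) := by
      let Q := QSub.iSup (fun e : PEmpty.{1} => (e.elim : QSub M))
      refine ⟨⟨Subobject.mk Q.incl, Q.mk_mem fun E hE => ?_⟩⟩
      exact Submodule.fg_iSup _ fun e => e.elim
    haveI : IsFilteredOrEmpty (ObjectProperty.FullSubcategory fun N : Subobject M =>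
        (Subobject.underlying.obj N).IsQuasicoherent ∧ (Subobject.underlying.obj N).IsFiniteType) := by
      refine ⟨fun a b => ?_, fun a b f g => ⟨b, 𝟙 b, ObjectProperty.hom_ext _ (Subsingleton.elim _ _)⟩⟩
      obtain ⟨N, hN, h₁, h₂⟩ := exists_upper X M a.obj b.obj a.property b.property
      exact ⟨⟨N, hN⟩, ObjectProperty.homMk (homOfLE h₁), ObjectProperty.homMk (homOfLE h₂), trivial⟩
    exact IsFiltered.mk
  refine ⟨hfil, ?_⟩
  haveI := hfil
  refine Groth.Agent.AlgSpLib.QCohEt.nonempty_isColimit_of_exhaust (Cocone.mk M ι)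
    (fun N => by show Mono (ι.app N); rw [hι]; infer_instance) fun E hE m => ?_
  obtain ⟨N, hN, a, ha⟩ := exists_sub X hqc hqs M E hE m
  refine ⟨⟨N, hP ▸ hN⟩, a, ?_⟩
  exact (Groth.Agent.AlgSpLib.QCohEt.secMap_eq (hι ⟨N, hP ▸ hN⟩) E a).trans ha

end Groth.Agent.S10079
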