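import Groth.Statements.S10085
import Groth.Agent.AlgSpLib.QCohEtAnn
import Groth.Agent.AlgSpLib.PointsCompact
import Mathlib.AlgebraicGeometry.AffineScheme
-- import your own Groth.Agent.* helpers here

set_option autoImplicit false
universe u
open CategoryTheory CategoryTheory.Limits AlgebraicGeometry Opposite
open AlgSp

namespace Groth.Agent.S10085

open Groth.Agent.AlgSpLib

theorem exists_fg_ideal {S : Scheme.{u}} (X U : AlgSp.Space S) (j : U ⟶ X) (hj : AlgSp.RepWith @IsOpenImmersion j.hom)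
    (hjqc : AlgSp.IsQuasiCompactMor j.hom) (W : AlgSp.EtOver X.obj) (hW : IsAffine W.obj.left.left) :
    ∃ I : Ideal Γ(W.obj.left.left, ⊤), I.FG ∧
      W.obj.left.left.zeroLocus (U := ⊤) (I : Set Γ(W.obj.left.left, ⊤)) =
        {w | AlgSp.Points.ofPt W.obj.hom w ∈ (Set.range (AlgSp.Points.map j.hom))ᶜ} := by
  let O : Set W.obj.left.left := {w | AlgSp.Points.ofPt W.obj.hom w ∈ Set.range (AlgSp.Points.map j.hom)}
  have sq := hj.1.isPullback W.obj.hom
  haveI hoi : IsOpenImmersion (hj.1.snd W.obj.hom).left := hj.property_snd W.obj.hom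
  have hO : O = Set.range (hj.1.snd W.obj.hom).left := by
    ext w
    constructor
    · rintro ⟨z, hz⟩
      rw [AlgSp.Points.ofPt_eq_map_ofScheme] at hz
      obtain ⟨v, -, hv⟩ := exists_point_of_isPullback sq hz
      obtain ⟨r, rfl⟩ := (AlgSp.Points.schemeEquiv _).surjective v
      exact ⟨r, (AlgSp.Points.schemeEquiv W.obj.left).injective ((map_yon_map_ofScheme _ r).symm.trans hv)⟩
    · rintro ⟨r, rfl⟩
      exact ⟨AlgSp.Points.ofPt (hj.1.fst W.obj.hom) r, by rw [AlgSp.Points.map_ofPt, sq.w, ofPt_map]⟩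
  haveI : CompactSpace W.obj.left.left := inferInstance
  haveI : CompactSpace (AlgSp.Points ((AlgSp.yon S).obj W.obj.left)) :=
    (AlgSp.Points.schemeHomeo W.obj.left).compactSpace
  have hqs := hjqc (AlgSp.IsAlgSpace.yon_obj W.obj.left)
    ((isQuasiCompactSp_iff_compactSpace (AlgSp.IsAlgSpace.yon_obj W.obj.left)).2 inferInstance) _ _ _ sq
  haveI : CompactSpace (AlgSp.Points ((AlgSp.yon S).obj (hj.1.pullback W.obj.hom))) :=
    (isQuasiCompactSp_iff_compactSpace (AlgSp.IsAlgSpace.yon_obj _)).1 hqs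
  haveI : CompactSpace (hj.1.pullback W.obj.hom).left :=
    (AlgSp.Points.schemeHomeo (hj.1.pullback W.obj.hom)).symm.compactSpace
  have hOc : IsCompact O ∧ IsOpen O := hO ▸
    ⟨isCompact_range (hj.1.snd W.obj.hom).left.continuous,
      (hj.1.snd W.obj.hom).left.isOpenEmbedding.isOpen_range⟩
  let e := W.obj.left.left.toSpecΓ.homeomorph
  obtain ⟨I, hI, hIO⟩ := (PrimeSpectrum.isCompact_isOpen_iff_ideal (s := e '' O)).1
    ⟨hOc.1.image e.continuous, e.isOpenMap _ hOc.2⟩
  refine ⟨I, hI, (W.obj.left.left.toSpecΓ_preimage_zeroLocus _).symm.trans ?_⟩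
  ext w
  have h : e w ∈ (PrimeSpectrum.zeroLocus (I : Set Γ(W.obj.left.left, ⊤)))ᶜ ↔ e w ∈ e '' O :=
    iff_of_eq (congrArg (e w ∈ ·) hIO)
  rw [e.injective.mem_set_image] at h
  exact (not_iff_comm.1 h).symm

theorem mem_iSup_annSub_iff {S : Scheme.{u}} {X : AlgSp.Sp S} (F : AlgSp.ModEt X) (E : AlgSp.EtOver X)
    [IsAffine E.obj.left.left] (I : Ideal Γ(E.obj.left.left, ⊤)) (hI : I.FG) (s : QCohEt.Sec F E) :
    (s ∈ (⨆ n : ℕ, QCohEt.annSub F E (QCohEt.upIdeal E (I ^ n))) ↔
      E.obj.left.left.zeroLocus (U := ⊤)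
          ((AlgSp.annSect (M := F) (E := E) s : Ideal Γ(E.obj.left.left, ⊤)) : Set Γ(E.obj.left.left, ⊤)) ⊆
        E.obj.left.left.zeroLocus (U := ⊤) (I : Set Γ(E.obj.left.left, ⊤))) ∧
      (s ∈ (⨆ n : ℕ, QCohEt.annSub F E (QCohEt.upIdeal E (I ^ n))) ↔
        ∃ n : ℕ, ∀ a ∈ I ^ n, (AlgSp.upΓ E a) • (show AlgSp.sectModEt F E from s) = 0) := by
  have hdir : Directed (· ≤ ·) (fun n : ℕ => QCohEt.annSub F E (QCohEt.upIdeal E (I ^ n))) := fun m n =>
    ⟨m + n, fun x hx a ha => hx a (Ideal.map_mono (Ideal.pow_le_pow_right (Nat.le_add_right m n)) ha),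
      fun x hx a ha => hx a (Ideal.map_mono (Ideal.pow_le_pow_right (Nat.le_add_left n m)) ha)⟩
  have h2 : s ∈ (⨆ n : ℕ, QCohEt.annSub F E (QCohEt.upIdeal E (I ^ n))) ↔
      ∃ n : ℕ, ∀ a ∈ I ^ n, (AlgSp.upΓ E a) • (show AlgSp.sectModEt F E from s) = 0 := by
    rw [Submodule.mem_iSup_of_directed _ hdir]
    exact exists_congr fun n => (QCohEt.upΓ_map F E s).symm
  refine ⟨h2.trans ?_, h2⟩
  let e := E.obj.left.left.toSpecΓ.homeomorph
  have hz : ∀ J : Ideal Γ(E.obj.left.left, ⊤), E.obj.left.left.zeroLocus (U := ⊤) (J : Set Γ(E.obj.left.left, ⊤)) =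
      e ⁻¹' PrimeSpectrum.zeroLocus (J : Set Γ(E.obj.left.left, ⊤)) := fun J =>
    (E.obj.left.left.toSpecΓ_preimage_zeroLocus _).symm
  rw [hz, hz, e.surjective.preimage_subset_preimage_iff]
  refine Iff.trans ?_ (PrimeSpectrum.zeroLocus_subset_zeroLocus_iff
    (AlgSp.annSect (M := F) (E := E) s : Ideal Γ(E.obj.left.left, ⊤)) I).symm
  exact ⟨fun ⟨n, hn⟩ a ha => ⟨n, hn _ (Ideal.pow_mem_pow ha n)⟩,
    fun h => (Ideal.exists_pow_le_of_le_radical_of_fg h hI).imp fun n hn a ha => hn ha⟩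

/-- Let `X` be an algebraic space over a scheme `S`, `j : U ⟶ X` an open subspace whose inclusion is
quasi-compact, `T` the closed subset of points of `X` complementary to the image of `U`, and `F` a
quasi-coherent `O_X`-module on the small etale site of `X`. Then, first, on every affine object `W ⟶
X` of the site the inverse image of `T` is the zero locus of a finitely generated ideal of the
global functions on `W`; second, the subsheaf of sections of `F` supported on `T` is a
quasi-coherent submodule: there is a monomorphism `F' ⟶ F` with `F'` quasi-coherent whose image over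
every affine object `W` is the set of sections `x` of `F` over `W` whose support (the zero locus of
the annihilator ideal of `x` in the global functions on `W`) lies in the inverse image of `T`, and
is also, for any finitely generated ideal `I` of the functions on `W` with zero locus the inverse
image of `T`, the set of sections of `F` over `W` annihilated by some power of `I`. -/
theorem result {S : Scheme.{u}} (X : AlgSp.Space S)
    (U : AlgSp.Space S) (j : U ⟶ X) (hj : AlgSp.RepWith @IsOpenImmersion j.hom)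
    (hjqc : AlgSp.IsQuasiCompactMor j.hom)
    (T : Set (AlgSp.Points X.obj)) (hT : T = (Set.range (AlgSp.Points.map j.hom))ᶜ)
    (F : AlgSp.ModEt X.obj) [F.IsQuasicoherent] :
    (∀ (W : AlgSp.EtOver X.obj), IsAffine W.obj.left.left →
      ∃ I : Ideal Γ(W.obj.left.left, ⊤), I.FG ∧
        W.obj.left.left.zeroLocus (U := ⊤) (I : Set Γ(W.obj.left.left, ⊤)) =
          {w | AlgSp.Points.ofPt W.obj.hom w ∈ T}) ∧
    ∃ (F' : AlgSp.ModEt X.obj) (ι : F' ⟶ F), Mono ι ∧ F'.IsQuasicoherent ∧
      (∀ (W : AlgSp.EtOver X.obj), IsAffine W.obj.left.left →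
        Set.range (ι.val.app (op W)).hom =
          {x : AlgSp.sectModEt F W | W.obj.left.left.zeroLocus (U := ⊤)
              ((AlgSp.annSect x : Ideal Γ(W.obj.left.left, ⊤)) : Set Γ(W.obj.left.left, ⊤)) ⊆
            {w | AlgSp.Points.ofPt W.obj.hom w ∈ T}}) ∧
      ∀ (W : AlgSp.EtOver X.obj), IsAffine W.obj.left.left →
        ∀ I : Ideal Γ(W.obj.left.left, ⊤), I.FG →
          W.obj.left.left.zeroLocus (U := ⊤) (I : Set Γ(W.obj.left.left, ⊤)) =
            {w | AlgSp.Points.ofPt W.obj.hom w ∈ T} →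
          Set.range (ι.val.app (op W)).hom =
            {x : AlgSp.sectModEt F W | ∃ n : ℕ, ∀ a ∈ I ^ n, (AlgSp.upΓ W a) • x = 0} := by
  have hfg : ∀ (W : AlgSp.EtOver X.obj), IsAffine W.obj.left.left →
      ∃ I : Ideal Γ(W.obj.left.left, ⊤), I.FG ∧
        W.obj.left.left.zeroLocus (U := ⊤) (I : Set Γ(W.obj.left.left, ⊤)) =
          {w | AlgSp.Points.ofPt W.obj.hom w ∈ T} := fun W hW => hT ▸ exists_fg_ideal X U j hj hjqc W hW
  refine ⟨hfg, ?_⟩
  choose J hJ hJT using hfg
  have hmem : ∀ (E : AlgSp.EtOver X.obj) (hE : IsAffine E.obj.left.left) (I : Ideal Γ(E.obj.left.left, ⊤)), I.FG →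
      E.obj.left.left.zeroLocus (U := ⊤) (I : Set Γ(E.obj.left.left, ⊤)) =
        {w | AlgSp.Points.ofPt E.obj.hom w ∈ T} → ∀ s : QCohEt.Sec F E,
      (s ∈ (⨆ n : ℕ, QCohEt.annSub F E (QCohEt.upIdeal E (I ^ n))) ↔
        s ∈ (⨆ n : ℕ, QCohEt.annSub F E (QCohEt.upIdeal E (J E hE ^ n)))) := fun E hE I hI hIT s => by
    haveI := hE
    rw [(mem_iSup_annSub_iff F E I hI s).1, (mem_iSup_annSub_iff F E (J E hE) (hJ E hE) s).1, hIT, hJT]
  let Q : QCohEt.QSub F :=
    { P := fun E hE => ⨆ n : ℕ, QCohEt.annSub F E (QCohEt.upIdeal E (J E hE ^ n))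
      span_eq := fun {E W} hE hW g => by
        haveI := hE
        haveI := hW
        let K : Ideal Γ(W.obj.left.left, ⊤) := (J E hE).map g.hom.left.left.appTop.hom
        have hKT : W.obj.left.left.zeroLocus (U := ⊤) (K : Set Γ(W.obj.left.left, ⊤)) =
            {w | AlgSp.Points.ofPt W.obj.hom w ∈ T} := by
          refine (W.obj.left.left.zeroLocus_span _).trans ((Scheme.preimage_zeroLocus g.hom.left.left _).symm.trans ?_)
          ext w
          rw [Set.mem_preimage, hJT]
          show AlgSp.Points.ofPt E.obj.hom (g.hom.left.left w) ∈ T ↔ AlgSp.Points.ofPt W.obj.hom w ∈ T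
          exact iff_of_eq (congrArg (· ∈ T) ((ofPt_map g.hom.left E.obj.hom w).symm.trans
            (congrArg (fun t => AlgSp.Points.ofPt t w) (CostructuredArrow.w g.hom))))
        have hn : ∀ n : ℕ, Submodule.span (QCohEt.ΓE W)
            (QCohEt.mapSec F g '' (QCohEt.annSub F E (QCohEt.upIdeal E (J E hE ^ n)) : Set (QCohEt.Sec F E))) =
            QCohEt.annSub F W (QCohEt.upIdeal W (K ^ n)) := fun n => by
          rw [QCohEt.span_annSub F g _ (QCohEt.upIdeal_fg E ((hJ E hE).pow)), QCohEt.upIdeal_map, Ideal.map_pow]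
        refine le_antisymm (Submodule.span_le.2 ?_) fun z hz => ?_
        · rintro _ ⟨s, hs, rfl⟩
          refine (hmem W hW K ((hJ E hE).map _) hKT _).1 ?_
          induction hs using Submodule.iSup_induction' with
          | mem n x hx => exact Submodule.mem_iSup_of_mem n (hn n ▸ Submodule.subset_span ⟨x, hx, rfl⟩)
          | zero => rw [map_zero]; exact zero_mem _
          | add x y _ _ hx hy => rw [map_add]; exact add_mem hx hy
        · have hz' := (hmem W hW K ((hJ E hE).map _) hKT z).2 hz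
          refine (iSup_le fun n => ?_ : (⨆ n : ℕ, QCohEt.annSub F W (QCohEt.upIdeal W (K ^ n))) ≤ _) hz'
          rw [← hn n]
          exact Submodule.span_mono (Set.image_mono fun x hx => Submodule.mem_iSup_of_mem n hx) }
  refine ⟨Q.obj, Q.incl, Q.mono_incl, Q.isQuasicoherent_obj, fun W hW => ?_, fun W hW I hI hIT => ?_⟩
  · haveI := hW
    refine (Q.range_incl hW).trans ?_
    ext s
    refine (mem_iSup_annSub_iff F W (J W hW) (hJ W hW) s).1.trans ?_
    rw [hJT]
    rfl
  · haveI := hW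
    refine (Q.range_incl hW).trans ?_
    ext s
    exact (hmem W hW I hI hIT s).symm.trans (mem_iSup_annSub_iff F W I hI s).2

end Groth.Agent.S10085
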