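import Groth.Statements.S10087
import Groth.Agent.AlgSpLib.QCohEtExtend
-- import your own Groth.Agent.* helpers here

set_option autoImplicit false
universe u
open CategoryTheory CategoryTheory.Limits AlgebraicGeometry Opposite
open AlgSp

namespace Groth.Agent.S10087

open Groth.Agent.AlgSpLib.QCohEt in
theorem exists_iso_of_range {S : Scheme.{u}} {X : AlgSp.Sp S} {A B F : AlgSp.ModEt X} (a : A ⟶ F) (b : B ⟶ F)
    [Mono a] [Mono b] (h : ∀ E, IsAff E → Set.range (secMap a E) = Set.range (secMap b E)) :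
    ∃ e : A ≅ B, e.hom ≫ b = a := by
  obtain ⟨l, hl⟩ := exists_lift a b fun E hE => (h E hE).subset
  obtain ⟨l', hl'⟩ := exists_lift b a fun E hE => (h E hE).symm.subset
  exact ⟨⟨l, l', by rw [← cancel_mono a, Category.assoc, hl', hl, Category.id_comp],
    by rw [← cancel_mono b, Category.assoc, hl, hl', Category.id_comp]⟩, hl⟩

/-- Let `S` be a quasi-separated scheme, `X` an algebraic space over `S`, quasi-compact and
quasi-separated over `S`, `j : U ⟶ X` a quasi-compact open subspace, `F` a quasi-coherent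
`O_X`-module on the small etale site of `X` and `G ⟶ j^*F` a quasi-coherent submodule of finite type
of the restriction of `F` to `U`. Then `G` is the restriction of a quasi-coherent submodule `G' ⟶ F`
of finite type: there is an isomorphism `j^*G' ≅ G` compatible with the two inclusions. (The
published statement allows any base scheme and uses absolute quasi-separatedness; this row assumes
the base quasi-separated, over which quasi-separatedness relative to the base is the absolute
notion.) -/
theorem result {S : Scheme.{u}} [QuasiSeparatedSpace ↥S] (X : AlgSp.Space S)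
    (hqc : AlgSp.IsQuasiCompactSp X.obj) (hqs : AlgSp.IsQuasiSeparatedSp X.obj)
    (U : AlgSp.Space S) (j : U ⟶ X) (hj : AlgSp.RepWith @IsOpenImmersion j.hom)
    (hU : AlgSp.IsQuasiCompactSp U.obj)
    [(SheafOfModules.pushforward.{u + 1} (AlgSp.bcRingHom hj.1)).IsRightAdjoint]
    (F : AlgSp.ModEt X.obj) [F.IsQuasicoherent]
    (G : AlgSp.ModEt U.obj) (g : G ⟶ (AlgSp.pullModEt hj.1).obj F) [Mono g]
    [G.IsQuasicoherent] [G.IsFiniteType] :
    ∃ (G' : AlgSp.ModEt X.obj) (g' : G' ⟶ F), Mono g' ∧ G'.IsQuasicoherent ∧ G'.IsFiniteType ∧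
      ∃ e : (AlgSp.pullModEt hj.1).obj G' ≅ G, e.hom ≫ g = (AlgSp.pullModEt hj.1).map g' := by
  open Groth.Agent.AlgSpLib Groth.Agent.AlgSpLib.QCohEt in
  have hje : AlgSp.IsEtaleMor j.hom := Induct.isEtaleMor_of_openImm U.property X.property hj
  let η := (Groth.Agent.Stk19b.QPullEtale.restrictPushAdj hj.1 hje).leftAdjointUniq (AlgSp.pullPushAdjModEt hj.1)
  let g₀ : G ⟶ (Groth.Agent.AlgSpLib.QCohEt.resPost hje).obj F := g ≫ η.inv.app F
  obtain ⟨Q, hQ, hQr⟩ := Groth.Agent.AlgSpLib.QCohEt.exists_extend hqc hqs hje hj hU g₀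
  refine ⟨Q.obj, Q.incl, inferInstance, Q.isQuasicoherent_obj, Q.isFiniteType_obj hQ, ?_⟩
  haveI := Groth.Agent.Stk19b.QPullEtale.preservesFiniteLimits_pushforward
    (Groth.Agent.Stk19b.QPullEtale.postcompRingHom hje)
  haveI : Mono g₀ := mono_comp g (η.inv.app F)
  obtain ⟨e, he⟩ := exists_iso_of_range ((Groth.Agent.AlgSpLib.QCohEt.resPost hje).map Q.incl) g₀ fun E hE => by
    have h1 := hQr E hE
    rw [← Q.range_incl] at h1
    exact h1
  refine ⟨(η.app Q.obj).symm ≪≫ e, ?_⟩
  have h2 : e.hom ≫ g ≫ η.inv.app F = (Groth.Agent.AlgSpLib.QCohEt.resPost hje).map Q.incl := he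
  have h3 : e.hom ≫ g = (Groth.Agent.AlgSpLib.QCohEt.resPost hje).map Q.incl ≫ η.hom.app F := by
    rw [← h2]
    simp only [Category.assoc, Iso.inv_hom_id_app]
    exact (congrArg (e.hom ≫ ·) (Category.comp_id g)).symm
  show (η.inv.app Q.obj ≫ e.hom) ≫ g = _
  rw [Category.assoc, h3, η.hom.naturality, ← Category.assoc, Iso.inv_hom_id_app]
  exact Category.id_comp _

end Groth.Agent.S10087
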