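import Groth.Statements.S10088
import Groth.Agent.AlgSpLib.StratCovInt
import Groth.Agent.AlgSpLib.StratCovSplit
import Groth.Agent.AlgSpLib.StratCovClosed
import Groth.Agent.AlgSpLib.StratCovDeg
import Groth.Agent.AlgSpLib.StratCovUnion
import Groth.Agent.AlgSpLib.ProperImage
import Groth.Agent.S10048

set_option autoImplicit false
universe u
open CategoryTheory CategoryTheory.Limits AlgebraicGeometry Opposite
open AlgSp

namespace Groth.Agent.S10088

open Groth.Agent.AlgSpLib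

set_option backward.isDefEq.respectTransparency.types false
set_option backward.isDefEq.respectTransparency false
set_option linter.style.haveILetI false

/-- one stratum -/
theorem exists_cover_stratum {S : Scheme.{u}} [QuasiSeparatedSpace ↥S] (X : AlgSp.Space S)
    (hqs : AlgSp.IsQuasiSeparatedSp X.obj) {U : Over S} [IsAffine U.left] (a : (AlgSp.yon S).obj U ⟶ X.obj)
    (hae : AlgSp.RepWith @Etale a) (has : AlgSp.RepWith @Surjective a)
    (Z : AlgSp.Space S) (z : Z ⟶ X) (hz : AlgSp.RepWith @IsClosedImmersion z.hom)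
    (hZqc : AlgSp.IsQuasiCompactSp Z.obj)
    {O : Set (AlgSp.Points Z.obj)} (hO : IsOpen O) (hOc : IsCompact O) (d : ℕ)
    (hdeg : ∀ {T P : Over S} (g : (AlgSp.yon S).obj T ⟶ Z.obj), (∀ t, AlgSp.Points.ofPt g t ∈ O) →
      ∀ (fst : (AlgSp.yon S).obj P ⟶ (AlgSp.yon S).obj U) (c : P ⟶ T),
      IsPullback fst ((AlgSp.yon S).map c) a (g ≫ z.hom) → finLocFreeOfDeg d c.left) :
    ∃ (Y : Over S) (g : (AlgSp.yon S).obj Y ⟶ Z.obj),
      AlgSp.IsFiniteMor g ∧ AlgSp.IsSurjectiveMor g ∧ AlgSp.IsFinitePresentationMor g ∧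
      ∀ (W : AlgSp.Space S) (j : W ⟶ Z), AlgSp.RepWith @IsOpenImmersion j.hom →
        Set.range (AlgSp.Points.map j.hom) = O →
        ∀ (P : AlgSp.Sp S) (fst : P ⟶ (AlgSp.yon S).obj Y) (snd : P ⟶ W.obj), IsPullback fst snd g j.hom →
          AlgSp.IsFiniteMor snd ∧ AlgSp.IsEtaleMor snd := by
  classical
  have hzm : Mono z.hom := mono_closedImmersion hz
  have hZqs : AlgSp.IsQuasiSeparatedSp Z.obj :=
    VCart.isQuasiSeparatedSp_of_affineMor (isAffineMor_of_closedImmersion hz) hqs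
  let W₀ : AlgSp.Space S := ⟨openSubspace Z.obj O, isAlgSpace_openSubspace Z.property hO⟩
  let j₀ : W₀ ⟶ Z := ObjectProperty.homMk (openSubspaceι Z.obj O)
  have hj₀ : AlgSp.RepWith @IsOpenImmersion j₀.hom := repWith_openSubspaceι Z.obj hO
  have hr₀ : Set.range (AlgSp.Points.map j₀.hom) = O := range_openSubspaceι Z.obj O
  have hW₀ : AlgSp.IsQuasiCompactSp W₀.obj :=
    Induct.isQuasiCompactSp_openImm W₀.property Z.property hj₀ (hr₀.symm ▸ hOc)
  haveI := Induct.mono_openImm hj₀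
  have hiW : AlgSp.RepWith @IsImmersion (j₀.hom ≫ z.hom) :=
    RepWith.comp (RepWith.mono (fun _ _ q (_ : IsOpenImmersion q) => (inferInstance : IsImmersion q)) hj₀)
      (RepWith.mono (fun _ _ q (_ : IsClosedImmersion q) => (inferInstance : IsImmersion q)) hz)
  obtain ⟨Y₀, τ, σ, hτf, hτe, hτs, hσ, hsplit⟩ := StratCov.exists_split_stratum a hae has (j₀.hom ≫ z.hom) hiW d
    fun g fst c sq => hdeg (g ≫ j₀.hom) (fun t => by
      rw [← hr₀]; exact ⟨AlgSp.Points.ofPt g t, AlgSp.Points.map_ofPt g j₀.hom t⟩) fst c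
      (by rw [Category.assoc]; exact sq)
  obtain ⟨V, v, b, sqV, hv⟩ := exists_yon_of_repWith hz a
  haveI : IsClosedImmersion v.left := hv
  haveI : IsAffine V.left := isAffine_of_isAffineHom v.left
  have hbe : AlgSp.RepWith @Etale b := RepWith.baseChange sqV.flip hae
  have hbs : AlgSp.RepWith @Surjective b := RepWith.baseChange sqV.flip has
  have hbsep : IsSeparatedMor b := by
    obtain ⟨q₀, -⟩ := exists_to_base Z.obj
    refine isSeparatedMor_of_comp (q := q₀) ?_
    rw [show b ≫ q₀ = (AlgSp.yon S).map (Over.homMk V.hom (Category.comp_id _) : V ⟶ Over.mk (𝟙 S)) from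
      (isTerminal_yon_base S).some.hom_ext _ _]
    exact (isSeparatedMor_yon_map_iff _).2 (inferInstanceAs (IsSeparated V.hom))
  have hbqc : AlgSp.RepWith @QuasiCompact b := repWith_qc_chart Z.property hZqs b
  have hvm : Mono v := (Over.forget S).mono_of_mono_map (inferInstanceAs (Mono v.left))
  choose σ' hσ' using fun k => (AlgSp.yon S).map_surjective
    (sqV.lift (τ ≫ j₀.hom) ((AlgSp.yon S).map (σ k)) (by rw [Category.assoc]; exact (hσ k).symm))
  have hσ1 : ∀ k, (AlgSp.yon S).map (σ' k) ≫ b = τ ≫ j₀.hom := fun k => by rw [hσ', sqV.lift_fst]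
  have hσ2 : ∀ k, σ' k ≫ v = σ k := fun k => (AlgSp.yon S).map_injective (by
    rw [Functor.map_comp, hσ', sqV.lift_snd])
  have hsplit' : SplitsAt b (τ ≫ j₀.hom) σ' := fun Ω _ _ sΩ y w hyw => by
    obtain ⟨k, hk⟩ := hsplit Ω sΩ y (w ≫ v) (by
      rw [Functor.map_comp, Category.assoc, ← sqV.w, ← Category.assoc ((AlgSp.yon S).map w), ← hyw]
      simp only [Category.assoc])
    exact ⟨k, (cancel_mono v).1 (by rw [hk, Category.assoc, hσ2])⟩
  obtain ⟨Y₁, g₁, hg₁f, hg₁p, hg₁r, hg₁W⟩ := StratCov.exists_finite_over_open Z hZqc hZqs b hbe hbs hbsep hbqc W₀ j₀ hj₀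
    hW₀ τ hτf hτe hτs σ' hσ1 hsplit'
  obtain ⟨Z', i', hi', hi'p, hi'r⟩ := StratCov.exists_fp_closed_subspace Z hZqc hZqs hO hOc
  have hi'a := isAffineMor_of_closedImmersion hi'
  have hZ'qc : AlgSp.IsQuasiCompactSp Z'.obj := OpenFac.isQuasiCompactSp_of_affine Z.property hi'a hZqc
  have hZ'qs : AlgSp.IsQuasiSeparatedSp Z'.obj := VCart.isQuasiSeparatedSp_of_affineMor hi'a hZqs
  obtain ⟨U', p', hp'e, hp's⟩ := Z'.property.atlas
  obtain ⟨Y₂, h₂, hh₂f, hh₂s, hh₂p, -⟩ := Groth.Agent.S10048.result S Z' hZ'qc hZ'qs U' p' hp'e hp's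
  let g₂ := h₂ ≫ i'.hom
  have hg₂f : AlgSp.IsFiniteMor g₂ := (isFiniteMor_iff_repWith _).2 (RepWith.comp ((isFiniteMor_iff_repWith _).1 hh₂f)
    (RepWith.mono (fun _ _ q (_ : IsClosedImmersion q) => (inferInstance : IsFinite q)) hi'))
  have hg₂p : AlgSp.IsFinitePresentationMor g₂ :=
    ⟨locP_comp etLocal_lfp (IsAlgSpace.yon_obj _) Z'.property Z.property hh₂p.1 hi'p.1,
      isQuasiCompactMor_comp (IsAlgSpace.yon_obj _) Z'.property Z.property hh₂p.2.1 hi'p.2.1,
      isQuasiSeparatedMor_comp hh₂p.2.2 hi'p.2.2⟩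
  have hg₂r : Set.range (AlgSp.Points.map g₂) = Oᶜ := by
    rw [← hi'r]
    ext x
    constructor
    · rintro ⟨y, rfl⟩; exact ⟨_, (AlgSp.Points.map_comp _ _ _).symm⟩
    · rintro ⟨y, rfl⟩
      obtain ⟨w, rfl⟩ := hh₂s y
      exact ⟨w, AlgSp.Points.map_comp _ _ _⟩
  obtain ⟨Y, g, i₁, hgf, hgp, hi₁, hi₁g, hgr, hdisj⟩ := StratCov.exists_union g₁ g₂ hg₁f hg₂f hg₁p hg₂p
  refine ⟨Y, g, hgf, fun x => ?_, hgp, fun W j hj hjr P fst snd sq => ?_⟩
  · have hx : x ∈ Set.range (AlgSp.Points.map g) := by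
      rw [hgr]
      by_cases h : x ∈ O
      · exact Or.inl (hg₁r (hr₀.symm ▸ h))
      · exact Or.inr (hg₂r.symm ▸ h)
    exact hx
  haveI := Induct.mono_openImm hj
  haveI := Induct.mono_openImm hi₁
  obtain ⟨l, hl⟩ := OpenFac.exists_fac_openImm hj₀ j.hom fun w => by rw [hr₀, ← hjr]; exact ⟨w, rfl⟩
  obtain ⟨l', hl'⟩ := OpenFac.exists_fac_openImm hj j₀.hom fun w => by rw [hjr, ← hr₀]; exact ⟨w, rfl⟩
  haveI : IsIso l := ⟨l', by rw [← cancel_mono j.hom, Category.assoc, hl', hl, Category.id_comp],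
    by rw [← cancel_mono j₀.hom, Category.assoc, hl, hl', Category.id_comp]⟩
  obtain ⟨m, hm⟩ := OpenFac.exists_fac_openImm hi₁ fst fun p => by
    rcases hdisj (AlgSp.Points.map fst p) with h | h
    · exact h
    · exfalso
      rw [hg₂r, ← AlgSp.Points.map_comp, sq.w, AlgSp.Points.map_comp] at h
      exact h (hjr ▸ ⟨AlgSp.Points.map snd p, rfl⟩)
  have sq₁ : IsPullback m snd g₁ j.hom := by
    refine isPullback_of_yon (by rw [← hi₁g, ← Category.assoc, hm, sq.w]) fun T x y h =>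
      ⟨sq.lift (x ≫ i₁) y (by rw [Category.assoc, hi₁g, h]), ⟨?_, sq.lift_snd _ _ _⟩, fun w hw => ?_⟩
    · rw [← cancel_mono i₁, Category.assoc, hm, sq.lift_fst]
    · refine sq.hom_ext ?_ ?_
      · rw [sq.lift_fst, ← hm, ← Category.assoc, hw.1]
      · rw [sq.lift_snd, hw.2]
  have sq₀ : IsPullback m (snd ≫ l) g₁ j₀.hom :=
    sq₁.of_iso (Iso.refl _) (Iso.refl _) (asIso l) (Iso.refl _) (by simp) (by simp) (by simp) (by simp [hl])
  obtain ⟨hf, he⟩ := hg₁W P m (snd ≫ l) sq₀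
  have hs : snd = (snd ≫ l) ≫ inv l := by simp
  refine ⟨(isFiniteMor_iff_repWith _).2 ?_, fun _ φ hφ => RepWith.comp hφ ?_⟩
  · rw [hs]; exact RepWith.comp hf (repWith_of_isIso _ _)
  · rw [hs]; exact RepWith.comp he (repWith_of_isIso _ _)

/-- Let `S` be a quasi-separated scheme and `X` an algebraic space over `S`, quasi-compact and
quasi-separated over `S`. Then there are `t ≥ 0` and closed subspaces `Z_0, …, Z_t` of `X`, each of
finite presentation over `X`, with `|Z_0| ⊇ |Z_1| ⊇ ⋯ ⊇ |Z_t|`, `Z_0 ⟶ X` a thickening and `Z_t`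
empty, and for every `k < t` a scheme `Y_k` with a finite surjective morphism `Y_k ⟶ Z_k` of finite
presentation which is finite etale over the open subspace of `Z_k` with points `|Z_k| ∖ |Z_{k+1}|`.
(The inclusions among the `Z_k` are recorded on points.) (The published statement allows any base
scheme and uses absolute quasi-separatedness; this row assumes the base quasi-separated, over which
quasi-separatedness relative to the base is the absolute notion.) -/
theorem result (S : Scheme.{u}) [QuasiSeparatedSpace ↥S]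
    (X : AlgSp.Space S) (hXqc : AlgSp.IsQuasiCompactSp X.obj) (hXqs : AlgSp.IsQuasiSeparatedSp X.obj) :
    ∃ (t : ℕ) (Z : Fin (t + 1) → AlgSp.Space S) (z : ∀ k, Z k ⟶ X),
      (∀ k, AlgSp.RepWith @IsClosedImmersion (z k).hom ∧ AlgSp.IsFinitePresentationMor (z k).hom) ∧
      (∀ k l : Fin (t + 1), k ≤ l →
        Set.range (AlgSp.Points.map (z l).hom) ⊆ Set.range (AlgSp.Points.map (z k).hom)) ∧
      AlgSp.IsThickMor (z 0).hom ∧ IsEmpty (AlgSp.Points (Z (Fin.last t)).obj) ∧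
      ∀ k : Fin t, ∃ (Y : Over S) (g : (AlgSp.yon S).obj Y ⟶ (Z k.castSucc).obj),
        AlgSp.IsFiniteMor g ∧ AlgSp.IsSurjectiveMor g ∧ AlgSp.IsFinitePresentationMor g ∧
        ∀ (W : AlgSp.Space S) (j : W ⟶ Z k.castSucc), AlgSp.RepWith @IsOpenImmersion j.hom →
          Set.range (AlgSp.Points.map (j ≫ z k.castSucc).hom) =
            Set.range (AlgSp.Points.map (z k.castSucc).hom) \ Set.range (AlgSp.Points.map (z k.succ).hom) →
          ∀ (P : AlgSp.Sp S) (fst : P ⟶ (AlgSp.yon S).obj Y) (snd : P ⟶ W.obj), IsPullback fst snd g j.hom →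
            AlgSp.IsFiniteMor snd ∧ AlgSp.IsEtaleMor snd := by
  classical
  haveI := compactSpace_points_of_isQuasiCompactSp hXqc
  obtain ⟨U, a, hU, hae, has⟩ := Groth.Agent.AlgSpLib.exists_affine_chart X.property
  haveI := hU
  obtain ⟨n, δ, hle, hopen, hcpt, hchar⟩ := StratCov.exists_degree X.property hXqs a hae has
  choose Z z hz hzp hzr using fun k : Fin (n + 1 + 1) =>
    StratCov.exists_fp_closed_subspace X hXqc hXqs (hopen (n + 1 - k.1)) (hcpt (n + 1 - k.1))
  have hmem : ∀ k x, x ∈ Set.range (AlgSp.Points.map (z k).hom) ↔ δ x + k.1 ≤ n := fun k x => by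
    rw [hzr]
    show ¬ (n + 1 - k.1 ≤ δ x) ↔ _
    have := k.2
    omega
  refine ⟨n + 1, Z, z, fun k => ⟨hz k, hzp k⟩, fun k l hkl x hx => ?_, ?_, ⟨fun x => ?_⟩, fun k => ?_⟩
  · rw [hmem] at hx ⊢
    have : k.1 ≤ l.1 := hkl
    omega
  · exact ⟨(hz 0).1, fun T P g fst c sq => ⟨(hz 0).2 g fst c sq,
      (repWith_surjective_of_surjective_map (hz 0).1 fun x => (hmem 0 x).2 (by simpa using hle x)).2 g fst c sq⟩⟩
  · have := (hmem (Fin.last _) _).1 ⟨x, rfl⟩
    simp only [Fin.val_last] at this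
    omega
  have hZqc : AlgSp.IsQuasiCompactSp (Z k.castSucc).obj := OpenFac.isQuasiCompactSp_of_affine X.property
    (isAffineMor_of_closedImmersion (hz _)) hXqc
  let O : Set (AlgSp.Points (Z k.castSucc).obj) := AlgSp.Points.map (z k.castSucc).hom ⁻¹' {x | n - k.1 ≤ δ x}
  have hO : IsOpen O := (hopen _).preimage (AlgSp.Points.continuous_map _)
  have hOc : IsCompact O := isCompact_preimage_of_isQuasiCompactMor X.property (hzp _).2.1 (hopen _) (hcpt _)
  obtain ⟨Y, g, h1, h2, h3, h4⟩ := exists_cover_stratum X hXqs a hae has (Z k.castSucc) (z k.castSucc) (hz _)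
    hZqc hO hOc (n - k.1) fun g hg fst c sq => hchar _ fst c sq _ fun t => by
      have e1 : n - k.1 ≤ δ (AlgSp.Points.ofPt (g ≫ (z k.castSucc).hom) t) := by
        rw [← AlgSp.Points.map_ofPt]; exact hg t
      have e2 := (hmem k.castSucc _).1 ⟨AlgSp.Points.ofPt g t, AlgSp.Points.map_ofPt g _ t⟩
      simp only [Fin.val_castSucc] at e2
      omega
  refine ⟨Y, g, h1, h2, h3, fun W j hj hjr => h4 W j hj ?_⟩
  haveI := mono_closedImmersion (hz k.castSucc)
  ext x
  have hjr' := Set.ext_iff.1 hjr (AlgSp.Points.map (z k.castSucc).hom x)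
  have hk := k.2
  constructor
  · rintro ⟨w, rfl⟩
    have := hjr'.1 ⟨w, AlgSp.Points.map_comp _ _ _⟩
    have e2 := (hmem k.succ (AlgSp.Points.map (z k.castSucc).hom (AlgSp.Points.map j.hom w))).not.1 this.2
    simp only [Fin.val_succ] at e2
    show n - k.1 ≤ δ _
    omega
  · intro hx
    obtain ⟨w, hw⟩ := hjr'.2 ⟨⟨x, rfl⟩, fun h => by
      rw [hmem] at h
      simp only [Fin.val_succ] at h
      have hx' : n - k.1 ≤ δ (AlgSp.Points.map (z k.castSucc).hom x) := hx
      omega⟩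
    exact ⟨w, injective_map_of_mono (z k.castSucc).hom ((AlgSp.Points.map_comp _ _ _).symm.trans hw)⟩

end Groth.Agent.S10088
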