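import Groth.Statements.S10089
import Groth.Agent.AlgSpLib.RepBySpLemmas
-- import your own Groth.Agent.* helpers here

set_option autoImplicit false
universe u
open CategoryTheory CategoryTheory.Limits AlgebraicGeometry
open AlgSp

namespace Groth.Agent.S10089

open Groth.Agent.AlgSpLib

/-- Let `a : F ⟶ G` be a map of presheaves of sets on schemes over `S` which is representable by
algebraic spaces. If `G` is an fppf sheaf, then so is `F`. -/
theorem result (S : Scheme.{u}) (F G : AlgSp.PSp S) (a : F ⟶ G)
    (ha : AlgSp.RepBySp a) (hG : Presheaf.IsSheaf (AlgSp.J S) G) :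
    Presheaf.IsSheaf (AlgSp.J S) F := by
  exact Groth.Agent.Stk19.isSheaf_of_repBySp (Z := ⟨G, hG⟩) a ha

end Groth.Agent.S10089
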