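import Groth.Statements.S10096
import Groth.Agent.AlgSpLib.LocP
import Groth.Agent.AlgSpLib.PointsTop
import Groth.Agent.AlgSpLib.Descent
-- import your own Groth.Agent.* helpers here

set_option autoImplicit false
universe u
open CategoryTheory CategoryTheory.Limits AlgebraicGeometry
open AlgSp

namespace Groth.Agent.S10096

open Groth.Agent.AlgSpLib
set_option backward.isDefEq.respectTransparency.types false

/-- Let `a : F ⟶ G` be a map of fppf sheaves of sets over `S` that is flat, surjective, locally of
finite presentation and representable by algebraic spaces (every base change `h_U ×_G F ⟶ h_U` to a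
scheme is such a morphism of algebraic spaces). Then `a` is surjective as a map of sheaves (an
epimorphism of fppf sheaves). -/
theorem result (S : Scheme.{u}) (F G : AlgSp.Sp S) (a : F ⟶ G)
    (ha : AlgSp.RepBySpWith (AlgSp.IsSurjectiveMor ⊓ AlgSp.LocP @Flat ⊓ AlgSp.LocP @LocallyOfFinitePresentation) a.hom) :
    Epi a := by
  rw [AlgSp.repBySpWith_hom_iff] at ha
  suffices Sheaf.IsLocallySurjective a from Sheaf.epi_of_isLocallySurjective a
  refine isLocallySurjective_of_lifts a fun T g => ?_
  obtain ⟨hP, ⟨hs, hfl⟩, hfp⟩ := ha g _ _ (IsPullback.of_hasPullback a g)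
  obtain ⟨W, q, hqe, hqs⟩ := hP.atlas
  obtain ⟨u, hu⟩ := (AlgSp.yon S).map_surjective (q ≫ pullback.snd a g)
  have w : q ≫ pullback.snd a g = (AlgSp.yon S).map u ≫ 𝟙 _ := by rw [Category.comp_id, hu]
  refine ⟨W, u, hfl q (𝟙 _) u hqe (repWith_id _ T) w, hfp q (𝟙 _) u hqe (repWith_id _ T) w, ?_,
    q ≫ pullback.fst a g, by rw [Category.assoc, pullback.condition, hu, Category.assoc]⟩
  rw [← surjective_map_yon_map_iff, hu]
  intro z
  obtain ⟨x, rfl⟩ := hs z
  obtain ⟨v, rfl⟩ := surjective_map_of_repWith hqs x
  exact ⟨v, AlgSp.Points.map_comp _ _ _⟩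

end Groth.Agent.S10096
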