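import Groth.Statements.S10105
import Groth.Agent.Stk19b.Fppf.Bootstrap

set_option autoImplicit false
universe u
open CategoryTheory CategoryTheory.Limits AlgebraicGeometry
open AlgSp

set_option backward.isDefEq.respectTransparency.types false
set_option backward.isDefEq.respectTransparency false

open Groth.Agent.AlgSpLib
namespace Groth.Agent.S10105


/-- Let `F` be an fppf sheaf of sets over `S` and `{S_i ⟶ S}` an fppf covering. If every `h_{S_i} × F`
is an algebraic space and the coproduct `∐ h_{S_i} × F` (in sheaves) is an algebraic space, then `F`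
is an algebraic space: being an algebraic space is fppf local on the base. -/
theorem result (S : Scheme.{u}) (F : AlgSp.Sp S) {ι : Type u} (Si : ι → Over S)
    (hfl : ∀ i, Flat (Si i).hom) (hfp : ∀ i, LocallyOfFinitePresentation (Si i).hom)
    (hsurj : ∀ x : ↥S, ∃ (i : ι) (y : ↥(Si i).left), (Si i).hom.base y = x)
    (halg : ∀ i, AlgSp.IsAlgSpace ((AlgSp.yon S).obj (Si i) ⨯ F))
    (c : Cofan (fun i => (AlgSp.yon S).obj (Si i) ⨯ F)) (hc : IsColimit c) (hcop : AlgSp.IsAlgSpace c.pt) :
    AlgSp.IsAlgSpace F := by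
  let K := (isTerminal_yon_base S).some
  let V := sigmaOver Si
  have sq : IsPullback (prod.fst : (yon S).obj V ⨯ F ⟶ _) prod.snd (K.from _) (K.from F) :=
    IsPullback.of_is_product (limit.isLimit (pair ((yon S).obj V) F)) K
  have hVs : Surjective V.hom := ⟨fun x => by
    obtain ⟨i, y, hy⟩ := hsurj x
    refine ⟨(sigmaOverι Si i).left y, ?_⟩
    rw [← Scheme.Hom.comp_apply, Over.w]; exact hy⟩
  have hVf : Flat V.hom := IsZariskiLocalAtSource.sigmaDesc hfl
  have hVp : LocallyOfFinitePresentation V.hom := IsZariskiLocalAtSource.sigmaDesc hfp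
  let v : V ⟶ Over.mk (𝟙 S) := Over.homMk V.hom
  have hv : (yon S).map v = K.from _ := K.hom_ext _ _
  have h : ∀ (P : MorphismProperty Scheme.{u}) [P.IsStableUnderBaseChange], P v.left →
      RepWith P (prod.snd : (yon S).obj V ⨯ F ⟶ F) := fun P _ hP => by
    refine RepWith.baseChange sq ?_
    rw [← hv]; exact (repWith_yon_map_iff P v).2 hP
  refine Stk19b.Fppf.isAlgSpace_of_fppf_cover (X := (yon S).obj V ⨯ F) ?_ prod.snd
    (Stk19b.Fppf.repBySpWith_of_repWith (h @Flat hVf) (h @LocallyOfFinitePresentation hVp)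
      (h @Surjective hVs))
  have hsqi : ∀ i, IsPullback (prod.fst : (yon S).obj (Si i) ⨯ F ⟶ _)
      (prod.map ((yon S).map (sigmaOverι Si i)) (𝟙 F)) ((yon S).map (sigmaOverι Si i)) prod.fst :=
    fun i => by
      refine IsPullback.of_bot ?_ (prod.map_fst _ _).symm sq
      rw [prod.map_snd, Category.comp_id, K.hom_ext ((yon S).map (sigmaOverι Si i) ≫ K.from _) (K.from _)]
      exact IsPullback.of_is_product (limit.isLimit (pair ((yon S).obj (Si i)) F)) K
  refine isAlgSpace_of_open_family _ halg
    (fun i => RepWith.baseChange (hsqi i) ((repWith_yon_map_iff _ _).2 inferInstance)) fun x => ?_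
  obtain ⟨z, hz⟩ := (Points.schemeHomeo V).surjective (Points.map prod.fst x)
  obtain ⟨i, y, rfl⟩ := exists_mem_range_sigmaOverι Si z
  obtain ⟨w, -, hw⟩ := exists_point_of_isPullback (hsqi i) (x := Points.ofScheme _ y) (y := x)
    ((map_yon_map_ofScheme _ _).trans hz)
  exact ⟨i, w, hw⟩

end Groth.Agent.S10105
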