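import Groth.Statements.S10107
import Groth.Agent.AlgSpLib.EqvQuot
import Groth.Agent.AlgSpLib.FpqcBaseLocP
import Groth.Agent.AlgSpLib.FppfLocal
import Groth.Agent.AlgSpLib.EtLocalInst
import Groth.Agent.AlgSpLib.MorProper
-- import your own Groth.Agent.* helpers here

set_option autoImplicit false
universe u
open CategoryTheory CategoryTheory.Limits AlgebraicGeometry
open AlgSp

namespace Groth.Agent.S10107

open Groth.Agent.AlgSpLib in
set_option backward.isDefEq.respectTransparency.types false in
theorem locP_quotSpπ {S : Scheme.{u}} {R U : AlgSp.Sp S} (hR : AlgSp.IsAlgSpace R) (hU : AlgSp.IsAlgSpace U)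
    (s t : R ⟶ U) (hj : AlgSp.IsEqvRelSp s t) (hF : AlgSp.IsAlgSpace (AlgSp.quotSp s t))
    {P : MorphismProperty Scheme.{u}} (hP : EtLocal P) [IsZariskiLocalAtTarget P]
    [P.DescendsAlong Et18.FPQC.{u}] (hs : AlgSp.LocP P s) : AlgSp.LocP P (AlgSp.quotSpπ s t) := by
  refine locP_of_affine hP hU hF fun Z hZ g Q fst snd sq => ?_
  obtain ⟨V, c, hV, hc, -, hcs, x, -, hx, -⟩ := exists_affine_lift (AlgSp.quotSpπ s t) g g
  have hQ := isAlgSpace_of_isPullback hF.diag hU (AlgSp.IsAlgSpace.yon_obj Z) sq
  have K : IsPullback t s (AlgSp.quotSpπ s t) (AlgSp.quotSpπ s t) := isPullback_quotSpπ hj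
  have T : IsPullback (pullback.fst s x ≫ t) (pullback.snd s x) (AlgSp.quotSpπ s t)
      ((AlgSp.yon S).map c ≫ g) := by
    rw [← hx]; exact (IsPullback.of_hasPullback s x).paste_horiz K
  let m : pullback s x ⟶ Q := sq.lift (pullback.fst s x ≫ t) (pullback.snd s x ≫ (AlgSp.yon S).map c)
    (by rw [T.w, Category.assoc])
  have hm : IsPullback m (pullback.snd s x) snd ((AlgSp.yon S).map c) := by
    refine IsPullback.of_right ?_ (sq.lift_snd _ _ _) sq
    rw [show m ≫ fst = pullback.fst s x ≫ t from sq.lift_fst _ _ _]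
    exact T
  have hA := isAlgSpace_of_isPullback hU.diag hR (AlgSp.IsAlgSpace.yon_obj V)
    (IsPullback.of_hasPullback s x)
  exact locP_of_fpqc_family hP (m := 1) (V := fun _ => V) (fun _ => c) hZ (fun _ => hV) (fun _ => hc)
    (fun z => ⟨0, hcs.surj z⟩) hQ (Q := fun _ => pullback s x) (a := fun _ => m)
    (b := fun _ => pullback.snd s x) (fun _ => hm)
    (fun _ => locP_of_isPullback hP hR hU hA (IsPullback.of_hasPullback s x) hs)

set_option backward.isDefEq.respectTransparency.types false in
/-- Let `F = U/R` be an algebraic space which is the fppf quotient of a groupoid in algebraic spaces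
`(U, R, s, t, c)` over `S` with `s, t` flat and locally of finite presentation and `j = (t, s)` an
equivalence relation (equivalently, the composition being determined by it, of an equivalence
relation `s, t : R ⟶ U` of algebraic spaces with these properties). Then `U ⟶ F` is surjective, flat
and locally of finite presentation. -/
theorem result (S : Scheme.{u}) (R U : AlgSp.Sp S)
    (hR : AlgSp.IsAlgSpace R) (hU : AlgSp.IsAlgSpace U) (s t : R ⟶ U) (hj : AlgSp.IsEqvRelSp s t)
    (hs : AlgSp.LocP @Flat s ∧ AlgSp.LocP @LocallyOfFinitePresentation s)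
    (ht : AlgSp.LocP @Flat t ∧ AlgSp.LocP @LocallyOfFinitePresentation t)
    (hF : AlgSp.IsAlgSpace (AlgSp.quotSp s t)) :
    AlgSp.IsSurjectiveMor (AlgSp.quotSpπ s t) ∧ AlgSp.LocP @Flat (AlgSp.quotSpπ s t) ∧
      AlgSp.LocP @LocallyOfFinitePresentation (AlgSp.quotSpπ s t) := by
  have := Groth.Agent.AlgSpLib.descends_flat.{u}
  refine ⟨?_, locP_quotSpπ (P := @Flat.{u}) hR hU s t hj hF Groth.Agent.AlgSpLib.etLocal_flat hs.1,
    locP_quotSpπ (P := @LocallyOfFinitePresentation.{u}) hR hU s t hj hF Groth.Agent.AlgSpLib.etLocal_lfp hs.2⟩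
  exact Groth.Agent.AlgSpLib.surjective_map_of_isLocallySurjective _
    ((Sheaf.isLocallySurjective_iff_epi' (Type (u + 1)) _).2 inferInstance)

end Groth.Agent.S10107
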