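import Groth.Statements.S10108
import Groth.Agent.AlgSpLib.EtaleSheafSpace
-- import your own Groth.Agent.* helpers here

set_option autoImplicit false
universe u
open CategoryTheory CategoryTheory.Limits AlgebraicGeometry
open AlgSp

namespace Groth.Agent.S10108

/-- A presheaf of sets on schemes over `S` which is a sheaf for the etale topology, has diagonal
representable by schemes, and receives a representable surjective etale map from a scheme over `S`,
is an algebraic space (in particular an fppf sheaf): algebraic spaces defined with the etale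
topology are the same as with the fppf topology. -/
theorem result (S : Scheme.{u}) (F : AlgSp.PSp S)
    (h1 : Presheaf.IsSheaf (QuotSh.J Scheme.etalePrecoverage S) F)
    (h2 : (AlgSp.pyon S).relativelyRepresentable (Limits.diag F))
    (U : Over S) (p : (AlgSp.pyon S).obj U ⟶ F)
    (h3 : (MorphismProperty.inverseImage @Etale (Over.forget S)).relative (AlgSp.pyon S) p ∧
      (MorphismProperty.inverseImage @Surjective (Over.forget S)).relative (AlgSp.pyon S) p) :
    AlgSp.IsAlgSpaceP F := by
  refine Groth.Agent.AlgSpLib.isAlgSpaceP_of_etale_sheaf_smooth_cover h1 p fun T ξ F' fst snd sq => ?_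
  obtain ⟨he, hj⟩ := h3
  let c := he.1.snd ξ
  have hce : Etale c.left := he.property_snd ξ
  have hcs : Surjective c.left := hj.property _ _ _ (he.1.isPullback ξ)
  let e := sq.isoIsPullback _ _ (he.1.isPullback ξ)
  have hs : Presheaf.IsSheaf (AlgSp.J S) F' :=
    (Presheaf.isSheaf_of_iso_iff e).2 ((AlgSp.yon S).obj (he.1.pullback ξ)).property
  let F'' : AlgSp.Sp S := ⟨F', hs⟩
  let e' : F'' ≅ (AlgSp.yon S).obj (he.1.pullback ξ) :=
    (fullyFaithfulSheafToPresheaf (AlgSp.J S) _).preimageIso e
  have hm : (ObjectProperty.homMk snd : F'' ⟶ (AlgSp.yon S).obj T) = e'.hom ≫ (AlgSp.yon S).map c :=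
    ObjectProperty.hom_ext _ (sq.isoIsPullback_hom_snd _ _ (he.1.isPullback ξ)).symm
  have hA : AlgSp.IsAlgSpace F'' := (AlgSp.IsAlgSpace.yon_obj _).of_iso e'.symm
  have hrs : AlgSp.RepWith @Surjective (e'.hom ≫ (AlgSp.yon S).map c) :=
    MorphismProperty.RespectsIso.precomp _ _ _ ((AlgSp.repWith_yon_map_iff @Surjective c).2 hcs)
  have hrm : AlgSp.RepWith @Smooth (e'.hom ≫ (AlgSp.yon S).map c) :=
    MorphismProperty.RespectsIso.precomp _ _ _ ((AlgSp.repWith_yon_map_iff @Smooth c).2 inferInstance)
  refine ⟨hs, hA, ?_, ?_⟩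
  · rw [hm]
    exact Groth.Agent.AlgSpLib.surjective_map_of_repWith hrs
  · rw [hm]
    exact Groth.Agent.AlgSpLib.locP_of_repWith Groth.Agent.AlgSpLib.etLocal_smooth hA hrm

end Groth.Agent.S10108
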