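import Groth.Statements.S10117
import Groth.Prelude.Def_AlgSpGpd
import Mathlib.CategoryTheory.Monoidal.Cartesian.Grp
import Mathlib.CategoryTheory.Monoidal.Cartesian.Mon
-- import your own Groth.Agent.* helpers here

set_option autoImplicit false
universe u
open CategoryTheory CategoryTheory.Limits AlgebraicGeometry MonoidalCategory MonObj
open AlgSp AlgSp.GAction

namespace Groth.Agent.S10117

open CategoryTheory.CartesianMonoidalCategory in
set_option backward.isDefEq.respectTransparency.types false in
theorem eq_of_shear {S : Scheme.{u}} {B : AlgSp.Sp S} {G X : Over B} [GrpObj G]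
    (a : AlgSp.GAction G X) (ha : a.IsFree) {T : Over S} (β : (AlgSp.yon S).obj T ⟶ B)
    (p q : Over.mk β ⟶ G ⊗ X) (h : p ≫ lift a.act (snd G X) = q ≫ lift a.act (snd G X)) : p = q := by
  have h1 : p ≫ a.act = q ≫ a.act := by simpa [← comp_lift] using congrArg (· ≫ fst X X) h
  have h2 : p ≫ snd G X = q ≫ snd G X := by simpa [← comp_lift] using congrArg (· ≫ snd X X) h
  have hmul : ∀ (g g' : Over.mk β ⟶ G) (x : Over.mk β ⟶ X),
      lift (g * g') x ≫ a.act = lift g (lift g' x ≫ a.act) ≫ a.act := fun g g' x => by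
    have := congrArg (lift (lift g g') x ≫ ·) a.mul_act
    simp only [lift_whiskerRight_assoc, lift_lift_associator_hom_assoc, lift_whiskerLeft_assoc] at this
    exact this
  have hone : ∀ (x : Over.mk β ⟶ X), lift (1 : Over.mk β ⟶ G) x ≫ a.act = x := fun x => by
    have := congrArg (lift (toUnit _) x ≫ ·) a.one_act
    simp only [lift_whiskerRight_assoc, lift_leftUnitor_hom] at this
    exact this
  have ep : lift (p ≫ fst G X) (p ≫ snd G X) = p := by rw [← comp_lift, lift_fst_snd, Category.comp_id]
  have eq' : lift (q ≫ fst G X) (q ≫ snd G X) = q := by rw [← comp_lift, lift_fst_snd, Category.comp_id]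
  have hf : (q ≫ fst G X)⁻¹ * (p ≫ fst G X) = 1 := by
    refine ha β _ (p ≫ snd G X) ?_
    rw [hmul, ep, h1, ← eq', ← h2, ← hmul]
    rw [show (lift (q ≫ fst G X) (p ≫ snd G X) ≫ fst G X) = q ≫ fst G X from lift_fst _ _,
      inv_mul_cancel, hone]
  rw [← ep, ← eq', h2, inv_mul_eq_one.1 hf]

/-- If a group algebraic space `G` over `B` acts freely on an algebraic space `X` over `B`, then `G ×_B
X ⟶ X ×_B X`, `(g, x) ↦ (g x, x)`, is a monomorphism. (The published statement is an equivalence;
this row states only the direction from free to monomorphism.) -/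
theorem result (S : Scheme.{u}) (B : AlgSp.Sp S) (hB : AlgSp.IsAlgSpace B)
    (G X : Over B) [GrpObj G] (hG : AlgSp.IsAlgSpace G.left) (hX : AlgSp.IsAlgSpace X.left)
    (a : AlgSp.GAction G X) (ha : a.IsFree) :
    Mono (CartesianMonoidalCategory.lift a.act (CartesianMonoidalCategory.snd G X)).left := by
  refine ⟨fun {Z} x y e => ?_⟩
  ext T v
  obtain ⟨T⟩ := T
  have key : ∀ (p q : (AlgSp.yon S).obj T ⟶ (G ⊗ X).left),
      p ≫ (CartesianMonoidalCategory.lift a.act (CartesianMonoidalCategory.snd G X)).left =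
        q ≫ (CartesianMonoidalCategory.lift a.act (CartesianMonoidalCategory.snd G X)).left → p = q := by
    intro p q hpq
    have hb : q ≫ (G ⊗ X).hom = p ≫ (G ⊗ X).hom := by
      have := congrArg (· ≫ (X ⊗ X).hom) hpq
      simp only [Category.assoc, Over.w] at this
      exact this.symm
    exact congrArg CommaMorphism.left (eq_of_shear a ha (p ≫ (G ⊗ X).hom)
      (Over.homMk p rfl : Over.mk (p ≫ (G ⊗ X).hom) ⟶ G ⊗ X)
      (Over.homMk q hb) (Over.OverMorphism.ext hpq))
  have hk := key ((AlgSp.J S).uliftYonedaEquiv.symm v ≫ x) ((AlgSp.J S).uliftYonedaEquiv.symm v ≫ y)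
    (by rw [Category.assoc, e, Category.assoc])
  have := congrArg (AlgSp.J S).uliftYonedaEquiv hk
  rwa [GrothendieckTopology.uliftYonedaEquiv_comp, GrothendieckTopology.uliftYonedaEquiv_comp,
    Equiv.apply_symm_apply] at this

end Groth.Agent.S10117
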