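import Groth.Statements.S10112
import Groth.Agent.Stk19b.Fppf.Bootstrap
import Groth.Agent.S10117
import Groth.Agent.S10107
import Mathlib.CategoryTheory.Monoidal.Cartesian.Grp
import Mathlib.CategoryTheory.Monoidal.Cartesian.Mon

set_option autoImplicit false
universe u
open CategoryTheory CategoryTheory.Limits AlgebraicGeometry MonoidalCategory
open AlgSp

set_option backward.isDefEq.respectTransparency.types false
set_option backward.isDefEq.respectTransparency false

namespace Groth.Agent.S10112

open Groth.Agent.AlgSpLib MonObj in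
open CategoryTheory.MonoidalCategory CategoryTheory.CartesianMonoidalCategory in
theorem isEqvRelSp_of_free {S : Scheme.{u}} {B : AlgSp.Sp S} (hB : AlgSp.IsAlgSpace B) {G X : Over B} [GrpObj G]
    (hG : AlgSp.IsAlgSpace G.left) (hX : AlgSp.IsAlgSpace X.left) (a : AlgSp.GAction G X) (ha : a.IsFree) :
    AlgSp.IsEqvRelSp (snd G X).left a.act.left := by
  have hm := Groth.Agent.S10117.result S B hB G X hG hX a ha
  constructor
  · intro T r r' e1 e2
    rw [← cancel_mono (lift a.act (snd G X)).left]
    have h1 : (lift a.act (snd G X)).left ≫ (fst X X).left = a.act.left := by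
      rw [← Over.comp_left, lift_fst]
    have h2 : (lift a.act (snd G X)).left ≫ (snd X X).left = (snd G X).left := by
      rw [← Over.comp_left, lift_snd]
    apply pullback.hom_ext
    · show (r ≫ _) ≫ (fst X X).left = (r' ≫ _) ≫ (fst X X).left
      rw [Category.assoc, Category.assoc, h1, e1]
    · show (r ≫ _) ≫ (snd X X).left = (r' ≫ _) ≫ (snd X X).left
      rw [Category.assoc, Category.assoc, h2, e2]
  intro T
  have hmul : ∀ {Y : Over B} (g g' : Y ⟶ G) (x : Y ⟶ X),
      lift (g * g') x ≫ a.act = lift g (lift g' x ≫ a.act) ≫ a.act := fun g g' x => by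
    have := congrArg (lift (lift g g') x ≫ ·) a.mul_act
    simp only [lift_whiskerRight_assoc, lift_lift_associator_hom_assoc, lift_whiskerLeft_assoc] at this
    exact this
  have hone : ∀ {Y : Over B} (x : Y ⟶ X), lift (1 : Y ⟶ G) x ≫ a.act = x := fun x => by
    have := congrArg (lift (toUnit _) x ≫ ·) a.one_act
    simp only [lift_whiskerRight_assoc, lift_leftUnitor_hom] at this
    exact this
  let Rel := fun p q : (AlgSp.yon S).obj T ⟶ X.left =>
    ∃ r : (AlgSp.yon S).obj T ⟶ (G ⊗ X).left, r ≫ a.act.left = p ∧ r ≫ (snd G X).left = q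
  -- a related pair comes from a group element
  have key : ∀ p q, Rel p q ↔ ∃ (β : (AlgSp.yon S).obj T ⟶ B) (g : Over.mk β ⟶ G) (x : Over.mk β ⟶ X),
      (lift g x ≫ a.act).left = p ∧ x.left = q := by
    intro p q
    constructor
    · rintro ⟨r, rfl, rfl⟩
      let r₀ : Over.mk (r ≫ (G ⊗ X).hom) ⟶ G ⊗ X := Over.homMk r
      refine ⟨_, r₀ ≫ fst G X, r₀ ≫ snd G X, ?_, Over.comp_left _ _ _ _ _⟩
      rw [← comp_lift, lift_fst_snd, Category.comp_id, Over.comp_left]
      rfl
    · rintro ⟨β, g, x, rfl, rfl⟩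
      exact ⟨(lift g x).left, (Over.comp_left _ _ _ _ _).symm, by rw [← Over.comp_left, lift_snd]⟩
  refine ⟨fun p => ?_, fun {p q} h => ?_, fun {p q w} h h' => ?_⟩
  · exact (key p p).2 ⟨p ≫ X.hom, 1, Over.homMk p, by rw [hone]; rfl, rfl⟩
  · obtain ⟨β, g, x, rfl, rfl⟩ := (key p q).1 h
    exact (key _ _).2 ⟨β, g⁻¹, lift g x ≫ a.act, by rw [← hmul, inv_mul_cancel, hone], rfl⟩
  · obtain ⟨β, g, x, rfl, rfl⟩ := (key p q).1 h
    obtain ⟨β', g', x', e, rfl⟩ := (key _ _).1 h'
    obtain rfl : β' = β := by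
      have h1 := Over.w (lift g' x' ≫ a.act)
      rw [e, Over.w x] at h1
      exact h1.symm
    have e' : lift g' x' ≫ a.act = x := Over.OverMorphism.ext e
    exact (key _ _).2 ⟨_, g * g', x', by rw [hmul, e'], rfl⟩


/-- Let `G` be a group algebraic space over an algebraic space `B`, flat and locally of finite
presentation over `B`, acting freely on an algebraic space `X` over `B`. Then `X/G` is an algebraic
space, the quotient map `X ⟶ X/G` is flat, surjective and locally of finite presentation, and `(g,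
x) ↦ (g x, x)` is an isomorphism `G ×_B X ⟶ X ×_{X/G} X`, so that `X` is an fppf `G`-torsor over
`X/G`. -/
theorem result (S : Scheme.{u}) (B : AlgSp.Sp S) (hB : AlgSp.IsAlgSpace B)
    (G X : Over B) [GrpObj G] (hG : AlgSp.IsAlgSpace G.left) (hX : AlgSp.IsAlgSpace X.left)
    (a : AlgSp.GAction G X) (ha : a.IsFree)
    (hfl : AlgSp.LocP @Flat G.hom ∧ AlgSp.LocP @LocallyOfFinitePresentation G.hom) :
    AlgSp.IsAlgSpace a.quot ∧
      (AlgSp.IsSurjectiveMor a.quotπ ∧ AlgSp.LocP @Flat a.quotπ ∧ AlgSp.LocP @LocallyOfFinitePresentation a.quotπ) ∧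
      IsIso (pullback.lift a.act.left (CartesianMonoidalCategory.snd G X).left
        (AlgSp.quotSp_condition (CartesianMonoidalCategory.snd G X).left a.act.left).symm :
          (G ⊗ X).left ⟶ pullback a.quotπ a.quotπ) := by
  have hj := isEqvRelSp_of_free hB hG hX a ha
  have hR : AlgSp.IsAlgSpace (MonoidalCategory.tensorObj G X).left :=
    Groth.Agent.AlgSpLib.isAlgSpace_of_isPullback hB.diag hG hX (IsPullback.of_hasPullback G.hom X.hom)
  have sq : IsPullback (CartesianMonoidalCategory.fst G X).left (CartesianMonoidalCategory.snd G X).left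
      G.hom X.hom := IsPullback.of_hasPullback G.hom X.hom
  have hsf := Groth.Agent.AlgSpLib.locP_of_isPullback Groth.Agent.AlgSpLib.etLocal_flat hG hB hR sq hfl.1
  have hsp := Groth.Agent.AlgSpLib.locP_of_isPullback Groth.Agent.AlgSpLib.etLocal_lfp hG hB hR sq hfl.2
  have hF : AlgSp.IsAlgSpace a.quot := Stk19b.Fppf.isAlgSpace_quotSp hR hX hj hsf hsp
  have K := Groth.Agent.AlgSpLib.isPullback_quotSpπ hj
  refine ⟨hF, ?_, ?_⟩
  · have := Groth.Agent.AlgSpLib.descends_flat.{u}
    exact ⟨Groth.Agent.AlgSpLib.surjective_map_of_isLocallySurjective _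
        ((Sheaf.isLocallySurjective_iff_epi' (Type (u + 1)) _).2 (inferInstanceAs (Epi (coequalizer.π _ _)))),
      Groth.Agent.S10107.locP_quotSpπ hR hX _ _ hj hF Groth.Agent.AlgSpLib.etLocal_flat hsf,
      Groth.Agent.S10107.locP_quotSpπ hR hX _ _ hj hF Groth.Agent.AlgSpLib.etLocal_lfp hsp⟩
  · refine (congrArg (fun f => IsIso f) (?_ : _ = K.isoPullback.hom)).mpr inferInstance
    apply pullback.hom_ext
    · exact (pullback.lift_fst _ _ _).trans K.isoPullback_hom_fst.symm
    · exact (pullback.lift_snd _ _ _).trans K.isoPullback_hom_snd.symm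

end Groth.Agent.S10112
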