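import Groth.Statements.S10115
import Groth.Agent.AlgSpLib.QuotSpLemmas
-- import your own Groth.Agent.* helpers here

set_option autoImplicit false
universe u
open CategoryTheory CategoryTheory.Limits AlgebraicGeometry
open AlgSp AlgSp.GroupoidSp

namespace Groth.Agent.S10115

open Groth.Agent.AlgSpLib

/-- For a groupoid `(U, R, s, t, c)` in algebraic spaces over `B`, let `(U', R', s', t', c')` be its
restriction along a morphism `g : U' ⟶ U` over `B`. Then `U'/R' ⟶ U/R` is injective; if the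
composite `h : U' ×_{g, U, t} R ⟶ R ⟶ U` of the projection with `s` is a surjection of fppf sheaves
(for instance if `g` is), then it is bijective. -/
theorem result (S : Scheme.{u}) (B : AlgSp.Sp S) (hB : AlgSp.IsAlgSpace B)
    (G G' : AlgSp.GroupoidSp B) (hU : AlgSp.IsAlgSpace G.U) (hR : AlgSp.IsAlgSpace G.R)
    (hU' : AlgSp.IsAlgSpace G'.U) (hR' : AlgSp.IsAlgSpace G'.R) (φ : AlgSp.GroupoidSp.Hom G' G)
    (hφ : φ.IsRestriction) (ψ : G'.quot ⟶ G.quot) (hψ : G'.quotπ ≫ ψ = φ.fU ≫ G.quotπ) :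
    Mono ψ ∧ (Epi (pullback.snd φ.fU G.t ≫ G.s) → IsIso ψ) := by
  have hψ' : AlgSp.quotSpπ G'.s G'.t ≫ ψ = φ.fU ≫ AlgSp.quotSpπ G.s G.t := hψ
  have hm : @Mono (AlgSp.Sp S) _ (AlgSp.quotSp G'.s G'.t) (AlgSp.quotSp G.s G.t) ψ := mono_of_restrict (isPreEqvRelSp_groupoid G) φ.fU
    (fun _ a b x h1 h2 => exists_restrict_lift hφ a b x h1 h2) ψ hψ'
  refine ⟨hm, fun h => @isIso_of_restrict _ _ _ _ _ G.s G.t φ.fU G'.s G'.t ψ hψ' hm ?_⟩
  have : Epi (AlgSp.quotSpπ G.s G.t) := inferInstanceAs (Epi (coequalizer.π G.s G.t))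
  have h2 : Epi ((pullback.snd φ.fU G.t ≫ G.s) ≫ AlgSp.quotSpπ G.s G.t) := epi_comp _ _
  rw [Category.assoc, AlgSp.quotSp_condition, ← pullback.condition_assoc] at h2
  exact epi_of_epi (pullback.fst φ.fU G.t) _

end Groth.Agent.S10115
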