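import Groth.Statements.S10116
import Groth.Agent.AlgSpLib.GroupoidLemmas
-- import your own Groth.Agent.* helpers here

set_option autoImplicit false
universe u
open CategoryTheory CategoryTheory.Limits AlgebraicGeometry MonoidalCategory MonObj
open AlgSp

namespace Groth.Agent.S10116

open Groth.Agent.AlgSpLib
set_option backward.isDefEq.respectTransparency.types false

/-- Let `G` be a group algebraic space over an algebraic space `B` with unit `e : B ⟶ G`. Then `G ⟶ B`
is separated if and only if `e` is a closed immersion, quasi-separated if and only if `e` is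
quasi-compact, and if `G ⟶ B` is locally separated then `e` is an immersion. (The published
statement makes the last part an equivalence as well; this row states only that a locally separated
`G ⟶ B` has `e` an immersion.) -/
theorem result (S : Scheme.{u}) (B : AlgSp.Sp S) (hB : AlgSp.IsAlgSpace B)
    (G : Over B) [GrpObj G] (hG : AlgSp.IsAlgSpace G.left) :
    (AlgSp.IsSeparatedMor G.hom ↔ AlgSp.RepWith @IsClosedImmersion (η[G]).left) ∧
      (AlgSp.IsQuasiSeparatedMor G.hom ↔ AlgSp.IsQuasiCompactMor (η[G]).left) ∧
      (AlgSp.IsLocallySeparatedMor G.hom → AlgSp.RepWith @IsImmersion (η[G]).left) := by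
  have s1 := isPullback_unit_diagonal G
  have s2 := isPullback_diagonal_unit G
  have hd := representable_diagonal hG G.hom
  have hP : AlgSp.IsAlgSpace (pullback G.hom G.hom) :=
    isAlgSpace_of_isPullback hB.diag hG hG (IsPullback.of_hasPullback _ _)
  refine ⟨⟨fun h => RepWith.baseChange s1 h, fun h => RepWith.baseChange s2 h⟩, ⟨fun h => ?_, fun h => ?_⟩,
    fun h => RepWith.baseChange s1 h⟩
  · have h' : AlgSp.RepWith @QuasiCompact (η[G]).left := RepWith.baseChange s1 h
    exact (repWith_quasiCompact_iff (F := (𝟙_ (Over B)).left) hB hG h'.1).1 h'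
  · have hrep : AlgSp.Representable (η[G]).left := MorphismProperty.of_isPullback s1 hd
    have h' : AlgSp.RepWith @QuasiCompact (η[G]).left :=
      (repWith_quasiCompact_iff (F := (𝟙_ (Over B)).left) hB hG hrep).2 h
    exact RepWith.baseChange s2 h'

end Groth.Agent.S10116
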