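import Groth.Statements.S10119
import Groth.Agent.AlgSpLib.GroupTranslate
-- import your own Groth.Agent.* helpers here

set_option autoImplicit false
universe u
open CategoryTheory CategoryTheory.Limits AlgebraicGeometry MonoidalCategory MonObj
open AlgSp

namespace Groth.Agent.S10119

/-- Let `k` be a field with algebraic closure `k̄` and `G` a separated group algebraic space over `k`.
Then `G_{k̄}` is a scheme. -/
theorem result (k : Type u) [Field k]
    (G : Over ((AlgSp.yon (Spec (CommRingCat.of k))).obj (Over.mk (𝟙 _)))) [GrpObj G]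
    (hG : AlgSp.IsAlgSpace G.left) (hsep : AlgSp.IsSeparatedSp G.left) :
    (G.left ⨯ ((AlgSp.yon (Spec (CommRingCat.of k))).obj (Over.mk (Spec.map (CommRingCat.ofHom (algebraMap k (AlgebraicClosure k))))))).obj.IsRepresentable := by
  open Groth.Agent.AlgSpLib in
  have hqs : IsQuasiSeparatedSp G.left := RepWith.mono (fun _ _ f (_ : IsClosedImmersion f) => (inferInstance : QuasiCompact f)) hsep
  open Groth.Agent.AlgSpLib in
  obtain ⟨K, _, _, h⟩ := GroupTranslate.exists_extension_rep hG hqs
  exact Groth.Agent.AlgSpLib.FieldDescent.isRepresentable_algClosed_of_cover ⟨G.left, hG⟩ hqs K h (AlgebraicClosure k)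

end Groth.Agent.S10119
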