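import Groth.Statements.S10121
import Groth.Agent.AlgSpLib.Points

set_option autoImplicit false
universe u
open CategoryTheory CategoryTheory.Limits AlgebraicGeometry
open AlgSp

set_option backward.isDefEq.respectTransparency.types false
set_option backward.isDefEq.respectTransparency false

namespace Groth.Agent.S10121


/-- For a pre-equivalence relation `s, t : R ⟶ U` of algebraic spaces, the relation on points of `U`
given by `x ∼ y` when some point `r` of `R` has `t(r) = x` and `s(r) = y` is an equivalence relation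
on `|U|`. -/
theorem result (S : Scheme.{u}) (R U : AlgSp.Sp S)
    (hR : AlgSp.IsAlgSpace R) (hU : AlgSp.IsAlgSpace U) (s t : R ⟶ U) (h : AlgSp.IsPreEqvRelSp s t) :
    _root_.Equivalence (fun x y : AlgSp.Points U =>
      ∃ r : AlgSp.Points R, AlgSp.Points.map t r = x ∧ AlgSp.Points.map s r = y) := by
  constructor
  · intro x
    obtain ⟨K, _, str, a, rfl⟩ := AlgSpLib.exists_ptOfHom x
    obtain ⟨r, h1, h2⟩ := (h (Over.mk str)).refl a
    exact ⟨AlgSpLib.ptOfHom r, by rw [AlgSpLib.map_ptOfHom, h1], by rw [AlgSpLib.map_ptOfHom, h2]⟩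
  · rintro x y ⟨z, rfl, rfl⟩
    obtain ⟨K, _, str, a, rfl⟩ := AlgSpLib.exists_ptOfHom z
    obtain ⟨r, h1, h2⟩ := (h (Over.mk str)).symm ⟨a, rfl, rfl⟩
    exact ⟨AlgSpLib.ptOfHom r, by rw [AlgSpLib.map_ptOfHom, AlgSpLib.map_ptOfHom, h1],
      by rw [AlgSpLib.map_ptOfHom, AlgSpLib.map_ptOfHom, h2]⟩
  · rintro x y z ⟨z₁, rfl, hz₁⟩ ⟨z₂, hz₂, rfl⟩
    obtain ⟨Ω, _, w, a, b, e, rfl, rfl⟩ := AlgSpLib.exists_of_map_eq (hz₁.trans hz₂.symm)
    obtain ⟨r, h1, h2⟩ := (h (Over.mk w)).trans ⟨a, rfl, rfl⟩ ⟨b, e.symm, rfl⟩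
    exact ⟨AlgSpLib.ptOfHom r, by rw [AlgSpLib.map_ptOfHom, AlgSpLib.map_ptOfHom, h1],
      by rw [AlgSpLib.map_ptOfHom, AlgSpLib.map_ptOfHom, h2]⟩

end Groth.Agent.S10121
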