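import Groth.Statements.S10122
import Groth.Agent.Stk19b.GrpdSep

set_option autoImplicit false
universe u
open CategoryTheory CategoryTheory.Limits AlgebraicGeometry
open AlgSp AlgSp.GroupoidSp

set_option backward.isDefEq.respectTransparency.types false
set_option backward.isDefEq.respectTransparency false

open Groth.Agent.AlgSpLib Groth.Agent.Stk19b.GrpdSep
namespace Groth.Agent.S10122


/-- Let `(U, R, s, t, c)` be a groupoid in algebraic spaces over `B` with stabilizer `G ⟶ U` and unit
section `e : U ⟶ G`. Then (1) `j : R ⟶ U ×_B U` is separated iff `G ⟶ U` is separated iff `e` is a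
closed immersion; (3) `j` is quasi-separated iff `G ⟶ U` is quasi-separated iff `e` is
quasi-compact; (2) if `j` or `G ⟶ U` is locally separated then `e` is an immersion. The unit section
is written as any morphism `U ⟶ G` lifting the identity `e : U ⟶ R` of the groupoid. (The published
part (2) is a three-way equivalence; this row states only that `j` locally separated, or `G ⟶ U`
locally separated, implies that `e` is an immersion.) -/
theorem result (S : Scheme.{u}) (B : AlgSp.Sp S) (hB : AlgSp.IsAlgSpace B)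
    (G : AlgSp.GroupoidSp B) (hU : AlgSp.IsAlgSpace G.U) (hR : AlgSp.IsAlgSpace G.R)
    (eG : G.U ⟶ G.stabilizer) (heG : eG ≫ G.stabilizerι = G.e) :
    ((AlgSp.IsSeparatedMor G.j ↔ AlgSp.IsSeparatedMor G.stabilizerToU) ∧
        (AlgSp.IsSeparatedMor G.j ↔ AlgSp.RepWith @IsClosedImmersion eG)) ∧
      ((AlgSp.IsQuasiSeparatedMor G.j ↔ AlgSp.IsQuasiSeparatedMor G.stabilizerToU) ∧
        (AlgSp.IsQuasiSeparatedMor G.j ↔ AlgSp.IsQuasiCompactMor eG)) ∧
      ((AlgSp.IsLocallySeparatedMor G.j → AlgSp.RepWith @IsImmersion eG) ∧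
        (AlgSp.IsLocallySeparatedMor G.stabilizerToU → AlgSp.RepWith @IsImmersion eG)) := by
  have sq : IsPullback G.stabilizerι G.stabilizerToU G.j G.diag := IsPullback.of_hasPullback _ _
  have hσ := isPullback_section G.stabilizerToU eG (eG_toU G eG heG)
  have hΔ := isPullback_diagonal_j G eG heG
  have hUU := isAlgSpace_pullback (X := ⟨_, hU⟩) (Y := ⟨_, hU⟩) (Z := ⟨_, hB⟩) G.pU G.pU
  have hG : AlgSp.IsAlgSpace G.stabilizer :=
    isAlgSpace_pullback (X := ⟨_, hR⟩) (Y := ⟨_, hU⟩) (Z := ⟨_, hUU⟩) G.j G.diag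
  have hrep : AlgSp.Representable eG :=
    MorphismProperty.of_isPullback (P := AlgSp.Representable) hσ (representable_diagonal hG _)
  have hq := repWith_quasiCompact_iff hU hG hrep
  refine ⟨⟨⟨fun h => isSeparatedMor_of_isPullback sq h,
      fun h => RepWith.baseChange hΔ (RepWith.baseChange hσ h)⟩,
    ⟨fun h => RepWith.baseChange hσ (isSeparatedMor_of_isPullback sq h), fun h => RepWith.baseChange hΔ h⟩⟩,
    ⟨⟨fun h => isQuasiSeparatedMor_of_isPullback sq h, fun h => RepWith.baseChange hΔ (RepWith.baseChange hσ h)⟩,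
      ⟨fun h => hq.1 (RepWith.baseChange hσ (isQuasiSeparatedMor_of_isPullback sq h)),
        fun h => RepWith.baseChange hΔ (hq.2 h)⟩⟩,
    fun h => RepWith.baseChange hσ (RepWith.baseChange (isPullback_diagonal_map sq) h),
    fun h => RepWith.baseChange hσ h⟩

end Groth.Agent.S10122
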