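import Groth.Statements.S10125
import Groth.Agent.Stk19b.FieldGrpd
import Groth.Agent.SGA3cLib.ActionPoints

set_option autoImplicit false
universe u
open CategoryTheory CategoryTheory.Limits AlgebraicGeometry MonoidalCategory MonObj
open AlgSp

set_option backward.isDefEq.respectTransparency.types false
set_option backward.isDefEq.respectTransparency false

open Groth.Agent.AlgSpLib Groth.Agent.Stk19b.FieldGrpd CartesianMonoidalCategory
namespace Groth.Agent.S10125


/-- For a group algebraic space `G` over a field `k`, the multiplication `m` of `G`, a morphism `G ×_k G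
⟶ G`, is both flat and universally open. (The published situation allows any base scheme `S` with
`k` a field over `S`; this row takes `S = Spec k`.) -/
theorem result (k : Type u) [Field k]
    (G : Over ((AlgSp.yon (Spec (CommRingCat.of k))).obj (Over.mk (𝟙 _)))) [GrpObj G]
    (hG : AlgSp.IsAlgSpace G.left) :
    AlgSp.LocP @Flat (μ[G]).left ∧ AlgSp.IsUnivOpenMor (μ[G]).left := by
  let e : G ⊗ G ≅ G ⊗ G :=
    { hom := lift μ[G] (snd G G)
      inv := lift (fst G G * (snd G G)⁻¹) (snd G G)
      hom_inv_id := by
        apply CartesianMonoidalCategory.hom_ext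
        · rw [Category.assoc, lift_fst, MonObj.comp_mul, GrpObj.comp_inv, lift_fst, lift_snd,
            Category.id_comp, MonObj.mul_eq_mul]
          exact mul_inv_cancel_right _ _
        · simp
      inv_hom_id := by
        apply CartesianMonoidalCategory.hom_ext
        · rw [Category.assoc, lift_fst, MonObj.mul_eq_mul, MonObj.comp_mul, lift_fst, lift_snd, Category.id_comp]
          exact inv_mul_cancel_right _ _
        · simp }
  have hμ : e.inv ≫ μ[G] = fst G G := by
    have := congrArg (· ≫ fst G G) e.inv_hom_id
    simpa [e] using this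
  have sq : IsPullback (μ[G]).left (snd G G).left G.hom G.hom :=
    (show IsPullback (fst G G).left (snd G G).left G.hom G.hom from IsPullback.of_hasPullback _ _).of_iso
      ((Over.forget _).mapIso e.symm) (Iso.refl _) (Iso.refl _) (Iso.refl _)
      ((Category.comp_id _).trans (congrArg CommaMorphism.left hμ).symm) (by simp [e]) (by simp) (by simp)
  have hP : AlgSp.IsAlgSpace (G ⊗ G).left :=
    isAlgSpace_pullback (X := ⟨_, hG⟩) (Y := ⟨_, hG⟩) (Z := ⟨_, AlgSp.IsAlgSpace.yon_obj _⟩) G.hom G.hom
  exact flat_open_of_isPullback hG (AlgSp.IsAlgSpace.yon_obj _) hP sq.flip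
    (to_field_of_iso hG G.hom (Iso.refl _))

end Groth.Agent.S10125
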