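import Groth.Statements.S10126
import Groth.Agent.Stk19b.FieldGrpd
import Groth.Agent.S10142

set_option autoImplicit false
universe u
open CategoryTheory CategoryTheory.Limits AlgebraicGeometry
open AlgSp AlgSp.GroupoidSp

set_option backward.isDefEq.respectTransparency.types false
set_option backward.isDefEq.respectTransparency false

open Groth.Agent.AlgSpLib Groth.Agent.Stk19b.FieldGrpd
namespace Groth.Agent.S10126


/-- Let `(U, R, s, t, c)` be a groupoid in algebraic spaces over `B` whose object space is `U = Spec k`,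
with `k` a field. Then the composition `c : R ×_{s, U, t} R ⟶ R` is flat and universally open. -/
theorem result (S : Scheme.{u}) (B : AlgSp.Sp S) (hB : AlgSp.IsAlgSpace B)
    (G : AlgSp.GroupoidSp B) (hR : AlgSp.IsAlgSpace G.R) (k : Type u) [Field k]
    (σ : Spec (CommRingCat.of k) ⟶ S) (eU : G.U ≅ (AlgSp.yon S).obj (Over.mk σ)) :
    AlgSp.LocP @Flat G.c ∧ AlgSp.IsUnivOpenMor G.c := by
  have hU : AlgSp.IsAlgSpace G.U := (AlgSp.IsAlgSpace.yon_obj _).of_iso eU.symm
  have hP : AlgSp.IsAlgSpace (pullback G.s G.t) :=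
    isAlgSpace_pullback (X := ⟨_, hR⟩) (Y := ⟨_, hR⟩) (Z := ⟨_, hU⟩) G.s G.t
  exact flat_open_of_isPullback hR hU hP (S10142.result S B hB G hU hR).1.flip (to_field_of_iso hR G.s eU)

end Groth.Agent.S10126
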