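import Groth.Statements.S10128
import Groth.Agent.Stk19b.GrpSpSep
import Groth.Agent.Stk19b.GrpdSep

set_option autoImplicit false
universe u
open CategoryTheory CategoryTheory.Limits AlgebraicGeometry
open AlgSp AlgSp.GroupoidSp

set_option backward.isDefEq.respectTransparency.types false
set_option backward.isDefEq.respectTransparency false

open Groth.Agent Groth.Agent.AlgSpLib Groth.Agent.Stk19b.GrpSpSep
namespace Groth.Agent.S10128


/-- Let `(U, R, s, t, c)` be a groupoid in algebraic spaces over `B` whose object space is `U = Spec k`,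
with `k` a field, and assume `R` is a decent algebraic space. Then `R` is separated over the base
scheme `S`. (The published statement concludes that `R` is separated in the absolute sense; this row
concludes that `R` is separated over `S`, which the absolute notion implies.) -/
theorem result (S : Scheme.{u}) (B : AlgSp.Sp S) (hB : AlgSp.IsAlgSpace B)
    (G : AlgSp.GroupoidSp B) (hR : AlgSp.IsAlgSpace G.R) (k : Type u) [Field k]
    (σ : Spec (CommRingCat.of k) ⟶ S) (eU : G.U ≅ (AlgSp.yon S).obj (Over.mk σ)) (hd : AlgSp.IsDecent G.R) :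
    AlgSp.IsSeparatedSp G.R := by
  obtain ⟨T⟩ := AlgSpLib.isTerminal_yon_base S
  have hU : AlgSp.IsAlgSpace G.U := (AlgSp.IsAlgSpace.yon_obj _).of_iso eU.symm
  have hc := closedImmersion_of_decent hR hd (eU.inv ≫ G.e) (G.s ≫ eU.hom) (by
    rw [Category.assoc, reassoc_of% G.e_s, Iso.inv_hom_id])
  have he : AlgSp.RepWith @IsClosedImmersion G.e := by
    have := RepWith.comp (repWith_of_isIso (P := @IsClosedImmersion) eU.hom) hc
    rwa [Iso.hom_inv_id_assoc] at this
  have hdm : Mono G.diag := by
    have : Mono (G.diag ≫ pullback.fst G.pU G.pU) := by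
      rw [Groth.Agent.Stk19b.GrpdSep.diag_fst]; infer_instance
    exact mono_of_mono _ (pullback.fst G.pU G.pU)
  haveI hιm : Mono G.stabilizerι := inferInstanceAs (Mono (pullback.fst G.j G.diag))
  let eG : G.U ⟶ G.stabilizer := pullback.lift G.e (𝟙 _) (by
    apply pullback.hom_ext
    · rw [Category.assoc, AlgSp.GroupoidSp.j_fst, G.e_t, Category.assoc,
        Groth.Agent.Stk19b.GrpdSep.diag_fst, Category.id_comp]
    · rw [Category.assoc, AlgSp.GroupoidSp.j_snd, G.e_s, Category.assoc,
        Groth.Agent.Stk19b.GrpdSep.diag_snd, Category.id_comp])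
  have heG : eG ≫ G.stabilizerι = G.e := pullback.lift_fst _ _ _
  have sqe : IsPullback (𝟙 G.U) eG G.e G.stabilizerι := by
    refine ⟨⟨by rw [Category.id_comp, heG]⟩, ⟨PullbackCone.IsLimit.mk _ (fun c => c.fst)
      (fun c => Category.comp_id _) (fun c => ?_) (fun c m h1 _ => (Category.comp_id m).symm.trans h1)⟩⟩
    rw [← cancel_mono G.stabilizerι, Category.assoc, heG]
    exact c.condition
  have hj : AlgSp.IsSeparatedMor G.j :=
    RepWith.baseChange (Groth.Agent.Stk19b.GrpdSep.isPullback_diagonal_j G eG heG) (RepWith.baseChange sqe he)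
  let l : Over.mk σ ⟶ Over.mk (𝟙 S) := Over.homMk σ (Category.comp_id _)
  let qU := eU.hom ≫ (AlgSp.yon S).map l
  have hqU : AlgSp.IsSeparatedMor qU :=
    isSeparatedMor_comp (isSeparatedMor_of_mono eU.hom)
      ((AlgSp.isSeparatedMor_yon_map_iff l).2 (inferInstanceAs (IsSeparated σ)))
  let m : pullback G.pU G.pU ⟶ pullback qU qU :=
    pullback.lift (pullback.fst _ _) (pullback.snd _ _) (T.hom_ext _ _)
  have : Mono m := ⟨fun a b h => pullback.hom_ext
    (by simpa [m, pullback.lift_fst] using congrArg (· ≫ pullback.fst qU qU) h)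
    (by simpa [m, pullback.lift_snd] using congrArg (· ≫ pullback.snd qU qU) h)⟩
  have := isSeparatedMor_comp (isSeparatedMor_comp hj (isSeparatedMor_of_mono m))
    (isSeparatedMor_comp (isSeparatedMor_of_isPullback (IsPullback.of_hasPullback qU qU) hqU) hqU)
  exact (repWith_diagonal_iff_diag _ T _).1 this

end Groth.Agent.S10128
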