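import Groth.Statements.S10129
import Groth.Agent.Stk19b.DenseFactor

set_option autoImplicit false
universe u
open CategoryTheory CategoryTheory.Limits AlgebraicGeometry
open AlgSp

set_option backward.isDefEq.respectTransparency.types false
set_option backward.isDefEq.respectTransparency false

open Groth.Agent Groth.Agent.AlgSpLib Groth.Agent.Stk19b.DenseFactor
namespace Groth.Agent.S10129


/-- Consider morphisms `g : X ⟶ Z` and `f : X ⟶ Y` of algebraic spaces over `B`, with `Y ⟶ B` separated
and `g` surjective, flat and locally of finite presentation, and let `V ⊂ Z` be a scheme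
theoretically dense open subspace with `V ⟶ Z` quasi-compact such that `f` restricted to `g⁻¹(V)`
factors through `g⁻¹(V) ⟶ V`. Then `f` factors through `g`. (The published statement does not ask
the open immersion `V ⟶ Z` to be quasi-compact; the published proof pulls the scheme theoretic
density of `V` back along a flat morphism by a lemma that requires it, so this row assumes it.) -/
theorem result (S : Scheme.{u}) (B : AlgSp.Sp S) (hB : AlgSp.IsAlgSpace B)
    (X Y Z : AlgSp.Space S) (pX : X.obj ⟶ B) (pY : Y.obj ⟶ B) (pZ : Z.obj ⟶ B)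
    (f : X.obj ⟶ Y.obj) (g : X.obj ⟶ Z.obj) (hf : f ≫ pY = pX) (hg : g ≫ pZ = pX)
    (hY : AlgSp.IsSeparatedMor pY)
    (hgs : AlgSp.IsSurjectiveMor g) (hgf : AlgSp.LocP @Flat g) (hgp : AlgSp.LocP @LocallyOfFinitePresentation g)
    (V : AlgSp.Sp S) (v : V ⟶ Z.obj) (hv : AlgSp.IsSchDense v) (hvq : AlgSp.IsQuasiCompactMor v)
    (hfac : ∃ φ : V ⟶ Y.obj, pullback.fst g v ≫ f = pullback.snd g v ≫ φ) :
    ∃ h : Z.obj ⟶ Y.obj, g ≫ h = f := by
  obtain ⟨U, a, hae, has⟩ := X.property.atlas
  have hgf' := repWith_comp_of_locP etLocal_flat Z.property hgf a hae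
  have hgp' := repWith_comp_of_locP etLocal_lfp Z.property hgp a hae
  have hgs' : AlgSp.RepWith @Surjective (a ≫ g) :=
    repWith_surjective_of_surjective_ofPt (a ≫ g) hgf'.1 fun z => by
      obtain ⟨x, rfl⟩ := hgs z
      obtain ⟨u, rfl⟩ := surjective_ofPt a has x
      exact ⟨u, (AlgSp.Points.map_ofPt a g u).symm⟩
  obtain ⟨φ', hφ'⟩ := hfac
  have hl : (pullback.fst (a ≫ g) v ≫ a) ≫ g = pullback.snd (a ≫ g) v ≫ v := by
    rw [Category.assoc]; exact pullback.condition
  obtain ⟨h, hh⟩ := exists_factor_of_chart Z.property (a ≫ f) (a ≫ g) pY pZ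
    (by rw [Category.assoc, hf, Category.assoc, hg]) hY hgf' hgp' hgs' v hv hvq φ' (by
      rw [← pullback.lift_snd (f := g) (g := v) _ _ hl, Category.assoc, ← hφ', pullback.lift_fst_assoc,
        Category.assoc])
  have := isLocallySurjective_of_etale hae has
  have : Epi a := Sheaf.epi_of_isLocallySurjective _
  exact ⟨h, by rw [← cancel_epi a, ← Category.assoc, hh]⟩

end Groth.Agent.S10129
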