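import Groth.Statements.S10132
import Groth.Agent.Stk19b.FieldGrpd
import Groth.Agent.AlgSpLib.MorProper

set_option autoImplicit false
universe u
open CategoryTheory CategoryTheory.Limits AlgebraicGeometry
open AlgSp AlgSp.GroupoidSp

set_option backward.isDefEq.respectTransparency.types false
set_option backward.isDefEq.respectTransparency false

open Groth.Agent.AlgSpLib Groth.Agent.Stk19b.FieldGrpd
namespace Groth.Agent.S10132


/-- Let `(U, R, s, t, c)` be a groupoid in algebraic spaces over `B` whose object space is `U = Spec k`,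
let `k ⊂ k'` be a field extension and `(U', R', s', t', c')` the restriction along `Spec k' ⟶ Spec
k`. Then `s, t, s', t'`, `Spec k' ⟶ Spec k` and `R' ⟶ R` are surjective, flat and universally open,
and `R' ⟶ R` is moreover affine. (The published statement lists every arrow of the restriction
diagram; this row omits the six arrows through `R ×_{s,U} U'` and `U' ×_{U,t} R`, each a base change
of `s`, `t` or `Spec k' ⟶ Spec k`.) -/
theorem result (S : Scheme.{u}) (B : AlgSp.Sp S) (hB : AlgSp.IsAlgSpace B)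
    (G G' : AlgSp.GroupoidSp B) (hR : AlgSp.IsAlgSpace G.R) (hR' : AlgSp.IsAlgSpace G'.R)
    (k k' : Type u) [Field k] [Field k'] [Algebra k k'] (σ : Spec (CommRingCat.of k) ⟶ S)
    (eU : G.U ≅ ((AlgSp.yon S).obj (Over.mk σ)))
    (eU' : G'.U ≅ ((AlgSp.yon S).obj (Over.mk (Spec.map (CommRingCat.ofHom (algebraMap k k')) ≫ σ))))
    (φ : AlgSp.GroupoidSp.Hom G' G) (hφ : φ.IsRestriction)
    (hfU : φ.fU = eU'.hom ≫ (AlgSp.yon S).map (Over.homMk (Spec.map (CommRingCat.ofHom (algebraMap k k'))) rfl :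
      Over.mk (Spec.map (CommRingCat.ofHom (algebraMap k k')) ≫ σ) ⟶ Over.mk σ) ≫ eU.inv) :
    (∀ f ∈ [G.s, G.t], AlgSp.IsSurjectiveMor f ∧ AlgSp.LocP @Flat f ∧ AlgSp.IsUnivOpenMor f) ∧
      (∀ f ∈ [G'.s, G'.t], AlgSp.IsSurjectiveMor f ∧ AlgSp.LocP @Flat f ∧ AlgSp.IsUnivOpenMor f) ∧
      (AlgSp.IsSurjectiveMor φ.fU ∧ AlgSp.LocP @Flat φ.fU ∧ AlgSp.IsUnivOpenMor φ.fU) ∧
      (AlgSp.IsSurjectiveMor φ.fR ∧ AlgSp.LocP @Flat φ.fR ∧ AlgSp.IsUnivOpenMor φ.fR ∧ AlgSp.IsAffineMor φ.fR) := by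
  have hU : AlgSp.IsAlgSpace G.U := (AlgSp.IsAlgSpace.yon_obj _).of_iso eU.symm
  have hU' : AlgSp.IsAlgSpace G'.U := (AlgSp.IsAlgSpace.yon_obj _).of_iso eU'.symm
  have hc : ∀ {H : AlgSp.GroupoidSp B}, AlgSp.IsAlgSpace H.R → ∀ (k₀ : Type u) [Field k₀]
      (σ₀ : Spec (CommRingCat.of k₀) ⟶ S), (H.U ≅ (AlgSp.yon S).obj (Over.mk σ₀)) → ∀ f ∈ [H.s, H.t],
      AlgSp.IsSurjectiveMor f ∧ AlgSp.LocP @Flat f ∧ AlgSp.IsUnivOpenMor f := fun {H} hH k₀ _ σ₀ e f hf => by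
    refine ⟨fun x => ⟨AlgSp.Points.map H.e x, ?_⟩, to_field_of_iso hH f e⟩
    rw [← AlgSp.Points.map_comp]
    rcases List.mem_cons.1 hf with rfl | hf'
    · rw [H.e_s, AlgSp.Points.map_id]
    · obtain rfl := List.mem_singleton.1 hf'
      rw [H.e_t, AlgSp.Points.map_id]
  let l : Over.mk (Spec.map (CommRingCat.ofHom (algebraMap k k')) ≫ σ) ⟶ Over.mk σ :=
    Over.homMk (Spec.map (CommRingCat.ofHom (algebraMap k k'))) rfl
  have : Surjective l.left := by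
    haveI : Subsingleton ↥(Over.mk σ).left := (inferInstance : Subsingleton ↥(Spec (CommRingCat.of k)))
    exact ⟨fun y => ⟨IsLocalRing.closedPoint k', Subsingleton.elim _ _⟩⟩
  have hla : IsAffineHom l.left := inferInstanceAs (IsAffineHom (Spec.map _))
  have hfs : AlgSp.RepWith @Surjective φ.fU := by
    rw [hfU]
    exact RepWith.comp (repWith_of_isIso _ _)
      (RepWith.comp ((AlgSp.repWith_yon_map_iff _ l).2 this) (repWith_of_isIso _ _))
  have hfa : AlgSp.RepWith @IsAffineHom φ.fU := by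
    rw [hfU]
    exact RepWith.comp (repWith_of_isIso _ _)
      (RepWith.comp ((AlgSp.repWith_yon_map_iff _ l).2 hla) (repWith_of_isIso _ _))
  obtain ⟨h2, h3⟩ := to_field_of_iso hU' φ.fU eU
  have h1 : AlgSp.IsSurjectiveMor φ.fU := surjective_map_of_repWith hfs
  have h4 : AlgSp.IsAffineMor φ.fU := isAffineMor_of_repWith hfa
  refine ⟨hc hR k σ eU, hc hR' k' _ eU', ⟨h1, h2, h3⟩, ?_⟩
  have hA := isAlgSpace_pullback (X := ⟨_, hU'⟩) (Y := ⟨_, hU'⟩) (Z := ⟨_, hB⟩) G'.pU G'.pU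
  have hM := isAlgSpace_pullback (X := ⟨_, hU'⟩) (Y := ⟨_, hU⟩) (Z := ⟨_, hB⟩) G'.pU G.pU
  have hD := isAlgSpace_pullback (X := ⟨_, hU⟩) (Y := ⟨_, hU⟩) (Z := ⟨_, hB⟩) G.pU G.pU
  have e : φ.prodMap = mapR φ.fU G.pU G'.pU φ.fU_over ≫ mapL φ.fU G.pU G'.pU φ.fU_over :=
    map_eq_comp φ.fU G.pU G'.pU φ.fU_over
  have sqR := isPullback_mapR φ.fU G.pU G'.pU φ.fU_over
  have sqL := isPullback_mapL φ.fU G.pU G'.pU φ.fU_over
  have sq : IsPullback G'.j φ.fR φ.prodMap G.j := hφ.flip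
  obtain ⟨fR1, oR1⟩ := flat_open_of_isPullback hU' hU hA sqR ⟨h2, h3⟩
  obtain ⟨fL1, oL1⟩ := flat_open_of_isPullback hU' hU hM sqL ⟨h2, h3⟩
  have hD' : ∀ {Z : AlgSp.Sp S}, AlgSp.IsAlgSpace Z → ∀ h : Z ⟶ pullback G.pU G.pU,
      AlgSp.IsAlgSpace (pullback (mapL φ.fU G.pU G'.pU φ.fU_over) h) := fun hZ h =>
    isAlgSpace_pullback (X := ⟨_, hM⟩) (Y := ⟨_, hZ⟩) (Z := ⟨_, hD⟩) _ h
  obtain ⟨g2, g3⟩ := flat_open_of_isPullback (H := G.R) hA hD hR' sq
    ⟨by rw [e]; exact locP_comp etLocal_flat hA hM hD fR1 fL1,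
      by rw [e]; exact isUnivOpenMor_comp oR1 oL1 hD'⟩
  refine ⟨?_, g2, g3, isAffineMor_of_isPullback sq (by
    rw [e]; exact isAffineMor_comp (isAffineMor_of_isPullback sqR h4) (isAffineMor_of_isPullback sqL h4))⟩
  refine surjective_map_of_isPullback sq fun x => ?_
  obtain ⟨y, hy⟩ := surjective_map_of_isPullback sqL h1 x
  obtain ⟨z, hz⟩ := surjective_map_of_isPullback sqR h1 y
  exact ⟨z, by rw [e, AlgSp.Points.map_comp, hz, hy]⟩

end Groth.Agent.S10132
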