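import Groth.Statements.S10135
import Groth.Agent.Stk19b.FieldDim

set_option autoImplicit false
universe u
open CategoryTheory CategoryTheory.Limits AlgebraicGeometry
open AlgSp AlgSp.GroupoidSp

set_option backward.isDefEq.respectTransparency.types false
set_option backward.isDefEq.respectTransparency false

open Groth.Agent
set_option backward.isDefEq.respectTransparency false
namespace Groth.Agent.S10135


/-- For a groupoid in algebraic spaces `(U, R, s, t, c)` over `B` with `U = Spec k` and `s, t` locally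
of finite type, `dim_r(R) = dim(R)` for every point `r` of `R`. -/
theorem result (S : Scheme.{u}) (B : AlgSp.Sp S) (hB : AlgSp.IsAlgSpace B)
    (G : AlgSp.GroupoidSp B) (hR : AlgSp.IsAlgSpace G.R) (k : Type u) [Field k]
    (σ : Spec (CommRingCat.of k) ⟶ S) (eU : G.U ≅ (AlgSp.yon S).obj (Over.mk σ))
    (hs : AlgSp.LocP @LocallyOfFiniteType G.s) (ht : AlgSp.LocP @LocallyOfFiniteType G.t) (r : AlgSp.Points G.R) :
    AlgSp.HasAt (fun V v => FlatMor.localDim ↥V v = AlgSp.dim G.R) G.R r := by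
  have hU : AlgSp.IsAlgSpace G.U := AlgSpLib.isAlgSpace_of_openImmersion (AlgSp.IsAlgSpace.yon_obj _)
    (AlgSpLib.repWith_of_isIso @IsOpenImmersion eU.hom)
  have : Subsingleton ↥(Over.mk σ).left := inferInstanceAs (Subsingleton ↥(Spec (CommRingCat.of k)))
  have hpt : ∀ y y' : AlgSp.Points G.U, y = y' := fun y y' => by
    obtain ⟨v, hv⟩ := AlgSpLib.surjective_ofPt (𝟙 _) (AlgSp.repWith_id @Surjective (Over.mk σ)) (AlgSp.Points.map eU.hom y)
    obtain ⟨v', hv'⟩ := AlgSpLib.surjective_ofPt (𝟙 _) (AlgSp.repWith_id @Surjective (Over.mk σ)) (AlgSp.Points.map eU.hom y')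
    have h : AlgSp.Points.map eU.hom y = AlgSp.Points.map eU.hom y' := by
      rw [← hv, ← hv', Subsingleton.elim v v']
    have := congrArg (AlgSp.Points.map eU.inv) h
    rwa [← AlgSp.Points.map_comp, ← AlgSp.Points.map_comp, Iso.hom_inv_id, AlgSp.Points.map_id,
      AlgSp.Points.map_id] at this
  let Q : ∀ {X Y : AlgSp.Sp S}, (X ⟶ Y) → AlgSp.Points X → WithBot ℕ∞ → Prop := fun f x d =>
    AlgSp.HasAtMor (fun _ _ h u => FlatMor.fibreDimAt h u = d) f x
  have sqU : IsPullback (𝟙 G.R) (G.s ≫ eU.hom) G.s eU.inv := IsPullback.of_horiz_isIso ⟨by simp⟩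
  have hsU : ∀ x d, Q (G.s ≫ eU.hom) x d ↔ Q G.s x d := fun x d => by
    have := AlgSpLib.relDim_baseChange hR hU (AlgSp.IsAlgSpace.yon_obj _) hR sqU hs x (fun e => e = d)
    rwa [AlgSp.Points.map_id] at this
  obtain ⟨sqA, -⟩ := S10142.result S B hB G hU hR
  have sqB := IsPullback.of_hasPullback G.s G.t
  have hP := AlgSpLib.isAlgSpace_of_isPullback hU.diag hR hR sqB
  have hconst : ∀ x d, Q G.s x d ↔ Q G.s (AlgSp.Points.map (G.t ≫ G.e) x) d := fun x d => by
    let z := AlgSp.Points.map (pullback.lift (G.t ≫ G.e) (𝟙 G.R)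
      (by rw [Category.assoc, G.e_s, Category.comp_id, Category.id_comp])) x
    have h1 := AlgSpLib.relDim_baseChange hR hU hR hP sqA hs z (fun e => e = d)
    have h2 := AlgSpLib.relDim_baseChange hR hU hR hP sqB hs z (fun e => e = d)
    rw [← AlgSp.Points.map_comp] at h1 h2
    rw [pullback.lift_fst] at h2
    have e : pullback.lift (G.t ≫ G.e) (𝟙 G.R)
        (by rw [Category.assoc, G.e_s, Category.comp_id, Category.id_comp]) ≫ G.c = 𝟙 G.R := by
      have := G.e_comp (𝟙 G.R)
      simpa only [Category.id_comp] using this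
    rw [e, AlgSp.Points.map_id] at h1
    exact h1.symm.trans h2
  refine Stk19b.FieldDim.hasAt_localDim hR (G.s ≫ eU.hom) (AlgSp.Points.map (G.t ≫ G.e) r)
    (fun x d H => ?_) r
  have H' := (hsU _ d).1 H
  refine (hsU x d).2 ((hconst x d).2 ?_)
  rwa [AlgSp.Points.map_comp, hpt (AlgSp.Points.map G.t x) (AlgSp.Points.map G.t r),
    ← AlgSp.Points.map_comp]

end Groth.Agent.S10135
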