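import Groth.Statements.S10136
import Groth.Agent.Stk19b.FieldDim

set_option autoImplicit false
universe u
open CategoryTheory CategoryTheory.Limits AlgebraicGeometry MonoidalCategory MonObj
open AlgSp

set_option backward.isDefEq.respectTransparency.types false
set_option backward.isDefEq.respectTransparency false

open Groth.Agent
set_option backward.isDefEq.respectTransparency false
namespace Groth.Agent.S10136


/-- For a group algebraic space `G` locally of finite type over a field `k`, `dim_g(G) = dim(G)` for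
every point `g` of `G`. (The published situation allows any base scheme `S` with `k` a field over
`S`; this row takes `S = Spec k`.) -/
theorem result (k : Type u) [Field k]
    (G : Over ((AlgSp.yon (Spec (CommRingCat.of k))).obj (Over.mk (𝟙 _)))) [GrpObj G] (hG : AlgSp.IsAlgSpace G.left)
    (hlft : AlgSp.LocP @LocallyOfFiniteType G.hom) (g : AlgSp.Points G.left) :
    AlgSp.HasAt (fun V v => FlatMor.localDim ↥V v = AlgSp.dim G.left) G.left g := by
  have hB : AlgSp.IsAlgSpace ((AlgSp.yon (Spec (CommRingCat.of k))).obj (Over.mk (𝟙 _))) :=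
    AlgSp.IsAlgSpace.yon_obj _
  have : Subsingleton ↥(Over.mk (𝟙 (Spec (CommRingCat.of k)))).left :=
    inferInstanceAs (Subsingleton ↥(Spec (CommRingCat.of k)))
  refine Stk19b.FieldDim.hasAt_localDim hG G.hom
    (AlgSp.Points.map (G.hom ≫ Stk19b.GrpLocus.unitSec G) g) (fun x d H => ?_) g
  refine (Stk19b.GrpLocus.pt_iff_of G hB hG hlft
    (Q := fun f x => AlgSp.HasAtMor (fun _ _ h u => FlatMor.fibreDimAt h u = d) f x)
    (fun {_ _ _ _} hX hY hY' hX' {_ _ _ _} sq hl x' =>
      AlgSpLib.relDim_baseChange hX hY hY' hX' sq hl x' (fun e => e = d)) x).1 ?_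
  obtain ⟨v, hv⟩ := AlgSpLib.surjective_ofPt (𝟙 _) (AlgSp.repWith_id @Surjective (Over.mk (𝟙 _)))
    (AlgSp.Points.map G.hom x)
  obtain ⟨v', hv'⟩ := AlgSpLib.surjective_ofPt (𝟙 _) (AlgSp.repWith_id @Surjective (Over.mk (𝟙 _)))
    (AlgSp.Points.map G.hom g)
  rwa [AlgSp.Points.map_comp, show AlgSp.Points.map G.hom x = AlgSp.Points.map G.hom g by
    rw [← hv, ← hv', Subsingleton.elim v v'], ← AlgSp.Points.map_comp]

end Groth.Agent.S10136
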