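import Groth.Statements.S10137
import Groth.Agent.Stk19b.FieldStab
import Groth.Agent.S10135

set_option autoImplicit false
universe u
open CategoryTheory CategoryTheory.Limits AlgebraicGeometry
open AlgSp AlgSp.GroupoidSp

set_option backward.isDefEq.respectTransparency.types false
set_option backward.isDefEq.respectTransparency false

open Groth.Agent
set_option backward.isDefEq.respectTransparency false
namespace Groth.Agent.S10137


/-- For a groupoid in algebraic spaces `(U, R, s, t, c)` over `B` with `U = Spec k` and `s, t` locally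
of finite type, the stabilizer group algebraic space `G = Spec k ×_{Δ, Spec k ×_B Spec k, (t, s)} R`
satisfies `dim(R) = dim(G)`. -/
theorem result (S : Scheme.{u}) (B : AlgSp.Sp S) (hB : AlgSp.IsAlgSpace B)
    (G : AlgSp.GroupoidSp B) (hR : AlgSp.IsAlgSpace G.R) (k : Type u) [Field k]
    (σ : Spec (CommRingCat.of k) ⟶ S) (eU : G.U ≅ (AlgSp.yon S).obj (Over.mk σ))
    (hs : AlgSp.LocP @LocallyOfFiniteType G.s) (ht : AlgSp.LocP @LocallyOfFiniteType G.t) :
    AlgSp.dim G.R = AlgSp.dim G.stabilizer := by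
  have hU : AlgSp.IsAlgSpace G.U := AlgSpLib.isAlgSpace_of_openImmersion (AlgSp.IsAlgSpace.yon_obj _)
    (AlgSpLib.repWith_of_isIso @IsOpenImmersion eU.hom)
  have : Subsingleton ↥(Over.mk σ).left := inferInstanceAs (Subsingleton ↥(Spec (CommRingCat.of k)))
  have hP := AlgSpLib.isAlgSpace_of_isPullback hB.diag hU hU (IsPullback.of_hasPullback G.pU G.pU)
  have hd : ∀ (W : Over S) (a : (AlgSp.yon S).obj W ⟶ G.R) (x : ↥W.left), AlgSp.RepWith @Etale a →
      FlatMor.localDim ↥W.left x = AlgSp.dim G.R := fun W a x ha => by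
    obtain ⟨W', a', x', ha', he, h'⟩ := S10135.result S B hB G hR k σ eU hs ht (AlgSp.Points.ofPt a x)
    refine (Stk19b.FieldDim.fibreDim_iff_localDim hR (G.s ≫ eU.hom) W a x _ ha).1 ?_
    rw [← he]
    exact (Stk19b.FieldDim.fibreDim_iff_localDim hR (G.s ≫ eU.hom) W' a' x' _ ha').2 h'
  have sq : IsPullback G.stabilizerι G.stabilizerToU G.j G.diag := IsPullback.of_hasPullback G.j G.diag
  have hZ : AlgSp.IsAlgSpace G.stabilizer := AlgSpLib.isAlgSpace_of_isPullback hP.diag hR hU sq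
  have hj := Stk19b.FieldStab.locP_j hB G hR eU hs
  have hj' : AlgSp.LocP @LocallyOfFiniteType G.stabilizerToU :=
    AlgSpLib.locP_of_isPullback AlgSpLib.etLocal_lft hR hP hZ sq hj
  let f := G.stabilizerToU ≫ eU.hom
  have sqU : IsPullback (𝟙 G.stabilizer) f G.stabilizerToU eU.inv := IsPullback.of_horiz_isIso ⟨by simp [f]⟩
  obtain ⟨e₀, he₀⟩ : ∃ e₀ : G.U ⟶ G.stabilizer, e₀ ≫ G.stabilizerι = G.e := by
    refine ⟨sq.lift G.e (𝟙 _) ?_, sq.lift_fst _ _ _⟩
    apply pullback.hom_ext <;>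
      simp [AlgSp.GroupoidSp.diag, G.e_t, G.e_s]
  let x₀ : AlgSp.Points G.stabilizer :=
    AlgSp.Points.map e₀ (AlgSp.Points.ofPt eU.inv (IsLocalRing.closedPoint k))
  refine (Stk19b.FieldDim.dim_eq_of_const hZ f x₀ (AlgSp.dim G.R) fun x => ?_).symm
  have h1 := AlgSpLib.relDim_baseChange hR hP hU hZ sq hj x (fun e => e = AlgSp.dim G.R)
  have h2 := AlgSpLib.relDim_baseChange hZ hU (AlgSp.IsAlgSpace.yon_obj _) hZ sqU hj' x
    (fun e => e = AlgSp.dim G.R)
  rw [AlgSp.Points.map_id] at h2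
  exact h2.2 (h1.2 (Stk19b.FieldStab.fibreDim_j hB G hR eU hs _ hd hU _))

end Groth.Agent.S10137
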