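import Groth.Statements.S10139
import Groth.Agent.Stk19b.Fppf.Bootstrap
import Groth.Agent.AlgSpLib.Pres
import Groth.Agent.AlgSpLib.QuotSpLemmas
import Groth.Agent.GrpdLib.FppfQuot

set_option autoImplicit false
universe u
open CategoryTheory CategoryTheory.Limits AlgebraicGeometry
open AlgSp

set_option backward.isDefEq.respectTransparency.types false
set_option backward.isDefEq.respectTransparency false

open Groth.Agent.AlgSpLib Groth.Agent.Stk19b.Fppf
namespace Groth.Agent.S10139


/-- Take an equivalence relation `j : R ⟶ U ×_S U` of schemes over `S`, with `s, t` flat and locally of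
finite presentation. Then there exist an equivalence relation `j' : R' ⟶ U' ×_S U'` on schemes over
`S` with `s', t'` flat, locally of finite presentation and locally quasi-finite, and a morphism `U'
⟶ U` mapping `R'` into `R` which induces an isomorphism of fppf quotient sheaves `U'/R' ⟶ U/R`. -/
theorem result (S : Scheme.{u}) {R U : Over S} (s t : R ⟶ U)
    (h : AlgSp.IsEqvRel s t) [Flat s.left] [LocallyOfFinitePresentation s.left]
    [Flat t.left] [LocallyOfFinitePresentation t.left] :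
    ∃ (R' U' : Over S) (s' t' : R' ⟶ U') (g : U' ⟶ U) (r : R' ⟶ R)
      (ψ : QuotSh.quot Scheme.fppfPrecoverage s' t' ⟶ QuotSh.quot Scheme.fppfPrecoverage s t),
      AlgSp.IsEqvRel s' t' ∧ r ≫ s = s' ≫ g ∧ r ≫ t = t' ≫ g ∧
      Flat s'.left ∧ LocallyOfFinitePresentation s'.left ∧ LocallyQuasiFinite s'.left ∧
      Flat t'.left ∧ LocallyOfFinitePresentation t'.left ∧ LocallyQuasiFinite t'.left ∧
      QuotSh.quotπ Scheme.fppfPrecoverage s' t' ≫ ψ = QuotSh.repMap Scheme.fppfPrecoverage g ≫ QuotSh.quotπ Scheme.fppfPrecoverage s t ∧ IsIso ψ := by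
  have := etLocal_flat.{u}.localTarget
  have := etLocal_lfp.{u}.localTarget
  let π := quotSpπ ((yon S).map s) ((yon S).map t)
  have hd : Representable (Limits.diag (quotSp ((yon S).map s) ((yon S).map t))) :=
    representable_diag_quotSp h
  have hpf : RepWith @Flat π := repWith_quotSpπ h @Flat ‹Flat s.left›
  have hpl : RepWith @LocallyOfFinitePresentation π :=
    repWith_quotSpπ h @LocallyOfFinitePresentation ‹LocallyOfFinitePresentation s.left›
  have hps : RepWith @Surjective π := repWith_surjective_quotSpπ h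
  have hp : Representable π := Functor.relativelyRepresentable.of_diag hd π
  let I : Type u := Σ W : U.left.affineOpens, {P : Ideal Γ(U.left, W.1) // P.IsMaximal}
  have key : ∀ i : I, ∃ (Z : Over S) (gi : Z ⟶ U), RepWith @Flat ((yon S).map gi ≫ π) ∧
      RepWith @LocallyOfFinitePresentation ((yon S).map gi ≫ π) ∧
      RepWith @LocallyQuasiFinite ((yon S).map gi ≫ π) ∧
      ∃ x : ↥(hp.pullback ((yon S).map gi ≫ π)).left, (hp.fst' ((yon S).map gi ≫ π)).left x =
        i.1.2.fromSpec ⟨i.2.1, i.2.2.isPrime⟩ := by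
    rintro ⟨⟨W₀, hW₀⟩, P, hP⟩
    obtain ⟨Z, q, hqf, hql, hqq, ⟨gi, rfl⟩, x, hx⟩ := exists_slice hd hpf hpl hps hW₀ P
    exact ⟨Z, gi, hqf, hql, hqq, x, hx⟩
  choose Z gi hf hl hq x hx using key
  let U' : Over S := sigmaOver Z
  let g : U' ⟶ U := Over.homMk (Sigma.desc fun i => (gi i).left)
    (Sigma.hom_ext _ _ fun i => by simp [U', sigmaOver])
  have hι : ∀ i, sigmaOverι Z i ≫ g = gi i := fun i => Over.OverMorphism.ext (Sigma.ι_desc _ _)
  let G : U.left.Opens := ⟨⋃ i, Set.range (hp.fst' ((yon S).map (gi i) ≫ π)).left,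
    isOpen_iUnion fun i => by
      have : Flat (hp.fst' ((yon S).map (gi i) ≫ π)).left :=
        (hf i).property _ _ _ (hp.isPullback' _).flip
      have : LocallyOfFinitePresentation (hp.fst' ((yon S).map (gi i) ≫ π)).left :=
        (hl i).property _ _ _ (hp.isPullback' _).flip
      exact (hp.fst' ((yon S).map (gi i) ≫ π)).left.isOpenMap.isOpen_range⟩
  have hG : ∀ y, y ∈ G := by
    intro y
    by_contra hy
    obtain ⟨W₀, hW₀, hyW, -⟩ := exists_isAffineOpen_mem_and_subset (X := U.left) (x := y) (U := ⊤) trivial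
    let C : Set (PrimeSpectrum Γ(U.left, W₀)) := hW₀.fromSpec ⁻¹' (G : Set ↥U.left)ᶜ
    have hC : IsClosed C := G.isOpen.isClosed_compl.preimage hW₀.fromSpec.continuous
    obtain ⟨I', hI⟩ := (PrimeSpectrum.isClosed_iff_zeroLocus_ideal C).1 hC
    have hmem : hW₀.primeIdealOf ⟨y, hyW⟩ ∈ C := by
      show hW₀.fromSpec _ ∈ (G : Set ↥U.left)ᶜ
      rw [hW₀.fromSpec_primeIdealOf]
      exact hy
    obtain ⟨P, hP, hPle⟩ := (hW₀.primeIdealOf ⟨y, hyW⟩).asIdeal.exists_le_maximal
      (hW₀.primeIdealOf ⟨y, hyW⟩).2.ne_top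
    have : (⟨P, hP.isPrime⟩ : PrimeSpectrum Γ(U.left, W₀)) ∈ C := by
      rw [hI] at hmem ⊢
      exact fun a ha => hPle (hmem ha)
    exact this (Set.mem_iUnion.2 ⟨⟨⟨W₀, hW₀⟩, ⟨P, hP⟩⟩, x _, hx ⟨⟨W₀, hW₀⟩, ⟨P, hP⟩⟩⟩)
  obtain ⟨ψ₀, hψ₀, hqf, hql, hqs⟩ := exists_chart_of_family Z (fun i => (yon S).map (gi i) ≫ π) hf hl
    fun y => by
      obtain ⟨y', rfl⟩ := surjective_map_of_repWith hps y
      obtain ⟨y, rfl⟩ := (Points.schemeHomeo U).surjective y'
      obtain ⟨i, z, rfl⟩ := Set.mem_iUnion.1 (hG y)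
      refine ⟨i, Points.schemeHomeo _ ((hp.snd ((yon S).map (gi i) ≫ π)).left z), ?_⟩
      rw [← AlgSp.Points.map_yon_map_apply, ← AlgSp.Points.map_yon_map_apply, ← Points.map_comp,
        ← Points.map_comp, (hp.isPullback' ((yon S).map (gi i) ≫ π)).w]
  have e₀ : ψ₀ = (yon S).map g ≫ π := (existsUnique_desc_sigma Z _).unique hψ₀ fun i => by
    rw [← Category.assoc, ← Functor.map_comp, hι]
  have hq' : RepWith @LocallyQuasiFinite ψ₀ := by
    refine repWith_of_open_cover @LocallyQuasiFinite _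
      (fun i => (repWith_yon_map_iff _ _).2 (isOpenImmersion_sigmaOverι Z i)) (fun y => ?_) ψ₀
      fun i => by rw [hψ₀]; exact hq i
    obtain ⟨t, rfl⟩ := (Points.schemeHomeo (sigmaOver Z)).surjective y
    obtain ⟨i, z, hz⟩ := exists_mem_range_sigmaOverι Z t
    exact ⟨i, Points.schemeHomeo _ z, (map_yon_map_ofScheme _ _).trans (congrArg _ hz)⟩
  subst e₀
  let q := (yon S).map g ≫ π
  have hrep : Representable q := Functor.relativelyRepresentable.of_diag hd q
  have sq := hrep.isPullback' q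
  let R' := hrep.pullback q
  let t' : R' ⟶ U' := hrep.fst' q
  let s' : R' ⟶ U' := hrep.snd q
  have sqK : IsPullback ((yon S).map t) ((yon S).map s) π π := isPullback_quotSpπ (isEqvRelSp_yon h)
  obtain ⟨r, hr⟩ := (yon S).map_surjective (sqK.lift ((yon S).map t' ≫ (yon S).map g)
    ((yon S).map s' ≫ (yon S).map g) (by rw [Category.assoc, Category.assoc]; exact sq.w))
  have hrs : r ≫ s = s' ≫ g := (yon S).map_injective (by
    rw [Functor.map_comp, Functor.map_comp, hr, sqK.lift_snd])
  have hrt : r ≫ t = t' ≫ g := (yon S).map_injective (by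
    rw [Functor.map_comp, Functor.map_comp, hr, sqK.lift_fst])
  have := isLocallySurjective_of_repWith hqf hql hqs
  have : Epi q := Sheaf.epi_of_isLocallySurjective _
  have w : (yon S).map s' ≫ q = (yon S).map t' ≫ q := sq.w.symm
  have : IsIso (pullback.lift ((yon S).map t') ((yon S).map s') w.symm :
      (yon S).obj R' ⟶ pullback q q) := by
    have e : pullback.lift ((yon S).map t') ((yon S).map s') w.symm = sq.isoPullback.hom := by
      apply pullback.hom_ext
      · exact (pullback.lift_fst _ _ _).trans sq.isoPullback_hom_fst.symm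
      · exact (pullback.lift_snd _ _ _).trans sq.isoPullback_hom_snd.symm
    rw [e]; infer_instance
  have hD : IsIso (quotSpDesc q w) := isIso_quotSpDesc q w
  obtain ⟨e, he⟩ := exists_iso_quot s t
  obtain ⟨e', he'⟩ := exists_iso_quot s' t'
  have hπ' : QuotSh.quotπ Scheme.fppfPrecoverage s' t' ≫ e'.inv =
      (QuotSh.repIsoUliftYoneda Scheme.fppfPrecoverage U').hom ≫
        quotSpπ ((yon S).map s') ((yon S).map t') := by
    rw [Iso.comp_inv_eq, Category.assoc, he', Iso.hom_inv_id_assoc]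
  refine ⟨R', U', s', t', g, r, e'.inv ≫ quotSpDesc q w ≫ e.hom, isEqvRel_of_isPullback sq, hrs, hrt,
    hqf.property _ _ _ sq, hql.property _ _ _ sq, hq'.property _ _ _ sq,
    hqf.property _ _ _ sq.flip, hql.property _ _ _ sq.flip, hq'.property _ _ _ sq.flip, ?_, inferInstance⟩
  rw [reassoc_of% hπ', quotSpπ_desc_assoc]
  simp only [q, π, Category.assoc, he]
  rw [← reassoc_of% (repMap_comp_repIso g), Iso.hom_inv_id_assoc]

end Groth.Agent.S10139
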