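import Groth.Statements.S1014
import Groth.Agent.Dual22Lib.PerfExtend

set_option autoImplicit false
universe u
open CategoryTheory CategoryTheory.Limits AlgebraicGeometry
attribute [local instance] HasDerivedCategory.standard
open Perf

namespace Groth.Agent.S1014

open CategoryTheory CategoryTheory.Limits AlgebraicGeometry Groth.Agent.Dual22Lib


/-- Let X be an affine scheme, U a quasi-compact open subscheme and F a perfect object of D(O_U). Then F
⊕ F[1] extends to X as a perfect complex: there is a complex G of O_X-modules, perfect as an object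
of D(O_X), whose termwise restriction to U is isomorphic in D(O_U) to F ⊕ F[1]. -/
theorem result (X : Scheme.{u}) [IsAffine X] (U : X.Opens) (hU : IsCompact (U : Set X))
    (F : DCoh.D (U : Scheme.{u})) (hF : DCoh.IsPerfect F) [HasBinaryBiproduct F (F⟦(1 : ℤ)⟧)] :
    ∃ G : CochainComplex X.Modules ℤ, DCoh.IsPerfect (DCoh.toD X G) ∧
      Nonempty (DerivedCategory.Q.obj ((DCoh.restrictCx U).obj G) ≅ F ⊞ F⟦(1 : ℤ)⟧) := by
  obtain ⟨R, hR, ⟨e⟩⟩ := PerfExtend.exists_extend U hU hF
  refine ⟨DerivedCategory.Q.objPreimage R,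
    Groth.Agent.DCat.PCTriangle.perfect_iso (DerivedCategory.Q.objObjPreimageIso R).symm hR, ⟨?_⟩⟩
  exact ((Scheme.Modules.restrictFunctor U.ι).mapDerivedCategoryFactors.app _).symm ≪≫
    (Groth.Agent.DCat.PerfLocal.rd U.ι).mapIso (DerivedCategory.Q.objObjPreimageIso R) ≪≫ e

end Groth.Agent.S1014
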