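import Groth.Statements.S10140
import Groth.Agent.GrpdLib.SubQuotH

set_option backward.isDefEq.respectTransparency.types false
set_option maxHeartbeats 1000000

set_option autoImplicit false
universe u
open CategoryTheory CategoryTheory.Limits AlgebraicGeometry
open Grpd

namespace Groth.Agent.S10140

/-- Let `(U, R, s, t, c)` be a groupoid scheme over `S` with `U` affine and `j : R ⟶ U ×_S U` separated
and locally quasi-finite, and let `P ⟶ R` be a monomorphism such that `(U, P, s|_P, t|_P, c|_P)` is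
a groupoid scheme, `s|_P, t|_P` are finite locally free and `j|_P` is a monomorphism. Then `U/P` is
represented by an affine scheme `Ū`, the quotient map `U ⟶ Ū` is finite locally free with `P = U ×_Ū
U`, and `R` is the restriction along `U ⟶ Ū` of a groupoid scheme `(Ū, R̄, s̄, t̄, c̄)`. -/
theorem result (S : Scheme.{u}) (G : Grpd.GroupoidScheme S) [IsAffine G.U]
    [IsSeparated G.j] [LocallyQuasiFinite G.j] [LocallyOfFiniteType G.j]
    (P : Scheme.{u}) (ιP : P ⟶ G.R) [Mono ιP]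
    (he : ∃ eP : G.U ⟶ P, eP ≫ ιP = G.e) (hi : ∃ iP : P ⟶ P, iP ≫ ιP = ιP ≫ G.i)
    (hc : ∃ cP : pullback (ιP ≫ G.s) (ιP ≫ G.t) ⟶ P,
      cP ≫ ιP = pullback.map (ιP ≫ G.s) (ιP ≫ G.t) G.s G.t ιP ιP (𝟙 G.U) (Category.comp_id _) (Category.comp_id _) ≫ G.c)
    [IsFinite (ιP ≫ G.s)] [Flat (ιP ≫ G.s)] [LocallyOfFinitePresentation (ιP ≫ G.s)]
    [IsFinite (ιP ≫ G.t)] [Flat (ιP ≫ G.t)] [LocallyOfFinitePresentation (ιP ≫ G.t)] [Mono (ιP ≫ G.j)] :
    ∃ (H : Grpd.GroupoidScheme S) (φ : Grpd.GroupoidScheme.Hom G H),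
      IsAffine H.U ∧
      QuotSh.IsQuotient Scheme.fppfPrecoverage
        (Over.homMk (ιP ≫ G.s) ((Category.assoc _ _ _).trans (congrArg (ιP ≫ ·) G.s_over)) :
          (Over.mk (ιP ≫ G.pR) : Over S) ⟶ Over.mk G.pU)
        (Over.homMk (ιP ≫ G.t) ((Category.assoc _ _ _).trans (congrArg (ιP ≫ ·) G.t_over)) :
          (Over.mk (ιP ≫ G.pR) : Over S) ⟶ Over.mk G.pU)
        (Over.homMk φ.fU φ.fU_over : Over.mk G.pU ⟶ Over.mk H.pU) ∧
      IsFinite φ.fU ∧ Flat φ.fU ∧ LocallyOfFinitePresentation φ.fU ∧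
      IsPullback (ιP ≫ G.t) (ιP ≫ G.s) φ.fU φ.fU ∧
      IsPullback φ.fR G.j H.j
        (pullback.map G.pU G.pU H.pU H.pU φ.fU φ.fU (𝟙 S)
          ((Category.comp_id _).trans φ.fU_over.symm) ((Category.comp_id _).trans φ.fU_over.symm)) := by
  obtain ⟨eP, heP⟩ := he
  obtain ⟨iP, hiP⟩ := hi
  obtain ⟨cP, hcP⟩ := hc
  let G' := GrpdLib.SubQuot.sub G ιP eP heP iP hiP cP hcP
  have : IsFinite G'.s := ‹IsFinite (ιP ≫ G.s)›
  have : Flat G'.s := ‹Flat (ιP ≫ G.s)›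
  have : LocallyOfFinitePresentation G'.s := ‹LocallyOfFinitePresentation (ιP ≫ G.s)›
  have hj' : (ιP ≫ G.j : P ⟶ pullback G.pU G.pU) = G'.j := by
    apply pullback.hom_ext
    · exact (Category.assoc _ _ _).trans ((congrArg (ιP ≫ ·) (pullback.lift_fst _ _ _)).trans
        (pullback.lift_fst (f := G.pU) (g := G.pU) (ιP ≫ G.t) (ιP ≫ G.s) (by simp only [Category.assoc, G.s_over, G.t_over])).symm)
    · exact (Category.assoc _ _ _).trans ((congrArg (ιP ≫ ·) (pullback.lift_snd _ _ _)).trans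
        (pullback.lift_snd (f := G.pU) (g := G.pU) (ιP ≫ G.t) (ιP ≫ G.s) (by simp only [Category.assoc, G.s_over, G.t_over])).symm)
  have : Mono G'.j := hj' ▸ ‹Mono (ιP ≫ G.j)›
  have hU : IsAffine G'.U := ‹IsAffine G.U›
  obtain ⟨M', m', ⟨hm₁, hm₂, hm₃⟩, hm₄, hsq, hquot⟩ :=
    Stk19b.FlfQuot.exists_quotient G' (fun x => ⟨⊤, isAffineOpen_top G'.U, fun _ _ => trivial⟩)
  let mS := M'.hom
  let m : G.U ⟶ _ := m'.left
  have : IsFinite m := hm₁
  have : Flat m := hm₂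
  have : LocallyOfFinitePresentation m := hm₃
  have : Surjective m := hm₄
  let D : GrpdLib.SubQuot.Rel G ιP m mS := ⟨Over.w m', hsq⟩
  have hMaff := @S0593.result _ _ m ‹IsAffine G.U› ‹_› inferInstance
  have hsm₁ : IsFinite D.sqMap := MorphismProperty.pullbackMap (P := @IsFinite) ‹_› ‹_› D.hm.symm D.hm.symm
  have hsm₂ : Flat D.sqMap := MorphismProperty.pullbackMap (P := @Flat) ‹_› ‹_› D.hm.symm D.hm.symm
  have hsm₃ : LocallyOfFinitePresentation D.sqMap :=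
    MorphismProperty.pullbackMap (P := @LocallyOfFinitePresentation) ‹_› ‹_› D.hm.symm D.hm.symm
  let A := D.arrows eP heP cP hcP
  have : IsFinite A.s := MorphismProperty.pullback_fst (P := @IsFinite) _ _ hsm₁
  have : Flat A.s := MorphismProperty.pullback_fst (P := @Flat) _ _ hsm₂
  have : LocallyOfFinitePresentation A.s := MorphismProperty.pullback_fst (P := @LocallyOfFinitePresentation) _ _ hsm₃
  let ss : D.E ⟶ G.R := pullback.fst _ _
  let tt : D.E ⟶ G.R := D.tE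
  have : Mono A.j := by
    have aux : ∀ {T : Scheme.{u}} (a b : T ⟶ D.E), a ≫ tt = b ≫ tt → a ≫ ss = b ≫ ss → a = b := by
      intro T a b h1 h2
      apply pullback.hom_ext
      · exact h2
      · rw [D.comp_snd, D.comp_snd]; exact congrArg (· ≫ G.j) h1
    refine ⟨fun {T} a b h => aux a b ?_ ?_⟩
    · exact (congrArg (a ≫ ·) (pullback.lift_fst _ _ _).symm).trans (((Category.assoc _ _ _).symm.trans
        (congrArg (· ≫ pullback.fst _ _) h)).trans ((Category.assoc _ _ _).trans (congrArg (b ≫ ·) (pullback.lift_fst _ _ _))))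
    · exact (congrArg (a ≫ ·) (pullback.lift_snd _ _ _).symm).trans (((Category.assoc _ _ _).symm.trans
        (congrArg (· ≫ pullback.snd _ _) h)).trans ((Category.assoc _ _ _).trans (congrArg (b ≫ ·) (pullback.lift_snd _ _ _))))
  have hw : tt ≫ G.j ≫ D.sqMap = ss ≫ G.j ≫ D.sqMap := by
    simp only [tt, ss, reassoc_of% D.tE_j]; exact pullback.condition.symm
  let f : G.R ⟶ pullback mS mS := G.j ≫ D.sqMap
  have : IsFinite ss := MorphismProperty.pullback_fst (P := @IsFinite) _ _ hsm₁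
  have horb' : ∀ x : ↥G.R, ∃ V : G.R.Opens, IsAffineOpen V ∧ tt '' (ss ⁻¹' {x}) ⊆ (V : Set ↥G.R) := fun x => by
    obtain ⟨V0, hV0, hx, -⟩ := exists_isAffineOpen_mem_and_subset (x := f x) (U := ⊤) trivial
    have : IsAffine V0 := hV0
    have hmem : ∀ r, ss r = x → tt r ∈ f ⁻¹ᵁ V0 := fun r hr => by
      have h1 : f (tt r) = f (ss r) := by
        rw [← Scheme.Hom.comp_apply, ← Scheme.Hom.comp_apply]
        exact congrArg (fun g : D.E ⟶ _ => g r) hw
      show f (tt r) ∈ V0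
      rw [h1, hr]; exact hx
    have hfin : (ss ⁻¹' {x}).Finite := ss.finite_preimage_singleton x
    let F : Set ↥(f ⁻¹ᵁ V0).toScheme := Subtype.val ⁻¹' (tt '' (ss ⁻¹' {x}))
    have hF : F.Finite := (hfin.image _).preimage Subtype.val_injective.injOn
    obtain ⟨O, hO, hFO⟩ := AlgSpLib.exists_affineOpen_of_finite (f ∣_ V0) hF
    refine ⟨(f ⁻¹ᵁ V0).ι ''ᵁ O, hO.image_of_isOpenImmersion _, ?_⟩
    rintro _ ⟨r, hr, rfl⟩
    exact ⟨⟨tt r, hmem r hr⟩, hFO ⟨r, hr, rfl⟩, rfl⟩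
  have horb : GrpdLib.OrbitsInAffines A := horb'
  obtain ⟨N', q', ⟨hq₁, hq₂, hq₃⟩, hq₄, hsqq, -⟩ := Stk19b.FlfQuot.exists_quotient A horb
  let q : G.R ⟶ _ := q'.left
  have : IsFinite q := hq₁
  have : Flat q := hq₂
  have : Surjective q := hq₄
  have : QuasiCompact q := inferInstance
  obtain ⟨H, φ, hU', e1, e2, e3⟩ := D.exists_quotient_grpd eP heP iP hiP cP hcP hsqq
  refine ⟨H, φ, ?_⟩
  have key : ∀ (X : Scheme.{u}) (f : G.U ⟶ X) (g : X ⟶ S) (hfg : f ≫ g = G.pU) (hX : X = _),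
      f ≫ eqToHom hX = m → eqToHom hX ≫ mS = g →
      IsAffine X ∧
      QuotSh.IsQuotient Scheme.fppfPrecoverage
        (Over.homMk (ιP ≫ G.s) ((Category.assoc _ _ _).trans (congrArg (ιP ≫ ·) G.s_over)) :
          (Over.mk (ιP ≫ G.pR) : Over S) ⟶ Over.mk G.pU)
        (Over.homMk (ιP ≫ G.t) ((Category.assoc _ _ _).trans (congrArg (ιP ≫ ·) G.t_over)) :
          (Over.mk (ιP ≫ G.pR) : Over S) ⟶ Over.mk G.pU)
        (Over.homMk f hfg : Over.mk G.pU ⟶ Over.mk g) ∧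
      IsFinite f ∧ Flat f ∧ LocallyOfFinitePresentation f ∧ IsPullback (ιP ≫ G.t) (ιP ≫ G.s) f f := by
    intro X f g hfg hX h1 h2
    subst hX
    rw [eqToHom_refl, Category.comp_id] at h1
    rw [eqToHom_refl, Category.id_comp] at h2
    subst h1 h2
    exact ⟨hMaff, hquot, hm₁, hm₂, hm₃, hsq⟩
  obtain ⟨k1, k2, k3, k4, k5, k6⟩ := key H.U φ.fU H.pU φ.fU_over hU' e1 e2
  exact ⟨k1, k2, k3, k4, k5, k6, e3⟩

end Groth.Agent.S10140
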