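import Groth.Statements.S10141
import Groth.Agent.Stk19b.RestrictOpen

set_option autoImplicit false
universe u
open CategoryTheory CategoryTheory.Limits AlgebraicGeometry
open AlgSp

set_option backward.isDefEq.respectTransparency.types false
set_option backward.isDefEq.respectTransparency false

open Groth.Agent.Stk19b.RestrictOpen
namespace Groth.Agent.S10141


/-- Let `(U, R, s, t, c)` be a groupoid scheme over `S` and `g : U' ⟶ U` a morphism such that the
composite `h : U' ×_{g, U, t} R ⟶ R ⟶ U` of the projection with `s` has open image `W ⊂ U` and `h :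
U' ×_{g, U, t} R ⟶ W` is a surjection of fppf sheaves. Then for the restriction `R' = R|_{U'}` the
map of fppf quotient sheaves `U'/R' ⟶ U/R` is representable and an open immersion. -/
theorem result (S : Scheme.{u}) (G : Grpd.GroupoidScheme S)
    (U' : Scheme.{u}) (g : U' ⟶ G.U) (W : G.U.Opens)
    (hW : (W : Set ↥G.U) = Set.range ⇑(pullback.snd g G.t ≫ G.s))
    (hlift : pullback g G.t ⟶ ↑W) (hh : hlift ≫ W.ι = pullback.snd g G.t ≫ G.s)
    (hsurj : Sheaf.IsLocallySurjective ((AlgSp.yon S).map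
      (Over.homMk hlift ((Category.assoc _ _ _).symm.trans (congrArg (· ≫ G.pU) hh)) :
        Over.mk ((pullback.snd g G.t ≫ G.s) ≫ G.pU) ⟶ Over.mk (W.ι ≫ G.pU))))
    (R' : Over S) (s' t' : R' ⟶ Over.mk (g ≫ G.pU)) (r : R' ⟶ Over.mk G.pR)
    (hsq : IsPullback (prod.lift t' s') r
      (prod.map (Over.homMk g rfl : Over.mk (g ≫ G.pU) ⟶ Over.mk G.pU) (Over.homMk g rfl : Over.mk (g ≫ G.pU) ⟶ Over.mk G.pU))
      (prod.lift (Over.homMk G.t G.t_over : Over.mk G.pR ⟶ Over.mk G.pU) (Over.homMk G.s G.s_over : Over.mk G.pR ⟶ Over.mk G.pU)))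
    (ψ : QuotSh.quot Scheme.fppfPrecoverage s' t' ⟶
      QuotSh.quot Scheme.fppfPrecoverage (Over.homMk G.s G.s_over : Over.mk G.pR ⟶ Over.mk G.pU) (Over.homMk G.t G.t_over : Over.mk G.pR ⟶ Over.mk G.pU))
    (hψ : QuotSh.quotπ Scheme.fppfPrecoverage s' t' ≫ ψ =
      QuotSh.repMap Scheme.fppfPrecoverage (Over.homMk g rfl : Over.mk (g ≫ G.pU) ⟶ Over.mk G.pU) ≫ QuotSh.quotπ Scheme.fppfPrecoverage _ _) :
    AlgSp.RepWith @IsOpenImmersion ψ := by
  let Uo : Over S := Over.mk G.pU
  let Ro : Over S := Over.mk G.pR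
  let so : Ro ⟶ Uo := Over.homMk G.s G.s_over
  let to' : Ro ⟶ Uo := Over.homMk G.t G.t_over
  let go : Over.mk (g ≫ G.pU) ⟶ Uo := Over.homMk g rfl
  have hpre : AlgSp.IsPreEqvRelSp ((AlgSp.yon S).map so) ((AlgSp.yon S).map to') := fun T => by
    refine ⟨fun a => ?_, ?_, ?_⟩
    · obtain ⟨a, rfl⟩ := (AlgSp.yon S).map_surjective a
      refine ⟨(AlgSp.yon S).map (Over.homMk (a.left ≫ G.e) (by
        show (a.left ≫ G.e) ≫ G.pR = T.hom
        rw [Category.assoc, ← G.s_over, reassoc_of% G.e_s]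
        exact Over.w a) : T ⟶ Ro), ?_, ?_⟩
      · rw [← Functor.map_comp]
        exact congrArg _ (Over.OverMorphism.ext (by
          show (a.left ≫ G.e) ≫ G.t = a.left
          rw [Category.assoc, G.e_t]; exact Category.comp_id _))
      · rw [← Functor.map_comp]
        exact congrArg _ (Over.OverMorphism.ext (by
          show (a.left ≫ G.e) ≫ G.s = a.left
          rw [Category.assoc, G.e_s]; exact Category.comp_id _))
    · rintro _ _ ⟨r, rfl, rfl⟩
      obtain ⟨r, rfl⟩ := (AlgSp.yon S).map_surjective r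
      refine ⟨(AlgSp.yon S).map (Over.homMk (r.left ≫ G.i) (by
        show (r.left ≫ G.i) ≫ G.pR = T.hom
        rw [Category.assoc, ← G.s_over, reassoc_of% G.i_s, G.t_over]
        exact Over.w r) : T ⟶ Ro), ?_, ?_⟩
      · rw [← Functor.map_comp, ← Functor.map_comp]
        exact congrArg _ (Over.OverMorphism.ext (by
          show (r.left ≫ G.i) ≫ G.t = r.left ≫ G.s
          rw [Category.assoc, G.i_t]))
      · rw [← Functor.map_comp, ← Functor.map_comp]
        exact congrArg _ (Over.OverMorphism.ext (by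
          show (r.left ≫ G.i) ≫ G.s = r.left ≫ G.t
          rw [Category.assoc, G.i_s]))
    · rintro _ _ _ ⟨r, rfl, rfl⟩ ⟨r', h', rfl⟩
      obtain ⟨r, rfl⟩ := (AlgSp.yon S).map_surjective r
      obtain ⟨r', rfl⟩ := (AlgSp.yon S).map_surjective r'
      rw [← Functor.map_comp, ← Functor.map_comp] at h'
      have h : r.left ≫ G.s = r'.left ≫ G.t :=
        (congrArg CommaMorphism.left ((AlgSp.yon S).map_injective h')).symm
      refine ⟨(AlgSp.yon S).map (Over.homMk (pullback.lift r.left r'.left h ≫ G.c) (by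
        show (pullback.lift r.left r'.left h ≫ G.c) ≫ G.pR = T.hom
        rw [← G.s_over, ← Category.assoc, G.comp_s, Category.assoc, G.s_over]
        exact Over.w r') : T ⟶ Ro), ?_, ?_⟩
      · rw [← Functor.map_comp, ← Functor.map_comp]
        exact congrArg _ (Over.OverMorphism.ext (G.comp_t r.left r'.left h))
      · rw [← Functor.map_comp, ← Functor.map_comp]
        exact congrArg _ (Over.OverMorphism.ext (G.comp_s r.left r'.left h))
  obtain ⟨e, he⟩ := Groth.Agent.AlgSpLib.exists_iso_quot so to'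
  obtain ⟨e', he'⟩ := Groth.Agent.AlgSpLib.exists_iso_quot s' t'
  let ψ0 := e'.hom ≫ ψ ≫ e.inv
  have hψ0 : AlgSp.quotSpπ ((AlgSp.yon S).map s') ((AlgSp.yon S).map t') ≫ ψ0 =
      (AlgSp.yon S).map go ≫ AlgSp.quotSpπ ((AlgSp.yon S).map so) ((AlgSp.yon S).map to') := by
    rw [← cancel_mono e.hom, Category.assoc, Category.assoc]
    simp only [ψ0, Category.assoc, Iso.inv_hom_id, Category.comp_id]
    rw [reassoc_of% he', hψ, he, ← Category.assoc, ← Category.assoc]
    congr 1
    rw [Iso.inv_comp_eq, ← Category.assoc, Iso.eq_comp_inv, Groth.Agent.AlgSpLib.repMap_comp_repIso]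
  let P : Over S := Over.mk ((pullback.snd g G.t ≫ G.s) ≫ G.pU)
  let p1 : P ⟶ Over.mk (g ≫ G.pU) := Over.homMk (pullback.fst g G.t) (by
    show pullback.fst g G.t ≫ g ≫ G.pU = (pullback.snd g G.t ≫ G.s) ≫ G.pU
    rw [pullback.condition_assoc, Category.assoc, G.s_over, G.t_over])
  let p2 : P ⟶ Ro := Over.homMk (pullback.snd g G.t) (by
    show pullback.snd g G.t ≫ G.pR = (pullback.snd g G.t ≫ G.s) ≫ G.pU
    rw [Category.assoc, G.s_over])
  have : IsOpenImmersion (Over.homMk W.ι rfl : Over.mk (W.ι ≫ G.pU) ⟶ Uo).left := inferInstanceAs (IsOpenImmersion W.ι)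
  have h := repWith_restrict hpre go p1 p2 (Over.homMk W.ι rfl : Over.mk (W.ι ≫ G.pU) ⟶ Uo) _
    (IsPullback.of_hasPullback g G.t) (Over.OverMorphism.ext hh)
    (by
      show Set.range W.ι = Set.range (pullback.snd g G.t ≫ G.s)
      rw [Scheme.Opens.range_ι, hW])
    (Over.OverMorphism.ext pullback.condition) hsurj hsq ψ0 hψ0
  have hfin := Groth.Agent.AlgSpLib.RepWith.comp
    (Groth.Agent.AlgSpLib.repWith_of_isIso (P := @IsOpenImmersion) e'.inv)
    (Groth.Agent.AlgSpLib.RepWith.comp h (Groth.Agent.AlgSpLib.repWith_of_isIso (P := @IsOpenImmersion) e.hom))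
  simpa [ψ0] using hfin

end Groth.Agent.S10141
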