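import Groth.Statements.S10144
import Groth.Agent.Stk19b.GrpLocus

set_option autoImplicit false
universe u
open CategoryTheory CategoryTheory.Limits AlgebraicGeometry MonoidalCategory MonObj
open AlgSp

set_option backward.isDefEq.respectTransparency.types false
set_option backward.isDefEq.respectTransparency false

open Groth.Agent
namespace Groth.Agent.S10144


/-- Let `G` be a group algebraic space over an algebraic space `B` with `G ⟶ B` locally of finite type.
Then there is a largest open subspace `W ⊂ B` such that `G_W ⟶ W` is locally quasi-finite, and its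
formation commutes with base change along any morphism of algebraic spaces `B' ⟶ B`. -/
theorem result (S : Scheme.{u}) (B : AlgSp.Sp S) (hB : AlgSp.IsAlgSpace B)
    (G : Over B) [GrpObj G] (hG : AlgSp.IsAlgSpace G.left) (hlft : AlgSp.LocP @LocallyOfFiniteType G.hom) :
    ∃ (W : AlgSp.Sp S) (w : W ⟶ B), AlgSp.RepWith @IsOpenImmersion w ∧
      (∀ (W' : AlgSp.Sp S) (w' : W' ⟶ B), AlgSp.RepWith @IsOpenImmersion w' →
        (AlgSp.LocP (@LocallyQuasiFinite ⊓ @LocallyOfFiniteType) (pullback.snd G.hom w') ↔ ∃ k : W' ⟶ W, k ≫ w = w')) ∧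
      (∀ (B' : AlgSp.Sp S), AlgSp.IsAlgSpace B' → ∀ (f : B' ⟶ B) (W'' : AlgSp.Sp S) (w'' : W'' ⟶ B'),
        AlgSp.RepWith @IsOpenImmersion w'' →
        (AlgSp.LocP (@LocallyQuasiFinite ⊓ @LocallyOfFiniteType) (pullback.snd (pullback.snd G.hom f) w'') ↔
          ∃ k : W'' ⟶ pullback w f, k ≫ pullback.snd w f = w'')) := by
  exact Stk19b.GrpLocus.exists_largest (Loc := @LocallyQuasiFinite ⊓ @LocallyOfFiniteType)
    { Q := fun f x => AlgSp.HasAtMor (fun _ _ h u => FlatMor.fibreDimAt h u = 0) f x
      baseChange := fun {_ _ _ _} hX hY hY' hX' {_ _ _ _} sq hl x' =>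
        AlgSpLib.relDim_baseChange hX hY hY' hX' sq hl x' (fun d => d = 0)
      locP_iff := fun {_ _} hX hY {_} hl =>
        ⟨fun h x => AlgSpLib.relDim_zero_of_locP_lqf hX hY h x, AlgSpLib.locP_lqf_of_relDim_zero hX hY hl⟩
      isOpen := fun {_ _} hX hY {_} hl => by
        obtain ⟨W, hW, hiff, -⟩ := AlgSpLib.exists_lqf_locus hX hY hl
        convert hW using 1
        ext x
        exact (hiff x).symm }
    G hB hG hlft

end Groth.Agent.S10144
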