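import Groth.Statements.S10146
import Groth.Agent.Stk19b.BigClosed
import Groth.Agent.AlgSpLib.Points

set_option autoImplicit false
universe u
open CategoryTheory CategoryTheory.Limits AlgebraicGeometry
open AlgSp AlgSp.GroupoidSp

set_option backward.isDefEq.respectTransparency.types false
set_option backward.isDefEq.respectTransparency false

open Groth.Agent.Stk19b.BigClosed
namespace Groth.Agent.S10146


/-- Let `(U, R, s, t, c)` be a groupoid in algebraic spaces over `B` whose object space is `U = Spec k`.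
For every point `r` of `R` there are an algebraically closed field extension `k'` of `k` and, on the
restriction `(U', R', s', t', c')` along `Spec k' ⟶ Spec k`, a morphism `r' : Spec k' ⟶ R'` mapping
to `r` in `R` such that `s' ∘ r'` and `t' ∘ r'` are automorphisms of `Spec k'`. -/
theorem result (S : Scheme.{u}) (B : AlgSp.Sp S) (hB : AlgSp.IsAlgSpace B)
    (G : AlgSp.GroupoidSp B) (hR : AlgSp.IsAlgSpace G.R) (k : Type u) [Field k]
    (σ : Spec (CommRingCat.of k) ⟶ S) (eU : G.U ≅ (AlgSp.yon S).obj (Over.mk σ)) (r : AlgSp.Points G.R) :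
    ∃ (k' : Type u) (_ : Field k') (_ : Algebra k k'), IsAlgClosed k' ∧
      ∀ (G' : AlgSp.GroupoidSp B) (φ : AlgSp.GroupoidSp.Hom G' G), φ.IsRestriction → AlgSp.IsAlgSpace G'.R →
        ∀ (eU' : G'.U ≅ (AlgSp.yon S).obj (Over.mk (Spec.map (CommRingCat.ofHom (algebraMap k k')) ≫ σ))),
          φ.fU = eU'.hom ≫ (AlgSp.yon S).map (Over.homMk (Spec.map (CommRingCat.ofHom (algebraMap k k'))) rfl :
            Over.mk (Spec.map (CommRingCat.ofHom (algebraMap k k')) ≫ σ) ⟶ Over.mk σ) ≫ eU.inv →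
          ∃ r' : G'.U ⟶ G'.R, (∀ x : AlgSp.Points G'.U, AlgSp.Points.map (r' ≫ φ.fR) x = r) ∧
            IsIso (r' ≫ G'.s) ∧ IsIso (r' ≫ G'.t) := by
  obtain ⟨K, _, str, a, rfl⟩ := Groth.Agent.AlgSpLib.exists_ptOfHom r
  obtain ⟨gs, hgs⟩ := (AlgSp.yon S).map_surjective (a ≫ G.s ≫ eU.hom)
  obtain ⟨gt, hgt⟩ := (AlgSp.yon S).map_surjective (a ≫ G.t ≫ eU.hom)
  obtain ⟨ks, hks⟩ := Spec.map_surjective gs.left
  obtain ⟨kt, hkt⟩ := Spec.map_surjective gt.left
  obtain ⟨Ω, _, _, ρ, hΩ, hkΩ⟩ := exists_big_algClosed K k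
  obtain ⟨β, hβ⟩ := exists_ringEquiv_comp (ρ.comp ks.hom) (ρ.comp kt.hom) hΩ hkΩ rfl
  let A : Algebra k Ω := (ρ.comp ks.hom).toAlgebra
  refine ⟨Ω, inferInstance, A, inferInstance, fun G' φ hφ _ eU' hfU => ?_⟩
  let l : Over.mk (Spec.map (CommRingCat.ofHom (algebraMap k Ω)) ≫ σ) ⟶ Over.mk σ :=
    Over.homMk (Spec.map (CommRingCat.ofHom (algebraMap k Ω))) rfl
  have hi : CommRingCat.ofHom (algebraMap k Ω) = ks ≫ CommRingCat.ofHom ρ := rfl
  have hj : CommRingCat.ofHom (algebraMap k Ω) ≫ CommRingCat.ofHom β.toRingHom = kt ≫ CommRingCat.ofHom ρ := by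
    refine CommRingCat.hom_ext ?_
    exact hβ
  have ws : Spec.map ks ≫ σ = str := by rw [hks]; exact Over.w gs
  have wt : Spec.map kt ≫ σ = str := by rw [hkt]; exact Over.w gt
  let P : Over.mk (Spec.map (CommRingCat.ofHom (algebraMap k Ω)) ≫ σ) ⟶ Over.mk str :=
    Over.homMk (Spec.map (CommRingCat.ofHom ρ)) (by
      show Spec.map (CommRingCat.ofHom ρ) ≫ str = _ ≫ σ
      rw [hi, Spec.map_comp, Category.assoc, ws])
  let b : Over.mk (Spec.map (CommRingCat.ofHom (algebraMap k Ω)) ≫ σ) ⟶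
      Over.mk (Spec.map (CommRingCat.ofHom (algebraMap k Ω)) ≫ σ) :=
    Over.homMk (Spec.map (CommRingCat.ofHom β.toRingHom)) (by
      show Spec.map (CommRingCat.ofHom β.toRingHom) ≫ Spec.map _ ≫ σ = Spec.map _ ≫ σ
      rw [← Spec.map_comp_assoc, hj, Spec.map_comp, Category.assoc, wt, hi, Spec.map_comp, Category.assoc, ws])
  have hP1 : P ≫ gs = l := Over.OverMorphism.ext (by
    simp only [P, l, Over.comp_left, Over.homMk_left, hi, Spec.map_comp, ← hks])
  have hP2 : P ≫ gt = b ≫ l := Over.OverMorphism.ext (by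
    simp only [P, b, l, Over.comp_left, Over.homMk_left]
    rw [← Spec.map_comp, hj, Spec.map_comp, ← hkt])
  have : IsIso b := by
    have : IsIso ((Over.forget S).map b) := inferInstanceAs (IsIso (Spec.map (β.toCommRingCatIso.hom)))
    exact isIso_of_reflects_iso b (Over.forget S)
  let x : G'.U ⟶ G.R := eU'.hom ≫ (AlgSp.yon S).map P ≫ a
  let T : G'.U ⟶ G'.U := eU'.hom ≫ (AlgSp.yon S).map b ≫ eU'.inv
  have hxs : φ.fU = x ≫ G.s := by
    rw [hfU, ← cancel_mono eU.hom]
    simp only [x, Category.assoc, Iso.inv_hom_id, Category.comp_id]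
    rw [← hgs, ← Functor.map_comp, hP1]
  have hxt : T ≫ φ.fU = x ≫ G.t := by
    rw [hfU, ← cancel_mono eU.hom]
    simp only [x, T, Category.assoc, Iso.inv_hom_id, Category.comp_id, Iso.inv_hom_id_assoc]
    rw [← hgt, ← Functor.map_comp, ← Functor.map_comp, hP2]
  have hT : T ≫ G'.pU = 𝟙 _ ≫ G'.pU := by
    rw [Category.id_comp, ← φ.fU_over, ← Category.assoc, hxt]
    rw [hxs, Category.assoc x, Category.assoc x, G.t_over, G.s_over]
  have hsq : x ≫ G.j = pullback.lift T (𝟙 G'.U) hT ≫ φ.prodMap := by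
    unfold AlgSp.GroupoidSp.j AlgSp.GroupoidSp.Hom.prodMap pullback.map
    apply pullback.hom_ext
    · rw [Category.assoc x, pullback.lift_fst, Category.assoc (pullback.lift T (𝟙 _) hT), pullback.lift_fst,
        ← Category.assoc (pullback.lift T (𝟙 _) hT), pullback.lift_fst, hxt]
    · rw [Category.assoc x, pullback.lift_snd, Category.assoc (pullback.lift T (𝟙 _) hT), pullback.lift_snd,
        ← Category.assoc (pullback.lift T (𝟙 _) hT), pullback.lift_snd, Category.id_comp, hxs]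
  let r' : G'.U ⟶ G'.R := hφ.lift x (pullback.lift T (𝟙 _) hT) hsq
  have hr' : r' ≫ G'.j = pullback.lift T (𝟙 _) hT := hφ.lift_snd _ _ hsq
  have hj1 : r' ≫ G'.t = T := by
    have := congrArg (· ≫ pullback.fst _ _) hr'
    simp only [AlgSp.GroupoidSp.j, Category.assoc, pullback.lift_fst] at this
    exact this
  have hj2 : r' ≫ G'.s = 𝟙 _ := by
    have := congrArg (· ≫ pullback.snd _ _) hr'
    simp only [AlgSp.GroupoidSp.j, Category.assoc, pullback.lift_snd] at this
    exact this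
  refine ⟨r', fun y => ?_, by rw [hj2]; infer_instance, by rw [hj1]; infer_instance⟩
  rw [show r' ≫ φ.fR = x from hφ.lift_fst _ _ hsq]
  simp only [x, AlgSp.Points.map_comp]
  have key : ∀ z : AlgSp.Points ((AlgSp.yon S).obj (Over.mk str)), AlgSp.Points.map a z = Groth.Agent.AlgSpLib.ptOfHom a := by
    intro z
    have : Subsingleton (AlgSp.Points ((AlgSp.yon S).obj (Over.mk str))) :=
      haveI : Subsingleton ↥(Over.mk str).left := (inferInstance : Subsingleton ↥(Spec (CommRingCat.of K)))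
      (AlgSp.Points.schemeEquiv (Over.mk str)).symm.subsingleton
    rw [Subsingleton.elim z (Groth.Agent.AlgSpLib.ptOfHom (𝟙 _)), Groth.Agent.AlgSpLib.map_ptOfHom,
      Category.id_comp]
  exact key _

end Groth.Agent.S10146
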