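import Groth.Statements.S10148
import Groth.Agent.AdicTop.Completion
import Mathlib.RingTheory.Henselian
import Mathlib.Algebra.Polynomial.Identities

set_option autoImplicit false
universe u
open LinTop

namespace Groth.Agent.S10148

/-- Let A be a weakly admissible topological ring (linearly topologized, Hausdorff and complete, having
a weak ideal of definition) and let I be a weak ideal of definition of A, that is, an open ideal
consisting of topologically nilpotent elements. Then (A, I) is a henselian pair. -/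
theorem result
    (A : Type u) [CommRing A] [UniformSpace A] [IsUniformAddGroup A] [IsTopologicalRing A]
    (hA : LinTop.IsWeaklyAdmissible A) (I : Ideal A) (hI : LinTop.IsWeakIdealOfDefinition A I) :
    HenselianRing A I := by
  obtain ⟨⟨hlin, -⟩, ht, hc⟩ := hA
  have hjac : I ≤ (⊥ : Ideal A).jacobson := Groth.Agent.AdicTop.le_jacobson_bot hI.2
  refine ⟨hjac, fun f _ a₀ h₀ h₁ => ?_⟩
  set c := f.eval a₀ with hcdef
  have hunit : ∀ a : A, a - a₀ ∈ I → IsUnit (f.derivative.eval a) := by
    intro a ha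
    obtain ⟨z, hz⟩ := h₁.exists_right_inv
    obtain ⟨v, rfl⟩ := Ideal.Quotient.mk_surjective z
    have hmk : Ideal.Quotient.mk I (f.derivative.eval a * v) = 1 := by
      rw [map_mul, ← hz]
      congr 1
      rw [Ideal.Quotient.eq]
      exact I.mem_of_dvd (Polynomial.sub_dvd_eval_sub a a₀ f.derivative) ha
    rw [← map_one (Ideal.Quotient.mk I), Ideal.Quotient.eq] at hmk
    have hu := Groth.Agent.AdicTop.isUnit_one_add (hI.2 _ hmk)
    rw [add_sub_cancel] at hu
    exact isUnit_of_mul_isUnit_left hu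
  have step : ∀ (k : ℕ) (a : A), f.eval a ∈ Ideal.span {c ^ (k + 1)} → a - a₀ ∈ I →
      ∃ d ∈ Ideal.span {c ^ (k + 1)},
        f.eval (a + d) ∈ Ideal.span {c ^ (k + 2)} ∧ a + d - a₀ ∈ I := by
    intro k a hfa haI
    obtain ⟨w, hw⟩ := (hunit a haI).exists_right_inv
    refine ⟨-(w * f.eval a), neg_mem (Ideal.mul_mem_left _ _ hfa), ?_, ?_⟩
    · obtain ⟨r, hr⟩ := f.binomExpansion a (-(w * f.eval a))
      rw [hr, show f.eval a + f.derivative.eval a * -(w * f.eval a) = 0 by
        rw [mul_neg, ← mul_assoc, hw, one_mul, add_neg_cancel], zero_add]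
      obtain ⟨q, hq⟩ := Ideal.mem_span_singleton'.1 hfa
      rw [Ideal.mem_span_singleton]
      exact ⟨r * (w * q) ^ 2 * c ^ k, by rw [← hq]; ring⟩
    · have h2 : Ideal.span {c ^ (k + 1)} ≤ I :=
        (Ideal.span_singleton_le_iff_mem I).2 (I.pow_mem_of_mem h₀ _ k.succ_pos)
      rw [add_sub_right_comm]
      exact add_mem haI (neg_mem (Ideal.mul_mem_left _ _ (h2 hfa)))
  choose d hd hdf hdI using step
  let S : ∀ k : ℕ, {a : A // f.eval a ∈ Ideal.span {c ^ (k + 1)} ∧ a - a₀ ∈ I} := fun k =>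
    Nat.rec ⟨a₀, by simp [Ideal.mem_span_singleton, hcdef], by simp⟩
      (fun j Sj => ⟨Sj.1 + d j Sj.1 Sj.2.1 Sj.2.2, hdf j _ _ _, hdI j _ _ _⟩) k
  have hanti : Antitone fun k => (Ideal.span {c ^ k}).closure := fun p q hpq =>
    Groth.Agent.AdicTop.closure_mono (Ideal.span_singleton_le_span_singleton.2 (pow_dvd_pow c hpq))
  have hsmall : ∀ U ∈ nhds (0 : A), ∃ k, ((Ideal.span {c ^ k}).closure : Set A) ⊆ U := by
    intro U hU
    obtain ⟨V, hV, hVU⟩ := Groth.Agent.AdicTop.exists_open_ideal_subset hU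
    obtain ⟨k, hk⟩ := Groth.Agent.AdicTop.exists_pow_mem_of_isOpen (hI.2 c h₀) hV
    exact ⟨k, fun x hx => hVU (Groth.Agent.AdicTop.closure_le_of_isOpen hV ((Ideal.span_singleton_le_iff_mem V).2 hk) hx)⟩
  obtain ⟨L, hL⟩ := Groth.Agent.AdicTop.exists_limit_of_step (fun k => (Ideal.span {c ^ k}).closure.toAddSubgroup)
    (fun p q h => hanti h) (fun k => isClosed_closure) hsmall (fun k => (S k).1) (fun k => by
      show (S k).1 + d k (S k).1 (S k).2.1 (S k).2.2 - (S k).1 ∈ (Ideal.span {c ^ k}).closure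
      rw [add_sub_cancel_left]
      exact Groth.Agent.AdicTop.le_closure _ (Ideal.span_singleton_le_span_singleton.2 (pow_dvd_pow c k.le_succ)
        (hd k _ _ _)))
  refine ⟨L, ?_, ?_⟩
  · show f.eval L = 0
    by_contra hne
    obtain ⟨k, hk⟩ := hsmall {f.eval L}ᶜ (isOpen_compl_singleton.mem_nhds fun h => hne h.symm)
    refine hk ?_ rfl
    rw [show f.eval L = (f.eval L - f.eval (S k).1) + f.eval (S k).1 by abel]
    refine add_mem (Ideal.mem_of_dvd _ (Polynomial.sub_dvd_eval_sub L (S k).1 f) (hL k)) ?_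
    exact Groth.Agent.AdicTop.le_closure _ (Ideal.span_singleton_le_span_singleton.2 (pow_dvd_pow c k.le_succ) (S k).2.1)
  · have h := Groth.Agent.AdicTop.closure_le_of_isOpen hI.1
      ((Ideal.span_singleton_le_iff_mem I).2 (by simpa using h₀)) (hL 1)
    rw [show L - a₀ = (L - (S 1).1) + ((S 1).1 - a₀) by abel]
    exact add_mem h (S 1).2.2

end Groth.Agent.S10148
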