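import Groth.Statements.S10150
import Groth.Agent.AdicTop.Basic

set_option autoImplicit false
universe u v
open LinTop

namespace Groth.Agent.S10150

/-- Let φ : A → B be a continuous ring homomorphism between weakly pre-admissible linearly topologized
rings. Then φ is taut if and only if, for each weak ideal of definition I of A, the closure of the
ideal generated by φ(I) is again a weak ideal of definition, now of B, and every neighbourhood of 0
in B contains one of these closures. (The published statement takes A and B weakly admissible, that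
is, moreover Hausdorff and complete; completeness plays no role and this row omits it.) -/
theorem result
    (A : Type u) [CommRing A] [TopologicalSpace A] [IsTopologicalRing A] [IsLinearTopology A A]
    (B : Type v) [CommRing B] [TopologicalSpace B] [IsTopologicalRing B] [IsLinearTopology B B]
    (hA : LinTop.IsWeaklyPreadmissible A) (hB : LinTop.IsWeaklyPreadmissible B)
    (φ : A →+* B) (hφ : Continuous φ) :
    LinTop.IsTaut φ ↔
      ((∀ I : Ideal A, LinTop.IsWeakIdealOfDefinition A I →
          LinTop.IsWeakIdealOfDefinition B (I.map φ).closure) ∧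
        ∀ U ∈ nhds (0 : B), ∃ I : Ideal A, LinTop.IsWeakIdealOfDefinition A I ∧
          ((I.map φ).closure : Set B) ⊆ U) := by
  obtain ⟨-, I₀, hI₀⟩ := hA
  constructor
  · rintro ⟨-, hopen, hsmall⟩
    refine ⟨fun I hI => ⟨hopen I hI.1, fun g hg => Groth.Agent.AdicTop.closure_le_topologicalNilradical
      (Ideal.map_le_iff_le_comap.2 fun f hf => (hI.2 f hf).map hφ) hg⟩, fun U hU => ?_⟩
    obtain ⟨I, hI, hIU⟩ := hsmall U hU
    exact ⟨I ⊓ I₀, ⟨Groth.Agent.AdicTop.isOpen_inf hI hI₀.1, fun f hf => hI₀.2 f hf.2⟩,
      fun x hx => hIU (Groth.Agent.AdicTop.closure_mono (Ideal.map_mono inf_le_left) hx)⟩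
  · rintro ⟨hopen, hsmall⟩
    refine ⟨hφ, fun I hI => ?_, fun U hU => ?_⟩
    · exact Groth.Agent.AdicTop.isOpen_of_le (Groth.Agent.AdicTop.closure_mono (Ideal.map_mono inf_le_left))
        (hopen (I ⊓ I₀) ⟨Groth.Agent.AdicTop.isOpen_inf hI hI₀.1, fun f hf => hI₀.2 f hf.2⟩).1
    · obtain ⟨I, hI, hIU⟩ := hsmall U hU
      exact ⟨I, hI.1, hIU⟩

end Groth.Agent.S10150
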