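import Groth.Statements.S10152
import Groth.Agent.AdicTop.Basic

set_option autoImplicit false
universe u v
open LinTop

namespace Groth.Agent.S10152

/-- Let φ : A → B be a taut homomorphism of linearly topologized rings. If A has a countable fundamental
system of open ideals, then so does B (equivalently, the neighbourhood filters of 0 are countably
generated). -/
theorem result
    (A : Type u) [CommRing A] [TopologicalSpace A] [IsTopologicalRing A] [IsLinearTopology A A]
    (B : Type v) [CommRing B] [TopologicalSpace B] [IsTopologicalRing B] [IsLinearTopology B B]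
    (φ : A →+* B) (hφ : LinTop.IsTaut φ) (hA : (nhds (0 : A)).IsCountablyGenerated) :
    (nhds (0 : B)).IsCountablyGenerated := by
  obtain ⟨s, hs⟩ := Filter.exists_antitone_basis (nhds (0 : A))
  choose I hI hIs using fun k => Groth.Agent.AdicTop.exists_open_ideal_subset (hs.toHasBasis.mem_of_mem (i := k) trivial)
  refine Filter.HasBasis.isCountablyGenerated (ι := ℕ) (p := fun _ => True)
    (s := fun k => closure ((I k).map φ : Set B)) ⟨fun U => ⟨fun hU => ?_, fun ⟨k, _, hk⟩ => ?_⟩⟩
  · obtain ⟨J, hJ, hJU⟩ := hφ.2.2 U hU
    obtain ⟨k, -, hk⟩ := hs.toHasBasis.mem_iff.1 (Groth.Agent.AdicTop.mem_nhds_of_isOpen hJ)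
    exact ⟨k, trivial, fun x hx => hJU (Groth.Agent.AdicTop.closure_mono (Ideal.map_mono ((hIs k).trans hk)) hx)⟩
  · exact Filter.mem_of_superset
      ((hφ.2.1 (I k) (hI k)).mem_nhds (subset_closure ((I k).map φ).zero_mem)) hk

end Groth.Agent.S10152
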