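import Groth.Statements.S10154
import Groth.Agent.AdicTop.Basic

set_option autoImplicit false
universe u v
open LinTop

namespace Groth.Agent.S10154

/-- Let φ : A → B be a taut homomorphism of linearly topologized rings. If A is pre-admissible, then B
is pre-admissible. -/
theorem result
    (A : Type u) [CommRing A] [TopologicalSpace A] [IsTopologicalRing A] [IsLinearTopology A A]
    (B : Type v) [CommRing B] [TopologicalSpace B] [IsTopologicalRing B] [IsLinearTopology B B]
    (φ : A →+* B) (hφ : LinTop.IsTaut φ) (hA : LinTop.IsPreadmissible A) :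
    LinTop.IsPreadmissible B := by
  obtain ⟨-, I, hI⟩ := hA
  refine ⟨inferInstance, (I.map φ).closure, hφ.2.1 I hI.1, fun U hU => ?_⟩
  obtain ⟨V, hV, hVU⟩ := Groth.Agent.AdicTop.exists_open_ideal_subset hU
  obtain ⟨n, hn, hnV⟩ := hI.2 _ ((hV.preimage hφ.1).mem_nhds (by simp) : φ ⁻¹' (V : Set B) ∈ nhds 0)
  refine ⟨n, hn, fun x hx => hVU ?_⟩
  refine Groth.Agent.AdicTop.closure_le_of_isOpen hV ?_ (Groth.Agent.AdicTop.closure_pow_le _ n hx)
  rw [← Ideal.map_pow]
  exact Ideal.map_le_iff_le_comap.2 hnV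

end Groth.Agent.S10154
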