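import Groth.Statements.S10155
import Groth.Agent.AdicTop.Completion
import Mathlib.Topology.UniformSpace.Cauchy
import Mathlib.Topology.Maps.OpenQuotient

set_option autoImplicit false
universe u v
open LinTop

namespace Groth.Agent.S10155

/-- Let φ : A → B be a taut homomorphism of linearly topologized rings with dense image. Assume A is
Hausdorff and complete with a countable fundamental system of open ideals and B is Hausdorff. Then φ
is surjective and open, so that B is the quotient of A by the closed ideal ker φ with the quotient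
topology, and B is complete. -/
theorem result
    (A : Type u) [CommRing A] [UniformSpace A] [IsUniformAddGroup A] [IsTopologicalRing A]
    [IsLinearTopology A A] [T2Space A] [CompleteSpace A] (hA : (nhds (0 : A)).IsCountablyGenerated)
    (B : Type v) [CommRing B] [UniformSpace B] [IsUniformAddGroup B] [IsTopologicalRing B]
    [IsLinearTopology B B] [T2Space B]
    (φ : A →+* B) (hφ : LinTop.IsTaut φ) (hd : DenseRange φ) :
    Function.Surjective φ ∧ IsOpenQuotientMap φ ∧ CompleteSpace B := by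
  haveI := hA
  obtain ⟨s, hs⟩ := Filter.exists_antitone_basis (nhds (0 : A))
  choose V hV hVs using fun k => Groth.Agent.AdicTop.exists_open_ideal_subset (hs.toHasBasis.mem_of_mem (i := k) trivial)
  obtain ⟨W, hW0, hWs⟩ : ∃ W : ℕ → Ideal A, W 0 = ⊤ ∧ ∀ k, W (k + 1) = W k ⊓ V k :=
    ⟨fun k => Nat.rec ⊤ (fun j Wj => Wj ⊓ V j) k, rfl, fun _ => rfl⟩
  have hWo : ∀ k, IsOpen (W k : Set A) := by
    intro k
    induction k with
    | zero => rw [hW0]; exact isOpen_univ
    | succ k ih => rw [hWs]; exact ih.inter (hV k)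
  have hWanti : Antitone W := antitone_nat_of_succ_le fun k => (hWs k).le.trans inf_le_left
  have hWsmall : ∀ U ∈ nhds (0 : A), ∃ k, (W k : Set A) ⊆ U := by
    intro U hU
    obtain ⟨k, -, hk⟩ := hs.toHasBasis.mem_iff.1 hU
    refine ⟨k + 1, fun x hx => hk (hVs k ?_)⟩
    rw [hWs] at hx
    exact hx.2
  let K : ℕ → Ideal B := fun k => ((W k).map φ).closure
  have hKo : ∀ k, IsOpen (K k : Set B) := fun k => hφ.2.1 _ (hWo k)
  have hKsmall : ∀ U ∈ nhds (0 : B), ∃ k, (K k : Set B) ⊆ U := by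
    intro U hU
    obtain ⟨I, hI, hIU⟩ := hφ.2.2 U hU
    obtain ⟨k, hk⟩ := hWsmall _ (Groth.Agent.AdicTop.mem_nhds_of_isOpen hI)
    exact ⟨k, fun x hx => hIU (Groth.Agent.AdicTop.closure_mono (Ideal.map_mono hk) hx)⟩
  have hsub : ∀ k, (K k : Set B) ⊆ closure (φ '' (W k : Set A)) := by
    intro k
    refine closure_minimal ?_ isClosed_closure
    let G : AddSubgroup B := ((W k).toAddSubgroup.map φ.toAddMonoidHom).topologicalClosure
    let G' : Ideal B :=
      { G.toAddSubmonoid with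
        smul_mem' := fun b x hx => map_mem_closure₂ continuous_mul (hd b) hx (by
          rintro _ ⟨a, rfl⟩ _ ⟨w, hw, rfl⟩
          exact ⟨a * w, (W k).mul_mem_left a hw, map_mul φ a w⟩) }
    exact (Ideal.map_le_iff_le_comap.2 fun a ha => subset_closure ⟨a, ha, rfl⟩ : (W k).map φ ≤ G')
  have hstep : ∀ (k : ℕ) (y : B), y ∈ K k → ∃ a ∈ W k, y - φ a ∈ K (k + 1) := by
    intro k y hy
    have hnb : (fun b => y - b) ⁻¹' (K (k + 1) : Set B) ∈ nhds y :=
      ((hKo (k + 1)).preimage (continuous_const.sub continuous_id)).mem_nhds (by simp)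
    obtain ⟨_, hb, a, ha, rfl⟩ := mem_closure_iff_nhds.1 (hsub k hy) _ hnb
    exact ⟨a, ha, hb⟩
  choose a ha hay using hstep
  have hlift : ∀ (k : ℕ) (y : B), y ∈ K k → ∃ x ∈ W k, φ x = y := by
    intro k y hy
    let T : ∀ j : ℕ, {x : A // x ∈ W k ∧ y - φ x ∈ K (k + j)} := fun j =>
      Nat.rec ⟨0, zero_mem _, by simpa using hy⟩
        (fun i Ti => ⟨Ti.1 + a _ _ Ti.2.2, add_mem Ti.2.1 (hWanti (Nat.le_add_right k i) (ha _ _ _)), by
          rw [map_add, ← sub_sub]; exact hay _ _ Ti.2.2⟩) j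
    obtain ⟨L, hL⟩ := Groth.Agent.AdicTop.exists_limit_of_step (fun j => (W (k + j)).toAddSubgroup)
      (fun p q h => hWanti (Nat.add_le_add_left h k))
      (fun j => Groth.Agent.AdicTop.isClosed_of_isOpen_ideal (hWo _))
      (fun U hU => let ⟨j, hj⟩ := hWsmall U hU; ⟨j, fun x hx => hj (hWanti (Nat.le_add_left j k) hx)⟩)
      (fun j => (T j).1) (fun j => by
        show (T j).1 + a _ _ (T j).2.2 - (T j).1 ∈ W (k + j)
        rw [add_sub_cancel_left]
        exact ha _ _ _)
    refine ⟨L, by simpa [T] using hL 0, ?_⟩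
    refine (sub_eq_zero.1 ?_).symm
    by_contra hne
    obtain ⟨j, hj⟩ := hKsmall {y - φ L}ᶜ (isOpen_compl_singleton.mem_nhds fun h => hne h.symm)
    refine hj ?_ rfl
    refine (Groth.Agent.AdicTop.closure_mono (Ideal.map_mono (hWanti (Nat.le_add_left j k))) : K (k + j) ≤ K j) ?_
    rw [show y - φ L = (y - φ (T j).1) - φ (L - (T j).1) by rw [map_sub]; abel]
    exact sub_mem (T j).2.2 (Groth.Agent.AdicTop.le_closure _ (Ideal.mem_map_of_mem φ (hL j)))
  have hK0 : ∀ y : B, y ∈ K 0 := fun y => by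
    show y ∈ ((W 0).map φ).closure
    rw [hW0, Ideal.map_top]
    exact Groth.Agent.AdicTop.le_closure _ trivial
  have hsurj : Function.Surjective φ := fun y =>
    let ⟨x, _, hx⟩ := hlift 0 y (hK0 y); ⟨x, hx⟩
  have hopen : IsOpenMap φ := by
    intro U hU
    rw [isOpen_iff_mem_nhds]
    rintro _ ⟨x, hxU, rfl⟩
    obtain ⟨k, hk⟩ := hWsmall ((fun z => x + z) ⁻¹' U)
      ((hU.preimage (continuous_const.add continuous_id)).mem_nhds (by simpa using hxU))
    refine Filter.mem_of_superset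
      (((hKo k).preimage (continuous_id.sub continuous_const)).mem_nhds
        (show φ x - φ x ∈ K k by simp)) fun y hy => ?_
    obtain ⟨w, hw, hwy⟩ := hlift k (y - φ x) hy
    exact ⟨x + w, hk hw, by rw [map_add, hwy]; abel⟩
  refine ⟨hsurj, ⟨hsurj, hφ.1, hopen⟩, ?_⟩
  have : (nhds (0 : B)).IsCountablyGenerated := Filter.HasBasis.isCountablyGenerated (ι := ℕ)
    (p := fun _ => True) (s := fun k => (K k : Set B)) ⟨fun U => ⟨fun hU =>
      let ⟨k, hk⟩ := hKsmall U hU; ⟨k, trivial, hk⟩,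
      fun ⟨k, _, hk⟩ => Filter.mem_of_superset (Groth.Agent.AdicTop.mem_nhds_of_isOpen (hKo k)) hk⟩⟩
  haveI : (uniformity B).IsCountablyGenerated := by
    rw [uniformity_eq_comap_nhds_zero]; infer_instance
  refine UniformSpace.complete_of_cauchySeq_tendsto fun y hy => ?_
  have hN : ∀ k, ∃ N, ∀ i ≥ N, ∀ j ≥ N, y j - y i ∈ K k := fun k => by
    have hmem : {p : B × B | p.2 - p.1 ∈ K k} ∈ uniformity B := by
      rw [uniformity_eq_comap_nhds_zero]
      exact Filter.preimage_mem_comap (Groth.Agent.AdicTop.mem_nhds_of_isOpen (hKo k))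
    obtain ⟨N, hN⟩ := cauchySeq_iff.1 hy _ hmem
    exact ⟨N, fun i hi j hj => hN i hi j hj⟩
  choose N hN using hN
  let M : ℕ → ℕ := fun k => Nat.rec (N 0) (fun j Mj => max Mj (N (j + 1))) k
  have hMN : ∀ k, N k ≤ M k := fun k => by cases k with | zero => exact le_rfl | succ k => exact le_max_right _ _
  have hMmono : ∀ k, M k ≤ M (k + 1) := fun k => le_max_left _ _
  let X : ∀ k : ℕ, {x : A // φ x = y (M k)} := fun k =>
    Nat.rec ⟨_, (hsurj (y (M 0))).choose_spec⟩ (fun j Xj => ⟨Xj.1 + (hlift j (y (M (j + 1)) - y (M j))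
        (hN j _ (hMN j) _ ((hMN j).trans (hMmono j)))).choose, by
      rw [map_add, (hlift j _ (hN j _ (hMN j) _ ((hMN j).trans (hMmono j)))).choose_spec.2, Xj.2]
      abel⟩) k
  obtain ⟨L, hL⟩ := Groth.Agent.AdicTop.exists_limit_of_step (fun j => (W j).toAddSubgroup) (fun p q h => hWanti h)
    (fun j => Groth.Agent.AdicTop.isClosed_of_isOpen_ideal (hWo _)) hWsmall (fun k => (X k).1) (fun j => by
      show (X j).1 + _ - (X j).1 ∈ W j
      rw [add_sub_cancel_left]
      exact (hlift j _ (hN j _ (hMN j) _ ((hMN j).trans (hMmono j)))).choose_spec.1)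
  refine ⟨φ L, ?_⟩
  refine tendsto_sub_nhds_zero_iff.1 (Filter.tendsto_atTop'.2 fun U hU => ?_)
  obtain ⟨k, hk⟩ := hKsmall U hU
  refine ⟨M k, fun i hi => hk ?_⟩
  rw [show y i - φ L = (y i - y (M k)) - φ (L - (X k).1) by rw [map_sub, (X k).2]; abel]
  exact sub_mem (hN k _ (hMN k) _ ((hMN k).trans hi)) (Groth.Agent.AdicTop.le_closure _ (Ideal.mem_map_of_mem φ (hL k)))

end Groth.Agent.S10155
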