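import Groth.Statements.S10156
import Groth.Agent.AdicTop.Basic

set_option autoImplicit false
universe u v w
open LinTop

namespace Groth.Agent.S10156

/-- Given pre-adic rings A, B, C and continuous ring maps ψ : B → C and φ : A → B, adicness of the
composite A → C implies that ψ is adic. -/
theorem result
    (A : Type u) [CommRing A] [TopologicalSpace A] [IsTopologicalRing A] (hA : LinTop.IsPreadic A)
    (B : Type v) [CommRing B] [TopologicalSpace B] [IsTopologicalRing B] (hB : LinTop.IsPreadic B)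
    (C : Type w) [CommRing C] [TopologicalSpace C] [IsTopologicalRing C] (hC : LinTop.IsPreadic C)
    (φ : A →+* B) (ψ : B →+* C) (hφ : Continuous φ) (hψ : Continuous ψ)
    (h : LinTop.IsAdicHom (ψ.comp φ)) : LinTop.IsAdicHom ψ := by
  obtain ⟨I, hI, hK⟩ := h
  obtain ⟨J₀, hJ₀⟩ := hB
  have hJ₀' := Groth.Agent.AdicTop.isIdealOfDefinition_of_isAdic hJ₀
  obtain ⟨n, hn, hnJ⟩ := hI.2 _ ((hJ₀'.1.preimage hφ).mem_nhds (by simp) : φ ⁻¹' (J₀ : Set B) ∈ nhds 0)
  have hJ := Groth.Agent.AdicTop.isIdealOfDefinition_of_pow_le hJ₀' (Groth.Agent.AdicTop.isOpen_of_le le_sup_left hJ₀'.1) hn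
    ((Groth.Agent.AdicTop.sup_pow_le J₀ (I.map φ) n).trans (sup_le le_rfl (by
      rw [← Ideal.map_pow]; exact Ideal.map_le_iff_le_comap.2 hnJ)))
  refine ⟨J₀ ⊔ I.map φ, hJ, ?_⟩
  have hle : I.map (ψ.comp φ) ≤ (J₀ ⊔ I.map φ).map ψ := by
    rw [← Ideal.map_map]; exact Ideal.map_mono le_sup_right
  obtain ⟨ho, hb⟩ := isAdic_iff.1 hK
  refine isAdic_iff.2 ⟨fun k => Groth.Agent.AdicTop.isOpen_of_le (Ideal.pow_right_mono hle k) (ho k), fun s hs => ?_⟩
  obtain ⟨k, hk⟩ := hb s hs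
  obtain ⟨m, -, hm⟩ := hJ.2 _
    (((ho k).preimage hψ).mem_nhds (by simp) : ψ ⁻¹' (_ : Set C) ∈ nhds 0)
  refine ⟨m, fun x hx => hk ?_⟩
  rw [← Ideal.map_pow] at hx
  exact Ideal.map_le_iff_le_comap.2 hm hx

end Groth.Agent.S10156
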