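import Groth.Statements.S10157
import Groth.Agent.AdicTop.Basic

set_option autoImplicit false
universe u v
open LinTop

namespace Groth.Agent.S10157

/-- A continuous adic homomorphism φ : A → B between pre-adic topological rings is taut. -/
theorem result
    (A : Type u) [CommRing A] [TopologicalSpace A] [IsTopologicalRing A] (hA : LinTop.IsPreadic A)
    (B : Type v) [CommRing B] [TopologicalSpace B] [IsTopologicalRing B] (hB : LinTop.IsPreadic B)
    (φ : A →+* B) (hφ : Continuous φ) (h : LinTop.IsAdicHom φ) : LinTop.IsTaut φ := by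
  obtain ⟨I, hI, hK⟩ := h
  obtain ⟨J, hJ⟩ := hA
  obtain ⟨hIo, -⟩ := isAdic_iff.1 (Groth.Agent.AdicTop.isAdic_of_isIdealOfDefinition hJ hI)
  obtain ⟨ho, hb⟩ := isAdic_iff.1 hK
  refine ⟨hφ, fun V hV => ?_, fun U hU => ?_⟩
  · obtain ⟨n, -, hn⟩ := hI.2 _ (Groth.Agent.AdicTop.mem_nhds_of_isOpen hV)
    refine Groth.Agent.AdicTop.isOpen_of_le (J := (V.map φ).closure) (I := (I.map φ) ^ n) ?_ (ho n)
    rw [← Ideal.map_pow]
    exact (Ideal.map_mono hn).trans (Groth.Agent.AdicTop.le_closure _)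
  · obtain ⟨n, hn⟩ := hb U hU
    refine ⟨I ^ n, hIo n, ?_⟩
    rw [Ideal.map_pow, (Groth.Agent.AdicTop.isClosed_of_isOpen_ideal (ho n)).closure_eq]
    exact hn

end Groth.Agent.S10157
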