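import Groth.Statements.S10159
import Groth.Agent.AdicTop.Completion
import Mathlib.Tactic.TFAE

set_option autoImplicit false
universe u
open LinTop

namespace Groth.Agent.S10159

theorem IsPreadic.mk' {A : Type u} [CommRing A] (I : Ideal A) :
    @LinTop.IsPreadic A _ I.adicTopology := ⟨I, rfl⟩

theorem isTaut_of_isAdic {A' : Type u} [CommRing A'] [TopologicalSpace A'] [IsTopologicalRing A']
    {A : Type u} [CommRing A] [TopologicalSpace A] [IsTopologicalRing A]
    {I : Ideal A'} (hI : IsAdic I) (φ : A' →+* A)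
    (ho : ∀ n, IsOpen (closure (((I.map φ) ^ n : Ideal A) : Set A)))
    (hb : ∀ U ∈ nhds (0 : A), ∃ n, closure (((I.map φ) ^ n : Ideal A) : Set A) ⊆ U) :
    LinTop.IsTaut φ := by
  obtain ⟨hIo, hIb⟩ := isAdic_iff.1 hI
  refine ⟨continuous_of_continuousAt_zero φ ?_, fun V hV => ?_, fun U hU => ?_⟩
  · intro U hU
    rw [map_zero] at hU
    obtain ⟨n, hn⟩ := hb U hU
    refine Filter.mem_map.2 (Filter.mem_of_superset (Groth.Agent.AdicTop.mem_nhds_of_isOpen (hIo n)) fun x hx => hn (subset_closure ?_))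
    rw [SetLike.mem_coe, ← Ideal.map_pow]
    exact Ideal.mem_map_of_mem φ hx
  · obtain ⟨n, hn⟩ := hIb _ (Groth.Agent.AdicTop.mem_nhds_of_isOpen hV)
    refine Groth.Agent.AdicTop.isOpen_of_le (I := ((I.map φ) ^ n).closure) (J := (V.map φ).closure) ?_ (ho n)
    rw [← Ideal.map_pow]
    exact Groth.Agent.AdicTop.closure_mono (Ideal.map_mono hn)
  · obtain ⟨n, hn⟩ := hb U hU
    exact ⟨I ^ n, hIo n, by rw [Ideal.map_pow]; exact hn⟩

/-- For a ring A carrying a linear topology, the following four conditions are equivalent: (1) A is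
weakly pre-adic; (2) there exist a pre-adic topological ring A' and a taut continuous ring
homomorphism A' → A (A' is taken in the universe of A, which suffices since A with an adic topology
serves); (3) A has an ideal of definition, and for at least one ideal of definition I every closure
cl(I^n) with n ≥ 1 is open; (4) A has an ideal of definition, and for each of its ideals of
definition I every closure cl(I^n) with n ≥ 1 is open. -/
theorem result
    (A : Type u) [CommRing A] [TopologicalSpace A] [IsTopologicalRing A] [IsLinearTopology A A] :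
    List.TFAE [LinTop.IsWeaklyPreadic A,
      ∃ (A' : Type u) (_ : CommRing A') (_ : TopologicalSpace A') (_ : IsTopologicalRing A')
        (φ : A' →+* A), LinTop.IsPreadic A' ∧ LinTop.IsTaut φ,
      LinTop.IsPreadmissible A ∧ ∃ I : Ideal A, LinTop.IsIdealOfDefinition A I ∧
        ∀ n : ℕ, 0 < n → IsOpen (closure ((I ^ n : Ideal A) : Set A)),
      LinTop.IsPreadmissible A ∧ ∀ I : Ideal A, LinTop.IsIdealOfDefinition A I →
        ∀ n : ℕ, 0 < n → IsOpen (closure ((I ^ n : Ideal A) : Set A))] := by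
  tfae_have 1 → 2 := by
    rintro ⟨hlin, I, hopen, hbasis⟩
    exact ⟨A, inferInstance, I.adicTopology, (I.nonarchimedean).toIsTopologicalRing, RingHom.id A,
      @IsPreadic.mk' A _ I,
      @isTaut_of_isAdic A _ I.adicTopology (I.nonarchimedean).toIsTopologicalRing A _ _ _ I rfl
        (RingHom.id A) (fun n => by rw [Ideal.map_id]; exact hopen n)
        (fun U hU => by
          obtain ⟨n, hn⟩ := hbasis U hU
          exact ⟨n, by rw [Ideal.map_id]; exact hn⟩)⟩
  tfae_have 2 → 1 := by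
    rintro ⟨A', i1, i2, i3, φ, hA', hφ⟩
    refine Groth.Agent.AdicTop.isWeaklyPreadic_of_isTaut hφ ?_
    obtain ⟨I, hI⟩ := hA'
    obtain ⟨ho, hb⟩ := isAdic_iff.1 hI
    refine ⟨Groth.Agent.AdicTop.isLinearTopology_of_isPreadic ⟨I, hI⟩, I, fun n => ?_, fun U hU => ?_⟩
    · exact Groth.Agent.AdicTop.isOpen_of_le (J := (I ^ n).closure) (Groth.Agent.AdicTop.le_closure _) (ho n)
    · obtain ⟨n, hn⟩ := hb U hU
      exact ⟨n, by rw [(Groth.Agent.AdicTop.isClosed_of_isOpen_ideal (ho n)).closure_eq]; exact hn⟩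
  tfae_have 1 → 4 := by
    intro h
    refine ⟨?_, fun I hI n _ => Groth.Agent.AdicTop.isOpen_closure_pow_of_isWeaklyPreadic h hI.1 n⟩
    obtain ⟨hlin, I, hopen, hbasis⟩ := h
    refine ⟨hlin, I.closure, by simpa using hopen 1, fun U hU => ?_⟩
    obtain ⟨n, hn⟩ := hbasis U hU
    exact ⟨n + 1, n.succ_pos, fun x hx => hn ((Groth.Agent.AdicTop.closure_pow_le I (n + 1)).trans
      (Groth.Agent.AdicTop.closure_mono (Ideal.pow_le_pow_right n.le_succ)) hx)⟩
  tfae_have 4 → 3 := by
    rintro ⟨⟨hl, I, hI⟩, h⟩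
    exact ⟨⟨hl, I, hI⟩, I, hI, h I hI⟩
  tfae_have 3 → 1 := by
    rintro ⟨⟨hl, -⟩, I, hI, h⟩
    refine ⟨hl, I, fun n => ?_, fun U hU => ?_⟩
    · rcases Nat.eq_zero_or_pos n with rfl | hn
      · simp
      · exact h n hn
    · obtain ⟨V, hV, hVU⟩ := Groth.Agent.AdicTop.exists_open_ideal_subset hU
      obtain ⟨n, -, hn⟩ := hI.2 _ (Groth.Agent.AdicTop.mem_nhds_of_isOpen hV)
      exact ⟨n, fun x hx => hVU (Groth.Agent.AdicTop.closure_le_of_isOpen hV hn hx)⟩
  tfae_finish

end Groth.Agent.S10159
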