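import Groth.Statements.S1016
import Groth.Agent.Dual22Lib.CompactPerf

set_option autoImplicit false
universe u
open CategoryTheory CategoryTheory.Limits AlgebraicGeometry
attribute [local instance] HasDerivedCategory.standard
open Perf

namespace Groth.Agent.S1016

open CategoryTheory CategoryTheory.Limits AlgebraicGeometry Groth.Agent.Dual22Lib


/-- Let X be a quasi-compact and quasi-separated scheme and T ⊆ X a closed subset whose complement is
quasi-compact and nonempty (the case T = X is stated separately). Let K ∈ D(O_X) have quasi-coherent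
cohomology sheaves supported on T. Then K is compact in D_{QCoh,T}(O_X) (with respect to small
direct sums of objects with quasi-coherent cohomology supported on T) if and only if K is a perfect
object of D(O_X). -/
theorem result (X : Scheme.{u}) [CompactSpace ↥X] [QuasiSeparatedSpace ↥X]
    (T : Set X) (hT : IsClosed T) (hTc : IsCompact Tᶜ) (hTne : Tᶜ.Nonempty)
    (K : DCoh.D X) (hK : DCoh.IsQCohD K) (hKT : ∀ i : ℤ, CohB1.support (DCoh.HD K i) ⊆ T) :
    PerfAux.IsCompactObjRel.{u} (fun L : DCoh.D X => DCoh.IsQCohD L ∧ ∀ i : ℤ, CohB1.support (DCoh.HD L i) ⊆ T) K ↔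
      DCoh.IsPerfect K := by
  let O : X.Opens := ⟨Tᶜ, hT.isOpen_compl⟩
  have hs : ∀ E : DCoh.D X, AdjGeom.killed O.ι E ↔ ∀ i : ℤ, CohB1.support (DCoh.HD E i) ⊆ T := fun E => by
    rw [CompactPerf.killed_iff_support]
    simp [O]
  refine ⟨fun h => CompactPerf.isPerfect_of_compact hK
      (CompactPerf.compact_of_supported O hTc ((hs K).2 hKT) fun ι L _ hL =>
        CompactPerf.sumFac_of_bijective (h ι L fun i => ⟨(hL i).1, (hs _).1 (hL i).2⟩)),
    fun h ι L _ hL => Groth.Agent.DQCoh.isCompactObjRel_perfect K h ι L fun i => (hL i).1⟩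

end Groth.Agent.S1016
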