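import Groth.Statements.S10160
import Groth.Agent.AdicTop.Basic

set_option autoImplicit false
universe u
open LinTop

namespace Groth.Agent.S10160

/-- A weakly adic topological ring is admissible and has a countable fundamental system of open ideals. -/
theorem result
    (A : Type u) [CommRing A] [UniformSpace A] [IsUniformAddGroup A] [IsTopologicalRing A] (hA : LinTop.IsWeaklyAdic A) :
    LinTop.IsAdmissible A ∧ (nhds (0 : A)).IsCountablyGenerated := by
  obtain ⟨⟨hlin, I, hopen, hbasis⟩, ht, hc⟩ := hA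
  refine ⟨⟨⟨hlin, I.closure, by rw [Ideal.coe_closure]; simpa using hopen 1, fun U hU => ?_⟩, ht, hc⟩,
    Filter.HasBasis.isCountablyGenerated (ι := ℕ) (p := fun _ => True)
      (s := fun k => closure ((I ^ k : Ideal A) : Set A)) ⟨fun U => ⟨fun hU => ?_, fun ⟨k, _, hk⟩ => ?_⟩⟩⟩
  · obtain ⟨n, hn⟩ := hbasis U hU
    exact ⟨n + 1, n.succ_pos, fun x hx =>
      hn ((Groth.Agent.AdicTop.closure_pow_le I (n + 1)).trans (Groth.Agent.AdicTop.closure_mono (Ideal.pow_le_pow_right n.le_succ)) hx)⟩
  · obtain ⟨n, hn⟩ := hbasis U hU; exact ⟨n, trivial, hn⟩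
  · exact Filter.mem_of_superset ((hopen k).mem_nhds (subset_closure (I ^ k).zero_mem)) hk

end Groth.Agent.S10160
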