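import Groth.Statements.S10164
import Groth.Agent.AdicTop.Completion

set_option autoImplicit false
universe u
open LinTop

namespace Groth.Agent.S10164

/-- Let A be weakly adic and I an ideal of definition of A with I/I₂ finitely generated, where I₂
denotes the closure of I^2 (here: I maps onto a finitely generated ideal of A/I₂). Then A is adic,
and some finitely generated ideal of A is an ideal of definition. -/
theorem result
    (A : Type u) [CommRing A] [UniformSpace A] [IsUniformAddGroup A] [IsTopologicalRing A] (hA : LinTop.IsWeaklyAdic A)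
    (I : Ideal A) (hI : LinTop.IsIdealOfDefinition A I)
    (hfg : (I.map (Ideal.Quotient.mk ((I ^ 2).closure))).FG) :
    LinTop.IsAdicRing A ∧ ∃ J : Ideal A, LinTop.IsIdealOfDefinition A J ∧ J.FG := by
  obtain ⟨⟨hlin, I₀, hI₀o, hI₀b⟩, ht, hc⟩ := hA
  have hw : LinTop.IsWeaklyPreadic A := ⟨hlin, I₀, hI₀o, hI₀b⟩
  have hopen : ∀ n, IsOpen ((I ^ n).closure : Set A) :=
    Groth.Agent.AdicTop.isOpen_closure_pow_of_isWeaklyPreadic hw hI.1
  classical
  obtain ⟨s, hs⟩ := hfg
  have hsI : ∀ y ∈ s, ∃ x ∈ I, Ideal.Quotient.mk (I ^ 2).closure x = y := fun y hy =>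
    (Ideal.mem_map_iff_of_surjective _ Ideal.Quotient.mk_surjective).1
      (hs ▸ Submodule.subset_span hy)
  choose t ht' htm using hsI
  set J : Ideal A := Ideal.span (s.attach.image fun y => t y.1 y.2 : Finset A)
  have hJI : J ≤ I := by
    rw [Ideal.span_le]
    intro z hz
    obtain ⟨y, -, rfl⟩ := Finset.mem_image.1 hz
    exact ht' _ _
  have h2 : I ≤ J ⊔ (I ^ 2).closure := by
    intro x hx
    have h1 : Ideal.Quotient.mk (I ^ 2).closure x ∈ J.map (Ideal.Quotient.mk (I ^ 2).closure) := by
      refine (?_ : I.map (Ideal.Quotient.mk (I ^ 2).closure) ≤ _) (Ideal.mem_map_of_mem _ hx)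
      rw [← hs, Submodule.span_le]
      intro y hy
      rw [← htm y hy]
      exact Ideal.mem_map_of_mem _ (Ideal.subset_span (Finset.mem_image.2 ⟨⟨y, hy⟩, by simp⟩))
    rw [← Ideal.mem_comap, Ideal.comap_map_of_surjective _ Ideal.Quotient.mk_surjective,
      ← RingHom.ker_eq_comap_bot, Ideal.mk_ker] at h1
    exact h1
  have hstep : ∀ n, I ^ (n + 1) ≤ J ^ (n + 1) ⊔ (I ^ (n + 2)).closure := by
    intro n
    induction n with
    | zero => simpa using h2
    | succ n ih =>
      calc I ^ (n + 2) = I ^ (n + 1) * I := pow_succ _ _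
        _ ≤ (J ^ (n + 1) ⊔ (I ^ (n + 2)).closure) * I := Ideal.mul_mono_left ih
        _ ≤ _ := by
          rw [Ideal.sup_mul]
          refine sup_le ((Ideal.mul_mono_right h2).trans ?_) (le_sup_of_le_right ?_)
          · rw [Ideal.mul_sup, ← pow_succ]
            refine sup_le le_sup_left (le_sup_of_le_right ?_)
            refine (Ideal.mul_mono ((Ideal.pow_right_mono hJI _).trans (Groth.Agent.AdicTop.le_closure _)) le_rfl).trans
              ((Groth.Agent.AdicTop.closure_mul_le _ _).trans ?_)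
            rw [← pow_add]
          · refine (Ideal.mul_mono_right (Groth.Agent.AdicTop.le_closure I)).trans ((Groth.Agent.AdicTop.closure_mul_le _ _).trans ?_)
            rw [← pow_succ]
  have hcl : ∀ n, (I ^ (n + 1)).closure ≤ (J ^ (n + 1)).closure := by
    intro n
    have h3 : ∀ d, I ^ (n + 1) ≤ J ^ (n + 1) ⊔ (I ^ (n + 1 + d)).closure := by
      intro d
      induction d with
      | zero => exact le_sup_of_le_right (Groth.Agent.AdicTop.le_closure _)
      | succ d ih =>
        refine ih.trans (sup_le le_sup_left ?_)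
        refine Groth.Agent.AdicTop.closure_le_of_isOpen
          (Groth.Agent.AdicTop.isOpen_of_le (le_sup_right : _ ≤ J ^ (n + 1) ⊔ (I ^ (n + 1 + (d + 1))).closure) (hopen _))
          ?_
        rw [show n + 1 + d = n + d + 1 by omega]
        refine (hstep (n + d)).trans (sup_le_sup (Ideal.pow_le_pow_right (by omega)) (le_of_eq ?_))
        rw [show n + 1 + (d + 1) = n + d + 2 by omega]
    refine Groth.Agent.AdicTop.closure_le_of_isClosed isClosed_closure fun x hx => ?_
    rw [Groth.Agent.AdicTop.mem_closure_iff]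
    intro V hV
    obtain ⟨k, -, hk⟩ := hI.2 _ (Groth.Agent.AdicTop.mem_nhds_of_isOpen hV)
    refine (sup_le le_sup_left (le_sup_of_le_right (Groth.Agent.AdicTop.closure_le_of_isOpen hV ?_)) : _ ≤ _) (h3 k hx)
    exact (Ideal.pow_le_pow_right (by omega)).trans hk
  have hJopen : ∀ n, IsOpen ((J ^ n).closure : Set A) := by
    intro n
    cases n with
    | zero => exact Groth.Agent.AdicTop.isOpen_of_le (Groth.Agent.AdicTop.closure_mono (by simp)) (hopen 0)
    | succ n => exact Groth.Agent.AdicTop.isOpen_of_le (hcl n) (hopen _)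
  have hJad : IsAdic J := Groth.Agent.AdicTop.isAdic_of_fg_of_closure J ⟨_, rfl⟩ hJopen fun U hU => by
    obtain ⟨V, hV, hVU⟩ := Groth.Agent.AdicTop.exists_open_ideal_subset hU
    obtain ⟨k, -, hk⟩ := hI.2 _ (Groth.Agent.AdicTop.mem_nhds_of_isOpen hV)
    exact ⟨k, fun x hx => hVU (Groth.Agent.AdicTop.closure_le_of_isOpen hV ((Ideal.pow_right_mono hJI k).trans hk) hx)⟩
  exact ⟨⟨⟨J, hJad⟩, ht, hc⟩, J, Groth.Agent.AdicTop.isIdealOfDefinition_of_isAdic hJad, ⟨_, rfl⟩⟩

end Groth.Agent.S10164
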