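import Groth.Statements.S10166
import Groth.Agent.AdicTop.Basic

set_option autoImplicit false
universe u v
open LinTop

namespace Groth.Agent.S10166

/-- Let φ : A → B be a taut homomorphism of linearly topologized rings such that for every open ideal I
of A, with J the closure of φ(I)B, the induced map A/I → B/J is faithfully flat. If B has a
countable fundamental system of open ideals, then so does A. -/
theorem result
    (A : Type u) [CommRing A] [TopologicalSpace A] [IsTopologicalRing A] [IsLinearTopology A A]
    (B : Type v) [CommRing B] [TopologicalSpace B] [IsTopologicalRing B] [IsLinearTopology B B]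
    (φ : A →+* B) (hφ : LinTop.IsTautFFlat φ) (hB : (nhds (0 : B)).IsCountablyGenerated) :
    (nhds (0 : A)).IsCountablyGenerated := by
  obtain ⟨s, hs⟩ := Filter.exists_antitone_basis (nhds (0 : B))
  choose V hV hVs using fun k => hφ.1.2.2 (s k) (hs.toHasBasis.mem_of_mem (i := k) trivial)
  refine Filter.HasBasis.isCountablyGenerated (ι := ℕ) (p := fun _ => True)
    (s := fun k => (V k : Set A)) ⟨fun U => ⟨fun hU => ?_, fun ⟨k, _, hk⟩ => ?_⟩⟩
  · obtain ⟨W, hW, hWU⟩ := Groth.Agent.AdicTop.exists_open_ideal_subset hU
    obtain ⟨k, -, hk⟩ := hs.toHasBasis.mem_iff.1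
      ((hφ.1.2.1 W hW).mem_nhds (subset_closure (W.map φ).zero_mem))
    refine ⟨k, trivial, fun x hx => hWU (Groth.Agent.AdicTop.le_of_map_le_closure hφ hW ?_ hx)⟩
    exact fun y hy => hk (hVs k (subset_closure hy))
  · exact Filter.mem_of_superset (Groth.Agent.AdicTop.mem_nhds_of_isOpen (hV k)) hk

end Groth.Agent.S10166
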