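import Groth.Statements.S10167
import Groth.Agent.AdicTop.Basic

set_option autoImplicit false
universe u v
open LinTop

namespace Groth.Agent.S10167

/-- Let φ : A → B be a taut homomorphism of linearly topologized rings such that for every open ideal I
of A the induced ring map A/I → B/J, where J denotes the closure of φ(I)B, is faithfully flat. If B
has a weak ideal of definition (B is weakly pre-admissible), then so does A. -/
theorem result
    (A : Type u) [CommRing A] [TopologicalSpace A] [IsTopologicalRing A] [IsLinearTopology A A]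
    (B : Type v) [CommRing B] [TopologicalSpace B] [IsTopologicalRing B] [IsLinearTopology B B]
    (φ : A →+* B) (hφ : LinTop.IsTautFFlat φ) (hB : LinTop.IsWeaklyPreadmissible B) :
    LinTop.IsWeaklyPreadmissible A := by
  obtain ⟨-, J, hJ⟩ := hB
  obtain ⟨I, hI, hIJ⟩ := hφ.1.2.2 _ (Groth.Agent.AdicTop.mem_nhds_of_isOpen hJ.1)
  refine ⟨inferInstance, I, hI, fun f hf => Filter.tendsto_atTop'.2 fun U hU => ?_⟩
  obtain ⟨V, hV, hVU⟩ := Groth.Agent.AdicTop.exists_open_ideal_subset hU
  obtain ⟨k, hk⟩ := Groth.Agent.AdicTop.exists_pow_mem_of_isOpen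
    (hJ.2 _ (hIJ (subset_closure (Ideal.mem_map_of_mem φ hf))))
    (V := (V.map φ).closure) (hφ.1.2.1 V hV)
  refine ⟨k, fun m hm => hVU (V.pow_mem_of_pow_mem ?_ hm)⟩
  exact Groth.Agent.AdicTop.mem_of_map_mem_closure hφ hV (by rwa [map_pow])

end Groth.Agent.S10167
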