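import Groth.Statements.S10168
import Groth.Agent.AdicTop.Basic

set_option autoImplicit false
universe u v
open LinTop

namespace Groth.Agent.S10168

/-- Let φ : A → B be a taut homomorphism of linearly topologized rings such that for every open ideal I
of A, with J the closure of φ(I)B, the induced map A/I → B/J is faithfully flat. If B is
pre-admissible, then A is pre-admissible. -/
theorem result
    (A : Type u) [CommRing A] [TopologicalSpace A] [IsTopologicalRing A] [IsLinearTopology A A]
    (B : Type v) [CommRing B] [TopologicalSpace B] [IsTopologicalRing B] [IsLinearTopology B B]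
    (φ : A →+* B) (hφ : LinTop.IsTautFFlat φ) (hB : LinTop.IsPreadmissible B) :
    LinTop.IsPreadmissible A := by
  obtain ⟨-, J, hJ⟩ := hB
  obtain ⟨I, hI, hIJ⟩ := hφ.1.2.2 _ (Groth.Agent.AdicTop.mem_nhds_of_isOpen hJ.1)
  refine ⟨inferInstance, I, hI, fun U hU => ?_⟩
  obtain ⟨V, hV, hVU⟩ := Groth.Agent.AdicTop.exists_open_ideal_subset hU
  obtain ⟨n, hn, hnV⟩ := hJ.2 _ ((hφ.1.2.1 V hV).mem_nhds (subset_closure (V.map φ).zero_mem))
  refine ⟨n, hn, fun x hx => hVU (Groth.Agent.AdicTop.le_of_map_le_closure hφ hV ?_ hx)⟩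
  rw [Ideal.map_pow]
  exact (Ideal.pow_right_mono (fun y hy => hIJ (subset_closure hy)) n).trans hnV

end Groth.Agent.S10168
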