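import Groth.Statements.S10169
import Groth.Agent.AdicTop.Completion

set_option autoImplicit false
universe u v
open LinTop

namespace Groth.Agent.S10169

/-- Let φ : A → B be a taut homomorphism of linearly topologized rings such that for every open ideal I
of A the induced ring map A/I → B/J, where J denotes the closure of φ(I)B, is faithfully flat. Weak
pre-adicness then descends: when B is weakly pre-adic, A is as well. -/
theorem result
    (A : Type u) [CommRing A] [TopologicalSpace A] [IsTopologicalRing A] [IsLinearTopology A A]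
    (B : Type v) [CommRing B] [TopologicalSpace B] [IsTopologicalRing B] [IsLinearTopology B B]
    (φ : A →+* B) (hφ : LinTop.IsTautFFlat φ) (hB : LinTop.IsWeaklyPreadic B) :
    LinTop.IsWeaklyPreadic A := by
  obtain ⟨-, J, hopen, hbasis⟩ := hB
  have hJ1 : IsOpen (((J ^ 1).closure : Ideal B) : Set B) := hopen 1
  obtain ⟨I, hI, hIJ⟩ := hφ.1.2.2 _ (Groth.Agent.AdicTop.mem_nhds_of_isOpen hJ1)
  refine ⟨inferInstance, I, fun n => ?_, fun U hU => ?_⟩
  · obtain ⟨m, hm⟩ := hbasis _ ((hφ.1.2.1 I hI).mem_nhds (subset_closure (I.map φ).zero_mem))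
    have hBo : IsOpen ((((I ^ n).map φ).closure : Ideal B) : Set B) := by
      refine Groth.Agent.AdicTop.isOpen_of_le (I := (J ^ (m * n)).closure) ?_ (hopen _)
      rw [pow_mul, Ideal.map_pow]
      exact Groth.Agent.AdicTop.closure_le_of_isClosed isClosed_closure
        ((Ideal.pow_right_mono (fun y hy => hm (subset_closure hy)) n).trans (Groth.Agent.AdicTop.closure_pow_le _ n))
    obtain ⟨W, hW, hWn⟩ := hφ.1.2.2 _ (Groth.Agent.AdicTop.mem_nhds_of_isOpen hBo)
    refine Groth.Agent.AdicTop.isOpen_of_le (I := W) (J := (I ^ n).closure) (fun x hx => ?_) hW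
    rw [Groth.Agent.AdicTop.mem_closure_iff]
    intro V hV
    refine Groth.Agent.AdicTop.mem_of_map_mem_closure hφ (Groth.Agent.AdicTop.isOpen_of_le le_sup_right hV) ?_
    exact Groth.Agent.AdicTop.closure_mono (Ideal.map_mono le_sup_left)
      (hWn (subset_closure (Ideal.mem_map_of_mem φ hx)))
  · obtain ⟨V, hV, hVU⟩ := Groth.Agent.AdicTop.exists_open_ideal_subset hU
    obtain ⟨k, hk⟩ := hbasis _ ((hφ.1.2.1 V hV).mem_nhds (subset_closure (V.map φ).zero_mem))
    refine ⟨k, fun x hx => hVU (Groth.Agent.AdicTop.closure_le_of_isOpen hV (Groth.Agent.AdicTop.le_of_map_le_closure hφ hV ?_) hx)⟩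
    rw [Ideal.map_pow]
    refine (Ideal.pow_right_mono (fun y hy => ?_ : I.map φ ≤ J.closure) k).trans
      ((Groth.Agent.AdicTop.closure_pow_le J k).trans fun y hy => hk hy)
    have := hIJ (subset_closure hy)
    rwa [pow_one] at this

end Groth.Agent.S10169
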