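import Groth.Statements.S1017
import Groth.Agent.DQCoh.CohExtend
-- import your own Groth.Agent.* helpers here

set_option autoImplicit false
universe u
open CategoryTheory CategoryTheory.Limits AlgebraicGeometry
attribute [local instance] HasDerivedCategory.standard
open Perf

namespace Groth.Agent.S1017

/-- Let X be a Noetherian scheme and U ⊆ X an open subscheme. Every bounded object F of D(O_U) with
coherent cohomology sheaves is the restriction of such an object on X: there is a complex G of
O_X-modules, bounded with coherent cohomology as an object of D(O_X), whose termwise restriction to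
U is isomorphic to F in D(O_U). -/
theorem result (X : Scheme.{u}) [IsNoetherian X] (U : X.Opens)
    (F : DCoh.D (U : Scheme.{u})) (hF : DCoh.IsCohD F) (a b : ℤ) [F.IsGE a] [F.IsLE b] :
    ∃ (G : CochainComplex X.Modules ℤ) (a' b' : ℤ), DCoh.IsCohD (DCoh.toD X G) ∧ (DCoh.toD X G).IsGE a' ∧ (DCoh.toD X G).IsLE b' ∧
      Nonempty (DerivedCategory.Q.obj ((DCoh.restrictCx U).obj G) ≅ F) := by
  haveI : CategoryTheory.Limits.PreservesFiniteLimits (AlgebraicGeometry.Scheme.Modules.restrictFunctor U.ι) := inferInstance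
  obtain ⟨G, ⟨hGc, a₁, b₁, ha₁, hb₁⟩, ⟨g⟩⟩ := Groth.Agent.DQCoh.CohExt.exists_ext U F ⟨hF, a, b, ‹_›, ‹_›⟩
  refine ⟨DerivedCategory.Q.objPreimage G, a₁, b₁, ?_, ?_, ?_, ⟨?_⟩⟩
  · exact fun i => Groth.Agent.DQCoh.CohExt.isCoh_of_iso ((DerivedCategory.homologyFunctor X.Modules i).mapIso (DerivedCategory.Q.objObjPreimageIso G).symm) (hGc i)
  · exact DerivedCategory.TStructure.t.isGE_of_iso (DerivedCategory.Q.objObjPreimageIso G).symm a₁
  · exact DerivedCategory.TStructure.t.isLE_of_iso (DerivedCategory.Q.objObjPreimageIso G).symm b₁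
  · exact ((AlgebraicGeometry.Scheme.Modules.restrictFunctor U.ι).mapDerivedCategoryFactors.app _).symm ≪≫ (DCoh.restrictD U.ι).mapIso (DerivedCategory.Q.objObjPreimageIso G) ≪≫ g

end Groth.Agent.S1017

#print axioms Groth.Agent.S1017.result
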