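import Groth.Statements.S10170
import Groth.Agent.AdicTop.Completion
import Mathlib.RingTheory.Finiteness.Ideal

set_option autoImplicit false
universe u v
open LinTop

namespace Groth.Agent.S10170

/-- Let φ : A → B be a taut homomorphism of linearly topologized rings such that for every open ideal I
of A the induced ring map A/I → B/J, where J denotes the closure of φ(I)B, is faithfully flat.
Suppose A is Hausdorff and complete, and B is adic with some finitely generated ideal of definition.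
Then A is adic, and some finitely generated ideal of A is an ideal of definition. -/
theorem result
    (A : Type u) [CommRing A] [UniformSpace A] [IsUniformAddGroup A] [IsTopologicalRing A] [IsLinearTopology A A] [T2Space A] [CompleteSpace A]
    (B : Type v) [CommRing B] [UniformSpace B] [IsUniformAddGroup B] [IsTopologicalRing B] (hB : LinTop.IsAdicRing B)
    (hJ : ∃ J : Ideal B, LinTop.IsIdealOfDefinition B J ∧ J.FG)
    (φ : A →+* B) (hφ : LinTop.IsTautFFlat φ) :
    LinTop.IsAdicRing A ∧ ∃ I : Ideal A, LinTop.IsIdealOfDefinition A I ∧ I.FG := by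
  obtain ⟨⟨J₀, hJ₀⟩, hBt, hBc⟩ := hB
  obtain ⟨J, hJ, hJfg⟩ := hJ
  have hlinB := Groth.Agent.AdicTop.isLinearTopology_of_isPreadic ⟨J₀, hJ₀⟩
  obtain ⟨hJo, hJb⟩ := isAdic_iff.1 (Groth.Agent.AdicTop.isAdic_of_isIdealOfDefinition hJ₀ hJ)
  obtain ⟨W, hW, hWJ⟩ := hφ.1.2.2 _ (Groth.Agent.AdicTop.mem_nhds_of_isOpen hJ.1)
  obtain ⟨m', hm'⟩ := hJb _ ((hφ.1.2.1 W hW).mem_nhds (subset_closure (W.map φ).zero_mem))
  set m := m' + 1
  have hm : J ^ m ≤ (W.map φ).closure := fun x hx => hm' (Ideal.pow_le_pow_right (by omega) hx)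
  -- a finitely generated `P ≤ W` whose image generates `J ^ m` modulo `J ^ (m + 1)`
  obtain ⟨P, hP, hPW, hJP⟩ : ∃ P : Ideal A, P.FG ∧ P ≤ W ∧ J ^ m ≤ P.map φ ⊔ J ^ (m + 1) := by
    classical
    obtain ⟨S, hS⟩ := hJfg.pow (n := m)
    have hgen : ∀ g ∈ S, ∃ P : Ideal A, P.FG ∧ P ≤ W ∧ g ∈ P.map φ ⊔ J ^ (m + 1) := by
      intro g hg
      have h1 := (Groth.Agent.AdicTop.mem_closure_iff _ g).1 (hm (hS ▸ Submodule.subset_span hg)) _ (hJo (m + 1))
      obtain ⟨a, ha, b, hb, rfl⟩ := Submodule.mem_sup.1 h1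
      obtain ⟨T, hTW, haT⟩ := Submodule.mem_span_finite_of_mem_span ha
      choose w hwW hw using fun z (hz : z ∈ T) => hTW hz
      refine ⟨Ideal.span (T.attach.image fun z => w z.1 z.2 : Finset A), ⟨_, rfl⟩, ?_,
        add_mem (Submodule.mem_sup_left ?_) (Submodule.mem_sup_right hb)⟩
      · rw [Ideal.span_le]
        intro z hz
        obtain ⟨y, -, rfl⟩ := Finset.mem_image.1 hz
        exact hwW _ _
      · refine (Submodule.span_le.2 fun z hz => ?_) haT
        rw [SetLike.mem_coe, ← hw z hz]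
        exact Ideal.mem_map_of_mem φ (Ideal.subset_span (Finset.mem_image.2 ⟨⟨z, hz⟩, by simp⟩))
    choose Q hQ hQW hgQ using hgen
    refine ⟨⨆ g : S, Q g.1 g.2, Submodule.fg_iSup _ fun g => hQ g.1 g.2, iSup_le fun g => hQW g.1 g.2, ?_⟩
    rw [← hS, Submodule.span_le]
    intro g hg
    have hle : (Q g hg).map φ ⊔ J ^ (m + 1) ≤ (⨆ g : S, Q g.1 g.2).map φ ⊔ J ^ (m + 1) :=
      sup_le_sup_right (Ideal.map_mono (le_iSup (fun g : S => Q g.1 g.2) ⟨g, hg⟩)) _
    exact hle (hgQ g hg)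
  have hPd : ∀ d, J ^ m ≤ P.map φ ⊔ J ^ (m + d) := by
    intro d
    induction d with
    | zero => exact le_sup_right
    | succ d ih =>
      refine ih.trans (sup_le le_sup_left ?_)
      calc J ^ (m + d) = J ^ d * J ^ m := by rw [← pow_add, Nat.add_comm d m]
        _ ≤ J ^ d * (P.map φ ⊔ J ^ (m + 1)) := Ideal.mul_mono_right hJP
        _ ≤ _ := by
          rw [Ideal.mul_sup, ← pow_add, show d + (m + 1) = m + (d + 1) by omega]
          exact sup_le_sup_right Ideal.mul_le_right _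
  -- powers of `P.map φ` are dense in open ideals
  have hPn : ∀ n, J ^ (m * n) ≤ ((P ^ n).map φ).closure := by
    intro n
    rw [pow_mul, Ideal.map_pow]
    refine (Ideal.pow_right_mono ?_ n).trans (Groth.Agent.AdicTop.closure_pow_le _ n)
    intro x hx
    rw [Groth.Agent.AdicTop.mem_closure_iff]
    intro V hV
    obtain ⟨k, hk⟩ := hJb _ (Groth.Agent.AdicTop.mem_nhds_of_isOpen hV)
    exact (sup_le_sup_left ((Ideal.pow_le_pow_right (Nat.le_add_left k m)).trans hk) _) (hPd k hx)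
  have hPopen : ∀ n, IsOpen ((P ^ n).closure : Set A) := by
    intro n
    obtain ⟨V', hV', hV'n⟩ := hφ.1.2.2 _ (Groth.Agent.AdicTop.mem_nhds_of_isOpen
      (Groth.Agent.AdicTop.isOpen_of_le (hPn n) (hJo _)))
    refine Groth.Agent.AdicTop.isOpen_of_le (I := V') (fun x hx => ?_) hV'
    rw [Groth.Agent.AdicTop.mem_closure_iff]
    intro V hV
    refine Groth.Agent.AdicTop.mem_of_map_mem_closure hφ (Groth.Agent.AdicTop.isOpen_of_le le_sup_right hV) ?_
    exact Groth.Agent.AdicTop.closure_mono (Ideal.map_mono le_sup_left)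
      (hV'n (subset_closure (Ideal.mem_map_of_mem φ hx)))
  have hPad : IsAdic P := Groth.Agent.AdicTop.isAdic_of_fg_of_closure P hP hPopen fun U hU => by
    obtain ⟨V, hV, hVU⟩ := Groth.Agent.AdicTop.exists_open_ideal_subset hU
    obtain ⟨k, hk⟩ := hJb _ ((hφ.1.2.1 V hV).mem_nhds (subset_closure (V.map φ).zero_mem))
    refine ⟨k, fun x hx => hVU (Groth.Agent.AdicTop.closure_le_of_isOpen hV (Groth.Agent.AdicTop.le_of_map_le_closure hφ hV ?_) hx)⟩
    rw [Ideal.map_pow]
    exact (Ideal.pow_right_mono (fun y hy => hWJ (subset_closure (Ideal.map_mono hPW hy))) k).trans hk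
  exact ⟨⟨⟨P, hPad⟩, ‹T2Space A›, ‹CompleteSpace A›⟩, P, Groth.Agent.AdicTop.isIdealOfDefinition_of_isAdic hPad, hP⟩

end Groth.Agent.S10170
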