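import Groth.Statements.S10172
import Groth.Agent.LinTopLib.Completion

set_option autoImplicit false
universe u v
open LinTop

namespace Groth.Agent.S10172

open Groth.Agent.LinTopLib

/-- Let M be a linearly topologized module over a ring R having a countable fundamental system of
neighbourhoods of 0, and N a submodule. With M^ and (M/N)^ the separated completions of M and of M/N
(quotient topology, additive uniform structure), the induced map M^ → (M/N)^ is surjective and open
(so, its kernel being the completion of N, the sequence 0 → N^ → M^ → (M/N)^ → 0 is exact). -/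
theorem result
    {R : Type u} [Ring R] {M : Type v} [AddCommGroup M] [Module R M] [UniformSpace M]
    [IsUniformAddGroup M] [IsLinearTopology R M] (hc : (nhds (0 : M)).IsCountablyGenerated)
    (N : Submodule R M) :
    Function.Surjective (@UniformSpace.Completion.map M _ (M ⧸ N.toAddSubgroup)
        (IsTopologicalAddGroup.rightUniformSpace (M ⧸ N.toAddSubgroup))
        (QuotientAddGroup.mk' N.toAddSubgroup)) ∧
      IsOpenMap (@UniformSpace.Completion.map M _ (M ⧸ N.toAddSubgroup)
        (IsTopologicalAddGroup.rightUniformSpace (M ⧸ N.toAddSubgroup))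
        (QuotientAddGroup.mk' N.toAddSubgroup)) := by
  letI : UniformSpace (M ⧸ N.toAddSubgroup) := IsTopologicalAddGroup.rightUniformSpace (M ⧸ N.toAddSubgroup)
  haveI : IsUniformAddGroup (M ⧸ N.toAddSubgroup) := isUniformAddGroup_of_addCommGroup
  have hq : Continuous (QuotientAddGroup.mk' N.toAddSubgroup) := QuotientAddGroup.continuous_mk
  have hqo : IsOpenMap (QuotientAddGroup.mk' N.toAddSubgroup) := QuotientAddGroup.isOpenMap_coe
  have hM : ∀ W ∈ nhds (0 : M), ∃ U : AddSubgroup M, IsOpen (U : Set M) ∧ (U : Set M) ⊆ W := fun W hW => by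
    obtain ⟨U, hU, hUW⟩ := (IsLinearTopology.hasBasis_open_submodule R).mem_iff.1 hW
    exact ⟨U.toAddSubgroup, hU, hUW⟩
  haveI := hc
  have key := isOpenMap_completion (QuotientAddGroup.mk' N.toAddSubgroup) hq hqo hM
  let q := AddMonoidHom.completion (QuotientAddGroup.mk' N.toAddSubgroup) hq
  show Function.Surjective q ∧ IsOpenMap q
  refine ⟨fun y => ?_, ?_⟩
  · have hy : y ∈ clSub ((⊤ : AddSubgroup M).map (QuotientAddGroup.mk' N.toAddSubgroup)) := by
      rw [AddSubgroup.map_top_of_surjective _ (QuotientAddGroup.mk'_surjective _)]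
      show y ∈ closure _
      rw [AddSubgroup.coe_map, AddSubgroup.coe_top, Set.image_univ]
      exact UniformSpace.Completion.denseRange_coe y
    obtain ⟨x, -, hx⟩ := key ⊤ isOpen_univ y hy
    exact ⟨x, hx⟩
  · refine IsOpenMap.of_nhds_le fun x => ?_
    intro S hS
    have hS0 : (fun z => x + z) ⁻¹' (q ⁻¹' S) ∈ nhds (0 : UniformSpace.Completion M) :=
      (continuous_const.add continuous_id).continuousAt.preimage_mem_nhds (by simpa using hS)
    obtain ⟨U, hU, hUS⟩ := exists_clSub_subset hM hS0
    have h0 := clSub_mem_nhds (U := U.map (QuotientAddGroup.mk' N.toAddSubgroup)) (hqo _ hU)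
    have h1 : (fun w => w - q x) ⁻¹' (clSub (U.map (QuotientAddGroup.mk' N.toAddSubgroup)) : Set _) ∈ nhds (q x) :=
      (continuous_id.sub continuous_const).continuousAt.preimage_mem_nhds (by simpa using h0)
    refine Filter.mem_of_superset h1 fun w hw => ?_
    obtain ⟨z, hz, hzw⟩ := key U hU _ hw
    have h2 : q (x + z) ∈ S := hUS hz
    rw [map_add, show q z = w - q x from hzw, add_sub_cancel] at h2
    exact h2

end Groth.Agent.S10172
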