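import Groth.Statements.S10173
import Groth.Agent.LinTopLib.Completion

set_option autoImplicit false
universe u v
open LinTop

namespace Groth.Agent.S10173

open Groth.Agent.LinTopLib

/-- Let R be a commutative ring, I a finitely generated ideal and M a topological R-module (additive
uniform structure, each scalar acting uniformly continuously) having an open submodule M' whose
topology is the I-adic one, i.e. the I^n M' are open in M and form a fundamental system of
neighbourhoods of 0. Then the separated completion M^ has an open submodule whose topology is I-adic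
in the same sense, and for every n ≥ 1 the map M → M^/I^n M^ is surjective with kernel I^n M,
identifying M^/I^n M^ with M/I^n M. -/
theorem result
    {R : Type u} [CommRing R] (I : Ideal R) (hI : I.FG)
    {M : Type v} [AddCommGroup M] [Module R M] [UniformSpace M] [IsUniformAddGroup M]
    [UniformContinuousConstSMul R M]
    (M' : Submodule R M) (hopen : ∀ n : ℕ, IsOpen ((I ^ n • M' : Submodule R M) : Set M))
    (hbasis : ∀ U ∈ nhds (0 : M), ∃ n : ℕ, ((I ^ n • M' : Submodule R M) : Set M) ⊆ U) :
    (∃ M'' : Submodule R (UniformSpace.Completion M),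
        (∀ n : ℕ, IsOpen ((I ^ n • M'' : Submodule R (UniformSpace.Completion M)) :
          Set (UniformSpace.Completion M))) ∧
        ∀ U ∈ nhds (0 : UniformSpace.Completion M), ∃ n : ℕ,
          ((I ^ n • M'' : Submodule R (UniformSpace.Completion M)) :
            Set (UniformSpace.Completion M)) ⊆ U) ∧
      ∀ n : ℕ, 0 < n →
        Function.Surjective ((QuotientAddGroup.mk' (I ^ n • ⊤ : Submodule R (UniformSpace.Completion M)).toAddSubgroup).comp
          (UniformSpace.Completion.toCompl : M →+ UniformSpace.Completion M)) ∧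
        ((QuotientAddGroup.mk' (I ^ n • ⊤ : Submodule R (UniformSpace.Completion M)).toAddSubgroup).comp
          (UniformSpace.Completion.toCompl : M →+ UniformSpace.Completion M)).ker = (I ^ n • ⊤ : Submodule R M).toAddSubgroup := by
  classical
  have hbasis' : ∀ W ∈ nhds (0 : M), ∃ U : AddSubgroup M, IsOpen (U : Set M) ∧ (U : Set M) ⊆ W := fun W hW => by
    obtain ⟨n, hn⟩ := hbasis W hW
    exact ⟨(I ^ n • M' : Submodule R M).toAddSubgroup, hopen n, hn⟩
  have hopen_of_le : ∀ (n : ℕ) (P : Submodule R M), I ^ n • M' ≤ P → IsOpen (P : Set M) := fun n P h =>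
    AddSubgroup.isOpen_mono (H₁ := (I ^ n • M' : Submodule R M).toAddSubgroup) (H₂ := P.toAddSubgroup) h (hopen n)
  let cl : Submodule R M → Submodule R (UniformSpace.Completion M) := fun P =>
    { toAddSubmonoid := (clSub P.toAddSubgroup).toAddSubmonoid
      smul_mem' := fun c x hx => closure_minimal (by
        rintro _ ⟨u, hu, rfl⟩
        show c • (u : UniformSpace.Completion M) ∈ clSub P.toAddSubgroup
        rw [← UniformSpace.Completion.coe_smul]
        exact coe_mem_clSub (P.smul_mem c hu)) (isClosed_closure.preimage (continuous_const_smul c)) hx }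
  have hcl_le : ∀ (J : Ideal R) (P : Submodule R M), J • cl P ≤ cl (J • P) := fun J P =>
    Submodule.smul_le.2 fun c hc x hx => closure_minimal (by
      rintro _ ⟨u, hu, rfl⟩
      show c • (u : UniformSpace.Completion M) ∈ clSub (J • P).toAddSubgroup
      rw [← UniformSpace.Completion.coe_smul]
      exact coe_mem_clSub (Submodule.smul_mem_smul hc hu)) (isClosed_closure.preimage (continuous_const_smul c)) hx
  have hkey : ∀ n : ℕ, cl (I ^ n • M') ≤ I ^ n • cl M' := by
    intro n y hy
    obtain ⟨G, hG⟩ := hI.pow (n := n)
    let F : ((↥G : Type _) → M) →+ M :=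
      { toFun := fun x => ∑ i : ↥G, (i : R) • x i
        map_zero' := by simp
        map_add' := fun a b => by simp [smul_add, Finset.sum_add_distrib] }
    have hF : Continuous F :=
      show Continuous fun x : (↥G : Type _) → M => ∑ i : ↥G, (i : R) • x i from
        continuous_finsetSum _ fun i _ => (continuous_apply i).const_smul (i : R)
    let V : ℕ → AddSubgroup ((↥G : Type _) → M) := fun k =>
      AddSubgroup.pi Set.univ fun _ => (I ^ k • M' : Submodule R M).toAddSubgroup
    have hVopen : ∀ k, IsOpen (V k : Set ((↥G : Type _) → M)) := fun k =>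
      isOpen_set_pi Set.finite_univ fun i _ => hopen k
    have hVanti : Antitone V := fun a b hab x hx i hi =>
      (Submodule.smul_mono (Ideal.pow_le_pow_right hab) le_rfl : I ^ b • M' ≤ I ^ a • M') (hx i hi)
    have hVbasis : ∀ W ∈ nhds (0 : (↥G : Type _) → M), ∃ k, (V k : Set _) ⊆ W := by
      intro W hW
      rw [nhds_pi, Filter.mem_pi'] at hW
      obtain ⟨S, t, ht, hsub⟩ := hW
      choose k hk using fun i => hbasis (t i) (ht i)
      refine ⟨Finset.univ.sup k, fun x hx => hsub fun i _ => hk i ?_⟩
      exact (Submodule.smul_mono (Ideal.pow_le_pow_right (Finset.le_sup (Finset.mem_univ i))) le_rfl :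
        I ^ Finset.univ.sup k • M' ≤ I ^ k i • M') (hx i (Set.mem_univ i))
    have himage : ∀ k, ((V k).map F : Set M) = ((I ^ n • (I ^ k • M') : Submodule R M) : Set M) := by
      intro k
      refine Set.Subset.antisymm ?_ fun z hz => ?_
      · rintro _ ⟨x, hx, rfl⟩
        exact Submodule.sum_mem _ fun i _ => Submodule.smul_mem_smul (hG ▸ Submodule.subset_span i.2) (hx i (Set.mem_univ i))
      · refine Submodule.smul_induction_on hz (fun r hr m hm => ?_) fun a b ha hb => ((V k).map F).add_mem ha hb
        rw [← hG] at hr
        induction hr using Submodule.span_induction generalizing m with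
        | mem g hg =>
          refine ⟨Pi.single ⟨g, hg⟩ m, fun i _ => ?_, ?_⟩
          · by_cases h : i = ⟨g, hg⟩
            · subst h; rw [Pi.single_eq_same]; exact hm
            · rw [Pi.single_eq_of_ne h]; exact (I ^ k • M' : Submodule R M).zero_mem
          · show ∑ i : ↥G, (i : R) • (Pi.single ⟨g, hg⟩ m : (↥G : Type _) → M) i = g • m
            rw [Finset.sum_eq_single ⟨g, hg⟩ (fun b _ hb => by rw [Pi.single_eq_of_ne hb, smul_zero]) (by simp)]
            rw [Pi.single_eq_same]
        | zero => rw [zero_smul]; exact zero_mem _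
        | add a b _ _ ha hb => rw [add_smul]; exact ((V k).map F).add_mem (ha m hm) (hb m hm)
        | smul c a _ ha => rw [smul_eq_mul, mul_comm, mul_smul]; exact ha _ (Submodule.smul_mem _ c hm)
    have hFopen : IsOpenMap F := by
      refine IsOpenMap.of_nhds_le fun x S hS => ?_
      obtain ⟨k, hk⟩ := hVbasis ((fun z => x + z) ⁻¹' (F ⁻¹' S))
        ((continuous_const.add continuous_id).continuousAt.preimage_mem_nhds (by simpa using hS))
      have h0 : IsOpen ((V k).map F : Set M) := by
        rw [himage k, show (I ^ n • (I ^ k • M') : Submodule R M) = I ^ (n + k) • M' by rw [← mul_smul, ← pow_add]]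
        exact hopen (n + k)
      have h1 : (fun w => w - F x) ⁻¹' ((V k).map F : Set M) ∈ nhds (F x) :=
        (continuous_id.sub continuous_const).continuousAt.preimage_mem_nhds
          (by simpa using h0.mem_nhds ((V k).map F).zero_mem)
      refine Filter.mem_of_superset h1 fun w hw => ?_
      obtain ⟨z, hz, hzw⟩ := hw
      have h2 : F (x + z) ∈ S := hk hz
      rwa [map_add, hzw, add_sub_cancel] at h2
    have hy' : y ∈ clSub ((V 0).map F) := by
      have h := himage 0
      rw [pow_zero, Ideal.one_eq_top, Submodule.top_smul] at h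
      show y ∈ closure _
      rw [AddSubgroup.coe_map]
      refine closure_mono (Set.image_mono (subset_of_eq h.symm)) hy
    obtain ⟨z, hz, rfl⟩ := exists_preimage_clSub F hF hFopen V hVopen hVanti hVbasis hy'
    let π : ∀ i : ↥G, ((↥G : Type _) → M) →+ M := fun i => Pi.evalAddMonoidHom (fun _ : ↥G => M) i
    have hsum : AddMonoidHom.completion F hF z =
        ∑ i : ↥G, (i : R) • AddMonoidHom.completion (π i) (continuous_apply i) z := by
      refine UniformSpace.Completion.induction_on z (isClosed_eq (AddMonoidHom.continuous_completion F hF)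
        (continuous_finsetSum _ fun i _ => (AddMonoidHom.continuous_completion (π i) (continuous_apply i)).const_smul (i : R))) fun x => ?_
      rw [AddMonoidHom.completion_coe]
      show UniformSpace.Completion.toCompl (∑ i : ↥G, (i : R) • x i) = _
      rw [map_sum]
      refine Finset.sum_congr rfl fun i _ => ?_
      exact (UniformSpace.Completion.coe_smul _ _).trans
        (congrArg ((i : R) • ·) (AddMonoidHom.completion_coe (π i) (continuous_apply i) x).symm)
    rw [hsum]
    refine Submodule.sum_mem _ fun i _ => Submodule.smul_mem_smul (hG ▸ Submodule.subset_span i.2) ?_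
    refine closure_mono (Set.image_mono ?_) (completion_mem_clSub (π i) (continuous_apply i) hz)
    rintro _ ⟨x, hx, rfl⟩
    have := hx i (Set.mem_univ i)
    rw [pow_zero, Ideal.one_eq_top, Submodule.top_smul] at this
    exact this
  have heq : ∀ n : ℕ, I ^ n • cl M' = cl (I ^ n • M') := fun n => le_antisymm (hcl_le _ _) (hkey n)
  refine ⟨⟨cl M', fun n => ?_, fun W hW => ?_⟩, fun n _ => ⟨fun q => ?_, ?_⟩⟩
  · rw [heq]; exact isOpen_clSub (hopen n)
  · obtain ⟨U, hU, hUW⟩ := exists_clSub_subset hbasis' hW
    obtain ⟨n, hn⟩ := hbasis U (hU.mem_nhds (zero_mem _))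
    refine ⟨n, ?_⟩
    rw [heq]
    exact (closure_mono (Set.image_mono hn)).trans hUW
  · obtain ⟨x, rfl⟩ := QuotientAddGroup.mk'_surjective _ q
    obtain ⟨m, hm⟩ := exists_sub_mem_clSub (U := (I ^ n • M' : Submodule R M).toAddSubgroup) (hopen n) x
    refine ⟨m, ?_⟩
    rw [AddMonoidHom.comp_apply]
    show QuotientAddGroup.mk' _ (m : UniformSpace.Completion M) = QuotientAddGroup.mk' _ x
    rw [QuotientAddGroup.mk'_eq_mk']
    refine ⟨x - m, ?_, by abel⟩
    exact (Submodule.smul_mono le_rfl le_top : I ^ n • cl M' ≤ I ^ n • ⊤) (hkey n hm)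
  · ext m
    rw [AddMonoidHom.mem_ker, AddMonoidHom.comp_apply, QuotientAddGroup.mk'_apply, QuotientAddGroup.eq_zero_iff,
      Submodule.mem_toAddSubgroup, Submodule.mem_toAddSubgroup]
    constructor
    · intro h
      have htop : (⊤ : Submodule R (UniformSpace.Completion M)) ≤ cl ⊤ := fun z _ => by
        show z ∈ closure _
        rw [Submodule.top_toAddSubgroup, AddSubgroup.coe_map, AddSubgroup.coe_top, Set.image_univ]
        exact UniformSpace.Completion.denseRange_coe z
      have h2 := hcl_le _ _ ((Submodule.smul_mono le_rfl htop : I ^ n • ⊤ ≤ I ^ n • cl ⊤) h)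
      exact (coe_mem_clSub_iff (U := (I ^ n • ⊤ : Submodule R M).toAddSubgroup)
        (hopen_of_le n _ (Submodule.smul_mono le_rfl le_top))).1 h2
    · intro h
      refine Submodule.smul_induction_on h (fun r hr x _ => ?_) fun a b ha hb => ?_
      · show UniformSpace.Completion.toCompl (r • x) ∈ _
        rw [UniformSpace.Completion.toCompl_apply, UniformSpace.Completion.coe_smul]
        exact Submodule.smul_mem_smul hr Submodule.mem_top
      · rw [map_add]; exact add_mem ha hb

end Groth.Agent.S10173
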