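import Groth.Statements.S1018
import Groth.Agent.DQCoh.PscExtend17
import Groth.Agent.DQCoh.RelTorBC
import Groth.Agent.Dual22Lib.AdjGeom
import Groth.Agent.DQCoh.Push
-- import your own Groth.Agent.* helpers here

set_option autoImplicit false
set_option backward.isDefEq.respectTransparency false
universe u
open CategoryTheory CategoryTheory.Limits AlgebraicGeometry
attribute [local instance] HasDerivedCategory.standard
open Perf

namespace Groth.Agent.S1018
open Groth.Agent

/-- Let X be an affine scheme, U a quasi-compact open subscheme and E a pseudo-coherent object of D(O_U)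
(m-pseudo-coherent for all m). Then there is a bounded above complex G of finite free O_X-modules
whose termwise restriction to U is isomorphic to E in D(O_U). -/
theorem result (X : Scheme.{u}) [IsAffine X] (U : X.Opens) (hU : IsCompact (U : Set X))
    (E : DCoh.D (U : Scheme.{u})) (hE : ∀ m : ℤ, DCoh.IsPseudoCoherentD m E) :
    ∃ (G : CochainComplex X.Modules ℤ) (b : ℤ), (∀ i : ℤ, b < i → IsZero (G.X i)) ∧
      (∀ i : ℤ, ∃ n : ℕ, Nonempty (G.X i ≅ FlatMod.freeMod X n)) ∧
      Nonempty (DerivedCategory.Q.obj ((DCoh.restrictCx U).obj G) ≅ E) := by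
  let A := Γ(X, ⊤)
  haveI := AffSchLib.preservesFiniteLimits_tilde A
  let i : X ⟶ Spec A := X.isoSpec.hom
  let j : (U : Scheme.{u}) ⟶ Spec A := U.ι ≫ i
  haveI := DCat.PullPerf.preservesFiniteLimits_restrict j
  haveI : CompactSpace (U : Scheme.{u}) := isCompact_iff_compactSpace.1 hU
  haveI := DCat.hasRpush j
  obtain ⟨adj, hadj⟩ := Dual22Lib.AdjGeom.exists_adj j
  haveI := hadj
  haveI : QuasiCompact j := inferInstance
  obtain ⟨M, ⟨eM⟩⟩ := ((DQCoh.tildeD_main A).2.2 _).1 (DQCoh.isQCohD_Rpush j E (DQCoh.isQCohD_of_psc hE))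
  let L := DerivedCategory.Q.objPreimage M
  let eL : (DQCoh.PscExtend17.phiW j).obj (DerivedCategory.Q.obj L) ≅ E :=
    (DQCoh.PscExtend17.phiW j).mapIso (DerivedCategory.Q.objObjPreimageIso M) ≪≫
      (DCoh.restrictD j).mapIso eM ≪≫ asIso (adj.counit.app E)
  obtain ⟨G, b, hb, hf, ⟨eG⟩⟩ := DQCoh.PscExtend17.exists_free_model j L fun m => DCat.PCTriangle.psc_iso eL.symm (hE m)
  haveI : (tilde.functor A).Additive := Functor.additive_of_preserves_binary_products _
  let Gt := ((tilde.functor A).mapHomologicalComplex (ComplexShape.up ℤ)).obj G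
  let GX := ((Scheme.Modules.restrictFunctor i).mapHomologicalComplex (ComplexShape.up ℤ)).obj Gt
  refine ⟨GX, b, fun n hn => (Scheme.Modules.restrictFunctor i).map_isZero ((tilde.functor A).map_isZero (hb n hn)), fun n => ?_, ⟨?_⟩⟩
  · obtain ⟨r, ⟨e₁⟩⟩ := DQCoh.PscExtend17.exists_freeMod_tilde A (G.X n) (hf n)
    obtain ⟨e₂⟩ := DQCoh.PscExtend17.nonempty_restrict_freeMod i r
    exact ⟨r, ⟨(Scheme.Modules.restrictFunctor i).mapIso e₁ ≪≫ e₂⟩⟩
  · let c : (DCoh.restrictCx U).obj GX ≅ ((Scheme.Modules.restrictFunctor j).mapHomologicalComplex (ComplexShape.up ℤ)).obj Gt :=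
      HomologicalComplex.Hom.isoOfComponents (fun n => ((Scheme.Modules.restrictFunctorComp U.ι i).app (Gt.X n)).symm)
        (fun p q _ => ((Scheme.Modules.restrictFunctorComp U.ι i).inv.naturality (Gt.d p q)).symm)
    exact DerivedCategory.Q.mapIso c ≪≫ ((Scheme.Modules.restrictFunctor j).mapDerivedCategoryFactors.app Gt).symm ≪≫
      (DCoh.restrictD j).mapIso ((tilde.functor A).mapDerivedCategoryFactors.app G).symm ≪≫ eG ≪≫ eL

end Groth.Agent.S1018

#print axioms Groth.Agent.S1018.result
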