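import Groth.Statements.S10181
import Groth.Agent.AlgSpLib.DiagCrit
-- import your own Groth.Agent.* helpers here

set_option autoImplicit false
universe u
open CategoryTheory CategoryTheory.Limits AlgebraicGeometry Topology TopologicalSpace
open AlgSp

namespace Groth.Agent.S10181

open Groth.Agent.AlgSpLib

/-- Let X be an algebraic space over a scheme S and a : h_U ⟶ X a representable etale map from a scheme
U over S whose underlying scheme is separated. Then a is (representable and) separated, and the
scheme R = U ×_X U representing the fibre product h_U ×_X h_U is separated. -/
theorem result {S : Scheme.{u}} (X : AlgSp.Space S) {U : Over S}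
    (a : (AlgSp.yon S).obj U ⟶ X.obj) (ha : AlgSp.RepWith @Etale a) [U.left.IsSeparated] :
    AlgSp.RepWith @IsSeparated a ∧
      ∀ (R : Over S) (s t : R ⟶ U), IsPullback ((AlgSp.yon S).map t) ((AlgSp.yon S).map s) a a →
        R.left.IsSeparated := by
  have : IsSeparated U.hom := by
    have : IsSeparated (U.hom ≫ terminal.from S) := by rw [terminal.comp_from]; infer_instance
    exact IsSeparated.of_comp U.hom (terminal.from S)
  have h := repWith_isSeparated_of_isSeparated_source X.property a
  refine ⟨h, fun R s t sq => ⟨?_⟩⟩
  have : IsSeparated s.left := h.property _ _ _ sq
  rw [← terminal.comp_from s.left]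
  infer_instance

end Groth.Agent.S10181
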