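import Groth.Statements.S10187
import Groth.Agent.AlgSpLib.Diag
import Mathlib.AlgebraicGeometry.Morphisms.ClosedImmersion

set_option autoImplicit false
universe u
open CategoryTheory CategoryTheory.Limits AlgebraicGeometry Topology TopologicalSpace
open AlgSp

set_option backward.isDefEq.respectTransparency.types false
set_option backward.isDefEq.respectTransparency false

namespace Groth.Agent.S10187


/-- Let S be a separated scheme and X an algebraic space over S whose diagonal over S is a closed
immersion. Then for all affine schemes U, V over S mapping to X and every scheme P over S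
representing h_U ×_X h_V, the scheme P is affine and the ring map from the tensor product over the
integers of the global sections of U and V to the global sections of P, induced by the projections,
is surjective. (The published statement uses absolute separatedness of X; over a separated base this
agrees with separatedness over S, and without a hypothesis on S the relative notion does not
suffice: take X = h_S for an affine line with doubled origin S and U, V the two copies of the line.) -/
theorem result {S : Scheme.{u}} [S.IsSeparated]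
    (X : AlgSp.Space S) (hX : AlgSp.IsSeparatedSp X.obj) (U V P : Over S) (a : (AlgSp.yon S).obj U ⟶ X.obj) (b : (AlgSp.yon S).obj V ⟶ X.obj)
      (fst : P ⟶ U) (snd : P ⟶ V)
    (hU : IsAffine U.left) (hV : IsAffine V.left)
    (h : IsPullback ((AlgSp.yon S).map fst) ((AlgSp.yon S).map snd) a b) :
    IsAffine P.left ∧ Function.Surjective
          (Algebra.TensorProduct.productMap fst.left.appTop.hom.toIntAlgHom snd.left.appTop.hom.toIntAlgHom) := by
  let W : Over S := Over.mk (pullback.fst U.hom V.hom ≫ U.hom)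
  let p₁ : W ⟶ U := Over.homMk (pullback.fst U.hom V.hom) rfl
  let p₂ : W ⟶ V := Over.homMk (pullback.snd U.hom V.hom) pullback.condition.symm
  let hW : IsLimit (BinaryFan.mk p₁ p₂) :=
    BinaryFan.IsLimit.mk _ (fun {T} q₁ q₂ => Over.homMk (pullback.lift q₁.left q₂.left (by rw [Over.w q₁, Over.w q₂]))
        (by show _ ≫ pullback.fst U.hom V.hom ≫ U.hom = T.hom; rw [pullback.lift_fst_assoc]; exact Over.w q₁))
      (fun q₁ q₂ => Over.OverMorphism.ext (pullback.lift_fst _ _ _))
      (fun q₁ q₂ => Over.OverMorphism.ext (pullback.lift_snd _ _ _))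
      (fun q₁ q₂ m h₁ h₂ => Over.OverMorphism.ext (pullback.hom_ext
        ((congrArg (fun k => CommaMorphism.left k) h₁).trans (pullback.lift_fst _ _ _).symm)
        ((congrArg (fun k => CommaMorphism.left k) h₂).trans (pullback.lift_snd _ _ _).symm)))
  let c : P ⟶ W := hW.lift (BinaryFan.mk fst snd)
  have hc₁ : c ≫ p₁ = fst := hW.fac (BinaryFan.mk fst snd) ⟨.left⟩
  have hc₂ : c ≫ p₂ = snd := hW.fac (BinaryFan.mk fst snd) ⟨.right⟩
  let hYW := mapIsLimitOfPreservesOfIsLimit (AlgSp.yon S) p₁ p₂ hW
  let w : (AlgSp.yon S).obj W ⟶ (AlgSp.yon S).obj U ⨯ (AlgSp.yon S).obj V :=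
    prod.lift ((AlgSp.yon S).map p₁) ((AlgSp.yon S).map p₂)
  have sq : IsPullback ((AlgSp.yon S).map fst ≫ a) ((AlgSp.yon S).map c) (Limits.diag X.obj)
      (w ≫ prod.map a b) := by
    have hwm : Mono w := ⟨fun g g' e => BinaryFan.IsLimit.hom_ext hYW
      (by simpa [w] using congrArg (· ≫ prod.fst) e) (by simpa [w] using congrArg (· ≫ prod.snd) e)⟩
    have big := AlgSpLib.isPullback_diag_prod_map h
    have hcw : (AlgSp.yon S).map c ≫ w = prod.lift ((AlgSp.yon S).map fst) ((AlgSp.yon S).map snd) := by
      apply Limits.prod.hom_ext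
      · simp [w, ← Functor.map_comp, hc₁]
      · simp [w, ← Functor.map_comp, hc₂]
    refine ⟨⟨?_⟩, ⟨PullbackCone.IsLimit.mk _
      (fun s => big.lift s.fst (s.snd ≫ w) (by rw [Category.assoc]; exact s.condition))
      (fun s => big.lift_fst _ _ _) (fun s => ?_) (fun s m h₁ h₂ => ?_)⟩⟩
    · rw [big.w, ← Category.assoc, hcw]
    · rw [← cancel_mono w, Category.assoc, hcw]
      exact big.lift_snd _ _ _
    · apply big.hom_ext
      · rw [big.lift_fst]; exact h₁
      · rw [big.lift_snd, ← hcw, ← Category.assoc, h₂]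
  have hci : IsClosedImmersion c.left := hX.2 _ _ c sq
  haveI := hU
  haveI := hV
  let A := Γ(U.left, ⊤)
  let B := Γ(V.left, ⊤)
  let φZ : ∀ R : CommRingCat.{u}, ULift.{u} ℤ →+* R := fun R =>
    (Int.castRingHom R).comp (ULift.ringEquiv : ULift.{u} ℤ ≃+* ℤ).toRingHom
  letI : Algebra (ULift.{u} ℤ) A := (φZ A).toAlgebra
  letI : Algebra (ULift.{u} ℤ) B := (φZ B).toAlgebra
  letI : Algebra (ULift.{u} ℤ) Γ(P.left, ⊤) := (φZ Γ(P.left, ⊤)).toAlgebra
  letI : Module (ULift.{u} ℤ) A := Algebra.toModule
  letI : Module (ULift.{u} ℤ) B := Algebra.toModule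
  let tA : Spec A ⟶ Spec (CommRingCat.of (ULift.{u} ℤ)) :=
    Spec.map (CommRingCat.ofHom (algebraMap (ULift.{u} ℤ) A))
  let tB : Spec B ⟶ Spec (CommRingCat.of (ULift.{u} ℤ)) :=
    Spec.map (CommRingCat.ofHom (algebraMap (ULift.{u} ℤ) B))
  let αA : A →ₐ[ULift.{u} ℤ] Γ(P.left, ⊤) :=
    { fst.left.appTop.hom with commutes' := fun r => map_intCast fst.left.appTop.hom r.down }
  let αB : B →ₐ[ULift.{u} ℤ] Γ(P.left, ⊤) :=
    { snd.left.appTop.hom with commutes' := fun r => map_intCast snd.left.appTop.hom r.down }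
  let ψ := Algebra.TensorProduct.productMap αA αB
  let k : P.left ⟶ Spec (CommRingCat.of (TensorProduct (ULift.{u} ℤ) A B)) :=
    P.left.toSpecΓ ≫ Spec.map (CommRingCat.ofHom ψ.toRingHom)
  have hm : IsClosedImmersion (pullback.lift (pullback.fst U.hom V.hom ≫ U.left.toSpecΓ)
      (pullback.snd U.hom V.hom ≫ V.left.toSpecΓ) (specULiftZIsTerminal.hom_ext _ _) :
        pullback U.hom V.hom ⟶ pullback tA tB) := by
    let j : S ⟶ Spec (CommRingCat.of (ULift.{u} ℤ)) := specULiftZIsTerminal.from S
    have : IsSeparated j := inferInstance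
    have e : (pullback.lift (pullback.fst U.hom V.hom ≫ U.left.toSpecΓ)
        (pullback.snd U.hom V.hom ≫ V.left.toSpecΓ) (specULiftZIsTerminal.hom_ext _ _) :
          pullback U.hom V.hom ⟶ pullback tA tB) =
        pullback.mapDesc U.hom V.hom j ≫ pullback.map (U.hom ≫ j) (V.hom ≫ j) tA tB U.left.toSpecΓ
          V.left.toSpecΓ (𝟙 _) (specULiftZIsTerminal.hom_ext _ _) (specULiftZIsTerminal.hom_ext _ _) := by
      apply pullback.hom_ext <;> simp
    rw [e]
    infer_instance
  have hk : k = c.left ≫ pullback.lift (pullback.fst U.hom V.hom ≫ U.left.toSpecΓ)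
      (pullback.snd U.hom V.hom ≫ V.left.toSpecΓ) (specULiftZIsTerminal.hom_ext _ _) ≫
        (pullbackSpecIso (ULift.{u} ℤ) A B).hom := by
    rw [← cancel_mono (pullbackSpecIso (ULift.{u} ℤ) A B).inv]
    simp only [Category.assoc, Iso.hom_inv_id, Category.comp_id]
    apply pullback.hom_ext
    · simp only [Category.assoc]
      erw [pullbackSpecIso_inv_fst, pullback.lift_fst]
      simp only [k, Category.assoc, ← Spec.map_comp]
      rw [← Category.assoc c.left, show c.left ≫ pullback.fst U.hom V.hom = fst.left from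
        congrArg (fun q => CommaMorphism.left q) hc₁, Scheme.toSpecΓ_naturality]
      congr 2
      ext r
      simp [ψ]
      rfl
    · simp only [Category.assoc]
      erw [pullbackSpecIso_inv_snd, pullback.lift_snd]
      simp only [k, Category.assoc, ← Spec.map_comp]
      rw [← Category.assoc c.left, show c.left ≫ pullback.snd U.hom V.hom = snd.left from
        congrArg (fun q => CommaMorphism.left q) hc₂, Scheme.toSpecΓ_naturality]
      congr 2
      ext r
      simp [ψ]
      rfl
  have hkc : IsClosedImmersion k := by rw [hk]; infer_instance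
  obtain ⟨hP, hsurj⟩ := IsClosedImmersion.isAffine_surjective_of_isAffine k
  refine ⟨hP, fun z => ?_⟩
  obtain ⟨y, hy⟩ := hsurj z
  have hz : ∃ t, ψ t = z := ⟨(Scheme.ΓSpecIso _).hom y, by
    rw [← hy]; simp [k, Scheme.Hom.comp_appTop, Scheme.toSpecΓ_appTop]⟩
  obtain ⟨t, rfl⟩ := hz
  clear hy y
  induction t using TensorProduct.induction_on with
  | zero => exact ⟨0, by simp⟩
  | tmul x y => exact ⟨TensorProduct.tmul ℤ x y, by simp [ψ, αA, αB]; rfl⟩
  | add x y hx hy =>
    obtain ⟨x', hx'⟩ := hx
    obtain ⟨y', hy'⟩ := hy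
    exact ⟨x' + y', by rw [map_add, map_add, hx', hy']⟩

end Groth.Agent.S10187
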