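import Groth.Statements.S10188
import Groth.Agent.AlgSpLib.PointsTop
-- import your own Groth.Agent.* helpers here

set_option autoImplicit false
universe u
open CategoryTheory CategoryTheory.Limits AlgebraicGeometry Topology TopologicalSpace
open AlgSp

namespace Groth.Agent.S10188

open Groth.Agent.AlgSpLib

/-- Let P be a property of schemes that is local in the etale topology (for every scheme V and every
etale covering family of V, V has P if and only if all members have P), and let X be an algebraic
space over a scheme S. Then X has P etale locally (some surjective etale chart from a scheme with P)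
if and only if every scheme admitting a representable etale map to X has P. -/
theorem result {S : Scheme.{u}} (P : Scheme.{u} → Prop)
    (hP : ∀ (V : Scheme.{u}) (𝒰 : Scheme.Cover.{u} (Scheme.precoverage @Etale) V), P V ↔ ∀ i, P (𝒰.X i))
    (X : AlgSp.Space S) :
    AlgSp.EtaleLocally P X.obj ↔
      ∀ (U : Over S) (a : (AlgSp.yon S).obj U ⟶ X.obj), AlgSp.RepWith @Etale a → P U.left := by
  constructor
  · rintro ⟨U₀, p, hpe, hps, hP₀⟩ U a ha
    have hr := X.property.representable_from_yon p
    have sq := hr.isPullback' a
    have h1 : Etale (hr.snd a).left := hpe.property_snd a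
    have h2 : Surjective (hr.snd a).left := hps.property _ _ _ (hr.isPullback a)
    have h3 : Etale (hr.fst' a).left := ha.property _ _ _ sq.flip
    let 𝒰 : Scheme.Cover.{u} (Scheme.precoverage @Etale) U₀.left :=
      Scheme.Cover.mkOfCovers (Option PUnit.{u+1})
        (fun o => o.elim U₀.left fun _ => (hr.pullback a).left)
        (fun o => match o with | none => 𝟙 _ | some _ => (hr.fst' a).left)
        (fun x => ⟨none, x, rfl⟩)
        (fun o => match o with | none => inferInstanceAs (Etale (𝟙 _)) | some _ => h3)
    have hR : P (hr.pullback a).left := (hP _ 𝒰).1 hP₀ (some ⟨⟩)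
    let 𝒱 : Scheme.Cover.{u} (Scheme.precoverage @Etale) U.left :=
      Scheme.Cover.mkOfCovers PUnit.{u+1} (fun _ => (hr.pullback a).left) (fun _ => (hr.snd a).left)
        (fun x => ⟨⟨⟩, (hr.snd a).left.surjective x⟩) (fun _ => h1)
    exact (hP _ 𝒱).2 fun _ => hR
  · intro h
    obtain ⟨U, a, hae, has⟩ := X.property.atlas
    exact ⟨U, a, hae, has, h U a hae⟩

end Groth.Agent.S10188
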