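import Groth.Statements.S1019
import Groth.Agent.S1018
import Groth.Agent.DQCoh.PerfPlus17
-- import your own Groth.Agent.* helpers here

set_option autoImplicit false
set_option backward.isDefEq.respectTransparency false
universe u
open CategoryTheory CategoryTheory.Limits AlgebraicGeometry
attribute [local instance] HasDerivedCategory.standard
open Perf

namespace Groth.Agent.S1019
open Groth.Agent

/-- Let X be an affine scheme, U a quasi-compact open subscheme and E a perfect object of D(O_U). There
are an integer r and a finite locally free O_U-module F such that F[-r] ⊕ E extends to a perfect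
complex on X (restriction being computed on a representing complex, termwise), granted the binary
direct sum exists in D(O_U) (it does). -/
theorem result (X : Scheme.{u}) [IsAffine X] (U : X.Opens) (hU : IsCompact (U : Set X))
    (E : DCoh.D (U : Scheme.{u})) (hE : DCoh.IsPerfect E)
    [∀ (A B : DCoh.D (U : Scheme.{u})), HasBinaryBiproduct A B] :
    ∃ (r : ℤ) (F : (U : Scheme.{u}).Modules) (G : CochainComplex X.Modules ℤ), FlatMod.IsFinLocFree F ∧ DCoh.IsPerfect (DCoh.toD X G) ∧
      Nonempty (DerivedCategory.Q.obj ((DCoh.restrictCx U).obj G) ≅ (DCoh.inD (U : Scheme.{u}) F)⟦-r⟧ ⊞ E) := by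
  obtain ⟨G, b, hb, hfree, ⟨e⟩⟩ := Groth.Agent.S1018.result X U hU E fun m => DQCoh.psc_of_perfect hE m
  haveI : CompactSpace (U : Scheme.{u}) := isCompact_iff_compactSpace.1 hU
  haveI : QuasiSeparatedSpace (U : Scheme.{u}) := U.ι.isOpenEmbedding.quasiSeparatedSpace
  obtain ⟨r, F, S, hF, hS, ⟨c⟩⟩ := DQCoh.PerfPlus17.exists_split U.ι G hb
    (fun i => (hfree i).elim fun n ⟨en⟩ => DCat.PerfTensor.isFinLocFree_of_iso en.symm (FlatMor12.FlatFun.isFinLocFree_freeMod _ n))
    E hE e
  exact ⟨r, F, S, hF, (DCat.PerfLocal.isPerfect_iff _).2 fun x =>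
    ⟨X, 𝟙 X, inferInstance, ⟨x, rfl⟩, S, hS, DCat.PCTriangle.rd_id _⟩, ⟨c⟩⟩

end Groth.Agent.S1019

#print axioms Groth.Agent.S1019.result
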