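import Groth.Statements.S10190
import Groth.Agent.Stk19b.EtaleDim

set_option autoImplicit false
universe u
open CategoryTheory CategoryTheory.Limits AlgebraicGeometry Topology TopologicalSpace
open AlgSp

set_option backward.isDefEq.respectTransparency.types false
set_option backward.isDefEq.respectTransparency false

namespace Groth.Agent.S10190


/-- For an algebraic space X over a scheme S, the set of codimension 0 points of X (points x of |X| such
that, for some representable etale h_U ⟶ X from a scheme U and some point u of U mapping to x, the
local ring of U at u has dimension 0) is dense in |X|. -/
theorem result {S : Scheme.{u}} (X : AlgSp.Space S) :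
    Dense {x : AlgSp.Points X.obj |
      AlgSp.HasAt (fun U u => ringKrullDim ↥(U.presheaf.stalk u) = 0) X.obj x} := by
  exact Stk19b.EtaleDim.dense_coheight_zero X.property

end Groth.Agent.S10190
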