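import Groth.Statements.S10197
import Groth.Agent.AlgSpLib.SheafCoprod2
-- import your own Groth.Agent.* helpers here

set_option autoImplicit false
universe u
open CategoryTheory CategoryTheory.Limits AlgebraicGeometry Topology TopologicalSpace
open AlgSp

namespace Groth.Agent.S10197

open Groth.Agent.AlgSpLib

/-- An algebraic space X over a scheme S has a largest open subspace which is a scheme: there is an open
subspace X' ⟶ X whose underlying sheaf is representable by a scheme over S, through which every open
subspace of X with representable underlying sheaf factors. -/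
theorem result {S : Scheme.{u}} (X : AlgSp.Space S) :
    ∃ (X' : AlgSp.Space S) (j : X' ⟶ X), AlgSp.RepWith @IsOpenImmersion j.hom ∧ X'.obj.obj.IsRepresentable ∧
      ∀ (X'' : AlgSp.Space S) (j'' : X'' ⟶ X), AlgSp.RepWith @IsOpenImmersion j''.hom →
        X''.obj.obj.IsRepresentable → ∃ k : X'' ⟶ X', k ≫ j = j'' := by
  obtain ⟨W, hW, hrep, hmax⟩ := exists_largest_scheme_open X.property
  refine ⟨⟨openSubspace X.obj W, isAlgSpace_openSubspace X.property hW⟩,
    ObjectProperty.homMk (openSubspaceι X.obj W), repWith_openSubspaceι X.obj hW, hrep, fun X'' j'' hj hr => ?_⟩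
  obtain ⟨g, hg⟩ := (exists_lift_iff_range_subset (repWith_openSubspaceι X.obj hW) j''.hom).2
    (by rw [range_openSubspaceι]; exact hmax _ _ hj hr)
  exact ⟨ObjectProperty.homMk g, ObjectProperty.hom_ext _ hg⟩

end Groth.Agent.S10197
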