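import Groth.Statements.S10198
import Groth.Agent.Stk19b.ZarQs

set_option autoImplicit false
universe u
open CategoryTheory CategoryTheory.Limits AlgebraicGeometry Topology TopologicalSpace
open AlgSp

set_option backward.isDefEq.respectTransparency.types false
set_option backward.isDefEq.respectTransparency false

open Groth.Agent.AlgSpLib Groth.Agent.Stk19b.ZarQs
namespace Groth.Agent.S10198


/-- (1) if and only if (3): for an algebraic space X over a scheme S, X is Zariski locally
quasi-separated over S (it has a Zariski covering by open subspaces whose diagonals over S are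
quasi-compact) if and only if X has a Zariski covering by open subspaces each of which admits a
quasi-compact, etale, surjective map from an affine scheme. Since the second condition does not
mention S, being Zariski locally quasi-separated does not depend on the base. -/
theorem result {S : Scheme.{u}} (X : AlgSp.Space S) :
    (∃ (ι : Type u) (Xi : ι → AlgSp.Space S) (j : ∀ i, Xi i ⟶ X),
        AlgSp.IsZarCover (fun i => (Xi i).obj) (fun i => (j i).hom) ∧ ∀ i, AlgSp.IsQuasiSeparatedSp (Xi i).obj) ↔
      (∃ (ι : Type u) (Xi : ι → AlgSp.Space S) (j : ∀ i, Xi i ⟶ X),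
        AlgSp.IsZarCover (fun i => (Xi i).obj) (fun i => (j i).hom) ∧
          ∀ i, ∃ (U : Over S) (p : (AlgSp.yon S).obj U ⟶ (Xi i).obj), IsAffine U.left ∧
            AlgSp.RepWith @QuasiCompact p ∧ AlgSp.RepWith @Etale p ∧ AlgSp.RepWith @Surjective p) := by
  constructor
  · rintro ⟨ι, Xi, j, hj, hq⟩
    choose κ W hW hcov hch using fun i => isZarCover_openSubspaces_affine (Xi i).property
    refine ⟨Σ i, κ i, fun c => ⟨openSubspace (Xi c.1).obj (W c.1 c.2), isAlgSpace_openSubspace (Xi c.1).property (hW c.1 c.2)⟩,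
      fun c => ObjectProperty.homMk (openSubspaceι _ _ ≫ (j c.1).hom), ⟨fun c => ?_, fun x => ?_⟩, fun c => ?_⟩
    · exact RepWith.comp (repWith_openSubspaceι _ (hW c.1 c.2)) (hj.1 c.1)
    · obtain ⟨i, x₀, rfl⟩ := hj.2 x
      obtain ⟨k, hk⟩ := hcov i x₀
      obtain ⟨y, hy⟩ := (range_openSubspaceι _ (W i k)).symm.subset hk
      exact ⟨⟨i, k⟩, y, (AlgSp.Points.map_comp _ _ y).trans (congrArg _ hy)⟩
    · obtain ⟨U, p, hU, he, hs, V, hV, hUV⟩ := hch c.1 c.2
      exact ⟨U, p, hU, quasiCompact_of_chart (isAlgSpace_openSubspace (Xi c.1).property (hW c.1 c.2))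
        (isQuasiSeparatedSp_of_mono (openSubspaceι _ _) (hq c.1)) p he hs hV hUV, he, hs⟩
  · rintro ⟨ι, Xi, j, hj, hp⟩
    refine ⟨ι, Xi, j, hj, fun i => ?_⟩
    obtain ⟨U, p, hU, hq, he, hs⟩ := hp i
    exact isQuasiSeparatedSp_of_affine_chart (Xi i).property p hq he hs

end Groth.Agent.S10198
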