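import Groth.Statements.S10202
import Groth.Agent.AlgSpLib.PointsCompact
-- import your own Groth.Agent.* helpers here

set_option autoImplicit false
universe u
open CategoryTheory CategoryTheory.Limits AlgebraicGeometry Topology TopologicalSpace
open AlgSp

namespace Groth.Agent.S10202

/-- If X is a locally Noetherian algebraic space over a scheme S, then the space |X| is locally
Noetherian: every point of |X| has an open neighbourhood which is a Noetherian topological space in
the induced topology. -/
theorem result {S : Scheme.{u}} (X : AlgSp.Space S)
    (hX : AlgSp.IsLocNoethSp X.obj) (x : AlgSp.Points X.obj) :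
    ∃ W : Set (AlgSp.Points X.obj), IsOpen W ∧ x ∈ W ∧ NoetherianSpace ↥W := by
  exact Groth.Agent.AlgSpLib.exists_noetherianSpace_nhd hX x

end Groth.Agent.S10202
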