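import Groth.Statements.S10204
import Groth.Agent.AlgSpLib.DenseScheme2
-- import your own Groth.Agent.* helpers here

set_option autoImplicit false
universe u
open CategoryTheory CategoryTheory.Limits AlgebraicGeometry Topology TopologicalSpace
open AlgSp

namespace Groth.Agent.S10204

/-- Let X be an algebraic space over a scheme S that admits a map h_U ⟶ X from a quasi-separated scheme
U which is representable finite, etale and surjective. Then X contains an open subspace X' ⟶ X that
is a scheme (its underlying sheaf is representable), whose points form a dense subset of |X| that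
includes every codimension 0 point of X (every point x of |X| such that some etale chart h_V ⟶ X and
some point v of V over x have a zero-dimensional local ring O_{V,v}). -/
theorem result {S : Scheme.{u}} (X : AlgSp.Space S) {U : Over S}
    (a : (AlgSp.yon S).obj U ⟶ X.obj) (hf : AlgSp.RepWith @IsFinite a) (he : AlgSp.RepWith @Etale a)
    (hs : AlgSp.RepWith @Surjective a) [QuasiSeparatedSpace ↥U.left] :
    ∃ (X' : AlgSp.Space S) (j : X' ⟶ X), AlgSp.RepWith @IsOpenImmersion j.hom ∧ X'.obj.obj.IsRepresentable ∧
      Dense (Set.range (AlgSp.Points.map j.hom)) ∧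
      ∀ x : AlgSp.Points X.obj, AlgSp.HasAt (fun U u => ringKrullDim ↥(U.presheaf.stalk u) = 0) X.obj x →
        x ∈ Set.range (AlgSp.Points.map j.hom) := by
  obtain ⟨t, ht⟩ := (AlgSp.yon S).map_surjective (he.1.fst a)
  have sq : IsPullback ((AlgSp.yon S).map t) ((AlgSp.yon S).map (he.1.snd a)) a a := ht ▸ he.1.isPullback a
  have : IsFinite t.left := hf.property _ _ _ sq.flip
  have hq : AlgSp.IsQuasiSeparatedSp X.obj :=
    Groth.Agent.AlgSpLib.isQuasiSeparatedSp_of_chart X.property a he hs _ t sq
  obtain ⟨G, k, hk, hd, hx⟩ := Groth.Agent.AlgSpLib.exists_dense_scheme_codimZero X.property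
    (fun _ : PUnit.{u + 1} => X.obj) (fun _ => 𝟙 X.obj) (fun _ => X.property)
    ⟨fun _ => Groth.Agent.AlgSpLib.repWith_of_isIso @IsOpenImmersion _, fun x => ⟨PUnit.unit, x, AlgSp.Points.map_id x⟩⟩
    (fun _ => hq)
  obtain ⟨X', j', hj, hr, e⟩ := Groth.Agent.AlgSpLib.exists_space_of_openImmersion G (Y := X) k hk
  exact ⟨X', j', hj, hr, e ▸ hd, e ▸ hx⟩

end Groth.Agent.S10204
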