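import Groth.Statements.S10207
import Groth.Agent.AlgSpLib.GabberSheaf
import Groth.Agent.Desc19b.CoverLocal

set_option autoImplicit false
set_option backward.isDefEq.respectTransparency false
set_option backward.isDefEq.respectTransparency.types false
universe u
open CategoryTheory CategoryTheory.Limits AlgebraicGeometry Topology TopologicalSpace

namespace Groth.Agent.S10207

open AlgSp AlgSpLib in
/-- the covering of representable sheaves given by an fpqc covering -/
theorem isFpqcCover_yon {S : Scheme.{u}} {T : Over S} {ι : Type u} (T' : ι → Over S) (v : ∀ i, T' i ⟶ T)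
    (h : Presieve.ofArrows (fun i => (T' i).left) (fun i => (v i).left) ∈ Scheme.fpqcPrecoverage T.left) :
    IsFpqcCover (fun i => (yon S).obj (T' i)) (fun i => (yon S).map (v i)) := by
  let 𝒰 : Scheme.Cover Scheme.fpqcPrecoverage T.left :=
    { PreZeroHypercover.mk ι (fun i => (T' i).left) (fun i => (v i).left) with mem₀ := h }
  have hfl : ∀ i, Flat (v i).left :=
    ((Scheme.presieve₀_mem_precoverage_iff 𝒰.toPreZeroHypercover).1 h.2).2
  refine ⟨fun i => locP_of_repWith etLocal_flat (IsAlgSpace.yon_obj _) ((repWith_yon_map_iff _ _).2 (hfl i)), fun Z hZ k => ?_⟩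
  obtain ⟨z, rfl⟩ := (yon S).map_surjective k
  haveI : IsAffine Z.left := hZ
  let 𝒲 : Scheme.Cover Scheme.fpqcPrecoverage Z.left := CategoryTheory.Precoverage.ZeroHypercover.pullback₁ z.left 𝒰
  haveI : QuasiCompactCover 𝒲.toPreZeroHypercover := Scheme.presieve₀_mem_qcPrecoverage_iff.1 𝒲.mem₀.1
  obtain ⟨n, a, W, hW, heq⟩ := QuasiCompactCover.exists_isAffineOpen_of_isCompact 𝒲.toPreZeroHypercover
    (isAffineOpen_top Z.left).isCompact
  have hfl' : ∀ i, Flat (pullback.fst z.left (v i).left) := fun i => by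
    haveI := hfl i
    exact MorphismProperty.pullback_fst (P := @Flat) _ _ inferInstance
  let P : ∀ i, Over S := fun i => Over.mk (pullback.fst z.left (v i).left ≫ Z.hom)
  let q : ∀ i, P i ⟶ T' i := fun i => Over.homMk (pullback.snd z.left (v i).left) (by
    show _ = pullback.fst z.left (v i).left ≫ Z.hom
    rw [← Over.w (v i), ← Over.w z, pullback.condition_assoc])
  let π : ∀ i, P i ⟶ Z := fun i => Over.homMk (pullback.fst z.left (v i).left)
  let W' : Fin n → Over S := fun j => restrictOver (P (a j)) (W j)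
  refine ⟨n, W', fun j => restrictOverι (P (a j)) (W j) ≫ π (a j), fun j => hW j, fun j => ?_, fun x => ?_,
    fun j => ⟨a j, (yon S).map (restrictOverι (P (a j)) (W j) ≫ q (a j)), ?_⟩⟩
  · haveI := hfl' (a j)
    exact (inferInstance : Flat ((W j).ι ≫ pullback.fst z.left (v (a j)).left))
  · obtain ⟨j, y, hy, hyx⟩ : ∃ j, ∃ y : ↥(P (a j)).left, y ∈ W j ∧ (π (a j)).left y = x := by
      have hx : x ∈ ((⊤ : Z.left.Opens) : Set Z.left) := trivial
      rw [← heq, Set.mem_iUnion] at hx
      obtain ⟨j, y, hy, hyx⟩ := hx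
      exact ⟨j, y, hy, hyx⟩
    exact ⟨j, ⟨y, hy⟩, hyx⟩
  · rw [← Functor.map_comp, ← Functor.map_comp, Category.assoc, Category.assoc,
      show π (a j) ≫ z = q (a j) ≫ v (a j) from Over.OverMorphism.ext pullback.condition]

open AlgSp AlgSpLib in
theorem eq_of_cover {S : Scheme.{u}} (X : AlgSp.Space S) {T : Over S} {ι : Type u} (T' : ι → Over S) (v : ∀ i, T' i ⟶ T)
    (h : Presieve.ofArrows (fun i => (T' i).left) (fun i => (v i).left) ∈ Scheme.fpqcPrecoverage T.left)
    (a b : (yon S).obj T ⟶ X.obj) (hab : ∀ i, (yon S).map (v i) ≫ a = (yon S).map (v i) ≫ b) : a = b :=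
  GabberSheaf.hom_ext_of_cover (IsAlgSpace.yon_obj T) X.property (isFpqcCover_yon T' v h) a b hab

open AlgSp AlgSpLib in
theorem sheafFor_of_cover {S : Scheme.{u}} (X : AlgSp.Space S) {T : Over S} {ι : Type u} (T' : ι → Over S) (v : ∀ i, T' i ⟶ T)
    (h : Presieve.ofArrows (fun i => (T' i).left) (fun i => (v i).left) ∈ Scheme.fpqcPrecoverage T.left) :
    Presieve.IsSheafFor X.obj.obj (Sieve.ofArrows T' v : Presieve T) := by
  rw [Sieve.ofArrows, ← Presieve.isSheafFor_iff_generate, Presieve.isSheafFor_arrows_iff]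
  intro x hx
  let E := fun (U : Over S) => GrothendieckTopology.uliftYonedaEquiv.{u + 1} (J := AlgSp.J S) (F := X.obj) (X := U)
  have key : ∀ {U V : Over S} (k : U ⟶ V) (z : (yon S).obj V ⟶ X.obj),
      X.obj.obj.map k.op (E V z) = E U ((yon S).map k ≫ z) := fun k z =>
    GrothendieckTopology.uliftYonedaEquiv_naturality _ z k
  obtain ⟨b, hb⟩ := GabberSheaf.exists_glue_of_cover (IsAlgSpace.yon_obj T) X.property (isFpqcCover_yon T' v h)
    (fun i => (E (T' i)).symm (x i)) fun i j => hom_ext_of_yon fun U l => by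
      obtain ⟨a, ha⟩ := (yon S).map_surjective (l ≫ pullback.fst ((yon S).map (v i)) ((yon S).map (v j)))
      obtain ⟨c, hc⟩ := (yon S).map_surjective (l ≫ pullback.snd ((yon S).map (v i)) ((yon S).map (v j)))
      have hac : a ≫ v i = c ≫ v j := (yon S).map_injective (by
        rw [Functor.map_comp, Functor.map_comp, ha, hc, Category.assoc, Category.assoc, pullback.condition])
      rw [← Category.assoc, ← Category.assoc, ← ha, ← hc]
      refine (E U).injective ?_
      rw [← key, ← key, Equiv.apply_symm_apply, Equiv.apply_symm_apply]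
      exact hx i j U a c hac
  refine ⟨E T b, fun i => ?_, fun t ht => ?_⟩
  · rw [key, hb, Equiv.apply_symm_apply]
  · obtain ⟨t, rfl⟩ := (E T).surjective t
    refine congrArg (E T) (eq_of_cover X T' v h t b fun i => (E (T' i)).injective ?_)
    rw [← key, ← key]
    exact (ht i).trans (by rw [key, hb, Equiv.apply_symm_apply])

/-- An algebraic space X over a scheme S satisfies the sheaf property for the fpqc topology: its
underlying presheaf on schemes over S is a sheaf for the fpqc topology (restricted from schemes to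
schemes over S). -/
theorem result {S : Scheme.{u}} (X : AlgSp.Space S) :
    Presheaf.IsSheaf (Scheme.fpqcTopology.over S) X.obj.obj := by
  rw [isSheaf_iff_isSheaf_of_type]
  intro T R hR
  rw [GrothendieckTopology.mem_over_iff, Scheme.fpqcTopology,
    Precoverage.mem_toGrothendieck_iff_of_isStableUnderComposition] at hR
  obtain ⟨P, hP, hPR⟩ := hR
  obtain ⟨E, rfl⟩ := (Precoverage.mem_iff_exists_zeroHypercover).1 hP
  haveI : Precoverage.Small.{u} Scheme.fpqcPrecoverage.{u} :=
    inferInstanceAs (Precoverage.Small.{u} (Scheme.propQCPrecoverage @Flat))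
  let E' := Precoverage.ZeroHypercover.restrictIndexOfSmall.{u} E
  let T' : E'.I₀ → Over S := fun i => Over.mk (E'.f i ≫ T.hom)
  let v : ∀ i, T' i ⟶ T := fun i => Over.homMk (E'.f i)
  have hmem : ∀ i, R (v i) := fun i => by
    have := hPR _ _ (Presieve.ofArrows.mk (Precoverage.ZeroHypercover.Small.restrictFun.{u} E i))
    rw [Sieve.overEquiv_iff] at this
    exact this
  have hcov := isFpqcCover_yon T' v E'.mem₀
  refine Presieve.isSheafFor_subsieve_aux X.obj.obj (S := Sieve.ofArrows T' v) ?_ ?_ ?_
  · show Sieve.ofArrows T' v ≤ R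
    rw [Sieve.ofArrows, Sieve.generate_le_iff]
    rintro Y _ ⟨i⟩
    exact hmem i
  · exact sheafFor_of_cover X T' v E'.mem₀
  · intro Y f _ x t₁ t₂ h₁ h₂
    let P : E'.I₀ → Over S := fun i => Over.mk (pullback.fst f.left (v i).left ≫ Y.hom)
    let π : ∀ i, P i ⟶ Y := fun i => Over.homMk (pullback.fst f.left (v i).left)
    let r : ∀ i, P i ⟶ T' i := fun i => Over.homMk (pullback.snd f.left (v i).left) (by
      show _ = pullback.fst f.left (v i).left ≫ Y.hom
      rw [← Over.w (v i), ← Over.w f, pullback.condition_assoc])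
    have hπ : ∀ i, (Sieve.ofArrows T' v).pullback f (π i) := fun i => by
      show Sieve.ofArrows T' v (π i ≫ f)
      rw [show π i ≫ f = r i ≫ v i from Over.OverMorphism.ext pullback.condition]
      exact Sieve.downward_closed _ (Sieve.ofArrows_mk _ _ i) _
    refine (GrothendieckTopology.uliftYonedaEquiv.{u + 1} (J := AlgSp.J S)).symm.injective (eq_of_cover X P π
      (Precoverage.ZeroHypercover.pullback₁ f.left E').mem₀ _ _ fun i => ?_)
    refine (GrothendieckTopology.uliftYonedaEquiv.{u + 1} (J := AlgSp.J S)).injective ?_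
    rw [← GrothendieckTopology.uliftYonedaEquiv_naturality, ← GrothendieckTopology.uliftYonedaEquiv_naturality,
      Equiv.apply_symm_apply, Equiv.apply_symm_apply]
    exact (h₁ (π i) (hπ i)).trans (h₂ (π i) (hπ i)).symm

end Groth.Agent.S10207
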