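import Groth.Statements.S10215
import Groth.Agent.AlgSpLib.MorMore2
-- import your own Groth.Agent.* helpers here

set_option autoImplicit false
universe u
open CategoryTheory CategoryTheory.Limits AlgebraicGeometry Topology TopologicalSpace
open AlgSp

namespace Groth.Agent.S10215

open Groth.Agent.AlgSpLib

/-- Let X be an algebraic space over a scheme S and p : Spec K ⟶ X, q : Spec L ⟶ X morphisms from
spectra of fields over S which determine the same point of |X|, with p a monomorphism. Then q
factors uniquely through p. -/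
theorem result {S : Scheme.{u}} (X : AlgSp.Space S) (p q : AlgSp.FieldPt X.obj)
    (h : AlgSp.Points.mk p = AlgSp.Points.mk q) [Mono p.toHom] :
    ∃! c : q.pt ⟶ p.pt, (AlgSp.yon S).map c ≫ p.toHom = q.toHom := by
  have sq := IsPullback.of_hasPullback p.toHom q.toHom
  have hP := isAlgSpace_of_isPullback X.property.diag (IsAlgSpace.yon_obj _) (IsAlgSpace.yon_obj _) sq
  rw [← ptOfHom_toHom, ← ptOfHom_toHom] at h
  obtain ⟨z, -, -⟩ := exists_point_of_isPullback sq (x := ptOfHom (𝟙 _)) (y := ptOfHom (𝟙 _))
    (by rw [map_ptOfHom, map_ptOfHom, Category.id_comp, Category.id_comp, h])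
  have : IsIso (pullback.snd p.toHom q.toHom) := isIso_of_mono_to_field' hP _ z
  obtain ⟨c, hc⟩ := (AlgSp.yon S).map_surjective (inv (pullback.snd p.toHom q.toHom) ≫ pullback.fst p.toHom q.toHom)
  have hc' : (AlgSp.yon S).map c ≫ p.toHom = q.toHom := by
    rw [hc, Category.assoc, sq.w, IsIso.inv_hom_id_assoc]
  refine ⟨c, hc', fun d hd => ?_⟩
  exact (AlgSp.yon S).map_injective ((cancel_mono p.toHom).1 (hd.trans hc'.symm))

end Groth.Agent.S10215
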