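import Groth.Statements.S10226
import Groth.Agent.Stk19b.Stalk.Props

set_option autoImplicit false
universe u
open CategoryTheory CategoryTheory.Limits AlgebraicGeometry Topology TopologicalSpace
open AlgSp

set_option backward.isDefEq.respectTransparency.types false
set_option backward.isDefEq.respectTransparency false

namespace Groth.Agent.S10226


/-- Let X be a Noetherian algebraic space over a scheme S (quasi-compact, with quasi-compact diagonal
over S, and locally Noetherian) and x̄ a geometric point of X. Then the etale local ring of X at x̄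
is a Noetherian local ring. -/
theorem result {S : Scheme.{u}} (X : AlgSp.Space S)
    (hqc : AlgSp.IsQuasiCompactSp X.obj) (hqs : AlgSp.IsQuasiSeparatedSp X.obj) (hX : AlgSp.IsLocNoethSp X.obj)
    (p : AlgSp.FieldPt X.obj) (hp : p.IsGeometric) :
    IsNoetherianRing ↥(AlgSp.OEtStalk p) ∧ IsLocalRing ↥(AlgSp.OEtStalk p) := by
  obtain ⟨U, a, u, H, ha, hu, ⟨e⟩, hloc, -, -, -, hn, -⟩ := Stk19b.StalkProps.exists_package X.property p hp
  haveI := hloc
  haveI := hn.2 (Stk19b.StalkProps.isNoetherianRing_stalk X.property hX a ha u)
  exact ⟨isNoetherianRing_of_ringEquiv _ e, e.isLocalRing⟩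

end Groth.Agent.S10226
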