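import Groth.Statements.S10231
import Groth.Agent.Stk19b.Stalk.Props
import Groth.Agent.Stk19b.StalkSupport

set_option autoImplicit false
universe u
open CategoryTheory CategoryTheory.Limits AlgebraicGeometry Topology TopologicalSpace
open AlgSp

set_option backward.isDefEq.respectTransparency.types false
set_option backward.isDefEq.respectTransparency false

namespace Groth.Agent.S10231


/-- Let X be a locally Noetherian algebraic space over a scheme S. Then X is regular (etale locally a
regular scheme: some surjective etale chart from a locally Noetherian scheme all of whose local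
rings are regular) if and only if every etale local ring of X at a geometric point is a regular
local ring. -/
theorem result {S : Scheme.{u}} (X : AlgSp.Space S) (hX : AlgSp.IsLocNoethSp X.obj) :
    AlgSp.EtaleLocally (fun U => IsLocallyNoetherian U ∧ ∀ u : ↥U, IsRegularLocalRing ↥(U.presheaf.stalk u)) X.obj ↔
      ∀ p : AlgSp.FieldPt X.obj, p.IsGeometric → IsRegularLocalRing ↥(AlgSp.OEtStalk p) := by
  constructor
  · rintro ⟨U, a, ha, hs, -, hreg⟩ p hp
    obtain ⟨u, hu⟩ := AlgSpLib.surjective_ofPt a hs (AlgSp.Points.mk p)
    exact (Stk19b.StalkProps.regular_iff X.property p hp).1 ⟨U, a, u, ha, hu, hreg u⟩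
  · intro h
    obtain ⟨U, a, ha, hs, hU⟩ := hX
    refine ⟨U, a, ha, hs, hU, fun u => ?_⟩
    obtain ⟨p, -, hp, -, -, hpx⟩ := Stk19b.StalkPoint.exists_geometric_through a u
    exact (Stk19b.StalkProps.hasAt_iff_of_chart X.property (fun U u => IsRegularLocalRing ↥(U.presheaf.stalk u))
      (fun c _ x => Stk19b.StalkProps.isRegularLocalRing_stalk_iff c x) ha u).1
      (hpx ▸ (Stk19b.StalkProps.regular_iff X.property p hp).2 (h p hp))

end Groth.Agent.S10231
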