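import Groth.Statements.S10234
import Groth.Agent.Stk19b.StalkPoint
import Mathlib.CategoryTheory.Sites.CoverPreserving

set_option autoImplicit false
universe u
open CategoryTheory CategoryTheory.Limits AlgebraicGeometry Topology TopologicalSpace
open AlgSp

set_option backward.isDefEq.respectTransparency.types false
set_option backward.isDefEq.respectTransparency false

open Groth.Agent.Stk19b.StalkPoint
namespace Groth.Agent.S10234


/-- Suppose f : X ⟶ Y is a morphism of algebraic spaces over a scheme S that is etale. Then the functor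
j : X_etale ⟶ Y_etale, (U ⟶ X) ↦ (U ⟶ X ⟶ Y), is continuous and cocontinuous for the etale
topologies. (The identification of the associated morphism of topoi with f_small, and the resulting
formula for inverse images, are not part of this row.) -/
theorem result {S : Scheme.{u}} {X Y : AlgSp.Space S} (f : X ⟶ Y)
    (hf : AlgSp.IsEtaleMor f.hom) :
    (AlgSp.EtOver.postcomp f.hom hf).IsContinuous (AlgSp.etTop X.obj) (AlgSp.etTop Y.obj) ∧
      (AlgSp.EtOver.postcomp f.hom hf).IsCocontinuous (AlgSp.etTop X.obj) (AlgSp.etTop Y.obj) := by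
  let G := AlgSp.EtOver.postcomp f.hom hf
  have hcov : ∀ {E : AlgSp.EtOver X.obj} (R : Sieve E), R ∈ AlgSp.etTop X.obj E →
      ∀ e : ↥E.obj.left.left, ∃ (Y : AlgSp.EtOver X.obj) (g : Y ⟶ E), R g ∧ e ∈ Set.range g.hom.left.left := by
    intro E R hR e
    obtain ⟨p, x, hp, hx, -⟩ := Stk19b.StalkPoint.exists_point_through E e
    obtain ⟨Y, g, hg, y, hy⟩ := Stk19b.EtNbhd.exists_lift_sieve p hp R hR x
    exact ⟨Y, g, hg, hx ▸ Stk19b.StalkPoint.range_of_map g hy⟩
  have hcovY : ∀ {E : AlgSp.EtOver Y.obj} (R : Sieve E), R ∈ AlgSp.etTop Y.obj E →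
      ∀ e : ↥E.obj.left.left, ∃ (W : AlgSp.EtOver Y.obj) (g : W ⟶ E), R g ∧ e ∈ Set.range g.hom.left.left := by
    intro E R hR e
    obtain ⟨p, x, hp, hx, -⟩ := Stk19b.StalkPoint.exists_point_through E e
    obtain ⟨W, g, hg, y, hy⟩ := Stk19b.EtNbhd.exists_lift_sieve p hp R hR x
    exact ⟨W, g, hg, hx ▸ Stk19b.StalkPoint.range_of_map g hy⟩
  refine ⟨Functor.isContinuous_of_coverPreserving (F := G) ⟨?_⟩ ⟨?_⟩, ⟨fun {E S} hS => ?_⟩⟩
  · intro ℱ Z T x hx Y₁ Y₂ W f₁ f₂ g₁ g₂ hg₁ hg₂ e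
    let m : W.obj.left ⟶ Y₁.obj.left := f₁.hom.left
    let m' : W.obj.left ⟶ Y₂.obj.left := f₂.hom.left
    have e' : m ≫ g₁.hom.left = m' ≫ g₂.hom.left := congrArg (fun k => k.hom.left) e
    let a : (AlgSp.yon S).obj W.obj.left ⟶ X.obj := (AlgSp.yon S).map m ≫ Y₁.obj.hom
    have hm' : (AlgSp.yon S).map m' ≫ Y₂.obj.hom = a := by
      show _ = (AlgSp.yon S).map m ≫ Y₁.obj.hom
      rw [← AlgSp.EtOver.w g₂, ← AlgSp.EtOver.w g₁, ← Category.assoc, ← Category.assoc,
        ← Functor.map_comp, ← Functor.map_comp, e']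
    have hm : Etale m.left := AlgSp.EtOver.etale_left f₁
    let W' : AlgSp.EtOver X.obj := AlgSp.EtOver.mk a
      ((AlgSp.repWith_isMultiplicative (S := S) @Etale).comp_mem _ _ ((AlgSp.repWith_yon_map_iff _ _).2 hm) Y₁.property)
    let k₁ : W' ⟶ Y₁ := AlgSp.EtOver.homMk m rfl
    let k₂ : W' ⟶ Y₂ := AlgSp.EtOver.homMk m' hm'
    have hw : (AlgSp.yon S).map (𝟙 W.obj.left) ≫ (G.obj W').obj.hom = W.obj.hom := by
      rw [CategoryTheory.Functor.map_id, Category.id_comp]
      show ((AlgSp.yon S).map m ≫ Y₁.obj.hom) ≫ f.hom = W.obj.hom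
      rw [Category.assoc]
      exact AlgSp.EtOver.w f₁
    let c : W ⟶ G.obj W' := AlgSp.EtOver.homMk (𝟙 _) hw
    have h1 : f₁ = c ≫ G.map k₁ := AlgSp.EtOver.hom_ext _ _ (Category.id_comp _).symm
    have h2 : f₂ = c ≫ G.map k₂ := AlgSp.EtOver.hom_ext _ _ (Category.id_comp _).symm
    have key : ℱ.obj.map (G.map k₁).op (x g₁ hg₁) = ℱ.obj.map (G.map k₂).op (x g₂ hg₂) :=
      hx k₁ k₂ hg₁ hg₂ (AlgSp.EtOver.hom_ext _ _ e')
    rw [h1, h2, op_comp, op_comp, Functor.map_comp_apply, Functor.map_comp_apply]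
    exact congrArg _ key
  · intro E R hR
    refine Stk19b.StalkPoint.mem_etTop_of_forall _ fun e => ?_
    obtain ⟨Y', g, hg, he⟩ := hcov R hR e
    exact ⟨G.obj Y', G.map g, Sieve.image_mem_functorPushforward G R hg, he⟩
  · refine Stk19b.StalkPoint.mem_etTop_of_forall _ fun e => ?_
    obtain ⟨W, g, hg, he⟩ := hcovY S hS e
    have hge : Etale g.hom.left.left := AlgSp.EtOver.etale_left g
    let W' : AlgSp.EtOver X.obj := AlgSp.EtOver.mk ((AlgSp.yon _).map g.hom.left ≫ E.obj.hom)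
      ((AlgSp.repWith_isMultiplicative @Etale).comp_mem _ _ ((AlgSp.repWith_yon_map_iff _ _).2 hge) E.property)
    let k : W' ⟶ E := AlgSp.EtOver.homMk g.hom.left rfl
    refine ⟨W', k, ?_, he⟩
    show S (G.map k)
    have hw : (AlgSp.yon _).map (𝟙 W.obj.left) ≫ W.obj.hom = (G.obj W').obj.hom := by
      rw [CategoryTheory.Functor.map_id, Category.id_comp]
      show W.obj.hom = ((AlgSp.yon _).map g.hom.left ≫ E.obj.hom) ≫ f.hom
      rw [Category.assoc]
      exact (AlgSp.EtOver.w g).symm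
    have : G.map k = (AlgSp.EtOver.homMk (𝟙 _) hw : G.obj W' ⟶ W) ≫ g :=
      AlgSp.EtOver.hom_ext _ _ (Category.id_comp _).symm
    rw [this]
    exact S.downward_closed hg _

end Groth.Agent.S10234
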