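import Groth.Statements.S10237
import Groth.Agent.Stk19b.QDescEt

set_option autoImplicit false
universe u
open CategoryTheory CategoryTheory.Limits AlgebraicGeometry Topology TopologicalSpace
open AlgSp

set_option backward.isDefEq.respectTransparency.types false
set_option backward.isDefEq.respectTransparency false

open Groth.Agent
namespace Groth.Agent.S10237


/-- Let X be an algebraic space over a scheme S and F a sheaf of modules over O_X on the small etale
site of X. If there is a surjective etale map p : h_U ⟶ X from a scheme U such that the pullback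
p^*F is a quasi-coherent module, then F is quasi-coherent. -/
theorem result {S : Scheme.{u}} (X : AlgSp.Space S) (F : AlgSp.ModEt X.obj)
    {U : Over S} (p : (AlgSp.yon S).obj U ⟶ X.obj) (hrep : AlgSp.Representable p)
    (hp : AlgSp.RepWith @Etale p) (hs : AlgSp.RepWith @Surjective p)
    [(SheafOfModules.pushforward.{u + 1} (AlgSp.bcRingHom hrep)).IsRightAdjoint]
    (hF : ((AlgSp.pullModEt hrep).obj F).IsQuasicoherent) :
    F.IsQuasicoherent := by
  have hpe := AlgSp.isEtaleMor_of_repWith p hp
  refine Stk19b.QDescEt.isQuasicoherent_of_restrict hpe hrep hs F ?_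
  exact ObjectProperty.prop_of_iso (SheafOfModules.isQuasicoherent (AlgSp.OEtRing ((AlgSp.yon S).obj U)))
    (((AlgSp.pullPushAdjModEt hrep).leftAdjointUniq
      (Stk19b.QPullEtale.restrictPushAdj hrep hpe)).app F) hF

end Groth.Agent.S10237
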