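import Groth.Statements.S1024
import Mathlib.CategoryTheory.Adjunction.PartialAdjoint
import Mathlib.CategoryTheory.Abelian.Basic

set_option autoImplicit false
set_option backward.isDefEq.respectTransparency false
set_option backward.defeqAttrib.useBackward true
universe v u u'
open CategoryTheory Opposite
open CohDer

namespace Groth.Agent.S1024

open CategoryTheory.Limits

/-- Let u : A ⥤ B be a functor between abelian categories and P a family of objects of B such that each
object of B receives an epimorphism from some member of P, and such that for every member Pᵢ there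
is an object Q of A with Hom_A(Q, -) ≅ Hom_B(Pᵢ, u(-)) naturally. Then u is a right adjoint (has a
left adjoint). -/
theorem result {A : Type u} [Category.{v} A] [Abelian A] {B : Type u'} [Category.{v} B] [Abelian B]
    (u : A ⥤ B) {ι : Type*} (P : ι → B)
    (h1 : ∀ X : B, ∃ (i : ι) (π : P i ⟶ X), Epi π)
    (h2 : ∀ i : ι, ∃ Q : A, Nonempty (coyoneda.obj (op Q) ≅ u ⋙ coyoneda.obj (op (P i)))) :
    u.IsRightAdjoint := by
  refine Functor.isRightAdjoint_of_leftAdjointObjIsDefined_eq_top ?_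
  ext X
  simp only [Pi.top_apply, Prop.top_eq_true, iff_true]
  rw [Functor.leftAdjointObjIsDefined_iff]
  obtain ⟨i, π, hπ⟩ := h1 X
  obtain ⟨j, ρ, hρ⟩ := h1 (kernel π)
  obtain ⟨Qi, ⟨Φi⟩⟩ := h2 i
  obtain ⟨Qj, ⟨Φj⟩⟩ := h2 j
  let ψ := ρ ≫ kernel.ι π
  let c : Qj ⟶ Qi := (Φj.app Qi).inv ((ψ ≫ (Φi.app Qi).hom (𝟙 Qi)) : P j ⟶ u.obj Qi)
  have natI : ∀ {M N : A} (g : Qi ⟶ M) (a : M ⟶ N),
      ((Φi.app N).hom (g ≫ a) : P i ⟶ u.obj N) = ((Φi.app M).hom g : P i ⟶ u.obj M) ≫ u.map a :=
    fun g a => congrArg (fun t => (ConcreteCategory.hom t) g) (Φi.hom.naturality a)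
  have natJ : ∀ {M N : A} (g : Qj ⟶ M) (a : M ⟶ N),
      ((Φj.app N).hom (g ≫ a) : P j ⟶ u.obj N) = ((Φj.app M).hom g : P j ⟶ u.obj M) ≫ u.map a :=
    fun g a => congrArg (fun t => (ConcreteCategory.hom t) g) (Φj.hom.naturality a)
  have hc : ∀ {M : A} (g : Qi ⟶ M), ((Φj.app M).hom (c ≫ g) : P j ⟶ u.obj M) = ψ ≫ ((Φi.app M).hom g : P i ⟶ u.obj M) := fun {M} g => by
    rw [natJ, show ((Φj.app Qi).hom c : P j ⟶ u.obj Qi) = ψ ≫ (Φi.app Qi).hom (𝟙 Qi) from (Φj.app Qi).toEquiv.apply_symm_apply _,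
      Category.assoc, ← natI, Category.id_comp]
  obtain ⟨Z, hZ⟩ : ∃ Z : A, IsZero Z := ⟨kernel (𝟙 Qi), isZero_kernel_of_mono _⟩
  have hu : IsZero (u.obj Z) := by
    obtain ⟨k, τ, hτ⟩ := h1 (u.obj Z)
    obtain ⟨Qk, ⟨Φk⟩⟩ := h2 k
    have h0 : τ = 0 := (Φk.app Z).toEquiv.symm.injective (hZ.eq_of_tgt _ _)
    subst h0
    exact IsZero.of_epi_zero (P k) (u.obj Z)
  have hΦ0 : ∀ M : A, @Eq (P j ⟶ u.obj M) ((Φj.app M).hom (0 : Qj ⟶ M)) 0 := fun M => by
    rw [show (0 : Qj ⟶ M) = (0 : Qj ⟶ Z) ≫ (0 : Z ⟶ M) from zero_comp.symm, natJ]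
    exact (congrArg (fun k : P j ⟶ u.obj Z => k ≫ u.map (0 : Z ⟶ M)) (hu.eq_of_tgt _ 0)).trans zero_comp
  exact Functor.CorepresentableBy.isCorepresentable
    { homEquiv := fun {M} =>
        { toFun := fun a => (Abelian.epiDesc π ((Φi.app M).hom (cokernel.π c ≫ a) : P i ⟶ u.obj M) (by
            refine (cancel_epi ρ).1 ?_
            rw [comp_zero, ← Category.assoc]
            refine (hc _).symm.trans ?_
            rw [← Category.assoc, cokernel.condition, zero_comp]
            exact hΦ0 M))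
          invFun := fun (x : X ⟶ u.obj M) => cokernel.desc c ((Φi.app M).inv (π ≫ x : P i ⟶ u.obj M)) (by
            refine (Φj.app M).toEquiv.injective ?_
            refine (hc _).trans ?_
            rw [show ((Φi.app M).hom ((Φi.app M).inv (π ≫ x : P i ⟶ u.obj M)) : P i ⟶ u.obj M) = π ≫ x from (Φi.app M).toEquiv.apply_symm_apply _]
            refine Eq.trans ?_ (hΦ0 M).symm
            simp [ψ])
          left_inv := fun a => coequalizer.hom_ext (by
            simp only [cokernel.π_desc, Abelian.comp_epiDesc]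
            exact (Φi.app M).toEquiv.symm_apply_apply _)
          right_inv := fun x => (cancel_epi π).1 (by
            simp only [cokernel.π_desc, Abelian.comp_epiDesc]
            exact (Φi.app M).toEquiv.apply_symm_apply _) }
      homEquiv_comp := fun {M N} g a => (cancel_epi π).1 (by
        dsimp
        refine (Abelian.comp_epiDesc π _ _).trans ?_
        refine ((congrArg (fun t => ((Φi.app N).hom t : P i ⟶ u.obj N)) (Category.assoc _ _ _).symm).trans (natI _ _)).trans ?_
        exact (congrArg (· ≫ u.map g) (Abelian.comp_epiDesc π _ _).symm).trans (Category.assoc _ _ _)) }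


end Groth.Agent.S1024
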