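import Groth.Statements.S10240
import Groth.Agent.AlgSpLib.PullModEt
import Groth.Agent.AlgSpLib.QCohEtAcyclic
open Groth.Agent Groth.Agent.AlgSpLib
open CategoryTheory CategoryTheory.Limits
set_option backward.isDefEq.respectTransparency false
set_option linter.style.haveILetI false

set_option autoImplicit false
universe u
open CategoryTheory CategoryTheory.Limits AlgebraicGeometry Topology TopologicalSpace
open AlgSp

set_option backward.isDefEq.respectTransparency.types false
set_option backward.isDefEq.respectTransparency false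

namespace Groth.Agent.S10240


/-- Let X be an algebraic space over a scheme S. Colimits of quasi-coherent O_X-modules are
quasi-coherent; kernels and cokernels of maps between quasi-coherent O_X-modules are quasi-coherent;
and in a short exact sequence of O_X-modules, if two out of three are quasi-coherent then so is the
third. -/
theorem result {S : Scheme.{u}} (X : AlgSp.Space S) :
    (∀ (J : Type u) [SmallCategory J] (D : J ⥤ AlgSp.ModEt X.obj) [HasColimit D],
        (∀ j, (D.obj j).IsQuasicoherent) → (colimit D).IsQuasicoherent) ∧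
    (∀ (F G : AlgSp.ModEt X.obj) (φ : F ⟶ G), F.IsQuasicoherent → G.IsQuasicoherent →
        (kernel φ).IsQuasicoherent ∧ (cokernel φ).IsQuasicoherent) ∧
    (∀ C : ShortComplex (AlgSp.ModEt X.obj), C.ShortExact →
        (C.X₁.IsQuasicoherent → C.X₂.IsQuasicoherent → C.X₃.IsQuasicoherent) ∧
        (C.X₁.IsQuasicoherent → C.X₃.IsQuasicoherent → C.X₂.IsQuasicoherent) ∧
        (C.X₂.IsQuasicoherent → C.X₃.IsQuasicoherent → C.X₁.IsQuasicoherent)) := by
  have hkc : ∀ (F G : AlgSp.ModEt X.obj) (φ : F ⟶ G), F.IsQuasicoherent → G.IsQuasicoherent →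
      (kernel φ).IsQuasicoherent ∧ (cokernel φ).IsQuasicoherent := fun F G φ hF hG => by
    haveI := hF
    haveI := hG
    exact ⟨QCohEt.isQuasicoherent_of_forall _ fun E hE => by
        haveI := hE
        exact QCohEt.isBC_kernel (kernel.condition φ) (kernelIsKernel φ) E (QCohEt.isBC F E) (QCohEt.isBC G E),
      QCohEt.isQuasicoherent_of_forall _ fun E hE => by
        haveI := hE
        exact (QCohEt.cokernel_sec φ E (QCohEt.isBC F E) (QCohEt.isBC G E)).1⟩
  refine ⟨fun J inst D _ hD => ?_, hkc, fun C hC => ⟨?_, ?_, ?_⟩⟩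
  · letI : Category.{u} (ULift.{u + 1} J) := uliftCategory J
    letI : Category.{u + 1} (ULiftHom.{u + 1} (ULift.{u + 1} J)) := ULiftHom.category
    let e : ULiftHom.{u + 1} (ULift.{u + 1} J) ≌ J := (ULiftHomULiftCategory.equiv.{u + 1, u + 1} J).symm
    exact ((SheafOfModules.isQuasicoherent (AlgSp.OEtRing X.obj)).prop_iff_of_iso (Functor.Final.colimitIso e.functor D)).1
      (QCohEt.isQuasicoherent_colimit (e.functor ⋙ D) fun j => hD _)
  · intro h₁ h₂
    let i : C.X₃ ≅ cokernel C.f := IsColimit.coconePointUniqueUpToIso hC.gIsCokernel (colimit.isColimit _)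
    exact (SheafOfModules.isQuasicoherent (AlgSp.OEtRing X.obj)).prop_of_iso i.symm (hkc _ _ C.f h₁ h₂).2
  · intro h₁ h₃
    haveI := h₁
    haveI := h₃
    refine QCohEt.isQuasicoherent_of_forall _ fun E hE => ?_
    haveI := hE
    haveI := hC.mono_f
    haveI := hC.epi_g
    haveI : Epi (C.map (AlgSp.toAbEt X.obj)).g := inferInstanceAs (Epi ((AlgSp.toAbEt X.obj).map C.g))
    haveI : Mono (C.map (AlgSp.toAbEt X.obj)).f := inferInstanceAs (Mono ((AlgSp.toAbEt X.obj).map C.f))
    have hS : (C.map (AlgSp.toAbEt X.obj)).ShortExact :=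
      ⟨hC.exact.map_of_mono_of_preservesKernel _ hC.mono_f inferInstance⟩
    exact QCohEt.isBC_middle C.zero hC.fIsKernel E (QCohEt.isBC C.X₁ E) (QCohEt.isBC C.X₃ E)
      ((QCohEt.affBasis X.obj).surjective_sections hS
        (QCohEt.affBasis_acyclic C.X₁) hE)
  · intro h₂ h₃
    let i : C.X₁ ≅ kernel C.g := IsLimit.conePointUniqueUpToIso hC.fIsKernel (limit.isLimit _)
    exact (SheafOfModules.isQuasicoherent (AlgSp.OEtRing X.obj)).prop_of_iso i.symm (hkc _ _ C.g h₂ h₃).1

end Groth.Agent.S10240
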