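import Groth.Statements.S10242
import Groth.Agent.AlgSpLib.MorMore3
import Groth.Agent.Stk19b.StalkPoint

set_option autoImplicit false
universe u
open CategoryTheory CategoryTheory.Limits AlgebraicGeometry Topology TopologicalSpace
open AlgSp

set_option backward.isDefEq.respectTransparency.types false
set_option backward.isDefEq.respectTransparency false

open Groth.Agent.Stk19b.StalkPoint
namespace Groth.Agent.S10242


/-- Let X be a reduced algebraic space over a scheme S. Then the ring of global sections of the
structure sheaf of X (on the small etale site) is reduced, and if a global section f satisfies X =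
V(f), meaning that its restriction to every scheme U etale over X has empty non-vanishing locus
D(f|_U), then f = 0. -/
theorem result {S : Scheme.{u}} (X : AlgSp.Space S) (hX : AlgSp.IsReducedSp X.obj) :
    _root_.IsReduced ↥(AlgSp.gsectEt (AlgSp.OEt X.obj)) ∧
      ∀ f : ↥(AlgSp.gsectEt (AlgSp.OEt X.obj)),
        (∀ E : AlgSp.EtOver X.obj,
            E.obj.left.left.basicOpen ((limit.π (AlgSp.OEt X.obj).obj (Opposite.op E)) f).down = ⊥) →
          f = 0 := by
  have hred : ∀ E : AlgSp.EtOver X.obj, IsReduced E.obj.left.left := fun E => by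
    have : ∀ u : ↥E.obj.left.left, _root_.IsReduced (E.obj.left.left.presheaf.stalk u) := fun u => by
      obtain ⟨V, b, v, hbe, e, hv⟩ :=
        (AlgSpLib.isReducedSp_iff_hasAt X.property).1 hX (AlgSp.Points.ofPt E.obj.hom u)
      obtain ⟨R, p, q, r, hpe, hqe, rfl, rfl⟩ :=
        AlgSpLib.exists_common_chart X.property hbe E.property e
      have : Etale p.left := hpe
      have : Etale q.left := hqe
      exact AlgSpLib.isReduced_stalk_down q.left r (AlgSpLib.isReduced_stalk_up p.left r hv)
    exact isReduced_of_isReduced_stalk E.obj.left.left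
  refine ⟨⟨fun f hf => ?_⟩, fun f hf => ?_⟩
  · refine Concrete.limit_ext _ _ _ fun j => ?_
    obtain ⟨n, hn⟩ := hf
    obtain ⟨E⟩ := j
    have := hred E
    rw [map_zero]
    apply ULift.ext
    refine @IsNilpotent.eq_zero ↑Γ(E.obj.left.left, ⊤) _ _ _ _ ⟨n, ?_⟩
    have h := congrArg (fun z => ((limit.π (AlgSp.OEt X.obj).obj (Opposite.op E)) z).down) hn
    simp only [map_pow, map_zero] at h
    exact h
  · refine Concrete.limit_ext _ _ _ fun j => ?_
    obtain ⟨E⟩ := j
    have := hred E
    rw [map_zero]
    exact ULift.ext _ _ ((basicOpen_eq_bot_iff (X := E.obj.left.left) _).1 (hf E))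

end Groth.Agent.S10242
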