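import Groth.Statements.S10244
import Groth.Agent.AlgSpLib.MorMore3
-- import your own Groth.Agent.* helpers here

set_option autoImplicit false
universe u
open CategoryTheory CategoryTheory.Limits AlgebraicGeometry Topology TopologicalSpace
open AlgSp

namespace Groth.Agent.S10244

open Groth.Agent.AlgSpLib

/-- Let X be an algebraic space over a scheme S and X_i ⟶ X a family of open subspaces. Then the X_i
form a Zariski covering of X in the sense that for every scheme T and every h_T ⟶ X the open
subschemes T ×_X X_i cover T, if and only if |X| is the union of the |X_i|. -/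
theorem result {S : Scheme.{u}} (X : AlgSp.Space S) {ι : Type u} (Xi : ι → AlgSp.Space S)
    (j : ∀ i, Xi i ⟶ X) (hj : ∀ i, AlgSp.RepWith @IsOpenImmersion (j i).hom) :
    AlgSp.IsZarCover (fun i => (Xi i).obj) (fun i => (j i).hom) ↔
      ∀ (T : Over S) (g : (AlgSp.yon S).obj T ⟶ X.obj) (t : ↥T.left),
        ∃ (i : ι) (P : Over S) (fst : (AlgSp.yon S).obj P ⟶ (Xi i).obj) (snd : P ⟶ T),
          IsPullback fst ((AlgSp.yon S).map snd) (j i).hom g ∧ t ∈ Set.range snd.left := by
  constructor
  · intro h T g t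
    obtain ⟨i, y, hy⟩ := h.2 (AlgSp.Points.ofPt g t)
    have sq := (hj i).1.isPullback g
    rw [AlgSp.Points.ofPt_eq_map_ofScheme] at hy
    obtain ⟨z, -, hz⟩ := exists_point_of_isPullback sq hy
    obtain ⟨p, rfl⟩ := (AlgSp.Points.schemeHomeo _).surjective z
    refine ⟨i, _, (hj i).1.fst g, (hj i).1.snd g, sq, p, ?_⟩
    apply (AlgSp.Points.schemeHomeo T).injective
    show AlgSp.Points.ofScheme T _ = AlgSp.Points.ofScheme T _
    rw [← map_yon_map_ofScheme]
    exact hz
  · intro h
    refine ⟨hj, fun x => ?_⟩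
    obtain ⟨K, _, str, a, rfl⟩ := exists_ptOfHom x
    obtain ⟨i, P, fst, snd, sq, q, -⟩ := h _ a (IsLocalRing.closedPoint K)
    refine ⟨i, AlgSp.Points.map fst (AlgSp.Points.ofScheme P q), ?_⟩
    rw [← AlgSp.Points.map_comp, sq.w, AlgSp.Points.map_comp, map_yon_map_ofScheme,
      ← AlgSp.Points.ofPt_eq_map_ofScheme]
    have e := ptOfHom_yon_map (𝟙 (Over.mk str)) a
    erw [(AlgSp.yon S).map_id, Category.id_comp] at e
    rw [e]
    congr 1
    exact Subsingleton.elim (α := ↥(Spec (CommRingCat.of K))) _ _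

end Groth.Agent.S10244
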