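import Groth.Statements.S10245
import Groth.Agent.Stk19b.FreeQuot

set_option autoImplicit false
universe u
open CategoryTheory CategoryTheory.Limits MonoidalCategory CartesianMonoidalCategory MonObj AlgebraicGeometry Topology TopologicalSpace
open AlgSp

set_option backward.isDefEq.respectTransparency.types false
set_option backward.isDefEq.respectTransparency false

open Groth.Agent.Stk19b Groth.Agent.Stk19b.FlfQuot Groth.Agent.Stk19b.FreeQuot
namespace Groth.Agent.S10245


/-- Let G ⟶ S be a finite locally free group scheme over a scheme S acting on a scheme X over S by a : G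
×_S X ⟶ X, freely on T-valued points for every S-scheme T. Assume one of the following: the
structure morphism X ⟶ S is affine; X admits an open immersion into some affine scheme; G ⟶ S is
radicial (universally injective). Then the fppf quotient sheaf X/G is a scheme M: there is q : X ⟶ M
over S exhibiting h_M as the quotient of h_X by the projection and the action G ×_S X ⇉ X in fppf
sheaves; moreover the square formed by the action, the projection and q is cartesian (G ×_S X ≅ X
×_M X) and X ⟶ M has sections fppf locally on M, so that X ⟶ X/G is an fppf G-torsor. (The published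
statement also allows X ⟶ S quasi-affine, projective or quasi-projective, or X an open subscheme of
Proj of a graded ring; those cases are not covered by this row.) -/
theorem result {S : Scheme.{u}} (G X : Over S) [GrpObj G]
    (a : AlgGrp.Action G X) (hG : Mor2.IsFinLocFree G.hom)
    (hfree : ∀ (T : Over S) (g : T ⟶ G) (x : T ⟶ X), lift g x ≫ a.act = x → g = toUnit T ≫ η[G])
    (h3 : IsAffineHom X.hom ∨ (∃ (R : CommRingCat.{u}) (i : X.left ⟶ Spec R), IsOpenImmersion i) ∨
      UniversallyInjective G.hom) :
    ∃ (M : Over S) (q : X ⟶ M), QuotSh.IsQuotient Scheme.fppfPrecoverage (snd G X) a.act q ∧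
      IsPullback a.act.left (snd G X).left q.left q.left ∧
      NonAbH1.IsLocallyTrivialFor Scheme.fppfPrecoverage (Over.mk q.left) := by
  have h := isEqvRel_free a hfree
  let Γ := Fppf.grpd h
  have hsnd : Mor2.IsFinLocFree (snd G X).left := by
    obtain ⟨g1, g2, g3⟩ := hG
    exact ⟨MorphismProperty.of_isPullback (P := @IsFinite) (isPullback_tensor G X) g1,
      MorphismProperty.of_isPullback (P := @Flat) (isPullback_tensor G X) g2,
      MorphismProperty.of_isPullback (P := @LocallyOfFinitePresentation) (isPullback_tensor G X) g3⟩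
  haveI : IsFinite Γ.s := hsnd.1
  haveI : Flat Γ.s := hsnd.2.1
  haveI : LocallyOfFinitePresentation Γ.s := hsnd.2.2
  haveI : Mono Γ.j := Fppf.mono_grpd_j h
  have hsame : ∀ r : ↥Γ.R, X.hom (Γ.t r) = X.hom (Γ.s r) := fun r => by
    show X.hom (a.act.left r) = X.hom ((snd G X).left r)
    rw [← Scheme.Hom.comp_apply, ← Scheme.Hom.comp_apply, Over.w, Over.w]
  have hb : Groth.Agent.GrpdLib.OrbitsInAffines Γ := by
    intro x
    rcases h3 with h1 | ⟨R, i, hi⟩ | h1
    · obtain ⟨V, hV, hxV, -⟩ := exists_isAffineOpen_mem_and_subset (U := (⊤ : S.Opens)) (x := X.hom x) trivial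
      refine ⟨X.hom ⁻¹ᵁ V, hV.preimage X.hom, ?_⟩
      rintro _ ⟨r, hr, rfl⟩
      show X.hom (Γ.t r) ∈ V
      rw [hsame, hr]
      exact hxV
    · obtain ⟨f, hf1, hf2⟩ := Groth.Agent.GrpdLib.exists_basicOpen_of_finite
        (i.base '' (Γ.t.base '' (Γ.s.base ⁻¹' {x})))
        (((Γ.s.finite_preimage_singleton x).image _).image _) i.opensRange
        (by rintro _ ⟨y, -, rfl⟩; exact ⟨y, rfl⟩)
      exact ⟨i ⁻¹ᵁ (Spec R).basicOpen f,
        ((isAffineOpen_top (Spec R)).basicOpen f).preimage_of_isOpenImmersion i hf2,
        fun y hy => hf1 ⟨y, hy, rfl⟩⟩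
    · haveI : UniversallyInjective Γ.s :=
        MorphismProperty.of_isPullback (P := @UniversallyInjective) (isPullback_tensor G X) h1
      obtain ⟨V, hV, hxV, -⟩ := exists_isAffineOpen_mem_and_subset (U := (⊤ : X.left.Opens)) (x := x) trivial
      refine ⟨V, hV, ?_⟩
      rintro _ ⟨r, hr, rfl⟩
      have hse : Γ.s (Γ.e x) = x := by rw [← Scheme.Hom.comp_apply, Γ.e_s]; rfl
      have hr' : r = Γ.e x := Γ.s.injective (hr.trans hse.symm)
      show Γ.t r ∈ V
      rw [hr', ← Scheme.Hom.comp_apply, Γ.e_t]
      exact hxV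
  obtain ⟨M, q, hq1, hq2, hq3, hq4⟩ := exists_quotient Γ hb
  refine ⟨M, q, hq4, hq3, ?_⟩
  haveI : Flat q.left := hq1.2.1
  haveI : LocallyOfFinitePresentation q.left := hq1.2.2
  haveI : Surjective q.left := hq2
  refine ⟨Presieve.singleton q.left, ?_, ?_⟩
  · show _ ∈ Scheme.precoverage _ M.left
    rw [Scheme.singleton_mem_precoverage_iff]
    exact ⟨q.left.surjective, inferInstance, inferInstance⟩
  · rintro _ _ ⟨⟩
    exact ⟨𝟙 _, Category.id_comp _⟩

end Groth.Agent.S10245
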