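import Groth.Statements.S10246
import Groth.Agent.AlgSpLib.Descent
import Mathlib.CategoryTheory.Sites.RegularEpi

set_option autoImplicit false
universe u
open CategoryTheory CategoryTheory.Limits AlgebraicGeometry Topology TopologicalSpace
open AlgSp

set_option backward.isDefEq.respectTransparency.types false
set_option backward.isDefEq.respectTransparency false

open Groth.Agent
set_option backward.isDefEq.respectTransparency false
namespace Groth.Agent.S10246


/-- Let X be an algebraic space over a terminal base scheme (so that morphisms over the base are all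
morphisms) and T an affine scheme. Then f ↦ f♯ is a bijection from morphisms X ⟶ T to ring maps Γ(T,
O_T) ⟶ Γ(X, O_X), where Γ(X, O_X) is the ring of global sections of the structure sheaf on the small
etale site and f♯ is characterised by: for every scheme U etale over X, following f♯ by the
restriction Γ(X, O_X) ⟶ Γ(U, O_U) gives the map on global sections of the induced morphism U ⟶ T. -/
theorem result {S : Scheme.{u}} (hS : IsTerminal S) (X : AlgSp.Space S)
    (T : Over S) [IsAffine T.left] (φ : Γ(T.left, ⊤) →+* ↥(AlgSp.gsectEt (AlgSp.OEt X.obj))) :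
    ∃! f : X.obj ⟶ (AlgSp.yon S).obj T,
      ∀ (E : AlgSp.EtOver X.obj) (r : Γ(T.left, ⊤)),
        ((limit.π (AlgSp.OEt X.obj).obj (Opposite.op E)) (φ r)).down =
          ((AlgSp.yon S).preimage (E.obj.hom ≫ f)).left.appTop r := by
  let ψ : ∀ E : AlgSp.EtOver X.obj, Γ(T.left, ⊤) ⟶ Γ(E.obj.left.left, ⊤) := fun E =>
    CommRingCat.ofHom ((ULift.ringEquiv.toRingHom).comp
      ((limit.π (AlgSp.OEt X.obj).obj (Opposite.op E)).hom.comp φ))
  let l : ∀ E : AlgSp.EtOver X.obj, E.obj.left.left ⟶ T.left := fun E =>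
    E.obj.left.left.toSpecΓ ≫ Spec.map (ψ E) ≫ T.left.isoSpec.inv
  have hl : ∀ E, (l E).appTop = ψ E := fun E => by
    simp [l, Scheme.isoSpec]
  let g : ∀ E : AlgSp.EtOver X.obj, E.obj.left ⟶ T := fun E => Over.homMk (l E) (hS.hom_ext _ _)
  have hnat : ∀ {E E' : AlgSp.EtOver X.obj} (m : E ⟶ E'), m.hom.left ≫ g E' = g E := fun {E E'} m => by
    refine Over.OverMorphism.ext (ext_of_isAffine ?_)
    show (m.hom.left.left ≫ l E').appTop = (l E).appTop
    rw [Scheme.Hom.comp_appTop, hl, hl]
    ext r
    have h := ConcreteCategory.congr_hom (limit.w (AlgSp.OEt X.obj).obj m.op) (φ r)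
    exact congrArg ULift.down h
  obtain ⟨U, a, hae, has⟩ := X.property.atlas
  let E₀ : AlgSp.EtOver X.obj := AlgSp.EtOver.mk a hae
  have : Sheaf.IsLocallySurjective a := AlgSpLib.isLocallySurjective_of_etale hae has
  have : Epi a := Sheaf.epi_of_isLocallySurjective a
  have : IsRegularEpiCategory (AlgSp.Sp S) :=
    inferInstanceAs (IsRegularEpiCategory (Sheaf (AlgSp.J S) (Type (u + 1))))
  have : IsRegularEpi a := IsRegularEpiCategory.regularEpiOfEpi a
  have sq := hae.1.isPullback a
  let F : X.obj ⟶ (AlgSp.yon S).obj T := EffectiveEpi.desc a ((AlgSp.yon S).map (g E₀))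
    fun g₁ g₂ h => by
      obtain ⟨k, rfl, rfl⟩ := sq.exists_lift g₁ g₂ h
      rw [Category.assoc, Category.assoc,
        ← Functor.relativelyRepresentable.map_fst', ← Functor.map_comp, ← Functor.map_comp]
      exact congrArg (fun q => k ≫ (AlgSp.yon S).map q)
        ((hnat (AlgSp.EtOver.prodSnd E₀ E₀)).trans (hnat (AlgSp.EtOver.prodFst E₀ E₀)).symm)
  have hF : a ≫ F = (AlgSp.yon S).map (g E₀) := EffectiveEpi.fac _ _ _
  have key : ∀ E : AlgSp.EtOver X.obj, E.obj.hom ≫ F = (AlgSp.yon S).map (g E) := fun E => by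
    let P := AlgSp.EtOver.prodObj E E₀
    let p : P ⟶ E := AlgSp.EtOver.prodFst E E₀
    have hps : AlgSp.RepWith @Surjective ((AlgSp.yon S).map p.hom.left) :=
      (AlgSp.repWith_isStableUnderBaseChange (S := S) @Surjective).of_isPullback
        (hae.1.isPullback E.obj.hom) has
    have : Sheaf.IsLocallySurjective ((AlgSp.yon S).map p.hom.left) :=
      AlgSpLib.isLocallySurjective_of_etale
        ((AlgSp.repWith_yon_map_iff _ _).2 (AlgSp.EtOver.etale_left p)) hps
    have : Epi ((AlgSp.yon S).map p.hom.left) := Sheaf.epi_of_isLocallySurjective _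
    rw [← cancel_epi ((AlgSp.yon S).map p.hom.left), ← Category.assoc, AlgSp.EtOver.w p,
      ← Functor.map_comp, hnat p]
    calc P.obj.hom ≫ F = ((AlgSp.yon S).map (AlgSp.EtOver.prodSnd E E₀).hom.left ≫ a) ≫ F := by
          exact congrArg (· ≫ F) (AlgSp.EtOver.w (AlgSp.EtOver.prodSnd E E₀)).symm
      _ = _ := by
          rw [Category.assoc, hF, ← Functor.map_comp, hnat (AlgSp.EtOver.prodSnd E E₀)]
  refine ⟨F, fun E r => ?_, fun f' hf' => ?_⟩
  · rw [key, (AlgSp.yon S).preimage_map]
    exact (ConcreteCategory.congr_hom (hl E) r).symm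
  · rw [← cancel_epi a, hF, ← (AlgSp.yon S).map_preimage (a ≫ f')]
    refine congrArg _ (Over.OverMorphism.ext (ext_of_isAffine ?_))
    show _ = (l E₀).appTop
    rw [hl]
    ext r
    exact (hf' E₀ r).symm

end Groth.Agent.S10246
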