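import Groth.Statements.S10248
import Groth.Agent.Stk19b.EtaleDim

set_option autoImplicit false
universe u
open CategoryTheory CategoryTheory.Limits AlgebraicGeometry Topology TopologicalSpace
open AlgSp

set_option backward.isDefEq.respectTransparency.types false
set_option backward.isDefEq.respectTransparency false

namespace Groth.Agent.S10248


/-- (1) ⇔ (2): let X be an algebraic space over a scheme S, x ∈ |X| and d ∈ {0, 1, 2, …, ∞}. The local
ring of X at x has dimension d in the sense that some etale chart h_U ⟶ X from a scheme U and some
point u of U over x have a local ring of Krull dimension d, if and only if for every scheme U, every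
representable etale h_U ⟶ X and every point u of U mapping to x the local ring of U at u has Krull
dimension d. In particular the dimension of the local ring of an etale chart at a point over x does
not depend on the chart. -/
theorem result {S : Scheme.{u}} (X : AlgSp.Space S)
    (x : AlgSp.Points X.obj) (d : WithBot ℕ∞) :
    AlgSp.HasAt (fun U u => ringKrullDim ↥(U.presheaf.stalk u) = d) X.obj x ↔
      ∀ (U : Over S) (a : (AlgSp.yon S).obj U ⟶ X.obj) (u : ↥U.left),
        AlgSp.RepWith @Etale a → AlgSp.Points.ofPt a u = x → ringKrullDim ↥(U.left.presheaf.stalk u) = d := by
  refine ⟨?_, fun h => ?_⟩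
  · intro h U a u ha e
    subst e
    exact (Stk19b.EtaleDim.hasAt_ringKrullDim_iff X.property ha u d).1 h
  · obtain ⟨U, a, hae, has⟩ := X.property.atlas
    obtain ⟨u, e⟩ := AlgSpLib.surjective_ofPt a has x
    exact ⟨U, a, u, hae, e, h U a u hae e⟩

end Groth.Agent.S10248
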