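import Groth.Statements.S10254
import Groth.Agent.Stk19b.StalkSupport
-- import your own Groth.Agent.* helpers here

set_option autoImplicit false
set_option backward.isDefEq.respectTransparency false
universe u
open CategoryTheory CategoryTheory.Limits AlgebraicGeometry Topology TopologicalSpace
open AlgSp Groth.Agent.Stk19b Groth.Agent.Stk19b.StalkPoint

namespace Groth.Agent.S10254

/-- On the small etale site with scheme objects: let X be an algebraic space over a scheme S, F an
abelian sheaf on the small etale site of X, U an object of that site and σ ∈ F(U). Then there is an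
open subset W of U such that: for every morphism φ : V ⟶ U of the site, σ|_V = 0 if and only if φ
maps V into W (in particular W is the largest open subscheme of U on which σ restricts to zero); and
for every geometric point x̄ of X and every lift ū of x̄ to U, the image of σ in the stalk F_x̄
through the etale neighbourhood (U, ū) vanishes if and only if the point of U under ū lies in W.
(The published statement is for abelian sheaves on the site of algebraic spaces etale over X; this
row is its restriction to the site of schemes etale over X, where V ranges over schemes.) -/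
theorem result {S : Scheme.{u}} (X : AlgSp.Space S) (F : AlgSp.AbEt X.obj)
    (U : AlgSp.EtOver X.obj) (σ : ↥(F.obj.obj (Opposite.op U))) :
    ∃ W : TopologicalSpace.Opens ↥U.obj.left.left,
      (∀ (V : AlgSp.EtOver X.obj) (φ : V ⟶ U),
          (F.obj.map φ.op).hom σ = 0 ↔ Set.range (fun v => φ.hom.left.left v) ⊆ (W : Set ↥U.obj.left.left)) ∧
      (∀ p : AlgSp.FieldPt X.obj, p.IsGeometric → ∀ l : (AlgSp.FieldPt.liftsTo p).obj U,
          (AlgSp.stalkEtι p F ⟨U, l⟩).hom σ = 0 ↔ l.1.left (IsLocalRing.closedPoint p.K) ∈ W) := by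
  let Z : Set ↥U.obj.left.left :=
    ⋃ (V : EtOver X.obj) (φ : V ⟶ U) (_ : (F.obj.map φ.op).hom σ = 0), Set.range φ.hom.left.left
  have hopen : IsOpen Z := isOpen_iUnion fun V => isOpen_iUnion fun φ => isOpen_iUnion fun _ => by
    have := EtOver.etale_left φ
    exact φ.hom.left.left.isOpenMap.isOpen_range
  have hmem : ∀ (V : EtOver X.obj) (φ : V ⟶ U) (v : ↥V.obj.left.left), φ.hom.left.left v ∈ Z →
      ∃ (Y : EtOver X.obj) (g : Y ⟶ V), (F.obj.map (g ≫ φ).op).hom σ = 0 ∧
        v ∈ Set.range g.hom.left.left := by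
    intro V φ v hv
    simp only [Z, Set.mem_iUnion] at hv
    obtain ⟨V', ψ, hψ, v', hv'⟩ := hv
    have sq : IsPullback (pullback.fst φ.hom.left ψ.hom.left).left (pullback.snd φ.hom.left ψ.hom.left).left
        φ.hom.left.left ψ.hom.left.left :=
      (IsPullback.of_hasPullback φ.hom.left ψ.hom.left).map (Over.forget S)
    obtain ⟨z, hz, -⟩ := Scheme.Pullback.exists_preimage_pullback v v' hv'.symm
    refine ⟨EtOver.pullbackObj φ ψ, EtOver.pullbackFst φ ψ, ?_, sq.isoPullback.inv z, ?_⟩
    · rw [EtOver.pullback_condition, op_comp, Functor.map_comp]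
      exact (congrArg (F.obj.map (EtOver.pullbackSnd φ ψ).op).hom hψ).trans
        (map_zero (F.obj.map (EtOver.pullbackSnd φ ψ).op).hom)
    · show (EtOver.pullbackFst φ ψ).hom.left.left (sq.isoPullback.inv z) = v
      rw [← hz]
      show (pullback.fst φ.hom.left ψ.hom.left).left (sq.isoPullback.inv z) = _
      rw [← Scheme.Hom.comp_apply, sq.isoPullback_inv_fst]
  refine ⟨⟨Z, hopen⟩, fun V φ => ⟨fun h => ?_, fun h => ?_⟩, fun p hp l => ⟨fun h => ?_, fun h => ?_⟩⟩
  · exact fun y hy => Set.mem_iUnion.2 ⟨V, Set.mem_iUnion.2 ⟨φ, Set.mem_iUnion.2 ⟨h, hy⟩⟩⟩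
  · let R : Sieve V :=
      { arrows := fun Y g => (F.obj.map (g ≫ φ).op).hom σ = 0
        downward_closed := fun {Y W g} hg k => by
          rw [Category.assoc, op_comp, Functor.map_comp]
          exact (congrArg (F.obj.map k.op).hom hg).trans (map_zero (F.obj.map k.op).hom) }
    have hR : R ∈ etTop X.obj V := mem_etTop_of_forall R fun v => hmem V φ v (h ⟨v, rfl⟩)
    refine (((isSheaf_iff_isSheaf_of_type _ _).1 ((Presheaf.isSheaf_iff_isSheaf_forget (etTop X.obj)
      F.obj (CategoryTheory.forget AddCommGrpCat.{u + 1})).1 F.2)) R hR).isSeparatedFor.ext fun Y g hg => ?_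
    show (F.obj.map g.op).hom ((F.obj.map φ.op).hom σ) = (F.obj.map g.op).hom 0
    rw [map_zero]
    have hg' : (F.obj.map (g ≫ φ).op).hom σ = 0 := hg
    rw [op_comp, Functor.map_comp] at hg'
    exact hg'
  · let Φ := EtNbhd.point X.property p hp
    have h1 : Φ.toPresheafFiber U l F.obj σ = Φ.toPresheafFiber U l F.obj 0 :=
      h.trans (map_zero _).symm
    obtain ⟨V, φ, w, hw, e⟩ := (Φ.toPresheafFiber_eq_iff' U l σ 0).1 h1
    exact Set.mem_iUnion.2 ⟨V, Set.mem_iUnion.2 ⟨φ, Set.mem_iUnion.2
      ⟨e.trans (map_zero _), range_of_map φ hw⟩⟩⟩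
  · simp only [Z, TopologicalSpace.Opens.mem_mk, Set.mem_iUnion] at h
    obtain ⟨V, φ, hφ, v, hv⟩ := h
    have : IsAlgClosed p.K := hp
    obtain ⟨w, hw, -⟩ := EtNbhd.exists_lift_over φ.hom.left (EtOver.etale_left φ) l.1 v hv
    let Φ := EtNbhd.point X.property p hp
    have h1 : Φ.toPresheafFiber U l F.obj σ = Φ.toPresheafFiber U l F.obj 0 :=
      (Φ.toPresheafFiber_eq_iff' U l σ 0).2 ⟨V, φ, ⟨w, by rw [← EtOver.w φ, ← Category.assoc, ← Functor.map_comp, hw]; exact l.2⟩,
        Subtype.ext hw, hφ.trans (map_zero _).symm⟩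
    exact h1.trans (map_zero _)

end Groth.Agent.S10254
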