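import Groth.Statements.S10263
import Groth.Agent.AlgSpLib.LocPMore
-- import your own Groth.Agent.* helpers here

set_option autoImplicit false
universe u
open CategoryTheory CategoryTheory.Limits AlgebraicGeometry
open AlgSp

namespace Groth.Agent.S10263

/-- If the composite X -> Y -> Z is unramified then X -> Y is unramified. -/
theorem result {S : Scheme.{u}} {X Y Z : AlgSp.Space S} (f : X ⟶ Y) (g : Y ⟶ Z)
    (h : AlgSp.LocP (@LocallyOfFiniteType ⊓ @FormallyUnramified) (f ≫ g).hom) :
    AlgSp.LocP (@LocallyOfFiniteType ⊓ @FormallyUnramified) f.hom := by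
  exact Groth.Agent.AlgSpLib.locP_of_comp' (Q := ⊤) Groth.Agent.AlgSpLib.etLocal_unramified X.property Y.property Z.property
    (fun _ _ _ a b h' _ => by
      have := h'.1; have := h'.2
      exact ⟨locallyOfFiniteType_of_comp a b, FormallyUnramified.of_comp a b⟩) h (Groth.Agent.AlgSpLib.locP_top _)

end Groth.Agent.S10263
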