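import Groth.Statements.S10268
import Groth.Agent.AlgSpLib.MorMore
import Groth.Agent.AlgSpLib.FpqcBaseImm
-- import your own Groth.Agent.* helpers here

set_option autoImplicit false
universe u
open CategoryTheory CategoryTheory.Limits AlgebraicGeometry
open AlgSp

namespace Groth.Agent.S10268

/-- (3) ⇒ (2): integrality and finiteness of a morphism of algebraic spaces descend along a surjective
etale base change from a scheme. -/
theorem result {S : Scheme.{u}} {X Y : AlgSp.Space S} (f : X ⟶ Y) (V : Over S)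
    (p : (AlgSp.yon S).obj V ⟶ Y.obj) (hp : AlgSp.RepWith @Etale p) (hps : AlgSp.RepWith @Surjective p)
    {P : AlgSp.Sp S} (fst : P ⟶ X.obj) (snd : P ⟶ (AlgSp.yon S).obj V) (sq : IsPullback fst snd f.hom p) :
    (AlgSp.IsIntegralMor snd → AlgSp.IsIntegralMor f.hom) ∧ (AlgSp.IsFiniteMor snd → AlgSp.IsFiniteMor f.hom) := by
  exact ⟨(Groth.Agent.AlgSpLib.iff_of_etale_cover Groth.Agent.AlgSpLib.isLocalOnBase_fpqc_integral X.property Y.property f.hom p hp hps sq).2,
    (Groth.Agent.AlgSpLib.iff_of_etale_cover Groth.Agent.AlgSpLib.isLocalOnBase_fpqc_finite X.property Y.property f.hom p hp hps sq).2⟩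

end Groth.Agent.S10268
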