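import Groth.Statements.S10269
import Groth.Agent.AlgSpLib.MorMore
import Groth.Agent.AlgSpLib.FpqcBaseImm
-- import your own Groth.Agent.* helpers here

set_option autoImplicit false
universe u
open CategoryTheory CategoryTheory.Limits AlgebraicGeometry
open AlgSp

namespace Groth.Agent.S10269

/-- A finite morphism of algebraic spaces is integral; an integral morphism locally of finite type is
finite. -/
theorem result {S : Scheme.{u}} {X Y : AlgSp.Space S} (f : X ⟶ Y) :
    (AlgSp.IsFiniteMor f.hom → AlgSp.IsIntegralMor f.hom) ∧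
    (AlgSp.IsIntegralMor f.hom → AlgSp.LocP @LocallyOfFiniteType f.hom → AlgSp.IsFiniteMor f.hom) := by
  rw [Groth.Agent.AlgSpLib.isFiniteMor_iff_repWith, Groth.Agent.AlgSpLib.isIntegralMor_iff_repWith]
  refine ⟨fun h => Groth.Agent.AlgSpLib.RepWith.mono (fun _ _ g (_ : IsFinite g) => (inferInstance : IsIntegralHom g)) h,
    fun h hl => ?_⟩
  have hl' := (Groth.Agent.AlgSpLib.repWith_iff_locP Groth.Agent.AlgSpLib.etLocal_lft X.property Y.property h.1).2 hl
  exact ⟨h.1, fun U V g fst snd sq => (IsFinite.iff_isIntegralHom_and_locallyOfFiniteType _).2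
    ⟨h.2 g fst snd sq, hl'.2 g fst snd sq⟩⟩

end Groth.Agent.S10269
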