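import Groth.Statements.S1027
import Groth.Agent.DQCoh.ProperSuppFlat17
-- import your own Groth.Agent.* helpers here

set_option autoImplicit false
set_option backward.isDefEq.respectTransparency false
set_option linter.style.haveILetI false
universe u
open CategoryTheory CategoryTheory.Limits AlgebraicGeometry
open Perf

namespace Groth.Agent.S1027

/-- Let f : X ⟶ S be of finite presentation (locally of finite presentation, quasi-compact and
quasi-separated) and F a finitely presented O_X-module which is S-flat and whose support is proper
over S. If the higher direct images Rⁱf_*F vanish for all i > 0 (computed with injective resolutions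
of O_X-modules, whose existence is assumed as an instance), then f_*F is a finite locally free
O_S-module. (The source adds that its formation commutes with base change.) -/
theorem result {X S : Scheme.{u}} (f : X ⟶ S) [LocallyOfFinitePresentation f]
    [QuasiCompact f] [QuasiSeparated f] [HasInjectiveResolutions X.Modules]
    (F : X.Modules) (hF : CohB1.IsFP F) (hflat : FlatMod.IsFlatOver f F) (hsupp : ClSub.IsProperOver f (CohB1.support F))
    (hvan : ∀ i : ℕ, 0 < i → IsZero ((Coh.Rpush f i).obj F)) :
    FlatMod.IsFinLocFree ((Coh.push f).obj F) := by
  exact Groth.Agent.DQCoh.ProperSuppFlat17.isFinLocFree_push f F hF hflat hsupp hvan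

end Groth.Agent.S1027

#print axioms Groth.Agent.S1027.result
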