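import Groth.Statements.S10270
import Groth.Agent.AlgSpLib.MorMore
import Groth.Agent.AlgSpLib.FpqcBaseImm
-- import your own Groth.Agent.* helpers here

set_option autoImplicit false
universe u
open CategoryTheory CategoryTheory.Limits AlgebraicGeometry
open AlgSp

namespace Groth.Agent.S10270

/-- A morphism of algebraic spaces is integral if and only if it is affine and universally closed. -/
theorem result {S : Scheme.{u}} {X Y : AlgSp.Space S} (f : X ⟶ Y) :
    AlgSp.IsIntegralMor f.hom ↔ (AlgSp.IsAffineMor f.hom ∧ AlgSp.IsUnivClosedMor f.hom) := by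
  rw [Groth.Agent.AlgSpLib.isIntegralMor_iff_repWith, Groth.Agent.AlgSpLib.isAffineMor_iff_repWith]
  constructor
  · intro h
    exact ⟨Groth.Agent.AlgSpLib.RepWith.mono (fun _ _ g (_ : IsIntegralHom g) => (inferInstance : IsAffineHom g)) h,
      (Groth.Agent.AlgSpLib.repWith_universallyClosed_iff h.1).1
        (Groth.Agent.AlgSpLib.RepWith.mono (fun _ _ g (_ : IsIntegralHom g) => (inferInstance : UniversallyClosed g)) h)⟩
  · rintro ⟨h, hu⟩
    have hu' := (Groth.Agent.AlgSpLib.repWith_universallyClosed_iff h.1).2 hu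
    exact ⟨h.1, fun U V g fst snd sq => IsIntegralHom.iff_universallyClosed_and_isAffineHom.2
      ⟨hu'.2 g fst snd sq, h.2 g fst snd sq⟩⟩

end Groth.Agent.S10270
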