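import Groth.Statements.S10272
import Groth.Agent.AlgSpLib.MorMore
import Groth.Agent.AlgSpLib.FpqcBaseImm
-- import your own Groth.Agent.* helpers here

set_option autoImplicit false
universe u
open CategoryTheory CategoryTheory.Limits AlgebraicGeometry
open AlgSp

namespace Groth.Agent.S10272

/-- If g is separated and the composite of f and g is finite (resp. integral) then f is finite (resp.
integral). -/
theorem result {S : Scheme.{u}} {X Y Z : AlgSp.Space S} (f : X ⟶ Y) (g : Y ⟶ Z)
    (hg : AlgSp.IsSeparatedMor g.hom) :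
    (AlgSp.IsFiniteMor (f ≫ g).hom → AlgSp.IsFiniteMor f.hom) ∧
    (AlgSp.IsIntegralMor (f ≫ g).hom → AlgSp.IsIntegralMor f.hom) := by
  have hd : AlgSp.RepWith @IsClosedImmersion
      (pullback.lift (f := (f ≫ g).hom) (g := g.hom) (𝟙 X.obj) f.hom (by simp)) := by
    let m : pullback (f ≫ g).hom g.hom ⟶ pullback g.hom g.hom :=
      pullback.lift (pullback.fst _ _ ≫ f.hom) (pullback.snd _ _)
        (by rw [Category.assoc]; exact pullback.condition)
    have bot : IsPullback m (pullback.fst (f ≫ g).hom g.hom) (pullback.fst g.hom g.hom) f.hom := by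
      refine IsPullback.of_right ?_ (pullback.lift_fst _ _ _) (IsPullback.of_hasPullback g.hom g.hom).flip
      rw [show m ≫ pullback.snd g.hom g.hom = pullback.snd (f ≫ g).hom g.hom from pullback.lift_snd _ _ _]
      exact (IsPullback.of_hasPullback (f ≫ g).hom g.hom).flip
    refine Groth.Agent.AlgSpLib.RepWith.baseChange (f := pullback.diagonal g.hom) (g := m)
      (IsPullback.of_bot (h₁₁ := f.hom) ?_ ?_ bot) hg
    · rw [pullback.lift_fst, pullback.diagonal_fst]
      exact IsPullback.of_vert_isIso ⟨by simp⟩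
    · apply pullback.hom_ext
      · simp [m, pullback.lift_fst, pullback.lift_fst_assoc, pullback.diagonal_fst]
      · simp [m, pullback.lift_snd, pullback.diagonal_snd]
  have key : ∀ (P : MorphismProperty Scheme.{u}) [P.IsStableUnderBaseChange] [P.IsStableUnderComposition],
      @IsClosedImmersion ≤ P → AlgSp.RepWith P (f ≫ g).hom → AlgSp.RepWith P f.hom := by
    intro P _ _ hP h
    have e : pullback.lift (f := (f ≫ g).hom) (g := g.hom) (𝟙 X.obj) f.hom (by simp) ≫
        pullback.snd (f ≫ g).hom g.hom = f.hom := pullback.lift_snd _ _ _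
    rw [← e]
    exact Groth.Agent.AlgSpLib.RepWith.comp (Groth.Agent.AlgSpLib.RepWith.mono hP hd)
      (Groth.Agent.AlgSpLib.RepWith.baseChange (IsPullback.of_hasPullback _ _) h)
  refine ⟨fun h => (Groth.Agent.AlgSpLib.isFiniteMor_iff_repWith _).2 (key @IsFinite ?_ ((Groth.Agent.AlgSpLib.isFiniteMor_iff_repWith _).1 h)),
    fun h => (Groth.Agent.AlgSpLib.isIntegralMor_iff_repWith _).2 (key @IsIntegralHom ?_ ((Groth.Agent.AlgSpLib.isIntegralMor_iff_repWith _).1 h))⟩
  · exact fun _ _ g (_ : IsClosedImmersion g) => (inferInstance : IsFinite g)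
  · exact fun _ _ g (_ : IsClosedImmersion g) => (inferInstance : IsIntegralHom g)

end Groth.Agent.S10272
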