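import Groth.Statements.S10280
import Groth.Agent.AlgSpLib.MorProper
-- import your own Groth.Agent.* helpers here

set_option autoImplicit false
universe u
open CategoryTheory CategoryTheory.Limits AlgebraicGeometry
open AlgSp

namespace Groth.Agent.S10280

open Groth.Agent.AlgSpLib

/-- F is separated if and only if its diagonal is universally closed, if and only if its diagonal is
proper. -/
theorem result {S : Scheme.{u}} {X Y : AlgSp.Space S} (f : X ⟶ Y) :
    (AlgSp.IsSeparatedMor f.hom ↔ AlgSp.IsUnivClosedMor (pullback.diagonal f.hom)) ∧
    (AlgSp.IsSeparatedMor f.hom ↔ AlgSp.IsProperMor (pullback.diagonal f.hom)) := by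
  have h1 := isSeparatedMor_iff_diagonal_univClosed X.property Y.property f.hom
  exact ⟨h1, fun h => isProperMor_of_closedImmersion X.property (isAlgSpace_pullback f.hom f.hom) h,
    fun h => h1.2 h.2.2⟩

end Groth.Agent.S10280
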