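import Groth.Statements.S10281
import Groth.Agent.AlgSpLib.ProperImage
import Groth.Agent.AlgSpLib.SchImage
-- import your own Groth.Agent.* helpers here

set_option autoImplicit false
universe u
open CategoryTheory CategoryTheory.Limits AlgebraicGeometry
open AlgSp

namespace Groth.Agent.S10281

/-- The scheme theoretic image of a space proper over B in a space separated and locally of finite type
over B is proper over B, and the source surjects onto it. -/
theorem result {S : Scheme.{u}} {X Y Z B : AlgSp.Space S} (h : X ⟶ Y) (f : X ⟶ B)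
    (g : Y ⟶ B) (comm : h ≫ g = f) (hf : AlgSp.IsProperMor f.hom) (hg : AlgSp.IsSeparatedMor g.hom)
    (hg' : AlgSp.LocP @LocallyOfFiniteType g.hom) (i : Z ⟶ Y) (hZ : AlgSp.IsSchImage h.hom i.hom)
    (h' : X ⟶ Z) (fac : h' ≫ i = h) :
    AlgSp.IsProperMor (i ≫ g).hom ∧ AlgSp.IsSurjectiveMor h'.hom := by
  subst comm fac
  simp only [ObjectProperty.FullSubcategory.comp_hom] at hZ hf ⊢
  have hc := AlgSpLib.isUnivClosedMor_of_comp_separated X.property Y.property B.property hf.2.2 hg
  have hqc := Stk19b.UnivClosedQcSp.isQuasiCompactMor_of_univClosed X.property Y.property hc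
  have hs : AlgSp.IsSurjectiveMor h'.hom := fun z => by
    obtain ⟨x, hx⟩ := (AlgSpLib.isClosedMap_of_univClosed Y.property hc).isClosed_range.closure_eq.le
      (AlgSpLib.range_subset_closure X.property Y.property hqc hZ ⟨z, rfl⟩)
    exact ⟨x, (AlgSpLib.isEmbedding_map_of_closedImmersion Y.property hZ.1).injective
      (by rw [← AlgSp.Points.map_comp, hx])⟩
  rw [Category.assoc] at hf
  exact ⟨AlgSpLib.isProperMor_of_jointly_surjective (W := fun _ : Unit => X.obj) Z.property B.property (fun _ => X.property)
    (fun _ => h'.hom) (fun z => ⟨(), hs z⟩)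
    (fun _ => AlgSpLib.isUnivClosedMor_cancel_closedImmersion X.property Z.property Y.property hZ.1 hc)
    (AlgSpLib.locP_comp AlgSpLib.etLocal_lft Z.property Y.property B.property
      (AlgSpLib.locP_of_repWith_closedImmersion Z.property hZ.1) hg') (fun _ => hf), hs⟩

end Groth.Agent.S10281
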