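import Groth.Statements.S10282
import Groth.Agent.AlgSpLib.ValuativeBasic
-- import your own Groth.Agent.* helpers here

set_option autoImplicit false
universe u
open CategoryTheory CategoryTheory.Limits AlgebraicGeometry
open AlgSp

namespace Groth.Agent.S10282

private theorem lift_to_ring {A K A' K' : Type u} [CommRing A] [IsDomain A] [ValuationRing A] [Field K] [Algebra A K]
    [IsFractionRing A K] [CommRing A'] [IsDomain A'] [Field K'] [Algebra A' K'] [IsFractionRing A' K']
    {B : Type u} [CommRing B] (φ : A →+* A') [IsLocalHom φ] (ψ : K →+* K')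
    (hc : (algebraMap A' K').comp φ = ψ.comp (algebraMap A K)) (β : B →+* A') (γ : B →+* K)
    (h : ψ.comp γ = (algebraMap A' K').comp β) : ∃ α : B →+* A, (algebraMap A K).comp α = γ := by
  have key : ∀ b, γ b ∈ (algebraMap A K).range := fun b => by
    rcases (ValuationRing.iff_isInteger_or_isInteger A K).1 inferInstance (γ b) with hb | hb
    · exact hb
    · obtain ⟨a, ha⟩ := hb
      by_cases hγ : γ b = 0
      · exact ⟨0, by rw [map_zero, hγ]⟩
      have h1 : algebraMap A K a * γ b = 1 := by rw [ha, inv_mul_cancel₀ hγ]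
      have h2 : φ a * β b = 1 := IsFractionRing.injective A' K' (by
        rw [map_mul, map_one, ← RingHom.comp_apply, hc, ← RingHom.comp_apply (algebraMap A' K') β, ← h,
          RingHom.comp_apply, RingHom.comp_apply, ← map_mul, h1, map_one])
      obtain ⟨a', ha'⟩ := (isUnit_of_map_unit φ a (IsUnit.of_mul_eq_one _ h2)).exists_left_inv
      refine ⟨a', ?_⟩
      calc algebraMap A K a' = algebraMap A K a' * (algebraMap A K a * γ b) := by rw [h1, mul_one]
        _ = γ b := by rw [← mul_assoc, ← map_mul, ha', map_one, one_mul]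
  let α₀ := RingEquiv.ofBijective (algebraMap A K).rangeRestrict
    ⟨fun x y e => IsFractionRing.injective A K (congrArg Subtype.val e), (algebraMap A K).rangeRestrict_surjective⟩
  refine ⟨α₀.symm.toRingHom.comp (γ.codRestrict _ key), RingHom.ext fun b => ?_⟩
  exact congrArg Subtype.val (α₀.apply_symm_apply ⟨γ b, key b⟩)

set_option backward.isDefEq.respectTransparency.types false

/-- For a representable morphism of algebraic spaces the existence part of the valuative criterion with
extensions allowed is equivalent to the one without extensions. -/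
theorem result {S : Scheme.{u}} {X Y : AlgSp.Space S} (f : X ⟶ Y)
    (hf : AlgSp.Representable f.hom) : AlgSp.ExistVC f.hom ↔ AlgSp.ExistVCStrict f.hom := by
  refine ⟨fun h sq => ?_, AlgSpLib.existVC_of_existVCStrict⟩
  obtain ⟨e, l', h1, h2⟩ := h sq
  obtain ⟨R, fstR, r, sqR⟩ : ∃ (R : Over S) (fstR : (AlgSp.yon S).obj R ⟶ X.obj) (r : R ⟶ sq.ptA),
      IsPullback fstR ((AlgSp.yon S).map r) f.hom sq.bot :=
    ⟨_, _, _, hf.isPullback sq.bot⟩
  let ψS : e.ptK' ⟶ sq.ptK := Over.homMk (Spec.map (CommRingCat.ofHom e.ψ)) (by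
    change Spec.map _ ≫ Spec.map _ ≫ _ = Spec.map _ ≫ Spec.map _ ≫ _
    rw [← Spec.map_comp_assoc, ← Spec.map_comp_assoc, ← CommRingCat.ofHom_comp, ← CommRingCat.ofHom_comp, e.comm])
  let φS : e.ptA' ⟶ sq.ptA := Over.homMk (Spec.map (CommRingCat.ofHom e.φ)) rfl
  let jS : e.ptK' ⟶ e.ptA' := Over.homMk (Spec.map (CommRingCat.ofHom (algebraMap e.A' e.K'))) rfl
  obtain ⟨lA, hlA⟩ := (AlgSp.yon S).map_surjective (sqR.lift l' ((AlgSp.yon S).map φS) h2)
  obtain ⟨lK, hlK⟩ := (AlgSp.yon S).map_surjective (sqR.lift sq.top ((AlgSp.yon S).map sq.j) sq.comm)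
  have hA : lA ≫ r = φS := (AlgSp.yon S).map_injective (by rw [(AlgSp.yon S).map_comp, hlA, sqR.lift_snd])
  have hK : lK ≫ r = sq.j := (AlgSp.yon S).map_injective (by rw [(AlgSp.yon S).map_comp, hlK, sqR.lift_snd])
  have hAK : jS ≫ lA = ψS ≫ lK := (AlgSp.yon S).map_injective (sqR.hom_ext
    (by
      rw [(AlgSp.yon S).map_comp, (AlgSp.yon S).map_comp, hlA, hlK, Category.assoc, Category.assoc, sqR.lift_fst,
        sqR.lift_fst]
      exact h1)
    (by
      rw [(AlgSp.yon S).map_comp, (AlgSp.yon S).map_comp, hlA, hlK, Category.assoc, Category.assoc, sqR.lift_snd,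
        sqR.lift_snd, ← (AlgSp.yon S).map_comp, ← (AlgSp.yon S).map_comp]
      refine congrArg (AlgSp.yon S).map (Over.OverMorphism.ext ?_)
      show Spec.map _ ≫ Spec.map _ = Spec.map _ ≫ Spec.map _
      rw [← Spec.map_comp, ← Spec.map_comp, ← CommRingCat.ofHom_comp, ← CommRingCat.ofHom_comp, e.comm]))
  have eAK : Spec.map (CommRingCat.ofHom (algebraMap e.A' e.K')) ≫ lA.left =
      Spec.map (CommRingCat.ofHom e.ψ) ≫ lK.left := congrArg (fun m => CommaMorphism.left m) hAK
  obtain ⟨_, ⟨U₀, hU₀, rfl⟩, hc, -⟩ := R.left.isBasis_affineOpens.exists_subset_of_mem_open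
    (Set.mem_univ (lA.left (IsLocalRing.closedPoint e.A'))) isOpen_univ
  let U : R.left.Opens := U₀
  have hU : IsAffine U.toScheme := hU₀
  have hrA : Set.range lA.left ⊆ Set.range U.ι := by
    rintro _ ⟨z, rfl⟩
    rw [Scheme.Opens.range_ι]
    exact ((IsLocalRing.specializes_closedPoint z).map lA.left.continuous).mem_open U.2 hc
  have hrK : Set.range lK.left ⊆ Set.range U.ι := by
    rintro _ ⟨z, rfl⟩
    have : Spec.map (CommRingCat.ofHom e.ψ) default = z := Subsingleton.elim _ _
    rw [← this, ← Scheme.Hom.comp_apply, ← eAK, Scheme.Hom.comp_apply]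
    exact hrA ⟨_, rfl⟩
  let mA := IsOpenImmersion.lift U.ι lA.left hrA
  let mK := IsOpenImmersion.lift U.ι lK.left hrK
  obtain ⟨β, hβ⟩ := Spec.map_surjective (mA ≫ U.toScheme.isoSpec.hom)
  obtain ⟨γ, hγ⟩ := Spec.map_surjective (mK ≫ U.toScheme.isoSpec.hom)
  have : IsLocalHom e.φ := e.isLocalHom
  have eB : e.ψ.comp γ.hom = (algebraMap e.A' e.K').comp β.hom := by
    have : γ ≫ CommRingCat.ofHom e.ψ = β ≫ CommRingCat.ofHom (algebraMap e.A' e.K') := Spec.map_injective (by
      rw [Spec.map_comp, Spec.map_comp, hβ, hγ, ← Category.assoc, ← Category.assoc]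
      congr 1
      rw [← cancel_mono U.ι, Category.assoc, Category.assoc, IsOpenImmersion.lift_fac, IsOpenImmersion.lift_fac, eAK])
    exact congrArg CommRingCat.Hom.hom this
  obtain ⟨α, hα⟩ := lift_to_ring e.φ e.ψ e.comm β.hom γ.hom eB
  let m : Spec (.of sq.A) ⟶ R.left := Spec.map (CommRingCat.ofHom α) ≫ U.toScheme.isoSpec.inv ≫ U.ι
  have hm : Spec.map (CommRingCat.ofHom (algebraMap sq.A sq.K)) ≫ m = lK.left := by
    have : CommRingCat.ofHom α ≫ CommRingCat.ofHom (algebraMap sq.A sq.K) = γ := CommRingCat.hom_ext hα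
    rw [← IsOpenImmersion.lift_fac U.ι lK.left hrK, ← Category.assoc, ← Spec.map_comp, this, hγ]
    simp [mK]
  have hmA : Spec.map (CommRingCat.ofHom e.φ) ≫ m = lA.left := by
    have hαβ : e.φ.comp α = β.hom := RingHom.ext fun b => IsFractionRing.injective e.A' e.K' (by
      rw [RingHom.comp_apply, ← RingHom.comp_apply, e.comm, RingHom.comp_apply, ← RingHom.comp_apply (algebraMap sq.A sq.K), hα,
        ← RingHom.comp_apply, eB, RingHom.comp_apply])
    have : CommRingCat.ofHom α ≫ CommRingCat.ofHom e.φ = β := CommRingCat.hom_ext hαβ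
    rw [← IsOpenImmersion.lift_fac U.ι lA.left hrA, ← Category.assoc, ← Spec.map_comp, this, hβ]
    simp [mA]
  have hmr : m ≫ r.left = 𝟙 _ := by
    obtain ⟨a₀, ha₀⟩ := Spec.map_surjective (m ≫ r.left)
    have : a₀ ≫ CommRingCat.ofHom (algebraMap sq.A sq.K) = CommRingCat.ofHom (algebraMap sq.A sq.K) :=
      Spec.map_injective (by
        rw [Spec.map_comp, ha₀, ← Category.assoc, hm]
        exact congrArg (fun m => CommaMorphism.left m) hK)
    rw [← ha₀, ← Spec.map_id]
    congr 1
    ext x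
    exact IsFractionRing.injective sq.A sq.K (congrArg (fun g => g.hom x) this)
  let mS : sq.ptA ⟶ R := Over.homMk m (by
    show m ≫ R.hom = sq.str
    rw [← Over.w r, ← Category.assoc, hmr, Category.id_comp]; rfl)
  refine ⟨(AlgSp.yon S).map mS ≫ fstR, ?_, ?_⟩
  · rw [← Category.assoc, ← (AlgSp.yon S).map_comp, show sq.j ≫ mS = lK from Over.OverMorphism.ext hm, hlK, sqR.lift_fst]
  · rw [Category.assoc, sqR.w, ← Category.assoc, ← (AlgSp.yon S).map_comp,
      show mS ≫ r = 𝟙 _ from Over.OverMorphism.ext hmr, (AlgSp.yon S).map_id, Category.id_comp]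

end Groth.Agent.S10282
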