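import Groth.Statements.S10292
import Groth.Agent.AlgSpLib.ValuationPoint
import Groth.Agent.AlgSpLib.EtLocalInst
import Groth.Agent.AlgSpLib.LocP
-- import your own Groth.Agent.* helpers here

set_option autoImplicit false
universe u
open CategoryTheory CategoryTheory.Limits AlgebraicGeometry
open AlgSp

namespace Groth.Agent.S10292

open Groth.Agent.AlgSpLib in
set_option backward.isDefEq.respectTransparency.types false in
theorem aux {A : Type u} [CommRing A] [IsDomain A] [ValuationRing A] {W : Scheme.{u}}
    (π : W ⟶ Spec (CommRingCat.of A)) [Flat π] (w : W) (hw : π w = IsLocalRing.closedPoint A) :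
    ∃ (A' : Type u) (_ : CommRing A') (_ : IsDomain A') (_ : ValuationRing A') (φ : A →+* A'),
      Function.Injective φ ∧ IsLocalHom φ ∧
        ∃ k : Spec (CommRingCat.of A') ⟶ W, k ≫ π = Spec.map (CommRingCat.ofHom φ) := by
  let η : Spec (CommRingCat.of A) := ⟨⊥, Ideal.isPrime_bot⟩
  have hη : η ⤳ π w := (PrimeSpectrum.le_iff_specializes _ _).1 bot_le
  obtain ⟨w', hw', hw'η⟩ := Flat.generalizingMap π hη
  have ht : (W.fromSpecResidueField w') (IsLocalRing.closedPoint (W.residueField w')) = w' :=
    Scheme.fromSpecResidueField_apply _ _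
  obtain ⟨A', k, hk, hkc⟩ := exists_valuationSubring_of_specializes (Ω := W.residueField w')
    (W.fromSpecResidueField w') (w := w) (by rw [ht]; exact hw')
  let φ : A →+* A' := (Spec.preimage (k ≫ π)).hom
  have hφ : k ≫ π = Spec.map (CommRingCat.ofHom φ) := (Spec.map_preimage _).symm
  refine ⟨A', inferInstance, inferInstance, inferInstance, φ, ?_, ?_, k, hφ⟩
  · have h1 : Spec.map (CommRingCat.ofHom (A'.subtype.comp φ))
        (IsLocalRing.closedPoint (W.residueField w')) = η := by
      have e : Spec.map (CommRingCat.ofHom (A'.subtype.comp φ)) = W.fromSpecResidueField w' ≫ π := by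
        rw [show CommRingCat.ofHom (A'.subtype.comp φ) =
          CommRingCat.ofHom φ ≫ CommRingCat.ofHom A'.subtype from rfl, Spec.map_comp, ← hφ,
          ← Category.assoc, hk]
      rw [e]
      exact (congrArg π ht).trans hw'η
    refine (injective_iff_map_eq_zero φ).2 fun a ha => ?_
    have h2 : a ∈ (Spec.map (CommRingCat.ofHom (A'.subtype.comp φ))
        (IsLocalRing.closedPoint (W.residueField w'))).asIdeal := by
      refine Ideal.mem_comap.2 ?_
      show (A'.subtype.comp φ) a ∈ IsLocalRing.maximalIdeal _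
      simp [ha]
    rw [h1] at h2
    exact (Submodule.mem_bot _).1 h2
  · refine isLocalHom_of_closedPoint φ ?_
    rw [← hφ]
    exact (congrArg π hkc).trans hw

set_option backward.isDefEq.respectTransparency.types false in
/-- Along a flat morphism of algebraic spaces, a morphism from the spectrum of a valuation ring to the
target whose closed point is hit lifts to the source after an extension of valuation rings
(injective and local). -/
theorem result {S : Scheme.{u}} {X Y : AlgSp.Space S} (f : X ⟶ Y)
    (hf : AlgSp.LocP @Flat f.hom) (A : Type u) [CommRing A] [IsDomain A] [ValuationRing A]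
    (str : Spec (.of A) ⟶ S) (b : (AlgSp.yon S).obj (Over.mk str) ⟶ Y.obj)
    (hb : AlgSp.Points.ofPt b (IsLocalRing.closedPoint A) ∈ Set.range (AlgSp.Points.map f.hom)) :
    ∃ (A' : Type u) (_ : CommRing A') (_ : IsDomain A') (_ : ValuationRing A') (φ : A →+* A'),
      Function.Injective φ ∧ IsLocalHom φ ∧
      ∃ l : (AlgSp.yon S).obj (Over.mk (Spec.map (CommRingCat.ofHom φ) ≫ str)) ⟶ X.obj,
        l ≫ f.hom = (AlgSp.yon S).map (Over.homMk (Spec.map (CommRingCat.ofHom φ)) rfl :
          Over.mk (Spec.map (CommRingCat.ofHom φ) ≫ str) ⟶ Over.mk str) ≫ b := by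
  have := Groth.Agent.AlgSpLib.etLocal_flat.{u}
  obtain ⟨x, hx⟩ := hb
  replace hx := hx.trans (Points.ofPt_eq_map_ofScheme b _)
  have hP := Groth.Agent.AlgSpLib.isAlgSpace_of_isPullback Y.property.diag X.property (IsAlgSpace.yon_obj _)
    (IsPullback.of_hasPullback f.hom b)
  obtain ⟨z, -, hz⟩ := Groth.Agent.AlgSpLib.exists_point_of_isPullback
    (IsPullback.of_hasPullback f.hom b) hx
  obtain ⟨W, e, hee, hes⟩ := hP.atlas
  obtain ⟨π, hπ⟩ := (yon S).map_surjective (e ≫ pullback.snd f.hom b)
  obtain ⟨w, hw⟩ := Groth.Agent.AlgSpLib.surjective_ofPt e hes z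
  have hflat : Flat π.left := by
    refine Groth.Agent.AlgSpLib.locP_of_isPullback this X.property Y.property hP
      (IsPullback.of_hasPullback f.hom b) hf e (𝟙 _) π hee (repWith_id @Etale.{u} _) ?_
    rw [hπ, Category.comp_id]
  have hwc : π.left w = IsLocalRing.closedPoint A := by
    have h1 : Points.ofPt ((yon S).map π) w = Points.ofScheme _ (IsLocalRing.closedPoint A) := by
      rw [hπ, ← Points.map_ofPt, hw]
      exact hz
    have h2 := congrArg (Points.toScheme _) h1
    exact (Points.toScheme_ofPt π w).symm.trans (h2.trans (Points.toScheme_ofScheme _ _))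
  obtain ⟨A', _, _, _, φ, hinj, hloc, k, hk⟩ := aux π.left w hwc
  let k' : Over.mk (Spec.map (CommRingCat.ofHom φ) ≫ str) ⟶ W :=
    Over.homMk k (by rw [← Over.w π, ← Category.assoc, hk]; rfl)
  refine ⟨A', inferInstance, inferInstance, inferInstance, φ, hinj, hloc,
    (yon S).map k' ≫ e ≫ pullback.fst f.hom b, ?_⟩
  rw [Category.assoc, Category.assoc, pullback.condition, ← Category.assoc e, ← hπ, ← Category.assoc,
    ← Functor.map_comp]
  congr 2
  exact Over.OverMorphism.ext hk

end Groth.Agent.S10292
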