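import Groth.Statements.S10294
import Groth.Agent.AlgSpLib.MorMore
import Groth.Agent.AlgSpLib.FpqcBaseImm
-- import your own Groth.Agent.* helpers here

set_option autoImplicit false
universe u
open CategoryTheory CategoryTheory.Limits AlgebraicGeometry
open AlgSp

namespace Groth.Agent.S10294

/-- Finite locally free is the same as finite, flat and locally of finite presentation; over a locally
Noetherian target it is the same as finite and flat. -/
theorem result {S : Scheme.{u}} {X Y : AlgSp.Space S} (f : X ⟶ Y) :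
    (AlgSp.IsFinLocFreeMor f.hom ↔
      (AlgSp.IsFiniteMor f.hom ∧ AlgSp.LocP @Flat f.hom ∧ AlgSp.LocP @LocallyOfFinitePresentation f.hom)) ∧
    (AlgSp.IsLocNoethSp Y.obj →
      (AlgSp.IsFinLocFreeMor f.hom ↔ (AlgSp.IsFiniteMor f.hom ∧ AlgSp.LocP @Flat f.hom))) := by
  have key : AlgSp.IsFinLocFreeMor f.hom ↔
      (AlgSp.IsFiniteMor f.hom ∧ AlgSp.LocP @Flat f.hom ∧ AlgSp.LocP @LocallyOfFinitePresentation f.hom) := by
    rw [Groth.Agent.AlgSpLib.isFiniteMor_iff_repWith]
    constructor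
    · intro h
      exact ⟨Groth.Agent.AlgSpLib.RepWith.mono (fun _ _ g hg => hg.1) h,
        Groth.Agent.AlgSpLib.locP_of_repWith Groth.Agent.AlgSpLib.etLocal_flat X.property (Groth.Agent.AlgSpLib.RepWith.mono (fun _ _ g hg => hg.2.1) h),
        Groth.Agent.AlgSpLib.locP_of_repWith Groth.Agent.AlgSpLib.etLocal_lfp X.property (Groth.Agent.AlgSpLib.RepWith.mono (fun _ _ g hg => hg.2.2) h)⟩
    · rintro ⟨h, h1, h2⟩
      have h1' := (Groth.Agent.AlgSpLib.repWith_iff_locP Groth.Agent.AlgSpLib.etLocal_flat X.property Y.property h.1).2 h1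
      have h2' := (Groth.Agent.AlgSpLib.repWith_iff_locP Groth.Agent.AlgSpLib.etLocal_lfp X.property Y.property h.1).2 h2
      exact ⟨h.1, fun U V g fst snd sq => ⟨h.2 g fst snd sq, h1'.2 g fst snd sq, h2'.2 g fst snd sq⟩⟩
  refine ⟨key, fun hn => key.trans ⟨fun h => ⟨h.1, h.2.1⟩, fun h => ⟨h.1, h.2,
    Groth.Agent.AlgSpLib.locP_lfp_of_lft_of_locNoeth X.property Y.property hn ?_⟩⟩⟩
  exact Groth.Agent.AlgSpLib.locP_of_repWith Groth.Agent.AlgSpLib.etLocal_lft X.property (Groth.Agent.AlgSpLib.RepWith.mono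
    (fun _ _ g (_ : IsFinite g) => (inferInstance : LocallyOfFiniteType g))
    ((Groth.Agent.AlgSpLib.isFiniteMor_iff_repWith f.hom).1 h.1))

end Groth.Agent.S10294
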