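import Groth.Statements.S10296
import Groth.Agent.AlgSpLib.MorMore
import Groth.Agent.AlgSpLib.FpqcBaseImm
import Groth.Agent.S10272
-- import your own Groth.Agent.* helpers here

set_option autoImplicit false
universe u
open CategoryTheory CategoryTheory.Limits AlgebraicGeometry
open AlgSp

namespace Groth.Agent.S10296

set_option backward.isDefEq.respectTransparency.types false

/-- The induced morphism from the normalization of X in Y to any integral Z -> X through which Y -> X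
factors is the normalization of Z in Y. -/
theorem result {S : Scheme.{u}} {Y X X' Z : AlgSp.Space S} (f : Y ⟶ X)
    (hqc : AlgSp.IsQuasiCompactMor f.hom) (hqs : AlgSp.IsQuasiSeparatedMor f.hom) (ν : X' ⟶ X) (f' : Y ⟶ X')
    (hn : AlgSp.IsRelNormalization f.hom ν.hom f'.hom) (π : Z ⟶ X) (hπ : AlgSp.IsIntegralMor π.hom) (g : Y ⟶ Z)
    (hg : g ≫ π = f) (h : X' ⟶ Z) (h1 : f' ≫ h = g) (h2 : h ≫ π = ν) :
    AlgSp.IsRelNormalization g.hom h.hom f'.hom := by
  have hs : AlgSp.IsSeparatedMor π.hom := by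
    have := (AlgSpLib.isIntegralMor_iff_repWith π.hom).1 hπ
    exact (AlgSpLib.repWith_diagonal_iff this.1).2 (AlgSpLib.RepWith.mono
      (fun _ _ g (hg : IsIntegralHom g) => (inferInstance : IsClosedImmersion (pullback.diagonal g))) this)
  have hh : AlgSp.IsIntegralMor h.hom := (Groth.Agent.S10272.result h π hs).2 (by rw [h2]; exact hn.2.1)
  refine ⟨congrArg (fun k => k.hom) h1, hh, fun W hW ρ q hρ hq => ?_⟩
  have hρπ : AlgSp.IsIntegralMor (ρ ≫ π.hom) := by
    rw [AlgSpLib.isIntegralMor_iff_repWith] at hπ hρ ⊢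
    exact MorphismProperty.comp_mem _ _ _ hρ hπ
  obtain ⟨m, ⟨e1, e2⟩, hu⟩ := hn.2.2 hW (ρ ≫ π.hom) q hρπ (by
    rw [← Category.assoc, hq]; exact congrArg (fun k => k.hom) hg)
  obtain ⟨_, -, hu0⟩ := hn.2.2 Z.property π.hom g.hom hπ (congrArg (fun k => k.hom) hg)
  have e3 : m ≫ ρ = h.hom :=
    (hu0 (m ≫ ρ) ⟨by rw [← Category.assoc, e1, hq], by rw [Category.assoc, e2]⟩).trans
      (hu0 h.hom ⟨congrArg (fun k => k.hom) h1, congrArg (fun k => k.hom) h2⟩).symm
  exact ⟨m, ⟨e1, e3⟩, fun m' hm' => hu m' ⟨hm'.1, by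
    rw [← Category.assoc, hm'.2]; exact congrArg (fun k => k.hom) h2⟩⟩

end Groth.Agent.S10296
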