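import Groth.Statements.S10304
import Groth.Agent.AlgSpLib.FiniteComps
-- import your own Groth.Agent.* helpers here

set_option autoImplicit false
universe u
open CategoryTheory CategoryTheory.Limits AlgebraicGeometry
open AlgSp

namespace Groth.Agent.S10304

open Groth.Agent.AlgSpLib in
theorem fm {S : Scheme.{u}} {X : AlgSp.Space S}
    (h : AlgSp.EtaleLocally (fun U => ∀ W : U.Opens, IsCompact (W : Set ↥U) → (irreducibleComponents ↥W).Finite) X.obj) :
    AlgSp.EtaleLocally FinMax X.obj := by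
  obtain ⟨U, a, hae, has, hU⟩ := h
  exact ⟨U, a, hae, has, finMax_iff.2 hU⟩

open Groth.Agent.AlgSpLib in
theorem pull {S : Scheme.{u}} {X Y : AlgSp.Space S} (g : Y ⟶ X) (hg : IsEtaleMor g.hom)
    (h : AlgSp.EtaleLocally FinMax X.obj) : AlgSp.EtaleLocally FinMax Y.obj := by
  obtain ⟨U, a, hae, has⟩ := Y.property.atlas
  exact ⟨U, a, hae, has, finMax_chart X.property h (a ≫ g.hom) (hg a hae)⟩

/-- Equivalent forms of the condition that the schemes etale over X have locally finitely many
irreducible components: one etale surjective chart, every etale chart, finiteness of codimension-0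
points of quasi-compact spaces etale over X, finiteness of irreducible components of such spaces. -/
theorem result {S : Scheme.{u}} (X : AlgSp.Space S) :
    (AlgSp.EtaleLocally (fun U => ∀ W : U.Opens, IsCompact (W : Set ↥U) → (irreducibleComponents ↥W).Finite) X.obj ↔
      ∀ (U : Over S) (a : (AlgSp.yon S).obj U ⟶ X.obj), AlgSp.RepWith @Etale a →
        ∀ W : U.left.Opens, IsCompact (W : Set ↥U.left) → (irreducibleComponents ↥W).Finite) ∧
    (AlgSp.EtaleLocally (fun U => ∀ W : U.Opens, IsCompact (W : Set ↥U) → (irreducibleComponents ↥W).Finite) X.obj ↔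
      ∀ (Y : AlgSp.Space S) (g : Y ⟶ X), AlgSp.IsEtaleMor g.hom → AlgSp.IsQuasiCompactSp Y.obj →
        {y : AlgSp.Points Y.obj |
          AlgSp.HasAt (fun U u => ringKrullDim ↥(U.presheaf.stalk u) = 0) Y.obj y}.Finite) ∧
    (AlgSp.EtaleLocally (fun U => ∀ W : U.Opens, IsCompact (W : Set ↥U) → (irreducibleComponents ↥W).Finite) X.obj ↔
      ∀ (Y : AlgSp.Space S) (g : Y ⟶ X), AlgSp.IsEtaleMor g.hom → AlgSp.IsQuasiCompactSp Y.obj →
        (irreducibleComponents (AlgSp.Points Y.obj)).Finite) := by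
  refine ⟨⟨fun h U a ha => Groth.Agent.AlgSpLib.finMax_iff.1
      (Groth.Agent.AlgSpLib.finMax_chart X.property (fm h) a ha), fun h => ?_⟩,
    ⟨fun h Y g hg hc => Groth.Agent.AlgSpLib.finite_codimZero_of_compact Y.property (pull g hg (fm h)) hc,
      fun h => ?_⟩,
    ⟨fun h Y g hg hc => Groth.Agent.AlgSpLib.finite_components_of_compact Y.property (pull g hg (fm h)) hc,
      fun h => ?_⟩⟩
  · obtain ⟨U, a, hae, has⟩ := X.property.atlas
    exact ⟨U, a, hae, has, h U a hae⟩
  · obtain ⟨U, a, hae, has⟩ := X.property.atlas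
    refine ⟨U, a, hae, has, fun W hW => (Groth.Agent.AlgSpLib.finite_components_iff_finite_maxPts W).2 ?_⟩
    obtain ⟨g, hg, hc⟩ := Groth.Agent.AlgSpLib.exists_space_of_compact a hae W hW
    have hs := ((h _ g hg hc).preimage (Points.schemeEquiv (Over.mk (W.ι ≫ U.hom))).injective.injOn).image
      (fun w : W.toScheme => W.ι w)
    refine hs.subset ?_
    rintro x ⟨hx, hm⟩
    refine ⟨⟨x, hx⟩, ⟨Over.mk (W.ι ≫ U.hom), 𝟙 _, ⟨x, hx⟩, ?_, rfl,
      (Groth.Agent.AlgSpLib.ringKrullDim_stalk_eq_zero_iff (U := W.toScheme) ⟨x, hx⟩).2 fun z hz =>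
        W.ι.isEmbedding.injective (hm _ (hz.map W.ι.continuous))⟩, rfl⟩
    rw [← CategoryTheory.Functor.map_id]
    exact (repWith_yon_map_iff @Etale _).2 (inferInstanceAs (Etale (𝟙 W.toScheme)))
  · obtain ⟨U, a, hae, has⟩ := X.property.atlas
    refine ⟨U, a, hae, has, fun W hW => ?_⟩
    obtain ⟨g, hg, hc⟩ := Groth.Agent.AlgSpLib.exists_space_of_compact a hae W hW
    exact Groth.Agent.AlgSpLib.finite_irreducibleComponents_of_isOpenEmbedding
      (Points.schemeHomeo (Over.mk (W.ι ≫ U.hom))).isOpenEmbedding (h _ g hg hc)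

end Groth.Agent.S10304
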