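import Groth.Statements.S10307
import Groth.Agent.AlgSpLib.PushEtFF
import Groth.Agent.AlgSpLib.MorTop
import Groth.Agent.AlgSpLib.MorMore
-- import your own Groth.Agent.* helpers here

set_option autoImplicit false
universe u
open CategoryTheory CategoryTheory.Limits AlgebraicGeometry
open AlgSp

namespace Groth.Agent.S10307

set_option backward.isDefEq.respectTransparency.types false
open Groth.Agent.AlgSpLib

/-- For an integral universally injective morphism f of algebraic spaces, f_* on small etale sites is
fully faithful on sheaves of sets and on abelian sheaves, and the counit from the pullback of the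
pushforward to the identity is an isomorphism. (The description of the essential image is not
included here.) -/
theorem result {S : Scheme.{u}} {Y X : AlgSp.Space S} (f : Y ⟶ X)
    (hi : AlgSp.RepWith @IsIntegralHom f.hom) (hu : AlgSp.IsUnivInjectiveMor f.hom) :
    ((AlgSp.pushEt hi.1 (Type (u + 1))).Full ∧ (AlgSp.pushEt hi.1 (Type (u + 1))).Faithful) ∧
    ((AlgSp.pushEt hi.1 AddCommGrpCat.{u + 1}).Full ∧ (AlgSp.pushEt hi.1 AddCommGrpCat.{u + 1}).Faithful) ∧
    IsIso (AlgSp.pullPushAdjEt hi.1 (Type (u + 1))).counit := by
  have hu' : RepWith @UniversallyInjective f.hom := (repWith_universallyInjective_iff hi.1).2 fun K _ str =>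
    injective_fieldPoints_of_surjective_diagonal Y.property (surjective_diagonal_of_univInjective Y.property hu) K str
  exact ⟨PushEtStalk.fullyFaithful_type Y.property X.property hi hu',
    PushEtStalk.fullyFaithful_ab Y.property X.property hi hu', PushEtStalk.isIso_counit Y.property X.property hi hu'⟩

end Groth.Agent.S10307
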