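import Groth.Statements.S10309
import Groth.Agent.AlgSpLib.RelDimLocus
import Groth.Agent.FlatMor12.DimRetro
-- import your own Groth.Agent.* helpers here

set_option autoImplicit false
universe u
open CategoryTheory CategoryTheory.Limits AlgebraicGeometry
open AlgSp

namespace Groth.Agent.S10309

open Groth.Agent.AlgSpLib AlgSp

/-- For f locally of finite presentation, the locus where the relative dimension is at most n is
retrocompact in |X|. -/
theorem result {S : Scheme.{u}} {X Y : AlgSp.Space S} (f : X ⟶ Y)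
    (hf : AlgSp.LocP @LocallyOfFinitePresentation f.hom) (n : ℕ) (V : Set (AlgSp.Points X.obj))
    (hV : IsOpen V) (hVc : IsCompact V) :
    IsCompact (V ∩ {x : AlgSp.Points X.obj |
      AlgSp.HasAtMor (fun _ _ h u => FlatMor.fibreDimAt h u ≤ (n : WithBot ℕ∞)) f.hom x}) := by
  have hX := X.property
  have hY := Y.property
  obtain ⟨V₀, b, hbe, hbs⟩ := hY.atlas
  obtain ⟨U, a, h, hae, has, w⟩ := exists_chart_over hX hY f.hom b hbe hbs
  have : LocallyOfFinitePresentation h.left := hf a b h hae hbe w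
  let L : Set ↥U.left := {u | FlatMor.fibreDimAt h.left u ≤ (n : WithBot ℕ∞)}
  have hL : ∀ u, (AlgSp.HasAtMor (fun _ _ h u => FlatMor.fibreDimAt h u ≤ (n : WithBot ℕ∞)) f.hom
      (Points.ofPt a u) ↔ u ∈ L) := fun u =>
    hasAtMor_fibreDim_pred hX hY f.hom a b h hae hbe w u (fun d => d ≤ (n : WithBot ℕ∞))
  have key : ∀ u ∈ Points.ofPt a ⁻¹' V, ∃ W : U.left.Opens, u ∈ W ∧
      (W : Set ↥U.left) ⊆ Points.ofPt a ⁻¹' V ∧ IsCompact (L ∩ (W : Set ↥U.left)) := by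
    intro u hu
    obtain ⟨V', hV', hvV', -⟩ := exists_isAffineOpen_mem_and_subset (x := h.left u) (U := ⊤) trivial
    obtain ⟨W, hW, huW, hWle⟩ := exists_isAffineOpen_mem_and_subset (x := u)
      (U := ⟨Points.ofPt a ⁻¹' V ∩ h.left ⁻¹' (V' : Set ↥V₀.left),
        (hV.preimage (Points.continuous_ofPt a)).inter (V'.isOpen.preimage h.left.continuous)⟩)
      ⟨hu, hvV'⟩
    exact ⟨W, huW, fun x hx => (hWle hx).1,
      FlatMor12.isCompact_fibreDimAt_le_inter h.left hV' hW (fun x hx => (hWle hx).2) n⟩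
  choose W hW1 hW2 hW3 using key
  obtain ⟨t, ht⟩ := hVc.elim_finite_subcover
    (fun i : ↥(Points.ofPt a ⁻¹' V) => Points.ofPt a '' (W i.1 i.2 : Set ↥U.left))
    (fun i => isOpenMap_ofPt a hae _ (W i.1 i.2).isOpen) (fun x hx => by
      obtain ⟨u, rfl⟩ := surjective_ofPt a has x
      exact Set.mem_iUnion.2 ⟨⟨u, hx⟩, Set.mem_image_of_mem _ (hW1 u hx)⟩)
  have e : V ∩ {x | AlgSp.HasAtMor (fun _ _ h u => FlatMor.fibreDimAt h u ≤ (n : WithBot ℕ∞)) f.hom x} =
      ⋃ i ∈ (t : Set ↥(Points.ofPt a ⁻¹' V)), Points.ofPt a '' (L ∩ (W i.1 i.2 : Set ↥U.left)) := by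
    ext x
    constructor
    · rintro ⟨hx, hxL⟩
      obtain ⟨i, hi, u, hu, rfl⟩ := Set.mem_iUnion₂.1 (ht hx)
      exact Set.mem_iUnion₂.2 ⟨i, hi, u, ⟨(hL u).1 hxL, hu⟩, rfl⟩
    · intro hx
      obtain ⟨i, -, u, ⟨hu1, hu2⟩, rfl⟩ := Set.mem_iUnion₂.1 hx
      exact ⟨hW2 i.1 i.2 hu2, (hL u).2 hu1⟩
  rw [e]
  exact t.finite_toSet.isCompact_biUnion fun i _ => (hW3 i.1 i.2).image (Points.continuous_ofPt a)

end Groth.Agent.S10309
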