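import Groth.Statements.S1031
import Mathlib.CategoryTheory.Triangulated.Basic

set_option autoImplicit false
set_option backward.isDefEq.respectTransparency false
set_option backward.defeqAttrib.useBackward true
universe v u
open CategoryTheory
open CohDer

namespace Groth.Agent.S1031

open CategoryTheory Limits ObjectProperty Pretriangulated

section

variable {D : Type u} [Category.{v} D] [Preadditive D] [HasZeroObject D] [HasShift D ℤ]
  [∀ n : ℤ, (shiftFunctor D n).Additive] [Pretriangulated D]

/-- closed under binary products -/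
def PC (Q : ObjectProperty D) : Prop := ∀ X Y, Q X → Q Y → Q (X ⨯ Y)

lemma pc_retract {Q : ObjectProperty D} (h : PC Q) : PC Q.retractClosure := by
  rintro X Y ⟨X', hX, ⟨r⟩⟩ ⟨Y', hY, ⟨s⟩⟩
  exact ⟨X' ⨯ Y', h _ _ hX hY, ⟨⟨prod.map r.i s.i, prod.map r.r s.r, by
    rw [prod.map_map, r.retract, s.retract, prod.map_id_id]⟩⟩⟩

noncomputable def pairIso (f : WalkingPair → D) : (f .left ⨯ f .right) ≅ ∏ᶜ f where
  hom := Pi.lift (fun j => match j with | .left => prod.fst | .right => prod.snd)
  inv := prod.lift (Pi.π f .left) (Pi.π f .right)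
  hom_inv_id := by ext <;> simp
  inv_hom_id := by ext j; cases j <;> simp

lemma pc_ext {Q R : ObjectProperty D} [Q.IsClosedUnderIsomorphisms] [R.IsClosedUnderIsomorphisms]
    (hQ : PC Q) (hR : PC R) : PC (extensionProduct Q R) := by
  rintro X X' ⟨Y, Z, f, g, h, hT, hY, hZ⟩ ⟨Y', Z', f', g', h', hT', hY', hZ'⟩
  let T : WalkingPair → Triangle D := fun j =>
    match j with | .left => Triangle.mk f g h | .right => Triangle.mk f' g' h'
  have hd := productTriangle_distinguished T (fun j => by cases j; exacts [hT, hT'])
  refine (extensionProduct Q R).prop_of_iso (pairIso (fun j => (T j).obj₂)).symm ?_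
  exact ⟨_, _, _, _, _, hd, Q.prop_of_iso (pairIso (fun j => (T j).obj₁)) (hQ _ _ hY hY'),
    R.prop_of_iso (pairIso (fun j => (T j).obj₃)) (hR _ _ hZ hZ')⟩

lemma pc_iter {Q : ObjectProperty D} [Q.IsClosedUnderIsomorphisms] (hQ : PC Q) :
    ∀ n, PC (Q.extensionProductIter n) ∧ (Q.extensionProductIter n).IsClosedUnderIsomorphisms := by
  intro n
  induction n with
  | zero => exact ⟨hQ, ‹_›⟩
  | succ n ih =>
    haveI := ih.2
    rw [extensionProductIter_succ]
    exact ⟨pc_ext hQ ih.1, inferInstance⟩

lemma pc_S (P : ObjectProperty D) (m : ℕ) : PC (P.triangEnvelopeIter m) :=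
  pc_retract (pc_iter (Q := (P.shiftClosure ℤ).binaryProductsClosure.retractClosure)
    (pc_retract fun X Y hX hY => prop_prod _ X Y hX hY) m).1

lemma binaryProducts_le {P Q : ObjectProperty D} [Q.IsClosedUnderIsomorphisms] (hQ : PC Q)
    (h : P ≤ Q) : P.binaryProductsClosure ≤ Q := by
  haveI : Q.IsClosedUnderBinaryProducts := ⟨by
    rintro X ⟨p⟩
    exact Q.prop_of_iso (IsLimit.conePointUniqueUpToIso (prodIsProd _ _)
      ((IsLimit.postcomposeHomEquiv (diagramIsoPair p.diag) _).2 p.isLimit))
      (hQ _ _ (p.prop_diag_obj (.mk .left)) (p.prop_diag_obj (.mk .right)))⟩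
  exact limitsClosure_le h

variable [IsTriangulated D]

lemma iter_iter_le (P : ObjectProperty D) (m n : ℕ) :
    ∃ N, (P.triangEnvelopeIter m).extensionProductIter n ≤ P.triangEnvelopeIter N := by
  induction n with
  | zero => exact ⟨m, le_rfl⟩
  | succ n ih =>
    obtain ⟨N, hN⟩ := ih
    refine ⟨(m + 1) + N, ?_⟩
    rw [extensionProductIter_succ, triangEnvelopeIter_add P (n' := m) rfl]
    exact le_trans (monotone_extensionProduct_right _ hN) (le_retractClosure _)

end

/-- Let D be a triangulated category admitting a strong generator G (every object is reached from G by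
shifts, finite sums, summands and a uniformly bounded number of extensions). Then every classical
generator E of D (every object reached from E with some finite number of extensions) is itself a
strong generator. -/
theorem result {D : Type u} [Category.{v} D] [Preadditive D] [Limits.HasZeroObject D] [HasShift D ℤ]
    [∀ n : ℤ, (shiftFunctor D n).Additive] [Pretriangulated D] [IsTriangulated D]
    (G E : D) (hG : ObjectProperty.IsStrongTriangulatedGenerator (fun X : D => X = G))
    (hE : ObjectProperty.IsClassicalTriangulatedGenerator (fun X : D => X = E)) :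
    ObjectProperty.IsStrongTriangulatedGenerator (fun X : D => X = E) := by
  obtain ⟨n, hn⟩ := hG
  have hGE : ObjectProperty.triangEnvelope (fun X : D => X = E) G := by rw [hE]; trivial
  rw [ObjectProperty.prop_triangEnvelope_iff] at hGE
  obtain ⟨m, hm⟩ := hGE
  obtain ⟨N, hN⟩ := iter_iter_le (fun X : D => X = E) m n
  refine ⟨N, eq_top_iff.2 (le_trans (le_of_eq hn.symm) ?_)⟩
  rw [ObjectProperty.triangEnvelopeIter, ObjectProperty.retractClosure_le_iff]
  refine le_trans (ObjectProperty.monotone_extensionProductIter ?_ n) hN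
  rw [ObjectProperty.retractClosure_le_iff]
  refine binaryProducts_le (pc_S _ m) ?_
  rw [ObjectProperty.shiftClosure_le_iff]
  rintro X rfl
  exact hm


end Groth.Agent.S1031
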