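import Groth.Statements.S10312
import Groth.Agent.AlgSpLib.WhereLocus
-- import your own Groth.Agent.* helpers here

set_option autoImplicit false
universe u
open CategoryTheory CategoryTheory.Limits AlgebraicGeometry
open AlgSp

namespace Groth.Agent.S10312

set_option backward.isDefEq.respectTransparency.types false

/-- For X -> Y over Z with X -> Z locally of finite type, the locus where X -> Y is unramified is an
open subset of |X| whose formation commutes with base change along any Z' -> Z. -/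
theorem result {S : Scheme.{u}} {X Y Z Z' Y' X' : AlgSp.Space S} (f : X ⟶ Y)
    (p : X ⟶ Z) (q : Y ⟶ Z) (comm : f ≫ q = p) (hp : AlgSp.LocP @LocallyOfFiniteType p.hom) (g : Z' ⟶ Z)
    (a : Y' ⟶ Y) (q' : Y' ⟶ Z') (sq1 : IsPullback a.hom q'.hom q.hom g.hom)
    (b : X' ⟶ X) (f' : X' ⟶ Y') (sq2 : IsPullback b.hom f'.hom f.hom a.hom) :
    IsOpen {x : AlgSp.Points X.obj | AlgSp.HasAtMor (fun U _ h u => ∃ W : U.Opens, u ∈ W ∧ LocallyOfFiniteType (W.ι ≫ h) ∧ FormallyUnramified (W.ι ≫ h)) f.hom x} ∧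
    {x' : AlgSp.Points X'.obj | AlgSp.HasAtMor (fun U _ h u => ∃ W : U.Opens, u ∈ W ∧ LocallyOfFiniteType (W.ι ≫ h) ∧ FormallyUnramified (W.ι ≫ h)) f'.hom x'} =
      AlgSp.Points.map b.hom ⁻¹' {x : AlgSp.Points X.obj | AlgSp.HasAtMor (fun U _ h u => ∃ W : U.Opens, u ∈ W ∧ LocallyOfFiniteType (W.ι ≫ h) ∧ FormallyUnramified (W.ι ≫ h)) f.hom x} := by
  subst comm
  have hl := AlgSpLib.lft_of_comp (f := f.hom) (q := q.hom) X.property Y.property Z.property hp
  have hbc := AlgSpLib.locP_of_isPullback AlgSpLib.etLocal_lft X.property Y.property X'.property sq2 hl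
  rw [AlgSpLib.unram_set_eq X.property Y.property hl, AlgSpLib.unram_set_eq X'.property Y'.property hbc]
  refine ⟨Stk19b.UnramPt.isOpen_unram X.property Y.property f.hom, Set.ext fun x' => ?_⟩
  exact Stk19b.UnramPt.isUnramAt_baseChange X.property Y.property Y'.property X'.property sq2 hl x'

end Groth.Agent.S10312
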