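import Groth.Statements.S10313
import Groth.Agent.AlgSpLib.RelDimLocus
-- import your own Groth.Agent.* helpers here

set_option autoImplicit false
universe u
open CategoryTheory CategoryTheory.Limits AlgebraicGeometry
open AlgSp

namespace Groth.Agent.S10313

/-- For f locally of finite type there is an open subspace of X on which f is locally quasi-finite,
outside of which the relative dimension is at least 1, and whose formation commutes with base
change. -/
theorem result {S : Scheme.{u}} {X Y : AlgSp.Space S} (f : X ⟶ Y)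
    (hf : AlgSp.LocP @LocallyOfFiniteType f.hom) :
    ∃ (X' : AlgSp.Space S) (j : X' ⟶ X), AlgSp.RepWith @IsOpenImmersion j.hom ∧
      AlgSp.LocP (@LocallyQuasiFinite ⊓ @LocallyOfFiniteType) (j ≫ f).hom ∧
      (∀ x : AlgSp.Points X.obj, x ∉ Set.range (AlgSp.Points.map j.hom) →
        AlgSp.HasAtMor (fun _ _ h u => 1 ≤ FlatMor.fibreDimAt h u) f.hom x) ∧
      ∀ (Y'' X'' : AlgSp.Space S) (g : Y'' ⟶ Y) (b : X'' ⟶ X) (f'' : X'' ⟶ Y''),
        IsPullback b.hom f''.hom f.hom g.hom → ∀ x'' : AlgSp.Points X''.obj,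
          AlgSp.Points.map b.hom x'' ∈ Set.range (AlgSp.Points.map j.hom) ↔ AlgSp.HasAtMor (fun U _ h u => ∃ W : U.Opens, u ∈ W ∧ LocallyQuasiFinite (W.ι ≫ h) ∧ LocallyOfFiniteType (W.ι ≫ h)) f''.hom x'' := by
  obtain ⟨W, hW, hiff, hl⟩ := Groth.Agent.AlgSpLib.exists_lqf_locus X.property Y.property hf
  refine ⟨⟨Groth.Agent.AlgSpLib.openSubspace X.obj W, Groth.Agent.AlgSpLib.isAlgSpace_openSubspace X.property hW⟩,
    ObjectProperty.homMk (Groth.Agent.AlgSpLib.openSubspaceι X.obj W),
    Groth.Agent.AlgSpLib.repWith_openSubspaceι X.obj hW, hl, fun x hx => ?_, fun Y'' X'' g b f'' sq x'' => ?_⟩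
  · obtain ⟨U, V, a, b, h, u, ha, hb, w, rfl⟩ := Groth.Agent.AlgSpLib.exists_chart_at X.property Y.property f.hom x
    refine ⟨U, V, a, b, h, u, ha, hb, w, rfl, ?_⟩
    have h0 : FlatMor.fibreDimAt h.left u ≠ 0 := fun e => hx
      ((Groth.Agent.AlgSpLib.range_openSubspaceι X.obj W).ge
        ((hiff _).2 ⟨U, V, a, b, h, u, ha, hb, w, rfl, e⟩))
    have hn : 0 ≤ FlatMor.fibreDimAt h.left u := Groth.Agent.AlgSpLib.localDim_nonneg _
    show 1 ≤ FlatMor.fibreDimAt h.left u
    revert h0 hn
    generalize FlatMor.fibreDimAt h.left u = d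
    intro h0 hn
    induction d using WithBot.recBotCoe with
    | bot => simp at hn
    | coe d => exact WithBot.coe_le_coe.2 (ENat.one_le_iff_ne_zero.2 fun e => h0 (e ▸ rfl))
  · have hf'' : AlgSp.LocP @LocallyOfFiniteType f''.hom := Groth.Agent.AlgSpLib.locP_of_isPullback
      Groth.Agent.AlgSpLib.etLocal_lft X.property Y.property X''.property sq hf
    rw [Groth.Agent.AlgSpLib.hasAtMor_lqf_iff X''.property Y''.property hf'']
    refine Iff.trans ?_ (Groth.Agent.AlgSpLib.relDim_baseChange X.property Y.property Y''.property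
      X''.property sq hf x'' (fun e => e = 0)).symm
    exact (Set.ext_iff.1 (Groth.Agent.AlgSpLib.range_openSubspaceι X.obj W) _).trans (hiff _)

end Groth.Agent.S10313
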