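import Groth.Statements.S10315
import Groth.Agent.AlgSpLib.LocalDimChart
import Groth.Agent.Unram17Lib.RelDim
-- import your own Groth.Agent.* helpers here

set_option autoImplicit false
universe u
open CategoryTheory CategoryTheory.Limits AlgebraicGeometry
open AlgSp

namespace Groth.Agent.S10315

open CategoryTheory CategoryTheory.Limits AlgebraicGeometry AlgSp Groth.Agent.AlgSpLib in
theorem aux {A B : Scheme.{u}} (h : A ⟶ B) [Smooth h] [IsLocallyNoetherian B] (a : A) :
    FlatMor.localDim A a = FlatMor.localDim B (h a) + FlatMor.fibreDimAt h a := by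
  obtain ⟨W, n, haW, hn⟩ := Unram17Lib.exists_smoothOfRelativeDimension h a
  have hs : Smooth (W.ι ≫ h) := SmoothOfRelativeDimension.smooth n _
  let w : W.toScheme := ⟨a, haW⟩
  have e2 := (Unram17Lib.fibreDimAt_eq_of_openImmersion (h := h) W.ι (𝟙 B)
    (show W.ι ≫ h = (W.ι ≫ h) ≫ 𝟙 B by rw [Category.comp_id]) w).trans
      (Unram17Lib.fibreDimAt_of_smoothOfRelativeDimension (W.ι ≫ h) n w)
  have e1 := FlatMor12.localDim_eq_add (W.ι ≫ h)
    (hasRelDim_of_fibreDimAt (W.ι ≫ h) fun z =>
      Unram17Lib.fibreDimAt_of_smoothOfRelativeDimension (W.ι ≫ h) n z) w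
  rw [localDim_etale W.ι w] at e1
  exact e1.trans (congrArg (fun t => FlatMor.localDim B (h a) + t) e2.symm)

/-- For a smooth morphism of locally Noetherian algebraic spaces, the dimension of X at x is the
dimension of Y at the image of x plus the relative dimension of f at x. -/
theorem result {S : Scheme.{u}} {X Y : AlgSp.Space S} (f : X ⟶ Y)
    (hX : AlgSp.IsLocNoethSp X.obj) (hY : AlgSp.IsLocNoethSp Y.obj) (hf : AlgSp.LocP @Smooth f.hom)
    (x : AlgSp.Points X.obj) (d dX dY : WithBot ℕ∞)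
    (hd : AlgSp.HasAtMor (fun _ _ h u => FlatMor.fibreDimAt h u = d) f.hom x)
    (hx : AlgSp.HasAt (fun U u => FlatMor.localDim ↥U u = dX) X.obj x)
    (hy : AlgSp.HasAt (fun U u => FlatMor.localDim ↥U u = dY) Y.obj (AlgSp.Points.map f.hom x)) :
    dX = dY + d := by
  obtain ⟨U', a', u', ha', rfl, rfl⟩ := hx
  obtain ⟨V', b', v', hb', ev, rfl⟩ := hy
  obtain ⟨V, b, hbe, hbs⟩ := Y.property.atlas
  obtain ⟨U, a, h, hae, has, w⟩ := Groth.Agent.AlgSpLib.exists_chart_over X.property Y.property f.hom b hbe hbs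
  obtain ⟨u, hu⟩ := Groth.Agent.AlgSpLib.surjective_ofPt a has (Points.ofPt a' u')
  rw [← hu] at hd
  have hd' := (Groth.Agent.AlgSpLib.hasAtMor_fibreDim_iff X.property Y.property f.hom a b h hae hbe w u _).1 hd
  rw [← hu, Points.map_ofPt, w, Groth.Agent.AlgSpLib.ofPt_map h b u] at ev
  rw [Groth.Agent.AlgSpLib.localDim_eq_of_ofPt X.property ha' hae hu.symm,
    Groth.Agent.AlgSpLib.localDim_eq_of_ofPt Y.property hb' hbe ev, ← hd']
  have : Smooth h.left := hf a b h hae hbe w
  have : IsLocallyNoetherian V.left := Groth.Agent.AlgSpLib.isLocallyNoetherian_chart hY b hbe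
  exact aux h.left u

end Groth.Agent.S10315
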