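import Groth.Statements.S10319
import Groth.Agent.AlgSpLib.LqfDim
-- import your own Groth.Agent.* helpers here

set_option autoImplicit false
universe u
open CategoryTheory CategoryTheory.Limits AlgebraicGeometry
open AlgSp

namespace Groth.Agent.S10319

set_option backward.isDefEq.respectTransparency.types false
open Groth.Agent.AlgSpLib

/-- Transcendence degrees at a point add up along a composition of morphisms locally of finite type. -/
theorem result {S : Scheme.{u}} {X Y Z : AlgSp.Space S} (f : X ⟶ Y) (g : Y ⟶ Z)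
    (hf : AlgSp.LocP @LocallyOfFiniteType f.hom) (hg : AlgSp.LocP @LocallyOfFiniteType g.hom)
    (x : AlgSp.Points X.obj) (r₁ r₂ : Cardinal.{u})
    (h1 : AlgSp.HasAtMor (fun _ _ h u => Dual3.resTrdeg h u = r₁) f.hom x)
    (h2 : AlgSp.HasAtMor (fun _ _ h u => Dual3.resTrdeg h u = r₂) g.hom (AlgSp.Points.map f.hom x)) :
    AlgSp.HasAtMor (fun _ _ h u => Dual3.resTrdeg h u = r₁ + r₂) (f ≫ g).hom x := by
  obtain ⟨C⟩ := nonempty_charts X.property Y.property Z.property f.hom g.hom
  obtain ⟨u, rfl⟩ := surjective_ofPt C.a C.a_surj x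
  rw [Points.map_ofPt, C.wf, ofPt_map C.h C.b u,
    hasAtMor_resTrdeg_iff Y.property Z.property g.hom C.b C.c C.k C.b_etale C.c_etale C.wg] at h2
  rw [hasAtMor_resTrdeg_iff X.property Y.property f.hom C.a C.b C.h C.a_etale C.b_etale C.wf] at h1
  show AlgSp.HasAtMor _ (f.hom ≫ g.hom) _
  refine (hasAtMor_resTrdeg_iff X.property Z.property (f.hom ≫ g.hom) C.a C.c (C.h ≫ C.k) C.a_etale C.c_etale
    (by rw [Functor.map_comp, ← Category.assoc, C.wf, Category.assoc, C.wg, Category.assoc]) u _).2 ?_
  show Dual3.resTrdeg (C.h.left ≫ C.k.left) u = _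
  rw [resTrdeg_comp, h1, h2, add_comm]

end Groth.Agent.S10319
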