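import Groth.Statements.S10321
import Groth.Agent.AlgSpLib.LqfScheme
-- import your own Groth.Agent.* helpers here

set_option autoImplicit false
universe u
open CategoryTheory CategoryTheory.Limits AlgebraicGeometry
open AlgSp

namespace Groth.Agent.S10321

open Groth.Agent.AlgSpLib in
theorem key {S : Scheme.{u}} {T T' : Over S} [IsAffine T'.left] (e : T' ⟶ T) [Etale e.left]
    {X P V' : AlgSp.Sp S} {G : Over S} (eG : (AlgSp.yon S).obj G ≅ X) (f : X ⟶ (AlgSp.yon S).obj T)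
    (p1 : P ⟶ (AlgSp.yon S).obj T') (p2 : P ⟶ X) (sq : IsPullback p2 p1 f ((AlgSp.yon S).map e))
    (j : V' ⟶ P) (hj : AlgSp.RepWith @IsOpenImmersion j) (hqa : AlgSp.IsQuasiAffineMor (j ≫ p1)) :
    ∃ (W : Over S) (i : (AlgSp.yon S).obj W ⟶ X), AlgSp.RepWith @IsOpenImmersion i ∧ CompactSpace ↥W.left ∧
      Set.range (AlgSp.Points.map i) = Set.range (AlgSp.Points.map (j ≫ p2)) := by
  obtain ⟨W₀, w, fst, sqW, hW₀⟩ := hqa (Z := T') inferInstance (𝟙 _)
  have : IsIso fst := sqW.isIso_fst_of_isIso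
  obtain ⟨k, hk⟩ := (AlgSp.yon S).map_surjective (fst ≫ j ≫ p2 ≫ eG.inv)
  have hp2 : AlgSp.RepWith @Etale p2 :=
    RepWith.baseChange sq.flip ((AlgSp.repWith_yon_map_iff _ e).2 ‹_›)
  have hje : AlgSp.RepWith @Etale j :=
    RepWith.mono (fun _ _ g (_ : IsOpenImmersion g) => (inferInstance : Etale g)) hj
  have hk' : Etale k.left := (AlgSp.repWith_yon_map_iff _ k).1 (by
    rw [hk]
    exact RepWith.comp (repWith_of_isIso _ fst) (RepWith.comp hje (RepWith.comp hp2 (repWith_of_isIso _ eG.inv))))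
  let O : G.left.Opens := ⟨Set.range k.left, k.left.isOpenMap.isOpen_range⟩
  let W : Over S := Over.mk (O.ι ≫ G.hom)
  let ι : W ⟶ G := Over.homMk O.ι
  refine ⟨W, (AlgSp.yon S).map ι ≫ eG.hom, RepWith.comp ((AlgSp.repWith_yon_map_iff _ ι).2
    (inferInstanceAs (IsOpenImmersion O.ι))) (repWith_of_isIso _ eG.hom),
    isCompact_iff_compactSpace.1 (isCompact_range k.left.continuous), ?_⟩
  have h1 : Set.range (AlgSp.Points.map ((AlgSp.yon S).map ι)) =
      Set.range (AlgSp.Points.map ((AlgSp.yon S).map k)) := by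
    ext z
    constructor
    · rintro ⟨y, rfl⟩
      obtain ⟨y, rfl⟩ := (AlgSp.Points.schemeEquiv _).surjective y
      obtain ⟨v, hv⟩ : O.ι y ∈ Set.range k.left := y.2
      refine ⟨AlgSp.Points.ofScheme W₀ v, ?_⟩
      rw [map_yon_map_ofScheme, hv]
      exact (map_yon_map_ofScheme ι y).symm
    · rintro ⟨v, rfl⟩
      obtain ⟨v, rfl⟩ := (AlgSp.Points.schemeEquiv _).surjective v
      refine ⟨AlgSp.Points.ofScheme W ⟨k.left v, v, rfl⟩, ?_⟩
      exact (map_yon_map_ofScheme ι ⟨k.left v, v, rfl⟩).trans (map_yon_map_ofScheme k v).symm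
  have e1 : (AlgSp.yon S).map k ≫ eG.hom = fst ≫ j ≫ p2 := by rw [hk]; simp
  ext x
  constructor
  · rintro ⟨y, rfl⟩
    rw [AlgSp.Points.map_comp]
    obtain ⟨v, hv⟩ := h1.subset ⟨y, rfl⟩
    rw [← hv, ← AlgSp.Points.map_comp, e1, AlgSp.Points.map_comp]
    exact ⟨_, rfl⟩
  · rintro ⟨y, rfl⟩
    obtain ⟨v, rfl⟩ : ∃ v, AlgSp.Points.map fst v = y := ⟨AlgSp.Points.map (inv fst) y, by
      rw [← AlgSp.Points.map_comp, IsIso.inv_hom_id, AlgSp.Points.map_id]⟩
    obtain ⟨w', hw'⟩ := h1.superset ⟨v, rfl⟩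
    refine ⟨w', ?_⟩
    rw [AlgSp.Points.map_comp, hw', ← AlgSp.Points.map_comp, e1, AlgSp.Points.map_comp]

/-- Let X be separated and locally quasi-finite over an affine scheme T, let T' -> T be etale with T'
affine, and let V' be an open subspace of T' ×_T X that is quasi-affine over T'. Then V' maps onto a
quasi-compact open subspace of X that is itself a scheme. -/
theorem result {S : Scheme.{u}} {T T' : Over S} [IsAffine T.left]
    [IsAffine T'.left] (e : T' ⟶ T) [Etale e.left] {X P V' : AlgSp.Space S} (f : X ⟶ (AlgSp.ofScheme S).obj T)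
    (hsep : AlgSp.IsSeparatedMor f.hom) (hqf : AlgSp.LocP (@LocallyQuasiFinite ⊓ @LocallyOfFiniteType) f.hom)
    (p1 : P ⟶ (AlgSp.ofScheme S).obj T') (p2 : P ⟶ X)
    (sq : IsPullback p2.hom p1.hom f.hom ((AlgSp.yon S).map e)) (j : V' ⟶ P)
    (hj : AlgSp.RepWith @IsOpenImmersion j.hom) (hqa : AlgSp.IsQuasiAffineMor (j ≫ p1).hom) :
    ∃ (W : Over S) (i : (AlgSp.yon S).obj W ⟶ X.obj), AlgSp.RepWith @IsOpenImmersion i ∧ CompactSpace ↥W.left ∧
      Set.range (AlgSp.Points.map i) = Set.range (AlgSp.Points.map (j ≫ p2).hom) := by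
  obtain ⟨G, ⟨eG⟩⟩ := Groth.Agent.AlgSpLib.exists_iso_yon_of_lqf_separated X.property f.hom hsep hqf
  exact key e eG f.hom p1.hom p2.hom sq j.hom hj hqa

end Groth.Agent.S10321
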