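import Groth.Statements.S10322
import Groth.Agent.AlgSpLib.MorMore
import Groth.Agent.AlgSpLib.FpqcBaseImm
-- import your own Groth.Agent.* helpers here

set_option autoImplicit false
universe u
open CategoryTheory CategoryTheory.Limits AlgebraicGeometry
open AlgSp

namespace Groth.Agent.S10322

/-- Unramified at a point implies quasi-finite at that point; an unramified morphism of algebraic spaces
is locally quasi-finite. -/
theorem result {S : Scheme.{u}} {X Y : AlgSp.Space S} (f : X ⟶ Y) :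
    (∀ x : AlgSp.Points X.obj, AlgSp.HasAtMor (fun U _ h u => ∃ W : U.Opens, u ∈ W ∧ LocallyOfFiniteType (W.ι ≫ h) ∧ FormallyUnramified (W.ι ≫ h)) f.hom x → AlgSp.HasAtMor (fun U _ h u => ∃ W : U.Opens, u ∈ W ∧ LocallyQuasiFinite (W.ι ≫ h) ∧ LocallyOfFiniteType (W.ι ≫ h)) f.hom x) ∧
    (AlgSp.LocP (@LocallyOfFiniteType ⊓ @FormallyUnramified) f.hom →
      AlgSp.LocP (@LocallyQuasiFinite ⊓ @LocallyOfFiniteType) f.hom) := by
  have key : ∀ {A B : Scheme.{u}} (h : A ⟶ B), LocallyOfFiniteType h → FormallyUnramified h →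
      LocallyQuasiFinite h := by
    intro A B h hl hu
    rw [HasRingHomProperty.eq_affineLocally @LocallyQuasiFinite, affineLocally_iff_forall_isAffineOpen]
    intro U hU V hV e
    have h1 := HasRingHomProperty.appLE @LocallyOfFiniteType h hl ⟨U, hU⟩ ⟨V, hV⟩ e
    have h2 := HasRingHomProperty.appLE @FormallyUnramified h hu ⟨U, hU⟩ ⟨V, hV⟩ e
    algebraize [(h.appLE U V e).hom]
    exact ⟨fun p hp => Algebra.FormallyUnramified.finite_of_free _ _⟩
  refine ⟨fun x => ?_, fun h U V a b l ha hb w => ⟨key _ (h a b l ha hb w).1 (h a b l ha hb w).2,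
    (h a b l ha hb w).1⟩⟩
  rintro ⟨U, V, a, b, l, u, ha, hb, w, hx, W, hu, h1, h2⟩
  exact ⟨U, V, a, b, l, u, ha, hb, w, hx, W, hu, key _ h1 h2, h1⟩

end Groth.Agent.S10322
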