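import Groth.Statements.S10323
import Groth.Agent.AlgSpLib.RelDimFormula
import Groth.Agent.AlgSpLib.NoethDecent
import Groth.Agent.AlgSpLib.LqfDim
import Groth.Agent.Stk19b.EtaleDim
import Groth.Agent.Misc15.GenericPoints
import Groth.Agent.S9687
-- import your own Groth.Agent.* helpers here

set_option autoImplicit false
universe u
open CategoryTheory CategoryTheory.Limits AlgebraicGeometry
open AlgSp

namespace Groth.Agent.S10323

open Groth.Agent.AlgSpLib

theorem add_toENat_top {E : Cardinal.{u}} (h : Cardinal.aleph0 ≤ E) {b : WithBot ℕ∞} (hb : 0 ≤ b) :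
    b + ((Cardinal.toENat E : ℕ∞) : WithBot ℕ∞) = ⊤ := by
  rw [Cardinal.toENat_eq_top.2 h]
  cases b with
  | bot => exact absurd hb (by decide)
  | coe b => rw [← WithBot.coe_add, add_top]; rfl

/-- For Y locally Noetherian and f locally of finite type, the dimension of the local ring of X at x is
at most the dimension of the local ring of Y at the image point plus E minus the transcendence
degree of x over its image, where E bounds the transcendence degrees of the codimension-0 points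
specializing to x. -/
theorem result {S : Scheme.{u}} {X Y : AlgSp.Space S} (f : X ⟶ Y)
    (hY : AlgSp.IsLocNoethSp Y.obj) (hf : AlgSp.LocP @LocallyOfFiniteType f.hom) (x : AlgSp.Points X.obj)
    (E : Cardinal.{u})
    (hE : ∀ ξ : AlgSp.Points X.obj, ξ ⤳ x → AlgSp.HasAt (fun U u => ringKrullDim ↥(U.presheaf.stalk u) = 0) X.obj ξ →
      ∀ s : Cardinal.{u}, AlgSp.HasAtMor (fun _ _ h u => Dual3.resTrdeg h u = s) f.hom ξ → s ≤ E)
    (a b : WithBot ℕ∞) (r : Cardinal.{u})
    (ha : AlgSp.HasAt (fun U u => ringKrullDim ↥(U.presheaf.stalk u) = a) X.obj x)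
    (hb : AlgSp.HasAt (fun U u => ringKrullDim ↥(U.presheaf.stalk u) = b) Y.obj (AlgSp.Points.map f.hom x))
    (hr : AlgSp.HasAtMor (fun _ _ h u => Dual3.resTrdeg h u = r) f.hom x) :
    a + ((Cardinal.toENat r : ℕ∞) : WithBot ℕ∞) ≤ b + ((Cardinal.toENat E : ℕ∞) : WithBot ℕ∞) := by
  classical
  obtain ⟨U, V, p, q, h, u, hp, hq, w, rfl, hru⟩ := hr
  have hru' : Dual3.resTrdeg h.left u = r := hru
  haveI : IsLocallyNoetherian V.left := isLocallyNoetherian_chart hY q hq
  haveI : LocallyOfFiniteType h.left := hf p q h hp hq w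
  rw [AlgSp.Points.map_ofPt, w, ofPt_map h q u] at hb
  obtain ⟨U', a', u', ha', e', hA⟩ := ha
  obtain ⟨V', b', v', hb', e'', hB⟩ := hb
  have hA' : ringKrullDim ↥(U.left.presheaf.stalk u) = a :=
    (Stk19b.EtaleDim.ringKrullDim_stalk_eq_of_ofPt X.property ha' hp e').symm.trans hA
  have hB' : ringKrullDim ↥(V.left.presheaf.stalk (h.left u)) = b :=
    (Stk19b.EtaleDim.ringKrullDim_stalk_eq_of_ofPt Y.property hb' hq e'').symm.trans hB
  have hb0 : 0 ≤ b := hB' ▸ ringKrullDim_nonneg_of_nontrivial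
  rcases lt_or_ge E Cardinal.aleph0 with hlt | hge
  swap
  · rw [add_toENat_top hge hb0]; exact le_top
  obtain ⟨n', rfl⟩ := Cardinal.lt_aleph0.1 hlt
  obtain ⟨m, hm⟩ := Cardinal.lt_aleph0.1 (FlatMor12.trdeg_residueFieldMap_lt h.left u : Dual3.resTrdeg h.left u < Cardinal.aleph0)
  have hrm : r = (m : Cardinal.{u}) := hru'.symm.trans hm
  subst hrm
  rw [map_natCast, map_natCast, ← hA', ← hB']
  refine Groth.Agent.S9687.result h.left u m n' hm fun ξ hξ hsp => ?_
  refine hE (AlgSp.Points.ofPt p ξ) (hsp.map (AlgSp.Points.continuous_ofPt p))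
    ⟨U, p, ξ, hp, rfl, ?_⟩ (Dual3.resTrdeg h.left ξ) ⟨U, V, p, q, h, ξ, hp, hq, w, rfl, rfl⟩
  show ringKrullDim ↥(U.left.presheaf.stalk ξ) = 0
  rw [ringKrullDim_stalk_eq_coheight, ← WithBot.coe_zero, WithBot.coe_inj, Order.coheight_eq_zero]
  intro y hy
  have e := (Misc15.closure_mem_components_iff ξ).1 hξ y (show y ⤳ ξ from hy)
  exact e ▸ le_refl _

end Groth.Agent.S10323
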