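import Groth.Statements.S10324
import Groth.Agent.AlgSpLib.DimBasic
import Groth.Agent.AlgSpLib.DecentDim
import Groth.Agent.AlgSpLib.NoethDecent
import Groth.Agent.AlgSpLib.LocP
import Groth.Agent.EGA43.DimFormula.Points
-- import your own Groth.Agent.* helpers here

set_option autoImplicit false
universe u
open CategoryTheory CategoryTheory.Limits AlgebraicGeometry
open AlgSp

namespace Groth.Agent.S10324

open CategoryTheory CategoryTheory.Limits AlgebraicGeometry in
theorem aux {A B : Scheme.{u}} (h : A ⟶ B) [LocallyOfFiniteType h] [IsLocallyNoetherian B] (n : ℕ)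
    (hn : ∀ η : A, ringKrullDim ↥(A.presheaf.stalk η) = 0 → Dual3.resTrdeg h η ≤ (n : Cardinal.{u})) :
    topologicalKrullDim A ≤ topologicalKrullDim B + (n : WithBot ℕ∞) := by
  rw [Groth.Agent.AlgSpLib.topologicalKrullDim_scheme]
  refine iSup_le fun x => ?_
  have hB : ringKrullDim ↥(B.presheaf.stalk (h x)) ≤ topologicalKrullDim B := by
    rw [Groth.Agent.AlgSpLib.topologicalKrullDim_scheme, ringKrullDim_stalk_eq_coheight]
    exact le_iSup (fun b : B => (Order.coheight b : WithBot ℕ∞)) (h x)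
  rw [← ringKrullDim_stalk_eq_coheight]
  refine le_trans ?_ (add_le_add hB le_rfl)
  refine iSup_le fun l => ?_
  have := l.head.isPrime
  obtain ⟨P₀, hP₀, hPl⟩ := Ideal.exists_minimalPrimes_le (J := l.head.asIdeal) bot_le
  let P : PrimeSpectrum ↥(A.presheaf.stalk x) := ⟨P₀, hP₀.1.1⟩
  have hl : (l.length : WithBot ℕ∞) ≤ ringKrullDim (↥(A.presheaf.stalk x) ⧸ P.asIdeal) := by
    have hle : ∀ i, P₀ ≤ (l i).asIdeal := fun i => hPl.trans (LTSeries.monotone l (Fin.zero_le i))
    rw [ringKrullDim_quotient]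
    exact Order.LTSeries.length_le_krullDim (LTSeries.mk l.length (fun i =>
      (⟨l i, (PrimeSpectrum.mem_zeroLocus _ _).2 (hle i)⟩ : PrimeSpectrum.zeroLocus (P.asIdeal : Set ↥(A.presheaf.stalk x))))
      (fun i j hij => l.strictMono hij))
  let η : A := Groth.Agent.EGA43.DimFormula.toPt x P
  have hη : ringKrullDim ↥(A.presheaf.stalk η) = 0 := by
    rw [ringKrullDim_stalk_eq_coheight, ← WithBot.coe_zero, WithBot.coe_inj, Order.coheight_eq_zero]
    intro z hz
    exact (((Groth.Agent.EGA43.DimFormula.mem_minimalPrimes_iff x P).1 hP₀) z hz).symm ▸ le_rfl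
  have htr : (DimLib.trdegHom (h.residueFieldMap η).hom : WithBot ℕ∞) ≤ (n : WithBot ℕ∞) := by
    have e : DimLib.trdegHom (h.residueFieldMap η).hom = Cardinal.toNat (Dual3.resTrdeg h η) := rfl
    rw [e]
    exact_mod_cast (Cardinal.toNat_le_toNat (hn η hη) (Cardinal.natCast_lt_aleph0)).trans (Cardinal.toNat_natCast n).le
  calc (l.length : WithBot ℕ∞) ≤ ringKrullDim (↥(A.presheaf.stalk x) ⧸ P.asIdeal) := hl
    _ ≤ ringKrullDim (↥(A.presheaf.stalk x) ⧸ P.asIdeal) + (DimLib.trdegHom (h.residueFieldMap x).hom : WithBot ℕ∞) :=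
        le_add_of_nonneg_right (Nat.cast_nonneg _)
    _ ≤ _ := (Groth.Agent.EGA43.DimFormula.point_formula h x P).1
    _ ≤ _ := add_le_add (ringKrullDim_quotient_le _) htr

/-- For Y locally Noetherian and f : X -> Y locally of finite type, dim X ≤ dim Y + E where E bounds the
transcendence degrees over Y of the codimension-0 points of X. -/
theorem result {S : Scheme.{u}} {X Y : AlgSp.Space S} (f : X ⟶ Y)
    (hY : AlgSp.IsLocNoethSp Y.obj) (hf : AlgSp.LocP @LocallyOfFiniteType f.hom) (E : Cardinal.{u})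
    (hE : ∀ ξ : AlgSp.Points X.obj, AlgSp.HasAt (fun U u => ringKrullDim ↥(U.presheaf.stalk u) = 0) X.obj ξ → ∀ s : Cardinal.{u}, AlgSp.HasAtMor (fun _ _ h u => Dual3.resTrdeg h u = s) f.hom ξ → s ≤ E) :
    AlgSp.dim X.obj ≤ AlgSp.dim Y.obj + ((Cardinal.toENat E : ℕ∞) : WithBot ℕ∞) := by
  obtain ⟨V, b, hbe, hbs⟩ := Y.property.atlas
  obtain ⟨U, a, h, hae, has, w⟩ := Groth.Agent.AlgSpLib.exists_chart_over X.property Y.property f.hom b hbe hbs
  have : LocallyOfFiniteType h.left := hf a b h hae hbe w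
  have : IsLocallyNoetherian V.left := Groth.Agent.AlgSpLib.isLocallyNoetherian_chart hY b hbe
  rw [Groth.Agent.AlgSpLib.dim_eq_atlas X.property a hae has,
    Groth.Agent.AlgSpLib.dim_eq_atlas Y.property b hbe hbs]
  by_cases hE' : E < Cardinal.aleph0
  · obtain ⟨n, rfl⟩ := Cardinal.lt_aleph0.1 hE'
    refine (aux h.left n fun η hη => ?_).trans (le_of_eq ?_)
    · exact hE (AlgSp.Points.ofPt a η) ⟨U, a, η, hae, rfl, hη⟩ _
        ⟨U, V, a, b, h, η, hae, hbe, w, rfl, rfl⟩
    · rw [map_natCast]; rfl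
  · rw [Cardinal.toENat_eq_top.2 (not_lt.1 hE')]
    rcases isEmpty_or_nonempty U.left with hU | hU
    · rw [Groth.Agent.AlgSpLib.topologicalKrullDim_scheme, iSup_of_empty]
      exact bot_le
    · obtain ⟨u₀⟩ := hU
      have : Nonempty V.left := ⟨h.left u₀⟩
      refine le_top.trans (le_of_eq ?_)
      have hb : topologicalKrullDim V.left ≠ ⊥ := by
        rw [Groth.Agent.AlgSpLib.topologicalKrullDim_scheme]
        exact ne_bot_of_le_ne_bot WithBot.coe_ne_bot (le_iSup (fun b : V.left => (Order.coheight b : WithBot ℕ∞)) (h.left u₀))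
      obtain ⟨c, hc⟩ := WithBot.ne_bot_iff_exists.1 hb
      rw [← hc, ← WithBot.coe_add, add_top]
      rfl

end Groth.Agent.S10324
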