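import Groth.Statements.S10325
import Groth.Agent.AlgSpLib.SheafCoprod2
-- import your own Groth.Agent.* helpers here

set_option autoImplicit false
universe u
open CategoryTheory CategoryTheory.Limits AlgebraicGeometry
open AlgSp

namespace Groth.Agent.S10325

open Groth.Agent.AlgSpLib

/-- A finite disjoint union of algebraic spaces finite over Y is finite over Y. -/
theorem result {S : Scheme.{u}} {n : ℕ} (X : Fin n → AlgSp.Space S) (Y : AlgSp.Space S)
    (g : ∀ i, X i ⟶ Y) (hg : ∀ i, AlgSp.IsFiniteMor (g i).hom) (c : Cofan fun i => (X i).obj) (hc : IsColimit c)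
    (d : c.pt ⟶ Y.obj) (hd : ∀ i, c.inj i ≫ d = (g i).hom) : AlgSp.IsFiniteMor d := by
  let c' : Cofan fun i : ULift.{u} (Fin n) => (X i.down).obj := Cofan.mk c.pt fun i => c.inj i.down
  have hc' : IsColimit c' := Cofan.IsColimit.mk _
    (fun t => Cofan.IsColimit.desc hc fun i => t.inj ⟨i⟩)
    (fun t j => Cofan.IsColimit.fac hc _ j.down)
    (fun t m hm => Cofan.IsColimit.hom_ext hc _ _ fun i => by
      rw [Cofan.IsColimit.fac]; exact hm ⟨i⟩)
  rw [isFiniteMor_iff_repWith]
  refine repWith_isFinite_of_cofan hc' d fun i => ?_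
  have := (isFiniteMor_iff_repWith _).1 (hg i.down)
  rw [← hd] at this
  exact this

end Groth.Agent.S10325
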