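import Groth.Statements.S10329
import Groth.Agent.AlgSpLib.FibreQF
-- import your own Groth.Agent.* helpers here

set_option autoImplicit false
universe u
open CategoryTheory CategoryTheory.Limits AlgebraicGeometry
open AlgSp

namespace Groth.Agent.S10329

/-- If the fibre of a morphism locally of finite type has dimension 0 at a point, then the morphism is
locally quasi-finite on some open subspace containing the image of that point. -/
theorem result {S : Scheme.{u}} {X Y F : AlgSp.Space S} (f : X ⟶ Y)
    (hf : AlgSp.LocP @LocallyOfFiniteType f.hom) (k : Type u) [Field k] (str : Spec (.of k) ⟶ S)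
    (y : (AlgSp.yon S).obj (Over.mk str) ⟶ Y.obj) (p : F ⟶ X) (q : F.obj ⟶ (AlgSp.yon S).obj (Over.mk str))
    (sq : IsPullback p.hom q f.hom y) (z : AlgSp.Points F.obj)
    (hz : AlgSp.HasAt (fun U u => FlatMor.localDim ↥U u = 0) F.obj z) :
    ∃ (X' : AlgSp.Space S) (j : X' ⟶ X), AlgSp.RepWith @IsOpenImmersion j.hom ∧
      AlgSp.Points.map p.hom z ∈ Set.range (AlgSp.Points.map j.hom) ∧
      AlgSp.LocP (@LocallyQuasiFinite ⊓ @LocallyOfFiniteType) (j ≫ f).hom := by
  exact Groth.Agent.AlgSpLib.exists_open_lqf f hf
    (Groth.Agent.AlgSpLib.lqf_of_localDim_zero X.property Y.property hf sq hz)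

end Groth.Agent.S10329
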