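import Groth.Statements.S10331
import Groth.Agent.AlgSpLib.UnivClosedQC
import Groth.Agent.AlgSpLib.AffineDescent
import Groth.Agent.AlgSpLib.PointsTop
-- import your own Groth.Agent.* helpers here

set_option autoImplicit false
universe u
open CategoryTheory CategoryTheory.Limits AlgebraicGeometry Opposite
open AlgSp

namespace Groth.Agent.S10331

open Opposite Groth.Agent.AlgSpLib

set_option backward.isDefEq.respectTransparency false

/-- an element is integral if the locus where it has an inverse in the affine line has closed image -/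
theorem exists_monic_of_isClosed_image {A B : Type u} [CommRing A] [CommRing B] (φ : A →+* B) (σ : B)
    (h : IsClosed (PrimeSpectrum.comap (MvPolynomial.map (σ := PUnit.{u+1}) φ) ''
      PrimeSpectrum.zeroLocus {MvPolynomial.C σ * MvPolynomial.X PUnit.unit - 1})) :
    ∃ p : Polynomial A, p.Monic ∧ Polynomial.eval₂ φ σ p = 0 := by
  let e : MvPolynomial PUnit.{u+1} B := MvPolynomial.C σ * MvPolynomial.X PUnit.unit - 1
  let x : MvPolynomial PUnit.{u+1} A := MvPolynomial.X PUnit.unit
  let I : Ideal (MvPolynomial PUnit.{u+1} A) := (Ideal.span {e}).comap (MvPolynomial.map φ)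
  have hI : PrimeSpectrum.comap (MvPolynomial.map φ) '' PrimeSpectrum.zeroLocus {e} =
      PrimeSpectrum.zeroLocus (I : Set (MvPolynomial PUnit.{u+1} A)) := by
    rw [← PrimeSpectrum.closure_image_comap_zeroLocus, PrimeSpectrum.zeroLocus_span]
    exact h.closure_eq.symm
  have htop : I ⊔ Ideal.span {x} = ⊤ := by
    rw [← PrimeSpectrum.zeroLocus_empty_iff_eq_top, PrimeSpectrum.zeroLocus_sup, PrimeSpectrum.zeroLocus_span, ← hI]
    refine Set.eq_empty_iff_forall_notMem.2 ?_
    rintro _ ⟨⟨Q, hQ, rfl⟩, hx⟩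
    have h1 : e ∈ Q.asIdeal := hQ rfl
    have h2 : (MvPolynomial.X PUnit.unit : MvPolynomial PUnit.{u+1} B) ∈ Q.asIdeal := by
      have := hx (Set.mem_singleton x)
      simpa [x] using this
    apply Q.isPrime.ne_top
    rw [Ideal.eq_top_iff_one]
    have := Ideal.sub_mem _ (Q.asIdeal.mul_mem_left (MvPolynomial.C σ) h2) h1
    simpa [e] using this
  obtain ⟨k, hk, m, hm, hkm⟩ := Submodule.mem_sup.1 ((Ideal.eq_top_iff_one _).1 htop)
  obtain ⟨q, rfl⟩ := Ideal.mem_span_singleton'.1 hm
  let L := Localization.Away σ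
  let v : L := IsLocalization.Away.invSelf σ
  have hv : algebraMap B L σ * v = 1 := IsLocalization.Away.mul_invSelf σ
  letI : Invertible v := ⟨algebraMap B L σ, hv, by rw [mul_comm]; exact hv⟩
  let ψ : MvPolynomial PUnit.{u+1} B →+* L := MvPolynomial.eval₂Hom (algebraMap B L) (fun _ => v)
  let ι : MvPolynomial PUnit.{u+1} A →+* Polynomial A := MvPolynomial.eval₂Hom Polynomial.C (fun _ => Polynomial.X)
  have hcomp : ∀ z, Polynomial.eval₂ ((algebraMap B L).comp φ) v (ι z) = ψ (MvPolynomial.map φ z) := fun z => by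
    induction z using MvPolynomial.induction_on with
    | C a => simp [ι, ψ]
    | add p q hp hq => simp only [map_add, Polynomial.eval₂_add, hp, hq]
    | mul_X p i hp => simp only [map_mul, Polynomial.eval₂_mul, hp]; simp [ι, ψ]
  have hψe : ψ e = 0 := by simp [ψ, e, hv]
  have hψk : ψ (MvPolynomial.map φ k) = 0 := by
    obtain ⟨c, hc⟩ := Ideal.mem_span_singleton'.1 hk
    rw [← hc, map_mul, hψe, mul_zero]
  let r : Polynomial A := 1 - ι q * Polynomial.X
  have hr0 : r.coeff 0 = 1 := by simp [r]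
  have hrv : Polynomial.eval₂ ((algebraMap B L).comp φ) v r = 0 := by
    rw [show r = ι k by rw [eq_sub_of_add_eq hkm]; simp [r, ι, x], hcomp, hψk]
  have hmon : r.reverse.Monic := by
    rcases subsingleton_or_nontrivial A with _ | _
    · exact Subsingleton.elim _ _
    · have h0 : r.natTrailingDegree = 0 :=
        Polynomial.natTrailingDegree_eq_zero.2 (Or.inr (by rw [hr0]; exact one_ne_zero))
      rw [Polynomial.Monic, Polynomial.reverse_leadingCoeff, Polynomial.trailingCoeff, h0, hr0]
  have hrev : algebraMap B L (Polynomial.eval₂ φ σ r.reverse) = 0 := by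
    rw [Polynomial.hom_eval₂]
    exact (Polynomial.eval₂_reverse_eq_zero_iff ((algebraMap B L).comp φ) v r).2 hrv
  obtain ⟨⟨_, n, rfl⟩, hn⟩ := (IsLocalization.map_eq_zero_iff (Submonoid.powers σ) L _).1 hrev
  exact ⟨Polynomial.X ^ n * r.reverse, (Polynomial.monic_X_pow n).mul hmon, by
    rw [Polynomial.eval₂_mul, Polynomial.eval₂_X_pow]; exact hn⟩

/-- Let f : X -> h_V be a quasi-compact, quasi-separated and universally closed morphism from an
algebraic space over S to an affine scheme V over S. Then every global section of O_X (a compatible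
family of functions on the schemes etale over X) satisfies a monic polynomial with coefficients in
Γ(V, O_V). (The published statement has an arbitrary algebraic space as target and says that f_*O_X
is integral over O_Y, which is this assertion for the base change of f to every affine scheme etale
over the target; the reformulation through the relative spectrum of f_*O_X is not included.) -/
theorem result {S : Scheme.{u}} (V : Over S) [IsAffine V.left] (X : AlgSp.Space S)
    (f : X ⟶ (AlgSp.ofScheme S).obj V) (hqc : AlgSp.IsQuasiCompactMor f.hom)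
    (hqs : AlgSp.IsQuasiSeparatedMor f.hom) (huc : AlgSp.IsUnivClosedMor f.hom)
    (s : ↥(AlgSp.gsectEt (AlgSp.OEt X.obj) : CommRingCat.{u + 1})) :
    ∃ p : Polynomial Γ(V.left, ⊤), p.Monic ∧
      ∀ E : AlgSp.EtOver X.obj,
        Polynomial.eval₂ ((AlgSp.yon S).preimage (E.obj.hom ≫ f.hom)).left.appTop.hom
          ((limit.π (AlgSp.OEt X.obj).obj (op E)) s).down p = 0 := by
  have hVq : IsQuasiCompactSp ((yon S).obj V) :=
    ⟨V, 𝟙 _, repWith_of_isIso _ _, repWith_of_isIso _ _, inferInstance⟩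
  have hXq : IsQuasiCompactSp X.obj :=
    hqc (IsAlgSpace.yon_obj V) hVq (𝟙 _) (𝟙 _) f.hom (IsPullback.of_horiz_isIso ⟨by
      rw [Category.id_comp]; exact (Category.comp_id _).symm⟩)
  have := compactSpace_points_of_isQuasiCompactSp hXq
  obtain ⟨U, p, hU, hpe, hps⟩ := exists_affine_chart X.property
  let str : Spec Γ(V.left, ⊤) ⟶ S := V.left.isoSpec.inv ≫ V.hom
  let iV : Over.mk str ≅ V := Over.isoMk V.left.isoSpec.symm rfl
  let fh : X.obj ⟶ (yon S).obj V := f.hom
  let p₀ : X.obj ⟶ (yon S).obj (Over.mk str) := fh ≫ (yon S).map iV.inv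
  obtain ⟨φ, hφ⟩ := Spec.map_surjective (U.left.isoSpec.inv ≫ ((yon S).preimage (p ≫ p₀)).left)
  let W : Over S := Over.mk (Spec.map φ ≫ str)
  let i : W ≅ U := Over.isoMk U.left.isoSpec.symm (by
    show U.left.isoSpec.inv ≫ U.hom = Spec.map φ ≫ str
    rw [hφ, Category.assoc]
    exact congrArg (U.left.isoSpec.inv ≫ ·) (Over.w ((yon S).preimage (p ≫ p₀))).symm)
  let h₀ : W ⟶ Over.mk str := Over.homMk (Spec.map φ) rfl
  let a : (yon S).obj W ⟶ X.obj := (yon S).map i.hom ≫ p
  have hae : RepWith @Etale a := RepWith.comp ((repWith_yon_map_iff @Etale i.hom).2 (by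
    show Etale U.left.isoSpec.inv; infer_instance)) hpe
  have has : RepWith @Surjective a := RepWith.comp ((repWith_yon_map_iff @Surjective i.hom).2 (by
    show Surjective U.left.isoSpec.inv; infer_instance)) hps
  have ha : a ≫ p₀ = (yon S).map h₀ := by
    rw [show h₀ = i.hom ≫ (yon S).preimage (p ≫ p₀) from Over.OverMorphism.ext hφ, Functor.map_comp,
      Functor.map_preimage, Category.assoc]
  -- the section on the chart
  let E₀ : EtOver X.obj := ⟨CostructuredArrow.mk a, hae⟩
  let ev : ∀ E : EtOver X.obj, Γ(E.obj.left.left, ⊤) := fun E => ((limit.π (OEt X.obj).obj (op E)) s).down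
  have hev : ∀ {E E' : EtOver X.obj} (g : E ⟶ E'), g.hom.left.left.appTop (ev E') = ev E := fun {E E'} g =>
    congrArg ULift.down (congr($(limit.w (OEt X.obj).obj g.op) s))
  let B : CommRingCat.{u} := Γ(U.left, ⊤)
  let σ : ↥B := (Scheme.ΓSpecIso B).hom (ev E₀)
  have hσ : ev E₀ = (Scheme.ΓSpecIso B).inv σ := ((Scheme.ΓSpecIso B).hom_inv_id_apply _).symm
  -- the affine line
  let sQ₀ := IsPullback.of_hasPullback fh ((yon S).map (polyHom str PUnit.{u+1} ≫ iV.hom))
  have sQ : IsPullback (pullback.fst fh ((yon S).map (polyHom str PUnit.{u+1} ≫ iV.hom))) (pullback.snd _ _)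
      p₀ ((yon S).map (polyHom str PUnit.{u+1})) :=
    sQ₀.of_iso (Iso.refl _) (Iso.refl _) (Iso.refl _) ((yon S).mapIso iV.symm) (by simp) (by simp)
      (by simp [p₀]) (by simp [← Functor.map_comp])
  have hclosed : IsClosedMap (Points.map (pullback.snd fh ((yon S).map (polyHom str PUnit.{u+1} ≫ iV.hom)))) :=
    huc (IsAlgSpace.yon_obj _) _ _ _ sQ₀
  obtain ⟨aσ, hσs, sσ⟩ := exists_poly_chart str p₀ φ a ha _ sQ
  have haσe : RepWith @Etale aσ := RepWith.baseChange sσ.flip hae
  have haσs : RepWith @Surjective aσ := RepWith.baseChange sσ.flip has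
  let e : MvPolynomial PUnit.{u+1} ↥B := MvPolynomial.C σ * MvPolynomial.X PUnit.unit - 1
  let P : CommRingCat.{u} := CommRingCat.of (MvPolynomial PUnit.{u+1} ↥B)
  let et : Γ(Spec P, ⊤) := (Scheme.ΓSpecIso P).inv e
  let G : Set ↥(Spec P) := PrimeSpectrum.zeroLocus {e}
  have hG : ∀ w : ↥(Spec P), w ∈ G ↔ w ∉ (Spec P).basicOpen et := fun w => by
    simp only [G, et, basicOpen_eq_of_affine]
    exact Set.singleton_subset_iff.trans not_not.symm
  have hsat : Points.ofPt aσ ⁻¹' (Points.ofPt aσ '' G) = G := by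
    refine Set.Subset.antisymm ?_ (Set.subset_preimage_image _ _)
    rintro w₂ ⟨w₁, hw₁, hw⟩
    obtain ⟨r, hr1, hr2⟩ := (ofPt_eq_ofPt_iff (haσe.1.isPullback' aσ) w₁ w₂).1 hw
    let R := haσe.1.pullback aσ
    let ph := polyHom (Spec.map φ ≫ str) PUnit.{u+1}
    let r₁ : R ⟶ polyOver (Spec.map φ ≫ str) PUnit.{u+1} := haσe.1.fst' aσ
    let r₂ : R ⟶ polyOver (Spec.map φ ≫ str) PUnit.{u+1} := haσe.1.snd aσ
    have hr : (yon S).map r₁ ≫ aσ = (yon S).map r₂ ≫ aσ := (haσe.1.isPullback' aσ).w
    have hC : (yon S).map (r₁ ≫ ph) ≫ a = (yon S).map (r₂ ≫ ph) ≫ a := by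
      rw [Functor.map_comp, Functor.map_comp, Category.assoc, Category.assoc, ← sσ.w, ← Category.assoc,
        hr, Category.assoc]
    have hX : r₁ ≫ polyBC str φ PUnit.{u+1} = r₂ ≫ polyBC str φ PUnit.{u+1} := (yon S).map_injective (by
      rw [Functor.map_comp, Functor.map_comp, ← hσs, ← Category.assoc, hr, Category.assoc])
    -- both projections give the same value of the section
    have hra := hae.1.isPullback' a
    let R₀ := hae.1.pullback a
    let E₁ : EtOver X.obj := ⟨CostructuredArrow.mk ((yon S).map (hae.1.snd a) ≫ a), RepWith.comp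
      ((repWith_yon_map_iff @Etale _).2 (hae.property_snd a)) hae⟩
    let g₁ : E₁ ⟶ E₀ := ObjectProperty.homMk (CostructuredArrow.homMk (hae.1.fst' a) hra.w)
    let g₂ : E₁ ⟶ E₀ := ObjectProperty.homMk (CostructuredArrow.homMk (hae.1.snd a) rfl)
    obtain ⟨l, hl1, hl2⟩ := hra.exists_lift ((yon S).map (r₁ ≫ ph)) ((yon S).map (r₂ ≫ ph)) hC
    obtain ⟨l, rfl⟩ := (yon S).map_surjective l
    rw [← Functor.map_comp] at hl1 hl2
    have hl1' := (yon S).map_injective hl1
    have hl2' := (yon S).map_injective hl2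
    have hev1 : (hae.1.fst' a).left.appTop (ev E₀) = ev E₁ := hev g₁
    have hev2 : (hae.1.snd a).left.appTop (ev E₀) = ev E₁ := hev g₂
    have eC : ∀ (q : R ⟶ polyOver (Spec.map φ ≫ str) PUnit.{u+1}),
        q.left.appTop ((Scheme.ΓSpecIso P).inv (MvPolynomial.C σ)) = (q ≫ ph).left.appTop (ev E₀) := fun q => by
      have h := congr($(Scheme.ΓSpecIso_inv_naturality (CommRingCat.ofHom (MvPolynomial.C (R := ↥B) (σ := PUnit.{u+1})))) σ)
      rw [hσ, Over.comp_left, Scheme.Hom.comp_appTop]
      exact congrArg q.left.appTop h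
    have eX : ∀ (q : R ⟶ polyOver (Spec.map φ ≫ str) PUnit.{u+1}),
        q.left.appTop ((Scheme.ΓSpecIso P).inv (MvPolynomial.X PUnit.unit)) =
          (q ≫ polyBC str φ PUnit.{u+1}).left.appTop ((Scheme.ΓSpecIso _).inv (MvPolynomial.X PUnit.unit)) := fun q => by
      have h := congr($(Scheme.ΓSpecIso_inv_naturality
        (CommRingCat.ofHom (MvPolynomial.map (σ := PUnit.{u+1}) φ.hom))) (MvPolynomial.X PUnit.unit))
      rw [Over.comp_left, Scheme.Hom.comp_appTop]
      exact congrArg q.left.appTop ((congrArg (Scheme.ΓSpecIso P).inv (MvPolynomial.map_X φ.hom PUnit.unit).symm).trans h)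
    have het : r₁.left.appTop et = r₂.left.appTop et := by
      simp only [et, e, map_sub, map_mul, map_one]
      rw [eC, eC, eX, eX, hX, ← hl1', ← hl2']
      simp only [Over.comp_left, Scheme.Hom.comp_appTop, CommRingCat.comp_apply]
      exact congrArg (fun z => l.left.appTop z * _ - 1) (hev1.trans hev2.symm)
    rw [hG] at hw₁ ⊢
    intro hw₂
    apply hw₁
    have h2 : r ∈ R.left.basicOpen (r₂.left.appTop et) := by
      rw [← Scheme.preimage_basicOpen_top]
      exact Set.mem_preimage.2 ((congrArg (fun t => t ∈ ((Spec P).basicOpen et : Set ↥(Spec P))) hr2).mpr hw₂)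
    rw [← het, ← Scheme.preimage_basicOpen_top] at h2
    rw [← hr1]; exact h2
  have hTc : IsClosed (Points.ofPt aσ '' G) := by
    have hq : Topology.IsQuotientMap (Points.ofPt aσ) :=
      ((isOpenMap_ofPt aσ haσe).isQuotientMap (Points.continuous_ofPt aσ) (surjective_ofPt aσ haσs))
    rw [← hq.isClosed_preimage, hsat]
    exact PrimeSpectrum.isClosed_zeroLocus _
  have hA := (hclosed _ hTc).preimage (Points.schemeHomeo (polyOver str PUnit.{u+1})).continuous
  rw [show Points.schemeHomeo (polyOver str PUnit.{u+1}) ⁻¹' _ = _ from schemeHomeo_preimage_image haσs hσs _,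
    hsat] at hA
  obtain ⟨q, hq, hq0⟩ := exists_monic_of_isClosed_image φ.hom σ hA
  refine ⟨q, hq, fun E => ?_⟩
  -- compare on a chart
  have hEa := hae.1.isPullback' E.obj.hom
  let E' : EtOver X.obj := ⟨CostructuredArrow.mk ((yon S).map (hae.1.snd E.obj.hom) ≫ E.obj.hom), RepWith.comp
    ((repWith_yon_map_iff @Etale _).2 (hae.property_snd E.obj.hom)) E.property⟩
  let m : E' ⟶ E := ObjectProperty.homMk (CostructuredArrow.homMk (hae.1.snd E.obj.hom) rfl)
  let n : E' ⟶ E₀ := ObjectProperty.homMk (CostructuredArrow.homMk (hae.1.fst' E.obj.hom) hEa.w)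
  have : Etale (hae.1.snd E.obj.hom).left := hae.property_snd E.obj.hom
  have : Surjective (hae.1.snd E.obj.hom).left := has.2 _ _ _ (has.1.isPullback E.obj.hom)
  let gE := (yon S).preimage (E.obj.hom ≫ fh)
  let g₀ := (yon S).preimage (a ≫ fh)
  have hg : hae.1.snd E.obj.hom ≫ gE = hae.1.fst' E.obj.hom ≫ g₀ := (yon S).map_injective (by
    simp only [gE, g₀, Functor.map_comp, Functor.map_preimage]
    rw [← Category.assoc, ← Category.assoc]
    exact congrArg (· ≫ fh) (hEa.w.symm.trans (congrArg (· ≫ a) (Functor.map_preimage _ _))))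
  apply appTop_injective_of_flat_surjective (hae.1.snd E.obj.hom).left
  rw [map_zero, Polynomial.hom_eval₂, ← CommRingCat.hom_comp, ← Scheme.Hom.comp_appTop, ← Over.comp_left, hg,
    Over.comp_left, Scheme.Hom.comp_appTop, CommRingCat.hom_comp]
  rw [show (hae.1.snd E.obj.hom).left.appTop.hom (ev E) = (hae.1.fst' E.obj.hom).left.appTop.hom (ev E₀) from
    (hev m).trans (hev n).symm, ← Polynomial.hom_eval₂]
  refine (congrArg _ ?_).trans (map_zero _)
  have hg₀ : g₀ = h₀ ≫ iV.hom := (yon S).map_injective (by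
    simp only [g₀, Functor.map_preimage, Functor.map_comp]
    rw [← ha]
    simp [p₀, ← Functor.map_comp])
  have hφ₀ : g₀.left.appTop.hom = (Scheme.ΓSpecIso B).inv.hom.comp φ.hom := by
    rw [hg₀, Over.comp_left, Scheme.Hom.comp_appTop, ← CommRingCat.hom_comp]
    congr 1
    show V.left.isoSpec.inv.appTop ≫ (Spec.map φ).appTop = _
    rw [show V.left.isoSpec.inv.appTop = (Scheme.ΓSpecIso _).inv by simp [Scheme.isoSpec],
      ← Scheme.ΓSpecIso_inv_naturality]
  show Polynomial.eval₂ g₀.left.appTop.hom (ev E₀) q = 0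
  rw [hφ₀, hσ]
  exact (Polynomial.hom_eval₂ q φ.hom (Scheme.ΓSpecIso B).inv.hom σ).symm.trans ((congrArg _ hq0).trans (map_zero _))

end Groth.Agent.S10331
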