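import Groth.Statements.S10332
import Groth.Agent.AlgSpLib.QCohEtSub
import Groth.Agent.AlgSpLib.WeakAssEtSite
import Mathlib.RingTheory.Smooth.IntegralClosure
-- import your own Groth.Agent.* helpers here

set_option autoImplicit false
universe u
open CategoryTheory CategoryTheory.Limits AlgebraicGeometry Opposite
open AlgSp

namespace Groth.Agent.S10332

open Groth.Agent.AlgSpLib

open scoped TensorProduct

universe v

theorem span_integral_eq {R S B B' : Type v} [CommRing R] [CommRing S] [CommRing B] [CommRing B'] (f : R →+* S)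
    (a : R →+* B) (a' : S →+* B') (ψ : B →+* B') (hψ : a'.comp f = ψ.comp a) (hf : f.Etale)
    (hbij : letI := f.toAlgebra; letI := a.toAlgebra;
      ∃ e : S ⊗[R] B →+ B', Function.Bijective e ∧ ∀ s b, e (s ⊗ₜ b) = a' s * ψ b) :
    (∀ b, a.IsIntegralElem b → a'.IsIntegralElem (ψ b)) ∧
    ∀ (q : AddSubgroup B'), (∀ (s : S) (b : B), a.IsIntegralElem b → a' s * ψ b ∈ q) →
      ∀ z, a'.IsIntegralElem z → z ∈ q := by
  letI := f.toAlgebra
  letI := a.toAlgebra
  letI := a'.toAlgebra
  haveI : Algebra.Etale R S := hf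
  letI : Algebra R B' := (a'.comp f).toAlgebra
  haveI : IsScalarTower R S B' := IsScalarTower.of_algebraMap_eq fun _ => rfl
  refine ⟨fun b hb => IsIntegral.map_of_comp_eq f ψ hψ hb, fun q hq z hz => ?_⟩
  obtain ⟨e, he, het⟩ := hbij
  let r : B →ₐ[R] B' := { ψ with commutes' := fun x => (RingHom.congr_fun hψ x).symm }
  let Φ : S ⊗[R] B →ₐ[S] B' := Algebra.TensorProduct.lift (Algebra.ofId S B') r fun _ _ => Commute.all _ _
  have hΦ : ∀ x, Φ x = e x := fun x => by
    induction x using TensorProduct.induction_on with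
    | zero => rw [map_zero, map_zero]
    | tmul s b => rw [het]; rfl
    | add x y hx hy => rw [map_add, map_add, hx, hy]
  have hΦb : Function.Bijective Φ := by rw [show ⇑Φ = ⇑e from funext hΦ]; exact he
  obtain ⟨y, rfl⟩ := hΦb.surjective z
  obtain ⟨w, hw⟩ := (TensorProduct.toIntegralClosure_bijective_of_smooth (R := R) (S := S) (B := B)).surjective
    ⟨y, (isIntegral_algHom_iff Φ hΦb.injective).1 hz⟩
  have hy : Algebra.TensorProduct.map (AlgHom.id S S) (integralClosure R B).val w = y := congrArg Subtype.val hw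
  rw [← hy]
  clear hw hy hz
  induction w using TensorProduct.induction_on with
  | zero => rw [map_zero, map_zero]; exact q.zero_mem
  | tmul s b => rw [Algebra.TensorProduct.map_tmul, hΦ, het]; exact hq s b.val b.property
  | add x y hx hy => rw [map_add, map_add]; exact q.add_mem hx hy

theorem presentation_iso {S : Scheme.{u}} {X : AlgSp.Sp S} (F : AlgSp.ModEt X) (M : AlgSp.ModEt X)
    (e : M.val ≅ F.val) [F.IsQuasicoherent] : M.IsQuasicoherent := by
  let this : M ≅ F := (SheafOfModules.fullyFaithfulForget (AlgSp.OEtRing X)).preimageIso e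
  exact (SheafOfModules.isQuasicoherent (AlgSp.OEtRing X)).prop_of_iso this.symm inferInstance

/-- For an algebraic space X over S and a quasi-coherent sheaf of O_X-algebras A on the small etale site
of X (a sheaf of commutative rings A with O_X -> A, quasi-coherent as an O_X-module), there is a
quasi-coherent O_X-subalgebra A' of A whose sections over every affine object U of the site are
exactly the elements of A(U) integral over O_X(U). -/
theorem result {S : Scheme.{u}} (X : AlgSp.Space S)
    (A : AlgSp.EtSh X.obj CommRingCat.{u + 1}) (φ : AlgSp.OEt X.obj ⟶ A)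
    [((SheafOfModules.restrictScalars
        ((sheafCompose (AlgSp.etTop X.obj) (forget₂ CommRingCat.{u + 1} RingCat.{u + 1})).map φ)).obj
      (SheafOfModules.unit
        ((sheafCompose (AlgSp.etTop X.obj) (forget₂ CommRingCat.{u + 1} RingCat.{u + 1})).obj A))).IsQuasicoherent] :
    ∃ (A' : AlgSp.EtSh X.obj CommRingCat.{u + 1}) (ι : A' ⟶ A) (φ' : AlgSp.OEt X.obj ⟶ A'),
      φ' ≫ ι = φ ∧ (∀ E : AlgSp.EtOver X.obj, Function.Injective (ι.hom.app (op E))) ∧
      (∀ E : AlgSp.EtOver X.obj, IsAffine E.obj.left.left → ∀ x : A.obj.obj (op E),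
        x ∈ Set.range (ι.hom.app (op E)) ↔ (φ.hom.app (op E)).hom.IsIntegralElem x) ∧
      ((SheafOfModules.restrictScalars
          ((sheafCompose (AlgSp.etTop X.obj) (forget₂ CommRingCat.{u + 1} RingCat.{u + 1})).map φ')).obj
        (SheafOfModules.unit
          ((sheafCompose (AlgSp.etTop X.obj) (forget₂ CommRingCat.{u + 1} RingCat.{u + 1})).obj A'))).IsQuasicoherent := by
  let F : AlgSp.ModEt X.obj := (SheafOfModules.restrictScalars
        ((sheafCompose (AlgSp.etTop X.obj) (forget₂ CommRingCat.{u + 1} RingCat.{u + 1})).map φ)).obj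
      (SheafOfModules.unit
        ((sheafCompose (AlgSp.etTop X.obj) (forget₂ CommRingCat.{u + 1} RingCat.{u + 1})).obj A))
  haveI : F.IsQuasicoherent := ‹_›
  let φE (E : AlgSp.EtOver X.obj) : QCohEt.ΓE E →+* A.obj.obj (op E) := (φ.hom.app (op E)).hom
  let res {E W : AlgSp.EtOver X.obj} (g : W ⟶ E) : A.obj.obj (op E) →+* A.obj.obj (op W) := (A.obj.map g.op).hom
  have hnat : ∀ {E W : AlgSp.EtOver X.obj} (g : W ⟶ E),
      (φE W).comp (QCohEt.ΓMap g).hom = (res g).comp (φE E) := fun g =>
    congrArg CommRingCat.Hom.hom (φ.hom.naturality g.op)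
  have key : ∀ {E W : AlgSp.EtOver X.obj} (hE : QCohEt.IsAff E) (hW : QCohEt.IsAff W) (g : W ⟶ E),
      (∀ b, (φE E).IsIntegralElem b → (φE W).IsIntegralElem (res g b)) ∧
      ∀ (q : AddSubgroup (A.obj.obj (op W))),
        (∀ (s : QCohEt.ΓE W) (b : A.obj.obj (op E)), (φE E).IsIntegralElem b → φE W s * res g b ∈ q) →
        ∀ z, (φE W).IsIntegralElem z → z ∈ q := fun {E W} hE hW g => by
    haveI := hE
    haveI := hW
    exact span_integral_eq (QCohEt.ΓMap g).hom (φE E) (φE W) (res g) (hnat g) (QCohEt.etale_ΓMap g)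
      ⟨QCohEt.bcMap F E (Over.mk g), QCohEt.isBC F E (Over.mk g) hW, fun s b => QCohEt.bcMap_tmul F E (Over.mk g) s b⟩
  let Q : QCohEt.QSub F :=
    { P := fun E _ =>
        { carrier := {x | (φE E).IsIntegralElem (show A.obj.obj (op E) from x)}
          add_mem' := fun {a b} ha hb => RingHom.IsIntegralElem.add (φE E) ha hb
          zero_mem' := (φE E).isIntegralElem_zero
          smul_mem' := fun r x hx => RingHom.IsIntegralElem.mul (φE E) (φE E).isIntegralElem_map hx }
      span_eq := fun {E W} hE hW g => by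
        refine le_antisymm (Submodule.span_le.2 ?_) fun z hz => ?_
        · rintro _ ⟨s, hs, rfl⟩
          exact (key hE hW g).1 _ hs
        · let N : Submodule (QCohEt.ΓE W) (QCohEt.Sec F W) := Submodule.span (QCohEt.ΓE W)
            (QCohEt.mapSec F g '' {x | (φE E).IsIntegralElem (show A.obj.obj (op E) from x)})
          exact (key hE hW g).2 N.toAddSubgroup
            (fun s b hb => by
              have h : s • QCohEt.mapSec F g b ∈ N := N.smul_mem s (Submodule.subset_span ⟨b, hb, rfl⟩)
              exact h) z hz }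
  let sR (U : (AlgSp.EtOver X.obj)ᵒᵖ) : Subring (A.obj.obj U) :=
    { carrier := {x | (show F.val.obj U from x) ∈ Q.sub.obj U}
      add_mem' := fun {a b} ha hb => (Q.sub.obj U).add_mem ha hb
      zero_mem' := (Q.sub.obj U).zero_mem
      neg_mem' := fun {a} ha => (Q.sub.obj U).neg_mem ha
      one_mem' := fun W hW g => by
        show (φE W).IsIntegralElem (res g 1)
        rw [map_one]
        exact (φE W).isIntegralElem_one
      mul_mem' := fun {a b} ha hb W hW g => by
        show (φE W).IsIntegralElem (res g (a * b))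
        rw [map_mul]
        exact RingHom.IsIntegralElem.mul (φE W) (ha W hW g) (hb W hW g) }
  let P' : (AlgSp.EtOver X.obj)ᵒᵖ ⥤ CommRingCat.{u + 1} :=
    { obj := fun U => CommRingCat.of (sR U)
      map := fun {U V} f => CommRingCat.ofHom (((A.obj.map f).hom.restrict (sR U) (sR V))
        fun x hx => Q.sub.map_mem f hx)
      map_id := fun U => CommRingCat.hom_ext (RingHom.ext fun x => Subtype.ext
        (congrArg (fun t : A.obj.obj U ⟶ A.obj.obj U => t x.val) (A.obj.map_id U)))
      map_comp := fun {U V W} f g => CommRingCat.hom_ext (RingHom.ext fun x => Subtype.ext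
        (congrArg (fun t : A.obj.obj U ⟶ A.obj.obj W => t x.val) (A.obj.map_comp f g))) }
  have hP' : Presheaf.IsSheaf (AlgSp.etTop X.obj) P' := by
    rw [Presheaf.isSheaf_iff_isSheaf_forget _ _ (forget CommRingCat.{u + 1})]
    exact (Presheaf.isSheaf_iff_isSheaf_forget _ _ (forget AddCommGrpCat.{u + 1})).1 Q.isSheaf
  let A' : AlgSp.EtSh X.obj CommRingCat.{u + 1} := ⟨P', hP'⟩
  have hφ : ∀ (U : (AlgSp.EtOver X.obj)ᵒᵖ) (a : (AlgSp.OEt X.obj).obj.obj U), (φ.hom.app U).hom a ∈ sR U :=
    fun U a W hW g => by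
      show (φE W).IsIntegralElem (res g ((φ.hom.app U).hom a))
      rw [show res g ((φ.hom.app U).hom a) = φE W ((QCohEt.ΓMap g).hom a) from
        (RingHom.congr_fun (hnat g) a).symm]
      exact (φE W).isIntegralElem_map
  let ι : A' ⟶ A := ⟨{ app := fun U => CommRingCat.ofHom (sR U).subtype, naturality := fun _ _ _ => rfl }⟩
  let φ' : AlgSp.OEt X.obj ⟶ A' :=
    ⟨{ app := fun U => CommRingCat.ofHom ((φ.hom.app U).hom.codRestrict (sR U) (hφ U))
       naturality := fun U V f => CommRingCat.hom_ext (RingHom.ext fun a => Subtype.ext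
        (congrArg (fun t : (AlgSp.OEt X.obj).obj.obj U ⟶ A.obj.obj V => t a) (φ.hom.naturality f))) }⟩
  refine ⟨A', ι, φ', rfl, fun E => Subtype.val_injective, fun E hE x => ?_, ?_⟩
  · constructor
    · rintro ⟨y, rfl⟩
      exact (Q.mem_sub_iff hE _).1 y.property
    · exact fun hx => ⟨⟨x, (Q.mem_sub_iff hE _).2 hx⟩, rfl⟩
  · haveI := Q.isQuasicoherent_obj
    let M : AlgSp.ModEt X.obj := (SheafOfModules.restrictScalars
          ((sheafCompose (AlgSp.etTop X.obj) (forget₂ CommRingCat.{u + 1} RingCat.{u + 1})).map φ')).obj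
        (SheafOfModules.unit
          ((sheafCompose (AlgSp.etTop X.obj) (forget₂ CommRingCat.{u + 1} RingCat.{u + 1})).obj A'))
    let e (U : (AlgSp.EtOver X.obj)ᵒᵖ) : M.val.obj U ≃ₗ[(AlgSp.OEtRing X.obj).obj.obj U] Q.obj.val.obj U :=
      { toFun := fun y => ⟨y.val, y.property⟩
        invFun := fun y => ⟨y.val, y.property⟩
        map_add' := fun _ _ => rfl
        map_smul' := fun _ _ => rfl
        left_inv := fun _ => rfl
        right_inv := fun _ => rfl }
    exact presentation_iso Q.obj M (PresheafOfModules.isoMk (fun U => (e U).toModuleIso)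
      (fun U V f => ModuleCat.hom_ext (LinearMap.ext fun _ => rfl)))

end Groth.Agent.S10332
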