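import Groth.Statements.S10333
import Groth.Agent.AlgSpLib.MorMore
import Groth.Agent.AlgSpLib.FpqcBaseImm
import Groth.Agent.AlgSpLib.RedUniv
-- import your own Groth.Agent.* helpers here

set_option autoImplicit false
universe u
open CategoryTheory CategoryTheory.Limits AlgebraicGeometry
open AlgSp

namespace Groth.Agent.S10333

set_option backward.isDefEq.respectTransparency.types false

/-- Let f : Y -> X be a morphism of algebraic spaces over S that is quasi-compact and quasi-separated,
and X' -> X the normalization of X in Y (an integral morphism through which f factors, initial among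
such factorizations). If Y is reduced then X' is reduced. -/
theorem result {S : Scheme.{u}} {Y X X' : AlgSp.Space S} (f : Y ⟶ X)
    (hqc : AlgSp.IsQuasiCompactMor f.hom) (hqs : AlgSp.IsQuasiSeparatedMor f.hom) (ν : X' ⟶ X) (f' : Y ⟶ X')
    (hn : AlgSp.IsRelNormalization f.hom ν.hom f'.hom) (hY : AlgSp.IsReducedSp Y.obj) :
    AlgSp.IsReducedSp X'.obj := by
  obtain ⟨Z, i, hi, hr, hred⟩ := Stk19b.RedInd.exists_isRedInduced X' Set.univ isClosed_univ
  obtain ⟨g, hg⟩ := AlgSpLib.exists_lift_of_reduced hY (f := f'.hom) hi (by rw [hr]; exact Set.subset_univ _)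
  have hiν : AlgSp.IsIntegralMor (i.hom ≫ ν.hom) := by
    have h2 := hn.2.1
    rw [AlgSpLib.isIntegralMor_iff_repWith] at h2 ⊢
    exact MorphismProperty.comp_mem _ _ _
      (AlgSpLib.RepWith.mono (fun _ _ k (hk : IsClosedImmersion k) => (inferInstance : IsIntegralHom k)) hi) h2
  obtain ⟨h, ⟨e1, e2⟩, -⟩ := hn.2.2 Z.property (i.hom ≫ ν.hom) g hiν (by rw [← Category.assoc, hg, hn.1])
  obtain ⟨_, -, hu⟩ := hn.2.2 X'.property ν.hom f'.hom hn.2.1 hn.1
  have h3 : h ≫ i.hom = 𝟙 _ :=
    (hu (h ≫ i.hom) ⟨by rw [← Category.assoc, e1, hg], by rw [Category.assoc, e2]⟩).trans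
      (hu (𝟙 _) ⟨Category.comp_id _, Category.id_comp _⟩).symm
  have : Mono i.hom := AlgSpLib.mono_of_repWith
    (fun _ _ k (hk : IsClosedImmersion k) => (inferInstance : Mono k)) hi
  exact AlgSpLib.EtaleLocally.of_iso' hred
    ⟨i.hom, h, (cancel_mono i.hom).1 (by rw [Category.assoc, h3, Category.comp_id, Category.id_comp]), h3⟩

end Groth.Agent.S10333
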