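import Groth.Statements.S10334
import Groth.Agent.AlgSpLib.PushEtImage
import Groth.Agent.AlgSpLib.MorTop
import Groth.Agent.AlgSpLib.MorMore
-- import your own Groth.Agent.* helpers here

set_option autoImplicit false
universe u
open CategoryTheory CategoryTheory.Limits AlgebraicGeometry Opposite
open AlgSp

namespace Groth.Agent.S10334

set_option backward.isDefEq.respectTransparency.types false
set_option backward.isDefEq.respectTransparency false
open Groth.Agent.AlgSpLib

/-- Let f : Y -> X be an integral, universally injective morphism of algebraic spaces over S. A sheaf of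
sets on the small etale site of X is isomorphic to a pushforward f_*F if and only if its value is a
one-element set on every etale scheme over X whose image misses f(|Y|); an abelian sheaf is
isomorphic to a pushforward if and only if its value is zero on every such scheme. (The published
statement says 'restriction to the complement of f(|Y|) is a final object' and 'support contained in
f(|Y|)'; both conditions are written out on the etale schemes over the complement.) -/
theorem result {S : Scheme.{u}} {Y X : AlgSp.Space S} (f : Y ⟶ X)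
    (hi : AlgSp.RepWith @IsIntegralHom f.hom) (hu : AlgSp.IsUnivInjectiveMor f.hom) :
    (∀ G : AlgSp.EtSh X.obj (Type (u + 1)),
      (AlgSp.pushEt hi.1 (Type (u + 1))).essImage G ↔
        ∀ E : AlgSp.EtOver X.obj,
          Disjoint (Set.range (AlgSp.Points.map E.obj.hom)) (Set.range (AlgSp.Points.map f.hom)) →
            Nonempty (Unique (G.obj.obj (op E)))) ∧
    (∀ G : AlgSp.AbEt X.obj,
      (AlgSp.pushEt hi.1 AddCommGrpCat.{u + 1}).essImage G ↔
        ∀ E : AlgSp.EtOver X.obj,
          Disjoint (Set.range (AlgSp.Points.map E.obj.hom)) (Set.range (AlgSp.Points.map f.hom)) →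
            Subsingleton ↥(G.obj.obj (op E))) := by
  have hu' : RepWith @UniversallyInjective f.hom := (repWith_universallyInjective_iff hi.1).2 fun K _ str =>
    injective_fieldPoints_of_surjective_diagonal Y.property (surjective_diagonal_of_univInjective Y.property hu) K str
  have uT : ∀ (F : AlgSp.EtSh Y.obj (Type (u + 1))) (E : AlgSp.EtOver X.obj),
      Disjoint (Set.range (AlgSp.Points.map E.obj.hom)) (Set.range (AlgSp.Points.map f.hom)) →
        Nonempty (Unique (((AlgSp.pushEt hi.1 (Type (u + 1))).obj F).obj.obj (op E))) := fun F E hd =>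
    PushEtStalk.unique_sections_of_isEmpty F _ (PushEtStalk.isEmpty_bc hi.1 E hd)
  have uA : ∀ (F : AlgSp.AbEt Y.obj) (E : AlgSp.EtOver X.obj),
      Disjoint (Set.range (AlgSp.Points.map E.obj.hom)) (Set.range (AlgSp.Points.map f.hom)) →
        Subsingleton ↥(((AlgSp.pushEt hi.1 AddCommGrpCat.{u + 1}).obj F).obj.obj (op E)) := fun F E hd => by
    obtain ⟨hu⟩ := PushEtStalk.unique_sections_of_isEmpty
      ((sheafCompose (AlgSp.etTop Y.obj) (forget AddCommGrpCat.{u + 1})).obj F) _ (PushEtStalk.isEmpty_bc hi.1 E hd)
    exact ⟨fun a b => (hu.uniq a).trans (hu.uniq b).symm⟩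
  refine ⟨fun G => ⟨fun ⟨F, ⟨e⟩⟩ E hd => ?_, fun h => ?_⟩, fun G => ⟨fun ⟨F, ⟨e⟩⟩ E hd => ?_, fun h => ?_⟩⟩
  · obtain ⟨hu⟩ := uT F E hd
    let i := (((sheafToPresheaf _ _).mapIso e).app (op E)).toEquiv
    exact ⟨@Equiv.unique _ _ hu i.symm⟩
  · refine PushEtStalk.essImage_pushEt Y.property X.property hi hu' G (fun F E hd => ?_) fun E hd => ?_
    · obtain ⟨hu⟩ := uT F E hd
      exact ⟨@Unique.instSubsingleton _ hu, ⟨hu.default⟩⟩
    · obtain ⟨hu⟩ := h E hd
      exact ⟨@Unique.instSubsingleton _ hu, ⟨hu.default⟩⟩
  · have := uA F E hd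
    exact @Equiv.subsingleton _ _ (((sheafToPresheaf _ _).mapIso e).app (op E)).addCommGroupIsoToAddEquiv.toEquiv.symm this
  · exact PushEtStalk.essImage_pushEt Y.property X.property hi hu' G (fun F E hd => ⟨uA F E hd, ⟨0⟩⟩)
      fun E hd => ⟨h E hd, ⟨0⟩⟩

end Groth.Agent.S10334
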