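import Groth.Statements.S10335
import Groth.Agent.AlgSpLib.FibreStalkBC

set_option autoImplicit false
set_option backward.isDefEq.respectTransparency.types false
universe u
open CategoryTheory CategoryTheory.Limits AlgebraicGeometry
open AlgSp

namespace Groth.Agent.S10335

open Groth.Agent.AlgSpLib Groth.Agent.AlgSpLib.FibreStalkBC in
/-- charts of a cartesian square -/
theorem exists_bc_charts {S : Scheme.{u}} {X Y Y' X' : Sp S} (hX : IsAlgSpace X) (hY : IsAlgSpace Y)
    (hY' : IsAlgSpace Y') {f : X ⟶ Y} {g : Y' ⟶ Y} {g' : X' ⟶ X} {f' : X' ⟶ Y'} (sq : IsPullback g' f' f g) :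
    ∃ (U V U' V' : Over S) (a : (yon S).obj U ⟶ X) (b : (yon S).obj V ⟶ Y) (a' : (yon S).obj U' ⟶ X')
      (b' : (yon S).obj V' ⟶ Y') (h : U ⟶ V) (h' : U' ⟶ V') (π : U' ⟶ U) (g₀ : V' ⟶ V),
      RepWith @Etale a ∧ RepWith @Etale b ∧ RepWith @Etale a' ∧ RepWith @Etale b' ∧
        a ≫ f = (yon S).map h ≫ b ∧ a' ≫ f' = (yon S).map h' ≫ b' ∧ a' ≫ g' = (yon S).map π ≫ a ∧
        IsPullback π.left h'.left h.left g₀.left ∧ Function.Surjective (Points.ofPt a') ∧
        ∀ (x : Points X) (y' : Points Y'), Points.map f x = Points.map g y' →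
          ∃ (u : ↥U.left) (v' : ↥V'.left), Points.ofPt a u = x ∧ Points.ofPt b' v' = y' ∧ h.left u = g₀.left v' := by
  obtain ⟨V, b, hbe, hbs⟩ := hY.atlas
  obtain ⟨V', b', g₀, hb'e, hb's, wg⟩ := exists_chart_over hY' hY g b hbe hbs
  obtain ⟨U₀, p₀, hp, hps⟩ := hX.atlas
  have hb := hY.representable_from_yon b
  have sqU := hb.isPullback' (p₀ ≫ f)
  let U := hb.pullback (p₀ ≫ f)
  let su : U ⟶ U₀ := hb.snd (p₀ ≫ f)
  let h : U ⟶ V := hb.fst' (p₀ ≫ f)
  have wf : (yon S).map h ≫ b = ((yon S).map su ≫ p₀) ≫ f := by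
    rw [Category.assoc]
    exact sqU.w
  have hae : RepWith @Etale ((yon S).map su ≫ p₀) := RepWith.comp (RepWith.baseChange sqU hbe) hp
  have has : RepWith @Surjective ((yon S).map su ≫ p₀) := RepWith.comp (RepWith.baseChange sqU hbs) hps
  have hr := hY.representable_from_yon (p₀ ≫ f)
  have sq' := hr.isPullback' (b' ≫ g)
  let U' := hr.pullback (b' ≫ g)
  let u₀ : U' ⟶ U₀ := hr.fst' (b' ≫ g)
  let h' : U' ⟶ V' := hr.snd (b' ≫ g)
  -- the etale chart of `X'`
  have sqM := (IsPullback.of_hasPullback p₀ g').paste_vert sq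
  let l := sqM.lift ((yon S).map u₀) ((yon S).map h' ≫ b') (by rw [Category.assoc]; exact sq'.w)
  have hl₁ : l ≫ pullback.fst p₀ g' = (yon S).map u₀ := sqM.lift_fst _ _ _
  have hl₂ : l ≫ pullback.snd p₀ g' ≫ f' = (yon S).map h' ≫ b' := sqM.lift_snd _ _ _
  have sqA : IsPullback ((yon S).map h') l b' (pullback.snd p₀ g' ≫ f') := by
    refine (IsPullback.of_right ?_ hl₂ sqM).flip
    rw [hl₁]
    exact sq'
  have hle : RepWith @Etale l := RepWith.baseChange sqA hb'e
  have hls : RepWith @Surjective l := RepWith.baseChange sqA hb's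
  have hm : IsPullback (pullback.fst p₀ g') (pullback.snd p₀ g') p₀ g' := IsPullback.of_hasPullback _ _
  let a' := l ≫ pullback.snd p₀ g'
  have ha'e : RepWith @Etale a' := RepWith.comp hle (RepWith.baseChange hm hp)
  have ha's : RepWith @Surjective a' := RepWith.comp hls (RepWith.baseChange hm hps)
  -- the square of schemes
  have wg' : b' ≫ g = (yon S).map g₀ ≫ b := wg
  obtain ⟨π, hπ⟩ := (yon S).map_surjective (sqU.lift ((yon S).map (h' ≫ g₀)) ((yon S).map u₀) (by
    rw [Functor.map_comp, Category.assoc, ← wg', sq'.w]))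
  have hπh : π ≫ h = h' ≫ g₀ := (yon S).map_injective (by
    rw [Functor.map_comp, hπ, sqU.lift_fst])
  have hπs : π ≫ su = u₀ := (yon S).map_injective (by rw [Functor.map_comp, hπ, sqU.lift_snd])
  have sqS : IsPullback π.left h'.left h.left g₀.left := by
    have sqU' : IsPullback ((yon S).map su) ((yon S).map h) (p₀ ≫ f) b := sqU.flip
    refine (IsPullback.of_map (yon S) hπh ?_).map (Over.forget S)
    refine IsPullback.of_right ?_ (by rw [← Functor.map_comp, ← Functor.map_comp, hπh]) sqU'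
    rw [← Functor.map_comp, hπs, ← wg']
    exact sq'
  have hag : a' ≫ g' = (yon S).map π ≫ (yon S).map su ≫ p₀ := by
    show (l ≫ pullback.snd p₀ g') ≫ g' = _
    rw [← Functor.map_comp_assoc, hπs, ← hl₁, Category.assoc, Category.assoc, hm.w]
  refine ⟨U, V, U', V', (yon S).map su ≫ p₀, b, a', b', h, h', π, g₀, hae, hbe, ha'e, hb'e, wf.symm,
    (Category.assoc _ _ _).trans hl₂, hag, sqS, surjective_ofPt a' ha's, fun x y' hxy => ?_⟩
  obtain ⟨u, rfl⟩ := surjective_ofPt _ hps x
  obtain ⟨v', rfl⟩ := surjective_ofPt b' hb's y'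
  rw [Points.map_ofPt, Points.map_ofPt] at hxy
  obtain ⟨r, hr₁, hr₂⟩ := (ofPt_eq_ofPt_iff sq' u v').1 hxy
  refine ⟨π.left r, v', ?_, rfl, ?_⟩
  · rw [ofPt_map, ← Scheme.Hom.comp_apply, ← Over.comp_left, hπs, hr₁]
  · rw [← Scheme.Hom.comp_apply, ← Over.comp_left, hπh, Over.comp_left, Scheme.Hom.comp_apply, hr₂]

open Groth.Agent.AlgSpLib Groth.Agent.AlgSpLib.FibreStalkBC in
/-- the fibre dimension of the local ring at a point does not depend on the chart -/
theorem fdim_chart {S : Scheme.{u}} {X Y : Sp S} (hX : IsAlgSpace X) (hY : IsAlgSpace Y) (f : X ⟶ Y)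
    (hf : LocP @LocallyOfFiniteType f) {U V : Over S} (a : (yon S).obj U ⟶ X) (b : (yon S).obj V ⟶ Y) (h : U ⟶ V)
    (ha : RepWith @Etale a) (hb : RepWith @Etale b) (w : a ≫ f = (yon S).map h ≫ b) (u : ↥U.left) (e : WithBot ℕ∞)
    (he : HasAtMor (fun _ _ h u => ringKrullDim ↥((h.fiber (h u)).presheaf.stalk (h.asFiber u)) = e) f (Points.ofPt a u)) :
    fdim h.left u = e := by
  haveI : LocallyOfFiniteType h.left := hf a b h ha hb w
  have := relDim_eq_add hX hY hf _ _ _ _
    ((hasAtMor_fibreDim_iff hX hY f a b h ha hb w u _).2 rfl) he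
    ((hasAtMor_resTrdeg_iff hX hY f a b h ha hb w u _).2 rfl)
  rw [fibreDimAt_eq_stalk_add_trdeg] at this
  obtain ⟨n, hn⟩ := nat_of_fibreDim (f := h.left) u
  rw [hn] at this
  exact ENat.WithBot.add_le_add_natCast_right_iff.1 this.le |>.antisymm
    (ENat.WithBot.add_le_add_natCast_right_iff.1 this.ge)

/-- In a base change square of algebraic spaces with f : X -> Y locally of finite type and f' : X' -> Y'
its base change along g : Y' -> Y, take a point x' of X' over x. The fibre of f' has a local ring at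
x' whose dimension exceeds the corresponding dimension for the fibre of f at x by exactly the
transcendence degree of x over f(x) minus that of x' over f'(x'), and this excess is never negative;
and for x in X and y' in Y' over the same point of Y some x' over both has excess zero. All four
quantities are read on some chart diagram through the point. -/
theorem result {S : Scheme.{u}} {X Y Y' X' : AlgSp.Space S} (f : X ⟶ Y) (g : Y' ⟶ Y)
    (g' : X' ⟶ X) (f' : X' ⟶ Y') (sq : IsPullback g'.hom f'.hom f.hom g.hom)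
    (hf : AlgSp.LocP @LocallyOfFiniteType f.hom) :
    (∀ (x' : AlgSp.Points X'.obj) (e e' : WithBot ℕ∞) (r r' : Cardinal.{u}),
      AlgSp.HasAtMor (fun _ _ h u => ringKrullDim ↥((h.fiber (h u)).presheaf.stalk (h.asFiber u)) = e) f.hom
          (AlgSp.Points.map g'.hom x') →
      AlgSp.HasAtMor (fun _ _ h u => Dual3.resTrdeg h u = r) f.hom (AlgSp.Points.map g'.hom x') →
      AlgSp.HasAtMor (fun _ _ h u => ringKrullDim ↥((h.fiber (h u)).presheaf.stalk (h.asFiber u)) = e') f'.hom x' →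
      AlgSp.HasAtMor (fun _ _ h u => Dual3.resTrdeg h u = r') f'.hom x' →
        e' + ((Cardinal.toENat r' : ℕ∞) : WithBot ℕ∞) = e + ((Cardinal.toENat r : ℕ∞) : WithBot ℕ∞) ∧ e ≤ e') ∧
    (∀ (x : AlgSp.Points X.obj) (y' : AlgSp.Points Y'.obj) (e : WithBot ℕ∞),
      AlgSp.Points.map f.hom x = AlgSp.Points.map g.hom y' →
      AlgSp.HasAtMor (fun _ _ h u => ringKrullDim ↥((h.fiber (h u)).presheaf.stalk (h.asFiber u)) = e) f.hom x →
        ∃ x' : AlgSp.Points X'.obj, AlgSp.Points.map g'.hom x' = x ∧ AlgSp.Points.map f'.hom x' = y' ∧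
          AlgSp.HasAtMor (fun _ _ h u => ringKrullDim ↥((h.fiber (h u)).presheaf.stalk (h.asFiber u)) = e)
            f'.hom x') := by
  obtain ⟨U, V, U', V', a, b, a', b', h, h', π, g₀, ha, hb, ha', hb', w, w', wπ, sqS, hsurj, hpts⟩ :=
    exists_bc_charts X.property Y.property Y'.property sq
  have hf' : LocP @LocallyOfFiniteType f'.hom :=
    AlgSpLib.locP_of_isPullback AlgSpLib.etLocal_lft X.property Y.property X'.property sq hf
  haveI : LocallyOfFiniteType h.left := hf a b h ha hb w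
  haveI : LocallyOfFiniteType h'.left := hf' a' b' h' ha' hb' w'
  refine ⟨fun x' e e' r r' he hr he' hr' => ?_, fun x y' e hxy he => ?_⟩
  · obtain ⟨z, rfl⟩ := hsurj x'
    rw [Points.map_ofPt, wπ, AlgSpLib.ofPt_map] at he hr
    have e1 := fdim_chart X.property Y.property f.hom hf a b h ha hb w _ e he
    have e2 := fdim_chart X'.property Y'.property f'.hom hf' a' b' h' ha' hb' w' z e' he'
    have e3 := (AlgSpLib.hasAtMor_resTrdeg_iff X.property Y.property f.hom a b h ha hb w _ r).1 hr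
    have e4 := (AlgSpLib.hasAtMor_resTrdeg_iff X'.property Y'.property f'.hom a' b' h' ha' hb' w' z r').1 hr'
    subst e1 e2 e3 e4
    refine ⟨?_, AlgSpLib.FibreStalkBC.fdim_le sqS z⟩
    exact (AlgSpLib.fibreDimAt_eq_stalk_add_trdeg h'.left z).symm.trans
      ((AlgSpLib.fibreDimAt_baseChange sqS z).trans (AlgSpLib.fibreDimAt_eq_stalk_add_trdeg h.left _))
  · obtain ⟨u, v', rfl, rfl, huv⟩ := hpts x y' hxy
    have e1 := fdim_chart X.property Y.property f.hom hf a b h ha hb w u e he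
    obtain ⟨z, hz₁, hz₂, hz₃⟩ := AlgSpLib.FibreStalkBC.exists_fdim_eq sqS u v' huv
    refine ⟨Points.ofPt a' z, ?_, ?_, U', V', a', b', h', z, ha', hb', w', rfl, hz₃.trans e1⟩
    · rw [Points.map_ofPt, wπ, AlgSpLib.ofPt_map, hz₁]
    · rw [Points.map_ofPt, w', AlgSpLib.ofPt_map, hz₂]

end Groth.Agent.S10335
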