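import Groth.Statements.S10336
import Groth.Agent.AlgSpLib.MorMore
import Groth.Agent.AlgSpLib.FpqcBaseImm
-- import your own Groth.Agent.* helpers here

set_option autoImplicit false
universe u
open CategoryTheory CategoryTheory.Limits AlgebraicGeometry
open AlgSp

namespace Groth.Agent.S10336

/-- Integrality, finiteness and finite local freeness of a morphism f : X -> Y of algebraic spaces over
S can be checked on the restrictions of f over the members of a Zariski covering of Y by open
subspaces. -/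
theorem result {S : Scheme.{u}} {X Y : AlgSp.Space S} (f : X ⟶ Y) {ι : Type u}
    (Yi : ι → AlgSp.Space S) (j : ∀ i, Yi i ⟶ Y) (hj : AlgSp.IsZarCover (fun i => (Yi i).obj) (fun i => (j i).hom))
    (Xi : ι → AlgSp.Sp S) (p : ∀ i, Xi i ⟶ X.obj) (q : ∀ i, Xi i ⟶ (Yi i).obj)
    (sq : ∀ i, IsPullback (p i) (q i) f.hom (j i).hom) :
    ((∀ i, AlgSp.IsIntegralMor (q i)) → AlgSp.IsIntegralMor f.hom) ∧
    ((∀ i, AlgSp.IsFiniteMor (q i)) → AlgSp.IsFiniteMor f.hom) ∧
    ((∀ i, AlgSp.IsFinLocFreeMor (q i)) → AlgSp.IsFinLocFreeMor f.hom) := by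
  have hXi : ∀ i, AlgSp.IsAlgSpace (Xi i) := fun i =>
    Groth.Agent.AlgSpLib.isAlgSpace_of_isPullback Y.property.diag X.property (Yi i).property (sq i)
  have hc := Groth.Agent.AlgSpLib.isFpqcCover_of_isFppfCover (g := fun i => (j i).hom) Y.property (fun i => (Yi i).property)
    ⟨fun i => ⟨Groth.Agent.AlgSpLib.locP_of_repWith Groth.Agent.AlgSpLib.etLocal_flat (Yi i).property
        (Groth.Agent.AlgSpLib.RepWith.mono (fun _ _ g (_ : IsOpenImmersion g) => (inferInstance : Flat g)) (hj.1 i)),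
      Groth.Agent.AlgSpLib.locP_of_repWith Groth.Agent.AlgSpLib.etLocal_lfp (Yi i).property
        (Groth.Agent.AlgSpLib.RepWith.mono (fun _ _ g (_ : IsOpenImmersion g) => (inferInstance : LocallyOfFinitePresentation g)) (hj.1 i))⟩,
      hj.2⟩
  exact ⟨(Groth.Agent.AlgSpLib.isLocalOnBase_fpqc_integral _ _ Y.property (fun i => (Yi i).property) hc f.hom X.property Xi q p hXi sq).2,
    (Groth.Agent.AlgSpLib.isLocalOnBase_fpqc_finite _ _ Y.property (fun i => (Yi i).property) hc f.hom X.property Xi q p hXi sq).2,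
    (Groth.Agent.AlgSpLib.isLocalOnBase_fpqc_finLocFree _ _ Y.property (fun i => (Yi i).property) hc f.hom X.property Xi q p hXi sq).2⟩

end Groth.Agent.S10336
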