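import Groth.Statements.S10341
import Groth.Agent.AlgSpLib.PointsTop
import Groth.Agent.AlgSpLib.EtLocalInst
-- import your own Groth.Agent.* helpers here

set_option autoImplicit false
universe u
open CategoryTheory CategoryTheory.Limits AlgebraicGeometry Topology TopologicalSpace
open AlgSp

namespace Groth.Agent.S10341

theorem exists_specializes_of_flat {X Y : Scheme.{u}} (f : X ⟶ Y) [Flat f] {x : X} {y' : Y}
    (h : y' ⤳ f x) : ∃ x', x' ⤳ x ∧ f x' = y' := by
  obtain ⟨q, rfl⟩ : y' ∈ Set.range (Y.fromSpecStalk (f x)) := by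
    rw [Scheme.range_fromSpecStalk]; exact h
  have hfl : (f.stalkMap x).hom.Flat := Flat.stalkMap f x
  let := (f.stalkMap x).hom.toAlgebra
  have : Module.Flat (Y.presheaf.stalk (f x)) (X.presheaf.stalk x) := hfl
  have : IsLocalHom (algebraMap (Y.presheaf.stalk (f x)) (X.presheaf.stalk x)) :=
    inferInstanceAs (IsLocalHom (f.stalkMap x).hom)
  have := Module.FaithfullyFlat.of_flat_of_isLocalHom (A := Y.presheaf.stalk (f x)) (B := X.presheaf.stalk x)
  obtain ⟨p, hp⟩ := PrimeSpectrum.comap_surjective_of_faithfullyFlat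
    (A := Y.presheaf.stalk (f x)) (B := X.presheaf.stalk x) q
  refine ⟨X.fromSpecStalk x p, ?_, ?_⟩
  · have : X.fromSpecStalk x p ∈ Set.range (X.fromSpecStalk x) := ⟨p, rfl⟩
    rw [Scheme.range_fromSpecStalk] at this; exact this
  · show (X.fromSpecStalk x ≫ f) p = _
    have e := Scheme.SpecMap_stalkMap_fromSpecStalk (x := x) f
    rw [← e]
    show Y.fromSpecStalk (f x) (Spec.map (f.stalkMap x) p) = _
    exact congrArg _ hp

set_option backward.isDefEq.respectTransparency.types false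

/-- Let X be an algebraic space over a scheme S and x a point of |X| such that for every affine scheme V
and every representable etale h_V ⟶ X the fibre of |V| → |X| over x is finite. If a : h_U ⟶ X is
representable etale from a scheme U and u, u' are points of U over x with u' specializing to u, then
u = u'. -/
theorem result {S : Scheme.{u}} (X : AlgSp.Space S) (x : AlgSp.Points X.obj)
    (hx : ∀ (V : Over S) (b : (AlgSp.yon S).obj V ⟶ X.obj), IsAffine V.left → AlgSp.RepWith @Etale b →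
      (AlgSp.Points.ofPt b ⁻¹' {x}).Finite)
    {U : Over S} (a : (AlgSp.yon S).obj U ⟶ X.obj) (ha : AlgSp.RepWith @Etale a) (u u' : ↥U.left)
    (hu : AlgSp.Points.ofPt a u = x) (hu' : AlgSp.Points.ofPt a u' = x) (hs : u' ⤳ u) : u = u' := by
  classical
  by_contra hne
  obtain ⟨W, hW, huW, -⟩ := exists_isAffineOpen_mem_and_subset (x := u) (U := ⊤) trivial
  let V : Over S := Over.mk (W.ι ≫ U.hom)
  let j : V ⟶ U := Over.homMk W.ι
  have : IsAffine V.left := hW
  have hj : IsOpenImmersion j.left := inferInstanceAs (IsOpenImmersion W.ι)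
  have hb : AlgSp.RepWith @Etale ((AlgSp.yon S).map j ≫ a) := Groth.Agent.AlgSpLib.RepWith.comp
    ((AlgSp.repWith_yon_map_iff (P := @Etale) j).2 inferInstance) ha
  have hfin := (hx V _ (inferInstance) hb).image j.left
  let F := {w : ↥U.left | w ⤳ u ∧ AlgSp.Points.ofPt a w = x}
  have hF : F.Finite := hfin.subset fun w hw => by
    have hwW : w ∈ W := hw.1.mem_open W.2 huW
    refine ⟨(⟨w, hwW⟩ : W), ?_, rfl⟩
    show AlgSp.Points.ofPt ((AlgSp.yon S).map j ≫ a) _ = x
    erw [Groth.Agent.AlgSpLib.ofPt_map]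
    exact hw.2
  let G : ↥U.left → Finset ↥U.left := fun w => hF.toFinset.filter (· ⤳ w)
  obtain ⟨w₀, hw₀, hmin⟩ := hF.toFinset.exists_min_image (fun w => (G w).card)
    ⟨u', hF.mem_toFinset.2 ⟨hs, hu'⟩⟩
  rw [Set.Finite.mem_toFinset] at hw₀
  have hmin' : ∀ v, v ⤳ w₀ → AlgSp.Points.ofPt a v = x → v = w₀ := fun v hv hvx => by
    by_contra hv'
    refine (hmin v (hF.mem_toFinset.2 ⟨hv.trans hw₀.1, hvx⟩)).not_gt (Finset.card_lt_card ?_)
    rw [Finset.ssubset_iff_of_subset (fun z hz => by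
      rw [Finset.mem_filter] at hz ⊢
      exact ⟨hz.1, hz.2.trans hv⟩)]
    refine ⟨w₀, Finset.mem_filter.2 ⟨hF.mem_toFinset.2 hw₀, specializes_rfl⟩, fun h => hv' ?_⟩
    exact (hv.antisymm (Finset.mem_filter.1 h).2).eq
  have sq := ha.1.isPullback' a
  obtain ⟨r, hr1, hr2⟩ := (Groth.Agent.AlgSpLib.ofPt_eq_ofPt_iff sq u w₀).1 (hu.trans hw₀.2.symm)
  have het1 : Etale (ha.1.fst' a).left := ha.property _ _ _ sq.flip
  have het2 : Etale (ha.1.snd a).left := ha.property_snd a
  obtain ⟨r', hr', hr'1⟩ := exists_specializes_of_flat (ha.1.fst' a).left (hr1.symm ▸ hs)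
  have hr'x : AlgSp.Points.ofPt a ((ha.1.snd a).left r') = x := by
    rw [← hu', ← hr'1]
    exact ((Groth.Agent.AlgSpLib.ofPt_eq_ofPt_iff sq _ _).2 ⟨r', rfl, rfl⟩).symm
  have e : (ha.1.snd a).left r' = w₀ :=
    hmin' _ (hr2 ▸ hr'.map (ha.1.snd a).left.continuous) hr'x
  have := Groth.Agent.AlgSpLib.locallyQuasiFinite_of_etale (ha.1.snd a).left
  have hd := isDiscrete_iff_discreteTopology.1 ((ha.1.snd a).left.isDiscrete_preimage_singleton w₀)
  have hsp : (⟨r', e⟩ : (ha.1.snd a).left ⁻¹' {w₀}) ⤳ ⟨r, hr2⟩ := (subtype_specializes_iff _ _).2 hr'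
  have : r' = r := congrArg Subtype.val (specializes_iff_eq.1 hsp)
  exact hne (by rw [← hr1, ← this, hr'1])

end Groth.Agent.S10341
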