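import Groth.Statements.S10355
import Groth.Agent.AlgSpLib.DenseScheme
import Groth.Agent.AlgSpLib.DenseScheme2
-- import your own Groth.Agent.* helpers here

set_option autoImplicit false
universe u
open CategoryTheory CategoryTheory.Limits AlgebraicGeometry Topology TopologicalSpace
open AlgSp

namespace Groth.Agent.S10355

/-- A decent algebraic space X over a scheme S whose space of points is a single point is a scheme (the
underlying sheaf of X is representable). -/
theorem result {S : Scheme.{u}} (X : AlgSp.Space S)
    (hX : AlgSp.IsDecent X.obj) [Nonempty (AlgSp.Points X.obj)] [Subsingleton (AlgSp.Points X.obj)] :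
    X.obj.obj.IsRepresentable := by
  obtain ⟨G, j, hj, hd, -⟩ := Groth.Agent.AlgSpLib.exists_dense_scheme X.property hX
  obtain ⟨_, y, rfl⟩ : (Set.range (AlgSp.Points.map j)).Nonempty := hd.nonempty
  obtain ⟨g, hg⟩ := (Groth.Agent.AlgSpLib.exists_lift_iff_range_subset hj (𝟙 X.obj)).2 fun x _ =>
    ⟨y, Subsingleton.elim _ _⟩
  exact Groth.Agent.AlgSpLib.isRepresentable_of_iso_yon
    ⟨j, g, by
      have : Mono j := Groth.Agent.AlgSpLib.mono_of_repWith (P := @IsOpenImmersion)
        (fun _ _ f (_ : IsOpenImmersion f) => (inferInstance : Mono f)) hj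
      rw [← cancel_mono j, Category.assoc, hg, Category.comp_id, Category.id_comp], hg⟩

end Groth.Agent.S10355
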