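import Groth.Statements.S10369
import Groth.Agent.AlgSpLib.MorMore2
import Groth.Agent.AlgSpLib.EtLocalInst
-- import your own Groth.Agent.* helpers here

set_option autoImplicit false
universe u
open CategoryTheory CategoryTheory.Limits AlgebraicGeometry Topology TopologicalSpace
open AlgSp

namespace Groth.Agent.S10369

/-- Let S be a scheme, Z' and Z algebraic spaces over S, and Z' ⟶ Z a monomorphism, and suppose there is
a locally finitely presented, flat, surjective morphism Spec k ⟶ Z from the spectrum of a field.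
Then Z' is empty or Z' ⟶ Z is an isomorphism. -/
theorem result {S : Scheme.{u}} {Z' Z : AlgSp.Space S} (f : Z' ⟶ Z)
    [Mono f.hom]
    (hZ : ∃ (k : Type u) (_ : Field k) (str : Spec (CommRingCat.of k) ⟶ S) (p : (AlgSp.yon S).obj (Over.mk str) ⟶ Z.obj),
        AlgSp.LocP @LocallyOfFinitePresentation p ∧ AlgSp.LocP @Flat p ∧ AlgSp.IsSurjectiveMor p) :
    IsEmpty (AlgSp.Points Z'.obj) ∨ IsIso f := by
  refine or_iff_not_imp_left.2 fun hne => ?_
  obtain ⟨x⟩ := not_isEmpty_iff.1 hne
  obtain ⟨k, _, str, p, hp1, hp2, hp3⟩ := hZ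
  have hT := AlgSp.IsAlgSpace.yon_obj (S := S) (Over.mk str)
  have hrep := Groth.Agent.AlgSpLib.representable_diag_iff.1 Z.property.diag p
  have h1 := (Groth.Agent.AlgSpLib.repWith_iff_locP Groth.Agent.AlgSpLib.etLocal_flat hT Z.property hrep).2 hp2
  have h2 := (Groth.Agent.AlgSpLib.repWith_iff_locP Groth.Agent.AlgSpLib.etLocal_lfp hT Z.property hrep).2 hp1
  have h3 := Groth.Agent.AlgSpLib.repWith_surjective_of_surjective_map hrep hp3
  have := Groth.Agent.AlgSpLib.isLocallySurjective_of_repWith h1 h2 h3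
  have hep : Epi p := Sheaf.epi_of_isLocallySurjective p
  have sq := IsPullback.of_hasPullback f.hom p
  obtain ⟨t, ht⟩ := hp3 (AlgSp.Points.map f.hom x)
  obtain ⟨z, -, -⟩ := Groth.Agent.AlgSpLib.exists_point_of_isPullback sq ht.symm
  have hP : AlgSp.IsAlgSpace (pullback f.hom p) :=
    Groth.Agent.AlgSpLib.isAlgSpace_of_isPullback Z.property.diag Z'.property hT sq
  have : IsIso (pullback.snd f.hom p) := Groth.Agent.AlgSpLib.isIso_of_mono_to_field' hP _ z
  have e : p = (inv (pullback.snd f.hom p) ≫ pullback.fst f.hom p) ≫ f.hom := by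
    rw [Category.assoc, sq.w, IsIso.inv_hom_id_assoc]
  have : Epi ((inv (pullback.snd f.hom p) ≫ pullback.fst f.hom p) ≫ f.hom) := e ▸ hep
  have : Epi f.hom := epi_of_epi (inv (pullback.snd f.hom p) ≫ pullback.fst f.hom p) f.hom
  have : IsIso f.hom := isIso_of_mono_of_epi f.hom
  have : IsIso ((ObjectProperty.ι _).map f) := this
  exact isIso_of_fully_faithful (ObjectProperty.ι _) f

end Groth.Agent.S10369
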