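import Groth.Statements.S10370
import Groth.Agent.AlgSpLib.ResidualSpace
-- import your own Groth.Agent.* helpers here

set_option autoImplicit false
universe u
open CategoryTheory CategoryTheory.Limits AlgebraicGeometry Topology TopologicalSpace
open AlgSp

namespace Groth.Agent.S10370

set_option backward.isDefEq.respectTransparency.types false

/-- For an algebraic space X over a scheme S and x ∈ |X| there is a monomorphism Z ⟶ X of algebraic
spaces with image {x} in |X| such that Z admits a locally finitely presented, flat, surjective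
morphism from the spectrum of a field (so Z is a reduced, locally Noetherian, one-point space). -/
theorem result {S : Scheme.{u}} (X : AlgSp.Space S) (x : AlgSp.Points X.obj) :
    ∃ (Z : AlgSp.Space S) (i : Z ⟶ X), Mono i.hom ∧ Set.range (AlgSp.Points.map i.hom) = {x} ∧
      ∃ (k : Type u) (_ : Field k) (str : Spec (CommRingCat.of k) ⟶ S) (p : (AlgSp.yon S).obj (Over.mk str) ⟶ Z.obj),
        AlgSp.LocP @LocallyOfFinitePresentation p ∧ AlgSp.LocP @Flat p ∧ AlgSp.IsSurjectiveMor p := by
  obtain ⟨U, a, hae, has⟩ := X.property.atlas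
  obtain ⟨u, rfl⟩ := AlgSpLib.surjective_ofPt a has x
  obtain ⟨Z, hZ, i, z, him, hze, hzs, hzi⟩ := AlgSpLib.exists_quot_field X.property a hae u
  refine ⟨⟨Z, hZ⟩, ObjectProperty.homMk i, him, ?_, U.left.residueField u, inferInstance, _, z, ?_, ?_, ?_⟩
  · obtain ⟨hne, hsub⟩ := AlgSpLib.subsingleton_points_of_surjective
      (fun w => AlgSpLib.surjective_map_of_repWith hzs w : IsSurjectiveMor z)
    refine Set.eq_singleton_iff_unique_mem.2 ⟨⟨Points.ofPt z (IsLocalRing.closedPoint _), ?_⟩, ?_⟩
    · show Points.map i _ = _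
      rw [Points.map_ofPt, hzi, AlgSpLib.ofPt_map]
      exact congrArg _ (Scheme.fromSpecResidueField_apply _ _)
    · rintro _ ⟨w, rfl⟩
      rw [hsub.elim w (Points.ofPt z (IsLocalRing.closedPoint _))]
      show Points.map i _ = _
      rw [Points.map_ofPt, hzi, AlgSpLib.ofPt_map]
      exact congrArg _ (Scheme.fromSpecResidueField_apply _ _)
  · exact AlgSpLib.locP_of_repWith AlgSpLib.etLocal_lfp (IsAlgSpace.yon_obj _)
      (AlgSpLib.RepWith.mono AlgSpLib.etLocal_lfp.of_etale hze)
  · exact AlgSpLib.locP_of_repWith AlgSpLib.etLocal_flat (IsAlgSpace.yon_obj _)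
      (AlgSpLib.RepWith.mono AlgSpLib.etLocal_flat.of_etale hze)
  · exact fun w => AlgSpLib.surjective_map_of_repWith hzs w

end Groth.Agent.S10370
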