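import Groth.Statements.S10371
import Groth.Agent.AlgSpLib.ResidualSpace
-- import your own Groth.Agent.* helpers here

set_option autoImplicit false
universe u
open CategoryTheory CategoryTheory.Limits AlgebraicGeometry Topology TopologicalSpace
open AlgSp

namespace Groth.Agent.S10371

set_option backward.isDefEq.respectTransparency.types false

/-- Two monomorphisms Z ⟶ X, Z' ⟶ X of algebraic spaces over a scheme S with image {x} in |X|, whose
sources admit a locally finitely presented, flat, surjective morphism from the spectrum of a field,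
are isomorphic over X. -/
theorem result {S : Scheme.{u}} (X : AlgSp.Space S) (x : AlgSp.Points X.obj)
    {Z Z' : AlgSp.Space S} (i : Z ⟶ X) (i' : Z' ⟶ X) [Mono i.hom] [Mono i'.hom]
    (hi : Set.range (AlgSp.Points.map i.hom) = {x}) (hi' : Set.range (AlgSp.Points.map i'.hom) = {x})
    (hZ : ∃ (k : Type u) (_ : Field k) (str : Spec (CommRingCat.of k) ⟶ S) (p : (AlgSp.yon S).obj (Over.mk str) ⟶ Z.obj),
        AlgSp.LocP @LocallyOfFinitePresentation p ∧ AlgSp.LocP @Flat p ∧ AlgSp.IsSurjectiveMor p)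
    (hZ' : ∃ (k : Type u) (_ : Field k) (str : Spec (CommRingCat.of k) ⟶ S) (p : (AlgSp.yon S).obj (Over.mk str) ⟶ Z'.obj),
        AlgSp.LocP @LocallyOfFinitePresentation p ∧ AlgSp.LocP @Flat p ∧ AlgSp.IsSurjectiveMor p) :
    ∃ e : Z' ≅ Z, e.hom ≫ i = i' := by
  obtain ⟨k, _, str, p, hpp, hpf, hps⟩ := hZ
  obtain ⟨k', _, str', p', hpp', hpf', hps'⟩ := hZ'
  obtain ⟨e, he⟩ := AlgSpLib.exists_fac_of_fppf_fieldPt X.property Z'.property Z.property p' hpp' hpf' hps'
    i'.hom i.hom (by rw [hi, hi'])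
  obtain ⟨e', he'⟩ := AlgSpLib.exists_fac_of_fppf_fieldPt X.property Z.property Z'.property p hpp hpf hps
    i.hom i'.hom (by rw [hi, hi'])
  refine ⟨ObjectProperty.isoMk _ ⟨e, e', ?_, ?_⟩, ObjectProperty.hom_ext _ he⟩
  · rw [← cancel_mono i'.hom, Category.assoc, he', he, Category.id_comp]
  · rw [← cancel_mono i.hom, Category.assoc, he, he', Category.id_comp]

end Groth.Agent.S10371
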