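import Groth.Statements.S10373
import Groth.Agent.AlgSpLib.DecentSingleton
-- import your own Groth.Agent.* helpers here

set_option autoImplicit false
universe u
open CategoryTheory CategoryTheory.Limits AlgebraicGeometry Topology TopologicalSpace
open AlgSp

namespace Groth.Agent.S10373

/-- Let S be a scheme, Y and X algebraic spaces over S, and f : Y ⟶ X a morphism with Y reduced and
|f|(|Y|) ⊆ {x}, where x ∈ |X| is represented by a monomorphism Spec k ⟶ X which is representable
quasi-compact (for instance X decent). Then f factors through Spec k ⟶ X. -/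
theorem result {S : Scheme.{u}} {Y X : AlgSp.Space S} (f : Y ⟶ X)
    (x : AlgSp.Points X.obj) (p : AlgSp.FieldPt X.obj) (hp : AlgSp.Points.mk p = x) (hm : Mono p.toHom)
    (hq : AlgSp.RepWith @QuasiCompact p.toHom) (hY : AlgSp.EtaleLocally (fun U => IsReduced U) Y.obj)
    (hf : ∀ y : AlgSp.Points Y.obj, AlgSp.Points.map f.hom y = x) :
    ∃ g : Y.obj ⟶ (AlgSp.yon S).obj p.pt, g ≫ p.toHom = f.hom := by
  have sq := IsPullback.of_hasPullback p.toHom f.hom
  have := Groth.Agent.AlgSpLib.isIso_snd_of_reduced p.toHom hq X.property hY f.hom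
    (fun y => by rw [hf y, Groth.Agent.AlgSpLib.ptOfHom_toHom, hp]) sq
  refine ⟨inv (pullback.snd p.toHom f.hom) ≫ pullback.fst p.toHom f.hom, ?_⟩
  rw [Category.assoc, pullback.condition, IsIso.inv_hom_id_assoc]

end Groth.Agent.S10373
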