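import Groth.Statements.S10376
import Groth.Agent.AlgSpLib.NormCompare
import Groth.Agent.AlgSpLib.MorSep
import Groth.Agent.AlgSpLib.MorQC
import Groth.Agent.AlgSpLib.MorMore
-- import your own Groth.Agent.* helpers here

set_option autoImplicit false
universe u
open CategoryTheory CategoryTheory.Limits AlgebraicGeometry Topology TopologicalSpace
open AlgSp

namespace Groth.Agent.S10376

set_option backward.isDefEq.respectTransparency.types false
set_option backward.isDefEq.respectTransparency false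

/-- Let S be a scheme, Y and V algebraic spaces over S, j : V ⟶ Y a quasi-compact open immersion, and π
: Z ⟶ V an integral morphism. Then one can find an integral morphism ν : Y' ⟶ Y for which Z is
isomorphic over V to the preimage in Y' of V: there is j' : Z ⟶ Y' making the square (j', π, ν, j)
cartesian. -/
theorem result {S : Scheme.{u}} {V Y Z : AlgSp.Space S} (j : V ⟶ Y)
    (hj : AlgSp.RepWith @IsOpenImmersion j.hom) (hjq : AlgSp.IsQuasiCompactMor j.hom) (π : Z ⟶ V)
    (hπ : AlgSp.IsIntegralMor π.hom) :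
    ∃ (Y' : AlgSp.Space S) (ν : Y' ⟶ Y) (j' : Z ⟶ Y'), AlgSp.IsIntegralMor ν.hom ∧
      IsPullback j'.hom π.hom ν.hom j.hom := by
  haveI : Mono j.hom := Groth.Agent.AlgSpLib.mono_of_repWith
    (fun _ _ k (hk : IsOpenImmersion k) => (inferInstance : Mono k)) hj
  have hπ' := (Groth.Agent.AlgSpLib.isIntegralMor_iff_repWith π.hom).1 hπ
  have hπq : AlgSp.IsQuasiCompactMor π.hom := (Groth.Agent.AlgSpLib.repWith_quasiCompact_iff Z.property V.property hπ'.1).1
    (Groth.Agent.AlgSpLib.RepWith.mono (fun _ _ g (hg : IsIntegralHom g) => (inferInstance : QuasiCompact g)) hπ')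
  have hπs : AlgSp.IsSeparatedMor π.hom := (Groth.Agent.AlgSpLib.repWith_diagonal_iff hπ'.1).2
    (Groth.Agent.AlgSpLib.RepWith.mono
      (fun _ _ g (hg : IsIntegralHom g) => (inferInstance : IsClosedImmersion (pullback.diagonal g))) hπ')
  obtain ⟨Y', ν, f', H⟩ := Groth.Agent.AlgSpLib.exists_locNorm (π ≫ j)
    (Groth.Agent.AlgSpLib.isQuasiCompactMor_comp Z.property V.property Y.property hπq hjq)
    (Groth.Agent.AlgSpLib.isQuasiSeparatedMor_comp (Groth.Agent.AlgSpLib.isQuasiSeparatedMor_of_isSeparatedMor hπs)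
      (Groth.Agent.AlgSpLib.isQuasiSeparatedMor_of_mono j.hom))
  refine ⟨Y', ν, f', (Groth.Agent.AlgSpLib.isIntegralMor_iff_repWith ν.hom).2 H.int, ?_⟩
  have sqN := IsPullback.of_hasPullback ν.hom j.hom
  have sqZ : IsPullback (𝟙 Z.obj) π.hom (π ≫ j).hom j.hom :=
    Groth.Agent.AlgSpLib.isPullback_of_yon (by simp) fun T x y e => ⟨x, ⟨Category.comp_id _,
      (cancel_mono j.hom).1 (by rw [Category.assoc]; exact e)⟩, fun m hm => (Category.comp_id m).symm.trans hm.1⟩
  let k : Z.obj ⟶ pullback ν.hom j.hom := pullback.lift f'.hom π.hom H.fac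
  have hj' : ∀ ⦃T : Over S⦄ (a : (AlgSp.yon S).obj T ⟶ V.obj), AlgSp.RepWith @Smooth a → AlgSp.RepWith @Smooth (a ≫ j.hom) :=
    fun T a ha => Groth.Agent.AlgSpLib.RepWith.comp ha (Groth.Agent.AlgSpLib.RepWith.mono
      (fun _ _ g (hg : IsOpenImmersion g) => (inferInstance : Smooth g)) hj)
  have hr := (H.baseChange j.hom hj' sqN sqZ (k := k) (by simp [k]) (pullback.lift_snd _ _ _)).isRelNormalization V.property
  have hP := Groth.Agent.AlgSpLib.isAlgSpace_pullback (X := Y') (Y := V) (Z := Y) ν.hom j.hom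
  -- an integral morphism is its own normalisation
  obtain ⟨g, ⟨g1, g2⟩, -⟩ := hr.2.2 Z.property π.hom (𝟙 Z.obj) hπ (Category.id_comp _)
  have hgk : g ≫ k = 𝟙 _ := (hr.2.2 hP (pullback.snd ν.hom j.hom) k hr.2.1 hr.1).unique
    ⟨by rw [reassoc_of% g1], by rw [Category.assoc, pullback.lift_snd, g2]⟩ ⟨Category.comp_id _, Category.id_comp _⟩
  haveI : IsIso k := ⟨g, g1, hgk⟩
  exact IsPullback.of_iso_pullback ⟨H.fac⟩ (asIso k) (pullback.lift_fst _ _ _) (pullback.lift_snd _ _ _)

end Groth.Agent.S10376
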