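import Groth.Statements.S10377
import Groth.Agent.AlgSpLib.DecentTop
import Groth.Agent.H8ProCons.ConsTopology
-- import your own Groth.Agent.* helpers here

set_option autoImplicit false
universe u
open CategoryTheory CategoryTheory.Limits AlgebraicGeometry Topology TopologicalSpace
open AlgSp

namespace Groth.Agent.S10377

open Groth.Agent.AlgSpLib Set.Notation

set_option backward.isDefEq.respectTransparency.types false

variable {S : Scheme.{u}} {X : AlgSp.Sp S}

/-- preimages of compact opens in affine etale charts are compact -/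
theorem isCompact_preimage_chart [QuasiSeparatedSpace ↥S] (hX : AlgSp.IsAlgSpace X)
    (hqs : AlgSp.IsQuasiSeparatedSp X) {M : Over S} [IsAffine M.left] (π : (AlgSp.yon S).obj M ⟶ X)
    (hπ : AlgSp.RepWith @Etale π) {K : Set (AlgSp.Points X)} (hK : IsOpen K) (hKc : IsCompact K) :
    IsCompact (AlgSp.Points.ofPt π ⁻¹' K) := by
  obtain ⟨U, a, hae, has⟩ := hX.atlas
  have cov : ∀ x ∈ K, ∃ W : U.left.Opens, IsAffineOpen W ∧ x ∈ AlgSp.Points.ofPt a '' (W : Set U.left) ∧
      AlgSp.Points.ofPt a '' (W : Set U.left) ⊆ K := by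
    intro x hx
    obtain ⟨u, rfl⟩ := surjective_ofPt a has x
    obtain ⟨W, hW, huW, hWK⟩ := exists_isAffineOpen_mem_and_subset (x := u)
      (U := ⟨AlgSp.Points.ofPt a ⁻¹' K, hK.preimage (AlgSp.Points.continuous_ofPt a)⟩) hx
    exact ⟨W, hW, ⟨u, huW, rfl⟩, Set.image_subset_iff.2 hWK⟩
  choose W hW hxW hWK using cov
  obtain ⟨σ, hσ⟩ := hKc.elim_finite_subcover (fun x : K => AlgSp.Points.ofPt a '' (W x.1 x.2 : Set U.left))
    (fun x => isOpenMap_ofPt a hae _ (W x.1 x.2).2) fun x hx => Set.mem_iUnion.2 ⟨⟨x, hx⟩, hxW x hx⟩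
  have e : AlgSp.Points.ofPt π ⁻¹' K =
      ⋃ x ∈ σ, AlgSp.Points.ofPt π ⁻¹' (AlgSp.Points.ofPt a '' (W x.1 x.2 : Set U.left)) := by
    refine subset_antisymm (fun u hu => ?_) (Set.iUnion₂_subset fun x _ => Set.preimage_mono (hWK x.1 x.2))
    obtain ⟨x, hx, h⟩ := Set.mem_iUnion₂.1 (hσ hu)
    exact Set.mem_biUnion hx h
  rw [e]
  refine σ.finite_toSet.isCompact_biUnion fun x _ => ?_
  let W' : Over S := Over.mk ((W x.1 x.2).ι ≫ U.hom)
  let g : W' ⟶ U := Over.homMk (W x.1 x.2).ι rfl
  have : IsAffine W'.left := hW x.1 x.2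
  have hqW : AlgSp.IsQuasiCompactMor ((AlgSp.yon S).map g ≫ a) :=
    isQuasiCompactMor_of_qc_qs (AlgSp.IsAlgSpace.yon_obj W') hX _
      ⟨W', 𝟙 _, AlgSp.repWith_id _ W', AlgSp.repWith_id _ W', inferInstance⟩ hqs
  have hr := hX.representable_from_yon π
  have sq := hr.isPullback' ((AlgSp.yon S).map g ≫ a)
  have : CompactSpace ↥(hr.pullback ((AlgSp.yon S).map g ≫ a)).left := by
    have := compactSpace_of_isQuasiCompactMor hqW sq.flip
    exact (AlgSp.Points.schemeHomeo _).symm.compactSpace
  have e' : AlgSp.Points.ofPt π ⁻¹' (AlgSp.Points.ofPt a '' (W x.1 x.2 : Set U.left)) =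
      Set.range (hr.fst' ((AlgSp.yon S).map g ≫ a)).left := by
    ext m
    constructor
    · rintro ⟨w, hw, he⟩
      obtain ⟨r, hr1, -⟩ := (ofPt_eq_ofPt_iff sq m ⟨w, hw⟩).1
        (he.symm.trans (ofPt_map g a ⟨w, hw⟩).symm)
      exact ⟨r, hr1⟩
    · rintro ⟨r, rfl⟩
      refine ⟨(W x.1 x.2).ι ((hr.snd ((AlgSp.yon S).map g ≫ a)).left r),
        Scheme.Opens.range_ι (W x.1 x.2) ▸ ⟨_, rfl⟩, ?_⟩
      refine (ofPt_map g a _).symm.trans ?_
      rw [← ofPt_map, ← sq.w, ofPt_map]
  rw [e']
  exact isCompact_range (Scheme.Hom.continuous _)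

theorem prespectral_qsep [QuasiSeparatedSpace ↥S] (hX : AlgSp.IsAlgSpace X) (hqs : AlgSp.IsQuasiSeparatedSp X) :
    PrespectralSpace (AlgSp.Points X) ∧ QuasiSeparatedSpace (AlgSp.Points X) := by
  obtain ⟨U, a, hae, has⟩ := hX.atlas
  have cov : ∀ (K : Set (AlgSp.Points X)) x, IsOpen K → x ∈ K → ∃ W : U.left.Opens, IsAffineOpen W ∧
      x ∈ AlgSp.Points.ofPt a '' (W : Set U.left) ∧ AlgSp.Points.ofPt a '' (W : Set U.left) ⊆ K := by
    intro K x hK hx
    obtain ⟨u, rfl⟩ := surjective_ofPt a has x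
    obtain ⟨W, hW, huW, hWK⟩ := exists_isAffineOpen_mem_and_subset (x := u)
      (U := ⟨AlgSp.Points.ofPt a ⁻¹' K, hK.preimage (AlgSp.Points.continuous_ofPt a)⟩) hx
    exact ⟨W, hW, ⟨u, huW, rfl⟩, Set.image_subset_iff.2 hWK⟩
  refine ⟨⟨isTopologicalBasis_of_isOpen_of_nhds (fun _ h => h.1) fun x K hx hK => ?_⟩,
    ⟨fun K L hKo hKc hLo hLc => ?_⟩⟩
  · obtain ⟨W, hW, hxW, hWK⟩ := cov K x hK hx
    exact ⟨_, ⟨isOpenMap_ofPt a hae _ W.2, hW.isCompact.image (AlgSp.Points.continuous_ofPt a)⟩, hxW, hWK⟩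
  · choose W hW hxW hWK using fun x : K => cov K x.1 hKo x.2
    obtain ⟨σ, hσ⟩ := hKc.elim_finite_subcover (fun x : K => AlgSp.Points.ofPt a '' (W x : Set U.left))
      (fun x => isOpenMap_ofPt a hae _ (W x).2) fun x hx => Set.mem_iUnion.2 ⟨⟨x, hx⟩, hxW ⟨x, hx⟩⟩
    have e : K ∩ L = ⋃ x ∈ σ, AlgSp.Points.ofPt a '' ((W x : Set U.left) ∩ AlgSp.Points.ofPt a ⁻¹' L) := by
      refine subset_antisymm (fun y hy => ?_) (Set.iUnion₂_subset fun x _ => ?_)
      · obtain ⟨x, hx, u, hu, rfl⟩ := Set.mem_iUnion₂.1 (hσ hy.1)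
        exact Set.mem_iUnion₂.2 ⟨x, hx, u, ⟨hu, hy.2⟩, rfl⟩
      · rintro _ ⟨u, ⟨hu, hu'⟩, rfl⟩
        exact ⟨hWK x ⟨u, hu, rfl⟩, hu'⟩
    rw [e]
    refine σ.finite_toSet.isCompact_biUnion fun x _ => IsCompact.image ?_ (AlgSp.Points.continuous_ofPt a)
    let W' : Over S := Over.mk ((W x).ι ≫ U.hom)
    let g : W' ⟶ U := Over.homMk (W x).ι rfl
    have : IsAffine W'.left := hW x
    have hge : AlgSp.RepWith @Etale ((AlgSp.yon S).map g ≫ a) :=
      RepWith.comp ((AlgSp.repWith_yon_map_iff _ g).2 (show Etale (W x).ι from inferInstance)) hae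
    have h := (isCompact_preimage_chart hX hqs _ hge hLo hLc).image (W x).ι.continuous
    convert h using 1
    ext u
    constructor
    · rintro ⟨hu, hu'⟩
      exact ⟨⟨u, hu⟩, by rw [Set.mem_preimage, ofPt_map]; exact hu', rfl⟩
    · rintro ⟨w, hw, rfl⟩
      rw [Set.mem_preimage, ofPt_map] at hw
      exact ⟨w.2, hw⟩

/-- Let S be a scheme with quasi-separated underlying space, X an algebraic space over S which is
quasi-separated over S, and E ⊆ |X|. Then E is etale locally constructible (its inverse image in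
every scheme etale over X is locally constructible) exactly when E, as a subset of the topological
space |X|, is locally constructible. (The published statement assumes X quasi-separated in the
absolute sense; this row assumes S has quasi-separated underlying space and X quasi-separated over
S, which together imply it.) -/
theorem result {S : Scheme.{u}} [QuasiSeparatedSpace ↥S]
    (X : AlgSp.Space S) (hX : AlgSp.IsQuasiSeparatedSp X.obj) (E : Set (AlgSp.Points X.obj)) :
    (∀ (U : Over S) (a : (AlgSp.yon S).obj U ⟶ X.obj), AlgSp.RepWith @Etale a →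
        IsLocallyConstructible (AlgSp.Points.ofPt a ⁻¹' E)) ↔
      IsLocallyConstructible E := by
  have hqs := hX
  have hXa := X.property
  obtain ⟨hpre, hsep⟩ := prespectral_qsep hXa hqs
  have hd := isDecent_of_qsep hXa hqs
  constructor
  · intro h
    obtain ⟨U, a, hae, has⟩ := hXa.atlas
    have key : ∀ W : U.left.affineOpens, IsLocallyConstructible
        ((AlgSp.Points.ofPt a '' (W.1 : Set U.left)) ↓∩ E) := by
      intro W
      let W' : Over S := Over.mk (W.1.ι ≫ U.hom)
      let g : W' ⟶ U := Over.homMk W.1.ι rfl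
      have : IsAffine W'.left := W.2
      have hge : AlgSp.RepWith @Etale ((AlgSp.yon S).map g ≫ a) :=
        RepWith.comp ((AlgSp.repWith_yon_map_iff _ g).2 (show Etale W.1.ι from inferInstance)) hae
      let K : Set (AlgSp.Points X.obj) := AlgSp.Points.ofPt a '' (W.1 : Set U.left)
      have hKo : IsOpen K := isOpenMap_ofPt a hae _ W.1.2
      have hKc : IsCompact K := W.2.isCompact.image (AlgSp.Points.continuous_ofPt a)
      have : CompactSpace K := isCompact_iff_compactSpace.1 hKc
      have : PrespectralSpace K := Topology.IsOpenEmbedding.prespectralSpace hKo.isOpenEmbedding_subtypeVal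
      have : QuasiSeparatedSpace K := QuasiSeparatedSpace.of_isOpenEmbedding hKo.isOpenEmbedding_subtypeVal
      have := t0Space_points hXa hd
      have := quasiSober_points hXa hd
      have : QuasiSober K := hKo.isOpenEmbedding_subtypeVal.quasiSober
      let π : ↥W'.left → K := fun w => ⟨AlgSp.Points.ofPt ((AlgSp.yon S).map g ≫ a) w, by
        rw [ofPt_map]; exact ⟨_, w.2, rfl⟩⟩
      have hπc : Continuous π := (AlgSp.Points.continuous_ofPt _).subtype_mk _
      have hπs : Function.Surjective π := by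
        rintro ⟨_, u, hu, rfl⟩
        exact ⟨⟨u, hu⟩, Subtype.ext (ofPt_map _ _ _)⟩
      have hπq : ∀ L : Set K, IsOpen L → IsCompact L → IsCompact (π ⁻¹' L) := fun L hLo hLc => by
        have := isCompact_preimage_chart hXa hqs _ hge (hKo.isOpenMap_subtype_val _ hLo)
          (hLc.image continuous_subtype_val)
        convert this using 1
        ext w
        constructor
        · exact fun hw => ⟨_, hw, rfl⟩
        · rintro ⟨z, hz, e⟩
          show π w ∈ L
          rw [← show z = π w from Subtype.ext e]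
          exact hz
      have : QuasiSeparatedSpace ↥W'.left := inferInstance
      have : PrespectralSpace ↥W'.left := inferInstance
      have hE : IsConstructible (π ⁻¹' (K ↓∩ E)) :=
        (h W' ((AlgSp.yon S).map g ≫ a) hge).isConstructible
      have hcc := H8ProCons.continuous_cons hπc hπq
      have := H8ProCons.t2Space_cons (X := K)
      have himg : ∀ A : Set K, IsConstructible (π ⁻¹' A) → IsClosed[constructibleTopology K] A := fun A hA => by
        have hk := @IsCompact.image _ _ (constructibleTopology _) (constructibleTopology K) _ _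
          (H8ProCons.isCompact_cons (H8ProCons.isClosed_cons_of_isConstructible hA)) hcc
        rw [Set.image_preimage_eq _ hπs] at hk
        exact @IsCompact.isClosed K (constructibleTopology K) this _ hk
      have hc : IsConstructible (K ↓∩ E) := H8ProCons.isConstructible_iff_clopen_cons.2
        ⟨(@isClosed_compl_iff K (constructibleTopology K) _).1 (himg _ hE.compl), himg _ hE⟩
      exact hc.isLocallyConstructible
    exact IsLocallyConstructible.of_isOpenCover
      (U := fun W : U.left.affineOpens => ⟨AlgSp.Points.ofPt a '' (W.1 : Set U.left), isOpenMap_ofPt a hae _ W.1.2⟩)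
      (TopologicalSpace.Opens.ext (Set.eq_univ_of_forall fun x => by
        obtain ⟨u, rfl⟩ := surjective_ofPt a has x
        obtain ⟨W, hW, huW, -⟩ := exists_isAffineOpen_mem_and_subset (x := u) (U := ⊤) trivial
        rw [TopologicalSpace.Opens.coe_iSup]
        exact Set.mem_iUnion.2 ⟨⟨W, hW⟩, u, huW, rfl⟩)) key
  · intro h U a hae
    refine IsLocallyConstructible.of_isOpenCover (U := fun W : U.left.affineOpens ↦ W.1)
      (iSup_affineOpens_eq_top U.left) fun W ↦ ?_
    let W' : Over S := Over.mk (W.1.ι ≫ U.hom)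
    let g : W' ⟶ U := Over.homMk W.1.ι rfl
    have : IsAffine W'.left := W.2
    have : QuasiSeparatedSpace ↥W'.left := inferInstance
    have : CompactSpace ↥W'.left := inferInstance
    have hge : AlgSp.RepWith @Etale ((AlgSp.yon S).map g ≫ a) :=
      RepWith.comp ((AlgSp.repWith_yon_map_iff _ g).2 (show Etale W.1.ι from inferInstance)) hae
    let f := AlgSp.Points.ofPt ((AlgSp.yon S).map g ≫ a)
    let K := AlgSp.Points.ofPt a '' (W.1 : Set U.left)
    have hKo : IsOpen K := isOpenMap_ofPt a hae _ W.1.2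
    have hKc : IsCompact K := W.2.isCompact.image (AlgSp.Points.continuous_ofPt a)
    have hfK : ∀ w, f w ∈ K := fun w => by
      show AlgSp.Points.ofPt ((AlgSp.yon S).map g ≫ a) w ∈ K
      rw [ofPt_map]; exact ⟨_, w.2, rfl⟩
    have hc := (h.inter_of_isOpen_isCompact hKo hKc).preimage (f := f) (AlgSp.Points.continuous_ofPt _)
      fun s hs hsr => by
        refine IsCompact.isRetrocompact ?_ (hs.preimage (AlgSp.Points.continuous_ofPt _))
        have := isCompact_preimage_chart hXa hqs _ hge (hs.inter hKo) (hsr hKc hKo)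
        convert this using 1
        exact (Set.ext fun w => ⟨fun hw => ⟨hw, hfK w⟩, And.left⟩)
    have e : f ⁻¹' (E ∩ K) = W.1.ι ⁻¹' (AlgSp.Points.ofPt a ⁻¹' E) := by
      ext w
      rw [Set.mem_preimage, Set.mem_preimage, Set.mem_preimage]
      show f w ∈ E ∧ f w ∈ K ↔ _
      rw [and_iff_left (hfK w), show f w = _ from ofPt_map g a w]
      rfl
    rw [e] at hc
    exact hc.isLocallyConstructible

end Groth.Agent.S10377
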