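import Groth.Statements.S10379
import Groth.Agent.AlgSpLib.ValuativeExistence
-- import your own Groth.Agent.* helpers here

set_option autoImplicit false
universe u
open CategoryTheory CategoryTheory.Limits AlgebraicGeometry Topology TopologicalSpace
open AlgSp

namespace Groth.Agent.S10379

/-- Let S be a scheme, X and Y algebraic spaces over S with X decent, and f : X ⟶ Y a quasi-compact
morphism. If f is universally closed, then the valuative criterion's existence part holds for f.
(The published statement is the equivalence of the two conditions; the converse implication holds
for every quasi-compact f and is not part of this row.) -/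
theorem result {S : Scheme.{u}} {X Y : AlgSp.Space S} (f : X ⟶ Y)
    (hq : AlgSp.IsQuasiCompactMor f.hom) (hX : AlgSp.IsDecent X.obj) (hc : AlgSp.IsUnivClosedMor f.hom) :
    AlgSp.ExistVC f.hom := by
  refine AlgSpLib.existVC_of_univClosed X.property Y.property hc fun sq P fst snd σ sqP _ _ => ?_
  have : IsAffine sq.ptA.left := inferInstanceAs (IsAffine (Spec (.of sq.A)))
  exact AlgSpLib.hasQcPoint_of_isDecent_source Y.property hX sqP _

end Groth.Agent.S10379
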