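import Groth.Statements.S10392
import Groth.Agent.AlgSpLib.FieldIsolated
-- import your own Groth.Agent.* helpers here

set_option autoImplicit false
universe u
open CategoryTheory CategoryTheory.Limits AlgebraicGeometry Topology TopologicalSpace
open AlgSp

namespace Groth.Agent.S10392

/-- Let k be a field and X a nonempty algebraic space over k which is locally of finite type. Then (2)
|X| is discrete if and only if (4) dim X = 0, and these imply (3) dim |X| = 0; if X is decent then
(3) implies (2) and (1) |X| finite implies (4). (The published statement asserts (2) ⇔ (3) ⇔ (4) for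
every such X and does not exclude the empty space; for the quotient of the affine line over a field
of characteristic zero by the translation action of the integers, |X| is an infinite set with the
indiscrete topology, so (3) holds while (2) and (4) fail, and for the empty space (2) holds while
dim X = ⊥. The equivalence with local quasi-finiteness of X → Spec k is not part of this row.) -/
theorem result (k : Type u) [Field k] (X : AlgSp.Space (Spec (CommRingCat.of k)))
    (p : X.obj ⟶ (AlgSp.yon (Spec (CommRingCat.of k))).obj (Over.mk (𝟙 _))) (hp : AlgSp.LocP @LocallyOfFiniteType p) [Nonempty (AlgSp.Points X.obj)] :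
    (DiscreteTopology (AlgSp.Points X.obj) ↔ AlgSp.dim X.obj = 0) ∧
      (DiscreteTopology (AlgSp.Points X.obj) → topologicalKrullDim (AlgSp.Points X.obj) = 0) ∧
      (AlgSp.IsDecent X.obj → topologicalKrullDim (AlgSp.Points X.obj) = 0 → DiscreteTopology (AlgSp.Points X.obj)) ∧
      (AlgSp.IsDecent X.obj → Finite (AlgSp.Points X.obj) → AlgSp.dim X.obj = 0) := by
  open Groth.Agent.AlgSpLib in
  obtain ⟨h1, -, h3⟩ := space_conditions_field X.property p hp
  have hge : 0 ≤ AlgSp.dim X.obj := by
    obtain ⟨W, a, hae, has⟩ := X.property.atlas
    obtain ⟨w, -⟩ := surjective_ofPt a has (Classical.arbitrary (AlgSp.Points X.obj))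
    have : Nonempty ↥W.left := ⟨w⟩
    rw [dim_eq_atlas X.property a hae has, DimLib.topologicalKrullDim_eq_krullDim]
    exact Order.krullDim_nonneg
  have h0 : AlgSp.dim X.obj ≤ 0 ↔ AlgSp.dim X.obj = 0 := ⟨fun h => le_antisymm h hge, fun h => h.le⟩
  refine ⟨h1.trans h0, fun h => ?_, fun hd h => ?_, fun hd hfin => h0.1 (h3 hd hfin)⟩
  · refine le_antisymm (topologicalKrullDim_zero_of_discreteTopology _) ?_
    have : Nonempty (TopologicalSpace.IrreducibleCloseds (AlgSp.Points X.obj)) :=
      ⟨⟨closure {Classical.arbitrary _}, isIrreducible_singleton.closure, isClosed_closure⟩⟩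
    exact Order.krullDim_nonneg
  · rw [topologicalKrullDim_points X.property hd] at h
    exact (h1.trans h0).2 h

end Groth.Agent.S10392
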