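import Groth.Statements.S10397
import Groth.Agent.AlgSpLib.DecentComponents
-- import your own Groth.Agent.* helpers here

set_option autoImplicit false
universe u
open CategoryTheory CategoryTheory.Limits AlgebraicGeometry Topology TopologicalSpace
open AlgSp

namespace Groth.Agent.S10397

/-- (1) ⇔ (3): an algebraic space X over a scheme S is decent with |X| having finitely many irreducible
components if and only if X has a dense open subscheme X' with finitely many irreducible components
whose generic points x'_j give quasi-compact morphisms Spec κ(x'_j) ⟶ X. -/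
theorem result {S : Scheme.{u}} (X : AlgSp.Space S) :
    (AlgSp.IsDecent X.obj ∧ (irreducibleComponents (AlgSp.Points X.obj)).Finite) ↔
      ∃ (X' : Over S) (j : (AlgSp.yon S).obj X' ⟶ X.obj), AlgSp.RepWith @IsOpenImmersion j ∧
        Dense (Set.range (AlgSp.Points.ofPt j)) ∧ (irreducibleComponents ↥X'.left).Finite ∧
        ∀ x' : ↥X'.left, (∃ T ∈ irreducibleComponents ↥X'.left, IsGenericPoint x' T) →
          AlgSp.RepWith @QuasiCompact (AlgSp.FieldPt.ofPt j x').toHom := by
  constructor
  · rintro ⟨hd, hc⟩
    obtain ⟨G, j, hj, hdense, hfin, hqc⟩ :=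
      Groth.Agent.AlgSpLib.exists_dense_subscheme_of_decent X.property hd hc
    exact ⟨G, j, hj, hdense, hfin, fun x _ => hqc x⟩
  · rintro ⟨X', j, hj, hdense, hfin, hqc⟩
    let G := {x' : ↥X'.left | ∃ T ∈ irreducibleComponents ↥X'.left, IsGenericPoint x' T}
    have hG : G.Finite := by
      refine (hfin.biUnion (t := fun T => {η : ↥X'.left | IsGenericPoint η T})
        fun T _ => Set.Subsingleton.finite fun a ha b hb => ha.eq hb).subset fun η hη => ?_
      obtain ⟨T, hT, h⟩ := hη
      exact Set.mem_iUnion₂.2 ⟨T, hT, h⟩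
    refine Groth.Agent.AlgSpLib.isDecent_of_finite_dense_qc X.property hdense (hG.image (AlgSp.Points.ofPt j)) ?_ ?_
    · rintro _ ⟨w, rfl⟩
      obtain ⟨η, hη⟩ := QuasiSober.sober (isIrreducible_irreducibleComponent (x := w))
        isClosed_irreducibleComponent
      exact ⟨_, ⟨η, ⟨_, irreducibleComponent_mem_irreducibleComponents w, hη⟩, rfl⟩,
        (hη.specializes mem_irreducibleComponent).map (AlgSp.Points.continuous_ofPt j)⟩
    · rintro _ ⟨η, hη, rfl⟩
      exact ⟨AlgSp.FieldPt.ofPt j η, rfl, hqc η hη⟩

end Groth.Agent.S10397
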