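import Groth.Statements.S10406
import Groth.Agent.AlgSpLib.DecentDim
-- import your own Groth.Agent.* helpers here

set_option autoImplicit false
universe u
open CategoryTheory CategoryTheory.Limits AlgebraicGeometry Topology TopologicalSpace
open AlgSp

namespace Groth.Agent.S10406

open Groth.Agent.AlgSpLib in
theorem lift_specializes {S : Scheme.{u}} {X Y : AlgSp.Space S} (f : Y ⟶ X) (hf : AlgSp.IsFiniteMor f.hom)
    (hX : AlgSp.IsDecent X.obj) {a b : AlgSp.Points X.obj} (hab : a ⤳ b) {a' : AlgSp.Points Y.obj}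
    (ha : AlgSp.Points.map f.hom a' = a) : ∃ b', a' ⤳ b' ∧ AlgSp.Points.map f.hom b' = b := by
  obtain ⟨U₀, p, hpe, hps⟩ := X.property.atlas
  obtain ⟨u, rfl⟩ := surjective_ofPt p hps b
  obtain ⟨ua, hua, e⟩ := exists_specializes_chart (FiniteFibres.of_mk (hX a)).1 p hpe u hab
  obtain ⟨O, hO, huO, -⟩ := exists_isAffineOpen_mem_and_subset (x := u) (U := ⊤) trivial
  let Z : Over S := Over.mk (O.ι ≫ U₀.hom)
  let j : Z ⟶ U₀ := Over.homMk O.ι rfl
  obtain ⟨W, i, fst, sq, -, hi⟩ := hf (Z := Z) (hO : IsAffine Z.left) ((yon S).map j ≫ p)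
  let za : ↥Z.left := (⟨ua, hua.mem_open O.isOpen huO⟩ : O.toScheme)
  let zb : ↥Z.left := (⟨u, huO⟩ : O.toScheme)
  have key : Points.map f.hom a' = Points.map ((yon S).map j ≫ p)
      (Points.ofScheme Z za) := by
    erw [← Points.ofPt_eq_map_ofScheme, ofPt_map, ha]
    exact e.symm
  obtain ⟨z, hz1, hz2⟩ := exists_point_of_isPullback sq key
  obtain ⟨w, rfl⟩ := (Points.schemeEquiv W).surjective z
  have hiw : i.left w = za :=
    (Points.schemeEquiv Z).injective ((map_yon_map_ofScheme i w).symm.trans hz2)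
  have hsp : i.left w ⤳ zb := by
    rw [hiw]
    exact O.ι.isEmbedding.isInducing.specializes_iff.1 hua
  obtain ⟨w', hw', hw''⟩ := i.left.isClosedMap.specializingMap hsp
  refine ⟨Points.ofPt fst w', ?_, ?_⟩
  · rw [← hz1]
    exact (show Points.ofPt fst w ⤳ Points.ofPt fst w' from Specializes.map hw' (Points.continuous_ofPt fst))
      |> fun h => (Points.ofPt_eq_map_ofScheme fst w) ▸ h
  · rw [Points.map_ofPt, sq.w, ofPt_map, hw'', ofPt_map]
    rfl

/-- Let S be a scheme, Y and X decent, locally Noetherian algebraic spaces over S, and f : Y ⟶ X a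
surjective finite morphism, and let δ : |X| → ℤ be a function. Suppose δ ∘ |f| is a dimension
function on |Y| (it decreases strictly along nontrivial specializations and by exactly one along
immediate specializations). Then δ is a dimension function on |X|. -/
theorem result {S : Scheme.{u}} {X Y : AlgSp.Space S} (f : Y ⟶ X)
    (hf : AlgSp.IsFiniteMor f.hom) (hs : AlgSp.IsSurjectiveMor f.hom) (hX : AlgSp.IsDecent X.obj)
    (hY : AlgSp.IsDecent Y.obj) (hXN : AlgSp.IsLocNoethSp X.obj) (hYN : AlgSp.IsLocNoethSp Y.obj)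
    (δ : AlgSp.Points X.obj → ℤ)
    (hδ : (∀ a b : AlgSp.Points Y.obj, a ⤳ b → a ≠ b → (δ ∘ AlgSp.Points.map f.hom) b < (δ ∘ AlgSp.Points.map f.hom) a ∧ ((∀ c : AlgSp.Points Y.obj, a ⤳ c → c ⤳ b → c = a ∨ c = b) → (δ ∘ AlgSp.Points.map f.hom) a = (δ ∘ AlgSp.Points.map f.hom) b + 1))) :
    (∀ a b : AlgSp.Points X.obj, a ⤳ b → a ≠ b → δ b < δ a ∧ ((∀ c : AlgSp.Points X.obj, a ⤳ c → c ⤳ b → c = a ∨ c = b) → δ a = δ b + 1)) := by
  intro a b hab hne
  obtain ⟨a', ha⟩ := hs a
  obtain ⟨b', hb', hb⟩ := lift_specializes f hf hX hab ha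
  have hne' : a' ≠ b' := fun e => hne (by rw [← ha, ← hb, e])
  obtain ⟨h1, h2⟩ := hδ a' b' hb' hne'
  simp only [Function.comp_apply, ha, hb] at h1 h2
  refine ⟨h1, fun himm => h2 fun c hac hcb => ?_⟩
  have h3 : a ⤳ AlgSp.Points.map f.hom c := ha ▸ hac.map (Points.continuous_map f.hom)
  have h4 : AlgSp.Points.map f.hom c ⤳ b := hb ▸ hcb.map (Points.continuous_map f.hom)
  rcases himm _ h3 h4 with e | e
  · refine Or.inl (by_contra fun hn => ?_)
    have := (hδ a' c hac (Ne.symm hn)).1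
    simp only [Function.comp_apply, ha, e] at this
    exact lt_irrefl _ this
  · refine Or.inr (by_contra fun hn => ?_)
    have := (hδ c b' hcb hn).1
    simp only [Function.comp_apply, hb, e] at this
    exact lt_irrefl _ this

end Groth.Agent.S10406
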