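import Groth.Statements.S10409
import Groth.Agent.AlgSpLib.DecentPoints
-- import your own Groth.Agent.* helpers here

set_option autoImplicit false
universe u
open CategoryTheory CategoryTheory.Limits AlgebraicGeometry Topology TopologicalSpace
open AlgSp

namespace Groth.Agent.S10409

/-- (3) ⇔ (4): for an algebraic space X over a scheme S and x ∈ |X|, there is a monomorphism Spec k ⟶ X
representing x if and only if there is a morphism Spec k' ⟶ X representing x whose
self-fibre-product has etale and quasi-compact projections to Spec k'. -/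
theorem result {S : Scheme.{u}} (X : AlgSp.Space S)
    (x : AlgSp.Points X.obj) :
    (∃ p : AlgSp.FieldPt X.obj, AlgSp.Points.mk p = x ∧ Mono p.toHom) ↔
      ∃ q : AlgSp.FieldPt X.obj, AlgSp.Points.mk q = x ∧
        ∀ (P : AlgSp.Sp S) (fst snd : P ⟶ (AlgSp.yon S).obj q.pt), IsPullback fst snd q.toHom q.toHom →
          AlgSp.RepWith @Etale fst ∧ AlgSp.RepWith @QuasiCompact fst := by
  have hi : ∀ {F G : AlgSp.Sp S} (f : F ⟶ G) [IsIso f],
      AlgSp.RepWith @Etale f ∧ AlgSp.RepWith @QuasiCompact f := fun f _ =>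
    ⟨Groth.Agent.AlgSpLib.repWith_of_isIso @Etale f, Groth.Agent.AlgSpLib.repWith_of_isIso @QuasiCompact f⟩
  constructor
  · rintro ⟨p, hp, hm⟩
    exact ⟨p, hp, fun P fst snd sq => by
      have := sq.isIso_fst_of_mono
      exact hi fst⟩
  · rintro ⟨q, hq, h⟩
    obtain ⟨K, _, s, r, hm, hr⟩ := Groth.Agent.AlgSpLib.exists_mono_point_core X.property q.toHom
      fun a b sq => by
        obtain ⟨he, hc⟩ := h _ _ _ sq.flip
        have hbe : Etale b.left := (AlgSp.repWith_yon_map_iff @Etale b).1 he
        have : QuasiCompact b.left := (AlgSp.repWith_yon_map_iff @QuasiCompact b).1 hc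
        have : IsAffine q.pt.left := inferInstanceAs (IsAffine (Spec (CommRingCat.of q.K)))
        have : IsLocallyArtinian q.pt.left := inferInstanceAs (IsLocallyArtinian (Spec (CommRingCat.of q.K)))
        have := Groth.Agent.AlgSpLib.locallyQuasiFinite_of_etale b.left
        exact ⟨hbe, IsFinite.of_locallyQuasiFinite _⟩
    refine ⟨⟨K, s, (AlgSp.J S).uliftYonedaEquiv r⟩, hr.trans ((Groth.Agent.AlgSpLib.ptOfHom_toHom q).trans hq), ?_⟩
    rw [show (AlgSp.FieldPt.toHom ⟨K, s, (AlgSp.J S).uliftYonedaEquiv r⟩ : _ ⟶ X.obj) = r from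
      Equiv.symm_apply_apply _ _]
    exact hm

end Groth.Agent.S10409
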