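import Groth.Statements.S1041
import Groth.Agent.Dual22Lib.PerfSupp

set_option autoImplicit false
universe u
open CategoryTheory CategoryTheory.Limits AlgebraicGeometry
attribute [local instance] HasDerivedCategory.standard
open Perf

namespace Groth.Agent.S1041

open CategoryTheory CategoryTheory.Limits AlgebraicGeometry Groth.Agent.Dual22Lib


/-- Let X be an affine scheme, T ⊆ X a closed subset with quasi-compact complement, U a quasi-compact
open and F a perfect object of D(O_U) whose cohomology sheaves are supported on T ∩ U. Then F ⊕ F[1]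
extends to X as a perfect complex whose cohomology sheaves are supported on T (through a
representing complex restricted termwise; the binary direct sum in D(O_U) is assumed to exist, which
it does). -/
theorem result (X : Scheme.{u}) [IsAffine X] (T : Set X) (hT : IsClosed T) (hTc : IsCompact Tᶜ)
    (U : X.Opens) (hU : IsCompact (U : Set X))
    (F : DCoh.D (U : Scheme.{u})) (hF : DCoh.IsPerfect F)
    (hFT : ∀ i : ℤ, CohB1.support (DCoh.HD F i) ⊆ {x : ↥(U : Scheme.{u}) | U.ι.base x ∈ T}) [HasBinaryBiproduct F (F⟦(1 : ℤ)⟧)] :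
    ∃ G : CochainComplex X.Modules ℤ, DCoh.IsPerfect (DCoh.toD X G) ∧ (∀ i : ℤ, CohB1.support (DCoh.HD (DCoh.toD X G) i) ⊆ T) ∧
      Nonempty (DerivedCategory.Q.obj ((DCoh.restrictCx U).obj G) ≅ F ⊞ F⟦(1 : ℤ)⟧) := by
  let O : X.Opens := ⟨Tᶜ, hT.isOpen_compl⟩
  haveI : CompactSpace (U : Scheme.{u}) := isCompact_iff_compactSpace.1 hU
  have hk : AdjGeom.killed (U.ι ⁻¹ᵁ O).ι F := (AdjGeom.killed_iff _ F).2 fun i x hx => by
    rw [Scheme.Opens.opensRange_ι] at hx
    by_contra hs
    exact hx (hFT i hs)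
  obtain ⟨R, hR, hRk, ⟨e⟩⟩ := PerfSupp.exists_extend_supp O hTc U.ι hF hk
  let eR := DerivedCategory.Q.objObjPreimageIso R
  refine ⟨DerivedCategory.Q.objPreimage R, Groth.Agent.DCat.PCTriangle.perfect_iso eR.symm hR, fun i x hx => ?_, ⟨?_⟩⟩
  · by_contra hxT
    exact hx ((AdjGeom.killed_iff O.ι _).1 (PerfSupp.killed_iso eR.symm hRk) i x (by simpa [O] using hxT))
  · exact ((Scheme.Modules.restrictFunctor U.ι).mapDerivedCategoryFactors.app _).symm ≪≫
      (Groth.Agent.DCat.PerfLocal.rd U.ι).mapIso eR ≪≫ e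

end Groth.Agent.S1041
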