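import Groth.Statements.S10411
import Groth.Agent.AlgSpLib.FiniteFlatChart
-- import your own Groth.Agent.* helpers here

set_option autoImplicit false
universe u
open CategoryTheory CategoryTheory.Limits AlgebraicGeometry Topology TopologicalSpace
open AlgSp

namespace Groth.Agent.S10411

/-- Let S be a scheme, X and Y algebraic spaces over S, X ⟶ Y a surjective finite locally free morphism,
and y ∈ |Y|. Then y lies in the schematic locus of Y (some open subspace of Y containing y is a
scheme) if and only if there is an affine open subscheme U ⊆ X containing the preimage of y. -/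
theorem result {S : Scheme.{u}} {X Y : AlgSp.Space S} (f : X ⟶ Y)
    (hf : AlgSp.IsFinLocFreeMor f.hom) (hs : AlgSp.RepWith @Surjective f.hom) (y : AlgSp.Points Y.obj) :
    (∃ (Y' : AlgSp.Space S) (j : Y' ⟶ Y), AlgSp.RepWith @IsOpenImmersion j.hom ∧ Y'.obj.obj.IsRepresentable ∧
        y ∈ Set.range (AlgSp.Points.map j.hom)) ↔
      ∃ (U : Over S) (a : (AlgSp.yon S).obj U ⟶ X.obj), IsAffine U.left ∧ AlgSp.RepWith @IsOpenImmersion a ∧
        AlgSp.Points.map f.hom ⁻¹' {y} ⊆ Set.range (AlgSp.Points.ofPt a) := by
---
  exact Groth.Agent.AlgSpLib.mem_schematicLocus_iff f hf hs y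

end Groth.Agent.S10411
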