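import Groth.Statements.S10412
import Groth.Agent.AlgSpLib.FpqcBaseAffine
import Groth.Agent.AlgSpLib.MorQC
import Groth.Agent.AlgSpLib.MorTop
import Groth.Agent.AlgSpLib.PointsTop
import Groth.Agent.AlgSpLib.RepLocal
-- import your own Groth.Agent.* helpers here

set_option autoImplicit false
universe u
open CategoryTheory CategoryTheory.Limits AlgebraicGeometry Topology TopologicalSpace
open AlgSp

namespace Groth.Agent.S10412

open Groth.Agent.AlgSpLib in
theorem key {S : Scheme.{u}} {X : AlgSp.Space S} {U : Over S} (φ : (AlgSp.yon S).obj U ⟶ X.obj)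
    (hφ : AlgSp.RepWith @Etale φ)
    (hq : ∀ (R : Over S) (s t : R ⟶ U), IsPullback ((AlgSp.yon S).map t) ((AlgSp.yon S).map s) φ φ → QuasiCompact s.left) :
    ∃ (Y : AlgSp.Space S) (j : Y ⟶ X) (a : (AlgSp.yon S).obj U ⟶ Y.obj), a ≫ j.hom = φ ∧
      AlgSp.RepWith @IsOpenImmersion j.hom ∧
      AlgSp.RepWith @Etale a ∧ AlgSp.RepWith @Surjective a ∧ AlgSp.RepWith @QuasiCompact a := by
  have hW : IsOpen (Set.range (AlgSp.Points.ofPt φ)) := by
    rw [← Set.image_univ]; exact isOpenMap_ofPt φ hφ _ isOpen_univ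
  let W := Set.range (AlgSp.Points.ofPt φ)
  have hι := repWith_openSubspaceι X.obj hW
  haveI : Mono (openSubspaceι X.obj W) :=
    mono_of_repWith (fun _ _ g (_ : IsOpenImmersion g) => (inferInstance : Mono g)) hι
  have hY := isAlgSpace_openSubspace X.property hW
  obtain ⟨a, ha⟩ := (exists_lift_openSubspace_iff W φ).2 fun t => ⟨t, rfl⟩
  have hae : AlgSp.RepWith @Etale a := repWith_of_comp_mono a (openSubspaceι X.obj W) (by rw [ha]; exact hφ)
  have hsurj : Function.Surjective (AlgSp.Points.map a) := fun y => by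
    obtain ⟨t, ht⟩ := (range_openSubspaceι X.obj W).le ⟨y, rfl⟩
    refine ⟨AlgSp.Points.ofScheme U t, injective_map_of_mono (openSubspaceι X.obj W) ?_⟩
    rw [← AlgSp.Points.map_comp, ha, ← AlgSp.Points.ofPt_eq_map_ofScheme]
    exact ht
  obtain ⟨R, s, fst, sq, -⟩ := exists_yon_of_repWith hae a
  obtain ⟨t, rfl⟩ := (AlgSp.yon S).map_surjective fst
  have sqX : IsPullback ((AlgSp.yon S).map t) ((AlgSp.yon S).map s) φ φ := by
    refine IsPullback.of_isLimit' ⟨by rw [← ha, reassoc_of% sq.w]⟩ (PullbackCone.IsLimit.mk _ (fun c => sq.lift c.fst c.snd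
      ((cancel_mono (openSubspaceι X.obj W)).1 (by simp only [Category.assoc, ha]; exact c.condition)))
      (fun c => sq.lift_fst _ _ _) (fun c => sq.lift_snd _ _ _) fun c m h1 h2 => sq.hom_ext
        (h1.trans (sq.lift_fst _ _ _).symm) (h2.trans (sq.lift_snd _ _ _).symm))
  have hqs : AlgSp.IsQuasiCompactMor ((AlgSp.yon S).map s) :=
    (repWith_quasiCompact_iff (AlgSp.IsAlgSpace.yon_obj R) (AlgSp.IsAlgSpace.yon_obj U)
      (AlgSp.representable_yon_map s)).1 ((AlgSp.repWith_yon_map_iff _ s).2 (hq R s t sqX))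
  refine ⟨⟨_, hY⟩, ObjectProperty.homMk (openSubspaceι X.obj W), a, ha, hι, hae,
    repWith_surjective_of_surjective_map hae.1 hsurj, ?_⟩
  refine (repWith_quasiCompact_iff (AlgSp.IsAlgSpace.yon_obj U) hY hae.1).2 ?_
  exact isQuasiCompactMor_of_univOpen_cover (AlgSp.IsAlgSpace.yon_obj U) hY (AlgSp.IsAlgSpace.yon_obj U) sq
    (isUnivOpenMor_of_isEtaleMor (AlgSp.IsAlgSpace.yon_obj U) hY fun _ ψ hψ => RepWith.comp hψ hae) hsurj hqs

/-- For an algebraic space X over a scheme S the following are equivalent: (1) X has a Zariski covering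
by open subspaces X_i, each X_i admitting a surjective, etale and quasi-compact morphism U_i ⟶ X_i
with U_i a scheme; (2) there are etale morphisms U_i ⟶ X from schemes, jointly surjective, such that
for each i both projection morphisms from U_i ×_X U_i to U_i are quasi-compact. -/
theorem result {S : Scheme.{u}} (X : AlgSp.Space S) :
    (∃ (ι : Type u) (Xi : ι → AlgSp.Space S) (j : ∀ i, Xi i ⟶ X) (U : ι → Over S)
        (a : ∀ i, (AlgSp.yon S).obj (U i) ⟶ (Xi i).obj),
        AlgSp.IsZarCover (fun i => (Xi i).obj) (fun i => (j i).hom) ∧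
          ∀ i, AlgSp.RepWith @Etale (a i) ∧ AlgSp.RepWith @Surjective (a i) ∧ AlgSp.RepWith @QuasiCompact (a i)) ↔
      ∃ (ι : Type u) (U : ι → Over S) (φ : ∀ i, (AlgSp.yon S).obj (U i) ⟶ X.obj),
        (∀ i, AlgSp.RepWith @Etale (φ i)) ∧
          (∀ x : AlgSp.Points X.obj, ∃ (i : ι) (v : ↥(U i).left), AlgSp.Points.ofPt (φ i) v = x) ∧
          ∀ (i : ι) (R : Over S) (s t : R ⟶ U i), IsPullback ((AlgSp.yon S).map t) ((AlgSp.yon S).map s) (φ i) (φ i) →
            QuasiCompact s.left ∧ QuasiCompact t.left := by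
  constructor
  · rintro ⟨ι, Xi, j, U, a, hcov, ha⟩
    have hje : ∀ i, AlgSp.RepWith @Etale (j i).hom := fun i =>
      AlgSpLib.RepWith.mono (fun _ _ g (_ : IsOpenImmersion g) => (inferInstance : Etale g)) (hcov.1 i)
    refine ⟨ι, U, fun i => a i ≫ (j i).hom, fun i => AlgSpLib.RepWith.comp (ha i).1 (hje i), fun x => ?_,
      fun i R s t sq => ?_⟩
    · obtain ⟨i, y, hy⟩ := hcov.2 x
      obtain ⟨v, rfl⟩ := AlgSpLib.surjective_ofPt (a i) (ha i).2.1 y
      exact ⟨i, v, by rw [← hy, AlgSp.Points.map_ofPt]⟩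
    · haveI : Mono (j i).hom :=
        AlgSpLib.mono_of_repWith (fun _ _ g (_ : IsOpenImmersion g) => (inferInstance : Mono g)) (hcov.1 i)
      have sq' : IsPullback ((AlgSp.yon S).map t) ((AlgSp.yon S).map s) (a i) (a i) := by
        have hw : (AlgSp.yon S).map t ≫ a i = (AlgSp.yon S).map s ≫ a i :=
          (cancel_mono (j i).hom).1 (by simpa only [Category.assoc] using sq.w)
        refine IsPullback.of_isLimit' ⟨hw⟩ (PullbackCone.IsLimit.mk _ (fun c => sq.lift c.fst c.snd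
          (by rw [reassoc_of% c.condition])) (fun c => sq.lift_fst _ _ _) (fun c => sq.lift_snd _ _ _)
          fun c m h1 h2 => sq.hom_ext (h1.trans (sq.lift_fst _ _ _).symm) (h2.trans (sq.lift_snd _ _ _).symm))
      exact ⟨(AlgSp.repWith_yon_map_iff _ s).1 (AlgSpLib.RepWith.baseChange sq' (ha i).2.2),
        (AlgSp.repWith_yon_map_iff _ t).1 (AlgSpLib.RepWith.baseChange sq'.flip (ha i).2.2)⟩
  · rintro ⟨ι, U, φ, hφ, hcov, hq⟩
    choose Y j a haj hj hae has haq using fun i => key (φ i) (hφ i) fun R s t sq => (hq i R s t sq).1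
    refine ⟨ι, Y, j, U, a, ⟨hj, fun x => ?_⟩, fun i => ⟨hae i, has i, haq i⟩⟩
    obtain ⟨i, v, hv⟩ := hcov x
    refine ⟨i, AlgSp.Points.ofPt (a i) v, ?_⟩
    rw [AlgSp.Points.map_ofPt, haj, hv]

end Groth.Agent.S10412
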