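import Groth.Statements.S10414
import Groth.Agent.AlgSpLib.ResidualSpace
import Groth.Prelude.Def_AlgSpDec
-- import your own Groth.Agent.* helpers here

set_option autoImplicit false
universe u
open CategoryTheory CategoryTheory.Limits AlgebraicGeometry Topology TopologicalSpace
open AlgSp

namespace Groth.Agent.S10414

set_option backward.isDefEq.respectTransparency.types false

/-- Let S be a scheme, X an algebraic space over S, x ∈ |X|, and Z_x ⟶ X the residual space of x (a
monomorphism with image {x} from a space which admits a locally finitely presented, flat, surjective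
morphism whose source is the spectrum of a field). Then Z_x is isomorphic to Spec k' for some field
k' if and only if the point x is represented by some monomorphism Spec k ⟶ X. (The decent case, in
which the right side holds at every point, is not part of this row.) -/
theorem result {S : Scheme.{u}} (X : AlgSp.Space S) (x : AlgSp.Points X.obj)
    {Z : AlgSp.Space S} (i : Z ⟶ X) [Mono i.hom] (hi : Set.range (AlgSp.Points.map i.hom) = {x})
    (hZ : ∃ (k : Type u) (_ : Field k) (str : Spec (CommRingCat.of k) ⟶ S) (p : (AlgSp.yon S).obj (Over.mk str) ⟶ Z.obj),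
        AlgSp.LocP @LocallyOfFinitePresentation p ∧ AlgSp.LocP @Flat p ∧ AlgSp.IsSurjectiveMor p) :
    (∃ (k : Type u) (_ : Field k) (str : Spec (CommRingCat.of k) ⟶ S), Nonempty (Z.obj ≅ (AlgSp.yon S).obj (Over.mk str))) ↔
      ∃ p : AlgSp.FieldPt X.obj, AlgSp.Points.mk p = x ∧ Mono p.toHom := by
  constructor
  · rintro ⟨k, _, str, ⟨e⟩⟩
    refine ⟨⟨k, str, (GrothendieckTopology.uliftYonedaEquiv.{u + 1} (J S)) (e.inv ≫ i.hom)⟩, ?_, ?_⟩
    · show AlgSpLib.ptOfHom (e.inv ≫ i.hom) = x
      rw [← AlgSpLib.map_ptOfHom]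
      have : Points.map i.hom (AlgSpLib.ptOfHom e.inv) ∈ Set.range (Points.map i.hom) := ⟨_, rfl⟩
      rwa [hi, Set.mem_singleton_iff] at this
    · show Mono ((GrothendieckTopology.uliftYonedaEquiv.{u + 1} (J S)).symm ((GrothendieckTopology.uliftYonedaEquiv.{u + 1} (J S)) (e.inv ≫ i.hom)))
      rw [Equiv.symm_apply_apply]
      infer_instance
  · rintro ⟨q, hq, hqm⟩
    obtain ⟨k, _, str, p, hpp, hpf, hps⟩ := hZ
    let T : Over S := Over.mk q.str
    have hT := IsAlgSpace.yon_obj (S := S) T
    have hqx : AlgSpLib.ptOfHom q.toHom = x := by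
      rw [← hq]
      show Points.mk ⟨q.K, q.str, (GrothendieckTopology.uliftYonedaEquiv.{u + 1} (J S)) ((GrothendieckTopology.uliftYonedaEquiv.{u + 1} (J S)).symm q.val)⟩ = _
      rw [Equiv.apply_symm_apply]
      rfl
    have hr : Set.range (Points.map q.toHom) = {x} := by
      refine Set.eq_singleton_iff_unique_mem.2
        ⟨⟨AlgSpLib.ptOfHom (𝟙 _), by rw [AlgSpLib.map_ptOfHom, Category.id_comp, hqx]⟩, ?_⟩
      rintro _ ⟨w, rfl⟩
      have hsub : Subsingleton ↥T.left := inferInstanceAs (Subsingleton ↥(Spec (CommRingCat.of q.K)))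
      have : Subsingleton (Points ((yon S).obj T)) := (Points.schemeHomeo T).symm.toEquiv.subsingleton
      rw [Subsingleton.elim w (AlgSpLib.ptOfHom (𝟙 _)), AlgSpLib.map_ptOfHom, Category.id_comp, hqx]
    obtain ⟨e, he⟩ := AlgSpLib.exists_fac_of_fppf_fieldPt X.property Z.property hT p hpp hpf hps
      i.hom q.toHom (by rw [hi, hr])
    obtain ⟨e', he'⟩ := AlgSpLib.exists_fac_of_fppf_fieldPt X.property hT Z.property (𝟙 ((yon S).obj T))
      (AlgSpLib.locP_id AlgSpLib.etLocal_lfp hT) (AlgSpLib.locP_id AlgSpLib.etLocal_flat hT)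
      (fun w => ⟨w, by rw [Points.map_id]⟩) q.toHom i.hom (by rw [hi, hr])
    refine ⟨q.K, inferInstance, q.str, ⟨⟨e, e', ?_, ?_⟩⟩⟩
    · rw [← cancel_mono i.hom, Category.assoc, he', he, Category.id_comp]
    · rw [← cancel_mono q.toHom, Category.assoc, he, he', Category.id_comp]

end Groth.Agent.S10414
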