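import Groth.Statements.S10416
import Groth.Agent.AlgSpLib.ResidualClosed
-- import your own Groth.Agent.* helpers here

set_option autoImplicit false
universe u
open CategoryTheory CategoryTheory.Limits AlgebraicGeometry Topology TopologicalSpace
open AlgSp

namespace Groth.Agent.S10416

set_option backward.isDefEq.respectTransparency.types false

/-- Let S be a scheme, X a locally Noetherian algebraic space over S, x ∈ |X|, and i : Z_x ⟶ X the
residual space at x. Then x is closed in |X| if and only if i is a closed immersion. -/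
theorem result {S : Scheme.{u}} {X Z : AlgSp.Space S}
    (hX : AlgSp.IsLocNoethSp X.obj) (x : AlgSp.Points X.obj) (i : Z ⟶ X) [Mono i.hom]
    (hi : Set.range (AlgSp.Points.map i.hom) = {x}) (hZ : ∃ (k : Type u) (_ : Field k) (str : Spec (CommRingCat.of k) ⟶ S) (p : (AlgSp.yon S).obj (Over.mk str) ⟶ Z.obj),
        AlgSp.LocP @LocallyOfFinitePresentation p ∧ AlgSp.LocP @Flat p ∧ AlgSp.IsSurjectiveMor p) :
    IsClosed ({x} : Set (AlgSp.Points X.obj)) ↔ AlgSp.RepWith @IsClosedImmersion i.hom := by
  obtain ⟨k, _, str, p, -, hpf, hps⟩ := hZ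
  refine ⟨fun hx => AlgSpLib.closedImmersion_of_residual X.property Z.property hX i.hom hx hi p hpf hps,
    fun h => ?_⟩
  obtain ⟨U, a, hae, has⟩ := X.property.atlas
  have hq : IsQuotientMap (Points.ofPt a) := (AlgSpLib.isOpenMap_ofPt a hae).isQuotientMap
    (Points.continuous_ofPt a) (AlgSpLib.surjective_ofPt a has)
  rw [← hq.isClosed_preimage]
  have hc : IsClosedImmersion (h.1.snd a).left := h.property_snd a
  have e : Points.ofPt a ⁻¹' {x} = Set.range (h.1.snd a).left := by
    rw [← hi]
    ext t
    constructor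
    · rintro ⟨z, hz⟩
      rw [Points.ofPt_eq_map_ofScheme] at hz
      obtain ⟨w, -, hw⟩ := AlgSpLib.exists_point_of_isPullback (h.1.isPullback a) hz
      rw [← Points.ofScheme_toScheme _ w, ← Points.ofPt_eq_map_ofScheme,
        ← Category.comp_id ((yon S).map (h.1.snd a))] at hw
      erw [AlgSpLib.ofPt_map] at hw
      exact ⟨_, (Points.toScheme_ofScheme U _).symm.trans
        ((congrArg (Points.toScheme U) hw).trans (Points.toScheme_ofScheme U t))⟩
    · rintro ⟨w, rfl⟩
      refine ⟨Points.ofPt (h.1.fst a) w, ?_⟩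
      rw [Points.map_ofPt, h.1.w, AlgSpLib.ofPt_map]
  rw [e]
  exact (h.1.snd a).left.isClosedEmbedding.isClosed_range

end Groth.Agent.S10416
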