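import Groth.Statements.S10418
import Groth.Agent.AlgSpLib.Filtration
-- import your own Groth.Agent.* helpers here

set_option autoImplicit false
universe u
open CategoryTheory CategoryTheory.Limits AlgebraicGeometry Topology TopologicalSpace
open AlgSp

namespace Groth.Agent.S10418

/-- Let S be a scheme and X an algebraic space over S which is quasi-compact. There are open subspaces X
= U_1 ⊇ U_2 ⊇ U_3 ⊇ ⋯ such that (1) with T_p = U_p ∖ U_{p+1} (reduced induced subspace structure)
there is a separated scheme V_p with a surjective etale f_p : V_p ⟶ U_p for which the map f_p⁻¹(T_p)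
⟶ T_p is an isomorphism, and (2) every x ∈ |X| admitting a representative given by a quasi-compact
morphism from the spectrum of a field lies in T_p for some p. -/
theorem result {S : Scheme.{u}} (X : AlgSp.Space S)
    (hX : AlgSp.IsQuasiCompactSp X.obj) :
    ∃ (Uo : ℕ → AlgSp.Space S) (j : ∀ p, Uo p ⟶ X) (k : ∀ p, Uo (p + 1) ⟶ Uo p)
      (T : ℕ → AlgSp.Space S) (i : ∀ p, T p ⟶ Uo p),
      (∀ p, AlgSp.RepWith @IsOpenImmersion (j p).hom) ∧ (∀ p, k p ≫ j p = j (p + 1)) ∧ IsIso (j 1) ∧
      (∀ p, AlgSp.IsRedInduced (Set.range (AlgSp.Points.map (k p).hom))ᶜ (i p).hom) ∧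
      (∀ p, 1 ≤ p → ∃ (V : Over S) (f : (AlgSp.yon S).obj V ⟶ (Uo p).obj), V.left.IsSeparated ∧
        AlgSp.RepWith @Etale f ∧ AlgSp.RepWith @Surjective f ∧
        ∀ (P : AlgSp.Sp S) (fst : P ⟶ (T p).obj) (snd : P ⟶ (AlgSp.yon S).obj V),
          IsPullback fst snd (i p).hom f → IsIso fst) ∧
      (∀ x : AlgSp.Points X.obj, (∃ q : AlgSp.FieldPt X.obj, AlgSp.Points.mk q = x ∧ AlgSp.RepWith @QuasiCompact q.toHom) →
        ∃ p, 1 ≤ p ∧ x ∈ Set.range (AlgSp.Points.map ((i p) ≫ (j p)).hom)) := by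
  have := Groth.Agent.AlgSpLib.compactSpace_points_of_isQuasiCompactSp hX
  obtain ⟨U, a, hU, ha, has⟩ := Groth.Agent.AlgSpLib.exists_affine_chart X.property
  obtain ⟨Uo, j, k, T, i, h1, h2, h3, -, h4, h5, h6⟩ :=
    Groth.Agent.AlgSpLib.exists_filtration X a ha has
  refine ⟨Uo, j, k, T, i, h1, h2, h3, h4, fun p hp => ?_, ?_⟩
  · obtain ⟨V, f, hV, -, hf, hfs, hiso⟩ := h5 p hp
    exact ⟨V, f, hV, hf, hfs, hiso⟩
  · rintro x ⟨q, rfl, hq⟩
    classical
    have hex := Groth.Agent.AlgSpLib.exists_last_manyLifts a ha q.toHom hq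
    rw [Groth.Agent.AlgSpLib.ptOfHom_toHom] at hex
    refine ⟨Nat.find hex, ?_, ?_⟩
    · by_contra h0
      have h := Nat.find_spec hex
      rw [show Nat.find hex = 0 by omega, Groth.Agent.AlgSpLib.manyLifts_one a has] at h
      exact h (Set.mem_univ _)
    · refine h6 _ ?_ _ ?_ (Nat.find_spec hex)
      · by_contra h0
        have h := Nat.find_spec hex
        rw [show Nat.find hex = 0 by omega, Groth.Agent.AlgSpLib.manyLifts_one a has] at h
        exact h (Set.mem_univ _)
      · rcases hn : Nat.find hex with _ | m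
        · have h := Nat.find_spec hex
          rw [hn, Groth.Agent.AlgSpLib.manyLifts_one a has] at h
          exact absurd (Set.mem_univ _) h
        · exact not_not.1 (Nat.find_min hex (show m < Nat.find hex by omega))

end Groth.Agent.S10418
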