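import Groth.Statements.S1042
import Groth.Agent.DQCoh.RpushDegree17
-- import your own Groth.Agent.* helpers here

set_option autoImplicit false
set_option backward.isDefEq.respectTransparency false
set_option linter.style.haveILetI false
universe u
open CategoryTheory CategoryTheory.Limits AlgebraicGeometry
attribute [local instance] HasDerivedCategory.standard
open Perf

namespace Groth.Agent.S1042

/-- Let f : X ⟶ S be proper and of finite presentation, F an O_X-module of finite presentation flat over
S, and i ∈ ℤ, r ∈ ℕ. There is an open subset U ⊆ S such that for every morphism g : T ⟶ S (with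
Rf_{T,*} assumed to exist on the unbounded derived category), g factors through U — i.e. the image
of g lies in U — exactly when Rf_{T,*}(F_T), as an object of D(O_T), is a rank-r finite locally free
O_T-module sitting in degree i; here f_T : X ×_S T ⟶ T and F_T is the pullback of F to X ×_S T. -/
theorem result {X S : Scheme.{u}} (f : X ⟶ S) [IsProper f] [LocallyOfFinitePresentation f]
    (F : X.Modules) (hF : CohB1.IsFP F) (hflat : FlatMod.IsFlatOver f F) (i : ℤ) (r : ℕ) :
    ∃ U : S.Opens, ∀ (T : Scheme.{u}) (g : T ⟶ S) [DCoh.HasRpush (pullback.snd f g)],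
      Set.range g.base ⊆ (U : Set S) ↔
        ∃ V : T.Modules, FlatMod.IsFinLocFreeOfRank r V ∧
          Nonempty ((DCoh.Rpush (pullback.snd f g)).obj (DCoh.inD (pullback f g) ((Scheme.Modules.pullback (pullback.fst f g)).obj F)) ≅ (DCoh.inD T V)⟦-i⟧) := by
  haveI : Coh.IsQCoh F := Groth.Agent.ConsPropLib.isQCoh_of_isFP hF
  refine ⟨⟨{s | Groth.Agent.DQCoh.RpushDegree17.Good f F i r s},
    Groth.Agent.DQCoh.RpushDegree17.isOpen_good hF hflat i r⟩, fun T g _ => ?_⟩
  haveI : IsProper (pullback.snd f g) := MorphismProperty.pullback_snd _ _ inferInstance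
  haveI : LocallyOfFinitePresentation (pullback.snd f g) := MorphismProperty.pullback_snd _ _ inferInstance
  have hfp := Groth.Agent.Desc19b.ModStFib.isFP_pullback (pullback.fst f g) F hF
  have hfl : FlatMod.IsFlatOver (pullback.snd f g) ((Scheme.Modules.pullback (pullback.fst f g)).obj F) := fun x =>
    Groth.Agent.Desc19b.isFlatOverAt_baseChange f (pullback.snd f g) (pullback.fst f g) g
      (IsPullback.of_hasPullback f g) F x (hflat _)
  have hrk := fun (p : ℕ) (t : T) =>
    Groth.Agent.Coherent.CohBC.fiberRank_pullback (IsPullback.of_hasPullback f g) F p t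
  refine Iff.trans ?_ (Groth.Agent.DQCoh.RpushDegree17.good_iff hfp hfl i r)
  constructor
  · intro h t
    obtain ⟨h1, h2⟩ := h ⟨t, rfl⟩
    exact ⟨h1, fun p => (hrk p t).trans (h2 p)⟩
  · rintro h _ ⟨t, rfl⟩
    exact ⟨(h t).1, fun p => (hrk p t).symm.trans ((h t).2 p)⟩

end Groth.Agent.S1042

#print axioms Groth.Agent.S1042.result
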