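import Groth.Statements.S10422
import Mathlib.LinearAlgebra.Matrix.Rank
import Groth.Prelude.Def_AlgSp2
-- import your own Groth.Agent.* helpers here

set_option autoImplicit false
universe u
open Topology TopologicalSpace TensorProduct
open AlgSp

namespace Groth.Agent.S10422

open TensorProduct in
theorem common_field (k : Type u) [Field k] (K : ℕ → Type u) [∀ n, Field (K n)] [∀ n, Algebra k (K n)] :
    ∀ N : ℕ, ∃ (Ω : Type u) (_ : Field Ω) (_ : Algebra k Ω), ∀ n < N, Nonempty (K n →ₐ[k] Ω)
  | 0 => ⟨k, inferInstance, inferInstance, fun n hn => absurd hn (Nat.not_lt_zero n)⟩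
  | N + 1 => by
    obtain ⟨Ω, _, _, h⟩ := common_field k K N
    obtain ⟨m, hm⟩ := Ideal.exists_maximal (Ω ⊗[k] K N)
    refine ⟨(Ω ⊗[k] K N) ⧸ m, Ideal.Quotient.field m, inferInstance, fun n hn => ?_⟩
    rcases Nat.lt_succ_iff_lt_or_eq.1 hn with hn | rfl
    · obtain ⟨φ⟩ := h n hn
      exact ⟨(Ideal.Quotient.mkₐ k m).comp (Algebra.TensorProduct.includeLeft.comp φ)⟩
    · exact ⟨(Ideal.Quotient.mkₐ k m).comp Algebra.TensorProduct.includeRight⟩

open TensorProduct in
theorem core (A : Type u) [CommRing A] (k : Type u) [Field k] (K : ℕ → Type u) [∀ n, Field (K n)]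
    [∀ n, Algebra A (K n)] [∀ n, Algebra k (K n)]
    (φ : ∀ n m, A ⊗[ℤ] A →+* K n ⊗[k] K m)
    (hφ : ∀ n m (a b : A), φ n m (a ⊗ₜ b) = algebraMap A (K n) a ⊗ₜ algebraMap A (K m) b) :
    (closure (⋃ (n : ℕ) (m : ℕ) (_ : n ≠ m), Set.range (PrimeSpectrum.comap (φ n m))) ∩
      Set.range (PrimeSpectrum.comap (Algebra.TensorProduct.lmul' (S := A) ℤ).toRingHom)).Nonempty := by
  by_contra hempty
  rw [Set.not_nonempty_iff_eq_empty] at hempty
  let μ := (Algebra.TensorProduct.lmul' (S := A) ℤ).toRingHom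
  have hμ : Function.Surjective μ := fun a => ⟨a ⊗ₜ 1, by simp [μ]⟩
  rw [← PrimeSpectrum.zeroLocus_vanishingIdeal_eq_closure, _root_.range_comap_of_surjective _ μ hμ,
    ← PrimeSpectrum.zeroLocus_sup, PrimeSpectrum.zeroLocus_empty_iff_eq_top,
    Ideal.eq_top_iff_one] at hempty
  obtain ⟨t, ht, e, he, hte⟩ := Submodule.mem_sup.1 hempty
  have h1 : μ t = 1 := by
    have := congrArg μ hte
    rwa [map_add, map_one, RingHom.mem_ker.1 he, add_zero] at this
  obtain ⟨T, rfl⟩ := TensorProduct.exists_finset t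
  obtain ⟨Ω, _, _, hΩ⟩ := common_field k K (T.card + 1)
  let σ : ∀ i : Fin (T.card + 1), K i →ₐ[k] Ω := fun i => (hΩ i i.2).some
  let M : Matrix (Fin (T.card + 1)) T Ω := fun i x => σ i (algebraMap A (K i) x.1.1)
  let P : Matrix T (Fin (T.card + 1)) Ω := fun x j => σ j (algebraMap A (K j) x.1.2)
  have hMP : M * P = 1 := by
    ext i j
    rw [Matrix.mul_apply]
    simp only [M, P]
    by_cases hij : i = j
    · subst hij
      rw [Matrix.one_apply_eq]
      have := congrArg ((σ i).toRingHom.comp (algebraMap A (K i))) h1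
      simp only [map_sum, μ, AlgHom.toRingHom_eq_coe, RingHom.coe_coe, Algebra.TensorProduct.lmul'_apply_tmul,
        map_mul, map_one, RingHom.coe_comp, Function.comp_apply] at this
      rw [← this, ← Finset.sum_coe_sort T]
    · rw [Matrix.one_apply_ne hij]
      let ψ : K i ⊗[k] K j →ₐ[k] Ω := Algebra.TensorProduct.lift (σ i) (σ j) fun _ _ => Commute.all _ _
      let q : PrimeSpectrum (K i ⊗[k] K j) := ⟨RingHom.ker ψ.toRingHom, RingHom.ker_isPrime _⟩
      have hmem := (PrimeSpectrum.mem_vanishingIdeal _ _).1 ht (PrimeSpectrum.comap (φ i j) q)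
        (Set.mem_iUnion₂.2 ⟨i, j, Set.mem_iUnion.2 ⟨fun e => hij (Fin.ext e), q, rfl⟩⟩)
      have h0 : ψ (φ i j (∑ x ∈ T, x.1 ⊗ₜ[ℤ] x.2)) = 0 := hmem
      rw [map_sum, map_sum] at h0
      rw [← Finset.sum_coe_sort T] at h0
      simpa only [hφ, ψ, Algebra.TensorProduct.lift_tmul] using h0
  have := (Matrix.rank_mul_le_left M P).trans (Matrix.rank_le_card_width M)
  rw [hMP, Matrix.rank_one, Fintype.card_fin, Fintype.card_coe] at this
  omega

/-- Let A be a ring, k a field, (p_n) a sequence of primes of A which are pairwise distinct, and k →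
κ(p_n) field embeddings. Then the closure in Spec(A ⊗ A) of the image of ∐_{n ≠ m} Spec(κ(p_n) ⊗_k
κ(p_m)) meets the diagonal. Here κ(p_n) is any A-algebra K_n which is a field whose structure map
has kernel p_n and whose elements are quotients of images of elements of A. -/
theorem result (A : Type u) [CommRing A] (k : Type u) [Field k]
    (p : ℕ → PrimeSpectrum A) (hp : Function.Injective p) (K : ℕ → Type u) [∀ n, Field (K n)]
    [∀ n, Algebra A (K n)] [∀ n, Algebra k (K n)]
    (hker : ∀ n, RingHom.ker (algebraMap A (K n)) = (p n).asIdeal)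
    (hfrac : ∀ n (x : K n), ∃ a b : A, algebraMap A (K n) b ≠ 0 ∧ x * algebraMap A (K n) b = algebraMap A (K n) a) :
    (closure (⋃ (n : ℕ) (m : ℕ) (_ : n ≠ m),
        Set.range (PrimeSpectrum.comap
          (Algebra.TensorProduct.lift
            ((Algebra.TensorProduct.includeLeft (R := k) (S := ℤ) (A := K n) (B := K m)).toRingHom.toIntAlgHom.comp
              (Algebra.ofId A (K n)).toRingHom.toIntAlgHom)
            ((Algebra.TensorProduct.includeRight (R := k) (A := K n) (B := K m)).toRingHom.toIntAlgHom.comp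
              (Algebra.ofId A (K m)).toRingHom.toIntAlgHom)
            (fun _ _ => Commute.all _ _)).toRingHom)) ∩
      Set.range (PrimeSpectrum.comap (Algebra.TensorProduct.lmul' (S := A) ℤ).toRingHom)).Nonempty := by
  exact core A k K (fun n m => (Algebra.TensorProduct.lift _ _ _).toRingHom) fun n m a b => by
    refine (Algebra.TensorProduct.lift_tmul _ _ _ _ _).trans ?_
    change algebraMap A (K n) a ⊗ₜ[k] (1 : K m) * ((1 : K n) ⊗ₜ[k] algebraMap A (K m) b) = _
    rw [Algebra.TensorProduct.tmul_mul_tmul, mul_one, one_mul]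

end Groth.Agent.S10422
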