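import Groth.Statements.S10433
import Groth.Agent.AlgSpLib.DegreeStrat
import Groth.Agent.S10192
-- import your own Groth.Agent.* helpers here

set_option autoImplicit false
universe u
open CategoryTheory CategoryTheory.Limits AlgebraicGeometry Topology TopologicalSpace
open AlgSp

namespace Groth.Agent.S10433

open Groth.Agent.AlgSpLib

set_option backward.isDefEq.respectTransparency.types false

/-- Let S be a scheme, X an algebraic space over S, W a scheme over S, and W ⟶ X a morphism which is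
flat, separated, locally of finite presentation and locally quasi-finite, with universally bounded
fibres. Then X has closed subspaces, each reduced, ∅ = Z_{-1} ⊆ Z_0 ⊆ ⋯ ⊆ Z_n with |Z_n| = |X| such
that, putting X_r = Z_r ∖ Z_{r-1}, for every morphism g : T ⟶ X the second projection W ×_X T ⟶ T is
a finite locally free morphism of degree r exactly when g(|T|) ⊆ |X_r|. (Indexing: Zs 0 = Z_{-1}, Zs
(r+1) = Z_r.) -/
theorem result {S : Scheme.{u}} (X : AlgSp.Space S) {W : Over S}
    (w : (AlgSp.yon S).obj W ⟶ X.obj) (hfl : AlgSp.RepWith @Flat w) (hfp : AlgSp.RepWith @LocallyOfFinitePresentation w)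
    (hsep : AlgSp.RepWith @IsSeparated w) (hqf : AlgSp.RepWith @LocallyQuasiFinite w) (hb : W4dec.HasUnivBddFibres w) :
    ∃ (n : ℕ) (Zs : ℕ → AlgSp.Space S) (i : ∀ r, Zs r ⟶ X),
      (∀ r, AlgSp.IsRedInduced (Set.range (AlgSp.Points.map (i r).hom)) (i r).hom) ∧
      IsEmpty (AlgSp.Points (Zs 0).obj) ∧ Set.range (AlgSp.Points.map (i (n + 1)).hom) = Set.univ ∧
      (∀ r, Set.range (AlgSp.Points.map (i r).hom) ⊆ Set.range (AlgSp.Points.map (i (r + 1)).hom)) ∧
      ∀ (r : ℕ) (T : AlgSp.Space S) (g : T ⟶ X) (P : AlgSp.Sp S) (fst : P ⟶ (AlgSp.yon S).obj W) (snd : P ⟶ T.obj),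
        IsPullback fst snd w g.hom →
          (AlgSp.IsFinLocFreeOfDegMor r snd ↔
            Set.range (AlgSp.Points.map g.hom) ⊆
              Set.range (AlgSp.Points.map (i (r + 1)).hom) \ Set.range (AlgSp.Points.map (i r).hom)) := by
  have D : DegData w := ⟨X.property, hfl, hfp, hsep, hqf, hb⟩
  obtain ⟨n, δ, hle, hcl, hchar⟩ := exists_degree_function D
  let Tset : ℕ → Set (AlgSp.Points X.obj) := fun r => {x | δ x < r}
  have hT : ∀ r, IsClosed (Tset r) := fun r => by
    rcases r with _ | r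
    · simp [Tset]
    · convert hcl r using 1
      ext x
      exact Nat.lt_succ_iff
  choose Zs i hi using fun r => Groth.Agent.S10192.result X (Tset r) (hT r)
  have hrange : ∀ r, Set.range (AlgSp.Points.map (i r).hom) = Tset r := fun r => (hi r).2.1
  refine ⟨n, Zs, i, fun r => by rw [hrange]; exact hi r, ?_, ?_, fun r => ?_, ?_⟩
  · refine ⟨fun z => ?_⟩
    have : AlgSp.Points.map (i 0).hom z ∈ Tset 0 := (hrange 0) ▸ ⟨z, rfl⟩
    exact Nat.not_lt_zero _ this
  · rw [hrange]
    exact Set.eq_univ_of_forall fun x => Nat.lt_succ_of_le (hle x)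
  · rw [hrange, hrange]
    exact fun x (hx : δ x < r) => Nat.lt_succ_of_lt hx
  intro r T g P fst snd sq
  rw [hrange, hrange]
  constructor
  · rintro h _ ⟨z, rfl⟩
    obtain ⟨U, a, hae, has⟩ := T.property.atlas
    obtain ⟨t, rfl⟩ := surjective_ofPt a has z
    have sqw := hfp.1.isPullback (a ≫ g.hom)
    let l := sq.lift (hfp.1.fst (a ≫ g.hom)) ((AlgSp.yon S).map (hfp.1.snd (a ≫ g.hom)) ≫ a)
      (by rw [Category.assoc]; exact sqw.w)
    have sql : IsPullback l ((AlgSp.yon S).map (hfp.1.snd (a ≫ g.hom))) snd a :=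
      IsPullback.of_right (h₁₂ := fst) (by rw [sq.lift_fst]; exact sqw) (sq.lift_snd _ _ _) sq
    have hd := (hchar (a ≫ g.hom) _ _ sqw r).1 (h.2 a l _ sql) t
    rw [AlgSp.Points.map_ofPt]
    exact ⟨show δ _ < r + 1 by omega, show ¬ δ _ < r by omega⟩
  · intro h
    refine ⟨(RepWith.baseChange sq hfp).1, fun U' P' a l c sql => ?_⟩
    refine (hchar (a ≫ g.hom) (l ≫ fst) c (sql.paste_horiz sq) r).2 fun t => ?_
    have hx := h ⟨AlgSp.Points.ofPt a t, rfl⟩
    rw [AlgSp.Points.map_ofPt] at hx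
    have h1 : δ (AlgSp.Points.ofPt (a ≫ g.hom) t) < r + 1 := hx.1
    have h2 : ¬ δ (AlgSp.Points.ofPt (a ≫ g.hom) t) < r := hx.2
    omega

end Groth.Agent.S10433
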