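import Groth.Statements.S10434
import Groth.Agent.AlgSpLib.BiratGeneric
-- import your own Groth.Agent.* helpers here

set_option autoImplicit false
universe u
open CategoryTheory CategoryTheory.Limits AlgebraicGeometry Topology TopologicalSpace
open AlgSp

namespace Groth.Agent.S10434

open Groth.Agent.AlgSpLib

/-- Take decent algebraic spaces X and Y over a scheme S, each with only finitely many irreducible
components in its space of points, and a birational f : X ⟶ Y. For a generic point y of an
irreducible component of |Y|, seen as a point v of an open subscheme V of Y, the base change of f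
along Spec(O_{V,v}) ⟶ V ⟶ Y has invertible projection onto Spec(O_{V,v}). -/
theorem result {S : Scheme.{u}} {X Y : AlgSp.Space S} (f : X ⟶ Y)
    (hX : AlgSp.IsDecent X.obj) (hY : AlgSp.IsDecent Y.obj)
    (hXf : (irreducibleComponents (AlgSp.Points X.obj)).Finite)
    (hYf : (irreducibleComponents (AlgSp.Points Y.obj)).Finite)
    (hf : W4stk3decentspacesp2.IsBirational f.hom) {V : Over S} (b : (AlgSp.yon S).obj V ⟶ Y.obj)
    (hb : AlgSp.RepWith @IsOpenImmersion b) (v : ↥V.left)
    (hv : AlgSp.Points.ofPt b v ∈ genericPoints (AlgSp.Points Y.obj)) {P : AlgSp.Sp S} (fst : P ⟶ X.obj)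
    (snd : P ⟶ (AlgSp.yon S).obj (Over.mk (V.left.fromSpecStalk v ≫ V.hom)))
    (hP : IsPullback fst snd f.hom ((AlgSp.yon S).map (Over.homMk (V.left.fromSpecStalk v) rfl) ≫ b)) :
    IsIso snd := by
  classical
  obtain ⟨U, a, g, u, ha, w, hu, hiso, hx⟩ := Birat.exists_chart hY hf b hb v hv
  have hfib := Birat.eq_of_map_eq_generic hX hY hf b hb hv ha w hu hiso hx
  have hvmax : ∀ w' : V.left, w' ⤳ v → w' = v := fun w' h =>
    Birat.injective_ofPt_openImm b hb (Birat.eq_of_generic hY hv (h.map (AlgSp.Points.continuous_ofPt b)))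
  let T : Over S := Over.mk (V.left.fromSpecStalk v ≫ V.hom)
  let σ : T ⟶ V := Over.homMk (V.left.fromSpecStalk v) rfl
  change IsPullback fst snd f.hom ((AlgSp.yon S).map σ ≫ b) at hP
  have hrange : Set.range (AlgSp.Points.map fst) ⊆ Set.range (AlgSp.Points.map a) := by
    rintro _ ⟨z, rfl⟩
    obtain ⟨s, hs⟩ := (AlgSp.Points.schemeHomeo T).surjective (AlgSp.Points.map snd z)
    refine ⟨AlgSp.Points.ofScheme U u, ?_⟩
    rw [← AlgSp.Points.ofPt_eq_map_ofScheme]
    symm
    refine hfib _ ?_
    rw [← AlgSp.Points.map_comp, hP.w, AlgSp.Points.map_comp]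
    rw [← hs]
    refine (AlgSp.Points.ofPt_eq_map_ofScheme _ s).symm.trans ((ofPt_map σ b s).trans (congrArg _ ?_))
    exact hvmax _ (Scheme.range_fromSpecStalk.le ⟨s, rfl⟩)
  obtain ⟨k, hk⟩ := (exists_lift_iff_range_subset ha fst).2 hrange
  haveI : Mono a := Induct.mono_openImm ha
  haveI : Mono b := Induct.mono_openImm hb
  have wk : k ≫ (AlgSp.yon S).map g = snd ≫ (AlgSp.yon S).map σ := by
    rw [← cancel_mono b, Category.assoc, Category.assoc, ← w, ← Category.assoc, hk, hP.w]
  have sqk : IsPullback k snd ((AlgSp.yon S).map g) ((AlgSp.yon S).map σ) :=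
    IsPullback.of_isLimit (c := PullbackCone.mk k snd wk) (PullbackCone.IsLimit.mk wk
      (fun s => hP.lift (s.fst ≫ a) s.snd (by rw [Category.assoc, w, s.condition_assoc]))
      (fun s => (cancel_mono a).1 (by rw [Category.assoc, hk, hP.lift_fst]))
      (fun s => hP.lift_snd _ _ _)
      (fun s m h1 h2 => hP.hom_ext (by rw [hP.lift_fst, ← hk, ← Category.assoc, h1])
        (by rw [hP.lift_snd, h2])))
  subst hu
  haveI hi : IsIso (pullback.snd g.left (V.left.fromSpecStalk (g.left u))) :=
    Birat.isIso_pullback_stalk g.left u hiso (fun x' hx' => Birat.injective_ofPt_openImm a ha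
      (hfib _ (by rw [Birat.map_ofPt_square w, hx']))) hvmax
  let W : Over S := Over.mk (pullback.snd g.left (V.left.fromSpecStalk (g.left u)) ≫ T.hom)
  let p₁ : W ⟶ U := Over.homMk (pullback.fst g.left (V.left.fromSpecStalk (g.left u))) (by
    show pullback.fst _ _ ≫ U.hom = pullback.snd _ _ ≫ V.left.fromSpecStalk _ ≫ V.hom
    rw [← Over.w g, pullback.condition_assoc])
  let p₂ : W ⟶ T := Over.homMk (pullback.snd g.left (V.left.fromSpecStalk (g.left u))) rfl
  have sqW : IsPullback p₁ p₂ g σ := IsPullback.of_map (Over.forget S)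
    (Over.OverMorphism.ext pullback.condition) (IsPullback.of_hasPullback _ _)
  have sqY := sqW.map (AlgSp.yon S)
  haveI : IsIso ((Over.forget S).map p₂) := hi
  haveI : IsIso p₂ := isIso_of_reflects_iso p₂ (Over.forget S)
  rw [← sqk.isoIsPullback_hom_snd _ _ sqY]
  infer_instance

end Groth.Agent.S10434
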