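import Groth.Statements.S10436
import Groth.Agent.AlgSpLib.BiratOpen
import Groth.Agent.AlgSpLib.MorSep
import Groth.Agent.AlgSpLib.RedUniv
import Groth.Agent.AlgSpLib.MorQC
import Groth.Agent.AlgSpLib.PointsCompact
import Groth.Agent.VarietyLib.AffineNhd
-- import your own Groth.Agent.* helpers here

set_option autoImplicit false
universe u
open CategoryTheory CategoryTheory.Limits AlgebraicGeometry Topology TopologicalSpace
open AlgSp

namespace Groth.Agent.S10436

open Groth.Agent.AlgSpLib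

variable {S : Scheme.{u}}

/-- an isomorphism of opens is the restriction over the opens whose preimage it covers -/
theorem isIso_over {F G : AlgSp.Sp S} {f : F ⟶ G} {U V V' : Over S} {a : (AlgSp.yon S).obj U ⟶ F}
    {b : (AlgSp.yon S).obj V ⟶ G} {g : U ⟶ V} [IsIso g] (ha : AlgSp.RepWith @IsOpenImmersion a)
    (hb : AlgSp.RepWith @IsOpenImmersion b) (w : a ≫ f = (AlgSp.yon S).map g ≫ b) (j : V' ⟶ V)
    {P : AlgSp.Sp S} {fst : P ⟶ F} {snd : P ⟶ (AlgSp.yon S).obj V'}
    (sq : IsPullback fst snd f ((AlgSp.yon S).map j ≫ b))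
    (hsub : Set.range (AlgSp.Points.map fst) ⊆ Set.range (AlgSp.Points.map a)) : IsIso snd := by
  obtain ⟨k, hk⟩ := (exists_lift_iff_range_subset ha fst).2 hsub
  haveI : Mono b := Induct.mono_openImm hb
  have hkg : k ≫ (AlgSp.yon S).map g = snd ≫ (AlgSp.yon S).map j := by
    rw [← cancel_mono b, Category.assoc, Category.assoc, ← w, ← Category.assoc, hk, sq.w]
  refine ⟨sq.lift ((AlgSp.yon S).map (j ≫ inv g) ≫ a) (𝟙 _) ?_, sq.hom_ext ?_ ?_, sq.lift_snd _ _ _⟩
  · rw [Category.assoc, w, Category.id_comp, ← Category.assoc, ← Functor.map_comp, Category.assoc, IsIso.inv_hom_id,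
      Category.comp_id]
  · rw [Category.assoc, sq.lift_fst, Category.id_comp, ← hk, ← Category.assoc]
    congr 1
    rw [Functor.map_comp, ← Category.assoc, ← hkg, Category.assoc, ← Functor.map_comp, IsIso.hom_inv_id,
      CategoryTheory.Functor.map_id, Category.comp_id]
  · rw [Category.assoc, sq.lift_snd, Category.comp_id, Category.id_comp]

section

variable {X Y : AlgSp.Space S} (f : X ⟶ Y) {U V : Over S} {a : (AlgSp.yon S).obj U ⟶ X.obj}
  {b : (AlgSp.yon S).obj V ⟶ Y.obj} {g : U ⟶ V} [IsIso g]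
  (hX : AlgSp.IsDecent X.obj) (hY : AlgSp.IsDecent Y.obj) (hf : W4stk3decentspacesp2.IsBirational f.hom)
  (ha : AlgSp.RepWith @IsOpenImmersion a) (hb : AlgSp.RepWith @IsOpenImmersion b)
  (w : a ≫ f.hom = (AlgSp.yon S).map g ≫ b)
  (hgx : genericPoints (AlgSp.Points X.obj) ⊆ Set.range (AlgSp.Points.ofPt a))

include hX ha hb w hgx in
theorem range_subset_of_separated (hsep : AlgSp.IsSeparatedMor f.hom) {P : AlgSp.Sp S} {fst : P ⟶ X.obj}
    {snd : P ⟶ (AlgSp.yon S).obj V} (sq : IsPullback fst snd f.hom b) :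
    Set.range (AlgSp.Points.map fst) ⊆ Set.range (AlgSp.Points.map a) := by
  have hPa : AlgSp.IsAlgSpace P :=
    isAlgSpace_of_isPullback Y.property.diag X.property (AlgSp.IsAlgSpace.yon_obj V) sq
  have hfst : AlgSp.RepWith @IsOpenImmersion fst := RepWith.baseChange sq.flip hb
  haveI := Induct.mono_openImm hfst
  haveI := t0Space_points X.property hX
  haveI := quasiSober_points X.property hX
  let s : (AlgSp.yon S).obj V ⟶ P := sq.lift ((AlgSp.yon S).map (inv g) ≫ a) (𝟙 _) (by
    rw [Category.assoc, w, Category.id_comp, ← Category.assoc, ← Functor.map_comp, IsIso.inv_hom_id,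
      CategoryTheory.Functor.map_id, Category.id_comp])
  have hs : s ≫ snd = 𝟙 _ := sq.lift_snd _ _ _
  have hcl : IsClosed (Set.range (AlgSp.Points.map s)) := isClosed_range_map_of_closedImmersion hPa
    (RepWith.baseChange (isPullback_section snd s hs) (isSeparatedMor_of_isPullback sq hsep))
  rintro _ ⟨z, rfl⟩
  obtain ⟨x₀, hx₀, hsp⟩ := VarietyLib.exists_genericPoints_specializes (AlgSp.Points.map fst z)
  have he : Topology.IsOpenEmbedding (AlgSp.Points.map fst) := .of_continuous_injective_isOpenMap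
    (AlgSp.Points.continuous_map fst) (injective_map_of_mono fst) fun O hO => by
      let j := openSubspaceι P O
      have hj : AlgSp.RepWith @IsOpenImmersion j := repWith_openSubspaceι P hO
      rw [← range_openSubspaceι P O, ← Set.range_comp]
      convert range_isOpen X.property (RepWith.comp hj hfst) using 2
      ext p
      exact (AlgSp.Points.map_comp _ _ p).symm
  obtain ⟨z₀, rfl⟩ := hsp.mem_open he.isOpen_range ⟨z, rfl⟩
  obtain ⟨u, hu⟩ := hgx hx₀
  have hz₀ : z₀ ∈ Set.range (AlgSp.Points.map s) := by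
    refine ⟨AlgSp.Points.ofScheme V (g.left u), he.injective ?_⟩
    rw [← AlgSp.Points.map_comp, sq.lift_fst, ← AlgSp.Points.ofPt_eq_map_ofScheme, ofPt_map, ← hu]
    congr 1
    rw [← Scheme.Hom.comp_apply, ← Over.comp_left, IsIso.hom_inv_id]
    rfl
  obtain ⟨p, hp⟩ := (he.isInducing.specializes_iff.1 hsp).mem_closed hcl hz₀
  exact ⟨AlgSp.Points.map ((AlgSp.yon S).map (inv g)) p, by
    rw [← hp, ← AlgSp.Points.map_comp, ← AlgSp.Points.map_comp, sq.lift_fst]⟩

include hX hY hf ha hb w hgx in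
theorem exists_nhd_of_qc (hqc : AlgSp.IsQuasiCompactMor f.hom) (v : V.left)
    (hv : AlgSp.Points.ofPt b v ∈ genericPoints (AlgSp.Points Y.obj)) :
    ∃ N : V.left.Opens, v ∈ N ∧ ∀ (x : AlgSp.Points X.obj), ∀ v' ∈ N,
      AlgSp.Points.map f.hom x = AlgSp.Points.ofPt b v' → x ∈ Set.range (AlgSp.Points.map a) := by
  obtain ⟨_, ⟨(W : V.left.Opens), hW, rfl⟩, hvW, -⟩ := V.left.isBasis_affineOpens.exists_subset_of_mem_open (Set.mem_univ v) isOpen_univ
  let WV := restrictOver V W
  haveI : IsAffine W.toScheme := hW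
  haveI : CompactSpace ↥WV.left := inferInstanceAs (CompactSpace ↥W.toScheme)
  let bW := (AlgSp.yon S).map (restrictOverι V W) ≫ b
  let Q := pullback f.hom bW
  have sqQ := IsPullback.of_hasPullback f.hom bW
  have hQa : AlgSp.IsAlgSpace Q :=
    isAlgSpace_of_isPullback Y.property.diag X.property (AlgSp.IsAlgSpace.yon_obj _) sqQ
  haveI : CompactSpace (AlgSp.Points Q) := compactSpace_of_isQuasiCompactMor hqc sqQ
  obtain ⟨T, c, hT, hce, hcs⟩ := exists_affine_chart hQa
  haveI := hT
  obtain ⟨t, ht⟩ := (AlgSp.yon S).map_surjective (c ≫ pullback.snd f.hom bW)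
  -- the closed set away from the chart
  have hao : IsOpen (Set.range (AlgSp.Points.map a)) := range_isOpen X.property ha
  let E : TopologicalSpace.Closeds T.left := ⟨(AlgSp.Points.ofPt (c ≫ pullback.fst f.hom bW) ⁻¹' Set.range (AlgSp.Points.map a))ᶜ,
    (hao.preimage (AlgSp.Points.continuous_ofPt _)).isClosed_compl⟩
  let ι := (Scheme.IdealSheafData.vanishingIdeal E).subschemeι
  have hι : Set.range ι = (E : Set T.left) := by
    rw [Scheme.IdealSheafData.range_subschemeι, Scheme.IdealSheafData.coe_support_vanishingIdeal]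
  haveI : CompactSpace ↥(Scheme.IdealSheafData.vanishingIdeal E).subscheme :=
    QuasiCompact.compactSpace_of_compactSpace ι
  haveI : QuasiSeparatedSpace ↥WV.left := inferInstanceAs (QuasiSeparatedSpace ↥W.toScheme)
  let w₀ : WV.left := (⟨v, hvW⟩ : W)
  have hpt : ∀ e : T.left, AlgSp.Points.map f.hom (AlgSp.Points.ofPt (c ≫ pullback.fst f.hom bW) e) =
      AlgSp.Points.ofPt b ((restrictOverι V W).left (t.left e)) := fun e => by
    rw [AlgSp.Points.map_ofPt, Category.assoc, sqQ.w, ← Category.assoc, ← ht, ofPt_map, ofPt_map]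
  have hv0 : w₀ ∉ closure (Set.range (ι ≫ t.left)) := fun hcl => by
    obtain ⟨e, he⟩ := VarietyLib.exists_specializes_of_mem_closure_range (ι ≫ t.left) hcl
    have h1 : (restrictOverι V W).left (t.left (ι e)) = v := by
      refine Birat.injective_ofPt_openImm b hb (Birat.eq_of_generic hY hv ?_)
      exact ((he.map (restrictOverι V W).left.continuous).map (AlgSp.Points.continuous_ofPt b))
    have h2 : ι e ∈ (E : Set T.left) := hι ▸ Set.mem_range_self e
    obtain ⟨U₁, a₁, g₁, u₁, ha₁, w₁, hu₁, hiso₁, hx₁⟩ := Birat.exists_chart hY hf b hb v hv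
    have hx := Birat.eq_of_map_eq_generic hX hY hf b hb hv ha₁ w₁ hu₁ hiso₁ hx₁
      (AlgSp.Points.ofPt (c ≫ pullback.fst f.hom bW) (ι e)) (by rw [hpt, h1])
    obtain ⟨u, hu⟩ := hgx hx₁
    apply h2
    show AlgSp.Points.ofPt _ (ι e) ∈ Set.range (AlgSp.Points.map a)
    exact ⟨AlgSp.Points.ofScheme U u, by rw [← AlgSp.Points.ofPt_eq_map_ofScheme, hu, hx]⟩
  let N₀ : WV.left.Opens := ⟨(closure (Set.range (ι ≫ t.left)))ᶜ, isClosed_closure.isOpen_compl⟩
  refine ⟨(restrictOverι V W).left ''ᵁ N₀, ⟨w₀, hv0, rfl⟩, ?_⟩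
  rintro x _ ⟨v', hv', rfl⟩ hxv
  by_contra hxa
  obtain ⟨p, hp1, hp2⟩ := exists_point_of_isPullback sqQ (x := x) (y := AlgSp.Points.ofScheme WV v') (by
    rw [hxv, ← AlgSp.Points.ofPt_eq_map_ofScheme, ofPt_map]; rfl)
  obtain ⟨e, rfl⟩ := surjective_ofPt c hcs p
  have he : e ∈ (E : Set T.left) := by
    show AlgSp.Points.ofPt (c ≫ pullback.fst f.hom bW) e ∈ (Set.range (AlgSp.Points.map a))ᶜ
    rw [← AlgSp.Points.map_ofPt, hp1]
    exact hxa
  obtain ⟨e', rfl⟩ : e ∈ Set.range ι := hι.symm ▸ he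
  refine hv' (subset_closure ⟨e', ?_⟩)
  rw [AlgSp.Points.map_ofPt, ← ht, AlgSp.Points.ofPt_eq_map_ofScheme, map_yon_map_ofScheme] at hp2
  exact (AlgSp.Points.schemeHomeo WV).injective hp2

end

/-- Take decent algebraic spaces X and Y over a scheme S, each with only finitely many irreducible
components in its space of points, and a birational f : X ⟶ Y. Suppose f is quasi-compact or
separated, and in addition that f is locally of finite type with Y reduced, or locally of finite
presentation. Then Y contains a dense open subspace V, which may be taken to be a scheme, such that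
f⁻¹(V) ⟶ V is an isomorphism. -/
theorem result {S : Scheme.{u}} {X Y : AlgSp.Space S} (f : X ⟶ Y)
    (hX : AlgSp.IsDecent X.obj) (hY : AlgSp.IsDecent Y.obj)
    (hXf : (irreducibleComponents (AlgSp.Points X.obj)).Finite)
    (hYf : (irreducibleComponents (AlgSp.Points Y.obj)).Finite)
    (hf : W4stk3decentspacesp2.IsBirational f.hom) (h₁ : AlgSp.IsQuasiCompactMor f.hom ∨ AlgSp.IsSeparatedMor f.hom)
    (h₂ : (AlgSp.LocP @LocallyOfFiniteType f.hom ∧ AlgSp.EtaleLocally (fun T => IsReduced T) Y.obj) ∨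
      AlgSp.LocP @LocallyOfFinitePresentation f.hom) :
    ∃ (V : Over S) (b : (AlgSp.yon S).obj V ⟶ Y.obj), AlgSp.RepWith @IsOpenImmersion b ∧
      Dense (Set.range (AlgSp.Points.ofPt b)) ∧
        ∀ ⦃P : AlgSp.Sp S⦄ (fst : P ⟶ X.obj) (snd : P ⟶ (AlgSp.yon S).obj V),
          IsPullback fst snd f.hom b → IsIso snd := by
  classical
  haveI := t0Space_points Y.property hY
  haveI := quasiSober_points Y.property hY
  obtain ⟨U, V, a, b, g, ha, hb, w, hg, hgx, hgy⟩ := Birat.exists_iso_opens f hX hY hXf hYf hf h₂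
  haveI : IsIso ((Over.forget S).map g) := hg
  haveI : IsIso g := isIso_of_reflects_iso g (Over.forget S)
  rcases h₁ with hqc | hsep
  · let G := {v : V.left // AlgSp.Points.ofPt b v ∈ genericPoints (AlgSp.Points Y.obj)}
    choose N hN hNsub using fun v : G => exists_nhd_of_qc f hX hY hf ha hb w hgx hqc v.1 v.2
    let O : V.left.Opens := ⨆ v, N v
    let j := restrictOverι V O
    refine ⟨restrictOver V O, (AlgSp.yon S).map j ≫ b,
      RepWith.comp ((AlgSp.repWith_yon_map_iff _ _).2 inferInstance) hb, Birat.dense_of_generic fun y hy => ?_,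
      fun P fst snd sq => isIso_over ha hb w j sq ?_⟩
    · obtain ⟨v, rfl⟩ := hgy hy
      obtain ⟨v', hv'⟩ : v ∈ Set.range j.left := by
        rw [range_restrictOverι]; exact le_iSup N ⟨v, hy⟩ (hN ⟨v, hy⟩)
      exact ⟨v', (ofPt_map j b v').trans (congrArg _ hv')⟩
    · rintro _ ⟨z, rfl⟩
      obtain ⟨v', hv'⟩ := (AlgSp.Points.schemeHomeo (restrictOver V O)).surjective (AlgSp.Points.map snd z)
      have hmem : j.left v' ∈ O := v'.2
      obtain ⟨i, hi⟩ := TopologicalSpace.Opens.mem_iSup.1 hmem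
      refine hNsub i _ _ hi ?_
      rw [← AlgSp.Points.map_comp, sq.w, AlgSp.Points.map_comp, ← hv', ← ofPt_map, AlgSp.Points.ofPt_eq_map_ofScheme]
      rfl
  · refine ⟨V, b, hb, Birat.dense_of_generic hgy, fun P fst snd sq => ?_⟩
    have sq' : IsPullback fst snd f.hom ((AlgSp.yon S).map (𝟙 V) ≫ b) := by
      rw [CategoryTheory.Functor.map_id, Category.id_comp]; exact sq
    exact isIso_over ha hb w (𝟙 V) sq' (range_subset_of_separated f hX ha hb w hgx hsep sq)

end Groth.Agent.S10436
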