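import Groth.Statements.S10437
import Groth.Agent.AlgSpLib.BiratGeneric
import Groth.Agent.AlgSpLib.DecentMore
import Groth.Agent.AlgSpLib.DecentComponents
import Groth.Agent.VarietyLib.AffineNhd
-- import your own Groth.Agent.* helpers here

set_option autoImplicit false
universe u
open CategoryTheory CategoryTheory.Limits AlgebraicGeometry Topology TopologicalSpace
open AlgSp

namespace Groth.Agent.S10437

open Groth.Agent.AlgSpLib

/-- base change of a morphism inducing an isomorphism at the only point of a fibre over a maximal point -/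
theorem exists_unique_bc {U V V' U' : Scheme.{u}} {g : U ⟶ V} {r : V' ⟶ V} {pU : U' ⟶ U} {g' : U' ⟶ V'}
    (sq : IsPullback pU g' g r) (u : U) (hiso : IsIso (g.stalkMap u))
    (hfib : ∀ x' : U, g x' = g u → x' = u) (hmax : ∀ w : V, w ⤳ g u → w = g u) (η : V')
    (hη : r η = g u) (hηmax : ∀ w : V', w ⤳ η → w = η) :
    ∃ z : U', g' z = η ∧ IsIso (g'.stalkMap z) ∧ ∀ z', g' z' = η → z' = z := by
  obtain ⟨φ, hφ⟩ : ∃ φ, Spec.map φ ≫ V.fromSpecStalk (g u) = V'.fromSpecStalk η ≫ r := by
    rw [← hη]; exact ⟨r.stalkMap η, Scheme.SpecMap_stalkMap_fromSpecStalk r⟩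
  haveI := Birat.isIso_pullback_stalk g u hiso hfib hmax
  have sq1 := (IsPullback.of_hasPullback g (V.fromSpecStalk (g u)))
  let W := pullback (pullback.snd g (V.fromSpecStalk (g u))) (Spec.map φ)
  let pW : W ⟶ Spec (V'.presheaf.stalk η) := pullback.snd _ _
  haveI : IsIso pW := inferInstance
  have sq3 : IsPullback (pullback.fst _ _ ≫ pullback.fst g (V.fromSpecStalk (g u))) pW g
      (V'.fromSpecStalk η ≫ r) := by
    rw [← hφ]
    exact ((IsPullback.of_hasPullback (pullback.snd g (V.fromSpecStalk (g u))) (Spec.map φ)).flip.paste_vert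
      sq1.flip).flip
  let k : W ⟶ U' := sq.lift (pullback.fst _ _ ≫ pullback.fst g (V.fromSpecStalk (g u)))
    (pW ≫ V'.fromSpecStalk η) (by rw [sq3.w, Category.assoc])
  have sq4 : IsPullback k pW g' (V'.fromSpecStalk η) :=
    IsPullback.of_right (h₁₂ := pU) (v₁₃ := g) (by rw [sq.lift_fst]; exact sq3) (sq.lift_snd _ _ _) sq
  have hpt : ∀ p : Spec (V'.presheaf.stalk η), V'.fromSpecStalk η p = η := fun p =>
    hηmax _ (Scheme.range_fromSpecStalk.le ⟨p, rfl⟩)
  have hsub : ∀ p q : W, p = q := fun p q => by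
    refine pW.homeomorph.injective (((V'.fromSpecStalk η).isEmbedding.injective ?_))
    exact (hpt _).trans (hpt _).symm
  let w₀ : W := (inv pW) (IsLocalRing.closedPoint _)
  have hk : ∀ p, g' (k p) = η := fun p =>
    (congr($(sq4.w) p)).trans (hpt (pW p))
  haveI : IsPreimmersion k := MorphismProperty.of_isPullback sq4.flip inferInstance
  haveI : Flat (V'.fromSpecStalk η) := VarietyLib.flat_fromSpecStalk' η
  haveI : Flat k := MorphismProperty.of_isPullback sq4.flip inferInstance
  have hkiso : IsIso (k.stalkMap w₀) := VarietyLib.isIso_stalkMap_of_flat_of_isPreimmersion k w₀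
  have hσiso : IsIso ((pW ≫ V'.fromSpecStalk η).stalkMap w₀) := by
    haveI : Flat (pW ≫ V'.fromSpecStalk η) := inferInstance
    exact VarietyLib.isIso_stalkMap_of_flat_of_isPreimmersion _ w₀
  have hcomp : IsIso ((k ≫ g').stalkMap w₀) := by rw [sq4.w]; exact hσiso
  rw [Scheme.Hom.stalkMap_comp] at hcomp
  refine ⟨k w₀, hk w₀, @IsIso.of_isIso_comp_right _ _ _ _ _ _ (k.stalkMap w₀) hkiso hcomp, fun z' hz' => ?_⟩
  obtain ⟨p, hp, -⟩ := Scheme.Pullback.exists_preimage_pullback (f := g') (g := V'.fromSpecStalk η) z'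
    (IsLocalRing.closedPoint _) (hz'.trans (Scheme.fromSpecStalk_closedPoint).symm)
  refine hp.symm.trans ?_
  have : sq4.isoPullback.inv ≫ k = pullback.fst g' (V'.fromSpecStalk η) := sq4.isoPullback_inv_fst
  rw [← this, Scheme.Hom.comp_apply, hsub (sq4.isoPullback.inv p) w₀]

/-- over each generic point of the base change -/
theorem exists_over {S : Scheme.{u}} {X Y : AlgSp.Space S} {f : X ⟶ Y}
    (hX : AlgSp.IsDecent X.obj) (hY : AlgSp.IsDecent Y.obj) (hf : W4stk3decentspacesp2.IsBirational f.hom)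
    {V : Over S} (b : (AlgSp.yon S).obj V ⟶ Y.obj) (hb : AlgSp.RepWith @Etale b) {P : AlgSp.Sp S}
    (fst : P ⟶ X.obj) (snd : P ⟶ (AlgSp.yon S).obj V) (hP : IsPullback fst snd f.hom b) (η : V.left)
    (hη : η ∈ genericPoints V.left) (hy : AlgSp.Points.ofPt b η ∈ genericPoints (AlgSp.Points Y.obj)) :
    ∃ (U' V' : Over S) (a' : (AlgSp.yon S).obj U' ⟶ P) (b' : (AlgSp.yon S).obj V' ⟶ (AlgSp.yon S).obj V)
      (g' : U' ⟶ V') (u' : U'.left), AlgSp.RepWith @IsOpenImmersion a' ∧ AlgSp.RepWith @IsOpenImmersion b' ∧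
      a' ≫ snd = (AlgSp.yon S).map g' ≫ b' ∧ IsIso (g'.left.stalkMap u') ∧
      AlgSp.Points.map snd (AlgSp.Points.ofPt a' u') = AlgSp.Points.ofScheme V η ∧
      ∀ z, AlgSp.Points.map snd z = AlgSp.Points.ofScheme V η → z = AlgSp.Points.ofPt a' u' := by
  obtain ⟨x, hx, hxy⟩ := hf.bijOn.surjOn hy
  obtain ⟨U₀, V₁, a₀, b₁, g₀, u₀, ha₀, hb₁, w₀, hu₀, -⟩ := hf.stalkIso x hx
  have hv : AlgSp.Points.ofPt b₁ (g₀.left u₀) = AlgSp.Points.ofPt b η := by
    rw [← Birat.map_ofPt_square w₀, hu₀, hxy]
  obtain ⟨U, a, g, u, ha, w, hu, hiso, hxu⟩ := Birat.exists_chart hY hf b₁ hb₁ (g₀.left u₀) (hv.symm ▸ hy)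
  have hfib := Birat.eq_of_map_eq_generic hX hY hf b₁ hb₁ (hv.symm ▸ hy) ha w hu hiso hxu
  have hfib' : ∀ x' : U.left, g.left x' = g.left u → x' = u := fun x' hx' =>
    Birat.injective_ofPt_openImm a ha (hfib _ (by rw [Birat.map_ofPt_square w, hx', hu]))
  have hmax : ∀ w' : V₁.left, w' ⤳ g.left u → w' = g.left u := fun w' hw' =>
    Birat.injective_ofPt_openImm b₁ hb₁ (Birat.eq_of_generic hY (by rw [hu, hv]; exact hy)
      (hw'.map (AlgSp.Points.continuous_ofPt b₁)))
  -- the open of `V` over the chart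
  let V' := hb₁.1.pullback b
  let pV : V' ⟶ V := hb₁.1.snd b
  obtain ⟨r, hr⟩ := (AlgSp.yon S).map_surjective (hb₁.1.fst b)
  have sqV : IsPullback ((AlgSp.yon S).map r) ((AlgSp.yon S).map pV) b₁ b := hr ▸ hb₁.1.isPullback _
  have hpV : IsOpenImmersion pV.left := hb₁.property_snd _
  obtain ⟨z₀, hz₁, hz₂⟩ := exists_point_of_isPullback sqV (x := AlgSp.Points.ofScheme V₁ (g.left u))
    (y := AlgSp.Points.ofScheme V η) (by
      rw [← AlgSp.Points.ofPt_eq_map_ofScheme, ← AlgSp.Points.ofPt_eq_map_ofScheme, hu, hv])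
  obtain ⟨η', rfl⟩ := (AlgSp.Points.schemeHomeo V').surjective z₀
  have e1 : r.left η' = g.left u := (AlgSp.Points.schemeHomeo V₁).injective ((map_yon_map_ofScheme r η').symm.trans hz₁)
  have e2 : pV.left η' = η := (AlgSp.Points.schemeHomeo V).injective ((map_yon_map_ofScheme pV η').symm.trans hz₂)
  have hη' : ∀ w' : V'.left, w' ⤳ η' → w' = η' := fun w' hw' => pV.left.isOpenEmbedding.injective
    (VarietyLib.eq_of_specializes_genericPoints (e2 ▸ hη) (hw'.map pV.left.continuous))
  let U' : Over S := Over.mk (pullback.snd g.left r.left ≫ V'.hom)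
  let pU : U' ⟶ U := Over.homMk (pullback.fst g.left r.left) (by
    show pullback.fst _ _ ≫ U.hom = pullback.snd _ _ ≫ V'.hom
    rw [← Over.w g, ← Over.w r, pullback.condition_assoc])
  let g' : U' ⟶ V' := Over.homMk (pullback.snd g.left r.left) rfl
  have sqU : IsPullback pU g' g r := IsPullback.of_map (Over.forget S)
    (Over.OverMorphism.ext pullback.condition) (IsPullback.of_hasPullback _ _)
  obtain ⟨u', hu', hu'iso, huniq⟩ := exists_unique_bc (IsPullback.of_hasPullback g.left r.left) u hiso hfib' hmax η'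
    e1 hη'
  have wa : ((AlgSp.yon S).map pU ≫ a) ≫ f.hom = ((AlgSp.yon S).map g' ≫ (AlgSp.yon S).map pV) ≫ b := by
    rw [Category.assoc, w, Category.assoc, ← sqV.w, ← Category.assoc, ← Category.assoc, ← Functor.map_comp,
      ← Functor.map_comp, sqU.w]
  let a' : (AlgSp.yon S).obj U' ⟶ P := hP.lift ((AlgSp.yon S).map pU ≫ a)
    ((AlgSp.yon S).map g' ≫ (AlgSp.yon S).map pV) wa
  have ha'1 : a' ≫ fst = (AlgSp.yon S).map pU ≫ a := hP.lift_fst _ _ _
  have ha'2 : a' ≫ snd = (AlgSp.yon S).map g' ≫ (AlgSp.yon S).map pV := hP.lift_snd _ _ _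
  -- the chart is the preimage of two opens
  haveI : Mono b₁ := Induct.mono_openImm hb₁
  haveI : Mono a := Induct.mono_openImm ha
  have sqA := IsPullback.of_hasPullback a fst
  have sqB := IsPullback.of_hasPullback ((AlgSp.yon S).map pV) (pullback.snd a fst ≫ snd)
  let Q := pullback ((AlgSp.yon S).map pV) (pullback.snd a fst ≫ snd)
  let m : Q ⟶ P := pullback.snd _ _ ≫ pullback.snd a fst
  have hm : AlgSp.RepWith @IsOpenImmersion m :=
    RepWith.comp (RepWith.baseChange sqB ((AlgSp.repWith_yon_map_iff _ _).2 hpV)) (RepWith.baseChange sqA ha)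
  haveI : Mono m := Induct.mono_openImm hm
  have sqY : IsPullback ((AlgSp.yon S).map pU) ((AlgSp.yon S).map g') ((AlgSp.yon S).map g) ((AlgSp.yon S).map r) :=
    sqU.map _
  let qa : Q ⟶ (AlgSp.yon S).obj U := pullback.snd _ _ ≫ pullback.fst a fst
  let qv : Q ⟶ (AlgSp.yon S).obj V' := pullback.fst _ _
  have hqa : qa ≫ a = m ≫ fst := by simp only [qa, m, Category.assoc, sqA.w]
  have hqv : qv ≫ (AlgSp.yon S).map pV = m ≫ snd := by simp only [qv, m, Category.assoc, sqB.w]
  have hQ : qa ≫ (AlgSp.yon S).map g = qv ≫ (AlgSp.yon S).map r := by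
    refine (cancel_mono b₁).1 ?_
    refine (Category.assoc _ _ _).trans ((congrArg (qa ≫ ·) w.symm).trans ((Category.assoc _ _ _).symm.trans ?_))
    refine Eq.trans ?_ ((Category.assoc _ _ _).trans (congrArg (qv ≫ ·) sqV.w)).symm
    refine Eq.trans ?_ (Category.assoc _ _ _)
    refine (congrArg (· ≫ f.hom) hqa).trans ((Category.assoc _ _ _).trans
      ((congrArg (m ≫ ·) hP.w).trans ((Category.assoc _ _ _).symm.trans (congrArg (· ≫ b) hqv.symm))))
  let n : Q ⟶ (AlgSp.yon S).obj U' := sqY.lift qa qv hQ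
  have hn : n ≫ a' = m := hP.hom_ext
    (by rw [Category.assoc, ha'1, ← Category.assoc, sqY.lift_fst, hqa])
    (by rw [Category.assoc, ha'2, ← Category.assoc, sqY.lift_snd, hqv])
  let n' : (AlgSp.yon S).obj U' ⟶ Q := pullback.lift ((AlgSp.yon S).map g')
    (pullback.lift ((AlgSp.yon S).map pU) a' ha'1.symm) (by rw [← Category.assoc, pullback.lift_snd, ha'2])
  have hn' : n' ≫ m = a' := by simp [n', m, pullback.lift_snd, pullback.lift_snd_assoc]
  haveI : IsIso n' := ⟨n, sqY.hom_ext
    (by rw [Category.assoc, sqY.lift_fst, Category.id_comp]; simp [qa, n', pullback.lift_fst, pullback.lift_snd_assoc])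
    (by rw [Category.assoc, sqY.lift_snd, Category.id_comp]; simp [qv, n', pullback.lift_fst]),
    by rw [← cancel_mono m, Category.assoc, hn', hn, Category.id_comp]⟩
  have ha' : AlgSp.RepWith @IsOpenImmersion a' := by
    rw [← hn']
    exact RepWith.comp (repWith_of_isIso _ n') hm
  refine ⟨U', V', a', (AlgSp.yon S).map pV, g', u', ha', (AlgSp.repWith_yon_map_iff _ _).2 hpV, ha'2, hu'iso,
    ?_, fun z hz => ?_⟩
  · rw [AlgSp.Points.map_ofPt, ha'2, ofPt_map, AlgSp.Points.ofPt_eq_map_ofScheme, map_yon_map_ofScheme]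
    show AlgSp.Points.ofScheme V (pV.left ((pullback.snd g.left r.left) u')) = _
    rw [hu', e2]
  · have h1 : AlgSp.Points.map f.hom (AlgSp.Points.map fst z) = AlgSp.Points.ofPt b₁ (g₀.left u₀) := by
      rw [← AlgSp.Points.map_comp, hP.w, AlgSp.Points.map_comp, hz, ← AlgSp.Points.ofPt_eq_map_ofScheme, hv]
    obtain ⟨p, -, hp⟩ := exists_point_of_isPullback sqA (x := AlgSp.Points.ofScheme U u) (y := z)
      (by rw [← AlgSp.Points.ofPt_eq_map_ofScheme, hfib _ h1])
    obtain ⟨q, -, hq⟩ := exists_point_of_isPullback sqB (x := AlgSp.Points.ofScheme V' η') (y := p) (by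
      rw [map_yon_map_ofScheme, e2, AlgSp.Points.map_comp, hp, hz])
    obtain ⟨s, hs⟩ := (AlgSp.Points.schemeHomeo U').surjective (AlgSp.Points.map n q)
    have hsz : AlgSp.Points.ofPt a' s = z := by
      rw [AlgSp.Points.ofPt_eq_map_ofScheme]
      refine (congrArg (AlgSp.Points.map a') hs).trans ?_
      rw [← AlgSp.Points.map_comp, hn, AlgSp.Points.map_comp, hq, hp]
    have hsz' : AlgSp.Points.map snd (AlgSp.Points.ofPt a' s) = AlgSp.Points.ofScheme V η := by rw [hsz, hz]
    rw [AlgSp.Points.map_ofPt, ha'2, ofPt_map, AlgSp.Points.ofPt_eq_map_ofScheme, map_yon_map_ofScheme] at hsz'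
    rw [← hsz, huniq s (pV.left.isOpenEmbedding.injective
      (((AlgSp.Points.schemeHomeo V).injective hsz').trans e2.symm))]

/-- Take decent algebraic spaces X and Y over a scheme S, each with only finitely many irreducible
components in its space of points, a birational f : X ⟶ Y, and an etale morphism V ⟶ Y from an
affine scheme V. Then X ×_Y V is decent, the spaces of points of X ×_Y V and of V have only finitely
many irreducible components, and the projection X ×_Y V ⟶ V is birational. -/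
theorem result {S : Scheme.{u}} {X Y : AlgSp.Space S} (f : X ⟶ Y)
    (hX : AlgSp.IsDecent X.obj) (hY : AlgSp.IsDecent Y.obj)
    (hXf : (irreducibleComponents (AlgSp.Points X.obj)).Finite)
    (hYf : (irreducibleComponents (AlgSp.Points Y.obj)).Finite)
    (hf : W4stk3decentspacesp2.IsBirational f.hom) {V : Over S} [IsAffine V.left] (b : (AlgSp.yon S).obj V ⟶ Y.obj)
    (hb : AlgSp.RepWith @Etale b) {P : AlgSp.Sp S} (fst : P ⟶ X.obj) (snd : P ⟶ (AlgSp.yon S).obj V)
    (hP : IsPullback fst snd f.hom b) :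
    AlgSp.IsDecent P ∧ (irreducibleComponents (AlgSp.Points P)).Finite ∧
      (irreducibleComponents (AlgSp.Points ((AlgSp.yon S).obj V))).Finite ∧ W4stk3decentspacesp2.IsBirational snd := by
  classical
  have hYa := Y.property
  have hPa : AlgSp.IsAlgSpace P :=
    isAlgSpace_of_isPullback hYa.diag X.property (AlgSp.IsAlgSpace.yon_obj V) hP
  have hPd : AlgSp.IsDecent P := isDecent_of_isPullback hYa hP hX (isDecent_yon V)
  have hfe : AlgSp.RepWith @Etale fst := RepWith.baseChange hP.flip hb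
  let VS : AlgSp.Space S := ⟨(AlgSp.yon S).obj V, AlgSp.IsAlgSpace.yon_obj V⟩
  let PS : AlgSp.Space S := ⟨P, hPa⟩
  haveI := t0Space_points hYa hY
  haveI := quasiSober_points hYa hY
  haveI := t0Space_points X.property hX
  haveI := quasiSober_points X.property hX
  haveI := t0Space_points hPa hPd
  haveI := quasiSober_points hPa hPd
  haveI := t0Space_points VS.property (isDecent_yon V)
  haveI := quasiSober_points VS.property (isDecent_yon V)
  have hfibV : ∀ y : AlgSp.Points Y.obj, (AlgSp.Points.ofPt b ⁻¹' {y}).Finite := fun y =>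
    finite_preimage_ofPt (FiniteFibres.of_mk (hY y)).1 b hb
  -- generic points of `V`
  have hgenV : ∀ η : V.left, η ∈ genericPoints V.left ↔
      AlgSp.Points.ofPt b η ∈ genericPoints (AlgSp.Points Y.obj) := fun η => by
    constructor
    · intro h
      refine VarietyLib.mem_genericPoints_iff.2 fun y hy => ?_
      obtain ⟨η', hη', rfl⟩ := exists_specializes_chart (FiniteFibres.of_mk (hY y)).1 b hb η hy
      rw [VarietyLib.eq_of_specializes_genericPoints h hη']
    · intro h
      refine VarietyLib.mem_genericPoints_iff.2 fun w hw => ?_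
      exact (eq_of_specializes_of_finiteFibres (FiniteFibres.of_mk (hY _)).2 b hb rfl
        (Birat.eq_of_generic hY h (hw.map (AlgSp.Points.continuous_ofPt b))) hw).symm
  have hgenV' : ∀ η : V.left, AlgSp.Points.ofScheme V η ∈ genericPoints (AlgSp.Points ((AlgSp.yon S).obj V)) ↔
      η ∈ genericPoints V.left := fun η => by
    rw [VarietyLib.mem_genericPoints_iff, VarietyLib.mem_genericPoints_iff]
    constructor
    · intro h w hw
      exact (AlgSp.Points.schemeHomeo V).injective (h _ (hw.map (AlgSp.Points.schemeHomeo V).continuous))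
    · intro h w hw
      obtain ⟨w', rfl⟩ := (AlgSp.Points.schemeHomeo V).surjective w
      exact congrArg _ (h w' ((AlgSp.Points.schemeHomeo V).isInducing.specializes_iff.1 hw))
  have hVf : (genericPoints V.left).Finite :=
    ((genericPoints.finite hYf).biUnion fun y _ => hfibV y).subset fun η hη =>
      Set.mem_iUnion₂.2 ⟨_, (hgenV η).1 hη, rfl⟩
  have hVc : (irreducibleComponents (AlgSp.Points ((AlgSp.yon S).obj V))).Finite :=
    finite_irreducibleComponents_of_cover (hVf.image (AlgSp.Points.ofScheme V)) fun z => by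
      obtain ⟨w, rfl⟩ := (AlgSp.Points.schemeHomeo V).surjective z
      obtain ⟨η, hη, hw⟩ := VarietyLib.exists_genericPoints_specializes w
      exact ⟨_, ⟨η, hη, rfl⟩, hw.map (AlgSp.Points.schemeHomeo V).continuous⟩
  -- generic points of `P` lie over generic points
  have hmapgen : ∀ z ∈ genericPoints (AlgSp.Points P), ∃ η ∈ genericPoints V.left,
      AlgSp.Points.map snd z = AlgSp.Points.ofScheme V η := by
    intro z hz
    obtain ⟨T, c, hce, hcs⟩ := hPa.atlas
    obtain ⟨t₁, rfl⟩ := surjective_ofPt c hcs z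
    obtain ⟨t, ht, hts⟩ := VarietyLib.exists_genericPoints_specializes t₁
    have hzt := VarietyLib.eq_of_specializes_genericPoints hz (hts.map (AlgSp.Points.continuous_ofPt c))
    rw [← hzt]
    have hxg : AlgSp.Points.ofPt (c ≫ fst) t ∈ genericPoints (AlgSp.Points X.obj) := by
      refine VarietyLib.mem_genericPoints_iff.2 fun y hy => ?_
      obtain ⟨t', ht', rfl⟩ := exists_specializes_chart (FiniteFibres.of_mk (hX y)).1 (c ≫ fst)
        (RepWith.comp hce hfe) t hy
      rw [VarietyLib.eq_of_specializes_genericPoints ht ht']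
    obtain ⟨η, hη⟩ := (AlgSp.Points.schemeHomeo V).surjective (AlgSp.Points.map snd (AlgSp.Points.ofPt c t))
    refine ⟨η, (hgenV η).2 ?_, hη.symm⟩
    rw [AlgSp.Points.ofPt_eq_map_ofScheme]
    refine (congrArg (AlgSp.Points.map b) hη).symm ▸ ?_
    rw [← AlgSp.Points.map_comp, ← hP.w, AlgSp.Points.map_comp, AlgSp.Points.map_ofPt c fst t]
    exact hf.bijOn.mapsTo hxg
  have hover := fun η (hη : η ∈ genericPoints V.left) => exists_over hX hY hf b hb fst snd hP η hη ((hgenV η).1 hη)
  have hinj : Set.InjOn (AlgSp.Points.map snd) (genericPoints (AlgSp.Points P)) := fun z hz z' hz' e => by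
    obtain ⟨η, hη, he⟩ := hmapgen z hz
    obtain ⟨U', V', a', b', g', u', -, -, -, -, -, huniq⟩ := hover η hη
    rw [huniq z he, huniq z' (e.symm.trans he)]
  have hmaps : Set.MapsTo (AlgSp.Points.map snd) (genericPoints (AlgSp.Points P))
      (genericPoints (AlgSp.Points ((AlgSp.yon S).obj V))) := fun z hz => by
    obtain ⟨η, hη, he⟩ := hmapgen z hz
    rw [he]
    exact (hgenV' η).2 hη
  have hPc : (irreducibleComponents (AlgSp.Points P)).Finite := by
    refine finite_irreducibleComponents_of_cover (F := genericPoints (AlgSp.Points P))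
      (((genericPoints.finite hVc).subset hmaps.image_subset).of_finite_image hinj) fun z => ?_
    exact VarietyLib.exists_genericPoints_specializes z
  refine ⟨hPd, hPc, hVc, ⟨⟨hmaps, hinj, fun w hw => ?_⟩, fun z hz => ?_⟩⟩
  · obtain ⟨η, rfl⟩ := (AlgSp.Points.schemeHomeo V).surjective w
    have hη := (hgenV' η).1 hw
    obtain ⟨U', V', a', b', g', u', -, -, -, -, hsnd, huniq⟩ := hover η hη
    refine ⟨_, VarietyLib.mem_genericPoints_iff.2 fun z hz => huniq z ?_, hsnd⟩
    have h1 := hz.map (AlgSp.Points.continuous_map snd)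
    rw [hsnd] at h1
    exact VarietyLib.eq_of_specializes_genericPoints hw h1
  · obtain ⟨η, hη, he⟩ := hmapgen z hz
    obtain ⟨U', V', a', b', g', u', ha', hb', w', hiso, -, huniq⟩ := hover η hη
    exact ⟨U', V', a', b', g', u', ha', hb', w', (huniq z he).symm, hiso⟩

end Groth.Agent.S10437
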