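import Groth.Statements.S10438
import Groth.Agent.S10437
import Groth.Agent.AlgSpLib.IntegralBirat
import Groth.Agent.AlgSpLib.FpqcBaseIso
import Groth.Agent.AlgSpLib.FpqcCov
import Groth.Agent.AlgSpLib.FpqcBaseAffine2
import Groth.Agent.AlgSpLib.GeomReducedPt
import Groth.Agent.AlgSpLib.RepLocal
import Groth.Agent.AlgSpLib.BiratOpen
-- import your own Groth.Agent.* helpers here

set_option autoImplicit false
universe u
open CategoryTheory CategoryTheory.Limits AlgebraicGeometry Topology TopologicalSpace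
open AlgSp

namespace Groth.Agent.S10438

open Groth.Agent.AlgSpLib

variable {S : Scheme.{u}}

theorem isIso_stalkMap_of_isOpenImmersion {X Y : Scheme.{u}} (j : X ⟶ Y) [IsOpenImmersion j] (x : X) :
    IsIso (j.stalkMap x) := inferInstance

theorem generic_scheme_iff (U : Over S) (u : U.left) :
    AlgSp.Points.ofScheme U u ∈ genericPoints (AlgSp.Points ((AlgSp.yon S).obj U)) ↔
      closure {u} ∈ irreducibleComponents (U.left : Type u) := by
  have h := Birat.generic_iff (F := (⟨_, AlgSp.IsAlgSpace.yon_obj U⟩ : AlgSp.Space S)) (isDecent_yon U) (𝟙 _)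
    (repWith_of_isIso _ (𝟙 _)) u
  rw [AlgSp.Points.ofPt_eq_map_ofScheme, AlgSp.Points.map_id] at h
  exact h

/-- a birational morphism of schemes in the sense of spaces -/
theorem scheme_birat {U V : Over S} (g : U ⟶ V)
    (hf : W4stk3decentspacesp2.IsBirational ((AlgSp.yon S).map g)) :
    Set.BijOn (fun x : U.left => g.left.base x) {u | closure {u} ∈ irreducibleComponents (U.left : Type u)}
      {v | closure {v} ∈ irreducibleComponents (V.left : Type u)} ∧
    ∀ u : U.left, closure {u} ∈ irreducibleComponents (U.left : Type u) → IsIso (g.left.stalkMap u) := by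
  refine ⟨⟨fun u hu => ?_, fun u hu u' hu' e => ?_, fun v hv => ?_⟩, fun u hu => ?_⟩
  · have := hf.bijOn.mapsTo ((generic_scheme_iff U u).2 hu)
    rw [map_yon_map_ofScheme] at this
    exact (generic_scheme_iff V _).1 this
  · refine (AlgSp.Points.schemeHomeo U).injective (hf.bijOn.injOn ((generic_scheme_iff U u).2 hu)
      ((generic_scheme_iff U u').2 hu') ?_)
    exact (map_yon_map_ofScheme g u).trans ((congrArg _ e).trans (map_yon_map_ofScheme g u').symm)
  · obtain ⟨z, hz, hzv⟩ := hf.bijOn.surjOn ((generic_scheme_iff V v).2 hv)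
    obtain ⟨u, rfl⟩ := (AlgSp.Points.schemeHomeo U).surjective z
    exact ⟨u, (generic_scheme_iff U u).1 hz,
      (AlgSp.Points.schemeHomeo V).injective ((map_yon_map_ofScheme g u).symm.trans hzv)⟩
  · obtain ⟨U₁, V₁, a, b, g₁, u₁, ha, hb, w, hu₁, hiso⟩ := hf.stalkIso _ ((generic_scheme_iff U u).2 hu)
    obtain ⟨α, rfl⟩ := (AlgSp.yon S).map_surjective a
    obtain ⟨β, rfl⟩ := (AlgSp.yon S).map_surjective b
    haveI : IsOpenImmersion α.left := (AlgSp.repWith_yon_map_iff _ _).1 ha
    haveI : IsOpenImmersion β.left := (AlgSp.repWith_yon_map_iff _ _).1 hb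
    have e : α ≫ g = g₁ ≫ β := (AlgSp.yon S).map_injective (by rw [Functor.map_comp, Functor.map_comp, w])
    have eu : α.left u₁ = u := by
      refine (AlgSp.Points.schemeHomeo U).injective ?_
      refine Eq.trans ?_ hu₁
      rw [AlgSp.Points.ofPt_eq_map_ofScheme, map_yon_map_ofScheme]
      rfl
    subst eu
    have hb1 : IsIso (β.left.stalkMap (g₁.left u₁)) :=
      haveI : IsOpenImmersion β.left := (AlgSp.repWith_yon_map_iff _ _).1 hb
      isIso_stalkMap_of_isOpenImmersion _ _
    have hc : IsIso ((g₁.left ≫ β.left).stalkMap u₁) := by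
      rw [Scheme.Hom.stalkMap_comp]; exact IsIso.comp_isIso' hb1 hiso
    rw [show g₁.left ≫ β.left = α.left ≫ g.left from congrArg (fun k => k.left) e.symm,
      Scheme.Hom.stalkMap_comp] at hc
    haveI hpi : IsIso (α.left.stalkMap u₁) := inferInstance
    exact @IsIso.of_isIso_comp_right _ _ _ _ _ _ (α.left.stalkMap u₁) hpi hc

/-- Take decent algebraic spaces X and Y over a scheme S, each with only finitely many irreducible
components in its space of points, and f : X ⟶ Y integral as well as birational. If Y is normal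
while X is reduced, f is an isomorphism. -/
theorem result {S : Scheme.{u}} {X Y : AlgSp.Space S} (f : X ⟶ Y)
    (hX : AlgSp.IsDecent X.obj) (hY : AlgSp.IsDecent Y.obj)
    (hXf : (irreducibleComponents (AlgSp.Points X.obj)).Finite)
    (hYf : (irreducibleComponents (AlgSp.Points Y.obj)).Finite)
    (hi : AlgSp.IsIntegralMor f.hom) (hf : W4stk3decentspacesp2.IsBirational f.hom)
    (hYn : AlgSp.EtaleLocally (fun T => ∀ t : ↥T, IsDomain ↥(T.presheaf.stalk t) ∧
      IsIntegrallyClosed ↥(T.presheaf.stalk t)) Y.obj)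
    (hXr : AlgSp.EtaleLocally (fun T => IsReduced T) X.obj) : IsIso f.hom := by
  classical
  obtain ⟨V₀, b₀, hbe, hbs, hn⟩ := hYn
  let ι : Type u := V₀.left.affineOpens
  let g : ∀ O : ι, (AlgSp.yon S).obj (restrictOver V₀ O.1) ⟶ Y.obj := fun O =>
    (AlgSp.yon S).map (restrictOverι V₀ O.1) ≫ b₀
  have hge : ∀ O, AlgSp.RepWith @Etale (g O) := fun O =>
    RepWith.comp ((AlgSp.repWith_yon_map_iff (P := @Etale) _).2 inferInstance) hbe
  have hVa : ∀ O : ι, AlgSp.IsAlgSpace ((AlgSp.yon S).obj (restrictOver V₀ O.1)) := fun O => AlgSp.IsAlgSpace.yon_obj _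
  have hcov : AlgSp.IsFppfCover (fun O : ι => (AlgSp.yon S).obj (restrictOver V₀ O.1)) g := by
    refine ⟨fun O => ⟨locP_of_repWith etLocal_flat (hVa O)
        (RepWith.mono (fun _ _ q (_ : Etale q) => (inferInstance : Flat q)) (hge O)),
      locP_of_repWith etLocal_lfp (hVa O)
        (RepWith.mono (fun _ _ q (_ : Etale q) => (inferInstance : LocallyOfFinitePresentation q)) (hge O))⟩,
      fun y => ?_⟩
    obtain ⟨v, rfl⟩ := surjective_ofPt b₀ hbs y
    obtain ⟨O, hvO, -⟩ := exists_affine_mem (O := ⊤) (x := v) trivial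
    obtain ⟨v', hv'⟩ : v ∈ Set.range (restrictOverι V₀ O.1).left := by rw [range_restrictOverι]; exact hvO
    refine ⟨O, AlgSp.Points.ofScheme (restrictOver V₀ O.1) v', ?_⟩
    rw [← AlgSp.Points.ofPt_eq_map_ofScheme, ofPt_map, hv']
  have hr : AlgSp.Representable f.hom := ((isIntegralMor_iff_repWith f.hom).1 hi).1
  let Q : ι → AlgSp.Sp S := fun O => (AlgSp.yon S).obj (hr.pullback (g O))
  have sq : ∀ O, IsPullback (hr.fst (g O)) ((AlgSp.yon S).map (hr.snd (g O))) f.hom (g O) := fun O => hr.isPullback _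
  refine ((isLocalOnBase_fpqc_isomorphisms (S := S)) _ g Y.property hVa
    (isFpqcCover_of_isFppfCover Y.property hVa hcov) f.hom X.property Q (fun O => (AlgSp.yon S).map (hr.snd (g O)))
    (fun O => hr.fst (g O)) (fun O => AlgSp.IsAlgSpace.yon_obj _) sq).2 fun O => ?_
  haveI : IsAffine (restrictOver V₀ O.1).left := O.2
  obtain ⟨-, hPf, hVf, hbir⟩ := Groth.Agent.S10437.result f hX hY hXf hYf hf (g O) (hge O) _ _ (sq O)
  obtain ⟨hbij, hiso⟩ := scheme_birat (hr.snd (g O)) hbir
  haveI : IsIntegralHom (hr.snd (g O)).left := ((isIntegralMor_iff_repWith f.hom).1 hi).property_snd (g O)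
  haveI : IsReduced (hr.pullback (g O)).left :=
    isReduced_of_etaleLocally hXr (hr.fst (g O)) (RepWith.baseChange (sq O).flip (hge O))
  have hVf' : (irreducibleComponents ((restrictOver V₀ O.1).left : Type u)).Finite :=
    finite_irreducibleComponents_of_isOpenEmbedding (AlgSp.Points.schemeHomeo (restrictOver V₀ O.1)).isOpenEmbedding hVf
  haveI : IsIso (hr.snd (g O)).left := IntegralBirat.isIso_of_finite_components (hr.snd (g O)).left hVf'
    (fun v => by
      obtain ⟨h1, h2⟩ := hn ((restrictOverι V₀ O.1).left v)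
      let e := (asIso ((restrictOverι V₀ O.1).left.stalkMap v)).commRingCatIsoToRingEquiv
      exact ⟨MulEquiv.isDomain_iff e.toMulEquiv |>.1 h1, IsIntegrallyClosed.of_equiv e⟩) hbij hiso
  haveI : IsIso ((Over.forget S).map (hr.snd (g O))) := ‹IsIso (hr.snd (g O)).left›
  haveI : IsIso (hr.snd (g O)) := isIso_of_reflects_iso _ (Over.forget S)
  show IsIso ((AlgSp.yon S).map (hr.snd (g O)))
  infer_instance

end Groth.Agent.S10438
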