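import Groth.Statements.S1044
import Groth.Agent.DQCoh.KoszulPunct17
-- import your own Groth.Agent.* helpers here

set_option autoImplicit false
universe u
open CategoryTheory CategoryTheory.Limits AlgebraicGeometry
attribute [local instance] HasDerivedCategory.standard
open Perf

namespace Groth.Agent.S1044

/-- Let A be a ring, f₁, …, f_r elements of A, X = Spec A, U ⊆ X the open complement of V(f₁, …, f_r)
with inclusion j, and K the perfect object of D(O_X) associated with the Koszul complex on f₁, …,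
f_r. Assuming Rj_* exists (and tilde is recorded as exact), for E ∈ D(O_X) with quasi-coherent
cohomology sheaves the following are equivalent: E is of the form Rj_*M for some M ∈ D_QCoh(O_U)
(equivalently E = Rj_*(E|_U)); every morphism K[n] ⟶ E, n ∈ ℤ, is zero. -/
theorem result (A : Type u) [CommRing A] (fs : List A) [PreservesFiniteLimits (tilde.functor (CommRingCat.of A))]
    [DCoh.HasRpush (LocCoh.puncturedOpen A (Ideal.span {a | a ∈ fs})).ι]
    (E : DCoh.D (Spec (CommRingCat.of A))) (hE : DCoh.IsQCohD E) :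
    (∃ M : DCoh.D (LocCoh.puncturedOpen A (Ideal.span {a | a ∈ fs}) : Scheme.{u}), DCoh.IsQCohD M ∧
        Nonempty (E ≅ (DCoh.Rpush (LocCoh.puncturedOpen A (Ideal.span {a | a ∈ fs})).ι).obj M)) ↔
    ∀ (n : ℤ) (φ : ((DCoh.tildeD (CommRingCat.of A)).obj (DerivedCategory.Q.obj (Koszul.koszul A fs)))⟦n⟧ ⟶ E), φ = 0 := by
  classical
  haveI := Groth.Agent.DCat.PullPerf.preservesFiniteLimits_restrict (Groth.Agent.DQCoh.KosPunct.U A fs).ι
  obtain ⟨adj, hadj⟩ := Groth.Agent.Dual22Lib.AdjGeom.exists_adj (Groth.Agent.DQCoh.KosPunct.U A fs).ι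
  constructor
  · rintro ⟨M, -, ⟨e⟩⟩ n φ
    rw [← cancel_mono e.hom, zero_comp]
    exact (adj.homEquiv _ _).symm.injective ((Groth.Agent.Dual22Lib.PerfSupp.killed_shift _
      ((Groth.Agent.DQCoh.KosPunct.killed_iff_tors _).2 (Groth.Agent.DRingLib.KosHom.tors_K fs)) n).eq_of_src _ _)
  · intro h
    obtain ⟨MN, ME, g, eE, δ, hM, hT⟩ := Groth.Agent.DQCoh.KosPunct.exists_fibre adj E hE
    have hz : IsZero ((DCoh.tildeD (CommRingCat.of A)).obj MN) :=
      Groth.Agent.DCat.SuppOpen.isZero_of_hd _ fun i => Groth.Agent.DQCoh.KosPunct.isZero_HD_tilde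
        (Groth.Agent.DQCoh.KosPunct.isZero_H_of_orth hM i
          ((Groth.Agent.DQCoh.KosPunct.orth_iff adj hT i).1 (h (-i))))
    haveI : IsIso (adj.unit.app E) := (Pretriangulated.Triangle.isZero₁_iff_isIso₂ _ hT).1 hz
    exact ⟨_, Groth.Agent.Dual22Lib.AdjGeom.isQCohD_restrictD _ hE, ⟨asIso (adj.unit.app E)⟩⟩

end Groth.Agent.S1044

#print axioms Groth.Agent.S1044.result
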