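import Groth.Statements.S10441
import Groth.Agent.AlgSpLib.ElemBranches
-- import your own Groth.Agent.* helpers here

set_option autoImplicit false
universe u
open CategoryTheory CategoryTheory.Limits AlgebraicGeometry Topology TopologicalSpace
open AlgSp

namespace Groth.Agent.S10441

open Groth.Agent.AlgSpLib

/-- For a decent algebraic space X over a scheme S and x ∈ |X|, fix an elementary etale neighbourhood
(U₀, u₀) of (X, x) and a henselization R of O_{U₀, u₀} (a model of the henselian local ring at x).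
The following are equivalent: (1) O_{U, u} has exactly one minimal prime whenever (U, u) is an
elementary etale neighbourhood of (X, x); (2) a unique irreducible component of U passes through u
for all such (U, u); (3) O_{U, u} is unibranch for all such (U, u); (4) R has exactly one minimal
prime. -/
theorem result {S : Scheme.{u}} (X : AlgSp.Space S)
    (hX : AlgSp.IsDecent X.obj) (x : AlgSp.Points X.obj) {U₀ : Over S}
    (a₀ : (AlgSp.yon S).obj U₀ ⟶ X.obj) (u₀ : ↥U₀.left) (h₀ : AlgSp.IsElemEtaleNbhd a₀ u₀ x)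
    (R : Type u) [CommRing R] [IsLocalRing R] [Algebra ↥(U₀.left.presheaf.stalk u₀) R]
    [IsLocalHom (algebraMap ↥(U₀.left.presheaf.stalk u₀) R)] [Hensel.IsHenselization ↥(U₀.left.presheaf.stalk u₀) R] :
    ((∀ (U : Over S) (a : (AlgSp.yon S).obj U ⟶ X.obj) (u : ↥U.left), AlgSp.IsElemEtaleNbhd a u x →
        CAlgX.HasUniqueMinimalPrime ↥(U.left.presheaf.stalk u)) ↔
      (∀ (U : Over S) (a : (AlgSp.yon S).obj U ⟶ X.obj) (u : ↥U.left), AlgSp.IsElemEtaleNbhd a u x →
        {Z : Set ↥U.left | Z ∈ irreducibleComponents ↥U.left ∧ u ∈ Z}.encard = 1)) ∧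
    ((∀ (U : Over S) (a : (AlgSp.yon S).obj U ⟶ X.obj) (u : ↥U.left), AlgSp.IsElemEtaleNbhd a u x →
        {Z : Set ↥U.left | Z ∈ irreducibleComponents ↥U.left ∧ u ∈ Z}.encard = 1) ↔
      (∀ (U : Over S) (a : (AlgSp.yon S).obj U ⟶ X.obj) (u : ↥U.left), AlgSp.IsElemEtaleNbhd a u x →
        CAlg2.IsUnibranch ↥(U.left.presheaf.stalk u))) ∧
    ((∀ (U : Over S) (a : (AlgSp.yon S).obj U ⟶ X.obj) (u : ↥U.left), AlgSp.IsElemEtaleNbhd a u x →
        CAlg2.IsUnibranch ↥(U.left.presheaf.stalk u)) ↔ CAlgX.HasUniqueMinimalPrime R) := by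
  have hmp : ∀ (U : Scheme.{u}) (u : U), CAlgX.HasUniqueMinimalPrime ↥(U.presheaf.stalk u) ↔
      {Z : Set ↥U | Z ∈ irreducibleComponents ↥U ∧ u ∈ Z}.encard = 1 := fun U u => by
    rw [encard_components_eq_minimalPrimes_stalk, Set.encard_eq_one]
    constructor
    · rintro ⟨p, hp, hu⟩
      exact ⟨p, Set.eq_singleton_iff_unique_mem.2 ⟨hp, hu⟩⟩
    · rintro ⟨p, hp⟩
      exact ⟨p, hp.ge rfl, fun q hq => Set.mem_singleton_iff.1 (hp.le hq)⟩
  have key := bounded_attained_iff_numBranchesAt X hX x 1 le_rfl a₀ u₀ h₀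
  have hle1 : ∀ {T : Scheme.{u}} (t : T), {Z : Set ↥T | Z ∈ irreducibleComponents ↥T ∧ t ∈ Z}.encard = 1 →
      {Z : Set ↥T | Z ∈ irreducibleComponents ↥T ∧ t ∈ Z}.encard ≤ ((1 : ℕ) : ℕ∞) := fun t h => by
    rw [h, Nat.cast_one]
  have hC : (∀ (U : Over S) (a : (AlgSp.yon S).obj U ⟶ X.obj) (u : ↥U.left), AlgSp.IsElemEtaleNbhd a u x →
        {Z : Set ↥U.left | Z ∈ irreducibleComponents ↥U.left ∧ u ∈ Z}.encard = 1) ↔
      Brnch.numBranchesAt U₀.left u₀ = 1 := by
    constructor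
    · intro h
      refine (key.1 ⟨fun U a u hu => hle1 u (h U a u hu), U₀, a₀, u₀, h₀, ?_⟩).trans Nat.cast_one
      exact (h U₀ a₀ u₀ h₀).trans Nat.cast_one.symm
    · intro h U a u hu
      refine le_antisymm ?_ (one_le_components u)
      exact ((key.2 (h.trans Nat.cast_one.symm)).1 U a u hu).trans Nat.cast_one.le
  refine ⟨?_, ?_, ?_⟩
  · exact forall_congr' fun U => forall_congr' fun a => forall_congr' fun u => imp_congr_right fun _ => hmp U.left u
  · rw [hC]
    constructor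
    · intro h U a u hu
      exact (Groth.Agent.Unibr10.numBranches_eq_one_iff _).1 ((numBranchesAt_eq_of_elem X hX x a u a₀ u₀ hu h₀).trans h)
    · intro h
      exact (Groth.Agent.Unibr10.numBranches_eq_one_iff ↥(U₀.left.presheaf.stalk u₀)).2 (h U₀ a₀ u₀ h₀)
  · have hR : (minimalPrimes R).encard = Brnch.numBranchesAt U₀.left u₀ :=
      Groth.Agent.EGA43.BranchCount.numBranches_eq (A := ↥(U₀.left.presheaf.stalk u₀)) R
    have hR1 : CAlgX.HasUniqueMinimalPrime R ↔ (minimalPrimes R).encard = 1 := by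
      rw [Set.encard_eq_one]
      constructor
      · rintro ⟨p, hp, hu⟩
        exact ⟨p, Set.eq_singleton_iff_unique_mem.2 ⟨hp, hu⟩⟩
      · rintro ⟨p, hp⟩
        exact ⟨p, hp.ge rfl, fun q hq => Set.mem_singleton_iff.1 (hp.le hq)⟩
    rw [hR1, hR]
    constructor
    · intro h
      exact (Groth.Agent.Unibr10.numBranches_eq_one_iff ↥(U₀.left.presheaf.stalk u₀)).2 (h U₀ a₀ u₀ h₀)
    · intro h U a u hu
      exact (Groth.Agent.Unibr10.numBranches_eq_one_iff _).1 ((numBranchesAt_eq_of_elem X hX x a u a₀ u₀ hu h₀).trans h)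

end Groth.Agent.S10441
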