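import Groth.Statements.S10444
import Groth.Agent.AlgSpLib.FibreConditions
-- import your own Groth.Agent.* helpers here

set_option autoImplicit false
universe u
open CategoryTheory CategoryTheory.Limits AlgebraicGeometry Topology TopologicalSpace
open AlgSp

namespace Groth.Agent.S10444

/-- Take f : X ⟶ Y locally of finite type between algebraic spaces over a scheme S, a field-valued point
Spec k ⟶ Y whose class y ∈ |Y| lies in the image of |f|, the fibre product X_k = Spec k ×_Y X, and
the fibre F = |f|⁻¹(y) ⊆ |X| with the induced topology. Numbering the conditions (1) F finite, (2) F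
discrete, (3) dim F = 0, (4) |X_k| finite, (5) |X_k| discrete, (6) dim |X_k| = 0, (7) dim X_k = 0,
(8) f quasi-finite at all points over y: (5) ⇔ (7) ⇔ (8); (5) ⇒ (6), with the converse when X_k is
decent; (4) ⇒ (5) when X_k is decent; (4) ⇒ (1); (2) ⇒ (3); if Y is decent then (2) ⇔ (5); if X and
Y are decent then (3) ⇒ (2) and (1) ⇒ (2). (The published statement asserts (5) ⇔ (6) for every f
and (2) ⇔ (3) whenever Y is decent, and does not exclude an empty fibre; for the quotient of the
affine line over a field of characteristic zero by an infinite cyclic group of translations, mapping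
to the point, the space of points is infinite and indiscrete, so (3) and (6) hold while (2) and (5)
fail, and for y outside the image (5) holds while (6) and (7) fail; hence the decency hypotheses on
those two converses and the hypothesis that y is in the image. Finiteness of |X_k| for an arbitrary
field k in the class of y is not derived here from (1).) -/
theorem result {S : Scheme.{u}} {X Y : AlgSp.Space S} (f : X ⟶ Y)
    (hf : AlgSp.LocP @LocallyOfFiniteType f.hom) (r : AlgSp.FieldPt Y.obj)
    (hy : AlgSp.Points.mk r ∈ Set.range (AlgSp.Points.map f.hom)) (Xk : AlgSp.Space S) (fst : Xk ⟶ X)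
    (snd : Xk.obj ⟶ (AlgSp.yon S).obj r.pt) (hsq : IsPullback fst.hom snd f.hom r.toHom) :
    (DiscreteTopology (AlgSp.Points Xk.obj) ↔ AlgSp.dim Xk.obj = 0) ∧
    (AlgSp.dim Xk.obj = 0 ↔
      ∀ x : AlgSp.Points X.obj, AlgSp.Points.map f.hom x = AlgSp.Points.mk r → AlgSp.HasAtMor (fun U _ h u => ∃ W : U.Opens, u ∈ W ∧ LocallyQuasiFinite (W.ι ≫ h) ∧ LocallyOfFiniteType (W.ι ≫ h)) f.hom x) ∧
    (DiscreteTopology (AlgSp.Points Xk.obj) → topologicalKrullDim (AlgSp.Points Xk.obj) = 0) ∧
    (AlgSp.IsDecent Xk.obj → topologicalKrullDim (AlgSp.Points Xk.obj) = 0 →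
      DiscreteTopology (AlgSp.Points Xk.obj)) ∧
    (AlgSp.IsDecent Xk.obj → Finite (AlgSp.Points Xk.obj) → DiscreteTopology (AlgSp.Points Xk.obj)) ∧
    (Finite (AlgSp.Points Xk.obj) → (AlgSp.Points.map f.hom ⁻¹' {AlgSp.Points.mk r}).Finite) ∧
    (DiscreteTopology ↥(AlgSp.Points.map f.hom ⁻¹' {AlgSp.Points.mk r}) → topologicalKrullDim ↥(AlgSp.Points.map f.hom ⁻¹' {AlgSp.Points.mk r}) = 0) ∧
    (AlgSp.IsDecent Y.obj → (DiscreteTopology ↥(AlgSp.Points.map f.hom ⁻¹' {AlgSp.Points.mk r}) ↔ DiscreteTopology (AlgSp.Points Xk.obj))) ∧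
    (AlgSp.IsDecent Y.obj → AlgSp.IsDecent X.obj →
      (topologicalKrullDim ↥(AlgSp.Points.map f.hom ⁻¹' {AlgSp.Points.mk r}) = 0 → DiscreteTopology ↥(AlgSp.Points.map f.hom ⁻¹' {AlgSp.Points.mk r})) ∧
        ((AlgSp.Points.map f.hom ⁻¹' {AlgSp.Points.mk r}).Finite → DiscreteTopology ↥(AlgSp.Points.map f.hom ⁻¹' {AlgSp.Points.mk r}))) := by
  open Groth.Agent.AlgSpLib in
  have hP := Xk.property
  have hl : AlgSp.LocP @LocallyOfFiniteType snd :=
    locP_of_isPullback etLocal_lft X.property Y.property hP hsq hf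
  obtain ⟨x₀, hx₀⟩ := hy
  obtain ⟨z₀, hz₀, -⟩ := exists_point_of_isPullback hsq (x := x₀)
    (y := AlgSp.Points.ofScheme r.pt (IsLocalRing.closedPoint r.K)) (by rw [map_mk_point, hx₀])
  have : Nonempty (AlgSp.Points Xk.obj) := ⟨z₀⟩
  have nonneg : ∀ {P : AlgSp.Sp S}, AlgSp.IsAlgSpace P → Nonempty (AlgSp.Points P) → 0 ≤ AlgSp.dim P := by
    intro P hP' hne
    obtain ⟨W, a, hae, has⟩ := hP'.atlas
    obtain ⟨w, -⟩ := surjective_ofPt a has (Classical.arbitrary (AlgSp.Points P))
    have : Nonempty ↥W.left := ⟨w⟩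
    rw [dim_eq_atlas hP' a hae has, DimLib.topologicalKrullDim_eq_krullDim]
    exact Order.krullDim_nonneg
  have top0 : ∀ {A : Type _} [TopologicalSpace A] [Nonempty A], DiscreteTopology A → topologicalKrullDim A = 0 := by
    intro A _ _ _
    refine le_antisymm (topologicalKrullDim_zero_of_discreteTopology _) ?_
    have : Nonempty (TopologicalSpace.IrreducibleCloseds A) :=
      ⟨⟨closure {Classical.arbitrary A}, isIrreducible_singleton.closure, isClosed_closure⟩⟩
    exact Order.krullDim_nonneg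
  obtain ⟨s1, -, s3⟩ := space_conditions_field hP snd hl
  have h0 : AlgSp.dim Xk.obj ≤ 0 ↔ AlgSp.dim Xk.obj = 0 := ⟨fun h => le_antisymm h (nonneg hP ⟨z₀⟩), fun h => h.le⟩
  have c1 := fibre_conditions X.property Y.property hf r hsq
  refine ⟨s1.trans h0, (s1.trans h0).symm.trans c1, fun h => top0 h, ?_, fun hd hfin => s1.2 (s3 hd hfin), ?_,
    ?_, fun hd => ?_, fun hdY hdX => ?_⟩
  · intro hd h
    rw [topologicalKrullDim_points hP hd] at h
    exact (s1.trans h0).2 h
  · intro hfin
    refine (Set.finite_range (AlgSp.Points.map fst.hom)).subset fun x hx => ?_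
    obtain ⟨z, hz, -⟩ := exists_point_of_isPullback hsq (x := x)
      (y := AlgSp.Points.ofScheme r.pt (IsLocalRing.closedPoint r.K))
      (by rw [map_mk_point]; exact hx)
    exact ⟨z, hz⟩
  · intro h
    have : Nonempty ↥(AlgSp.Points.map f.hom ⁻¹' {AlgSp.Points.mk r}) := ⟨⟨x₀, hx₀⟩⟩
    exact top0 h
  · obtain ⟨p, X₀, fst₀, snd₀, e, hp, sq₀, -, -⟩ :=
      exists_homeo_fibre X.property Y.property hd f.hom (AlgSp.Points.mk r)
    have c0 := fibre_conditions X.property Y.property hf p sq₀
    rw [hp] at c0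
    rw [c1, ← c0]
    exact ⟨fun h => e.symm.discreteTopology, fun h => e.discreteTopology⟩
  · obtain ⟨p, X₀, fst₀, snd₀, e, hp, sq₀, hr₀, -⟩ :=
      exists_homeo_fibre X.property Y.property hdY f.hom (AlgSp.Points.mk r)
    have hP₀ := isAlgSpace_of_isPullback Y.property.diag X.property (AlgSp.IsAlgSpace.yon_obj p.pt) sq₀
    have hl₀ := locP_of_isPullback etLocal_lft X.property Y.property hP₀ sq₀ hf
    obtain ⟨t1, -, t3⟩ := space_conditions_field hP₀ snd₀ hl₀
    have hd₀ := isDecent_of_representable' hr₀ hdX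
    refine ⟨fun h => ?_, fun h => ?_⟩
    · rw [← IsHomeomorph.topologicalKrullDim_eq _ e.isHomeomorph, topologicalKrullDim_points hP₀ hd₀] at h
      have := t1.2 h.le
      exact e.discreteTopology
    · have : Finite ↥(AlgSp.Points.map f.hom ⁻¹' {AlgSp.Points.mk r}) := h.to_subtype
      have := t1.2 (t3 hd₀ (Finite.of_equiv _ e.toEquiv.symm))
      exact e.discreteTopology

end Groth.Agent.S10444
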