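import Groth.Statements.S10446
import Groth.Agent.AlgSpLib.FibreQF
import Groth.Agent.AlgSpLib.MorMore3
import Groth.Agent.AlgSpLib.MorProper
import Groth.Agent.AlgSpLib.FiniteOverOpen
import Groth.Agent.AlgSpLib.PointsCompact
import Groth.Agent.AlgSpLib.DecentPoints
-- import your own Groth.Agent.* helpers here

set_option autoImplicit false
universe u
open CategoryTheory CategoryTheory.Limits AlgebraicGeometry Topology TopologicalSpace
open AlgSp

namespace Groth.Agent.S10446

set_option backward.isDefEq.respectTransparency.types false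

/-- (1) ⇔ (3): let S be a scheme with quasi-separated underlying space, f : X ⟶ Y a quasi-separated
morphism of algebraic spaces over S that is locally of finite type, with Y quasi-separated over S,
and y ∈ |Y| a point of codimension 0. Then |f|⁻¹(y) is finite if and only if f restricts to a finite
morphism X' ⟶ Y' between an open subspace X' of X containing the whole fibre |f|⁻¹(y) and an open
subspace Y' of Y through y. (The published statement assumes Y quasi-separated in the absolute
sense; this row assumes S has quasi-separated underlying space and Y quasi-separated over S. Its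
condition on the finiteness of |Spec k ×_Y X| is not part of this row.) -/
theorem result {S : Scheme.{u}} [QuasiSeparatedSpace ↥S] {X Y : AlgSp.Space S}
    (f : X ⟶ Y) (hqs : AlgSp.IsQuasiSeparatedMor f.hom) (hft : AlgSp.LocP @LocallyOfFiniteType f.hom)
    (hY : AlgSp.IsQuasiSeparatedSp Y.obj) (y : AlgSp.Points Y.obj)
    (hy : AlgSp.HasAt (fun U u => ringKrullDim ↥(U.presheaf.stalk u) = 0) Y.obj y) :
    (AlgSp.Points.map f.hom ⁻¹' {y}).Finite ↔
      ∃ (X' Y' : AlgSp.Space S) (i : X' ⟶ X) (j : Y' ⟶ Y) (f' : X' ⟶ Y'), AlgSp.RepWith @IsOpenImmersion i.hom ∧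
        AlgSp.RepWith @IsOpenImmersion j.hom ∧ f' ≫ j = i ≫ f ∧ y ∈ Set.range (AlgSp.Points.map j.hom) ∧
          AlgSp.Points.map f.hom ⁻¹' {y} ⊆ Set.range (AlgSp.Points.map i.hom) ∧ AlgSp.IsFiniteMor f'.hom := by
  open Groth.Agent.AlgSpLib in
  constructor
  · intro hfin
    choose B hBo hBc hBm _ using fun z : Points X.obj =>
      exists_isOpen_isCompact_nhd X.property (x := z) isOpen_univ trivial
    let O : Set (Points X.obj) := ⋃ z ∈ hfin.toFinset, B z
    have hO : IsOpen O := isOpen_biUnion fun z _ => hBo z
    let X1 : Space S := ⟨openSubspace X.obj O, isAlgSpace_openSubspace X.property hO⟩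
    let i : X1 ⟶ X := ObjectProperty.homMk (openSubspaceι X.obj O)
    have hi : RepWith @IsOpenImmersion i.hom := repWith_openSubspaceι X.obj hO
    have : Mono i.hom := mono_of_repWith (fun _ _ k (_ : IsOpenImmersion k) => (inferInstance : Mono k)) hi
    have : CompactSpace (Points X1.obj) := ⟨by
      rw [(isEmbedding_map_of_immersion X.property
        (RepWith.mono (fun _ _ k (_ : IsOpenImmersion k) => (inferInstance : IsImmersion k)) hi)).1.isCompact_iff,
        Set.image_univ, show Set.range (Points.map i.hom) = O from range_openSubspaceι X.obj O]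
      exact hfin.toFinset.isCompact_biUnion fun z _ => hBc z⟩
    have hie : RepWith @Etale i.hom :=
      RepWith.mono (fun _ _ k (_ : IsOpenImmersion k) => (inferInstance : Etale k)) hi
    have hl1 : LocP @LocallyOfFiniteType (i ≫ f).hom := fun U V a b h ha hb w =>
      hft (a ≫ i.hom) b h (RepWith.comp ha hie) hb ((Category.assoc _ _ _).trans w)
    have hq1 : IsQuasiSeparatedMor (i ≫ f).hom :=
      isQuasiSeparatedMor_comp (isQuasiSeparatedMor_of_mono i.hom) hqs
    have hc1 : IsQuasiCompactMor (i ≫ f).hom := isQuasiCompactMor_of_qc_qs X1.property Y.property _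
      ((isQuasiCompactSp_iff_compactSpace X1.property).2 inferInstance) hY
    obtain ⟨p, hp, hm, -⟩ := isDecent_of_qsep Y.property hY y
    have hqf : ∀ x, Points.map (i ≫ f).hom x = y →
        HasAtMor (fun U _ h u => ∃ W : U.Opens, u ∈ W ∧ LocallyQuasiFinite (W.ι ≫ h) ∧
          LocallyOfFiniteType (W.ι ≫ h)) (i ≫ f).hom x := fun x hx => by
      have sq := IsPullback.of_hasPullback (i ≫ f).hom p.toHom
      have : Mono (pullback.fst (i ≫ f).hom p.toHom) :=
        ⟨fun g₁ g₂ h => sq.hom_ext h ((cancel_mono p.toHom).1 (by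
          rw [Category.assoc, Category.assoc, ← sq.w, reassoc_of% h]))⟩
      have hF : Finite (Points (pullback (i ≫ f).hom p.toHom)) := by
        have := hfin.to_subtype
        refine Finite.of_injective (β := ↥(Points.map f.hom ⁻¹' {y}))
          (fun z => ⟨Points.map i.hom (Points.map (pullback.fst (i ≫ f).hom p.toHom) z), ?_⟩)
          fun z z' e => injective_map_of_mono _ (injective_map_of_mono i.hom (congrArg Subtype.val e))
        show Points.map f.hom (Points.map i.hom _) = y
        rw [← Points.map_comp, ← Points.map_comp]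
        erw [sq.w]
        rw [Points.map_comp, map_eq_ptOfHom, ptOfHom_toHom, hp]
      exact lqf_of_finite_field_fibre X1.property Y.property hl1 hq1 p sq hF (hx.trans hp.symm)
    obtain ⟨Y', X', j, fst, snd, hj, hyj, sq, hf'⟩ := exists_finite_nhd_qf (i ≫ f) hq1 ⟨hl1, hc1⟩ y hy hqf
    refine ⟨X', Y', snd ≫ i, j, fst, RepWith.comp (RepWith.baseChange sq hj) hi, hj,
      ObjectProperty.hom_ext _ ?_, hyj, ?_, hf'⟩
    · exact sq.w.trans (Category.assoc _ _ _).symm
    · intro x hx
      obtain ⟨x1, rfl⟩ : x ∈ Set.range (Points.map i.hom) := by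
        rw [show Set.range (Points.map i.hom) = O from range_openSubspaceι X.obj O]
        exact Set.mem_biUnion (hfin.mem_toFinset.2 hx) (hBm x)
      obtain ⟨y', hy'⟩ := hyj
      obtain ⟨z, -, hz⟩ := exists_point_of_isPullback sq (x := y') (y := x1)
        (hy'.trans ((Points.map_comp i.hom f.hom x1).trans hx).symm)
      exact ⟨z, (Points.map_comp snd.hom i.hom z).trans (congrArg _ hz)⟩
  · rintro ⟨X', Y', i, j, f', hi, hj, w, ⟨y', rfl⟩, hsub, hf'⟩
    have : Mono j.hom := mono_of_repWith (fun _ _ k (_ : IsOpenImmersion k) => (inferInstance : Mono k)) hj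
    obtain ⟨K, _, str, r, hr⟩ := exists_ptOfHom y'
    have hT : IsAffine (Over.mk str).left := inferInstanceAs (IsAffine (Spec (CommRingCat.of K)))
    obtain ⟨W, q, e, sq, -, hq⟩ := hf' hT r
    have : IsFinite q.left := hq
    have hW : Finite ↥W.left := Set.finite_univ_iff.1
      ((q.left.finite_preimage_singleton (IsLocalRing.closedPoint K)).subset fun v _ =>
        (inferInstance : Subsingleton ↥(Spec (CommRingCat.of K))).elim _ _)
    refine ((Set.finite_range (fun v : ↥W.left => Points.map i.hom (Points.ofPt e v))).subset ?_)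
    intro x hx
    obtain ⟨x', rfl⟩ := hsub hx
    have hx' : Points.map f'.hom x' = y' := injective_map_of_mono j.hom (by
      rw [← Points.map_comp, show f'.hom ≫ j.hom = i.hom ≫ f.hom from congrArg (fun t => t.hom) w,
        Points.map_comp]
      exact hx)
    obtain ⟨z, hz, -⟩ := exists_point_of_isPullback sq (x := x')
      (y := Points.ofScheme (Over.mk str) (IsLocalRing.closedPoint K)) (by rw [hx', ← hr, map_eq_ptOfHom])
    obtain ⟨v, rfl⟩ := (Points.schemeEquiv _).surjective z
    exact ⟨v, congrArg (Points.map i.hom) ((Points.ofPt_eq_map_ofScheme e v).trans hz)⟩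

end Groth.Agent.S10446
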