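import Groth.Statements.S1045
import Groth.Agent.DQCoh.KoszulPower17
-- import your own Groth.Agent.* helpers here

set_option autoImplicit false
universe u
open CategoryTheory CategoryTheory.Limits AlgebraicGeometry
attribute [local instance] HasDerivedCategory.standard
open Perf

namespace Groth.Agent.S1045

/-- Let A be a ring, f₁, …, f_r elements of A, X = Spec A and U ⊆ X the open complement of V(f₁, …,
f_r). Let E ∈ D(O_X) have quasi-coherent cohomology sheaves with Hⁱ(E)|_U = 0 for -r < i ≤ 0. Then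
(tilde being recorded as exact) every morphism s : O_X ⟶ E in D(O_X) factors as O_X ⟶ K_e ⟶ E for
some e ≥ 0, where K_e is the object of D(O_X) associated with the Koszul complex on f₁^e, …, f_r^e. -/
theorem result (A : Type u) [CommRing A] (fs : List A) [PreservesFiniteLimits (tilde.functor (CommRingCat.of A))]
    (E : DCoh.D (Spec (CommRingCat.of A))) (hE : DCoh.IsQCohD E)
    (hU : ∀ i : ℤ, -(fs.length : ℤ) < i → i ≤ 0 → IsZero ((DCoh.HD E i).restrict (LocCoh.puncturedOpen A (Ideal.span {a | a ∈ fs})).ι))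
    (s : DCoh.inD (Spec (CommRingCat.of A)) (Coh.structureModule (Spec (CommRingCat.of A))) ⟶ E) :
    ∃ (e : ℕ) (ψ : (DCoh.tildeD (CommRingCat.of A)).obj (DerivedCategory.Q.obj (Koszul.koszul A (fs.map (fun a => a ^ e)))) ⟶ E)
      (t : DCoh.inD (Spec (CommRingCat.of A)) (Coh.structureModule (Spec (CommRingCat.of A))) ⟶
        (DCoh.tildeD (CommRingCat.of A)).obj (DerivedCategory.Q.obj (Koszul.koszul A (fs.map (fun a => a ^ e))))),
      t ≫ ψ = s := by
  classical
  obtain ⟨hfull, -, hess⟩ := Groth.Agent.DQCoh.tildeD_main (CommRingCat.of A)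
  haveI := hfull
  obtain ⟨M, ⟨eM⟩⟩ := (hess E).1 hE
  obtain ⟨t, -, ht⟩ := Groth.Agent.DRingLib.KosHom.exists_tops fs
  obtain ⟨eO⟩ := Groth.Agent.DQCoh.KosPunct.nonempty_inD_structure (CommRingCat.of A)
  obtain ⟨e, ψ, hψ⟩ := ht M (fun f hf => by
    refine Groth.Agent.DQCoh.KosPunct.torsIn_of_restrict (fs := fs) _ (fun i hi hi' => ?_) hf
    have h0 := hU i (by have := List.length_pos_of_mem hf; omega) hi'
    exact h0.of_iso ((Scheme.Modules.restrictFunctor _).mapIso
      ((DerivedCategory.homologyFunctor _ i).mapIso eM)))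
    ((DCoh.tildeD (CommRingCat.of A)).preimage (eO.hom ≫ s ≫ eM.inv))
  refine ⟨e, (DCoh.tildeD (CommRingCat.of A)).map ψ ≫ eM.hom, eO.inv ≫ (DCoh.tildeD (CommRingCat.of A)).map (t e), ?_⟩
  have h1 := congrArg (DCoh.tildeD (CommRingCat.of A)).map hψ
  rw [Functor.map_preimage] at h1
  have h2 : (DCoh.tildeD (CommRingCat.of A)).map (t e) ≫ (DCoh.tildeD (CommRingCat.of A)).map ψ = eO.hom ≫ s ≫ eM.inv :=
    ((DCoh.tildeD (CommRingCat.of A)).map_comp (t e) ψ).symm.trans h1
  calc _ = eO.inv ≫ ((DCoh.tildeD (CommRingCat.of A)).map (t e) ≫ (DCoh.tildeD (CommRingCat.of A)).map ψ) ≫ eM.hom := by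
        simp only [Category.assoc]
    _ = eO.inv ≫ (eO.hom ≫ s ≫ eM.inv) ≫ eM.hom := congrArg (fun x => eO.inv ≫ x ≫ eM.hom) h2
    _ = s := by simp

end Groth.Agent.S1045

#print axioms Groth.Agent.S1045.result
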