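import Groth.Statements.S10450
import Groth.Agent.AlgSpLib.DenseScheme
import Groth.Agent.AlgSpLib.SheafCoprod2
import Groth.Agent.AlgSpLib.InductPrinciple
import Groth.Agent.AlgSpLib.DimBasic
import Groth.Agent.S9795
import Groth.Agent.S9797
-- import your own Groth.Agent.* helpers here

set_option autoImplicit false
universe u
open CategoryTheory CategoryTheory.Limits AlgebraicGeometry Topology TopologicalSpace
open AlgSp

namespace Groth.Agent.S10450

open Groth.Agent.AlgSpLib

theorem quasiSeparatedSpace_of_yon {S : Scheme.{u}} [QuasiSeparatedSpace S] (U : Over S)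
    (h : AlgSp.IsQuasiSeparatedSp ((AlgSp.yon S).obj U)) : QuasiSeparatedSpace U.left := by
  have e : Limits.diag ((AlgSp.yon S).obj U) =
      (AlgSp.yon S).map (prod.lift (𝟙 U) (𝟙 U)) ≫ prodComparison (AlgSp.yon S) U U := by
    apply Limits.prod.hom_ext <;> simp [← Functor.map_comp, prod.lift_fst, prod.lift_snd]
  change AlgSp.RepWith @QuasiCompact (Limits.diag _) at h
  rw [e, MorphismProperty.cancel_right_of_respectsIso (AlgSp.RepWith @QuasiCompact),
    AlgSp.repWith_yon_map_iff (P := @QuasiCompact)] at h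
  haveI : QuasiCompact (prod.lift (𝟙 U) (𝟙 U)).left := h
  have e2 : (prod.lift (𝟙 U) (𝟙 U)).left ≫ (Over.prodLeftIsoPullback U U).hom = pullback.diagonal U.hom := by
    apply pullback.hom_ext <;> simp [← Over.comp_left, prod.lift_fst, prod.lift_snd]
  haveI : QuasiSeparated U.hom := ⟨by rw [← e2]; infer_instance⟩
  exact quasiSeparatedSpace_of_quasiSeparated U.hom

theorem eq_of_specializes {S : Scheme.{u}} {X : AlgSp.Sp S} (hX : AlgSp.IsAlgSpace X)
    (hqs : AlgSp.IsQuasiSeparatedSp X) (hd : AlgSp.dim X = 0) (x y : AlgSp.Points X) (h : y ⤳ x) : y = x := by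
  obtain ⟨V, a, hae, has⟩ := hX.atlas
  obtain ⟨v, rfl⟩ := surjective_ofPt a has x
  obtain ⟨hy, -⟩ := FiniteFibres.of_mk ((isDecent_of_qsep hX hqs) y)
  obtain ⟨v', hv', rfl⟩ := exists_specializes_chart hy a hae v h
  rw [Groth.Agent.Props12.eq_of_specializes_of_dim_le_zero (by rw [← dim_eq_atlas hX a hae has, hd]) hv']

/-- Let X be a quasi-separated algebraic space of dimension 0 over a quasi-separated scheme S. Then X is
a separated scheme and every quasi-compact open of X is affine. (The published statement allows any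
base scheme S and takes X quasi-separated in the absolute sense; this row asks S to be
quasi-separated and X quasi-separated over S, which together imply absolute quasi-separatedness.) -/
theorem result {S : Scheme.{u}} [QuasiSeparatedSpace S]
    (X : AlgSp.Space S) (hqs : AlgSp.IsQuasiSeparatedSp X.obj) (hd : AlgSp.dim X.obj = 0) :
    ∃ (U : Over S) (_ : (AlgSp.yon S).obj U ≅ X.obj), U.left.IsSeparated ∧
      ∀ V : U.left.Opens, IsCompact (V : Set ↥U.left) → IsAffineOpen V := by
  classical
  have hX : AlgSp.IsAlgSpace X.obj := X.property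
  obtain ⟨W', hW'o, hW'r, hW'max⟩ := exists_largest_scheme_open hX
  have huniv : W' = Set.univ := Set.eq_univ_of_forall fun x => by
    obtain ⟨C, k, -, hk, hx⟩ := exists_affine_nbhd_of_maximal hX hqs x
      fun y hy => eq_of_specializes hX hqs hd x y hy
    exact hW'max _ k hk (isRepresentable_of_iso_yon (Iso.refl _)) hx
  obtain ⟨ε, -⟩ := Induct.exists_iso_of_range_eq (repWith_openSubspaceι _ hW'o) (repWith_of_isIso _ (𝟙 X.obj))
    (by rw [range_openSubspaceι, huniv]; exact (Set.range_eq_univ.2 fun y => ⟨y, AlgSp.Points.map_id y⟩).symm)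
  obtain ⟨U, ⟨eU⟩⟩ := exists_iso_yon_of_isRepresentable hW'r
  let e := eU ≪≫ ε
  have hdim : topologicalKrullDim U.left ≤ 0 := by
    rw [← dim_eq_atlas hX e.hom (repWith_of_isIso _ e.hom) (repWith_of_isIso _ e.hom), hd]
  haveI : QuasiSeparatedSpace U.left := quasiSeparatedSpace_of_yon U
    (Groth.Agent.Stk19b.ZarQs.isQuasiSeparatedSp_of_mono e.hom hqs)
  haveI : U.left.IsSeparated := Groth.Agent.S9795.result U.left hdim
  exact ⟨U, e, inferInstance, fun V hV => Groth.Agent.S9797.result U.left hdim V hV⟩

end Groth.Agent.S10450
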