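import Groth.Statements.S10451
import Groth.Agent.AlgSpLib.MonoArtin
import Groth.Agent.AlgSpLib.LqfScheme
import Groth.Agent.AlgSpLib.MorSep
import Groth.Agent.DimLib.Zero
import Groth.Agent.AlgSpLib.LocP
-- import your own Groth.Agent.* helpers here

set_option autoImplicit false
universe u
open CategoryTheory CategoryTheory.Limits AlgebraicGeometry Topology TopologicalSpace
open AlgSp

namespace Groth.Agent.S10451

open Groth.Agent.AlgSpLib

theorem lqf_of_discrete {k : Type u} [Field k] {X : Scheme.{u}} (f : X ⟶ Spec (CommRingCat.of k))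
    [LocallyOfFiniteType f] [DiscreteTopology ↥X] : LocallyQuasiFinite f := by
  refine (IsZariskiLocalAtSource.iff_of_openCover (P := @LocallyQuasiFinite) X.affineCover).2
    fun i => ?_
  have : DiscreteTopology ↥(X.affineCover.X i) :=
    (X.affineCover.f i).isOpenEmbedding.isEmbedding.discreteTopology
  have : Finite ↥(X.affineCover.X i) := finite_of_compact_of_discrete
  exact .of_finite_preimage_singleton _ fun _ => Set.toFinite _

/-- Let k be a field and X an algebraic space locally of finite type over k with dim X = 0. Then X is a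
separated scheme and every quasi-compact open of X is affine. -/
theorem result (k : Type u) [Field k]
    (X : AlgSp.Space (Spec (CommRingCat.of k))) (p : X.obj ⟶ (AlgSp.yon (Spec (CommRingCat.of k))).obj (Over.mk (𝟙 _)))
    (hp : AlgSp.LocP @LocallyOfFiniteType p) (hd : AlgSp.dim X.obj = 0) :
    ∃ (U : Over (Spec (CommRingCat.of k))) (_ : (AlgSp.yon (Spec (CommRingCat.of k))).obj U ≅ X.obj), U.left.IsSeparated ∧
      ∀ V : U.left.Opens, IsCompact (V : Set ↥U.left) → IsAffineOpen V := by
  have hX := X.property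
  let str : Spec (CommRingCat.of k) ⟶ Spec (CommRingCat.of k) := 𝟙 _
  have key : ∀ (W : Over (Spec (CommRingCat.of k))) (a : (AlgSp.yon _).obj W ⟶ X.obj),
      AlgSp.RepWith @Etale a → ∃ c : W ⟶ Over.mk str, a ≫ p = (AlgSp.yon _).map c ∧
        LocallyOfFiniteType c.left ∧ DiscreteTopology ↥W.left := by
    intro W a ha
    obtain ⟨c, hc⟩ := (AlgSp.yon (Spec (CommRingCat.of k))).map_surjective (a ≫ p)
    have hl : LocallyOfFiniteType c.left :=
      hp a (𝟙 _) c ha (AlgSp.repWith_id _ (Over.mk str)) (by rw [Category.comp_id, hc])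
    have hdim : topologicalKrullDim ↥W.left ≤ 0 := by
      rw [← hd]
      exact le_iSup₂_of_le W a (le_iSup_of_le ha le_rfl)
    have : LocallyOfFiniteType (X := W.left) (Y := Spec (CommRingCat.of k)) c.left := hl
    exact ⟨c, hc.symm, hl, DimLib.discreteTopology_of_dim_le_zero
      (c.left : W.left ⟶ Spec (CommRingCat.of k)) hdim⟩
  obtain ⟨W, a, hae, has⟩ := hX.atlas
  obtain ⟨c, hc, hcl, hcd⟩ := key W a hae
  have hqf : AlgSp.LocP (@LocallyQuasiFinite ⊓ @LocallyOfFiniteType) p := by
    refine locP_of_atlas etLocal_lqf hX a hae has ?_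
    rw [hc]
    have := etLocal_lqf.{u}.bc
    exact (AlgSp.repWith_yon_map_iff _ _).2
      ⟨@lqf_of_discrete k _ W.left c.left hcl hcd, hcl⟩
  have hsep : AlgSp.IsSeparatedMor p := isSeparatedMor_of_lqf_field hX p hqf
  obtain ⟨G, ⟨e⟩⟩ := exists_iso_yon_of_lqf_separated hX p hsep hqf
  obtain ⟨g, hg, hgl, hgd⟩ := key G e.hom (repWith_of_isIso _ _)
  have hgs : IsSeparated g.left := by
    refine (AlgSp.isSeparatedMor_yon_map_iff g).1 ?_
    rw [← hg]
    exact isSeparatedMor_comp (isSeparatedMor_of_mono _) hsep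
  let g' : G.left ⟶ Spec (CommRingCat.of k) := g.left
  have : IsSeparated g' := hgs
  have : LocallyOfFiniteType g' := hgl
  refine ⟨G, e, ⟨?_⟩, fun V hV => ?_⟩
  · rw [← terminal.comp_from g']
    infer_instance
  · let h := V.ι ≫ g'
    have : CompactSpace ↥(V : Scheme) := isCompact_iff_compactSpace.1 hV
    have : DiscreteTopology ↥(V : Scheme) := V.ι.isOpenEmbedding.isEmbedding.discreteTopology
    have : Finite ↥(V : Scheme) := finite_of_compact_of_discrete
    have : QuasiCompact h :=
      (HasAffineProperty.iff_of_isAffine (P := @QuasiCompact)).mpr (inferInstanceAs (CompactSpace ↥(V : Scheme)))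
    have : AlgebraicGeometry.IsFinite h := Groth.Agent.DimLib.isFinite_of_finite (k := k) h
    exact isAffine_of_isAffineHom h

end Groth.Agent.S10451
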