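import Groth.Statements.S10458
import Groth.Agent.AlgSpLib.IntegralGeneric
import Groth.Agent.AlgSpLib.RedUniv
import Groth.Agent.AlgSpLib.DecentMore
import Groth.Agent.AlgSpLib.NoethSpace
import Groth.Agent.AlgSpLib.QuasiSober
import Groth.Agent.AlgSpLib.LqfDim
import Groth.Agent.AlgSpLib.MorProper
import Groth.Agent.AlgSpLib.FtPoints
import Groth.Agent.H8Top.FiniteTypePoints
-- import your own Groth.Agent.* helpers here

set_option backward.isDefEq.respectTransparency.types false
set_option backward.isDefEq.respectTransparency false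
set_option linter.style.haveILetI false

set_option autoImplicit false
universe u
open CategoryTheory CategoryTheory.Limits AlgebraicGeometry Topology TopologicalSpace
open AlgSp

namespace Groth.Agent.S10458

open Groth.Agent.AlgSpLib in
/-- a point of transcendence degree zero over a given one exists -/
theorem exists_point_trdeg {A B : Scheme.{u}} (h : A ⟶ B) [LocallyOfFiniteType h] [Surjective h] (v : B) :
    ∃ a : A, h a = v ∧ Dual3.resTrdeg h a = 0 := by
  let P := pullback h (B.fromSpecResidueField v)
  haveI : JacobsonSpace P :=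
    LocallyOfFiniteType.jacobsonSpace (pullback.snd h (B.fromSpecResidueField v))
  obtain ⟨p₀, -⟩ := (pullback.snd h (B.fromSpecResidueField v)).surjective (IsLocalRing.closedPoint _)
  obtain ⟨p, -, hp⟩ : (Set.univ ∩ closedPoints P).Nonempty :=
    (jacobsonSpace_iff_locallyClosed (X := P)).1 ‹_› Set.univ ⟨p₀, trivial⟩ isOpen_univ.isLocallyClosed
  refine ⟨pullback.fst h (B.fromSpecResidueField v) p, ?_, ?_⟩
  · have := congr($(pullback.condition (f := h) (g := B.fromSpecResidueField v)) p)
    exact this.trans (B.fromSpecResidueField_apply v _)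
  · have e1 := resTrdeg_comp (pullback.fst h (B.fromSpecResidueField v)) h p
    rw [pullback.condition, resTrdeg_comp, resTrdeg_eq_zero_of_lqf (B.fromSpecResidueField v), zero_add,
      resTrdeg_eq_zero_of_lqf (pullback.fst h (B.fromSpecResidueField v)), add_zero] at e1
    rw [← e1]
    letI := ((pullback.snd h (B.fromSpecResidueField v)).residueFieldMap p).hom.toAlgebra
    haveI : Module.Finite _ (P.residueField p) :=
      H8Top.residueFieldMap_finite (pullback.snd h (B.fromSpecResidueField v)) hp
    exact trdeg_eq_zero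

/-- Suppose f : X ⟶ Y is a morphism of algebraic spaces over a scheme S that is proper and surjective,
with Y integral. Then there is an integral closed subspace X' of X such that the restriction X' ⟶ Y
is an alteration: proper and dominant with X' integral, and finite over some nonempty open subspace
of Y. -/
theorem result {S : Scheme.{u}} {X Y : AlgSp.Space S} (f : X ⟶ Y)
    (hf : AlgSp.IsProperMor f.hom) (hs : AlgSp.IsSurjectiveMor f.hom) (hY : AlgSp.IsIntegralSp Y.obj) :
    ∃ (X' : AlgSp.Space S) (i : X' ⟶ X), AlgSp.RepWith @IsClosedImmersion i.hom ∧ AlgSp.IsIntegralSp X'.obj ∧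
      AlgSp.IsProperMor (i ≫ f).hom ∧ AlgSp.IsDominantMor (i ≫ f).hom ∧
      ∃ (V : AlgSp.Space S) (j : V ⟶ Y), AlgSp.RepWith @IsOpenImmersion j.hom ∧ Nonempty (AlgSp.Points V.obj) ∧
        ∀ (P : AlgSp.Space S) (fst : P ⟶ V) (snd : P ⟶ X'), IsPullback fst.hom snd.hom j.hom (i ≫ f).hom →
          AlgSp.IsFiniteMor fst.hom := by
  open Groth.Agent.AlgSpLib in
  have hXd : IsDecent X.obj :=
    isDecent_of_isDecentMor f.hom (isDecentMor_of_isQuasiSeparatedMor X.property Y.property
      (isQuasiSeparatedMor_of_isSeparatedMor hf.1)) hY.2.1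
  open Groth.Agent.AlgSpLib in
  haveI := quasiSober_points Y.property hY.2.1
  open Groth.Agent.AlgSpLib in
  haveI := hY.2.2
  obtain ⟨η, hη⟩ : ∃ η, IsGenericPoint η (Set.univ : Set (Points Y.obj)) :=
    QuasiSober.sober (IrreducibleSpace.isIrreducible_univ _) isClosed_univ
  open Groth.Agent.AlgSpLib in
  obtain ⟨U₀, p₀, he, hp⟩ := X.property.atlas
  open Groth.Agent.AlgSpLib in
  obtain ⟨V, b, U, a, h, c, hbe, hbs, hae, -, w, hsur⟩ := exists_surjective_chart_over Y.property hs p₀ he hp
  open Groth.Agent.AlgSpLib in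
  obtain ⟨v, hv⟩ := surjective_ofPt b hbs η
  haveI : LocallyOfFiniteType h.left := hf.2.1.1 a b h hae hbe w
  haveI := hsur
  obtain ⟨u, hu, hu0⟩ := exists_point_trdeg h.left v
  open Groth.Agent.AlgSpLib in
  have hxη : Points.map f.hom (Points.ofPt a u) = η := by rw [Points.map_ofPt, w, ofPt_map, hu, hv]
  open Groth.Agent.AlgSpLib in
  obtain ⟨X', i, hi, hX'i, hr⟩ := exists_integral_closed_subspace X hXd (closure {Points.ofPt a u}) isClosed_closure
    isIrreducible_singleton.closure
  open Groth.Agent.AlgSpLib in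
  obtain ⟨x', hx'⟩ : Points.ofPt a u ∈ Set.range (Points.map i.hom) := hr.symm.subset (subset_closure rfl)
  open Groth.Agent.AlgSpLib in
  have hemb := isEmbedding_map_of_closedImmersion X.property hi
  open Groth.Agent.AlgSpLib in
  have hx'g : IsGenericPoint x' (Set.univ : Set (Points X'.obj)) := by
    refine Set.eq_univ_of_forall fun z => ?_
    rw [← specializes_iff_mem_closure, ← hemb.isInducing.specializes_iff, hx', specializes_iff_mem_closure, ← hr]
    exact ⟨z, rfl⟩
  open Groth.Agent.AlgSpLib in
  have hmap : Points.map (i ≫ f).hom x' = η := by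
    show Points.map (i.hom ≫ f.hom) x' = η
    rw [Points.map_comp, hx', hxη]
  open Groth.Agent.AlgSpLib in
  have hprop : IsProperMor (i ≫ f).hom :=
    isProperMor_comp X'.property X.property Y.property (isProperMor_of_closedImmersion X'.property X.property hi) hf
  have hdom : IsDominantMor (i ≫ f).hom := fun z => by
    refine closure_mono (s := {η}) (t := Set.range (Points.map (i ≫ f).hom)) (Set.singleton_subset_iff.2 ⟨x', hmap⟩) ?_
    rw [show closure {η} = Set.univ from hη]
    trivial
  open Groth.Agent.AlgSpLib in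
  have ht : HasAtMor (fun _ _ h u => Dual3.resTrdeg h u = 0) (i ≫ f).hom x' := by
    have sq := hi.1.isPullback a
    haveI : IsClosedImmersion (hi.1.snd a).left := hi.property_snd a
    obtain ⟨z, hz1, hz2⟩ := exists_point_of_isPullback sq (x := x') (y := Points.ofScheme U u)
      (by rw [hx', Points.ofPt_eq_map_ofScheme])
    obtain ⟨r, rfl⟩ := (Points.schemeEquiv _).surjective z
    refine ⟨hi.1.pullback a, V, hi.1.fst a, b, hi.1.snd a ≫ h, r, RepWith.baseChange sq.flip hae, hbe, ?_, ?_, ?_⟩
    · show hi.1.fst a ≫ i.hom ≫ f.hom = _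
      rw [reassoc_of% sq.w, w, Functor.map_comp, Category.assoc]
    · exact (Points.ofPt_eq_map_ofScheme _ r).trans hz1
    · show Dual3.resTrdeg ((hi.1.snd a).left ≫ h.left) r = 0
      have hr' : (hi.1.snd a).left r = u :=
        (Points.schemeEquiv U).injective ((map_yon_map_ofScheme _ r).symm.trans hz2)
      rw [resTrdeg_comp, resTrdeg_eq_zero_of_lqf (hi.1.snd a).left, add_zero, hr', hu0]
  open Groth.Agent.AlgSpLib in
  obtain ⟨Y', P', j, fst, snd, hj, hjd, sqP, hfin⟩ := exists_open_finite_of_unique hX'i hY (i ≫ f) hprop.2.1.1 hdom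
    x' hx'g η hη (Or.inl hprop.1) ((resTrdeg_zero_generic_iff_unique hX'i hY (i ≫ f) hprop.2.1.1 hdom x' hx'g η hη).1 ht)
  refine ⟨X', i, hi, hX'i, hprop, hdom, Y', j, hj, ?_, fun P q r sq => ?_⟩
  · haveI : Nonempty (Points Y.obj) := ⟨η⟩
    obtain ⟨_, z, rfl⟩ := hjd.nonempty
    exact ⟨z⟩
  · open Groth.Agent.AlgSpLib in
    rw [← sq.isoIsPullback_hom_fst _ _ sqP]
    open Groth.Agent.AlgSpLib in
    exact (isFiniteMor_iff_repWith _).2 (RepWith.comp (repWith_of_isIso (P := @IsFinite) _) ((isFiniteMor_iff_repWith _).1 hfin))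

end Groth.Agent.S10458
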