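import Groth.Statements.S10459
import Groth.Agent.AlgSpLib.LqfDim
import Groth.Agent.AlgSpLib.IntegralGeneric
import Groth.Agent.AlgSpLib.NoethDecent
import Groth.Agent.EGA43.DimFormula.Core
-- import your own Groth.Agent.* helpers here

set_option autoImplicit false
universe u
open CategoryTheory CategoryTheory.Limits AlgebraicGeometry Topology TopologicalSpace
open AlgSp

namespace Groth.Agent.S10459

set_option backward.isDefEq.respectTransparency.types false
open Groth.Agent Groth.Agent.AlgSpLib Groth.Agent.EGA43.DimFormula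

/-- Let f : X ⟶ Y be a dominant morphism locally of finite type between integral algebraic spaces over a
scheme S, with Y locally Noetherian, and let r be the transcendence degree of the generic point of X
over its image (the generic point of Y). Then dim X ≤ dim Y + r. -/
theorem result {S : Scheme.{u}} {X Y : AlgSp.Space S} (f : X ⟶ Y)
    (hY : AlgSp.IsLocNoethSp Y.obj) (hXi : AlgSp.IsIntegralSp X.obj) (hYi : AlgSp.IsIntegralSp Y.obj)
    (hd : AlgSp.IsDominantMor f.hom) (hft : AlgSp.LocP @LocallyOfFiniteType f.hom)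
    (x : AlgSp.Points X.obj) (hx : IsGenericPoint x (Set.univ : Set (AlgSp.Points X.obj))) (r : ℕ)
    (hr : AlgSp.HasAtMor (fun _ _ h u => Dual3.resTrdeg h u = (r : Cardinal.{u})) f.hom x) :
    AlgSp.dim X.obj ≤ AlgSp.dim Y.obj + ((r : ℕ∞) : WithBot ℕ∞) := by
  obtain ⟨V, b, hbe, hbs⟩ := Y.property.atlas
  obtain ⟨U, a, h, hae, has, w⟩ := exists_chart_over X.property Y.property f.hom b hbe hbs
  have : LocallyOfFiniteType h.left := hft a b h hae hbe w
  have : IsLocallyNoetherian V.left := isLocallyNoetherian_chart hY b hbe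
  have := LocallyOfFiniteType.isLocallyNoetherian h.left
  rw [dim_eq_atlas X.property a hae has, dim_eq_atlas Y.property b hbe hbs,
    Stk19b.EtaleDim.topologicalKrullDim_eq_iSup_coheight]
  refine iSup_le fun u => ?_
  rw [← ringKrullDim_stalk_eq_coheight, ringKrullDim_eq_natDim]
  obtain ⟨ξ, hξ, hξu, hcod⟩ := exists_cod_eq u
  obtain ⟨ξ', hξ', e⟩ := exists_specializes_chart (FiniteFibres.of_mk (hXi.2.1 x)).1 a hae ξ
    (hx.specializes (Set.mem_univ _))
  obtain rfl := hξ ξ' hξ'
  have hrd : Dual3.resTrdeg h.left ξ' = (r : Cardinal.{u}) :=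
    (hasAtMor_resTrdeg_iff X.property Y.property f.hom a b h hae hbe w ξ' _).1 (e ▸ hr)
  have ht : trdAt h.left ξ' = r := (congrArg Cardinal.toNat hrd).trans (Cardinal.toNat_natCast r)
  have h1 := le_formula h.left hξu
  have h2 := cod_le_dimAt (hξu.map h.left.continuous)
  have h3 : ringKrullDim (V.left.presheaf.stalk (h.left u)) ≤ topologicalKrullDim ↥V.left := by
    rw [ringKrullDim_stalk_eq_coheight, Stk19b.EtaleDim.topologicalKrullDim_eq_iSup_coheight]
    exact le_iSup_of_le (h.left u) le_rfl
  rw [ringKrullDim_eq_natDim] at h3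
  have h4 : dimAt u ≤ dimAt (h.left u) + r := by omega
  calc ((dimAt u : ℕ) : WithBot ℕ∞) ≤ ((dimAt (h.left u) + r : ℕ) : WithBot ℕ∞) := by exact_mod_cast h4
    _ ≤ _ := by
        rw [Nat.cast_add]
        exact add_le_add h3 le_rfl

end Groth.Agent.S10459
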