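import Groth.Statements.S1046
import Groth.Agent.Dual22Lib.GammaZ
import Groth.Agent.DCat.RDPlus

set_option autoImplicit false
universe u
open CategoryTheory CategoryTheory.Limits AlgebraicGeometry
attribute [local instance] HasDerivedCategory.standard
open Perf

namespace Groth.Agent.S1046

/-- Let U ⊆ X be an open subscheme with quasi-compact inclusion and T = X ∖ U. Assuming O_X-modules have
enough injectives (true, not recorded), for every bounded below E ∈ D(O_X) with quasi-coherent
cohomology sheaves, the derived sections with support RΓ_T(E) (right derived functor of F ↦ ker(F →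
j_*(F|_U))) has quasi-coherent cohomology sheaves, all supported on T. -/
theorem result (X : Scheme.{u}) (U : X.Opens) [QuasiCompact U.ι] [EnoughInjectives X.Modules]
    (E : DerivedCategory.Plus X.Modules) (hE : DCoh.IsQCohD E.obj) :
    DCoh.IsQCohD ((DCoh.RgammaZPlus U.ι).obj E).obj ∧
    ∀ i : ℤ, CohB1.support (DCoh.HD ((DCoh.RgammaZPlus U.ι).obj E).obj i) ⊆ (U : Set X)ᶜ := by
  haveI := Groth.Agent.DCat.hasRpush U.ι
  haveI : CxOX.HasRgammaZ U.ι :=
    Groth.Agent.DCat.hasRightDerivedFunctor_of_enoughKInj (Groth.Agent.DCat.modules_enoughKInj X) _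
  let J := Groth.Agent.DCat.injToDPlus X.Modules
  haveI : J.IsEquivalence := Groth.Agent.DCat.injToDPlus_isEquivalence _
  let L := J.objPreimage E
  let eL : J.obj L ≅ E := J.objObjPreimageIso E
  let I := ((InjectiveObject.ι X.Modules).mapHomotopyCategoryPlus.obj L).obj
  obtain ⟨M, hM⟩ := HomotopyCategory.Plus.quotient_obj_surjective L
  have hk : Groth.Agent.DCat.kInj X.Modules I := by
    dsimp only [I]
    rw [← hM]
    exact (inferInstance : CochainComplex.IsKInjective
      (((InjectiveObject.ι X.Modules).mapHomologicalComplex (.up ℤ)).obj M.obj))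
  let h := Groth.Agent.DCat.modules_enoughKInj X
  let W := HomotopyCategory.quasiIso X.Modules (ComplexShape.up ℤ)
  let α := (CxOX.gammaZKh U.ι).totalRightDerivedUnit DerivedCategory.Qh W
  have hα : IsIso (α.app I) :=
    Groth.Agent.DCat.isIso_unit_of_mem (Groth.Agent.DCat.kInj_resolution h) (Groth.Agent.DCat.kInj_isIso_map _) α hk
  let e : ((DCoh.RgammaZPlus U.ι).obj E).obj ≅ (CxOX.RgammaZ U.ι).obj E.obj :=
    DerivedCategory.Plus.ι.mapIso (((DCoh.gammaZ U.ι).rightDerivedFunctorPlus.mapIso eL.symm) ≪≫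
      (Groth.Agent.DCat.injCompRDIso (DCoh.gammaZ U.ι)).app L) ≪≫
    @asIso _ _ _ _ (α.app I) hα ≪≫ (CxOX.RgammaZ U.ι).mapIso (DerivedCategory.Plus.ι.mapIso eL)
  refine ⟨Groth.Agent.DQCoh.isQCohD_of_iso e.symm (Groth.Agent.Dual22Lib.GammaZ.isQCohD_RgammaZ U.ι hE), fun i => ?_⟩
  have hs := (Groth.Agent.Dual22Lib.GammaZ.killed_iff_isSuppD U.ι _).1
    (IsZero.of_iso (Groth.Agent.Dual22Lib.GammaZ.killed_RgammaZ U.ι E.obj) ((DCoh.restrictD U.ι).mapIso e))
  have := hs i
  rwa [Scheme.Opens.range_ι] at this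

end Groth.Agent.S1046
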