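import Groth.Statements.S10461
import Groth.Agent.S10046
import Groth.Agent.AlgSpLib.FpqcBaseAffine2
import Mathlib.AlgebraicGeometry.Morphisms.UniversallyInjective

set_option autoImplicit false
universe u
open CategoryTheory CategoryTheory.Limits AlgebraicGeometry Topology TopologicalSpace
open AlgSp

namespace Groth.Agent.S10461

/-- Let k be a field, X an algebraic space over k and k'/k a purely inseparable field extension. If
X_{k'} is a scheme, then X is a scheme. -/
theorem result (k : Type u) [Field k] (X : AlgSp.Space (Spec (CommRingCat.of k)))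
    (k' : Type u) [Field k'] [Algebra k k'] [IsPurelyInseparable k k']
    (h : (X.obj ⨯ (AlgSp.yon (Spec (CommRingCat.of k))).obj (Over.mk (Spec.map (CommRingCat.ofHom (algebraMap k k'))))).obj.IsRepresentable) : X.obj.obj.IsRepresentable := by
  classical
  open Groth.Agent.AlgSpLib in
  let K₀ : Over (Spec (CommRingCat.of k)) := Over.mk (Spec.map (CommRingCat.ofHom (algebraMap k k')))
  let B₀ : Over (Spec (CommRingCat.of k)) := Over.mk (𝟙 _)
  let w : K₀ ⟶ B₀ := Over.homMk (Spec.map (CommRingCat.ofHom (algebraMap k k'))) (Category.comp_id _)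
  have hwi : IsIntegralHom w.left := IsIntegralHom.SpecMap_iff.2
    (show (algebraMap k k').IsIntegral from Algebra.IsIntegral.isIntegral (R := k) (A := k'))
  have hwu : UniversallyInjective w.left := by
    have t := ((tfae_universallyInjective (f := w.left)).out 0 1).2
    refine t fun L _ g₁ g₂ hg => ?_
    obtain ⟨φ₁, rfl⟩ : ∃ φ, Spec.map φ = g₁ := ⟨_, Spec.map_preimage g₁⟩
    obtain ⟨φ₂, rfl⟩ : ∃ φ, Spec.map φ = g₂ := ⟨_, Spec.map_preimage g₂⟩
    have hg' : CommRingCat.ofHom (algebraMap k k') ≫ φ₁ = CommRingCat.ofHom (algebraMap k k') ≫ φ₂ :=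
      Spec.map_injective (by rw [Spec.map_comp, Spec.map_comp]; exact hg)
    exact congrArg Spec.map (CommRingCat.hom_ext
      (IsPurelyInseparable.injective_comp_algebraMap k k' L (congrArg CommRingCat.Hom.hom hg')))
  have hws : Surjective w.left := ⟨fun _ => ⟨IsLocalRing.closedPoint k', Subsingleton.elim (α := PrimeSpectrum k) _ _⟩⟩
  obtain ⟨q, -⟩ := Groth.Agent.AlgSpLib.exists_to_base X.obj
  have sq : IsPullback (prod.fst : X.obj ⨯ (AlgSp.yon _).obj K₀ ⟶ X.obj) prod.snd q ((AlgSp.yon _).map w) :=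
    by
      have t := (Groth.Agent.AlgSpLib.isTerminal_yon_base (Spec (CommRingCat.of k))).some
      have h0 := IsPullback.of_is_product' (prodIsProd X.obj ((AlgSp.yon _).obj K₀)) t
      rw [t.hom_ext q (t.from _), t.hom_ext ((AlgSp.yon _).map w) (t.from _)]
      exact h0
  have hI : AlgSp.RepWith @IsIntegralHom (prod.fst : X.obj ⨯ (AlgSp.yon _).obj K₀ ⟶ X.obj) :=
    Groth.Agent.AlgSpLib.RepWith.baseChange sq.flip ((AlgSp.repWith_yon_map_iff (P := @IsIntegralHom) w).2 hwi)
  have hU : AlgSp.RepWith @UniversallyInjective (prod.fst : X.obj ⨯ (AlgSp.yon _).obj K₀ ⟶ X.obj) :=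
    Groth.Agent.AlgSpLib.RepWith.baseChange sq.flip ((AlgSp.repWith_yon_map_iff (P := @UniversallyInjective) w).2 hwu)
  have hS : AlgSp.RepWith @Surjective (prod.fst : X.obj ⨯ (AlgSp.yon _).obj K₀ ⟶ X.obj) :=
    Groth.Agent.AlgSpLib.RepWith.baseChange sq.flip ((AlgSp.repWith_yon_map_iff (P := @Surjective) w).2 hws)
  let P : AlgSp.Space (Spec (CommRingCat.of k)) := ⟨_, Groth.Agent.AlgSpLib.isAlgSpace_of_isPullback
    (AlgSp.IsAlgSpace.yon_obj B₀).diag X.property (AlgSp.IsAlgSpace.yon_obj K₀) sq⟩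
  let f : P ⟶ X := ObjectProperty.homMk prod.fst
  refine (Groth.Agent.S10046.result _ f ((Groth.Agent.AlgSpLib.isIntegralMor_iff_repWith _).2 hI)
    ⟨?_, Groth.Agent.AlgSpLib.surjective_map_of_repWith hS⟩).1 h
  intro x₁ x₂ e
  obtain ⟨U, a, hae, has⟩ := X.property.atlas
  obtain ⟨u, hu⟩ := Groth.Agent.AlgSpLib.surjective_ofPt a has (AlgSp.Points.map f.hom x₁)
  haveI : UniversallyInjective (hU.1.snd a).left := hU.property_snd a
  have sqa := hU.1.isPullback a
  have key : ∀ x, AlgSp.Points.map f.hom x = AlgSp.Points.ofPt a u → ∃ r : ↥(hU.1.pullback a).left,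
      (hU.1.snd a).left r = u ∧ AlgSp.Points.map (hU.1.fst a) (AlgSp.Points.ofScheme _ r) = x := fun x hx => by
    rw [AlgSp.Points.ofPt_eq_map_ofScheme] at hx
    obtain ⟨z, hz1, hz2⟩ := Groth.Agent.AlgSpLib.exists_point_of_isPullback sqa hx
    obtain ⟨r, rfl⟩ := (AlgSp.Points.schemeEquiv _).surjective z
    exact ⟨r, (AlgSp.Points.schemeEquiv U).injective ((Groth.Agent.AlgSpLib.map_yon_map_ofScheme _ r).symm.trans hz2), hz1⟩
  obtain ⟨r₁, hr₁, rfl⟩ := key x₁ hu.symm
  obtain ⟨r₂, hr₂, rfl⟩ := key x₂ (e.symm.trans hu.symm)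
  rw [(hU.1.snd a).left.injective (hr₁.trans hr₂.symm)]

end Groth.Agent.S10461
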