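import Groth.Statements.S10469
import Groth.Agent.AlgSpLib.GeomConn
import Groth.Agent.AlgSpLib.DescendOpen
import Mathlib.FieldTheory.IsSepClosed
import Mathlib.AlgebraicGeometry.Morphisms.Integral
-- import your own Groth.Agent.* helpers here

set_option autoImplicit false
universe u
open CategoryTheory CategoryTheory.Limits AlgebraicGeometry Topology TopologicalSpace
open AlgSp

namespace Groth.Agent.S10469

open Groth.Agent.AlgSpLib

theorem isClosedMap_map_of_repWith {S : Scheme.{u}} {F G : AlgSp.Sp S} (hG : AlgSp.IsAlgSpace G) {m : F ⟶ G}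
    (hm : AlgSp.RepWith @UniversallyClosed m) : IsClosedMap (AlgSp.Points.map m) := by
  obtain ⟨U, c, hce, hcs⟩ := hG.atlas
  have sq := hm.1.isPullback c
  have hcomm : ∀ r, AlgSp.Points.map m (AlgSp.Points.ofPt (hm.1.fst c) r) =
      AlgSp.Points.ofPt c ((hm.1.snd c).left r) := fun r => by
    rw [AlgSp.Points.map_ofPt, sq.w, ofPt_map]
  have : UniversallyClosed (hm.1.snd c).left := hm.2 c _ _ sq
  intro C hC
  have hq := (isOpenMap_ofPt c hce).isQuotientMap (AlgSp.Points.continuous_ofPt c) (surjective_ofPt c hcs)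
  rw [← hq.isClosed_preimage]
  have e : AlgSp.Points.ofPt c ⁻¹' (AlgSp.Points.map m '' C) =
      (hm.1.snd c).left '' (AlgSp.Points.ofPt (hm.1.fst c) ⁻¹' C) := by
    ext w
    constructor
    · rintro ⟨v, hv, e⟩
      rw [AlgSp.Points.ofPt_eq_map_ofScheme] at e
      obtain ⟨q, hq1, hq2⟩ := exists_point_of_isPullback sq e
      obtain ⟨r, rfl⟩ := (AlgSp.Points.schemeEquiv _).surjective q
      refine ⟨r, ?_, (AlgSp.Points.schemeEquiv U).injective ((map_yon_map_ofScheme _ r).symm.trans hq2)⟩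
      rw [Set.mem_preimage, show AlgSp.Points.ofPt (hm.1.fst c) r = v from
        (AlgSp.Points.ofPt_eq_map_ofScheme _ _).trans hq1]
      exact hv
    · rintro ⟨r, hr, rfl⟩
      exact ⟨_, hr, hcomm r⟩
  rw [e]
  exact (hm.1.snd c).left.isClosedMap _ (hC.preimage (AlgSp.Points.continuous_ofPt _))

/-- Let k be a field and X an algebraic space over k. Then X is geometrically connected if and only if
X_{k'} is connected for every finite separable field extension k' of k. -/
theorem result (k : Type u) [Field k] (X : AlgSp.Space (Spec (CommRingCat.of k))) :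
    (∀ (K : Type u) [Field K] [Algebra k K], ConnectedSpace (AlgSp.Points (X.obj ⨯ (AlgSp.yon (Spec (CommRingCat.of k))).obj (Over.mk (Spec.map (CommRingCat.ofHom (algebraMap k K))))))) ↔
      ∀ (k' : Type u) [Field k'] [Algebra k k'], Module.Finite k k' → Algebra.IsSeparable k k' →
        ConnectedSpace (AlgSp.Points (X.obj ⨯ (AlgSp.yon (Spec (CommRingCat.of k))).obj (Over.mk (Spec.map (CommRingCat.ofHom (algebraMap k k')))))) := by
  refine ⟨fun h k' _ _ _ _ => h k', fun h => ?_⟩
  refine (gConn_iff_sepClosed X.property (SeparableClosure k)).2 ?_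
  let K := SeparableClosure k
  have hX := X.property
  have hk : ConnectedSpace (AlgSp.Points (X.obj ⨯ (AlgSp.yon _).obj (specF k k))) :=
    h k inferInstance inferInstance
  obtain ⟨hsurjK, -⟩ := prod_map_specF hX k K
  refine connectedSpace_iff_clopen.2 ⟨?_, fun T hT => ?_⟩
  · obtain ⟨y⟩ := hk.toNonempty
    obtain ⟨x, -⟩ := hsurjK y
    exact ⟨x⟩
  by_contra! hne
  let P := fun (L : Type u) [Field L] [Algebra k L] => X.obj ⨯ (AlgSp.yon (Spec (CommRingCat.of k))).obj (specF k L)
  have hx0 : Nonempty (AlgSp.Points X.obj) :=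
    ⟨AlgSp.Points.map Limits.prod.fst hk.toNonempty.some⟩
  obtain ⟨x₀⟩ := hx0
  obtain ⟨A, _, _, a, ha, hax⟩ := exists_affine_chart_field hX x₀
  let W : Set (AlgSp.Points (P K)) :=
    AlgSp.Points.map Limits.prod.fst ⁻¹' Set.range (AlgSp.Points.ofPt a)
  have hWc : IsCompact W := by
    have e : W = Set.range (AlgSp.Points.ofPt (chA A K a)) := by
      refine Set.Subset.antisymm (fun y hy => ?_) ?_
      · obtain ⟨t, ht⟩ := hy
        obtain ⟨w, -, hw⟩ := exists_point_of_isPullback (isPullback_chA A K a)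
          (x := AlgSp.Points.ofScheme _ t) (y := y)
          ((AlgSp.Points.ofPt_eq_map_ofScheme _ _).symm.trans ht)
        obtain ⟨w, rfl⟩ := (AlgSp.Points.schemeEquiv _).surjective w
        exact ⟨w, (AlgSp.Points.ofPt_eq_map_ofScheme _ _).trans hw⟩
      · rintro _ ⟨w, rfl⟩
        exact ⟨(chP₁ (k := k) A K).left w, by
          rw [AlgSp.Points.map_ofPt, ← (isPullback_chA A K a).w, ofPt_map]⟩
    rw [e]
    have : CompactSpace ↥(chW (k := k) A K).left :=
      inferInstanceAs (CompactSpace (PrimeSpectrum (TensorProduct k A K)))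
    exact isCompact_range (AlgSp.Points.continuous_ofPt _)
  have hWo : IsOpen W := by
    refine IsOpen.preimage (AlgSp.Points.continuous_map _) ?_
    exact (isOpenMap_ofPt a ha).isOpen_range
  obtain ⟨k', hfin, g, hg, V', hV'o, hV'c, hV'⟩ :=
    exists_descend_open X K (T ∩ W) (hT.isOpen.inter hWo) (hWc.inter_left hT.isClosed)
  have hsep : Algebra.IsSeparable k k' := inferInstance
  have hc' : ConnectedSpace (AlgSp.Points (P k')) := h k' hfin hsep
  let m := Limits.prod.map (𝟙 X.obj) ((AlgSp.yon (Spec (CommRingCat.of k))).map g)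
  have hsurjg : Surjective g.left :=
    ⟨fun z => ⟨(Classical.arbitrary ↥(Spec (CommRingCat.of K))),
      Subsingleton.elim (α := ↥(Spec (CommRingCat.of k'))) _ _⟩⟩
  have hG := isAlgSpace_prod hX (AlgSp.IsAlgSpace.yon_obj (specF k k'))
  obtain ⟨hs, hop, -⟩ := topology_map_of_repWith hG (repWith_prod_map_yon (X := X.obj) g hsurjg)
  have hopen : IsOpenMap (AlgSp.Points.map m) := by
    refine hop (repWith_prod_map_yon _ ?_)
    have : Subsingleton ↥(specF k k').left := inferInstanceAs (Subsingleton ↥(Spec (CommRingCat.of k')))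
    have : IsIntegral (specF k k').left := inferInstanceAs (IsIntegral (Spec (CommRingCat.of k')))
    infer_instance
  have hclosed : IsClosedMap (AlgSp.Points.map m) := by
    refine isClosedMap_map_of_repWith hG (repWith_prod_map_yon _ ?_)
    have : IsIntegralHom g.left := by
      rw [hg, IsIntegralHom.SpecMap_iff]
      exact fun x => ((Algebra.IsIntegral.isIntegral (R := k) x).tower_top : IsIntegral k' x)
    infer_instance
  let Z := AlgSp.Points.map m '' T ∩ AlgSp.Points.map m '' Tᶜ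
  have hfst : ∀ t, AlgSp.Points.map (Limits.prod.fst : P k' ⟶ X.obj) (AlgSp.Points.map m t) =
      AlgSp.Points.map (Limits.prod.fst : P K ⟶ X.obj) t := fun t => by
    rw [← AlgSp.Points.map_comp]
    simp [m, Limits.prod.map_fst, P]
  have hmiss : ∀ z ∈ Z, AlgSp.Points.map (Limits.prod.fst : P k' ⟶ X.obj) z ∉ Set.range (AlgSp.Points.ofPt a) := by
    rintro z ⟨⟨t₁, h₁, rfl⟩, t₂, h₂, e⟩ hz
    have w₁ : t₁ ∈ T ∩ W := ⟨h₁, by show _ ∈ Set.range _; rw [← hfst]; exact hz⟩
    rw [← hV'] at w₁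
    have w₂ : t₂ ∈ T ∩ W := by
      rw [← hV']
      show AlgSp.Points.map m t₂ ∈ V'
      rw [e]; exact w₁
    exact h₂ w₂.1
  have hZ : IsClopen Z := ⟨(hclosed _ hT.isClosed).inter (hclosed _ hT.compl.isClosed),
    (hopen _ hT.isOpen).inter (hopen _ hT.compl.isOpen)⟩
  have hZe : Z = ∅ := by
    refine (isClopen_iff.1 hZ).resolve_right fun hu => ?_
    obtain ⟨t, ht⟩ := hax
    obtain ⟨w, hw1, hw⟩ : ∃ w : AlgSp.Points (P k'), AlgSp.Points.map Limits.prod.fst w = x₀ ∧ w ∈ Z := by
      obtain ⟨hs', -⟩ := prod_map_specF hX k k'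
      have := isIso_prod_fst_specF X.obj
      obtain ⟨y, hy⟩ := (pointsHomeo (asIso (Limits.prod.fst : P k ⟶ X.obj))).surjective x₀
      obtain ⟨w, rfl⟩ := hs' y
      have hw : AlgSp.Points.map (Limits.prod.fst : P k' ⟶ X.obj) w = x₀ := by
        rw [← hy]
        show _ = AlgSp.Points.map _ (AlgSp.Points.map _ w)
        rw [← AlgSp.Points.map_comp]
        simp [P]
      exact ⟨w, hw, hu ▸ Set.mem_univ w⟩
    exact hmiss w hw (hw1 ▸ ⟨t, ht⟩)
  rcases isClopen_iff.1 (⟨hclosed _ hT.isClosed, hopen _ hT.isOpen⟩ :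
      IsClopen (AlgSp.Points.map m '' T)) with h0 | h0
  · exact hne.1.ne_empty (Set.image_eq_empty.1 h0)
  · obtain ⟨t₂, ht₂⟩ := Set.nonempty_compl.2 hne.2
    exact (Set.eq_empty_iff_forall_notMem.1 hZe) _ ⟨h0 ▸ Set.mem_univ _, t₂, ht₂, rfl⟩

end Groth.Agent.S10469
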