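import Groth.Statements.S10470
import Groth.Agent.AlgSpLib.DescendOpen
import Mathlib.RingTheory.Spectrum.Prime.Chevalley
import Mathlib.FieldTheory.Normal.Defs
-- import your own Groth.Agent.* helpers here

set_option autoImplicit false
universe u
open CategoryTheory CategoryTheory.Limits AlgebraicGeometry Topology TopologicalSpace
open AlgSp

namespace Groth.Agent.S10470

open TensorProduct in
theorem exists_conj {k A K : Type u} [Field k] [CommRing A] [Algebra k A] [Field K] [Algebra k K] [Normal k K]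
    (q₁ q₂ : PrimeSpectrum (A ⊗[k] K))
    (h : q₁.comap Algebra.TensorProduct.includeLeftRingHom = q₂.comap Algebra.TensorProduct.includeLeftRingHom) :
    ∃ σ : K ≃ₐ[k] K, q₁.comap (Algebra.TensorProduct.map (AlgHom.id k A) σ.toAlgHom).toRingHom = q₂ := by
  obtain ⟨p, hp⟩ : ∃ p, q₁.comap Algebra.TensorProduct.includeLeftRingHom = p := ⟨_, rfl⟩
  have hp₁ : p.asIdeal = q₁.asIdeal.comap Algebra.TensorProduct.includeLeftRingHom :=
    (congrArg PrimeSpectrum.asIdeal hp).symm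
  have hp₂ : p.asIdeal = q₂.asIdeal.comap Algebra.TensorProduct.includeLeftRingHom :=
    (congrArg PrimeSpectrum.asIdeal (h.symm.trans hp)).symm
  obtain ⟨Ω, _, e₁, e₂, k₁, k₂, hA⟩ : ∃ (Ω : Type u) (_ : Field Ω) (e₁ e₂ : A ⊗[k] K →+* Ω),
      RingHom.ker e₁ = q₁.asIdeal ∧ RingHom.ker e₂ = q₂.asIdeal ∧ ∀ x : A, e₁ (x ⊗ₜ 1) = e₂ (x ⊗ₜ 1) := by
    letI a₁ := (Ideal.ResidueField.map p.asIdeal q₁.asIdeal _ hp₁).toAlgebra
    letI a₂ := (Ideal.ResidueField.map p.asIdeal q₂.asIdeal _ hp₂).toAlgebra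
    haveI : Nontrivial (q₁.asIdeal.ResidueField ⊗[p.asIdeal.ResidueField] q₂.asIdeal.ResidueField) := inferInstance
    obtain ⟨m, hm⟩ := Ideal.exists_maximal (q₁.asIdeal.ResidueField ⊗[p.asIdeal.ResidueField] q₂.asIdeal.ResidueField)
    letI := Ideal.Quotient.field m
    let e₁ : A ⊗[k] K →+* (_ ⧸ m) := ((Ideal.Quotient.mk m).comp Algebra.TensorProduct.includeLeftRingHom).comp
      (algebraMap _ q₁.asIdeal.ResidueField)
    let e₂ : A ⊗[k] K →+* (_ ⧸ m) := ((Ideal.Quotient.mk m).comp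
      (Algebra.TensorProduct.includeRight : q₂.asIdeal.ResidueField →ₐ[p.asIdeal.ResidueField] _).toRingHom).comp
      (algebraMap _ q₂.asIdeal.ResidueField)
    have hA : ∀ x : A, e₁ (x ⊗ₜ 1) = e₂ (x ⊗ₜ 1) := fun x => by
      show Ideal.Quotient.mk m _ = Ideal.Quotient.mk m _
      congr 1
      have b₁ := Ideal.ResidueField.map_algebraMap p.asIdeal q₁.asIdeal _ hp₁ x
      have b₂ := Ideal.ResidueField.map_algebraMap p.asIdeal q₂.asIdeal _ hp₂ x
      show (algebraMap _ q₁.asIdeal.ResidueField (x ⊗ₜ 1)) ⊗ₜ 1 = 1 ⊗ₜ (algebraMap _ q₂.asIdeal.ResidueField (x ⊗ₜ 1))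
      erw [← b₁, ← b₂]
      exact Algebra.TensorProduct.tmul_one_eq_one_tmul (A := q₁.asIdeal.ResidueField) (B := q₂.asIdeal.ResidueField) _
    exact ⟨_, inferInstance, e₁, e₂,
      (RingHom.ker_comp_of_injective _ (RingHom.injective _)).trans q₁.asIdeal.ker_algebraMap_residueField,
      (RingHom.ker_comp_of_injective _ (RingHom.injective _)).trans q₂.asIdeal.ker_algebraMap_residueField, hA⟩
  let j₁ : K →+* Ω := e₁.comp (Algebra.TensorProduct.includeRight : K →ₐ[k] A ⊗[k] K).toRingHom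
  let j₂ : K →+* Ω := e₂.comp (Algebra.TensorProduct.includeRight : K →ₐ[k] A ⊗[k] K).toRingHom
  letI : Algebra k Ω := (j₁.comp (algebraMap k K)).toAlgebra
  letI : Algebra K Ω := j₁.toAlgebra
  haveI : IsScalarTower k K Ω := IsScalarTower.of_algebraMap_eq fun _ => rfl
  have hc : ∀ c : k, j₂ (algebraMap k K c) = j₁ (algebraMap k K c) := fun c => by
    have hkk : (1 : A) ⊗ₜ[k] algebraMap k K c = (algebraMap k A c) ⊗ₜ[k] (1 : K) :=
      (Algebra.TensorProduct.tmul_one_eq_one_tmul c).symm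
    show e₂ ((1 : A) ⊗ₜ[k] algebraMap k K c) = e₁ ((1 : A) ⊗ₜ[k] algebraMap k K c)
    rw [hkk, hA]
  let φ : K →ₐ[k] Ω := { j₂ with commutes' := hc }
  refine ⟨AlgHom.restrictNormal' φ K, ?_⟩
  have hσ : ∀ x : K, j₁ (AlgHom.restrictNormal' φ K x) = j₂ x := fun x =>
    AlgHom.restrictNormal_commutes φ K x
  have he : e₁.comp (Algebra.TensorProduct.map (AlgHom.id k A) (AlgHom.restrictNormal' φ K).toAlgHom).toRingHom = e₂ := by
    refine RingHom.ext fun z => ?_
    induction z using TensorProduct.induction_on with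
    | zero => simp
    | tmul x y =>
      have hxy : x ⊗ₜ[k] y = x ⊗ₜ[k] (1 : K) * (1 : A) ⊗ₜ[k] y := by simp
      rw [hxy, map_mul, map_mul]
      refine congrArg₂ (· * ·) ?_ ?_
      · simpa using hA x
      · simpa [j₁, j₂] using hσ y
    | add a b ha hb => rw [map_add, map_add, ha, hb]
  ext1
  rw [PrimeSpectrum.comap_asIdeal, ← k₁, RingHom.comap_ker, he, k₂]

open TensorProduct Groth.Agent.AlgSpLib in
theorem isOpenMap_fst {k : Type u} [Field k] (X : AlgSp.Space (Spec (CommRingCat.of k))) (K : Type u) [Field K] [Algebra k K] :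
    IsOpenMap (AlgSp.Points.map (Limits.prod.fst : X.obj ⨯ (AlgSp.yon _).obj (specF' k K) ⟶ X.obj)) := by
  intro V hV
  rw [isOpen_iff_mem_nhds]
  rintro _ ⟨y, hy, rfl⟩
  obtain ⟨A, _, _, a, ha, t, ht⟩ := exists_affine_chart_field X.property (Points.map prod.fst y)
  obtain ⟨w, -, hw⟩ := exists_point_of_isPullback (isPullback_chA A K a) (x := Points.ofScheme _ t) (y := y)
    ((Points.ofPt_eq_map_ofScheme _ _).symm.trans ht)
  obtain ⟨w, rfl⟩ := (Points.schemeEquiv _).surjective w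
  have hw' : Points.ofPt (chA A K a) w = y := (Points.ofPt_eq_map_ofScheme _ _).trans hw
  have hcomm : ∀ w, Points.map prod.fst (Points.ofPt (chA A K a) w) = Points.ofPt a ((chP₁ (k := k) A K).left w) :=
    fun w => by rw [Points.map_ofPt, ← (isPullback_chA A K a).w, ofPt_map]
  have hopen : IsOpen (Points.ofPt a '' ((chP₁ (k := k) A K).left '' (Points.ofPt (chA A K a) ⁻¹' V))) :=
    isOpenMap_ofPt a ha _ (PrimeSpectrum.isOpenMap_comap_algebraMap_tensorProduct_of_field (K := k) (A := A) (B := K) _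
      (hV.preimage (Points.continuous_ofPt _)))
  refine Filter.mem_of_superset (hopen.mem_nhds ⟨_, ⟨w, (Set.mem_preimage.2 (hw'.symm ▸ hy)), rfl⟩, ?_⟩) ?_
  · rw [← hcomm, hw']
  · rintro _ ⟨_, ⟨v, hv, rfl⟩, rfl⟩
    exact ⟨_, hv, hcomm v⟩

/-- Let k be a field, K/k a (possibly infinite) Galois extension and X an algebraic space over k. A
closed subset of |X_K| stable under the action of every element of Gal(K/k) is the inverse image of
a closed subset of |X|. -/
theorem result (k : Type u) [Field k] (X : AlgSp.Space (Spec (CommRingCat.of k))) (K : Type u) [Field K] [Algebra k K] [IsGalois k K]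
    (T : Set (AlgSp.Points (X.obj ⨯ (AlgSp.yon (Spec (CommRingCat.of k))).obj (Over.mk (Spec.map (CommRingCat.ofHom (algebraMap k K))))))) (hT : IsClosed T)
    (hσ : ∀ (σ : K ≃ₐ[k] K) (g : (Over.mk (Spec.map (CommRingCat.ofHom (algebraMap k K))) : Over (Spec (CommRingCat.of k))) ⟶ Over.mk (Spec.map (CommRingCat.ofHom (algebraMap k K)))),
      g.left = Spec.map (CommRingCat.ofHom (σ : K ≃ₐ[k] K).toRingHom) →
        AlgSp.Points.map (Limits.prod.map (𝟙 X.obj) ((AlgSp.yon (Spec (CommRingCat.of k))).map g)) '' T = T) :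
    ∃ T₀ : Set (AlgSp.Points X.obj), IsClosed T₀ ∧
      AlgSp.Points.map (Limits.prod.fst : (X.obj ⨯ (AlgSp.yon (Spec (CommRingCat.of k))).obj (Over.mk (Spec.map (CommRingCat.ofHom (algebraMap k K))))) ⟶ X.obj) ⁻¹' T₀ = T := by
  let π := AlgSp.Points.map (Limits.prod.fst : (X.obj ⨯ (AlgSp.yon (Spec (CommRingCat.of k))).obj (Over.mk (Spec.map (CommRingCat.ofHom (algebraMap k K))))) ⟶ X.obj)
  refine ⟨(π '' Tᶜ)ᶜ, isClosed_compl_iff.2 (isOpenMap_fst X K _ hT.isOpen_compl), ?_⟩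
  show π ⁻¹' (π '' Tᶜ)ᶜ = T
  ext y
  refine ⟨fun hy => by_contra fun hn => hy ⟨y, hn, rfl⟩, fun hy hmem => ?_⟩
  obtain ⟨z, hz, hzy⟩ := hmem
  apply hz
  open Groth.Agent.AlgSpLib in
  obtain ⟨A, _, _, a, ha, t, ht⟩ := exists_affine_chart_field X.property (π y)
  obtain ⟨wy, hwy1, hwy⟩ := Groth.Agent.AlgSpLib.exists_point_of_isPullback (Groth.Agent.AlgSpLib.isPullback_chA A K a)
    (x := Points.ofScheme _ t) (y := y) ((Points.ofPt_eq_map_ofScheme _ _).symm.trans ht)
  obtain ⟨wz, hwz1, hwz⟩ := Groth.Agent.AlgSpLib.exists_point_of_isPullback (Groth.Agent.AlgSpLib.isPullback_chA A K a)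
    (x := Points.ofScheme _ t) (y := z) (((Points.ofPt_eq_map_ofScheme _ _).symm.trans ht).trans hzy.symm)
  obtain ⟨wy, rfl⟩ := (Points.schemeEquiv _).surjective wy
  obtain ⟨wz, rfl⟩ := (Points.schemeEquiv _).surjective wz
  have hyz : (Groth.Agent.AlgSpLib.chP₁ (k := k) A K).left wy = (Groth.Agent.AlgSpLib.chP₁ (k := k) A K).left wz :=
    (Points.schemeEquiv _).injective (((Groth.Agent.AlgSpLib.map_yon_map_ofScheme _ wy).symm.trans hwy1).trans
      ((Groth.Agent.AlgSpLib.map_yon_map_ofScheme _ wz).symm.trans hwz1).symm)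
  obtain ⟨σ, hσw⟩ := exists_conj (k := k) (A := A) (K := K) wy wz hyz
  let g : (Over.mk (Spec.map (CommRingCat.ofHom (algebraMap k K))) : Over (Spec (CommRingCat.of k))) ⟶
      Over.mk (Spec.map (CommRingCat.ofHom (algebraMap k K))) :=
    Over.homMk (Spec.map (CommRingCat.ofHom σ.toAlgHom.toRingHom)) (by
      simp only [Over.mk_hom, ← Spec.map_comp, ← CommRingCat.ofHom_comp]
      congr 2
      exact σ.toAlgHom.comp_algebraMap)
  have key : AlgSp.Points.map (Limits.prod.map (𝟙 X.obj) ((AlgSp.yon _).map g)) y = z := by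
    rw [← hwy, ← hwz, ← AlgSp.Points.map_comp, ← (Groth.Agent.AlgSpLib.isPullback_chMap A K a σ.toAlgHom g rfl).w,
      AlgSp.Points.map_comp]
    erw [Groth.Agent.AlgSpLib.map_yon_map_ofScheme]
    exact congrArg (fun w => AlgSp.Points.map (Groth.Agent.AlgSpLib.chA A K a) (Points.ofScheme _ w)) hσw
  rw [← hσ σ g rfl]
  exact ⟨y, hy, key⟩

end Groth.Agent.S10470
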