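import Groth.Statements.S10471
import Groth.Agent.AlgSpLib.DescendOpen
import Mathlib.FieldTheory.KrullTopology
-- import your own Groth.Agent.* helpers here

set_option autoImplicit false
universe u
open CategoryTheory CategoryTheory.Limits AlgebraicGeometry Topology TopologicalSpace
open AlgSp

namespace Groth.Agent.S10471

/-- Let k be a field, K/k a (possibly infinite) Galois extension, X an algebraic space over k and V a
quasi-compact open of |X_K|. Then there is an open subgroup H of Gal(K/k) with σ(V) = V for all σ ∈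
H. -/
theorem result (k : Type u) [Field k] (X : AlgSp.Space (Spec (CommRingCat.of k))) (K : Type u) [Field K] [Algebra k K]
    [IsGalois k K] (V : Set (AlgSp.Points (X.obj ⨯ (AlgSp.yon (Spec (CommRingCat.of k))).obj (Over.mk (Spec.map (CommRingCat.ofHom (algebraMap k K))))))) (hV : IsOpen V) (hVc : IsCompact V) :
    ∃ H : Subgroup (K ≃ₐ[k] K), IsOpen (H : Set (K ≃ₐ[k] K)) ∧
      ∀ σ ∈ H, ∀ (g : (Over.mk (Spec.map (CommRingCat.ofHom (algebraMap k K))) : Over (Spec (CommRingCat.of k))) ⟶ Over.mk (Spec.map (CommRingCat.ofHom (algebraMap k K)))),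
        g.left = Spec.map (CommRingCat.ofHom (σ : K ≃ₐ[k] K).toRingHom) →
          AlgSp.Points.map (Limits.prod.map (𝟙 X.obj) ((AlgSp.yon (Spec (CommRingCat.of k))).map g)) '' V = V := by
  obtain ⟨k', hfin, g₀, hg₀, V', -, -, hV'⟩ := Groth.Agent.AlgSpLib.exists_descend_open X K V hV hVc
  refine ⟨k'.fixingSubgroup, IntermediateField.fixingSubgroup_isOpen k', fun σ hσ g hg => ?_⟩
  let gi : (Over.mk (Spec.map (CommRingCat.ofHom (algebraMap k K))) : Over (Spec (CommRingCat.of k))) ⟶
      Over.mk (Spec.map (CommRingCat.ofHom (algebraMap k K))) :=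
    Over.homMk (Spec.map (CommRingCat.ofHom (σ.symm : K ≃ₐ[k] K).toRingHom)) (by
      simp only [Over.mk_hom, ← Spec.map_comp, ← CommRingCat.ofHom_comp]
      congr 2
      exact σ.symm.toAlgHom.comp_algebraMap)
  have h1 : gi ≫ g = 𝟙 _ := Over.OverMorphism.ext (by
    simp only [Over.comp_left, Over.id_left, gi, Over.homMk_left, hg, ← Spec.map_comp, ← CommRingCat.ofHom_comp]
    refine Eq.trans (congrArg Spec.map ?_) (Spec.map_id _)
    ext x
    exact σ.symm_apply_apply x)
  have h2 : g ≫ g₀ = g₀ := Over.OverMorphism.ext (by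
    simp only [Over.comp_left, hg, hg₀, ← Spec.map_comp, ← CommRingCat.ofHom_comp]
    refine congrArg Spec.map ?_
    ext x
    exact (IntermediateField.mem_fixingSubgroup_iff k' σ).1 hσ x x.2)
  let M := fun h : (Over.mk (Spec.map (CommRingCat.ofHom (algebraMap k K))) : Over (Spec (CommRingCat.of k))) ⟶
      Over.mk (Spec.map (CommRingCat.ofHom (algebraMap k K))) =>
    Limits.prod.map (𝟙 X.obj) ((AlgSp.yon (Spec (CommRingCat.of k))).map h)
  have hpre : AlgSp.Points.map (M g) ⁻¹' V = V := by
    conv_lhs => rw [← hV']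
    rw [← Set.preimage_comp]
    refine Eq.trans ?_ hV'
    congr 1
    funext z
    show AlgSp.Points.map _ (AlgSp.Points.map (M g) z) = _
    rw [← AlgSp.Points.map_comp, prod.map_map, Category.comp_id, ← Functor.map_comp, h2]
  have hsurj : Function.Surjective (AlgSp.Points.map (M g)) := fun z => ⟨AlgSp.Points.map (M gi) z, by
    rw [← AlgSp.Points.map_comp, prod.map_map, Category.comp_id, ← Functor.map_comp, h1,
      CategoryTheory.Functor.map_id, prod.map_id_id, AlgSp.Points.map_id]⟩
  show AlgSp.Points.map (M g) '' V = V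
  conv_lhs => rw [← hpre]
  exact Set.image_preimage_eq V hsurj

end Groth.Agent.S10471
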