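import Groth.Statements.S10480
import Groth.Agent.AlgSpLib.GeomReducedPt
-- import your own Groth.Agent.* helpers here

set_option autoImplicit false
universe u
open CategoryTheory CategoryTheory.Limits AlgebraicGeometry Topology TopologicalSpace
open AlgSp

namespace Groth.Agent.S10480

set_option backward.isDefEq.respectTransparency.types false

/-- Let k be a field and f : X ⟶ Y a surjective etale morphism of algebraic spaces over k. Then X is
geometrically reduced over k if and only if Y is geometrically reduced over k. -/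
theorem result (k : Type u) [Field k] {X Y : AlgSp.Space (Spec (CommRingCat.of k))} (f : X ⟶ Y)
    (he : AlgSp.IsEtaleMor f.hom) (hs : AlgSp.IsSurjectiveMor f.hom) :
    (∀ x : AlgSp.Points X.obj, (∃ (U : Over (Spec (CommRingCat.of k))) (a : (AlgSp.yon (Spec (CommRingCat.of k))).obj U ⟶ X.obj) (u : ↥U.left),
      AlgSp.RepWith @Etale a ∧ AlgSp.Points.ofPt a u = x ∧ FBase.IsGeomReducedAt U.hom u)) ↔
      ∀ y : AlgSp.Points Y.obj, (∃ (U : Over (Spec (CommRingCat.of k))) (a : (AlgSp.yon (Spec (CommRingCat.of k))).obj U ⟶ Y.obj) (u : ↥U.left),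
      AlgSp.RepWith @Etale a ∧ AlgSp.Points.ofPt a u = y ∧ FBase.IsGeomReducedAt U.hom u) := by
  constructor
  · intro h y
    obtain ⟨x, rfl⟩ := hs y
    obtain ⟨U, a, u, ha, rfl, hu⟩ := h x
    exact ⟨U, a ≫ f.hom, u, he a ha, (Points.map_ofPt a f.hom u).symm, hu⟩
  · intro h x
    obtain ⟨U, a, hae, has⟩ := X.property.atlas
    obtain ⟨u, rfl⟩ := AlgSpLib.surjective_ofPt a has x
    obtain ⟨V, b, v, hb, e, hv⟩ := h (Points.map f.hom (Points.ofPt a u))
    exact ⟨U, a, u, hae, rfl, (AlgSpLib.isGeomReducedAt_chart b hb (a ≫ f.hom) (he a hae)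
      (e.trans (Points.map_ofPt a f.hom u))).1 hv⟩

end Groth.Agent.S10480
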