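import Groth.Statements.S10481
import Groth.Agent.AlgSpLib.GeomReducedPt
-- import your own Groth.Agent.* helpers here

set_option autoImplicit false
universe u
open CategoryTheory CategoryTheory.Limits AlgebraicGeometry Topology TopologicalSpace
open AlgSp

namespace Groth.Agent.S10481

set_option backward.isDefEq.respectTransparency.types false

/-- Let k be a field, f : X ⟶ Y a morphism of algebraic spaces over k and x a point of X at which f is
etale. Then X is geometrically reduced at x if and only if Y is geometrically reduced at the image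
of x. -/
theorem result (k : Type u) [Field k] {X Y : AlgSp.Space (Spec (CommRingCat.of k))} (f : X ⟶ Y)
    (x : AlgSp.Points X.obj)
    (he : AlgSp.HasAtMor (fun U _ h u => ∃ W : U.Opens, u ∈ W ∧ Etale (W.ι ≫ h)) f.hom x) :
    (∃ (U : Over (Spec (CommRingCat.of k))) (a : (AlgSp.yon (Spec (CommRingCat.of k))).obj U ⟶ X.obj) (u : ↥U.left),
      AlgSp.RepWith @Etale a ∧ AlgSp.Points.ofPt a u = x ∧ FBase.IsGeomReducedAt U.hom u) ↔ (∃ (U : Over (Spec (CommRingCat.of k))) (a : (AlgSp.yon (Spec (CommRingCat.of k))).obj U ⟶ Y.obj) (u : ↥U.left),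
      AlgSp.RepWith @Etale a ∧ AlgSp.Points.ofPt a u = (AlgSp.Points.map f.hom x) ∧ FBase.IsGeomReducedAt U.hom u) := by
  obtain ⟨U, V, a, b, h, u, ha, hb, w, rfl, O, huO, hO⟩ := he
  have : Etale (O.ι ≫ h.left) := hO
  have e1 := AlgSpLib.isGeomReducedAt_iff_of_etale O.ι U.hom ⟨u, huO⟩
  have e2 := AlgSpLib.isGeomReducedAt_iff_of_etale (O.ι ≫ h.left) V.hom ⟨u, huO⟩
  rw [Category.assoc, Over.w h] at e2
  have key : FBase.IsGeomReducedAt U.hom u ↔ FBase.IsGeomReducedAt V.hom (h.left u) := e1.symm.trans e2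
  have hp : Points.map f.hom (Points.ofPt a u) = Points.ofPt b (h.left u) := by
    rw [Points.map_ofPt, w, AlgSpLib.ofPt_map]
  constructor
  · rintro ⟨U', a', u', ha', e, hu'⟩
    exact ⟨V, b, h.left u, hb, hp.symm,
      key.1 ((AlgSpLib.isGeomReducedAt_chart a' ha' a ha e).1 hu')⟩
  · rintro ⟨V', b', v', hb', e, hv'⟩
    exact ⟨U, a, u, ha, rfl, key.2 ((AlgSpLib.isGeomReducedAt_chart b' hb' b hb (e.trans hp)).1 hv')⟩

end Groth.Agent.S10481
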