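import Groth.Statements.S10482
import Groth.Agent.AlgSpLib.FieldIsolated
-- import your own Groth.Agent.* helpers here

set_option autoImplicit false
universe u
open CategoryTheory CategoryTheory.Limits AlgebraicGeometry Topology TopologicalSpace
open AlgSp

namespace Groth.Agent.S10482

/-- (1) ⇔ (2): let k be a field and X an algebraic space over k. Then X is locally quasi-finite over k
if and only if X is locally of finite type over k of dimension at most 0. (The published statement
says dimension 0; dimension at most 0 is used so that the empty space, whose dimension is the bottom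
element, is covered by both sides.) -/
theorem result (k : Type u) [Field k] (X : AlgSp.Space (Spec (CommRingCat.of k))) (p : X.obj ⟶ (AlgSp.yon (Spec (CommRingCat.of k))).obj (Over.mk (𝟙 _))) :
    AlgSp.LocP (@LocallyQuasiFinite ⊓ @LocallyOfFiniteType : MorphismProperty Scheme.{u}) p ↔ AlgSp.LocP @LocallyOfFiniteType p ∧ AlgSp.dim X.obj ≤ 0 := by
  open Groth.Agent.AlgSpLib in
  refine ⟨fun h => ?_, fun h => (space_conditions_field X.property p h.1).2.1.1 h.2⟩
  have hl : AlgSp.LocP @LocallyOfFiniteType p := fun U V a b g ha hb w => (h a b g ha hb w).2
  exact ⟨hl, (space_conditions_field X.property p hl).2.1.2 h⟩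

end Groth.Agent.S10482
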