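import Groth.Statements.S10483
import Groth.Agent.AlgSpLib.MonoArtin
import Groth.Agent.AlgSpLib.LqfScheme
-- import your own Groth.Agent.* helpers here

set_option autoImplicit false
universe u
open CategoryTheory CategoryTheory.Limits AlgebraicGeometry Topology TopologicalSpace
open AlgSp

namespace Groth.Agent.S10483

set_option backward.isDefEq.respectTransparency.types false

/-- (1) ⇔ (5): let k be a field and X an algebraic space over k. Then X is locally quasi-finite over k
if and only if X decomposes as a disjoint union of spectra of finite-dimensional Artinian local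
k-algebras: X is a scheme every point of which has an affine open neighbourhood with Artinian local
coordinate ring, finite over k. -/
theorem result (k : Type u) [Field k] (X : AlgSp.Space (Spec (CommRingCat.of k))) (p : X.obj ⟶ (AlgSp.yon (Spec (CommRingCat.of k))).obj (Over.mk (𝟙 _))) :
    AlgSp.LocP (@LocallyQuasiFinite ⊓ @LocallyOfFiniteType : MorphismProperty Scheme.{u}) p ↔
      ∃ (U : Over (Spec (CommRingCat.of k))) (_ : (AlgSp.yon (Spec (CommRingCat.of k))).obj U ≅ X.obj), ∀ u : ↥U.left, ∃ V : U.left.Opens,
        u ∈ V ∧ IsAffineOpen V ∧ IsArtinianRing ↥Γ(U.left, V) ∧ IsLocalRing ↥Γ(U.left, V) ∧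
          IsFinite (V.ι ≫ U.hom) := by
  let B := Spec (CommRingCat.of k)
  constructor
  · intro h
    obtain ⟨G, ⟨e⟩⟩ := AlgSpLib.exists_iso_yon_of_lqf_separated X.property p
      (AlgSpLib.isSeparatedMor_of_lqf_field X.property p h) h
    obtain ⟨c, hc⟩ := (yon B).map_surjective (e.hom ≫ p)
    have hh := h e.hom (𝟙 _) c (AlgSpLib.repWith_of_isIso _ _) (repWith_id _ _) (by rw [Category.comp_id, hc])
    have := hh.1; have := hh.2
    obtain ⟨hd, hn⟩ := AlgSpLib.discrete_locNoeth_of_lqf_field c
    refine ⟨G, e, fun u => ?_⟩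
    obtain ⟨V, hV, huV, hsub⟩ := exists_isAffineOpen_mem_and_subset (x := u) (U := ⟨{u}, isOpen_discrete _⟩) rfl
    have e' : c.left = G.hom := by
      rw [← Over.w c]; exact (Category.comp_id _).symm
    have hlqf : LocallyQuasiFinite G.hom := e' ▸ hh.1
    have hlft : LocallyOfFiniteType G.hom := e' ▸ hh.2
    have : IsAffine V.toScheme := hV
    have hfin : IsFinite (V.ι ≫ G.hom) := IsFinite.of_locallyQuasiFinite _
    have : IsNoetherianRing Γ(G.left, V) := IsLocallyNoetherian.component_noetherian ⟨V, hV⟩
    have hP : Subsingleton (PrimeSpectrum Γ(G.left, V)) := ⟨fun a b => hV.fromSpec.isEmbedding.injective (by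
      have key : ∀ z, hV.fromSpec z = u := fun z => hsub (by
        have : hV.fromSpec z ∈ Set.range hV.fromSpec := ⟨z, rfl⟩
        rwa [hV.range_fromSpec] at this)
      rw [key, key])⟩
    have hA : IsArtinianRing Γ(G.left, V) := isArtinianRing_iff_isNoetherianRing_krullDimLE_zero.2
      ⟨inferInstance, Ring.krullDimLE_zero_iff.2 fun I hI => by
        obtain ⟨M, hM, hIM⟩ := Ideal.exists_le_maximal I hI.ne_top
        have : (⟨I, hI⟩ : PrimeSpectrum Γ(G.left, V)) = ⟨M, hM.isPrime⟩ := Subsingleton.elim _ _
        rw [show I = M from congrArg PrimeSpectrum.asIdeal this]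
        exact hM⟩
    have : Nontrivial Γ(G.left, V) := PrimeSpectrum.nonempty_iff_nontrivial.1 (by
      obtain ⟨z, -⟩ : u ∈ Set.range hV.fromSpec := by rw [hV.range_fromSpec]; exact huV
      exact ⟨z⟩)
    have hloc : IsLocalRing Γ(G.left, V) := by
      have : Subsingleton (MaximalSpectrum Γ(G.left, V)) := MaximalSpectrum.toPrimeSpectrum_injective.subsingleton
      exact .of_singleton_maximalSpectrum
    exact ⟨V, huV, hV, hA, hloc, hfin⟩
  · rintro ⟨U, e, hU⟩
    choose V huV hV hA hloc hfin using hU
    have hp : (LocallyQuasiFinite U.hom ∧ LocallyOfFiniteType U.hom) := by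
      refine ⟨?_, ?_⟩
      · refine IsZariskiLocalAtSource.of_iSup_eq_top V
          (top_le_iff.1 fun u _ => TopologicalSpace.Opens.mem_iSup.2 ⟨u, huV u⟩) fun u => ?_
        have := hfin u
        infer_instance
      · refine IsZariskiLocalAtSource.of_iSup_eq_top V
          (top_le_iff.1 fun u _ => TopologicalSpace.Opens.mem_iSup.2 ⟨u, huV u⟩) fun u => ?_
        have := hfin u
        infer_instance
    obtain ⟨c, hc⟩ := (yon B).map_surjective (e.hom ≫ p)
    refine AlgSpLib.locP_of_chart_square AlgSpLib.etLocal_lqf X.property e.hom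
      (AlgSpLib.repWith_of_isIso _ _) (AlgSpLib.repWith_of_isIso _ _) (𝟙 _) (repWith_id _ _) c ?_
      (by rw [Category.comp_id, hc])
    have e' : c.left = U.hom := by
      rw [← Over.w c]; exact (Category.comp_id _).symm
    rw [e']
    exact hp

end Groth.Agent.S10483
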