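import Groth.Statements.S10488
import Groth.Agent.AlgSpLib.IntegralGeneric
-- import your own Groth.Agent.* helpers here

set_option autoImplicit false
universe u
open CategoryTheory CategoryTheory.Limits AlgebraicGeometry Topology TopologicalSpace
open AlgSp

namespace Groth.Agent.S10488

/-- (5) ⇔ (6): let f : X ⟶ Y be a dominant morphism locally of finite type between integral algebraic
spaces over a scheme S, with generic points x and y, and assume f separated or quasi-compact. Then x
is the only point of X mapping to y if and only if there is a nonempty affine open V ⊂ Y such that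
f⁻¹(V) ⟶ V is finite. -/
theorem result {S : Scheme.{u}} {X Y : AlgSp.Space S} (hXi : AlgSp.IsIntegralSp X.obj) (hYi : AlgSp.IsIntegralSp Y.obj)
    (f : X ⟶ Y) (hft : AlgSp.LocP @LocallyOfFiniteType f.hom) (hd : AlgSp.IsDominantMor f.hom)
    (x : AlgSp.Points X.obj) (hx : IsGenericPoint x (Set.univ : Set (AlgSp.Points X.obj)))
    (y : AlgSp.Points Y.obj) (hy : IsGenericPoint y (Set.univ : Set (AlgSp.Points Y.obj)))
    (hsq : AlgSp.IsSeparatedMor f.hom ∨ AlgSp.IsQuasiCompactMor f.hom) :
    (∀ x' : AlgSp.Points X.obj, AlgSp.Points.map f.hom x' = y → x' = x) ↔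
      ∃ (V : Over S) (b : (AlgSp.yon S).obj V ⟶ Y.obj) (U : Over S) (g : U ⟶ V) (a : (AlgSp.yon S).obj U ⟶ X.obj),
        IsAffine V.left ∧ Nonempty ↥V.left ∧ AlgSp.RepWith @IsOpenImmersion b ∧
          IsPullback a ((AlgSp.yon S).map g) f.hom b ∧ IsAffine U.left ∧ IsFinite g.left := by
  open Groth.Agent.AlgSpLib in
  constructor
  · intro hu
    obtain ⟨Y', X', j, fst, snd, hj, hdense, sq, hfin⟩ :=
      exists_open_finite_of_unique hXi hYi f hft hd x hx y hy hsq hu
    obtain ⟨G, jG, hjG, hdG, -⟩ := exists_dense_scheme Y.property hYi.2.1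
    have hyG : y ∈ Set.range (Points.map jG) := (hy.specializes (Set.mem_univ
      (hdG.nonempty (h := ⟨y⟩)).some)).mem_open (isOpen_range_map Y.property hjG) (hdG.nonempty (h := ⟨y⟩)).some_mem
    have hyY : y ∈ Set.range (Points.map j.hom) := (hy.specializes (Set.mem_univ
      (hdense.nonempty (h := ⟨y⟩)).some)).mem_open (isOpen_range_map Y.property hj) (hdense.nonempty (h := ⟨y⟩)).some_mem
    obtain ⟨gy, hgy⟩ := hyG
    obtain ⟨g₀, rfl⟩ := (Points.schemeEquiv _).surjective gy
    have hgy' : Points.ofPt jG g₀ = y := (Points.ofPt_eq_map_ofScheme jG g₀).trans hgy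
    obtain ⟨O, hO, hgO, hsub⟩ := exists_isAffineOpen_mem_and_subset (x := g₀)
      (U := ⟨_, (isOpen_range_map Y.property hj).preimage (Points.continuous_ofPt jG)⟩)
      (show Points.ofPt jG g₀ ∈ _ by rw [hgy']; exact hyY)
    let V : Over S := Over.mk (O.ι ≫ G.hom)
    let k : V ⟶ G := Over.homMk O.ι
    let b := (AlgSp.yon S).map k ≫ jG
    have hb : RepWith @IsOpenImmersion b := RepWith.comp
      ((repWith_yon_map_iff (P := @IsOpenImmersion) k).2 (inferInstanceAs (IsOpenImmersion O.ι))) hjG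
    obtain ⟨l, hl⟩ := (exists_lift_iff_range_subset hj b).2 (by
      rintro _ ⟨z, rfl⟩
      obtain ⟨w, rfl⟩ := (Points.schemeEquiv _).surjective z
      have h2 : Points.map b (Points.ofScheme V w) = Points.ofPt jG w.1 := by
        rw [Points.map_comp, map_yon_map_ofScheme, ← Points.ofPt_eq_map_ofScheme]; rfl
      show Points.map b (Points.ofScheme V w) ∈ _
      rw [h2]
      exact hsub w.2)
    have hV : IsAffine V.left := hO
    obtain ⟨U, g, a, sqU, hU, hg⟩ := hfin hV l
    exact ⟨V, b, U, g, a ≫ snd.hom, hV, ⟨(⟨g₀, hgO⟩ : O)⟩, hb, hl ▸ sqU.paste_horiz sq.flip, hU, hg⟩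
  · rintro ⟨V, b, U, g, a, -, ⟨v⟩, hb, sq, -, hg⟩
    exact unique_of_finite_over hXi hYi f hd x hx y hy hft (IsAlgSpace.yon_obj V) hb ⟨Points.ofScheme V v⟩ sq
      ((isFiniteMor_iff_repWith _).2 ((repWith_yon_map_iff (P := @IsFinite) g).2 hg))

end Groth.Agent.S10488
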