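import Groth.Statements.S10489
import Groth.Agent.VarietyLib.SmoothStalk
import Groth.Agent.AlgSpLib.LocP
-- import your own Groth.Agent.* helpers here

set_option autoImplicit false
universe u
open CategoryTheory CategoryTheory.Limits AlgebraicGeometry Topology TopologicalSpace
open AlgSp

namespace Groth.Agent.S10489

/-- Let k be a field and X an algebraic space which is smooth over k. Then X is regular as an algebraic
space. -/
theorem result (k : Type u) [Field k] (X : AlgSp.Space (Spec (CommRingCat.of k))) (p : X.obj ⟶ (AlgSp.yon (Spec (CommRingCat.of k))).obj (Over.mk (𝟙 _))) (hp : AlgSp.LocP @Smooth p) :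
    AlgSp.EtaleLocally (fun U => IsLocallyNoetherian U ∧ ∀ u : ↥U, IsRegularLocalRing ↥(U.presheaf.stalk u)) X.obj := by
  obtain ⟨U, a, hae, has⟩ := X.property.atlas
  let h : U ⟶ Over.mk (𝟙 (Spec (CommRingCat.of k))) := Over.homMk U.hom
  have hT : AlgSp.RepWith @Etale (𝟙 ((AlgSp.yon (Spec (CommRingCat.of k))).obj (Over.mk (𝟙 (Spec (CommRingCat.of k)))))) := by
    rw [← CategoryTheory.Functor.map_id]
    exact (AlgSp.repWith_yon_map_iff _ _).2 (inferInstanceAs (Etale (𝟙 _)))
  obtain ⟨l, hl⟩ := (AlgSp.yon (Spec (CommRingCat.of k))).map_surjective (a ≫ p)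
  have hlU : l.left = U.hom := by simpa using Over.w l
  have hs : Smooth U.hom := by
    rw [← hlU]
    exact hp a (𝟙 _) l hae hT (by rw [Category.comp_id]; exact hl.symm)
  have : LocallyOfFiniteType U.hom := inferInstance
  have : IsNoetherianRing (CommRingCat.of k) := inferInstanceAs (IsNoetherianRing k)
  exact ⟨U, a, hae, has, LocallyOfFiniteType.isLocallyNoetherian U.hom,
    fun u => VarietyLib.isRegularLocalRing_stalk_of_smooth k U.left U.hom u⟩

end Groth.Agent.S10489
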