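import Groth.Statements.S1049
import Groth.Agent.DQCoh.CohEquiv17
-- import your own Groth.Agent.* helpers here

set_option autoImplicit false
set_option backward.isDefEq.respectTransparency false
set_option backward.isDefEq.respectTransparency.types false
set_option linter.style.haveILetI false
universe u
open CategoryTheory CategoryTheory.Limits AlgebraicGeometry
attribute [local instance] HasDerivedCategory.standard
open Perf

namespace Groth.Agent.S1049

/-- Let X be a Noetherian scheme. Granting that coherent modules contain zero and are closed under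
kernels, cokernels and finite products in all O_X-modules, with exact inclusion (true on a
Noetherian scheme, carried as instance hypotheses; they make Coh(O_X) an abelian category), the
induced functor D(Coh(O_X)) ⥤ D(O_X) is fully faithful on bounded objects, and a bounded object of
D(O_X) with coherent cohomology sheaves is isomorphic to the image of a bounded object of
D(Coh(O_X)). -/
theorem result (X : Scheme.{u}) [IsNoetherian X]
    [ObjectProperty.ContainsZero (fun M : X.Modules => Coh.IsCoh M)] [ObjectProperty.IsClosedUnderKernels (fun M : X.Modules => Coh.IsCoh M)]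
    [ObjectProperty.IsClosedUnderCokernels (fun M : X.Modules => Coh.IsCoh M)] [ObjectProperty.IsClosedUnderFiniteProducts (fun M : X.Modules => Coh.IsCoh M)]
    [PreservesFiniteLimits (ObjectProperty.ι (fun M : X.Modules => Coh.IsCoh M))] [PreservesFiniteColimits (ObjectProperty.ι (fun M : X.Modules => Coh.IsCoh M))] :
    (∀ (M N : DerivedCategory (ObjectProperty.FullSubcategory (fun M : X.Modules => Coh.IsCoh M))) (a b : ℤ), M.IsGE a → M.IsLE b → N.IsGE a → N.IsLE b →
      Function.Bijective (fun φ : M ⟶ N => (ObjectProperty.ι (fun M : X.Modules => Coh.IsCoh M)).mapDerivedCategory.map φ)) ∧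
    ∀ (K : DCoh.D X) (a b : ℤ), K.IsGE a → K.IsLE b → DCoh.IsCohD K →
      ∃ M : DerivedCategory (ObjectProperty.FullSubcategory (fun M : X.Modules => Coh.IsCoh M)), M.IsGE a ∧ M.IsLE b ∧
        Nonempty ((ObjectProperty.ι (fun M : X.Modules => Coh.IsCoh M)).mapDerivedCategory.obj M ≅ K) := by
  haveI : PreservesFiniteLimits (Groth.Agent.DQCoh.CohEquiv17.Lc X ⋙ (Groth.Agent.DQCoh.DQCohEquiv17.QP X).ι) := inferInstanceAs (PreservesFiniteLimits (ObjectProperty.ι (fun M : X.Modules => Coh.IsCoh M)))
  haveI : PreservesFiniteColimits (Groth.Agent.DQCoh.CohEquiv17.Lc X ⋙ (Groth.Agent.DQCoh.DQCohEquiv17.QP X).ι) := inferInstanceAs (PreservesFiniteColimits (ObjectProperty.ι (fun M : X.Modules => Coh.IsCoh M)))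
  haveI := preservesFiniteLimits_of_reflects_of_preserves (Groth.Agent.DQCoh.CohEquiv17.Lc X) (Groth.Agent.DQCoh.DQCohEquiv17.QP X).ι
  haveI := preservesFiniteColimits_of_reflects_of_preserves (Groth.Agent.DQCoh.CohEquiv17.Lc X) (Groth.Agent.DQCoh.DQCohEquiv17.QP X).ι
  exact Groth.Agent.DQCoh.CohEquiv17.bounded_equiv (X := X)

end Groth.Agent.S1049

#print axioms Groth.Agent.S1049.result
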