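import Groth.Statements.S10490
import Groth.Agent.AlgSpLib.PointsTop
import Groth.Agent.AlgSpLib.LocP
import Groth.Agent.AlgSpLib.EtLocalInst
import Groth.Agent.DimLib.OverBridge
import Groth.Agent.S1550
-- import your own Groth.Agent.* helpers here

set_option autoImplicit false
universe u
open CategoryTheory CategoryTheory.Limits AlgebraicGeometry Topology TopologicalSpace
open AlgSp

namespace Groth.Agent.S10490

open Groth.Agent.AlgSpLib in

/-- Let k be a field and X an algebraic space smooth over k. Then the points of X which are images of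
morphisms Spec k' ⟶ X over k with k' a finite separable extension of k form a dense subset of |X|. -/
theorem result (k : Type u) [Field k] (X : AlgSp.Space (Spec (CommRingCat.of k))) (p : X.obj ⟶ (AlgSp.yon (Spec (CommRingCat.of k))).obj (Over.mk (𝟙 _))) (hp : AlgSp.LocP @Smooth p) :
    Dense {x : AlgSp.Points X.obj | ∃ (k' : Type u) (_ : Field k') (_ : Algebra k k'),
      Module.Finite k k' ∧ Algebra.IsSeparable k k' ∧
        ∃ v : X.obj.obj.obj (Opposite.op (Over.mk (Spec.map (CommRingCat.ofHom (algebraMap k k'))))),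
          AlgSp.Points.mk ⟨k', Spec.map (CommRingCat.ofHom (algebraMap k k')), v⟩ = x} := by
  obtain ⟨U, a, ha, has⟩ := X.property.atlas
  obtain ⟨h, hh⟩ := (AlgSp.yon _).map_surjective (a ≫ p)
  have hb : AlgSp.RepWith @Etale (𝟙 ((AlgSp.yon (Spec (CommRingCat.of k))).obj (Over.mk (𝟙 _)))) :=
    repWith_of_isIso _ _
  have hs : Smooth h.left := hp a (𝟙 _) h ha hb (by rw [Category.comp_id, hh])
  have hU : h.left = U.hom := (Category.comp_id _).symm.trans (Over.w h)
  letI : U.left.Over (Spec (CommRingCat.of k)) := ⟨U.hom⟩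
  have : Smooth (U.left ↘ Spec (CommRingCat.of k)) := by
    show Smooth U.hom
    rw [← hU]; exact hs
  have hd := Groth.Agent.S1550.result k U.left
  refine Dense.mono ?_ ((surjective_ofPt a has).denseRange.dense_image (AlgSp.Points.continuous_ofPt a) hd)
  rintro _ ⟨t, ⟨-, hfin, hsep⟩, rfl⟩
  letI := Curv2.resAlgebra k U.left t
  have e : U.left.fromSpecResidueField t ≫ U.hom =
      Spec.map (CommRingCat.ofHom (algebraMap k (U.left.residueField t))) := by
    show _ = Spec.map (CommRingCat.ofHom (Curv2.resMap k U.left t))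
    rw [← Groth.Agent.DimLib.baseRingHom_eq_resMap, Groth.Agent.DimLib.specMap_baseRingHom]
    rfl
  refine ⟨U.left.residueField t, inferInstance, Curv2.resAlgebra k U.left t, hfin, hsep, ?_⟩
  have : ∀ (str : Spec (CommRingCat.of (U.left.residueField t)) ⟶ Spec (CommRingCat.of k)),
      U.left.fromSpecResidueField t ≫ U.hom = str →
      ∃ v : X.obj.obj.obj (Opposite.op (Over.mk str)),
        AlgSp.Points.mk (⟨U.left.residueField t, str, v⟩ : AlgSp.FieldPt X.obj) = AlgSp.Points.ofPt a t := by
    rintro _ rfl
    exact ⟨_, rfl⟩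
  exact this _ e

end Groth.Agent.S10490
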