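import Groth.Statements.S10492
import Groth.Agent.AlgSpLib.QuasiSober
import Groth.Agent.AlgSpLib.DecentPoints
import Groth.Agent.AlgSpLib.EtaleAscend
import Groth.Agent.NormalExtLib.Basic
import Groth.Agent.FEtFF.Normal
-- import your own Groth.Agent.* helpers here

set_option autoImplicit false
universe u
open CategoryTheory CategoryTheory.Limits AlgebraicGeometry Topology TopologicalSpace
open AlgSp

namespace Groth.Agent.S10492

set_option backward.isDefEq.respectTransparency.types false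

/-- Let X be a normal integral algebraic space over a scheme S. Each point x of X lies in the image of
some etale morphism U ⟶ X from an affine scheme U that is normal and integral. -/
theorem result {S : Scheme.{u}} (X : AlgSp.Space S)
    (hXi : AlgSp.IsIntegralSp X.obj)
    (hXn : AlgSp.EtaleLocally (fun U => ∀ u : ↥U, IsDomain ↥(U.presheaf.stalk u) ∧
      IsIntegrallyClosed ↥(U.presheaf.stalk u)) X.obj)
    (x : AlgSp.Points X.obj) :
    ∃ (U : Over S) (a : (AlgSp.yon S).obj U ⟶ X.obj), AlgSp.RepWith @Etale a ∧ IsAffine U.left ∧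
      IsIntegral U.left ∧ IsIntegrallyClosed ↥Γ(U.left, ⊤) ∧ x ∈ Set.range (AlgSp.Points.ofPt a) := by
  obtain ⟨hred, hd, hirr⟩ := hXi
  have := AlgSpLib.t0Space_points X.property hd
  have := AlgSpLib.quasiSober_points X.property hd
  obtain ⟨U₀, a₀, hae, has, hn⟩ := hXn
  obtain ⟨u₀, hu₀⟩ := AlgSpLib.surjective_ofPt a₀ has x
  obtain ⟨O, hO, huO, -⟩ := exists_isAffineOpen_mem_and_subset (x := u₀) (U := ⊤) trivial
  let U : Over S := Over.mk (O.ι ≫ U₀.hom)
  let j : U ⟶ U₀ := Over.homMk O.ι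
  have hj : IsOpenImmersion j.left := inferInstanceAs (IsOpenImmersion O.ι)
  have : IsAffine U.left := hO
  let a := (AlgSp.yon S).map j ≫ a₀
  have hb : AlgSp.RepWith @Etale a :=
    AlgSpLib.RepWith.comp ((AlgSp.repWith_yon_map_iff (P := @Etale) j).2 inferInstance) hae
  have hn' : ∀ v : U.left, IsDomain (U.left.presheaf.stalk v) ∧ IsIntegrallyClosed (U.left.presheaf.stalk v) := fun v => by
    obtain ⟨h1, h2⟩ := hn (j.left v)
    let e := (asIso (j.left.stalkMap v)).commRingCatIsoToRingEquiv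
    exact ⟨e.symm.injective.isDomain _, IsIntegrallyClosed.of_equiv e⟩
  let u : U.left := ⟨u₀, huO⟩
  have hu : AlgSp.Points.ofPt a u = x := by rw [AlgSpLib.ofPt_map]; exact hu₀
  let η := genericPoint (AlgSp.Points X.obj)
  let F := AlgSp.Points.ofPt a ⁻¹' {η}
  have hfin : F.Finite := (AlgSpLib.FiniteFibres.of_mk (hd η)).2 U a inferInstance hb
  have hex : ∀ v, ∃ w ∈ F, w ⤳ v := fun v => by
    obtain ⟨w, hw, he⟩ := AlgSpLib.exists_specializes_chart (AlgSpLib.FiniteFibres.of_mk (hd η)).1 a hb v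
      (genericPoint_specializes _)
    exact ⟨w, he, hw⟩
  have hmin : ∀ w ∈ F, ∀ z, z ⤳ w → z = w := fun w hw z hz => by
    have h1 : AlgSp.Points.ofPt a z = η := by
      refine ((hz.map (AlgSp.Points.continuous_ofPt a)).antisymm ?_).eq.trans hw
      rw [show AlgSp.Points.ofPt a w = η from hw]
      exact genericPoint_specializes _
    exact (AlgSpLib.eq_of_specializes_of_finiteFibres (AlgSpLib.FiniteFibres.of_mk (hd η)).2 a hb hw h1 hz).symm
  let C := ⋃ b ∈ {b ∈ F | ¬ b ⤳ u}, closure ({b} : Set U.left)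
  have hC : IsClosed C := (hfin.subset fun b hb' => hb'.1).isClosed_biUnion fun _ _ => isClosed_closure
  let W : U.left.Opens := ⟨Cᶜ, hC.isOpen_compl⟩
  have huW : u ∈ W := by
    intro h
    obtain ⟨b, ⟨-, hbu⟩, hub⟩ := Set.mem_iUnion₂.1 h
    exact hbu (specializes_iff_mem_closure.2 hub)
  obtain ⟨b₀, hb₀F, hb₀u⟩ := hex u
  have hb₀W : b₀ ∈ W := hb₀u.mem_open W.2 huW
  have hWsub : ∀ z ∈ W, b₀ ⤳ z := fun z hz => by
    obtain ⟨b, hbF, hbz⟩ := hex z
    by_cases hbu : b ⤳ u
    · have := (hn' u).1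
      rwa [FEtFF.eq_of_specializes_of_isDomain u hbu hb₀u (hmin b hbF) (hmin b₀ hb₀F)] at hbz
    · exact absurd (Set.mem_biUnion (show b ∈ {b ∈ F | ¬ b ⤳ u} from ⟨hbF, hbu⟩)
        (specializes_iff_mem_closure.1 hbz)) hz
  have hnW : ∀ v : W.toScheme, IsDomain (W.toScheme.presheaf.stalk v) ∧ IsIntegrallyClosed (W.toScheme.presheaf.stalk v) := fun v => by
    obtain ⟨h1, h2⟩ := hn' (W.ι v)
    let e := (asIso (W.ι.stalkMap v)).commRingCatIsoToRingEquiv
    exact ⟨e.symm.injective.isDomain _, IsIntegrallyClosed.of_equiv e⟩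
  have : IsReduced W.toScheme := by
    have : ∀ v : W.toScheme, _root_.IsReduced (W.toScheme.presheaf.stalk v) := fun v => by
      have := (hnW v).1; infer_instance
    exact isReduced_of_isReduced_stalk _
  have : IrreducibleSpace W.toScheme := by
    rw [irreducibleSpace_def, Set.top_eq_univ]
    have e : closure ({(⟨b₀, hb₀W⟩ : W.toScheme)} : Set W.toScheme) = Set.univ :=
      Set.eq_univ_of_forall fun z => specializes_iff_mem_closure.1
        ((subtype_specializes_iff _ _).2 (hWsub z.1 z.2))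
    rw [← e]
    exact isIrreducible_singleton.closure
  have : IsIntegral W.toScheme := isIntegral_of_irreducibleSpace_of_isReduced _
  obtain ⟨N, hN, huN, -⟩ := exists_isAffineOpen_mem_and_subset (X := W.toScheme) (x := ⟨u, huW⟩) (U := ⊤) trivial
  have : Nonempty N := ⟨⟨_, huN⟩⟩
  have hNic := NormalExtLib.isIntegrallyClosed_sections (X := W.toScheme) hnW N hN
  let V : Over S := Over.mk (N.ι ≫ W.ι ≫ U.hom)
  let i : V ⟶ U := Over.homMk (N.ι ≫ W.ι) (Category.assoc _ _ _)
  have hi : IsOpenImmersion i.left := inferInstanceAs (IsOpenImmersion (N.ι ≫ W.ι))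
  refine ⟨V, (AlgSp.yon S).map i ≫ a,
    AlgSpLib.RepWith.comp ((AlgSp.repWith_yon_map_iff (P := @Etale) i).2 inferInstance) hb, hN, ?_, ?_, ?_⟩
  · have : Nonempty N.toScheme := ⟨⟨_, huN⟩⟩
    have : Nonempty ↥V.left := ‹Nonempty N.toScheme›
    exact isIntegral_of_isOpenImmersion N.ι
  · exact @IsIntegrallyClosed.of_equiv _ _ _ _ N.topIso.symm.commRingCatIsoToRingEquiv hNic
  · exact ⟨⟨⟨u, huW⟩, huN⟩, (AlgSpLib.ofPt_map i a _).trans hu⟩

end Groth.Agent.S10492
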