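import Groth.Statements.S10493
import Groth.Agent.AlgSpLib.IntSchemeCrit
import Groth.Agent.AlgSpLib.NoethDecent
import Groth.Agent.AlgSpLib.ValuativeDVR
import Groth.Agent.AlgSpLib.EtLocalInst
import Groth.Agent.EGA43.FiniteCrit.Limit
-- import your own Groth.Agent.* helpers here

set_option autoImplicit false
universe u
open CategoryTheory CategoryTheory.Limits AlgebraicGeometry Topology TopologicalSpace
open AlgSp

namespace Groth.Agent.S10493

open Groth.Agent.AlgSpLib

set_option backward.isDefEq.respectTransparency.types false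
set_option backward.isDefEq.respectTransparency false
set_option linter.style.haveILetI false

/-- fibres of integral morphisms with Noetherian source are finite -/
theorem finite_fibre {Q U : Scheme.{u}} (w : Q ⟶ U) [IsIntegralHom w] [TopologicalSpace.NoetherianSpace ↥Q]
    (u : ↥U) : (w ⁻¹' {u}).Finite := by
  let K : Set ↥Q := w ⁻¹' closure {u}
  have hK : IsClosed K := isClosed_closure.preimage w.continuous
  obtain ⟨𝒞, h𝒞f, h𝒞c, h𝒞i, hKeq⟩ :=
    TopologicalSpace.NoetherianSpace.exists_finite_set_isClosed_irreducible hK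
  haveI := h𝒞f.to_subtype
  refine (Set.finite_range fun C : 𝒞 => (h𝒞i C.1 C.2).genericPoint).subset fun y hy => ?_
  have hyu : w y = u := hy
  have hyK : y ∈ K := by
    show w y ∈ closure {u}
    rw [hyu]
    exact subset_closure rfl
  rw [hKeq] at hyK
  obtain ⟨C, hC, hyC⟩ := hyK
  refine ⟨⟨C, hC⟩, ?_⟩
  have hg := (h𝒞i C hC).isGenericPoint_genericPoint (h𝒞c C hC)
  have hs : (h𝒞i C hC).genericPoint ⤳ y := hg.specializes hyC
  refine Groth.Agent.EGA43.FiniteCrit.eq_of_specializes_integral w hs ?_
  have h1 : (h𝒞i C hC).genericPoint ∈ K := hKeq ▸ Set.mem_sUnion.2 ⟨C, hC, hg.mem⟩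
  exact ((hs.map w.continuous).antisymm (hyu ▸ specializes_iff_mem_closure.2 h1)).eq

/-- Let k be a field with algebraic closure k̄ and X an algebraic space over k which is decent and
locally of finite type over k, such that X_{k̄} is a scheme in which every finite set of k̄-rational
points is contained in an affine open. Then X is a scheme. -/
theorem result (k : Type u) [Field k] (X : AlgSp.Space (Spec (CommRingCat.of k)))
    (hdec : AlgSp.IsDecent X.obj) (p : X.obj ⟶ (AlgSp.yon (Spec (CommRingCat.of k))).obj (Over.mk (𝟙 _))) (hp : AlgSp.LocP @LocallyOfFiniteType p)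
    (kbar : Type u) [Field kbar] [Algebra k kbar] [IsAlgClosure k kbar]
    (T : Over (Spec (CommRingCat.of k))) (e : (AlgSp.yon (Spec (CommRingCat.of k))).obj T ≅ (X.obj ⨯ (AlgSp.yon (Spec (CommRingCat.of k))).obj (Over.mk (Spec.map (CommRingCat.ofHom (algebraMap k kbar))))))
    (q : T ⟶ Over.mk (Spec.map (CommRingCat.ofHom (algebraMap k kbar))))
    (hq : (AlgSp.yon (Spec (CommRingCat.of k))).map q = e.hom ≫ Limits.prod.snd)
    (h3 : ∀ s : Finset ↥T.left,
      (∀ t ∈ s, ∃ σ : Spec (CommRingCat.of kbar) ⟶ T.left, σ ≫ q.left = 𝟙 _ ∧ σ (IsLocalRing.closedPoint kbar) = t) →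
        ∃ W : T.left.Opens, IsAffineOpen W ∧ ∀ t ∈ s, t ∈ W) :
    X.obj.obj.IsRepresentable := by
  classical
  let κ : CommRingCat.of k ⟶ CommRingCat.of kbar := CommRingCat.ofHom (algebraMap k kbar)
  let Kb : Over (Spec (CommRingCat.of k)) := Over.mk (Spec.map κ)
  let str : Kb ⟶ Over.mk (𝟙 _) := Over.homMk (Spec.map κ)
  haveI : Algebra.IsAlgebraic k kbar := IsAlgClosure.isAlgebraic
  haveI : IsAlgClosed kbar := IsAlgClosure.isAlgClosed k
  haveI : IsIntegralHom str.left :=
    IsIntegralHom.SpecMap_iff.2 (algebraMap_isIntegral_iff.2 inferInstance)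
  haveI : Surjective str.left := ⟨fun z => ⟨IsLocalRing.closedPoint kbar,
    Subsingleton.elim (α := ↥(Spec (CommRingCat.of k))) _ z⟩⟩
  have hT : IsTerminal ((yon (Spec (CommRingCat.of k))).obj (Over.mk (𝟙 _))) :=
    IsTerminal.isTerminalObj (yon (Spec (CommRingCat.of k))) _ Over.mkIdTerminal
  have sq : IsPullback (prod.fst : X.obj ⨯ (yon _).obj Kb ⟶ X.obj) prod.snd p ((yon _).map str) := by
    rw [show p = hT.from _ from hT.hom_ext _ _, show (yon _).map str = hT.from _ from hT.hom_ext _ _]
    exact IsPullback.of_is_product (Limits.prodIsProd X.obj ((yon _).obj Kb)) hT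
  let π : (yon _).obj T ⟶ X.obj := e.hom ≫ prod.fst
  have hint : RepWith @IsIntegralHom π := RepWith.comp (repWith_of_isIso (P := @IsIntegralHom) _)
    (RepWith.baseChange sq.flip ((repWith_yon_map_iff (P := @IsIntegralHom) str).2 inferInstance))
  have hsurj : Function.Surjective (Points.ofPt π) := surjective_ofPt π (RepWith.comp (repWith_of_isIso (P := @Surjective) _)
    (RepWith.baseChange sq.flip ((repWith_yon_map_iff (P := @Surjective) str).2 inferInstance)))
  -- the cover is locally of finite type over the algebraically closed field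
  have hP : IsAlgSpace (X.obj ⨯ (yon _).obj Kb) := (IsAlgSpace.yon_obj T).of_iso e
  have hl : LocP @LocallyOfFiniteType (prod.snd : X.obj ⨯ (yon _).obj Kb ⟶ (yon _).obj Kb) :=
    locP_of_isPullback etLocal_lft X.property (IsAlgSpace.yon_obj _) hP sq hp
  haveI : LocallyOfFiniteType q.left := hl e.hom (𝟙 _) q (repWith_of_isIso (P := @Etale) _)
    (repWith_of_isIso (P := @Etale) _) (by rw [Category.comp_id, hq])
  haveI : IsLocallyNoetherian Kb.left := inferInstanceAs (IsLocallyNoetherian (Spec (CommRingCat.of kbar)))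
  haveI : JacobsonSpace ↥Kb.left := inferInstanceAs (JacobsonSpace ↥(Spec (CommRingCat.of kbar)))
  haveI : IsLocallyNoetherian T.left := @LocallyOfFiniteType.isLocallyNoetherian _ _ q.left _ ‹IsLocallyNoetherian Kb.left›
  haveI : JacobsonSpace T.left := @LocallyOfFiniteType.jacobsonSpace _ _ q.left _ ‹JacobsonSpace ↥Kb.left›
  have hN : IsLocNoethSp X.obj :=
    isLocNoethSp_of_lft X.property (IsAlgSpace.yon_obj _) hp
      ⟨Over.mk (𝟙 _), 𝟙 _, repWith_of_isIso (P := @Etale) _, repWith_of_isIso (P := @Surjective) _,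
        (inferInstance : IsLocallyNoetherian (Spec (CommRingCat.of k)))⟩
  have hqs := isQuasiSeparatedSp_of_decent_locNoeth X.property hN hdec
  -- fibres
  refine IntSchemeCrit.isRepresentable_of_integral_qs X hqs π hint hsurj fun x => ?_
  have hfin : {t | Points.ofPt π t = x}.Finite := by
    obtain ⟨U, a, ha, has⟩ := X.property.atlas
    obtain ⟨u, hu⟩ := surjective_ofPt a has x
    obtain ⟨_, ⟨O, hO, rfl⟩, huO, -⟩ :=
      U.left.isBasis_affineOpens.exists_subset_of_mem_open (Set.mem_univ u) isOpen_univ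
    let U₁ : Over (Spec (CommRingCat.of k)) := Over.mk (Scheme.Opens.ι O ≫ U.hom)
    let o : U₁ ⟶ U := Over.homMk (Scheme.Opens.ι O)
    let a₁ : (yon _).obj U₁ ⟶ X.obj := (yon _).map o ≫ a
    haveI : IsAffine U₁.left := hO
    obtain ⟨Q, w, fst, sqQ, hw⟩ := exists_yon_of_repWith hint a₁
    haveI : IsIntegralHom w.left := hw
    obtain ⟨v, rfl⟩ := (yon _).map_surjective fst
    have ha₁ : RepWith @Etale a₁ :=
      RepWith.comp ((repWith_yon_map_iff (P := @Etale) o).2 (inferInstance : Etale (Scheme.Opens.ι O))) ha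
    haveI : Etale v.left := ha₁.property _ _ _ sqQ.flip
    haveI : IsAffine Q.left := isAffine_of_isAffineHom w.left
    haveI : IsLocallyNoetherian Q.left := LocallyOfFiniteType.isLocallyNoetherian v.left
    haveI : IsNoetherian Q.left := ⟨⟩
    refine ((finite_fibre w.left (⟨u, huO⟩ : O)).image v.left).subset fun t ht => ?_
    obtain ⟨r, h1, h2⟩ := (ofPt_eq_ofPt_iff sqQ t (⟨u, huO⟩ : O)).1
      (ht.trans (by rw [ofPt_map]; exact hu.symm))
    exact ⟨r, h2, h1⟩
  choose c hc hcc using fun t : ↥T.left => nonempty_inter_closedPoints (X := T.left) (Z := closure {t})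
    ⟨t, subset_closure rfl⟩ isClosed_closure.isLocallyClosed
  obtain ⟨W, hW, hWs⟩ := h3 (hfin.toFinset.image c) fun t ht => by
    obtain ⟨y, -, rfl⟩ := Finset.mem_image.1 ht
    exact ⟨pointOfClosedPoint q.left (c y) (hcc y), pointOfClosedPoint_comp q.left (c y) (hcc y),
      pointOfClosedPoint_apply q.left (c y) (hcc y) _⟩
  exact ⟨W, hW, fun t ht => (specializes_iff_mem_closure.2 (hc t)).mem_open W.isOpen
    (hWs _ (Finset.mem_image_of_mem c (hfin.mem_toFinset.2 ht)))⟩

end Groth.Agent.S10493
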