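import Groth.Statements.S10494
import Groth.Agent.S10242
import Groth.Agent.AlgSpLib.DecentPoints
-- import your own Groth.Agent.* helpers here

set_option autoImplicit false
universe u
open CategoryTheory CategoryTheory.Limits AlgebraicGeometry Topology TopologicalSpace
open AlgSp

namespace Groth.Agent.S10494

set_option backward.isDefEq.respectTransparency.types false
set_option backward.isDefEq.respectTransparency false

/-- Let X be an integral algebraic space over a scheme S. Then Γ(X, O_X) is a domain. -/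
theorem result {S : Scheme.{u}} (X : AlgSp.Space S)
    (hX : AlgSp.IsIntegralSp X.obj) : IsDomain ↥(AlgSp.gsectEt (AlgSp.OEt X.obj)) := by
  obtain ⟨hr, hd, hirr⟩ := hX
  obtain ⟨-, hz⟩ := Groth.Agent.S10242.result X hr
  let G := AlgSp.gsectEt (AlgSp.OEt X.obj)
  let ev : ∀ (E : AlgSp.EtOver X.obj), ↥G → Γ(E.obj.left.left, ⊤) := fun E f =>
    ((limit.π (AlgSp.OEt X.obj).obj (Opposite.op E)) f).down
  have hne : ∀ f : ↥G, f ≠ 0 → ∃ E : AlgSp.EtOver X.obj, ∃ u, u ∈ E.obj.left.left.basicOpen (ev E f) := fun f hf => by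
    by_contra h
    push_neg at h
    refine hf (hz f fun E => ?_)
    ext u
    simpa using h E u
  have hres : ∀ {E E' : AlgSp.EtOver X.obj} (g : E ⟶ E') (f : ↥G),
      ev E f = g.hom.left.left.appTop.hom (ev E' f) := fun {E E'} g f => by
    show ((limit.π (AlgSp.OEt X.obj).obj (Opposite.op E)) f).down = _
    rw [← limit.w (AlgSp.OEt X.obj).obj g.op]
    rfl
  have hmul : ∀ f g : ↥G, f * g = 0 → f = 0 ∨ g = 0 := fun f g hfg => by
    by_contra h
    rw [not_or] at h
    obtain ⟨E, u, hu⟩ := hne f h.1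
    obtain ⟨E', u', hu'⟩ := hne g h.2
    obtain ⟨y, ⟨v, hv, hv1⟩, ⟨v', hv', hv2⟩⟩ := nonempty_preirreducible_inter
      (AlgSpLib.isOpenMap_ofPt E.obj.hom E.property _ (E.obj.left.left.basicOpen (ev E f)).2)
      (AlgSpLib.isOpenMap_ofPt E'.obj.hom E'.property _ (E'.obj.left.left.basicOpen (ev E' g)).2)
      ⟨_, u, hu, rfl⟩ ⟨_, u', hu', rfl⟩
    have sq := E.property.1.isPullback' E'.obj.hom
    obtain ⟨r, hr1, hr2⟩ := (AlgSpLib.ofPt_eq_ofPt_iff sq v v').1 (hv1.trans hv2.symm)
    let R := E.property.1.pullback E'.obj.hom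
    let p : R ⟶ E.obj.left := E.property.1.fst' E'.obj.hom
    let q : R ⟶ E'.obj.left := E.property.1.snd E'.obj.hom
    have hp : Etale p.left := E'.property.property _ _ _ sq.flip
    let ER : AlgSp.EtOver X.obj := AlgSp.EtOver.mk ((AlgSp.yon S).map p ≫ E.obj.hom)
      (AlgSpLib.RepWith.comp ((AlgSp.repWith_yon_map_iff (P := @Etale) p).2 hp) E.property)
    let mp : ER ⟶ E := AlgSp.EtOver.homMk p rfl
    let mq : ER ⟶ E' := AlgSp.EtOver.homMk q sq.w.symm
    have h1 : r ∈ R.left.basicOpen (ev ER f) := by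
      rw [hres mp f]
      have : p.left r ∈ E.obj.left.left.basicOpen (ev E f) := by rw [hr1]; exact hv
      exact (Scheme.preimage_basicOpen_top p.left (ev E f)) ▸ (show r ∈ p.left ⁻¹ᵁ E.obj.left.left.basicOpen (ev E f) from this)
    have h2 : r ∈ R.left.basicOpen (ev ER g) := by
      rw [hres mq g]
      have : q.left r ∈ E'.obj.left.left.basicOpen (ev E' g) := by rw [hr2]; exact hv'
      exact (Scheme.preimage_basicOpen_top q.left (ev E' g)) ▸ (show r ∈ q.left ⁻¹ᵁ E'.obj.left.left.basicOpen (ev E' g) from this)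
    have h3 : r ∈ R.left.basicOpen (ev ER f * ev ER g) := by
      rw [Scheme.basicOpen_mul]; exact ⟨h1, h2⟩
    have e : ev ER f * ev ER g = 0 := by
      have := congrArg (ev ER) hfg
      simp only [ev, map_mul, map_zero] at this
      exact this
    rw [e, Scheme.basicOpen_zero] at h3
    exact h3
  have : Nontrivial ↥G := by
    refine ⟨1, 0, fun h => ?_⟩
    obtain ⟨U, a, hae, has⟩ := X.property.atlas
    obtain ⟨x⟩ := hirr.toNonempty
    obtain ⟨u, -⟩ := AlgSpLib.surjective_ofPt a has x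
    have h1 := congrArg (ev (AlgSp.EtOver.mk a hae)) h
    simp only [ev, map_one, map_zero] at h1
    have h2 : (1 : Γ(U.left, ⊤)) = 0 := h1
    have : u ∈ U.left.basicOpen (1 : Γ(U.left, ⊤)) := by
      rw [U.left.basicOpen_of_isUnit isUnit_one]; trivial
    rw [h2, Scheme.basicOpen_zero] at this
    exact this
  have : NoZeroDivisors ↥G := ⟨fun {f g} => hmul f g⟩
  exact NoZeroDivisors.to_isDomain _

end Groth.Agent.S10494
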