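import Groth.Statements.S10495
import Groth.Agent.S10494
import Groth.Agent.AlgSpLib.MorMore3
import Groth.Agent.AlgSpLib.DecentPoints
-- import your own Groth.Agent.* helpers here

set_option autoImplicit false
universe u
open CategoryTheory CategoryTheory.Limits AlgebraicGeometry Topology TopologicalSpace
open AlgSp

namespace Groth.Agent.S10495

universe w
set_option backward.isDefEq.respectTransparency.types false
set_option backward.isDefEq.respectTransparency false

theorem eq_of_mul_eq {X : Scheme.{w}} {U : X.Opens} (b c c' : Γ(X, U))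
    (hreg : ∀ x (hx : x ∈ U), IsLeftRegular (X.presheaf.germ U x hx b)) (h : b * c = b * c') : c = c' := by
  refine TopCat.Presheaf.section_ext X.sheaf U c c' fun x hx => ?_
  have := congrArg (X.presheaf.germ U x hx) h
  rw [map_mul, map_mul] at this
  exact hreg x hx this

theorem exists_mul_eq {X : Scheme.{w}} (a b : Γ(X, ⊤))
    (hreg : ∀ x, IsLeftRegular (X.presheaf.germ ⊤ x trivial b))
    (hdvd : ∀ x, X.presheaf.germ ⊤ x trivial b ∣ X.presheaf.germ ⊤ x trivial a) : ∃ c, b * c = a := by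
  have hloc : ∀ x : X, ∃ (V : X.Opens) (_ : x ∈ V) (c : Γ(X, V)),
      X.presheaf.map (homOfLE le_top).op b * c = X.presheaf.map (homOfLE le_top).op a := fun x => by
    obtain ⟨t, ht⟩ := hdvd x
    obtain ⟨V, hxV, c, rfl⟩ := X.presheaf.exists_germ_eq t
    have e : X.presheaf.germ ⊤ x trivial a =
        X.presheaf.germ V x hxV (X.presheaf.map (homOfLE le_top).op b * c) := by
      rw [map_mul, TopCat.Presheaf.germ_res_apply, ← ht]
    obtain ⟨W, hxW, i, j, e⟩ := X.presheaf.germ_eq (U := (⊤ : X.Opens)) x trivial hxV _ _ e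
    refine ⟨W, hxW, X.presheaf.map j.op c, ?_⟩
    rw [map_mul, ← CategoryTheory.comp_apply, ← X.presheaf.map_comp] at e
    exact e.symm
  choose V hV c hc using hloc
  have hr : ∀ (W : X.Opens) x (hx : x ∈ W),
      IsLeftRegular (X.presheaf.germ W x hx (X.presheaf.map (homOfLE le_top).op b)) := fun W x hx => by
    rw [TopCat.Presheaf.germ_res_apply]
    exact hreg x
  have hcompat : TopCat.Presheaf.IsCompatible X.sheaf.1 V c := fun i j => by
    refine eq_of_mul_eq _ _ _ (hr (V i ⊓ V j)) ?_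
    have h1 := congrArg (X.presheaf.map (homOfLE (inf_le_left : V i ⊓ V j ≤ V i)).op) (hc i)
    have h2 := congrArg (X.presheaf.map (homOfLE (inf_le_right : V i ⊓ V j ≤ V j)).op) (hc j)
    rw [map_mul, ← CategoryTheory.comp_apply, ← CategoryTheory.comp_apply, ← X.presheaf.map_comp] at h1 h2
    exact h1.trans h2.symm
  have cover : (⊤ : X.Opens) ≤ iSup V := fun x _ => Opens.mem_iSup.mpr ⟨x, hV x⟩
  obtain ⟨g, hg, -⟩ := X.sheaf.existsUnique_gluing' V ⊤ (fun i => homOfLE le_top) cover c hcompat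
  let g' : Γ(X, ⊤) := g
  refine ⟨g', X.sheaf.eq_of_locally_eq' V ⊤ (fun i => homOfLE le_top) cover (b * g' :) a fun i => ?_⟩
  show X.presheaf.map (homOfLE le_top).op (b * g') = _
  rw [map_mul]
  refine Eq.trans ?_ (hc i)
  rw [← hg i]
  rfl

theorem transfer {A B : Type w} [CommRing A] [CommRing B] [IsLocalRing A] [IsLocalRing B]
    (φ : A →+* B) [IsLocalHom φ] (hf : φ.Flat) :
    (∀ a, IsLeftRegular (φ a) → IsLeftRegular a) ∧ (∀ a b, φ b ∣ φ a → b ∣ a) := by
  algebraize [φ]
  have : IsLocalHom (algebraMap A B) := ‹IsLocalHom φ›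
  have : Module.FaithfullyFlat A B := Module.FaithfullyFlat.of_flat_of_isLocalHom
  have hinj : Function.Injective φ := FaithfulSMul.algebraMap_injective A B
  refine ⟨fun a ha x y h => hinj (ha ?_), fun a b h => ?_⟩
  · show φ a * φ x = φ a * φ y
    rw [← map_mul, ← map_mul]
    exact congrArg φ h
  · have := Ideal.comap_map_eq_self_of_faithfullyFlat (B := B) (Ideal.span {b})
    rw [Ideal.map_span, Set.image_singleton] at this
    refine Ideal.mem_span_singleton.mp (this ▸ ?_)
    exact Ideal.mem_comap.mpr (Ideal.mem_span_singleton.mpr h)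

theorem flat_reg {A B : Type w} [CommRing A] [CommRing B] (φ : A →+* B) (hf : φ.Flat) (a : A)
    (ha : IsLeftRegular a) : IsLeftRegular (φ a) := by
  algebraize [φ]
  have := (IsSMulRegular.of_flat (S := B) (x := a) (by simpa [IsSMulRegular, IsLeftRegular] using ha))
  intro x y h
  exact this h

/-- Let X be a normal integral algebraic space over a scheme S. Then Γ(X, O_X) is a normal domain. -/
theorem result {S : Scheme.{u}} (X : AlgSp.Space S)
    (hXi : AlgSp.IsIntegralSp X.obj)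
    (hXn : AlgSp.EtaleLocally (fun U => ∀ u : ↥U, IsDomain ↥(U.presheaf.stalk u) ∧
      IsIntegrallyClosed ↥(U.presheaf.stalk u)) X.obj) :
    IsDomain ↥(AlgSp.gsectEt (AlgSp.OEt X.obj)) ∧ IsIntegrallyClosed ↥(AlgSp.gsectEt (AlgSp.OEt X.obj)) := by
  have hdom := Groth.Agent.S10494.result X hXi
  obtain ⟨hr, hd, hirr⟩ := hXi
  obtain ⟨-, hz⟩ := Groth.Agent.S10242.result X hr
  obtain ⟨U0, a0, ha0e, ha0s, hn⟩ := hXn
  let G := AlgSp.gsectEt (AlgSp.OEt X.obj)
  let ev : ∀ (E : AlgSp.EtOver X.obj), ↥G →+* Γ(E.obj.left.left, ⊤) := fun E =>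
    (ULift.ringEquiv : ULift.{u + 1} Γ(E.obj.left.left, ⊤) ≃+* _).toRingHom.comp
      ((limit.π (AlgSp.OEt X.obj).obj (Opposite.op E)).hom :)
  have hres : ∀ {E E' : AlgSp.EtOver X.obj} (g : E ⟶ E') (f : ↥G),
      ev E f = g.hom.left.left.appTop.hom (ev E' f) := fun {E E'} g f => by
    show ((limit.π (AlgSp.OEt X.obj).obj (Opposite.op E)) f).down = _
    rw [← limit.w (AlgSp.OEt X.obj).obj g.op]
    rfl
  let φ : ∀ (E : AlgSp.EtOver X.obj) (v : E.obj.left.left), ↥G →+* E.obj.left.left.presheaf.stalk v :=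
    fun E v => (E.obj.left.left.presheaf.germ ⊤ v trivial).hom.comp (ev E)
  have hφ : ∀ {E E' : AlgSp.EtOver X.obj} (g : E ⟶ E') (r : E.obj.left.left) (f : ↥G),
      g.hom.left.left.stalkMap r (φ E' (g.hom.left.left r) f) = φ E r f := fun {E E'} g r f => by
    show g.hom.left.left.stalkMap r (E'.obj.left.left.presheaf.germ ⊤ _ trivial (ev E' f)) = _
    rw [Scheme.Hom.germ_stalkMap_apply]
    show _ = E.obj.left.left.presheaf.germ ⊤ r trivial (ev E f)
    rw [hres g f]
    rfl
  let E0 : AlgSp.EtOver X.obj := AlgSp.EtOver.mk a0 ha0e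
  have chart : ∀ (E E' : AlgSp.EtOver X.obj) (v : E.obj.left.left) (v' : E'.obj.left.left),
      AlgSp.Points.ofPt E.obj.hom v = AlgSp.Points.ofPt E'.obj.hom v' →
      ∃ (ER : AlgSp.EtOver X.obj) (mp : ER ⟶ E) (mq : ER ⟶ E') (r : ER.obj.left.left),
        Etale mp.hom.left.left ∧ Etale mq.hom.left.left ∧ mp.hom.left.left r = v ∧ mq.hom.left.left r = v' :=
    fun E E' v v' e => by
    have sq := E.property.1.isPullback' E'.obj.hom
    obtain ⟨r, hr1, hr2⟩ := (AlgSpLib.ofPt_eq_ofPt_iff sq v v').1 e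
    let p : E.property.1.pullback E'.obj.hom ⟶ E.obj.left := E.property.1.fst' E'.obj.hom
    let q : E.property.1.pullback E'.obj.hom ⟶ E'.obj.left := E.property.1.snd E'.obj.hom
    have hp : Etale p.left := E'.property.property _ _ _ sq.flip
    have hq : Etale q.left := E.property.property _ _ _ sq
    let ER : AlgSp.EtOver X.obj := AlgSp.EtOver.mk ((AlgSp.yon S).map p ≫ E.obj.hom)
      (AlgSpLib.RepWith.comp ((AlgSp.repWith_yon_map_iff (P := @Etale) p).2 hp) E.property)
    exact ⟨ER, AlgSp.EtOver.homMk p rfl, AlgSp.EtOver.homMk q sq.w.symm, r, hp, hq, hr1, hr2⟩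
  have hne0 : ∀ b : ↥G, b ≠ 0 → ∀ u : E0.obj.left.left, φ E0 u b ≠ 0 := fun b hb u h0 => by
    obtain ⟨E', w, hw⟩ : ∃ E : AlgSp.EtOver X.obj, ∃ w, w ∈ E.obj.left.left.basicOpen (ev E b) := by
      by_contra h
      push_neg at h
      refine hb (hz b fun E => ?_)
      ext v
      exact iff_of_false (fun hh => h E v hh) id
    have h0' : E0.obj.left.left.presheaf.germ ⊤ u trivial (ev E0 b) =
        E0.obj.left.left.presheaf.germ ⊤ u trivial 0 := by rw [map_zero]; exact h0
    obtain ⟨V, huV, i, j, hV⟩ := E0.obj.left.left.presheaf.germ_eq (U := (⊤ : E0.obj.left.left.Opens)) (V := (⊤ : E0.obj.left.left.Opens)) u trivial trivial _ _ h0'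
    obtain ⟨y, ⟨v, hv, hv1⟩, ⟨v', hv', hv2⟩⟩ := nonempty_preirreducible_inter
      (AlgSpLib.isOpenMap_ofPt E0.obj.hom E0.property _ V.2)
      (AlgSpLib.isOpenMap_ofPt E'.obj.hom E'.property _ (E'.obj.left.left.basicOpen (ev E' b)).2)
      ⟨_, u, huV, rfl⟩ ⟨_, w, hw, rfl⟩
    obtain ⟨ER, mp, mq, r, -, -, rfl, rfl⟩ := chart E0 E' v v' (hv1.trans hv2.symm)
    have hz' : φ E0 (mp.hom.left.left r) b = 0 := by
      show E0.obj.left.left.presheaf.germ ⊤ _ trivial (ev E0 b) = 0
      rw [← TopCat.Presheaf.germ_res_apply E0.obj.left.left.presheaf i _ hv, hV, map_zero, map_zero]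
    have hu' : IsUnit (φ E' (mq.hom.left.left r) b) := (Scheme.mem_basicOpen_top _ _ _).1 hv'
    have := hu'.map (mq.hom.left.left.stalkMap r).hom
    rw [hφ mq r b, ← hφ mp r b, hz', map_zero] at this
    exact not_isUnit_zero this
  rw [and_iff_right hdom]
  refine (isIntegrallyClosed_iff (FractionRing ↥G)).2 fun {x} hx => ?_
  obtain ⟨a, b, hb, rfl⟩ := IsFractionRing.div_surjective (A := ↥G) x
  have hb0 : b ≠ 0 := nonZeroDivisors.ne_zero hb
  have key : ∀ u : E0.obj.left.left, IsLeftRegular (φ E0 u b) ∧ φ E0 u b ∣ φ E0 u a := fun u => by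
    obtain ⟨hD, hN⟩ : IsDomain ↑(E0.obj.left.left.presheaf.stalk u) ∧
        IsIntegrallyClosed ↑(E0.obj.left.left.presheaf.stalk u) := hn u
    have hinj : Function.Injective (φ E0 u) := (injective_iff_map_eq_zero _).2 fun f hf => by
      by_contra h
      exact hne0 f h u hf
    refine ⟨(isRegular_of_ne_zero (hne0 b hb0 u)).left, ?_⟩
    let K := FractionRing ↑(E0.obj.left.left.presheaf.stalk u)
    let ψ : FractionRing ↥G →+* K := IsFractionRing.map hinj
    have hx' := hx.map_of_comp_eq (φ E0 u) ψ (by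
      ext f
      simp [ψ, IsFractionRing.map, IsLocalization.map_eq])
    obtain ⟨c, hc⟩ := IsIntegrallyClosed.isIntegral_iff.mp hx'
    refine ⟨c, IsFractionRing.injective _ K ?_⟩
    rw [map_mul, hc]
    have hb' : algebraMap _ K (φ E0 u b) ≠ 0 := fun h => hne0 b hb0 u
      (IsFractionRing.injective _ K (h.trans (map_zero _).symm))
    simp only [ψ, IsFractionRing.map, map_div₀, IsLocalization.map_eq]
    rw [mul_div_cancel₀ _ hb']
  have keyE : ∀ (E : AlgSp.EtOver X.obj) (v : E.obj.left.left),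
      IsLeftRegular (φ E v b) ∧ φ E v b ∣ φ E v a := fun E v => by
    obtain ⟨u, hu⟩ := AlgSpLib.surjective_ofPt a0 ha0s (AlgSp.Points.ofPt E.obj.hom v)
    obtain ⟨ER, mp, mq, r, hpe, hqe, rfl, rfl⟩ := chart E E0 v u hu.symm
    obtain ⟨h1, h2⟩ := transfer (mp.hom.left.left.stalkMap r).hom (Flat.stalkMap _ r)
    refine ⟨h1 _ ?_, h2 _ _ ?_⟩
    · show IsLeftRegular (mp.hom.left.left.stalkMap r (φ E _ b))
      rw [hφ, ← hφ mq]
      exact flat_reg (mq.hom.left.left.stalkMap r).hom (Flat.stalkMap _ r) _ (key _).1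
    · show mp.hom.left.left.stalkMap r (φ E _ b) ∣ mp.hom.left.left.stalkMap r (φ E _ a)
      rw [hφ, hφ, ← hφ mq, ← hφ mq]
      exact map_dvd (mq.hom.left.left.stalkMap r).hom (key _).2
  choose c hc using fun E : AlgSp.EtOver X.obj =>
    exists_mul_eq (ev E a) (ev E b) (fun v => (keyE E v).1) (fun v => (keyE E v).2)
  let F := forget CommRingCat.{u + 1}
  have hl := isLimitOfPreserves F (limit.isLimit (AlgSp.OEt X.obj).obj)
  let s : ((AlgSp.OEt X.obj).obj ⋙ F).sections := ⟨fun j => ULift.up (c j.unop), fun {j j'} g => by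
    apply ULift.ext
    show g.unop.hom.left.left.appTop.hom (c j.unop) = c j'.unop
    refine eq_of_mul_eq (ev j'.unop b) _ _ (fun v _ => (keyE j'.unop v).1) ?_
    conv_lhs => rw [hres g.unop b, ← map_mul, hc, ← hres g.unop a]
    rw [hc]⟩
  let y : ↥G := (Types.isLimitEquivSections hl).symm s
  have hy : ∀ E, ev E y = c E := fun E =>
    congrArg ULift.down (Types.isLimitEquivSections_symm_apply hl s (Opposite.op E))
  have hby : b * y = a := Concrete.limit_ext _ _ _ fun j => by
    obtain ⟨E⟩ := j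
    apply ULift.ext
    show ev E (b * y) = ev E a
    rw [map_mul, hy, hc]
  refine ⟨y, ?_⟩
  have : algebraMap ↥G (FractionRing ↥G) b ≠ 0 := fun h => hb0
    (IsFractionRing.injective _ _ (h.trans (map_zero _).symm))
  rw [eq_div_iff this, ← map_mul, mul_comm, hby]

end Groth.Agent.S10495
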