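import Groth.Statements.S10497
import Groth.Agent.AlgSpLib.GeomReducedPt
import Groth.Agent.AlgSpLib.DecentMore
import Groth.Agent.FBaseLib.Geom
-- import your own Groth.Agent.* helpers here

set_option autoImplicit false
universe u
open CategoryTheory CategoryTheory.Limits AlgebraicGeometry Topology TopologicalSpace
open AlgSp

namespace Groth.Agent.S10497

/-- Let k be a field and X a decent algebraic space over k. Then all base changes X_K to field
extensions K of k are integral exactly when X is geometrically reduced over k and every |X_K| is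
irreducible. -/
theorem result (k : Type u) [Field k] (X : AlgSp.Space (Spec (CommRingCat.of k))) (hX : AlgSp.IsDecent X.obj) :
    (∀ (K : Type u) [Field K] [Algebra k K], AlgSp.IsIntegralSp (X.obj ⨯ (AlgSp.yon (Spec (CommRingCat.of k))).obj (Over.mk (Spec.map (CommRingCat.ofHom (algebraMap k K)))))) ↔
      (∀ x : AlgSp.Points X.obj, (∃ (U : Over (Spec (CommRingCat.of k))) (a : (AlgSp.yon (Spec (CommRingCat.of k))).obj U ⟶ X.obj) (u : ↥U.left),
      AlgSp.RepWith @Etale a ∧ AlgSp.Points.ofPt a u = x ∧ FBase.IsGeomReducedAt U.hom u)) ∧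
        ∀ (K : Type u) [Field K] [Algebra k K], IrreducibleSpace (AlgSp.Points (X.obj ⨯ (AlgSp.yon (Spec (CommRingCat.of k))).obj (Over.mk (Spec.map (CommRingCat.ofHom (algebraMap k K)))))) := by
  obtain ⟨U, a, hae, has⟩ := X.property.atlas
  rw [Groth.Agent.AlgSpLib.forall_geomReduced_iff a hae has]
  constructor
  · intro h
    refine ⟨?_, fun K _ _ => (h K).2.2⟩
    haveI : IsReduced (pullback U.hom (Spec.map (CommRingCat.ofHom (algebraMap k (AlgebraicClosure k))))) :=
      (Groth.Agent.AlgSpLib.etaleLocally_reduced_prod_iff a hae has (AlgebraicClosure k)).1 (h (AlgebraicClosure k)).1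
    exact Groth.Agent.FBaseLib.geometricallyReduced_of_perfect (Ω := AlgebraicClosure k) U.hom
  · rintro ⟨hg, hi⟩ K _ _
    refine ⟨(Groth.Agent.AlgSpLib.etaleLocally_reduced_prod_iff a hae has K).2
      (hg.geometrically_isReduced _ _ _ (IsPullback.of_hasPullback _ _)), ?_, hi K⟩
    exact Groth.Agent.AlgSpLib.isDecent_of_isPullback (Groth.Agent.AlgSpLib.isAlgSpace_terminal _)
      (IsPullback.of_isLimit_binaryFan_of_isTerminal (prodIsProd X.obj _) terminalIsTerminal) hX
      (Groth.Agent.AlgSpLib.isDecent_yon _)

end Groth.Agent.S10497
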