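import Groth.Statements.S10498
import Groth.Agent.HenselLib.EtaleReduced
import Groth.Agent.HenselLib.HullFlat
import Groth.Agent.HenselLib.HullProps
import Groth.Agent.HenselLib.LocalHens
import Mathlib.LinearAlgebra.FreeModule.Basic
import Mathlib.LinearAlgebra.TensorProduct.Basis
import Mathlib.RingTheory.Flat.Basic

set_option autoImplicit false
universe u
open TensorProduct
open Hensel

namespace Groth.Agent.S10498

/-- (1) ⇔ (2): let k be a field, A a local k-algebra and R a strict henselization of A. Then A is
geometrically reduced over k (K ⊗_k A reduced for every field extension K of k) if and only if R is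
geometrically reduced over k. -/
theorem result (k : Type u) [Field k]
    (A : Type u) [CommRing A] [IsLocalRing A] [Algebra k A]
    (R : Type u) [CommRing R] [IsLocalRing R] [Algebra A R] [IsLocalHom (algebraMap A R)]
    [Hensel.IsStrictHenselization A R] [Algebra k R] [IsScalarTower k A R] :
    (∀ (K : Type u) [Field K] [Algebra k K], IsReduced (TensorProduct k K A)) ↔
      ∀ (K : Type u) [Field K] [Algebra k K], IsReduced (TensorProduct k K R) := by
  classical
  obtain ⟨e⟩ := HenselLib.exists_equiv_localSH (R := A) R
  constructor
  · intro h K _ _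
    haveI : IsReduced (TensorProduct k A K) :=
      haveI := h K
      isReduced_of_injective (Algebra.TensorProduct.comm k A K) (Algebra.TensorProduct.comm k A K).injective
    have hstage : ∀ Q : HenselLib.Pt A (HenselLib.SepRes A), IsReduced (TensorProduct k K Q.Ring) := by
      intro Q
      haveI := Q.etale
      haveI : IsReduced (TensorProduct A (TensorProduct k A K) Q.Ring) :=
        HenselLib.isReduced_of_etale (TensorProduct k A K) (TensorProduct A (TensorProduct k A K) Q.Ring)
      let e' : TensorProduct k K Q.Ring →+* TensorProduct A (TensorProduct k A K) Q.Ring :=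
        ((Algebra.TensorProduct.comm A Q.Ring (TensorProduct k A K)).toRingEquiv.toRingHom.comp
          (Algebra.TensorProduct.cancelBaseChange k A A Q.Ring K).symm.toRingEquiv.toRingHom).comp
          (Algebra.TensorProduct.comm k K Q.Ring).toRingEquiv.toRingHom
      exact isReduced_of_injective e'
        (((Algebra.TensorProduct.comm A Q.Ring (TensorProduct k A K)).injective.comp
          (Algebra.TensorProduct.cancelBaseChange k A A Q.Ring K).symm.injective).comp
          (Algebra.TensorProduct.comm k K Q.Ring).injective)
    let ι' : ∀ P : HenselLib.Pt A (HenselLib.SepRes A), P.Ring →ₐ[k] R := fun P =>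
      (e.toAlgHom.comp (HenselLib.ι P)).restrictScalars k
    let b := Module.Free.chooseBasis k K
    refine ⟨fun x ⟨n, hn⟩ => ?_⟩
    obtain ⟨c, rfl⟩ := TensorProduct.eq_repr_basis_left b x
    obtain ⟨P, y, hy⟩ := HenselLib.exists_rep_finset c.support (fun i => e.symm (c i))
    have hy' : ∀ i ∈ c.support, ι' P (y i) = c i := fun i hi => by
      change e (HenselLib.ι P (y i)) = c i
      rw [hy i hi, e.apply_symm_apply]
    let z : TensorProduct k K P.Ring := ∑ i ∈ c.support, b i ⊗ₜ[k] y i
    have hz : Algebra.TensorProduct.map (AlgHom.id k K) (ι' P) z = c.sum fun i m => b i ⊗ₜ[k] m := by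
      simp only [z, map_sum, Algebra.TensorProduct.map_tmul, AlgHom.id_apply, Finsupp.sum]
      exact Finset.sum_congr rfl fun i hi => by rw [hy' i hi]
    obtain ⟨d, hd⟩ := TensorProduct.eq_repr_basis_left b (z ^ n)
    have h0 : (d.mapRange (ι' P) (map_zero _)).sum (fun i m => b i ⊗ₜ[k] m) =
        (0 : TensorProduct k K R) := by
      rw [← hn, ← hz, ← map_pow, ← hd, Finsupp.sum_mapRange_index (fun i => TensorProduct.tmul_zero _ _)]
      simp only [Finsupp.sum, map_sum, Algebra.TensorProduct.map_tmul, AlgHom.id_apply]
    have hd0 : ∀ i, ι' P (d i) = 0 := fun i => by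
      have := TensorProduct.sum_tmul_basis_left_eq_zero b (d.mapRange (ι' P) (map_zero _)) h0
      simpa using Finsupp.ext_iff.mp this i
    obtain ⟨Q, g, hg⟩ : ∃ (Q : HenselLib.Pt A (HenselLib.SepRes A)) (g : P ⟶ Q),
        ∀ i ∈ d.support, g.map (d i) = 0 := by
      have hι : ∀ i, HenselLib.ι P (d i) = 0 := fun i => e.injective (by rw [map_zero]; exact hd0 i)
      generalize d.support = s
      induction s using Finset.induction_on with
      | empty => exact ⟨P, CategoryTheory.CategoryStruct.id P, by simp⟩
      | insert a s has ih =>
        obtain ⟨Q, g, hg⟩ := ih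
        obtain ⟨Q', g', hg'⟩ := (HenselLib.exists_eq_zero_iff (g.map (d a))).mp (by
          rw [HenselLib.ι_map]; exact hι a)
        refine ⟨Q', CategoryTheory.CategoryStruct.comp g g', fun i hi => ?_⟩
        rw [HenselLib.Pt.comp_map]
        rcases Finset.mem_insert.mp hi with rfl | hi
        · exact hg'
        · change g'.map (g.map (d i)) = 0
          rw [hg i hi, map_zero]
    haveI := hstage Q
    let mg := Algebra.TensorProduct.map (AlgHom.id k K) (g.map.restrictScalars k)
    have hznil : mg z = 0 := IsReduced.eq_zero _ ⟨n, by
      rw [← map_pow, ← hd]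
      simp only [Finsupp.sum, map_sum, mg, Algebra.TensorProduct.map_tmul, AlgHom.id_apply]
      exact Finset.sum_eq_zero fun i hi => by
        change b i ⊗ₜ[k] g.map (d i) = 0
        rw [hg i hi, TensorProduct.tmul_zero]⟩
    rw [← hz]
    have hcomp : (Algebra.TensorProduct.map (AlgHom.id k K) (ι' Q)).comp mg =
        Algebra.TensorProduct.map (AlgHom.id k K) (ι' P) := by
      rw [← Algebra.TensorProduct.map_comp, AlgHom.id_comp]
      congr 1
      exact AlgHom.ext fun p => congrArg e (HenselLib.ι_map g p)
    rw [← hcomp, AlgHom.comp_apply, hznil, map_zero]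
  · intro h K _ _
    haveI := h K
    haveI : Module.FaithfullyFlat A R := Module.FaithfullyFlat.of_linearEquiv A (HenselLib.LocalSH A) e.symm.toLinearEquiv
    have hinj : Function.Injective (IsScalarTower.toAlgHom k A R) :=
      FaithfulSMul.algebraMap_injective A R
    exact isReduced_of_injective (Algebra.TensorProduct.map (AlgHom.id k K) (IsScalarTower.toAlgHom k A R))
      (Module.Flat.lTensor_preserves_injective_linearMap (M := K) (IsScalarTower.toAlgHom k A R).toLinearMap hinj)

end Groth.Agent.S10498
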