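import Groth.Statements.S10509
import Groth.Agent.AlgSpLib.EtLocalInst
import Groth.Agent.AlgSpLib.PointsTop
import Groth.Agent.FlatMorSmoothSect.Scheme
-- import your own Groth.Agent.* helpers here

set_option autoImplicit false
universe u
open CategoryTheory CategoryTheory.Limits AlgebraicGeometry
open AlgSp

namespace Groth.Agent.S10509

set_option backward.isDefEq.respectTransparency.types false

/-- A smooth covering of an algebraic space `X` over `S` by algebraic spaces can be refined by an etale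
covering of `X` by algebraic spaces: there is an etale covering `{U_j ⟶ X}` each member of which
factors through some member of the given smooth covering. -/
theorem result {S : Scheme.{u}} (X : AlgSp.Space S) {ι : Type u}
    (Xi : ι → AlgSp.Space S) (g : ∀ i, Xi i ⟶ X)
    (h : AlgSp.IsSmCover (fun i => (Xi i).obj) (fun i => (g i).hom)) :
    ∃ (κ : Type u) (U : κ → AlgSp.Space S) (c : ∀ j, U j ⟶ X),
      AlgSp.IsEtCover (fun j => (U j).obj) (fun j => (c j).hom) ∧
      ∀ j, ∃ (i : ι) (r : U j ⟶ Xi i), r ≫ g i = c j := by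
  obtain ⟨V, b, hbe, hbs⟩ := X.property.atlas
  have key : ∀ v : V.left, ∃ (W : Over S) (k : W ⟶ V) (i : ι) (r : (AlgSp.yon S).obj W ⟶ (Xi i).obj)
      (w : W.left), Etale k.left ∧ r ≫ (g i).hom = (AlgSp.yon S).map k ≫ b ∧
        AlgSp.Points.ofPt ((AlgSp.yon S).map k ≫ b) w = AlgSp.Points.ofPt b v := by
    intro v
    obtain ⟨i, y, hy⟩ := h.2 (AlgSp.Points.ofPt b v)
    obtain ⟨U, a, k₀, hae, has, hw⟩ :=
      Groth.Agent.AlgSpLib.exists_chart_over (Xi i).property X.property (g i).hom b hbe hbs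
    obtain ⟨u, rfl⟩ := Groth.Agent.AlgSpLib.surjective_ofPt a has y
    have : Smooth k₀.left := h.1 i a b k₀ hae hbe hw
    obtain ⟨S', e, s', he, hs', l, hl⟩ :=
      Groth.Agent.FlatMorSmoothSect.exists_section_etale_locally k₀.left u
    let W : Over S := Over.mk (e ≫ V.hom)
    let k : W ⟶ V := Over.homMk e rfl
    let l' : W ⟶ U := Over.homMk l (by
      show l ≫ U.hom = e ≫ V.hom
      rw [← Over.w k₀, ← Category.assoc, hl])
    refine ⟨W, k, i, (AlgSp.yon S).map l' ≫ a, s', he, ?_, ?_⟩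
    · have e1 : l' ≫ k₀ = k := Over.OverMorphism.ext hl
      rw [Category.assoc, hw, ← Category.assoc, ← Functor.map_comp, e1]
    · rw [Groth.Agent.AlgSpLib.ofPt_map]
      show AlgSp.Points.ofPt b (e s') = _
      rw [hs', ← Groth.Agent.AlgSpLib.ofPt_map k₀ b u, ← hw, ← AlgSp.Points.map_ofPt]
      exact hy
  choose W k i r w hke hr hw using key
  let U : V.left → AlgSp.Space S := fun v => ⟨(AlgSp.yon S).obj (W v), AlgSp.IsAlgSpace.yon_obj _⟩
  let c : ∀ v, U v ⟶ X := fun v => ⟨(AlgSp.yon S).map (k v) ≫ b⟩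
  refine ⟨V.left, U, c, ⟨fun v => ?_, fun x => ?_⟩, fun v => ⟨i v, ⟨r v⟩, ?_⟩⟩
  · have he : AlgSp.RepWith @Etale ((AlgSp.yon S).map (k v) ≫ b) :=
      Groth.Agent.AlgSpLib.RepWith.comp ((AlgSp.repWith_yon_map_iff _ _).2 (hke v)) hbe
    exact fun Z φ hφ => Groth.Agent.AlgSpLib.RepWith.comp hφ he
  · obtain ⟨v, rfl⟩ := Groth.Agent.AlgSpLib.surjective_ofPt b hbs x
    refine ⟨v, AlgSp.Points.ofScheme (W v) (w v), ?_⟩
    rw [AlgSp.Points.ofScheme, AlgSp.Points.map_ofPt, Category.id_comp]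
    exact hw v
  · ext1
    exact hr v

end Groth.Agent.S10509
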