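import Groth.Statements.S1051
import Groth.Agent.CommAlg4.Postnikov
-- import your own Groth.Agent.* helpers here

set_option autoImplicit false
universe v u
open CategoryTheory
open CohDer

namespace Groth.Agent.S1051

open CategoryTheory.Pretriangulated in
/-- Let X be a chain complex in a triangulated category D and n a natural number; consider the finite
complex Xₙ → Xₙ₋₁ → … → X₀. If every morphism Xᵢ[i - j - 2] ⟶ Xⱼ with j + 2 < i ≤ n vanishes, then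
there is a Postnikov system for it: objects Yₖ (k ≤ n), an isomorphism Y₀ ⟶ X₀, and for each k < n a
distinguished triangle Yₖ₊₁ ⟶ Xₖ₊₁ ⟶ Yₖ ⟶ Yₖ₊₁[1] such that Xₖ₊₁ ⟶ Yₖ ⟶ Xₖ is the differential of X. -/
theorem result {D : Type u} [Category.{v} D] [Preadditive D] [Limits.HasZeroObject D] [HasShift D ℤ]
    [∀ n : ℤ, (shiftFunctor D n).Additive] [Pretriangulated D] [IsTriangulated D]
    (X : ChainComplex D ℕ) (n : ℕ)
    (hX : ∀ i j : ℕ, j + 2 < i → i ≤ n → ∀ φ : (shiftFunctor D ((i : ℤ) - j - 2)).obj (X.X i) ⟶ X.X j, φ = 0) :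
    ∃ (Y : ℕ → D) (a : ∀ k, Y k ⟶ X.X k) (b : ∀ k, X.X (k + 1) ⟶ Y k) (c : ∀ k, Y k ⟶ (shiftFunctor D (1 : ℤ)).obj (Y (k + 1))),
      IsIso (a 0) ∧ ∀ k, k < n → Triangle.mk (a (k + 1)) (b k) (c k) ∈ distinguishedTriangles ∧ b k ≫ a k = X.d (k + 1) k := by
  open CommAlg4.Postnikov in
  classical
  have step : ∀ k, ∀ (Yk : D) (b : X.X (k + 1) ⟶ Yk), ∃ (Y' : D) (a' : Y' ⟶ X.X (k + 1))
      (b' : X.X (k + 2) ⟶ Y') (c : Yk ⟶ (shiftFunctor D (1 : ℤ)).obj Y'),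
      Triangle.mk a' b c ∈ distinguishedTriangles ∧
      (X.d (k + 2) (k + 1) ≫ b = 0 → b' ≫ a' = X.d (k + 2) (k + 1)) := by
    intro k Yk b
    obtain ⟨Y', a', c, hT⟩ := distinguished_cocone_triangle₁ b
    by_cases h : X.d (k + 2) (k + 1) ≫ b = 0
    · obtain ⟨b', hb'⟩ := Triangle.coyoneda_exact₂ _ hT (X.d (k + 2) (k + 1)) h
      exact ⟨Y', a', b', c, hT, fun _ => hb'.symm⟩
    · exact ⟨Y', a', 0, c, hT, fun h' => absurd h' h⟩
  choose nY na nb nc hnT hnb using step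
  obtain ⟨s, hs0, hss⟩ : ∃ s : ∀ k, Σ' (Yk : D) (_ : Yk ⟶ X.X k), X.X (k + 1) ⟶ Yk,
      s 0 = ⟨X.X 0, 𝟙 _, X.d 1 0⟩ ∧
      ∀ k, s (k + 1) = ⟨nY k (s k).1 (s k).2.2, na k (s k).1 (s k).2.2, nb k (s k).1 (s k).2.2⟩ :=
    ⟨fun k => Nat.rec (motive := fun k => Σ' (Yk : D) (_ : Yk ⟶ X.X k), X.X (k + 1) ⟶ Yk)
      ⟨X.X 0, 𝟙 _, X.d 1 0⟩
      (fun k p => ⟨nY k p.1 p.2.2, na k p.1 p.2.2, nb k p.1 p.2.2⟩) k, rfl, fun _ => rfl⟩
  have hc : ∀ k, ∃ c : (s k).1 ⟶ (shiftFunctor D (1 : ℤ)).obj (s (k + 1)).1,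
      Triangle.mk (s (k + 1)).2.1 (s k).2.2 c ∈ distinguishedTriangles := fun k => by
    rw [hss]; exact ⟨_, hnT k _ _⟩
  choose c hT using hc
  have h0 : IsIso (s 0).2.1 := by
    rw [hs0]; change IsIso (𝟙 (X.X 0)); infer_instance
  refine ⟨fun k => (s k).1, fun k => (s k).2.1, fun k => (s k).2.2, c, h0, ?_⟩
  intro k
  induction k with
  | zero =>
    intro _
    refine ⟨hT 0, ?_⟩
    show (s 0).2.2 ≫ (s 0).2.1 = _
    rw [hs0]
    exact Category.comp_id _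
  | succ k ih =>
    intro hk
    refine ⟨hT (k + 1), ?_⟩
    show (s (k + 1)).2.2 ≫ (s (k + 1)).2.1 = _
    rw [hss]
    refine hnb k _ _ ?_
    refine eq_zero_of_comp_a (fun i => X.X i) (fun k => (s k).1) (fun k => (s k).2.1)
      (fun k => (s k).2.2) c h0 k (fun l _ => hT l) _ (fun l hl => ?_) _ ?_
    · have h1 := hX (k + 2) l (by omega) (by omega)
      rw [show ((k + 2 : ℕ) : ℤ) - l - 2 = (k : ℤ) - l by omega] at h1
      exact h1
    · show (X.d (k + 2) (k + 1) ≫ (s k).2.2) ≫ (s k).2.1 = 0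
      rw [Category.assoc, (ih (by omega)).2]
      exact X.d_comp_d _ _ _

end Groth.Agent.S1051
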