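import Groth.Statements.S10510
import Groth.Agent.AlgSpLib.YonCoprod
import Groth.Agent.AlgSpLib.LocP
import Groth.Agent.AlgSpLib.EtLocalInst
import Groth.Agent.AlgSpLib.PointsTop
-- import your own Groth.Agent.* helpers here

set_option autoImplicit false
universe u
open CategoryTheory CategoryTheory.Limits AlgebraicGeometry
open AlgSp

namespace Groth.Agent.S10510

/-- An fppf covering `{X_i ⟶ X}` of an algebraic space `X` over `S` by algebraic spaces is jointly
surjective as a family of maps of fppf sheaves: every `h_T ⟶ X` from a scheme `T` over `S` lifts,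
locally for the fppf topology on `T`, through members of the family. -/
theorem result {S : Scheme.{u}} (X : AlgSp.Space S) {ι : Type u}
    (Xi : ι → AlgSp.Space S) (g : ∀ i, Xi i ⟶ X)
    (h : AlgSp.IsFppfCover (fun i => (Xi i).obj) (fun i => (g i).hom))
    (T : Over S) (t : (AlgSp.yon S).obj T ⟶ X.obj) :
    ∃ (κ : Type u) (Tk : κ → Over S) (c : ∀ k, Tk k ⟶ T),
      Sieve.ofArrows Tk c ∈ AlgSp.J S T ∧
      ∀ k, ∃ (i : ι) (l : (AlgSp.yon S).obj (Tk k) ⟶ (Xi i).obj), l ≫ (g i).hom = (AlgSp.yon S).map (c k) ≫ t := by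
  have hP : ∀ i, AlgSp.IsAlgSpace (pullback (g i).hom t) := fun i =>
    AlgSpLib.isAlgSpace_of_isPullback X.property.diag (Xi i).property (AlgSp.IsAlgSpace.yon_obj T)
      (IsPullback.of_hasPullback _ _)
  choose W w hwe hws using fun i => (hP i).atlas
  choose c hc using fun i => (AlgSp.yon S).map_surjective (w i ≫ pullback.snd (g i).hom t)
  have hT : AlgSp.RepWith @Etale (𝟙 ((AlgSp.yon S).obj T)) := by
    rw [← CategoryTheory.Functor.map_id]
    exact (AlgSp.repWith_yon_map_iff _ (𝟙 T)).2 (inferInstanceAs (Etale (𝟙 T.left)))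
  have hsq : ∀ i, IsPullback (pullback.fst (g i).hom t) (pullback.snd (g i).hom t) (g i).hom t :=
    fun i => IsPullback.of_hasPullback _ _
  have : ∀ i, Flat (c i).left := fun i =>
    AlgSpLib.locP_of_isPullback AlgSpLib.etLocal_flat (Xi i).property X.property (hP i) (hsq i) (h.1 i).1
      (w i) (𝟙 _) (c i) (hwe i) hT (by rw [hc, Category.comp_id])
  have : ∀ i, LocallyOfFinitePresentation (c i).left := fun i =>
    AlgSpLib.locP_of_isPullback AlgSpLib.etLocal_lfp (Xi i).property X.property (hP i) (hsq i) (h.1 i).2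
      (w i) (𝟙 _) (c i) (hwe i) hT (by rw [hc, Category.comp_id])
  refine ⟨ι, W, c, AlgSpLib.ofArrows_mem_J c fun z => ?_, fun i => ⟨i, w i ≫ pullback.fst (g i).hom t, by
    rw [hc, Category.assoc, Category.assoc, (hsq i).w]⟩⟩
  obtain ⟨i, x, hx⟩ := h.2 (AlgSp.Points.ofPt t z)
  rw [AlgSp.Points.ofPt_eq_map_ofScheme] at hx
  obtain ⟨p, -, hp⟩ := AlgSpLib.exists_point_of_isPullback (hsq i) hx
  obtain ⟨v, hv⟩ := AlgSpLib.surjective_ofPt (w i) (hws i) p
  refine ⟨i, v, (AlgSp.Points.schemeEquiv T).injective ?_⟩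
  rw [← hv, AlgSp.Points.ofPt_eq_map_ofScheme, ← AlgSp.Points.map_comp, ← hc, AlgSpLib.map_yon_map_ofScheme] at hp
  exact hp

end Groth.Agent.S10510
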