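import Groth.Statements.S10511
import Groth.Agent.AlgSpLib.RepLocal
import Groth.Agent.AlgSpLib.LimitDescend
import Groth.Agent.AlgSpLib.EtLocalInst
import Groth.Agent.AlgSpLib.LocP
import Groth.Agent.AlgSpLib.PointsTop
-- import your own Groth.Agent.* helpers here

set_option autoImplicit false
universe u
open CategoryTheory CategoryTheory.Limits AlgebraicGeometry
open AlgSp

namespace Groth.Agent.S10511

open Groth.Agent.AlgSpLib

variable {S : Scheme.{u}}

/-- flat and locally of finite presentation -/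
def FP {U X : AlgSp.Sp S} (a : U ⟶ X) : Prop :=
  AlgSp.LocP @Flat a ∧ AlgSp.LocP @LocallyOfFinitePresentation a

theorem fp_of_etale {U X : AlgSp.Sp S} (hU : AlgSp.IsAlgSpace U) {a : U ⟶ X} (ha : AlgSp.RepWith @Etale a) : FP a :=
  ⟨locP_of_repWith etLocal_flat hU (RepWith.mono (fun _ _ f (_ : Etale f) => (inferInstance : Flat f)) ha),
    locP_of_repWith etLocal_lfp hU
      (RepWith.mono (fun _ _ f (_ : Etale f) => (inferInstance : LocallyOfFinitePresentation f)) ha)⟩

theorem fp_of_openImm {U X : AlgSp.Sp S} (hU : AlgSp.IsAlgSpace U) {a : U ⟶ X}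
    (ha : AlgSp.RepWith @IsOpenImmersion a) : FP a :=
  fp_of_etale hU (RepWith.mono (fun _ _ f (_ : IsOpenImmersion f) => (inferInstance : Etale f)) ha)

theorem fp_comp {U V X : AlgSp.Sp S} (hU : AlgSp.IsAlgSpace U) (hV : AlgSp.IsAlgSpace V) (hX : AlgSp.IsAlgSpace X)
    {a : U ⟶ V} {b : V ⟶ X} (ha : FP a) (hb : FP b) : FP (a ≫ b) :=
  ⟨locP_comp etLocal_flat hU hV hX ha.1 hb.1, locP_comp etLocal_lfp hU hV hX ha.2 hb.2⟩

/-- factorisation through a monomorphism is detected on schemes -/
theorem exists_fac_of_yon {S : Scheme.{u}} {T X Y : AlgSp.Sp S} (f : X ⟶ Y) [Mono f] (g : T ⟶ Y)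
    (h : ∀ (U : Over S) (x : (AlgSp.yon S).obj U ⟶ T), ∃ k, k ≫ f = x ≫ g) : ∃ k, k ≫ f = g := by
  choose k hk using h
  refine ⟨⟨{ app := fun U => ↾fun t =>
      (AlgSp.J S).uliftYonedaEquiv (k U.unop ((AlgSp.J S).uliftYonedaEquiv.symm t))
             naturality := fun U U' m => ?_ }⟩, ?_⟩
  · ext t
    show (AlgSp.J S).uliftYonedaEquiv (k U'.unop ((AlgSp.J S).uliftYonedaEquiv.symm (T.obj.map m t))) =
      X.obj.map m ((AlgSp.J S).uliftYonedaEquiv (k U.unop ((AlgSp.J S).uliftYonedaEquiv.symm t)))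
    rw [GrothendieckTopology.uliftYonedaEquiv_naturality']
    congr 1
    rw [← cancel_mono f, Category.assoc, hk, hk, ← Category.assoc]
    congr 1
    exact ((AlgSp.J S).uliftYonedaEquiv_symm_naturality_left m.unop T t).symm
  · ext U t
    show f.hom.app U ((AlgSp.J S).uliftYonedaEquiv (k U.unop ((AlgSp.J S).uliftYonedaEquiv.symm t))) = g.hom.app U t
    rw [← GrothendieckTopology.uliftYonedaEquiv_comp, hk, GrothendieckTopology.uliftYonedaEquiv_comp,
      Equiv.apply_symm_apply]

/-- fibre products of open subschemes are their intersections -/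
theorem exists_iso_inter {T : Over S} {U : AlgSp.Sp S} (e : U ≅ (AlgSp.yon S).obj T) {n : ℕ}
    (O : Fin (n + 1) → T.left.Opens) (g : ∀ k, (AlgSp.yon S).obj (restrictOver T (O k)) ⟶ U)
    (hg : ∀ k, g k = (AlgSp.yon S).map (restrictOverι T (O k)) ≫ e.inv) :
    ∃ (O' : T.left.Opens) (e' : widePullback U (fun k => (AlgSp.yon S).obj (restrictOver T (O k))) g ≅
        (AlgSp.yon S).obj (restrictOver T O')), (∀ x, x ∈ O' ↔ ∀ k, x ∈ O k) ∧
      WidePullback.base g = e'.hom ≫ (AlgSp.yon S).map (restrictOverι T O') ≫ e.inv := by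
  let O' : T.left.Opens := ⟨⋂ k, (O k : Set T.left), isOpen_iInter_of_finite fun k => (O k).2⟩
  have hO' : ∀ x, x ∈ O' ↔ ∀ k, x ∈ O k := fun x => Set.mem_iInter
  have hle : ∀ k, O' ≤ O k := fun k x hx => (hO' x).1 hx k
  let r : ∀ k, restrictOver T O' ⟶ restrictOver T (O k) := fun k =>
    Over.homMk (T.left.homOfLE (hle k)) (by simp [restrictOver])
  have hr : ∀ k, r k ≫ restrictOverι T (O k) = restrictOverι T O' := fun k =>
    Over.OverMorphism.ext (T.left.homOfLE_ι (hle k))
  haveI : ∀ V : T.left.Opens, Mono ((AlgSp.yon S).map (restrictOverι T V)) := fun V => by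
    haveI : Mono (restrictOverι T V).left := inferInstanceAs (Mono V.ι)
    haveI : Mono (restrictOverι T V) := Over.mono_of_mono_left _
    exact inferInstance
  haveI : ∀ k, Mono (g k) := fun k => by rw [hg]; infer_instance
  have hw : ∀ k, (AlgSp.yon S).map (r k) ≫ g k = (AlgSp.yon S).map (restrictOverι T O') ≫ e.inv := fun k => by
    rw [hg, ← Category.assoc, ← Functor.map_comp, hr]
  let m := WidePullback.lift ((AlgSp.yon S).map (restrictOverι T O') ≫ e.inv) (fun k => (AlgSp.yon S).map (r k)) hw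
  have hm : m ≫ WidePullback.base g = (AlgSp.yon S).map (restrictOverι T O') ≫ e.inv := WidePullback.lift_base _ _ _ _
  obtain ⟨l, hl⟩ : ∃ l, l ≫ ((AlgSp.yon S).map (restrictOverι T O') ≫ e.inv) = WidePullback.base g := by
    haveI : Mono ((AlgSp.yon S).map (restrictOverι T O') ≫ e.inv) := inferInstance
    refine exists_fac_of_yon _ _ fun Z x => ?_
    obtain ⟨y, hy⟩ := (AlgSp.yon S).map_surjective (x ≫ WidePullback.base g ≫ e.hom)
    have hyr : Set.range y.left ⊆ Set.range (restrictOverι T O').left := by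
      rw [range_restrictOverι]
      rintro _ ⟨z, rfl⟩
      refine (hO' _).2 fun k => ?_
      obtain ⟨yk, hyk⟩ := (AlgSp.yon S).map_surjective (x ≫ WidePullback.π g k)
      have : y = yk ≫ restrictOverι T (O k) := (AlgSp.yon S).map_injective (by
        rw [hy, Functor.map_comp, hyk, ← WidePullback.π_arrow g k, hg]
        simp)
      rw [this, ← SetLike.mem_coe, ← range_restrictOverι T (O k)]
      exact ⟨yk.left z, rfl⟩
    refine ⟨(AlgSp.yon S).map (Over.homMk (IsOpenImmersion.lift (restrictOverι T O').left y.left hyr) ?_), ?_⟩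
    · rw [← Over.w y, ← Over.w (restrictOverι T O'), IsOpenImmersion.lift_fac_assoc]
    · rw [← Category.assoc, ← Functor.map_comp, Iso.comp_inv_eq, Category.assoc, ← hy]
      congr 1
      exact Over.OverMorphism.ext (IsOpenImmersion.lift_fac _ _ _)
  haveI : Mono (WidePullback.base g) := ⟨fun {Z} a b h => WidePullback.hom_ext _ _ _ (fun k => by
    rw [← cancel_mono (g k), Category.assoc, Category.assoc, WidePullback.π_arrow, h]) h⟩
  haveI : Mono ((AlgSp.yon S).map (restrictOverι T O') ≫ e.inv) := inferInstance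
  refine ⟨O', ⟨l, m, ?_, ?_⟩, hO', hl.symm⟩
  · rw [← cancel_mono (WidePullback.base g), Category.assoc, hm, hl, Category.id_comp]
  · rw [← cancel_mono ((AlgSp.yon S).map (restrictOverι T O') ≫ e.inv), Category.assoc, hl, hm, Category.id_comp]

/-- fibre products of an etale chart -/
theorem exists_iso_wide {X : AlgSp.Space S} {U : Over S} (a : (AlgSp.yon S).obj U ⟶ X.obj) (ha : AlgSp.RepWith @Etale a) :
    ∀ n : ℕ, ∃ (W : Over S) (_ : widePullback X.obj (fun _ : Fin (n + 1) => (AlgSp.yon S).obj U) (fun _ => a) ≅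
        (AlgSp.yon S).obj W),
      AlgSp.RepWith @Etale (WidePullback.base (fun _ : Fin (n + 1) => a)) := by
  intro n
  induction n with
  | zero =>
    let g := fun _ : Fin (0 + 1) => a
    let e : widePullback X.obj _ g ≅ (AlgSp.yon S).obj U :=
      { hom := WidePullback.π g 0
        inv := WidePullback.lift a (fun _ => 𝟙 _) (fun _ => Category.id_comp _)
        hom_inv_id := WidePullback.hom_ext _ _ _ (fun k => by
            rw [Category.assoc, WidePullback.lift_π, Category.comp_id, Category.id_comp]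
            congr 1; exact (Fin.fin_one_eq_zero k).symm)
          (by rw [Category.assoc, WidePullback.lift_base, WidePullback.π_arrow, Category.id_comp])
        inv_hom_id := WidePullback.lift_π _ _ _ _ _ }
    haveI : IsIso e.hom := e.isIso_hom
    exact ⟨U, e, by rw [← WidePullback.π_arrow g 0]; exact RepWith.comp (repWith_of_isIso _ e.hom) ha⟩
  | succ n ih =>
    obtain ⟨W, eW, hb⟩ := ih
    let g := fun _ : Fin (n + 1) => a
    let g' := fun _ : Fin (n + 1 + 1) => a
    let b := eW.inv ≫ WidePullback.base g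
    have hb' : AlgSp.RepWith @Etale b := RepWith.comp (repWith_of_isIso _ eW.inv) hb
    have sq := ha.1.isPullback b
    let W' := ha.1.pullback b
    let p := ha.1.fst b
    let q := (AlgSp.yon S).map (ha.1.snd b)
    have hpa : p ≫ a = q ≫ b := sq.w
    let u : (AlgSp.yon S).obj W' ⟶ widePullback X.obj _ g := q ≫ eW.inv
    let inv : (AlgSp.yon S).obj W' ⟶ widePullback X.obj _ g' :=
      WidePullback.lift (p ≫ a) (Fin.lastCases p fun k => u ≫ WidePullback.π g k) (fun j => by
        induction j using Fin.lastCases with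
        | last => simp [g']
        | cast k => simp [g', g, u, hpa, b, q, WidePullback.π_arrow])
    let v : widePullback X.obj _ g' ⟶ widePullback X.obj _ g :=
      WidePullback.lift (WidePullback.base g') (fun k => WidePullback.π g' k.castSucc)
        (fun k => WidePullback.π_arrow g' k.castSucc)
    let hom : widePullback X.obj _ g' ⟶ (AlgSp.yon S).obj W' :=
      sq.lift (WidePullback.π g' (Fin.last _)) (v ≫ eW.hom) (by
        simp [b, v, g, g', WidePullback.π_arrow g', WidePullback.lift_base])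
    have hhp : hom ≫ p = WidePullback.π g' (Fin.last _) := sq.lift_fst _ _ _
    have hhq : hom ≫ q = v ≫ eW.hom := sq.lift_snd _ _ _
    let e : widePullback X.obj _ g' ≅ (AlgSp.yon S).obj W' :=
      { hom := hom
        inv := inv
        hom_inv_id := WidePullback.hom_ext _ _ _ (fun j => by
            rw [Category.assoc, WidePullback.lift_π, Category.id_comp]
            induction j using Fin.lastCases with
            | last => rw [Fin.lastCases_last, hhp]
            | cast k =>
              rw [Fin.lastCases_castSucc, ← Category.assoc, ← Category.assoc, hhq]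
              simp [v, g, WidePullback.lift_π])
          (by rw [Category.assoc, WidePullback.lift_base, Category.id_comp, ← Category.assoc, hhp, WidePullback.π_arrow])
        inv_hom_id := sq.hom_ext
          (by rw [Category.assoc, hhp, WidePullback.lift_π, Fin.lastCases_last, Category.id_comp])
          (by
            rw [Category.assoc, hhq, Category.id_comp, ← Category.assoc, ← Iso.eq_comp_inv]
            refine WidePullback.hom_ext _ _ _ (fun k => ?_) ?_
            · rw [Category.assoc, WidePullback.lift_π, WidePullback.lift_π, Fin.lastCases_castSucc]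
            · rw [Category.assoc, WidePullback.lift_base, WidePullback.lift_base, hpa]
              simp [b, u, q]) }
    haveI : IsIso e.hom := e.isIso_hom
    refine ⟨W', e, ?_⟩
    have : WidePullback.base g' = e.hom ≫ p ≫ a := by
      rw [← Category.assoc]; show _ = (hom ≫ p) ≫ a; rw [hhp, WidePullback.π_arrow]
    rw [this, hpa]
    exact RepWith.comp (repWith_of_isIso _ e.hom) (RepWith.comp
      ((AlgSp.repWith_yon_map_iff _ _).2 (ha.property_snd b)) hb')

section

variable {X : AlgSp.Space S} (P : ∀ ⦃U : AlgSp.Sp S⦄, (U ⟶ X.obj) → Prop)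

/-- the property on the schemes of a class -/
def Good (cls : Scheme.{u} → Prop) : Prop :=
  ∀ ⦃U : AlgSp.Sp S⦄ (a : U ⟶ X.obj) (T : Over S) (_ : U ≅ (AlgSp.yon S).obj T), cls T.left → FP a → P a

variable (hP : ∀ ⦃U : AlgSp.Sp S⦄ (a : U ⟶ X.obj), AlgSp.IsAlgSpace U →
      ∀ ⦃ι : Type u⦄ (Ui : ι → AlgSp.Sp S) (g : ∀ i, Ui i ⟶ U), (∀ i, AlgSp.IsAlgSpace (Ui i)) →
      AlgSp.IsFppfCover Ui g →
      (∀ (n : ℕ) (c : Fin (n + 1) → ι),
        P (WidePullback.base (fun k : Fin (n + 1) => g (c k)) ≫ a)) → P a)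
include hP

/-- descent to a class covered by affine opens with intersections in a good class -/
theorem good_step {cls cls' : Scheme.{u} → Prop} (hgood : Good P cls')
    (hcls : ∀ T : Scheme.{u}, cls T → ∀ (n : ℕ) (O : Fin (n + 1) → T.affineOpens) (O' : T.Opens),
      (∀ x, x ∈ O' ↔ ∀ k, x ∈ (O k).1) → cls' O'.toScheme) : Good P cls := by
  intro U a T e hT ha
  have hU : AlgSp.IsAlgSpace U := (AlgSp.IsAlgSpace.yon_obj T).of_iso e.symm
  let ι : Type u := T.left.affineOpens
  let g : ∀ O : ι, (AlgSp.yon S).obj (restrictOver T O.1) ⟶ U := fun O =>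
    (AlgSp.yon S).map (restrictOverι T O.1) ≫ e.inv
  have hgo : ∀ O, AlgSp.RepWith @IsOpenImmersion (g O) := fun O =>
    RepWith.comp ((AlgSp.repWith_yon_map_iff _ _).2 inferInstance) (repWith_of_isIso _ e.inv)
  refine hP a hU _ g (fun O => AlgSp.IsAlgSpace.yon_obj _)
    ⟨fun O => fp_of_openImm (AlgSp.IsAlgSpace.yon_obj _) (hgo O), fun x => ?_⟩ fun n c => ?_
  · obtain ⟨z, hz⟩ := (AlgSp.Points.schemeHomeo T).surjective (AlgSp.Points.map e.hom x)
    obtain ⟨O, hzO, -⟩ := exists_affine_mem (O := ⊤) (x := z) trivial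
    obtain ⟨z', hz'⟩ : z ∈ Set.range (restrictOverι T O.1).left := by rw [range_restrictOverι]; exact hzO
    refine ⟨O, AlgSp.Points.ofScheme (restrictOver T O.1) z', ?_⟩
    show AlgSp.Points.map ((AlgSp.yon S).map (restrictOverι T O.1) ≫ e.inv) _ = x
    rw [AlgSp.Points.map_comp, map_yon_map_ofScheme, hz']
    exact (congrArg _ hz).trans (by rw [← AlgSp.Points.map_comp, e.hom_inv_id, AlgSp.Points.map_id])
  · obtain ⟨O', e', hO', hb⟩ := exists_iso_inter e (fun k => (c k).1) (fun k => g (c k)) fun k => rfl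
    have hW : AlgSp.IsAlgSpace (widePullback U _ (fun k => g (c k))) := (AlgSp.IsAlgSpace.yon_obj _).of_iso e'.symm
    refine hgood _ _ e' (hcls _ hT n c O' hO') ?_
    refine fp_comp hW hU X.property ?_ ha
    rw [hb]
    exact fp_of_openImm hW (RepWith.comp (repWith_of_isIso _ e'.hom)
      (RepWith.comp ((AlgSp.repWith_yon_map_iff _ _).2 inferInstance) (repWith_of_isIso _ e.inv)))

omit hP in
theorem isSeparated_opens {T : Scheme.{u}} (A : T.affineOpens) (O' : T.Opens) (h : O' ≤ A.1) :
    O'.toScheme.IsSeparated := by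
  haveI : IsAffine A.1.toScheme := A.2
  haveI : A.1.toScheme.IsSeparated := inferInstance
  exact ⟨by rw [← Limits.terminal.comp_from (T.homOfLE h)]; infer_instance⟩

end

/-- Let `X` be an algebraic space over `S` and `P` a property of sheaves over `X` such that, for every
algebraic space `U` over `X` and every fppf covering `{U_i ⟶ U}` by algebraic spaces, `P` holds for
`U` as soon as it holds for all the iterated fibre products `U_{i_0} ×_U ⋯ ×_U U_{i_n}` (`n ≥ 0`,
taken in fppf sheaves) over `X`. If `P` holds for every sheaf over `X` that is isomorphic to an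
affine scheme and flat and locally of finite presentation over `X`, then `P` holds for `X`. -/
theorem result {S : Scheme.{u}} (X : AlgSp.Space S)
    (P : ∀ ⦃U : AlgSp.Sp S⦄, (U ⟶ X.obj) → Prop)
    (hP : ∀ ⦃U : AlgSp.Sp S⦄ (a : U ⟶ X.obj), AlgSp.IsAlgSpace U →
      ∀ ⦃ι : Type u⦄ (Ui : ι → AlgSp.Sp S) (g : ∀ i, Ui i ⟶ U), (∀ i, AlgSp.IsAlgSpace (Ui i)) →
      AlgSp.IsFppfCover Ui g →
      (∀ (n : ℕ) (c : Fin (n + 1) → ι),
        P (WidePullback.base (fun k : Fin (n + 1) => g (c k)) ≫ a)) → P a)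
    (haff : ∀ ⦃U : AlgSp.Sp S⦄ (a : U ⟶ X.obj) (T : Over S) (e : U ≅ (AlgSp.yon S).obj T), IsAffine T.left →
      AlgSp.LocP @Flat a → AlgSp.LocP @LocallyOfFinitePresentation a → P a) :
    P (𝟙 X.obj) := by
  classical
  have g0 : Good P (fun T => IsAffine T) := fun U a T e hT ha => haff a T e hT ha.1 ha.2
  have g1 : Good P (fun T => T.IsSeparated) := good_step P hP g0 fun T hT n O O' hO' => by
    haveI : T.IsSeparated := hT
    have h : IsAffineOpen (⨅ k, (O k).1) := IsAffineOpen.iInf fun k => (O k).2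
    have e : O' = ⨅ k, (O k).1 := TopologicalSpace.Opens.ext (Set.ext fun x => by
      rw [SetLike.mem_coe, hO', TopologicalSpace.Opens.coe_iInf]; simp)
    show IsAffineOpen O'
    rw [e]; exact h
  have g2 : Good P (fun _ => True) := good_step P hP g1 fun T _ n O O' hO' =>
    isSeparated_opens (O 0) O' fun x hx => (hO' x).1 hx 0
  obtain ⟨U, a, hae, has⟩ := X.property.atlas
  refine hP (𝟙 X.obj) X.property (fun _ : PUnit.{u + 1} => (AlgSp.yon S).obj U) (fun _ => a)
    (fun _ => AlgSp.IsAlgSpace.yon_obj U)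
    ⟨fun _ => fp_of_etale (AlgSp.IsAlgSpace.yon_obj U) hae, fun x => ⟨PUnit.unit, ?_⟩⟩ fun n c => ?_
  · obtain ⟨u, rfl⟩ := surjective_ofPt a has x
    exact ⟨AlgSp.Points.ofScheme U u, (AlgSp.Points.ofPt_eq_map_ofScheme a u).symm⟩
  · obtain ⟨W, e, hb⟩ := exists_iso_wide a hae n
    rw [Category.comp_id]
    exact g2 _ W e trivial (fp_of_etale ((AlgSp.IsAlgSpace.yon_obj W).of_iso e.symm) hb)

end Groth.Agent.S10511
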