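import Groth.Statements.S10512
import Groth.Agent.AlgSpLib.SpacesEtTop
import Groth.Agent.Stk19b.StalkPoint
-- import your own Groth.Agent.* helpers here

set_option autoImplicit false
universe u
open CategoryTheory CategoryTheory.Limits AlgebraicGeometry
open AlgSp

namespace Groth.Agent.S10512

/-- For a morphism `f : Y ⟶ X` of algebraic spaces over `S`, the functor from the small etale site of
`Y` (scheme objects) to the big etale site `(Spaces/X)_{etale}` sending `h_U ⟶ Y` to `h_U ⟶ Y ⟶ X`
is cocontinuous; for `f = 𝟙` this is the cocontinuity of the inclusion of the small etale site of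
`X` into its big etale site. (Stated for the small etale site with scheme objects, which defines the
same topos as the one with algebraic-space objects.) -/
theorem result {S : Scheme.{u}} {X Y : AlgSp.Space S} (f : Y ⟶ X) :
    (AlgSp.EtOver.toEtSpOver Y ⋙ ObjectProperty.ι (fun E : Over Y => AlgSp.IsEtaleMor E.hom.hom) ⋙
        Over.map f).IsCocontinuous (AlgSp.etTop Y.obj) (AlgSp.spacesTopOver AlgSp.IsEtaleMor X) := by
  refine ⟨fun {E R} hR => ?_⟩
  rw [GrothendieckTopology.mem_over_iff] at hR
  refine Stk19b.StalkPoint.mem_etTop_of_forall _ fun e => ?_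
  obtain ⟨W, g, hge, hg, hu⟩ :=
    Groth.Agent.AlgSpLib.exists_etale_of_mem_spacesTop hR (U := E.obj.left) (𝟙 _) e
  replace hg := Eq.mp (congrArg (fun z => (Sieve.overEquiv _ R).arrows z) (Category.comp_id ((AlgSp.ofScheme S).map g))) hg
  let T : AlgSp.EtOver Y.obj := AlgSp.EtOver.mk ((AlgSp.yon S).map g ≫ E.obj.hom)
    ((AlgSp.repWith_isMultiplicative (S := S) @Etale).comp_mem _ _ ((AlgSp.repWith_yon_map_iff _ _).2 hge) E.property)
  let k : T ⟶ E := AlgSp.EtOver.homMk g rfl
  refine ⟨T, k, ?_, hu⟩
  obtain ⟨Z, q, h, hq, e'⟩ := hg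
  let G := AlgSp.EtOver.toEtSpOver Y ⋙ ObjectProperty.ι (fun E : Over Y => AlgSp.IsEtaleMor E.hom.hom) ⋙ Over.map f
  have hm : h ≫ q.left = (G.map k).left := e'.symm
  show R.arrows (G.map k)
  have : G.map k = (Over.homMk h ((congrArg (h ≫ ·) (Over.w q).symm).trans ((Category.assoc _ _ _).symm.trans ((congrArg (· ≫ (G.obj E).hom) hm).trans (Over.w (G.map k))))) : G.obj T ⟶ Z) ≫ q :=
    Over.OverMorphism.ext hm.symm
  rw [this]
  exact R.downward_closed hq _

end Groth.Agent.S10512
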