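import Groth.Statements.S10513
import Groth.Agent.AlgSpLib.SpacesEtTop
import Groth.Agent.Stk19b.StalkPoint
import Mathlib.CategoryTheory.Sites.CoverPreserving
-- import your own Groth.Agent.* helpers here

set_option autoImplicit false
universe u
open CategoryTheory CategoryTheory.Limits AlgebraicGeometry
open AlgSp

namespace Groth.Agent.S10513

/-- For a morphism `f : Y ⟶ X` of algebraic spaces over `S`, the functor from the small etale site of
`Y` (scheme objects) to the big etale site `(Spaces/X)_{etale}` sending `h_U ⟶ Y` to `h_U ⟶ Y ⟶ X`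
is continuous (precomposition with it carries sheaves of types to sheaves); for `f = 𝟙` this is the
continuity of the inclusion of the small etale site of `X` into its big etale site. (Stated for the
small etale site with scheme objects, which defines the same topos as the one with algebraic-space
objects.) -/
theorem result {S : Scheme.{u}} {X Y : AlgSp.Space S} (f : Y ⟶ X) :
    (AlgSp.EtOver.toEtSpOver Y ⋙ ObjectProperty.ι (fun E : Over Y => AlgSp.IsEtaleMor E.hom.hom) ⋙
        Over.map f).IsContinuous (AlgSp.etTop Y.obj) (AlgSp.spacesTopOver AlgSp.IsEtaleMor X) := by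
  refine Functor.isContinuous_of_coverPreserving ⟨?_⟩ ⟨?_⟩
  · intro ℱ Z T x hx Y₁ Y₂ W f₁ f₂ g₁ g₂ hg₁ hg₂ e
    have e' : f₁.left ≫ (AlgSp.ofScheme S).map g₁.hom.left = f₂.left ≫ (AlgSp.ofScheme S).map g₂.hom.left :=
      congrArg CommaMorphism.left e
    let Pd := AlgSp.EtOver.pullbackObj g₁ g₂
    let k₁ := AlgSp.EtOver.pullbackFst g₁ g₂
    let k₂ := AlgSp.EtOver.pullbackSnd g₁ g₂
    have sq : IsPullback ((AlgSp.yon S).map k₁.hom.left) ((AlgSp.yon S).map k₂.hom.left)
        ((AlgSp.yon S).map g₁.hom.left) ((AlgSp.yon S).map g₂.hom.left) :=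
      (IsPullback.of_hasPullback g₁.hom.left g₂.hom.left).map (AlgSp.yon S)
    obtain ⟨l, hl₁, hl₂⟩ := sq.exists_lift f₁.left.hom f₂.left.hom congr(($e').hom)
    let G := AlgSp.EtOver.toEtSpOver Y ⋙ ObjectProperty.ι (fun E : Over Y => AlgSp.IsEtaleMor E.hom.hom) ⋙ Over.map f
    have key : ℱ.obj.map (G.map k₁).op (x g₁ hg₁) = ℱ.obj.map (G.map k₂).op (x g₂ hg₂) :=
      hx k₁ k₂ hg₁ hg₂ (AlgSp.EtOver.pullback_condition g₁ g₂)
    have hc₁ : ((ObjectProperty.homMk l : W.left ⟶ (AlgSp.ofScheme S).obj Pd.obj.left) ≫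
        (AlgSp.ofScheme S).map k₁.hom.left) = f₁.left := by ext : 1; exact hl₁
    have hc₂ : ((ObjectProperty.homMk l : W.left ⟶ (AlgSp.ofScheme S).obj Pd.obj.left) ≫
        (AlgSp.ofScheme S).map k₂.hom.left) = f₂.left := by ext : 1; exact hl₂
    let c : W ⟶ G.obj Pd := Over.homMk (ObjectProperty.homMk l) (by
      rw [← Over.w f₁, ← Over.w (G.map k₁)]
      exact (Category.assoc _ _ _).symm.trans (congrArg (· ≫ _) hc₁))
    have h1 : f₁ = c ≫ G.map k₁ := Over.OverMorphism.ext hc₁.symm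
    have h2 : f₂ = c ≫ G.map k₂ := Over.OverMorphism.ext hc₂.symm
    rw [h1, h2, op_comp, op_comp, Functor.map_comp_apply, Functor.map_comp_apply]
    exact congrArg _ key
  · intro E R hR
    rw [GrothendieckTopology.mem_over_iff]
    refine Groth.Agent.AlgSpLib.mem_spacesTop_of_forall _ fun x => ?_
    obtain ⟨e, rfl⟩ := (AlgSp.Points.schemeEquiv E.obj.left).surjective x
    obtain ⟨p, v, hp, hv, -⟩ := Stk19b.StalkPoint.exists_point_through E e
    obtain ⟨Y', g, hg, y, hy⟩ := Stk19b.EtNbhd.exists_lift_sieve p hp R hR v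
    obtain ⟨t, ht⟩ : e ∈ Set.range g.hom.left.left := hv ▸ Stk19b.StalkPoint.range_of_map g hy
    refine ⟨(AlgSp.ofScheme S).obj Y'.obj.left, (AlgSp.ofScheme S).map g.hom.left, ?_, ?_,
      AlgSp.Points.schemeEquiv _ t, ?_⟩
    · let G := AlgSp.EtOver.toEtSpOver Y ⋙ ObjectProperty.ι (fun E : Over Y => AlgSp.IsEtaleMor E.hom.hom) ⋙ Over.map f
      have hmem : (R.functorPushforward G).arrows (G.map g) := Sieve.image_mem_functorPushforward G R hg
      exact ⟨G.obj Y', G.map g, 𝟙 (G.obj Y').left, hmem, (Category.id_comp _).symm⟩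
    · exact AlgSp.isEtaleMor_of_repWith _ ((AlgSp.repWith_yon_map_iff _ _).2 (AlgSp.EtOver.etale_left g))
    · exact (Groth.Agent.AlgSpLib.map_yon_map_ofScheme g.hom.left t).trans (congrArg _ ht)

end Groth.Agent.S10513
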