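import Groth.Statements.S10514
import Groth.Agent.AlgSpLib.EtLocalInst
import Groth.Agent.AlgSpLib.PointsTop
import Groth.Agent.FlatMor12.PhCover
import Groth.Agent.AlgSpLib.Basic
-- import your own Groth.Agent.* helpers here

set_option autoImplicit false
universe u
open CategoryTheory CategoryTheory.Limits AlgebraicGeometry
open AlgSp

namespace Groth.Agent.S10514

set_option backward.isDefEq.respectTransparency.types false

/-- An fppf covering of an algebraic space `X` over `S` by algebraic spaces is a ph covering of `X`: its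
members are locally of finite type and every morphism from an affine scheme `Z` to `X` admits a
standard ph covering of `Z` whose members lift through members of the family. -/
theorem result {S : Scheme.{u}} (X : AlgSp.Space S) {ι : Type u}
    (Xi : ι → AlgSp.Space S) (g : ∀ i, Xi i ⟶ X)
    (h : AlgSp.IsFppfCover (fun i => (Xi i).obj) (fun i => (g i).hom)) :
    AlgSp.IsPhCover (fun i => (Xi i).obj) (fun i => (g i).hom) := by
  refine ⟨fun i U V a b k ha hb w => ?_, fun Z hZ z => ?_⟩
  · have h1 : LocallyOfFinitePresentation k.left := (h.1 i).2 a b k ha hb w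
    infer_instance
  have := hZ
  have hP : ∀ i, IsAlgSpace (pullback (g i).hom z) := fun i =>
    Groth.Agent.AlgSpLib.isAlgSpace_of_isPullback X.property.diag (Xi i).property (IsAlgSpace.yon_obj _)
      (IsPullback.of_hasPullback _ _)
  choose U a hae has using fun i => (hP i).atlas
  let k : ∀ i, U i ⟶ Z := fun i => (yon S).preimage (a i ≫ pullback.snd (g i).hom z)
  have hk : ∀ i, (yon S).map (k i) = a i ≫ pullback.snd (g i).hom z :=
    fun i => (yon S).map_preimage _
  have hsq : ∀ i, a i ≫ pullback.snd (g i).hom z = (yon S).map (k i) ≫ 𝟙 _ := fun i => by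
    rw [hk, Category.comp_id]
  have hflat : ∀ i, Flat (k i).left := fun i =>
    (Groth.Agent.AlgSpLib.locP_of_isPullback Groth.Agent.AlgSpLib.etLocal_flat (Xi i).property X.property (hP i)
      (IsPullback.of_hasPullback _ _) (h.1 i).1) (a i) (𝟙 _) (k i) (hae i) (repWith_id _ Z) (hsq i)
  have hfp : ∀ i, LocallyOfFinitePresentation (k i).left := fun i =>
    (Groth.Agent.AlgSpLib.locP_of_isPullback Groth.Agent.AlgSpLib.etLocal_lfp (Xi i).property X.property (hP i)
      (IsPullback.of_hasPullback _ _) (h.1 i).2) (a i) (𝟙 _) (k i) (hae i) (repWith_id _ Z) (hsq i)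
  let E : PreZeroHypercover.{u} Z.left :=
    { I₀ := ι, X := fun i => (U i).left, f := fun i => (k i).left }
  have hsurj : ∀ t : Z.left, ∃ (i : ι) (x : (U i).left), (k i).left x = t := by
    intro t
    obtain ⟨i, y, hy⟩ := h.2 (Points.map z (Points.ofScheme Z t))
    obtain ⟨p, -, hp⟩ := Groth.Agent.AlgSpLib.exists_point_of_isPullback (IsPullback.of_hasPullback (g i).hom z) hy
    obtain ⟨x, rfl⟩ := Groth.Agent.AlgSpLib.surjective_ofPt (a i) (has i) p
    refine ⟨i, x, (Points.schemeEquiv Z).injective ?_⟩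
    show Points.ofPt (𝟙 ((yon S).obj Z)) ((k i).left x) = Points.ofPt (𝟙 ((yon S).obj Z)) t
    rw [Points.map_ofPt, ← Category.comp_id (pullback.snd (g i).hom z), ← Category.assoc, ← hk,
      Groth.Agent.AlgSpLib.ofPt_map] at hp
    exact hp
  obtain ⟨W, π, n, O, hπ, hπs, hO, hcov, hfac⟩ :=
    Groth.Agent.FlatMor12.exists_finite_refinement E hflat hfp hsurj
  refine ⟨{ I₀ := Fin n, X := fun j => (O j).toScheme, f := fun j => (O j).ι ≫ π },
    ⟨hZ, (inferInstance : Finite (Fin n)), fun j => hO j,
      W, π, fun j => (O j).ι, inferInstance, hπs, fun j => inferInstance, fun j => rfl,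
      fun y => ?_⟩, fun j => ?_⟩
  · obtain ⟨j, hj⟩ := hcov y
    exact ⟨j, ⟨y, hj⟩, rfl⟩
  obtain ⟨i, f, hf⟩ := hfac j
  have hfS : f ≫ (U i).hom = ((O j).ι ≫ π) ≫ Z.hom := by
    rw [← Over.w (k i), ← Category.assoc]
    exact congrArg (· ≫ Z.hom) hf
  let f' : Over.mk (((O j).ι ≫ π) ≫ Z.hom) ⟶ U i := Over.homMk f hfS
  refine ⟨i, (yon S).map f' ≫ a i ≫ pullback.fst (g i).hom z, ?_⟩
  show ((yon S).map f' ≫ a i ≫ pullback.fst (g i).hom z) ≫ (g i).hom = _
  have e1 : (a i ≫ pullback.fst (g i).hom z) ≫ (g i).hom = (yon S).map (k i) ≫ z := by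
    rw [hk, Category.assoc, Category.assoc, pullback.condition]
  refine (Category.assoc _ _ _).trans ((congrArg (fun e => (yon S).map f' ≫ e) e1).trans ?_)
  refine (Category.assoc _ _ _).symm.trans (congrArg (· ≫ z) ?_)
  refine ((yon S).map_comp _ _).symm.trans (congrArg (yon S).map ?_)
  exact Over.OverMorphism.ext hf

end Groth.Agent.S10514
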