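import Groth.Statements.S10515
import Groth.Agent.AlgSpLib.ClopenLift
import Groth.Agent.AlgSpLib.ProperYon
import Groth.Agent.S10271
open Groth.Agent.AlgSpLib Groth.Agent.AlgSpLib.ClopenLift

set_option autoImplicit false
universe u
open CategoryTheory CategoryTheory.Limits AlgebraicGeometry
open AlgSp

set_option backward.isDefEq.respectTransparency.types false
set_option backward.isDefEq.respectTransparency false

namespace Groth.Agent.S10515


/-- A proper (separated, of finite type, universally closed) and surjective morphism `f : Y ⟶ X` of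
algebraic spaces over `S` forms, on its own, a ph covering `{Y ⟶ X}` of `X`. -/
theorem result {S : Scheme.{u}} {X Y : AlgSp.Space S} (f : Y ⟶ X)
    (hf : AlgSp.IsProperMor f.hom) (hs : AlgSp.IsSurjectiveMor f.hom) :
    AlgSp.IsPhCover (fun _ : PUnit.{u + 1} => Y.obj) (fun _ => f.hom) := by
  refine ⟨fun _ => hf.2.1.1, fun Z hZ h => ?_⟩
  haveI := hZ
  have hZa := IsAlgSpace.yon_obj Z
  have sq := IsPullback.of_hasPullback f.hom h
  let P : AlgSp.Space S := ⟨pullback f.hom h, isAlgSpace_of_isPullback X.property.diag Y.property hZa sq⟩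
  have hp : IsProperMor (pullback.snd f.hom h) := isProperMor_of_isPullback Y.property X.property hZa sq hf
  obtain ⟨W, g₀, hg, hgs⟩ := exists_finite_cover P (pullback.snd f.hom h) hp.1 hp.2.1.2
  have hW := IsAlgSpace.yon_obj W
  have hgp : IsProperMor g₀ := ((Groth.Agent.S10271.result (X := (AlgSp.ofScheme S).obj W) (Y := P)
    (ObjectProperty.homMk g₀)).1 hg).2
  obtain ⟨w, hw⟩ := (yon S).map_surjective (g₀ ≫ pullback.snd f.hom h)
  haveI : IsProper w.left := (isProperMor_yon_map_iff' w).1 (hw.symm ▸ isProperMor_comp hW P.property hZa hgp hp)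
  haveI : Surjective w.left := (repWith_yon_map_iff @Surjective w).1 (repWith_surjective_of_surjective_map
    (hZa.representable_from_yon _) (by
      intro x
      obtain ⟨y, rfl⟩ := surjective_map_of_isPullback sq hs x
      obtain ⟨z, rfl⟩ := hgs y
      exact ⟨z, by rw [hw, Points.map_comp]⟩))
  haveI : CompactSpace W.left := QuasiCompact.compactSpace_of_compactSpace w.left
  have key : ∀ x : W.left, ∃ O : W.left.Opens, IsAffineOpen O ∧ x ∈ O := fun x => by
    obtain ⟨O, hO, hx, -⟩ := exists_isAffineOpen_mem_and_subset (X := W.left) (x := x) (U := ⊤) trivial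
    exact ⟨O, hO, hx⟩
  choose O hO hxO using key
  obtain ⟨s, hcov⟩ := isCompact_univ.elim_finite_subcover (fun x => (O x : Set W.left)) (fun x => (O x).isOpen)
    fun x _ => Set.mem_iUnion.2 ⟨x, hxO x⟩
  let p : Fin s.card → W.left := fun m => (s.equivFin.symm m).1
  let F : PreZeroHypercover.{0} Z.left :=
    { I₀ := Fin s.card
      X := fun m => (O (p m) : Scheme.{u})
      f := fun m => (O (p m)).ι ≫ w.left }
  refine ⟨F, ⟨hZ, inferInstanceAs (Finite (Fin s.card)), fun m => hO _, W.left, w.left, fun m => (O (p m)).ι,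
    inferInstance, inferInstance, fun m => inferInstanceAs (IsOpenImmersion (O (p m)).ι), fun m => rfl, fun y => ?_⟩,
    fun m => ?_⟩
  · obtain ⟨z, hz⟩ := Set.mem_iUnion.1 (hcov (Set.mem_univ y))
    obtain ⟨hzs, hzy⟩ := Set.mem_iUnion.1 hz
    exact ⟨s.equivFin ⟨z, hzs⟩, ⟨y, by simpa [p] using hzy⟩, rfl⟩
  · let ι : Over.mk (F.f m ≫ Z.hom) ⟶ W := Over.homMk (O (p m)).ι (by
      show _ = ((O (p m)).ι ≫ w.left) ≫ Z.hom
      rw [Category.assoc, Over.w w])
    refine ⟨PUnit.unit, (yon S).map ι ≫ g₀ ≫ pullback.fst f.hom h, ?_⟩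
    let ι' : Over.mk (F.f m ≫ Z.hom) ⟶ Z := Over.homMk (F.f m) rfl
    show ((yon S).map ι ≫ g₀ ≫ pullback.fst f.hom h) ≫ f.hom = (yon S).map ι' ≫ h
    have e1 : ι ≫ w = ι' := Over.OverMorphism.ext rfl
    have e2 : g₀ ≫ pullback.fst f.hom h ≫ f.hom = (yon S).map w ≫ h := by
      rw [hw, pullback.condition, Category.assoc]
    simp only [Category.assoc]
    erw [e2]
    rw [← e1, Functor.map_comp]
    exact (Category.assoc _ _ _).symm

end Groth.Agent.S10515
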