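import Groth.Statements.S10517
import Groth.Agent.HTop16.PhCover
import Groth.Agent.AlgSpLib.LocP
import Groth.Agent.AlgSpLib.EtLocalInst
-- import your own Groth.Agent.* helpers here

set_option autoImplicit false
universe u
open CategoryTheory CategoryTheory.Limits AlgebraicGeometry
open AlgSp

namespace Groth.Agent.S10517

/-- If `{X_i ⟶ X}` is a ph covering of the algebraic space `X` by algebraic spaces and each `X_i` has a
ph covering `{X_ij ⟶ X_i}` by algebraic spaces, then the composites `X_ij ⟶ X_i ⟶ X`, indexed by the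
pairs `(i, j)`, form a ph covering of `X`. -/
theorem result {S : Scheme.{u}} (X : AlgSp.Space S) {ι : Type u}
    (Xi : ι → AlgSp.Space S) (g : ∀ i, Xi i ⟶ X) (κ : ι → Type u) (Xij : ∀ i, κ i → AlgSp.Space S)
    (gij : ∀ i j, Xij i j ⟶ Xi i)
    (h : AlgSp.IsPhCover (fun i => (Xi i).obj) (fun i => (g i).hom))
    (hij : ∀ i, AlgSp.IsPhCover (fun j => (Xij i j).obj) (fun j => (gij i j).hom)) :
    AlgSp.IsPhCover (fun r : Σ i, κ i => (Xij r.1 r.2).obj) (fun r => (gij r.1 r.2 ≫ g r.1).hom) := by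
---
  refine ⟨fun r => AlgSpLib.locP_comp AlgSpLib.etLocal_lft (Xij r.1 r.2).property (Xi r.1).property X.property
    ((hij r.1).1 r.2) (h.1 r.1), fun Z hZ hh => ?_⟩
  obtain ⟨F, hF, hl⟩ := h.2 Z hZ hh
  choose i l hli using hl
  haveI := hF.isAffine_obj
  have hsub : ∀ j, ∃ (G : PreZeroHypercover.{0} (F.X j)), HTop.IsStandardPh G ∧
      ∀ t : G.I₀, ∃ (j' : κ (i j)) (l' : (AlgSp.yon S).obj (Over.mk (G.f t ≫ F.f j ≫ Z.hom)) ⟶ (Xij (i j) j').obj),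
        l' ≫ (gij (i j) j').hom = (AlgSp.yon S).map (Over.homMk (G.f t) rfl :
          Over.mk (G.f t ≫ F.f j ≫ Z.hom) ⟶ Over.mk (F.f j ≫ Z.hom)) ≫ l j := fun j =>
    (hij (i j)).2 (Over.mk (F.f j ≫ Z.hom)) (hF.isAffine_obj j) (l j)
  choose G hG hGl using hsub
  obtain ⟨F', hF', ⟨ψ⟩⟩ := HTop16.PhComp.exists_standardPh_bind hF hG
  refine ⟨F', hF', fun t => ?_⟩
  obtain ⟨j', l', hl'⟩ := hGl (ψ.s₀ t).1 (ψ.s₀ t).2
  let c : Over.mk (F'.f t ≫ Z.hom) ⟶ Over.mk ((G (ψ.s₀ t).1).f (ψ.s₀ t).2 ≫ F.f (ψ.s₀ t).1 ≫ Z.hom) :=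
    Over.homMk (ψ.h₀ t) (by
      show ψ.h₀ t ≫ (G (ψ.s₀ t).1).f (ψ.s₀ t).2 ≫ F.f (ψ.s₀ t).1 ≫ Z.hom = F'.f t ≫ Z.hom
      rw [← ψ.w₀ t]
      exact ((congrArg (ψ.h₀ t ≫ ·) (Category.assoc _ _ _).symm).trans (Category.assoc _ _ _).symm))
  refine ⟨⟨i (ψ.s₀ t).1, j'⟩, (AlgSp.yon S).map c ≫ l', ?_⟩
  show ((AlgSp.yon S).map c ≫ l') ≫ (gij _ j').hom ≫ (g _).hom = _
  rw [Category.assoc, reassoc_of% hl', hli, ← Category.assoc, ← Category.assoc, ← Functor.map_comp, ← Functor.map_comp]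
  congr 2
  apply Over.OverMorphism.ext
  show (ψ.h₀ t ≫ (G (ψ.s₀ t).1).f (ψ.s₀ t).2) ≫ F.f (ψ.s₀ t).1 = F'.f t
  rw [Category.assoc]
  exact ψ.w₀ t

end Groth.Agent.S10517
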