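import Groth.Statements.S10518
import Groth.Agent.S10515
import Groth.Agent.S10514
import Groth.Agent.AlgSpLib.InductPrinciple
import Groth.Agent.AlgSpLib.LocPMore
open Groth.Agent.AlgSpLib

set_option autoImplicit false
universe u w
open CategoryTheory CategoryTheory.Limits AlgebraicGeometry
open AlgSp

set_option backward.isDefEq.respectTransparency.types false
set_option backward.isDefEq.respectTransparency false

namespace Groth.Agent.S10518

open Groth.Agent.AlgSpLib Groth.Agent.AlgSpLib.ClopenLift

universe w'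

variable {S : Scheme.{u}}

/-- The topology induced on algebraic spaces by a topology on the spaces over `X`. -/
def descTop {C : Type*} [Category C] {X : C} (J' : GrothendieckTopology (Over X)) : GrothendieckTopology C where
  sieves U := {R | ∀ (U' : C) (f : U' ⟶ U) (a : U' ⟶ X),
    (Sieve.overEquiv (Over.mk a)).symm (Sieve.pullback f R) ∈ J' (Over.mk a)}
  top_mem' U U' f a := by
    convert J'.top_mem (Over.mk a)
    ext Z g; simp
  pullback_stable' := fun U U' R f hR U'' f' a => by
    rw [← Sieve.pullback_comp]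
    exact hR _ (f' ≫ f) a
  transitive' U R hR R' hR' U' f a := by
    refine J'.transitive (hR U' f a) _ fun Z g hg => ?_
    rw [← Sieve.overEquiv_symm_pullback]
    have h := hR' hg Z.left (𝟙 _) Z.hom
    erw [Sieve.pullback_id] at h
    rw [← Sieve.pullback_comp]
    exact h

theorem etale_le_ph : AlgSp.spacesTop S AlgSp.IsEtaleMor ≤ AlgSp.phSpacesTop S := by
  refine Precoverage.toGrothendieck_le_iff_le_toPrecoverage.2 fun X R hR => ?_
  obtain ⟨V, a, hae, has⟩ := X.property.atlas
  choose Y g hg hx using fun v : V.left => hR.2 (Points.ofPt a v)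
  refine (AlgSp.phSpacesTop S).superset_covering (S := Sieve.generate (Presieve.ofArrows Y g)) ?_
    (Precoverage.generate_mem_toGrothendieck ?_)
  · rw [Sieve.generate_le_iff]
    rintro Z k ⟨v⟩
    exact Sieve.le_generate _ _ _ (hg v)
  · refine (AlgSp.ofArrows_mem_phSpacesPre_iff Y g).2 (Groth.Agent.S10514.result X Y g ⟨fun v => ?_, fun x => ?_⟩)
    · have h := (isEtaleMor_iff_locP etLocal_etale (Y v).property X.property (g v).hom).1 (hR.1 _ (hg v))
      exact ⟨locP_mono (fun _ _ q (_ : Etale q) => (inferInstance : Flat q)) h,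
        locP_mono (fun _ _ q (_ : Etale q) => (inferInstance : LocallyOfFinitePresentation q)) h⟩
    · obtain ⟨v, rfl⟩ := surjective_ofPt a has x
      exact ⟨v, hx v⟩


/-- A presheaf of types `F` on algebraic spaces over the algebraic space `X` is a sheaf for the big ph
topology of `X` if and only if it is a sheaf for the big etale topology of `X` and, for every proper
surjective morphism `f : V ⟶ U` of algebraic spaces over `X` with `W = V ×_U V` (any pullback square
of sheaves with projections `p`, `q`), the sections of `F` over `U` map bijectively onto the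
sections `t` over `V` with `F(p) t = F(q) t`. -/
theorem result {S : Scheme.{u}} (X : AlgSp.Space S) (F : (Over X)ᵒᵖ ⥤ Type w) :
    Presheaf.IsSheaf (AlgSp.phSpacesTopOver X) F ↔
      Presheaf.IsSheaf (AlgSp.spacesTopOver AlgSp.IsEtaleMor X) F ∧
      ∀ ⦃U V W : Over X⦄ (f : V ⟶ U) (p q : W ⟶ V),
        AlgSp.IsProperMor f.left.hom → AlgSp.IsSurjectiveMor f.left.hom →
        IsPullback p.left.hom q.left.hom f.left.hom f.left.hom →
        ∀ t : F.obj (Opposite.op V), F.map p.op t = F.map q.op t →
          ∃! s : F.obj (Opposite.op U), F.map f.op s = t := by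
  constructor
  · intro hF
    refine ⟨(isSheaf_iff_isSheaf_of_type _ _).2 (Presieve.isSheaf_of_le F (fun Y R hR => ?_) ((isSheaf_iff_isSheaf_of_type _ _).1 hF)), fun U V W f p q hp hs sq t ht => ?_⟩
    · rw [GrothendieckTopology.mem_over_iff] at hR ⊢
      exact etale_le_ph _ hR
    · have hmem : Sieve.generate (Presieve.singleton f) ∈ AlgSp.phSpacesTopOver X U := by
        rw [GrothendieckTopology.mem_over_iff]
        refine (AlgSp.phSpacesTop S).superset_covering
          (S := Sieve.generate (Presieve.ofArrows (fun _ : PUnit.{u + 1} => V.left) fun _ => f.left)) ?_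
          (Precoverage.generate_mem_toGrothendieck ((AlgSp.ofArrows_mem_phSpacesPre_iff _ _).2
            (Groth.Agent.S10515.result f.left hp hs)))
        rw [Sieve.generate_le_iff]
        rintro Z k ⟨⟩
        rw [Sieve.overEquiv_iff]
        exact ⟨V, Over.homMk (𝟙 _) (by simp), f, Presieve.singleton_self _, Over.OverMorphism.ext (Category.id_comp _)⟩
      refine (Presieve.isSheafFor_singleton.1 ((Presieve.isSheafFor_iff_generate _).2
        ((isSheaf_iff_isSheaf_of_type _ _).1 hF _ hmem))) t fun {Z} p₁ p₂ h12 => ?_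
      obtain ⟨l, hl1, hl2⟩ : ∃ l : Z ⟶ W, l ≫ p = p₁ ∧ l ≫ q = p₂ := by
        have hw : p₁.left.hom ≫ f.left.hom = p₂.left.hom ≫ f.left.hom := congrArg (fun m => m.left.hom) h12
        refine ⟨Over.homMk (ObjectProperty.homMk (sq.lift p₁.left.hom p₂.left.hom hw)) ?_, ?_, ?_⟩
        · rw [← Over.w p, ← Over.w p₁]
          exact ObjectProperty.hom_ext _ (by
            show sq.lift _ _ hw ≫ p.left.hom ≫ V.hom.hom = p₁.left.hom ≫ V.hom.hom
            rw [sq.lift_fst_assoc])
        · exact Over.OverMorphism.ext (ObjectProperty.hom_ext _ (sq.lift_fst _ _ hw))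
        · exact Over.OverMorphism.ext (ObjectProperty.hom_ext _ (sq.lift_snd _ _ hw))
      rw [← hl1, ← hl2, op_comp, op_comp, Functor.map_comp_apply, Functor.map_comp_apply, ht]
  · rintro ⟨hE, hP⟩
    rw [isSheaf_iff_isSheaf_of_type] at hE ⊢
    let J' : GrothendieckTopology (Over X) := Sheaf.finestTopologySingle F
    let J'' := descTop J'
    have hEle : AlgSp.spacesTop S AlgSp.IsEtaleMor ≤ J'' := fun U R hR U' b a Y g =>
      hE _ (GrothendieckTopology.pullback_stable _ g (GrothendieckTopology.overEquiv_symm_mem_over _ _ _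
        (GrothendieckTopology.pullback_stable _ b hR)))
    have hPle : ∀ {U W₀ : AlgSp.Space S} (f : W₀ ⟶ U), AlgSp.IsProperMor f.hom → AlgSp.IsSurjectiveMor f.hom →
        Sieve.generate (Presieve.singleton f) ∈ J'' U := by
      intro U W₀ f hf hs U' b a Y g
      have sq := IsPullback.of_hasPullback f.hom (g.left ≫ b).hom
      let W' : AlgSp.Space S := ⟨pullback f.hom (g.left ≫ b).hom,
        isAlgSpace_of_isPullback U.property.diag W₀.property Y.left.property sq⟩
      let pL : W' ⟶ Y.left := ObjectProperty.homMk (pullback.snd f.hom (g.left ≫ b).hom)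
      let qL : W' ⟶ W₀ := ObjectProperty.homMk (pullback.fst f.hom (g.left ≫ b).hom)
      let Wv : Over X := Over.mk (pL ≫ Y.hom)
      let pp : Wv ⟶ Y := Over.homMk pL rfl
      have hpq : pL ≫ g.left ≫ b = qL ≫ f := ObjectProperty.hom_ext _ sq.w.symm
      have hpp : AlgSp.IsProperMor pL.hom := isProperMor_of_isPullback W₀.property U.property Y.left.property sq hf
      have hps : AlgSp.IsSurjectiveMor pL.hom := surjective_map_of_isPullback sq hs
      have heq : Sieve.pullback g ((Sieve.overEquiv (Over.mk a)).symm (Sieve.pullback b (Sieve.generate (Presieve.singleton f)))) =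
          Sieve.generate (Presieve.singleton pp) := by
        ext T h
        constructor
        · rintro ⟨_, k, _, ⟨rfl, rfl⟩, hk⟩
          have hw : k.hom ≫ f.hom = h.left.hom ≫ (g.left ≫ b).hom := by
            have h1 : k ≫ f = h.left ≫ g.left ≫ b := hk.trans (Category.assoc _ _ _)
            exact congrArg InducedCategory.Hom.hom h1
          refine ⟨Wv, Over.homMk (ObjectProperty.homMk (sq.lift k.hom h.left.hom hw)) ?_, pp, Presieve.singleton_self _, ?_⟩
          · exact (ObjectProperty.hom_ext _ (by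
              exact (Category.assoc _ _ _).symm.trans (congrArg (· ≫ _) (sq.lift_snd _ _ hw)))).trans (Over.w h)
          · exact Over.OverMorphism.ext (ObjectProperty.hom_ext _ (sq.lift_snd _ _ hw))
        · rintro ⟨_, k, _, ⟨rfl, rfl⟩, hk⟩
          refine ⟨W₀, k.left ≫ qL, f, Presieve.singleton_self _, ?_⟩
          rw [← hk]
          show (k.left ≫ qL) ≫ f = ((k.left ≫ pL) ≫ g.left) ≫ b
          rw [Category.assoc, Category.assoc, Category.assoc, hpq]
      rw [heq, ← Presieve.isSheafFor_iff_generate, Presieve.isSheafFor_singleton]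
      intro t ht
      have sq' := IsPullback.of_hasPullback pL.hom pL.hom
      let W₂ : AlgSp.Space S := ⟨pullback pL.hom pL.hom,
        isAlgSpace_of_isPullback Y.left.property.diag W'.property W'.property sq'⟩
      let r₁ : W₂ ⟶ W' := ObjectProperty.homMk (pullback.fst pL.hom pL.hom)
      let r₂ : W₂ ⟶ W' := ObjectProperty.homMk (pullback.snd pL.hom pL.hom)
      have hr : r₁ ≫ pL = r₂ ≫ pL := ObjectProperty.hom_ext _ pullback.condition
      let R₁ : Over.mk (r₁ ≫ pL ≫ Y.hom) ⟶ Wv := Over.homMk r₁ rfl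
      let R₂ : Over.mk (r₁ ≫ pL ≫ Y.hom) ⟶ Wv := Over.homMk r₂ (by
        show r₂ ≫ pL ≫ Y.hom = r₁ ≫ pL ≫ Y.hom
        rw [reassoc_of% hr])
      exact hP pp R₁ R₂ hpp hps sq' t (ht R₁ R₂ (Over.OverMorphism.ext hr))
    suffices hle : AlgSp.phSpacesTop S ≤ J'' by
      intro Y R hR
      have h := hle _ hR Y.left (𝟙 _) Y.hom Y (𝟙 _)
      erw [Sieve.pullback_id, Sieve.pullback_id, OrderIso.symm_apply_apply] at h
      exact h
    refine Precoverage.toGrothendieck_le_iff_le_toPrecoverage.2 fun U R hR => ?_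
    rw [GrothendieckTopology.mem_toPrecoverage_iff]
    obtain ⟨V, a, hae, has⟩ := U.property.atlas
    let Vo : V.left.affineOpens → Over S := fun O => Over.mk (O.1.ι ≫ V.hom)
    let io : ∀ O, Vo O ⟶ V := fun O => Over.homMk O.1.ι rfl
    let e : ∀ O, (AlgSp.ofScheme S).obj (Vo O) ⟶ U := fun O => ObjectProperty.homMk ((yon S).map (io O) ≫ a)
    refine J''.transitive (hEle _ (Precoverage.generate_mem_toGrothendieck
      (R := Presieve.ofArrows (fun O => (AlgSp.ofScheme S).obj (Vo O)) e) ⟨?_, fun x => ?_⟩)) _ ?_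
    · rintro _ _ ⟨O⟩
      haveI : IsOpenImmersion (io O).left := inferInstanceAs (IsOpenImmersion O.1.ι)
      exact fun T φ hφ => RepWith.comp hφ (RepWith.comp ((repWith_yon_map_iff @Etale (io O)).2 inferInstance) hae)
    · obtain ⟨v, rfl⟩ := surjective_ofPt a has x
      obtain ⟨O, hO, hv, -⟩ := exists_isAffineOpen_mem_and_subset (X := V.left) (x := v) (U := ⊤) trivial
      refine ⟨_, e ⟨O, hO⟩, Presieve.ofArrows.mk _, Points.ofScheme (Vo ⟨O, hO⟩) ⟨v, hv⟩, ?_⟩
      show Points.map ((yon S).map (io ⟨O, hO⟩) ≫ a) _ = _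
      rw [map_schemePt, ← Points.ofPt_eq_map_ofScheme]
      rfl
    rintro _ _ ⟨_, k, _, ⟨O⟩, rfl⟩
    rw [Sieve.pullback_comp]
    apply J''.pullback_stable
    have hO : IsAffine (Vo O).left := O.2
    obtain ⟨G, hG, hGl⟩ := hR.2 (Vo O) hO (e O).hom
    obtain ⟨W₀, w, ι, hw, hws, hι, hιw, hcov⟩ := hG.exists_proper
    let WO : Over S := Over.mk (w ≫ (Vo O).hom)
    let fw : (AlgSp.ofScheme S).obj WO ⟶ (AlgSp.ofScheme S).obj (Vo O) :=
      ObjectProperty.homMk ((yon S).map (Over.homMk w rfl : WO ⟶ Vo O))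
    refine J''.transitive (hPle fw ((isProperMor_yon_map_iff' _).2 hw)
      (surjective_map_of_repWith ((repWith_yon_map_iff @Surjective _).2 hws))) _ ?_
    rintro _ _ ⟨_, k', _, ⟨rfl, rfl⟩, rfl⟩
    rw [Sieve.pullback_comp]
    apply J''.pullback_stable
    let Gj : G.I₀ → Over S := fun j => Over.mk (G.f j ≫ (Vo O).hom)
    let iw : ∀ j, Gj j ⟶ WO := fun j => Over.homMk (ι j) (by
      show ι j ≫ w ≫ (Vo O).hom = G.f j ≫ (Vo O).hom
      rw [← hιw j, Category.assoc])
    refine J''.superset_covering ?_ (hEle _ (Precoverage.generate_mem_toGrothendieck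
      (R := Presieve.ofArrows (fun j => (AlgSp.ofScheme S).obj (Gj j)) fun j => (AlgSp.ofScheme S).map (iw j))
      ⟨?_, fun x => ?_⟩))
    · rw [Sieve.generate_le_iff]
      rintro _ _ ⟨j⟩
      obtain ⟨Y, g, hg, l, hl⟩ := hGl j
      refine ⟨Y, ObjectProperty.homMk l, g, hg, ObjectProperty.hom_ext _ (hl.trans ?_)⟩
      show _ = (((yon S).map (iw j) ≫ (yon S).map (Over.homMk w rfl : WO ⟶ Vo O))) ≫ _
      rw [← Functor.map_comp]
      exact congrArg (fun m => (yon S).map m ≫ (e O).hom) (Over.OverMorphism.ext (hιw j).symm)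
    · rintro _ _ ⟨j⟩
      haveI : IsOpenImmersion (iw j).left := hι j
      exact fun T φ hφ => RepWith.comp hφ ((repWith_yon_map_iff @Etale (iw j)).2 inferInstance)
    · obtain ⟨y, rfl⟩ := (Points.schemeEquiv WO).surjective x
      obtain ⟨j, z, hz⟩ := hcov y
      refine ⟨_, _, Presieve.ofArrows.mk j, Points.ofScheme (Gj j) z, ?_⟩
      show Points.map ((yon S).map (iw j)) _ = _
      rw [map_yon_map_ofScheme]
      exact congrArg (Points.ofScheme WO) hz

end Groth.Agent.S10518
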