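import Groth.Statements.S1053
import Groth.Agent.DCat.ProjVanish

set_option autoImplicit false
set_option backward.isDefEq.respectTransparency false
set_option backward.defeqAttrib.useBackward true
universe w v u
open CategoryTheory CategoryTheory.Limits
open CohDer

namespace Groth.Agent.S1053

/-- Let P and K be cochain complexes in an abelian category with P bounded, consisting of projective
objects and zero in degrees below n, and with Hⁱ(K) = 0 for all i ≥ n. Then every morphism P ⟶ K in
the homotopy category and every morphism P ⟶ K in the derived category is zero. -/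
theorem result {A : Type u} [Category.{v} A] [Abelian A] [HasDerivedCategory.{w} A]
    (P K : CochainComplex A ℤ) (n b : ℤ) [P.IsStrictlyGE n] [P.IsStrictlyLE b] (hP : ∀ i : ℤ, Projective (P.X i))
    (hK : ∀ i : ℤ, n ≤ i → IsZero (K.homology i)) :
    (∀ φ : (HomotopyCategory.quotient A (ComplexShape.up ℤ)).obj P ⟶ (HomotopyCategory.quotient A (ComplexShape.up ℤ)).obj K, φ = 0) ∧
    (∀ φ : DerivedCategory.Q.obj P ⟶ DerivedCategory.Q.obj K, φ = 0) := by
  haveI := hP
  haveI := CochainComplex.isKProjective_of_projective P b
  have h := Groth.Agent.DCat.ProjVanish.hom_eq_zero P K n hK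
  refine ⟨fun φ => ?_, h⟩
  obtain ⟨f, rfl⟩ := (HomotopyCategory.quotient _ _).map_surjective φ
  rw [Groth.Agent.DCat.ProjVanish.quotient_eq_of_Q_eq P f 0 ((h _).trans (Functor.map_zero _ _ _).symm),
    Functor.map_zero]


end Groth.Agent.S1053
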