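import Groth.Statements.S10557
import Groth.Agent.AlgSpLib.FppfEpi
-- import your own Groth.Agent.* helpers here

set_option autoImplicit false
universe u
open CategoryTheory CategoryTheory.Limits AlgebraicGeometry
open AlgSp

namespace Groth.Agent.S10557

/-- Let g : X ⟶ Y and h : Y ⟶ Z be morphisms of algebraic spaces over S with g a surjection of fppf
sheaves (locally surjective for the fppf topology). For P one of flat, locally of finite type,
locally of finite presentation (checked on etale charts): if the composite X ⟶ Z has P then h has P. -/
theorem result {S : Scheme.{u}} {X Y Z : AlgSp.Space S} (g : X ⟶ Y) (h : Y ⟶ Z)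
    (hg : Sheaf.IsLocallySurjective g.hom) :
    (AlgSp.LocP @Flat (g ≫ h).hom → AlgSp.LocP @Flat h.hom) ∧
    (AlgSp.LocP @LocallyOfFiniteType (g ≫ h).hom → AlgSp.LocP @LocallyOfFiniteType h.hom) ∧
    (AlgSp.LocP @LocallyOfFinitePresentation (g ≫ h).hom →
      AlgSp.LocP @LocallyOfFinitePresentation h.hom) := by
  open Groth.Agent.AlgSpLib in
  exact ⟨fun H => locP_of_comp_of_isLocallySurjective (P := @Flat.{u}) etLocal_flat inf_le_left
      (fun _ hk => IsZariskiLocalAtSource.sigmaDesc hk)
      (fun c k _ _ _ h => by
        have : Flat (c ≫ k) := h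
        exact Groth.Agent.FlatLocal.flat_of_comp c k)
      (fun s p hs m h => flat_of_retract s p hs m h) X.property Y.property g.hom hg H,
    fun H => locP_of_comp_of_isLocallySurjective (P := @LocallyOfFiniteType.{u}) etLocal_lft
      (fun _ _ f h => by
        have : LocallyOfFinitePresentation f := h.2
        exact (inferInstance : LocallyOfFiniteType f))
      (fun _ hk => IsZariskiLocalAtSource.sigmaDesc hk)
      (fun c k _ _ _ h => lft_of_comp_fppf c k h)
      (fun s p hs m h => lft_of_retract s p hs m h) X.property Y.property g.hom hg H,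
    fun H => locP_of_comp_of_isLocallySurjective (P := @LocallyOfFinitePresentation.{u}) etLocal_lfp
      inf_le_right (fun _ hk => IsZariskiLocalAtSource.sigmaDesc hk)
      (fun c k _ _ _ h => lfp_of_comp_fppf c k h)
      (fun s p hs m h => lfp_of_retract s p hs m h) X.property Y.property g.hom hg H⟩

end Groth.Agent.S10557
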