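import Groth.Statements.S10558
import Groth.Agent.AlgSpLib.FppfSpace
-- import your own Groth.Agent.* helpers here

set_option autoImplicit false
universe u
open CategoryTheory CategoryTheory.Limits AlgebraicGeometry
open AlgSp

namespace Groth.Agent.S10558

/-- Let f : X ⟶ Y and q : Y ⟶ B be morphisms of algebraic spaces over S with f surjective, flat and
locally of finite presentation. If the composite p = f ≫ q is locally of finite presentation then q
is locally of finite presentation; if p is locally of finite type then q is locally of finite type. -/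
theorem result {S : Scheme.{u}} {X Y B : AlgSp.Space S} (f : X ⟶ Y) (q : Y ⟶ B)
    (hs : AlgSp.IsSurjectiveMor f.hom) (hfl : AlgSp.LocP @Flat f.hom)
    (hfp : AlgSp.LocP @LocallyOfFinitePresentation f.hom) :
    (AlgSp.LocP @LocallyOfFinitePresentation (f ≫ q).hom → AlgSp.LocP @LocallyOfFinitePresentation q.hom) ∧
    (AlgSp.LocP @LocallyOfFiniteType (f ≫ q).hom → AlgSp.LocP @LocallyOfFiniteType q.hom) := by
  have hc := Groth.Agent.AlgSpLib.isFppfCover_single X.property Y.property hs hfl hfp
  exact ⟨fun h => ((Groth.Agent.AlgSpLib.isLocalOnSource_fppf_lfp _ _ Y.property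
      (fun _ => X.property) hc) q.hom B.property).2 fun _ => h,
    fun h => ((Groth.Agent.AlgSpLib.isLocalOnSource_fppf_lft _ _ Y.property
      (fun _ => X.property) hc) q.hom B.property).2 fun _ => h⟩

end Groth.Agent.S10558
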