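import Groth.Statements.S10559
import Groth.Agent.AlgSpLib.SmoothSpace
-- import your own Groth.Agent.* helpers here

set_option autoImplicit false
universe u
open CategoryTheory CategoryTheory.Limits AlgebraicGeometry
open AlgSp

namespace Groth.Agent.S10559

/-- Let f : X ⟶ Y and q : Y ⟶ B be morphisms of algebraic spaces over S. If f is surjective and smooth
and f ≫ q is smooth, then q is smooth; if f is surjective and etale and f ≫ q is etale, then q is
etale. (The syntomic case of the published statement is not included.) -/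
theorem result {S : Scheme.{u}} {X Y B : AlgSp.Space S} (f : X ⟶ Y) (q : Y ⟶ B)
    (hs : AlgSp.IsSurjectiveMor f.hom) :
    (AlgSp.LocP @Smooth f.hom → AlgSp.LocP @Smooth (f ≫ q).hom → AlgSp.LocP @Smooth q.hom) ∧
    (AlgSp.IsEtaleMor f.hom → AlgSp.IsEtaleMor (f ≫ q).hom → AlgSp.IsEtaleMor q.hom) := by
  refine ⟨fun hf h => ?_, fun hf h => ?_⟩
  · have hc := Groth.Agent.AlgSpLib.isFppfCover_single X.property Y.property hs
      (Groth.Agent.AlgSpLib.locP_mono Groth.Agent.AlgSpLib.smooth_le_flat hf)
      (Groth.Agent.AlgSpLib.locP_mono Groth.Agent.AlgSpLib.smooth_le_lfp hf)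
    exact Groth.Agent.AlgSpLib.locP_smooth_of_fppf_family Y.property _ (fun _ => X.property) hc
      (fun _ => h)
  · have he := (Groth.Agent.AlgSpLib.isEtaleMor_iff_locP Groth.Agent.AlgSpLib.etLocal_etale X.property
      Y.property _).1 hf
    have hc := Groth.Agent.AlgSpLib.isFppfCover_single X.property Y.property hs
      (Groth.Agent.AlgSpLib.locP_mono Groth.Agent.AlgSpLib.etale_le_flat he)
      (Groth.Agent.AlgSpLib.locP_mono Groth.Agent.AlgSpLib.etale_le_lfp he)
    rw [Groth.Agent.AlgSpLib.isEtaleMor_iff_locP Groth.Agent.AlgSpLib.etLocal_etale Y.property B.property]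
    exact Groth.Agent.AlgSpLib.locP_etale_of_fppf_family Y.property _ (fun _ => X.property) hc
      (fun _ => (Groth.Agent.AlgSpLib.isEtaleMor_iff_locP Groth.Agent.AlgSpLib.etLocal_etale X.property
        B.property _).1 h)

end Groth.Agent.S10559
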