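import Groth.Statements.S1056
import Groth.Agent.DQCoh.FlatDescAmp17
-- import your own Groth.Agent.* helpers here

set_option autoImplicit false
universe u
open CategoryTheory CategoryTheory.Limits AlgebraicGeometry Opposite
attribute [local instance] HasDerivedCategory.standard
open Perf

namespace Groth.Agent.S1056

/-- Let f : X' → X be a flat, surjective, quasi-compact morphism of schemes (an fpqc covering by a
single morphism), and assume Lf^* exists. Then an object E of D(𝒪_X) is perfect if and only if Lf^*E
is perfect. -/
theorem result {X' X : Scheme.{u}} (f : X' ⟶ X) [Flat f] [Surjective f] [QuasiCompact f] [DCoh.HasLpull f] (E : DCoh.D X) :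
    DCoh.IsPerfect E ↔ DCoh.IsPerfect ((DCoh.Lpull f).obj E) := by
  obtain ⟨e⟩ := Groth.Agent.DQCoh.FlatDesc17.nonempty_Lpull_fd f E
  refine ⟨fun h => Groth.Agent.DCat.PullPerf.isPerfect_Lpull f E h, fun h => ?_⟩
  exact Groth.Agent.DQCoh.FlatDesc17.perfect_desc f (Flat.isQuotientMap_of_surjective f) (Groth.Agent.DQCoh.FlatDesc17.exists_compact_nhd_qc f) E (Groth.Agent.DCat.PCTriangle.perfect_iso e h)

end Groth.Agent.S1056

#print axioms Groth.Agent.S1056.result
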