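import Groth.Statements.S10573
import Groth.Agent.AlgSpLib.FpqcBase2
import Groth.Agent.AlgSpLib.MorTop
-- import your own Groth.Agent.* helpers here

set_option autoImplicit false
universe u
open CategoryTheory CategoryTheory.Limits AlgebraicGeometry
open AlgSp

namespace Groth.Agent.S10573

/-- Let {g_i : T_i ⟶ T} be a family of algebraic spaces over S forming an fpqc covering, and let W_i ⊂
|T_i| be open subsets (open subspaces) such that for all i, j the two projections T_i ×_T T_j ⟶ T_i,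
T_j pull W_i and W_j back to the same subset of |T_i ×_T T_j|. Then there is a unique open subset W
⊂ |T| with g_i⁻¹(W) = W_i for every i. -/
theorem result {S : Scheme.{u}} {ι : Type u} {T : AlgSp.Space S}
    (Ti : ι → AlgSp.Space S) (g : ∀ i, Ti i ⟶ T)
    (hg : AlgSp.IsFpqcCover (fun i => (Ti i).obj) (fun i => (g i).hom))
    (Wi : ∀ i, Set (AlgSp.Points (Ti i).obj)) (hW : ∀ i, IsOpen (Wi i))
    (hc : ∀ i j, AlgSp.Points.map (pullback.fst (g i).hom (g j).hom) ⁻¹' Wi i =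
      AlgSp.Points.map (pullback.snd (g i).hom (g j).hom) ⁻¹' Wi j) :
    ∃! W : TopologicalSpace.Opens (AlgSp.Points T.obj), ∀ i, AlgSp.Points.map (g i).hom ⁻¹' (W : Set (AlgSp.Points T.obj)) = Wi i := by
  let W : Set (AlgSp.Points T.obj) := ⋃ i, AlgSp.Points.map (g i).hom '' Wi i
  have hpre : ∀ i, AlgSp.Points.map (g i).hom ⁻¹' W = Wi i := fun i => by
    refine Set.Subset.antisymm (fun x hx => ?_) fun x hx => Set.mem_iUnion.2 ⟨i, x, hx, rfl⟩
    obtain ⟨j, y, hy, e⟩ := Set.mem_iUnion.1 hx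
    obtain ⟨z, rfl, rfl⟩ :=
      AlgSpLib.exists_point_of_isPullback (IsPullback.of_hasPullback (g i).hom (g j).hom) e.symm
    exact (Set.ext_iff.1 (hc i j) z).2 hy
  have hWo : IsOpen W := AlgSpLib.isOpen_of_forall_affine fun Z hZ t => by
    obtain ⟨m, V, c, hV, hf, hs, hl⟩ := hg.2 Z hZ t
    refine AlgSpLib.isOpen_of_fpqc_family c hZ hV hf hs fun j => ?_
    obtain ⟨i, l, hli⟩ := hl j
    have e : AlgSp.Points.map ((AlgSp.yon S).map (c j)) ⁻¹' (AlgSp.Points.map t ⁻¹' W) =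
        AlgSp.Points.map l ⁻¹' (AlgSp.Points.map (g i).hom ⁻¹' W) := by
      ext w
      show AlgSp.Points.map t (AlgSp.Points.map ((AlgSp.yon S).map (c j)) w) ∈ W ↔
        AlgSp.Points.map (g i).hom (AlgSp.Points.map l w) ∈ W
      rw [← AlgSp.Points.map_comp, ← AlgSp.Points.map_comp, hli]
    rw [e, hpre i]
    exact (hW i).preimage (AlgSp.Points.continuous_map l)
  have hcov : ∀ x : AlgSp.Points T.obj, ∃ i y, AlgSp.Points.map (g i).hom y = x := fun x => by
    obtain ⟨K, _, str, b, rfl⟩ := AlgSpLib.exists_ptOfHom x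
    obtain ⟨m, V, c, -, -, hs, hl⟩ := hg.2 _ (inferInstanceAs (IsAffine (Spec _))) b
    obtain ⟨j, w, hw⟩ := AlgSpLib.exists_points_preimage c hs
      (AlgSpLib.ptOfHom (F := (AlgSp.yon S).obj (Over.mk str)) (𝟙 _))
    obtain ⟨i, l, hli⟩ := hl j
    refine ⟨i, AlgSp.Points.map l w, ?_⟩
    rw [← AlgSp.Points.map_comp, hli, AlgSp.Points.map_comp, hw, AlgSpLib.map_ptOfHom,
      Category.id_comp]
  refine ⟨⟨W, hWo⟩, hpre, fun W' hW' => ?_⟩
  ext x
  obtain ⟨i, y, rfl⟩ := hcov x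
  exact (Set.ext_iff.1 (hW' i) y).trans (Set.ext_iff.1 (hpre i) y).symm

end Groth.Agent.S10573
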