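import Groth.Statements.S10577
import Groth.Agent.AlgSpLib.QCohEtPush
import Groth.Agent.Stk19b.QPullEt
-- import your own Groth.Agent.* helpers here

set_option autoImplicit false
universe u
open CategoryTheory CategoryTheory.Limits AlgebraicGeometry
open AlgSp

namespace Groth.Agent.S10577

/-- Let f : X ⟶ Y be a finite morphism of algebraic spaces over S and F a quasi-coherent O_X-module (on
the small etale site). Then F is of finite type exactly when its direct image f_*F is of finite type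
as an O_Y-module. (A finite morphism is representable; the row carries representability of f as an
explicit hypothesis because the direct image functor is defined for representable morphisms.) -/
theorem result {S : Scheme.{u}} {X Y : AlgSp.Space S} (f : X ⟶ Y)
    (hrep : AlgSp.Representable f.hom) (hfin : AlgSp.IsFiniteMor f.hom)
    (F : AlgSp.ModEt X.obj) [F.IsQuasicoherent] :
    F.IsFiniteType ↔ ((AlgSp.pushModEt hrep).obj F).IsFiniteType := by
---
  have haff : AlgSp.IsAffineMor f.hom := fun Z hZ g => by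
    obtain ⟨W, i, fst, sq, hW, -⟩ := hfin hZ g
    exact ⟨W, i, fst, sq, hW⟩
  have hbc : ∀ E, Groth.Agent.AlgSpLib.QCohEt.IsAff E →
      Groth.Agent.AlgSpLib.QCohEt.IsBC ((AlgSp.pushModEt hrep).obj F) E := fun E hE => by
    haveI := hE
    exact Groth.Agent.AlgSpLib.QCohEt.isBC_push hrep haff F E
  constructor
  · intro hF
    refine Groth.Agent.AlgSpLib.QCohEt.isFiniteType_of_forall _ hbc fun E hE => ?_
    haveI := hE
    haveI := Groth.Agent.AlgSpLib.QCohEt.isAff_bcObj hrep haff E
    let B := Groth.Agent.AlgSpLib.QCohEt.ΓE (AlgSp.EtOver.bcObj hrep E)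
    let N := Groth.Agent.AlgSpLib.QCohEt.Sec F (AlgSp.EtOver.bcObj hrep E)
    letI := (Groth.Agent.AlgSpLib.QCohEt.bcΓ hrep E).toAlgebra
    haveI : Module.Finite (Groth.Agent.AlgSpLib.QCohEt.ΓE E) B :=
      Groth.Agent.AlgSpLib.QCohEt.finite_bcΓ hrep hfin E
    letI : Module (Groth.Agent.AlgSpLib.QCohEt.ΓE E) N :=
      (inferInstance : Module _ (Groth.Agent.AlgSpLib.QCohEt.Sec ((AlgSp.pushModEt hrep).obj F) E))
    haveI : IsScalarTower (Groth.Agent.AlgSpLib.QCohEt.ΓE E) B N := IsScalarTower.of_algebraMap_smul fun a m => rfl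
    haveI := Groth.Agent.AlgSpLib.QCohEt.finite_sec F (AlgSp.EtOver.bcObj hrep E)
    exact Module.Finite.trans (R := Groth.Agent.AlgSpLib.QCohEt.ΓE E) B N
  · intro hN
    refine Groth.Agent.AlgSpLib.QCohEt.isFiniteType_of_forall F
      (fun E hE => by haveI := hE; exact Groth.Agent.AlgSpLib.QCohEt.isBC F E) fun E hE => ?_
    haveI := hE
    haveI := Groth.Agent.AlgSpLib.QCohEt.isQuasicoherent_of_forall _ hbc
    obtain ⟨ι, hι, Z, g, hZ, hg, hc⟩ := Groth.Agent.AlgSpLib.QCohEt.exists_finite_affine_refinement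
      (Groth.Agent.Stk19b.QPullEt.coversTop_bc hrep Y.property _
        (Groth.Agent.AlgSpLib.QCohEt.coversTop_affine Y.obj) E)
    haveI := hZ
    refine Groth.Agent.AlgSpLib.QCohEt.finite_of_cover_sec F g hc fun j => ?_
    obtain ⟨⟨E', hE'⟩, ⟨t⟩⟩ := (Sieve.mem_ofObjects_iff ..).1 (hg j)
    haveI := hE'
    haveI := Groth.Agent.AlgSpLib.QCohEt.isAff_bcObj hrep haff E'
    let B := Groth.Agent.AlgSpLib.QCohEt.ΓE (AlgSp.EtOver.bcObj hrep E')
    let N := Groth.Agent.AlgSpLib.QCohEt.Sec F (AlgSp.EtOver.bcObj hrep E')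
    letI := (Groth.Agent.AlgSpLib.QCohEt.bcΓ hrep E').toAlgebra
    letI : Module (Groth.Agent.AlgSpLib.QCohEt.ΓE E') N :=
      (inferInstance : Module _ (Groth.Agent.AlgSpLib.QCohEt.Sec ((AlgSp.pushModEt hrep).obj F) E'))
    haveI : IsScalarTower (Groth.Agent.AlgSpLib.QCohEt.ΓE E') B N := IsScalarTower.of_algebraMap_smul fun a m => rfl
    haveI : Module.Finite (Groth.Agent.AlgSpLib.QCohEt.ΓE E') N :=
      Groth.Agent.AlgSpLib.QCohEt.finite_sec ((AlgSp.pushModEt hrep).obj F) E'
    haveI : Module.Finite B N := Module.Finite.of_restrictScalars_finite (Groth.Agent.AlgSpLib.QCohEt.ΓE E') B N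
    exact Groth.Agent.AlgSpLib.QCohEt.finite_of_hom F (E' := AlgSp.EtOver.bcObj hrep E') t

end Groth.Agent.S10577
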