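import Groth.Statements.S10578
import Groth.Agent.AlgSpLib.QCohEtPush
import Groth.Agent.Stk19b.QPullEt
-- import your own Groth.Agent.* helpers here

set_option autoImplicit false
universe u
open CategoryTheory CategoryTheory.Limits AlgebraicGeometry
open AlgSp

namespace Groth.Agent.S10578

/-- Let f : X ⟶ Y be a morphism of algebraic spaces over S which is finite and of finite presentation,
and F a quasi-coherent O_X-module (on the small etale site). Then F is of finite presentation
exactly when its direct image f_*F is of finite presentation as an O_Y-module. (Representability of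
f, implied by finiteness, is carried as an explicit hypothesis because the direct image functor is
defined for representable morphisms.) -/
theorem result {S : Scheme.{u}} {X Y : AlgSp.Space S} (f : X ⟶ Y)
    (hrep : AlgSp.Representable f.hom) (hfin : AlgSp.IsFiniteMor f.hom) (hfp : AlgSp.IsFinitePresentationMor f.hom)
    (F : AlgSp.ModEt X.obj) [F.IsQuasicoherent] :
    F.IsFinitePresentation ↔ ((AlgSp.pushModEt hrep).obj F).IsFinitePresentation := by
---
  have haff : AlgSp.IsAffineMor f.hom := fun Z hZ g => by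
    obtain ⟨W, i, fst, sq, hW, -⟩ := hfin hZ g
    exact ⟨W, i, fst, sq, hW⟩
  have hbc : ∀ E, Groth.Agent.AlgSpLib.QCohEt.IsAff E →
      Groth.Agent.AlgSpLib.QCohEt.IsBC ((AlgSp.pushModEt hrep).obj F) E := fun E hE => by
    haveI := hE
    exact Groth.Agent.AlgSpLib.QCohEt.isBC_push hrep haff F E
  have hB : ∀ (E : AlgSp.EtOver Y.obj) [Groth.Agent.AlgSpLib.QCohEt.IsAff E],
      letI := (Groth.Agent.AlgSpLib.QCohEt.bcΓ hrep E).toAlgebra
      Module.FinitePresentation (Groth.Agent.AlgSpLib.QCohEt.ΓE E)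
        (Groth.Agent.AlgSpLib.QCohEt.ΓE (AlgSp.EtOver.bcObj hrep E)) :=
    fun E _ => Groth.Agent.AlgSpLib.QCohEt.finitePresentation_bcΓ hrep hfin hfp.1 E
  constructor
  · intro hF
    refine Groth.Agent.AlgSpLib.QCohEt.isFinitePresentation_of_forall _ hbc fun E hE => ?_
    haveI := hE
    haveI := Groth.Agent.AlgSpLib.QCohEt.isAff_bcObj hrep haff E
    let B := Groth.Agent.AlgSpLib.QCohEt.ΓE (AlgSp.EtOver.bcObj hrep E)
    let N := Groth.Agent.AlgSpLib.QCohEt.Sec F (AlgSp.EtOver.bcObj hrep E)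
    letI := (Groth.Agent.AlgSpLib.QCohEt.bcΓ hrep E).toAlgebra
    haveI : Module.FinitePresentation (Groth.Agent.AlgSpLib.QCohEt.ΓE E) B := hB E
    letI : Module (Groth.Agent.AlgSpLib.QCohEt.ΓE E) N :=
      (inferInstance : Module _ (Groth.Agent.AlgSpLib.QCohEt.Sec ((AlgSp.pushModEt hrep).obj F) E))
    haveI : IsScalarTower (Groth.Agent.AlgSpLib.QCohEt.ΓE E) B N := IsScalarTower.of_algebraMap_smul fun a m => rfl
    haveI := Groth.Agent.AlgSpLib.QCohEt.finitePresentation_sec F (AlgSp.EtOver.bcObj hrep E)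
    exact Module.FinitePresentation.trans (Groth.Agent.AlgSpLib.QCohEt.ΓE E) N B
  · intro hN
    refine Groth.Agent.AlgSpLib.QCohEt.isFinitePresentation_of_forall F
      (fun E hE => by haveI := hE; exact Groth.Agent.AlgSpLib.QCohEt.isBC F E) fun E hE => ?_
    haveI := hE
    haveI := Groth.Agent.AlgSpLib.QCohEt.isQuasicoherent_of_forall _ hbc
    obtain ⟨ι, hι, Z, g, hZ, hg, hc⟩ := Groth.Agent.AlgSpLib.QCohEt.exists_finite_affine_refinement
      (Groth.Agent.Stk19b.QPullEt.coversTop_bc hrep Y.property _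
        (Groth.Agent.AlgSpLib.QCohEt.coversTop_affine Y.obj) E)
    haveI := hZ
    refine Groth.Agent.AlgSpLib.QCohEt.finitePresentation_of_cover_sec F g hc fun j => ?_
    obtain ⟨⟨E', hE'⟩, ⟨t⟩⟩ := (Sieve.mem_ofObjects_iff ..).1 (hg j)
    haveI := hE'
    haveI := Groth.Agent.AlgSpLib.QCohEt.isAff_bcObj hrep haff E'
    let B := Groth.Agent.AlgSpLib.QCohEt.ΓE (AlgSp.EtOver.bcObj hrep E')
    let N := Groth.Agent.AlgSpLib.QCohEt.Sec F (AlgSp.EtOver.bcObj hrep E')
    letI := (Groth.Agent.AlgSpLib.QCohEt.bcΓ hrep E').toAlgebra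
    letI : Module (Groth.Agent.AlgSpLib.QCohEt.ΓE E') N :=
      (inferInstance : Module _ (Groth.Agent.AlgSpLib.QCohEt.Sec ((AlgSp.pushModEt hrep).obj F) E'))
    haveI : IsScalarTower (Groth.Agent.AlgSpLib.QCohEt.ΓE E') B N := IsScalarTower.of_algebraMap_smul fun a m => rfl
    haveI : Module.FinitePresentation (Groth.Agent.AlgSpLib.QCohEt.ΓE E') N :=
      Groth.Agent.AlgSpLib.QCohEt.finitePresentation_sec ((AlgSp.pushModEt hrep).obj F) E'
    haveI : Module.FinitePresentation (Groth.Agent.AlgSpLib.QCohEt.ΓE E') B := hB E'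
    haveI : Module.FinitePresentation B N :=
      Groth.Agent.AlgSpLib.QCohEt.finitePresentation_of_restrict (A := Groth.Agent.AlgSpLib.QCohEt.ΓE E')
    exact Groth.Agent.AlgSpLib.QCohEt.finitePresentation_of_hom F (E' := AlgSp.EtOver.bcObj hrep E') t

end Groth.Agent.S10578
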