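import Groth.Statements.S10579
import Groth.Agent.AlgSpLib.FlatAt
import Groth.Agent.AlgSpLib.GorBaseChange
import Groth.Agent.EGA43.UnibranchEtaleNbhd.Scheme
-- import your own Groth.Agent.* helpers here

set_option autoImplicit false
universe u
open CategoryTheory CategoryTheory.Limits AlgebraicGeometry
open AlgSp

namespace Groth.Agent.S10579

open Groth.Agent.AlgSpLib

set_option backward.isDefEq.respectTransparency.types false

theorem exists_generization_lift {A B : Scheme.{u}} (h : A ⟶ B) (a : A) (hh : (h.stalkMap a).hom.Flat) {b : B}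
    (hb : b ⤳ h a) : ∃ a', a' ⤳ a ∧ h a' = b := by
  obtain ⟨q, rfl⟩ : b ∈ Set.range (B.fromSpecStalk (h a)) := Scheme.range_fromSpecStalk.ge hb
  algebraize [(h.stalkMap a).hom]
  have : IsLocalHom (algebraMap (B.presheaf.stalk (h a)) (A.presheaf.stalk a)) :=
    inferInstanceAs (IsLocalHom (h.stalkMap a).hom)
  have := Module.FaithfullyFlat.of_flat_of_isLocalHom (A := B.presheaf.stalk (h a)) (B := A.presheaf.stalk a)
  obtain ⟨p, rfl⟩ := PrimeSpectrum.comap_surjective_of_faithfullyFlat (B := A.presheaf.stalk a) q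
  refine ⟨A.fromSpecStalk a p, Scheme.range_fromSpecStalk.le ⟨p, rfl⟩, ?_⟩
  rw [← Scheme.Hom.comp_apply, ← Scheme.SpecMap_stalkMap_fromSpecStalk, Scheme.Hom.comp_apply]
  rfl

theorem unibranch_of_flat {U V : Scheme.{u}} (h : U ⟶ V) (u : U) (hf : (h.stalkMap u).hom.Flat)
    (hU : CAlg2.IsGeomUnibranch ↥(U.presheaf.stalk u)) : CAlg2.IsGeomUnibranch ↥(V.presheaf.stalk (h u)) := by
  rw [Groth.Agent.EGA43.UnibranchEtaleNbhd.isGeomUnibranch_iff_forall_etale]
  intro V' g v' hg hv'
  obtain ⟨w, hw1, hw2⟩ := Scheme.Pullback.exists_preimage_pullback (f := h) (g := g) u v' hv'.symm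
  have hflat : ((pullback.snd h g).stalkMap w).hom.Flat := flat_stalkMap_snd h g w (by rw [hw1]; exact hf)
  have : Etale (pullback.fst h g) := MorphismProperty.pullback_fst (P := @Etale) _ _ hg
  have h1 := (Groth.Agent.EGA43.UnibranchEtaleNbhd.isGeomUnibranch_iff_forall_etale U u).1 hU
    _ (pullback.fst h g) w inferInstance hw1
  obtain ⟨Z, hZ⟩ := Set.encard_eq_one.1 h1
  have key : ∀ W ∈ irreducibleComponents ↥V', v' ∈ W → ∀ η, IsGenericPoint η W →
      ∀ ζ, IsGenericPoint ζ Z → pullback.snd h g ζ = η := by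
    intro W hW hvW η hη ζ hζ
    have hη' : η ⤳ pullback.snd h g w := by rw [hw2]; exact hη.specializes hvW
    obtain ⟨a', ha', he⟩ := exists_generization_lift (pullback.snd h g) w hflat hη'
    have hsub : closure {a'} ⊆ Z := by
      obtain ⟨Z', hZ'max, hsub⟩ := exists_mem_irreducibleComponents_subset_of_isIrreducible
        (closure {a'}) (isIrreducible_singleton.closure)
      have : Z' = Z := by
        have hmem : Z' ∈ {Z : Set ↥(pullback h g) | Z ∈ irreducibleComponents ↥(pullback h g) ∧ w ∈ Z} :=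
          ⟨hZ'max, hsub (specializes_iff_mem_closure.1 ha')⟩
        rw [hZ] at hmem
        exact hmem
      exact this ▸ hsub
    have hs : pullback.snd h g ζ ⤳ η :=
      he ▸ (hζ.specializes (hsub (subset_closure rfl))).map (pullback.snd h g).continuous
    refine (hs.antisymm ?_).eq
    obtain ⟨W', hW', hsub'⟩ := exists_mem_irreducibleComponents_subset_of_isIrreducible
      (closure {pullback.snd h g ζ}) (isIrreducible_singleton.closure)
    have hle : W ⊆ W' := by
      rw [← hη.def]
      exact closure_minimal (Set.singleton_subset_iff.2 (hsub' (specializes_iff_mem_closure.1 hs)))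
        (isClosed_of_mem_irreducibleComponents W' hW')
    have : W' = W := le_antisymm (hW.2 hW'.1 hle) hle
    exact hη.specializes (this ▸ hsub' (subset_closure rfl))
  refine Set.encard_eq_one.2 ⟨irreducibleComponent v', Set.eq_singleton_iff_unique_mem.2
    ⟨⟨irreducibleComponent_mem_irreducibleComponents v', mem_irreducibleComponent⟩, ?_⟩⟩
  rintro W ⟨hW, hvW⟩
  obtain ⟨hZc, -⟩ : Z ∈ {Z : Set ↥(pullback h g) | Z ∈ irreducibleComponents ↥(pullback h g) ∧ w ∈ Z} := by
    rw [hZ]; rfl
  obtain ⟨ζ, hζ⟩ := QuasiSober.sober hZc.1 (isClosed_of_mem_irreducibleComponents Z hZc)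
  obtain ⟨η, hη⟩ := QuasiSober.sober hW.1 (isClosed_of_mem_irreducibleComponents W hW)
  obtain ⟨η₀, hη₀⟩ := QuasiSober.sober isIrreducible_irreducibleComponent (isClosed_irreducibleComponent (x := v'))
  have e : η = η₀ := (key W hW hvW η hη ζ hζ).symm.trans
    (key _ (irreducibleComponent_mem_irreducibleComponents v') mem_irreducibleComponent η₀ hη₀ ζ hζ)
  rw [← hη.def, ← hη₀.def, e]

/-- Let f : X ⟶ Y be a morphism of algebraic spaces over S and x ∈ |X|. If X is geometrically unibranch
at x and f is flat at x, then Y is geometrically unibranch at the image point f(x). Here an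
algebraic space is geometrically unibranch at a point when for every etale chart from a scheme U and
every point u of U over it the local ring of U at u is geometrically unibranch. -/
theorem result {S : Scheme.{u}} {X Y : AlgSp.Space S} (f : X ⟶ Y) (x : AlgSp.Points X.obj)
    (hf : AlgSp.IsFlatAtMor f.hom x)
    (hX : ∀ (U : Over S) (a : (AlgSp.yon S).obj U ⟶ X.obj) (v : ↥U.left), AlgSp.RepWith @Etale a →
      AlgSp.Points.ofPt a v = x → CAlg2.IsGeomUnibranch ↥(U.left.presheaf.stalk v))
    (V : Over S) (b : (AlgSp.yon S).obj V ⟶ Y.obj) (w : ↥V.left) (hb : AlgSp.RepWith @Etale b)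
    (hw : AlgSp.Points.ofPt b w = AlgSp.Points.map f.hom x) :
    CAlg2.IsGeomUnibranch ↥(V.left.presheaf.stalk w) := by
  have hX' := X.property
  have hY := Y.property
  have sqP := IsPullback.of_hasPullback f.hom b
  have hP := isAlgSpace_of_isPullback hY.diag hX' (AlgSp.IsAlgSpace.yon_obj V) sqP
  obtain ⟨U, ψ, hψe, hψs⟩ := hP.atlas
  obtain ⟨h, hh⟩ := (AlgSp.yon S).map_surjective (ψ ≫ pullback.snd f.hom b)
  have hae : AlgSp.RepWith @Etale (ψ ≫ pullback.fst f.hom b) :=
    RepWith.comp hψe (RepWith.baseChange sqP.flip hb)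
  have haw : (ψ ≫ pullback.fst f.hom b) ≫ f.hom = (AlgSp.yon S).map h ≫ b := by
    rw [Category.assoc, pullback.condition, ← Category.assoc, hh]
  obtain ⟨z, hz1, hz2⟩ := exists_point_of_isPullback sqP (x := x) (y := AlgSp.Points.ofScheme V w)
    (by rw [← AlgSp.Points.ofPt_eq_map_ofScheme]; exact hw.symm)
  obtain ⟨u, rfl⟩ := surjective_ofPt ψ hψs z
  have hu : h.left u = w := (AlgSp.Points.schemeEquiv V).injective (by
    refine Eq.trans ?_ hz2
    rw [AlgSp.Points.map_ofPt, ← hh, ← Category.comp_id ((AlgSp.yon S).map h), ofPt_map]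
    rfl)
  have hxu : AlgSp.Points.ofPt (ψ ≫ pullback.fst f.hom b) u = x := hz1
  rw [← hu]
  exact unibranch_of_flat h.left u (hf _ b h u hae hb haw hxu) (hX U _ u hae hxu)

end Groth.Agent.S10579
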