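import Groth.Statements.S10580
import Groth.Agent.AlgSpLib.SourceGen
-- import your own Groth.Agent.* helpers here

set_option autoImplicit false
universe u
open CategoryTheory CategoryTheory.Limits AlgebraicGeometry
open AlgSp

namespace Groth.Agent.S10580

/-- Let P be a property of morphisms of schemes and P_spaces the induced property of morphisms of
algebraic spaces over S (P on every etale chart diagram). For τ one of fpqc, fppf, smooth, etale: if
P is τ local on the source for morphisms of schemes, then P_spaces is τ local on the source for
morphisms of algebraic spaces. (The published statement assumes P etale local on the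
source-and-target, which is what makes the chart-wise property the right notion; the implication
itself holds for every P and is stated that way. The syntomic case is not included. τ-locality on
the source for schemes is taken in the form that includes invariance of P under isomorphisms, which
the published definition requires implicitly.) -/
theorem result (S : Scheme.{u}) (P : MorphismProperty Scheme.{u}) :
    (P.IsLocalAtSource Scheme.fpqcPrecoverage → AlgSp.IsLocalOnSource (AlgSp.IsFpqcCover (S := S)) (AlgSp.LocP P)) ∧
    (P.IsLocalAtSource Scheme.fppfPrecoverage → AlgSp.IsLocalOnSource (AlgSp.IsFppfCover (S := S)) (AlgSp.LocP P)) ∧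
    (P.IsLocalAtSource (Scheme.precoverage @Smooth) → AlgSp.IsLocalOnSource (AlgSp.IsSmCover (S := S)) (AlgSp.LocP P)) ∧
    (P.IsLocalAtSource Scheme.etalePrecoverage → AlgSp.IsLocalOnSource (AlgSp.IsEtCover (S := S)) (AlgSp.LocP P)) := by
  refine ⟨fun _ => Groth.Agent.AlgSpLib.isLocalOnSource_fpqc_of_isLocalAtSource, fun hP => ?_,
    fun _ => Groth.Agent.AlgSpLib.isLocalOnSource_of_isCover (R := @Smooth.{u})
      Groth.Agent.AlgSpLib.etLocal_smooth (fun _ _ _ _ _ h => h),
    fun hP => ?_⟩
  · have : P.IsLocalAtSource
        (Scheme.precoverage (@Flat.{u} ⊓ @LocallyOfFinitePresentation.{u})) := hP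
    exact Groth.Agent.AlgSpLib.isLocalOnSource_of_isCover
      (R := (@Flat.{u} ⊓ @LocallyOfFinitePresentation.{u} : MorphismProperty Scheme.{u}))
      { bc := inferInstance
        comp := ⟨fun {_ _ _} f g hf hg => ⟨MorphismProperty.comp_mem _ f g hf.1 hg.1,
          MorphismProperty.comp_mem _ f g hf.2 hg.2⟩⟩
        of_etale := le_inf Groth.Agent.AlgSpLib.etLocal_flat.of_etale
          Groth.Agent.AlgSpLib.etLocal_lfp.of_etale
        localTarget := inferInstance
        descend := fun _ _ _ g f hg hs h =>
          ⟨Groth.Agent.AlgSpLib.etLocal_flat.descend g f hg hs h.1,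
            Groth.Agent.AlgSpLib.etLocal_lfp.descend g f hg hs h.2⟩ }
      (fun A B g _ _ h U V a b l ha hb w => ⟨h.1 a b l ha hb w, h.2 a b l ha hb w⟩)
  · have : P.IsLocalAtSource (Scheme.precoverage @Etale.{u}) := hP
    exact Groth.Agent.AlgSpLib.isLocalOnSource_of_isCover (R := @Etale.{u})
      Groth.Agent.AlgSpLib.etLocal_etale (fun A B g hA hB h =>
        (Groth.Agent.AlgSpLib.isEtaleMor_iff_locP Groth.Agent.AlgSpLib.etLocal_etale hA hB g).1 h)

end Groth.Agent.S10580
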