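import Groth.Statements.S10582
import Groth.Agent.AlgSpLib.MorQC
import Groth.Agent.AlgSpLib.RepLocal
import Groth.Agent.AlgSpLib.FpqcBaseAffine
import Groth.Agent.AlgSpLib.EtLocalInst
import Groth.Agent.AlgSpLib.Descent
import Groth.Agent.AlgSpLib.PointsTop
import Mathlib.AlgebraicGeometry.Morphisms.LocalFlatDescent
-- import your own Groth.Agent.* helpers here

set_option autoImplicit false
universe u
open CategoryTheory CategoryTheory.Limits AlgebraicGeometry
open AlgSp

namespace Groth.Agent.S10582

open Groth.Agent.AlgSpLib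

set_option backward.isDefEq.respectTransparency.types false

theorem key {S : Scheme.{u}} {X Y : AlgSp.Sp S} (hX : AlgSp.IsAlgSpace X) (hY : AlgSp.IsAlgSpace Y) (f : X ⟶ Y)
    (hqc : AlgSp.IsQuasiCompactMor f) (hflat : AlgSp.LocP @Flat f) (hsurj : AlgSp.IsSurjectiveMor f)
    [Mono f] : IsIso f := by
  refine isIso_of_repWith_isomorphisms (repWith_of_affine _ fun Z hZ g => ?_)
  have sq := IsPullback.of_hasPullback f g
  have hP := isAlgSpace_of_isPullback hY.diag hX (IsAlgSpace.yon_obj Z) sq
  have := compactSpace_of_isQuasiCompactMor hqc sq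
  obtain ⟨U, a, hU, hae, has⟩ := exists_affine_chart hP
  obtain ⟨l, hl⟩ := (AlgSp.yon S).map_surjective (a ≫ pullback.snd f g)
  have hlf : Flat l.left := locP_of_isPullback etLocal_flat hX hY hP sq hflat a (𝟙 _) l hae (repWith_id _ _)
    (by rw [Category.comp_id, hl])
  have hls : Surjective l.left := (surjective_map_yon_map_iff l).1 (by
    rw [hl]
    intro y
    obtain ⟨z, rfl⟩ := surjective_map_of_isPullback sq hsurj y
    obtain ⟨u, rfl⟩ := surjective_ofPt a has z
    exact ⟨Points.ofScheme U u, by rw [Points.map_comp, ← Points.ofPt_eq_map_ofScheme]⟩)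
  have : QuasiCompact l.left := inferInstance
  have sqR := (IsPullback.of_hasPullback l l).map (AlgSp.yon S)
  have sqP : IsPullback ((AlgSp.yon S).map (pullback.fst l l)) ((AlgSp.yon S).map (pullback.snd l l)) a a := by
    refine ⟨⟨(cancel_mono (pullback.snd f g)).1 (by rw [Category.assoc, Category.assoc, ← hl]; exact sqR.w)⟩,
      ⟨PullbackCone.IsLimit.mk _ (fun s => sqR.lift s.fst s.snd (by
        rw [hl, ← Category.assoc, s.condition, Category.assoc]))
        (fun s => sqR.lift_fst _ _ _) (fun s => sqR.lift_snd _ _ _)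
        (fun s m h1 h2 => sqR.hom_ext (h1.trans (sqR.lift_fst _ _ _).symm) (h2.trans (sqR.lift_snd _ _ _).symm))⟩⟩
  have he : Etale (pullback.snd l l).left := hae.property _ _ _ sqP
  have hle : Etale l.left := MorphismProperty.of_isPullback_of_descendsAlong
    (P := @Etale) (Q := @Surjective ⊓ @Flat ⊓ @QuasiCompact)
    ((IsPullback.of_hasPullback l l).map (Over.forget S)).flip ⟨⟨hls, hlf⟩, ‹_›⟩ he
  have := isLocallySurjective_of_etale ((repWith_yon_map_iff @Etale l).2 hle) ((repWith_yon_map_iff @Surjective l).2 hls)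
  have : Epi ((AlgSp.yon S).map l) := Sheaf.epi_of_isLocallySurjective _
  have : Epi (pullback.snd f g) := by rw [hl] at this; exact epi_of_epi a _
  have : IsIso (pullback.snd f g) := isIso_of_mono_of_epi _
  exact ⟨Z, 𝟙 Z, inv (pullback.snd f g) ≫ pullback.fst f g,
    sq.of_iso (asIso (pullback.snd f g)) (Iso.refl _) (Iso.refl _) (Iso.refl _) (by simp) (by simp) (by simp)
      (by simp), (inferInstance : IsIso (𝟙 Z.left))⟩

/-- A monomorphism of algebraic spaces that is quasi-compact, flat and surjective is an isomorphism. -/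
theorem result {S : Scheme.{u}} {X Y : AlgSp.Space S} (f : X ⟶ Y)
    (hqc : AlgSp.IsQuasiCompactMor f.hom) (hflat : AlgSp.LocP @Flat f.hom) (hsurj : AlgSp.IsSurjectiveMor f.hom)
    [Mono f.hom] : IsIso f.hom := by
  exact key X.property Y.property f.hom hqc hflat hsurj

end Groth.Agent.S10582
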