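import Groth.Statements.S10583
import Groth.Agent.AlgSpLib.ThickTop
import Groth.Agent.AlgSpLib.PointsTop
import Groth.Agent.AlgSpLib.SheafCoprod2
import Groth.Agent.AlgSpLib.FpqcBaseImm
-- import your own Groth.Agent.* helpers here

set_option autoImplicit false
universe u
open CategoryTheory CategoryTheory.Limits AlgebraicGeometry
open AlgSp

namespace Groth.Agent.S10583

open Groth.Agent.AlgSpLib in
theorem mono_of_open {S : Scheme.{u}} {A B : AlgSp.Sp S} {f : A ⟶ B}
    (h : AlgSp.RepWith @IsOpenImmersion f) : Mono f :=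
  mono_of_repWith (fun _ _ g (_ : IsOpenImmersion g) => (inferInstance : Mono g)) h

/-- Let i : X ⟶ X' be a thickening of algebraic spaces (representable, every base change to a scheme a
surjective closed immersion) and let u : U ⟶ X be an open immersion. Then there is an open immersion
u' : U' ⟶ X' with U = X ×_{X'} U' (a pullback square), and any two open subspaces of X' with this
property are isomorphic over X'. -/
theorem result {S : Scheme.{u}} {X X' U : AlgSp.Space S} (i : X ⟶ X')
    (hi : AlgSp.IsThickMor i.hom)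
    (u : U ⟶ X) (hu : AlgSp.RepWith @IsOpenImmersion u.hom) :
    (∃ (U' : AlgSp.Space S) (u' : U' ⟶ X') (k : U ⟶ U'),
      AlgSp.RepWith @IsOpenImmersion u'.hom ∧ IsPullback u.hom k.hom i.hom u'.hom) ∧
    (∀ (U₁ U₂ : AlgSp.Space S) (u₁ : U₁ ⟶ X') (u₂ : U₂ ⟶ X') (k₁ : U ⟶ U₁) (k₂ : U ⟶ U₂),
      AlgSp.RepWith @IsOpenImmersion u₁.hom → IsPullback u.hom k₁.hom i.hom u₁.hom →
      AlgSp.RepWith @IsOpenImmersion u₂.hom → IsPullback u.hom k₂.hom i.hom u₂.hom →
      ∃ e : U₁ ≅ U₂, e.hom ≫ u₂ = u₁) := by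
  have hh : IsHomeomorph (Points.map i.hom) :=
    Groth.Agent.AlgSpLib.isHomeomorph_map_of_thickMor X'.property hi
  have := mono_of_open hu
  let V : Set (Points X.obj) := Set.range (Points.map u.hom)
  have hV : IsOpen V := Groth.Agent.AlgSpLib.range_isOpen X.property hu
  refine ⟨?_, fun U₁ U₂ u₁ u₂ k₁ k₂ h₁ s₁ h₂ s₂ => ?_⟩
  · let W := Points.map i.hom '' V
    have hW : IsOpen W := hh.isOpenMap _ hV
    let U' : Space S := ⟨Groth.Agent.AlgSpLib.openSubspace X'.obj W,
      Groth.Agent.AlgSpLib.isAlgSpace_openSubspace X'.property hW⟩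
    let u' : U'.obj ⟶ X'.obj := Groth.Agent.AlgSpLib.openSubspaceι X'.obj W
    have hu' : RepWith @IsOpenImmersion u' := Groth.Agent.AlgSpLib.repWith_openSubspaceι X'.obj hW
    have hr : Set.range (Points.map u') = W := Groth.Agent.AlgSpLib.range_openSubspaceι X'.obj W
    obtain ⟨k, hk⟩ := (Groth.Agent.AlgSpLib.exists_lift_iff_range_subset hu' (u.hom ≫ i.hom)).2 (by
      rintro _ ⟨z, rfl⟩
      rw [hr, Points.map_comp]
      exact ⟨_, ⟨z, rfl⟩, rfl⟩)
    refine ⟨U', ObjectProperty.homMk u', ObjectProperty.homMk k, hu', ?_⟩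
    show IsPullback u.hom k i.hom u'
    have : Mono u' := mono_of_open hu'
    have sq := IsPullback.of_hasPullback i.hom u'
    have : Mono (pullback.fst i.hom u') := inferInstance
    obtain ⟨g, hg⟩ := (Groth.Agent.AlgSpLib.exists_lift_iff_range_subset hu (pullback.fst i.hom u')).2 (by
      rw [← Groth.Agent.AlgSpLib.range_map_preimage sq.flip, hr]
      rintro z ⟨v, hv, e⟩
      rwa [← hh.injective e])
    refine IsPullback.of_iso sq ⟨g, pullback.lift u.hom k hk.symm, ?_, ?_⟩ (Iso.refl _) (Iso.refl _) (Iso.refl _)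
      ?_ ?_ (by simp) (by simp)
    · rw [← cancel_mono (pullback.fst i.hom u'), Category.assoc, pullback.lift_fst, hg, Category.id_comp]
    · rw [← cancel_mono u.hom, Category.assoc, hg, pullback.lift_fst, Category.id_comp]
    · simpa using hg.symm
    · rw [Iso.refl_hom, Category.comp_id, ← cancel_mono u']
      refine pullback.condition.symm.trans ?_
      show pullback.fst i.hom u' ≫ i.hom = (g ≫ k) ≫ u'
      rw [Category.assoc g, hk, ← Category.assoc g, hg]
  · have key : ∀ (U₁ : Space S) (u₁ : U₁ ⟶ X') (k₁ : U ⟶ U₁),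
        IsPullback u.hom k₁.hom i.hom u₁.hom → Set.range (Points.map u₁.hom) = Points.map i.hom '' V := by
      intro U₁ u₁ k₁ s₁
      rw [show V = Points.map i.hom ⁻¹' Set.range (Points.map u₁.hom) from
        (Groth.Agent.AlgSpLib.range_map_preimage s₁.flip).symm, Set.image_preimage_eq _ hh.surjective]
    have := mono_of_open h₁
    have := mono_of_open h₂
    obtain ⟨a, ha⟩ := (Groth.Agent.AlgSpLib.exists_lift_iff_range_subset h₂ u₁.hom).2
      ((key _ u₁ k₁ s₁).trans (key _ u₂ k₂ s₂).symm).subset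
    obtain ⟨b, hb⟩ := (Groth.Agent.AlgSpLib.exists_lift_iff_range_subset h₁ u₂.hom).2
      ((key _ u₂ k₂ s₂).trans (key _ u₁ k₁ s₁).symm).subset
    refine ⟨⟨ObjectProperty.homMk a, ObjectProperty.homMk b, ?_, ?_⟩, ?_⟩
    · refine InducedCategory.hom_ext ?_
      show a ≫ b = 𝟙 U₁.obj
      rw [← cancel_mono u₁.hom, Category.assoc, hb, ha, Category.id_comp]
    · refine InducedCategory.hom_ext ?_
      show b ≫ a = 𝟙 U₂.obj
      rw [← cancel_mono u₂.hom, Category.assoc, ha, hb, Category.id_comp]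
    · exact InducedCategory.hom_ext ha

end Groth.Agent.S10583
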