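import Groth.Statements.S10607
import Groth.Agent.AlgSpLib.SpacePushEq
-- import your own Groth.Agent.* helpers here

set_option autoImplicit false
universe u
open CategoryTheory CategoryTheory.Limits AlgebraicGeometry
open AlgSp

namespace Groth.Agent.S10607

set_option backward.isDefEq.respectTransparency.types false
open Groth.Agent.AlgSpLib in
theorem hyp {S : Scheme.{u}} {X Y : AlgSp.Space S} {f : X ⟶ Y} (h1 : AlgSp.IsIntegralMor f.hom)
    (h2 : AlgSp.IsUnivInjectiveMor f.hom) (h3 : AlgSp.IsSurjectiveMor f.hom) {V : AlgSp.Space S} (b : V ⟶ X)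
    (hb : AlgSp.IsEtaleMor b.hom) : PushSp.Hyp f.hom b.hom :=
  ⟨X.property, Y.property, V.property, (isIntegralMor_iff_repWith _).1 h1, h2, h3,
    (isEtaleMor_iff_locP etLocal_etale V.property X.property _).1 hb⟩

open Groth.Agent.AlgSpLib in
theorem etale_of_isPullback {S : Scheme.{u}} {X Y V' V : AlgSp.Space S} {f : X ⟶ Y} {a : V' ⟶ Y} {b : V ⟶ X}
    {c : V ⟶ V'} (ha : AlgSp.IsEtaleMor a.hom) (sq : IsPullback b.hom c.hom f.hom a.hom) :
    AlgSp.IsEtaleMor b.hom :=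
  (isEtaleMor_iff_locP etLocal_etale V.property X.property _).2 (locP_of_isPullback etLocal_etale V'.property
    Y.property V.property sq.flip ((isEtaleMor_iff_locP etLocal_etale V'.property Y.property _).1 ha))

open Groth.Agent.AlgSpLib in
/-- full faithfulness, on sheaves -/
theorem full_faithful {S : Scheme.{u}} {X Y V₁' V₂' V₁ V₂ : AlgSp.Sp S} {f : X ⟶ Y}
    {a₁ : V₁' ⟶ Y} {a₂ : V₂' ⟶ Y} {b₁ : V₁ ⟶ X} {b₂ : V₂ ⟶ X} {c₁ : V₁ ⟶ V₁'} {c₂ : V₂ ⟶ V₂'}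
    (H₁ : PushSp.Hyp f b₁) (H₂ : PushSp.Hyp f b₂) (hV₁ : IsAlgSpace V₁') (hV₂ : IsAlgSpace V₂')
    (e₁ : LocP @Etale a₁) (e₂ : LocP @Etale a₂) (sq₁ : IsPullback b₁ c₁ f a₁) (sq₂ : IsPullback b₂ c₂ f a₂)
    (φ : V₁ ⟶ V₂) (hφ : φ ≫ b₂ = b₁) :
    ∃! φ' : V₁' ⟶ V₂', φ' ≫ a₂ = a₁ ∧ c₁ ≫ φ' = φ ≫ c₂ := by
  have := PushSp.isIso_unit sq₁ H₁ hV₁ e₁
  have := PushSp.isIso_unit sq₂ H₂ hV₂ e₂
  -- the image of a section of the source
  have hm : ∀ {T : Over S} (y : (yon S).obj T ⟶ V₁'), ∃ y' : (yon S).obj T ⟶ V₂', y' ≫ a₂ = y ≫ a₁ ∧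
      ∀ ⦃T' : Over S⦄ (u : T' ⟶ T) (h : (yon S).obj T' ⟶ X) (w : h ≫ f = ((yon S).map u ≫ y) ≫ a₁)
        (w' : h ≫ f = ((yon S).map u ≫ y') ≫ a₂),
        sq₂.lift h ((yon S).map u ≫ y') w' = sq₁.lift h ((yon S).map u ≫ y) w ≫ φ := fun {T} y => by
    let s : PushSp.Sec f b₂ T :=
      { g := y ≫ a₁
        φ := fun T' u h w => sq₁.lift h ((yon S).map u ≫ y) (by rw [w, Category.assoc]) ≫ φ
        hb := fun T' u h w => by rw [Category.assoc, hφ, sq₁.lift_fst]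
        nat := fun T' T'' v u h w => by
          rw [← Category.assoc]
          congr 1
          apply sq₁.hom_ext
          · rw [Category.assoc, sq₁.lift_fst, sq₁.lift_fst]
          · rw [Category.assoc, sq₁.lift_snd, sq₁.lift_snd, Functor.map_comp, Category.assoc] }
    refine ⟨PushSp.ofSec s ≫ inv (PushSp.unit sq₂), ?_, fun T' u h w w' => ?_⟩
    · rw [Category.assoc]
      conv_lhs => arg 2; arg 2; rw [← PushSp.unit_str sq₂]
      rw [IsIso.inv_hom_id_assoc, PushSp.comp_str, PushSp.sec_ofSec]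
    · have e := PushSp.sec_comp_unit sq₂ (PushSp.ofSec s ≫ inv (PushSp.unit sq₂))
      rw [Category.assoc, IsIso.inv_hom_id, Category.comp_id, PushSp.sec_ofSec] at e
      exact (PushSp.Sec.φ_congr e.symm (u := u) (h := h) rfl rfl
        (by show _ = _ ≫ _ ≫ a₂; rw [← Category.assoc]; exact w'))
  choose m hm1 hm2 using @hm
  -- candidates are given by `m`
  have huniq : ∀ ψ : V₁' ⟶ V₂', ψ ≫ a₂ = a₁ → c₁ ≫ ψ = φ ≫ c₂ →
      ∀ {T : Over S} (y : (yon S).obj T ⟶ V₁'), y ≫ ψ = m y := fun ψ h1 h2 {T} y => by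
    refine (cancel_mono (PushSp.unit sq₂)).1 (PushSp.sec_injective ?_)
    rw [PushSp.sec_comp_unit, PushSp.sec_comp_unit]
    refine PushSp.Sec.ext' ?_ fun T' u h w => ?_
    · show (y ≫ ψ) ≫ a₂ = m y ≫ a₂
      rw [Category.assoc, h1, hm1]
    · have w₁ : h ≫ f = ((yon S).map u ≫ y) ≫ a₁ := by
        rw [← h1, Category.assoc]
        simpa only [Category.assoc] using (show h ≫ f = (yon S).map u ≫ (y ≫ ψ) ≫ a₂ from w)
      have w₂ : h ≫ f = ((yon S).map u ≫ m y) ≫ a₂ := by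
        rw [Category.assoc, hm1, ← Category.assoc]; exact w₁
      show sq₂.lift _ _ _ = sq₂.lift _ _ _
      refine Eq.trans ?_ (hm2 y u h w₁ w₂).symm
      apply sq₂.hom_ext
      · rw [sq₂.lift_fst, Category.assoc, hφ, sq₁.lift_fst]
      · rw [sq₂.lift_snd, Category.assoc, ← h2, sq₁.lift_snd_assoc, Category.assoc]
  have hnat : ∀ ⦃T T' : Over S⦄ (v : T' ⟶ T) (y : (yon S).obj T ⟶ V₁'),
      (yon S).map v ≫ m y = m ((yon S).map v ≫ y) := fun T T' v y => by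
    refine (cancel_mono (PushSp.unit sq₂)).1 (PushSp.sec_injective ?_)
    rw [PushSp.sec_comp_unit, PushSp.sec_comp_unit]
    refine PushSp.Sec.ext' ?_ fun T'' u h w => ?_
    · show ((yon S).map v ≫ m y) ≫ a₂ = m ((yon S).map v ≫ y) ≫ a₂
      rw [Category.assoc, hm1, hm1, Category.assoc]
    · have w₀ : h ≫ f = ((yon S).map (u ≫ v) ≫ m y) ≫ a₂ := by
        rw [Functor.map_comp, Category.assoc, Category.assoc]
        simpa only [Category.assoc] using (show h ≫ f = (yon S).map u ≫ ((yon S).map v ≫ m y) ≫ a₂ from w)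
      have w₁ : h ≫ f = ((yon S).map (u ≫ v) ≫ y) ≫ a₁ := by
        rw [w₀, Category.assoc, hm1, Category.assoc]
      have w₁' : h ≫ f = ((yon S).map u ≫ (yon S).map v ≫ y) ≫ a₁ := by
        rw [w₁, Functor.map_comp, Category.assoc ((yon S).map u)]
      have w₂ : h ≫ f = ((yon S).map u ≫ m ((yon S).map v ≫ y)) ≫ a₂ := by
        rw [Category.assoc, hm1, ← Category.assoc]; exact w₁'
      show sq₂.lift _ _ _ = sq₂.lift _ _ _
      refine Eq.trans ?_ ((hm2 y (u ≫ v) h w₁ w₀).trans (Eq.trans ?_ (hm2 _ u h w₁' w₂).symm))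
      · simp only [Functor.map_comp, Category.assoc]
      · simp only [Functor.map_comp, Category.assoc]
  refine ⟨PushSp.homOfNat (fun T y => m y) hnat, ⟨hom_ext_of_yon fun T y => ?_, hom_ext_of_yon fun T e => ?_⟩,
    fun ψ hψ => hom_ext_of_yon fun T y => ?_⟩
  · rw [← Category.assoc, PushSp.comp_homOfNat, hm1]
  · rw [← Category.assoc, PushSp.comp_homOfNat]
    have hg : m (e ≫ c₁) ≫ a₂ = (e ≫ φ ≫ c₂) ≫ a₂ := by
      rw [hm1, Category.assoc, ← sq₁.w, Category.assoc, Category.assoc, ← sq₂.w, reassoc_of% hφ]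
    refine (cancel_mono (PushSp.unit sq₂)).1 (PushSp.sec_injective ?_)
    rw [PushSp.sec_comp_unit, PushSp.sec_comp_unit]
    refine PushSp.sec_eq_of_lift H₂ hg (e ≫ b₁) ?_ ?_
    · show _ = (yon S).map (𝟙 T) ≫ m (e ≫ c₁) ≫ a₂
      rw [hm1, (yon S).map_id, Category.id_comp, Category.assoc, Category.assoc, sq₁.w]
    · have w₁ : (e ≫ b₁) ≫ f = ((yon S).map (𝟙 T) ≫ e ≫ c₁) ≫ a₁ := by
        rw [(yon S).map_id, Category.id_comp, Category.assoc, Category.assoc, sq₁.w]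
      show sq₂.lift _ _ _ = sq₂.lift _ _ _
      refine (hm2 (e ≫ c₁) (𝟙 T) (e ≫ b₁) w₁ (by rw [Category.assoc ((yon S).map (𝟙 T)) (m _), hm1, ← Category.assoc ((yon S).map (𝟙 T))]; exact w₁)).trans ?_
      rw [show sq₁.lift (e ≫ b₁) ((yon S).map (𝟙 T) ≫ e ≫ c₁) w₁ = e from sq₁.hom_ext
        (sq₁.lift_fst _ _ _) ((sq₁.lift_snd _ _ _).trans (by rw [(yon S).map_id, Category.id_comp]))]
      apply sq₂.hom_ext
      · rw [sq₂.lift_fst, Category.assoc, hφ]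
      · rw [sq₂.lift_snd, (yon S).map_id, Category.id_comp, Category.assoc]
  · rw [PushSp.comp_homOfNat, huniq ψ hψ.1 hψ.2 y]

/-- Take a morphism f : X ⟶ Y of algebraic spaces over S that is integral, universally injective and
surjective. Then V ↦ X ×_Y V is an equivalence from the category of algebraic spaces etale over Y to
the category of algebraic spaces etale over X, stated through pullback squares: (full faithfulness)
given V₁', V₂' etale over Y with base changes V₁, V₂ to X, every morphism V₁ ⟶ V₂ over X is the base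
change of a unique morphism V₁' ⟶ V₂' over Y; (essential surjectivity) every algebraic space etale
over X is the base change of an algebraic space etale over Y. -/
theorem result {S : Scheme.{u}}
    {X Y : AlgSp.Space S} (f : X ⟶ Y) (h1 : AlgSp.IsIntegralMor f.hom) (h2 : AlgSp.IsUnivInjectiveMor f.hom)
    (h3 : AlgSp.IsSurjectiveMor f.hom) :
    (∀ (V₁' V₂' V₁ V₂ : AlgSp.Space S) (a₁ : V₁' ⟶ Y) (a₂ : V₂' ⟶ Y) (b₁ : V₁ ⟶ X) (b₂ : V₂ ⟶ X)
        (c₁ : V₁ ⟶ V₁') (c₂ : V₂ ⟶ V₂'),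
        AlgSp.IsEtaleMor a₁.hom → AlgSp.IsEtaleMor a₂.hom →
        IsPullback b₁.hom c₁.hom f.hom a₁.hom → IsPullback b₂.hom c₂.hom f.hom a₂.hom →
        ∀ φ : V₁ ⟶ V₂, φ ≫ b₂ = b₁ →
          ∃! φ' : V₁' ⟶ V₂', φ' ≫ a₂ = a₁ ∧ c₁ ≫ φ' = φ ≫ c₂) ∧
    (∀ (V : AlgSp.Space S) (b : V ⟶ X), AlgSp.IsEtaleMor b.hom →
        ∃ (V' : AlgSp.Space S) (a : V' ⟶ Y) (c : V ⟶ V'),
          AlgSp.IsEtaleMor a.hom ∧ IsPullback b.hom c.hom f.hom a.hom) := by
  refine ⟨fun V₁' V₂' V₁ V₂ a₁ a₂ b₁ b₂ c₁ c₂ ha₁ ha₂ sq₁ sq₂ φ hφ => ?_, fun V b hb => ?_⟩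
  · have H₁ := hyp h1 h2 h3 b₁ (etale_of_isPullback ha₁ sq₁)
    have H₂ := hyp h1 h2 h3 b₂ (etale_of_isPullback ha₂ sq₂)
    obtain ⟨ψ, ⟨hψ1, hψ2⟩, hu⟩ := full_faithful H₁ H₂ V₁'.property V₂'.property
      ((Groth.Agent.AlgSpLib.isEtaleMor_iff_locP Groth.Agent.AlgSpLib.etLocal_etale V₁'.property Y.property _).1 ha₁)
      ((Groth.Agent.AlgSpLib.isEtaleMor_iff_locP Groth.Agent.AlgSpLib.etLocal_etale V₂'.property Y.property _).1 ha₂)
      sq₁ sq₂ φ.hom (congrArg (fun m => m.hom) hφ)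
    refine ⟨ObjectProperty.homMk ψ, ⟨InducedCategory.hom_ext hψ1, InducedCategory.hom_ext hψ2⟩, fun χ hχ => ?_⟩
    exact InducedCategory.hom_ext (hu χ.hom ⟨congrArg (fun m => m.hom) hχ.1, congrArg (fun m => m.hom) hχ.2⟩)
  · have H := hyp h1 h2 h3 b hb
    obtain ⟨hP, he⟩ := Groth.Agent.AlgSpLib.PushSp.isAlgSpace_obj H
    obtain ⟨κ, sq⟩ := Groth.Agent.AlgSpLib.PushSp.exists_isPullback H
    exact ⟨⟨_, hP⟩, ObjectProperty.homMk (Groth.Agent.AlgSpLib.PushSp.str f.hom b.hom), ObjectProperty.homMk κ,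
      (Groth.Agent.AlgSpLib.isEtaleMor_iff_locP Groth.Agent.AlgSpLib.etLocal_etale hP Y.property _).2 he, sq⟩

end Groth.Agent.S10607
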