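import Groth.Statements.S10585
import Groth.Agent.AlgSpLib.ChevEquiv
import Groth.Agent.S10607
-- import your own Groth.Agent.* helpers here

set_option autoImplicit false
universe u
open CategoryTheory CategoryTheory.Limits AlgebraicGeometry
open AlgSp

namespace Groth.Agent.S10585

open Groth.Agent.AlgSpLib Groth.Agent.AlgSpLib.ChevGen in
set_option backward.isDefEq.respectTransparency false in
set_option backward.isDefEq.respectTransparency.types false in
theorem affine_iff {S : Scheme.{u}} {X Y : AlgSp.Space S} (f : X ⟶ Y) (hf : AlgSp.Representable f.hom)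
    (h1 : AlgSp.IsIntegralMor f.hom) (h3 : AlgSp.IsSurjectiveMor f.hom) (E : AlgSp.EtOver Y.obj) :
    IsAffine E.obj.left.left ↔ IsAffine ((AlgSp.EtOver.bc hf).obj E).obj.left.left := by
  have hr := (isIntegralMor_iff_repWith f.hom).1 h1
  haveI : IsIntegralHom (hf.snd E.obj.hom).left := hr.property_snd E.obj.hom
  refine ⟨fun h => ?_, fun h => ?_⟩
  · haveI := h
    exact isAffine_of_isAffineHom (hf.snd E.obj.hom).left
  · haveI : IsAffine (hf.pullback E.obj.hom).left := h
    haveI : Surjective (hf.snd E.obj.hom).left := ⟨fun u => by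
      obtain ⟨p, hp⟩ := h3 (AlgSp.Points.map E.obj.hom (AlgSp.Points.schemeEquiv _ u))
      obtain ⟨z, -, hz⟩ := exists_point_of_isPullback (hf.isPullback E.obj.hom) hp
      obtain ⟨w, rfl⟩ := (AlgSp.Points.schemeEquiv _).surjective z
      exact ⟨w, (AlgSp.Points.schemeEquiv _).injective ((map_yon_map_ofScheme _ w).symm.trans hz)⟩⟩
    exact Groth.Agent.S0593.result (hf.pullback E.obj.hom).left E.obj.left.left (hf.snd E.obj.hom).left

open Groth.Agent.AlgSpLib Groth.Agent.AlgSpLib.ChevGen in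
set_option backward.isDefEq.respectTransparency false in
set_option backward.isDefEq.respectTransparency.types false in
theorem full_faithful_bc {S : Scheme.{u}} {X Y : AlgSp.Space S} (f : X ⟶ Y) (hf : AlgSp.Representable f.hom)
    (h1 : AlgSp.IsIntegralMor f.hom) (h2 : AlgSp.IsUnivInjectiveMor f.hom) (h3 : AlgSp.IsSurjectiveMor f.hom)
    (E₁ E₂ : AlgSp.EtOver Y.obj) (φ : AlgSp.EtOver.bcObj hf E₁ ⟶ AlgSp.EtOver.bcObj hf E₂) :
    ∃! g : E₁ ⟶ E₂, AlgSp.EtOver.bcMap hf g = φ := by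
  have hyp : ∀ E : AlgSp.EtOver X.obj, PushSp.Hyp f.hom E.obj.hom := fun E =>
    ⟨X.property, Y.property, AlgSp.IsAlgSpace.yon_obj _, (isIntegralMor_iff_repWith _).1 h1, h2, h3,
      locP_of_repWith etLocal_etale (AlgSp.IsAlgSpace.yon_obj _) E.property⟩
  obtain ⟨ψ, ⟨hψ1, hψ2⟩, hu⟩ := Groth.Agent.S10607.full_faithful (hyp (AlgSp.EtOver.bcObj hf E₁))
    (hyp (AlgSp.EtOver.bcObj hf E₂)) (AlgSp.IsAlgSpace.yon_obj _) (AlgSp.IsAlgSpace.yon_obj _)
    (locP_of_repWith etLocal_etale (AlgSp.IsAlgSpace.yon_obj _) E₁.property)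
    (locP_of_repWith etLocal_etale (AlgSp.IsAlgSpace.yon_obj _) E₂.property)
    (AlgSp.EtOver.isPullback_bcObj hf E₁) (AlgSp.EtOver.isPullback_bcObj hf E₂)
    ((AlgSp.yon S).map φ.hom.left) (AlgSp.EtOver.w φ)
  obtain ⟨ψ₀, rfl⟩ := (AlgSp.yon S).map_surjective ψ
  refine ⟨AlgSp.EtOver.homMk ψ₀ hψ1, AlgSp.EtOver.hom_ext _ _ (hf.hom_ext ?_ ?_), fun g hg => ?_⟩
  · rw [AlgSp.EtOver.map_bcMap_fst]
    exact (AlgSp.EtOver.w φ).symm
  · rw [AlgSp.EtOver.bcMap_snd]
    exact (AlgSp.yon S).map_injective (by rw [Functor.map_comp, Functor.map_comp]; exact hψ2)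
  · refine AlgSp.EtOver.hom_ext _ _ ((AlgSp.yon S).map_injective (hu _ ⟨AlgSp.EtOver.w g, ?_⟩))
    rw [← Functor.map_comp, ← Functor.map_comp, ← hg, AlgSp.EtOver.bcMap_snd]

open Groth.Agent.AlgSpLib Groth.Agent.AlgSpLib.ChevGen in
set_option backward.isDefEq.respectTransparency false in
set_option backward.isDefEq.respectTransparency.types false in
theorem essSurj_bc {S : Scheme.{u}} {X Y : AlgSp.Space S} (f : X ⟶ Y) (hf : AlgSp.Representable f.hom)
    (h1 : AlgSp.IsIntegralMor f.hom) (h2 : AlgSp.IsUnivInjectiveMor f.hom) (h3 : AlgSp.IsSurjectiveMor f.hom)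
    (E' : AlgSp.EtOver X.obj) : ∃ E : AlgSp.EtOver Y.obj, Nonempty (AlgSp.EtOver.bcObj hf E ≅ E') := by
  let V : AlgSp.Space S := ⟨(AlgSp.yon S).obj E'.obj.left, AlgSp.IsAlgSpace.yon_obj _⟩
  let b : V ⟶ X := ObjectProperty.homMk E'.obj.hom
  have hb : AlgSp.IsEtaleMor b.hom := (isEtaleMor_iff_locP etLocal_etale V.property X.property _).2
    (locP_of_repWith etLocal_etale V.property E'.property)
  obtain ⟨V', a, c, ha, sq⟩ := (Groth.Agent.S10607.result f h1 h2 h3).2 V b hb
  have hc : AlgSp.IsIntegralMor c.hom :=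
    (isIntegralMor_iff_repWith _).2 (RepWith.baseChange sq ((isIntegralMor_iff_repWith _).1 h1))
  have hbij : Function.Bijective (AlgSp.Points.ofPt c.hom) := by
    have hmap : Function.Bijective (AlgSp.Points.map c.hom) := by
      refine ⟨h2 V'.property a.hom b.hom c.hom sq, fun v => ?_⟩
      obtain ⟨p, hp⟩ := h3 (AlgSp.Points.map a.hom v)
      obtain ⟨z, -, hz⟩ := exists_point_of_isPullback sq hp
      exact ⟨z, hz⟩
    have e : AlgSp.Points.ofPt c.hom = AlgSp.Points.map c.hom ∘ AlgSp.Points.schemeEquiv E'.obj.left :=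
      funext fun t => AlgSp.Points.ofPt_eq_map_ofScheme c.hom t
    rw [e]
    exact hmap.comp (AlgSp.Points.schemeEquiv E'.obj.left).bijective
  obtain ⟨G, ⟨e⟩⟩ := exists_scheme_of_bijective c.hom (isUnivClosedMor_of_integral hc) hbij
  let E : AlgSp.EtOver Y.obj := AlgSp.EtOver.mk (e.hom ≫ a.hom) (ha e.hom (repWith_of_isIso @Etale e.hom))
  have sq2 : IsPullback E'.obj.hom (c.hom ≫ e.inv) f.hom E.obj.hom :=
    sq.of_iso (Iso.refl _) (Iso.refl _) e.symm (Iso.refl _) (by simp [b]) (by simp)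
      (by simp) (by simp [E])
  let i := (AlgSp.EtOver.isPullback_bcObj hf E).isoIsPullback _ _ sq2
  obtain ⟨k, hk⟩ := (AlgSp.yon S).map_surjective i.hom
  obtain ⟨k', hk'⟩ := (AlgSp.yon S).map_surjective i.inv
  refine ⟨E, ⟨⟨AlgSp.EtOver.homMk k (by rw [hk]; exact IsPullback.isoIsPullback_hom_fst _ _ _ _),
    AlgSp.EtOver.homMk k' (by rw [hk']; exact IsPullback.isoIsPullback_inv_fst _ _ _ _),
    AlgSp.EtOver.hom_ext _ _ ((AlgSp.yon S).map_injective ?_), AlgSp.EtOver.hom_ext _ _ ((AlgSp.yon S).map_injective ?_)⟩⟩⟩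
  · show (AlgSp.yon S).map (k ≫ k') = (AlgSp.yon S).map (𝟙 _)
    rw [Functor.map_comp, hk, hk', i.hom_inv_id, (AlgSp.yon S).map_id]
  · show (AlgSp.yon S).map (k' ≫ k) = (AlgSp.yon S).map (𝟙 _)
    rw [Functor.map_comp, hk, hk', i.inv_hom_id, (AlgSp.yon S).map_id]

/-- Take a representable morphism f : X ⟶ Y of algebraic spaces over S that is integral, universally
injective and surjective. Then the base change functor from the small etale site of Y (schemes etale
over Y) to the small etale site of X is an equivalence of categories, and a scheme etale over Y is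
affine if and only if its base change to X is affine. (An integral morphism is representable; the
representability hypothesis is carried to name the base change functor.) -/
theorem result {S : Scheme.{u}} {X Y : AlgSp.Space S}
    (f : X ⟶ Y) (hf : AlgSp.Representable f.hom) (h1 : AlgSp.IsIntegralMor f.hom)
    (h2 : AlgSp.IsUnivInjectiveMor f.hom) (h3 : AlgSp.IsSurjectiveMor f.hom) :
    (AlgSp.EtOver.bc hf).IsEquivalence ∧
    ∀ E : AlgSp.EtOver Y.obj, IsAffine E.obj.left.left ↔ IsAffine ((AlgSp.EtOver.bc hf).obj E).obj.left.left := by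
  refine ⟨?_, fun E => affine_iff f hf h1 h3 E⟩
  haveI : (AlgSp.EtOver.bc hf).Faithful :=
    ⟨fun {E₁ E₂} g g' h => (full_faithful_bc f hf h1 h2 h3 E₁ E₂ _).unique rfl h.symm⟩
  haveI : (AlgSp.EtOver.bc hf).Full :=
    ⟨fun {E₁ E₂} φ => (full_faithful_bc f hf h1 h2 h3 E₁ E₂ φ).exists⟩
  haveI : (AlgSp.EtOver.bc hf).EssSurj := ⟨fun E' => essSurj_bc f hf h1 h2 h3 E'⟩
  exact ⟨inferInstance, inferInstance, inferInstance⟩

end Groth.Agent.S10585
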