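import Groth.Statements.S10586
import Groth.Agent.AlgSpLib.ThickEtSite
-- import your own Groth.Agent.* helpers here

set_option autoImplicit false
universe u
open CategoryTheory CategoryTheory.Limits AlgebraicGeometry
open AlgSp

namespace Groth.Agent.S10586

/-- Let i : X ⟶ X' be a thickening of algebraic spaces over S (representable, every base change to a
scheme a surjective closed immersion). Then base change along i is an equivalence from the small
etale site of X' (schemes etale over X') to the small etale site of X. -/
theorem result {S : Scheme.{u}} {X X' : AlgSp.Space S} (i : X ⟶ X')
    (hi : AlgSp.IsThickMor i.hom) :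
    (AlgSp.EtOver.bc hi.1).IsEquivalence := by
  exact Groth.Agent.AlgSpLib.ThickEt.bc_isEquivalence X'.property hi

end Groth.Agent.S10586
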