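import Groth.Statements.S10587
import Groth.Agent.AlgSpLib.ThickTop
-- import your own Groth.Agent.* helpers here

set_option autoImplicit false
universe u
open CategoryTheory CategoryTheory.Limits AlgebraicGeometry
open AlgSp

namespace Groth.Agent.S10587

open Groth.Agent.AlgSpLib in
theorem map_comp' {S : Scheme.{u}} {A B C : AlgSp.Sp S} (a : A ⟶ B) (b : B ⟶ C) :
    AlgSp.Points.map (a ≫ b) = AlgSp.Points.map b ∘ AlgSp.Points.map a := funext (AlgSp.Points.map_comp a b)

/-- Consider a morphism (f, f') from the thickening X ⊂ X' to the thickening Y ⊂ Y' of algebraic spaces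
over S, meaning: i : X ⟶ X' and j : Y ⟶ Y' are thickenings (representable, every base change to a
scheme a surjective closed immersion) and i ≫ f' = f ≫ j. Then f is surjective, resp. quasi-compact,
universally closed, universally injective, universally open, if and only if f' is. -/
theorem result {S : Scheme.{u}} {X X' Y Y' : AlgSp.Space S} (i : X ⟶ X') (j : Y ⟶ Y')
    (f : X ⟶ Y) (f' : X' ⟶ Y')
    (hi : AlgSp.IsThickMor i.hom)
    (hj : AlgSp.IsThickMor j.hom) (w : i ≫ f' = f ≫ j) :
    (AlgSp.IsSurjectiveMor f.hom ↔ AlgSp.IsSurjectiveMor f'.hom) ∧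
    (AlgSp.IsQuasiCompactMor f.hom ↔ AlgSp.IsQuasiCompactMor f'.hom) ∧
    (AlgSp.IsUnivClosedMor f.hom ↔ AlgSp.IsUnivClosedMor f'.hom) ∧
    (AlgSp.IsUnivInjectiveMor f.hom ↔ AlgSp.IsUnivInjectiveMor f'.hom) ∧
    (AlgSp.IsUnivOpenMor f.hom ↔ AlgSp.IsUnivOpenMor f'.hom) := by
  have hhi : IsHomeomorph (Points.map i.hom) := Groth.Agent.AlgSpLib.isHomeomorph_map_of_thickMor X'.property hi
  have hhj : IsHomeomorph (Points.map j.hom) := Groth.Agent.AlgSpLib.isHomeomorph_map_of_thickMor Y'.property hj
  have w' : Points.map f'.hom ∘ Points.map i.hom = Points.map j.hom ∘ Points.map f.hom := by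
    rw [← map_comp', ← map_comp']
    exact congrArg (fun k => Points.map k) (congrArg InducedCategory.Hom.hom w)
  refine ⟨⟨fun h => ?_, fun h => ?_⟩, ?_, ?_, ?_, ?_⟩
  · exact Function.Surjective.of_comp (g := Points.map i.hom) (w'.symm ▸ hhj.surjective.comp h)
  · have h1 : Function.Surjective (Points.map j.hom ∘ Points.map f.hom) := w' ▸ h.comp hhi.surjective
    exact Function.Surjective.of_comp_left h1 hhj.injective
  · rw [Groth.Agent.AlgSpLib.isQuasiCompactMor_iff_univSp X.property Y.property,
      Groth.Agent.AlgSpLib.isQuasiCompactMor_iff_univSp X'.property Y'.property]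
    refine Groth.Agent.AlgSpLib.univSp_iff_of_thick (fun a b hb => ?_) (fun a b ha => ?_) hi hj w
    · exact ⟨fun h hc => h hb.homeomorph.compactSpace, fun h hc => h hb.homeomorph.symm.compactSpace⟩
    · exact ⟨fun h hc => @Homeomorph.compactSpace _ _ _ _ (h hc) ha.homeomorph,
        fun h hc => @Homeomorph.compactSpace _ _ _ _ (h hc) ha.homeomorph.symm⟩
  · refine Groth.Agent.AlgSpLib.univSp_iff_of_thick (fun a b hb => ?_) (fun a b ha => ?_) hi hj w
    · show IsClosedMap (Points.map (a ≫ b)) ↔ IsClosedMap (Points.map a)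
      rw [map_comp']
      refine ⟨fun h U hU => ?_, fun h => hb.isClosedMap.comp h⟩
      rw [← hb.injective.preimage_image (Points.map a '' U), ← Set.image_comp]
      exact (h U hU).preimage hb.continuous
    · show IsClosedMap (Points.map (a ≫ b)) ↔ IsClosedMap (Points.map b)
      rw [map_comp']
      exact ⟨fun h => h.of_comp_surjective ha.surjective ha.continuous,
        fun h => h.comp ha.isClosedMap⟩
  · refine Groth.Agent.AlgSpLib.univSp_iff_of_thick (fun a b hb => ?_) (fun a b ha => ?_) hi hj w
    · show Function.Injective (Points.map (a ≫ b)) ↔ Function.Injective (Points.map a)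
      rw [map_comp']
      exact hb.injective.of_comp_iff _
    · show Function.Injective (Points.map (a ≫ b)) ↔ Function.Injective (Points.map b)
      rw [map_comp']
      exact Function.Injective.of_comp_iff' _ ha.bijective
  · refine Groth.Agent.AlgSpLib.univSp_iff_of_thick (fun a b hb => ?_) (fun a b ha => ?_) hi hj w
    · show IsOpenMap (Points.map (a ≫ b)) ↔ IsOpenMap (Points.map a)
      rw [map_comp']
      exact hb.homeomorph.comp_isOpenMap_iff
    · show IsOpenMap (Points.map (a ≫ b)) ↔ IsOpenMap (Points.map b)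
      rw [map_comp']
      exact ha.homeomorph.comp_isOpenMap_iff'

end Groth.Agent.S10587
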