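import Groth.Statements.S10589
import Groth.Agent.AlgSpLib.ThickTop
import Groth.Agent.AlgSpLib.MorProper
import Groth.Agent.AlgSpLib.MorQC
import Groth.Agent.AlgSpLib.MorSep
-- import your own Groth.Agent.* helpers here

set_option autoImplicit false
universe u
open CategoryTheory CategoryTheory.Limits AlgebraicGeometry
open AlgSp

namespace Groth.Agent.S10589

open Groth.Agent.AlgSpLib in
theorem map_comp' {S : Scheme.{u}} {A B C : AlgSp.Sp S} (a : A ⟶ B) (b : B ⟶ C) :
    AlgSp.Points.map (a ≫ b) = AlgSp.Points.map b ∘ AlgSp.Points.map a := funext (AlgSp.Points.map_comp a b)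

open Groth.Agent.AlgSpLib in
set_option backward.isDefEq.respectTransparency.types false in
theorem diag_iff {S : Scheme.{u}} {X X' Y Y' : AlgSp.Space.{u} S} (i : X ⟶ X') (j : Y ⟶ Y') (f : X ⟶ Y)
    (f' : X' ⟶ Y') (hi : AlgSp.IsThickMor i.hom) (hj : AlgSp.IsThickMor j.hom)
    (w : i.hom ≫ f'.hom = f.hom ≫ j.hom) :
    (AlgSp.IsUnivClosedMor (pullback.diagonal f.hom) ↔ AlgSp.IsUnivClosedMor (pullback.diagonal f'.hom)) ∧
    (AlgSp.IsQuasiCompactMor (pullback.diagonal f.hom) ↔
      AlgSp.IsQuasiCompactMor (pullback.diagonal f'.hom)) := by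
  have := mono_of_thickMor hj
  haveI : MorphismProperty.IsStableUnderComposition (AlgSp.thick.{u}) :=
    inferInstanceAs (MorphismProperty.IsStableUnderComposition (@IsClosedImmersion.{u} ⊓ @Surjective.{u}))
  haveI : MorphismProperty.IsStableUnderBaseChange (AlgSp.thick.{u}) :=
    inferInstanceAs (MorphismProperty.IsStableUnderBaseChange (@IsClosedImmersion.{u} ⊓ @Surjective.{u}))
  let A : AlgSp.Space.{u} S := ⟨pullback f.hom f.hom,
    isAlgSpace_of_isPullback Y.property.diag X.property X.property (IsPullback.of_hasPullback _ _)⟩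
  let A' : AlgSp.Space.{u} S := ⟨pullback f'.hom f'.hom,
    isAlgSpace_of_isPullback Y'.property.diag X'.property X'.property (IsPullback.of_hasPullback _ _)⟩
  have e₁ : f.hom ≫ j.hom = i.hom ≫ f'.hom := w.symm
  have sqA : IsPullback (pullback.fst f.hom f.hom) (pullback.snd f.hom f.hom) (f.hom ≫ j.hom)
      (f.hom ≫ j.hom) := isPullback_comp_mono' (IsPullback.of_hasPullback _ _) j.hom
  let t₀ := pullback.map (f.hom ≫ j.hom) (f.hom ≫ j.hom) f'.hom f'.hom i.hom i.hom (𝟙 _)
    (by rw [Category.comp_id, e₁]) (by rw [Category.comp_id, e₁])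
  have ht₀ : AlgSp.RepWith AlgSp.thick t₀ :=
    MorphismProperty.pullbackMap (P := AlgSp.RepWith AlgSp.thick) hi hi e₁ e₁
  let t : A ⟶ A' := ObjectProperty.homMk (sqA.isoPullback.hom ≫ t₀)
  have ht : AlgSp.IsThickMor t.hom :=
    ((AlgSp.RepWith (S := S) AlgSp.thick).cancel_left_of_respectsIso _ _).2 ht₀
  let d : X ⟶ A := ObjectProperty.homMk (pullback.diagonal f.hom)
  let d' : X' ⟶ A' := ObjectProperty.homMk (pullback.diagonal f'.hom)
  have wd : i ≫ d' = d ≫ t := InducedCategory.hom_ext (by
    show i.hom ≫ pullback.diagonal f'.hom = pullback.diagonal f.hom ≫ sqA.isoPullback.hom ≫ t₀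
    refine pullback.hom_ext ?_ ?_
    · simp only [t₀, Category.assoc]
      rw [pullback.diagonal_fst, Category.comp_id, pullback.lift_fst, IsPullback.isoPullback_hom_fst_assoc,
        pullback.diagonal_fst_assoc]
    · simp only [t₀, Category.assoc]
      rw [pullback.diagonal_snd, Category.comp_id, pullback.lift_snd, IsPullback.isoPullback_hom_snd_assoc,
        pullback.diagonal_snd_assoc])
  refine ⟨?_, ?_⟩
  · refine univSp_iff_of_thick (fun a b hb => ?_) (fun a b ha => ?_) hi ht wd
    · show IsClosedMap (AlgSp.Points.map (a ≫ b)) ↔ IsClosedMap (AlgSp.Points.map a)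
      rw [map_comp']
      refine ⟨fun h U hU => ?_, fun h => hb.isClosedMap.comp h⟩
      rw [← hb.injective.preimage_image (AlgSp.Points.map a '' U), ← Set.image_comp]
      exact (h U hU).preimage hb.continuous
    · show IsClosedMap (AlgSp.Points.map (a ≫ b)) ↔ IsClosedMap (AlgSp.Points.map b)
      rw [map_comp']
      exact ⟨fun h => h.of_comp_surjective ha.surjective ha.continuous,
        fun h => h.comp ha.isClosedMap⟩
  · rw [show pullback.diagonal f.hom = d.hom from rfl, show pullback.diagonal f'.hom = d'.hom from rfl,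
      isQuasiCompactMor_iff_univSp X.property A.property,
      isQuasiCompactMor_iff_univSp X'.property A'.property]
    refine univSp_iff_of_thick (fun a b hb => ?_) (fun a b ha => ?_) hi ht wd
    · exact ⟨fun h hc => h hb.homeomorph.compactSpace, fun h hc => h hb.homeomorph.symm.compactSpace⟩
    · exact ⟨fun h hc => @Homeomorph.compactSpace _ _ _ _ (h hc) ha.homeomorph,
        fun h hc => @Homeomorph.compactSpace _ _ _ _ (h hc) ha.homeomorph.symm⟩

/-- Consider a morphism (f, f') from the thickening X ⊂ X' to the thickening Y ⊂ Y' of algebraic spaces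
over S, meaning: i : X ⟶ X' and j : Y ⟶ Y' are thickenings (representable, every base change to a
scheme a surjective closed immersion) and i ≫ f' = f ≫ j. Then f is separated if and only if f' is
separated, and f is quasi-separated if and only if f' is quasi-separated. -/
theorem result {S : Scheme.{u}} {X X' Y Y' : AlgSp.Space S} (i : X ⟶ X') (j : Y ⟶ Y')
    (f : X ⟶ Y) (f' : X' ⟶ Y')
    (hi : AlgSp.IsThickMor i.hom)
    (hj : AlgSp.IsThickMor j.hom) (w : i ≫ f' = f ≫ j) :
    (AlgSp.IsSeparatedMor f.hom ↔ AlgSp.IsSeparatedMor f'.hom) ∧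
    (AlgSp.IsQuasiSeparatedMor f.hom ↔ AlgSp.IsQuasiSeparatedMor f'.hom) := by
  obtain ⟨h1, h2⟩ := diag_iff i j f f' hi hj (congrArg InducedCategory.Hom.hom w)
  refine ⟨?_, ?_⟩
  · rw [Groth.Agent.AlgSpLib.isSeparatedMor_iff_diagonal_univClosed X.property Y.property,
      Groth.Agent.AlgSpLib.isSeparatedMor_iff_diagonal_univClosed X'.property Y'.property]
    exact h1
  · have q : ∀ {A B : Space.{u} S} (g : A ⟶ B),
        IsQuasiSeparatedMor g.hom ↔ IsQuasiCompactMor (pullback.diagonal g.hom) := fun {A B} g =>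
      Groth.Agent.AlgSpLib.repWith_quasiCompact_iff A.property
        (Groth.Agent.AlgSpLib.isAlgSpace_of_isPullback B.property.diag A.property A.property
          (IsPullback.of_hasPullback _ _))
        (Groth.Agent.AlgSpLib.representable_diagonal A.property _)
    rw [q f, q f']
    exact h2

end Groth.Agent.S10589
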