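import Groth.Statements.S10595
import Groth.Agent.AlgSpLib.ThickNilp
-- import your own Groth.Agent.* helpers here

set_option autoImplicit false
universe u
open CategoryTheory CategoryTheory.Limits AlgebraicGeometry
open AlgSp

namespace Groth.Agent.S10595

/-- Let iB : B ⟶ B' be a finite order thickening of algebraic spaces over S (a thickening such that for
one n the (n+1)-st power of the ideal vanishes on every affine etale scheme chart), f' : X' ⟶ Y' a
morphism of algebraic spaces over B' (via g' : Y' ⟶ B') with X' flat over B', and f : X ⟶ Y, g : Y ⟶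
B its base change to B (both squares to iB cartesian, iX ≫ f' = f ≫ iY). If f is flat, then f' is
flat and g' : Y' ⟶ B' is flat at every point of Y' in the image of f'. -/
theorem result {S : Scheme.{u}} {X X' Y Y' B B' : AlgSp.Space S} (iX : X ⟶ X') (iY : Y ⟶ Y') (iB : B ⟶ B')
    (f : X ⟶ Y) (f' : X' ⟶ Y') (g : Y ⟶ B) (g' : Y' ⟶ B')
    (hcX : IsPullback iX.hom (f ≫ g).hom (f' ≫ g').hom iB.hom) (hcY : IsPullback iY.hom g.hom g'.hom iB.hom)
    (w : iX ≫ f' = f ≫ iY)
    (hB : AlgSp.IsFinThickMor iB.hom) (hflat : AlgSp.LocP @Flat (f' ≫ g').hom)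
    (hf : AlgSp.LocP @Flat f.hom) :
    AlgSp.LocP @Flat f'.hom ∧
    ∀ x' : AlgSp.Points X'.obj, AlgSp.IsFlatAtMor g'.hom (AlgSp.Points.map f'.hom x') := by
  obtain ⟨C⟩ := Groth.Agent.AlgSpLib.nonempty_charts X'.property Y'.property B'.property f'.hom g'.hom
  have w' : iX.hom ≫ f'.hom = f.hom ≫ iY.hom := congrArg (fun k : X ⟶ Y' => k.hom) w
  have key := Groth.Agent.AlgSpLib.flat_stalk_of_finThick hcX hcY w' hB hflat hf C
  exact ⟨Groth.Agent.AlgSpLib.locP_flat_of_chart X'.property Y'.property C fun u => (key u).1,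
    Groth.Agent.AlgSpLib.isFlatAtMor_image_of_chart Y'.property B'.property C fun u => (key u).2⟩

end Groth.Agent.S10595
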