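import Groth.Statements.S10599
import Groth.Agent.AlgSpLib.DeformProps
-- import your own Groth.Agent.* helpers here

set_option autoImplicit false
universe u
open CategoryTheory CategoryTheory.Limits AlgebraicGeometry
open AlgSp

namespace Groth.Agent.S10599

open Groth.Agent.AlgSpLib

/-- Let iB : B ⟶ B' be a thickening of algebraic spaces over S (representable, every base change to a
scheme a surjective closed immersion), f' : X' ⟶ Y' a morphism of algebraic spaces over B' (via g' :
Y' ⟶ B') with Y' locally of finite type over B' and X' flat and locally of finite presentation over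
B', and f : X ⟶ Y, g : Y ⟶ B its base change to B (both squares to iB cartesian, iX ≫ f' = f ≫ iY).
Then f is locally of finite type of relative dimension d, resp. flat, resp. locally quasi-finite,
smooth, unramified, etale, if and only if f' is (etale-local sense; locally quasi-finite and
unramified include locally of finite type). -/
theorem result {S : Scheme.{u}} {X X' Y Y' B B' : AlgSp.Space S} (iX : X ⟶ X') (iY : Y ⟶ Y') (iB : B ⟶ B')
    (f : X ⟶ Y) (f' : X' ⟶ Y') (g : Y ⟶ B) (g' : Y' ⟶ B')
    (hcX : IsPullback iX.hom (f ≫ g).hom (f' ≫ g').hom iB.hom) (hcY : IsPullback iY.hom g.hom g'.hom iB.hom)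
    (w : iX ≫ f' = f ≫ iY)
    (hB : AlgSp.IsThickMor iB.hom)
    (hg' : AlgSp.LocP @LocallyOfFiniteType g'.hom)
    (hflat : AlgSp.LocP @Flat (f' ≫ g').hom) (hfp : AlgSp.LocP @LocallyOfFinitePresentation (f' ≫ g').hom) (d : ℕ) :
    ((AlgSp.LocP @LocallyOfFiniteType f.hom ∧
        ∀ x, AlgSp.HasAtMor (fun _ _ h u => FlatMor.fibreDimAt h u = (d : WithBot ℕ∞)) f.hom x) ↔
      (AlgSp.LocP @LocallyOfFiniteType f'.hom ∧
        ∀ x', AlgSp.HasAtMor (fun _ _ h u => FlatMor.fibreDimAt h u = (d : WithBot ℕ∞)) f'.hom x')) ∧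
    (AlgSp.LocP @Flat f.hom ↔ AlgSp.LocP @Flat f'.hom) ∧
    (AlgSp.LocP (@LocallyQuasiFinite ⊓ @LocallyOfFiniteType) f.hom ↔
      AlgSp.LocP (@LocallyQuasiFinite ⊓ @LocallyOfFiniteType) f'.hom) ∧
    (AlgSp.LocP @Smooth f.hom ↔ AlgSp.LocP @Smooth f'.hom) ∧
    (AlgSp.LocP (@LocallyOfFiniteType ⊓ @FormallyUnramified) f.hom ↔
      AlgSp.LocP (@LocallyOfFiniteType ⊓ @FormallyUnramified) f'.hom) ∧
    (AlgSp.IsEtaleMor f.hom ↔ AlgSp.IsEtaleMor f'.hom) := by
  obtain ⟨C⟩ := nonempty_charts X'.property Y'.property B'.property f'.hom g'.hom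
  have w' : iX.hom ≫ f'.hom = f.hom ≫ iY.hom := congrArg (fun k : X ⟶ Y' => k.hom) w
  obtain ⟨D, hDU, hDV⟩ := exists_thickChart' hcX hcY w' hB C
  have : LocallyOfFiniteType C.k.left := lft_chart C hg'
  have : LocallyOfFinitePresentation (C.h.left ≫ C.k.left) := lfp_flat_chart C hfp
  have hfp' : LocP @LocallyOfFinitePresentation f'.hom :=
    locP_of_chart_square etLocal_lfp X'.property C.a C.a_etale C.a_surj C.b C.b_etale C.h
      (H8Lim.lfp_cancel_right C.h.left C.k.left) C.wf
  have hft' : LocP @LocallyOfFiniteType f'.hom :=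
    locP_mono (fun _ _ h (_ : LocallyOfFinitePresentation h) => (inferInstance : LocallyOfFiniteType h)) hfp'
  have hfl : LocP @Flat f.hom → LocP @Flat f'.hom := fun hf =>
    locP_flat_of_chart X'.property Y'.property C fun u => (flat_stalk_of_thick_fp C hg' hflat hfp
      (flatOnFibres_of_thick X.property Y.property B.property hcX hcY w' hB hf) u).1
  have hse := D.smooth_etale_iff X.property X'.property Y.property Y'.property (fun _ => hfp') hfl
  refine ⟨?_, ⟨hfl, D.of_base_change etLocal_flat X.property X'.property⟩,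
    D.lqf_iff X.property X'.property (fun _ => hft'), hse.1,
    D.unramified_iff X.property X'.property (fun _ => hft'), hse.2⟩
  rw [D.fibreDim_iff X.property X'.property Y.property Y'.property (d : WithBot ℕ∞)]
  exact and_congr_left fun _ =>
    ⟨fun _ => hft', D.of_base_change etLocal_lft X.property X'.property⟩

end Groth.Agent.S10599
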