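import Groth.Statements.S10600
import Groth.Agent.AlgSpLib.DeformIso
-- import your own Groth.Agent.* helpers here

set_option autoImplicit false
universe u
open CategoryTheory CategoryTheory.Limits AlgebraicGeometry
open AlgSp

namespace Groth.Agent.S10600

open Groth.Agent.AlgSpLib

/-- Let iB : B ⟶ B' be a thickening of algebraic spaces over S (representable, every base change to a
scheme a surjective closed immersion), f' : X' ⟶ Y' a morphism of algebraic spaces over B' (via g' :
Y' ⟶ B') with Y' locally of finite type over B' and X' flat and locally of finite presentation over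
B', and f : X ⟶ Y, g : Y ⟶ B its base change to B (both squares to iB cartesian, iX ≫ f' = f ≫ iY).
Then f is an isomorphism, resp. an open immersion, resp. a monomorphism, resp. finite locally free,
resp. finite locally free of degree d, if and only if f' is. -/
theorem result {S : Scheme.{u}} {X X' Y Y' B B' : AlgSp.Space S} (iX : X ⟶ X') (iY : Y ⟶ Y') (iB : B ⟶ B')
    (f : X ⟶ Y) (f' : X' ⟶ Y') (g : Y ⟶ B) (g' : Y' ⟶ B')
    (hcX : IsPullback iX.hom (f ≫ g).hom (f' ≫ g').hom iB.hom) (hcY : IsPullback iY.hom g.hom g'.hom iB.hom)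
    (w : iX ≫ f' = f ≫ iY)
    (hB : AlgSp.IsThickMor iB.hom)
    (hg' : AlgSp.LocP @LocallyOfFiniteType g'.hom)
    (hflat : AlgSp.LocP @Flat (f' ≫ g').hom) (hfp : AlgSp.LocP @LocallyOfFinitePresentation (f' ≫ g').hom) :
    (IsIso f.hom ↔ IsIso f'.hom) ∧
    (AlgSp.RepWith @IsOpenImmersion f.hom ↔ AlgSp.RepWith @IsOpenImmersion f'.hom) ∧
    (Mono f.hom ↔ Mono f'.hom) ∧
    (AlgSp.IsFinLocFreeMor f.hom ↔ AlgSp.IsFinLocFreeMor f'.hom) ∧
    (∀ d : ℕ, AlgSp.IsFinLocFreeOfDegMor d f.hom ↔ AlgSp.IsFinLocFreeOfDegMor d f'.hom) := by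
  have w' : iX.hom ≫ f'.hom = f.hom ≫ iY.hom := congrArg (fun k : X ⟶ Y' => k.hom) w
  have hi : AlgSp.IsThickMor iB.hom := hB
  have sq : IsPullback iX.hom f.hom f'.hom iY.hom := IsPullback.of_bot hcX w' hcY
  have hiY : AlgSp.IsThickMor iY.hom := RepWith.baseChange hcY.flip hi
  obtain ⟨C⟩ := nonempty_charts X'.property Y'.property B'.property f'.hom g'.hom
  obtain ⟨D, -, -⟩ := exists_thickChart' hcX hcY w' hi C
  have hP : IsAlgSpace (pullback f'.hom f'.hom) :=
    isAlgSpace_of_isPullback Y'.property.diag X'.property X'.property (IsPullback.of_hasPullback _ _)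
  have hP₀ : IsAlgSpace (pullback f.hom f.hom) :=
    isAlgSpace_of_isPullback Y.property.diag X.property X.property (IsPullback.of_hasPullback _ _)
  let π := pullback.fst f.hom f.hom ≫ f.hom ≫ g.hom
  let π' := pullback.fst f'.hom f'.hom ≫ f'.hom ≫ g'.hom
  have eΔ : pullback.diagonal f.hom ≫ π = (f ≫ g).hom := by
    simp only [π, pullback.diagonal_fst_assoc]; rfl
  have eΔ' : pullback.diagonal f'.hom ≫ π' = (f' ≫ g').hom := by
    simp only [π', pullback.diagonal_fst_assoc]; rfl
  have cX : IsPullback iX.hom (pullback.diagonal f.hom ≫ π) (pullback.diagonal f'.hom ≫ π') iB.hom := by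
    rw [eΔ, eΔ']; exact hcX
  have cP : IsPullback (pullback.map f.hom f.hom f'.hom f'.hom iX.hom iX.hom iY.hom sq.w.symm sq.w.symm) π π'
      iB.hom := by
    have := (isPullback_map_of_isPullback sq).paste_vert hcY
    simpa only [Category.assoc] using this
  have wΔ := (isPullback_diagonal_map sq).w
  have hflat' : LocP @Flat (pullback.diagonal f'.hom ≫ π') := by rw [eΔ']; exact hflat
  have : LocallyOfFiniteType C.k.left := lft_chart C hg'
  have : LocallyOfFinitePresentation (C.h.left ≫ C.k.left) := lfp_flat_chart C hfp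
  have hfp'0 : LocP @LocallyOfFinitePresentation f'.hom :=
    locP_of_chart_square etLocal_lfp X'.property C.a C.a_etale C.a_surj C.b C.b_etale C.h
      (H8Lim.lfp_cancel_right C.h.left C.k.left) C.wf
  have hft' : LocP @LocallyOfFiniteType f'.hom :=
    locP_mono (fun _ _ h (_ : LocallyOfFinitePresentation h) => (inferInstance : LocallyOfFiniteType h)) hfp'0
  have hfp' : LocP @LocallyOfFinitePresentation f.hom → LocP @LocallyOfFinitePresentation f'.hom :=
    fun _ => hfp'0
  have hfl : LocP @Flat f.hom → LocP @Flat f'.hom := fun hf =>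
    locP_flat_of_chart X'.property Y'.property C fun u => (flat_stalk_of_thick_fp C hg' hflat hfp
      (flatOnFibres_of_thick X.property Y.property B.property hcX hcY w' hB hf) u).1
  have hπ' : LocP @LocallyOfFiniteType π' :=
    locP_comp etLocal_lft hP X'.property B'.property
      (locP_of_isPullback etLocal_lft X'.property Y'.property hP (IsPullback.of_hasPullback f'.hom f'.hom).flip hft')
      (locP_comp etLocal_lft X'.property Y'.property B'.property hft' hg')
  have hfp'' : LocP @LocallyOfFinitePresentation (pullback.diagonal f'.hom ≫ π') := by rw [eΔ']; exact hfp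
  have hflΔ : LocP @Flat (pullback.diagonal f.hom) → LocP @Flat (pullback.diagonal f'.hom) := fun hf => by
    obtain ⟨CΔ⟩ := nonempty_charts X'.property hP B'.property (pullback.diagonal f'.hom) π'
    exact locP_flat_of_chart X'.property hP CΔ fun u => (flat_stalk_of_thick_fp CΔ hπ' hflat' hfp''
      (flatOnFibres_of_thick X.property hP₀ B.property cX cP wΔ hB hf) u).1
  have hle : (MorphismProperty.isomorphisms Scheme.{u}) ≤ @IsOpenImmersion :=
    fun _ _ g (_ : IsIso g) => (inferInstance : IsOpenImmersion g)
  have het : IsEtaleMor f.hom → IsEtaleMor f'.hom :=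
    (D.smooth_etale_iff X.property X'.property Y.property Y'.property hfp' hfl).2.1
  have hflf := fun {P : MorphismProperty Scheme.{u}} (hP : P ≤ finLocFree) (hf : RepWith P f.hom) =>
    finLocFree_of_thick X.property X'.property Y.property Y'.property sq hiY D hfl hfp' hP hf
  refine ⟨⟨fun _ => ?_, fun h => MorphismProperty.of_isPullback (P := MorphismProperty.isomorphisms _) sq h⟩,
    ⟨fun h => (openImmersion_of_thick_mor X.property X'.property Y.property Y'.property sq hiY het le_rfl h).2.1,
      RepWith.baseChange sq⟩,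
    ⟨fun _ => ?_, fun h => MorphismProperty.of_isPullback (P := MorphismProperty.monomorphisms _) sq h⟩,
    ⟨fun h => (hflf le_rfl h).1, RepWith.baseChange sq⟩,
    fun d => ⟨fun h => (hflf (fun _ _ g (hg : finLocFreeOfDeg d g) => hg.1) h).2 d rfl, RepWith.baseChange sq⟩⟩
  · exact isIso_of_repWith_isomorphisms ((openImmersion_of_thick_mor X.property X'.property Y.property Y'.property
      sq hiY het hle (repWith_of_isIso _ f.hom)).2.2 rfl)
  · exact mono_of_thick_flat X'.property Y'.property sq hiY (hflΔ (locP_of_repWith etLocal_flat X.property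
      (repWith_of_isIso _ (pullback.diagonal f.hom))))

end Groth.Agent.S10600
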