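import Groth.Statements.S10601
import Groth.Agent.AlgSpLib.InjEtale
-- import your own Groth.Agent.* helpers here

set_option autoImplicit false
universe u
open CategoryTheory CategoryTheory.Limits AlgebraicGeometry
open AlgSp

namespace Groth.Agent.S10601

open Groth.Agent.AlgSpLib

/-- Take a morphism f : X ⟶ Y of algebraic spaces over S that is locally of finite type and such that
for every etale morphism V ⟶ Y of algebraic spaces the base change X ×_Y V ⟶ V is injective on
points. Then f is universally injective. -/
theorem result {S : Scheme.{u}} {X Y : AlgSp.Space S} (f : X ⟶ Y)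
    (hft : AlgSp.LocP @LocallyOfFiniteType f.hom)
    (hinj : ∀ (V : AlgSp.Space S) (g : V ⟶ Y), AlgSp.IsEtaleMor g.hom →
      ∀ (P : AlgSp.Sp S) (fst : P ⟶ X.obj) (snd : P ⟶ V.obj), IsPullback fst snd f.hom g.hom →
        Function.Injective (AlgSp.Points.map snd)) :
    AlgSp.IsUnivInjectiveMor f.hom := by
  exact isUnivInjective_of_injective_etale f hft hinj

end Groth.Agent.S10601
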