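import Groth.Statements.S1417
import Groth.Agent.FlatMorStein.SmallExt

set_option autoImplicit false
universe u
open FlatMor

namespace Groth.Agent.S1417

open AlgebraicGeometry CategoryTheory Limits in
/-- Let S be locally Noetherian and f : X → S locally of finite type. Then f is smooth if and only if
for every small extension B' → B of Artinian local rings (a surjection whose kernel is generated by
one element annihilated by the maximal ideal), every morphism Spec B → X and every morphism Spec B'
→ S locally of finite type making the square commute, there is a lift Spec B' → X. -/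
theorem result {X S : Scheme.{u}} (f : X ⟶ S) [IsLocallyNoetherian S] [LocallyOfFiniteType f] :
    Smooth f ↔ ∀ (B B' : Type u) [CommRing B] [CommRing B'] [IsArtinianRing B] [IsArtinianRing B'] [IsLocalRing B] [IsLocalRing B']
      (φ : B' →+* B) (ε : B'), Function.Surjective φ → RingHom.ker φ = Ideal.span {ε} → (∀ m ∈ IsLocalRing.maximalIdeal B', ε * m = 0) →
      ∀ (α : Spec (CommRingCat.of B) ⟶ X) (β : Spec (CommRingCat.of B') ⟶ S), LocallyOfFiniteType β →
        Spec.map (CommRingCat.ofHom φ) ≫ β = α ≫ f →
        ∃ γ : Spec (CommRingCat.of B') ⟶ X, Spec.map (CommRingCat.ofHom φ) ≫ γ = α ∧ γ ≫ f = β := by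
  constructor
  · intro hf B B' _ _ _ _ _ _ φ ε hφ hker hm α β _ w
    have hεm : ε ∈ IsLocalRing.maximalIdeal B' :=
      IsLocalRing.le_maximalIdeal (RingHom.ker_ne_top φ) (hker ▸ Ideal.mem_span_singleton_self ε)
    have hsq : RingHom.ker φ ^ 2 = ⊥ := by
      rw [hker, Ideal.span_singleton_pow, Ideal.span_singleton_eq_bot, pow_two, hm ε hεm]
    have hsm : (f.stalkMap (α (IsLocalRing.closedPoint B))).hom.FormallySmooth :=
      Scheme.Hom.mem_smoothLocus.1 (by rw [Scheme.Hom.smoothLocus_eq_top]; trivial)
    exact Groth.Agent.Unram17Lib.lifting_of_formallySmooth f _ hsm B B' φ hφ hsq α β rfl w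
  · intro H
    have : IsLocallyNoetherian X := LocallyOfFiniteType.isLocallyNoetherian f
    have : LocallyOfFinitePresentation f := inferInstance
    rw [← Scheme.Hom.smoothLocus_eq_top_iff]
    by_contra hne
    obtain ⟨x, hx, hcl⟩ := Groth.Agent.CommAlg6.exists_isClosed_singleton_mem (X := X)
      f.smoothLocus.2.isClosed_compl (Set.nonempty_compl.2 fun h => hne (TopologicalSpace.Opens.ext h))
    exact hx (Scheme.Hom.mem_smoothLocus.2
      (Groth.Agent.FlatMorStein.formallySmooth_stalkMap_of_small f H x hcl))

end Groth.Agent.S1417
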