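import Groth.Statements.S10604
import Groth.Agent.AlgSpLib.FlatFibre
import Groth.Agent.S0392
-- import your own Groth.Agent.* helpers here

set_option autoImplicit false
universe u
open CategoryTheory CategoryTheory.Limits AlgebraicGeometry
open AlgSp

namespace Groth.Agent.S10604

theorem flat_of_fibre_noeth {U V W : Scheme.{u}} [IsLocallyNoetherian U] [IsLocallyNoetherian V]
    [IsLocallyNoetherian W] (h : U ⟶ V) (k : V ⟶ W) (x : U) (h₁ : ((h ≫ k).stalkMap x).hom.Flat)
    (h₂ : Groth.Agent.EGA43.Cons.IsFibFlatMorAt h k x) :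
    (h.stalkMap x).hom.Flat ∧ (k.stalkMap (h x)).hom.Flat := by
  rw [Scheme.Hom.stalkMap_comp] at h₁
  let := (h.stalkMap x).hom.toAlgebra
  let := (k.stalkMap (h x)).hom.toAlgebra
  let := ((h.stalkMap x).hom.comp (k.stalkMap (h x)).hom).toAlgebra
  have : IsScalarTower (W.presheaf.stalk (k (h x))) (V.presheaf.stalk (h x)) (U.presheaf.stalk x) :=
    .of_algebraMap_eq' rfl
  have : IsLocalHom (algebraMap (V.presheaf.stalk (h x)) (U.presheaf.stalk x)) :=
    inferInstanceAs (IsLocalHom (h.stalkMap x).hom)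
  have : IsLocalHom (algebraMap (W.presheaf.stalk (k (h x))) (V.presheaf.stalk (h x))) :=
    inferInstanceAs (IsLocalHom (k.stalkMap (h x)).hom)
  have : Module.Flat (W.presheaf.stalk (k (h x))) (U.presheaf.stalk x) := h₁
  let J := (IsLocalRing.maximalIdeal (W.presheaf.stalk (k (h x)))).map (k.stalkMap (h x)).hom
  have h₂' : Module.Flat (V.presheaf.stalk (h x) ⧸ J)
      (U.presheaf.stalk x ⧸ (J • (⊤ : Submodule (V.presheaf.stalk (h x)) (U.presheaf.stalk x)))) := h₂
  have hM : Module.Flat (V.presheaf.stalk (h x) ⧸ J)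
      (TensorProduct (V.presheaf.stalk (h x)) (V.presheaf.stalk (h x) ⧸ J) (U.presheaf.stalk x)) :=
    Module.Flat.of_linearEquiv ((TensorProduct.quotTensorEquivQuotSMul (U.presheaf.stalk x) J).extendScalarsOfSurjective
      Ideal.Quotient.mk_surjective)
  exact ⟨(Groth.Agent.S0392.result (S' := U.presheaf.stalk x) (M := U.presheaf.stalk x) hM).2,
    (Groth.Agent.S0392.result (S' := U.presheaf.stalk x) (M := U.presheaf.stalk x) hM).1⟩

/-- Let f : X ⟶ Y and h : Y ⟶ Z be morphisms of algebraic spaces over S with X, Y and Z locally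
Noetherian. Assume X is flat over Z and for every field K and every z : Spec K ⟶ Z the base change
X_z ⟶ Y_z of f is flat (fibres taken as pullback squares of fppf sheaves). Then f is flat; if
moreover f is surjective, then h is flat. -/
theorem result {S : Scheme.{u}} {X Y Z : AlgSp.Space S} (f : X ⟶ Y) (h : Y ⟶ Z)
    (hX : AlgSp.IsLocNoethSp X.obj) (hYn : AlgSp.IsLocNoethSp Y.obj) (hZ : AlgSp.IsLocNoethSp Z.obj)
    (hfl : AlgSp.LocP @Flat (f ≫ h).hom)
    (hfib : ∀ (K : Type u) [Field K] (sK : Spec (CommRingCat.of K) ⟶ S)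
      (z : (AlgSp.yon S).obj (Over.mk sK) ⟶ Z.obj) (Xz Yz : AlgSp.Sp S)
      (pX : Xz ⟶ X.obj) (qX : Xz ⟶ (AlgSp.yon S).obj (Over.mk sK))
      (pY : Yz ⟶ Y.obj) (qY : Yz ⟶ (AlgSp.yon S).obj (Over.mk sK)) (fz : Xz ⟶ Yz),
      IsPullback pX qX (f ≫ h).hom z → IsPullback pY qY h.hom z → fz ≫ pY = pX ≫ f.hom → fz ≫ qY = qX →
      AlgSp.LocP @Flat fz) :
    AlgSp.LocP @Flat f.hom ∧ (AlgSp.IsSurjectiveMor f.hom → AlgSp.LocP @Flat h.hom) := by
  obtain ⟨C⟩ := Groth.Agent.AlgSpLib.nonempty_charts X.property Y.property Z.property f.hom h.hom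
  have := Groth.Agent.AlgSpLib.isLocallyNoetherian_of_chart X.property hX C.a C.a_etale
  have := Groth.Agent.AlgSpLib.isLocallyNoetherian_of_chart Y.property hYn C.b C.b_etale
  have := Groth.Agent.AlgSpLib.isLocallyNoetherian_of_chart Z.property hZ C.c C.c_etale
  have : Flat (C.h.left ≫ C.k.left) := Groth.Agent.AlgSpLib.lfp_flat_chart C hfl
  have key := fun u => flat_of_fibre_noeth C.h.left C.k.left u
    (Flat.stalkMap _ u) (Groth.Agent.AlgSpLib.isFibFlatMorAt_chart C hfib u)
  exact ⟨Groth.Agent.AlgSpLib.locP_flat_of_chart X.property Y.property C fun u => (key u).1,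
    fun hs => Groth.Agent.AlgSpLib.locP_flat_right_of_chart Y.property Z.property C (fun u => (key u).2) hs⟩

end Groth.Agent.S10604
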