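import Groth.Statements.S10605
import Groth.Agent.AlgSpLib.FpqcBaseAffine2
import Groth.Prelude.Def_AlgSpInf
-- import your own Groth.Agent.* helpers here

set_option autoImplicit false
universe u
open CategoryTheory CategoryTheory.Limits AlgebraicGeometry
open AlgSp

namespace Groth.Agent.S10605

set_option backward.isDefEq.respectTransparency.types false in
/-- The property of a morphism of algebraic spaces over S of being a thickening (representable, every
base change to a scheme a surjective closed immersion) is local on the base for the fpqc topology.
(The published statement also claims the same for first order thickenings; this row states only the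
thickening clause.) -/
theorem result {S : Scheme.{u}} :
    AlgSp.IsLocalOnBase (S := S) AlgSp.IsFpqcCover
      AlgSp.IsThickMor := by
  haveI := Groth.Agent.Et18.descends_isClosedImmersion.{u}
  haveI : MorphismProperty.DescendsAlong @Surjective.{u} Groth.Agent.Et18.FPQC.{u} :=
    inferInstanceAs (MorphismProperty.DescendsAlong @Surjective.{u} (@Surjective ⊓ @Flat ⊓ @QuasiCompact))
  exact Groth.Agent.AlgSpLib.isLocalOnBase_fpqc_repWith (@IsClosedImmersion ⊓ @Surjective)
    fun _ _ g h => by
      have : IsClosedImmersion g := h.1
      exact (inferInstance : IsAffineHom g)

end Groth.Agent.S10605
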