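import Mathlib.RingTheory.Smooth.Locus
import Mathlib.RingTheory.Artinian.Ring
import Mathlib.RingTheory.FiniteType
import Mathlib.RingTheory.LocalRing.MaximalIdeal.Basic
import Groth.Agent.CAlgSmall.SmoothSmallExt

set_option autoImplicit false
universe u
namespace CAlg
end CAlg
open CAlg

namespace Groth.Agent.S2060

/-- Let `R` be Noetherian, `S` of finite type over `R` and `𝔮` a prime of `S`. Then `R → S` is smooth at
`𝔮` if and only if for every surjection `B' → B` of Artinian local `R`-algebras whose kernel is
principal and killed by the maximal ideal of `B'`, every `R`-algebra map `S → B` under which the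
maximal ideal pulls back to `𝔮` lifts to `B'`. -/
theorem result {R S : Type u} [CommRing R] [IsNoetherianRing R]
    [CommRing S] [Algebra R S] [Algebra.FiniteType R S] (q : Ideal S) [q.IsPrime] :
    Algebra.IsSmoothAt R q ↔
      ∀ (B' B : Type u) [CommRing B'] [CommRing B] [IsLocalRing B'] [IsLocalRing B]
        [IsArtinianRing B'] [IsArtinianRing B] [Algebra R B'] [Algebra R B] (π : B' →ₐ[R] B),
        Function.Surjective π →
        (∃ t : B', RingHom.ker π.toRingHom = Ideal.span {t} ∧
          ∀ a ∈ IsLocalRing.maximalIdeal B', a * t = 0) →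
        ∀ g : S →ₐ[R] B, (IsLocalRing.maximalIdeal B).comap g = q →
          ∃ g' : S →ₐ[R] B', π.comp g' = g := by
  constructor
  · rintro hq B' B _ _ _ _ _ _ _ _ π hπ ⟨t, hker, ht⟩ g hg
    exact Groth.Agent.CAlgSmall.SmoothSmallExt.lift_of_smoothAt q hq π hπ t hker ht g hg
  · exact Groth.Agent.CAlgSmall.SmoothSmallExt.smoothAt_of_lift q

end Groth.Agent.S2060
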