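import Groth.Statements.S10608
import Groth.Agent.AlgSpLib.SmoothFS
import Groth.Agent.AlgSpLib.SurjLift
import Groth.Agent.AlgSpLib.HasAtNbhd
import Groth.Agent.AlgSpLib.FlatAt
import Groth.Agent.AlgSpLib.FppfSource
import Groth.Agent.S2060
-- import your own Groth.Agent.* helpers here

set_option autoImplicit false
universe u
open CategoryTheory CategoryTheory.Limits AlgebraicGeometry
open AlgSp

namespace Groth.Agent.S10608

open Groth.Agent.AlgSpLib

theorem lifts_of_smoothAt {S : Scheme.{u}} {X Y : AlgSp.Space S} (f : X ⟶ Y) {x : AlgSp.Points X.obj}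
    (h : AlgSp.HasAtMor (fun U _ h u => ∃ W : U.Opens, u ∈ W ∧ Smooth (W.ι ≫ h)) f.hom x)
    {B' B : Type u} [CommRing B'] [CommRing B] [IsLocalRing B] (π : B' →+* B) (hπ : Function.Surjective π)
    (hsq : RingHom.ker π ^ 2 = ⊥) (s : Spec (CommRingCat.of B') ⟶ S)
    (α : (AlgSp.yon S).obj (Over.mk (Spec.map (CommRingCat.ofHom π) ≫ s)) ⟶ X.obj)
    (β : (AlgSp.yon S).obj (Over.mk s) ⟶ Y.obj)
    (hα : AlgSp.Points.ofPt α (IsLocalRing.closedPoint B) = x)
    (w : α ≫ f.hom = (AlgSp.yon S).map (surjPt π s) ≫ β) :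
    ∃ γ : (AlgSp.yon S).obj (Over.mk s) ⟶ X.obj,
      (AlgSp.yon S).map (surjPt π s) ≫ γ = α ∧ γ ≫ f.hom = β := by
  obtain ⟨W, hW, hx, hl⟩ := exists_open_subspace_of_hasAtMor etLocal_smooth X.property h
  obtain ⟨α', hα'⟩ := (exists_lift_openSubspace_iff W α).2 fun q => by
    have hq : q ⤳ (IsLocalRing.closedPoint B : PrimeSpectrum B) := IsLocalRing.specializes_closedPoint q
    exact (hq.map (AlgSp.Points.continuous_ofPt α)).mem_open hW (hα ▸ hx)
  obtain ⟨γ, h1, h2⟩ := exists_lift_of_surjective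
    (SmoothFS.isFormallySmoothMor_of_smooth (isAlgSpace_openSubspace X.property hW) Y.property hl) π hπ hsq s α' β
    (by rw [← Category.assoc, hα', w])
  exact ⟨γ ≫ openSubspaceι X.obj W, by rw [← Category.assoc, h1, hα'], by rw [Category.assoc, h2]⟩

theorem smoothAt_of_lifts {S : Scheme.{u}} {X Y : AlgSp.Space S} (f : X ⟶ Y)
    (hY : AlgSp.IsLocNoethSp Y.obj) (hft : AlgSp.LocP @LocallyOfFiniteType f.hom) (x : AlgSp.Points X.obj)
    (H : ∀ (B' B : Type u) [CommRing B'] [CommRing B] [IsLocalRing B'] [IsLocalRing B]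
      [IsArtinianRing B'] [IsArtinianRing B] (π : B' →+* B), Function.Surjective π →
      (∃ t : B', RingHom.ker π = Ideal.span {t} ∧ ∀ a ∈ IsLocalRing.maximalIdeal B', a * t = 0) →
      ∀ (s : Spec (CommRingCat.of B') ⟶ S)
        (α : (AlgSp.yon S).obj (Over.mk (Spec.map (CommRingCat.ofHom π) ≫ s)) ⟶ X.obj)
        (β : (AlgSp.yon S).obj (Over.mk s) ⟶ Y.obj),
        AlgSp.Points.ofPt α (IsLocalRing.closedPoint B) = x →
        α ≫ f.hom = (AlgSp.yon S).map (surjPt π s) ≫ β →
        ∃ γ : (AlgSp.yon S).obj (Over.mk s) ⟶ X.obj,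
          (AlgSp.yon S).map (surjPt π s) ≫ γ = α ∧ γ ≫ f.hom = β) :
    AlgSp.HasAtMor (fun U _ h u => ∃ W : U.Opens, u ∈ W ∧ Smooth (W.ι ≫ h)) f.hom x := by
  obtain ⟨V, b, hb, hbs⟩ := Y.property.atlas
  obtain ⟨U, a, h, ha, has, w⟩ := exists_chart_over X.property Y.property f.hom b hb hbs
  obtain ⟨u, rfl⟩ := surjective_ofPt a has x
  have : IsLocallyNoetherian V.left := isLocallyNoetherian_of_chart Y.property hY b hb
  have : LocallyOfFiniteType h.left := hft a b h ha hb w
  have : LocallyOfFinitePresentation h.left := LocallyOfFinitePresentation.iff_locallyOfFiniteType.2 inferInstance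
  have hu : u ∈ h.left.smoothLocus := by
    obtain ⟨W, hW, hW1, -⟩ := exists_isAffineOpen_mem_and_subset (x := h.left u) (U := ⊤) trivial
    obtain ⟨P, hP, hP1, hP2'⟩ := exists_isAffineOpen_mem_and_subset (x := u) (U := h.left ⁻¹ᵁ W) hW1
    have hP2 : P ≤ h.left ⁻¹ᵁ W := hP2'
    letI := (h.left.appLE W P hP2).hom.toAlgebra
    rw [Scheme.Hom.mem_smoothLocus, formallySmooth_stalkMap_iff W hW P hP hP2 hP1]
    have : IsNoetherianRing Γ(V.left, W) := IsLocallyNoetherian.component_noetherian ⟨W, hW⟩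
    have : Algebra.FiniteType Γ(V.left, W) Γ(U.left, P) := h.left.finiteType_appLE hW hP hP2
    refine (Groth.Agent.S2060.result (hP.primeIdealOf ⟨u, hP1⟩).asIdeal).2 ?_
    intro B' B _ _ _ _ _ _ _ _ π hπ hker g hg
    let α : Spec (CommRingCat.of B) ⟶ U.left := Spec.map (CommRingCat.ofHom g.toRingHom) ≫ hP.fromSpec
    let β : Spec (CommRingCat.of B') ⟶ V.left :=
      Spec.map (CommRingCat.ofHom (algebraMap Γ(V.left, W) B')) ≫ hW.fromSpec
    have hφ : CommRingCat.ofHom (algebraMap Γ(V.left, W) Γ(U.left, P)) = h.left.appLE W P hP2 := rfl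
    have e : Spec.map (CommRingCat.ofHom π.toRingHom) ≫ β = α ≫ h.left := by
      show _ ≫ _ ≫ _ = (_ ≫ _) ≫ _
      rw [Category.assoc, ← hW.SpecMap_appLE_fromSpec h.left hP hP2, ← Spec.map_comp_assoc,
        ← Spec.map_comp_assoc]
      refine congrArg (fun k => Spec.map k ≫ hW.fromSpec) (CommRingCat.hom_ext (RingHom.ext fun r => ?_))
      show π (algebraMap Γ(V.left, W) B' r) = g (algebraMap Γ(V.left, W) Γ(U.left, P) r)
      rw [π.commutes, g.commutes]
    obtain ⟨t, ht, hmt⟩ := hker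
    obtain ⟨γ, hγ1, hγ2⟩ := exists_chart_lift_of_surjective ha hb w (π := π.toRingHom) hπ (by
      rw [ht, Ideal.span_singleton_pow, Ideal.span_singleton_eq_bot, pow_two]
      have hne : RingHom.ker π.toRingHom ≠ ⊤ := RingHom.ker_ne_top π.toRingHom
      rw [ht] at hne
      exact hmt t (IsLocalRing.le_maximalIdeal hne (Ideal.mem_span_singleton_self t))) α β e (fun α₁ hα₁ e' => by
      refine H B' B π.toRingHom hπ ⟨t, ht, hmt⟩ _ _ _ ?_ e'
      refine (ofPt_map α₁ a _).trans (congrArg (AlgSp.Points.ofPt a) ?_)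
      rw [hα₁]
      show hP.fromSpec (Spec.map (CommRingCat.ofHom g.toRingHom) (IsLocalRing.closedPoint B)) = u
      refine Eq.trans ?_ (hP.fromSpec_primeIdealOf ⟨u, hP1⟩)
      exact congrArg _ (PrimeSpectrum.ext hg))
    have hrange : Set.range γ ⊆ Set.range hP.fromSpec := by
      rintro _ ⟨q, rfl⟩
      have hq : q = Spec.map (CommRingCat.ofHom π.toRingHom) (IsLocalRing.closedPoint B) :=
        Subsingleton.elim (α := PrimeSpectrum B') _ _
      rw [hq]
      exact ⟨_, (congr($(hγ1) (IsLocalRing.closedPoint B))).symm⟩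
    obtain ⟨g₂, hg₂⟩ := Spec.map_surjective (IsOpenImmersion.lift hP.fromSpec γ hrange)
    have hγ : Spec.map g₂ ≫ hP.fromSpec = γ := by rw [hg₂]; exact IsOpenImmersion.lift_fac _ _ _
    have hg₂alg : h.left.appLE W P hP2 ≫ g₂ = CommRingCat.ofHom (algebraMap Γ(V.left, W) B') := by
      refine Spec.map_injective ((cancel_mono hW.fromSpec).1 ?_)
      rw [Spec.map_comp, Category.assoc, hW.SpecMap_appLE_fromSpec h.left hP hP2, ← Category.assoc, hγ, hγ2]
    refine ⟨{ toRingHom := g₂.hom, commutes' := fun r => congr($(hg₂alg).hom r) }, AlgHom.ext fun y => ?_⟩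
    have h3 : g₂ ≫ CommRingCat.ofHom π.toRingHom = CommRingCat.ofHom g.toRingHom := by
      refine Spec.map_injective ((cancel_mono hP.fromSpec).1 ?_)
      rw [Spec.map_comp, Category.assoc, hγ, hγ1]
    exact congr($(h3).hom y)
  refine ⟨U, V, a, b, h, u, ha, hb, w, rfl, h.left.smoothLocus, hu, ?_⟩
  have : LocallyOfFinitePresentation (h.left.smoothLocus.ι ≫ h.left) := inferInstance
  rw [← Scheme.Hom.smoothLocus_eq_top_iff, ← Scheme.Hom.preimage_smoothLocus_eq, eq_top_iff]
  exact fun z _ => z.2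

theorem ker_sq {B' B : Type u} [CommRing B'] [CommRing B] [IsLocalRing B'] [Nontrivial B] (π : B' →+* B)
    (h : ∃ t : B', RingHom.ker π = Ideal.span {t} ∧ ∀ a ∈ IsLocalRing.maximalIdeal B', a * t = 0) :
    RingHom.ker π ^ 2 = ⊥ := by
  obtain ⟨t, ht, hmt⟩ := h
  have hne : RingHom.ker π ≠ ⊤ := RingHom.ker_ne_top π
  rw [ht] at hne ⊢
  rw [Ideal.span_singleton_pow, Ideal.span_singleton_eq_bot, pow_two]
  exact hmt t (IsLocalRing.le_maximalIdeal hne (Ideal.mem_span_singleton_self t))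

/-- Take a morphism f : X ⟶ Y of algebraic spaces over S that is locally of finite type, with Y locally
Noetherian, and let x be a point of X. The following are equivalent: (1) f is smooth at x (in some
chart diagram through x the chart morphism is smooth on an open neighbourhood); (2) for every
surjection π : B' → B of local rings with kernel of square zero, every structure map Spec B' ⟶ S,
every α : Spec B ⟶ X sending the closed point to x and every β : Spec B' ⟶ Y with α ≫ f = Spec(π) ≫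
β there is γ : Spec B' ⟶ X with Spec(π) ≫ γ = α and γ ≫ f = β; (3) the same for π ranging over
surjections of Artinian local rings with kernel principal and killed by the maximal ideal. Stated as
(1) ↔ (2) and (1) ↔ (3). -/
theorem result {S : Scheme.{u}} {X Y : AlgSp.Space S} (f : X ⟶ Y)
    (hY : AlgSp.IsLocNoethSp Y.obj) (hft : AlgSp.LocP @LocallyOfFiniteType f.hom) (x : AlgSp.Points X.obj) :
    (AlgSp.HasAtMor (fun U _ h u => ∃ W : U.Opens, u ∈ W ∧ Smooth (W.ι ≫ h)) f.hom x ↔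
      ∀ (B' B : Type u) [CommRing B'] [CommRing B] [IsLocalRing B'] [IsLocalRing B] (π : B' →+* B),
        Function.Surjective π → RingHom.ker π ^ 2 = ⊥ →
        ∀ (s : Spec (CommRingCat.of B') ⟶ S)
          (α : (AlgSp.yon S).obj (Over.mk (Spec.map (CommRingCat.ofHom π) ≫ s)) ⟶ X.obj)
          (β : (AlgSp.yon S).obj (Over.mk s) ⟶ Y.obj),
          AlgSp.Points.ofPt α (IsLocalRing.closedPoint B) = x →
          α ≫ f.hom = (AlgSp.yon S).map
            (Over.homMk (Spec.map (CommRingCat.ofHom π)) :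
              Over.mk (Spec.map (CommRingCat.ofHom π) ≫ s) ⟶ Over.mk s) ≫ β →
          ∃ γ : (AlgSp.yon S).obj (Over.mk s) ⟶ X.obj,
            (AlgSp.yon S).map (Over.homMk (Spec.map (CommRingCat.ofHom π)) :
              Over.mk (Spec.map (CommRingCat.ofHom π) ≫ s) ⟶ Over.mk s) ≫ γ = α ∧ γ ≫ f.hom = β) ∧
    (AlgSp.HasAtMor (fun U _ h u => ∃ W : U.Opens, u ∈ W ∧ Smooth (W.ι ≫ h)) f.hom x ↔
      ∀ (B' B : Type u) [CommRing B'] [CommRing B] [IsLocalRing B'] [IsLocalRing B]
        [IsArtinianRing B'] [IsArtinianRing B] (π : B' →+* B), Function.Surjective π →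
        (∃ t : B', RingHom.ker π = Ideal.span {t} ∧ ∀ a ∈ IsLocalRing.maximalIdeal B', a * t = 0) →
        ∀ (s : Spec (CommRingCat.of B') ⟶ S)
          (α : (AlgSp.yon S).obj (Over.mk (Spec.map (CommRingCat.ofHom π) ≫ s)) ⟶ X.obj)
          (β : (AlgSp.yon S).obj (Over.mk s) ⟶ Y.obj),
          AlgSp.Points.ofPt α (IsLocalRing.closedPoint B) = x →
          α ≫ f.hom = (AlgSp.yon S).map
            (Over.homMk (Spec.map (CommRingCat.ofHom π)) :
              Over.mk (Spec.map (CommRingCat.ofHom π) ≫ s) ⟶ Over.mk s) ≫ β →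
          ∃ γ : (AlgSp.yon S).obj (Over.mk s) ⟶ X.obj,
            (AlgSp.yon S).map (Over.homMk (Spec.map (CommRingCat.ofHom π)) :
              Over.mk (Spec.map (CommRingCat.ofHom π) ≫ s) ⟶ Over.mk s) ≫ γ = α ∧ γ ≫ f.hom = β) := by
  refine ⟨⟨fun h B' B _ _ _ _ π hπ hsq s α β hα w => lifts_of_smoothAt f h π hπ hsq s α β hα w,
    fun H => smoothAt_of_lifts f hY hft x fun B' B _ _ _ _ _ _ π hπ hker =>
      H B' B π hπ (ker_sq π hker)⟩,
    ⟨fun h B' B _ _ _ _ _ _ π hπ hker s α β hα w =>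
      lifts_of_smoothAt f h π hπ (ker_sq π hker) s α β hα w,
    fun H => smoothAt_of_lifts f hY hft x H⟩⟩

end Groth.Agent.S10608
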