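import Groth.Statements.S10613
import Groth.Agent.AlgSpLib.MonoLft
-- import your own Groth.Agent.* helpers here

set_option autoImplicit false
universe u
open CategoryTheory CategoryTheory.Limits AlgebraicGeometry
open AlgSp

namespace Groth.Agent.S10613

open Groth.Agent.AlgSpLib

/-- For a morphism f : X ⟶ Y of algebraic spaces over S, these four conditions on f are equivalent: (a)
unramified plus monomorphism; (b) unramified plus universally injective; (c) a monomorphism that is
locally of finite type; (d) universally injective, locally of finite type and formally unramified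
(lifting sense). In that case f is representable by schemes, separated and locally quasi-finite.
(Unramified is the etale-local condition locally of finite type and formally unramified on charts;
monomorphisms are taken in fppf sheaves.) -/
theorem result {S : Scheme.{u}} {X Y : AlgSp.Space S} (f : X ⟶ Y) :
    ((AlgSp.LocP (@LocallyOfFiniteType ⊓ @FormallyUnramified) f.hom ∧ Mono f.hom) ↔
      (AlgSp.LocP (@LocallyOfFiniteType ⊓ @FormallyUnramified) f.hom ∧ AlgSp.IsUnivInjectiveMor f.hom)) ∧
    ((AlgSp.LocP (@LocallyOfFiniteType ⊓ @FormallyUnramified) f.hom ∧ Mono f.hom) ↔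
      (AlgSp.LocP @LocallyOfFiniteType f.hom ∧ Mono f.hom)) ∧
    ((AlgSp.LocP (@LocallyOfFiniteType ⊓ @FormallyUnramified) f.hom ∧ Mono f.hom) ↔
      (AlgSp.IsUnivInjectiveMor f.hom ∧ AlgSp.LocP @LocallyOfFiniteType f.hom ∧ AlgSp.IsFormallyUnramifiedMor f.hom)) ∧
    (AlgSp.LocP @LocallyOfFiniteType f.hom ∧ Mono f.hom →
      AlgSp.Representable f.hom ∧ AlgSp.IsSeparatedMor f.hom ∧
        AlgSp.LocP (@LocallyQuasiFinite ⊓ @LocallyOfFiniteType) f.hom) := by
  have ab : (AlgSp.LocP (@LocallyOfFiniteType ⊓ @FormallyUnramified) f.hom ∧ Mono f.hom) ↔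
      (AlgSp.LocP (@LocallyOfFiniteType ⊓ @FormallyUnramified) f.hom ∧ AlgSp.IsUnivInjectiveMor f.hom) :=
    ⟨fun ⟨h, _⟩ => ⟨h, univInjective_of_mono X.property⟩,
      fun ⟨h, hi⟩ => ⟨h, mono_of_unramified_univInjective X.property Y.property h hi⟩⟩
  refine ⟨ab, ⟨fun ⟨h, hm⟩ => ⟨locP_mono inf_le_left h, hm⟩,
    fun ⟨h, hm⟩ => ⟨unramified_of_mono_lft X.property Y.property h, hm⟩⟩, ?_,
    fun ⟨h, hm⟩ => mono_lft_package X.property Y.property h⟩
  refine ⟨fun ⟨h, hm⟩ => ⟨univInjective_of_mono X.property, locP_mono inf_le_left h, formallyUnramified_of_mono⟩,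
    fun ⟨hi, hl, hu⟩ => ab.2 ⟨locP_inf.2 ⟨hl, locP_formallyUnramified_of_mor hu⟩, hi⟩⟩

end Groth.Agent.S10613
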