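import Groth.Statements.S10614
import Groth.Agent.AlgSpLib.MonoLft
-- import your own Groth.Agent.* helpers here

set_option autoImplicit false
universe u
open CategoryTheory CategoryTheory.Limits AlgebraicGeometry
open AlgSp

namespace Groth.Agent.S10614

open Groth.Agent.AlgSpLib

/-- For a morphism f : X ⟶ Y of algebraic spaces over S, being a closed immersion (representable by
closed immersions) is equivalent to each of: (a) universally closed plus unramified plus
monomorphism; (b) universally closed plus unramified plus universally injective; (c) a universally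
closed monomorphism that is locally of finite type; (d) universally closed, universally injective,
locally of finite type and formally unramified (lifting sense). (Unramified is the etale-local
condition locally of finite type and formally unramified on charts; monomorphisms are taken in fppf
sheaves.) -/
theorem result {S : Scheme.{u}} {X Y : AlgSp.Space S} (f : X ⟶ Y) :
    (AlgSp.RepWith @IsClosedImmersion f.hom ↔
      (AlgSp.IsUnivClosedMor f.hom ∧ AlgSp.LocP (@LocallyOfFiniteType ⊓ @FormallyUnramified) f.hom ∧ Mono f.hom)) ∧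
    (AlgSp.RepWith @IsClosedImmersion f.hom ↔
      (AlgSp.IsUnivClosedMor f.hom ∧ AlgSp.LocP (@LocallyOfFiniteType ⊓ @FormallyUnramified) f.hom ∧ AlgSp.IsUnivInjectiveMor f.hom)) ∧
    (AlgSp.RepWith @IsClosedImmersion f.hom ↔
      (AlgSp.IsUnivClosedMor f.hom ∧ AlgSp.LocP @LocallyOfFiniteType f.hom ∧ Mono f.hom)) ∧
    (AlgSp.RepWith @IsClosedImmersion f.hom ↔
      (AlgSp.IsUnivClosedMor f.hom ∧ AlgSp.IsUnivInjectiveMor f.hom ∧ AlgSp.LocP @LocallyOfFiniteType f.hom ∧
        AlgSp.IsFormallyUnramifiedMor f.hom)) := by
  have key : AlgSp.RepWith @IsClosedImmersion f.hom ↔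
      (AlgSp.IsUnivClosedMor f.hom ∧ AlgSp.LocP @LocallyOfFiniteType f.hom ∧ Mono f.hom) := by
    refine ⟨fun h => ⟨(repWith_universallyClosed_iff h.1).1
      (RepWith.mono (fun _ _ g (_ : IsClosedImmersion g) => (inferInstance : UniversallyClosed g)) h),
      locP_of_repWith_closedImmersion X.property h,
      mono_of_repWith (fun _ _ g (_ : IsClosedImmersion g) => (inferInstance : Mono g)) h⟩,
      fun ⟨hc, hl, hm⟩ => closedImmersion_of_univClosed_mono_lft X.property Y.property hc hl⟩
  refine ⟨?_, ?_, key, ?_⟩ <;> rw [key] <;> constructor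
  · rintro ⟨hc, hl, hm⟩
    exact ⟨hc, unramified_of_mono_lft X.property Y.property hl, hm⟩
  · rintro ⟨hc, hu, hm⟩
    exact ⟨hc, locP_mono inf_le_left hu, hm⟩
  · rintro ⟨hc, hl, hm⟩
    exact ⟨hc, unramified_of_mono_lft X.property Y.property hl, univInjective_of_mono X.property⟩
  · rintro ⟨hc, hu, hi⟩
    exact ⟨hc, locP_mono inf_le_left hu, mono_of_unramified_univInjective X.property Y.property hu hi⟩
  · rintro ⟨hc, hl, hm⟩
    exact ⟨hc, univInjective_of_mono X.property, hl, formallyUnramified_of_mono⟩
  · rintro ⟨hc, hi, hl, hu⟩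
    exact ⟨hc, hl, mono_of_unramified_univInjective X.property Y.property
      (locP_inf.2 ⟨hl, locP_formallyUnramified_of_mor hu⟩) hi⟩

end Groth.Agent.S10614
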