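import Groth.Statements.S10616
import Groth.Agent.AlgSpLib.FormallyLift
import Groth.Agent.S1488
-- import your own Groth.Agent.* helpers here

set_option autoImplicit false
universe u
open CategoryTheory CategoryTheory.Limits AlgebraicGeometry
open AlgSp

namespace Groth.Agent.S10616

set_option backward.isDefEq.respectTransparency.types false

/-- Let a : F ⟶ G be a morphism of fppf sheaves on (Sch/S). If a is representable and smooth, then a is
formally smooth; if a is representable and etale, then a is formally etale; if a is representable
and unramified, then a is formally unramified (lifting conditions against square-zero thickenings of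
affine schemes). (The published statement is for transformations of arbitrary presheaves of sets on
(Sch/S)_fppf; this row takes fppf sheaves, the case of algebraic spaces.) -/
theorem result {S : Scheme.{u}} {F G : AlgSp.Sp S} (a : F ⟶ G) :
    (AlgSp.RepWith @Smooth a → AlgSp.IsFormallySmoothMor a) ∧
    (AlgSp.RepWith @Etale a → AlgSp.IsFormallyEtaleMor a) ∧
    (AlgSp.RepWith (@LocallyOfFiniteType ⊓ @FormallyUnramified) a → AlgSp.IsFormallyUnramifiedMor a) := by
  refine ⟨fun ha sq => ?_, AlgSpLib.isFormallyEtaleMor_of_repWith, AlgSpLib.isFormallyUnramifiedMor_of_repWith_lft⟩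
  have sqP := ha.1.isPullback sq.bot
  have hs := (AlgSpLib.isFormallySmoothMor_yon_iff (ha.1.snd sq.bot)).2
    ((Groth.Agent.S1488.result _).1 (ha.property_snd sq.bot)).2
  obtain ⟨l, h1, h2⟩ := hs
    { A := sq.A, I := sq.I, sq_zero := sq.sq_zero, str := sq.str
      top := sqP.lift sq.top ((yon S).map sq.j) sq.comm, bot := 𝟙 _
      comm := (sqP.lift_snd _ _ _).trans (Category.comp_id _).symm }
  refine ⟨l ≫ ha.1.fst sq.bot, ?_, ?_⟩
  · exact (Category.assoc _ _ _).symm.trans ((congrArg (· ≫ ha.1.fst sq.bot) h1).trans (sqP.lift_fst _ _ _))
  · rw [Category.assoc, sqP.w, ← Category.assoc]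
    exact (congrArg (· ≫ sq.bot) h2).trans (Category.id_comp _)

end Groth.Agent.S10616
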