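import Groth.Statements.S10626
import Groth.Agent.AlgSpLib.FormallyLift
import Groth.Agent.FlatMorGeom.FormallyEtaleHom
import Groth.Agent.FlatMor12.FlatUnramified
-- import your own Groth.Agent.* helpers here

set_option autoImplicit false
universe u
open CategoryTheory CategoryTheory.Limits AlgebraicGeometry
open AlgSp

namespace Groth.Agent.S10626

/-- An unramified and flat morphism of algebraic spaces over S is formally etale (lifting sense). -/
theorem result {S : Scheme.{u}} {X Y : AlgSp.Space S} (f : X ⟶ Y)
    (h1 : AlgSp.LocP (@LocallyOfFiniteType ⊓ @FormallyUnramified) f.hom) (h2 : AlgSp.LocP @Flat f.hom) :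
    AlgSp.IsFormallyEtaleMor f.hom := by
---
  obtain ⟨V, b, hbe, hbs⟩ := Y.property.atlas
  obtain ⟨U, a, h, hae, has, w⟩ := AlgSpLib.exists_chart_over X.property Y.property f.hom b hbe hbs
  refine AlgSpLib.isFormallyEtaleMor_of_chart hae has hbe w ?_
  have h3 := h1 a b h hae hbe w
  have : LocallyOfFiniteType h.left := h3.1
  have : FormallyUnramified h.left := h3.2
  have : Flat h.left := h2 a b h hae hbe w
  refine FlatMorGeom.isFormallyEtaleHom_of_appLE (f := h.left) fun O W hO hW e => ?_
  have e1 : (h.left.appLE W O e).hom.Flat :=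
    HasRingHomProperty.appLE (P := @Flat) h.left inferInstance ⟨W, hW⟩ ⟨O, hO⟩ e
  have e2 : (h.left.appLE W O e).hom.FormallyUnramified :=
    HasRingHomProperty.appLE (P := @FormallyUnramified) h.left inferInstance ⟨W, hW⟩ ⟨O, hO⟩ e
  have e3 : (h.left.appLE W O e).hom.FiniteType :=
    HasRingHomProperty.appLE (P := @LocallyOfFiniteType) h.left inferInstance ⟨W, hW⟩ ⟨O, hO⟩ e
  let := (h.left.appLE W O e).hom.toAlgebra
  have : Module.Flat Γ(V.left, W) Γ(U.left, O) := e1
  have : Algebra.FormallyUnramified Γ(V.left, W) Γ(U.left, O) := e2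
  have : Algebra.FiniteType Γ(V.left, W) Γ(U.left, O) := e3
  exact FlatMor12.formallyEtale_of_flat_unramified _ _

end Groth.Agent.S10626
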