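import Groth.Statements.S10627
import Groth.Agent.AlgSpLib.FormallyChart
-- import your own Groth.Agent.* helpers here

set_option autoImplicit false
universe u
open CategoryTheory CategoryTheory.Limits AlgebraicGeometry
open AlgSp

namespace Groth.Agent.S10627

/-- A morphism f : X ⟶ Y of algebraic spaces over S is etale if and only if it is locally of finite
presentation and formally etale (lifting sense). -/
theorem result {S : Scheme.{u}} {X Y : AlgSp.Space S} (f : X ⟶ Y) :
    AlgSp.IsEtaleMor f.hom ↔ AlgSp.LocP @LocallyOfFinitePresentation f.hom ∧ AlgSp.IsFormallyEtaleMor f.hom := by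
  open Groth.Agent.AlgSpLib in
  refine ⟨fun h => ⟨?_, isFormallyEtaleMor_of_isEtaleMor X.property Y.property h⟩, fun h => ?_⟩
  · exact Groth.Agent.AlgSpLib.locP_mono Groth.Agent.AlgSpLib.etale_le_lfp
      ((Groth.Agent.AlgSpLib.isEtaleMor_iff_locP Groth.Agent.AlgSpLib.etLocal_etale X.property Y.property f.hom).1 h)
  open Groth.Agent.AlgSpLib in
  refine (isEtaleMor_iff_locP etLocal_etale X.property Y.property f.hom).2 fun U V a b l ha hb w => ?_
  have := h.1 a b l ha hb w
  open Groth.Agent.AlgSpLib in
  refine etale_of_mor l ?_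
  open Groth.Agent.AlgSpLib in
  have h1 : IsFormallyEtaleMor (a ≫ f.hom) := (formallyEtale_iff _).2
    ⟨formallySmooth_comp ((formallyEtale_iff a).1 (isFormallyEtaleMor_of_repWith ha)).1 ((formallyEtale_iff _).1 h.2).1,
      isFormallyUnramifiedMor_comp ((formallyEtale_iff a).1 (isFormallyEtaleMor_of_repWith ha)).2 ((formallyEtale_iff _).1 h.2).2⟩
  rw [w, Groth.Agent.AlgSpLib.formallyEtale_iff] at h1
  open Groth.Agent.AlgSpLib in
  exact (formallyEtale_iff _).2 ⟨formallySmooth_of_comp ((formallyEtale_iff b).1 (isFormallyEtaleMor_of_repWith hb)).2 h1.1,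
    isFormallyUnramifiedMor_of_comp h1.2⟩

end Groth.Agent.S10627
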