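import Groth.Statements.S10631
import Groth.Agent.AlgSpLib.FOLift
-- import your own Groth.Agent.* helpers here

set_option autoImplicit false
universe u
open CategoryTheory CategoryTheory.Limits AlgebraicGeometry
open AlgSp

namespace Groth.Agent.S10631

/-- Consider morphisms Z ⟶ Y ⟶ X of algebraic spaces over S. If (i : Z ⟶ Z', h' : Z' ⟶ Y) is, over Y, a
universal first order thickening of Z and g : Y ⟶ X is formally etale, then (i, h' ≫ g) is, over X,
a universal first order thickening of Z. -/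
theorem result {S : Scheme.{u}} {Z Z' Y X : AlgSp.Space S} (hZ : Z ⟶ Y) (g : Y ⟶ X)
    (i : Z ⟶ Z') (h' : Z' ⟶ Y) (HU : AlgSp.IsUnivFOThick hZ.hom i.hom h'.hom) (hg : AlgSp.IsFormallyEtaleMor g.hom) :
    AlgSp.IsUnivFOThick (hZ ≫ g).hom i.hom (h' ≫ g).hom := by
  have hw : i.hom ≫ h'.hom = hZ.hom := HU.2.1
  refine ⟨HU.1, ?_, fun T T' hT hT' j a b hj e => ?_⟩
  · show i.hom ≫ h'.hom ≫ g.hom = hZ.hom ≫ g.hom
    rw [← Category.assoc, hw]
  · obtain ⟨c, ⟨hc1, hc2⟩, hcu⟩ := Groth.Agent.AlgSpLib.existsUnique_lift_of_formallyEtale hT' hj hg (a ≫ hZ.hom) b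
      ((Category.assoc _ _ _).trans e.symm)
    obtain ⟨a', ⟨h1, h2⟩, hu⟩ := HU.2.2 hT hT' j a c hj hc1
    refine ⟨a', ⟨h1, ?_⟩, fun a'' h'' => hu a'' ⟨h''.1, hcu _ ⟨?_, ?_⟩⟩⟩
    · show a' ≫ h'.hom ≫ g.hom = b
      rw [← Category.assoc, h2, hc2]
    · rw [← Category.assoc, h''.1, Category.assoc, hw]
    · exact (Category.assoc _ _ _).trans h''.2

end Groth.Agent.S10631
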