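import Groth.Statements.S10632
import Groth.Agent.AlgSpLib.FOLift
-- import your own Groth.Agent.* helpers here

set_option autoImplicit false
universe u
open CategoryTheory CategoryTheory.Limits AlgebraicGeometry
open AlgSp

namespace Groth.Agent.S10632

/-- Let e : Z ⟶ Y be an etale morphism of algebraic spaces over S, hY : Y ⟶ X, and let (iY : Y ⟶ Y', hY'
: Y' ⟶ X) be a universal first order thickening of Y over X. Let e' : Z' ⟶ Y' be etale with iZ : Z ⟶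
Z' making Z = Y ×_{Y'} Z' a pullback square. Then (iZ, e' ≫ hY') is a universal first order
thickening of Z over X. -/
theorem result {S : Scheme.{u}} {Z Y Y' Z' X : AlgSp.Space S} (e : Z ⟶ Y)
    (he : AlgSp.IsEtaleMor e.hom) (hY : Y ⟶ X) (iY : Y ⟶ Y') (hY' : Y' ⟶ X)
    (HU : AlgSp.IsUnivFOThick hY.hom iY.hom hY'.hom) (iZ : Z ⟶ Z') (e' : Z' ⟶ Y') (he' : AlgSp.IsEtaleMor e'.hom)
    (sq : IsPullback e.hom iZ.hom iY.hom e'.hom) :
    AlgSp.IsUnivFOThick (e ≫ hY).hom iZ.hom (e' ≫ hY').hom := by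
  have hfo : AlgSp.IsFOThickMor iZ.hom :=
    Groth.Agent.AlgSpLib.foThick_baseChange_etale HU.1 he' sq
  have hw : iY.hom ≫ hY'.hom = hY.hom := HU.2.1
  refine ⟨hfo, ?_, fun T T' hT hT' j a b hj w => ?_⟩
  · show iZ.hom ≫ e'.hom ≫ hY'.hom = e.hom ≫ hY.hom
    rw [← Category.assoc, ← sq.w, Category.assoc, hw]
  obtain ⟨a', ⟨h1, h2⟩, hu⟩ := HU.2.2 hT hT' j (a ≫ e.hom) b hj (w.trans (Category.assoc _ _ _).symm)
  obtain ⟨l, ⟨l1, l2⟩, lu⟩ := Groth.Agent.AlgSpLib.existsUnique_lift_of_etale Z'.property Y'.property hT hT' hj.1 he'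
    (a ≫ iZ.hom) a' (by rw [h1, Category.assoc, Category.assoc, sq.w])
  refine ⟨l, ⟨l1, ?_⟩, fun l' hl' => lu l' ⟨hl'.1, hu _ ⟨?_, ?_⟩⟩⟩
  · show l ≫ e'.hom ≫ hY'.hom = b
    rw [← Category.assoc, l2, h2]
  · rw [← Category.assoc, hl'.1, Category.assoc, Category.assoc, sq.w]
  · exact (Category.assoc _ _ _).trans hl'.2

end Groth.Agent.S10632
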