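import Groth.Statements.S10635
import Groth.Agent.AlgSpLib.FOThick2
import Groth.Agent.AlgSpLib.ElemDistPushout
import Groth.Agent.AlgSpLib.ClosedSub
import Groth.Agent.AlgSpLib.FpqcBaseImm
import Mathlib.AlgebraicGeometry.IdealSheaf.Functorial
-- import your own Groth.Agent.* helpers here

set_option autoImplicit false
universe u
open CategoryTheory CategoryTheory.Limits AlgebraicGeometry
open AlgSp

namespace Groth.Agent.S10635

theorem ker_sq_le_of_factor {V O K : Scheme.{u}} [IsAffine V] [IsAffine O] (g : O ⟶ V) (m : K ⟶ O)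
    [QuasiCompact m] {I : V.IdealSheafData} (hI : I ≤ (m ≫ g).ker) (hm : m.ker * m.ker = ⊥) :
    I ^ (1 + 1) ≤ g.ker := by
  refine Scheme.IdealSheafData.le_of_isAffine ?_
  have h1 : I.ideal ⟨⊤, isAffineOpen_top V⟩ ≤
      (m.ker.ideal ⟨⊤, isAffineOpen_top O⟩).comap g.appTop.hom := by
    refine (hI ⟨⊤, isAffineOpen_top V⟩).trans ?_
    rw [Scheme.Hom.ker_apply, Scheme.Hom.ker_apply]
    intro x hx
    exact hx
  have h0 : m.ker.ideal ⟨⊤, isAffineOpen_top O⟩ * m.ker.ideal ⟨⊤, isAffineOpen_top O⟩ = ⊥ := by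
    rw [← Pi.mul_apply, ← Scheme.IdealSheafData.ideal_mul, hm]
    rfl
  rw [Scheme.IdealSheafData.ideal_pow, Pi.pow_apply, Scheme.Hom.ker_apply, pow_two, RingHom.ker_eq_comap_bot,
    ← Ideal.map_le_iff_le_comap, Ideal.map_mul]
  refine (Ideal.mul_mono (Ideal.map_le_iff_le_comap.2 h1) (Ideal.map_le_iff_le_comap.2 h1)).trans ?_
  exact h0.le

open Groth.Agent.AlgSpLib in
theorem epi_snd_of_infNbhd {S : Scheme.{u}} {Z U Z₁ T T' : AlgSp.Sp S} (hU : AlgSp.IsAlgSpace U)
    (hT' : AlgSp.IsAlgSpace T') {c : Z ⟶ U} {j : Z ⟶ Z₁} {k : Z₁ ⟶ U} (hN : AlgSp.IsInfNbhd 1 c j k)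
    {i : T ⟶ T'} (hi : AlgSp.IsFOThickMor i) (a : T ⟶ Z) (b : T' ⟶ U) (w : i ≫ b = a ≫ c) :
    Epi (pullback.snd k b) := by
  obtain ⟨ι, V, cV, ψ, hV, hcV, hψι, hψe, hψepi⟩ := exists_affine_charts hU
  haveI : Sheaf.IsLocallySurjective (pullback.snd k b) := by
    refine ⟨fun {T₀} x => ket_le_J _ ?_⟩
    let W := fun i => (hcV i).1.pullback (sec x ≫ b)
    let D := fun q : Σ i, (W i).left.affineOpens => restrictOver (W q.1) q.2.1
    let g := fun q : Σ i, (W i).left.affineOpens => restrictOverι (W q.1) q.2.1 ≫ (hcV q.1).1.snd (sec x ≫ b)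
    refine mem_ket_of_family D g (fun q => ?_) (fun t => ?_) fun q => ?_
    · haveI : Etale ((hcV q.1).1.snd (sec x ≫ b)).left := (hcV q.1).property_snd _
      haveI : Etale (restrictOverι (W q.1) q.2.1).left := inferInstanceAs (Etale q.2.1.ι)
      exact (inferInstance : Etale ((restrictOverι (W q.1) q.2.1).left ≫ ((hcV q.1).1.snd (sec x ≫ b)).left))
    · obtain ⟨s, hs⟩ := surjective_map_of_isLocallySurjective ψ
        ((Sheaf.isLocallySurjective_iff_epi ψ).2 hψepi) (Points.ofPt (sec x ≫ b) t)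
      obtain ⟨s, rfl⟩ := (Points.schemeEquiv _).surjective s
      obtain ⟨i, v, rfl⟩ : ∃ i v, (sigmaOverι V i).left v = s := exists_mem_range_sigmaOverι V s
      have hv : Points.map (cV i) (Points.ofScheme _ v) = Points.ofPt (sec x ≫ b) t := by
        rw [← hs, ← hψι i, Points.map_comp, map_yon_map_ofScheme]
        rfl
      obtain ⟨z, -, hz⟩ := exists_point_of_isPullback ((hcV i).1.isPullback (sec x ≫ b))
        (x := Points.ofScheme _ v) (y := Points.ofScheme _ t) (hv.trans (Points.ofPt_eq_map_ofScheme _ _))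
      obtain ⟨z', rfl⟩ := (Points.schemeEquiv _).surjective z
      have e : ((hcV i).1.snd (sec x ≫ b)).left z' = t :=
        (Points.schemeEquiv _).injective ((map_yon_map_ofScheme _ z').symm.trans hz)
      obtain ⟨O, hO, hz'O, -⟩ := exists_isAffineOpen_mem_and_subset (x := z') (U := ⊤) trivial
      exact ⟨⟨i, O, hO⟩, ⟨z', hz'O⟩, e⟩
    · obtain ⟨i', O⟩ := q
      haveI := hV i'
      haveI : IsAffine (restrictOver (W i') O.1).left := O.2
      obtain ⟨g', hg'⟩ := (yon S).map_surjective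
        ((yon S).map (restrictOverι (W i') O.1) ≫ (hcV i').1.fst (sec x ≫ b))
      let o : (yon S).obj (restrictOver (W i') O.1) ⟶ T' := (yon S).map (g ⟨i', O⟩) ≫ sec x
      have ho : o ≫ b = (yon S).map g' ≫ cV i' := by
        rw [hg', Category.assoc, Category.assoc, (hcV i').1.w, ← Category.assoc, ← Category.assoc, ← Functor.map_comp]
        rfl
      -- the thickening over `O`
      have sqO := hi.1.rep.isPullback o
      let m := hi.1.rep.snd o
      haveI : IsClosedImmersion m.left := (hi.1.property_snd o).1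
      have hsq : m.left.ker * m.left.ker = ⊥ := (foThick_baseChange hT' hi o sqO).2 (𝟙 _) (𝟙 _) m O.2
        (repWith_id _ _) (IsPullback.of_horiz_isIso ⟨by rw [Category.id_comp, Category.comp_id]⟩)
      -- the closed subspaces over `V i'`
      obtain ⟨l, hl⟩ := (yon S).map_surjective ((hN.2.1.1.isPullback (cV i')).lift (hi.1.rep.fst o ≫ a)
        ((yon S).map (m ≫ g')) (by
          rw [Category.assoc, ← w, ← Category.assoc, sqO.w, Category.assoc, ho, Functor.map_comp, Category.assoc]))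
      let mZ := hN.2.1.1.snd (cV i')
      let mN := hN.2.2.1.1.snd (cV i')
      haveI : IsClosedImmersion mN.left := hN.2.2.1.property_snd _
      have hlm : l ≫ mZ = m ≫ g' := (yon S).map_injective (by rw [Functor.map_comp, hl, IsPullback.lift_snd])
      have hker : mN.left.ker = mZ.left.ker ^ (1 + 1) := hN.2.2.2 (cV i') _ mZ _ mN (hV i') (hcV i')
        (hN.2.1.1.isPullback _) (hN.2.2.1.1.isPullback _)
      have hle : mN.left.ker ≤ g'.left.ker := by
        rw [hker]
        refine ker_sq_le_of_factor g'.left m.left ?_ hsq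
        rw [← Over.comp_left, ← hlm, Over.comp_left]
        exact Scheme.Hom.le_ker_comp _ _
      let l₁ : restrictOver (W i') O.1 ⟶ hN.2.2.1.1.pullback (cV i') :=
        Over.homMk (IsClosedImmersion.lift mN.left g'.left hle) (by
          rw [← Over.w mN, IsClosedImmersion.lift_fac_assoc, Over.w g'])
      have hl₁ : l₁ ≫ mN = g' := Over.OverMorphism.ext (IsClosedImmersion.lift_fac _ _ _)
      let r := pullback.lift ((yon S).map l₁ ≫ hN.2.2.1.1.fst (cV i')) o (by
        rw [Category.assoc, hN.2.2.1.1.w, ← Category.assoc, ← Functor.map_comp, hl₁, ho]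
        : ((yon S).map l₁ ≫ hN.2.2.1.1.fst (cV i')) ≫ k = o ≫ b)
      obtain ⟨y, hy⟩ := exists_sec r
      refine ⟨y, sec_injective ?_⟩
      show sec ((pullback.snd k b).hom.app _ y) = sec (T'.obj.map _ x)
      rw [← sec_comp, hy, ← sec_map]
      exact pullback.lift_snd _ _ _
  exact Sheaf.epi_of_isLocallySurjective _

open Groth.Agent.AlgSpLib in
theorem existsUnique_factor {S : Scheme.{u}} {Z U Z₁ T T' : AlgSp.Sp S} (hU : AlgSp.IsAlgSpace U)
    (hT' : AlgSp.IsAlgSpace T') {c : Z ⟶ U} {j : Z ⟶ Z₁} {k : Z₁ ⟶ U} (hN : AlgSp.IsInfNbhd 1 c j k)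
    {i : T ⟶ T'} (hi : AlgSp.IsFOThickMor i) (a : T ⟶ Z) (b : T' ⟶ U) (w : i ≫ b = a ≫ c) :
    ∃ a' : T' ⟶ Z₁, i ≫ a' = a ≫ j ∧ a' ≫ k = b := by
  haveI := epi_snd_of_infNbhd hU hT' hN hi a b w
  haveI : Mono k := mono_of_repWith (fun _ _ g (_ : IsClosedImmersion g) => (inferInstance : Mono g)) hN.2.2.1
  haveI : IsIso (pullback.snd k b) := isIso_of_mono_of_epi _
  have h : (inv (pullback.snd k b) ≫ pullback.fst k b) ≫ k = b := by
    rw [Category.assoc, pullback.condition, IsIso.inv_hom_id_assoc]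
  exact ⟨_, (cancel_mono k).1 (by rw [Category.assoc, h, Category.assoc, hN.1, w]), h⟩
open Groth.Agent.AlgSpLib in
theorem comap_sq_eq_bot {O V : Scheme.{u}} [IsAffine O] [IsAffine V] (g : O ⟶ V) (I : V.IdealSheafData)
    (h : I ^ (1 + 1) ≤ g.ker) : I.comap g * I.comap g = ⊥ := by
  let T : O.affineOpens := ⟨⊤, isAffineOpen_top O⟩
  let T' : V.affineOpens := ⟨⊤, isAffineOpen_top V⟩
  let J := (I.ideal T').map g.appTop.hom
  have hJ : (Scheme.IdealSheafData.ofIdealTop J).ideal T = J := by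
    simp only [Scheme.IdealSheafData.ofIdealTop_ideal]
    rw [show (homOfLE (le_top : (T : O.Opens) ≤ ⊤)).op = 𝟙 _ from rfl, CategoryTheory.Functor.map_id]
    exact Ideal.map_id J
  have hle : I.comap g ≤ Scheme.IdealSheafData.ofIdealTop J := by
    rw [← Scheme.IdealSheafData.le_map_iff_comap_le]
    refine Scheme.IdealSheafData.le_of_isAffine ?_
    rw [Scheme.IdealSheafData.ideal_map _ g T' (isAffineOpen_top O)]
    refine le_trans ?_ (Ideal.comap_mono (le_of_eq hJ.symm))
    intro x hx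
    exact Ideal.mem_map_of_mem _ hx
  refine Scheme.IdealSheafData.ext_of_isAffine ?_
  rw [Scheme.IdealSheafData.ideal_mul, Pi.mul_apply, Scheme.IdealSheafData.ideal_bot, Pi.bot_apply, ← le_bot_iff]
  have h1 : (I.comap g).ideal T ≤ J :=
    (hle T).trans (le_of_eq hJ)
  refine (Ideal.mul_mono h1 h1).trans ?_
  rw [← Ideal.map_mul, Ideal.map_le_iff_le_comap, ← RingHom.ker_eq_comap_bot, ← pow_two]
  have h2 := h T'
  rwa [Scheme.IdealSheafData.ideal_pow, Pi.pow_apply, Scheme.Hom.ker_apply] at h2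

open Groth.Agent.AlgSpLib in
theorem exists_chart_data {S : Scheme.{u}} {Z U Z₁ : AlgSp.Sp S} (hU : AlgSp.IsAlgSpace U) {c : Z ⟶ U}
    {j : Z ⟶ Z₁} {k : Z₁ ⟶ U} (hN : AlgSp.IsInfNbhd 1 c j k) {V : Over S} (b : (yon S).obj V ⟶ Z₁) (p : ↥V.left) :
    ∃ (O P : Over S) (f : O ⟶ V) (q : P ⟶ O) (π : (yon S).obj P ⟶ Z), IsAffine O.left ∧ Etale f.left ∧
      p ∈ Set.range f.left ∧ π ≫ j = (yon S).map (q ≫ f) ≫ b ∧ q.left.ker * q.left.ker = ⊥ ∧ Surjective q.left ∧ IsClosedImmersion q.left := by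
  obtain ⟨ι, Vi, cV, ψ, hV, hcV, hψι, hψe, hψepi⟩ := exists_affine_charts hU
  obtain ⟨s, hs⟩ := surjective_map_of_isLocallySurjective ψ
    ((Sheaf.isLocallySurjective_iff_epi ψ).2 hψepi) (Points.ofPt (b ≫ k) p)
  obtain ⟨s, rfl⟩ := (Points.schemeEquiv _).surjective s
  obtain ⟨i, v, rfl⟩ : ∃ i v, (sigmaOverι Vi i).left v = s := exists_mem_range_sigmaOverι Vi s
  have hv : Points.map (cV i) (Points.ofScheme _ v) = Points.ofPt (b ≫ k) p := by
    rw [← hs, ← hψι i, Points.map_comp, map_yon_map_ofScheme]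
    rfl
  obtain ⟨z, -, hz⟩ := exists_point_of_isPullback ((hcV i).1.isPullback (b ≫ k))
    (x := Points.ofScheme _ v) (y := Points.ofScheme _ p) (hv.trans (Points.ofPt_eq_map_ofScheme _ _))
  obtain ⟨z', rfl⟩ := (Points.schemeEquiv _).surjective z
  have e : ((hcV i).1.snd (b ≫ k)).left z' = p :=
    (Points.schemeEquiv _).injective ((map_yon_map_ofScheme _ z').symm.trans hz)
  obtain ⟨O, hO, hz'O, -⟩ := exists_isAffineOpen_mem_and_subset (x := z') (U := ⊤) trivial
  let W := (hcV i).1.pullback (b ≫ k)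
  let f := restrictOverι W O ≫ (hcV i).1.snd (b ≫ k)
  obtain ⟨g', hg'⟩ := (yon S).map_surjective ((yon S).map (restrictOverι W O) ≫ (hcV i).1.fst (b ≫ k))
  have hw : ((yon S).map f ≫ b) ≫ k = (yon S).map g' ≫ cV i := by
    rw [hg', Category.assoc, Category.assoc, (hcV i).1.w, ← Category.assoc, ← Category.assoc, ← Functor.map_comp,
      ← Category.assoc]
  let mZ := hN.2.1.1.snd (cV i)
  let mN := hN.2.2.1.1.snd (cV i)
  haveI : IsClosedImmersion mN.left := hN.2.2.1.property_snd _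
  haveI : IsClosedImmersion mZ.left := hN.2.1.property_snd _
  haveI := hV i
  haveI : IsAffine (restrictOver W O).left := hO
  obtain ⟨l₁, hl₁⟩ := (yon S).map_surjective ((hN.2.2.1.1.isPullback (cV i)).lift ((yon S).map f ≫ b)
    ((yon S).map g') hw)
  have hl₂ : l₁ ≫ mN = g' := (yon S).map_injective (by rw [Functor.map_comp, hl₁, IsPullback.lift_snd])
  have hker : mN.left.ker = mZ.left.ker ^ (1 + 1) := hN.2.2.2 (cV i) _ mZ _ mN (hV i) (hcV i)
    (hN.2.1.1.isPullback _) (hN.2.2.1.1.isPullback _)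
  have hle : mZ.left.ker ^ (1 + 1) ≤ g'.left.ker := by
    rw [← hker, ← hl₂, Over.comp_left]
    exact Scheme.Hom.le_ker_comp _ _
  let P : Over S := Over.mk (pullback.fst g'.left mZ.left ≫ (restrictOver W O).hom)
  let q : P ⟶ restrictOver W O := Over.homMk (pullback.fst g'.left mZ.left) rfl
  let r : P ⟶ hN.2.1.1.pullback (cV i) := Over.homMk (pullback.snd g'.left mZ.left) (by
    show pullback.snd g'.left mZ.left ≫ _ = pullback.fst g'.left mZ.left ≫ _
    rw [← Over.w mZ, ← pullback.condition_assoc, Over.w g'])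
  have hqr : q ≫ g' = r ≫ mZ := Over.OverMorphism.ext pullback.condition
  haveI : Mono k := mono_of_repWith (fun _ _ g (_ : IsClosedImmersion g) => (inferInstance : Mono g)) hN.2.2.1
  have hjk : j ≫ k = c := hN.1
  have hZw := hN.2.1.1.w (cV i)
  refine ⟨restrictOver W O, P, f, q, (yon S).map r ≫ hN.2.1.1.fst (cV i), hO, ?_, ⟨⟨z', hz'O⟩, e⟩, ?_, ?_, ?_, ?_⟩
  · haveI : Etale ((hcV i).1.snd (b ≫ k)).left := (hcV i).property_snd _
    haveI : Etale (restrictOverι W O).left := inferInstanceAs (Etale O.ι)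
    exact (inferInstance : Etale ((restrictOverι W O).left ≫ ((hcV i).1.snd (b ≫ k)).left))
  · refine (cancel_mono k).1 ?_
    refine (Category.assoc _ _ _).trans ((congrArg (fun z => ((yon S).map r ≫ hN.2.1.1.fst (cV i)) ≫ z) hjk).trans ?_)
    refine (Category.assoc _ _ _).trans ((congrArg (fun z => (yon S).map r ≫ z) hZw).trans ?_)
    rw [Functor.map_comp, Category.assoc, Category.assoc, ← Category.assoc ((yon S).map f), hw, ← Category.assoc,
      ← Category.assoc, ← Functor.map_comp, ← Functor.map_comp, hqr]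
  · have hq : q.left.ker = mZ.left.ker.comap g'.left := Scheme.IdealSheafData.ker_fst_of_isClosedImmersion _ _
    rw [hq]
    exact comap_sq_eq_bot g'.left _ hle
  · refine ⟨fun x => ?_⟩
    have hx : g'.left x ∈ Set.range mZ.left := by
      have hm : g'.left x ∈ Set.range mN.left := ⟨l₁.left x, congrArg (fun m => m.left x) hl₂⟩
      have hm' : g'.left x ∈ mN.left.ker.support := Scheme.Hom.range_subset_ker_support _ hm
      rw [hker, Scheme.IdealSheafData.support_pow_succ] at hm'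
      have : closure (Set.range mZ.left) = Set.range mZ.left := mZ.left.isClosedEmbedding.isClosed_range.closure_eq
      rw [← this, ← Scheme.Hom.support_ker]
      exact hm'
    rw [← Set.mem_preimage, ← Scheme.Pullback.range_fst] at hx
    exact hx
  · exact MorphismProperty.pullback_fst _ _ ‹IsClosedImmersion mZ.left›

open Groth.Agent.AlgSpLib in
theorem isFOThickMor_of_infNbhd {S : Scheme.{u}} {Z U Z₁ : AlgSp.Sp S} (hU : AlgSp.IsAlgSpace U)
    (hZ₁ : AlgSp.IsAlgSpace Z₁) {c : Z ⟶ U} {j : Z ⟶ Z₁} {k : Z₁ ⟶ U} (hN : AlgSp.IsInfNbhd 1 c j k) :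
    AlgSp.IsFOThickMor j := by
  haveI : Mono k := mono_of_repWith (fun _ _ g (_ : IsClosedImmersion g) => (inferInstance : Mono g)) hN.2.2.1
  have hjc : RepWith @IsClosedImmersion j := repWith_of_comp_mono j k (by rw [hN.1]; exact hN.2.1)
  have hs : Function.Surjective (Points.map j) := fun x => by
    obtain ⟨V, b, hbe, hbs⟩ := hZ₁.atlas
    obtain ⟨p, rfl⟩ := surjective_ofPt b hbs x
    obtain ⟨O, P, f, q, π, hO, hf, ⟨o, rfl⟩, hπ, -, hq, -⟩ := exists_chart_data hU hN b p
    obtain ⟨t, rfl⟩ := q.left.surjective o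
    refine ⟨Points.ofPt π t, ?_⟩
    rw [Points.map_ofPt, hπ, ofPt_map]
    rfl
  refine ⟨RepWith.and hjc (repWith_surjective_of_surjective_map hjc.1 hs), fun V W b fst snd hV hb sq => ?_⟩
  have : IsClosedImmersion snd.left := hjc.2 b fst snd sq
  haveI := hV
  have key : ∀ x y : Γ(V.left, ⊤), snd.left.appTop x = 0 → snd.left.appTop y = 0 → x * y = 0 := by
    intro x y hx hy
    refine appTop_eq_zero_of_flat_family _ fun p => ?_
    obtain ⟨O, P, f, q, π, hO, hf, hp, hπ, hq2, -, hq3⟩ := exists_chart_data hU hN b p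
    haveI := hf
    refine ⟨O.left, f.left, inferInstance, hp, ?_⟩
    obtain ⟨l, hl⟩ := (yon S).map_surjective (sq.lift π ((yon S).map (q ≫ f)) hπ)
    have hl' : l ≫ snd = q ≫ f := (yon S).map_injective (by rw [Functor.map_comp, hl, IsPullback.lift_snd])
    have hz : ∀ z : Γ(V.left, ⊤), snd.left.appTop z = 0 → f.left.appTop z ∈ RingHom.ker (q.left.app ⊤).hom :=
      fun z hz => by
        have e3 : (snd.left.appTop ≫ l.left.appTop) z = (f.left.appTop ≫ q.left.appTop) z := by
          rw [← Scheme.Hom.comp_appTop, ← Scheme.Hom.comp_appTop, ← Over.comp_left, ← Over.comp_left, hl']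
        refine RingHom.mem_ker.2 (e3.symm.trans ?_)
        exact (congrArg l.left.appTop.hom hz).trans (map_zero l.left.appTop.hom)
    have h1 := congr(($hq2).ideal ⟨⊤, isAffineOpen_top _⟩)
    haveI := hq3
    haveI : QuasiCompact q.left := inferInstance
    rw [Scheme.IdealSheafData.ideal_mul, Pi.mul_apply, Scheme.IdealSheafData.ideal_bot, Pi.bot_apply,
      Scheme.Hom.ker_apply] at h1
    rw [map_mul]
    exact (Submodule.mem_bot _).1 (h1 ▸ Ideal.mul_mem_mul (hz x hx) (hz y hy))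
  refine Scheme.IdealSheafData.ext_of_isAffine ?_
  rw [Scheme.IdealSheafData.ideal_mul, Pi.mul_apply, Scheme.IdealSheafData.ideal_bot, Pi.bot_apply,
    Scheme.Hom.ker_apply, ← le_bot_iff, Ideal.mul_le]
  exact fun x hx y hy => (Submodule.mem_bot _).2 (key x y hx hy)

/-- Take an immersion i : Z ⟶ X of algebraic spaces over S, written as a closed immersion c : Z ⟶ U
followed by an open immersion u : U ⟶ X, and let (j : Z ⟶ Z₁, k : Z₁ ⟶ U) be the first order
infinitesimal neighbourhood of Z in U. Then (j, k ≫ u) is a universal first order thickening of Z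
over X. -/
theorem result {S : Scheme.{u}} {Z U X Z₁ : AlgSp.Space S} (c : Z ⟶ U)
    (hc : AlgSp.RepWith @IsClosedImmersion c.hom) (u : U ⟶ X) (hu : AlgSp.RepWith @IsOpenImmersion u.hom)
    (j : Z ⟶ Z₁) (k : Z₁ ⟶ U) (hN : AlgSp.IsInfNbhd 1 c.hom j.hom k.hom) :
    AlgSp.IsUnivFOThick (c ≫ u).hom j.hom (k ≫ u).hom := by
  haveI := Groth.Agent.AlgSpLib.mono_openImmersion hu
  haveI : Mono k.hom := Groth.Agent.AlgSpLib.mono_of_repWith
    (fun _ _ g (_ : IsClosedImmersion g) => (inferInstance : Mono g)) hN.2.2.1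
  have hjk : j.hom ≫ k.hom = c.hom := hN.1
  refine ⟨?_, ?_, fun T T' hT hT' i a b hi w => ?_⟩
  · exact isFOThickMor_of_infNbhd U.property Z₁.property hN
  · show j.hom ≫ k.hom ≫ u.hom = c.hom ≫ u.hom
    rw [← Category.assoc, hjk]
  · obtain ⟨b', rfl⟩ := (Groth.Agent.AlgSpLib.exists_lift_iff_range_subset hu b).2 (by
      rintro _ ⟨y, rfl⟩
      obtain ⟨y, rfl⟩ := Groth.Agent.AlgSpLib.surjective_map_of_repWith
        (Groth.Agent.AlgSpLib.RepWith.mono (fun _ _ _ h => h.2) hi.1) y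
      refine ⟨Points.map (a ≫ c.hom) y, ?_⟩
      rw [← Points.map_comp, ← Points.map_comp, w, ObjectProperty.FullSubcategory.comp_hom, Category.assoc])
    have w' : i ≫ b' = a ≫ c.hom := (cancel_mono u.hom).1 (by
      rw [Category.assoc, w, ObjectProperty.FullSubcategory.comp_hom, Category.assoc])
    obtain ⟨a', h1, h2⟩ := existsUnique_factor U.property hT' hN hi a b' w'
    refine ⟨a', ⟨h1, ?_⟩, fun a'' h => ?_⟩
    · rw [ObjectProperty.FullSubcategory.comp_hom, ← Category.assoc, h2]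
    · refine (cancel_mono k.hom).1 ((cancel_mono u.hom).1 ?_)
      rw [h2, Category.assoc]
      exact h.2

end Groth.Agent.S10635
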