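import Groth.Statements.S10636
import Groth.Agent.AlgSpLib.FOThick2
-- import your own Groth.Agent.* helpers here

set_option autoImplicit false
universe u
open CategoryTheory CategoryTheory.Limits AlgebraicGeometry
open AlgSp

namespace Groth.Agent.S10636

open Groth.Agent.AlgSpLib in
set_option backward.isDefEq.respectTransparency.types false in
theorem foThick_quot {S : Scheme.{u}} {A : Type u} [CommRing A] (I : Ideal A) (hI : I ^ 2 = ⊥)
    (str : Spec (CommRingCat.of A) ⟶ S) :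
    AlgSp.IsFOThickMor ((AlgSp.yon S).map (Over.homMk (Spec.map (CommRingCat.ofHom (Ideal.Quotient.mk I))) rfl :
      Over.mk (Spec.map (CommRingCat.ofHom (Ideal.Quotient.mk I)) ≫ str) ⟶ Over.mk str)) :=
  isFOThickMor_infSq (f := 𝟙 ((AlgSp.yon S).obj (Over.mk str)))
    { A := A, I := I, sq_zero := hI, str := str, top := (AlgSp.yon S).map (Over.homMk (Spec.map (CommRingCat.ofHom (Ideal.Quotient.mk I))) rfl), bot := 𝟙 _, comm := rfl }

theorem spec_comp {A B C : Type u} [CommRing A] [CommRing B] [CommRing C] (f : A →+* B) (g : B →+* C) :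
    Spec.map (CommRingCat.ofHom g) ≫ Spec.map (CommRingCat.ofHom f) = Spec.map (CommRingCat.ofHom (g.comp f)) :=
  (Spec.map_comp _ _).symm

open Groth.Agent.AlgSpLib in
set_option backward.isDefEq.respectTransparency.types false in
theorem key {S : Scheme.{u}} {Z Z' X : AlgSp.Sp S} (hZ' : AlgSp.IsAlgSpace Z') {h : Z ⟶ X} {i : Z ⟶ Z'}
    {h' : Z' ⟶ X} (HU : AlgSp.IsUnivFOThick h i h') : AlgSp.IsFormallyUnramifiedMor h' := by
  intro sq l l' h1 h2 h3 h4
  let A := sq.A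
  let I : Ideal A := sq.I
  have hII : I * I = ⊥ := by rw [← pow_two]; exact sq.sq_zero
  have hJ1 := HU.1.1.rep.isPullback l
  have hfo := foThick_baseChange hZ' HU.1 l hJ1
  have : IsClosedImmersion (HU.1.1.rep.snd l).left := (HU.1.1.property_snd l).1
  obtain ⟨J, e, he⟩ := IsClosedImmersion.Spec_iff.1 this
  let qJ : CommRingCat.of A ⟶ CommRingCat.of (A ⧸ J) := CommRingCat.ofHom (Ideal.Quotient.mk J)
  have hJ : J ^ 2 = ⊥ := by
    have h0 : (HU.1.1.rep.snd l).left.ker * (HU.1.1.rep.snd l).left.ker = ⊥ :=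
      hfo.2 (𝟙 _) (𝟙 _) _ (isAffine_Spec _) (AlgSp.repWith_id @Etale.{u} _) (IsPullback.of_horiz_isIso ⟨by simp⟩)
    rw [show (HU.1.1.rep.snd l).left = e.hom ≫ Spec.map qJ from he, Scheme.Hom.ker_comp_of_isIso] at h0
    exact sq_eq_bot_of_powZero (A := CommRingCat.of A) J h0
  let TJ : Over S := Over.mk (Spec.map qJ ≫ sq.str)
  let jJ : TJ ⟶ sq.ptT' := Over.homMk (Spec.map qJ) rfl
  let ev : TJ ⟶ HU.1.1.rep.pullback l := Over.homMk e.inv (by
    rw [← Over.w (HU.1.1.rep.snd l), show (HU.1.1.rep.snd l).left = e.hom ≫ Spec.map qJ from he]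
    simp only [Category.assoc, Iso.inv_hom_id_assoc]
    rfl)
  have ev2 : ev ≫ HU.1.1.rep.snd l = jJ := Over.OverMorphism.ext (by
    show e.inv ≫ (HU.1.1.rep.snd l).left = Spec.map qJ
    rw [show (HU.1.1.rep.snd l).left = e.hom ≫ Spec.map qJ from he, e.inv_hom_id_assoc])
  let aJ : (AlgSp.yon S).obj TJ ⟶ Z := (AlgSp.yon S).map ev ≫ HU.1.1.rep.fst l
  have haJ : aJ ≫ i = (AlgSp.yon S).map jJ ≫ l := by
    rw [Category.assoc, hJ1.w, ← Category.assoc, ← Functor.map_comp, ev2]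
  -- step 1: equality modulo the product ideal
  let L : Ideal A := J * I
  let K : Ideal A := J ⊔ I
  let I' : Ideal (A ⧸ L) := K.map (Ideal.Quotient.mk L)
  have hI' : I' ^ 2 = ⊥ := by
    rw [← Ideal.map_pow, Ideal.map_eq_bot_iff_le_ker, Ideal.mk_ker, pow_two]
    show (J ⊔ I) * (J ⊔ I) ≤ J * I
    have hJJ : J * J = ⊥ := by rw [← pow_two]; exact hJ
    simp only [Submodule.sup_mul, Submodule.mul_sup, hJJ, hII, sup_bot_eq, bot_sup_eq, mul_comm I J, sup_idem, le_refl]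
  let rL := Spec.map (CommRingCat.ofHom (Ideal.Quotient.mk L))
  let str₁ : Spec (CommRingCat.of (A ⧸ L)) ⟶ S := rL ≫ sq.str
  let r : Over.mk str₁ ⟶ sq.ptT' := Over.homMk rL rfl
  let T₁ : Over S := Over.mk (Spec.map (CommRingCat.ofHom (Ideal.Quotient.mk I')) ≫ str₁)
  let j₁ : T₁ ⟶ Over.mk str₁ := Over.homMk (Spec.map (CommRingCat.ofHom (Ideal.Quotient.mk I'))) rfl
  have hle : ∀ M : Ideal A, M ≤ K → ∀ a ∈ M, ((Ideal.Quotient.mk I').comp (Ideal.Quotient.mk L)) a = 0 :=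
    fun M hM a ha => Ideal.Quotient.eq_zero_iff_mem.2 (Ideal.mem_map_of_mem _ (hM ha))
  let kJ : T₁ ⟶ TJ := Over.homMk (Spec.map (CommRingCat.ofHom (Ideal.Quotient.lift J _ (hle J le_sup_left)))) (by
    show _ ≫ Spec.map qJ ≫ sq.str = Spec.map _ ≫ rL ≫ sq.str
    rw [← Category.assoc, ← Category.assoc, spec_comp, spec_comp, Ideal.Quotient.lift_comp_mk])
  have ekJ : kJ ≫ jJ = j₁ ≫ r := Over.OverMorphism.ext (by
    show Spec.map _ ≫ Spec.map qJ = Spec.map _ ≫ rL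
    rw [spec_comp, spec_comp, Ideal.Quotient.lift_comp_mk])
  let kI : T₁ ⟶ sq.ptT := Over.homMk (Spec.map (CommRingCat.ofHom (Ideal.Quotient.lift I _ (hle I le_sup_right)))) (by
    show _ ≫ Spec.map _ ≫ sq.str = Spec.map _ ≫ rL ≫ sq.str
    rw [← Category.assoc, ← Category.assoc, spec_comp, spec_comp, Ideal.Quotient.lift_comp_mk])
  have ekI : kI ≫ sq.j = j₁ ≫ r := Over.OverMorphism.ext (by
    show Spec.map _ ≫ Spec.map _ = Spec.map _ ≫ rL
    rw [spec_comp, spec_comp, Ideal.Quotient.lift_comp_mk])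
  have e1 : (AlgSp.yon S).map r ≫ l = (AlgSp.yon S).map r ≫ l' := by
    have ea : (AlgSp.yon S).map j₁ ≫ (AlgSp.yon S).map r ≫ l = ((AlgSp.yon S).map kJ ≫ aJ) ≫ i := by
      rw [Category.assoc, haJ, ← Functor.map_comp_assoc, ← ekJ, Functor.map_comp_assoc]
    have eb : (AlgSp.yon S).map j₁ ≫ (AlgSp.yon S).map r ≫ l' = ((AlgSp.yon S).map kJ ≫ aJ) ≫ i := by
      rw [← ea, ← Functor.map_comp_assoc, ← Functor.map_comp_assoc, ← ekI, Functor.map_comp_assoc,
        Functor.map_comp_assoc, h1, h3]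
    exact (HU.2.2 (AlgSp.IsAlgSpace.yon_obj _) (AlgSp.IsAlgSpace.yon_obj _) ((AlgSp.yon S).map j₁)
      ((AlgSp.yon S).map kJ ≫ aJ) ((AlgSp.yon S).map r ≫ sq.bot) (foThick_quot I' hI' str₁) (by
        rw [← h2, ← HU.2.1]
        rw [← Category.assoc _ i, ← ea]
        simp only [Category.assoc])).unique ⟨ea, by rw [Category.assoc, h2]⟩ ⟨eb, by rw [Category.assoc, h4]⟩
  -- step 2
  let kL : TJ ⟶ Over.mk str₁ := Over.homMk (Spec.map (CommRingCat.ofHom (Ideal.Quotient.factor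
    (show L ≤ J from Ideal.mul_le_left)))) (by
    show _ ≫ rL ≫ sq.str = Spec.map qJ ≫ sq.str
    rw [← Category.assoc, spec_comp, Ideal.Quotient.factor_comp_mk])
  have ekL : kL ≫ r = jJ := Over.OverMorphism.ext (by
    show Spec.map _ ≫ rL = Spec.map qJ
    rw [spec_comp, Ideal.Quotient.factor_comp_mk])
  have ea' : (AlgSp.yon S).map jJ ≫ l' = aJ ≫ i := by
    rw [haJ, ← ekL, Functor.map_comp_assoc, Functor.map_comp_assoc, e1]
  exact (HU.2.2 (AlgSp.IsAlgSpace.yon_obj _) (AlgSp.IsAlgSpace.yon_obj _) ((AlgSp.yon S).map jJ) aJ sq.bot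
    (foThick_quot J hJ sq.str) (by rw [← h2, ← HU.2.1, ← Category.assoc _ i, haJ, Category.assoc])).unique
    ⟨haJ.symm, h2⟩ ⟨ea', h4⟩

/-- Take a formally unramified morphism h : Z ⟶ X of algebraic spaces over S and let (i : Z ⟶ Z', h' :
Z' ⟶ X) be a universal first order thickening of Z over X. Then h' is formally unramified. -/
theorem result {S : Scheme.{u}} {Z Z' X : AlgSp.Space S} (h : Z ⟶ X)
    (hh : AlgSp.IsFormallyUnramifiedMor h.hom) (i : Z ⟶ Z') (h' : Z' ⟶ X) (HU : AlgSp.IsUnivFOThick h.hom i.hom h'.hom) :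
    AlgSp.IsFormallyUnramifiedMor h'.hom := by
  exact key Z'.property HU

end Groth.Agent.S10636
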