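import Groth.Statements.S10638
import Groth.Agent.AlgSpLib.FOThick2
import Groth.Agent.AlgSpLib.FOLift
import Groth.Agent.AlgSpLib.UnivFO
import Groth.Agent.AlgSpLib.ThickTop
import Groth.Agent.AlgSpLib.EtaleLift
import Groth.Agent.AlgSpLib.Formally
import Groth.Agent.AlgSpLib.InductPrinciple
import Groth.Agent.AlgSpLib.FpqcBaseAffine2
import Groth.Agent.S10607
-- import your own Groth.Agent.* helpers here

set_option autoImplicit false
universe u
open CategoryTheory CategoryTheory.Limits AlgebraicGeometry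
open AlgSp

namespace Groth.Agent.S10638

open Groth.Agent.AlgSpLib

/-- Take a formally unramified morphism h : Z ⟶ X of algebraic spaces over S with universal first order
thickening (iZ : Z ⟶ Z', hZ' : Z' ⟶ X). Let v : V ⟶ Z and w : U ⟶ X be etale morphisms of algebraic
spaces and ψ : V ⟶ U with ψ ≫ w = v ≫ h. Then ψ is formally unramified, and for a universal first
order thickening (iV : V ⟶ V', hV' : V' ⟶ U) of V over U, every e' : V' ⟶ Z' with iV ≫ e' = v ≫ iZ
and e' ≫ hZ' = hV' ≫ w (there is exactly one) is etale. (The published statement also identifies the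
conormal sheaf of V over U with the restriction of that of Z over X; this row omits that clause.) -/
theorem result {S : Scheme.{u}} {Z X Z' V U V' : AlgSp.Space S} (h : Z ⟶ X)
    (hh : AlgSp.IsFormallyUnramifiedMor h.hom) (iZ : Z ⟶ Z') (hZ' : Z' ⟶ X) (HZ : AlgSp.IsUnivFOThick h.hom iZ.hom hZ'.hom)
    (v : V ⟶ Z) (w : U ⟶ X) (hv : AlgSp.IsEtaleMor v.hom) (hw : AlgSp.IsEtaleMor w.hom) (ψ : V ⟶ U)
    (c : ψ ≫ w = v ≫ h) :
    AlgSp.IsFormallyUnramifiedMor ψ.hom ∧
    ∀ (iV : V ⟶ V') (hV' : V' ⟶ U), AlgSp.IsUnivFOThick ψ.hom iV.hom hV'.hom →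
      ∀ e' : V' ⟶ Z', iV ≫ e' = v ≫ iZ → e' ≫ hZ' = hV' ≫ w → AlgSp.IsEtaleMor e'.hom := by
  have e0 : ψ.hom ≫ w.hom = v.hom ≫ h.hom := congrArg InducedCategory.Hom.hom c
  have hvE := isFormallyEtaleMor_of_isEtaleMor V.property Z.property hv
  have hwE := isFormallyEtaleMor_of_isEtaleMor U.property X.property hw
  have hvU : AlgSp.IsFormallyUnramifiedMor v.hom := ((formallyEtale_iff v.hom).1 hvE).2
  have hwU : AlgSp.IsFormallyUnramifiedMor w.hom := ((formallyEtale_iff w.hom).1 hwE).2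
  refine ⟨fun sq l l' h1 h2 h3 h4 => ?_, fun iV hV' HV e' he1 he2 => ?_⟩
  · have hj := isFOThickMor_infSq sq
    refine eq_of_foThick_of_formallyUnramified (IsAlgSpace.yon_obj _) hj hvU l l' (h1.trans h3.symm) ?_
    refine eq_of_foThick_of_formallyUnramified (IsAlgSpace.yon_obj _) hj hh (l ≫ v.hom) (l' ≫ v.hom) ?_ ?_
    · rw [← Category.assoc, ← Category.assoc, h1, h3]
    · rw [Category.assoc, Category.assoc, ← e0, ← Category.assoc, ← Category.assoc, h2, h4]
  have hhom := isUnivHomeoMor_of_thickMor HZ.1.1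
  have hint : AlgSp.IsIntegralMor iZ.hom :=
    (isIntegralMor_iff_repWith _).2 (RepWith.mono (fun _ _ f hf => by
      have : IsClosedImmersion f := hf.1
      exact (inferInstance : IsIntegralHom f)) HZ.1.1)
  have hinj : AlgSp.IsUnivInjectiveMor iZ.hom := fun _ _ hQ g fst snd sq => (hhom hQ g fst snd sq).bijective.1
  have hsur : AlgSp.IsSurjectiveMor iZ.hom :=
    (isHomeomorph_map_of_thickMor Z'.property HZ.1.1).bijective.2
  obtain ⟨V'', a, cV, ha, sq⟩ := (Groth.Agent.S10607.result iZ hint hinj hsur).2 V v hv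
  have haE := isFormallyEtaleMor_of_isEtaleMor V''.property Z'.property ha
  have haU : AlgSp.IsFormallyUnramifiedMor a.hom := ((formallyEtale_iff a.hom).1 haE).2
  have hcV : AlgSp.IsFOThickMor cV.hom := foThick_baseChange_etale HZ.1 ha sq
  have hb : ψ.hom ≫ w.hom = cV.hom ≫ a.hom ≫ hZ'.hom := by
    rw [← Category.assoc, ← sq.w, Category.assoc, HZ.2.1, e0]
  obtain ⟨b'', ⟨hb1, hb2⟩, -⟩ := existsUnique_lift_of_formallyEtale V''.property hcV hwE ψ.hom (a.hom ≫ hZ'.hom) hb
  have HV'' : AlgSp.IsUnivFOThick ψ.hom cV.hom b'' := by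
    refine ⟨hcV, hb1, fun T T' hT hT' j α β hj hjβ => ?_⟩
    obtain ⟨a'', ⟨h1, h2⟩, hu⟩ := HZ.2.2 hT hT' j (α ≫ v.hom) (β ≫ w.hom) hj (by
      rw [← Category.assoc, hjβ, Category.assoc, e0, Category.assoc])
    obtain ⟨γ, ⟨hγ1, hγ2⟩, hγu⟩ := existsUnique_lift_of_formallyEtale hT' hj haE (α ≫ cV.hom) a'' (by
      rw [h1, Category.assoc, Category.assoc, sq.w])
    refine ⟨γ, ⟨hγ1, eq_of_foThick_of_formallyUnramified hT' hj hwU _ _ ?_ ?_⟩, fun γ' hγ' => hγu γ' ⟨hγ'.1, hu _ ⟨?_, ?_⟩⟩⟩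
    · rw [← Category.assoc, hγ1, Category.assoc, hb1, hjβ]
    · rw [Category.assoc, hb2, ← Category.assoc, hγ2, h2]
    · rw [← Category.assoc, hγ'.1, Category.assoc, Category.assoc, sq.w]
    · rw [Category.assoc, ← hb2, ← Category.assoc, hγ'.2]
  have f1 : iV.hom ≫ e'.hom = v.hom ≫ iZ.hom := congrArg InducedCategory.Hom.hom he1
  have f2 : e'.hom ≫ hZ'.hom = hV'.hom ≫ w.hom := congrArg InducedCategory.Hom.hom he2
  obtain ⟨p, ⟨hp1, hp2⟩, hpu⟩ := HV''.2.2 V.property V'.property iV.hom (𝟙 _) hV'.hom HV.1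
    (by rw [Category.id_comp, HV.2.1])
  obtain ⟨q, ⟨hq1, hq2⟩, -⟩ := HV.2.2 V.property V''.property cV.hom (𝟙 _) b'' hcV
    (by rw [Category.id_comp, hb1])
  rw [Category.id_comp] at hp1 hq1
  haveI : IsIso p := ⟨q,
    (HV.2.2 V.property V'.property iV.hom (𝟙 _) hV'.hom HV.1 (by rw [Category.id_comp, HV.2.1])).unique
      ⟨by rw [Category.id_comp, ← Category.assoc, hp1, hq1], by rw [Category.assoc, hq2, hp2]⟩
      ⟨by rw [Category.id_comp, Category.comp_id], Category.id_comp _⟩,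
    (HV''.2.2 V.property V''.property cV.hom (𝟙 _) b'' hcV (by rw [Category.id_comp, hb1])).unique
      ⟨by rw [Category.id_comp, ← Category.assoc, hq1, hp1], by rw [Category.assoc, hp2, hq2]⟩
      ⟨by rw [Category.id_comp, Category.comp_id], Category.id_comp _⟩⟩
  have he : e'.hom = p ≫ a.hom := (HZ.2.2 V.property V'.property iV.hom v.hom (hV'.hom ≫ w.hom) HV.1 (by
      rw [← Category.assoc, HV.2.1, e0])).unique ⟨f1, f2⟩ ⟨by rw [← Category.assoc, hp1, ← sq.w],
      by rw [Category.assoc, ← hb2, ← Category.assoc, hp2]⟩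
  rw [he]
  refine Groth.Agent.AlgSpLib.Induct.isEtaleMor_comp V'.property V''.property Z'.property
    ((isEtaleMor_iff_locP etLocal_etale V'.property V''.property p).2
      (locP_of_repWith etLocal_etale V'.property (repWith_of_isIso _ p))) ha

end Groth.Agent.S10638
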