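import Groth.Statements.S10640
import Groth.Agent.AlgSpLib.WhereLocus
-- import your own Groth.Agent.* helpers here

set_option autoImplicit false
universe u
open CategoryTheory CategoryTheory.Limits AlgebraicGeometry
open AlgSp

namespace Groth.Agent.S10640

set_option backward.isDefEq.respectTransparency.types false

/-- For morphisms f : X ⟶ Y, p : X ⟶ Z and q : Y ⟶ Z of algebraic spaces over S with f ≫ q = p, write XX
= X ×_Y X with projections pr0, pr1, and assume that p is closed and locally of finite type and that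
the composite XX ⟶ X ⟶ Z (through pr1 and p) is closed as well. Then there is an open subspace W of
Z with the following property: a morphism of algebraic spaces g : Z' ⟶ Z factors through W exactly
when the base change X' ⟶ Y' of f along g is unramified and universally injective. Here the base
change of f along g is any f' : X' ⟶ Y' obtained from pullback squares Y' = Y ×_Z Z' and X' = X ×_Y
Y' of algebraic spaces over S, and W ⊂ Z is given as a representable open immersion w : W ⟶ Z. -/
theorem result {S : Scheme.{u}} {X Y Z : AlgSp.Space S}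
    (f : X ⟶ Y) (p : X ⟶ Z) (q : Y ⟶ Z) (hc : f ≫ q = p)
    (XX : AlgSp.Space S) (pr0 pr1 : XX ⟶ X) (hXX : IsPullback pr0.hom pr1.hom f.hom f.hom)
    (hp1 : AlgSp.LocP @LocallyOfFiniteType p.hom) (hp2 : AlgSp.IsClosedMor p.hom)
    (hp3 : AlgSp.IsClosedMor (pr1 ≫ p).hom) :
    ∃ (W : AlgSp.Space S) (w : W ⟶ Z), AlgSp.RepWith @IsOpenImmersion w.hom ∧
      ∀ (Z' : AlgSp.Space S) (g : Z' ⟶ Z),
        (∃ k : Z' ⟶ W, k ≫ w = g) ↔
          ∀ (Y' : AlgSp.Space S) (gY : Y' ⟶ Y) (q' : Y' ⟶ Z'),
            IsPullback gY.hom q'.hom q.hom g.hom →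
            ∀ (X' : AlgSp.Space S) (gX : X' ⟶ X) (f' : X' ⟶ Y'),
              IsPullback gX.hom f'.hom f.hom gY.hom →
                (AlgSp.LocP (@LocallyOfFiniteType ⊓ @FormallyUnramified) f'.hom ∧ AlgSp.IsUnivInjectiveMor f'.hom) := by
  subst hc
  have hl := AlgSpLib.lft_of_comp (f := f.hom) (q := q.hom) X.property Y.property Z.property hp1
  have hpp : IsClosedMap (AlgSp.Points.map (pullback.snd f.hom f.hom ≫ f.hom ≫ q.hom)) := by
    intro A hA
    have := hp3 _ (AlgSpLib.isClosedMap_map_iso hXX.isoPullback.symm A hA)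
    rw [Set.image_image] at this
    simp only [← AlgSp.Points.map_comp] at this
    have e : hXX.isoPullback.symm.hom ≫ (pr1 ≫ f ≫ q).hom = pullback.snd f.hom f.hom ≫ f.hom ≫ q.hom := by
      show hXX.isoPullback.inv ≫ pr1.hom ≫ f.hom ≫ q.hom = _
      rw [← Category.assoc, IsPullback.isoPullback_inv_snd]
    rwa [e] at this
  exact AlgSpLib.exists_where f q _ (AlgSpLib.isOpen_unramInjBase X.property Y.property hl hp2 hpp)
    (fun _ _ f' => AlgSp.LocP (@LocallyOfFiniteType ⊓ @FormallyUnramified) f' ∧ AlgSp.IsUnivInjectiveMor f')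
    fun _ _ _ _ hY' hX' _ _ _ sq₁ _ _ sq₂ =>
      AlgSpLib.unramInjBase_iff X.property Y.property hY' hX' hl sq₁ sq₂

end Groth.Agent.S10640
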