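import Groth.Statements.S10641
import Groth.Agent.AlgSpLib.WhereLocus
-- import your own Groth.Agent.* helpers here

set_option autoImplicit false
universe u
open CategoryTheory CategoryTheory.Limits AlgebraicGeometry
open AlgSp

namespace Groth.Agent.S10641

set_option backward.isDefEq.respectTransparency.types false

/-- For morphisms f : X ⟶ Y, p : X ⟶ Z and q : Y ⟶ Z of algebraic spaces over S with f ≫ q = p, where p
is universally closed and locally of finite type and q is separated, there is an open subspace W of
Z with the following property: a morphism of algebraic spaces g : Z' ⟶ Z factors through W exactly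
when the base change X' ⟶ Y' of f along g is a closed immersion (representable, and a closed
immersion on every represented pullback). Here the base change of f along g is any f' : X' ⟶ Y'
obtained from pullback squares Y' = Y ×_Z Z' and X' = X ×_Y Y' of algebraic spaces over S, and W ⊂ Z
is given as a representable open immersion w : W ⟶ Z. -/
theorem result {S : Scheme.{u}} {X Y Z : AlgSp.Space S}
    (f : X ⟶ Y) (p : X ⟶ Z) (q : Y ⟶ Z) (hc : f ≫ q = p)
    (hp1 : AlgSp.LocP @LocallyOfFiniteType p.hom) (hp2 : AlgSp.IsUnivClosedMor p.hom)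
    (hq : AlgSp.IsSeparatedMor q.hom) :
    ∃ (W : AlgSp.Space S) (w : W ⟶ Z), AlgSp.RepWith @IsOpenImmersion w.hom ∧
      ∀ (Z' : AlgSp.Space S) (g : Z' ⟶ Z),
        (∃ k : Z' ⟶ W, k ≫ w = g) ↔
          ∀ (Y' : AlgSp.Space S) (gY : Y' ⟶ Y) (q' : Y' ⟶ Z'),
            IsPullback gY.hom q'.hom q.hom g.hom →
            ∀ (X' : AlgSp.Space S) (gX : X' ⟶ X) (f' : X' ⟶ Y'),
              IsPullback gX.hom f'.hom f.hom gY.hom →
                AlgSp.RepWith @IsClosedImmersion f'.hom := by
  subst hc
  have hl := AlgSpLib.lft_of_comp (f := f.hom) (q := q.hom) X.property Y.property Z.property hp1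
  have hcf := AlgSpLib.isUnivClosedMor_of_comp_separated (f := f.hom) (q := q.hom) X.property Y.property Z.property hp2 hq
  have hpc := AlgSpLib.isClosedMap_of_univClosed Z.property hp2
  exact AlgSpLib.exists_where f q _ (AlgSpLib.isOpen_unramInjBase X.property Y.property hl hpc
      (AlgSpLib.isClosedMap_snd_self Y.property X.property hcf hpc))
    (fun _ _ f' => AlgSp.RepWith @IsClosedImmersion f')
    fun _ _ _ _ hY' hX' _ _ _ sq₁ _ _ sq₂ =>
      (AlgSpLib.unramInjBase_iff X.property Y.property hY' hX' hl sq₁ sq₂).trans
        (AlgSpLib.closedImmersion_iff hX' hY' (AlgSpLib.locP_of_isPullback AlgSpLib.etLocal_lft X.property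
          Y.property hX' sq₂ hl) (AlgSpLib.isUnivClosedMor_bc sq₂ hcf)).symm

end Groth.Agent.S10641
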