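import Groth.Statements.S10644
import Groth.Agent.AlgSpLib.WhereLocus
-- import your own Groth.Agent.* helpers here

set_option autoImplicit false
universe u
open CategoryTheory CategoryTheory.Limits AlgebraicGeometry
open AlgSp

namespace Groth.Agent.S10644

set_option backward.isDefEq.respectTransparency.types false

/-- For morphisms f : X ⟶ Y, p : X ⟶ Z and q : Y ⟶ Z of algebraic spaces over S with f ≫ q = p, where p
is flat, universally closed and locally of finite presentation and q is closed, separated and
locally of finite type, there is an open subspace W of Z with the following property: a morphism of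
algebraic spaces g : Z' ⟶ Z factors through W exactly when the base change X' ⟶ Y' of f along g is
an isomorphism. Here the base change of f along g is any f' : X' ⟶ Y' obtained from pullback squares
Y' = Y ×_Z Z' and X' = X ×_Y Y' of algebraic spaces over S, and W ⊂ Z is given as a representable
open immersion w : W ⟶ Z. -/
theorem result {S : Scheme.{u}} {X Y Z : AlgSp.Space S}
    (f : X ⟶ Y) (p : X ⟶ Z) (q : Y ⟶ Z) (hc : f ≫ q = p)
    (hp1 : AlgSp.LocP @LocallyOfFinitePresentation p.hom) (hp2 : AlgSp.LocP @Flat p.hom)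
    (hp3 : AlgSp.IsUnivClosedMor p.hom) (hq1 : AlgSp.LocP @LocallyOfFiniteType q.hom)
    (hq2 : AlgSp.IsClosedMor q.hom) (hq3 : AlgSp.IsSeparatedMor q.hom) :
    ∃ (W : AlgSp.Space S) (w : W ⟶ Z), AlgSp.RepWith @IsOpenImmersion w.hom ∧
      ∀ (Z' : AlgSp.Space S) (g : Z' ⟶ Z),
        (∃ k : Z' ⟶ W, k ≫ w = g) ↔
          ∀ (Y' : AlgSp.Space S) (gY : Y' ⟶ Y) (q' : Y' ⟶ Z'),
            IsPullback gY.hom q'.hom q.hom g.hom →
            ∀ (X' : AlgSp.Space S) (gX : X' ⟶ X) (f' : X' ⟶ Y'),
              IsPullback gX.hom f'.hom f.hom gY.hom →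
                IsIso f'.hom := by
  subst hc
  have hfp := AlgSpLib.lfp_of_comp (f := f.hom) (q := q.hom) X.property Y.property Z.property hp1 hq1
  have hl := AlgSpLib.locP_mono (fun _ _ g (_ : LocallyOfFinitePresentation g) =>
    (inferInstance : LocallyOfFiniteType g)) hfp
  have hcf := AlgSpLib.isUnivClosedMor_of_comp_separated (f := f.hom) (q := q.hom) X.property Y.property Z.property hp3 hq3
  have hpc := AlgSpLib.isClosedMap_of_univClosed Z.property hp3
  exact AlgSpLib.exists_where f q _
    ((AlgSpLib.isOpen_flatSurjBase X.property Y.property Z.property hp1 hq1 hpc hq2).inter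
      (AlgSpLib.isOpen_unramInjBase X.property Y.property hl hpc
        (AlgSpLib.isClosedMap_snd_self Y.property X.property hcf hpc)))
    (fun _ _ f' => IsIso f')
    fun _ _ _ hZ' hY' hX' _ _ _ sq₁ _ _ sq₂ => by
      rw [AlgSpLib.isIso_iff_conds hX' hY' (AlgSpLib.locP_of_isPullback AlgSpLib.etLocal_lfp X.property
          Y.property hX' sq₂ hfp) (AlgSpLib.isUnivClosedMor_bc sq₂ hcf),
        ← AlgSpLib.flatSurjBase_iff X.property Y.property Z.property hp1 hp2 hq1 hZ' hY' hX' sq₁ sq₂,
        ← AlgSpLib.unramInjBase_iff X.property Y.property hY' hX' hl sq₁ sq₂]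
      exact forall_and

end Groth.Agent.S10644
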