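import Groth.Statements.S10645
import Groth.Agent.AlgSpLib.LCILocus
-- import your own Groth.Agent.* helpers here

set_option autoImplicit false
universe u
open CategoryTheory CategoryTheory.Limits AlgebraicGeometry
open AlgSp

namespace Groth.Agent.S10645

set_option backward.isDefEq.respectTransparency.types false

open Groth.Agent.AlgSpLib in
theorem isLCIMor_iff_forall {S : Scheme.{u}} {F G : Sp S} (hF : IsAlgSpace F) (hG : IsAlgSpace G) (f : F ⟶ G) :
    IsLCIMor f ↔ ∀ x, LocPNear lci f x := by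
  refine ⟨fun hf x => ?_, fun h U V a b l ha hb w u => (locPNear_lci_iff hF hG f a b l ha hb w u).1 (h _)⟩
  obtain ⟨V, b, hbe, hbs⟩ := hG.atlas
  obtain ⟨U, a, l, hae, has, w⟩ := exists_chart_over hF hG f b hbe hbs
  obtain ⟨u, rfl⟩ := surjective_ofPt a has x
  exact (locPNear_lci_iff hF hG f a b l hae hbe w u).2 (hf a b l hae hbe w u)

open Groth.Agent.AlgSpLib in
theorem isOpen_locus {S : Scheme.{u}} {F G : Sp S} (hF : IsAlgSpace F) (hG : IsAlgSpace G) (f : F ⟶ G) :
    IsOpen {x | LocPNear lci f x} := by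
  obtain ⟨V, b, hbe, hbs⟩ := hG.atlas
  obtain ⟨U, a, l, hae, has, w⟩ := exists_chart_over hF hG f b hbe hbs
  convert isOpenMap_ofPt a hae _ (isOpen_isKoszulAt l.left) using 1
  ext x
  refine ⟨fun hx => ?_, ?_⟩
  · obtain ⟨u, rfl⟩ := surjective_ofPt a has x
    exact ⟨u, (locPNear_lci_iff hF hG f a b l hae hbe w u).1 hx, rfl⟩
  · rintro ⟨u, hu, rfl⟩
    exact (locPNear_lci_iff hF hG f a b l hae hbe w u).2 hu

/-- For morphisms f : X ⟶ Y, p : X ⟶ Z and q : Y ⟶ Z of algebraic spaces over S with f ≫ q = p, where p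
is flat, closed and locally of finite presentation and q is flat and also locally of finite
presentation, there is an open subspace W of Z with the following property: a morphism of algebraic
spaces g : Z' ⟶ Z factors through W exactly when the base change X' ⟶ Y' of f along g is a local
complete intersection (Koszul) morphism, i.e. Koszul at every point etale locally on source and
target. Here the base change of f along g is any f' : X' ⟶ Y' obtained from pullback squares Y' = Y
×_Z Z' and X' = X ×_Y Y' of algebraic spaces over S, and W ⊂ Z is given as a representable open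
immersion w : W ⟶ Z. -/
theorem result {S : Scheme.{u}} {X Y Z : AlgSp.Space S}
    (f : X ⟶ Y) (p : X ⟶ Z) (q : Y ⟶ Z) (hc : f ≫ q = p)
    (hp1 : AlgSp.LocP @Flat p.hom) (hp2 : AlgSp.LocP @LocallyOfFinitePresentation p.hom)
    (hp3 : AlgSp.IsClosedMor p.hom) (hq1 : AlgSp.LocP @Flat q.hom)
    (hq2 : AlgSp.LocP @LocallyOfFinitePresentation q.hom) :
    ∃ (W : AlgSp.Space S) (w : W ⟶ Z), AlgSp.RepWith @IsOpenImmersion w.hom ∧
      ∀ (Z' : AlgSp.Space S) (g : Z' ⟶ Z),
        (∃ k : Z' ⟶ W, k ≫ w = g) ↔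
          ∀ (Y' : AlgSp.Space S) (gY : Y' ⟶ Y) (q' : Y' ⟶ Z'),
            IsPullback gY.hom q'.hom q.hom g.hom →
            ∀ (X' : AlgSp.Space S) (gX : X' ⟶ X) (f' : X' ⟶ Y'),
              IsPullback gX.hom f'.hom f.hom gY.hom →
                AlgSp.IsLCIMor f'.hom := by
  let W₀ : Set (Points Z.obj) := (Points.map p.hom '' {x | LocPNear lci f.hom x}ᶜ)ᶜ
  have hW₀ : IsOpen W₀ := (hp3 _ (isOpen_locus X.property Y.property f.hom).isClosed_compl).isOpen_compl
  have hcp : f.hom ≫ q.hom = p.hom := congrArg (fun t => t.hom) hc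
  refine ⟨⟨_, Groth.Agent.AlgSpLib.isAlgSpace_openSubspace Z.property hW₀⟩,
    ObjectProperty.homMk (Groth.Agent.AlgSpLib.openSubspaceι Z.obj W₀),
    Groth.Agent.AlgSpLib.repWith_openSubspaceι Z.obj hW₀, fun Z' g => ?_⟩
  constructor
  · rintro ⟨k, rfl⟩ Y' gY q' hY X' gX f' hX
    refine (isLCIMor_iff_forall X'.property Y'.property f'.hom).2 fun x' => ?_
    refine (Groth.Agent.AlgSpLib.koszulLocus_baseChange X.property Y.property Z.property X'.property Y'.property
      Z'.property f.hom p.hom q.hom hcp hp1 hp2 hq1 hq2 hY hX x').2 ?_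
    by_contra hx
    have e : Points.map p.hom (Points.map gX.hom x') =
        Points.map (Groth.Agent.AlgSpLib.openSubspaceι Z.obj W₀) (Points.map k.hom (Points.map (f'.hom ≫ q'.hom) x')) := by
      rw [← Points.map_comp, ← Points.map_comp, ← Points.map_comp, ← hcp]
      congr 1
      rw [← Category.assoc, hX.w, Category.assoc, hY.w, Category.assoc]
      rfl
    exact (Groth.Agent.AlgSpLib.range_openSubspaceι Z.obj W₀).le (e ▸ Set.mem_range_self _) ⟨_, hx, rfl⟩
  · intro H
    have hPY : IsAlgSpace (pullback q.hom g.hom) := Groth.Agent.AlgSpLib.isAlgSpace_of_isPullback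
      Z.property.diag Y.property Z'.property (IsPullback.of_hasPullback _ _)
    have sY := IsPullback.of_hasPullback q.hom g.hom
    let gY : (⟨_, hPY⟩ : AlgSp.Space S) ⟶ Y := ObjectProperty.homMk (pullback.fst q.hom g.hom)
    let q' : (⟨_, hPY⟩ : AlgSp.Space S) ⟶ Z' := ObjectProperty.homMk (pullback.snd q.hom g.hom)
    have sX := IsPullback.of_hasPullback f.hom (pullback.fst q.hom g.hom)
    have hPX : IsAlgSpace (pullback f.hom (pullback.fst q.hom g.hom)) :=
      Groth.Agent.AlgSpLib.isAlgSpace_of_isPullback Y.property.diag X.property hPY sX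
    let gX : (⟨_, hPX⟩ : AlgSp.Space S) ⟶ X := ObjectProperty.homMk (pullback.fst f.hom (pullback.fst q.hom g.hom))
    let f' : (⟨_, hPX⟩ : AlgSp.Space S) ⟶ ⟨_, hPY⟩ :=
      ObjectProperty.homMk (pullback.snd f.hom (pullback.fst q.hom g.hom))
    have hl := (isLCIMor_iff_forall hPX hPY _).1 (H ⟨_, hPY⟩ gY q' sY ⟨_, hPX⟩ gX f' sX)
    obtain ⟨k, hk⟩ := (Groth.Agent.AlgSpLib.exists_lift_iff_range_subset
      (Groth.Agent.AlgSpLib.repWith_openSubspaceι Z.obj hW₀) g.hom).2 (by
        rintro _ ⟨z, rfl⟩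
        refine (Groth.Agent.AlgSpLib.range_openSubspaceι Z.obj W₀).ge ?_
        rintro ⟨x, hx, e⟩
        obtain ⟨y', hy1, -⟩ := Groth.Agent.AlgSpLib.exists_point_of_isPullback sY
          (show Points.map q.hom (Points.map f.hom x) = Points.map g.hom z by rw [← Points.map_comp, hcp, e])
        obtain ⟨x', hx1, -⟩ := Groth.Agent.AlgSpLib.exists_point_of_isPullback sX hy1.symm
        refine hx ?_
        rw [← hx1]
        exact (Groth.Agent.AlgSpLib.koszulLocus_baseChange X.property Y.property Z.property hPX hPY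
          Z'.property f.hom p.hom q.hom hcp hp1 hp2 hq1 hq2 sY sX x').1 (hl x'))
    exact ⟨ObjectProperty.homMk k, ObjectProperty.hom_ext _ hk⟩

end Groth.Agent.S10645
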