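import Groth.Statements.S10648
import Groth.Agent.AlgSpLib.OpenFac
import Groth.Agent.AlgSpLib.DirectedRestrict
import Groth.Agent.S10647
import Groth.Agent.S10034
import Groth.Agent.S10011
-- import your own Groth.Agent.* helpers here

set_option autoImplicit false
universe u
open CategoryTheory CategoryTheory.Limits AlgebraicGeometry
open AlgSp

namespace Groth.Agent.S10648

open Groth.Agent.AlgSpLib Groth.Agent.AlgSpLib.OpenFac

set_option backward.isDefEq.respectTransparency.types false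
set_option backward.isDefEq.respectTransparency false

theorem isClosedImmersion_map_restrict {S : Scheme.{u}} {A B C W PA PB : AlgSp.Sp S} {r : A ⟶ B} {a : A ⟶ C}
    {b : B ⟶ C} {w : W ⟶ C} {a₁ : PA ⟶ A} {a₂ : PA ⟶ W} {b₁ : PB ⟶ B} {b₂ : PB ⟶ W} {m : PA ⟶ PB}
    (hr : AlgSp.RepWith @IsClosedImmersion r) (hra : r ≫ b = a) (hA : IsPullback a₁ a₂ a w)
    (hB : IsPullback b₁ b₂ b w) (h1 : m ≫ b₁ = a₁ ≫ r) (h2 : m ≫ b₂ = a₂) :
    AlgSp.RepWith @IsClosedImmersion m :=
  RepWith.baseChange (IsPullback.of_bot (v₂₁ := b₂) (v₂₂ := b) (h₃₁ := w) (by rw [h2, hra]; exact hA.flip.flip)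
    h1.symm hB) hr

/-- factorisation of an open immersion through a stage of a limit with closed transition maps -/
theorem exists_open_stage {S : Scheme.{u}} {I : Type u} [Preorder I] [IsDirected I (fun a b => a ≤ b)] [Nonempty I]
    {X T Y : AlgSp.Space S} {j : X ⟶ T} (hj : AlgSp.RepWith @IsOpenImmersion j.hom)
    (hXqc : AlgSp.IsQuasiCompactSp X.obj) {g : T.obj ⟶ Y.obj}
    (hfp : AlgSp.LocP @LocallyOfFinitePresentation (j.hom ≫ g))
    (D : Iᵒᵖ ⥤ AlgSp.Sp S) (t : D ⟶ (Functor.const Iᵒᵖ).obj Y.obj) (c : Cone D) (hc : IsLimit c) (e : c.pt ≅ T.obj)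
    (hD : ∀ i, AlgSp.IsAlgSpace (D.obj i)) (hDc : ∀ (i k : Iᵒᵖ) (φ : i ⟶ k), AlgSp.RepWith @IsClosedImmersion (D.map φ))
    (hDq : ∀ i, AlgSp.IsQuasiCompactSp (D.obj i))
    (hft : ∀ i, AlgSp.LocP @LocallyOfFiniteType (t.app i)) (hg : ∀ i, e.inv ≫ c.π.app i ≫ t.app i = g) :
    ∃ (i : Iᵒᵖ) (j' : X.obj ⟶ D.obj i), AlgSp.RepWith @IsOpenImmersion j' ∧ j' ≫ t.app i = j.hom ≫ g := by
  classical
  obtain ⟨a⟩ := ‹Nonempty I›
  haveI : IsCofiltered Iᵒᵖ := inferInstance
  haveI := compactSpace_points_of_isQuasiCompactSp hXqc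
  -- the projection is a closed immersion
  have hπ : AlgSp.RepWith @IsClosedImmersion (e.inv ≫ c.π.app ⟨a⟩) :=
    RepWith.comp (repWith_of_isIso @IsClosedImmersion e.inv) (OpenFac.isClosedImmersion_π hD hDc c hc ⟨a⟩ (hDq ⟨a⟩))
  have hind := (isEmbedding_map_of_immersion (hD ⟨a⟩)
    (RepWith.mono (fun _ _ q (_ : IsClosedImmersion q) => (inferInstance : IsImmersion q)) hπ)).1
  obtain ⟨O, hO, hOU⟩ := hind.isInducing.isOpen_iff.1 (Induct.isOpen_range_map X.property hj)
  obtain ⟨W, hWo, hWc, hKW, hWO⟩ := exists_compact_open (hD ⟨a⟩)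
    ((Induct.isCompact_range_map hXqc j.hom).image (Points.continuous_map (e.inv ≫ c.π.app ⟨a⟩))) hO
    (Set.image_subset_iff.2 hOU.ge)
  let w := openSubspaceι (D.obj ⟨a⟩) W
  have hw : AlgSp.RepWith @IsOpenImmersion w := repWith_openSubspaceι (D.obj ⟨a⟩) hWo
  have hWs : AlgSp.IsAlgSpace (openSubspace (D.obj ⟨a⟩) W) := isAlgSpace_openSubspace (hD ⟨a⟩) hWo
  have hWq : AlgSp.IsQuasiCompactSp (openSubspace (D.obj ⟨a⟩) W) :=
    Induct.isQuasiCompactSp_openImm hWs (hD ⟨a⟩) hw (by rw [range_openSubspaceι]; exact hWc)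
  have hmem : ∀ z, Points.map (e.inv ≫ c.π.app ⟨a⟩) z ∈ W ↔ z ∈ Set.range (Points.map j.hom) := fun z =>
    ⟨fun h => hOU.le (hWO h), fun h => hKW ⟨z, h, rfl⟩⟩
  obtain ⟨l, hl⟩ : ∃ l, l ≫ w = j.hom ≫ e.inv ≫ c.π.app ⟨a⟩ := exists_fac_openImm hw _ fun z => by
    rw [range_openSubspaceι, Points.map_comp]
    exact (hmem _).2 ⟨z, rfl⟩
  -- the restricted system
  obtain ⟨hc'⟩ := DirRes.nonempty_isLimit_restrict c hc a
  let F := DirRes.incl a ⋙ D
  let τ : ∀ k : (DirRes.Above a)ᵒᵖ, F.obj k ⟶ D.obj ⟨a⟩ := fun k => D.map (homOfLE k.unop.2).op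
  have hτ : ∀ {k k' : (DirRes.Above a)ᵒᵖ} (φ : k ⟶ k'), F.map φ ≫ τ k' = τ k := fun φ =>
    (D.map_comp _ _).symm.trans rfl
  let R : (DirRes.Above a)ᵒᵖ ⥤ AlgSp.Sp S :=
    { obj := fun k => pullback (τ k) w
      map := fun φ => pullback.lift (pullback.fst _ w ≫ F.map φ) (pullback.snd _ w)
        (by rw [Category.assoc, hτ, pullback.condition])
      map_id := fun k => by
        apply pullback.hom_ext <;> simp [pullback.lift_fst, pullback.lift_snd]
      map_comp := fun φ ψ => by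
        apply pullback.hom_ext <;> simp [pullback.lift_fst, pullback.lift_snd, pullback.lift_fst_assoc] }
  have hR : ∀ k, AlgSp.IsAlgSpace (R.obj k) := fun k =>
    isAlgSpace_of_isPullback (hD ⟨a⟩).diag (hD _) hWs (IsPullback.of_hasPullback (τ k) w)
  have hR1 : ∀ {k k'} (φ : k ⟶ k'), R.map φ ≫ pullback.fst (τ k') w = pullback.fst (τ k) w ≫ F.map φ := fun φ =>
    pullback.lift_fst _ _ _
  have hR2 : ∀ {k k'} (φ : k ⟶ k'), R.map φ ≫ pullback.snd (τ k') w = pullback.snd (τ k) w := fun φ =>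
    pullback.lift_snd _ _ _
  let T' : R ⟶ (Functor.const _).obj Y.obj :=
    { app := fun k => pullback.fst (τ k) w ≫ t.app _
      naturality := fun k k' φ => by
        show R.map φ ≫ pullback.fst (τ k') w ≫ t.app _ = (pullback.fst (τ k) w ≫ t.app _) ≫ 𝟙 _
        rw [reassoc_of% (hR1 φ), Category.comp_id]
        exact congrArg (pullback.fst (τ k) w ≫ ·) ((t.naturality ((DirRes.incl a).map φ)).trans (Category.comp_id _)) }
  have hpc : ∀ k, (j.hom ≫ e.inv ≫ c.π.app ((DirRes.incl a).obj k)) ≫ τ k = l ≫ w := fun k => by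
    rw [hl, Category.assoc, Category.assoc]
    exact congrArg (fun q => j.hom ≫ e.inv ≫ q) (c.w (homOfLE k.unop.2).op)
  let cR : Cone R :=
    { pt := X.obj
      π :=
        { app := fun k => pullback.lift (j.hom ≫ e.inv ≫ c.π.app _) l (hpc k)
          naturality := fun k k' φ => by
            show 𝟙 _ ≫ _ = pullback.lift _ l (hpc k) ≫ R.map φ
            rw [Category.id_comp]
            apply pullback.hom_ext
            · rw [Category.assoc, hR1, pullback.lift_fst, pullback.lift_fst_assoc, Category.assoc, Category.assoc]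
              exact congrArg (fun q => j.hom ≫ e.inv ≫ q) (c.w ((DirRes.incl a).map φ)).symm
            · rw [Category.assoc, hR2, pullback.lift_snd, pullback.lift_snd] } }
  haveI : Mono j.hom := mono_of_repWith (fun _ _ g (_ : IsOpenImmersion g) => (inferInstance : Mono g)) hj
  have k₀ : (DirRes.Above a)ᵒᵖ := ⟨⟨a, le_rfl⟩⟩
  have hlift : ∀ s : Cone R, ∃ m : s.pt ⟶ X.obj, ∀ k, m ≫ cR.π.app k = s.π.app k := by
    intro s
    let s' : Cone F :=
      { pt := s.pt
        π :=
          { app := fun k => s.π.app k ≫ pullback.fst (τ k) w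
            naturality := fun k k' φ => by
              show 𝟙 _ ≫ _ = (s.π.app k ≫ pullback.fst (τ k) w) ≫ F.map φ
              rw [Category.id_comp, Category.assoc, ← hR1 φ, ← Category.assoc, s.w φ] } }
    have hsnd : ∀ k k', s.π.app k ≫ pullback.snd (τ k) w = s.π.app k' ≫ pullback.snd (τ k') w := fun k k' => by
      obtain ⟨m, hmk, hmk'⟩ := exists_ge_ge k.unop k'.unop
      rw [← s.w (homOfLE hmk).op, ← s.w (homOfLE hmk').op, Category.assoc, Category.assoc, hR2, hR2]
    obtain ⟨m, hm⟩ := exists_fac_openImm hj (hc'.lift s' ≫ e.hom) fun z => by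
      rw [← hmem, ← Points.map_comp]
      have h : (hc'.lift s' ≫ e.hom) ≫ e.inv ≫ c.π.app ⟨a⟩ = (s.π.app k₀ ≫ pullback.snd (τ k₀) w) ≫ w := by
        rw [Category.assoc, e.hom_inv_id_assoc, Category.assoc, ← pullback.condition, ← Category.assoc,
          ← c.w (homOfLE k₀.unop.2).op, ← Category.assoc]
        exact congrArg (· ≫ τ k₀) (hc'.fac s' k₀)
      rw [h, Points.map_comp]
      exact (range_openSubspaceι (D.obj ⟨a⟩) W).le (Set.mem_range_self _)
    refine ⟨m, fun k => pullback.hom_ext ?_ ?_⟩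
    · show (m ≫ pullback.lift _ l (hpc k)) ≫ _ = _
      rw [Category.assoc, pullback.lift_fst, reassoc_of% hm, e.hom_inv_id_assoc]
      exact hc'.fac s' k
    · show (m ≫ pullback.lift _ l (hpc k)) ≫ _ = _
      rw [Category.assoc, pullback.lift_snd, ← cancel_mono w, Category.assoc, Category.assoc, hl,
        reassoc_of% hm, e.hom_inv_id_assoc, reassoc_of% (hsnd k k₀), ← pullback.condition, ← c.w (homOfLE k₀.unop.2).op,
        ← Category.assoc, ← Category.assoc]
      exact congrArg (· ≫ τ k₀) (hc'.fac s' k₀)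
  choose m hm using hlift
  have hcR : IsLimit cR :=
    { lift := m
      fac := hm
      uniq := fun s q hq => by
        rw [← cancel_mono j.hom, ← cancel_mono e.inv]
        refine hc'.hom_ext fun k => ?_
        have h1 := congrArg (· ≫ pullback.fst (τ k) w) ((hq k).trans (hm s k).symm)
        simp only [cR, Category.assoc, pullback.lift_fst] at h1
        simp only [Category.assoc]
        exact h1 }
  have hlfp : AlgSp.LocP @LocallyOfFinitePresentation (cR.π.app k₀ ≫ T'.app k₀) := by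
    have h : cR.π.app k₀ ≫ T'.app k₀ = j.hom ≫ g := by
      show pullback.lift _ l (hpc k₀) ≫ pullback.fst (τ k₀) w ≫ t.app _ = _
      rw [pullback.lift_fst_assoc, Category.assoc, Category.assoc, hg]
    rwa [h]
  haveI := (etLocal_lft.{u}).bc
  obtain ⟨i₀, hi₀⟩ := Groth.Agent.S10011.result S Y R hR T'
    (fun k k' φ => isClosedImmersion_map_restrict (hDc _ _ ((DirRes.incl a).map φ)) (hτ φ)
      (IsPullback.of_hasPullback _ w) (IsPullback.of_hasPullback _ w) (hR1 φ) (hR2 φ))
    cR hcR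
    (fun k => OpenFac.isQuasiCompactSp_of_affine hWs
      (isAffineMor_of_closedImmersion (RepWith.baseChange (IsPullback.of_hasPullback (τ k) w) (hDc _ _ _))) hWq)
    (fun k => locP_comp etLocal_lft (hR k) (hD _) Y.property
      (locP_of_repWith etLocal_lft (hR k) (RepWith.mono (fun _ _ q (_ : IsOpenImmersion q) =>
        (inferInstance : LocallyOfFiniteType q)) (RepWith.baseChange (IsPullback.of_hasPullback (τ k) w).flip hw)))
      (hft _))
    k₀ hlfp
  haveI := hi₀ i₀ (𝟙 i₀)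
  refine ⟨_, cR.π.app i₀ ≫ pullback.fst (τ i₀) w, RepWith.comp (repWith_of_isIso @IsOpenImmersion (cR.π.app i₀))
    (RepWith.baseChange (IsPullback.of_hasPullback (τ i₀) w).flip hw), ?_⟩
  show (pullback.lift _ l (hpc i₀) ≫ pullback.fst (τ i₀) w) ≫ t.app _ = _
  rw [pullback.lift_fst, Category.assoc, Category.assoc, hg]

/-- A quasi-finite separated morphism f : X ⟶ Y of algebraic spaces over S which is moreover locally of
finite presentation, whose target Y is quasi-compact and quasi-separated, factors as a quasi-compact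
representable open immersion j : X ⟶ T followed by a morphism π : T ⟶ Y which is finite and finitely
presented. (The published statement asks Y to be quasi-separated in the absolute sense and puts no
condition on S; this row assumes S quasi-separated and Y quasi-separated over S, which together
imply it.) -/
theorem result {S : Scheme.{u}} [QuasiSeparatedSpace ↥S] {X Y : AlgSp.Space S} (f : X ⟶ Y)
    (hf1 : AlgSp.LocP (@LocallyQuasiFinite ⊓ @LocallyOfFiniteType) f.hom) (hf2 : AlgSp.IsQuasiCompactMor f.hom)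
    (hf3 : AlgSp.IsSeparatedMor f.hom) (hf4 : AlgSp.LocP @LocallyOfFinitePresentation f.hom)
    (hY1 : AlgSp.IsQuasiCompactSp Y.obj) (hY2 : AlgSp.IsQuasiSeparatedSp Y.obj) :
    ∃ (T : AlgSp.Space S) (j : X ⟶ T) (π : T ⟶ Y), j ≫ π = f ∧
      AlgSp.RepWith @IsOpenImmersion j.hom ∧ AlgSp.IsQuasiCompactMor j.hom ∧ AlgSp.IsFiniteMor π.hom ∧
        AlgSp.IsFinitePresentationMor π.hom := by
  obtain ⟨T, j, π, hjπ, hj, hjqc, hπ⟩ := S10647.result f hf1 hf2 hf3 hY1 hY2
  obtain ⟨I, _, _, _, D, t, c, hc, e, hD, hDc, hDt, hce⟩ := S10034.result S π hπ hY1 hY2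
  have hXqc : AlgSp.IsQuasiCompactSp X.obj := OpenFac.isQuasiCompactSp_of_mor X.property Y.property hf2 hY1
  have hfg : j.hom ≫ π.hom = f.hom := congrArg (fun q => q.hom) hjπ
  obtain ⟨i, j', hj', hj'f⟩ := exists_open_stage hj hXqc (g := π.hom) (hfg.symm ▸ hf4) D t c hc e hD hDc
    (fun i => OpenFac.isQuasiCompactSp_of_mor (hD i) Y.property (hDt i).2.2.1 hY1)
    (fun i U W x y h hx hy hxy => by
      have : LocallyOfFinitePresentation h.left := (hDt i).2.1 x y h hx hy hxy
      exact (inferInstance : LocallyOfFiniteType h.left)) hce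
  refine ⟨⟨D.obj i, hD i⟩, ObjectProperty.homMk j', ObjectProperty.homMk (t.app i),
    ObjectProperty.hom_ext _ (hj'f.trans hfg), hj', ?_, (hDt i).1, (hDt i).2⟩
  refine isQuasiCompactMor_cancel X.property (hD i) Y.property ?_ (hDt i).2.2.2
  show AlgSp.IsQuasiCompactMor (j' ≫ t.app i)
  rw [hj'f, hfg]
  exact hf2

end Groth.Agent.S10648
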