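import Groth.Statements.S10649
import Groth.Agent.AlgSpLib.DiscreteFibres
import Groth.Agent.AlgSpLib.LqfScheme
import Groth.Agent.AlgSpLib.MorMore
import Groth.Agent.AlgSpLib.MorQC
import Groth.Agent.AlgSpLib.FpqcBaseAffine2
import Mathlib.AlgebraicGeometry.ZariskisMainTheorem
-- import your own Groth.Agent.* helpers here

set_option autoImplicit false
universe u
open CategoryTheory CategoryTheory.Limits AlgebraicGeometry
open AlgSp

namespace Groth.Agent.S10649

open Groth.Agent.AlgSpLib

/-- The following conditions on a morphism f : X ⟶ Y of algebraic spaces over S are equivalent: (1)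
finiteness of f; (2) f is locally quasi-finite as well as proper (locally quasi-finite and locally
of finite type etale locally); (3) f is proper and for every field k and every k-point Spec k ⟶ Y
the fibre X_k (any pullback of f along it in fppf sheaves) has discrete space of points; (4) f is
universally closed, separated and locally of finite type, and every such fibre X_k has discrete
space of points. -/
theorem result {S : Scheme.{u}} {X Y : AlgSp.Space S} (f : X ⟶ Y) :
    [AlgSp.IsFiniteMor f.hom,
      AlgSp.IsProperMor f.hom ∧ AlgSp.LocP (@LocallyQuasiFinite ⊓ @LocallyOfFiniteType) f.hom,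
      AlgSp.IsProperMor f.hom ∧
        ∀ (k : AlgSp.FieldPt Y.obj) (Xk : AlgSp.Sp S) (fst : Xk ⟶ X.obj) (snd : Xk ⟶ (AlgSp.yon S).obj k.pt),
          IsPullback fst snd f.hom k.toHom → DiscreteTopology (AlgSp.Points Xk),
      AlgSp.IsUnivClosedMor f.hom ∧ AlgSp.IsSeparatedMor f.hom ∧ AlgSp.LocP @LocallyOfFiniteType f.hom ∧
        ∀ (k : AlgSp.FieldPt Y.obj) (Xk : AlgSp.Sp S) (fst : Xk ⟶ X.obj) (snd : Xk ⟶ (AlgSp.yon S).obj k.pt),
          IsPullback fst snd f.hom k.toHom → DiscreteTopology (AlgSp.Points Xk)].TFAE := by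
  tfae_have 1 → 2 := fun h => by
    have hr := (isFiniteMor_iff_repWith f.hom).1 h
    exact ⟨isProperMor_of_repWith X.property Y.property
        (RepWith.mono (fun _ _ g (_ : IsFinite g) => (inferInstance : IsProper g)) hr),
      locP_of_repWith etLocal_lqf X.property (RepWith.mono (fun _ _ g (_ : IsFinite g) =>
        (⟨inferInstance, inferInstance⟩ : (@LocallyQuasiFinite ⊓ @LocallyOfFiniteType : MorphismProperty _) g)) hr)⟩
  tfae_have 2 → 3 := fun ⟨hp, hq⟩ => ⟨hp, fun k Xk fst snd sq => by
    have hXk : AlgSp.IsAlgSpace Xk := isAlgSpace_of_isPullback Y.property.diag X.property (IsAlgSpace.yon_obj _) sq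
    obtain ⟨U, a, hae, has⟩ := hXk.atlas
    obtain ⟨p, hp'⟩ := (AlgSp.yon S).map_surjective (a ≫ snd)
    have hs := locP_of_isPullback etLocal_lqf X.property Y.property hXk sq hq a (𝟙 _) p hae (repWith_id _ _)
      (by rw [Category.comp_id, hp'])
    have : LocallyQuasiFinite p.left := hs.1
    have : Subsingleton ↥k.pt.left := inferInstanceAs (Subsingleton ↥(Spec (CommRingCat.of k.K)))
    have hU : DiscreteTopology ↥U.left := discreteTopology_iff_isOpen_singleton.2 fun x => by
      have := (p.left.isDiscrete_preimage_singleton (p.left x)).to_subtype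
      obtain ⟨O, hO, hO'⟩ := isOpen_induced_iff.1 (isOpen_discrete ({⟨x, rfl⟩} : Set (p.left ⁻¹' {p.left x})))
      have : O = {x} := Set.ext fun y => ⟨fun hy => congr(Subtype.val $(hO'.subset (show (⟨y, Subsingleton.elim _ _⟩ : (p.left ⁻¹' {p.left x})) ∈ Subtype.val ⁻¹' O from hy))),
        fun hy => (Set.mem_singleton_iff.1 hy) ▸ (hO'.ge rfl)⟩
      rwa [this] at hO
    refine discreteTopology_iff_isOpen_singleton.2 fun z => ?_
    obtain ⟨u, rfl⟩ := surjective_ofPt a has z
    simpa using isOpenMap_ofPt a hae _ (isOpen_discrete ({u} : Set ↥U.left))⟩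
  tfae_have 3 → 4 := fun ⟨hp, hd⟩ => ⟨hp.2.2, hp.1, hp.2.1.1, hd⟩
  tfae_have 4 → 1 := fun ⟨hc, hs, hl, hd⟩ => by
    have hq := locP_lqf_of_discrete_fibres X.property Y.property hl hd
    have hr := representable_of_lqf_separated' X.property Y.property f.hom hs hq
    refine (isFiniteMor_iff_repWith f.hom).2 (RepWith.mono
      (P := (@UniversallyClosed ⊓ (@LocallyQuasiFinite ⊓ @LocallyOfFiniteType)) ⊓ MorphismProperty.diagonal @IsClosedImmersion)
      (fun A B g h => ?_) (RepWith.and (RepWith.and ((repWith_universallyClosed_iff hr).2 hc)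
        ((repWith_iff_locP etLocal_lqf X.property Y.property hr).2 hq)) ((repWith_diagonal_iff hr).1 hs)))
    have : UniversallyClosed g := h.1.1
    have : LocallyQuasiFinite g := h.1.2.1
    have : LocallyOfFiniteType g := h.1.2.2
    have : IsSeparated g := ⟨h.2⟩
    have : IsProper g := {}
    exact IsFinite.of_isProper_of_locallyQuasiFinite g
  tfae_finish

end Groth.Agent.S10649
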