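import Groth.Statements.S10651
import Groth.Agent.AlgSpLib.ProperImage
import Groth.Agent.AlgSpLib.SchImage
import Groth.Agent.AlgSpLib.ProperQF
import Groth.Agent.AlgSpLib.FibreQF
import Groth.Agent.AlgSpLib.FibreEmbedding
import Groth.Agent.S10281
import Groth.Agent.S10390

set_option autoImplicit false
universe u
open CategoryTheory CategoryTheory.Limits AlgebraicGeometry
open AlgSp

namespace Groth.Agent.S10651

open Groth.Agent.AlgSpLib

set_option backward.isDefEq.respectTransparency.types false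
set_option backward.isDefEq.respectTransparency false

section
variable {S : Scheme.{u}}

/-- the fibre of the image is finite when the image of the fibre is -/
theorem finite_points_fibre_a {X Y B Z : AlgSp.Space S} {h : X ⟶ Y} {g : Y ⟶ B} {i : Z ⟶ Y} {h' : X ⟶ Z}
    (hi : RepWith @IsClosedImmersion i.hom) (fac : h'.hom ≫ i.hom = h.hom)
    (hsurj : Function.Surjective (Points.map h'.hom)) (k : FieldPt B.obj)
    (ha : ∀ (Yk : Sp S) (gY : Yk ⟶ Y.obj) (sY : Yk ⟶ (yon S).obj k.pt),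
      IsPullback gY sY g.hom k.toHom →
      ∀ (Xk : Sp S) (gX : Xk ⟶ X.obj) (hk' : Xk ⟶ Yk), IsPullback gX hk' h.hom gY →
        (Set.range (Points.map hk')).Finite) :
    Finite (Points (pullback (i.hom ≫ g.hom) k.toHom)) := by
  let gY := pullback.fst g.hom k.toHom
  let sY := pullback.snd g.hom k.toHom
  let m : pullback (i.hom ≫ g.hom) k.toHom ⟶ pullback g.hom k.toHom :=
    pullback.lift (pullback.fst _ _ ≫ i.hom) (pullback.snd _ _) (by rw [Category.assoc, pullback.condition])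
  have sqm : IsPullback (pullback.fst (i.hom ≫ g.hom) k.toHom) m i.hom gY := by
    refine IsPullback.of_bot (v₂₁ := sY) (v₂₂ := g.hom) ?_ (pullback.lift_fst _ _ _).symm
      (IsPullback.of_hasPullback g.hom k.toHom)
    rw [pullback.lift_snd]
    exact IsPullback.of_hasPullback _ _
  obtain ⟨Xk, gX, l, sqX⟩ : ∃ (Xk : Sp S) (gX : Xk ⟶ X.obj) (l : Xk ⟶ pullback (i.hom ≫ g.hom) k.toHom),
      IsPullback gX l h'.hom (pullback.fst (i.hom ≫ g.hom) k.toHom) :=
    ⟨_, _, _, IsPullback.of_hasPullback _ _⟩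
  have hfin : (Set.range (Points.map (l ≫ m))).Finite := by
    refine ha _ gY sY (IsPullback.of_hasPullback _ _) Xk gX (l ≫ m) ?_
    rw [← fac]
    exact sqX.paste_vert sqm
  haveI : Mono i.hom := mono_of_repWith (fun _ _ g (_ : IsClosedImmersion g) => inferInstance) hi
  haveI : Mono m := by
    refine ⟨fun {W} a b e => sqm.hom_ext ?_ e⟩
    rw [← cancel_mono i.hom, Category.assoc, Category.assoc, sqm.w, ← Category.assoc, e, Category.assoc]
  haveI := hfin.to_subtype
  refine Finite.of_injective (β := Set.range (Points.map (l ≫ m))) (fun z => ⟨Points.map m z, ?_⟩) fun a b e =>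
    injective_map_of_mono m (congrArg Subtype.val e)
  obtain ⟨x, rfl⟩ := surjective_map_of_isPullback sqX hsurj z
  exact ⟨x, Points.map_comp _ _ _⟩

/-- the fibre of the image over a quasi-compact monomorphic point is finite when the image of the fibre is -/
theorem finite_points_fibre_b {X Y B Z : AlgSp.Space S} {h : X ⟶ Y} {g : Y ⟶ B} {i : Z ⟶ Y} {h' : X ⟶ Z}
    (hi : RepWith @IsClosedImmersion i.hom) (fac : h'.hom ≫ i.hom = h.hom)
    (hsurj : Function.Surjective (Points.map h'.hom)) (k : FieldPt B.obj) (hm : Mono k.toHom)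
    (hq : RepWith @QuasiCompact k.toHom)
    (hb : (Points.map h.hom '' (Points.map (h.hom ≫ g.hom) ⁻¹' {Points.mk k})).Finite) :
    Finite (Points (pullback (i.hom ≫ g.hom) k.toHom)) := by
  have hP : IsAlgSpace (pullback (i.hom ≫ g.hom) k.toHom) :=
    isAlgSpace_of_isPullback B.property.diag Z.property (IsAlgSpace.yon_obj _) (IsPullback.of_hasPullback _ _)
  obtain ⟨h1, h2⟩ := Groth.Agent.S10390.result (Y := B) (i ≫ g) k hm hq
    ⟨_, hP⟩ (ObjectProperty.homMk (pullback.fst _ _)) (pullback.snd _ _) (IsPullback.of_hasPullback _ _)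
  have hinj : Function.Injective (Points.map i.hom ∘ Points.map (pullback.fst (i.hom ≫ g.hom) k.toHom)) :=
    (isEmbedding_map_of_closedImmersion Y.property hi).injective.comp h1.injective
  haveI := hb.to_subtype
  refine Finite.of_injective (β := ↥(Points.map h.hom '' (Points.map (h.hom ≫ g.hom) ⁻¹' {Points.mk k})))
    (fun z => ⟨Points.map i.hom (Points.map (pullback.fst (i.hom ≫ g.hom) k.toHom) z), ?_⟩)
    fun a b e => hinj (congrArg Subtype.val e)
  have hz : Points.map (i.hom ≫ g.hom) (Points.map (pullback.fst (i.hom ≫ g.hom) k.toHom) z) = Points.mk k :=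
    h2.le ⟨z, rfl⟩
  obtain ⟨x, hx⟩ := hsurj (Points.map (pullback.fst (i.hom ≫ g.hom) k.toHom) z)
  rw [← hx] at hz ⊢
  refine ⟨x, ?_, ?_⟩
  · show Points.map (h.hom ≫ g.hom) x = Points.mk k
    rw [← fac, Category.assoc, Points.map_comp]
    exact hz
  · rw [← fac, Points.map_comp]

end

/-- Consider morphisms h : X ⟶ Y, f : X ⟶ B, g : Y ⟶ B of algebraic spaces over S with h ≫ g = f, a
point b of |B| and a field point k of B in the class of b. Assume f is proper, g is separated and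
locally of finite type, and either (a) for the fibres X_k ⟶ Y_k of h over k (pullbacks in fppf
sheaves) the image of |X_k| in |Y_k| is finite, or (b) the image in |Y| of the fibre of |X| ⟶ |B|
over b is finite and B is decent. Then over some open subspace B' of B containing b the base change
X_{B'} ⟶ Y_{B'} of h lands in a closed subspace Z of Y_{B'} that is finite over B' (it factors
through Z). -/
theorem result {S : Scheme.{u}} {X Y B : AlgSp.Space S} (h : X ⟶ Y) (f : X ⟶ B) (g : Y ⟶ B) (hc : h ≫ g = f)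
    (b : AlgSp.Points B.obj) (k : AlgSp.FieldPt B.obj) (hk : AlgSp.Points.mk k = b)
    (hf : AlgSp.IsProperMor f.hom) (hg1 : AlgSp.IsSeparatedMor g.hom) (hg2 : AlgSp.LocP @LocallyOfFiniteType g.hom)
    (h3 : (∀ (Yk : AlgSp.Sp S) (gY : Yk ⟶ Y.obj) (sY : Yk ⟶ (AlgSp.yon S).obj k.pt),
            IsPullback gY sY g.hom k.toHom →
            ∀ (Xk : AlgSp.Sp S) (gX : Xk ⟶ X.obj) (hk' : Xk ⟶ Yk), IsPullback gX hk' h.hom gY →
              (Set.range (AlgSp.Points.map hk')).Finite) ∨
          ((AlgSp.Points.map h.hom '' (AlgSp.Points.map f.hom ⁻¹' {b})).Finite ∧ AlgSp.IsDecent B.obj)) :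
    ∃ (B' : AlgSp.Space S) (j : B' ⟶ B), AlgSp.RepWith @IsOpenImmersion j.hom ∧
      b ∈ Set.range (AlgSp.Points.map j.hom) ∧
        ∀ (YB : AlgSp.Space S) (gY : YB ⟶ Y) (sY : YB ⟶ B'), IsPullback gY.hom sY.hom g.hom j.hom →
          ∀ (XB : AlgSp.Space S) (gX : XB ⟶ X) (hB : XB ⟶ YB), IsPullback gX.hom hB.hom h.hom gY.hom →
            ∃ (Z : AlgSp.Space S) (i : Z ⟶ YB) (e : XB ⟶ Z), AlgSp.RepWith @IsClosedImmersion i.hom ∧
              AlgSp.IsFiniteMor (i ≫ sY).hom ∧ e ≫ i = hB := by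
  subst hc
  obtain ⟨Z, hZ, iZ, hsch⟩ : ∃ (Z : Sp S) (hZ : IsAlgSpace Z) (iZ : Z ⟶ Y.obj), IsSchImage h.hom iZ := by
    obtain ⟨Z, iZ, hZ, hi⟩ := exists_isSchImage X.property Y.property h.hom
    exact ⟨Z, hZ, iZ, hi⟩
  obtain ⟨h', fac⟩ := hsch.2.1
  let Z' : AlgSp.Space S := ⟨Z, hZ⟩
  let i : Z' ⟶ Y := ObjectProperty.homMk iZ
  let hh : X ⟶ Z' := ObjectProperty.homMk h'
  have fac' : hh ≫ i = h := ObjectProperty.hom_ext _ fac
  obtain ⟨hq, hsurj⟩ := Groth.Agent.S10281.result h (h ≫ g) g rfl hf hg1 hg2 i hsch hh fac'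
  have hqf : ∃ r : FieldPt B.obj, Points.mk r = b ∧ Finite (Points (pullback (i.hom ≫ g.hom) r.toHom)) := by
    rcases h3 with ha | ⟨hb, hdec⟩
    · exact ⟨k, hk, finite_points_fibre_a (i := i) (h' := hh) hsch.1 fac hsurj k ha⟩
    · obtain ⟨r, hr, hm, hqc⟩ := hdec b
      refine ⟨r, hr, finite_points_fibre_b (i := i) (h' := hh) hsch.1 fac hsurj r hm hqc ?_⟩
      rw [hr]
      exact hb
  obtain ⟨r, hr, hfin⟩ := hqf
  obtain ⟨B', j, hj, hbj, hV⟩ := exists_finite_nhd_of_proper (i ≫ g) b hq fun z hz =>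
    lqf_of_finite_field_fibre Z'.property B.property hq.2.1.1 (isQuasiSeparatedMor_of_isSeparatedMor hq.1) r
      (IsPullback.of_hasPullback _ _) hfin (hz.trans hr.symm)
  refine ⟨B', j, hj, hbj, fun YB gY sY sqY XB gX hB sqX => ?_⟩
  have sqP := IsPullback.of_hasPullback (i.hom ≫ g.hom) j.hom
  let P : AlgSp.Space S := ⟨_, isAlgSpace_of_isPullback B.property.diag Z'.property B'.property sqP⟩
  let m : P.obj ⟶ YB.obj := sqY.lift (pullback.fst _ _ ≫ i.hom) (pullback.snd _ _)
    (by rw [Category.assoc]; exact sqP.w)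
  have sqm : IsPullback (pullback.fst (i.hom ≫ g.hom) j.hom) m i.hom gY.hom := by
    refine IsPullback.of_bot (v₂₁ := sY.hom) (v₂₂ := g.hom) ?_ (sqY.lift_fst _ _ _).symm sqY
    rw [sqY.lift_snd]
    exact sqP
  haveI := IsClosedImmersion.isStableUnderBaseChange
  let e : XB.obj ⟶ P.obj := sqm.lift (gX.hom ≫ hh.hom) hB.hom (by
    rw [Category.assoc, show hh.hom ≫ i.hom = h.hom from fac]; exact sqX.w)
  refine ⟨P, ObjectProperty.homMk m, ObjectProperty.homMk e, RepWith.baseChange sqm hsch.1, ?_,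
    ObjectProperty.hom_ext _ (sqm.lift_snd _ _ _)⟩
  show IsFiniteMor (m ≫ sY.hom)
  rw [sqY.lift_snd]
  exact hV _ _ _ sqP

end Groth.Agent.S10651
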