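import Groth.Statements.S10652
import Groth.Agent.AlgSpLib.SchDenseCharts
import Groth.Agent.AlgSpLib.MorQC
import Groth.Agent.S9968
import Groth.Agent.S0451
-- import your own Groth.Agent.* helpers here

set_option autoImplicit false
universe u
open CategoryTheory CategoryTheory.Limits AlgebraicGeometry
open AlgSp

namespace Groth.Agent.S10652

set_option backward.isDefEq.respectTransparency.types false

open Groth.Agent.AlgSpLib in
theorem exists_open_square {S : Scheme.{u}} {G F : Sp S} {j : G ⟶ F} (hj : RepWith @IsOpenImmersion j)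
    {V : Over S} (φ : (yon S).obj V ⟶ F) :
    ∃ (W : V.left.Opens) (fst : (yon S).obj (Over.mk (W.ι ≫ V.hom)) ⟶ G),
      IsPullback fst ((yon S).map (Over.homMk W.ι rfl : Over.mk (W.ι ≫ V.hom) ⟶ V)) j φ := by
  have sq := hj.1.isPullback φ
  have : IsOpenImmersion (hj.1.snd φ).left := hj.property_snd φ
  let W := (hj.1.snd φ).left.opensRange
  let j' : Over.mk (W.ι ≫ V.hom) ⟶ V := Over.homMk W.ι rfl
  let e : hj.1.pullback φ ≅ Over.mk (W.ι ≫ V.hom) :=
    Over.isoMk ((hj.1.snd φ).left.isoOpensRange) (by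
      show (hj.1.snd φ).left.isoOpensRange.hom ≫ W.ι ≫ V.hom = _
      rw [Scheme.Hom.isoOpensRange_hom_ι_assoc, Over.w])
  have he : e.hom ≫ j' = hj.1.snd φ := Over.OverMorphism.ext (Scheme.Hom.isoOpensRange_hom_ι _)
  refine ⟨W, (yon S).map e.inv ≫ hj.1.fst φ, sq.of_iso ((yon S).mapIso e) (Iso.refl _) (Iso.refl _) (Iso.refl _) ?_ ?_ (by simp) (by simp)⟩
  · simp
  · rw [Iso.refl_hom, Category.comp_id, Functor.mapIso_hom, ← Functor.map_comp]
    exact congrArg _ he.symm

/-- For a flat morphism f : X ⟶ Y of algebraic spaces over S which is locally of finite type, and an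
open subspace j : V ⟶ Y which is quasi-compact (as a morphism) and scheme theoretically dense (on
some etale surjective scheme chart its inverse image is a schematically dense open): if the base
change X ×_Y V ⟶ V is locally of finite presentation then so is f. -/
theorem result {S : Scheme.{u}} {X Y V : AlgSp.Space S} (f : X ⟶ Y) (j : V ⟶ Y)
    (hf1 : AlgSp.LocP @LocallyOfFiniteType f.hom) (hf2 : AlgSp.LocP @Flat f.hom)
    (hj1 : AlgSp.IsQuasiCompactMor j.hom) (hj2 : AlgSp.IsSchDense j.hom)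
    (P : AlgSp.Space S) (fst : P ⟶ X) (snd : P ⟶ V) (hP : IsPullback fst.hom snd.hom f.hom j.hom)
    (hV : AlgSp.LocP @LocallyOfFinitePresentation snd.hom) :
    AlgSp.LocP @LocallyOfFinitePresentation f.hom := by
  intro A B a b h ha hb w
  obtain ⟨W, fstW, sqW⟩ := exists_open_square hj2.1 b
  have hd : CInt.IsSchematicallyDense W := S9968.result j hj2 B b hb W fstW sqW
  have hqc : AlgSp.RepWith @QuasiCompact j.hom :=
    (Groth.Agent.AlgSpLib.repWith_quasiCompact_iff V.property Y.property hj2.1.1).2 hj1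
  have : QuasiCompact W.ι := hqc.property _ _ _ sqW
  have : IsSchemeTheoreticallyDominant W.ι := by
    rw [isSchemeTheoreticallyDominant_iff]
    refine Scheme.IdealSheafData.ext (funext fun O => ?_)
    rw [Scheme.Hom.ker_apply, Scheme.IdealSheafData.ideal_bot, Pi.bot_apply, ← le_bot_iff]
    intro s hs
    rw [RingHom.mem_ker, Scheme.Opens.ι_app] at hs
    have hD : O.1 ⊓ W ≤ W.ι ''ᵁ W.ι ⁻¹ᵁ O.1 := by
      rw [Scheme.Hom.image_preimage_eq_opensRange_inf, Scheme.Opens.opensRange_ι, inf_comm]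
    show s = 0
    refine hd O.1 (Eq.trans ?_ (map_zero _).symm)
    refine Eq.trans ?_ ((congrArg (B.left.presheaf.map (homOfLE hD).op).hom hs).trans (map_zero _))
    exact ConcreteCategory.congr_hom
      ((congrArg B.left.presheaf.map (Subsingleton.elim _ _)).trans (B.left.presheaf.map_comp _ _)) s
  let A' : Over S := Over.mk ((h.left ⁻¹ᵁ W).ι ≫ A.hom)
  let iA : A' ⟶ A := Over.homMk (h.left ⁻¹ᵁ W).ι rfl
  let iB : Over.mk (W.ι ≫ B.hom) ⟶ B := Over.homMk W.ι rfl
  let h' : A' ⟶ Over.mk (W.ι ≫ B.hom) := Over.homMk (h.left ∣_ W) (by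
    show (h.left ∣_ W) ≫ W.ι ≫ B.hom = (h.left ⁻¹ᵁ W).ι ≫ A.hom
    rw [← Category.assoc, morphismRestrict_ι, Category.assoc, Over.w h])
  have hAh : iA ≫ h = h' ≫ iB := Over.OverMorphism.ext (morphismRestrict_ι _ _).symm
  let a' : (AlgSp.yon S).obj A' ⟶ P.obj := hP.lift ((AlgSp.yon S).map iA ≫ a) ((AlgSp.yon S).map h' ≫ fstW)
    (by rw [Category.assoc, Category.assoc, w, sqW.w, ← Functor.map_comp_assoc, ← Functor.map_comp_assoc, hAh])
  have hfst : AlgSp.RepWith @IsOpenImmersion fst.hom := Groth.Agent.AlgSpLib.RepWith.baseChange hP.flip hj2.1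
  have : Mono fst.hom :=
    Groth.Agent.AlgSpLib.mono_of_repWith (fun _ _ g (_ : IsOpenImmersion g) => (inferInstance : Mono g)) hfst
  have ha' : AlgSp.RepWith @Etale a' := Groth.Agent.AlgSpLib.repWith_of_comp_mono a' fst.hom (by
    rw [hP.lift_fst]
    exact Groth.Agent.AlgSpLib.RepWith.comp
      ((AlgSp.repWith_yon_map_iff _ iA).2 (inferInstanceAs (Etale (h.left ⁻¹ᵁ W).ι))) ha)
  have : LocallyOfFinitePresentation (h.left ∣_ W) := hV a' fstW h' ha'
    (Groth.Agent.AlgSpLib.RepWith.baseChange sqW.flip hb) (hP.lift_snd _ _ _)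
  have : LocallyOfFiniteType h.left := hf1 a b h ha hb w
  have : Flat h.left := hf2 a b h ha hb w
  exact S0451.result h.left W

end Groth.Agent.S10652
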