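import Groth.Statements.S10654
import Groth.Agent.AlgSpLib.RelDimDense
-- import your own Groth.Agent.* helpers here

set_option autoImplicit false
universe u
open CategoryTheory CategoryTheory.Limits AlgebraicGeometry
open AlgSp

namespace Groth.Agent.S10654

set_option backward.isDefEq.respectTransparency.types false

/-- For a flat proper morphism f : X ⟶ Y of algebraic spaces over S and an open subspace j : V ⟶ Y with
|V| dense in |Y| such that the base change X ×_Y V ⟶ V is finite: f is finite over all of Y,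
provided either j is quasi-compact or f is locally of finite presentation. -/
theorem result {S : Scheme.{u}} {X Y V : AlgSp.Space S} (f : X ⟶ Y) (j : V ⟶ Y)
    (hf1 : AlgSp.LocP @Flat f.hom) (hf2 : AlgSp.IsProperMor f.hom)
    (hj1 : AlgSp.RepWith @IsOpenImmersion j.hom) (hj2 : Dense (Set.range (AlgSp.Points.map j.hom)))
    (P : AlgSp.Space S) (fst : P ⟶ X) (snd : P ⟶ V) (hP : IsPullback fst.hom snd.hom f.hom j.hom)
    (hV : AlgSp.IsFiniteMor snd.hom)
    (h : AlgSp.LocP @LocallyOfFinitePresentation f.hom ∨ AlgSp.IsQuasiCompactMor j.hom) :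
    AlgSp.IsFiniteMor f.hom := by
  rw [Groth.Agent.AlgSpLib.isFiniteMor_iff_repWith] at hV ⊢
  have hq : AlgSp.LocP (@LocallyQuasiFinite ⊓ @LocallyOfFiniteType) snd.hom := by
    refine AlgSpLib.locP_of_repWith AlgSpLib.etLocal_lqf P.property (AlgSpLib.RepWith.mono ?_ hV)
    intro A B g (hg : IsFinite g)
    exact ⟨inferInstance, inferInstance⟩
  have h0 := Groth.Agent.AlgSpLib.relDim_le_of_dense X.property Y.property V.property 0 hf1 hf2.2.1.1 hj1 hj2 hP
    (fun x => by
      obtain ⟨U, B, a, b, g, u, ha, hb, w, e, H⟩ := AlgSpLib.relDim_zero_of_locP_lqf P.property V.property hq x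
      exact ⟨U, B, a, b, g, u, ha, hb, w, e, le_of_eq H⟩) h
  refine AlgSpLib.repWith_isFinite_of_proper_lqf X.property Y.property hf2
    (AlgSpLib.locP_lqf_of_relDim_zero X.property Y.property hf2.2.1.1 fun x => ?_)
  obtain ⟨U, B, a, b, g, u, ha, hb, w, e, H⟩ := h0 x
  exact ⟨U, B, a, b, g, u, ha, hb, w, e, le_antisymm H (AlgSpLib.fibreDimAt_nonneg _ _)⟩

end Groth.Agent.S10654
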