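import Groth.Statements.S10655
import Groth.Agent.AlgSpLib.MonoLft
import Groth.Agent.AlgSpLib.SchDense
import Groth.Agent.S0449
-- import your own Groth.Agent.* helpers here

set_option autoImplicit false
universe u
open CategoryTheory CategoryTheory.Limits AlgebraicGeometry
open AlgSp

namespace Groth.Agent.S10655

set_option backward.isDefEq.respectTransparency.types false

/-- For a separated flat morphism f : X ⟶ Y of algebraic spaces over S which is locally of finite type,
and an open subspace j : V ⟶ Y which is quasi-compact and scheme theoretically dense (on some etale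
surjective scheme chart its inverse image is a schematically dense open): if the base change X ×_Y V
⟶ V is an isomorphism then f is a representable open immersion. -/
theorem result {S : Scheme.{u}} {X Y V : AlgSp.Space S} (f : X ⟶ Y) (j : V ⟶ Y)
    (hf1 : AlgSp.IsSeparatedMor f.hom) (hf2 : AlgSp.LocP @LocallyOfFiniteType f.hom) (hf3 : AlgSp.LocP @Flat f.hom)
    (hj1 : AlgSp.IsQuasiCompactMor j.hom) (hj2 : AlgSp.IsSchDense j.hom)
    (P : AlgSp.Space S) (fst : P ⟶ X) (snd : P ⟶ V) (hP : IsPullback fst.hom snd.hom f.hom j.hom)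
    (hV : IsIso snd.hom) :
    AlgSp.RepWith @IsOpenImmersion f.hom := by
  have hsn : IsIso snd.hom := hV
  haveI : Mono j.hom := AlgSpLib.mono_of_repWith (fun _ _ g (_ : IsOpenImmersion g) => inferInstance) hj2.1
  have hmono : Mono f.hom := by
    obtain ⟨P2, p₁, p₂, sq2⟩ : ∃ (P2 : AlgSp.Sp S) (p₁ p₂ : P2 ⟶ X.obj), IsPullback p₁ p₂ f.hom f.hom :=
      ⟨_, _, _, IsPullback.of_hasPullback _ _⟩
    have hP2 := AlgSpLib.isAlgSpace_of_isPullback Y.property.diag X.property X.property sq2
    obtain ⟨T, r, jT, sqT⟩ : ∃ (T : AlgSp.Sp S) (r : T ⟶ V.obj) (jT : T ⟶ P2),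
        IsPullback r jT j.hom (p₁ ≫ f.hom) := ⟨_, _, _, IsPullback.of_hasPullback _ _⟩
    have hfl : AlgSp.LocP @Flat (p₁ ≫ f.hom) := AlgSpLib.locP_comp AlgSpLib.etLocal_flat hP2 X.property Y.property
      (AlgSpLib.locP_of_isPullback AlgSpLib.etLocal_flat X.property Y.property hP2 sq2.flip hf3) hf3
    have hd := AlgSpLib.isSchDense_preimage_of_flat hP2 Y.property V.property hfl hj2 hj1 sqT
    have heq : jT ≫ p₁ = jT ≫ p₂ := by
      let a := hP.lift (jT ≫ p₁) r (by rw [Category.assoc, sqT.w])
      let b := hP.lift (jT ≫ p₂) r (by rw [Category.assoc, ← sq2.w, sqT.w])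
      have hab : a = b := by rw [← cancel_mono snd.hom, hP.lift_snd, hP.lift_snd]
      rw [← hP.lift_fst (jT ≫ p₁) r (by rw [Category.assoc, sqT.w]),
        ← hP.lift_fst (jT ≫ p₂) r (by rw [Category.assoc, ← sq2.w, sqT.w])]
      exact congrArg (· ≫ fst.hom) hab
    have e := AlgSpLib.eq_of_isSchImage_top hP2 X.property Y.property hf1 sq2.w
      (AlgSpLib.isSchImage_top_of_isSchDense hd) heq
    refine ⟨fun u v huv => ?_⟩
    exact ((sq2.lift_fst u v huv).symm.trans (congrArg (sq2.lift u v huv ≫ ·) e)).trans (sq2.lift_snd u v huv)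
  obtain ⟨hrep, -, -⟩ := AlgSpLib.mono_lft_package X.property Y.property hf2
  obtain ⟨hjo, V0, φ, W, fstW, he, hs, sqW, hd⟩ := hj2
  have sqX := hrep.isPullback φ
  have := AlgSpLib.isLocallySurjective_of_etale he hs
  refine AlgSpLib.repWith_of_isLocallySurjective hrep φ sqX _ ((AlgSp.repWith_yon_map_iff _ _).2 ?_)
  have : LocallyOfFiniteType (hrep.snd φ).left :=
    ((AlgSpLib.repWith_iff_locP AlgSpLib.etLocal_lft X.property Y.property hrep).2 hf2).property_snd φ
  have : Flat (hrep.snd φ).left :=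
    ((AlgSpLib.repWith_iff_locP AlgSpLib.etLocal_flat X.property Y.property hrep).2 hf3).property_snd φ
  have hm : Mono ((AlgSp.yon S).map (hrep.snd φ)) := sqX.mono_snd_of_mono
  have : Mono (hrep.snd φ) := (AlgSp.yon S).mono_of_mono_map hm
  have : Mono (hrep.snd φ).left := (Over.forget S).map_mono (hrep.snd φ)
  have : IsSchemeTheoreticallyDominant W.ι := ⟨AlgSpLib.ker_ι_eq_bot_of_dense hd⟩
  have : QuasiCompact W.ι := ((AlgSpLib.repWith_quasiCompact_iff V.property Y.property hjo.1).2 hj1).2 _ _ _ sqW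
  have : IsIso ((hrep.snd φ).left ∣_ W) := by
    let T : Over S := Over.mk (pullback.fst (hrep.snd φ).left W.ι ≫ (hrep.pullback φ).hom)
    let x : T ⟶ hrep.pullback φ := Over.homMk (pullback.fst (hrep.snd φ).left W.ι)
    let y : T ⟶ Over.mk (W.ι ≫ V0.hom) := Over.homMk (pullback.snd (hrep.snd φ).left W.ι) (by
      show pullback.snd (hrep.snd φ).left W.ι ≫ W.ι ≫ V0.hom =
        pullback.fst (hrep.snd φ).left W.ι ≫ (hrep.pullback φ).hom
      rw [← Category.assoc, ← pullback.condition, Category.assoc, Over.w (hrep.snd φ)])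
    have sqO : IsPullback x y (hrep.snd φ) (Over.homMk W.ι rfl : Over.mk (W.ι ≫ V0.hom) ⟶ V0) :=
      IsPullback.of_map (Over.forget S) (Over.OverMorphism.ext pullback.condition)
        (IsPullback.of_hasPullback (hrep.snd φ).left W.ι)
    have big := (sqO.map (AlgSp.yon S)).paste_horiz sqX
    rw [← sqW.w] at big
    let m := hP.lift ((AlgSp.yon S).map x ≫ hrep.fst φ) ((AlgSp.yon S).map y ≫ fstW)
      (by rw [big.w, Category.assoc])
    have sqm : IsPullback m ((AlgSp.yon S).map y) snd.hom fstW :=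
      IsPullback.of_right (by rw [hP.lift_fst]; exact big) (hP.lift_snd _ _ _) hP
    have hy : IsIso ((AlgSp.yon S).map y) := sqm.isIso_snd_of_isIso
    have : IsIso y := isIso_of_reflects_iso y (AlgSp.yon S)
    have : IsIso (pullback.snd (hrep.snd φ).left W.ι) := inferInstanceAs (IsIso ((Over.forget S).map y))
    rw [← (isPullback_morphismRestrict (hrep.snd φ).left W).flip.isoPullback_hom_snd]
    infer_instance
  exact Groth.Agent.S0449.result _ W

end Groth.Agent.S10655
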