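import Groth.Statements.S10656
import Groth.Agent.AlgSpLib.GraphModel
import Groth.Agent.H8Lim.ChowPn
-- import your own Groth.Agent.* helpers here

set_option autoImplicit false
universe u
open CategoryTheory CategoryTheory.Limits AlgebraicGeometry
open AlgSp

namespace Groth.Agent.S10656

open Groth.Agent.AlgSpLib Groth.Agent.AlgSpLib.GraphModel

set_option backward.isDefEq.respectTransparency false
set_option backward.isDefEq.respectTransparency.types false
set_option linter.style.haveILetI false
set_option maxHeartbeats 800000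

theorem surjective_comp {S : Scheme.{u}} {A B C : Sp S} {f : A ⟶ B} {g : B ⟶ C}
    (hf : Function.Surjective (Points.map f)) (hg : Function.Surjective (Points.map g)) :
    Function.Surjective (Points.map (f ≫ g)) := by
  intro x
  obtain ⟨y, rfl⟩ := hg x
  obtain ⟨z, rfl⟩ := hf y
  exact ⟨z, Points.map_comp _ _ _⟩

theorem quasiSeparatedSpace_of_sp {S : Scheme.{u}} [QuasiSeparatedSpace ↥S] {W : Over S}
    (h : IsQuasiSeparatedSp ((yon S).obj W)) : QuasiSeparatedSpace W.left := by
  haveI : QuasiSeparated W.hom := (isQuasiSeparatedMor_yon_map_iff (Over.homMk W.hom : W ⟶ Over.mk (𝟙 S))).1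
    ((isQuasiSeparatedMor_iff_sp _).2 h)
  exact quasiSeparatedSpace_of_quasiSeparated W.hom

/-- (a variant of Chow's lemma) for an algebraic space Y over S which is quasi-compact and
quasi-separated and a separated morphism f : X ⟶ Y of finite type, there are an algebraic space X',
a proper surjective morphism X' ⟶ X, a representable open immersion X' ⟶ X̄' and a proper
representable morphism X̄' ⟶ Y forming a commutative diagram over Y. (The published statement asks Y
to be quasi-separated in the absolute sense and puts no condition on S; this row assumes S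
quasi-separated and Y quasi-separated over S, which together imply it.) -/
theorem result {S : Scheme.{u}} [QuasiSeparatedSpace ↥S] {X Y : AlgSp.Space S} (f : X ⟶ Y)
    (hY1 : AlgSp.IsQuasiCompactSp Y.obj) (hY2 : AlgSp.IsQuasiSeparatedSp Y.obj)
    (hf1 : AlgSp.IsSeparatedMor f.hom) (hf2 : AlgSp.IsFiniteTypeMor f.hom) :
    ∃ (X' Xb : AlgSp.Space S) (a : X' ⟶ X) (b : X' ⟶ Xb) (c : Xb ⟶ Y), b ≫ c = a ≫ f ∧
      AlgSp.IsProperMor a.hom ∧ AlgSp.IsSurjectiveMor a.hom ∧ AlgSp.RepWith @IsOpenImmersion b.hom ∧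
        AlgSp.IsProperMor c.hom ∧ AlgSp.Representable c.hom := by
  haveI := compactSpace_points_of_isQuasiCompactSp hY1
  obtain ⟨V, v, -, hve, hvs⟩ := exists_affine_chart Y.property
  obtain ⟨Y', g, hg, hgs, -, -⟩ := Groth.Agent.S10048.result S Y hY1 hY2 V v hve hvs
  have hY' := IsAlgSpace.yon_obj Y'
  have hgp : IsProperMor g := ((Groth.Agent.S10271.result (X := (AlgSp.ofScheme S).obj Y') (Y := Y)
    (ObjectProperty.homMk g)).1 hg).2
  have hY'c := OpenFac.isQuasiCompactSp_of_mor hY' Y.property hgp.2.1.2 hY1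
  have hY's := ProperSt.isQuasiSeparatedSp_of_separated hgp.1 hY2
  haveI := compactSpace_of_isQuasiCompactSp_yon hY'c
  haveI := quasiSeparatedSpace_of_sp hY's
  have sqX := IsPullback.of_hasPullback f.hom g
  let X₁ : AlgSp.Space S := ⟨pullback f.hom g, isAlgSpace_of_isPullback Y.property.diag X.property hY' sqX⟩
  have hfs : IsSeparatedMor (pullback.snd f.hom g) := isSeparatedMor_of_isPullback sqX hf1
  have hfl : LocP @LocallyOfFiniteType (pullback.snd f.hom g) :=
    locP_of_isPullback etLocal_lft X.property Y.property X₁.property sqX hf2.1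
  have hfc : IsQuasiCompactMor (pullback.snd f.hom g) :=
    isQuasiCompactMor_of_isPullback X.property Y.property hY' sqX hf2.2
  have hXc : IsQuasiCompactSp X₁.obj := OpenFac.isQuasiCompactSp_of_mor X₁.property hY' hfc hY'c
  have hXs : IsQuasiSeparatedSp X₁.obj := ProperSt.isQuasiSeparatedSp_of_separated hfs hY's
  haveI := compactSpace_points_of_isQuasiCompactSp hXc
  obtain ⟨U, q, -, hqe, hqs⟩ := exists_affine_chart X₁.property
  obtain ⟨W, h, hh, hhs, -, -⟩ := Groth.Agent.S10048.result S X₁ hXc hXs U q hqe hqs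
  have hW := IsAlgSpace.yon_obj W
  have hhp : IsProperMor h := ((Groth.Agent.S10271.result (X := (AlgSp.ofScheme S).obj W) (Y := X₁)
    (ObjectProperty.homMk h)).1 hh).2
  obtain ⟨w, hw⟩ := (yon S).map_surjective (h ≫ pullback.snd f.hom g)
  haveI : IsSeparated w.left := (isSeparatedMor_yon_map_iff w).1 (hw.symm ▸ isSeparatedMor_comp hhp.1 hfs)
  haveI : LocallyOfFiniteType w.left :=
    locP_yon_map (g := w) (hw.symm ▸ locP_comp etLocal_lft hW X₁.property hY' hhp.2.1.1 hfl)
  haveI : QuasiCompact w.left := (repWith_yon_map_iff @QuasiCompact w).1 ((repWith_quasiCompact_iff hW hY'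
    (hY'.representable_from_yon _)).2 (hw.symm ▸ isQuasiCompactMor_comp hW X₁.property hY' hhp.2.1.2 hfc))
  obtain ⟨n, W', π, j, hj, hjs, hπ, hπs⟩ := Groth.Agent.H8Lim.ChowPn.exists_chow_pn_surjective w.left
  haveI := hj
  haveI : IsProper (CohB1.ProjSpaceOver.toBase n Y'.left) :=
    Groth.Agent.H8Lim.ChowPn.isProper_of_isHProjective (Groth.Agent.H8Lim.ChowPn.isHProjective_toBase n)
  haveI : QuasiCompact (j ≫ CohB1.ProjSpaceOver.toBase n Y'.left) := hjs ▸ inferInstance
  haveI : QuasiCompact j := QuasiCompact.of_comp j (CohB1.ProjSpaceOver.toBase n Y'.left)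
  let Z₁ : Over S := Over.mk ((j.imageι ≫ CohB1.ProjSpaceOver.toBase n Y'.left) ≫ Y'.hom)
  let W₁ : Over S := Over.mk ((π ≫ w.left) ≫ Y'.hom)
  let z : Z₁ ⟶ Y' := Over.homMk (j.imageι ≫ CohB1.ProjSpaceOver.toBase n Y'.left) rfl
  let o : W₁ ⟶ Z₁ := Over.homMk j.toImage (by
    show j.toImage ≫ (j.imageι ≫ _) ≫ Y'.hom = _
    rw [← Category.assoc, ← Category.assoc j.toImage, Scheme.Hom.toImage_imageι, hjs]
    rfl)
  let p : W₁ ⟶ W := Over.homMk π (by simp [W₁, Over.w w])
  let a₀ : (yon S).obj W₁ ⟶ X.obj := (yon S).map p ≫ h ≫ pullback.fst f.hom g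
  let c₀ : (yon S).obj Z₁ ⟶ Y.obj := (yon S).map z ≫ g
  have hoz : o ≫ z = p ≫ w := by
    ext
    show j.toImage ≫ j.imageι ≫ _ = π ≫ w.left
    rw [← Category.assoc, Scheme.Hom.toImage_imageι, hjs]
  have hpp : IsProperMor ((yon S).map p) := (isProperMor_yon_map_iff' p).2 hπ
  have hfst : IsProperMor (pullback.fst f.hom g) :=
    isProperMor_of_isPullback hY' Y.property X.property sqX.flip hgp
  refine ⟨(AlgSp.ofScheme S).obj W₁, (AlgSp.ofScheme S).obj Z₁, ObjectProperty.homMk a₀,
    ObjectProperty.homMk ((yon S).map o), ObjectProperty.homMk c₀, ?_, ?_, ?_, ?_, ?_, ?_⟩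
  · apply ObjectProperty.hom_ext
    show (yon S).map o ≫ (yon S).map z ≫ g = ((yon S).map p ≫ h ≫ pullback.fst f.hom g) ≫ f.hom
    rw [← Functor.map_comp_assoc, hoz, Functor.map_comp_assoc, hw]
    simp [pullback.condition]
  · exact isProperMor_comp (IsAlgSpace.yon_obj W₁) hW X.property hpp
      (isProperMor_comp hW X₁.property X.property hhp hfst)
  · exact surjective_comp (surjective_map_of_repWith ((repWith_yon_map_iff @Surjective p).2 hπs))
      (surjective_comp hhs (surjective_map_of_isPullback sqX.flip hgs))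
  · exact (repWith_yon_map_iff @IsOpenImmersion o).2 (inferInstanceAs (IsOpenImmersion j.toImage))
  · exact isProperMor_comp (IsAlgSpace.yon_obj Z₁) hY' Y.property ((isProperMor_yon_map_iff' z).2
      (inferInstanceAs (IsProper (j.imageι ≫ CohB1.ProjSpaceOver.toBase n Y'.left)))) hgp
  · exact Y.property.representable_from_yon _

end Groth.Agent.S10656
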