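import Groth.Statements.S10657
import Groth.Agent.AlgSpLib.GraphModel
import Groth.Agent.H8Lim.ChowPn
-- import your own Groth.Agent.* helpers here

set_option autoImplicit false
universe u
open CategoryTheory CategoryTheory.Limits AlgebraicGeometry
open AlgSp

namespace Groth.Agent.S10657

open Groth.Agent.AlgSpLib Groth.Agent.AlgSpLib.GraphModel

set_option backward.isDefEq.respectTransparency false
set_option backward.isDefEq.respectTransparency.types false
set_option linter.style.haveILetI false
set_option maxHeartbeats 800000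

/-- (a variant of Chow's lemma) for a separated morphism f : X ⟶ Y of finite type between algebraic
spaces over S with Y quasi-compact and separated, there are, for some n, an algebraic space X', a
proper surjective morphism a : X' ⟶ X and a representable immersion of X' into projective n-space
over Y (the product of h applied to projective n-space over S with Y, in fppf sheaves) compatible
with the projections to Y. (The published statement asks Y to be separated in the absolute sense and
puts no condition on S; this row assumes S separated and Y separated over S, which together imply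
it.) -/
theorem result {S : Scheme.{u}} [S.IsSeparated] {X Y : AlgSp.Space S} (f : X ⟶ Y)
    (hY1 : AlgSp.IsQuasiCompactSp Y.obj) (hY2 : AlgSp.IsSeparatedSp Y.obj)
    (hf1 : AlgSp.IsSeparatedMor f.hom) (hf2 : AlgSp.IsFiniteTypeMor f.hom) :
    ∃ (n : ℕ) (X' : AlgSp.Space S) (a : X' ⟶ X)
      (b : X'.obj ⟶ (AlgSp.yon S).obj (Over.mk (CohB1.ProjSpaceOver.toBase n S)) ⨯ Y.obj),
      b ≫ prod.snd = (a ≫ f).hom ∧
        AlgSp.IsProperMor a.hom ∧ AlgSp.IsSurjectiveMor a.hom ∧ AlgSp.RepWith @IsImmersion b := by
  have hT : IsTerminal ((yon S).obj (Over.mk (𝟙 S))) := IsTerminal.isTerminalObj (yon S) _ Over.mkIdTerminal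
  have hYs' : IsSeparatedMor (hT.from Y.obj) := (repWith_diagonal_iff_diag _ hT _).2 hY2
  have hYqs : IsQuasiSeparatedSp Y.obj :=
    (isQuasiSeparatedMor_iff_sp _).1 (isQuasiSeparatedMor_of_isSeparatedMor hYs')
  have hXc : IsQuasiCompactSp X.obj := OpenFac.isQuasiCompactSp_of_mor X.property Y.property hf2.2 hY1
  have hXs : IsQuasiSeparatedSp X.obj := ProperSt.isQuasiSeparatedSp_of_separated hf1 hYqs
  haveI := compactSpace_points_of_isQuasiCompactSp hXc
  obtain ⟨U, q, -, hqe, hqs⟩ := exists_affine_chart X.property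
  obtain ⟨W, h, hh, hhs, -, -⟩ := Groth.Agent.S10048.result S X hXc hXs U q hqe hqs
  have hW := IsAlgSpace.yon_obj W
  have hhp : IsProperMor h := ((Groth.Agent.S10271.result (X := (AlgSp.ofScheme S).obj W) (Y := X)
    (ObjectProperty.homMk h)).1 hh).2
  haveI : CompactSpace W.left := compactSpace_of_isQuasiCompactSp_yon
    (OpenFac.isQuasiCompactSp_of_mor hW X.property hhp.2.1.2 hXc)
  obtain ⟨A, ψ, hAc, hAs, hAl, hm⟩ := exists_graph_model Y.property hY1 hY2 W (h ≫ f.hom)
    (isSeparatedMor_comp hhp.1 hf1) (locP_comp etLocal_lft hW X.property Y.property hhp.2.1.1 hf2.1)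
  haveI := hAc
  haveI := hAs
  haveI := hAl
  haveI : QuasiCompact (specULiftZIsTerminal.from A) := quasiCompact_of_compactSpace _
  obtain ⟨n, A', π, j, hj, hjs, hπ, hπs⟩ :=
    Groth.Agent.H8Lim.ChowPn.exists_chow_pn_surjective (specULiftZIsTerminal.from A)
  haveI := hj
  -- base change to `S`
  let T : Over S := baseS S A
  let T' : Over S := baseS S A'
  let πT : T' ⟶ T := Over.homMk (pullback.lift (pullback.fst _ _ ≫ π) (pullback.snd _ _)
    (specULiftZIsTerminal.hom_ext _ _)) (pullback.lift_snd _ _ _)
  have sqπ : IsPullback πT.left (pullback.fst (specULiftZIsTerminal.from A') (specULiftZIsTerminal.from S))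
      (pullback.fst (specULiftZIsTerminal.from A) (specULiftZIsTerminal.from S)) π := by
    refine IsPullback.of_right (h₁₂ := pullback.snd (specULiftZIsTerminal.from A) (specULiftZIsTerminal.from S))
      ?_ (pullback.lift_fst _ _ _) (IsPullback.of_hasPullback _ _).flip
    rw [show πT.left ≫ pullback.snd (specULiftZIsTerminal.from A) (specULiftZIsTerminal.from S) = pullback.snd _ _
      from pullback.lift_snd _ _ _, specULiftZIsTerminal.hom_ext (π ≫ specULiftZIsTerminal.from A)
        (specULiftZIsTerminal.from A')]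
    exact (IsPullback.of_hasPullback _ _).flip
  haveI : IsProper πT.left := MorphismProperty.of_isPullback sqπ.flip hπ
  haveI : Surjective πT.left := MorphismProperty.of_isPullback sqπ.flip hπs
  let P : Over S := Over.mk (CohB1.ProjSpaceOver.toBase n S)
  let jA : A' ⟶ CohB1.ProjSpace n (ULift.{u} ℤ) := j ≫ pullback.fst _ _
  haveI : IsImmersion jA := by
    haveI : IsIso (pullback.fst (CohB1.ProjSpace.toSpec n (ULift.{u} ℤ))
        (specULiftZIsTerminal.from (Spec (.of (ULift.{u} ℤ))))) := by
      have : IsIso (specULiftZIsTerminal.from (Spec (.of (ULift.{u} ℤ)))) :=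
        (specULiftZIsTerminal.hom_ext (𝟙 _) (specULiftZIsTerminal.from _)) ▸ inferInstance
      exact pullback_fst_iso_of_right_iso _ _
    exact inferInstanceAs (IsImmersion (j ≫ pullback.fst _ _))
  let jS : T' ⟶ P := Over.homMk (pullback.lift (pullback.fst _ _ ≫ jA) (pullback.snd _ _)
    (specULiftZIsTerminal.hom_ext _ _)) (pullback.lift_snd _ _ _)
  have sqj : IsPullback jS.left (pullback.fst (specULiftZIsTerminal.from A') (specULiftZIsTerminal.from S))
      (pullback.fst (CohB1.ProjSpace.toSpec n (ULift.{u} ℤ)) (specULiftZIsTerminal.from S)) jA := by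
    refine IsPullback.of_right (h₁₂ := pullback.snd (CohB1.ProjSpace.toSpec n (ULift.{u} ℤ))
      (specULiftZIsTerminal.from S)) ?_ (pullback.lift_fst _ _ _) (IsPullback.of_hasPullback _ _).flip
    rw [show jS.left ≫ pullback.snd (CohB1.ProjSpace.toSpec n (ULift.{u} ℤ)) (specULiftZIsTerminal.from S) =
      pullback.snd _ _ from pullback.lift_snd _ _ _, specULiftZIsTerminal.hom_ext (jA ≫ CohB1.ProjSpace.toSpec n
        (ULift.{u} ℤ)) (specULiftZIsTerminal.from A')]
    exact (IsPullback.of_hasPullback _ _).flip
  haveI : IsImmersion jS.left := MorphismProperty.of_isPullback sqj.flip ‹IsImmersion jA›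
  -- the pullback of `W`
  let W' : Over S := Over.mk (pullback.fst ψ.left πT.left ≫ W.hom)
  let x₁ : W' ⟶ W := Over.homMk (pullback.fst ψ.left πT.left) rfl
  let x₂ : W' ⟶ T' := Over.homMk (pullback.snd ψ.left πT.left) (by
    show pullback.snd ψ.left πT.left ≫ T'.hom = pullback.fst ψ.left πT.left ≫ W.hom
    rw [← Over.w πT, ← pullback.condition_assoc, Over.w ψ])
  have sqW : IsPullback ((yon S).map x₁) ((yon S).map x₂) ((yon S).map ψ) ((yon S).map πT) :=
    isPullback_over_forget (IsPullback.of_hasPullback ψ.left πT.left)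
  haveI : IsProper x₁.left := MorphismProperty.pullback_fst (P := @IsProper) _ _ ‹IsProper πT.left›
  haveI : Surjective x₁.left := MorphismProperty.pullback_fst (P := @Surjective) _ _ ‹Surjective πT.left›
  let a₀ : (yon S).obj W' ⟶ X.obj := (yon S).map x₁ ≫ h
  let m' : (yon S).obj W' ⟶ (yon S).obj T' ⨯ Y.obj := prod.lift ((yon S).map x₂) (a₀ ≫ f.hom)
  have sqm : IsPullback ((yon S).map x₁) m' (prod.lift ((yon S).map ψ) (h ≫ f.hom))
      (prod.map ((yon S).map πT) (𝟙 Y.obj)) := by
    refine IsPullback.of_bot ?_ ?_ (isPullback_prod_map_fst ((yon S).map πT))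
    · rw [show m' ≫ prod.fst = (yon S).map x₂ from prod.lift_fst _ _, prod.lift_fst]
      exact sqW
    · apply prod.hom_ext
      · simpa [m'] using sqW.w
      · simp [m', a₀]
  have hm' : RepWith @IsImmersion m' :=
    RepWith.mono (fun _ _ g (_ : IsClosedImmersion g) => (inferInstance : IsImmersion g))
      (RepWith.baseChange sqm hm)
  refine ⟨n, (AlgSp.ofScheme S).obj W', ObjectProperty.homMk a₀,
    m' ≫ prod.map ((yon S).map jS) (𝟙 Y.obj), ?_, ?_, ?_, ?_⟩
  · show (m' ≫ prod.map _ _) ≫ prod.snd = a₀ ≫ f.hom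
    simp [m']
  · exact isProperMor_comp (IsAlgSpace.yon_obj W') hW X.property ((isProperMor_yon_map_iff' x₁).2 ‹_›) hhp
  · intro x
    obtain ⟨y, rfl⟩ := hhs x
    obtain ⟨z, rfl⟩ := surjective_map_of_repWith ((repWith_yon_map_iff @Surjective x₁).2 ‹_›) y
    exact ⟨z, Points.map_comp _ _ _⟩
  · exact RepWith.comp hm' (RepWith.baseChange (isPullback_prod_map_fst ((yon S).map jS)).flip
      ((repWith_yon_map_iff @IsImmersion jS).2 ‹_›))

end Groth.Agent.S10657
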