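import Groth.Statements.S10658
import Groth.Agent.AlgSpLib.ProperStage
import Groth.Agent.AlgSpLib.GraphModel
import Groth.Agent.AlgSpLib.InductPrinciple
import Groth.Agent.AlgSpLib.ThickScheme
import Groth.Agent.AlgSpLib.WhereLocus
import Groth.Agent.AlgSpLib.RedUniv
import Groth.Agent.S1366
-- import your own Groth.Agent.* helpers here

set_option autoImplicit false
universe u
open CategoryTheory CategoryTheory.Limits AlgebraicGeometry
open AlgSp

namespace Groth.Agent.S10658

open Groth.Agent.AlgSpLib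

set_option backward.isDefEq.respectTransparency false
set_option backward.isDefEq.respectTransparency.types false
set_option linter.style.haveILetI false
set_option maxHeartbeats 1600000

variable {S : Scheme.{u}}

theorem map_schemePt {F : Sp S} {T T' : Over S} (φ : T ⟶ T') (g : (yon S).obj T' ⟶ F) (t : T.left) :
    Points.map ((yon S).map φ ≫ g) (Points.ofScheme T t) = Points.map g (Points.ofScheme T' (φ.left t)) := by
  rw [Points.map_comp, map_yon_map_ofScheme]

theorem repWith_closed_of_openImm_isClosed_range {F G : Sp S} {j : F ⟶ G} (hj : RepWith @IsOpenImmersion j)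
    (h : IsClosed (Set.range (Points.map j))) : RepWith @IsClosedImmersion j := by
  refine ⟨hj.1, fun T P g fst snd sq => ?_⟩
  haveI : IsOpenImmersion snd.left := hj.2 g fst snd sq
  refine IsClosedImmersion.of_isPreimmersion snd.left ?_
  rw [ThickAff.range_left_of_isPullback sq]
  exact (h.preimage (Points.continuous_map g)).preimage (Points.schemeHomeo T).continuous


/-- For a henselian pair (A, I), an algebraic space X which is separated and of finite type over Spec A
(structure morphism s to the terminal sheaf h_{Spec A}), X₀ = X ×_{Spec A} Spec (A/I) with inclusion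
i₀ : X₀ ⟶ X, and Y ⊂ X₀ an open and closed subspace which is proper over Spec (A/I), there is an
open and closed subspace W ⊂ X, proper over Spec A, whose base change to Spec (A/I) is Y: Y is the
pullback of W along i₀. -/
theorem result (A : Type u) [CommRing A] (I : Ideal A) [HenselianRing A I]
    {X X0 Y : AlgSp.Space (Spec (CommRingCat.of A))}
    (s : X.obj ⟶ (AlgSp.yon (Spec (CommRingCat.of A))).obj (Over.mk (𝟙 _)))
    (hs1 : AlgSp.IsSeparatedMor s) (hs2 : AlgSp.IsFiniteTypeMor s)
    (i0 : X0 ⟶ X)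
    (s0 : X0.obj ⟶ (AlgSp.yon (Spec (CommRingCat.of A))).obj
      (Over.mk (Spec.map (CommRingCat.ofHom (Ideal.Quotient.mk I)))))
    (hX0 : IsPullback i0.hom s0 s ((AlgSp.yon (Spec (CommRingCat.of A))).map
      (Over.homMk (Spec.map (CommRingCat.ofHom (Ideal.Quotient.mk I))) (Category.comp_id _) :
        Over.mk (Spec.map (CommRingCat.ofHom (Ideal.Quotient.mk I))) ⟶ Over.mk (𝟙 _))))
    (jY : Y ⟶ X0) (hY1 : AlgSp.RepWith @IsOpenImmersion jY.hom) (hY2 : AlgSp.RepWith @IsClosedImmersion jY.hom)
    (hY3 : AlgSp.IsProperMor (jY.hom ≫ s0)) :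
    ∃ (W : AlgSp.Space (Spec (CommRingCat.of A))) (w : W ⟶ X) (k : Y ⟶ W),
      AlgSp.RepWith @IsOpenImmersion w.hom ∧ AlgSp.RepWith @IsClosedImmersion w.hom ∧
        AlgSp.IsProperMor (w.hom ≫ s) ∧ IsPullback k.hom jY.hom w.hom i0.hom := by
  let Sb := Spec (CommRingCat.of A)
  let q : Spec (CommRingCat.of (A ⧸ I)) ⟶ Spec (CommRingCat.of A) := Spec.map (CommRingCat.ofHom (Ideal.Quotient.mk I))
  let B0 : Over (Spec (CommRingCat.of A)) := Over.mk q
  let B1 : Over (Spec (CommRingCat.of A)) := Over.mk (𝟙 _)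
  haveI : IsAffine B1.left := inferInstanceAs (IsAffine (Spec (CommRingCat.of A)))
  have hT : IsTerminal ((yon Sb).obj B1) := IsTerminal.isTerminalObj (yon Sb) _ Over.mkIdTerminal
  have hB1 := IsAlgSpace.yon_obj B1
  have hB0 := IsAlgSpace.yon_obj B0
  have hXc : IsQuasiCompactSp X.obj :=
    OpenFac.isQuasiCompactSp_of_mor X.property hB1 hs2.2 (Stk19.isQuasiCompactSp_yon B1)
  have hXs : IsQuasiSeparatedSp X.obj :=
    (isQuasiSeparatedMor_iff_sp s).1 (isQuasiSeparatedMor_of_isSeparatedMor hs1)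
  haveI := compactSpace_points_of_isQuasiCompactSp hXc
  obtain ⟨U, p, -, hpe, hps⟩ := exists_affine_chart X.property
  obtain ⟨W', h, hh, hhs, -, -⟩ := Groth.Agent.S10048.result Sb X hXc hXs U p hpe hps
  have hW' := IsAlgSpace.yon_obj W'
  have hhp : IsProperMor h := ((Groth.Agent.S10271.result (X := (AlgSp.ofScheme Sb).obj W') (Y := X)
    (ObjectProperty.homMk h)).1 hh).2
  let w : W' ⟶ B1 := Over.homMk W'.hom
  have ew : h ≫ s = (yon Sb).map w := hT.hom_ext _ _
  haveI : IsSeparated W'.hom :=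
    (isSeparatedMor_yon_map_iff w).1 (ew ▸ isSeparatedMor_comp hhp.1 hs1)
  haveI : LocallyOfFiniteType W'.hom := locP_yon_map (g := w)
    (ew ▸ locP_comp etLocal_lft hW' X.property hB1 hhp.2.1.1 hs2.1)
  haveI : QuasiCompact W'.hom := (repWith_yon_map_iff @QuasiCompact w).1 ((repWith_quasiCompact_iff hW' hB1
    (hB1.representable_from_yon _)).2 (ew ▸ isQuasiCompactMor_comp hW' X.property hB1 hhp.2.1.2 hs2.2))
  -- the special fibre of the cover
  let W0 : Over (Spec (CommRingCat.of A)) := Over.mk (pullback.snd W'.hom q ≫ q)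
  let ι0 : W0 ⟶ W' := Over.homMk (pullback.fst W'.hom q) (by simp [W0, pullback.condition])
  let p0 : W0 ⟶ B0 := Over.homMk (pullback.snd W'.hom q) rfl
  let bq : B0 ⟶ B1 := Over.homMk q (Category.comp_id _)
  have sqW0 : IsPullback ((yon Sb).map ι0) ((yon Sb).map p0) ((yon Sb).map w) ((yon Sb).map bq) :=
    isPullback_over_forget (IsPullback.of_hasPullback W'.hom q)
  let h0 : (yon Sb).obj W0 ⟶ X0.obj := hX0.lift ((yon Sb).map ι0 ≫ h) ((yon Sb).map p0) (by
    rw [Category.assoc, ew]; exact sqW0.w)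
  have eh0 : h0 ≫ i0.hom = (yon Sb).map ι0 ≫ h := hX0.lift_fst _ _ _
  have es0 : h0 ≫ s0 = (yon Sb).map p0 := hX0.lift_snd _ _ _
  have sqh0 : IsPullback ((yon Sb).map ι0) h0 h i0.hom := by
    refine IsPullback.of_bot ?_ eh0.symm hX0
    rw [es0, ew]
    exact sqW0
  have hh0p : IsProperMor h0 := isProperMor_of_isPullback hW' X.property X0.property sqh0 hhp
  have hh0s : IsSurjectiveMor h0 := surjective_map_of_isPullback sqh0 hhs
  -- the preimage of `Y`
  let Oy : W0.left.Opens := ⟨(fun y => Points.map h0 (Points.ofScheme W0 y)) ⁻¹' Set.range (Points.map jY.hom),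
    ((Induct.isOpen_range_map Y.property hY1).preimage (Points.continuous_map h0)).preimage (Points.schemeHomeo W0).continuous⟩
  have hOyc : IsClosed (Oy : Set W0.left) :=
    ((isClosed_range_map_of_closedImmersion X0.property hY2).preimage (Points.continuous_map h0)).preimage (Points.schemeHomeo W0).continuous
  have hr := hY1.1
  let R : Over (Spec (CommRingCat.of A)) := hr.pullback h0
  have sqR := hr.isPullback h0
  let r : R ⟶ W0 := hr.snd h0
  haveI : IsOpenImmersion r.left := hY1.2 _ _ _ sqR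
  have hOr : r.left.opensRange = Oy := TopologicalSpace.Opens.ext (ThickAff.range_left_of_isPullback sqR)
  haveI : IsProper (Oy.ι ≫ pullback.snd W'.hom q) := by
    have hRp : IsProperMor ((yon Sb).map (r ≫ p0)) := by
      have hfst : IsProperMor (hr.fst h0) :=
        isProperMor_of_isPullback (IsAlgSpace.yon_obj W0) X0.property Y.property sqR.flip hh0p
      rw [show (yon Sb).map (r ≫ p0) = hr.fst h0 ≫ jY.hom ≫ s0 by
        rw [← Category.assoc, sqR.w, Category.assoc, es0, ← Functor.map_comp]]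
      exact isProperMor_comp (IsAlgSpace.yon_obj R) Y.property hB0 hfst hY3
    haveI : IsProper (r.left ≫ pullback.snd W'.hom q) := (isProperMor_yon_map_iff' (r ≫ p0)).1 hRp
    suffices h' : IsProper (r.left.opensRange.ι ≫ pullback.snd W'.hom q) by
      rwa [hOr] at h'
    rw [show r.left.opensRange.ι = r.left.isoOpensRange.inv ≫ r.left from
      (Scheme.Hom.isoOpensRange_inv_comp r.left).symm, Category.assoc]
    infer_instance
  obtain ⟨W, hWc, hWp, hWY⟩ := Groth.Agent.S1366.result I W'.hom Oy hOyc ‹_›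
  haveI := hWp
  have hWYi : ∀ y : W0.left, ι0.left y ∈ W ↔ Points.map h0 (Points.ofScheme W0 y) ∈ Set.range (Points.map jY.hom) := fun y => by
    show y ∈ pullback.fst W'.hom q ⁻¹ᵁ W ↔ y ∈ Oy
    rw [hWY]
  let m : W'.left → Points X.obj := fun z => Points.map h (Points.ofScheme W' z)
  have hm0 : ∀ y : W0.left, m (ι0.left y) = Points.map i0.hom (Points.map h0 (Points.ofScheme W0 y)) := fun y => by
    rw [← Points.map_comp, eh0, map_schemePt]
  haveI : Mono i0.hom := by
    refine mono_of_repWith (P := @IsClosedImmersion) (fun _ _ g (_ : IsClosedImmersion g) => (inferInstance : Mono g)) ?_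
    haveI : IsClosedImmersion q := IsClosedImmersion.spec_of_surjective _ Ideal.Quotient.mk_surjective
    exact RepWith.baseChange hX0.flip ((repWith_yon_map_iff @IsClosedImmersion bq).2 ‹IsClosedImmersion q›)
  have hi0inj := injective_map_of_mono i0.hom
  -- saturation
  have hrh := X.property.representable_from_yon h
  let R2 : Over (Spec (CommRingCat.of A)) := hrh.pullback h
  let a : R2 ⟶ W' := hrh.fst' h
  let b : R2 ⟶ W' := hrh.snd h
  have sq2 : IsPullback ((yon Sb).map a) ((yon Sb).map b) h h := hrh.isPullback' h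
  haveI : IsProper a.left := (isProperMor_yon_map_iff' a).1
    (isProperMor_of_isPullback hW' X.property hW' sq2.flip hhp)
  haveI : IsProper b.left := (isProperMor_yon_map_iff' b).1
    (isProperMor_of_isPullback hW' X.property hW' sq2 hhp)
  have hab : ∀ r : R2.left, m (a.left r) = m (b.left r) := fun r => by
    show Points.map h _ = Points.map h _
    rw [← map_schemePt, sq2.w, map_schemePt]
  have hzero : ∀ (x y : R2 ⟶ W') [IsProper x.left] [IsProper y.left], (∀ r, m (x.left r) = m (y.left r)) →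
      ∀ r : R2.left, x.left r ∈ W → y.left r ∈ W := by
    intro x y _ _ hxy r₀ hx₀
    by_contra hy₀
    let O : R2.left.Opens := x.left ⁻¹ᵁ W
    haveI : IsProper (O.ι ≫ R2.hom) := by
      rw [← Over.w x, ← Category.assoc, ← morphismRestrict_ι, Category.assoc]
      haveI : IsProper (x.left ∣_ W) := IsZariskiLocalAtTarget.restrict (P := @IsProper) ‹_› _
      exact MorphismProperty.comp_mem @IsProper _ _ ‹_› hWp
    let K : Set O := (fun r => y.left (O.ι r)) ⁻¹' (W : Set W'.left)ᶜ
    have hK : IsClosed K := W.isOpen.isClosed_compl.preimage (y.left.continuous.comp O.ι.continuous)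
    have hKim : IsClosed ((O.ι ≫ R2.hom) '' K) := (O.ι ≫ R2.hom).isClosedMap K hK
    obtain ⟨m', hm', hmc⟩ := IsClosed.exists_closed_singleton hKim ⟨_, ⟨r₀, hx₀⟩, hy₀, rfl⟩
    have hmI : m' ∈ Set.range q := by
      have hmax : m'.asIdeal.IsMaximal := (PrimeSpectrum.isClosed_singleton_iff_isMaximal m').1 hmc
      show m' ∈ Set.range (PrimeSpectrum.comap (Ideal.Quotient.mk I))
      rw [range_comap_of_surjective _ _ Ideal.Quotient.mk_surjective, Ideal.mk_ker]
      exact SetLike.coe_subset_coe.2 ((HenselianRing.jac (R := A) (I := I)).trans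
        (sInf_le ⟨bot_le, hmax⟩))
    obtain ⟨r, hr, rfl⟩ := hm'
    have hspec : ∀ z : R2 ⟶ W', ∃ y0 : W0.left, ι0.left y0 = z.left (O.ι r) := fun z => by
      obtain ⟨c, hc⟩ := hmI
      obtain ⟨y0, hy0, -⟩ := Scheme.Pullback.exists_preimage_pullback (f := W'.hom) (g := q) (z.left (O.ι r)) c (by
        rw [hc, ← Scheme.Hom.comp_apply, Over.w z]
        rfl)
      exact ⟨y0, hy0⟩
    obtain ⟨x0, hx0⟩ := hspec x
    obtain ⟨y0, hy0⟩ := hspec y
    have he := hxy (O.ι r)
    rw [← hx0, ← hy0, hm0, hm0] at he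
    have h1 := (hWYi x0).1 (by rw [hx0]; exact r.2)
    rw [hi0inj he] at h1
    exact hr (by
      show y.left (O.ι r) ∈ W
      rw [← hy0]
      exact (hWYi y0).2 h1)
  have hsat : ∀ z₁ z₂ : W'.left, m z₁ = m z₂ → z₁ ∈ W → z₂ ∈ W := fun z₁ z₂ he h1 => by
    obtain ⟨u, hu1, hu2⟩ := exists_point_of_isPullback sq2 he
    obtain ⟨r, rfl⟩ := (Points.schemeEquiv R2).surjective u
    have e1 : a.left r = z₁ := (Points.schemeEquiv W').injective ((map_yon_map_ofScheme a r).symm.trans hu1)
    have e2 : b.left r = z₂ := (Points.schemeEquiv W').injective ((map_yon_map_ofScheme b r).symm.trans hu2)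
    exact e2 ▸ hzero a b hab r (e1 ▸ h1)
  have hmsurj : Function.Surjective m := fun x => by
    obtain ⟨u, hu⟩ := hhs x
    obtain ⟨z, rfl⟩ := (Points.schemeEquiv W').surjective u
    exact ⟨z, hu⟩
  have hmcl : IsClosedMap m :=
    (isClosedMap_of_univClosed X.property hhp.2.2).comp (Points.schemeHomeo W').isClosedMap
  let C : Set (Points X.obj) := m '' W
  have hCc : IsClosed C := hmcl _ hWc
  have hCo : IsOpen C := by
    have e : Cᶜ = m '' (W : Set W'.left)ᶜ := by
      ext x
      obtain ⟨z, rfl⟩ := hmsurj x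
      exact ⟨fun hx => ⟨z, fun hz => hx ⟨z, hz, rfl⟩, rfl⟩,
        fun ⟨z', hz', e'⟩ ⟨z'', hz'', e''⟩ => hz' (hsat z'' z' (e''.trans e'.symm) hz'')⟩
    have := hmcl _ W.isOpen.isClosed_compl
    rw [← e] at this
    exact isClosed_compl_iff.1 this
  let Wsp : AlgSp.Space Sb := ⟨openSubspace X.obj C, isAlgSpace_openSubspace X.property hCo⟩
  let w' : Wsp.obj ⟶ X.obj := openSubspaceι X.obj C
  have hw1 : RepWith @IsOpenImmersion w' := repWith_openSubspaceι X.obj hCo
  have hwr : Set.range (Points.map w') = C := range_openSubspaceι X.obj C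
  have hw2 : RepWith @IsClosedImmersion w' := repWith_closed_of_openImm_isClosed_range hw1 (hwr.symm ▸ hCc)
  have hY0 : ∀ x : Points X0.obj, Points.map i0.hom x ∈ C ↔ x ∈ Set.range (Points.map jY.hom) := fun x => by
    obtain ⟨u, hu⟩ := hh0s x
    obtain ⟨y, rfl⟩ := (Points.schemeEquiv W0).surjective u
    subst hu
    show _ ∈ _ ↔ Points.map h0 (Points.ofScheme W0 y) ∈ _
    rw [← hWYi, show Points.map i0.hom (Points.map h0 ((Points.schemeEquiv W0) y)) = m (ι0.left y) from (hm0 y).symm]
    exact ⟨fun ⟨z, hz, e⟩ => hsat z _ e hz, fun hy => ⟨_, hy, rfl⟩⟩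
  have sqP := IsPullback.of_hasPullback w' i0.hom
  have hPr : RepWith @IsOpenImmersion (pullback.snd w' i0.hom) := RepWith.baseChange sqP hw1
  have hrange : Set.range (Points.map jY.hom) = Set.range (Points.map (pullback.snd w' i0.hom)) := by
    rw [← range_map_preimage sqP, hwr]
    ext x
    exact (hY0 x).symm
  obtain ⟨e, he⟩ := Induct.exists_iso_of_range_eq hY1 hPr hrange
  refine ⟨Wsp, ObjectProperty.homMk w', ObjectProperty.homMk (e.hom ≫ pullback.fst w' i0.hom), hw1, hw2, ?_, ?_⟩
  · let V1 : Over (Spec (CommRingCat.of A)) := Over.mk (W.ι ≫ W'.hom)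
    let v1 : V1 ⟶ W' := Over.homMk W.ι rfl
    obtain ⟨k, hk⟩ := OpenFac.exists_fac_openImm_yon hw1 ((yon Sb).map v1 ≫ h) fun z => by
      rw [hwr, Points.ofPt_eq_map_ofScheme, map_schemePt]
      exact ⟨v1.left z, z.2, rfl⟩
    have hks : Function.Surjective (Points.map k) := fun x => by
      have hx : Points.map w' x ∈ C := hwr ▸ Set.mem_range_self x
      obtain ⟨z, hz, e⟩ := hx
      haveI : Mono w' := mono_of_repWith (fun _ _ g (_ : IsOpenImmersion g) => (inferInstance : Mono g)) hw1
      refine ⟨Points.ofScheme V1 ⟨z, hz⟩, injective_map_of_mono w' ?_⟩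
      rw [← Points.map_comp, hk, map_schemePt]
      exact e
    have hwp : IsProperMor w' := isProperMor_of_closedImmersion Wsp.property X.property hw2
    refine ⟨isSeparatedMor_comp hwp.1 hs1,
      ⟨locP_comp etLocal_lft Wsp.property X.property hB1 hwp.2.1.1 hs2.1,
        isQuasiCompactMor_comp Wsp.property X.property hB1 hwp.2.1.2 hs2.2⟩,
      isUnivClosedMor_of_surjective (f := k) hks ?_⟩
    have hp1 : IsProperMor ((yon Sb).map (v1 ≫ w)) := (isProperMor_yon_map_iff' (v1 ≫ w)).2 hWp
    show IsUnivClosedMor (k ≫ w' ≫ s)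
    rw [show k ≫ w' ≫ s = (yon Sb).map (v1 ≫ w) by
      rw [← Category.assoc, hk, Category.assoc, ew, ← Functor.map_comp]]
    exact hp1.2.2
  · show IsPullback (e.hom ≫ pullback.fst w' i0.hom) jY.hom w' i0.hom
    exact sqP.of_iso e.symm (Iso.refl _) (Iso.refl _) (Iso.refl _) (by simp) (by simp [← he]) (by simp) (by simp)

end Groth.Agent.S10658
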