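import Groth.Statements.S10661
import Groth.Agent.AlgSpLib.RegImmDescent
-- import your own Groth.Agent.* helpers here

set_option autoImplicit false
universe u
open CategoryTheory CategoryTheory.Limits AlgebraicGeometry
open AlgSp

namespace Groth.Agent.S10661

/-- For an immersion i : Z ⟶ X of algebraic spaces over S with X locally Noetherian (some etale
surjective chart is a locally Noetherian scheme), the three conditions Koszul-regular immersion,
H_1-regular immersion and quasi-regular immersion on i are equivalent. -/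
theorem result {S : Scheme.{u}} {Z X : AlgSp.Space S} (i : Z ⟶ X) (hi : AlgSp.RepWith @IsImmersion i.hom)
    (hX : AlgSp.IsLocNoethSp X.obj) :
    (AlgSp.IsRegImmMor RegImm.Kind.koszul i.hom ↔ AlgSp.IsRegImmMor RegImm.Kind.h1 i.hom) ∧
      (AlgSp.IsRegImmMor RegImm.Kind.h1 i.hom ↔ AlgSp.IsRegImmMor RegImm.Kind.quasi i.hom) := by
  have key : ∀ {V W : Over S} (b : (AlgSp.yon S).obj V ⟶ X.obj) (snd : W ⟶ V), AlgSp.RepWith @Etale b →
      AlgSp.regImm RegImm.Kind.quasi snd.left → AlgSp.regImm RegImm.Kind.koszul snd.left := fun b snd hb h => by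
    have := AlgSpLib.isLocallyNoetherian_of_chart X.property hX b hb
    exact AlgSpLib.regImm_koszul_of_quasi h
  refine ⟨⟨fun h => ⟨h.1, fun V W b fst snd hb sq => (SDiv28.RegImmKinds.implications _).2.1 (h.2 b fst snd hb sq)⟩,
    fun h => ⟨h.1, fun V W b fst snd hb sq => key b snd hb ((SDiv28.RegImmKinds.implications _).2.2 (h.2 b fst snd hb sq))⟩⟩,
    fun h => ⟨h.1, fun V W b fst snd hb sq => (SDiv28.RegImmKinds.implications _).2.2 (h.2 b fst snd hb sq)⟩,
    fun h => ⟨h.1, fun V W b fst snd hb sq => (SDiv28.RegImmKinds.implications _).2.1 (key b snd hb (h.2 b fst snd hb sq))⟩⟩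

end Groth.Agent.S10661
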