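import Groth.Statements.S10663
import Groth.Agent.AlgSpLib.RegImmComp
-- import your own Groth.Agent.* helpers here

set_option autoImplicit false
universe u
open CategoryTheory CategoryTheory.Limits AlgebraicGeometry
open AlgSp

namespace Groth.Agent.S10663

open Groth.Agent.AlgSpLib

/-- For immersions i : Z ⟶ Y and j : Y ⟶ X of algebraic spaces over S, the composite i ≫ j is
Koszul-regular when i and j both are; likewise for H_1-regular; and it is quasi-regular when i is
H_1-regular and j quasi-regular. -/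
theorem result {S : Scheme.{u}} {Z Y X : AlgSp.Space S} (i : Z ⟶ Y) (j : Y ⟶ X)
    (hi : AlgSp.RepWith @IsImmersion i.hom) (hj : AlgSp.RepWith @IsImmersion j.hom) :
    (AlgSp.IsRegImmMor RegImm.Kind.koszul i.hom → AlgSp.IsRegImmMor RegImm.Kind.koszul j.hom →
        AlgSp.IsRegImmMor RegImm.Kind.koszul (i ≫ j).hom) ∧
      (AlgSp.IsRegImmMor RegImm.Kind.h1 i.hom → AlgSp.IsRegImmMor RegImm.Kind.h1 j.hom →
        AlgSp.IsRegImmMor RegImm.Kind.h1 (i ≫ j).hom) ∧
      (AlgSp.IsRegImmMor RegImm.Kind.h1 i.hom → AlgSp.IsRegImmMor RegImm.Kind.quasi j.hom →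
        AlgSp.IsRegImmMor RegImm.Kind.quasi (i ≫ j).hom) := by
  refine ⟨fun h1 h2 => isRegImmMor_comp (fun i j a b => Groth.Agent.CAlgH.KoszulImmersion.comp i j a b) i.hom j.hom h1 h2,
    fun h1 h2 => isRegImmMor_comp (fun i j a b => ?_) i.hom j.hom h1 h2,
    fun h1 h2 => isRegImmMor_comp (fun i j a b => ?_) i.hom j.hom h1 h2⟩
  · exact regImm_comp_kind (by simp) (by simp) (fun A B _ _ φ hφ m l hk hm hl => (kind_append hφ hk hl).1 hm) i j a b
  · exact regImm_comp_kind (by simp) (by simp) (fun A B _ _ φ hφ m l hk hm hl => (kind_append hφ hk hl).2 hm) i j a b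

end Groth.Agent.S10663
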