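import Groth.Statements.S10665
import Groth.Agent.AlgSpLib.EtLocalInst
import Groth.Agent.AlgSpLib.LocP
import Groth.Agent.Synt15.LCIBridge
-- import your own Groth.Agent.* helpers here

set_option autoImplicit false
universe u
open CategoryTheory CategoryTheory.Limits AlgebraicGeometry
open AlgSp

namespace Groth.Agent.S10665

/-- A Koszul-regular immersion between algebraic spaces over S (representable, Koszul-regular immersion
on every etale scheme chart of the target) is a local complete intersection morphism (Koszul at
every point, etale locally on source and target). -/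
theorem result {S : Scheme.{u}} {X Y : AlgSp.Space S} (i : X ⟶ Y) (hi : AlgSp.IsRegImmMor RegImm.Kind.koszul i.hom) :
    AlgSp.IsLCIMor i.hom := by
  intro U V a b h ha hb w
  have sq := hi.1.isPullback b
  let W := hi.1.pullback b
  let l : U ⟶ W := hi.1.lift a h w
  have hl : Etale l.left := AlgSpLib.property_of_repWith_comp AlgSpLib.etLocal_etale l (hi.1.fst b)
    (AlgSpLib.RepWith.baseChange sq.flip hb) (by rw [Functor.relativelyRepresentable.lift_fst]; exact ha)
  have hreg : RegImm.IsRegularImmersion .koszul (hi.1.snd b).left := hi.2 b (hi.1.fst b) (hi.1.snd b) hb sq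
  have e : h.left = l.left ≫ (hi.1.snd b).left := by
    rw [← Over.comp_left, Functor.relativelyRepresentable.lift_snd]
  intro x
  rw [e]
  exact Synt15.isKoszulAt_of_isKoszulPt _ (Synt15.isKoszulPt_comp l.left _ (Synt15.isKoszulPt_of_smooth _ _)
    (Synt15.isKoszulPt_of_isRegularImmersion _ hreg _))

end Groth.Agent.S10665
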