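import Groth.Statements.S10676
import Groth.Agent.AlgSpLib.SplitOff
-- import your own Groth.Agent.* helpers here

set_option autoImplicit false
universe u
open CategoryTheory CategoryTheory.Limits AlgebraicGeometry
open AlgSp

namespace Groth.Agent.S10676

open Groth.Agent.AlgSpLib

set_option backward.isDefEq.respectTransparency.types false

/-- For a separated morphism f : X ⟶ Y of algebraic spaces over S which is locally of finite type, a
point y of |Y| and a finite set xs of points of |X| mapping to y at each of which f is quasi-finite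
(some etale chart diagram through the point has top arrow locally quasi-finite and locally of finite
type on an open neighbourhood), assuming moreover that f is quasi-compact or Y is decent: there are
an etale morphism of algebraic spaces a : U ⟶ Y and a point u of |U| over y such that for the base
change P = U ×_Y X there is an open and closed subspace V ⊂ P, finite over U, such that every point
of |V| over u maps into xs and no point of |P| outside |V| lying over u maps into xs. -/
theorem result {S : Scheme.{u}} {X Y : AlgSp.Space S} (f : X ⟶ Y) (y : AlgSp.Points Y.obj)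
    (xs : Finset (AlgSp.Points X.obj)) (hxs : ∀ x ∈ xs, AlgSp.Points.map f.hom x = y)
    (hf1 : AlgSp.LocP @LocallyOfFiniteType f.hom) (hf2 : AlgSp.IsSeparatedMor f.hom)
    (hf3 : ∀ x ∈ xs, AlgSp.HasAtMor (fun U _ h u => ∃ W : U.Opens, u ∈ W ∧ LocallyQuasiFinite (W.ι ≫ h) ∧ LocallyOfFiniteType (W.ι ≫ h)) f.hom x)
    (hf4 : AlgSp.IsQuasiCompactMor f.hom ∨ AlgSp.IsDecent Y.obj) :
    ∃ (U : AlgSp.Space S) (a : U ⟶ Y) (u : AlgSp.Points U.obj), AlgSp.IsEtaleMor a.hom ∧ AlgSp.Points.map a.hom u = y ∧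
      ∀ (P : AlgSp.Space S) (prX : P ⟶ X) (prU : P ⟶ U), IsPullback prX.hom prU.hom f.hom a.hom →
        ∃ (V : AlgSp.Space S) (jV : V ⟶ P), AlgSp.RepWith @IsOpenImmersion jV.hom ∧ AlgSp.RepWith @IsClosedImmersion jV.hom ∧
          AlgSp.IsFiniteMor (jV ≫ prU).hom ∧
          (∀ v : AlgSp.Points V.obj, AlgSp.Points.map (jV ≫ prU).hom v = u → AlgSp.Points.map (jV ≫ prX).hom v ∈ xs) ∧
          ∀ w : AlgSp.Points P.obj, w ∉ Set.range (AlgSp.Points.map jV.hom) → AlgSp.Points.map prU.hom w = u →
            AlgSp.Points.map prX.hom w ∉ xs := by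
  obtain ⟨V, b, hbe, hbs⟩ := Y.property.atlas
  obtain ⟨v, hv⟩ := surjective_ofPt b hbs y
  have hV := AlgSp.IsAlgSpace.yon_obj (S := S) V
  have sqP := IsPullback.of_hasPullback f.hom b
  have hP := isAlgSpace_of_isPullback Y.property.diag X.property hV sqP
  have hsl := locP_of_isPullback etLocal_lft X.property Y.property hP sqP hf1
  have hvy : AlgSp.Points.map b (AlgSp.Points.ofScheme V v) = y := by
    rw [← AlgSp.Points.ofPt_eq_map_ofScheme]; exact hv
  let A : Set (AlgSp.Points (pullback f.hom b)) :=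
    {q | AlgSp.Points.map (pullback.snd f.hom b) q = AlgSp.Points.ofScheme V v ∧
      AlgSp.Points.map (pullback.fst f.hom b) q ∈ xs}
  have hA : A.Finite := by
    rcases hf4 with hqc | hd
    · refine (finite_lqf_over_point hP hV ⟨hsl, isQuasiCompactMor_of_isPullback X.property Y.property hV sqP hqc⟩
        (AlgSp.Points.ofScheme V v)).subset ?_
      rintro q ⟨h1, h2⟩
      exact ⟨h1, (hasAtMor_lqf_iff hP hV hsl q).2
        ((relDim_baseChange X.property Y.property hV hP sqP hf1 q (fun d => d = 0)).2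
          ((hasAtMor_lqf_iff X.property Y.property hf1 _).1 (hf3 _ h2)))⟩
    · obtain ⟨r, hr, hmono, -⟩ := hd y
      refine (xs.finite_toSet.biUnion fun x hx => finite_fibre_of_mono_point X.property Y.property hV sqP r x
        (AlgSp.Points.ofScheme V v) ((hxs x hx).trans hvy.symm) (hr.trans hvy.symm)
        (hasAtMor_lqf_of_etale_chart Y.property b hbe _)).subset ?_
      rintro q ⟨h1, h2⟩
      exact Set.mem_biUnion h2 ⟨rfl, h1⟩
  obtain ⟨n, p, -, hp⟩ := hA.fin_param
  have hpA : ∀ i, p i ∈ A := fun i => hp ▸ ⟨i, rfl⟩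
  obtain ⟨U, b', u, ρ, hbe', hu, hρ, hover, O, jV, hjo, hjc, hfin, hin, hout, -⟩ :=
    exists_split_chart X.property Y.property f.hom hf1 hf2 b hbe v p (fun i => (hpA i).1)
      (fun i => hf3 _ (hpA i).2)
  refine ⟨⟨_, AlgSp.IsAlgSpace.yon_obj U⟩, ⟨b'⟩, AlgSp.Points.ofScheme U u,
    (isEtaleMor_iff_locP etLocal_etale (AlgSp.IsAlgSpace.yon_obj U) Y.property b').2
      (locP_of_repWith etLocal_etale (AlgSp.IsAlgSpace.yon_obj U) hbe'),
    ((AlgSp.Points.ofPt_eq_map_ofScheme b' u).symm.trans (hu.trans hv)), fun P prX prU sq => ?_⟩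
  let e := sq.isoPullback
  refine ⟨⟨_, AlgSp.IsAlgSpace.yon_obj O⟩, ⟨jV ≫ e.inv⟩,
    MorphismProperty.RespectsIso.postcomp _ e.inv jV hjo, MorphismProperty.RespectsIso.postcomp _ e.inv jV hjc, ?_, ?_⟩
  · show AlgSp.IsFiniteMor ((jV ≫ e.inv) ≫ prU.hom)
    rw [Category.assoc, IsPullback.isoPullback_inv_snd]
    exact hfin
  refine ⟨fun z hz => ?_, fun w hw hwu hwx => hw ?_⟩
  · have hz' : AlgSp.Points.map (jV ≫ pullback.snd f.hom b') z = AlgSp.Points.ofScheme U u := by
      rw [← IsPullback.isoPullback_inv_snd sq, ← Category.assoc]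
      exact hz
    obtain ⟨i, hi⟩ := hout z hz'
    show AlgSp.Points.map ((jV ≫ e.inv) ≫ prX.hom) z ∈ xs
    rw [Category.assoc, IsPullback.isoPullback_inv_fst, ← hρ, ← Category.assoc, AlgSp.Points.map_comp, ← hi]
    exact (hpA i).2
  · let w' := AlgSp.Points.map e.hom w
    have h1 : AlgSp.Points.map (pullback.snd f.hom b') w' = AlgSp.Points.ofScheme U u := by
      rw [← AlgSp.Points.map_comp, IsPullback.isoPullback_hom_snd]; exact hwu
    have h2 : AlgSp.Points.map ρ w' ∈ Set.range p := by
      rw [hp]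
      refine ⟨hover w' h1, ?_⟩
      show AlgSp.Points.map _ _ ∈ xs
      rw [← AlgSp.Points.map_comp, hρ, ← AlgSp.Points.map_comp, IsPullback.isoPullback_hom_fst]
      exact hwx
    obtain ⟨z, hz⟩ := hin w' h1 h2
    refine ⟨z, ?_⟩
    show AlgSp.Points.map (jV ≫ e.inv) z = w
    rw [AlgSp.Points.map_comp, hz, ← AlgSp.Points.map_comp, Iso.hom_inv_id, AlgSp.Points.map_id]

end Groth.Agent.S10676
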