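import Groth.Statements.S10677
import Groth.Agent.AlgSpLib.SplitOff
-- import your own Groth.Agent.* helpers here

set_option autoImplicit false
universe u
open CategoryTheory CategoryTheory.Limits AlgebraicGeometry
open AlgSp

namespace Groth.Agent.S10677

open Groth.Agent.AlgSpLib

set_option backward.isDefEq.respectTransparency.types false

/-- For a separated morphism f : X ⟶ Y of algebraic spaces over S which is locally of finite type and a
point x of |X| with image y at which f is quasi-finite (some etale chart diagram through x has top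
arrow locally quasi-finite and locally of finite type on an open neighbourhood), there are an etale
morphism a : U ⟶ Y and a point u of |U| over y such that for the base change P = U ×_Y X there is an
open and closed subspace V ⊂ P, finite over U, containing a point mapping to x in |X| and to u in
|U|. -/
theorem result {S : Scheme.{u}} {X Y : AlgSp.Space S} (f : X ⟶ Y) (x : AlgSp.Points X.obj)
    (hf1 : AlgSp.LocP @LocallyOfFiniteType f.hom) (hf2 : AlgSp.IsSeparatedMor f.hom)
    (hf3 : AlgSp.HasAtMor (fun U _ h u => ∃ W : U.Opens, u ∈ W ∧ LocallyQuasiFinite (W.ι ≫ h) ∧ LocallyOfFiniteType (W.ι ≫ h)) f.hom x) :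
    ∃ (U : AlgSp.Space S) (a : U ⟶ Y) (u : AlgSp.Points U.obj), AlgSp.IsEtaleMor a.hom ∧
      AlgSp.Points.map a.hom u = AlgSp.Points.map f.hom x ∧
      ∀ (P : AlgSp.Space S) (prX : P ⟶ X) (prU : P ⟶ U), IsPullback prX.hom prU.hom f.hom a.hom →
        ∃ (V : AlgSp.Space S) (jV : V ⟶ P), AlgSp.RepWith @IsOpenImmersion jV.hom ∧ AlgSp.RepWith @IsClosedImmersion jV.hom ∧
          AlgSp.IsFiniteMor (jV ≫ prU).hom ∧
          ∃ v : AlgSp.Points V.obj, AlgSp.Points.map (jV ≫ prX).hom v = x ∧ AlgSp.Points.map (jV ≫ prU).hom v = u := by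
  obtain ⟨V, b, hbe, hbs⟩ := Y.property.atlas
  obtain ⟨v, hv⟩ := surjective_ofPt b hbs (AlgSp.Points.map f.hom x)
  obtain ⟨p, hp1, hp2⟩ := exists_point_of_isPullback (IsPullback.of_hasPullback f.hom b) (x := x)
    (y := AlgSp.Points.ofScheme V v) (by rw [← AlgSp.Points.ofPt_eq_map_ofScheme]; exact hv.symm)
  obtain ⟨U, b', u, ρ, hbe', hu, hρ, -, O, jV, hjo, hjc, hfin, -, -, hsec⟩ :=
    exists_split_chart X.property Y.property f.hom hf1 hf2 b hbe v (fun _ : Unit => p) (fun _ => hp2)
      (fun _ => hp1.symm ▸ hf3)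
  refine ⟨⟨_, AlgSp.IsAlgSpace.yon_obj U⟩, ⟨b'⟩, AlgSp.Points.ofScheme U u,
    (isEtaleMor_iff_locP etLocal_etale (AlgSp.IsAlgSpace.yon_obj U) Y.property b').2
      (locP_of_repWith etLocal_etale (AlgSp.IsAlgSpace.yon_obj U) hbe'),
    ((AlgSp.Points.ofPt_eq_map_ofScheme b' u).symm.trans (hu.trans hv)), fun P prX prU sq => ?_⟩
  let e := sq.isoPullback
  refine ⟨⟨_, AlgSp.IsAlgSpace.yon_obj O⟩, ⟨jV ≫ e.inv⟩,
    MorphismProperty.RespectsIso.postcomp _ e.inv jV hjo, MorphismProperty.RespectsIso.postcomp _ e.inv jV hjc, ?_, ?_⟩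
  · show AlgSp.IsFiniteMor ((jV ≫ e.inv) ≫ prU.hom)
    rw [Category.assoc, IsPullback.isoPullback_inv_snd]
    exact hfin
  obtain ⟨z, hz1, hz2⟩ := hsec ()
  refine ⟨z, ?_, ?_⟩
  · show AlgSp.Points.map ((jV ≫ e.inv) ≫ prX.hom) z = x
    rw [Category.assoc, IsPullback.isoPullback_inv_fst, ← hρ, ← Category.assoc, AlgSp.Points.map_comp, hz2, hp1]
  · show AlgSp.Points.map ((jV ≫ e.inv) ≫ prU.hom) z = _
    rw [Category.assoc, IsPullback.isoPullback_inv_snd]
    exact hz1

end Groth.Agent.S10677
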