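import Groth.Statements.S10678
import Groth.Agent.AlgSpLib.RelDimLocus
import Groth.Agent.AlgSpLib.PointsTop
import Groth.Agent.Stk19b.FieldDim
import Groth.Agent.AlgSpLib.DecentPoints
import Groth.Agent.AlgSpLib.MorMore2
-- import your own Groth.Agent.* helpers here

set_option autoImplicit false
universe u
open CategoryTheory CategoryTheory.Limits AlgebraicGeometry
open AlgSp

namespace Groth.Agent.S10678

set_option backward.isDefEq.respectTransparency.types false

/-- For a morphism f : X ⟶ Y of finite type between algebraic spaces over S, a point y of |Y| and any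
field point k of Y in the class of y, with fibre X_k (pullback in fppf sheaves): the dimension of
X_k (supremum of the dimensions of its etale scheme charts) is -∞ exactly when y lies outside the
image of |X|, and for every natural number d it is at most d exactly when f has relative dimension
at most d at every point of |X| over y (some etale chart diagram through the point whose top arrow
has local fibre dimension at most d there). -/
theorem result {S : Scheme.{u}} {X Y : AlgSp.Space S} (f : X ⟶ Y) (hf : AlgSp.IsFiniteTypeMor f.hom)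
    (y : AlgSp.Points Y.obj) (k : AlgSp.FieldPt Y.obj) (hk : AlgSp.Points.mk k = y)
    (Xk : AlgSp.Sp S) (fst : Xk ⟶ X.obj) (snd : Xk ⟶ (AlgSp.yon S).obj k.pt) (h : IsPullback fst snd f.hom k.toHom) :
    (AlgSp.dim Xk = ⊥ ↔ y ∉ Set.range (AlgSp.Points.map f.hom)) ∧
      ∀ d : ℕ, (AlgSp.dim Xk ≤ d ↔
        ∀ x : AlgSp.Points X.obj, AlgSp.Points.map f.hom x = y →
          AlgSp.HasAtMor (fun _ _ h u => FlatMor.fibreDimAt h u ≤ (d : WithBot ℕ∞)) f.hom x) := by
  have hfl : AlgSp.LocP @LocallyOfFiniteType f.hom := hf.1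
  have hk' : IsAlgSpace ((AlgSp.yon S).obj k.pt) := AlgSp.IsAlgSpace.yon_obj _
  have hXk : IsAlgSpace Xk :=
    Groth.Agent.AlgSpLib.isAlgSpace_of_isPullback Y.property.diag X.property hk' h
  have hsub : Subsingleton ↥k.pt.left := inferInstanceAs (Subsingleton ↥(Spec (CommRingCat.of k.K)))
  have hsp : Subsingleton (AlgSp.Points ((AlgSp.yon S).obj k.pt)) :=
    (AlgSp.Points.schemeEquiv k.pt).symm.subsingleton
  let p₀ : AlgSp.Points ((AlgSp.yon S).obj k.pt) :=
    AlgSp.Points.ofScheme k.pt (IsLocalRing.closedPoint k.K)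
  have hp₀ : AlgSp.Points.map k.toHom p₀ = y := by
    rw [← hk]
    refine (AlgSp.Points.ofPt_eq_map_ofScheme k.toHom (IsLocalRing.closedPoint k.K)).symm.trans ?_
    exact Groth.Agent.AlgSpLib.ofPt_eq_ptOfHom_of_field k.toHom (IsLocalRing.closedPoint k.K) |>.trans
      (Groth.Agent.AlgSpLib.ptOfHom_toHom k)
  have hover : ∀ x : AlgSp.Points X.obj, AlgSp.Points.map f.hom x = y →
      ∃ z : AlgSp.Points Xk, AlgSp.Points.map fst z = x := fun x hx => by
    obtain ⟨z, hz, -⟩ := Groth.Agent.AlgSpLib.exists_point_of_isPullback h (hx.trans hp₀.symm)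
    exact ⟨z, hz⟩
  have hin : ∀ z : AlgSp.Points Xk, AlgSp.Points.map f.hom (AlgSp.Points.map fst z) = y := fun z => by
    rw [← AlgSp.Points.map_comp, h.w, AlgSp.Points.map_comp, Subsingleton.elim (AlgSp.Points.map snd z) p₀,
      hp₀]
  obtain ⟨U₀, a₀, hae₀, has₀⟩ := hXk.atlas
  have hle : ∀ (U : Over S) (a : (AlgSp.yon S).obj U ⟶ Xk), AlgSp.RepWith @Etale a →
      topologicalKrullDim ↥U.left ≤ AlgSp.dim Xk := fun U a ha =>
    le_iSup_of_le U (le_iSup_of_le a (le_iSup_of_le ha le_rfl))
  refine ⟨?_, fun d => ?_⟩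
  · constructor
    · rintro hbot ⟨x, hx⟩
      obtain ⟨z, -⟩ := hover x hx
      obtain ⟨u, -⟩ := Groth.Agent.AlgSpLib.surjective_ofPt a₀ has₀ z
      have : Nonempty ↥U₀.left := ⟨u⟩
      have h1 := hle U₀ a₀ hae₀
      rw [hbot, le_bot_iff] at h1
      exact (Order.krullDim_eq_bot_iff.1 h1).false
        ⟨closure {u}, isIrreducible_singleton.closure, isClosed_closure⟩
    · intro hy
      refine le_bot_iff.1 (iSup_le fun U => iSup_le fun a => iSup_le fun _ => ?_)
      have : IsEmpty ↥U.left := ⟨fun u => hy ⟨_, hin (AlgSp.Points.ofPt a u)⟩⟩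
      rw [Groth.Agent.Stk19b.FieldDim.topologicalKrullDim_eq_iSup_localDim]
      exact iSup_le fun u => isEmptyElim u
  · have key : ∀ (U : Over S) (a : (AlgSp.yon S).obj U ⟶ Xk), AlgSp.RepWith @Etale a → ∀ u : U.left,
        (AlgSp.HasAtMor (fun _ _ h u => FlatMor.fibreDimAt h u ≤ (d : WithBot ℕ∞)) f.hom
          (AlgSp.Points.map fst (AlgSp.Points.ofPt a u)) ↔ FlatMor.localDim U.left u ≤ (d : WithBot ℕ∞)) := by
      intro U a ha u
      obtain ⟨l, hl⟩ := (AlgSp.yon S).map_surjective (a ≫ snd)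
      rw [← Groth.Agent.AlgSpLib.relDim_baseChange X.property Y.property hk' hXk h hfl _
        (fun e => e ≤ (d : WithBot ℕ∞)), Groth.Agent.AlgSpLib.hasAtMor_fibreDim_pred hXk hk' snd a (𝟙 _) l
        ha (AlgSp.repWith_id _ _) (by rw [Category.comp_id, hl]) u (fun e => e ≤ (d : WithBot ℕ∞)),
        Groth.Agent.Stk19b.FieldDim.fibreDimAt_of_subsingleton]
    constructor
    · intro hd x hx
      obtain ⟨z, rfl⟩ := hover x hx
      obtain ⟨u, rfl⟩ := Groth.Agent.AlgSpLib.surjective_ofPt a₀ has₀ z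
      refine (key U₀ a₀ hae₀ u).2 ?_
      refine le_trans ?_ ((hle U₀ a₀ hae₀).trans hd)
      rw [Groth.Agent.Stk19b.FieldDim.topologicalKrullDim_eq_iSup_localDim]
      exact le_iSup (fun v => FlatMor.localDim U₀.left v) u
    · intro hd
      refine iSup_le fun U => iSup_le fun a => iSup_le fun ha => ?_
      rw [Groth.Agent.Stk19b.FieldDim.topologicalKrullDim_eq_iSup_localDim]
      exact iSup_le fun u => (key U a ha u).1 (hd _ (hin _))

end Groth.Agent.S10678
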