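import Groth.Statements.S10681
import Groth.Agent.AlgSpLib.GeomConnFinite
-- import your own Groth.Agent.* helpers here

set_option autoImplicit false
universe u
open CategoryTheory CategoryTheory.Limits AlgebraicGeometry
open AlgSp

namespace Groth.Agent.S10681

open Groth.Agent.AlgSpLib

/-- For a morphism f : X ⟶ Y between algebraic spaces over S and a geometric point ȳ of Y (an
algebraically closed field point), the geometric fibre X_ȳ (pullback in fppf sheaves) has connected
space of points if and only if for every scheme V with a representable etale a : h_V ⟶ Y and every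
point v of V through which ȳ factors, the fibre of X ×_Y V ⟶ V over v (pullback along the residue
field point of v) has connected space of points. -/
theorem result {S : Scheme.{u}} {X Y : AlgSp.Space S} (f : X ⟶ Y) (yb : AlgSp.FieldPt Y.obj) (hyb : yb.IsGeometric)
    (Xyb : AlgSp.Sp S) (fst : Xyb ⟶ X.obj) (snd : Xyb ⟶ (AlgSp.yon S).obj yb.pt) (h : IsPullback fst snd f.hom yb.toHom) :
    ConnectedSpace (AlgSp.Points Xyb) ↔
      ∀ (V : Over S) (a : (AlgSp.yon S).obj V ⟶ Y.obj), AlgSp.RepWith @Etale a →
        ∀ (v : ↥V.left) (c : yb.pt ⟶ V), (AlgSp.yon S).map c ≫ a = yb.toHom → c.left (IsLocalRing.closedPoint yb.K) = v →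
          ∀ (Xv : AlgSp.Sp S) (fst' : Xv ⟶ X.obj)
            (snd' : Xv ⟶ (AlgSp.yon S).obj (Over.mk (V.left.fromSpecResidueField v ≫ V.hom))),
            IsPullback fst' snd' f.hom ((AlgSp.yon S).map (Over.homMk (V.left.fromSpecResidueField v) rfl :
              Over.mk (V.left.fromSpecResidueField v ≫ V.hom) ⟶ V) ≫ a) →
            ConnectedSpace (AlgSp.Points Xv) := by
  exact geomFibre_connected_iff f yb hyb Xyb fst snd h

end Groth.Agent.S10681
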