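import Groth.Statements.S10684
import Groth.Agent.AlgSpLib.ClopenLift
import Groth.Agent.AlgSpLib.ClopenStage
import Groth.Agent.AlgSpLib.HullLimit
import Groth.Agent.AlgSpLib.GeomFibreComp
import Groth.Agent.AlgSpLib.EtSmSlice
import Groth.Agent.AlgSpLib.LimitDescend
-- import your own Groth.Agent.* helpers here

set_option autoImplicit false
universe u
open CategoryTheory CategoryTheory.Limits AlgebraicGeometry
open AlgSp

namespace Groth.Agent.S10684

open Groth.Agent.AlgSpLib Groth.Agent.HenselLib

set_option backward.isDefEq.respectTransparency false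
set_option backward.isDefEq.respectTransparency.types false
set_option linter.style.haveILetI false
set_option maxHeartbeats 3200000

attribute [local instance] CategoryTheory.isConnected_of_hasTerminal

variable {S : Scheme.{u}}

theorem finite_components {T : Type*} [TopologicalSpace T] [TopologicalSpace.NoetherianSpace T] :
    Finite (_root_.ConnectedComponents T) := by
  haveI : Finite ↥(irreducibleComponents T) := TopologicalSpace.NoetherianSpace.finite_irreducibleComponents.to_subtype
  refine Finite.of_surjective (fun Z : ↥(irreducibleComponents T) =>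
    ConnectedComponents.mk (Z.2.prop.1.some)) fun c => ?_
  obtain ⟨x, rfl⟩ := ConnectedComponents.surjective_coe c
  refine ⟨⟨irreducibleComponent x, irreducibleComponent_mem_irreducibleComponents x⟩, ?_⟩
  exact ConnectedComponents.coe_eq_coe'.2 (isIrreducible_irreducibleComponent.2.isPreconnected.subset_connectedComponent
    mem_irreducibleComponent (Set.Nonempty.some_mem _))

theorem exists_clopens {T : Type*} [TopologicalSpace T] [TopologicalSpace.NoetherianSpace T] {n : ℕ}
    (h : (n : ℕ∞) < ENat.card (_root_.ConnectedComponents T)) :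
    ∃ C : Fin (n + 1) → Set T, (∀ a, IsClopen (C a) ∧ (C a).Nonempty) ∧ Pairwise (fun a b => Disjoint (C a) (C b)) := by
  haveI : Finite (_root_.ConnectedComponents T) := finite_components
  letI := Fintype.ofFinite (_root_.ConnectedComponents T)
  rw [ENat.card_eq_coe_fintype_card] at h
  have h' : n + 1 ≤ Fintype.card (_root_.ConnectedComponents T) := by exact_mod_cast h
  obtain ⟨e⟩ := Function.Embedding.nonempty_of_card_le (α := Fin (n + 1)) (β := _root_.ConnectedComponents T)
    (by simpa using h')
  refine ⟨fun a => ConnectedComponents.mk ⁻¹' {e a}, fun a => ⟨⟨?_, ?_⟩, ConnectedComponents.surjective_coe (e a)⟩,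
    fun a b hab => Set.disjoint_left.2 fun x hx hx' => hab (e.injective (hx.symm.trans hx'))⟩
  · obtain ⟨x, hx⟩ := ConnectedComponents.surjective_coe (e a)
    show IsClosed (ConnectedComponents.mk ⁻¹' {e a})
    rw [← hx, connectedComponents_preimage_singleton]
    exact isClosed_connectedComponent
  · rw [← isClosed_compl_iff, show (ConnectedComponents.mk ⁻¹' {e a})ᶜ =
      ⋃ c ∈ ({e a}ᶜ : Set (_root_.ConnectedComponents T)), ConnectedComponents.mk ⁻¹' {c} by ext; simp]
    refine (Set.toFinite _).isClosed_biUnion fun c _ => ?_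
    obtain ⟨x, rfl⟩ := ConnectedComponents.surjective_coe c
    rw [connectedComponents_preimage_singleton]
    exact isClosed_connectedComponent

theorem le_card_components {T : Type*} [TopologicalSpace T] {n : ℕ} (C : Fin (n + 1) → Set T)
    (hC : ∀ a, IsClopen (C a) ∧ (C a).Nonempty) (hd : Pairwise (fun a b => Disjoint (C a) (C b))) :
    (n : ℕ∞) < ENat.card (_root_.ConnectedComponents T) := by
  choose x hx using fun a => (hC a).2
  have hinj : Function.Injective (fun a => ConnectedComponents.mk (x a)) := fun a b e => by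
    by_contra hab
    have h1 : x a ∈ connectedComponent (x b) := ConnectedComponents.coe_eq_coe'.1 e
    exact Set.disjoint_left.1 (hd hab) (hx a) ((hC b).1.connectedComponent_subset (hx b) h1)
  calc (n : ℕ∞) < ((n + 1 : ℕ) : ℕ∞) := by exact_mod_cast Nat.lt_succ_self n
    _ = ENat.card (Fin (n + 1)) := by simp [ENat.card_eq_coe_fintype_card]
    _ ≤ _ := ENat.card_le_card_of_injective hinj

theorem exists_geometric (Y : AlgSp.Sp S) {V : Over S} (b : (yon S).obj V ⟶ Y) (v : V.left) :
    ∃ (k : FieldPt Y) (c : k.pt ⟶ V), k.IsGeometric ∧ (yon S).map c ≫ b = k.toHom ∧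
      c.left (IsLocalRing.closedPoint k.K) = v ∧ Points.mk k = Points.ofPt b v := by
  obtain ⟨K, _, hK, ξ, hξ⟩ := exists_geometric_point V.left v
  let c : Over.mk (ξ ≫ V.hom) ⟶ V := Over.homMk ξ rfl
  let k : FieldPt Y := ⟨K, ξ ≫ V.hom, (J S).uliftYonedaEquiv ((yon S).map c ≫ b)⟩
  have hk : k.toHom = (yon S).map c ≫ b := Equiv.symm_apply_apply _ _
  refine ⟨k, c, hK, hk.symm, hξ, ?_⟩
  rw [← Points.ofPt_toHom k (IsLocalRing.closedPoint k.K), hk, Points.ofPt_eq_map_ofScheme, Points.map_comp,
    map_yon_map_ofScheme, Points.ofPt_eq_map_ofScheme, ← hξ]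
  rfl


/-- For a proper flat morphism f : X ⟶ Y between algebraic spaces over S which is of finite
presentation, the function on |Y| counting the connected components of geometric fibres (for y, the
number in ℕ∞ of connected components of the space of points of X_k for an algebraically closed field
point k in the class of y) is lower semi-continuous: for each d the set of y all of whose geometric
fibres have more than d connected components is open. -/
theorem result {S : Scheme.{u}} {X Y : AlgSp.Space S} (f : X ⟶ Y)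
    (hf1 : AlgSp.IsProperMor f.hom) (hf2 : AlgSp.LocP @Flat f.hom) (hf3 : AlgSp.IsFinitePresentationMor f.hom) (d : ℕ∞) :
    IsOpen {y : AlgSp.Points Y.obj | ∀ (k : AlgSp.FieldPt Y.obj), AlgSp.Points.mk k = y → k.IsGeometric →
        ∀ (Xk : AlgSp.Sp S) (a : Xk ⟶ X.obj) (b : Xk ⟶ (AlgSp.yon S).obj k.pt), IsPullback a b f.hom k.toHom →
          d < ENat.card (_root_.ConnectedComponents (AlgSp.Points Xk))} := by
  classical
  rw [isOpen_iff_forall_mem_open]
  intro y hy
  obtain ⟨V₀, b₀, hbe₀, hbs₀⟩ := Y.property.atlas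
  obtain ⟨v₀, hv₀⟩ := surjective_ofPt b₀ hbs₀ y
  obtain ⟨Wv, hWv, hvW, -⟩ := exists_isAffineOpen_mem_and_subset (X := V₀.left) (x := v₀) (U := ⊤) trivial
  let R := Γ(V₀.left, Wv)
  let str : Spec R ⟶ S := hWv.fromSpec ≫ V₀.hom
  let V : Over S := Over.mk str
  let jV : V ⟶ V₀ := Over.homMk hWv.fromSpec rfl
  let b : (yon S).obj V ⟶ Y.obj := (yon S).map jV ≫ b₀
  have hbe : RepWith @Etale b :=
    RepWith.comp ((repWith_yon_map_iff @Etale jV).2 (inferInstanceAs (Etale hWv.fromSpec))) hbe₀
  obtain ⟨v, hv⟩ : v₀ ∈ Set.range hWv.fromSpec := by rw [hWv.range_fromSpec]; exact hvW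
  obtain ⟨k, ck, hk, hkb, hkv, hky⟩ := exists_geometric Y.obj b v
  have hky' : Points.mk k = y := by
    rw [hky, Points.ofPt_eq_map_ofScheme]
    show Points.map ((yon S).map jV ≫ b₀) _ = y
    rw [ClopenLift.map_schemePt, ← hv₀, Points.ofPt_eq_map_ofScheme]
    exact congrArg (fun z => Points.map b₀ (Points.ofScheme V₀ z)) hv
  haveI : IsAlgClosed k.K := hk
  obtain ⟨φ, hφ⟩ := Spec.map_surjective (show Spec (CommRingCat.of k.K) ⟶ Spec R from ck.left)
  letI : Algebra R k.K := φ.hom.toAlgebra
  let A := Hull R k.K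
  haveI : HenselianLocalRing A := henselianLocalRing_hull
  haveI : HenselianRing A (IsLocalRing.maximalIdeal A) := inferInstance
  haveI : IsSepClosed (IsLocalRing.ResidueField A) := HullLim.isSepClosed_residueField
  let strA : Spec (CommRingCat.of A) ⟶ S := Spec.map (CommRingCat.ofHom (algebraMap R A)) ≫ str
  let cA : ClopenLift.base strA ⟶ V := Over.homMk (Spec.map (CommRingCat.ofHom (algebraMap R A))) rfl
  -- the geometric point factors through the closed point
  let B0 : Over S := ClopenLift.base0 (IsLocalRing.maximalIdeal A) strA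
  let ρ : (A ⧸ IsLocalRing.maximalIdeal A) →+* k.K := Ideal.Quotient.lift _ (hullPt R k.K).toRingHom fun x hx => by
    rw [maximalIdeal_hull] at hx
    exact hx
  have hρ : Spec.map (CommRingCat.ofHom ρ) ≫ Spec.map (CommRingCat.ofHom (Ideal.Quotient.mk (IsLocalRing.maximalIdeal A))) ≫
      Spec.map (CommRingCat.ofHom (algebraMap R A)) = ck.left := by
    rw [← Spec.map_comp, ← Spec.map_comp]
    refine Eq.trans ?_ hφ
    refine congrArg Spec.map (CommRingCat.hom_ext (RingHom.ext fun x => ?_))
    exact (hullPt R k.K).commutes x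
  let cκ : k.pt ⟶ B0 := Over.homMk (Spec.map (CommRingCat.ofHom ρ)) (by
    show Spec.map _ ≫ Spec.map _ ≫ Spec.map _ ≫ str = k.str
    refine Eq.trans ?_ (Over.w ck)
    show _ = ck.left ≫ str
    rw [← hρ]
    simp only [Category.assoc])
  have hcκ : cκ ≫ ClopenLift.baseι (IsLocalRing.maximalIdeal A) strA ≫ cA = ck := Over.OverMorphism.ext hρ
  -- the system of etale neighbourhoods
  let E := HullLim.nbhds (K := k.K) str
  let cEn := HullLim.nbhdsCone (K := k.K) str
  obtain ⟨hcEn⟩ := HullLim.isLimit_nbhdsCone (K := k.K) str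
  let e : ∀ P, E.obj P ⟶ V := fun P => Over.homMk (Spec.map (CommRingCat.ofHom (algebraMap R P.unop.Ring))) rfl
  have hen : ∀ {P Q} (g : P ⟶ Q), E.map g ≫ e Q = e P := fun g => by
    ext
    show Spec.map _ ≫ Spec.map _ = Spec.map _
    rw [← Spec.map_comp, ← CommRingCat.ofHom_comp]
    exact congrArg (fun h => Spec.map (CommRingCat.ofHom h)) g.unop.map.comp_algebraMap
  have heπ : ∀ P, cEn.π.app P ≫ e P = cA := fun P => by
    ext
    show Spec.map _ ≫ Spec.map _ = Spec.map _
    rw [← Spec.map_comp, ← CommRingCat.ofHom_comp]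
    exact congrArg (fun h => Spec.map (CommRingCat.ofHom h)) (ι P.unop).comp_algebraMap
  have sqV := IsPullback.of_hasPullback f.hom b
  let fV : pullback f.hom b ⟶ (yon S).obj V := pullback.snd f.hom b
  have hXV : IsAlgSpace (pullback f.hom b) :=
    isAlgSpace_of_isPullback Y.property.diag X.property (IsAlgSpace.yon_obj V) sqV
  have hfV : IsProperMor fV := isProperMor_of_isPullback X.property Y.property (IsAlgSpace.yon_obj V) sqV hf1
  let F : (Pt R k.K)ᵒᵖ ⥤ AlgSp.Sp S :=
    { obj := fun P => pullback fV ((yon S).map (e P))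
      map := fun {P Q} g => pullback.lift (pullback.fst _ _) (pullback.snd _ _ ≫ (yon S).map (E.map g))
        (by rw [Category.assoc, ← Functor.map_comp, hen, pullback.condition])
      map_id := fun P => by apply pullback.hom_ext <;> simp
      map_comp := fun g h => by apply pullback.hom_ext <;> simp }
  let α : F ⟶ E ⋙ yon S :=
    { app := fun P => pullback.snd _ _
      naturality := fun P Q g => by simp [F] }
  let gA : (yon S).obj (ClopenLift.base strA) ⟶ (yon S).obj V := (yon S).map cA
  let cF : Cone F :=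
    { pt := pullback fV gA
      π :=
      { app := fun P => pullback.lift (pullback.fst fV gA) (pullback.snd fV gA ≫ (yon S).map (cEn.π.app P))
          (by rw [Category.assoc, ← Functor.map_comp, heπ, pullback.condition])
        naturality := fun P Q g => by
          apply pullback.hom_ext
          · simp [F]
          · simp only [F, Functor.const_obj_map, Category.id_comp, pullback.lift_snd, Category.assoc,
              pullback.lift_snd_assoc, ← Functor.map_comp]
            exact (Category.id_comp _).trans (congrArg (fun t => pullback.snd fV gA ≫ (yon S).map t) (cEn.w g).symm) } }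
  have hFsq : ∀ P, IsPullback (cF.π.app P) (pullback.snd fV gA) (α.app P) ((yon S).map (cEn.π.app P)) := fun P => by
    refine IsPullback.of_right (h₁₂ := pullback.fst fV ((yon S).map (e P))) ?_ (pullback.lift_snd _ _ _)
      (IsPullback.of_hasPullback fV ((yon S).map (e P)))
    rw [show cF.π.app P ≫ pullback.fst fV ((yon S).map (e P)) = pullback.fst fV gA from pullback.lift_fst _ _ _,
      ← Functor.map_comp, heπ]
    exact IsPullback.of_hasPullback fV gA
  haveI : IsConnected (Pt R k.K)ᵒᵖ := IsCofiltered.isConnected _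
  have hcF : IsLimit cF := isLimitOfIsPullbackOfIsConnected α cF ((yon S).mapCone cEn)
    { hom := pullback.snd fV gA, w := fun P => (pullback.lift_snd _ _ _).symm } hFsq (isLimitOfPreserves (yon S) hcEn)
  have hF : ∀ P, IsAlgSpace (F.obj P) := fun P => isAlgSpace_of_isPullback (IsAlgSpace.yon_obj V).diag hXV
    (IsAlgSpace.yon_obj _) (IsPullback.of_hasPullback fV ((yon S).map (e P)))
  have hFa : ∀ (P Q : (Pt R k.K)ᵒᵖ) (g : P ⟶ Q), IsAffineMor (F.map g) := fun P Q g => by
    have sq : IsPullback (F.map g) (α.app P) (α.app Q) ((yon S).map (E.map g)) := by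
      refine IsPullback.of_right (h₁₂ := pullback.fst fV ((yon S).map (e Q))) ?_ (pullback.lift_snd _ _ _)
        (IsPullback.of_hasPullback fV ((yon S).map (e Q)))
      rw [show F.map g ≫ pullback.fst fV ((yon S).map (e Q)) = pullback.fst fV ((yon S).map (e P)) from
        pullback.lift_fst _ _ _, ← Functor.map_comp, hen]
      exact IsPullback.of_hasPullback fV ((yon S).map (e P))
    haveI : IsAffineHom (E.map g).left := inferInstanceAs (IsAffineHom (Spec.map _))
    exact isAffineMor_of_repWith (RepWith.baseChange sq.flip ((repWith_yon_map_iff @IsAffineHom _).2 ‹_›))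
  have hαp : ∀ P, IsProperMor (α.app P) := fun P =>
    isProperMor_of_isPullback hXV (IsAlgSpace.yon_obj V) (IsAlgSpace.yon_obj _)
      (IsPullback.of_hasPullback fV ((yon S).map (e P))) hfV
  haveI hEaff : ∀ P, IsAffine (E.obj P).left := fun P => inferInstanceAs (IsAffine (Spec _))
  have hFc : ∀ P, IsQuasiCompactSp (F.obj P) := fun P =>
    OpenFac.isQuasiCompactSp_of_mor (hF P) (IsAlgSpace.yon_obj _) (hαp P).2.1.2 (Stk19.isQuasiCompactSp_yon (E.obj P))
  -- the closed fibre
  have hXA : IsAlgSpace cF.pt := isAlgSpace_of_isPullback (IsAlgSpace.yon_obj V).diag hXV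
    (IsAlgSpace.yon_obj _) (IsPullback.of_hasPullback fV gA)
  have hsA : IsProperMor (pullback.snd fV gA) := isProperMor_of_isPullback hXV (IsAlgSpace.yon_obj V)
    (IsAlgSpace.yon_obj _) (IsPullback.of_hasPullback fV gA) hfV
  let ιb := (yon S).map (ClopenLift.baseι (IsLocalRing.maximalIdeal A) strA)
  have sq0 := IsPullback.of_hasPullback (pullback.snd fV gA) ιb
  let X0 : AlgSp.Space S := ⟨pullback (pullback.snd fV gA) ιb,
    isAlgSpace_of_isPullback (IsAlgSpace.yon_obj _).diag hXA (IsAlgSpace.yon_obj _) sq0⟩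
  let s0 : X0.obj ⟶ (yon S).obj B0 := pullback.snd _ _
  have hs0 : IsProperMor s0 := isProperMor_of_isPullback hXA (IsAlgSpace.yon_obj _) (IsAlgSpace.yon_obj _) sq0 hsA
  haveI : TopologicalSpace.NoetherianSpace (Points X0.obj) := by
    haveI : IsAffine B0.left := inferInstanceAs (IsAffine (Spec _))
    obtain ⟨W, h, hh, hhs⟩ := ClopenLift.exists_finite_cover X0 s0 hs0.1 hs0.2.1.2
    have hhp : IsProperMor h := ((Groth.Agent.S10271.result (X := (AlgSp.ofScheme S).obj W) (Y := X0)
      (ObjectProperty.homMk h)).1 hh).2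
    obtain ⟨w, hw⟩ := (yon S).map_surjective (h ≫ s0)
    haveI : IsProper w.left := (isProperMor_yon_map_iff' w).1
      (hw ▸ isProperMor_comp (IsAlgSpace.yon_obj W) X0.property (IsAlgSpace.yon_obj _) hhp hs0)
    haveI : IsLocallyNoetherian (Spec (CommRingCat.of (A ⧸ IsLocalRing.maximalIdeal A))) := by
      letI : Field (A ⧸ IsLocalRing.maximalIdeal A) := Ideal.Quotient.field _
      infer_instance
    haveI : IsLocallyNoetherian W.left :=
      LocallyOfFiniteType.isLocallyNoetherian (show W.left ⟶ Spec (CommRingCat.of (A ⧸ IsLocalRing.maximalIdeal A)) from w.left)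
    haveI : CompactSpace W.left := QuasiCompact.compactSpace_of_compactSpace w.left
    haveI : IsNoetherian W.left := ⟨⟩
    haveI : TopologicalSpace.NoetherianSpace (Points ((yon S).obj W)) :=
      TopologicalSpace.noetherianSpace_of_surjective _ (Points.schemeHomeo W).continuous (Points.schemeHomeo W).surjective
    exact TopologicalSpace.noetherianSpace_of_surjective _ (Points.continuous_map h) hhs
  -- counting
  have sqX0 : IsPullback (pullback.fst (pullback.snd fV gA) ιb ≫ pullback.fst fV gA ≫ pullback.fst f.hom b) s0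
      f.hom (ιb ≫ gA ≫ b) :=
    sq0.paste_horiz ((IsPullback.of_hasPullback fV gA).paste_horiz sqV)
  have sqk' := IsPullback.of_hasPullback s0 ((yon S).map cκ)
  have hcard0 := hy k hky' hk _ _ _ ((show k.toHom = (yon S).map cκ ≫ ιb ≫ gA ≫ b by
    rw [← hkb, ← hcκ]; simp [ιb, gA]) ▸ sqk'.paste_horiz sqX0)
  have hcards : ENat.card (_root_.ConnectedComponents (Points (pullback s0 ((yon S).map cκ)))) =
      ENat.card (_root_.ConnectedComponents (Points X0.obj)) := by
    letI : Field (A ⧸ IsLocalRing.maximalIdeal A) := Ideal.Quotient.field _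
    haveI : IsSepClosed (A ⧸ IsLocalRing.maximalIdeal A) := ‹IsSepClosed (IsLocalRing.ResidueField A)›
    exact card_components_bc_field (K := A ⧸ IsLocalRing.maximalIdeal A) (L := k.K) cκ X0.property sqk'
  rw [hcards] at hcard0
  obtain ⟨n, rfl⟩ := ENat.ne_top_iff_exists.1 hcard0.ne_top
  obtain ⟨C0, hC0, hC0d⟩ := exists_clopens hcard0
  -- lift
  have hlift := fun a => ClopenLift.exists_clopen_lift (IsLocalRing.maximalIdeal A) strA ⟨cF.pt, hXA⟩
    (pullback.snd fV gA) hsA X0 (pullback.fst _ _) s0 sq0 (hC0 a).1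
  choose C hC hCi using hlift
  obtain ⟨o⟩ := IsCofiltered.nonempty (C := (Pt R k.K)ᵒᵖ)
  have hstage := fun a => ClopenStage.exists_stage_clopen F hF hFa cF hcF o (hFc o) (α.app o) (hαp o).1 (hC a)
  choose i O hO hOi using hstage
  obtain ⟨P, hP⟩ := IsCofiltered.inf_objs_exists (Finset.univ.image i)
  let t : ∀ a, P ⟶ i a := fun a => (hP (Finset.mem_image_of_mem i (Finset.mem_univ a))).some
  let O₁ : Fin (n + 1) → Set (Points (F.obj P)) := fun a => Points.map (F.map (t a)) ⁻¹' O a
  let O₂ : Fin (n + 1) → Set (Points (F.obj P)) := fun a => O₁ a \ ⋃ c ∈ {c | c < a}, O₁ c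
  have hO₁ : ∀ a, IsClopen (O₁ a) := fun a => (hO a).preimage (Points.continuous_map _)
  have hO₂ : ∀ a, IsClopen (O₂ a) := fun a => (hO₁ a).diff ((Set.toFinite _).isClopen_biUnion fun c _ => hO₁ c)
  have hO₂d : Pairwise (fun a c => Disjoint (O₂ a) (O₂ c)) := fun a c hac => Set.disjoint_left.2 fun x hxa hxc => by
    rcases lt_or_gt_of_ne hac with h | h
    · exact hxc.2 (Set.mem_biUnion (show a ∈ {c' | c' < c} from h) hxa.1)
    · exact hxa.2 (Set.mem_biUnion (show c ∈ {c' | c' < a} from h) hxc.1)
  have hO₁C : ∀ a, Points.map (cF.π.app P) ⁻¹' O₁ a = C a := fun a => by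
    rw [← Set.preimage_comp, show Points.map (F.map (t a)) ∘ Points.map (cF.π.app P) = Points.map (cF.π.app (i a)) from
      funext fun z => by
        show Points.map _ (Points.map _ z) = _
        rw [← Points.map_comp, cF.w]]
    exact hOi a
  -- the image in the neighbourhood
  let V' := E.obj P
  let v' : V'.left := (cEn.π.app P).left (IsLocalRing.closedPoint A)
  let N : Fin (n + 1) → Set V'.left := fun a =>
    {z | Points.ofScheme V' z ∈ Points.map (α.app P) '' O₂ a}
  have hNo : ∀ a, IsOpen (N a) := fun a => by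
    obtain ⟨U, u, hue, hus⟩ := (hF P).atlas
    obtain ⟨τ, hτ⟩ := (yon S).map_surjective (u ≫ α.app P)
    haveI : Flat τ.left := locP_yon_map (g := τ) (hτ ▸ locP_comp etLocal_flat (IsAlgSpace.yon_obj U) (hF P)
      (IsAlgSpace.yon_obj _) (locP_of_repWith etLocal_flat (IsAlgSpace.yon_obj U) (RepWith.mono etLocal_flat.of_etale hue))
      (locP_of_isPullback etLocal_flat hXV (IsAlgSpace.yon_obj V) (hF P) (IsPullback.of_hasPullback fV ((yon S).map (e P)))
        (locP_of_isPullback etLocal_flat X.property Y.property hXV sqV hf2)))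
    haveI : LocallyOfFinitePresentation τ.left := locP_yon_map (g := τ) (hτ ▸ locP_comp etLocal_lfp (IsAlgSpace.yon_obj U) (hF P)
      (IsAlgSpace.yon_obj _) (locP_of_repWith etLocal_lfp (IsAlgSpace.yon_obj U) (RepWith.mono etLocal_lfp.of_etale hue))
      (locP_of_isPullback etLocal_lfp hXV (IsAlgSpace.yon_obj V) (hF P) (IsPullback.of_hasPullback fV ((yon S).map (e P)))
        (locP_of_isPullback etLocal_lfp X.property Y.property hXV sqV hf3.1)))
    haveI : UniversallyOpen τ.left := inferInstance
    have ekey : ∀ w : U.left, Points.map (α.app P) (Points.ofPt u w) = Points.ofScheme V' (τ.left w) := fun w => by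
      rw [Points.ofPt_eq_map_ofScheme, ← Points.map_comp, ← hτ, map_yon_map_ofScheme]
    have eN : N a = τ.left '' (Points.ofPt u ⁻¹' O₂ a) := by
      ext z
      constructor
      · rintro ⟨x, hx, e'⟩
        obtain ⟨w, rfl⟩ := surjective_ofPt u hus x
        exact ⟨w, hx, (Points.schemeEquiv V').injective ((ekey w).symm.trans e')⟩
      · rintro ⟨w, hw, rfl⟩
        exact ⟨_, hw, ekey w⟩
    rw [eN]
    exact τ.left.isOpenMap _ ((hO₂ a).2.preimage (Points.continuous_ofPt u))
  have hNv : ∀ a, v' ∈ N a := fun a => by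
    obtain ⟨x0, hx0⟩ := (hC0 a).2
    refine ⟨Points.map (cF.π.app P) (Points.map (pullback.fst _ _) x0), ⟨?_, fun hmem => ?_⟩, ?_⟩
    · show Points.map (pullback.fst _ _) x0 ∈ Points.map (cF.π.app P) ⁻¹' O₁ a
      rw [hO₁C]
      exact (Set.ext_iff.1 (hCi a) x0).2 hx0
    · obtain ⟨c, hc, hcm⟩ := Set.mem_iUnion₂.1 hmem
      have hc' : Points.map (pullback.fst (pullback.snd fV gA) ιb) x0 ∈ C c := (hO₁C c) ▸ hcm
      exact Set.disjoint_left.1 (hC0d (ne_of_lt hc)) ((Set.ext_iff.1 (hCi c) x0).1 hc') hx0
    · obtain ⟨z, hz⟩ := (Points.schemeEquiv B0).surjective (Points.map s0 x0)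
      rw [← Points.map_comp, ← Points.map_comp, show pullback.fst (pullback.snd fV gA) ιb ≫ cF.π.app P ≫ α.app P =
        s0 ≫ (yon S).map (ClopenLift.baseι (IsLocalRing.maximalIdeal A) strA ≫ cEn.π.app P) by
          rw [(hFsq P).w, pullback.condition_assoc, Functor.map_comp], Points.map_comp, ← hz]
      show Points.map _ (Points.ofScheme B0 z) = _
      rw [map_yon_map_ofScheme]
      refine congrArg (Points.ofScheme V') (congrArg (cEn.π.app P).left ?_)
      show Spec.map (CommRingCat.ofHom (Ideal.Quotient.mk (IsLocalRing.maximalIdeal A))) z = IsLocalRing.closedPoint A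
      refine PrimeSpectrum.ext (((IsLocalRing.maximalIdeal.isMaximal A).eq_of_le (PrimeSpectrum.isPrime _).ne_top ?_).symm)
      intro x hx
      show Ideal.Quotient.mk (IsLocalRing.maximalIdeal A) x ∈ z.asIdeal
      rw [Ideal.Quotient.eq_zero_iff_mem.2 hx]
      exact zero_mem _
  let M : Set V'.left := ⋂ a, N a
  let be : (yon S).obj V' ⟶ Y.obj := (yon S).map (e P) ≫ b
  have hbe' : RepWith @Etale be :=
    RepWith.comp ((repWith_yon_map_iff @Etale (e P)).2 (HullLim.etale_nbhds str P)) hbe
  refine ⟨Points.ofPt be '' M, ?_, isOpenMap_ofPt be hbe' _ (isOpen_iInter_of_finite hNo), v', Set.mem_iInter.2 hNv, ?_⟩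
  · rintro _ ⟨v'', hv'', rfl⟩ k' hk'e hk' Xk a' b' hsq
    obtain ⟨k'', ck'', hk'', hkb'', hkv'', hky''⟩ := exists_geometric Y.obj be v''
    have sq'' := IsPullback.of_hasPullback f.hom k''.toHom
    rw [card_components_geomFibre X.property Y.property f.hom k' k'' hk' hk'' (hk'e.trans hky''.symm) hsq sq'']
    have sqP : IsPullback (pullback.fst fV ((yon S).map (e P)) ≫ pullback.fst f.hom b) (α.app P) f.hom be :=
      (IsPullback.of_hasPullback fV ((yon S).map (e P))).paste_horiz sqV
    let r : pullback f.hom k''.toHom ⟶ F.obj P := sqP.lift (pullback.fst _ _) (pullback.snd _ _ ≫ (yon S).map ck'')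
      (by rw [pullback.condition, Category.assoc, hkb''])
    have sqr : IsPullback r (pullback.snd f.hom k''.toHom) (α.app P) ((yon S).map ck'') := by
      refine IsPullback.of_right ?_ (sqP.lift_snd _ _ _) sqP
      rw [sqP.lift_fst, hkb'']
      exact sq''
    refine le_card_components (fun a => Points.map r ⁻¹' O₂ a) (fun a => ⟨(hO₂ a).preimage (Points.continuous_map r), ?_⟩)
      fun a c hac => (hO₂d hac).preimage _
    obtain ⟨x, hx, hxe⟩ := Set.mem_iInter.1 hv'' a
    obtain ⟨z, hz, -⟩ := exists_point_of_isPullback sqr (x := x)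
      (y := Points.ofScheme k''.pt (IsLocalRing.closedPoint k''.K)) (by rw [hxe, map_yon_map_ofScheme, hkv''])
    exact ⟨z, show Points.map r z ∈ O₂ a from hz ▸ hx⟩
  · rw [← hky', hky, Points.ofPt_eq_map_ofScheme, Points.ofPt_eq_map_ofScheme]
    show Points.map ((yon S).map (e P) ≫ b) _ = _
    rw [ClopenLift.map_schemePt]
    refine congrArg (fun z => Points.map b (Points.ofScheme V z)) ?_
    show Spec.map _ ((cEn.π.app P).left (IsLocalRing.closedPoint A)) = v
    rw [← hkv]
    have e1 : (cEn.π.app P ≫ e P).left (IsLocalRing.closedPoint A) = cA.left (IsLocalRing.closedPoint A) :=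
      congrArg (fun t => t.left (IsLocalRing.closedPoint A)) (heπ P)
    refine e1.trans ?_
    show Spec.map (CommRingCat.ofHom (algebraMap R A)) _ = ck.left (IsLocalRing.closedPoint k.K)
    rw [← hρ, Scheme.Hom.comp_apply, Scheme.Hom.comp_apply]
    refine congrArg _ (PrimeSpectrum.ext ?_)
    refine ((IsLocalRing.maximalIdeal.isMaximal A).eq_of_le (PrimeSpectrum.isPrime _).ne_top ?_)
    intro x hx
    show ρ (Ideal.Quotient.mk (IsLocalRing.maximalIdeal A) x) ∈ (IsLocalRing.closedPoint k.K).asIdeal
    rw [Ideal.Quotient.eq_zero_iff_mem.2 hx, map_zero]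
    exact zero_mem _

end Groth.Agent.S10684
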