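import Groth.Statements.S10685
import Groth.Agent.AlgSpLib.CompsUsc
import Groth.Agent.AlgSpLib.GeomReducedPt
import Groth.Agent.AlgSpLib.ProperYon
import Groth.Agent.S10684
-- import your own Groth.Agent.* helpers here

set_option autoImplicit false
universe u
open CategoryTheory CategoryTheory.Limits AlgebraicGeometry
open AlgSp

namespace Groth.Agent.S10685

open Groth.Agent.AlgSpLib

set_option backward.isDefEq.respectTransparency false
set_option backward.isDefEq.respectTransparency.types false
set_option linter.style.haveILetI false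
set_option maxHeartbeats 1600000

/-- For a proper flat morphism f : X ⟶ Y between algebraic spaces over S which is of finite presentation
and all of whose fibres are geometrically reduced (the fibre of f at y being geometrically reduced
means: for every field point k of Y in the class of y and every field homomorphism k ⟶ k', the base
change X_{k'} (pullback in fppf sheaves) is reduced (some etale surjective scheme chart is
reduced)), the function on |Y| counting the connected components of geometric fibres is locally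
constant: for each d the set of y all of whose geometric fibres (X_k for an algebraically closed
field point k in the class of y) have exactly d connected components, counted in ℕ∞, is open. -/
theorem result {S : Scheme.{u}} {X Y : AlgSp.Space S} (f : X ⟶ Y)
    (hf1 : AlgSp.IsProperMor f.hom) (hf2 : AlgSp.LocP @Flat f.hom) (hf3 : AlgSp.IsFinitePresentationMor f.hom)
    (hred : ∀ y : AlgSp.Points Y.obj, ∀ (k : AlgSp.FieldPt Y.obj), AlgSp.Points.mk k = y →
        ∀ (k' : Type u) [Field k'] (φ : k.K →+* k') (Xk' : AlgSp.Sp S) (a : Xk' ⟶ X.obj)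
          (b : Xk' ⟶ (AlgSp.yon S).obj (Over.mk (Spec.map (CommRingCat.ofHom φ) ≫ k.str))),
          IsPullback a b f.hom ((AlgSp.yon S).map (Over.homMk (Spec.map (CommRingCat.ofHom φ)) rfl :
            Over.mk (Spec.map (CommRingCat.ofHom φ) ≫ k.str) ⟶ k.pt) ≫ k.toHom) →
          AlgSp.EtaleLocally (fun U => IsReduced U) Xk') (d : ℕ∞) :
    IsOpen {y : AlgSp.Points Y.obj | ∀ (k : AlgSp.FieldPt Y.obj), AlgSp.Points.mk k = y → k.IsGeometric →
        ∀ (Xk : AlgSp.Sp S) (a : Xk ⟶ X.obj) (b : Xk ⟶ (AlgSp.yon S).obj k.pt), IsPullback a b f.hom k.toHom →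
          ENat.card (_root_.ConnectedComponents (AlgSp.Points Xk)) = d} := by
  rw [isOpen_iff_forall_mem_open]
  intro y hy
  obtain ⟨V₀, b₀, hbe₀, hbs₀⟩ := Y.property.atlas
  obtain ⟨v₀, hv₀⟩ := surjective_ofPt b₀ hbs₀ y
  obtain ⟨Wv, hWv, hvW, -⟩ := exists_isAffineOpen_mem_and_subset (X := V₀.left) (x := v₀) (U := ⊤) trivial
  let V : Over S := Over.mk (hWv.fromSpec ≫ V₀.hom)
  let jV : V ⟶ V₀ := Over.homMk hWv.fromSpec rfl
  haveI : IsAffine V.left := inferInstanceAs (IsAffine (Spec _))
  let b : (yon S).obj V ⟶ Y.obj := (yon S).map jV ≫ b₀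
  have hbe : RepWith @Etale b :=
    RepWith.comp ((repWith_yon_map_iff @Etale jV).2 (inferInstanceAs (Etale hWv.fromSpec))) hbe₀
  obtain ⟨v, hv⟩ : v₀ ∈ Set.range hWv.fromSpec := by rw [hWv.range_fromSpec]; exact hvW
  obtain ⟨k, ck, hk, hkb, hkv, hky⟩ := Groth.Agent.S10684.exists_geometric Y.obj b v
  have hky' : Points.mk k = y := by
    rw [hky, Points.ofPt_eq_map_ofScheme]
    show Points.map ((yon S).map jV ≫ b₀) _ = y
    rw [ClopenLift.map_schemePt, ← hv₀, Points.ofPt_eq_map_ofScheme]
    exact congrArg (fun z => Points.map b₀ (Points.ofScheme V₀ z)) hv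
  haveI : IsAlgClosed k.K := hk
  have sqV := IsPullback.of_hasPullback f.hom b
  let fV : pullback f.hom b ⟶ (yon S).obj V := pullback.snd f.hom b
  have hXV : IsAlgSpace (pullback f.hom b) :=
    isAlgSpace_of_isPullback Y.property.diag X.property (IsAlgSpace.yon_obj V) sqV
  have hfV : IsProperMor fV := isProperMor_of_isPullback X.property Y.property (IsAlgSpace.yon_obj V) sqV hf1
  haveI := compactSpace_points_of_isQuasiCompactSp
    (OpenFac.isQuasiCompactSp_of_mor hXV (IsAlgSpace.yon_obj V) hfV.2.1.2 (Stk19.isQuasiCompactSp_yon V))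
  obtain ⟨W, p, hW, hpe, hps⟩ := exists_affine_chart hXV
  haveI : IsAffine W.left := hW
  obtain ⟨g, hg⟩ := (yon S).map_surjective (p ≫ fV)
  haveI : Flat g.left := locP_yon_map (g := g) (hg ▸ locP_comp etLocal_flat (IsAlgSpace.yon_obj W) hXV
    (IsAlgSpace.yon_obj _) (locP_of_repWith etLocal_flat (IsAlgSpace.yon_obj W) (RepWith.mono etLocal_flat.of_etale hpe))
    (locP_of_isPullback etLocal_flat X.property Y.property hXV sqV hf2))
  haveI : LocallyOfFinitePresentation g.left := locP_yon_map (g := g) (hg ▸ locP_comp etLocal_lfp (IsAlgSpace.yon_obj W) hXV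
    (IsAlgSpace.yon_obj _) (locP_of_repWith etLocal_lfp (IsAlgSpace.yon_obj W) (RepWith.mono etLocal_lfp.of_etale hpe))
    (locP_of_isPullback etLocal_lfp X.property Y.property hXV sqV hf3.1))
  have hgr : Et18.H0Lift.GeomRedFibres g.left := fun K _ s => by
    let c0 : Over.mk (s ≫ V.hom) ⟶ V := Over.homMk s rfl
    let k0 : FieldPt Y.obj := ⟨K, s ≫ V.hom, (J S).uliftYonedaEquiv ((yon S).map c0 ≫ b)⟩
    have hk0 : k0.toHom = (yon S).map c0 ≫ b := Equiv.symm_apply_apply _ _
    let i0 : Over.mk (Spec.map (CommRingCat.ofHom (RingHom.id K)) ≫ k0.str) ⟶ k0.pt :=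
      Over.homMk (Spec.map (CommRingCat.ofHom (RingHom.id K))) rfl
    obtain ⟨pT, -, hpT⟩ := CompsUsc.exists_chartT (fZ := fV) hg.symm (i0 ≫ c0)
    have h := hred _ k0 rfl K (RingHom.id K) _ (pullback.fst fV ((yon S).map (i0 ≫ c0)) ≫ pullback.fst f.hom b)
      (pullback.snd fV ((yon S).map (i0 ≫ c0))) (by
        have e1 : (yon S).map i0 ≫ k0.toHom = (yon S).map (i0 ≫ c0) ≫ b := by
          rw [hk0, Functor.map_comp, Category.assoc]
        show IsPullback _ _ _ ((yon S).map i0 ≫ k0.toHom)
        rw [e1]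
        exact (IsPullback.of_hasPullback fV _).paste_horiz sqV)
    haveI : IsReduced (pullback g.left (i0 ≫ c0).left) :=
      isReduced_of_etaleLocally h pT (CompsUsc.surjective_chart hpT hpe hps).1
    have hi : (i0 ≫ c0).left = s := by
      show Spec.map (CommRingCat.ofHom (RingHom.id K)) ≫ s = s
      rw [CommRingCat.ofHom_id, Spec.map_id, Category.id_comp]
    exact hi ▸ ‹IsReduced (pullback g.left (i0 ≫ c0).left)›
  have hcount := hy k hky' hk _ _ _ (by
    rw [← hkb]
    exact (IsPullback.of_hasPullback fV ((yon S).map ck)).paste_horiz sqV)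
  -- the count is finite
  haveI : TopologicalSpace.NoetherianSpace (Points (pullback fV ((yon S).map ck))) := by
    obtain ⟨pT, -, hpT⟩ := CompsUsc.exists_chartT (fZ := fV) hg.symm ck
    let W₀ := CompsUsc.WT g ck
    haveI : IsLocallyNoetherian (Spec (CommRingCat.of k.K)) := inferInstance
    haveI : IsLocallyNoetherian W₀.left := LocallyOfFiniteType.isLocallyNoetherian
      (show W₀.left ⟶ Spec (CommRingCat.of k.K) from pullback.snd g.left ck.left)
    haveI : CompactSpace ↥k.pt.left := inferInstanceAs (CompactSpace ↥(Spec (CommRingCat.of k.K)))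
    haveI : CompactSpace W₀.left := QuasiCompact.compactSpace_of_compactSpace (pullback.snd g.left ck.left)
    haveI : IsNoetherian W₀.left := ⟨⟩
    exact TopologicalSpace.noetherianSpace_of_surjective _ (Points.continuous_ofPt pT)
      (surjective_ofPt pT (CompsUsc.surjective_chart hpT hpe hps).2)
  haveI := Groth.Agent.S10684.finite_components (T := Points (pullback fV ((yon S).map ck)))
  obtain ⟨V', e, he, M, v', hv'M, hv', hle⟩ :=
    CompsUsc.exists_nhd_card_le hXV hfV hpe hps hg.symm hgr ck
  rw [hcount] at hle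
  have hd : d ≠ ⊤ := by
    rw [← hcount]
    letI := Fintype.ofFinite (_root_.ConnectedComponents (Points (pullback fV ((yon S).map ck))))
    simp [ENat.card_eq_coe_fintype_card]
  let be : (yon S).obj V' ⟶ Y.obj := (yon S).map e ≫ b
  have hbe' : RepWith @Etale be := RepWith.comp ((repWith_yon_map_iff @Etale e).2 he) hbe
  have hyM : y ∈ Points.ofPt be '' (M : Set V'.left) := by
    refine ⟨v', hv'M, ?_⟩
    rw [← hky', hky, Points.ofPt_eq_map_ofScheme, Points.ofPt_eq_map_ofScheme]
    show Points.map ((yon S).map e ≫ b) _ = _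
    rw [ClopenLift.map_schemePt, hv', hkv]
  have hupper : ∀ y' ∈ Points.ofPt be '' (M : Set V'.left), ∀ (k' : FieldPt Y.obj), Points.mk k' = y' → k'.IsGeometric →
      ∀ (Xk : Sp S) (a' : Xk ⟶ X.obj) (b' : Xk ⟶ (yon S).obj k'.pt), IsPullback a' b' f.hom k'.toHom →
        ENat.card (_root_.ConnectedComponents (Points Xk)) ≤ d := by
    rintro _ ⟨v'', hv'', rfl⟩ k' hk'e hk' Xk a' b' hsq
    obtain ⟨k'', ck'', hk'', hkb'', hkv'', hky''⟩ := Groth.Agent.S10684.exists_geometric Y.obj be v''
    haveI : IsAlgClosed k''.K := hk''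
    have sq'' : IsPullback (pullback.fst fV ((yon S).map (ck'' ≫ e)) ≫ pullback.fst f.hom b)
        (pullback.snd fV ((yon S).map (ck'' ≫ e))) f.hom k''.toHom := by
      rw [← hkb'', ← Category.assoc, ← Functor.map_comp]
      exact (IsPullback.of_hasPullback fV _).paste_horiz sqV
    rw [card_components_geomFibre X.property Y.property f.hom k' k'' hk' hk'' (hk'e.trans hky''.symm) hsq sq'']
    exact hle k''.K k''.str ck'' (Set.mem_of_eq_of_mem (s := (M : Set V'.left)) hkv'' hv'')
  obtain ⟨n, rfl⟩ := ENat.ne_top_iff_exists.1 hd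
  match n, hy, hupper with
  | 0, _, hupper =>
    exact ⟨_, fun y' hy' k' h1 h2 Xk a' b' h3 => le_antisymm (hupper y' hy' k' h1 h2 Xk a' b' h3) (zero_le),
      isOpenMap_ofPt be hbe' _ M.2, hyM⟩
  | n + 1, hy, hupper =>
    refine ⟨Points.ofPt be '' (M : Set V'.left) ∩ _, fun y' hy' k' h1 h2 Xk a' b' h3 => ?_,
      (isOpenMap_ofPt be hbe' _ M.2).inter (Groth.Agent.S10684.result f hf1 hf2 hf3 (n : ℕ∞)), hyM,
      fun k' h1 h2 Xk a' b' h3 => ?_⟩
    · refine le_antisymm (hupper y' hy'.1 k' h1 h2 Xk a' b' h3) ?_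
      have h := Order.add_one_le_of_lt (hy'.2 k' h1 h2 Xk a' b' h3)
      exact_mod_cast h
    · rw [hy k' h1 h2 Xk a' b' h3]
      exact_mod_cast Nat.lt_succ_self n

end Groth.Agent.S10685
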