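import Groth.Statements.S10686
import Groth.Agent.AlgSpLib.GeomReducedPt
import Groth.Agent.AlgSpLib.Basic
import Groth.Agent.FlatMorGeomRed.Descent
-- import your own Groth.Agent.* helpers here

set_option autoImplicit false
universe u
open CategoryTheory CategoryTheory.Limits AlgebraicGeometry
open AlgSp

namespace Groth.Agent.S10686

set_option backward.isDefEq.respectTransparency.types false

open Groth.Agent.AlgSpLib AlgSp

variable {S : Scheme.{u}}

theorem etaleLocally_of_iso {P Q : Sp S} (e : P ≅ Q) (h : EtaleLocally (fun U => IsReduced U) P) :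
    EtaleLocally (fun U => IsReduced U) Q := by
  obtain ⟨U, a, ha, has, hU⟩ := h
  exact ⟨U, a ≫ e.hom, RepWith.comp ha (repWith_of_isIso _ _), RepWith.comp has (repWith_of_isIso _ _), hU⟩

/-- descent of reducedness along a field extension -/
theorem reduced_descends {K Ω : Type u} [Field K] [Field Ω] {s : Spec (CommRingCat.of K) ⟶ S}
    {t : Spec (CommRingCat.of Ω) ⟶ S} (g : Over.mk t ⟶ Over.mk s) {P Q : Sp S} (hP : IsAlgSpace P)
    (b : P ⟶ (yon S).obj (Over.mk s)) (q : Q ⟶ P) (b' : Q ⟶ (yon S).obj (Over.mk t))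
    (sq : IsPullback q b' b ((yon S).map g)) (h : EtaleLocally (fun U => IsReduced U) Q) :
    EtaleLocally (fun U => IsReduced U) P := by
  obtain ⟨U, a, ha, has⟩ := hP.atlas
  obtain ⟨k, hk⟩ := (yon S).map_surjective (a ≫ b)
  have hW : IsPullback (pullback.fst k g) (pullback.snd k g) k g := IsPullback.of_hasPullback _ _
  have hWy := hW.map (yon S)
  rw [hk] at hWy
  let a' := sq.lift ((yon S).map (pullback.fst k g) ≫ a) ((yon S).map (pullback.snd k g))
    (by rw [Category.assoc]; exact hWy.w)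
  have sqa : IsPullback a' ((yon S).map (pullback.fst k g)) q a :=
    IsPullback.of_right (h₁₂ := b')
      (by rw [sq.lift_snd]; exact hWy.flip) (sq.lift_fst _ _ _) sq.flip
  have hae : RepWith @Etale a' := RepWith.baseChange sqa.flip ha
  have hW : IsReduced (pullback k g).left := isReduced_of_etaleLocally h a' hae
  have hg1 : Surjective g.left :=
    ⟨fun p => ⟨IsLocalRing.closedPoint Ω, Subsingleton.elim (α := PrimeSpectrum K) _ _⟩⟩
  have hg2 : Flat g.left := by
    obtain ⟨φ, hφ⟩ := Spec.map_surjective g.left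
    rw [← hφ, HasRingHomProperty.Spec_iff (P := @Flat)]
    algebraize [φ.hom]
    exact RingHom.flat_algebraMap_iff.2 (inferInstance : Module.Flat K Ω)
  have sq₀ := (IsPullback.of_hasPullback k g).map (Over.forget S)
  refine ⟨U, a, ha, has, Groth.Agent.FlatMorGeomRed.isReduced_descends (A := (pullback k g).left) (pullback.fst k g).left ?_ ?_⟩
  · exact MorphismProperty.of_isPullback sq₀.flip hg1
  · exact MorphismProperty.of_isPullback sq₀.flip hg2

variable {X Y : Space S} (f : X ⟶ Y)

/-- fibres over extended points -/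
theorem ext_toHom (k : FieldPt Y.obj) {k' : Type u} [Field k'] (φ : k.K →+* k') :
    ∃ q : FieldPt Y.obj, Points.mk q = Points.mk k ∧
      ∀ (P : Sp S) (a : P ⟶ X.obj) (b : P ⟶ (yon S).obj (Over.mk (Spec.map (CommRingCat.ofHom φ) ≫ k.str))),
        IsPullback a b f.hom ((yon S).map (Over.homMk (Spec.map (CommRingCat.ofHom φ)) rfl :
          Over.mk (Spec.map (CommRingCat.ofHom φ) ≫ k.str) ⟶ k.pt) ≫ k.toHom) →
        (∀ (Xk : Sp S) (a : Xk ⟶ X.obj) (b : Xk ⟶ (yon S).obj q.pt), IsPullback a b f.hom q.toHom →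
          EtaleLocally (fun U => IsReduced U) Xk) → EtaleLocally (fun U => IsReduced U) P := by
  let j : Over.mk (Spec.map (CommRingCat.ofHom φ) ≫ k.str) ⟶ k.pt :=
    Over.homMk (Spec.map (CommRingCat.ofHom φ)) rfl
  refine ⟨⟨k', Spec.map (CommRingCat.ofHom φ) ≫ k.str, Y.obj.obj.map j.op k.val⟩, ?_, fun P a b sq h => ?_⟩
  · refine Points.sound ⟨k', inferInstance, _, 𝟙 _, j, ?_⟩
    simp
  · refine h P a b ?_
    convert sq using 1
    refine (J S).uliftYonedaEquiv.injective ?_
    rw [FieldPt.uliftYonedaEquiv_toHom, ← GrothendieckTopology.uliftYonedaEquiv_naturality,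
      FieldPt.uliftYonedaEquiv_toHom]

/-- For a morphism f : X ⟶ Y between algebraic spaces over S and a point y of |Y|, write X_k for the
fibre (pullback in fppf sheaves) over a field point k of Y and call X_k geometrically reduced when
for every field homomorphism k ⟶ k' the base change X_{k'} is reduced (some etale surjective scheme
chart reduced). The following are equivalent: (1) X_k is geometrically reduced for some k in the
class of y; (2) X_k is geometrically reduced for every k in the class of y; (3) X_k is reduced for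
every k in the class of y. -/
theorem result {S : Scheme.{u}} {X Y : AlgSp.Space S} (f : X ⟶ Y) (y : AlgSp.Points Y.obj) :
    [∃ (k : AlgSp.FieldPt Y.obj), AlgSp.Points.mk k = y ∧
        ∀ (k' : Type u) [Field k'] (φ : k.K →+* k') (Xk' : AlgSp.Sp S) (a : Xk' ⟶ X.obj)
          (b : Xk' ⟶ (AlgSp.yon S).obj (Over.mk (Spec.map (CommRingCat.ofHom φ) ≫ k.str))),
          IsPullback a b f.hom ((AlgSp.yon S).map (Over.homMk (Spec.map (CommRingCat.ofHom φ)) rfl :
            Over.mk (Spec.map (CommRingCat.ofHom φ) ≫ k.str) ⟶ k.pt) ≫ k.toHom) →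
          AlgSp.EtaleLocally (fun U => IsReduced U) Xk',
      ∀ (k : AlgSp.FieldPt Y.obj), AlgSp.Points.mk k = y →
        ∀ (k' : Type u) [Field k'] (φ : k.K →+* k') (Xk' : AlgSp.Sp S) (a : Xk' ⟶ X.obj)
          (b : Xk' ⟶ (AlgSp.yon S).obj (Over.mk (Spec.map (CommRingCat.ofHom φ) ≫ k.str))),
          IsPullback a b f.hom ((AlgSp.yon S).map (Over.homMk (Spec.map (CommRingCat.ofHom φ)) rfl :
            Over.mk (Spec.map (CommRingCat.ofHom φ) ≫ k.str) ⟶ k.pt) ≫ k.toHom) →
          AlgSp.EtaleLocally (fun U => IsReduced U) Xk',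
      ∀ (k : AlgSp.FieldPt Y.obj), AlgSp.Points.mk k = y →
        ∀ (Xk : AlgSp.Sp S) (a : Xk ⟶ X.obj) (b : Xk ⟶ (AlgSp.yon S).obj k.pt), IsPullback a b f.hom k.toHom →
          AlgSp.EtaleLocally (fun U => IsReduced U) Xk].TFAE := by
  tfae_have 2 → 3 := by
    intro h k hk Xk a b sq
    let j : Over.mk (Spec.map (CommRingCat.ofHom (RingHom.id k.K)) ≫ k.str) ⟶ k.pt :=
      Over.homMk (Spec.map (CommRingCat.ofHom (RingHom.id k.K))) rfl
    have : IsIso j.left := by
      show IsIso (Spec.map (CommRingCat.ofHom (RingHom.id k.K)))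
      rw [CommRingCat.ofHom_id, Spec.map_id]; infer_instance
    have : IsIso j := (isIso_iff_of_reflects_iso j (Over.forget S)).1 this
    have h' := h k hk k.K (RingHom.id k.K) Xk a (b ≫ inv ((AlgSp.yon S).map j)) (IsPullback.of_iso sq (Iso.refl _)
      (Iso.refl _) (asIso ((AlgSp.yon S).map j)).symm (Iso.refl _) (by simp) (by simp) (by simp) (by
        show k.toHom ≫ 𝟙 _ = inv ((AlgSp.yon S).map j) ≫ (AlgSp.yon S).map j ≫ k.toHom
        simp))
    exact h'
  tfae_have 3 → 2 := by
    intro h k hk k' _ φ P a b sq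
    obtain ⟨q, hq, hP⟩ := ext_toHom f k φ
    exact hP P a b sq (h q (hq.trans hk))
  tfae_have 2 → 1 := by
    intro h
    induction y using AlgSp.Points.ind with
    | h p => exact ⟨p, rfl, h p rfl⟩
  tfae_have 1 → 3 := by
    rintro ⟨k₁, hk₁, h⟩ k hk Xk a b sq
    obtain ⟨Ω, _, w, u, v, e⟩ := AlgSp.Points.mk_eq_mk_iff.1 (hk₁.trans hk.symm)
    have e' : (AlgSp.yon S).map u ≫ k₁.toHom = (AlgSp.yon S).map v ≫ k.toHom := by
      refine (AlgSp.J S).uliftYonedaEquiv.injective ?_
      rw [← GrothendieckTopology.uliftYonedaEquiv_naturality, ← GrothendieckTopology.uliftYonedaEquiv_naturality,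
        AlgSp.FieldPt.uliftYonedaEquiv_toHom, AlgSp.FieldPt.uliftYonedaEquiv_toHom]
      exact e
    have hXk : AlgSp.IsAlgSpace Xk := isAlgSpace_of_isPullback Y.property.diag X.property
      (AlgSp.IsAlgSpace.yon_obj _) sq
    have sqΩ := IsPullback.of_hasPullback b ((AlgSp.yon S).map v)
    refine reduced_descends v hXk b _ _ sqΩ ?_
    have big := sqΩ.paste_horiz sq
    rw [← e'] at big
    obtain ⟨φ, hφ⟩ := Spec.map_surjective u.left
    have : ∀ (t : Spec (CommRingCat.of Ω) ⟶ S) (u' : Over.mk t ⟶ k₁.pt), u'.left = Spec.map φ →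
        ∀ (Q : AlgSp.Sp S) (a : Q ⟶ X.obj) (b : Q ⟶ (AlgSp.yon S).obj (Over.mk t)),
          IsPullback a b f.hom ((AlgSp.yon S).map u' ≫ k₁.toHom) →
            AlgSp.EtaleLocally (fun U => IsReduced U) Q := by
      intro t u' hu Q a b sqQ
      have ht : Spec.map φ ≫ k₁.str = t := hu ▸ Over.w u'
      subst ht
      obtain rfl : u' = Over.homMk (Spec.map φ) rfl := Over.OverMorphism.ext hu
      exact h Ω φ.hom Q a b sqQ
    exact this w u hφ.symm _ _ _ big
  tfae_finish

end Groth.Agent.S10686
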