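import Groth.Statements.S10689
import Groth.Agent.AlgSpLib.GorBaseChange
import Groth.Agent.S3617
import Groth.Agent.S3626
-- import your own Groth.Agent.* helpers here

set_option autoImplicit false
universe u
open CategoryTheory CategoryTheory.Limits AlgebraicGeometry
open AlgSp

namespace Groth.Agent.S10689

set_option backward.isDefEq.respectTransparency.types false

open Groth.Agent.AlgSpLib in
theorem gorAt_baseChange_flat {S : Scheme.{u}} {X Y X' Y' : Sp S} (hX : IsAlgSpace X) (hY : IsAlgSpace Y)
    (hX' : IsAlgSpace X') (hY' : IsAlgSpace Y') (f : X ⟶ Y) (g : Y' ⟶ Y) (g' : X' ⟶ X) (f' : X' ⟶ Y')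
    (hsq : IsPullback g' f' f g) (hf1 : LocP @Flat f) (hf2 : LocP @LocallyOfFinitePresentation f) (x' : Points X') :
    LocPAt (fun h u => Dual3.IsGorensteinAt h u) f' x' ↔
      LocPAt (fun h u => Dual3.IsGorensteinAt h u) f (Points.map g' x') := by
  obtain ⟨V, b, hbe, hbs⟩ := hY.atlas
  obtain ⟨v, hv⟩ := surjective_ofPt b hbs (Points.map g (Points.map f' x'))
  have sqY' := IsPullback.of_hasPullback g b
  have hYV : IsAlgSpace (pullback g b) := isAlgSpace_of_isPullback hY.diag hY' (IsAlgSpace.yon_obj V) sqY'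
  obtain ⟨yv, hyv, -⟩ := exists_point_of_isPullback sqY'
    (show Points.map g (Points.map f' x') = Points.map b (Points.ofScheme V v) by
      rw [← hv, Points.ofPt_eq_map_ofScheme])
  obtain ⟨V', β, hβe, hβs⟩ := hYV.atlas
  obtain ⟨v', hv'⟩ := surjective_ofPt β hβs yv
  obtain ⟨k, hk⟩ := (yon S).map_surjective (β ≫ pullback.snd g b)
  let b' := β ≫ pullback.fst g b
  have hb'e : RepWith @Etale b' := RepWith.comp hβe (RepWith.baseChange sqY'.flip hbe)
  have hbk : b' ≫ g = (yon S).map k ≫ b := by rw [hk, Category.assoc, Category.assoc, sqY'.w]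
  have hb'v : Points.map f' x' = Points.map b' (Points.ofScheme V' v') := by
    rw [Points.map_comp, ← Points.ofPt_eq_map_ofScheme, hv', hyv]
  have sq := IsPullback.of_hasPullback f b
  have hXV : IsAlgSpace (pullback f b) := isAlgSpace_of_isPullback hY.diag hX (IsAlgSpace.yon_obj V) sq
  obtain ⟨U, ψ, hψe, hψs⟩ := hXV.atlas
  obtain ⟨h, hh⟩ := (yon S).map_surjective (ψ ≫ pullback.snd f b)
  let a := ψ ≫ pullback.fst f b
  have hae : RepWith @Etale a := RepWith.comp hψe (RepWith.baseChange sq.flip hbe)
  have hwa : a ≫ f = (yon S).map h ≫ b := by rw [hh, Category.assoc, Category.assoc, sq.w]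
  have sqX' := IsPullback.of_hasPullback f' b'
  have sqT : IsPullback (pullback.fst f' b' ≫ g') (pullback.snd f' b') f ((yon S).map k ≫ b) := by
    rw [← hbk]; exact sqX'.paste_horiz hsq
  have sqU := IsPullback.of_hasPullback h k
  obtain ⟨a'', ha1, ha2, ha''⟩ := exists_baseChange_chart hh.symm sqU sqT (P := @Etale ⊓ @Surjective)
    (RepWith.and hψe hψs)
  let a' := a'' ≫ pullback.fst f' b'
  have ha'e : RepWith @Etale a' :=
    RepWith.comp (RepWith.mono inf_le_left ha'') (RepWith.baseChange sqX'.flip hb'e)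
  have hwa' : a' ≫ f' = (yon S).map (pullback.snd h k) ≫ b' := by
    rw [Category.assoc, sqX'.w, ← Category.assoc, ha2]
  obtain ⟨z, hz, -⟩ := exists_point_of_isPullback sqX' hb'v
  obtain ⟨u', hu'⟩ := surjective_ofPt a'' (RepWith.mono inf_le_right ha'') z
  have hx' : Points.ofPt a' u' = x' := by
    rw [Points.ofPt_eq_map_ofScheme, Points.map_comp, ← Points.ofPt_eq_map_ofScheme, hu', hz]
  have hx : Points.map g' x' = Points.ofPt a ((pullback.fst h k).left u') := by
    rw [← hx', ← ofPt_map, Points.ofPt_eq_map_ofScheme, Points.ofPt_eq_map_ofScheme, ← Points.map_comp,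
      Category.assoc, ha1]
  rw [hx, ← hx', locPAt_gor_iff hX hY f a b h hae hbe hwa,
    locPAt_gor_iff hX' hY' f' a' b' (pullback.snd h k) ha'e hb'e hwa']
  have : Flat h.left := hf1 a b h hae hbe hwa
  have : LocallyOfFinitePresentation h.left := hf2 a b h hae hbe hwa
  exact Groth.Agent.S3626.result U.left V.left _ V'.left h.left k.left (pullback.snd h k).left
    (pullback.fst h k).left (isPullback_left sqU) u'

/-- For a flat morphism f : X ⟶ Y between algebraic spaces over S which is locally of finite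
presentation, the set W of points of |X| at which f is Gorenstein (in every etale chart diagram
through the point the top arrow is flat there with Gorenstein local ring of its fibre) is open in
|X|, and for any morphism of algebraic spaces g : Y' ⟶ Y with base change f' : X' ⟶ Y' and
projection g' : X' ⟶ X the corresponding set for f' is the inverse image of W under |g'|. -/
theorem result {S : Scheme.{u}} {X Y : AlgSp.Space S} (f : X ⟶ Y)
    (hf1 : AlgSp.LocP @Flat f.hom) (hf2 : AlgSp.LocP @LocallyOfFinitePresentation f.hom) :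
    IsOpen {x : AlgSp.Points X.obj | AlgSp.LocPAt (fun h u => Dual3.IsGorensteinAt h u) f.hom x} ∧
      ∀ (X' Y' : AlgSp.Space S) (g : Y' ⟶ Y) (g' : X' ⟶ X) (f' : X' ⟶ Y'), IsPullback g'.hom f'.hom f.hom g.hom →
        {x' : AlgSp.Points X'.obj | AlgSp.LocPAt (fun h u => Dual3.IsGorensteinAt h u) f'.hom x'} =
          AlgSp.Points.map g'.hom ⁻¹' {x : AlgSp.Points X.obj | AlgSp.LocPAt (fun h u => Dual3.IsGorensteinAt h u) f.hom x} := by
  refine ⟨?_, fun X' Y' g g' f' hsq => Set.ext fun x' =>
    gorAt_baseChange_flat X.property Y.property X'.property Y'.property f.hom g.hom g'.hom f'.hom hsq hf1 hf2 x'⟩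
  obtain ⟨V, b, hbe, hbs⟩ := Y.property.atlas
  have sq := IsPullback.of_hasPullback f.hom b
  obtain ⟨U, ψ, hψe, hψs⟩ := (Groth.Agent.AlgSpLib.isAlgSpace_of_isPullback Y.property.diag X.property
    (IsAlgSpace.yon_obj V) sq).atlas
  obtain ⟨h, hh⟩ := (yon S).map_surjective (ψ ≫ pullback.snd f.hom b)
  let a := ψ ≫ pullback.fst f.hom b
  have hae : RepWith @Etale a := Groth.Agent.AlgSpLib.RepWith.comp hψe (Groth.Agent.AlgSpLib.RepWith.baseChange sq.flip hbe)
  have has : RepWith @Surjective a := Groth.Agent.AlgSpLib.RepWith.comp hψs (Groth.Agent.AlgSpLib.RepWith.baseChange sq.flip hbs)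
  have hwa : a ≫ f.hom = (yon S).map h ≫ b := by rw [hh, Category.assoc, Category.assoc, sq.w]
  have key := fun u => Groth.Agent.AlgSpLib.locPAt_gor_iff X.property Y.property f.hom a b h hae hbe hwa (u := u)
  have : Flat h.left := hf1 a b h hae hbe hwa
  have : LocallyOfFinitePresentation h.left := hf2 a b h hae hbe hwa
  have hopen := Groth.Agent.AlgSpLib.isOpenMap_ofPt a hae _ (Groth.Agent.S3617.result U.left V.left h.left)
  convert hopen using 1
  ext x
  obtain ⟨u, rfl⟩ := Groth.Agent.AlgSpLib.surjective_ofPt a has x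
  constructor
  · exact fun hx => ⟨u, (key u).1 hx, rfl⟩
  · rintro ⟨w, hw, e⟩
    rw [← e]
    exact (key w).2 hw

end Groth.Agent.S10689
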