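import Groth.Statements.S1069
import Groth.Agent.KoszPn17.TwistDetect
-- import your own Groth.Agent.* helpers here

set_option autoImplicit false
set_option backward.isDefEq.respectTransparency false
set_option backward.isDefEq.respectTransparency.types false
universe u
open CategoryTheory CategoryTheory.Limits AlgebraicGeometry Opposite
attribute [local instance] HasDerivedCategory.standard
open Perf
open Groth.Agent

namespace Groth.Agent.S1069

/-- Let X be a scheme with an ample invertible O_X-module L and K a nonzero object of D(O_X) with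
quasi-coherent cohomology sheaves. Assuming RΓ(X, -) and the derived functors - ⊗^L L^{⊗n} exist,
there are n ≥ 0 and p ∈ ℤ with Hᵖ(X, K ⊗^L L^{⊗n}) ≠ 0, i.e. the p-th cohomology of RΓ(X, K ⊗^L
L^{⊗n}) is a nonzero abelian group. -/
theorem result (X : Scheme.{u}) (L : X.Modules) (hL : CohB1.IsAmple L) [DCoh.HasRΓ X]
    [∀ n : ℕ, DCoh.HasLTensorMod (CohB1.tensorPow L n)]
    (K : DCoh.D X) (hK : DCoh.IsQCohD K) (hK0 : ¬ IsZero K) :
    ∃ (n : ℕ) (p : ℤ), ¬ IsZero ((DerivedCategory.homologyFunctor AddCommGrpCat.{u} p).obj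
      ((DCoh.RΓ X).obj ((DCoh.LTensorMod (CohB1.tensorPow L n)).obj K))) := by
    by_contra hcon
    push Not at hcon
    apply hK0
    obtain ⟨hLi, hc, hx⟩ := AmpleLib.isAmple_iff_affGlocus.1 hL
    haveI := hc
    have hX := Desc19b.hasResolutionProperty_of_isAmple hL
    haveI : QuasiSeparatedSpace X := Desc19b.quasiSeparatedSpace_of_affine_loci fun x => by
      obtain ⟨m, -, b, hxb, -, hb⟩ := hx x
      exact ⟨_, b, AmpleLib.isInvertible_tensorPow hLi m, hxb, hb⟩
    refine KoszPn17.isZero_of_orth hX K hK fun V hV => ?_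
    obtain ⟨k, N, π, hπ, hN⟩ := Desc19b.exists_epi_negPow
      (fun P => ∃ m : ℕ, P = CohB1.tensorPow L m)
      (fun x => by
        obtain ⟨m, -, b, hxb, -, hb⟩ := hx x
        exact ⟨_, b, ⟨m, rfl⟩, AmpleLib.isInvertible_tensorPow hLi m, hxb, hb⟩)
      V (Coherent.CohBC.isCoh_of_isFinLocFree hV)
    refine ⟨⨁ N, π, DCat.PerfTensor.isFinLocFree_of_iso (biproduct.isoCoproduct N).symm
      (DCat.PerfTensor.isFinLocFree_sigma N fun j => Coherent.isFinLocFree_of_invertible (hN j).1), hπ,
      KoszPn17.Orth.biproduct fun j => ?_⟩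
    obtain ⟨hNj, P, l, ⟨m, rfl⟩, -, ⟨e⟩⟩ := hN j
    obtain ⟨e', -⟩ := AmpleLib.exists_powPowIso hLi m l
    exact KoszPn17.orth_of_isZero (AmpleLib.isInvertible_tensorPow hLi (m * l)) hNj
      (AmpleLib.tensorIso (Iso.refl (N j)) e'.symm ≪≫ e) K fun p => hcon (m * l) p

end Groth.Agent.S1069

#print axioms Groth.Agent.S1069.result
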