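import Groth.Statements.S10694
import Groth.Agent.AlgSpLib.PointPinchChart
import Groth.Agent.AlgSpLib.RelSpecHom
import Groth.Agent.AlgSpLib.NoethDecent
import Groth.Agent.S9941

set_option autoImplicit false
set_option backward.isDefEq.respectTransparency.types false
set_option backward.isDefEq.respectTransparency false
set_option linter.style.haveILetI false
universe u
open CategoryTheory CategoryTheory.Limits AlgebraicGeometry
open AlgSp
open Groth.Agent.AlgSpLib Groth.Agent.AlgSpLib.QCohEt Groth.Agent.AlgSpLib.PointPinch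

noncomputable section

namespace Groth.Agent.S10694

/-- For an integral morphism f : X ⟶ Y between algebraic spaces over S and a point y of |Y| represented
by a field point k whose morphism h_{Spec k} ⟶ Y is a representable closed immersion, f factors as g
: X ⟶ X' followed by ν : X' ⟶ Y with: (1) ν integral; (2) g an isomorphism over the open subspace of
X' complementary to the fibre X'_y (for the fibre i : X'_y ⟶ X' of ν over k and an open subspace W ⊂
X' whose points are exactly those outside the image of |X'_y|, the base change of g to W is an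
isomorphism); (3) |X'_y| is a single point and X'_y ⟶ Spec k has a section (the point has residue
field k). Moreover ν is finite whenever f is finite and Y is locally Noetherian. -/
theorem result {S : Scheme.{u}} {X Y : AlgSp.Space S} (f : X ⟶ Y) (hf : AlgSp.IsIntegralMor f.hom)
    (y : AlgSp.Points Y.obj) (k : AlgSp.FieldPt Y.obj) (hk : AlgSp.Points.mk k = y)
    (hcl : AlgSp.RepWith @IsClosedImmersion k.toHom) :
    ∃ (X' : AlgSp.Space S) (g : X ⟶ X') (ν : X' ⟶ Y), g ≫ ν = f ∧ AlgSp.IsIntegralMor ν.hom ∧
      (∀ (Xy : AlgSp.Space S) (i : Xy ⟶ X') (pr : Xy.obj ⟶ (AlgSp.yon S).obj k.pt),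
        IsPullback i.hom pr ν.hom k.toHom →
          (∀ (W : AlgSp.Space S) (w : W ⟶ X'), AlgSp.RepWith @IsOpenImmersion w.hom →
            Set.range (AlgSp.Points.map w.hom) = (Set.range (AlgSp.Points.map i.hom))ᶜ →
            ∀ (P : AlgSp.Space S) (fst : P ⟶ X) (snd : P ⟶ W), IsPullback fst.hom snd.hom g.hom w.hom →
              IsIso snd.hom) ∧
          (∃ x' : AlgSp.Points Xy.obj, ∀ z, z = x') ∧
          ∃ σ : (AlgSp.yon S).obj k.pt ⟶ Xy.obj, σ ≫ pr = 𝟙 _) ∧
      (AlgSp.IsFiniteMor f.hom → AlgSp.IsLocNoethSp Y.obj → AlgSp.IsFiniteMor ν.hom) := by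
  have hr : RepWith @IsIntegralHom f.hom := (isIntegralMor_iff_repWith f.hom).1 hf
  have hfa : RepWith @IsAffineHom f.hom := RepWith.mono (fun _ _ g (h : IsIntegralHom g) => h.toIsAffineHom) hr
  have hsa : RepWith @IsAffineHom k.toHom :=
    RepWith.mono (fun _ _ g (h : IsClosedImmersion g) => by haveI := h; infer_instance) hcl
  haveI hπ : ∀ E : EtOver Y.obj, IsClosedImmersion (πX hsa.1 E) := fun E => hcl.property _ _ _ (hsa.1.isPullback _)
  haveI hπi : ∀ E : EtOver Y.obj, IsIntegralHom (πX hfa.1 E) := fun E => hr.property _ _ _ (hfa.1.isPullback _)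
  obtain ⟨U, e, hee, hes⟩ := Y.property.atlas
  let Ej : U.left.affineOpens → EtOver Y.obj := fun O =>
    EtOver.mk ((yon S).map (Over.homMk O.1.ι (rfl : O.1.ι ≫ U.hom = _) : Over.mk (O.1.ι ≫ U.hom) ⟶ U) ≫ e)
      (RepWith.comp ((repWith_yon_map_iff _ _).2 (inferInstanceAs (Etale O.1.ι))) hee)
  have hA : ∀ j, IsAff (Ej j) := fun j => j.2
  have hcov : ∀ y : Points Y.obj, ∃ (j : _) (t : (Ej j).obj.left.left),
      Points.map (Ej j).obj.hom (Points.ofScheme (Ej j).obj.left t) = y := by
    intro y
    obtain ⟨z, rfl⟩ := surjective_map_of_repWith hes y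
    obtain ⟨u₀, rfl⟩ := (Points.schemeHomeo U).surjective z
    obtain ⟨O, hO, hu, -⟩ := exists_isAffineOpen_mem_and_subset (X := U.left) (x := u₀) (U := ⊤) trivial
    refine ⟨⟨O, hO⟩, ⟨u₀, hu⟩, ?_⟩
    refine (Points.map_comp _ _ _).trans ?_
    exact congrArg (Points.map e) (map_yon_map_ofScheme _ _)
  let D := PointPinch.data hfa hsa
  have hfp : ∀ j, IsAlgSpace (Limits.pullback (RelSpecSp.str D) (Ej j).obj.hom) := fun j =>
    (IsAlgSpace.yon_obj (D.V (Ej j) (hA j))).of_iso (RelSpecSp.isPullback_q D (Ej j) (hA j)).isoPullback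
  have hcov' : ∀ y : Points Y.obj, ∃ j, y ∈ Set.range (Points.map (Ej j).obj.hom) := fun y => by
    obtain ⟨j, t, ht⟩ := hcov y
    exact ⟨j, _, ht⟩
  have halg : IsAlgSpace (RelSpecSp.obj D) :=
    Stk19b.Fppf.isAlgSpace_of_cover_pullbacks Y.property (RelSpecSp.str D) (fun j => IsAlgSpace.yon_obj _)
      (fun j => (Ej j).obj.hom)
      (fun j => locP_of_repWith etLocal_flat (IsAlgSpace.yon_obj _) (RepWith.mono etale_le_flat (Ej j).property))
      (fun j => locP_of_repWith etLocal_lfp (IsAlgSpace.yon_obj _) (RepWith.mono etale_le_lfp (Ej j).property))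
      hcov' hfp
  have hfpqc := isFpqcCover_of_etale Y.property (fun j => (Ej j).obj.left) (fun j => (Ej j).obj.hom)
    (fun j => (Ej j).property) hcov'
  obtain ⟨g₀, hg₀, hg₀q⟩ := RelSpecSp.exists_hom (D := D) hfa.1 (fun E hE => nX hfa.1 hsa.1 hfa E hE)
    (fun E hE => nX_v hfa E hE) (fun g hW hE => nX_nat hfa _ hE g hW)
  obtain ⟨s', hs', hs'q⟩ := RelSpecSp.exists_hom (D := D) hsa.1 (fun E hE => nK hfa.1 hsa.1 hsa E hE)
    (fun E hE => nK_v hsa E hE) (fun g hW hE => nK_nat hsa _ hE g hW)
  let X' : AlgSp.Space S := ⟨RelSpecSp.obj D, halg⟩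
  let gX : X ⟶ X' := ObjectProperty.homMk g₀
  let ν : X' ⟶ Y := ObjectProperty.homMk (RelSpecSp.str D)
  refine ⟨X', gX, ν, ObjectProperty.hom_ext _ hg₀, ?_, ?_, ?_⟩
  · refine (isLocalOnBase_fpqc_integral (fun j => (yon S).obj (Ej j).obj.left) (fun j => (Ej j).obj.hom) Y.property
      (fun j => IsAlgSpace.yon_obj _) hfpqc (RelSpecSp.str D) halg (fun j => (yon S).obj (D.V (Ej j) (hA j)))
      (fun j => (yon S).map (D.v (Ej j) (hA j))) (fun j => RelSpecSp.q D (Ej j) (hA j))
      (fun j => IsAlgSpace.yon_obj _) (fun j => RelSpecSp.isPullback_q D (Ej j) (hA j))).2 fun j => ?_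
    refine (isIntegralMor_iff_repWith _).2 ((repWith_yon_map_iff _ _).2 ?_)
    exact isIntegralHom_v (Ej j) (hA j)
  · intro Xy i pr hsq
    let σ := hsq.lift s' (𝟙 _) (hs'.trans (Category.id_comp _).symm)
    have hσi : σ ≫ i.hom = s' := hsq.lift_fst _ _ _
    refine ⟨fun W w hw hrange P fst snd hP => ?_, ?_, ⟨σ, hsq.lift_snd _ _ _⟩⟩
    · have sqW := fun j => hw.1.isPullback (RelSpecSp.q D (Ej j) (hA j))
      let T := fun j => hw.1.pullback (RelSpecSp.q D (Ej j) (hA j))
      let c := fun j => hw.1.fst (RelSpecSp.q D (Ej j) (hA j))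
      let t := fun j => hw.1.snd (RelSpecSp.q D (Ej j) (hA j))
      have hcW : ∀ j, RepWith @Etale (c j) := fun j =>
        RepWith.baseChange (sqW j).flip
          (RepWith.baseChange (RelSpecSp.isPullback_q D (Ej j) (hA j)).flip (Ej j).property)
      have hWcov : ∀ z : Points W.obj, ∃ j, z ∈ Set.range (Points.map (c j)) := by
        intro z
        obtain ⟨j, hj⟩ := hcov' (Points.map (RelSpecSp.str D) (Points.map w.hom z))
        obtain ⟨e₀, he₀⟩ := hj
        obtain ⟨q₀, hq₀, -⟩ := exists_point_of_isPullback (RelSpecSp.isPullback_q D (Ej j) (hA j))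
          (x := Points.map w.hom z) (y := e₀) he₀.symm
        obtain ⟨t₀, ht₀, -⟩ := exists_point_of_isPullback (sqW j) (x := z) (y := q₀) hq₀.symm
        exact ⟨j, t₀, ht₀⟩
      let n := fun j => nX hfa.1 hsa.1 hfa (Ej j) (hA j)
      let Q := fun j => Limits.pullback (n j) (t j)
      have hiso : ∀ j, IsIso (Limits.pullback.snd (n j) (t j)) := by
        intro j
        have sqj : IsPullback (Limits.pullback.fst (n j) (t j)).left (Limits.pullback.snd (n j) (t j)).left (n j).left
            (t j).left := (IsPullback.of_hasPullback (n j) (t j)).map (Over.forget S)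
        have : MorphismProperty.isomorphisms Scheme.{u} (Limits.pullback.snd (n j) (t j)).left := by
          refine property_snd_of_opens _ sqj fun t₀ => exists_open_iso hfa hsa (Ej j) (hA j) _ ?_
          rintro ⟨k₀, hk₀⟩
          have h1 : Points.map w.hom (Points.map (c j) (Points.ofScheme _ t₀)) =
              Points.map s' (Points.map (hsa.1.fst (Ej j).obj.hom) (Points.ofScheme _ k₀)) := by
            rw [← Points.map_comp, ← Points.map_comp]
            refine (congrArg (fun m => Points.map m _) (sqW j).w).trans ?_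
            refine Eq.trans ?_ (congrArg (fun m => Points.map m _) (hs'q (Ej j) (hA j))).symm
            rw [Points.map_comp, Points.map_comp]
            refine congrArg (Points.map _) ((map_yon_map_ofScheme _ _).trans ?_)
            refine Eq.trans ?_ (map_yon_map_ofScheme _ _).symm
            exact congrArg (Points.ofScheme _) hk₀.symm
          have h2 : Points.map w.hom (Points.map (c j) (Points.ofScheme _ t₀)) ∈
              (Set.range (Points.map i.hom))ᶜ := hrange ▸ ⟨_, rfl⟩
          refine h2 ⟨Points.map σ (Points.map (hsa.1.fst (Ej j).obj.hom) (Points.ofScheme _ k₀)), ?_⟩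
          rw [h1, ← hσi, Points.map_comp]
        haveI : IsIso ((Over.forget S).map (Limits.pullback.snd (n j) (t j))) := this
        exact isIso_of_reflects_iso _ (Over.forget S)
      have sqg : ∀ j, IsPullback (hfa.1.fst (Ej j).obj.hom) ((yon S).map (n j)) g₀ (RelSpecSp.q D (Ej j) (hA j)) := by
        intro j
        refine IsPullback.of_bot ?_ (hg₀q (Ej j) (hA j)) (RelSpecSp.isPullback_q D (Ej j) (hA j))
        rw [hg₀, ← Functor.map_comp, show n j ≫ D.v (Ej j) (hA j) = EtOver.bcπ hfa.1 (Ej j) from nX_v hfa _ _]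
        exact hfa.1.isPullback _
      have big : ∀ j, IsPullback ((yon S).map (Limits.pullback.fst (n j) (t j)) ≫ hfa.1.fst (Ej j).obj.hom)
          ((yon S).map (Limits.pullback.snd (n j) (t j))) g₀ (c j ≫ w.hom) := fun j => by
        rw [show c j ≫ w.hom = (yon S).map (t j) ≫ RelSpecSp.q D (Ej j) (hA j) from (sqW j).w]
        exact ((IsPullback.of_hasPullback (n j) (t j)).map (yon S)).paste_horiz (sqg j)
      let a := fun j => hP.lift ((yon S).map (Limits.pullback.fst (n j) (t j)) ≫ hfa.1.fst (Ej j).obj.hom)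
        ((yon S).map (Limits.pullback.snd (n j) (t j)) ≫ c j)
        ((big j).w.trans (Category.assoc _ _ _).symm)
      have sqP : ∀ j, IsPullback (a j) ((yon S).map (Limits.pullback.snd (n j) (t j))) snd.hom (c j) := fun j => by
        refine IsPullback.of_right ?_ (hP.lift_snd _ _ _) hP
        rw [show a j ≫ fst.hom = _ from hP.lift_fst _ _ _]
        exact big j
      have hi : MorphismProperty.isomorphisms (Sp S) snd.hom :=
        (isLocalOnBase_fpqc_isomorphisms (fun j => (yon S).obj (T j)) c W.property (fun j => IsAlgSpace.yon_obj _)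
          (isFpqcCover_of_etale W.property T c hcW hWcov) snd.hom P.property (fun j => (yon S).obj (Q j))
          (fun j => (yon S).map (Limits.pullback.snd (n j) (t j))) a (fun j => IsAlgSpace.yon_obj _) sqP).2
          fun j => by
            haveI := hiso j
            exact MorphismProperty.isomorphisms.infer_property _
      exact hi
    · haveI : Subsingleton k.pt.left := inferInstanceAs (Subsingleton (PrimeSpectrum _))
      have z₀ : k.pt.left := (inferInstance : Inhabited (PrimeSpectrum _)).default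
      refine ⟨Points.map σ (Points.ofScheme k.pt z₀), fun z => ?_⟩
      haveI : Mono k.toHom := mono_of_repWith (fun _ _ g (_ : IsClosedImmersion g) => (inferInstance : Mono g)) hcl
      haveI : Mono i.hom := hsq.flip.mono_snd_of_mono
      refine injective_map_of_mono i.hom ?_
      rw [← Points.map_comp, hσi]
      obtain ⟨j, hj⟩ := hcov' (Points.map (RelSpecSp.str D) (Points.map i.hom z))
      obtain ⟨e₀, he₀⟩ := hj
      have hze : Points.map k.toHom (Points.map pr z) = Points.map (Ej j).obj.hom e₀ := by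
        rw [he₀, ← Points.map_comp, ← Points.map_comp]
        exact congrArg (fun m => Points.map m z) hsq.w.symm
      obtain ⟨k₁, -, hk₁⟩ := exists_point_of_isPullback (hsa.1.isPullback (Ej j).obj.hom) hze
      obtain ⟨q₀, hq₀, hqv⟩ := exists_point_of_isPullback (RelSpecSp.isPullback_q D (Ej j) (hA j))
        (x := Points.map i.hom z) (y := e₀) he₀.symm
      obtain ⟨q, rfl⟩ := (Points.schemeHomeo _).surjective q₀
      obtain ⟨k₂, rfl⟩ := (Points.schemeHomeo _).surjective k₁
      have hvq : (D.v (Ej j) (hA j)).left q = (hsa.1.snd (Ej j).obj.hom).left k₂ := by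
        apply (Points.schemeHomeo (Ej j).obj.left).injective
        exact ((map_yon_map_ofScheme _ _).symm.trans hqv).trans (hk₁.symm.trans (map_yon_map_ofScheme _ _))
      obtain ⟨k₃, hk₃⟩ := exists_nK_eq hfa hsa (Ej j) (hA j) q ⟨k₂, hvq.symm⟩
      refine hq₀.symm.trans ?_
      have : Points.map (RelSpecSp.q D (Ej j) (hA j)) (Points.ofScheme _ q) =
          Points.map s' (Points.map (hsa.1.fst (Ej j).obj.hom) (Points.ofScheme _ k₃)) := by
        rw [← Points.map_comp]
        refine Eq.trans ?_ (congrArg (fun m => Points.map m _) (hs'q (Ej j) (hA j))).symm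
        rw [Points.map_comp]
        refine congrArg (Points.map _) (Eq.trans ?_ (map_yon_map_ofScheme _ _).symm)
        exact congrArg (Points.ofScheme _) hk₃.symm
      refine this.trans (congrArg (Points.map s') ?_)
      obtain ⟨z₁, hz₁⟩ := (Points.schemeHomeo k.pt).surjective
        (Points.map (hsa.1.fst (Ej j).obj.hom) (Points.ofScheme _ k₃))
      rw [← hz₁, Subsingleton.elim z₁ z₀]
      rfl
  · intro hfin hN
    have hrf : RepWith @IsFinite f.hom := (isFiniteMor_iff_repWith f.hom).1 hfin
    refine (isLocalOnBase_fpqc_finite (fun j => (yon S).obj (Ej j).obj.left) (fun j => (Ej j).obj.hom) Y.property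
      (fun j => IsAlgSpace.yon_obj _) hfpqc (RelSpecSp.str D) halg (fun j => (yon S).obj (D.V (Ej j) (hA j)))
      (fun j => (yon S).map (D.v (Ej j) (hA j))) (fun j => RelSpecSp.q D (Ej j) (hA j))
      (fun j => IsAlgSpace.yon_obj _) (fun j => RelSpecSp.isPullback_q D (Ej j) (hA j))).2 fun j => ?_
    refine (isFiniteMor_iff_repWith _).2 ((repWith_yon_map_iff _ _).2 ?_)
    haveI : IsFinite (πX hfa.1 (Ej j)) := hrf.property _ _ _ (hfa.1.isPullback _)
    haveI : IsLocallyNoetherian (Ej j).obj.left.left := isLocallyNoetherian_chart hN (Ej j).obj.hom (Ej j).property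
    exact isFinite_v (Ej j) (hA j)

end Groth.Agent.S10694
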