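import Groth.Statements.S10695
import Groth.Agent.AlgSpLib.ElemDistPushout
-- import your own Groth.Agent.* helpers here

set_option autoImplicit false
universe u
open CategoryTheory CategoryTheory.Limits AlgebraicGeometry
open AlgSp

namespace Groth.Agent.S10695

open Groth.Agent.AlgSpLib

/-- Suppose `(U ⊂ W, f : V → W)`, a square of algebraic spaces over `S`, is elementary distinguished
(`j` an open immersion, `f` etale and an isomorphism over the reduced closed complement of `U`) and
let `P` with its two projections be a fibre product `U ×_W V`. Then `W` is the pushout of `U` and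
`V` along `P` among algebraic spaces over `S`. -/
theorem result {S : Scheme.{u}} {U V W P : AlgSp.Space S} (j : U ⟶ W) (f : V ⟶ W)
    (hsq : AlgSp.IsElemDistSq j.hom f.hom) (p : P ⟶ U) (q : P ⟶ V)
    (hP : IsPullback p.hom q.hom j.hom f.hom) : IsPushout p q j f := by
  have w : p ≫ j = q ≫ f := ObjectProperty.hom_ext _ hP.w
  refine IsPushout.of_isColimit' ⟨w⟩ ?_
  refine PushoutCocone.isColimitAux' _ fun s => ?_
  have h := existsUnique_desc_elemDistSq V.property hsq W.property hP
    (a := s.inl.hom) (c := s.inr.hom) (congrArg (fun m => m.hom) s.condition)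
  refine ⟨ObjectProperty.homMk h.choose, ObjectProperty.hom_ext _ h.choose_spec.1.1,
    ObjectProperty.hom_ext _ h.choose_spec.1.2, fun {m} h₁ h₂ => ObjectProperty.hom_ext _ ?_⟩
  exact h.choose_spec.2 m.hom ⟨congrArg (fun m => m.hom) h₁, congrArg (fun m => m.hom) h₂⟩

end Groth.Agent.S10695
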