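import Groth.Statements.S10696
import Groth.Agent.AlgSpLib.EtGlueMain
-- import your own Groth.Agent.* helpers here

set_option autoImplicit false
universe u
open CategoryTheory CategoryTheory.Limits AlgebraicGeometry
open AlgSp

namespace Groth.Agent.S10696

/-- Let `U`, `V` be algebraic spaces over `S`, `V' ⊂ V` an open subspace and `f' : V' → U` a separated
etale morphism. Then there are an algebraic space `W` and morphisms `j : U → W`, `f : V → W` making
the square on `V' → V`, `f'`, `f`, `j` a pushout in the category of algebraic spaces over `S`, with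
`(U ⊂ W, f : V → W)` an elementary distinguished square whose cartesian corner is `V'` (the square
is also a fibre product square). (The published statement does not assert that the square is
cartesian; this row does, as the construction gives it.) -/
theorem result {S : Scheme.{u}} {U V V' : AlgSp.Space S} (jV : V' ⟶ V)
    (hjV : AlgSp.RepWith @IsOpenImmersion jV.hom) (f' : V' ⟶ U) (hsep : AlgSp.IsSeparatedMor f'.hom)
    (het : AlgSp.IsEtaleMor f'.hom) :
    ∃ (W : AlgSp.Space S) (j : U ⟶ W) (f : V ⟶ W), IsPushout jV f' f j ∧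
      IsPullback jV.hom f'.hom f.hom j.hom ∧ AlgSp.IsElemDistSq j.hom f.hom := by
  haveI : Mono jV.hom :=
    Groth.Agent.AlgSpLib.mono_of_repWith (fun _ _ g (_ : IsOpenImmersion g) => (inferInstance : Mono g)) hjV
  have hW := (Groth.Agent.AlgSpLib.EtGlue.isAlgSpace_glue hjV het).1
  let W : AlgSp.Space S := ⟨_, hW⟩
  refine ⟨W, ⟨Groth.Agent.AlgSpLib.EtGlue.inU jV.hom f'.hom⟩, ⟨Groth.Agent.AlgSpLib.EtGlue.inV jV.hom f'.hom⟩, ?_,
    (Groth.Agent.AlgSpLib.EtGlue.isPullback_glue jV.hom f'.hom).flip,
    Groth.Agent.AlgSpLib.EtGlue.isElemDistSq_glue hjV het⟩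
  refine ⟨⟨ObjectProperty.hom_ext _ (Groth.Agent.AlgSpLib.EtGlue.glue_w jV.hom f'.hom).symm⟩,
    ⟨PushoutCocone.IsColimit.mk _ (fun s => ⟨(Groth.Agent.AlgSpLib.EtGlue.existsUnique_desc jV.hom f'.hom s.inr.hom
        s.inl.hom (congrArg (fun k => k.hom) s.condition).symm).choose⟩) (fun s => ?_) (fun s => ?_) fun s m h1 h2 => ?_⟩⟩
  · exact ObjectProperty.hom_ext _ (Groth.Agent.AlgSpLib.EtGlue.existsUnique_desc jV.hom f'.hom s.inr.hom
        s.inl.hom (congrArg (fun k => k.hom) s.condition).symm).choose_spec.1.2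
  · exact ObjectProperty.hom_ext _ (Groth.Agent.AlgSpLib.EtGlue.existsUnique_desc jV.hom f'.hom s.inr.hom
        s.inl.hom (congrArg (fun k => k.hom) s.condition).symm).choose_spec.1.1
  · exact ObjectProperty.hom_ext _ ((Groth.Agent.AlgSpLib.EtGlue.existsUnique_desc jV.hom f'.hom s.inr.hom
        s.inl.hom (congrArg (fun k => k.hom) s.condition).symm).choose_spec.2 m.hom
          ⟨congrArg (fun k => k.hom) h2, congrArg (fun k => k.hom) h1⟩)

end Groth.Agent.S10696
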