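import Groth.Statements.S10698
import Groth.Agent.AlgSpLib.ElemDistPushout
import Groth.Agent.AlgSpLib.FpqcBaseImm
import Groth.Agent.AlgSpLib.FpqcCov
import Groth.Agent.AlgSpLib.LargestOpen
import Groth.Agent.AlgSpLib.MorSep
import Groth.Agent.AlgSpLib.MorMore2
-- import your own Groth.Agent.* helpers here

set_option autoImplicit false
universe u
open CategoryTheory CategoryTheory.Limits AlgebraicGeometry
open AlgSp

namespace Groth.Agent.S10698

open Groth.Agent.AlgSpLib in
theorem isPullback_map_left {C : Type*} [Category C] [HasPullbacks C] {U X Y Z : C} (a : U ⟶ X)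
    (g : X ⟶ Y) (h : Z ⟶ Y) :
    IsPullback (pullback.fst (a ≫ g) h)
      (pullback.map (a ≫ g) h g h a (𝟙 Z) (𝟙 Y) (by simp) (by simp)) a (pullback.fst g h) := by
  refine IsPullback.of_bot ?_ (by simp [pullback.lift_fst]) (IsPullback.of_hasPullback g h)
  have e : pullback.map (a ≫ g) h g h a (𝟙 Z) (𝟙 Y) (by simp) (by simp) ≫ pullback.snd g h =
      pullback.snd _ _ := (pullback.lift_snd _ _ _).trans (Category.comp_id _)
  rw [e]
  exact IsPullback.of_hasPullback _ _

theorem isPullback_map_right {C : Type*} [Category C] [HasPullbacks C] {W V X Y : C} (p : W ⟶ Y)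
    (b : V ⟶ X) (g : X ⟶ Y) :
    IsPullback (pullback.snd p (b ≫ g))
      (pullback.map p (b ≫ g) p g (𝟙 W) b (𝟙 Y) (by simp) (by simp)) b (pullback.snd p g) := by
  refine IsPullback.of_bot ?_ (by simp [pullback.lift_snd]) (IsPullback.of_hasPullback p g).flip
  have e : pullback.map p (b ≫ g) p g (𝟙 W) b (𝟙 Y) (by simp) (by simp) ≫ pullback.fst p g =
      pullback.fst _ _ := (pullback.lift_fst _ _ _).trans (Category.comp_id _)
  rw [e]
  exact (IsPullback.of_hasPullback _ _).flip

theorem isPullback_diagonal_piece {C : Type*} [Category C] [HasPullbacks C] {A B K X Y : C}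
    (g : X ⟶ Y) (a : A ⟶ X) (b : B ⟶ X) (k₁ : K ⟶ A) (k₂ : K ⟶ B) (hK : IsPullback k₁ k₂ a b)
    (c : K ⟶ pullback (a ≫ g) (b ≫ g)) (h₁ : c ≫ pullback.fst _ _ = k₁)
    (h₂ : c ≫ pullback.snd _ _ = k₂) :
    IsPullback (k₁ ≫ a) c (pullback.diagonal g)
      (pullback.map (a ≫ g) (b ≫ g) g g a b (𝟙 Y) (by simp) (by simp)) := by
  let m := pullback.map (a ≫ g) (b ≫ g) g g a b (𝟙 Y) (by simp) (by simp)
  have m1 : m ≫ pullback.fst g g = pullback.fst _ _ ≫ a := pullback.lift_fst _ _ _
  have m2 : m ≫ pullback.snd g g = pullback.snd _ _ ≫ b := pullback.lift_snd _ _ _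
  refine ⟨⟨?_⟩, ⟨PullbackCone.IsLimit.mk _ (fun s => hK.lift (s.snd ≫ pullback.fst _ _)
    (s.snd ≫ pullback.snd _ _) ?_) (fun s => ?_) (fun s => ?_) (fun s n hn1 hn2 => ?_)⟩⟩
  · apply pullback.hom_ext
    · simp only [Category.assoc, pullback.diagonal_fst, Category.comp_id]
      rw [show m ≫ pullback.fst g g = _ from m1, reassoc_of% h₁]
    · simp only [Category.assoc, pullback.diagonal_snd, Category.comp_id]
      rw [show m ≫ pullback.snd g g = _ from m2, reassoc_of% h₂, hK.w]
  · have h := congrArg (· ≫ pullback.fst g g) s.condition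
    have h' := congrArg (· ≫ pullback.snd g g) s.condition
    simp only [Category.assoc, pullback.diagonal_fst, pullback.diagonal_snd, Category.comp_id] at h h'
    rw [show m ≫ pullback.fst g g = _ from m1] at h
    rw [show m ≫ pullback.snd g g = _ from m2] at h'
    exact (Category.assoc _ _ _).trans (h.symm.trans (h'.trans (Category.assoc _ _ _).symm))
  · have h := congrArg (· ≫ pullback.fst g g) s.condition
    simp only [Category.assoc, pullback.diagonal_fst, Category.comp_id] at h
    rw [show m ≫ pullback.fst g g = _ from m1] at h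
    exact (hK.lift_fst_assoc _ _ _ _).trans ((Category.assoc _ _ _).trans h.symm)
  · apply pullback.hom_ext
    · exact (Category.assoc _ _ _).trans ((congrArg _ h₁).trans (hK.lift_fst _ _ _))
    · exact (Category.assoc _ _ _).trans ((congrArg _ h₂).trans (hK.lift_snd _ _ _))
  · apply hK.hom_ext
    · rw [hK.lift_fst, ← h₁, ← Category.assoc, hn2]
    · rw [hK.lift_snd, ← h₂, ← Category.assoc, hn2]

open Groth.Agent.AlgSpLib in
theorem fppf_of_etale {S : Scheme.{u}} {A B : Sp S} (hA : IsAlgSpace A) (hB : IsAlgSpace B)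
    {e : A ⟶ B} (h : IsEtaleMor e) : LocP @Flat e ∧ LocP @LocallyOfFinitePresentation e := by
  have h' := (isEtaleMor_iff_locP etLocal_etale hA hB e).1 h
  exact ⟨locP_mono (fun _ _ g (_ : Etale g) => (inferInstance : Flat g)) h',
    locP_mono (fun _ _ g (_ : Etale g) => (inferInstance : LocallyOfFinitePresentation g)) h'⟩

open Groth.Agent.AlgSpLib in
theorem piece_props {S : Scheme.{u}} {X Y A B : Space S} (g : X ⟶ Y) (a : A ⟶ X) (b : B ⟶ X)
    (ha : IsEtaleMor a.hom) (hb : IsEtaleMor b.hom) :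
    IsEtaleMor (pullback.map (a.hom ≫ g.hom) (b.hom ≫ g.hom) g.hom g.hom a.hom b.hom (𝟙 _)
      (by simp) (by simp)) ∧
      ∀ x : Points (pullback g.hom g.hom),
        Points.map (pullback.fst g.hom g.hom) x ∈ Set.range (Points.map a.hom) →
        Points.map (pullback.snd g.hom g.hom) x ∈ Set.range (Points.map b.hom) →
        x ∈ Set.range (Points.map (pullback.map (a.hom ≫ g.hom) (b.hom ≫ g.hom) g.hom g.hom a.hom b.hom
          (𝟙 _) (by simp) (by simp))) := by
  have hR : IsAlgSpace (pullback g.hom g.hom) := isAlgSpace_pullback g.hom g.hom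
  have hM : IsAlgSpace (pullback (a.hom ≫ g.hom) g.hom) := isAlgSpace_pullback (a.hom ≫ g.hom) g.hom
  have hP : IsAlgSpace (pullback (a.hom ≫ g.hom) (b.hom ≫ g.hom)) :=
    isAlgSpace_pullback (a.hom ≫ g.hom) (b.hom ≫ g.hom)
  have sq1 := isPullback_map_left a.hom g.hom g.hom
  have sq2 := isPullback_map_right (a.hom ≫ g.hom) b.hom g.hom
  have e : pullback.map (a.hom ≫ g.hom) (b.hom ≫ g.hom) (a.hom ≫ g.hom) g.hom (𝟙 _) b.hom (𝟙 _)
        (by simp) (by simp) ≫
      pullback.map (a.hom ≫ g.hom) g.hom g.hom g.hom a.hom (𝟙 _) (𝟙 _) (by simp) (by simp) =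
      pullback.map (a.hom ≫ g.hom) (b.hom ≫ g.hom) g.hom g.hom a.hom b.hom (𝟙 _)
        (by simp) (by simp) := by
    apply pullback.hom_ext <;> simp [pullback.lift_fst, pullback.lift_snd, pullback.lift_fst_assoc,
      pullback.lift_snd_assoc]
  rw [← e]
  refine ⟨covClass_etale.comp hP hM hR
    (covClass_etale.bc B.property X.property hM hP sq2 hb)
    (covClass_etale.bc A.property X.property hR hM sq1 ha), fun x h1 h2 => ?_⟩
  obtain ⟨u₀, hu⟩ := h1
  obtain ⟨m, -, hm⟩ := exists_point_of_isPullback sq1 (x := u₀) (y := x) hu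
  obtain ⟨v, hv⟩ := h2
  have hm' : Points.map (pullback.snd (a.hom ≫ g.hom) g.hom) m = Points.map b.hom v := by
    rw [hv, ← hm, ← Points.map_comp]
    simp [pullback.lift_snd]
  obtain ⟨z, -, hz⟩ := exists_point_of_isPullback sq2 (x := v) (y := m) hm'.symm
  exact ⟨z, by rw [Points.map_comp, hz, hm]⟩

/-- Let `g : X → Y` be a morphism of algebraic spaces over `S` and `(U ⊂ X, f : V → X)` an elementary
distinguished square. Suppose `U → Y` and `V → Y` are both separated, that the canonical morphism `c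
: U ×_X V → U ×_Y V` (between chosen fibre products `PX`, `PY`) is closed on points, and that the
canonical morphism `d : V ×_X V → V ×_Y V` (between chosen fibre products `QX`, `QY`) is
representable and a closed immersion. Then `g` is separated. (The published statement omits the
condition on `V ×_X V → V ×_Y V`; its proof identifies the piece of `X ×_Y X` over `V ×_Y V` with
`V`, which is `V ×_X V`, and without that condition the affine line with doubled origin over a
field, with `U` the complement of the two origins and `V` the disjoint union of the two standard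
charts, satisfies every other hypothesis and is not separated. With it, the diagonal of `g` is a
closed immersion over each of the four pieces `U ×_Y U`, `U ×_Y V`, `V ×_Y U`, `V ×_Y V` of an etale
cover of `X ×_Y X`; for `c`, which is an immersion because `U → X` is an open immersion and `U → Y`
is separated, closedness on points suffices.) -/
theorem result {S : Scheme.{u}} {U V X Y PX PY QX QY : AlgSp.Space S} (g : X ⟶ Y)
    (j : U ⟶ X) (f : V ⟶ X) (hsq : AlgSp.IsElemDistSq j.hom f.hom)
    (hU : AlgSp.IsSeparatedMor (j ≫ g).hom) (hV : AlgSp.IsSeparatedMor (f ≫ g).hom)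
    (pX : PX ⟶ U) (qX : PX ⟶ V) (hPX : IsPullback pX.hom qX.hom j.hom f.hom)
    (pY : PY ⟶ U) (qY : PY ⟶ V) (hPY : IsPullback pY.hom qY.hom (j ≫ g).hom (f ≫ g).hom)
    (c : PX ⟶ PY) (hc₁ : c ≫ pY = pX) (hc₂ : c ≫ qY = qX) (hcl : AlgSp.IsClosedMor c.hom)
    (rX₁ rX₂ : QX ⟶ V) (hQX : IsPullback rX₁.hom rX₂.hom f.hom f.hom)
    (rY₁ rY₂ : QY ⟶ V) (hQY : IsPullback rY₁.hom rY₂.hom (f ≫ g).hom (f ≫ g).hom)
    (d : QX ⟶ QY) (hd₁ : d ≫ rY₁ = rX₁) (hd₂ : d ≫ rY₂ = rX₂)
    (hdcl : AlgSp.RepWith @IsClosedImmersion d.hom) : AlgSp.IsSeparatedMor g.hom := by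
  have hje : IsEtaleMor j.hom := Groth.Agent.AlgSpLib.covClass_etale.openImm U.property X.property hsq.1
  have hfe : IsEtaleMor f.hom := hsq.2.1
  let A : ULift.{u} Bool → AlgSp.Space S := fun b => bif b.down then U else V
  let a : ∀ b, A b ⟶ X := fun b => match b with
    | ⟨true⟩ => j
    | ⟨false⟩ => f
  have hae : ∀ b, IsEtaleMor (a b).hom := fun b => match b with
    | ⟨true⟩ => hje
    | ⟨false⟩ => hfe
  let Yi : ULift.{u} Bool × ULift.{u} Bool → Sp S := fun i =>
    pullback ((a i.1).hom ≫ g.hom) ((a i.2).hom ≫ g.hom)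
  let m : ∀ i, Yi i ⟶ pullback g.hom g.hom := fun i =>
    pullback.map ((a i.1).hom ≫ g.hom) ((a i.2).hom ≫ g.hom) g.hom g.hom (a i.1).hom (a i.2).hom (𝟙 _)
      (by simp) (by simp)
  have hR : IsAlgSpace (pullback g.hom g.hom) := Groth.Agent.AlgSpLib.isAlgSpace_pullback g.hom g.hom
  have hYi : ∀ i, IsAlgSpace (Yi i) := fun i =>
    Groth.Agent.AlgSpLib.isAlgSpace_pullback ((a i.1).hom ≫ g.hom) ((a i.2).hom ≫ g.hom)
  have hrg : ∀ y, ∃ b, y ∈ Set.range (Points.map (a b).hom) := fun y => by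
    rcases Groth.Agent.AlgSpLib.mem_range_of_isElemDistSq hsq y with h | h
    · exact ⟨⟨true⟩, h⟩
    · exact ⟨⟨false⟩, h⟩
  have hcov : IsFppfCover Yi m := ⟨fun i => fppf_of_etale (hYi i) hR
      (piece_props g (a i.1) (a i.2) (hae _) (hae _)).1, fun x => by
    obtain ⟨b₁, h₁⟩ := hrg (Points.map (pullback.fst g.hom g.hom) x)
    obtain ⟨b₂, h₂⟩ := hrg (Points.map (pullback.snd g.hom g.hom) x)
    exact ⟨(b₁, b₂), (piece_props g (a b₁) (a b₂) (hae _) (hae _)).2 x h₁ h₂⟩⟩
  have hc' : RepWith @IsClosedImmersion c.hom := by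
    have h1 : RepWith @IsOpenImmersion qX.hom := Groth.Agent.AlgSpLib.RepWith.baseChange hPX hsq.1
    have h2 : RepWith @IsImmersion (c.hom ≫ qY.hom) := by
      rw [← ObjectProperty.FullSubcategory.comp_hom, hc₂]
      exact Groth.Agent.AlgSpLib.RepWith.mono (fun _ _ k (_ : IsOpenImmersion k) => (inferInstance : IsImmersion k)) h1
    have h3 : IsSeparatedMor qY.hom := Groth.Agent.AlgSpLib.isSeparatedMor_of_isPullback hPY hU
    exact Groth.Agent.AlgSpLib.repWith_closedImmersion_of_isClosed_range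
      (Groth.Agent.AlgSpLib.repWith_of_comp @IsImmersion h2
        (Groth.Agent.AlgSpLib.RepWith.mono (fun _ _ k (_ : IsClosedImmersion k) => (inferInstance : IsImmersion k)) h3))
      hcl.isClosed_range
  have piece : ∀ i, ∃ (K : Sp S) (q : K ⟶ X.obj) (p : K ⟶ Yi i), IsAlgSpace K ∧
      IsPullback q p (pullback.diagonal g.hom) (m i) ∧ RepWith @IsClosedImmersion p := by
    rintro ⟨⟨_ | _⟩, ⟨_ | _⟩⟩
    · refine ⟨QX.obj, rX₁.hom ≫ f.hom, d.hom ≫ hQY.isoPullback.hom, QX.property,
        isPullback_diagonal_piece g.hom f.hom f.hom rX₁.hom rX₂.hom hQX _ ?_ ?_,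
        Groth.Agent.AlgSpLib.RepWith.comp hdcl (Groth.Agent.AlgSpLib.repWith_of_isIso _ _)⟩
      · exact (Category.assoc _ _ _).trans ((congrArg _ hQY.isoPullback_hom_fst).trans
          congr($(hd₁).hom))
      · exact (Category.assoc _ _ _).trans ((congrArg _ hQY.isoPullback_hom_snd).trans
          congr($(hd₂).hom))
    · refine ⟨PX.obj, qX.hom ≫ f.hom, c.hom ≫ hPY.flip.isoPullback.hom, PX.property,
        isPullback_diagonal_piece g.hom f.hom j.hom qX.hom pX.hom hPX.flip _ ?_ ?_,
        Groth.Agent.AlgSpLib.RepWith.comp hc' (Groth.Agent.AlgSpLib.repWith_of_isIso _ _)⟩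
      · exact (Category.assoc _ _ _).trans ((congrArg _ hPY.flip.isoPullback_hom_fst).trans
          congr($(hc₂).hom))
      · exact (Category.assoc _ _ _).trans ((congrArg _ hPY.flip.isoPullback_hom_snd).trans
          congr($(hc₁).hom))
    · refine ⟨PX.obj, pX.hom ≫ j.hom, c.hom ≫ hPY.isoPullback.hom, PX.property,
        isPullback_diagonal_piece g.hom j.hom f.hom pX.hom qX.hom hPX _ ?_ ?_,
        Groth.Agent.AlgSpLib.RepWith.comp hc' (Groth.Agent.AlgSpLib.repWith_of_isIso _ _)⟩
      · exact (Category.assoc _ _ _).trans ((congrArg _ hPY.isoPullback_hom_fst).trans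
          congr($(hc₁).hom))
      · exact (Category.assoc _ _ _).trans ((congrArg _ hPY.isoPullback_hom_snd).trans
          congr($(hc₂).hom))
    · haveI := Groth.Agent.AlgSpLib.mono_openImmersion hsq.1
      exact ⟨U.obj, 𝟙 _ ≫ j.hom, pullback.diagonal (j.hom ≫ g.hom), U.property,
        isPullback_diagonal_piece g.hom j.hom j.hom (𝟙 _) (𝟙 _) (IsKernelPair.id_of_mono _) _
          (pullback.diagonal_fst _) (pullback.diagonal_snd _), hU⟩
  choose K q p hK sq hp using piece
  exact (Groth.Agent.AlgSpLib.isLocalOnBase_fpqc_closedImmersion Yi m hR hYi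
    (Groth.Agent.AlgSpLib.isFpqcCover_of_isFppfCover hR hYi hcov) (pullback.diagonal g.hom)
    X.property K p q hK sq).2 hp

end Groth.Agent.S10698
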