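import Groth.Statements.S10701
import Groth.Agent.AlgSpLib.FerrandQuot
import Groth.Agent.AlgSpLib.UnivFOExist
-- import your own Groth.Agent.* helpers here

set_option autoImplicit false
universe u
open CategoryTheory CategoryTheory.Limits AlgebraicGeometry
open AlgSp

set_option backward.isDefEq.respectTransparency false
set_option backward.isDefEq.respectTransparency.types false
set_option linter.style.haveILetI false

open CategoryTheory CategoryTheory.Limits AlgebraicGeometry AlgSp in
/-- the glued map is a thickening -/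
theorem Groth.Agent.AlgSpLib.FerrandQuot.isThickMor_of_chart {S : Scheme.{u}} {X X' Y Y' : Space S} {t : X ⟶ X'}
    {f : X ⟶ Y} {f' : X' ⟶ Y'} {t' : Y ⟶ Y'} {V : Over S} {p : (yon S).obj V ⟶ Y.obj}
    (C : Groth.Agent.AlgSpLib.FerrandQuot.GlueChart t f f' t' p) : IsThickMor t'.hom := by
  obtain ⟨-, hb, hbs, -⟩ := C.push.props
  haveI := Groth.Agent.AlgSpLib.isLocallySurjective_of_etale C.het C.hsu
  haveI : Epi C.π := Sheaf.epi_of_isLocallySurjective C.π
  haveI := hb
  have hrep : Representable t'.hom := Groth.Agent.AlgSpLib.representable_of_affine t'.hom fun T hT x => by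
    haveI := hT
    obtain ⟨V₁, c, hV₁, hcf, hcp, hcs, l, -, hl, -⟩ := Groth.Agent.AlgSpLib.exists_affine_lift C.π x x
    obtain ⟨x₀, rfl⟩ := (yon S).map_surjective l
    haveI := hV₁
    have sqW := IsPullback.of_hasPullback C.bV x₀
    haveI : IsClosedImmersion (pullback.snd C.bV x₀).left :=
      MorphismProperty.of_isPullback (P := @IsClosedImmersion) (sqW.map (Over.forget S)) hb
    have sqE := IsPullback.of_hasPullback t'.hom x
    have sqEV : IsPullback ((yon S).map (pullback.fst C.bV x₀) ≫ p) ((yon S).map (pullback.snd C.bV x₀)) t'.hom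
        ((yon S).map c ≫ x) := by
      rw [← hl]
      exact (sqW.map (yon S)).paste_horiz C.sqt'
    let k := sqE.lift _ ((yon S).map (pullback.snd C.bV x₀) ≫ (yon S).map c) (sqEV.w.trans (Category.assoc _ _ _).symm)
    have sqk : IsPullback k ((yon S).map (pullback.snd C.bV x₀)) (pullback.snd t'.hom x) ((yon S).map c) :=
      IsPullback.of_right (h₁₂ := pullback.fst _ _) (by rw [sqE.lift_fst]; exact sqEV)
        (sqE.lift_snd _ _ _) sqE
    obtain ⟨G, ⟨e⟩⟩ := Groth.Agent.AlgSpLib.exists_iso_yon_of_fppf_descent c (pullback.snd C.bV x₀) sqk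
    obtain ⟨g, hg⟩ := (yon S).map_surjective (e.hom ≫ pullback.snd _ x)
    refine ⟨G, g, e.hom ≫ pullback.fst _ _, ?_⟩
    exact sqE.of_iso e.symm (Iso.refl _) (Iso.refl _) (Iso.refl _) (by simp) (by simp [hg]) (by simp) (by simp)
  exact Groth.Agent.AlgSpLib.RepWith.and
    (Groth.Agent.AlgSpLib.repWith_of_isLocallySurjective hrep C.π C.sqt' @IsClosedImmersion
      ((repWith_yon_map_iff _ _).2 hb))
    (Groth.Agent.AlgSpLib.repWith_of_isLocallySurjective hrep C.π C.sqt' @Surjective
      ((repWith_yon_map_iff _ _).2 hbs))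

namespace Groth.Agent.S10701

open Groth.Agent.AlgSpLib

/-- Let `t : X → X'` be a thickening of algebraic spaces over `S` and `f : X → Y` an affine morphism of
algebraic spaces over `S`. Then there is a pushout `Y' = Y ⨿_X X'` in the category of algebraic
spaces over `S`, and `Y → Y'` is a thickening. (The accompanying description of the structure sheaf
of `Y'` on the small etale site as the fibre product of the structure sheaves of `Y` and `X'` over
that of `X` is not restated here.) -/
theorem result {S : Scheme.{u}} {X X' Y : AlgSp.Space S} (t : X ⟶ X')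
    (ht : AlgSp.IsThickMor t.hom) (f : X ⟶ Y) (hf : AlgSp.IsAffineMor f.hom) :
    ∃ (Y' : AlgSp.Space S) (f' : X' ⟶ Y') (t' : Y ⟶ Y'), IsPushout t f f' t' ∧ AlgSp.IsThickMor t'.hom := by
  obtain ⟨V, p, hpe, hps⟩ := Y.property.atlas
  obtain ⟨Y', f', t', h, ⟨C⟩⟩ := FerrandQuot.exists_glue t ht f hf p hpe hps
  exact ⟨Y', f', t', h, FerrandQuot.isThickMor_of_chart C⟩

end Groth.Agent.S10701
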