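import Groth.Statements.S10702
import Groth.Agent.AlgSpLib.LqfPiece
-- import your own Groth.Agent.* helpers here

set_option autoImplicit false
universe u
open CategoryTheory CategoryTheory.Limits AlgebraicGeometry
open AlgSp

namespace Groth.Agent.S10702

/-- Consider a commutative diagram of algebraic spaces over `S` with top row `A → C → E`, bottom row `B
→ D → F` and vertical maps `A → B`, `C → D`, `E → F`. If the left square and the outer rectangle are
cartesian and `B → D` is surjective etale, then the right square is cartesian. -/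
theorem result {S : Scheme.{u}} {A B C D E F : AlgSp.Space S} (ac : A ⟶ C) (ab : A ⟶ B)
    (cd : C ⟶ D) (bd : B ⟶ D) (ce : C ⟶ E) (df : D ⟶ F) (ef : E ⟶ F)
    (hl : IsPullback ac.hom ab.hom cd.hom bd.hom) (hcomm : cd ≫ df = ce ≫ ef)
    (hout : IsPullback (ac ≫ ce).hom ab.hom ef.hom (bd ≫ df).hom) (hsurj : AlgSp.IsSurjectiveMor bd.hom)
    (het : AlgSp.IsEtaleMor bd.hom) : IsPullback ce.hom cd.hom ef.hom df.hom := by
  obtain ⟨U, a, hae, has⟩ := B.property.atlas
  have hde : AlgSp.RepWith @Etale (a ≫ bd.hom) := het a hae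
  have hds : AlgSp.RepWith @Surjective (a ≫ bd.hom) :=
    AlgSpLib.repWith_surjective_of_surjective_map hde.1 fun y => by
      obtain ⟨x, rfl⟩ := hsurj y
      obtain ⟨z, rfl⟩ := AlgSpLib.surjective_map_of_repWith has x
      exact ⟨z, AlgSp.Points.map_comp a bd.hom z⟩
  have hc : ce.hom ≫ ef.hom = cd.hom ≫ df.hom := (congrArg (fun g => g.hom) hcomm).symm
  let φ : C.obj ⟶ pullback ef.hom df.hom := pullback.lift ce.hom cd.hom hc
  have sP := IsPullback.of_hasPullback ef.hom df.hom
  have sqq : IsPullback (ac.hom ≫ φ) ab.hom (pullback.snd ef.hom df.hom) bd.hom := by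
    refine IsPullback.of_right ?_ ?_ sP
    · rw [Category.assoc, pullback.lift_fst]
      exact hout
    · rw [Category.assoc, pullback.lift_snd, hl.w]
  obtain ⟨A', x, y, sq1⟩ : ∃ (A' : AlgSp.Sp S) (x : A' ⟶ A.obj) (y : A' ⟶ (AlgSp.yon S).obj U),
      IsPullback x y ab.hom a := ⟨_, _, _, IsPullback.of_hasPullback ab.hom a⟩
  have sd : IsPullback (x ≫ ac.hom ≫ φ) y (pullback.snd ef.hom df.hom) (a ≫ bd.hom) := sq1.paste_horiz sqq
  have sid : IsPullback ac.hom (𝟙 A.obj) φ (ac.hom ≫ φ) := by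
    refine IsPullback.of_bot ?_ (Category.id_comp _).symm sqq
    rw [Category.id_comp, pullback.lift_snd]
    exact hl
  have s2 : IsPullback (x ≫ ac.hom) (𝟙 A') φ (x ≫ ac.hom ≫ φ) :=
    (IsPullback.of_vert_isIso ⟨(Category.id_comp x).symm.trans (Category.comp_id x).symm |>.symm⟩ :
      IsPullback x (𝟙 A') (𝟙 A.obj) x).paste_horiz sid
  have h1 : AlgSp.RepWith @Etale (x ≫ ac.hom ≫ φ) := AlgSpLib.RepWith.baseChange sd.flip hde
  have h2 : AlgSp.RepWith @Surjective (x ≫ ac.hom ≫ φ) := AlgSpLib.RepWith.baseChange sd.flip hds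
  have : IsIso φ := AlgSpLib.isIso_of_fppf_baseChange s2 (AlgSpLib.RepWith.mono AlgSpLib.etale_le_flat h1)
    (AlgSpLib.RepWith.mono AlgSpLib.etale_le_lfp h1) h2
  refine sP.of_iso (asIso φ).symm (Iso.refl _) (Iso.refl _) (Iso.refl _) ?_ ?_ (by simp) (by simp) <;>
  · simp only [Iso.symm_hom, asIso_inv, Iso.refl_hom, Category.comp_id, IsIso.eq_inv_comp]
    first | exact (pullback.lift_fst _ _ _) | exact (pullback.lift_snd _ _ _)

end Groth.Agent.S10702
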