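import Groth.Statements.S10705
import Groth.Agent.AlgSpLib.FpqcBaseIso
import Groth.Agent.AlgSpLib.FpqcCov
import Groth.Agent.S10704
-- import your own Groth.Agent.* helpers here

set_option autoImplicit false
universe u
open CategoryTheory CategoryTheory.Limits AlgebraicGeometry
open AlgSp

namespace Groth.Agent.S10705

set_option backward.isDefEq.respectTransparency.types false

open Groth.Agent.AlgSpLib in
theorem isIso_baseChange {S : Scheme.{u}} {X₁ X₂ Q Q₁ P R : Sp S} {a : X₁ ⟶ X₂} {q : Q ⟶ X₂} {b : Q₁ ⟶ X₁}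
    {c : Q₁ ⟶ Q} (sq : IsPullback b c a q) (hc : IsIso c) {g : P ⟶ X₂} {l : P ⟶ Q} (hl : l ≫ q = g)
    {fst : R ⟶ X₁} {snd : R ⟶ P} (sqR : IsPullback fst snd a g) : IsIso snd := by
  have h : IsPullback fst snd a (l ≫ q) := hl.symm ▸ sqR
  have h2 := IsPullback.of_right' h sq
  exact MorphismProperty.of_isPullback (P := MorphismProperty.isomorphisms (Sp S)) h2 hc

/-- Let `f : Y → X` be a quasi-compact quasi-separated morphism of algebraic spaces over `S`, `i : Z →
X` a closed immersion of finite presentation such that `f⁻¹Z → Z` is an isomorphism and `f` is flat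
at every point of `|f⁻¹Z|`, and let `U ⊂ X` be the open subspace complementary to `Z`. Let `a : X₁ →
X₂` be a morphism of algebraic spaces over `X`. If the base change of `a` to `U` and the base change
of `a` to `Y` are isomorphisms, then `a` is an isomorphism: the formal glueing functor reflects
isomorphisms. -/
theorem result {S : Scheme.{u}} {X Y Z FZ U : AlgSp.Space S} (f : Y ⟶ X)
    (hqc : AlgSp.IsQuasiCompactMor f.hom) (hqs : AlgSp.IsQuasiSeparatedMor f.hom) (i : Z ⟶ X)
    (hi : AlgSp.RepWith @IsClosedImmersion i.hom) (hifp : AlgSp.LocP @LocallyOfFinitePresentation i.hom)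
    (iY : FZ ⟶ Y) (fZ : FZ ⟶ Z) (hFZ : IsPullback iY.hom fZ.hom f.hom i.hom) [IsIso fZ]
    (hflat : ∀ y ∈ Set.range (AlgSp.Points.map iY.hom), AlgSp.IsFlatAtMor f.hom y) (j : U ⟶ X)
    (hj : AlgSp.RepWith @IsOpenImmersion j.hom)
    (hU : Set.range (AlgSp.Points.map j.hom) = (Set.range (AlgSp.Points.map i.hom))ᶜ)
    {X₁ X₂ QU QU₁ QY QY₁ : AlgSp.Space S} (p₂ : X₂ ⟶ X) (a : X₁ ⟶ X₂)
    (qU : QU ⟶ X₂) (rU : QU ⟶ U) (hQU : IsPullback qU.hom rU.hom p₂.hom j.hom) (aU : QU₁ ⟶ QU)
    (bU : QU₁ ⟶ X₁) (hQU₁ : IsPullback bU.hom aU.hom a.hom qU.hom) [IsIso aU] (qY : QY ⟶ X₂) (rY : QY ⟶ Y)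
    (hQY : IsPullback qY.hom rY.hom p₂.hom f.hom) (aY : QY₁ ⟶ QY) (bY : QY₁ ⟶ X₁)
    (hQY₁ : IsPullback bY.hom aY.hom a.hom qY.hom) [IsIso aY] : IsIso a := by
  obtain ⟨ι, W, w, hcov, href⟩ := S10704.result f hqc hqs i hi hifp iY fZ hFZ hflat j hj hU
  have hP : ∀ k, IsAlgSpace (pullback p₂.hom (w k).hom) := fun k =>
    Groth.Agent.AlgSpLib.isAlgSpace_of_isPullback X.property.diag X₂.property (W k).property
      (IsPullback.of_hasPullback _ _)
  have hcov₂ := Groth.Agent.AlgSpLib.isFpqcCover_of_isPullback X.property X₂.property p₂.hom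
    (fun k => (W k).property) hP (fun k => IsPullback.of_hasPullback p₂.hom (w k).hom) hcov
  have hR : ∀ k, IsAlgSpace (pullback a.hom (pullback.fst p₂.hom (w k).hom)) := fun k =>
    Groth.Agent.AlgSpLib.isAlgSpace_of_isPullback X₂.property.diag X₁.property (hP k)
      (IsPullback.of_hasPullback _ _)
  have haU : IsIso aU.hom := inferInstanceAs (IsIso ((ObjectProperty.ι _).map aU))
  have haY : IsIso aY.hom := inferInstanceAs (IsIso ((ObjectProperty.ι _).map aY))
  have hiso : IsIso a.hom := by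
    refine (Groth.Agent.AlgSpLib.isLocalOnBase_fpqc_isomorphisms _ _ X₂.property hP hcov₂ a.hom X₁.property
      (fun k => pullback a.hom (pullback.fst p₂.hom (w k).hom)) (fun k => pullback.snd _ _)
      (fun k => pullback.fst _ _) hR (fun k => IsPullback.of_hasPullback _ _)).2 fun k => ?_
    rcases href k with ⟨l, hl⟩ | ⟨l, hl⟩
    · exact isIso_baseChange hQU₁ haU
        (hQU.lift_fst (pullback.fst p₂.hom (w k).hom) (pullback.snd p₂.hom (w k).hom ≫ l.hom) (by
          rw [pullback.condition, Category.assoc, ← hl]; rfl)) (IsPullback.of_hasPullback _ _)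
    · exact isIso_baseChange hQY₁ haY
        (hQY.lift_fst (pullback.fst p₂.hom (w k).hom) (pullback.snd p₂.hom (w k).hom ≫ l.hom) (by
          rw [pullback.condition, Category.assoc, ← hl]; rfl)) (IsPullback.of_hasPullback _ _)
  have : IsIso ((ObjectProperty.ι _).map a) := hiso
  exact isIso_of_reflects_iso a (ObjectProperty.ι _)

end Groth.Agent.S10705
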