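import Groth.Statements.S10707
import Groth.Agent.AlgSpLib.GlueingPairMono
import Groth.Agent.AlgSpLib.PointsTop
import Groth.Agent.AlgSpLib.RepLocal
import Groth.Agent.AlgSpLib.Descent
-- import your own Groth.Agent.* helpers here

set_option autoImplicit false
universe u
open CategoryTheory CategoryTheory.Limits AlgebraicGeometry TensorProduct
open AlgSp

namespace Groth.Agent.S10707

set_option backward.isDefEq.respectTransparency.types false

open scoped TensorProduct
attribute [local instance] Algebra.TensorProduct.rightAlgebra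

theorem hom_to_top_ext {S : Scheme.{u}} {T : Over S} (x y : (yon S).obj T ⟶ (yon S).obj (Over.mk (𝟙 S))) :
    x = y := by
  obtain ⟨x, rfl⟩ := (yon S).map_surjective x
  obtain ⟨y, rfl⟩ := (yon S).map_surjective y
  refine congrArg _ (Over.OverMorphism.ext ?_)
  have hx := Over.w x
  have hy := Over.w y
  simp only [Over.mk_hom] at hx hy
  exact ((Category.comp_id _).symm.trans hx).trans (hy.symm.trans (Category.comp_id _))

/-- Let `(R → R', f)` be a glueing pair, `X = Spec R`, `U = Spec R_f`, `X' = Spec R'`, and let `Y`, `Z`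
be algebraic spaces over `X` glueable for `(R → R', f)`. Two morphisms `a, b : Y → Z` over `X` whose
base changes to `U` agree and whose base changes to `X'` agree are equal. -/
theorem result (R : Type u) [CommRing R] (R' : Type u) [CommRing R'] [Algebra R R']
    (f : R) (hRR' : EtGlue.IsGlueingPair R R' f) {Y Z YU YX' : AlgSp.Space (Spec (CommRingCat.of R))}
    (hY : (∀ (A : Type u) [CommRing A] [Algebra R A]
      (g : (AlgSp.yon (Spec (CommRingCat.of R))).obj (Over.mk (Spec.map (CommRingCat.ofHom (algebraMap R A))) : Over (Spec (CommRingCat.of R))) ⟶ Y.obj),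
      AlgSp.RepWith @Etale g → EtGlue.IsGlueable R R' f A))
    (hZ : (∀ (A : Type u) [CommRing A] [Algebra R A]
      (g : (AlgSp.yon (Spec (CommRingCat.of R))).obj (Over.mk (Spec.map (CommRingCat.ofHom (algebraMap R A))) : Over (Spec (CommRingCat.of R))) ⟶ Z.obj),
      AlgSp.RepWith @Etale g → EtGlue.IsGlueable R R' f A))
    (a b : Y ⟶ Z) (πZ : Z.obj ⟶ (AlgSp.yon (Spec (CommRingCat.of R))).obj (Over.mk (𝟙 _)))
    (inU : (Over.mk (Spec.map (CommRingCat.ofHom (algebraMap R (Localization.Away f)))) : Over (Spec (CommRingCat.of R))) ⟶ Over.mk (𝟙 _))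
    (uY : YU ⟶ Y) (vY : YU.obj ⟶ (AlgSp.yon (Spec (CommRingCat.of R))).obj (Over.mk (Spec.map (CommRingCat.ofHom (algebraMap R (Localization.Away f)))) : Over (Spec (CommRingCat.of R))))
    (hYU : IsPullback uY.hom vY (a.hom ≫ πZ) ((AlgSp.yon (Spec (CommRingCat.of R))).map inU))
    (inX' : (Over.mk (Spec.map (CommRingCat.ofHom (algebraMap R R'))) : Over (Spec (CommRingCat.of R))) ⟶ Over.mk (𝟙 _))
    (uY' : YX' ⟶ Y) (vY' : YX'.obj ⟶ (AlgSp.yon (Spec (CommRingCat.of R))).obj (Over.mk (Spec.map (CommRingCat.ofHom (algebraMap R R'))) : Over (Spec (CommRingCat.of R))))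
    (hYX' : IsPullback uY'.hom vY' (a.hom ≫ πZ) ((AlgSp.yon (Spec (CommRingCat.of R))).map inX'))
    (haU : uY ≫ a = uY ≫ b) (haX' : uY' ≫ a = uY' ≫ b) : a = b := by
  obtain ⟨U, p₀, hpe, hps⟩ := Y.property.atlas
  have := Groth.Agent.AlgSpLib.isLocallySurjective_of_etale hpe hps
  refine ObjectProperty.hom_ext _ ((cancel_epi p₀).1 ?_)
  refine Groth.Agent.AlgSpLib.yon_hom_ext_of_cover (ι := U.left.affineOpens)
    (W := fun O => Groth.Agent.AlgSpLib.restrictOver U O.1) (fun O => Groth.Agent.AlgSpLib.restrictOverι U O.1)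
    (fun u => ?_) _ _ fun O => ?_
  · obtain ⟨O, hO, huO, -⟩ := exists_isAffineOpen_mem_and_subset (x := u) (U := ⊤) trivial
    exact ⟨⟨O, hO⟩, (⟨u, huO⟩ : O.toScheme), rfl⟩
  letI : Algebra R Γ(U.left, O.1) := (Spec.preimage (O.2.fromSpec ≫ U.hom)).hom.toAlgebra
  let A : Type u := Γ(U.left, O.1)
  let T : Over (Spec (CommRingCat.of R)) := Over.mk (Spec.map (CommRingCat.ofHom (algebraMap R Γ(U.left, O.1))))
  have hT : Spec.map (CommRingCat.ofHom (algebraMap R Γ(U.left, O.1))) = O.2.fromSpec ≫ U.hom :=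
    Spec.map_preimage _
  let eT : T ⟶ U := Over.homMk O.2.fromSpec hT.symm
  let g := (yon _).map eT ≫ p₀
  have hg : RepWith @Etale g := Groth.Agent.AlgSpLib.RepWith.comp
    ((repWith_yon_map_iff _ _).2 (inferInstanceAs (Etale O.2.fromSpec))) hpe
  have hp := Groth.Agent.HenselLib.BL.isGlueingPair_baseChange hRR' Γ(U.left, O.1) (hY _ g hg)
  let iso : Groth.Agent.AlgSpLib.restrictOver U O.1 ⟶ T := Over.homMk O.2.isoSpec.hom (by
    show O.2.isoSpec.hom ≫ Spec.map _ = O.1.ι ≫ U.hom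
    rw [hT, ← Category.assoc, IsAffineOpen.isoSpec_hom, IsAffineOpen.toSpecΓ_fromSpec])
  have hiso : iso ≫ eT = Groth.Agent.AlgSpLib.restrictOverι U O.1 := Over.OverMorphism.ext (by
    show O.2.isoSpec.hom ≫ O.2.fromSpec = O.1.ι
    rw [IsAffineOpen.isoSpec_hom, IsAffineOpen.toSpecΓ_fromSpec])
  suffices key : g ≫ a.hom = g ≫ b.hom by
    rw [← hiso, Functor.map_comp, Category.assoc, Category.assoc, ← Category.assoc ((yon _).map eT),
      ← Category.assoc ((yon _).map eT)]
    exact congrArg (_ ≫ ·) key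
  have hd := Z.property.diag
  let x : (yon _).obj T ⟶ Z.obj ⨯ Z.obj := prod.lift (g ≫ a.hom) (g ≫ b.hom)
  have sq := hd.isPullback x
  have : Mono (hd.snd x).left := by
    have : Mono ((yon _).map (hd.snd x)) := sq.flip.mono_fst_of_mono
    have : Mono (hd.snd x) := (yon _).mono_of_mono_map this
    infer_instance
  have hlift : ∀ {T' : Over (Spec (CommRingCat.of R))} (c : T' ⟶ T),
      (yon _).map c ≫ g ≫ a.hom = (yon _).map c ≫ g ≫ b.hom → ∃ σ : T' ⟶ hd.pullback x, σ ≫ hd.snd x = c := by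
    intro T' c hc
    obtain ⟨σ, hσ⟩ := (yon _).map_surjective (sq.lift ((yon _).map c ≫ g ≫ a.hom) ((yon _).map c) (by
      apply prod.hom_ext <;> simp [x, Limits.diag, hc]))
    exact ⟨σ, (yon _).map_injective (by rw [Functor.map_comp, hσ, sq.lift_snd])⟩
  let fA := algebraMap R Γ(U.left, O.1) f
  let T₁ : Over (Spec (CommRingCat.of R)) :=
    Over.mk (Spec.map (CommRingCat.ofHom (algebraMap Γ(U.left, O.1) (Localization.Away fA))) ≫ T.hom)
  let c₁ : T₁ ⟶ T := Over.homMk (Spec.map (CommRingCat.ofHom (algebraMap Γ(U.left, O.1) (Localization.Away fA))))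
  let z₁ : T₁ ⟶ Over.mk (Spec.map (CommRingCat.ofHom (algebraMap R (Localization.Away f)))) :=
    Over.homMk (Spec.map (CommRingCat.ofHom (Localization.awayMap (algebraMap R Γ(U.left, O.1)) f))) (by
      show Spec.map _ ≫ Spec.map _ = Spec.map _ ≫ Spec.map _
      rw [← Spec.map_comp, ← Spec.map_comp]
      refine congrArg Spec.map (CommRingCat.hom_ext (RingHom.ext fun r => ?_))
      have e : (Localization.awayMap (algebraMap R Γ(U.left, O.1)) f).comp (algebraMap R (Localization.Away f)) =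
          (algebraMap Γ(U.left, O.1) (Localization.Away fA)).comp (algebraMap R Γ(U.left, O.1)) :=
        IsLocalization.map_comp _
      exact congrArg (fun t => t r) e)
  obtain ⟨σ₁, hσ₁⟩ := hlift c₁ (by
    let l := hYU.lift ((yon _).map c₁ ≫ g) ((yon _).map z₁) (hom_to_top_ext _ _)
    have hl : l ≫ uY.hom = (yon _).map c₁ ≫ g := hYU.lift_fst _ _ _
    calc (yon _).map c₁ ≫ g ≫ a.hom = ((yon _).map c₁ ≫ g) ≫ a.hom := (Category.assoc _ _ _).symm
      _ = (l ≫ uY.hom) ≫ a.hom := congrArg (· ≫ a.hom) hl.symm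
      _ = l ≫ (uY ≫ a).hom := Category.assoc _ _ _
      _ = l ≫ (uY ≫ b).hom := congrArg (fun t => l ≫ t.hom) haU
      _ = (l ≫ uY.hom) ≫ b.hom := (Category.assoc _ _ _).symm
      _ = ((yon _).map c₁ ≫ g) ≫ b.hom := congrArg (· ≫ b.hom) hl
      _ = (yon _).map c₁ ≫ g ≫ b.hom := Category.assoc _ _ _)
  let T₂ : Over (Spec (CommRingCat.of R)) :=
    Over.mk (Spec.map (CommRingCat.ofHom (algebraMap Γ(U.left, O.1) (R' ⊗[R] Γ(U.left, O.1)))) ≫ T.hom)
  let c₂ : T₂ ⟶ T := Over.homMk (Spec.map (CommRingCat.ofHom (algebraMap Γ(U.left, O.1) (R' ⊗[R] Γ(U.left, O.1)))))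
  let z₂ : T₂ ⟶ Over.mk (Spec.map (CommRingCat.ofHom (algebraMap R R'))) :=
    Over.homMk (Spec.map (CommRingCat.ofHom
      (Algebra.TensorProduct.includeLeftRingHom (R := R) (A := R') (B := Γ(U.left, O.1))))) (by
      show Spec.map _ ≫ Spec.map _ = Spec.map _ ≫ Spec.map _
      rw [← Spec.map_comp, ← Spec.map_comp]
      refine congrArg Spec.map (CommRingCat.hom_ext (RingHom.ext fun r => ?_))
      show algebraMap R R' r ⊗ₜ[R] (1 : Γ(U.left, O.1)) = (1 : R') ⊗ₜ[R] algebraMap R Γ(U.left, O.1) r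
      rw [Algebra.algebraMap_eq_smul_one, TensorProduct.smul_tmul, Algebra.algebraMap_eq_smul_one])
  obtain ⟨σ₂, hσ₂⟩ := hlift c₂ (by
    let l := hYX'.lift ((yon _).map c₂ ≫ g) ((yon _).map z₂) (hom_to_top_ext _ _)
    have hl : l ≫ uY'.hom = (yon _).map c₂ ≫ g := hYX'.lift_fst _ _ _
    calc (yon _).map c₂ ≫ g ≫ a.hom = ((yon _).map c₂ ≫ g) ≫ a.hom := (Category.assoc _ _ _).symm
      _ = (l ≫ uY'.hom) ≫ a.hom := congrArg (· ≫ a.hom) hl.symm
      _ = l ≫ (uY' ≫ a).hom := Category.assoc _ _ _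
      _ = l ≫ (uY' ≫ b).hom := congrArg (fun t => l ≫ t.hom) haX'
      _ = (l ≫ uY'.hom) ≫ b.hom := (Category.assoc _ _ _).symm
      _ = ((yon _).map c₂ ≫ g) ≫ b.hom := congrArg (· ≫ b.hom) hl
      _ = (yon _).map c₂ ≫ g ≫ b.hom := Category.assoc _ _ _)
  have hi : IsIso (hd.snd x).left := Groth.Agent.AlgSpLib.GlueingPairMono.isIso_of_mono hp (hd.snd x).left
    σ₁.left (congrArg CommaMorphism.left hσ₁) σ₂.left (congrArg CommaMorphism.left hσ₂)
  have : IsIso (hd.snd x) := by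
    have : IsIso ((Over.forget _).map (hd.snd x)) := hi
    exact isIso_of_reflects_iso _ (Over.forget _)
  have h := sq.w
  have h1 := congrArg (· ≫ prod.fst) h
  have h2 := congrArg (· ≫ prod.snd) h
  have d1 : Limits.diag Z.obj ≫ prod.fst = 𝟙 Z.obj := prod.lift_fst _ _
  have d2 : Limits.diag Z.obj ≫ prod.snd = 𝟙 Z.obj := prod.lift_snd _ _
  simp only [Category.assoc, d1, d2, Category.comp_id, x, prod.lift_fst, prod.lift_snd] at h1 h2
  exact (cancel_epi ((yon _).map (hd.snd x))).1 (h1.symm.trans h2)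

end Groth.Agent.S10707
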