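import Groth.Statements.S10708
import Groth.Agent.AlgSpLib.InductPrinciple
import Groth.Agent.AlgSpLib.PointsCompact
import Groth.Agent.Desc19b.HensSp.Lift
-- import your own Groth.Agent.* helpers here

set_option autoImplicit false
universe u
open CategoryTheory CategoryTheory.Limits AlgebraicGeometry
open AlgSp

namespace Groth.Agent.S10708

set_option backward.isDefEq.respectTransparency.types false
set_option backward.isDefEq.respectTransparency false
open CategoryTheory CategoryTheory.Limits AlgebraicGeometry Groth.Agent.AlgSpLib Groth.Agent.AlgSpLib.Induct AlgSp TopologicalSpace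

section
variable {S : Scheme.{u}}

/-- a point of a binary disjoint union lands in one summand -/
theorem exists_summand {ι : Type u} (W : ι → Over S) {Ω : Type u} [Field Ω] {str : Spec (CommRingCat.of Ω) ⟶ S}
    (v : Over.mk str ⟶ sigmaOver W) : ∃ (i : ι) (v' : Over.mk str ⟶ W i), v' ≫ sigmaOverι W i = v := by
  obtain ⟨i, hi⟩ := exists_mem_range_sigmaOverι W (v.left (IsLocalRing.closedPoint Ω))
  refine ⟨i, Over.homMk (IsOpenImmersion.lift (sigmaOverι W i).left v.left ?_) ?_,
    Over.OverMorphism.ext (IsOpenImmersion.lift_fac _ _ _)⟩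
  · rintro _ ⟨z, rfl⟩
    rw [Subsingleton.elim (α := ↥(Spec (CommRingCat.of Ω))) z (IsLocalRing.closedPoint Ω)]
    exact hi
  · rw [← Over.w (sigmaOverι W i), ← Category.assoc, IsOpenImmersion.lift_fac]; exact Over.w v

end


/-- Let `X` be a Noetherian algebraic space over a quasi-separated base scheme `S` (quasi-compact,
quasi-separated over `S`, locally Noetherian) and `U ⊂ X` a dense open subspace different from `X`.
Then one can find an etale morphism `V → X` from an affine scheme `V` for which `W = U ∪ Im(V → X)`,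
an open subspace, properly contains `U`, the pair `(U ⊂ W, V → W)` forms an elementary distinguished
square, and `U ×_W V → U` has dense image. (The base scheme is taken quasi-separated so that
quasi-separatedness over `S` is the absolute notion.) -/
theorem result {S : Scheme.{u}} [QuasiSeparatedSpace S] {X U : AlgSp.Space S}
    (hqc : AlgSp.IsQuasiCompactSp X.obj) (hqs : AlgSp.IsQuasiSeparatedSp X.obj) (hN : AlgSp.IsLocNoethSp X.obj)
    (j : U ⟶ X) (hj : AlgSp.RepWith @IsOpenImmersion j.hom) (hdense : Dense (Set.range (AlgSp.Points.map j.hom)))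
    (hne : Set.range (AlgSp.Points.map j.hom) ≠ Set.univ) :
    ∃ (V : Over S) (_ : IsAffine V.left) (W : AlgSp.Space S) (jW : W ⟶ X) (jU : U ⟶ W) (φ : (AlgSp.ofScheme S).obj V ⟶ W)
      (P : AlgSp.Space S) (p : P ⟶ U) (q : P ⟶ (AlgSp.ofScheme S).obj V),
      AlgSp.RepWith @Etale (φ ≫ jW).hom ∧ AlgSp.RepWith @IsOpenImmersion jW.hom ∧ jU ≫ jW = j ∧
        Set.range (AlgSp.Points.map jW.hom) =
          Set.range (AlgSp.Points.map j.hom) ∪ Set.range (AlgSp.Points.map (φ ≫ jW).hom) ∧
        Set.range (AlgSp.Points.map jW.hom) ≠ Set.range (AlgSp.Points.map j.hom) ∧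
        AlgSp.IsElemDistSq jU.hom φ.hom ∧ IsPullback p.hom q.hom jU.hom φ.hom ∧ AlgSp.IsDominantMor p.hom := by
  classical
  have hX := X.property
  have hcX := compactSpace_points_of_isQuasiCompactSp hqc
  have hNX : NoetherianSpace (Points X.obj) := noetherianSpace_points hN
  let O : Set (Points X.obj) := Set.range (Points.map j.hom)
  have hOo : IsOpen O := isOpen_range_map U.property hj
  have hUc : IsQuasiCompactSp U.obj :=
    isQuasiCompactSp_openImm U.property hX hj (NoetherianSpace.isCompact _)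
  have := compactSpace_points_of_isQuasiCompactSp hUc
  obtain ⟨B₀, b₀, hB₀, hb₀e, hb₀s⟩ := exists_affine_chart U.property
  obtain ⟨B, a, hB, ha, has⟩ := exists_affine_chart hX
  have := hB
  have haq := repWith_qc_chart hX hqs a
  obtain ⟨t, ht⟩ := (AlgSp.yon S).map_surjective (haq.1.fst a)
  have sqR : IsPullback ((AlgSp.yon S).map t) ((AlgSp.yon S).map (haq.1.snd a)) a a := ht ▸ haq.1.isPullback a
  have : QuasiCompact (haq.1.snd a).left := haq.property_snd a
  have : CompactSpace ↥(haq.1.pullback a).left := QuasiCompact.compactSpace_of_compactSpace (haq.1.snd a).left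
  obtain ⟨N, hNb⟩ := exists_bound_manyLifts hX a ha sqR
  have hex : ∃ n, manyLifts a (n + 2) ⊆ O :=
    ⟨N, ((manyLifts_succ_subset a (N + 1)).trans hNb.subset).trans (Set.empty_subset _)⟩
  let n := Nat.find hex
  have hn₂ : manyLifts a (n + 2) ⊆ O := Nat.find_spec hex
  have hn₁ : ¬ manyLifts a (n + 1) ⊆ O := by
    rcases Nat.eq_zero_or_pos n with h0 | hpos
    · rw [h0, manyLifts_one a has]
      exact fun h => hne (Set.eq_univ_of_univ_subset h)
    · have := Nat.find_min hex (Nat.sub_lt hpos one_pos)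
      rwa [show n - 1 + 2 = n + 1 by omega] at this
  obtain ⟨V, f, hf, -, -, hr, huniq⟩ := exists_unorderedTuples hX a ha n
  obtain ⟨x, hx, hxO⟩ := Set.not_subset.1 hn₁
  obtain ⟨v₀, rfl⟩ := hr.symm.subset hx
  obtain ⟨A, hA, hvA, -⟩ := exists_isAffineOpen_mem_and_subset (x := v₀) (U := ⊤) trivial
  let Wf : ULift.{u} Bool → Over S := fun i => if i.down then Over.mk (A.ι ≫ V.hom) else B₀
  let f₁ : (AlgSp.yon S).obj (Over.mk (A.ι ≫ V.hom)) ⟶ X.obj := (AlgSp.yon S).map (opHom V A) ≫ f
  let f₂ : (AlgSp.yon S).obj B₀ ⟶ X.obj := b₀ ≫ j.hom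
  let fs : ∀ i, (AlgSp.yon S).obj (Wf i) ⟶ X.obj := fun i =>
    match i with
    | ⟨true⟩ => f₁
    | ⟨false⟩ => f₂
  have hfs : ∀ i, RepWith @Etale (fs i) := fun i =>
    match i with
    | ⟨true⟩ => RepWith.comp (repWith_etale (repWith_opHom V A)) hf
    | ⟨false⟩ => RepWith.comp hb₀e (repWith_etale hj)
  have hWf : ∀ i, IsAffine (Wf i).left := fun i =>
    match i with
    | ⟨true⟩ => hA
    | ⟨false⟩ => hB₀
  obtain ⟨φ₀, hφ₀, -⟩ := existsUnique_desc_sigma Wf fs
  have hφe : RepWith @Etale φ₀ := Desc19b.HensSp.repWith_etale_desc hX Wf fs hfs φ₀ hφ₀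
  have hu : Uniq O φ₀ := by
    intro Ω _ _ str v v' e hne'
    obtain ⟨i, w, rfl⟩ := exists_summand Wf v
    obtain ⟨i', w', rfl⟩ := exists_summand Wf v'
    rw [Functor.map_comp, Category.assoc, hφ₀, Functor.map_comp, Category.assoc, hφ₀] at e
    rw [Functor.map_comp, Category.assoc, hφ₀] at hne'
    obtain ⟨i⟩ := i
    obtain ⟨i'⟩ := i'
    cases i with
    | false =>
      refine absurd ?_ hne'
      refine ⟨ptOfHom ((AlgSp.yon S).map w ≫ b₀), ?_⟩
      rw [map_ptOfHom, Category.assoc]
      -- done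
    | true =>
      cases i' with
      | false =>
        refine absurd ?_ hne'
        refine ⟨ptOfHom ((AlgSp.yon S).map w' ≫ b₀), ?_⟩
        rw [map_ptOfHom, Category.assoc, e]
        -- done
      | true =>
        have h2 : ptOfHom ((AlgSp.yon S).map w ≫ f₁) ∉ manyLifts a (n + 2) := fun h => hne' (hn₂ h)
        have := huniq Ω str _ h2 (w ≫ opHom V A) (w' ≫ opHom V A)
          (by rw [Functor.map_comp, Category.assoc]) (by rw [Functor.map_comp, Category.assoc]; exact e.symm)
        rw [(cancel_mono (opHom V A)).1 this]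
  let Ω₁ : Set (Points X.obj) := O ∪ Set.range (Points.ofPt φ₀)
  have hΩ : IsOpen Ω₁ := hOo.union (isOpenMap_ofPt φ₀ hφe).isOpen_range
  let W : AlgSp.Space S := ⟨openSubspace X.obj Ω₁, isAlgSpace_openSubspace hX hΩ⟩
  let jW : W ⟶ X := ObjectProperty.homMk (openSubspaceι X.obj Ω₁)
  have hjW : RepWith @IsOpenImmersion jW.hom := repWith_openSubspaceι X.obj hΩ
  have : Mono jW.hom := mono_openImm hjW
  have hWr : Set.range (Points.map jW.hom) = Ω₁ := range_openSubspaceι X.obj Ω₁
  obtain ⟨jU, hjU⟩ := (exists_lift_iff_range_subset hjW j.hom).2 (hWr.symm ▸ Set.subset_union_left)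
  obtain ⟨φ, hφ⟩ := (exists_lift_iff_range_subset hjW φ₀).2 (by
    rw [hWr, range_map_yon]; exact Set.subset_union_right)
  have hjUo : RepWith @IsOpenImmersion jU := repWith_of_comp_mono jU jW.hom (hjU.symm ▸ hj)
  have hφe' : RepWith @Etale φ := repWith_of_comp_mono φ jW.hom (hφ.symm ▸ hφe)
  have hinj := injective_map_of_mono jW.hom
  have hel : IsElemDistSq jU φ := isElemDistSq_of_uniq (U := U) (W := W) (ObjectProperty.homMk jU) hjUo φ hφe'
    (fun y hy => by
      have h1 : Points.map jW.hom y ∈ Ω₁ := hWr ▸ ⟨y, rfl⟩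
      rcases h1 with ⟨z, hz⟩ | ⟨v, hv⟩
      · exact absurd ⟨z, hinj (by rw [← Points.map_comp]; erw [hjU]; exact hz)⟩ hy
      · exact ⟨v, hinj (by rw [Points.map_ofPt, hφ, hv])⟩)
    (fun Ω _ _ str v v' e hne' => by
      refine hu Ω str v v' ?_ fun hmem => hne' ?_
      · rw [← hφ, ← Category.assoc, e, Category.assoc]
      · obtain ⟨z, hz⟩ := hmem
        refine ⟨z, hinj ?_⟩
        rw [← Points.map_comp, map_ptOfHom, Category.assoc, hφ]
        erw [hjU]
        exact hz)
  let sq := IsPullback.of_hasPullback jU φ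
  let P : AlgSp.Space S := ⟨pullback jU φ,
    isAlgSpace_of_isPullback W.property.diag U.property (IsAlgSpace.yon_obj _) sq⟩
  refine ⟨sigmaOver Wf, inferInstanceAs (IsAffine (∐ fun i => (Wf i).left)), W, jW, ObjectProperty.homMk jU,
    ObjectProperty.homMk φ, P, ObjectProperty.homMk (pullback.fst jU φ), ObjectProperty.homMk (pullback.snd jU φ),
    ?_, hjW, ObjectProperty.hom_ext _ hjU, ?_, ?_, hel, sq, ?_⟩
  · show RepWith @Etale (φ ≫ jW.hom)
    rw [hφ]; exact hφe
  · show Set.range (Points.map jW.hom) = O ∪ Set.range (Points.map (φ ≫ jW.hom))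
    rw [hWr, hφ, range_map_yon]
  · rw [hWr]
    intro e
    refine hxO (e.le (Or.inr ⟨(sigmaOverι Wf ⟨true⟩).left (⟨v₀, hvA⟩ : A), ?_⟩))
    rw [← ofPt_map (sigmaOverι Wf ⟨true⟩) φ₀, hφ₀]
    exact ofPt_map (opHom V A) f _
  · refine Function.Surjective.denseRange fun y => ?_
    obtain ⟨u, rfl⟩ := surjective_ofPt b₀ hb₀s y
    have hw : b₀ ≫ jU = (AlgSp.yon S).map (sigmaOverι Wf ⟨false⟩) ≫ φ := by
      rw [← cancel_mono jW.hom, Category.assoc, Category.assoc, hjU, hφ, hφ₀]
    refine ⟨Points.ofPt (sq.lift b₀ ((AlgSp.yon S).map (sigmaOverι Wf ⟨false⟩)) hw) u, ?_⟩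
    show Points.map (pullback.fst jU φ) _ = _
    rw [Points.map_ofPt, sq.lift_fst]

end Groth.Agent.S10708
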