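import Groth.Statements.S10714
import Groth.Agent.AlgSpLib.FerrandProps
-- import your own Groth.Agent.* helpers here

set_option autoImplicit false
universe u
open CategoryTheory CategoryTheory.Limits AlgebraicGeometry
open AlgSp

set_option backward.isDefEq.respectTransparency false
set_option backward.isDefEq.respectTransparency.types false
set_option linter.style.haveILetI false
set_option maxHeartbeats 1000000

namespace Groth.Agent.S10714

open Groth.Agent.AlgSpLib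

/-- Let `t : X → X'` be a thickening and `f : X → Y` an affine morphism of algebraic spaces over `S`
with pushout `Y' = Y ⨿_X X'`, and let `w : W' → Y'` be flat. Then `W'` is the pushout, in the
category of algebraic spaces over `S`, of its base changes `W' ×_{Y'} Y` and `W' ×_{Y'} X'` along
their common base change to `X`: the counit of the glueing adjunction at `W'` is an isomorphism. -/
theorem result {S : Scheme.{u}} {X X' Y Y' W' WY WX' WX : AlgSp.Space S}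
    (t : X ⟶ X') (ht : AlgSp.IsThickMor t.hom) (f : X ⟶ Y) (hf : AlgSp.IsAffineMor f.hom) (f' : X' ⟶ Y')
    (t' : Y ⟶ Y') (hY' : IsPushout t f f' t') (w : W' ⟶ Y') (hw : AlgSp.LocP @Flat w.hom) (aY : WY ⟶ W')
    (bY : WY ⟶ Y) (hWY : IsPullback aY.hom bY.hom w.hom t'.hom) (aX' : WX' ⟶ W') (bX' : WX' ⟶ X')
    (hWX' : IsPullback aX'.hom bX'.hom w.hom f'.hom) (cY : WX ⟶ WY) (cX' : WX ⟶ WX') (bX : WX ⟶ X)
    (hWX₁ : IsPullback cY.hom bX.hom bY.hom f.hom) (hWX₂ : IsPullback cX'.hom bX.hom bX'.hom t.hom)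
    (hcomm : cY ≫ aY = cX' ≫ aX') :
    IsPushout cY cX' aY aX' := by
  have e_comm : cY.hom ≫ aY.hom = cX'.hom ≫ aX'.hom := congrArg (fun m => m.hom) hcomm
  obtain ⟨V, p, hpe, hps⟩ := Y.property.atlas
  obtain ⟨C⟩ := FerrandQuot.exists_glueChart ht hf hY' p hpe hps
  obtain ⟨A, α, hαe, hαs⟩ := W'.property.atlas
  have sq₂ := C.het.1.isPullback (α ≫ w.hom)
  obtain ⟨m, hm⟩ := (AlgSp.yon S).map_surjective (C.het.1.fst (α ≫ w.hom))
  obtain ⟨π₂, hπ₂⟩ : ∃ q, q = (AlgSp.yon S).map (C.het.1.snd (α ≫ w.hom)) ≫ α := ⟨_, rfl⟩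
  have hmw : (AlgSp.yon S).map m ≫ C.π = π₂ ≫ w.hom := by rw [hm, sq₂.w, hπ₂, Category.assoc]
  have hπe : AlgSp.RepWith @Etale π₂ := hπ₂ ▸ RepWith.comp ((repWith_yon_map_iff _ _).2 (C.het.property_snd _)) hαe
  have hπs : AlgSp.RepWith @Surjective π₂ := hπ₂ ▸ RepWith.comp ((repWith_yon_map_iff _ _).2 (C.hsu.property_snd _)) hαs
  haveI : Flat m.left := hw π₂ C.π m hπe C.het hmw.symm
  obtain ⟨WZ₂, WX₂, WY₂, iW, jW, aW, bW, rZ, rX, rY, hW, sA, sB, sI, sJ⟩ := FerrandProps.exists_bc C.push m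
  obtain ⟨qY, hqY₁, hqY₂⟩ : ∃ q : (AlgSp.yon S).obj WY₂ ⟶ WY.obj,
      q ≫ aY.hom = (AlgSp.yon S).map bW ≫ π₂ ∧ q ≫ bY.hom = (AlgSp.yon S).map rY ≫ p :=
    ⟨hWY.lift _ _ (by
      rw [Category.assoc, Category.assoc, C.sqt'.w, ← hmw, ← Functor.map_comp_assoc, ← Functor.map_comp_assoc, sB.w]),
      hWY.lift_fst _ _ _, hWY.lift_snd _ _ _⟩
  obtain ⟨qX', hqX₁, hqX₂⟩ : ∃ q : (AlgSp.yon S).obj WX₂ ⟶ WX'.obj,
      q ≫ aX'.hom = (AlgSp.yon S).map aW ≫ π₂ ∧ q ≫ bX'.hom = (AlgSp.yon S).map rX ≫ C.qX' :=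
    ⟨hWX'.lift _ _ (by
      rw [Category.assoc, Category.assoc, C.sqf'.w, ← hmw, ← Functor.map_comp_assoc, ← Functor.map_comp_assoc, sA.w]),
      hWX'.lift_fst _ _ _, hWX'.lift_snd _ _ _⟩
  have sqY : IsPullback qY ((AlgSp.yon S).map bW) aY.hom π₂ := by
    refine IsPullback.of_right ?_ hqY₁ hWY.flip
    rw [hqY₂, ← hmw]
    exact (sB.map (AlgSp.yon S)).paste_horiz C.sqt'
  have sqX : IsPullback qX' ((AlgSp.yon S).map aW) aX'.hom π₂ := by
    refine IsPullback.of_right ?_ hqX₁ hWX'.flip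
    rw [hqX₂, ← hmw]
    exact (sA.map (AlgSp.yon S)).paste_horiz C.sqf'
  have hij : iW ≫ aW = jW ≫ bW := Over.OverMorphism.ext hW.pushout.w
  obtain ⟨qZ, hqZ₁, hqZ₂⟩ : ∃ q : (AlgSp.yon S).obj WZ₂ ⟶ WX.obj,
      q ≫ cY.hom = (AlgSp.yon S).map jW ≫ qY ∧ q ≫ bX.hom = (AlgSp.yon S).map rZ ≫ C.qX :=
    ⟨hWX₁.lift _ _ (by
      rw [Category.assoc, Category.assoc, hqY₂, C.sqf.w, ← Functor.map_comp_assoc, ← Functor.map_comp_assoc, sJ.w]),
      hWX₁.lift_fst _ _ _, hWX₁.lift_snd _ _ _⟩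
  have hqZ₃ : qZ ≫ cX'.hom = (AlgSp.yon S).map iW ≫ qX' := by
    refine hWX'.hom_ext ?_ ?_
    · rw [Category.assoc, ← e_comm, reassoc_of% hqZ₁, hqY₁, Category.assoc, hqX₁, ← Functor.map_comp_assoc,
        ← Functor.map_comp_assoc, hij]
    · rw [Category.assoc, hWX₂.w, reassoc_of% hqZ₂, C.sqt.w, Category.assoc, hqX₂, ← Functor.map_comp_assoc,
        ← Functor.map_comp_assoc, sI.w]
  let R := hπe.1.pullback π₂
  have sqR := hπe.1.isPullback' π₂
  haveI : Etale (hπe.1.fst' π₂).left := hπe.property _ _ _ sqR.flip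
  obtain ⟨QZ, QX, QY, iQ, jQ, aQ, bQ, sZ, sX, sY, hQ, qA, qB, -, -⟩ := FerrandProps.exists_bc hW (hπe.1.fst' π₂)
  haveI : Epi π₂ := epi_of_etale_surjective hπe hπs
  haveI : IsRegularEpi π₂ := IsRegularEpiCategory.regularEpiOfEpi _
  refine IsPushout.of_isColimit' ⟨hcomm⟩ (PushoutCocone.isColimitAux' _ fun s => ?_)
  have e_s : cY.hom ≫ s.inl.hom = cX'.hom ≫ s.inr.hom := congrArg (fun m => m.hom) s.condition
  have hd := FerrandQuot.exists_desc_thick hW s.pt.property (qX' ≫ s.inr.hom) (qY ≫ s.inl.hom) (by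
    rw [← reassoc_of% hqZ₃, ← reassoc_of% hqZ₁, e_s])
  have hR : (AlgSp.yon S).map (hπe.1.fst' π₂) ≫ hd.choose = (AlgSp.yon S).map (hπe.1.snd π₂) ≫ hd.choose := by
    refine FerrandQuot.hom_ext_thick hQ s.pt.property ?_ ?_
    · obtain ⟨y, hy⟩ := (AlgSp.yon S).map_surjective (sqX.lift ((AlgSp.yon S).map sX ≫ qX')
        ((AlgSp.yon S).map (aQ ≫ hπe.1.snd π₂)) (by
          rw [Category.assoc, hqX₁, ← Functor.map_comp_assoc, qA.w, Functor.map_comp_assoc, sqR.w,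
            Functor.map_comp_assoc]))
      have hy' : y ≫ aW = aQ ≫ hπe.1.snd π₂ :=
        (AlgSp.yon S).map_injective (by rw [Functor.map_comp, hy, sqX.lift_snd])
      rw [← Functor.map_comp_assoc, ← qA.w, Functor.map_comp_assoc, hd.choose_spec.1, ← Functor.map_comp_assoc,
        ← hy', Functor.map_comp_assoc, hd.choose_spec.1, hy, sqX.lift_fst_assoc, Category.assoc]
    · obtain ⟨y, hy⟩ := (AlgSp.yon S).map_surjective (sqY.lift ((AlgSp.yon S).map sY ≫ qY)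
        ((AlgSp.yon S).map (bQ ≫ hπe.1.snd π₂)) (by
          rw [Category.assoc, hqY₁, ← Functor.map_comp_assoc, qB.w, Functor.map_comp_assoc, sqR.w,
            Functor.map_comp_assoc]))
      have hy' : y ≫ bW = bQ ≫ hπe.1.snd π₂ :=
        (AlgSp.yon S).map_injective (by rw [Functor.map_comp, hy, sqY.lift_snd])
      rw [← Functor.map_comp_assoc, ← qB.w, Functor.map_comp_assoc, hd.choose_spec.2, ← Functor.map_comp_assoc,
        ← hy', Functor.map_comp_assoc, hd.choose_spec.2, hy, sqY.lift_fst_assoc, Category.assoc]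
  let d := EffectiveEpi.desc π₂ hd.choose fun {Q} g₁ g₂ hg => by
    rw [← sqR.lift_fst g₁ g₂ hg, Category.assoc, hR, ← Category.assoc, sqR.lift_snd]
  have hd' : π₂ ≫ d = hd.choose := EffectiveEpi.fac _ _ _
  haveI : Epi qY := epi_of_etale_surjective (RepWith.baseChange sqY.flip hπe) (RepWith.baseChange sqY.flip hπs)
  haveI : Epi qX' := epi_of_etale_surjective (RepWith.baseChange sqX.flip hπe) (RepWith.baseChange sqX.flip hπs)
  refine ⟨ObjectProperty.homMk d, ObjectProperty.hom_ext _ ?_, ObjectProperty.hom_ext _ ?_,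
    fun {m} h₁ h₂ => ObjectProperty.hom_ext _ ?_⟩
  · show aY.hom ≫ d = s.inl.hom
    rw [← cancel_epi qY, reassoc_of% hqY₁, hd', hd.choose_spec.2]
  · show aX'.hom ≫ d = s.inr.hom
    rw [← cancel_epi qX', reassoc_of% hqX₁, hd', hd.choose_spec.1]
  · show m.hom = d
    have e₁ : aY.hom ≫ m.hom = s.inl.hom := congrArg (fun m => m.hom) h₁
    have e₂ : aX'.hom ≫ m.hom = s.inr.hom := congrArg (fun m => m.hom) h₂
    rw [← cancel_epi π₂, hd']
    refine FerrandQuot.hom_ext_thick hW s.pt.property ?_ ?_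
    · rw [hd.choose_spec.1, ← reassoc_of% hqX₁, e₂]
    · rw [hd.choose_spec.2, ← reassoc_of% hqY₁, e₁]

end Groth.Agent.S10714
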