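import Groth.Statements.S10716
import Groth.Agent.AlgSpLib.PointsCompact
import Groth.Agent.AlgSpLib.PointsTop
import Groth.Agent.AlgSpLib.RepLocal
import Groth.Agent.Desc19b.HensSp.Lift
import Mathlib.AlgebraicGeometry.Morphisms.Separated
-- import your own Groth.Agent.* helpers here

set_option autoImplicit false
universe w v u
open CategoryTheory CategoryTheory.Limits AlgebraicGeometry
open AlgSp

namespace Groth.Agent.S10716

set_option backward.isDefEq.respectTransparency.types false

variable {S : Scheme.{u}}

/-- two maps from a scheme colimit into a sheaf with representable diagonal which agree on the legs are equal -/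
theorem hom_ext_of_isColimit {I : Type v} [Category.{w} I] {D : I ⥤ Over S} {c : Cocone D}
    (hc : IsColimit ((Over.forget S).mapCocone c)) {X : Sp S} (hX : Representable (Limits.diag X))
    (x y : (yon S).obj c.pt ⟶ X) (h : ∀ i, (yon S).map (c.ι.app i) ≫ x = (yon S).map (c.ι.app i) ≫ y) :
    x = y := by
  let z : (yon S).obj c.pt ⟶ X ⨯ X := prod.lift x y
  have sq := hX.isPullback z
  have : Mono ((yon S).map (hX.snd z)) := sq.flip.mono_fst_of_mono
  have := (yon S).mono_of_mono_map this
  have : Mono (hX.snd z).left := inferInstance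
  have hlift : ∀ i, ∃ σ : D.obj i ⟶ hX.pullback z, σ ≫ hX.snd z = c.ι.app i := fun i => by
    obtain ⟨σ, hσ⟩ := (yon S).map_surjective (sq.lift ((yon S).map (c.ι.app i) ≫ x) ((yon S).map (c.ι.app i))
      (by apply prod.hom_ext <;> simp [z, Limits.diag, h i]))
    exact ⟨σ, (yon S).map_injective (by rw [Functor.map_comp, hσ, sq.lift_snd])⟩
  choose σ hσ using hlift
  let cE : Cocone (D ⋙ Over.forget S) :=
    { pt := (hX.pullback z).left
      ι :=
        { app := fun i => (σ i).left
          naturality := fun i j f => by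
            show (D.map f).left ≫ (σ j).left = (σ i).left ≫ 𝟙 _
            rw [Category.comp_id, ← cancel_mono (hX.snd z).left]
            simp only [Category.assoc, ← Over.comp_left]
            rw [hσ, hσ, c.w] } }
  have hs : hc.desc cE ≫ (hX.snd z).left = 𝟙 _ := hc.hom_ext fun i => by
    erw [hc.fac_assoc, Category.comp_id]
    exact congrArg CommaMorphism.left (hσ i)
  let τ : c.pt ⟶ hX.pullback z := Over.homMk (hc.desc cE) (by
    rw [← Over.w (hX.snd z), ← Category.assoc]
    exact (congrArg (· ≫ c.pt.hom) hs).trans (Category.id_comp _))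
  have hτ : τ ≫ hX.snd z = 𝟙 _ := Over.OverMorphism.ext hs
  have hz : (yon S).map τ ≫ hX.fst z ≫ Limits.diag X = z := by
    rw [sq.w, ← Functor.map_comp_assoc, hτ]
    erw [(yon S).map_id, Category.id_comp]
  have h1 := congrArg (· ≫ prod.fst) hz
  have h2 := congrArg (· ≫ prod.snd) hz
  have d1 : Limits.diag X ≫ prod.fst = 𝟙 X := prod.lift_fst _ _
  have d2 : Limits.diag X ≫ prod.snd = 𝟙 X := prod.lift_snd _ _
  simp only [Category.assoc, d1, d2, Category.comp_id, z, prod.lift_fst, prod.lift_snd] at h1 h2
  exact h1.symm.trans h2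

open Groth.Agent.AlgSpLib in
theorem exists_desc {I : Type v} [Category.{w} I] {D : I ⥤ Over S} {c : Cocone D}
    (h₂ : ∀ x : ↥c.pt.left, ∃ (i : I) (y : ↥(D.obj i).left), (c.ι.app i).left y = x)
    (h₃ : ∀ (D' : I ⥤ Over S) (α : D' ⟶ D) (c' : Cocone D') (a : c'.pt ⟶ c.pt), Etale a.left →
      (∀ i, IsPullback (c'.ι.app i) (α.app i) a (c.ι.app i)) → Nonempty (IsColimit ((Over.forget S).mapCocone c')))
    (h₄ : ∀ (D' : I ⥤ Over S) (α : D' ⟶ D), NatTrans.Equifibered α → (∀ i, Etale (α.app i).left) →
      (∀ i, IsSeparated (α.app i).left) →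
      ∃ (c' : Cocone D') (a : c'.pt ⟶ c.pt), Etale a.left ∧ ∀ i, IsPullback (c'.ι.app i) (α.app i) a (c.ι.app i))
    {X : Sp S} (hX : IsAlgSpace X) (s : ∀ i, (yon S).obj (D.obj i) ⟶ X)
    (hs : ∀ ⦃i j⦄ (f : i ⟶ j), (yon S).map (D.map f) ≫ s j = s i) :
    ∃ t : (yon S).obj c.pt ⟶ X, ∀ i, (yon S).map (c.ι.app i) ≫ t = s i := by
  obtain ⟨κ, V, hV, q, p, hpe, hps, -⟩ := exists_etale_surjective_sigma_affine hX
  have hr := hX.representable_from_yon p
  let U : Over S := Over.mk q
  let P : I → Over S := fun i => hr.pullback (s i)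
  let pr : ∀ i, P i ⟶ D.obj i := fun i => hr.snd (s i)
  let pu : ∀ i, P i ⟶ U := fun i => hr.fst' (s i)
  have sqP : ∀ i, IsPullback ((yon S).map (pu i)) ((yon S).map (pr i)) p (s i) := fun i => hr.isPullback' _
  let D' : I ⥤ Over S :=
    { obj := P
      map := fun {i j} f => hr.lift' (pu i) (pr i ≫ D.map f) (by
        rw [Functor.map_comp, Category.assoc, hs f]; exact (sqP i).w)
      map_id := fun i => hr.hom_ext' (by simp [pu]) (by simp [pr])
      map_comp := fun f g => hr.hom_ext' (by simp [pu]) (by simp [pr]) }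
  let α : D' ⟶ D := { app := pr, naturality := fun i j f => Functor.relativelyRepresentable.lift'_snd _ _ _ _ }
  have hpu : ∀ ⦃i j⦄ (f : i ⟶ j), D'.map f ≫ pu j = pu i := fun i j f =>
    Functor.relativelyRepresentable.lift'_fst _ _ _ _
  have hequi : NatTrans.Equifibered α := fun i j f => by
    refine IsPullback.of_map (yon S) (α.naturality f) ?_
    have h1 : IsPullback ((yon S).map (D'.map f) ≫ (yon S).map (pu j)) ((yon S).map (pr i)) p
        ((yon S).map (D.map f) ≫ s j) := by
      rw [← Functor.map_comp, hpu, hs]; exact sqP i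
    exact IsPullback.of_right h1 (by rw [← Functor.map_comp, ← Functor.map_comp]; exact congrArg _ (α.naturality f))
      (sqP j)
  have het : ∀ i, Etale (α.app i).left := fun i => hpe.property_snd (s i)
  have hsep : ∀ i, IsSeparated (α.app i).left := fun i => by
    have : ∀ j, IsAffine (V j) := hV
    have : IsSeparated (U.hom ≫ terminal.from S) := by
      rw [show U.hom ≫ terminal.from S = Sigma.desc (fun k => terminal.from (V k)) from terminal.hom_ext _ _]
      exact Groth.Agent.Desc19b.HensSp.isSeparated_sigmaDesc _ fun k => inferInstance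
    have : IsSeparated U.hom := IsSeparated.of_comp U.hom (terminal.from S)
    let m : (P i).left ⟶ pullback U.hom (D.obj i).hom :=
      pullback.lift (pu i).left (pr i).left ((Over.w (pu i)).trans (Over.w (pr i)).symm)
    have : Mono m := by
      refine ⟨fun {Z} x y e => ?_⟩
      have e1 : x ≫ (pu i).left = y ≫ (pu i).left := by
        have := congrArg (· ≫ pullback.fst U.hom (D.obj i).hom) e
        simp only [Category.assoc, m, pullback.lift_fst] at this
        exact this
      have e2 : x ≫ (pr i).left = y ≫ (pr i).left := by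
        have := congrArg (· ≫ pullback.snd U.hom (D.obj i).hom) e
        simp only [Category.assoc, m, pullback.lift_snd] at this
        exact this
      have ey : y ≫ (P i).hom = x ≫ (P i).hom := by
        rw [← Over.w (pr i), ← Category.assoc, ← e2, Category.assoc]
      let xx : Over.mk (x ≫ (P i).hom) ⟶ P i := Over.homMk x
      let yy : Over.mk (x ≫ (P i).hom) ⟶ P i := Over.homMk y ey
      have hxy : xx = yy := hr.hom_ext' (Over.OverMorphism.ext e1) (Over.OverMorphism.ext e2)
      exact congrArg CommaMorphism.left hxy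
    show IsSeparated (pr i).left
    rw [← show m ≫ pullback.snd U.hom (D.obj i).hom = (pr i).left from pullback.lift_snd _ _ _]
    infer_instance
  obtain ⟨c', a, hae, sqa⟩ := h₄ D' α hequi het hsep
  obtain ⟨hc'⟩ := h₃ D' α c' a hae sqa
  let cU : Cocone (D' ⋙ Over.forget S) :=
    { pt := U.left
      ι :=
        { app := fun i => (pu i).left
          naturality := fun i j f => by
            show (D'.map f).left ≫ (pu j).left = (pu i).left ≫ 𝟙 _
            rw [Category.comp_id, ← Over.comp_left, hpu] } }
  let g : c'.pt ⟶ U := Over.homMk (hc'.desc cU) (hc'.hom_ext fun i => by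
    refine (Category.assoc _ _ _).symm.trans ((congrArg (· ≫ U.hom) (hc'.fac cU i)).trans ?_)
    exact (Over.w (pu i)).trans (Over.w (c'.ι.app i)).symm)
  have hg : ∀ i, c'.ι.app i ≫ g = pu i := fun i => Over.OverMorphism.ext (hc'.fac cU i)
  let m := (yon S).map g ≫ p
  have hm : ∀ i, (yon S).map (c'.ι.app i) ≫ m = (yon S).map (pr i) ≫ s i := fun i => by
    rw [← Category.assoc, ← Functor.map_comp, hg]; exact (sqP i).w
  have : Surjective a.left := ⟨fun x => by
    obtain ⟨i, y, rfl⟩ := h₂ x
    have : Surjective (pr i).left := hps.property _ _ _ (hr.isPullback (s i))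
    obtain ⟨z, rfl⟩ := (pr i).left.surjective y
    refine ⟨(c'.ι.app i).left z, ?_⟩
    rw [← Scheme.Hom.comp_apply, ← Scheme.Hom.comp_apply, ← Over.comp_left, ← Over.comp_left, (sqa i).w]⟩
  -- the two projections of the double overlap
  let p₁ := pullback.fst a a
  let p₂ := pullback.snd a a
  let a₂ := p₁ ≫ a
  let D'' : I ⥤ Over S :=
    { obj := fun i => pullback a₂ (c.ι.app i)
      map := fun {i j} f => pullback.map _ _ _ _ (𝟙 _) (D.map f) (𝟙 _) (by simp) (by simp)
      map_id := fun i => by apply pullback.hom_ext <;> simp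
      map_comp := fun f g => by
        apply pullback.hom_ext <;>
          simp only [pullback.map, pullback.lift_fst, pullback.lift_snd, pullback.lift_fst_assoc, pullback.lift_snd_assoc,
            Category.assoc, Category.comp_id, Functor.map_comp] }
  let α'' : D'' ⟶ D := { app := fun i => pullback.snd _ _, naturality := fun i j f => pullback.lift_snd _ _ _ }
  let c'' : Cocone D'' :=
    { pt := pullback a a
      ι := { app := fun i => pullback.fst _ _, naturality := fun i j f =>
          (pullback.lift_fst _ _ _).trans (by simp) } }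
  have hE : Etale a₂.left := by
    have : Etale p₁.left :=
      MorphismProperty.of_isPullback (P := @Etale) ((IsPullback.of_hasPullback a a).map (Over.forget S)).flip hae
    exact inferInstanceAs (Etale (p₁.left ≫ a.left))
  obtain ⟨hc''⟩ := h₃ D'' α'' c'' a₂ hE (fun i => IsPullback.of_hasPullback _ _)
  have hleg : ∀ (i) (q : pullback a a ⟶ c'.pt), q ≫ a = a₂ →
      (yon S).map (c''.ι.app i) ≫ (yon S).map q ≫ m = (yon S).map (α''.app i) ≫ s i := by
    intro i q hq
    let l := (sqa i).lift (c''.ι.app i ≫ q) (α''.app i) (by rw [Category.assoc, hq]; exact pullback.condition)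
    have e : (yon S).map (c''.ι.app i) ≫ (yon S).map q = (yon S).map l ≫ (yon S).map (c'.ι.app i) := by
      rw [← Functor.map_comp, ← Functor.map_comp, (sqa i).lift_fst]
    rw [← Category.assoc, e, Category.assoc, hm, ← Functor.map_comp_assoc]
    exact congrArg (fun t => (yon S).map t ≫ s i) ((sqa i).lift_snd _ _ _)
  have hagree : (yon S).map p₁ ≫ m = (yon S).map p₂ ≫ m :=
    hom_ext_of_isColimit hc'' hX.diag _ _ fun i =>
      (hleg i p₁ rfl).trans (hleg i p₂ pullback.condition.symm).symm
  obtain ⟨t, ht⟩ := yon_exists_glue (ι := PUnit.{u + 1}) (fun _ => a)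
    (fun z => ⟨⟨⟩, a.left.surjective z⟩) (fun _ => m) fun _ _ Z x y hxy => by
      rw [← pullback.lift_fst x y hxy, Functor.map_comp, Category.assoc]
      show (yon S).map (pullback.lift x y hxy) ≫ (yon S).map p₁ ≫ m = _
      rw [hagree, ← Functor.map_comp_assoc, pullback.lift_snd]
  refine ⟨t, fun i => ?_⟩
  have : Etale (pr i).left := het i
  have : Surjective (pr i).left := hps.property _ _ _ (hr.isPullback (s i))
  refine yon_hom_ext_of_cover (ι := PUnit.{u + 1}) (fun _ => pr i) (fun z => ⟨⟨⟩, (pr i).left.surjective z⟩) _ _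
    fun _ => ?_
  rw [← Category.assoc, ← Functor.map_comp, ← (sqa i).w, Functor.map_comp, Category.assoc, ht ⟨⟩, hm]

/-- Let `D : I ⥤ Over S` be a diagram of schemes over `S` with a cocone `c` such that (1) `c` is a
colimit in the category of schemes, (2) the coprojections are jointly surjective, (3) for every
etale `U → c.pt` and every cocone of cartesian squares `U_i = D_i ×_{c.pt} U`, `U` is the colimit of
the `U_i` in the category of schemes, and (4) every equifibered system of separated etale morphisms
`U_i → D_i` (all transition squares cartesian) comes from some etale `U → c.pt` by base change. Then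
the image of `c` in algebraic spaces over `S` is a colimit there. -/
theorem result {S : Scheme.{u}} {I : Type v} [Category.{w} I] (D : I ⥤ Over S) (c : Cocone D)
    (h₁ : IsColimit ((Over.forget S).mapCocone c))
    (h₂ : ∀ x : ↥c.pt.left, ∃ (i : I) (y : ↥(D.obj i).left), (c.ι.app i).left y = x)
    (h₃ : ∀ (D' : I ⥤ Over S) (α : D' ⟶ D) (c' : Cocone D') (a : c'.pt ⟶ c.pt), Etale a.left →
      (∀ i, IsPullback (c'.ι.app i) (α.app i) a (c.ι.app i)) → Nonempty (IsColimit ((Over.forget S).mapCocone c')))
    (h₄ : ∀ (D' : I ⥤ Over S) (α : D' ⟶ D), NatTrans.Equifibered α → (∀ i, Etale (α.app i).left) →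
      (∀ i, IsSeparated (α.app i).left) →
      ∃ (c' : Cocone D') (a : c'.pt ⟶ c.pt), Etale a.left ∧ ∀ i, IsPullback (c'.ι.app i) (α.app i) a (c.ι.app i)) :
    Nonempty (IsColimit ((AlgSp.ofScheme S).mapCocone c)) := by
  have he := fun (s : Cocone (D ⋙ AlgSp.ofScheme S)) =>
    exists_desc h₂ h₃ h₄ s.pt.property (fun i => (s.ι.app i).hom) fun i j f =>
      congrArg (fun t => t.hom) (s.w f)
  choose t ht using he
  exact ⟨{
    desc := fun s => ObjectProperty.homMk (t s)
    fac := fun s i => ObjectProperty.hom_ext _ (ht s i)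
    uniq := fun s m hm => ObjectProperty.hom_ext _ (hom_ext_of_isColimit h₁ s.pt.property.diag _ _ fun i =>
      (congrArg (fun t => t.hom) (hm i)).trans (ht s i).symm) }⟩

end Groth.Agent.S10716
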