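import Groth.Statements.S10719
import Groth.Agent.AlgSpLib.GabberSheaf
import Groth.Agent.AlgSpLib.Basic

set_option autoImplicit false
set_option backward.isDefEq.respectTransparency false
set_option backward.isDefEq.respectTransparency.types false
universe w v u
open CategoryTheory CategoryTheory.Limits AlgebraicGeometry
open AlgSp

namespace Groth.Agent.S10719

theorem sp_ext {S : Scheme.{u}} {B : Space S} {X Y : Over B} {f g : X ⟶ Y} (h : f.left.hom = g.left.hom) : f = g :=
  Over.OverMorphism.ext (ObjectProperty.hom_ext _ h)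

/-- the base change of a diagram over `c.pt` -/
theorem exists_pullback_diagram {S : Scheme.{u}} {B : Space S} {I : Type v} [Category.{w} I] (D : I ⥤ Over B)
    (c : Cocone D) (U : Over B) (p : U ⟶ c.pt) :
    ∃ (Du : I ⥤ Over B) (α : Du ⟶ D) (ι : Du ⟶ (Functor.const I).obj U),
      ∀ i, IsPullback (ι.app i).left.hom (α.app i).left.hom p.left.hom (c.ι.app i).left.hom := by
  let P : I → Space S := fun i => ⟨pullback p.left.hom (c.ι.app i).left.hom,
    AlgSpLib.isAlgSpace_of_isPullback c.pt.left.property.diag U.left.property (D.obj i).left.property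
      (IsPullback.of_hasPullback p.left.hom (c.ι.app i).left.hom)⟩
  let PB : I → Over B := fun i => Over.mk
    ((ObjectProperty.homMk (pullback.fst p.left.hom (c.ι.app i).left.hom) : P i ⟶ U.left) ≫ U.hom)
  let fI : ∀ i, PB i ⟶ U := fun i => Over.homMk (ObjectProperty.homMk (pullback.fst p.left.hom (c.ι.app i).left.hom))
  let sI : ∀ i, PB i ⟶ D.obj i := fun i => Over.homMk (ObjectProperty.homMk (pullback.snd p.left.hom (c.ι.app i).left.hom)) (by
    refine ObjectProperty.hom_ext _ ?_
    have e1 := congrArg (fun k : (D.obj i).left ⟶ B => k.hom) (Over.w (c.ι.app i))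
    have e2 := congrArg (fun k : U.left ⟶ B => k.hom) (Over.w p)
    show pullback.snd p.left.hom (c.ι.app i).left.hom ≫ (D.obj i).hom.hom =
      pullback.fst p.left.hom (c.ι.app i).left.hom ≫ U.hom.hom
    exact (congrArg (_ ≫ ·) e1.symm).trans ((Category.assoc _ _ _).symm.trans
      ((congrArg (· ≫ c.pt.hom.hom) pullback.condition.symm).trans ((Category.assoc _ _ _).trans (congrArg (_ ≫ ·) e2)))))
  have hw : ∀ {i j : I} (g : i ⟶ j), (D.map g).left.hom ≫ (c.ι.app j).left.hom = (c.ι.app i).left.hom :=
    fun g => congrArg (fun k => k.left.hom) (c.w g)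
  let m : ∀ {i j : I}, (i ⟶ j) → (PB i ⟶ PB j) := fun {i j} g => Over.homMk (ObjectProperty.homMk
      (pullback.lift (pullback.fst _ _) (pullback.snd _ _ ≫ (D.map g).left.hom)
        (by rw [Category.assoc, hw, pullback.condition]))) (by
    refine ObjectProperty.hom_ext _ ?_
    show pullback.lift _ _ _ ≫ pullback.fst _ _ ≫ U.hom.hom = _
    rw [pullback.lift_fst_assoc]
    rfl)
  let Du : I ⥤ Over B :=
    { obj := PB
      map := fun g => m g
      map_id := fun i => sp_ext (pullback.hom_ext
        ((pullback.lift_fst _ _ _).trans (Category.id_comp _).symm)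
        ((pullback.lift_snd _ _ _).trans (by
          rw [D.map_id]
          exact (Category.comp_id _).trans (Category.id_comp _).symm)))
      map_comp := fun {i j k} g g' => sp_ext (pullback.hom_ext
        ((pullback.lift_fst _ _ _).trans (by
          show _ = ((m g).left.hom ≫ (m g').left.hom) ≫ _
          rw [Category.assoc]
          exact ((congrArg (_ ≫ ·) (pullback.lift_fst _ _ _)).trans (pullback.lift_fst _ _ _)).symm))
        ((pullback.lift_snd _ _ _).trans (by
          show _ = ((m g).left.hom ≫ (m g').left.hom) ≫ _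
          rw [Category.assoc, D.map_comp]
          refine Eq.trans ?_ ((congrArg (_ ≫ ·) (pullback.lift_snd _ _ _)).trans ((Category.assoc _ _ _).symm.trans
            (congrArg (· ≫ _) (pullback.lift_snd _ _ _)))).symm
          exact (Category.assoc _ _ _).symm))) }
  exact ⟨Du, { app := sI, naturality := fun i j g => sp_ext (pullback.lift_snd _ _ _) },
    { app := fI, naturality := fun i j g => sp_ext ((pullback.lift_fst _ _ _).trans (Category.comp_id _).symm) },
    fun i => IsPullback.of_hasPullback _ _⟩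

/-- Let `B` be an algebraic space over `S`, `D : I ⥤ Over B` a diagram of algebraic spaces over `B` with
a cocone `c`, and `{U_a → c.pt}` an fpqc covering (by algebraic spaces over `B`). If (1) for every
`a`, every cocone of cartesian squares `D_i ×_{c.pt} U_a → U_a` is a colimit in algebraic spaces
over `B`, and (2) the same holds for every fibre product `U_a ×_{c.pt} U_b`, then `c` is a colimit
in algebraic spaces over `B`. -/
theorem result {S : Scheme.{u}} {B : AlgSp.Space S} {I : Type v} [Category.{w} I] (D : I ⥤ Over B)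
    (c : Cocone D) {κ : Type u} (Ua : κ → Over B) (ua : ∀ a, Ua a ⟶ c.pt)
    (hcov : AlgSp.IsFpqcCover (fun a => (Ua a).left.obj) (fun a => (ua a).left.hom))
    (h₁ : ∀ (a : κ) (Da : I ⥤ Over B) (α : Da ⟶ D) (ι : Da ⟶ (Functor.const I).obj (Ua a)),
      (∀ i, IsPullback (ι.app i).left.hom (α.app i).left.hom (ua a).left.hom (c.ι.app i).left.hom) →
        Nonempty (IsColimit (Cocone.mk (Ua a) ι)))
    (h₂ : ∀ (a b : κ) (Uab : Over B) (pa : Uab ⟶ Ua a) (pb : Uab ⟶ Ua b),
      IsPullback pa.left.hom pb.left.hom (ua a).left.hom (ua b).left.hom →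
      ∀ (Dab : I ⥤ Over B) (α : Dab ⟶ D) (ι : Dab ⟶ (Functor.const I).obj Uab),
        (∀ i, IsPullback (ι.app i).left.hom (α.app i).left.hom (pa ≫ ua a).left.hom (c.ι.app i).left.hom) →
          Nonempty (IsColimit (Cocone.mk Uab ι))) :
    Nonempty (IsColimit c) := by
  choose Da α ι hsq using fun a => exists_pullback_diagram D c (Ua a) (ua a)
  have hT := c.pt.left.property
  have hUa : ∀ a, IsAlgSpace (Ua a).left.obj := fun a => (Ua a).left.property
  have hL : ∀ (s : Cocone D) (a : κ), ∃ m : Ua a ⟶ s.pt, ∀ i, (ι a).app i ≫ m = (α a).app i ≫ s.ι.app i := fun s a => by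
    obtain ⟨hc⟩ := h₁ a (Da a) (α a) (ι a) (hsq a)
    exact ⟨hc.desc ⟨s.pt, α a ≫ s.ι⟩, fun i => hc.fac _ i⟩
  choose L hL using hL
  have hfac : ∀ (s : Cocone D) (a : κ) (m : c.pt ⟶ s.pt), (∀ i, c.ι.app i ≫ m = s.ι.app i) → ua a ≫ m = L s a := by
    intro s a m hm
    obtain ⟨hc⟩ := h₁ a (Da a) (α a) (ι a) (hsq a)
    refine hc.hom_ext fun i => ?_
    refine Eq.trans ?_ (hL s a i).symm
    show (ι a).app i ≫ ua a ≫ m = _
    rw [← hm i, ← Category.assoc, ← Category.assoc]
    exact congrArg (· ≫ m) (sp_ext (hsq a i).w)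
  have hdesc : ∀ s : Cocone D, ∃ m : c.pt ⟶ s.pt, ∀ i, c.ι.app i ≫ m = s.ι.app i := by
    intro s
    obtain ⟨f, hf⟩ := AlgSpLib.GabberSheaf.exists_glue_of_cover hT s.pt.left.property hcov
      (fun a => (L s a).left.hom) fun a b => by
      let Pab : Space S := ⟨pullback (ua a).left.hom (ua b).left.hom,
        AlgSpLib.isAlgSpace_of_isPullback hT.diag (hUa a) (hUa b) (IsPullback.of_hasPullback _ _)⟩
      let Uab : Over B := Over.mk ((ObjectProperty.homMk (pullback.fst (ua a).left.hom (ua b).left.hom) :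
        Pab ⟶ (Ua a).left) ≫ (Ua a).hom)
      let pa : Uab ⟶ Ua a := Over.homMk (ObjectProperty.homMk (pullback.fst (ua a).left.hom (ua b).left.hom))
      have eu : ∀ a, (ua a).left.hom ≫ c.pt.hom.hom = (Ua a).hom.hom := fun a =>
        congrArg (fun k : (Ua a).left ⟶ B => k.hom) (Over.w (ua a))
      let pb : Uab ⟶ Ua b := Over.homMk (ObjectProperty.homMk (pullback.snd (ua a).left.hom (ua b).left.hom)) (by
        refine ObjectProperty.hom_ext _ ?_
        show pullback.snd _ _ ≫ (Ua b).hom.hom = pullback.fst _ _ ≫ (Ua a).hom.hom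
        rw [← eu a, ← eu b, pullback.condition_assoc])
      have hab : pa ≫ ua a = pb ≫ ua b := sp_ext pullback.condition
      obtain ⟨Du, αu, ιu, hu⟩ := exists_pullback_diagram D c Uab (pa ≫ ua a)
      obtain ⟨hc⟩ := h₂ a b Uab pa pb (IsPullback.of_hasPullback _ _) Du αu ιu hu
      have key : ∀ (e : κ) (p : Uab ⟶ Ua e), p ≫ ua e = pa ≫ ua a → ∀ i,
          ιu.app i ≫ p ≫ L s e = αu.app i ≫ s.ι.app i := by
        intro e p hp i
        have hw : ((ιu.app i).left.hom ≫ p.left.hom) ≫ (ua e).left.hom = (αu.app i).left.hom ≫ (c.ι.app i).left.hom := by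
          rw [Category.assoc]
          refine Eq.trans (congrArg (_ ≫ ·) ?_) (hu i).w
          exact congrArg (fun k : Uab ⟶ c.pt => k.left.hom) hp
        let lS := (hsq e i).lift _ _ hw
        have e1 : lS ≫ ((ι e).app i).left.hom = (ιu.app i).left.hom ≫ p.left.hom := (hsq e i).lift_fst _ _ hw
        have e2 : lS ≫ ((α e).app i).left.hom = (αu.app i).left.hom := (hsq e i).lift_snd _ _ hw
        refine sp_ext ?_
        show (ιu.app i).left.hom ≫ p.left.hom ≫ (L s e).left.hom = (αu.app i).left.hom ≫ (s.ι.app i).left.hom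
        rw [← Category.assoc, ← e1, ← e2, Category.assoc, Category.assoc]
        exact congrArg (lS ≫ ·) (congrArg (fun k : (Da e).obj i ⟶ s.pt => k.left.hom) (hL s e i))
      have h := hc.hom_ext (f := pa ≫ L s a) (f' := pb ≫ L s b) fun i =>
        (key a pa rfl i).trans (key b pb hab.symm i).symm
      exact congrArg (fun k : Uab ⟶ s.pt => k.left.hom) h
    let m₀ : c.pt.left ⟶ s.pt.left := ObjectProperty.homMk f
    have hm₀ : m₀ ≫ s.pt.hom = c.pt.hom := by
      refine ObjectProperty.hom_ext _ (AlgSpLib.GabberSheaf.hom_ext_of_cover hT B.property hcov _ _ fun a => ?_)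
      show (ua a).left.hom ≫ f ≫ s.pt.hom.hom = (ua a).left.hom ≫ c.pt.hom.hom
      rw [← Category.assoc, hf a]
      exact (congrArg (fun k : (Ua a).left ⟶ B => k.hom) (Over.w (L s a))).trans
        (congrArg (fun k : (Ua a).left ⟶ B => k.hom) (Over.w (ua a))).symm
    refine ⟨Over.homMk m₀ hm₀, fun i => sp_ext ?_⟩
    have hi := fun a => (hsq a i)
    have hcov' : AlgSp.IsFpqcCover (fun a => ((Da a).obj i).left.obj) (fun a => ((α a).app i).left.hom) :=
      AlgSpLib.isFpqcCover_of_isPullback hT (D.obj i).left.property (c.ι.app i).left.hom hUa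
        (fun a => ((Da a).obj i).left.property) (fun a => (hi a).flip) hcov
    refine AlgSpLib.GabberSheaf.hom_ext_of_cover (D.obj i).left.property s.pt.left.property hcov' _ _ fun a => ?_
    show ((α a).app i).left.hom ≫ (c.ι.app i).left.hom ≫ f = ((α a).app i).left.hom ≫ (s.ι.app i).left.hom
    rw [← Category.assoc, ← (hi a).w, Category.assoc, hf a]
    exact congrArg (fun k : (Da a).obj i ⟶ s.pt => k.left.hom) (hL s a i)
  choose m hm using hdesc
  exact ⟨{ desc := m, fac := hm, uniq := fun s m' hm' => sp_ext (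
    AlgSpLib.GabberSheaf.hom_ext_of_cover hT s.pt.left.property hcov _ _ fun a =>
      congrArg (fun k : Ua a ⟶ s.pt => k.left.hom) ((hfac s a m' hm').trans (hfac s a (m s) (hm s)).symm)) }⟩

end Groth.Agent.S10719
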