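import Groth.Statements.S10720
import Groth.Agent.AlgSpLib.ModifGlueMain
-- import your own Groth.Agent.* helpers here

set_option autoImplicit false
universe u
open CategoryTheory CategoryTheory.Limits AlgebraicGeometry
open AlgSp

namespace Groth.Agent.S10720

open Groth.Agent.AlgSpLib Groth.Agent.AlgSpLib.ModifGlue

set_option backward.isDefEq.respectTransparency.types false
set_option backward.isDefEq.respectTransparency false
set_option linter.style.haveILetI false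

theorem existsUnique_desc {S : Scheme.{u}} (G : Datum S) :
    ∃! a : G.X₁ ⟶ G.X₂, a ≫ G.p₂ = G.p₁ ∧ G.a₁U ≫ a = G.φU ∧ G.a₁Y ≫ a = G.φY := by
  obtain ⟨α, TV, tc, τ, hTV, htc, hτ, hτe, hτepi⟩ := exists_affine_charts G.hX
  -- affine charts adapted to the target chart
  have sq := IsPullback.of_hasPullback G.p₁ τ
  have hP : IsAlgSpace (pullback G.p₁ τ) :=
    isAlgSpace_of_isPullback G.hX.diag G.hX₁ (IsAlgSpace.yon_obj (sigmaOver TV)) sq
  obtain ⟨Wa, wa, hwe, hws⟩ := hP.atlas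
  obtain ⟨g, hg⟩ := (yon S).map_surjective (wa ≫ pullback.snd G.p₁ τ)
  let ψ := wa ≫ pullback.fst G.p₁ τ
  have hψe : RepWith @Etale ψ := RepWith.comp hwe (RepWith.baseChange sq.flip hτe)
  haveI : Epi (pullback.fst G.p₁ τ) := by
    haveI := hτepi
    refine ⟨fun {F} p p' e => hom_ext_of_yon fun Q x => ?_⟩
    obtain ⟨C, hC, h⟩ := exists_covering_lift τ (x ≫ G.p₁)
    refine eq_of_covering hC fun Q' r hr => ?_
    obtain ⟨u', hu⟩ := h r hr
    obtain ⟨l, hl, -⟩ := sq.exists_lift ((yon S).map r ≫ x) u' (by rw [hu, Category.assoc])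
    rw [← Category.assoc, ← Category.assoc _ x, ← hl, Category.assoc, Category.assoc, e]
  haveI : Epi wa := epi_of_etale_surjective hwe hws
  haveI : Epi ψ := epi_comp _ _
  have hwψ : ψ ≫ G.p₁ = (yon S).map g ≫ τ := by
    rw [Category.assoc, pullback.condition, hg, Category.assoc]
  -- opens with a chart
  have key : ∀ (R : Over S) [IsAffine R.left] (q : R ⟶ Wa) (n : α) (h : R ⟶ TV n),
      q ≫ g = h ≫ sigmaOverι TV n → ∃! φ, Compat G ((yon S).map q ≫ ψ) φ := by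
    intro R _ q n h e
    haveI := hTV n
    refine existsUnique_compat G (tc n) (htc n) h _ ?_
    rw [Category.assoc, hwψ, ← Functor.map_comp_assoc, e, Functor.map_comp, Category.assoc, hτ]
  let κ := {O : Wa.left.affineOpens // ∃ n, ∃ h : restrictOver Wa O.1 ⟶ TV n,
    restrictOverι Wa O.1 ≫ g = h ≫ sigmaOverι TV n}
  have hcover : ∀ {R : Over S} (q : R ⟶ Wa) (z : R.left), ∃ (O : R.left.affineOpens) (n : α)
      (h : restrictOver R O.1 ⟶ TV n), z ∈ O.1 ∧ (restrictOverι R O.1 ≫ q) ≫ g = h ≫ sigmaOverι TV n := by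
    intro R q z
    obtain ⟨n, w, hw⟩ := exists_mem_range_sigmaOverι TV ((q ≫ g).left z)
    haveI : IsOpenImmersion (sigmaOverι TV n).left :=
      inferInstanceAs (IsOpenImmersion (Sigma.ι (fun i => (TV i).left) n))
    let O₀ : R.left.Opens := (q ≫ g).left ⁻¹ᵁ (sigmaOverι TV n).left.opensRange
    obtain ⟨O, hzO, hle⟩ := exists_affine_mem (x := z) (O := O₀) ⟨w, hw⟩
    have hr : Set.range ((restrictOverι R O.1 ≫ q) ≫ g).left ⊆ Set.range (sigmaOverι TV n).left := by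
      rintro _ ⟨v, rfl⟩
      exact hle v.2
    let h₀ := IsOpenImmersion.lift (sigmaOverι TV n).left ((restrictOverι R O.1 ≫ q) ≫ g).left hr
    have hh₀ : h₀ ≫ (sigmaOverι TV n).left = ((restrictOverι R O.1 ≫ q) ≫ g).left :=
      IsOpenImmersion.lift_fac _ _ hr
    exact ⟨O, n, Over.homMk h₀ (by rw [← Over.w (sigmaOverι TV n), ← Category.assoc, hh₀]; exact Over.w _), hzO,
      Over.OverMorphism.ext hh₀.symm⟩
  have hex : ∀ O : κ, ∃! φ, Compat G ((yon S).map (restrictOverι Wa O.1.1) ≫ ψ) φ := fun O => by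
    obtain ⟨n, h, e⟩ := O.2
    haveI : IsAffine (restrictOver Wa O.1.1).left := O.1.2
    exact key _ _ n h e
  choose φi hφi hφu using hex
  have hext : ∀ (R : Over S) (q : R ⟶ Wa) (φ φ' : (yon S).obj R ⟶ G.X₂),
      Compat G ((yon S).map q ≫ ψ) φ → Compat G ((yon S).map q ≫ ψ) φ' → φ = φ' := by
    intro R q φ φ' hφ hφ'
    choose O n h hzO he using hcover q
    refine yon_hom_ext_of_cover (fun z : R.left => restrictOverι R (O z).1) (fun z => ⟨z, ⟨z, hzO z⟩, rfl⟩) _ _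
      fun z => ?_
    haveI : IsAffine (restrictOver R (O z).1).left := (O z).2
    refine (key _ (restrictOverι R (O z).1 ≫ q) (n z) (h z) (he z)).unique ?_ ?_
    · rw [Functor.map_comp, Category.assoc]; exact compat_comp G _ hφ
    · rw [Functor.map_comp, Category.assoc]; exact compat_comp G _ hφ'
  have hsurj : ∀ z : Wa.left, ∃ O : κ, z ∈ O.1.1 := fun z => by
    obtain ⟨O, n, h, hzO, he⟩ := hcover (𝟙 Wa) z
    exact ⟨⟨O, n, h, by simpa using he⟩, hzO⟩
  obtain ⟨Φ, hΦ⟩ := yon_exists_glue (fun O : κ => restrictOverι Wa O.1.1)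
    (fun z => by obtain ⟨O, hO⟩ := hsurj z; exact ⟨O, ⟨z, hO⟩, rfl⟩) φi fun O O' Q a b e => by
      refine hext Q (a ≫ restrictOverι Wa O.1.1) _ _ ?_ ?_
      · rw [Functor.map_comp, Category.assoc]; exact compat_comp G a (hφi O)
      · rw [e, Functor.map_comp, Category.assoc]; exact compat_comp G b (hφi O')
  have hlocal : ∀ (R : Over S) (q : R ⟶ Wa) (p p' : (yon S).obj R ⟶ G.X₂),
      (∀ (P : Over S) (k : P ⟶ R) (O : κ) (l : P ⟶ restrictOver Wa O.1.1), k ≫ q = l ≫ restrictOverι Wa O.1.1 →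
        (yon S).map k ≫ p = (yon S).map k ≫ p') → p = p' := by
    intro R q p p' h
    have hopen : ∀ O : κ, IsOpenImmersion (pullback.fst q (restrictOverι Wa O.1.1)).left := fun O => by
      have sq := ((IsPullback.of_hasPullback q (restrictOverι Wa O.1.1)).map (Over.forget _))
      exact MorphismProperty.of_isPullback (P := @IsOpenImmersion) sq.flip
        (inferInstanceAs (IsOpenImmersion O.1.1.ι))
    haveI : ∀ O : κ, Flat (pullback.fst q (restrictOverι Wa O.1.1)).left := fun O => by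
      have := hopen O; infer_instance
    haveI : ∀ O : κ, LocallyOfFinitePresentation (pullback.fst q (restrictOverι Wa O.1.1)).left := fun O => by
      have := hopen O; infer_instance
    refine yon_hom_ext_of_cover (fun O : κ => pullback.fst q (restrictOverι Wa O.1.1)) (fun z => ?_) p p' fun O =>
      h _ _ O (pullback.snd q (restrictOverι Wa O.1.1)) pullback.condition
    obtain ⟨O, hO⟩ := hsurj (q.left z)
    have sq := ((IsPullback.of_hasPullback q (restrictOverι Wa O.1.1)).map (Over.forget _))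
    obtain ⟨w', hw'1, -⟩ := Scheme.Pullback.exists_preimage_pullback (f := q.left) (g := O.1.1.ι) z ⟨q.left z, hO⟩ rfl
    refine ⟨O, sq.isoPullback.inv w', ?_⟩
    refine Eq.trans ?_ hw'1
    exact congr($(sq.isoPullback_inv_fst) w')
  have hΦc : Compat G ψ Φ := by
    refine ⟨?_, fun R k u e => ?_, fun R k y e => ?_⟩
    · refine yon_hom_ext_of_cover (fun O : κ => restrictOverι Wa O.1.1)
        (fun z => by obtain ⟨O, hO⟩ := hsurj z; exact ⟨O, ⟨z, hO⟩, rfl⟩) _ _ fun O => ?_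
      rw [reassoc_of% (hΦ O), (hφi O).1, Category.assoc]
    · refine hlocal R k _ _ fun P m O l hl => ?_
      rw [← Functor.map_comp_assoc, hl, Functor.map_comp, Category.assoc, hΦ, ← Category.assoc]
      refine (hφi O).2.1 P l _ ?_
      rw [← Functor.map_comp_assoc, ← hl, Functor.map_comp, Category.assoc, e, Category.assoc]
    · refine hlocal R k _ _ fun P m O l hl => ?_
      rw [← Functor.map_comp_assoc, hl, Functor.map_comp, Category.assoc, hΦ, ← Category.assoc]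
      refine (hφi O).2.2 P l _ ?_
      rw [← Functor.map_comp_assoc, ← hl, Functor.map_comp, Category.assoc, e, Category.assoc]
  have sqR := hψe.1.isPullback ψ
  obtain ⟨r₁, hr₁⟩ := (yon S).map_surjective (hψe.1.fst ψ)
  let r₂ := hψe.1.snd ψ
  have hker : (yon S).map r₁ ≫ Φ = (yon S).map r₂ ≫ Φ := by
    refine hext _ r₂ _ _ ?_ (compat_comp G r₂ hΦc)
    have h1 := compat_comp G r₁ hΦc
    rwa [hr₁, sqR.w, ← hr₁] at h1
  haveI : IsRegularEpiCategory (Sp S) := inferInstanceAs (IsRegularEpiCategory (Sheaf (J S) (Type (u + 1))))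
  haveI : IsRegularEpi ψ := IsRegularEpiCategory.regularEpiOfEpi ψ
  let a : G.X₁ ⟶ G.X₂ := EffectiveEpi.desc ψ Φ (fun g₁ g₂ e => by
    obtain ⟨l, hl1, hl2⟩ := sqR.exists_lift g₁ g₂ e
    rw [← hl1, ← hl2, ← hr₁, Category.assoc, Category.assoc, hker])
  have ha : ψ ≫ a = Φ := EffectiveEpi.fac _ _ _
  refine ⟨a, ⟨?_, ?_, ?_⟩, fun a' ha' => ?_⟩
  · rw [← cancel_epi ψ, reassoc_of% ha, hΦc.1]
  · refine hom_ext_of_yon fun Q x => ?_
    obtain ⟨C, hC, h⟩ := exists_covering_lift ψ (x ≫ G.a₁U)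
    refine eq_of_covering hC fun Q' r hr => ?_
    obtain ⟨u', hu⟩ := h r hr
    obtain ⟨q, rfl⟩ := (yon S).map_surjective u'
    calc (yon S).map r ≫ x ≫ G.a₁U ≫ a = (yon S).map q ≫ Φ := by rw [← ha, reassoc_of% hu]
      _ = ((yon S).map r ≫ x) ≫ G.φU := hΦc.2.1 Q' q _ (by rw [hu, Category.assoc])
      _ = _ := Category.assoc _ _ _
  · refine hom_ext_of_yon fun Q x => ?_
    obtain ⟨C, hC, h⟩ := exists_covering_lift ψ (x ≫ G.a₁Y)
    refine eq_of_covering hC fun Q' r hr => ?_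
    obtain ⟨u', hu⟩ := h r hr
    obtain ⟨q, rfl⟩ := (yon S).map_surjective u'
    calc (yon S).map r ≫ x ≫ G.a₁Y ≫ a = (yon S).map q ≫ Φ := by rw [← ha, reassoc_of% hu]
      _ = ((yon S).map r ≫ x) ≫ G.φY := hΦc.2.2 Q' q _ (by rw [hu, Category.assoc])
      _ = _ := Category.assoc _ _ _
  · obtain ⟨h1, h2, h3⟩ := ha'
    rw [← cancel_epi ψ, ha]
    have e : Compat G ψ (ψ ≫ a') := ⟨by rw [Category.assoc, h1],
      fun R k u e => by rw [reassoc_of% e, h2], fun R k y e => by rw [reassoc_of% e, h3]⟩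
    refine hext Wa (𝟙 Wa) _ _ ?_ ?_
    · rw [CategoryTheory.Functor.map_id, Category.id_comp]; exact e
    · rw [CategoryTheory.Functor.map_id, Category.id_comp]; exact hΦc

/-- Let `f : Y → X` be a quasi-compact quasi-separated morphism of algebraic spaces over `S`, `i : Z →
X` a closed immersion of finite presentation such that `f⁻¹Z → Z` is an isomorphism and `f` is flat
at every point of `|f⁻¹Z|`, and let `U ⊂ X` be the open subspace complementary to `Z`, with `V = U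
×_X Y`. Let `X'₁`, `X'₂` be algebraic spaces over `X` with `X'₂ → X` separated. Then every morphism
between their images in the glueing category — morphisms of the base changes to `U`, to `V` and to
`Y`, over `U`, `V`, `Y` and compatible with the restriction maps — is induced by a unique morphism
`X'₁ → X'₂` over `X`. -/
theorem result {S : Scheme.{u}} {X Y Z FZ U : AlgSp.Space S} (f : Y ⟶ X)
    (hqc : AlgSp.IsQuasiCompactMor f.hom) (hqs : AlgSp.IsQuasiSeparatedMor f.hom) (i : Z ⟶ X)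
    (hi : AlgSp.RepWith @IsClosedImmersion i.hom) (hifp : AlgSp.LocP @LocallyOfFinitePresentation i.hom)
    (iY : FZ ⟶ Y) (fZ : FZ ⟶ Z) (hFZ : IsPullback iY.hom fZ.hom f.hom i.hom) [IsIso fZ]
    (hflat : ∀ y ∈ Set.range (AlgSp.Points.map iY.hom), AlgSp.IsFlatAtMor f.hom y) (j : U ⟶ X)
    (hj : AlgSp.RepWith @IsOpenImmersion j.hom)
    (hU : Set.range (AlgSp.Points.map j.hom) = (Set.range (AlgSp.Points.map i.hom))ᶜ)
    {X₁ X₂ A₁U A₂U A₁Y A₂Y A₁V A₂V : AlgSp.Space S} (p₁ : X₁ ⟶ X) (p₂ : X₂ ⟶ X)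
    (hp₂ : AlgSp.IsSeparatedMor p₂.hom)
    (a₁U : A₁U ⟶ X₁) (r₁U : A₁U ⟶ U) (h₁U : IsPullback a₁U.hom r₁U.hom p₁.hom j.hom)
    (a₂U : A₂U ⟶ X₂) (r₂U : A₂U ⟶ U) (h₂U : IsPullback a₂U.hom r₂U.hom p₂.hom j.hom)
    (a₁Y : A₁Y ⟶ X₁) (r₁Y : A₁Y ⟶ Y) (h₁Y : IsPullback a₁Y.hom r₁Y.hom p₁.hom f.hom)
    (a₂Y : A₂Y ⟶ X₂) (r₂Y : A₂Y ⟶ Y) (h₂Y : IsPullback a₂Y.hom r₂Y.hom p₂.hom f.hom)
    (m₁U : A₁V ⟶ A₁U) (m₁Y : A₁V ⟶ A₁Y) (h₁V : IsPullback m₁U.hom m₁Y.hom a₁U.hom a₁Y.hom)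
    (m₂U : A₂V ⟶ A₂U) (m₂Y : A₂V ⟶ A₂Y) (h₂V : IsPullback m₂U.hom m₂Y.hom a₂U.hom a₂Y.hom)
    (bU : A₁U ⟶ A₂U) (hbU : bU ≫ r₂U = r₁U) (bY : A₁Y ⟶ A₂Y) (hbY : bY ≫ r₂Y = r₁Y)
    (bV : A₁V ⟶ A₂V) (hbV₁ : bV ≫ m₂U = m₁U ≫ bU) (hbV₂ : bV ≫ m₂Y = m₁Y ≫ bY) :
    ∃! a : X₁ ⟶ X₂, a ≫ p₂ = p₁ ∧ a₁U ≫ a = bU ≫ a₂U ∧ a₁Y ≫ a = bY ≫ a₂Y := by
  let G : Datum S :=
    { X := X.obj, Y := Y.obj, Z := Z.obj, FZ := FZ.obj, U := U.obj, X₁ := X₁.obj, X₂ := X₂.obj
      A₁U := A₁U.obj, A₁Y := A₁Y.obj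
      hX := X.property, hY := Y.property, hZ := Z.property, hX₁ := X₁.property, hX₂ := X₂.property
      f := f.hom, hqc := hqc, hqs := hqs, i := i.hom, hi := hi, hifp := hifp
      iY := iY.hom, fZ := fZ.hom, hFZ := hFZ
      isoFZ := inferInstanceAs (IsIso ((ObjectProperty.ι _).map fZ))
      hflat := hflat, j := j.hom, hj := hj, hU := hU
      p₁ := p₁.hom, p₂ := p₂.hom, hp₂ := hp₂
      a₁U := a₁U.hom, r₁U := r₁U.hom, h₁U := h₁U, a₁Y := a₁Y.hom, r₁Y := r₁Y.hom, h₁Y := h₁Y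
      φU := bU.hom ≫ a₂U.hom, φY := bY.hom ≫ a₂Y.hom
      hφU := by
        have e : bU.hom ≫ r₂U.hom = r₁U.hom := congrArg (fun k => k.hom) hbU
        rw [Category.assoc, h₂U.w, reassoc_of% e, h₁U.w]
      hφY := by
        have e : bY.hom ≫ r₂Y.hom = r₁Y.hom := congrArg (fun k => k.hom) hbY
        rw [Category.assoc, h₂Y.w, reassoc_of% e, h₁Y.w]
      hUY := fun u y e => by
        obtain ⟨v, rfl, rfl⟩ := h₁V.exists_lift u y e
        have e1 : bV.hom ≫ m₂U.hom = m₁U.hom ≫ bU.hom := congrArg (fun k => k.hom) hbV₁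
        have e2 : bV.hom ≫ m₂Y.hom = m₁Y.hom ≫ bY.hom := congrArg (fun k => k.hom) hbV₂
        simp only [Category.assoc]
        rw [← reassoc_of% e1, ← reassoc_of% e2, h₂V.w] }
  obtain ⟨a, ⟨ha1, ha2, ha3⟩, hu⟩ := existsUnique_desc G
  refine ⟨ObjectProperty.homMk a, ⟨ObjectProperty.hom_ext _ ha1, ObjectProperty.hom_ext _ ha2,
    ObjectProperty.hom_ext _ ha3⟩, fun a' ha' => ObjectProperty.hom_ext _ (hu a'.hom ⟨?_, ?_, ?_⟩)⟩
  · exact congrArg (fun k => k.hom) ha'.1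
  · exact congrArg (fun k => k.hom) ha'.2.1
  · exact congrArg (fun k => k.hom) ha'.2.2

end Groth.Agent.S10720
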