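import Groth.Statements.S10725
import Groth.Agent.AlgSpLib.GlueQARel
import Groth.Agent.Stk19b.Fppf.Bootstrap
import Groth.Agent.AlgSpLib.DiagCrit

set_option linter.style.haveILetI false
set_option backward.isDefEq.respectTransparency false
set_option backward.isDefEq.respectTransparency.types false

set_option autoImplicit false
universe u
open CategoryTheory CategoryTheory.Limits AlgebraicGeometry TensorProduct
open AlgSp

namespace Groth.Agent.S10725

open Groth.Agent.AlgSpLib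

theorem to_base {S : Scheme.{u}} {F : Sp S} (p q : F ⟶ (yon S).obj (Over.mk (𝟙 S))) : p = q :=
  (IsTerminal.isTerminalObj (yon S) _ Over.mkIdTerminal).hom_ext p q

/-- the epimorphism attached to a schematic fppf cover -/
theorem epi_of_fppf {S : Scheme.{u}} {F G : Sp S} {g : F ⟶ G} (h₁ : RepWith @Flat g)
    (h₂ : RepWith @LocallyOfFinitePresentation g) (h₃ : RepWith @Surjective g) : Epi g :=
  haveI := isLocallySurjective_of_repWith h₁ h₂ h₃
  (Sheaf.isLocallySurjective_iff_epi' (Type (u + 1)) _).1 inferInstance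

/-- one member of the glueing -/
theorem exists_member {S : Scheme.{u}} {T RR : Over S} {r₁ r₂ : RR ⟶ T} {Y : Sp S} {π : (yon S).obj T ⟶ Y}
    (sqK : IsPullback ((yon S).map r₂) ((yon S).map r₁) π π) (hπf : RepWith @Flat π)
    (hπl : RepWith @LocallyOfFinitePresentation π) (hπs : RepWith @Surjective π)
    (πY : Y ⟶ (yon S).obj (Over.mk (𝟙 S))) {L Q V R₁ : Over S} {t : T ⟶ Over.mk (𝟙 S)} {tL : L ⟶ Over.mk (𝟙 S)}
    {j : Q ⟶ T} {p : Q ⟶ L} (sq : IsPullback j p t tL) {τ : Q ⟶ V} {v : V ⟶ L} (hv : τ ≫ v = p)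
    {a b : R₁ ⟶ Q} (k : IsPullback a b τ τ) {Jm : R₁ ⟶ RR} (hJ : IsPullback Jm a r₁ j) (hJb : Jm ≫ r₂ = b ≫ j)
    [Flat τ.left] [LocallyOfFinitePresentation τ.left] [Surjective τ.left] :
    ∃ a₀ : (yon S).obj V ⟶ Y, (yon S).map τ ≫ a₀ = (yon S).map j ≫ π ∧
      IsPullback a₀ ((yon S).map v) πY ((yon S).map tL) := by
  haveI hτ : Epi ((yon S).map τ) := epi_of_fppf ((repWith_yon_map_iff _ _).2 ‹Flat τ.left›)
    ((repWith_yon_map_iff _ _).2 ‹LocallyOfFinitePresentation τ.left›)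
    ((repWith_yon_map_iff _ _).2 ‹Surjective τ.left›)
  haveI : IsRegularEpiCategory (Sp S) := inferInstanceAs (IsRegularEpiCategory (Sheaf (J S) (Type (u + 1))))
  haveI : IsRegularEpi ((yon S).map τ) := IsRegularEpiCategory.regularEpiOfEpi _
  have kk := k.map (yon S)
  have hcomm : (yon S).map r₂ ≫ π = (yon S).map r₁ ≫ π := sqK.w
  let a₀ : (yon S).obj V ⟶ Y := EffectiveEpi.desc ((yon S).map τ) ((yon S).map j ≫ π) (fun g₁ g₂ hg => by
    obtain ⟨z, rfl, rfl⟩ := kk.exists_lift g₁ g₂ hg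
    simp only [Category.assoc]
    rw [← Functor.map_comp_assoc, ← Functor.map_comp_assoc, ← hJ.w, ← hJb, Functor.map_comp_assoc,
      Functor.map_comp_assoc, hcomm])
  have ha₀ : (yon S).map τ ≫ a₀ = (yon S).map j ≫ π := EffectiveEpi.fac _ _ _
  have sP := IsPullback.of_hasPullback πY ((yon S).map tL)
  let e : (yon S).obj V ⟶ pullback πY ((yon S).map tL) := pullback.lift a₀ ((yon S).map v) (to_base _ _)
  have he₁ : ((yon S).map τ ≫ e) ≫ pullback.fst _ _ = (yon S).map j ≫ π := by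
    rw [Category.assoc, pullback.lift_fst, ha₀]
  have he₂ : ((yon S).map τ ≫ e) ≫ pullback.snd _ _ = (yon S).map p := by
    rw [Category.assoc, pullback.lift_snd, ← Functor.map_comp, hv]
  have sqe : IsPullback ((yon S).map j) ((yon S).map τ ≫ e) π (pullback.fst πY ((yon S).map tL)) :=
    IsPullback.of_bot (by rw [he₂, to_base (π ≫ πY) ((yon S).map t)]; exact sq.map (yon S)) he₁.symm sP
  haveI : Epi ((yon S).map τ ≫ e) := epi_of_fppf (RepWith.baseChange sqe hπf) (RepWith.baseChange sqe hπl)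
    (RepWith.baseChange sqe hπs)
  haveI : IsRegularEpi ((yon S).map τ ≫ e) := IsRegularEpiCategory.regularEpiOfEpi _
  let ei : pullback πY ((yon S).map tL) ⟶ (yon S).obj V :=
    EffectiveEpi.desc ((yon S).map τ ≫ e) ((yon S).map τ) (fun g₁ g₂ hg => by
      have h₁ : g₁ ≫ (yon S).map j ≫ π = g₂ ≫ (yon S).map j ≫ π := by
        rw [← he₁, ← Category.assoc g₁, hg, Category.assoc]
      have h₂ : g₁ ≫ (yon S).map p = g₂ ≫ (yon S).map p := by
        rw [← he₂, ← Category.assoc g₁, hg, Category.assoc]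
      obtain ⟨r, hr₂, hr₁⟩ := sqK.exists_lift (g₂ ≫ (yon S).map j) (g₁ ≫ (yon S).map j)
        (by rw [Category.assoc, Category.assoc, h₁])
      obtain ⟨z, hzJ, hza⟩ := (hJ.map (yon S)).exists_lift r g₁ hr₁
      have hzb : z ≫ (yon S).map b = g₂ := (sq.map (yon S)).hom_ext
        (by rw [Category.assoc, ← Functor.map_comp, ← hJb, Functor.map_comp, reassoc_of% hzJ, hr₂])
        (by rw [← h₂, ← hza, Category.assoc, Category.assoc, ← Functor.map_comp, ← Functor.map_comp, ← hv,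
          reassoc_of% k.w])
      rw [← hza, ← hzb, Category.assoc, Category.assoc, kk.w])
  have hei : ((yon S).map τ ≫ e) ≫ ei = (yon S).map τ := EffectiveEpi.fac _ _ _
  haveI : IsIso e := ⟨ei, by rw [← cancel_epi ((yon S).map τ), ← Category.assoc, hei, Category.comp_id],
    by rw [← cancel_epi ((yon S).map τ ≫ e), ← Category.assoc, hei, Category.comp_id]⟩
  exact ⟨a₀, ha₀, sP.of_iso (asIso e).symm (Iso.refl _) (Iso.refl _) (Iso.refl _)
    (by simp [e]) (by simp [e]) (by simp) (by simp)⟩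

/-- Let `(R → R', f)` be a glueing pair, `X = Spec R`, `U = Spec R_f`, `X' = Spec R'` and `U' = U ×_X
X'`. Let `V → U`, `Y' → X'` and `V' → U'` be quasi-affine schemes with `V' = V ×_U U'` and `V' = Y'
×_{X'} U'`. Then there is an algebraic space `Y` separated over `X` with `V = U ×_X Y` and `Y' = X'
×_X Y`, compatibly over `U'`: the triple `(V, V', Y')` is in the essential image of the glueing
functor restricted to separated spaces. -/
theorem result (R : Type u) [CommRing R] (R' : Type u) [CommRing R'] [Algebra R R']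
    (f : R) (hRR' : EtGlue.IsGlueingPair R R' f) {XU' V V' Y' : Over (Spec (CommRingCat.of R))}
    (tU : (Over.mk (Spec.map (CommRingCat.ofHom (algebraMap R (Localization.Away f)))) : Over (Spec (CommRingCat.of R))) ⟶ Over.mk (𝟙 _))
    (tX : (Over.mk (Spec.map (CommRingCat.ofHom (algebraMap R R'))) : Over (Spec (CommRingCat.of R))) ⟶ Over.mk (𝟙 _))
    (iU : XU' ⟶ (Over.mk (Spec.map (CommRingCat.ofHom (algebraMap R (Localization.Away f)))) : Over (Spec (CommRingCat.of R))))
    (iX : XU' ⟶ (Over.mk (Spec.map (CommRingCat.ofHom (algebraMap R R'))) : Over (Spec (CommRingCat.of R))))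
    (hU' : IsPullback iU iX tU tX) (v : V ⟶ (Over.mk (Spec.map (CommRingCat.ofHom (algebraMap R (Localization.Away f)))) : Over (Spec (CommRingCat.of R))))
    (y' : Y' ⟶ (Over.mk (Spec.map (CommRingCat.ofHom (algebraMap R R'))) : Over (Spec (CommRingCat.of R)))) (q : V' ⟶ XU')
    (pV : V' ⟶ V) (pY : V' ⟶ Y') (hV'V : IsPullback pV q v iU) (hV'Y : IsPullback pY q y' iX)
    [V.left.IsQuasiAffine] [V'.left.IsQuasiAffine] [Y'.left.IsQuasiAffine] :
    ∃ (Y : AlgSp.Space (Spec (CommRingCat.of R))) (πY : Y.obj ⟶ (AlgSp.yon (Spec (CommRingCat.of R))).obj (Over.mk (𝟙 _)))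
      (a : (AlgSp.yon (Spec (CommRingCat.of R))).obj V ⟶ Y.obj) (b : (AlgSp.yon (Spec (CommRingCat.of R))).obj Y' ⟶ Y.obj),
      AlgSp.IsSeparatedSp Y.obj ∧ IsPullback a ((AlgSp.yon (Spec (CommRingCat.of R))).map v) πY ((AlgSp.yon (Spec (CommRingCat.of R))).map tU) ∧
        IsPullback b ((AlgSp.yon (Spec (CommRingCat.of R))).map y') πY ((AlgSp.yon (Spec (CommRingCat.of R))).map tX) ∧
        (AlgSp.yon (Spec (CommRingCat.of R))).map pV ≫ a = (AlgSp.yon (Spec (CommRingCat.of R))).map pY ≫ b := by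
  haveI : V.left.IsSeparated := inferInstance
  haveI : Y'.left.IsSeparated := inferInstance
  have hV₁ : IsPullback pV (q ≫ iX) (v ≫ tU) tX := hV'V.paste_vert hU'
  have hV₂ : IsPullback pY (q ≫ iU) (y' ≫ tX) tU := hV'Y.paste_vert hU'.flip
  obtain ⟨A, _, _, hA, Q₁, Q', _, _, j₁, u₁, j', x', t, τ₁, τ', h₁, h', hy, f₁, l₁, s₁, f', l', s', hc⟩ :=
    GlueQA.exists_cover hRR' hV₁ hV₂ hV'Y.w
  obtain ⟨RR, R₁, RX, r₁, r₂, J₁, a₁, b₁, J', a', b', k₁, k', P₁, hJ₁, P', hJ', heqv, hrf, hrl, hlt, hcl⟩ :=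
    GlueQA.exists_relation hRR' hV₁ hV₂ hV'Y.w hA h₁ h' hy f₁ l₁ f' l' hc
  let S := Spec (CommRingCat.of R)
  let T := GlueQA.spR R A
  let π := quotSpπ ((yon S).map r₁) ((yon S).map r₂)
  have sqK : IsPullback ((yon S).map r₂) ((yon S).map r₁) π π := isPullback_quotSpπ (isEqvRelSp_yon heqv)
  have := etLocal_flat.{u}.localTarget
  have := etLocal_lfp.{u}.localTarget
  have hπf : RepWith @Flat π := repWith_quotSpπ heqv @Flat hrf
  have hπl : RepWith @LocallyOfFinitePresentation π := repWith_quotSpπ heqv @LocallyOfFinitePresentation hrl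
  have hπs : RepWith @Surjective π := repWith_surjective_quotSpπ heqv
  let Y : AlgSp.Space S := ⟨quotSp ((yon S).map r₁) ((yon S).map r₂), Stk19b.Fppf.isAlgSpace_quotSp_of_isEqvRel heqv⟩
  let πY : Y.obj ⟶ (yon S).obj (Over.mk (𝟙 S)) := quotSpDesc ((yon S).map t) (to_base _ _)
  haveI := f₁
  haveI := l₁
  haveI := s₁
  haveI := f'
  haveI := l'
  haveI := s'
  obtain ⟨a, ha, hsa⟩ := exists_member sqK hπf hπl hπs πY h₁ (GlueQA.hom_ext_away f (τ₁ ≫ v) u₁) k₁ P₁ hJ₁
  obtain ⟨b, hb, hsb⟩ := exists_member sqK hπf hπl hπs πY h' hy k' P' hJ'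
  refine ⟨Y, πY, a, b, ?_, hsa, hsb, ?_⟩
  · have hl : Sheaf.IsLocallySurjective (prod.map π π) :=
      isLocallySurjective_of_repWith (repWith_prod_map hπf hπf) (repWith_prod_map hπl hπl) (repWith_prod_map hπs hπs)
    exact repWith_of_isLocallySurjective (representable_diag_quotSp heqv) (prod.map π π)
      (isPullback_diag_prod_map sqK) _ (repWith_prod_lift r₂ r₁ hcl)
  · have sP := IsPullback.of_hasPullback pV τ₁
    have sPl := sP.map (Over.forget _)
    haveI : Flat (pullback.fst pV τ₁).left := MorphismProperty.of_isPullback sPl.flip f₁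
    haveI : LocallyOfFinitePresentation (pullback.fst pV τ₁).left := MorphismProperty.of_isPullback sPl.flip l₁
    haveI : Surjective (pullback.fst pV τ₁).left := MorphismProperty.of_isPullback sPl.flip s₁
    haveI : Epi ((yon S).map (pullback.fst pV τ₁)) := epi_of_fppf ((repWith_yon_map_iff _ _).2 ‹_›)
      ((repWith_yon_map_iff _ _).2 ‹_›) ((repWith_yon_map_iff _ _).2 ‹_›)
    obtain ⟨w, hw₁, hw₂⟩ := h'.exists_lift (pullback.snd pV τ₁ ≫ j₁) (pullback.fst pV τ₁ ≫ q ≫ iX)
      (GlueQA.hom_ext_pt _ _)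
    obtain ⟨c, hc₁, hc₂⟩ := hc _ (pullback.snd pV τ₁) w hw₁.symm
    have hcp : c = pullback.fst pV τ₁ := hV₁.hom_ext (by rw [hc₁, pullback.condition])
      (by rw [← hV'Y.w, reassoc_of% hc₂, hy, hw₂, hV'Y.w])
    rw [← cancel_epi ((yon S).map (pullback.fst pV τ₁))]
    rw [← Functor.map_comp_assoc, ← Functor.map_comp_assoc, pullback.condition, ← hcp, hc₂, Functor.map_comp_assoc,
      Functor.map_comp_assoc]
    erw [ha, hb]
    rw [← Functor.map_comp_assoc, ← Functor.map_comp_assoc, hw₁]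

end Groth.Agent.S10725
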