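import Groth.Statements.S10726
import Groth.Agent.AlgSpLib.GlueingPairExists
import Groth.Agent.AlgSpLib.FOLift
import Groth.Agent.AlgSpLib.RepLocal
-- import your own Groth.Agent.* helpers here

set_option autoImplicit false
universe u
open CategoryTheory CategoryTheory.Limits AlgebraicGeometry TensorProduct
open AlgSp

namespace Groth.Agent.S10726

open Groth.Agent.AlgSpLib Groth.Agent.AlgSpLib.GlueingPairHom

set_option backward.isDefEq.respectTransparency.types false
set_option backward.isDefEq.respectTransparency false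
set_option linter.style.haveILetI false

attribute [local instance] Algebra.TensorProduct.rightAlgebra

/-- a morphism is compatible with given ones over the two members -/
def Compat {S : Scheme.{u}} {Y Z YU YX : Sp S} (uY : YU ⟶ Y) (xY : YX ⟶ Y) (aU : YU ⟶ Z) (bX : YX ⟶ Z)
    {T : Over S} (y : (yon S).obj T ⟶ Y) (φ : (yon S).obj T ⟶ Z) : Prop :=
  (∀ (T' : Over S) (q : T' ⟶ T) (y₁ : (yon S).obj T' ⟶ YU),
    (yon S).map q ≫ y = y₁ ≫ uY → (yon S).map q ≫ φ = y₁ ≫ aU) ∧
  ∀ (T' : Over S) (q : T' ⟶ T) (y₁ : (yon S).obj T' ⟶ YX),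
    (yon S).map q ≫ y = y₁ ≫ xY → (yon S).map q ≫ φ = y₁ ≫ bX

theorem compat_comp {S : Scheme.{u}} {Y Z YU YX : Sp S} {uY : YU ⟶ Y} {xY : YX ⟶ Y} {aU : YU ⟶ Z} {bX : YX ⟶ Z}
    {T : Over S} {y : (yon S).obj T ⟶ Y} {φ : (yon S).obj T ⟶ Z} (h : Compat uY xY aU bX y φ) {T₀ : Over S}
    (k : T₀ ⟶ T) : Compat uY xY aU bX ((yon S).map k ≫ y) ((yon S).map k ≫ φ) :=
  ⟨fun T' q y₁ e => by
    rw [← Category.assoc, ← Functor.map_comp]
    exact h.1 T' (q ≫ k) y₁ (by rw [Functor.map_comp, Category.assoc, e]),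
  fun T' q y₁ e => by
    rw [← Category.assoc, ← Functor.map_comp]
    exact h.2 T' (q ≫ k) y₁ (by rw [Functor.map_comp, Category.assoc, e])⟩

theorem to_base_eq {S : Scheme.{u}} {T : Over S} (p q : (yon S).obj T ⟶ (yon S).obj (Over.mk (𝟙 S))) : p = q := by
  obtain ⟨p', rfl⟩ := (yon S).map_surjective p
  obtain ⟨q', rfl⟩ := (yon S).map_surjective q
  exact congrArg _ (Over.OverMorphism.ext (by
    have h1 := Over.w p'
    have h2 := Over.w q'
    simp only [Over.mk_hom] at h1 h2
    exact (Category.comp_id _).symm.trans (h1.trans (h2.symm.trans (Category.comp_id _)))))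

section chart

variable {R R' : Type u} [CommRing R] [CommRing R'] [Algebra R R'] {f : R} {A : Type u} [CommRing A] [Algebra R A]

/-- the chart over the localized member -/
noncomputable def kU : sp (Spec.map (CommRingCat.ofHom (algebraMap R A))) (Localization.Away (algebraMap R A f)) ⟶
    Over.mk (Spec.map (CommRingCat.ofHom (algebraMap R (Localization.Away f)))) :=
  Over.homMk (Spec.map (CommRingCat.ofHom (Localization.awayMap (algebraMap R A) f))) (by
    show _ ≫ Spec.map _ = Spec.map _ ≫ Spec.map _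
    rw [← Spec.map_comp, ← Spec.map_comp]
    congr 1
    refine CommRingCat.hom_ext (RingHom.ext fun r => ?_)
    simp [Localization.awayMap, IsLocalization.Away.map, IsLocalization.map_eq])

/-- the chart over the other member -/
noncomputable def kX : sp (Spec.map (CommRingCat.ofHom (algebraMap R A))) (R' ⊗[R] A) ⟶
    Over.mk (Spec.map (CommRingCat.ofHom (algebraMap R R'))) :=
  Over.homMk (Spec.map (CommRingCat.ofHom
      (Algebra.TensorProduct.includeLeftRingHom : R' →+* R' ⊗[R] A))) (by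
    show _ ≫ Spec.map _ = Spec.map _ ≫ Spec.map _
    rw [← Spec.map_comp, ← Spec.map_comp]
    congr 1
    exact CommRingCat.hom_ext
      (((Algebra.TensorProduct.includeRight : A →ₐ[R] R' ⊗[R] A).comp_algebraMap).trans
        ((Algebra.TensorProduct.includeLeft : R' →ₐ[R] R' ⊗[R] A).comp_algebraMap).symm).symm)

theorem isPullback_kU (inU : (Over.mk (Spec.map (CommRingCat.ofHom (algebraMap R (Localization.Away f)))) :
      Over (Spec (CommRingCat.of R))) ⟶ Over.mk (𝟙 _))
    (t : (Over.mk (Spec.map (CommRingCat.ofHom (algebraMap R A))) : Over (Spec (CommRingCat.of R))) ⟶ Over.mk (𝟙 _)) :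
    IsPullback ((yon _).map (inj (Spec.map (CommRingCat.ofHom (algebraMap R A))) (Localization.Away (algebraMap R A f))))
      ((yon _).map (kU (f := f) (A := A))) ((yon _).map t) ((yon _).map inU) := by
  haveI : IsLocalization ((Submonoid.powers f).map (algebraMap R A)) (Localization.Away (algebraMap R A f)) := by
    rw [Submonoid.map_powers]
    infer_instance
  have h := isPullback_SpecMap_of_isPushout _ _ _ _
    (CommRingCat.isPushout_of_isLocalization (Rₘ := Localization.Away f) (Sₘ := Localization.Away (algebraMap R A f))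
      (algebraMap R A) (Localization.awayMap (algebraMap R A) f)
      (RingHom.ext fun r => by simp [Localization.awayMap, IsLocalization.Away.map, IsLocalization.map_eq])
      (Submonoid.powers f))
  have et : t.left = Spec.map (CommRingCat.ofHom (algebraMap R A)) := (Category.comp_id _).symm.trans (Over.w t)
  have eU : inU.left = Spec.map (CommRingCat.ofHom (algebraMap R (Localization.Away f))) :=
    (Category.comp_id _).symm.trans (Over.w inU)
  have h' : IsPullback ((Over.forget _).map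
        (inj (Spec.map (CommRingCat.ofHom (algebraMap R A))) (Localization.Away (algebraMap R A f))))
      ((Over.forget _).map (kU (f := f) (A := A))) ((Over.forget _).map t) ((Over.forget _).map inU) := by
    rw [Over.forget_map, Over.forget_map, Over.forget_map, Over.forget_map, et, eU]
    exact h
  have w : inj (Spec.map (CommRingCat.ofHom (algebraMap R A))) (Localization.Away (algebraMap R A f)) ≫ t =
      kU (f := f) (A := A) ≫ inU := Over.OverMorphism.ext h'.w
  exact (IsPullback.of_map (Over.forget _) w h').map (yon _)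

theorem isPullback_kX (inX : (Over.mk (Spec.map (CommRingCat.ofHom (algebraMap R R'))) :
      Over (Spec (CommRingCat.of R))) ⟶ Over.mk (𝟙 _))
    (t : (Over.mk (Spec.map (CommRingCat.ofHom (algebraMap R A))) : Over (Spec (CommRingCat.of R))) ⟶ Over.mk (𝟙 _)) :
    IsPullback ((yon _).map (inj (Spec.map (CommRingCat.ofHom (algebraMap R A))) (R' ⊗[R] A)))
      ((yon _).map (kX (R' := R') (A := A))) ((yon _).map t) ((yon _).map inX) := by
  have h := (isPullback_SpecMap_of_isPushout _ _ _ _ (CommRingCat.isPushout_tensorProduct R R' A)).flip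
  have et : t.left = Spec.map (CommRingCat.ofHom (algebraMap R A)) := (Category.comp_id _).symm.trans (Over.w t)
  have eX : inX.left = Spec.map (CommRingCat.ofHom (algebraMap R R')) :=
    (Category.comp_id _).symm.trans (Over.w inX)
  have h' : IsPullback ((Over.forget _).map
        (inj (Spec.map (CommRingCat.ofHom (algebraMap R A))) (R' ⊗[R] A)))
      ((Over.forget _).map (kX (R' := R') (A := A))) ((Over.forget _).map t) ((Over.forget _).map inX) := by
    rw [Over.forget_map, Over.forget_map, Over.forget_map, Over.forget_map, et, eX]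
    exact h
  have w : inj (Spec.map (CommRingCat.ofHom (algebraMap R A))) (R' ⊗[R] A) ≫ t =
      kX (R' := R') (A := A) ≫ inX := Over.OverMorphism.ext h'.w
  exact (IsPullback.of_map (Over.forget _) w h').map (yon _)

/-- the morphism on a chart -/
theorem existsUnique_compat (hp : EtGlue.IsGlueingPair A (R' ⊗[R] A) (algebraMap R A f))
    {Y Z YU YX YU' : Sp (Spec (CommRingCat.of R))} (hZ : IsAlgSpace Z) (hd : IsAffineMor (Limits.diag Z))
    (πY : Y ⟶ (yon (Spec (CommRingCat.of R))).obj (Over.mk (𝟙 _)))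
    {inU : (Over.mk (Spec.map (CommRingCat.ofHom (algebraMap R (Localization.Away f)))) :
      Over (Spec (CommRingCat.of R))) ⟶ Over.mk (𝟙 _)}
    {inX : (Over.mk (Spec.map (CommRingCat.ofHom (algebraMap R R'))) :
      Over (Spec (CommRingCat.of R))) ⟶ Over.mk (𝟙 _)}
    {uY : YU ⟶ Y} {sY : YU ⟶ (yon (Spec (CommRingCat.of R))).obj
      (Over.mk (Spec.map (CommRingCat.ofHom (algebraMap R (Localization.Away f)))))}
    (hYU : IsPullback uY sY πY ((yon _).map inU))
    {xY : YX ⟶ Y} {rY : YX ⟶ (yon (Spec (CommRingCat.of R))).obj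
      (Over.mk (Spec.map (CommRingCat.ofHom (algebraMap R R'))))}
    (hYX : IsPullback xY rY πY ((yon _).map inX))
    {m₁ : YU' ⟶ YU} {m₂ : YU' ⟶ YX} (hY' : IsPullback m₁ m₂ uY xY) (aU : YU ⟶ Z) (bX : YX ⟶ Z)
    (hab : m₂ ≫ bX = m₁ ≫ aU)
    (y : (yon (Spec (CommRingCat.of R))).obj (Over.mk (Spec.map (CommRingCat.ofHom (algebraMap R A)))) ⟶ Y) :
    ∃! φ, Compat uY xY aU bX y φ := by
  let T : Over (Spec (CommRingCat.of R)) := Over.mk (Spec.map (CommRingCat.ofHom (algebraMap R A)))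
  let t : T ⟶ Over.mk (𝟙 _) := Over.homMk T.hom (Category.comp_id _)
  have sqU := isPullback_kU (A := A) inU t
  have sqX := isPullback_kX (A := A) inX t
  let iU : sp _ (Localization.Away (algebraMap R A f)) ⟶ T :=
    inj (Spec.map (CommRingCat.ofHom (algebraMap R A))) (Localization.Away (algebraMap R A f))
  let iX : sp _ (R' ⊗[R] A) ⟶ T := inj (Spec.map (CommRingCat.ofHom (algebraMap R A))) (R' ⊗[R] A)
  obtain ⟨yU, hyU, hyU'⟩ := hYU.exists_lift ((yon _).map iU ≫ y) ((yon _).map kU) (to_base_eq _ _)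
  obtain ⟨yX, hyX, hyX'⟩ := hYX.exists_lift ((yon _).map iX ≫ y) ((yon _).map kX) (to_base_eq _ _)
  let g := algebraMap R A f
  let str := Spec.map (CommRingCat.ofHom (algebraMap R A))
  have hagree : (yon _).map (spMap str (locA g (R' ⊗[R] A))) ≫ yX ≫ bX =
      (yon _).map (spMap str (locG g (R' ⊗[R] A))) ≫ yU ≫ aU := by
    obtain ⟨y', hy'1, hy'2⟩ := hY'.exists_lift ((yon _).map (spMap str (locG g (R' ⊗[R] A))) ≫ yU)
      ((yon _).map (spMap str (locA g (R' ⊗[R] A))) ≫ yX) (by
        rw [Category.assoc, Category.assoc, hyU, hyX, ← Functor.map_comp_assoc, ← Functor.map_comp_assoc,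
          spMap_inj, spMap_inj])
    rw [← reassoc_of% hy'1, ← reassoc_of% hy'2, hab]
  obtain ⟨φ, hφ₁, hφ₂⟩ := exists_hom str hp hZ hd (yU ≫ aU) (yX ≫ bX) hagree
  refine ⟨φ, ⟨fun T' q y₁ e => ?_, fun T' q y₁ e => ?_⟩, fun φ' hφ' => ?_⟩
  · obtain ⟨q', h1, h2⟩ := sqU.exists_lift ((yon _).map q) (y₁ ≫ sY) (to_base_eq _ _)
    have ey : y₁ = q' ≫ yU := hYU.hom_ext (by rw [Category.assoc, hyU, reassoc_of% h1, e])
      (by rw [Category.assoc, hyU', h2])
    rw [← h1, Category.assoc, ey, Category.assoc]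
    exact congrArg (q' ≫ ·) hφ₁
  · obtain ⟨q', h1, h2⟩ := sqX.exists_lift ((yon _).map q) (y₁ ≫ rY) (to_base_eq _ _)
    have ey : y₁ = q' ≫ yX := hYX.hom_ext (by rw [Category.assoc, hyX, reassoc_of% h1, e])
      (by rw [Category.assoc, hyX', h2])
    rw [← h1, Category.assoc, ey, Category.assoc]
    exact congrArg (q' ≫ ·) hφ₂
  · exact GlueingPairHom.hom_ext hp hd (T := T) (Iso.refl _) iU iX (𝟙 _)
      (by simp only [Category.id_comp, Iso.refl_hom, Category.comp_id]; rfl) (𝟙 _)
      (by simp only [Category.id_comp, Iso.refl_hom, Category.comp_id]; rfl) _ _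
      ((hφ'.1 _ iU yU hyU.symm).trans hφ₁.symm) ((hφ'.2 _ iX yX hyX.symm).trans hφ₂.symm)

end chart

/-- Let `(R → R', f)` be a glueing pair, `X = Spec R`, `U = Spec R_f`, `X' = Spec R'`, `U' = U ×_X X'`,
and let `Y`, `Z` be algebraic spaces over `X`, glueable for `(R → R', f)`, with `Z` having affine
diagonal over `X`. Then morphisms `a : U ×_X Y → U ×_X Z` over `U` and `b : X' ×_X Y → X' ×_X Z`
over `X'` that induce the same morphism over `U'` are induced by a unique morphism `Y → Z` over `X`.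
(The published statement asks both spaces to have affine diagonal over `X`; this row asks it only of
`Z`, which is all the argument uses.) -/
theorem result (R : Type u) [CommRing R] (R' : Type u) [CommRing R'] [Algebra R R']
    (f : R) (hRR' : EtGlue.IsGlueingPair R R' f) {Y Z YU ZU YX ZX YU' ZU' : AlgSp.Space (Spec (CommRingCat.of R))}
    (hY : (∀ (A : Type u) [CommRing A] [Algebra R A]
      (g : (AlgSp.yon (Spec (CommRingCat.of R))).obj (Over.mk (Spec.map (CommRingCat.ofHom (algebraMap R A))) : Over (Spec (CommRingCat.of R))) ⟶ Y.obj),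
      AlgSp.RepWith @Etale g → EtGlue.IsGlueable R R' f A))
    (hZ : (∀ (A : Type u) [CommRing A] [Algebra R A]
      (g : (AlgSp.yon (Spec (CommRingCat.of R))).obj (Over.mk (Spec.map (CommRingCat.ofHom (algebraMap R A))) : Over (Spec (CommRingCat.of R))) ⟶ Z.obj),
      AlgSp.RepWith @Etale g → EtGlue.IsGlueable R R' f A))
    (hZd : AlgSp.IsAffineMor (Limits.diag Z.obj)) (πY : Y.obj ⟶ (AlgSp.yon (Spec (CommRingCat.of R))).obj (Over.mk (𝟙 _)))
    (πZ : Z.obj ⟶ (AlgSp.yon (Spec (CommRingCat.of R))).obj (Over.mk (𝟙 _)))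
    (inU : (Over.mk (Spec.map (CommRingCat.ofHom (algebraMap R (Localization.Away f)))) : Over (Spec (CommRingCat.of R))) ⟶ Over.mk (𝟙 _))
    (inX : (Over.mk (Spec.map (CommRingCat.ofHom (algebraMap R R'))) : Over (Spec (CommRingCat.of R))) ⟶ Over.mk (𝟙 _))
    (uY : YU ⟶ Y) (sY : YU.obj ⟶ (AlgSp.yon (Spec (CommRingCat.of R))).obj (Over.mk (Spec.map (CommRingCat.ofHom (algebraMap R (Localization.Away f)))) : Over (Spec (CommRingCat.of R))))
    (hYU : IsPullback uY.hom sY πY ((AlgSp.yon (Spec (CommRingCat.of R))).map inU))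
    (uZ : ZU ⟶ Z) (sZ : ZU.obj ⟶ (AlgSp.yon (Spec (CommRingCat.of R))).obj (Over.mk (Spec.map (CommRingCat.ofHom (algebraMap R (Localization.Away f)))) : Over (Spec (CommRingCat.of R))))
    (hZU : IsPullback uZ.hom sZ πZ ((AlgSp.yon (Spec (CommRingCat.of R))).map inU))
    (xY : YX ⟶ Y) (rY : YX.obj ⟶ (AlgSp.yon (Spec (CommRingCat.of R))).obj (Over.mk (Spec.map (CommRingCat.ofHom (algebraMap R R'))) : Over (Spec (CommRingCat.of R))))
    (hYX : IsPullback xY.hom rY πY ((AlgSp.yon (Spec (CommRingCat.of R))).map inX))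
    (xZ : ZX ⟶ Z) (rZ : ZX.obj ⟶ (AlgSp.yon (Spec (CommRingCat.of R))).obj (Over.mk (Spec.map (CommRingCat.ofHom (algebraMap R R'))) : Over (Spec (CommRingCat.of R))))
    (hZX : IsPullback xZ.hom rZ πZ ((AlgSp.yon (Spec (CommRingCat.of R))).map inX))
    (mY₁ : YU' ⟶ YU) (mY₂ : YU' ⟶ YX) (hYU' : IsPullback mY₁.hom mY₂.hom uY.hom xY.hom)
    (mZ₁ : ZU' ⟶ ZU) (mZ₂ : ZU' ⟶ ZX) (hZU' : IsPullback mZ₁.hom mZ₂.hom uZ.hom xZ.hom)
    (a : YU ⟶ ZU) (ha : a.hom ≫ sZ = sY) (b : YX ⟶ ZX) (hb : b.hom ≫ rZ = rY) (c : YU' ⟶ ZU')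
    (hc₁ : c ≫ mZ₁ = mY₁ ≫ a) (hc₂ : c ≫ mZ₂ = mY₂ ≫ b) :
    ∃! φ : Y ⟶ Z, uY ≫ φ = a ≫ uZ ∧ xY ≫ φ = b ≫ xZ := by
  let aU := a.hom ≫ uZ.hom
  let bX := b.hom ≫ xZ.hom
  have hab : mY₂.hom ≫ bX = mY₁.hom ≫ aU := by
    have e1 : c.hom ≫ mZ₁.hom = mY₁.hom ≫ a.hom := congrArg (fun k => k.hom) hc₁
    have e2 : c.hom ≫ mZ₂.hom = mY₂.hom ≫ b.hom := congrArg (fun k => k.hom) hc₂
    simp only [aU, bX]
    rw [← reassoc_of% e1, ← reassoc_of% e2, hZU'.w]
  have chart : ∀ (V : Over (Spec (CommRingCat.of R))) [IsAffine V.left]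
      (y : (yon _).obj V ⟶ Y.obj), RepWith @Etale y → ∃! φ, Compat uY.hom xY.hom aU bX y φ := by
    intro V _ y hy
    let r : CommRingCat.of R ⟶ Γ(V.left, ⊤) := Spec.preimage (V.left.isoSpec.inv ≫ V.hom)
    letI : Algebra R Γ(V.left, ⊤) := r.hom.toAlgebra
    let e : (Over.mk (Spec.map (CommRingCat.ofHom (algebraMap R Γ(V.left, ⊤)))) : Over _) ≅ V :=
      Over.isoMk V.left.isoSpec.symm (Spec.map_preimage _).symm
    have he : RepWith @Etale ((yon _).map e.hom ≫ y) :=
      RepWith.comp ((repWith_yon_map_iff @Etale e.hom).2 (inferInstanceAs (Etale V.left.isoSpec.inv))) hy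
    have hp := HenselLib.BL.isGlueingPair_baseChange hRR' Γ(V.left, ⊤) (hY _ _ he)
    obtain ⟨φ, hφ, hu⟩ := existsUnique_compat hp Z.property hZd πY hYU hYX hYU' aU bX hab ((yon _).map e.hom ≫ y)
    refine ⟨(yon _).map e.inv ≫ φ, ?_, fun φ' hφ' => ?_⟩
    · have h2 := compat_comp hφ e.inv
      rwa [← Functor.map_comp_assoc, e.inv_hom_id, CategoryTheory.Functor.map_id, Category.id_comp] at h2
    · rw [← hu _ (compat_comp hφ' e.hom), ← Functor.map_comp_assoc, e.inv_hom_id,
        CategoryTheory.Functor.map_id, Category.id_comp]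
  obtain ⟨ι, V, cV, ψ, hV, hcV, hψ, hψe, hepi⟩ := exists_affine_charts Y.property
  have hex : ∀ i, ∃! φ, Compat uY.hom xY.hom aU bX (cV i) φ := fun i => by
    haveI := hV i
    exact chart (V i) (cV i) (hcV i)
  choose φi hφi hφu using hex
  obtain ⟨Φ, hΦ, hΦu⟩ := existsUnique_desc_sigma V φi
  have hΦc : Compat uY.hom xY.hom aU bX ψ Φ := by
    have cov : ∀ {T' : Over (Spec (CommRingCat.of R))} (q : T' ⟶ sigmaOver V) (p p' : (yon _).obj T' ⟶ Z.obj),
        (∀ (i : ι) (W : Over (Spec (CommRingCat.of R))) (k : W ⟶ T') (l : W ⟶ V i),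
          k ≫ q = l ≫ sigmaOverι V i → (yon _).map k ≫ p = (yon _).map k ≫ p') → p = p' := by
      intro T' q p p' h
      have hopen : ∀ i, IsOpenImmersion (pullback.fst q (sigmaOverι V i)).left := fun i => by
        have sq := ((IsPullback.of_hasPullback q (sigmaOverι V i)).map (Over.forget _))
        exact MorphismProperty.of_isPullback (P := @IsOpenImmersion) sq.flip
          (inferInstanceAs (IsOpenImmersion (Sigma.ι (fun i => (V i).left) i)))
      haveI : ∀ i, Flat (pullback.fst q (sigmaOverι V i)).left := fun i => by have := hopen i; infer_instance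
      haveI : ∀ i, LocallyOfFinitePresentation (pullback.fst q (sigmaOverι V i)).left := fun i => by
        have := hopen i; infer_instance
      refine yon_hom_ext_of_cover (fun i => pullback.fst q (sigmaOverι V i)) (fun z => ?_) p p' fun i =>
        h i _ _ (pullback.snd q (sigmaOverι V i)) pullback.condition
      obtain ⟨i, t, ht⟩ := exists_mem_range_sigmaOverι V (q.left z)
      have sq := ((IsPullback.of_hasPullback q (sigmaOverι V i)).map (Over.forget _))
      obtain ⟨w', hw'1, -⟩ := Scheme.Pullback.exists_preimage_pullback z t ht.symm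
      refine ⟨i, sq.isoPullback.inv w', ?_⟩
      refine Eq.trans ?_ hw'1
      exact congr($(sq.isoPullback_inv_fst) w')
    refine ⟨fun T' q y₁ e => cov q _ _ fun i W k l hkl => ?_, fun T' q y₁ e => cov q _ _ fun i W k l hkl => ?_⟩
    · rw [← Functor.map_comp_assoc, hkl, Functor.map_comp, Category.assoc, hΦ]
      refine ((hφi i).1 W l ((yon _).map k ≫ y₁) ?_).trans (Category.assoc _ _ _)
      rw [← hψ i, ← Functor.map_comp_assoc, ← hkl, Functor.map_comp, Category.assoc, e, Category.assoc]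
    · rw [← Functor.map_comp_assoc, hkl, Functor.map_comp, Category.assoc, hΦ]
      refine ((hφi i).2 W l ((yon _).map k ≫ y₁) ?_).trans (Category.assoc _ _ _)
      rw [← hψ i, ← Functor.map_comp_assoc, ← hkl, Functor.map_comp, Category.assoc, e, Category.assoc]
  let R₀ := hψe.1.pullback ψ
  obtain ⟨r₁, hr₁⟩ := (yon (Spec (CommRingCat.of R))).map_surjective (hψe.1.fst ψ)
  let r₂ := hψe.1.snd ψ
  have sqR := hψe.1.isPullback ψ
  have hker : (yon _).map r₁ ≫ Φ = (yon _).map r₂ ≫ Φ := by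
    refine yon_hom_ext_of_cover (fun O : R₀.left.affineOpens => restrictOverι R₀ O.1) (fun z => ?_) _ _ fun O => ?_
    · obtain ⟨O, hzO, -⟩ := exists_affine_mem (x := z) (O := ⊤) trivial
      exact ⟨O, ⟨z, hzO⟩, rfl⟩
    haveI : IsAffine (restrictOver R₀ O.1).left := O.2
    have hE : RepWith @Etale ((yon _).map (restrictOverι R₀ O.1 ≫ r₂) ≫ ψ) := by
      rw [Functor.map_comp]
      exact RepWith.comp (RepWith.comp ((repWith_yon_map_iff _ _).2 (inferInstanceAs (Etale O.1.ι)))
        (RepWith.baseChange sqR hψe)) hψe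
    rw [← Functor.map_comp_assoc, ← Functor.map_comp_assoc]
    refine (chart (restrictOver R₀ O.1) _ hE).unique ?_ (compat_comp hΦc _)
    have h1 := compat_comp hΦc (restrictOverι R₀ O.1 ≫ r₁)
    have e : (yon _).map (restrictOverι R₀ O.1 ≫ r₁) ≫ ψ = (yon _).map (restrictOverι R₀ O.1 ≫ r₂) ≫ ψ := by
      rw [Functor.map_comp, Functor.map_comp, Category.assoc, Category.assoc, hr₁, sqR.w]
    rwa [e] at h1
  haveI := hepi
  haveI : IsRegularEpiCategory (Sp (Spec (CommRingCat.of R))) :=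
    inferInstanceAs (IsRegularEpiCategory (Sheaf (J (Spec (CommRingCat.of R))) (Type (u + 1))))
  haveI : IsRegularEpi ψ := IsRegularEpiCategory.regularEpiOfEpi ψ
  let φ₀ : Y.obj ⟶ Z.obj := EffectiveEpi.desc ψ Φ (fun g₁ g₂ e => by
    obtain ⟨l, hl1, hl2⟩ := sqR.exists_lift g₁ g₂ e
    rw [← hl1, ← hl2, ← hr₁, Category.assoc, Category.assoc, hker])
  have hφ₀ : ψ ≫ φ₀ = Φ := EffectiveEpi.fac _ _ _
  refine ⟨ObjectProperty.homMk φ₀, ⟨?_, ?_⟩, fun φ' hφ' => ?_⟩
  · apply ObjectProperty.hom_ext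
    show uY.hom ≫ φ₀ = aU
    refine hom_ext_of_yon fun Q x => ?_
    obtain ⟨C, hC, h⟩ := exists_covering_lift ψ (x ≫ uY.hom)
    refine eq_of_covering hC fun Q' r hr => ?_
    obtain ⟨u', hu⟩ := h r hr
    obtain ⟨q, rfl⟩ := (yon _).map_surjective u'
    calc (yon _).map r ≫ x ≫ uY.hom ≫ φ₀ = (yon _).map q ≫ Φ := by rw [← hφ₀, reassoc_of% hu]
      _ = ((yon _).map r ≫ x) ≫ aU := hΦc.1 Q' q _ (by rw [hu, Category.assoc])
      _ = _ := Category.assoc _ _ _
  · apply ObjectProperty.hom_ext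
    show xY.hom ≫ φ₀ = bX
    refine hom_ext_of_yon fun Q x => ?_
    obtain ⟨C, hC, h⟩ := exists_covering_lift ψ (x ≫ xY.hom)
    refine eq_of_covering hC fun Q' r hr => ?_
    obtain ⟨u', hu⟩ := h r hr
    obtain ⟨q, rfl⟩ := (yon _).map_surjective u'
    calc (yon _).map r ≫ x ≫ xY.hom ≫ φ₀ = (yon _).map q ≫ Φ := by rw [← hφ₀, reassoc_of% hu]
      _ = ((yon _).map r ≫ x) ≫ bX := hΦc.2 Q' q _ (by rw [hu, Category.assoc])
      _ = _ := Category.assoc _ _ _
  · apply ObjectProperty.hom_ext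
    show φ'.hom = φ₀
    have e1 : uY.hom ≫ φ'.hom = aU := congrArg (fun k => k.hom) hφ'.1
    have e2 : xY.hom ≫ φ'.hom = bX := congrArg (fun k => k.hom) hφ'.2
    rw [← cancel_epi ψ, hφ₀]
    refine hΦu _ fun i => ?_
    rw [reassoc_of% (hψ i)]
    exact hφu i _ ⟨fun T' q y₁ e => by rw [reassoc_of% e, e1], fun T' q y₁ e => by rw [reassoc_of% e, e2]⟩

end Groth.Agent.S10726
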