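import Groth.Statements.S10728
import Groth.Agent.AlgSpLib.MorSep
import Groth.Agent.AlgSpLib.ClosedSub
import Groth.Agent.AlgSpLib.InductPrinciple
import Groth.Agent.AlgSpLib.ProperImage
import Groth.Agent.AlgSpLib.PointsCompact
import Groth.Agent.AlgSpLib.LimitDescend
import Groth.Agent.AlgSpLib.MorTop
import Groth.Agent.AlgSpLib.AffineEtaleQuot
import Groth.Agent.Desc19b.HensSp.Lift
-- import your own Groth.Agent.* helpers here

set_option autoImplicit false
universe w v u
open CategoryTheory CategoryTheory.Limits AlgebraicGeometry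
open AlgSp

namespace Groth.Agent.S10728

set_option backward.isDefEq.respectTransparency.types false

open Groth.Agent.AlgSpLib

variable {S : Scheme.{u}} {B : AlgSp.Space S} {P : ObjectProperty (Over B)}

/-- bundling a separated space over `B` -/
def mkP (hP : ∀ T : Over B, P T ↔ AlgSp.IsSeparatedMor T.hom.hom) (W : Sp S) (hW : IsAlgSpace W)
    (q : W ⟶ B.obj) (hq : IsSeparatedMor q) : P.FullSubcategory :=
  ⟨Over.mk (ObjectProperty.homMk q : (⟨W, hW⟩ : AlgSp.Space S) ⟶ B), (hP _).2 hq⟩

/-- the underlying morphism of sheaves -/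
abbrev sp {A A' : P.FullSubcategory} (g : A ⟶ A') : A.obj.left.obj ⟶ A'.obj.left.obj := g.hom.left.hom

/-- morphisms of the subcategory from morphisms of sheaves over `B` -/
def mkHom {A A' : P.FullSubcategory} (g : A.obj.left.obj ⟶ A'.obj.left.obj)
    (h : g ≫ A'.obj.hom.hom = A.obj.hom.hom) : A ⟶ A' :=
  ObjectProperty.homMk (Over.homMk (ObjectProperty.homMk g) (ObjectProperty.hom_ext _ h))

theorem sp_hom_ext {A A' : P.FullSubcategory} {g g' : A ⟶ A'} (h : sp g = sp g') : g = g' :=
  ObjectProperty.hom_ext _ (Over.OverMorphism.ext (ObjectProperty.hom_ext _ h))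

theorem sp_w {A A' : P.FullSubcategory} (g : A ⟶ A') : sp g ≫ A'.obj.hom.hom = A.obj.hom.hom :=
  congrArg (fun t => t.hom) (Over.w g.hom)

theorem sp_comp {A A' A'' : P.FullSubcategory} (g : A ⟶ A') (g' : A' ⟶ A'') : sp (g ≫ g') = sp g ≫ sp g' := rfl

/-- two maps from a colimit among separated spaces into any space which agree on the legs are equal -/
theorem hom_ext_of_isColimit (hP : ∀ T : Over B, P T ↔ AlgSp.IsSeparatedMor T.hom.hom) {I : Type v}
    [Category.{w} I] {D : I ⥤ P.FullSubcategory} {c : Cocone D} (hc : IsColimit c) {X : Sp S}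
    (hX : IsAlgSpace X) (x y : c.pt.obj.left.obj ⟶ X)
    (h : ∀ i, sp (c.ι.app i) ≫ x = sp (c.ι.app i) ≫ y) : x = y := by
  let z : c.pt.obj.left.obj ⟶ X ⨯ X := prod.lift x y
  have sq := IsPullback.of_hasPullback z (Limits.diag X)
  let ι := pullback.fst z (Limits.diag X)
  have hrep : Representable ι := by
    intro T g
    have sq' := hX.diag.isPullback (g ≫ z)
    let l := sq.flip.lift (hX.diag.fst (g ≫ z)) ((yon S).map (hX.diag.snd (g ≫ z)) ≫ g)
      (by rw [Category.assoc]; exact sq'.w)
    refine ⟨hX.diag.pullback (g ≫ z), hX.diag.snd (g ≫ z), l, ?_⟩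
    exact IsPullback.of_right (by rw [sq.flip.lift_fst]; exact sq') (sq.flip.lift_snd _ _ _) sq.flip
  have : Mono ι := sq.mono_fst_of_mono
  have hsep : IsSeparatedMor (ι ≫ c.pt.obj.hom.hom) :=
    isSeparatedMor_comp (isSeparatedMor_of_mono ι) ((hP _).1 c.pt.property)
  let EP := mkP hP _ (isAlgSpace_of_representable c.pt.obj.left.property hrep) _ hsep
  let ιP : EP ⟶ c.pt := mkHom ι rfl
  have hlift : ∀ i, (sp (c.ι.app i) ≫ z) = (sp (c.ι.app i) ≫ x) ≫ Limits.diag X := fun i => by
    apply prod.hom_ext <;> simp [z, Limits.diag, h i]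
  let σ : ∀ i, D.obj i ⟶ EP := fun i => mkHom (sq.lift (sp (c.ι.app i)) _ (hlift i)) (by
    show sq.lift _ _ _ ≫ ι ≫ c.pt.obj.hom.hom = _
    rw [← Category.assoc, sq.lift_fst]
    exact sp_w _)
  have hσ : ∀ i, σ i ≫ ιP = c.ι.app i := fun i => sp_hom_ext (sq.lift_fst _ _ _)
  have : Mono ιP := ⟨fun a b e => sp_hom_ext ((cancel_mono ι).1 (congrArg sp e))⟩
  let cE : Cocone D :=
    { pt := EP
      ι := { app := σ, naturality := fun i j g => by
              show D.map g ≫ σ j = σ i ≫ 𝟙 _
              rw [Category.comp_id, ← cancel_mono ιP, Category.assoc, hσ, hσ, c.w] } }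
  have hs : hc.desc cE ≫ ιP = 𝟙 _ := hc.hom_ext fun i => by
    rw [hc.fac_assoc, Category.comp_id]; exact hσ i
  have hs' : sp (hc.desc cE) ≫ ι = 𝟙 _ := congrArg sp hs
  have hz : sp (hc.desc cE) ≫ pullback.snd z (Limits.diag X) ≫ Limits.diag X = z :=
    (congrArg (sp (hc.desc cE) ≫ ·) sq.w.symm).trans
      ((Category.assoc _ _ _).symm.trans ((congrArg (· ≫ z) hs').trans (Category.id_comp z)))
  have h1 := congrArg (· ≫ prod.fst) hz
  have h2 := congrArg (· ≫ prod.snd) hz
  have d1 : Limits.diag X ≫ prod.fst = 𝟙 X := prod.lift_fst _ _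
  have d2 : Limits.diag X ≫ prod.snd = 𝟙 X := prod.lift_snd _ _
  simp only [Category.assoc, d1, d2, Category.comp_id, z, prod.lift_fst, prod.lift_snd] at h1 h2
  exact h1.symm.trans h2

theorem exists_desc (hP : ∀ T : Over B, P T ↔ AlgSp.IsSeparatedMor T.hom.hom) {I : Type v}
    [Category.{w} I] (D : I ⥤ P.FullSubcategory) (c : Cocone D) (h₂ : IsColimit c)
    (h₃ : ∀ x : AlgSp.Points c.pt.obj.left.obj, ∃ (i : I) (y : AlgSp.Points (D.obj i).obj.left.obj),
      AlgSp.Points.map (c.ι.app i).hom.left.hom y = x)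
    (h₄ : ∀ (D' : I ⥤ P.FullSubcategory) (α : D' ⟶ D) (c' : Cocone D') (a : c'.pt ⟶ c.pt),
      AlgSp.IsEtaleMor a.hom.left.hom → AlgSp.IsSeparatedMor a.hom.left.hom →
      (∀ i, IsPullback (c'.ι.app i).hom.left.hom (α.app i).hom.left.hom a.hom.left.hom (c.ι.app i).hom.left.hom) →
        Nonempty (IsColimit c'))
    (h₅ : ∀ (D' : I ⥤ P.FullSubcategory) (α : D' ⟶ D),
      (∀ ⦃i j : I⦄ (g : i ⟶ j), IsPullback (D'.map g).hom.left.hom (α.app i).hom.left.hom (α.app j).hom.left.hom
        (D.map g).hom.left.hom) →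
      (∀ i, AlgSp.IsEtaleMor (α.app i).hom.left.hom) → (∀ i, AlgSp.IsSeparatedMor (α.app i).hom.left.hom) →
        ∃ (c' : Cocone D') (a : c'.pt ⟶ c.pt), AlgSp.IsEtaleMor a.hom.left.hom ∧ AlgSp.IsSeparatedMor a.hom.left.hom ∧
          ∀ i, IsPullback (c'.ι.app i).hom.left.hom (α.app i).hom.left.hom a.hom.left.hom (c.ι.app i).hom.left.hom)
    {T : Sp S} (hT : IsAlgSpace T) (qT : T ⟶ B.obj) (s : ∀ i, (D.obj i).obj.left.obj ⟶ T)
    (hsq : ∀ i, s i ≫ qT = (D.obj i).obj.hom.hom) (hs : ∀ ⦃i j⦄ (g : i ⟶ j), sp (D.map g) ≫ s j = s i) :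
    ∃ t : c.pt.obj.left.obj ⟶ T, t ≫ qT = c.pt.obj.hom.hom ∧ ∀ i, sp (c.ι.app i) ≫ t = s i := by
  obtain ⟨κ, V, hV, q, p, hpe, hps, -⟩ := exists_etale_surjective_sigma_affine hT
  let toTop : ∀ W : Sp S, W ⟶ (yon S).obj (Over.mk (𝟙 S)) := fun W =>
    (IsTerminal.isTerminalObj (yon S) _ Over.mkIdTerminal).from W
  have hUsep : IsSeparatedMor (toTop ((yon S).obj (Over.mk q))) := by
    rw [show toTop ((yon S).obj (Over.mk q)) = (yon S).map (Over.mkIdTerminal.from (Over.mk q)) from
      (IsTerminal.isTerminalObj (yon S) _ Over.mkIdTerminal).hom_ext _ _]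
    rw [isSeparatedMor_yon_map_iff]
    have : IsSeparated (q ≫ terminal.from S) := by
      rw [show q ≫ terminal.from S = Sigma.desc (fun k => terminal.from (V k)) from terminal.hom_ext _ _]
      exact Groth.Agent.Desc19b.HensSp.isSeparated_sigmaDesc _ fun k => by have := hV k; infer_instance
    have hq : IsSeparated q := IsSeparated.of_comp q (terminal.from S)
    have e : (Over.mkIdTerminal.from (Over.mk q)).left = q := by
      have := Over.w (Over.mkIdTerminal.from (Over.mk q))
      simpa using this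
    rw [e]; exact hq
  have hp : IsSeparatedMor p := isSeparatedMor_of_comp (q := toTop T) (by
    rw [show p ≫ toTop T = toTop _ from (IsTerminal.isTerminalObj (yon S) _ Over.mkIdTerminal).hom_ext _ _]
    exact hUsep)
  have hpq : IsSeparatedMor (p ≫ qT) := isSeparatedMor_of_comp (q := toTop B.obj) (by
    rw [show (p ≫ qT) ≫ toTop B.obj = toTop _ from (IsTerminal.isTerminalObj (yon S) _ Over.mkIdTerminal).hom_ext _ _]
    exact hUsep)
  let UP := mkP hP _ (IsAlgSpace.yon_obj (Over.mk q)) _ hpq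
  -- the pulled back system
  have sqP := fun i => IsPullback.of_hasPullback p (s i)
  have hPa : ∀ i, IsAlgSpace (pullback p (s i)) := fun i =>
    isAlgSpace_of_isPullback hT.diag (IsAlgSpace.yon_obj _) (D.obj i).obj.left.property (sqP i)
  have hPs : ∀ i, IsSeparatedMor (pullback.snd p (s i)) := fun i => isSeparatedMor_of_isPullback (sqP i) hp
  let P' : I → P.FullSubcategory := fun i => mkP hP _ (hPa i) (pullback.snd p (s i) ≫ (D.obj i).obj.hom.hom)
    (isSeparatedMor_comp (hPs i) ((hP _).1 (D.obj i).property))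
  let mm : ∀ {i j} (g : i ⟶ j), pullback p (s i) ⟶ pullback p (s j) := fun {i j} g =>
    (sqP j).lift (pullback.fst _ _) (pullback.snd _ _ ≫ sp (D.map g)) (by rw [Category.assoc, hs g]; exact (sqP i).w)
  let D' : I ⥤ P.FullSubcategory :=
    { obj := P'
      map := fun {i j} g => mkHom (mm g) (by
        show mm g ≫ pullback.snd p (s j) ≫ (D.obj j).obj.hom.hom = _
        rw [← Category.assoc, (sqP j).lift_snd, Category.assoc, sp_w]
        rfl)
      map_id := fun i => sp_hom_ext ((sqP i).hom_ext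
        (((sqP i).lift_fst _ _ _).trans (Category.id_comp _).symm)
        (((sqP i).lift_snd _ _ _).trans (by rw [D.map_id]; exact (Category.comp_id _).trans (Category.id_comp _).symm)))
      map_comp := fun {i j l} g g' => sp_hom_ext ((sqP l).hom_ext
        (by
          show mm (g ≫ g') ≫ _ = (mm g ≫ mm g') ≫ _
          simp only [mm, Category.assoc, IsPullback.lift_fst])
        (by
          show mm (g ≫ g') ≫ _ = (mm g ≫ mm g') ≫ _
          simp only [mm, Category.assoc, IsPullback.lift_snd, IsPullback.lift_snd_assoc, D.map_comp, sp_comp])) }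
  let α : D' ⟶ D :=
    { app := fun i => mkHom (pullback.snd p (s i)) rfl
      naturality := fun i j g => sp_hom_ext ((sqP j).lift_snd _ _ _) }
  have hequi : ∀ ⦃i j : I⦄ (g : i ⟶ j), IsPullback (sp (D'.map g)) (sp (α.app i)) (sp (α.app j)) (sp (D.map g)) := by
    intro i j g
    refine IsPullback.of_right (h₁₂ := pullback.fst p (s j)) ?_ ((sqP j).lift_snd _ _ _) (sqP j)
    show IsPullback (mm g ≫ pullback.fst p (s j)) (pullback.snd p (s i)) p (sp (D.map g) ≫ s j)
    rw [(sqP j).lift_fst, hs g]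
    exact sqP i
  have het : ∀ i, IsEtaleMor (pullback.snd p (s i)) := fun i U' φ hφ =>
    RepWith.comp hφ (RepWith.baseChange (sqP i) hpe)
  obtain ⟨c', a, hae, hasep, sqa⟩ := h₅ D' α hequi het hPs
  obtain ⟨hc'⟩ := h₄ D' α c' a hae hasep sqa
  let cU : Cocone D' :=
    { pt := UP
      ι :=
        { app := fun i => mkHom (pullback.fst p (s i)) (by
            show pullback.fst p (s i) ≫ p ≫ qT = pullback.snd p (s i) ≫ (D.obj i).obj.hom.hom
            rw [← Category.assoc, pullback.condition, Category.assoc, hsq])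
          naturality := fun i j g => sp_hom_ext (((sqP j).lift_fst _ _ _).trans (Category.comp_id _).symm) } }
  let m : c'.pt.obj.left.obj ⟶ T := sp (hc'.desc cU) ≫ p
  have hm : ∀ i, sp (c'.ι.app i) ≫ m = pullback.snd p (s i) ≫ s i := fun i => by
    rw [← Category.assoc, ← sp_comp, hc'.fac]; exact (sqP i).w
  have hmq : m ≫ qT = sp a ≫ c.pt.obj.hom.hom := by
    rw [Category.assoc, sp_w a]; exact sp_w (hc'.desc cU)
  -- an atlas of the glued space covers
  obtain ⟨W, e, hee, hes⟩ := c'.pt.obj.left.property.atlas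
  have hea : RepWith @Etale (e ≫ sp a) := hae e hee
  have heas : RepWith @Surjective (e ≫ sp a) := repWith_surjective_of_surjective_map hea.1 fun x => by
    obtain ⟨i, y, rfl⟩ := h₃ x
    obtain ⟨z, rfl⟩ := surjective_map_of_isPullback (sqP i) (surjective_map_of_repWith hps) y
    obtain ⟨w', hw'⟩ := surjective_map_of_repWith hes (Points.map (sp (c'.ι.app i)) z)
    refine ⟨w', ?_⟩
    rw [Points.map_comp, hw', ← Points.map_comp, (sqa i).w, Points.map_comp]
    rfl
  have : Epi (e ≫ sp a) := epi_of_etale_surjective hea heas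
  have : Epi (sp a) := epi_of_epi e (sp a)
  -- the double overlap
  have sq2 := IsPullback.of_hasPullback (sp a) (sp a)
  let p₁ := pullback.fst (sp a) (sp a)
  let p₂ := pullback.snd (sp a) (sp a)
  have h2a : IsAlgSpace (pullback (sp a) (sp a)) :=
    isAlgSpace_of_isPullback c.pt.obj.left.property.diag c'.pt.obj.left.property c'.pt.obj.left.property sq2
  have hp1e : IsEtaleMor p₁ := (isEtaleMor_iff_locP etLocal_etale h2a c'.pt.obj.left.property p₁).2
    (locP_of_isPullback etLocal_etale c'.pt.obj.left.property c.pt.obj.left.property h2a sq2.flip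
      ((isEtaleMor_iff_locP etLocal_etale c'.pt.obj.left.property c.pt.obj.left.property (sp a)).1 hae))
  let E2 := mkP hP _ h2a (p₁ ≫ c'.pt.obj.hom.hom)
    (isSeparatedMor_comp (isSeparatedMor_of_isPullback sq2.flip hasep) ((hP _).1 c'.pt.property))
  let π₁ : E2 ⟶ c'.pt := mkHom p₁ rfl
  let a₂ : E2 ⟶ c.pt := π₁ ≫ a
  have sqQ := fun i => IsPullback.of_hasPullback (sp a₂) (sp (c.ι.app i))
  have ha₂s : IsSeparatedMor (sp a₂) := isSeparatedMor_comp (isSeparatedMor_of_isPullback sq2.flip hasep) hasep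
  let Q : I → P.FullSubcategory := fun i => mkP hP _
    (isAlgSpace_of_isPullback c.pt.obj.left.property.diag h2a (D.obj i).obj.left.property (sqQ i))
    (pullback.snd (sp a₂) (sp (c.ι.app i)) ≫ (D.obj i).obj.hom.hom)
    (isSeparatedMor_comp (isSeparatedMor_of_isPullback (sqQ i) ha₂s) ((hP _).1 (D.obj i).property))
  let nn : ∀ {i j} (g : i ⟶ j), pullback (sp a₂) (sp (c.ι.app i)) ⟶ pullback (sp a₂) (sp (c.ι.app j)) := fun {i j} g =>
    (sqQ j).lift (pullback.fst _ _) (pullback.snd _ _ ≫ sp (D.map g))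
      (by rw [Category.assoc, ← sp_comp (D.map g), c.w]; exact (sqQ i).w)
  let D'' : I ⥤ P.FullSubcategory :=
    { obj := Q
      map := fun {i j} g => mkHom (nn g) (by
        show nn g ≫ pullback.snd _ _ ≫ (D.obj j).obj.hom.hom = _
        rw [← Category.assoc, (sqQ j).lift_snd, Category.assoc, sp_w]
        rfl)
      map_id := fun i => sp_hom_ext ((sqQ i).hom_ext
        (((sqQ i).lift_fst _ _ _).trans (Category.id_comp _).symm)
        (((sqQ i).lift_snd _ _ _).trans (by rw [D.map_id]; exact (Category.comp_id _).trans (Category.id_comp _).symm)))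
      map_comp := fun {i j l} g g' => sp_hom_ext ((sqQ l).hom_ext
        (by
          show nn (g ≫ g') ≫ _ = (nn g ≫ nn g') ≫ _
          simp only [nn, Category.assoc, IsPullback.lift_fst])
        (by
          show nn (g ≫ g') ≫ _ = (nn g ≫ nn g') ≫ _
          simp only [nn, Category.assoc, IsPullback.lift_snd, IsPullback.lift_snd_assoc, D.map_comp, sp_comp])) }
  let α'' : D'' ⟶ D :=
    { app := fun i => mkHom (pullback.snd _ _) rfl
      naturality := fun i j g => sp_hom_ext ((sqQ j).lift_snd _ _ _) }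
  let c'' : Cocone D'' :=
    { pt := E2
      ι :=
        { app := fun i => mkHom (pullback.fst (sp a₂) (sp (c.ι.app i))) (by
            have e1 := sp_w a₂
            show pullback.fst _ _ ≫ E2.obj.hom.hom = pullback.snd _ _ ≫ (D.obj i).obj.hom.hom
            rw [← e1, ← sp_w (c.ι.app i), ← Category.assoc, pullback.condition, Category.assoc]
            rfl)
          naturality := fun i j g => sp_hom_ext (((sqQ j).lift_fst _ _ _).trans (Category.comp_id _).symm) } }
  obtain ⟨hc''⟩ := h₄ D'' α'' c'' a₂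
    (Induct.isEtaleMor_comp h2a c'.pt.obj.left.property c.pt.obj.left.property hp1e hae) ha₂s sqQ
  have hleg : ∀ (i) (r : pullback (sp a) (sp a) ⟶ c'.pt.obj.left.obj), r ≫ sp a = sp a₂ →
      pullback.fst (sp a₂) (sp (c.ι.app i)) ≫ r ≫ m = pullback.snd (sp a₂) (sp (c.ι.app i)) ≫ s i := by
    intro i r hr
    obtain ⟨l, hl1, hl2⟩ := (sqa i).exists_lift (pullback.fst (sp a₂) (sp (c.ι.app i)) ≫ r)
      (pullback.snd (sp a₂) (sp (c.ι.app i))) (by
        show (_ ≫ r) ≫ sp a = _ ≫ sp (c.ι.app i)
        rw [Category.assoc, hr]; exact (sqQ i).w)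
    rw [← Category.assoc, ← hl1, Category.assoc]
    refine (congrArg (l ≫ ·) (hm i)).trans ?_
    exact (Category.assoc _ _ _).symm.trans (congrArg (· ≫ s i) hl2)
  have hagree : p₁ ≫ m = p₂ ≫ m := hom_ext_of_isColimit hP hc'' hT _ _ fun i =>
    (hleg i p₁ rfl).trans (hleg i p₂ pullback.condition.symm).symm
  have : IsRegularEpiCategory (Sp S) :=
    inferInstanceAs (IsRegularEpiCategory (Sheaf (J S) (Type (u + 1))))
  have : IsRegularEpi (sp a) := IsRegularEpiCategory.regularEpiOfEpi _
  let t : c.pt.obj.left.obj ⟶ T := EffectiveEpi.desc (sp a) m fun g₁ g₂ h => by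
    rw [← pullback.lift_fst g₁ g₂ h, Category.assoc]
    refine (congrArg (pullback.lift g₁ g₂ h ≫ ·) hagree).trans ?_
    rw [← Category.assoc, pullback.lift_snd]
  have ht : sp a ≫ t = m := EffectiveEpi.fac _ _ _
  refine ⟨t, ?_, fun i => ?_⟩
  · rw [← cancel_epi (sp a), ← Category.assoc, ht, hmq]
  · have : Epi (pullback.snd p (s i)) := epi_of_etale_surjective (RepWith.baseChange (sqP i) hpe)
      (RepWith.baseChange (sqP i) hps)
    rw [← cancel_epi (pullback.snd p (s i)), ← Category.assoc]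
    refine Eq.trans ?_ (hm i)
    rw [← ht, ← Category.assoc]
    exact congrArg (· ≫ t) (sqa i).w.symm

/-- Let `B` be an algebraic space over `S`, `P` the property 'separated over `B`' on algebraic spaces
over `B`, `D` a diagram in the full subcategory it defines and `c` a cocone on `D` that is a colimit
there. Assume the coprojections are jointly surjective, that for every separated etale `U → c.pt`
every cocone of cartesian squares `D_i ×_{c.pt} U → U` is a colimit in that subcategory, and that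
every system of separated etale `U_i → D_i` with cartesian transition squares arises from some
separated etale `U → c.pt` by base change. Then `c` is also a colimit when viewed among all
algebraic spaces over `B`. -/
theorem result {S : Scheme.{u}} {B : AlgSp.Space S} (P : ObjectProperty (Over B))
    (hP : ∀ T : Over B, P T ↔ AlgSp.IsSeparatedMor T.hom.hom) {I : Type v} [Category.{w} I]
    (D : I ⥤ P.FullSubcategory) (c : Cocone D) (h₂ : IsColimit c)
    (h₃ : ∀ x : AlgSp.Points c.pt.obj.left.obj, ∃ (i : I) (y : AlgSp.Points (D.obj i).obj.left.obj),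
      AlgSp.Points.map (c.ι.app i).hom.left.hom y = x)
    (h₄ : ∀ (D' : I ⥤ P.FullSubcategory) (α : D' ⟶ D) (c' : Cocone D') (a : c'.pt ⟶ c.pt),
      AlgSp.IsEtaleMor a.hom.left.hom → AlgSp.IsSeparatedMor a.hom.left.hom →
      (∀ i, IsPullback (c'.ι.app i).hom.left.hom (α.app i).hom.left.hom a.hom.left.hom (c.ι.app i).hom.left.hom) →
        Nonempty (IsColimit c'))
    (h₅ : ∀ (D' : I ⥤ P.FullSubcategory) (α : D' ⟶ D),
      (∀ ⦃i j : I⦄ (g : i ⟶ j), IsPullback (D'.map g).hom.left.hom (α.app i).hom.left.hom (α.app j).hom.left.hom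
        (D.map g).hom.left.hom) →
      (∀ i, AlgSp.IsEtaleMor (α.app i).hom.left.hom) → (∀ i, AlgSp.IsSeparatedMor (α.app i).hom.left.hom) →
        ∃ (c' : Cocone D') (a : c'.pt ⟶ c.pt), AlgSp.IsEtaleMor a.hom.left.hom ∧ AlgSp.IsSeparatedMor a.hom.left.hom ∧
          ∀ i, IsPullback (c'.ι.app i).hom.left.hom (α.app i).hom.left.hom a.hom.left.hom (c.ι.app i).hom.left.hom) :
    Nonempty (IsColimit (P.ι.mapCocone c)) := by
  have he := fun (s : Cocone (D ⋙ P.ι)) =>
    exists_desc hP D c h₂ h₃ h₄ h₅ s.pt.left.property s.pt.hom.hom (fun i => (s.ι.app i).left.hom)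
      (fun i => congrArg (fun t => t.hom) (Over.w (s.ι.app i))) fun i j g =>
      congrArg (fun t => t.left.hom) (s.w g)
  choose t htq ht using he
  exact ⟨{
    desc := fun s => Over.homMk (ObjectProperty.homMk (t s)) (ObjectProperty.hom_ext _ (htq s))
    fac := fun s i => Over.OverMorphism.ext (ObjectProperty.hom_ext _ (ht s i))
    uniq := fun s m hm => Over.OverMorphism.ext (ObjectProperty.hom_ext _
      (hom_ext_of_isColimit hP h₂ s.pt.left.property _ _ fun i =>
        (congrArg (fun t => t.left.hom) (hm i)).trans (ht s i).symm)) }⟩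

end Groth.Agent.S10728
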