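import Groth.Statements.S10730
import Groth.Agent.AlgSpLib.MorSep
import Groth.Agent.AlgSpLib.ClosedSub
import Groth.Agent.AlgSpLib.InductPrinciple
import Groth.Agent.AlgSpLib.PointsCompact
import Groth.Agent.AlgSpLib.LocPMore
import Groth.Agent.AlgSpLib.RepLocal
import Groth.Agent.AlgSpLib.MorTop
import Groth.Agent.AlgSpLib.AffineEtaleQuot
-- import your own Groth.Agent.* helpers here

set_option autoImplicit false
universe w v u
open CategoryTheory CategoryTheory.Limits AlgebraicGeometry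
open AlgSp

namespace Groth.Agent.S10730

set_option backward.isDefEq.respectTransparency.types false
set_option backward.isDefEq.respectTransparency false

open Groth.Agent.AlgSpLib

variable {S : Scheme.{u}}

/-- jointly surjective etale morphisms are jointly epimorphic -/
theorem jointly_epi {F : Sp S} (hF : IsAlgSpace F) {κ : Type*} {U : κ → Sp S} (hU : ∀ k, IsAlgSpace (U k))
    (a : ∀ k, U k ⟶ F) (ha : ∀ k, IsEtaleMor (a k)) (hcov : ∀ x, ∃ k u, Points.map (a k) u = x) {T : Sp S}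
    {x y : F ⟶ T} (h : ∀ k, a k ≫ x = a k ≫ y) : x = y := by
  obtain ⟨V, e, hee, hes⟩ := hF.atlas
  have : Epi e := epi_of_etale_surjective hee hes
  rw [← cancel_epi e]
  have hv : ∀ v : V.left, ∃ (W : Over S) (φ : W ⟶ V), Etale φ.left ∧ v ∈ Set.range φ.left ∧
      (yon S).map φ ≫ e ≫ x = (yon S).map φ ≫ e ≫ y := by
    intro v
    obtain ⟨k, w, hw⟩ := hcov (Points.ofPt e v)
    obtain ⟨A, q, hqe, hqs⟩ := (hU k).atlas
    obtain ⟨t, rfl⟩ := surjective_ofPt q hqs w
    have hg := ha k q hqe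
    have sq := hg.1.isPullback e
    rw [Points.map_ofPt, Points.ofPt_eq_map_ofScheme, Points.ofPt_eq_map_ofScheme] at hw
    obtain ⟨z, -, hz⟩ := exists_point_of_isPullback sq hw
    obtain ⟨z', rfl⟩ := (Points.schemeEquiv _).surjective z
    refine ⟨_, hg.1.snd e, hg.property_snd e, ⟨z', ?_⟩, ?_⟩
    · have := congrArg (Points.toScheme V)
        ((Points.ofPt_eq_map_ofScheme ((yon S).map (hg.1.snd e)) z').trans hz)
      rw [Points.toScheme_ofPt, Points.toScheme_ofScheme] at this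
      exact this
    · rw [← Category.assoc, ← sq.w, Category.assoc, Category.assoc, h k, ← Category.assoc q, ← Category.assoc,
        sq.w, Category.assoc]
  choose W φ hφe hφv hφ using hv
  exact yon_hom_ext_of_cover φ (fun v => ⟨v, hφv v⟩) _ _ hφ

/-- cancellation for etale morphisms -/
theorem isEtaleMor_cancel {X Y Z : Sp S} (hX : IsAlgSpace X) (hY : IsAlgSpace Y) (hZ : IsAlgSpace Z)
    {f : X ⟶ Y} {g : Y ⟶ Z} (h : IsEtaleMor (f ≫ g)) (hg : IsEtaleMor g) : IsEtaleMor f :=
  (isEtaleMor_iff_locP etLocal_etale hX hY f).2 (locP_of_comp' (Q := @Etale) etLocal_etale hX hY hZ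
    (fun _ _ _ a b (_ : Etale (a ≫ b)) (_ : Etale b) => Etale.of_comp a b)
    ((isEtaleMor_iff_locP etLocal_etale hX hZ _).1 h) ((isEtaleMor_iff_locP etLocal_etale hY hZ g).1 hg))

theorem isEtaleMor_bc {X Y X' Y' : Sp S} (hX : IsAlgSpace X) (hY : IsAlgSpace Y) (hX' : IsAlgSpace X')
    (hY' : IsAlgSpace Y') {f : X ⟶ Y} {g : Y' ⟶ Y} {fst : X' ⟶ X} {f' : X' ⟶ Y'}
    (sq : IsPullback fst f' f g) (hf : IsEtaleMor f) : IsEtaleMor f' :=
  (isEtaleMor_iff_locP etLocal_etale hX' hY' f').2 (locP_of_isPullback etLocal_etale hX hY hX' sq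
    ((isEtaleMor_iff_locP etLocal_etale hX hY f).1 hf))

theorem isEtaleMor_rep {X Y : Sp S} (hX : IsAlgSpace X) (hY : IsAlgSpace Y) {f : X ⟶ Y}
    (hf : RepWith @Etale f) : IsEtaleMor f :=
  (isEtaleMor_iff_locP etLocal_etale hX hY f).2 (locP_of_repWith etLocal_etale hX hf)

/-- descent along a family of etale charts -/
theorem descend_family {F : Sp S} (hF : IsAlgSpace F) {κ : Type u} {A : κ → Over S}
    (e : ∀ k, (yon S).obj (A k) ⟶ F) (he : ∀ k, RepWith @Etale (e k))
    (hcov : ∀ x, ∃ k v, Points.ofPt (e k) v = x) {X : Sp S} (h : ∀ k, (yon S).obj (A k) ⟶ X)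
    (hag : ∀ k l (P : Over S) (r₁ : P ⟶ A k) (r₂ : P ⟶ A l), IsAffine P.left →
      RepWith @Etale ((yon S).map r₁ ≫ e k) → (yon S).map r₁ ≫ e k = (yon S).map r₂ ≫ e l →
        (yon S).map r₁ ≫ h k = (yon S).map r₂ ≫ h l) :
    ∃ g : F ⟶ X, ∀ k, e k ≫ g = h k := by
  obtain ⟨π, hπ, -⟩ := existsUnique_desc_sigma A e
  obtain ⟨n, hn, -⟩ := existsUnique_desc_sigma A h
  have hπr : Representable π := hF.representable_from_yon π
  have hπe : RepWith @Etale π := by
    obtain ⟨V, b, hbe, hbs⟩ := hF.atlas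
    have := isLocallySurjective_of_etale hbe hbs
    refine repWith_of_isLocallySurjective hπr b (hπr.isPullback b) @Etale ((repWith_yon_map_iff _ _).2 ?_)
    refine IsZariskiLocalAtSource.of_openCover (P := @Etale)
      (Scheme.openCoverOfIsOpenCover _ (fun k => (hπr.fst' b).left ⁻¹ᵁ (sigmaOverι A k).left.opensRange)
        (TopologicalSpace.IsOpenCover.mk (eq_top_iff.2 fun z _ => by
          obtain ⟨k, hk⟩ := exists_mem_range_sigmaOverι A ((hπr.fst' b).left z)
          exact TopologicalSpace.Opens.mem_iSup.2 ⟨k, hk⟩))) fun k => ?_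
    let Q := restrictOver (hπr.pullback b) ((hπr.fst' b).left ⁻¹ᵁ (sigmaOverι A k).left.opensRange)
    let j : Q ⟶ hπr.pullback b := restrictOverι _ _
    show Etale (j.left ≫ (hπr.snd b).left)
    obtain ⟨l, hl⟩ : ∃ l : Q ⟶ A k, l ≫ sigmaOverι A k = j ≫ hπr.fst' b := by
      refine ⟨Over.homMk (IsOpenImmersion.lift (sigmaOverι A k).left (j.left ≫ (hπr.fst' b).left) ?_) ?_,
        Over.OverMorphism.ext (IsOpenImmersion.lift_fac _ _ _)⟩
      · rintro _ ⟨z, rfl⟩
        exact z.2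
      · rw [← Over.w (sigmaOverι A k), ← Category.assoc, IsOpenImmersion.lift_fac, Category.assoc,
          Over.w, Over.w]
    have : Etale l.left := by
      have hj : Etale j.left := inferInstance
      have : Etale (l.left ≫ (sigmaOverι A k).left) := by
        rw [← Over.comp_left, hl, Over.comp_left]
        have : Etale (hπr.fst' b).left := hbe.property _ _ _ (hπr.isPullback' b).flip
        infer_instance
      exact Etale.of_comp l.left (sigmaOverι A k).left
    rw [← Over.comp_left]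
    refine property_of_repWith_comp etLocal_etale _ b hbe ?_
    rw [Functor.map_comp, Category.assoc, ← (hπr.isPullback' b).w, ← Category.assoc, ← Functor.map_comp, ← hl,
      Functor.map_comp, Category.assoc, hπ]
    exact RepWith.comp ((repWith_yon_map_iff _ l).2 this) (he k)
  have hπs : RepWith @Surjective π := repWith_surjective_of_surjective_ofPt π hπr fun x => by
    obtain ⟨k, v, rfl⟩ := hcov x
    exact ⟨(sigmaOverι A k).left v, by rw [← ofPt_map, hπ]⟩
  have : Epi π := epi_of_etale_surjective hπe hπs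
  let p₁ := hπr.fst' π
  let p₂ := hπr.snd π
  have sq := hπr.isPullback' π
  have hag' : (yon S).map p₁ ≫ n = (yon S).map p₂ ≫ n := by
    let K := {O : (hπr.pullback π).left.affineOpens // ∃ k l,
      O.1 ≤ p₁.left ⁻¹ᵁ (sigmaOverι A k).left.opensRange ⊓ p₂.left ⁻¹ᵁ (sigmaOverι A l).left.opensRange}
    refine yon_hom_ext_of_cover (fun O : K => restrictOverι _ O.1.1) (fun z => ?_) _ _ fun O => ?_
    · obtain ⟨k, hk⟩ := exists_mem_range_sigmaOverι A (p₁.left z)
      obtain ⟨l, hl⟩ := exists_mem_range_sigmaOverι A (p₂.left z)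
      obtain ⟨_, ⟨O, hO, rfl⟩, hz, hle⟩ := (hπr.pullback π).left.isBasis_affineOpens.exists_subset_of_mem_open
        (show z ∈ ((p₁.left ⁻¹ᵁ (sigmaOverι A k).left.opensRange ⊓ p₂.left ⁻¹ᵁ (sigmaOverι A l).left.opensRange :
          (hπr.pullback π).left.Opens) : Set _) from ⟨hk, hl⟩)
        (p₁.left ⁻¹ᵁ (sigmaOverι A k).left.opensRange ⊓ p₂.left ⁻¹ᵁ (sigmaOverι A l).left.opensRange).2
      exact ⟨⟨⟨O, hO⟩, k, l, hle⟩, ⟨z, hz⟩, rfl⟩
    · obtain ⟨⟨O, hO⟩, k, l, hle⟩ := O
      let j := restrictOverι (hπr.pullback π) O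
      have : IsAffine (restrictOver (hπr.pullback π) O).left := hO
      have lift : ∀ (p : hπr.pullback π ⟶ sigmaOver A) (k : κ),
          O ≤ p.left ⁻¹ᵁ (sigmaOverι A k).left.opensRange →
            ∃ r : restrictOver (hπr.pullback π) O ⟶ A k, r ≫ sigmaOverι A k = j ≫ p := fun p k h => by
        refine ⟨Over.homMk (IsOpenImmersion.lift (sigmaOverι A k).left (j.left ≫ p.left) ?_) ?_,
          Over.OverMorphism.ext (IsOpenImmersion.lift_fac _ _ _)⟩
        · rintro _ ⟨z, rfl⟩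
          exact h z.2
        · rw [← Over.w (sigmaOverι A k), ← Category.assoc, IsOpenImmersion.lift_fac, Category.assoc,
            Over.w, Over.w]
      obtain ⟨r₁, hr₁⟩ := lift p₁ k fun z hz => (hle hz).1
      obtain ⟨r₂, hr₂⟩ := lift p₂ l fun z hz => (hle hz).2
      have e₁ : (yon S).map r₁ ≫ e k = (yon S).map j ≫ (yon S).map p₁ ≫ π := by
        rw [← hπ k, ← Category.assoc, ← Functor.map_comp, hr₁, Functor.map_comp, Category.assoc]
      have e₂ : (yon S).map r₂ ≫ e l = (yon S).map j ≫ (yon S).map p₂ ≫ π := by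
        rw [← hπ l, ← Category.assoc, ← Functor.map_comp, hr₂, Functor.map_comp, Category.assoc]
      show (yon S).map j ≫ _ = (yon S).map j ≫ _
      rw [← Category.assoc, ← Functor.map_comp, ← hr₁, Functor.map_comp, Category.assoc, hn,
        ← Category.assoc, ← Functor.map_comp, ← hr₂, Functor.map_comp, Category.assoc, hn]
      refine hag k l _ r₁ r₂ inferInstance ?_ (by rw [e₁, e₂, sq.w])
      rw [e₁]
      exact RepWith.comp ((repWith_yon_map_iff _ _).2 (inferInstanceAs (Etale O.ι)))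
        (RepWith.comp ((repWith_yon_map_iff _ _).2 (hπe.property _ _ _ sq.flip)) hπe)
  have : IsRegularEpiCategory (Sp S) :=
    inferInstanceAs (IsRegularEpiCategory (Sheaf (J S) (Type (u + 1))))
  have : IsRegularEpi π := IsRegularEpiCategory.regularEpiOfEpi _
  let g : F ⟶ X := EffectiveEpi.desc π n fun g₁ g₂ h => by
    rw [← sq.lift_fst g₁ g₂ h, Category.assoc]
    refine (congrArg (sq.lift g₁ g₂ h ≫ ·) hag').trans ?_
    rw [← Category.assoc, sq.lift_snd]
  refine ⟨g, fun k => ?_⟩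
  rw [← hπ k, Category.assoc, EffectiveEpi.fac, hn]

noncomputable section

variable {B : AlgSp.Space S} {I : Type v} [Category.{w} I] {D : I ⥤ Over B}

/-- bundling a space over `B` -/
abbrev mkO (W : Sp S) (hW : IsAlgSpace W) (q : W ⟶ B.obj) : Over B :=
  Over.mk (ObjectProperty.homMk q : (⟨W, hW⟩ : AlgSp.Space S) ⟶ B)

abbrev sp {A A' : Over B} (g : A ⟶ A') : A.left.obj ⟶ A'.left.obj := g.left.hom

abbrev mkH {A A' : Over B} (g : A.left.obj ⟶ A'.left.obj) (h : g ≫ A'.hom.hom = A.hom.hom) : A ⟶ A' :=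
  Over.homMk (ObjectProperty.homMk g) (ObjectProperty.hom_ext _ h)

theorem sp_ext {A A' : Over B} {g g' : A ⟶ A'} (h : sp g = sp g') : g = g' :=
  Over.OverMorphism.ext (ObjectProperty.hom_ext _ h)

theorem sp_w {A A' : Over B} (g : A ⟶ A') : sp g ≫ A'.hom.hom = A.hom.hom :=
  congrArg (fun t => t.hom) (Over.w g)

theorem sp_comp {A A' A'' : Over B} (g : A ⟶ A') (g' : A' ⟶ A'') : sp (g ≫ g') = sp g ≫ sp g' := rfl

theorem cw (c : Cocone D) ⦃i j : I⦄ (g : i ⟶ j) : sp (D.map g) ≫ sp (c.ι.app j) = sp (c.ι.app i) :=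
  congrArg sp (c.w g)

variable (c : Cocone D) {U : Over B} (u : U ⟶ c.pt)

abbrev sqb (i : I) : IsPullback (pullback.fst (sp u) (sp (c.ι.app i))) (pullback.snd (sp u) (sp (c.ι.app i)))
    (sp u) (sp (c.ι.app i)) := IsPullback.of_hasPullback _ _

theorem isAlgSpace_bc (i : I) : IsAlgSpace (pullback (sp u) (sp (c.ι.app i))) :=
  isAlgSpace_of_isPullback c.pt.left.property.diag U.left.property (D.obj i).left.property (sqb c u i)

/-- transition maps of the base change -/
def mm {i j : I} (g : i ⟶ j) : pullback (sp u) (sp (c.ι.app i)) ⟶ pullback (sp u) (sp (c.ι.app j)) :=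
  (sqb c u j).lift (pullback.fst _ _) (pullback.snd _ _ ≫ sp (D.map g))
    (by rw [Category.assoc, cw]; exact (sqb c u i).w)

theorem mm_fst {i j : I} (g : i ⟶ j) :
    mm c u g ≫ pullback.fst (sp u) (sp (c.ι.app j)) = pullback.fst _ _ := (sqb c u j).lift_fst _ _ _

theorem mm_snd {i j : I} (g : i ⟶ j) :
    mm c u g ≫ pullback.snd (sp u) (sp (c.ι.app j)) = pullback.snd _ _ ≫ sp (D.map g) := (sqb c u j).lift_snd _ _ _

/-- the base change of the diagram -/
def bcD : I ⥤ Over B where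
  obj i := mkO _ (isAlgSpace_bc c u i) (pullback.snd (sp u) (sp (c.ι.app i)) ≫ (D.obj i).hom.hom)
  map {i j} g := mkH (mm c u g) (by
    show mm c u g ≫ pullback.snd _ _ ≫ (D.obj j).hom.hom = _
    rw [← Category.assoc, mm_snd, Category.assoc, sp_w]
    rfl)
  map_id i := sp_ext ((sqb c u i).hom_ext
    ((mm_fst c u (𝟙 i)).trans (Category.id_comp _).symm)
    ((mm_snd c u (𝟙 i)).trans (by rw [D.map_id]; exact (Category.comp_id _).trans (Category.id_comp _).symm)))
  map_comp {i j l} g g' := sp_ext ((sqb c u l).hom_ext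
    (by
      show mm c u (g ≫ g') ≫ _ = (mm c u g ≫ mm c u g') ≫ _
      simp only [Category.assoc, mm_fst])
    (by
      show mm c u (g ≫ g') ≫ _ = (mm c u g ≫ mm c u g') ≫ _
      rw [mm_snd, Category.assoc, mm_snd, ← Category.assoc, mm_snd, D.map_comp, sp_comp, Category.assoc]))

/-- its projection to the diagram -/
def bcα : bcD c u ⟶ D where
  app i := mkH (pullback.snd (sp u) (sp (c.ι.app i))) rfl
  naturality i j g := sp_ext (mm_snd c u g)

/-- its projection to the base -/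
def bcι : bcD c u ⟶ (Functor.const I).obj U where
  app i := mkH (pullback.fst (sp u) (sp (c.ι.app i))) (by
    show pullback.fst _ _ ≫ U.hom.hom = pullback.snd _ _ ≫ (D.obj i).hom.hom
    rw [← sp_w u, ← sp_w (c.ι.app i), ← Category.assoc, pullback.condition, Category.assoc]
    rfl)
  naturality i j g := sp_ext ((mm_fst c u g).trans (Category.comp_id _).symm)

theorem bc_equifibred ⦃i j : I⦄ (g : i ⟶ j) :
    IsPullback (mm c u g) (pullback.snd (sp u) (sp (c.ι.app i))) (pullback.snd (sp u) (sp (c.ι.app j))) (sp (D.map g)) := by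
  refine IsPullback.of_right (h₁₂ := pullback.fst (sp u) (sp (c.ι.app j))) ?_ (mm_snd c u g) (sqb c u j)
  rw [mm_fst, cw]
  exact sqb c u i

theorem isEtaleMor_bcα (hu : IsEtaleMor (sp u)) (i : I) : IsEtaleMor (pullback.snd (sp u) (sp (c.ι.app i))) :=
  isEtaleMor_bc U.left.property c.pt.left.property (isAlgSpace_bc c u i) (D.obj i).left.property (sqb c u i) hu

/-- the hypothesis on morphisms -/
def Full : Prop :=
  ∀ (U U' : Over B) (u : U ⟶ c.pt) (u' : U' ⟶ c.pt), AlgSp.IsEtaleMor u.left.hom → AlgSp.IsEtaleMor u'.left.hom →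
      ∀ (DU DU' : I ⥤ Over B) (αU : DU ⟶ D) (αU' : DU' ⟶ D) (ιU : DU ⟶ (Functor.const I).obj U)
        (ιU' : DU' ⟶ (Functor.const I).obj U'),
        (∀ i, IsPullback (ιU.app i).left.hom (αU.app i).left.hom u.left.hom (c.ι.app i).left.hom) →
        (∀ i, IsPullback (ιU'.app i).left.hom (αU'.app i).left.hom u'.left.hom (c.ι.app i).left.hom) →
        ∀ (β : DU ⟶ DU'), β ≫ αU' = αU →
          ∃! m : U ⟶ U', m ≫ u' = u ∧ ∀ i, ιU.app i ≫ m = β.app i ≫ ιU'.app i

variable {c u}

theorem exists_hom (hf : Full c) (hu : IsEtaleMor (sp u)) {U' : Over B} {u' : U' ⟶ c.pt} (hu' : IsEtaleMor (sp u'))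
    (φ : ∀ i, pullback (sp u) (sp (c.ι.app i)) ⟶ U'.left.obj)
    (hφ : ∀ i, φ i ≫ sp u' = pullback.snd (sp u) (sp (c.ι.app i)) ≫ sp (c.ι.app i))
    (hn : ∀ ⦃i j⦄ (g : i ⟶ j), mm c u g ≫ φ j = φ i) :
    ∃ m : U ⟶ U', m ≫ u' = u ∧ ∀ i, pullback.fst (sp u) (sp (c.ι.app i)) ≫ sp m = φ i := by
  let b := fun i => (sqb c u' i).lift (φ i) (pullback.snd _ _) (hφ i)
  let β : bcD c u ⟶ bcD c u' :=
    { app := fun i => mkH (b i) (by
        show b i ≫ pullback.snd _ _ ≫ (D.obj i).hom.hom = _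
        rw [← Category.assoc, (sqb c u' i).lift_snd]
        rfl)
      naturality := fun i j g => sp_ext (by
        show mm c u g ≫ b j = b i ≫ mm c u' g
        apply (sqb c u' j).hom_ext
        · simp only [b, Category.assoc, IsPullback.lift_fst, mm_fst, hn g]
        · simp only [b, Category.assoc, IsPullback.lift_snd, mm_snd, IsPullback.lift_snd_assoc]) }
  obtain ⟨m, ⟨hm, hl⟩, -⟩ := hf U U' u u' hu hu' _ _ (bcα c u) (bcα c u') (bcι c u) (bcι c u') (sqb c u) (sqb c u') β
    (NatTrans.ext (funext fun i => sp_ext ((sqb c u' i).lift_snd _ _ _)))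
  exact ⟨m, hm, fun i => (congrArg sp (hl i)).trans ((sqb c u' i).lift_fst _ _ _)⟩

theorem etale_hom_ext (hf : Full c) (hu : IsEtaleMor (sp u)) {U' : Over B} {u' : U' ⟶ c.pt} (hu' : IsEtaleMor (sp u'))
    {m m' : U ⟶ U'} (hm : m ≫ u' = u) (hm' : m' ≫ u' = u)
    (h : ∀ i, pullback.fst (sp u) (sp (c.ι.app i)) ≫ sp m = pullback.fst (sp u) (sp (c.ι.app i)) ≫ sp m') : m = m' := by
  have hw : ∀ i, (pullback.fst (sp u) (sp (c.ι.app i)) ≫ sp m) ≫ sp u' =
      pullback.snd (sp u) (sp (c.ι.app i)) ≫ sp (c.ι.app i) := fun i => by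
    rw [Category.assoc, show sp m ≫ sp u' = sp u from congrArg sp hm]
    exact (sqb c u i).w
  let b := fun i => (sqb c u' i).lift _ (pullback.snd _ _) (hw i)
  let β : bcD c u ⟶ bcD c u' :=
    { app := fun i => mkH (b i) (by
        show b i ≫ pullback.snd _ _ ≫ (D.obj i).hom.hom = _
        rw [← Category.assoc, (sqb c u' i).lift_snd]
        rfl)
      naturality := fun i j g => sp_ext (by
        show mm c u g ≫ b j = b i ≫ mm c u' g
        apply (sqb c u' j).hom_ext
        · simp only [b, Category.assoc, IsPullback.lift_fst, mm_fst]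
          rw [← Category.assoc, mm_fst]
        · simp only [b, Category.assoc, IsPullback.lift_snd, mm_snd, IsPullback.lift_snd_assoc]) }
  exact (hf U U' u u' hu hu' _ _ (bcα c u) (bcα c u') (bcι c u) (bcι c u') (sqb c u) (sqb c u') β
    (NatTrans.ext (funext fun i => sp_ext ((sqb c u' i).lift_snd _ _ _)))).unique
      ⟨hm, fun i => sp_ext ((sqb c u' i).lift_fst _ _ _).symm⟩
      ⟨hm', fun i => sp_ext ((h i).symm.trans ((sqb c u' i).lift_fst _ _ _).symm)⟩

variable (c)

/-- the hypothesis on morphisms to affine schemes -/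
def AffineLift : Prop :=
  ∀ (B' Zs Us : Over S) (b : (AlgSp.yon S).obj B' ⟶ B.obj) (z : Zs ⟶ B') {XB : AlgSp.Space S}
      (x₁ : XB ⟶ c.pt.left) (x₂ : XB.obj ⟶ (AlgSp.yon S).obj B') (uu : (AlgSp.yon S).obj Us ⟶ XB.obj)
      (DU : I ⥤ AlgSp.Space S) (αU : DU ⟶ D ⋙ Over.forget B)
      (ιU : DU ⟶ (Functor.const I).obj ((AlgSp.ofScheme S).obj Us))
      (φ : DU ⟶ (Functor.const I).obj ((AlgSp.ofScheme S).obj Zs)),
      IsAffine B'.left → IsAffine Zs.left → IsAffine Us.left → AlgSp.RepWith @Etale b →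
      IsPullback x₁.hom x₂ c.pt.hom.hom b → AlgSp.RepWith @Etale uu →
      (∀ i, IsPullback (ιU.app i).hom (αU.app i).hom (uu ≫ x₁.hom) (c.ι.app i).left.hom) →
      (∀ i, (φ.app i).hom ≫ (AlgSp.yon S).map z = (ιU.app i).hom ≫ uu ≫ x₂) →
        ∃! fz : Us ⟶ Zs, (AlgSp.yon S).map fz ≫ (AlgSp.yon S).map z = uu ≫ x₂ ∧
          ∀ i, (ιU.app i).hom ≫ (AlgSp.yon S).map fz = (φ.app i).hom

/-- the base change of the target to an etale chart of `B` -/
def XO {B' : Over S} (b : (yon S).obj B' ⟶ B.obj) : Over B :=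
  mkO (pullback c.pt.hom.hom b)
    (isAlgSpace_of_isPullback B.property.diag c.pt.left.property (IsAlgSpace.yon_obj B')
      (IsPullback.of_hasPullback _ _))
    (pullback.fst c.pt.hom.hom b ≫ c.pt.hom.hom)

def xp {B' : Over S} (b : (yon S).obj B' ⟶ B.obj) : XO c b ⟶ c.pt :=
  mkH (pullback.fst c.pt.hom.hom b) rfl

theorem isEtaleMor_xp {B' : Over S} (b : (yon S).obj B' ⟶ B.obj) (hb : RepWith @Etale b) :
    IsEtaleMor (sp (xp c b)) :=
  isEtaleMor_rep (XO c b).left.property c.pt.left.property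
    (RepWith.baseChange (IsPullback.of_hasPullback c.pt.hom.hom b).flip hb)

variable {c}
variable {B' Z : Over S} (b : (yon S).obj B' ⟶ B.obj) (z : Z ⟶ B')

/-- lifts on a chart with the prescribed legs -/
def Good (u : U ⟶ c.pt) (m : U ⟶ XO c b) (φ : ∀ i, pullback (sp u) (sp (c.ι.app i)) ⟶ (yon S).obj Z)
    {V : Over S} (e : (yon S).obj V ⟶ U.left.obj) (g : V ⟶ Z) : Prop :=
  (yon S).map g ≫ (yon S).map z = e ≫ sp m ≫ pullback.snd c.pt.hom.hom b ∧
    ∀ (i : I) (R : Sp S) (r : R ⟶ (yon S).obj V) (l : R ⟶ pullback (sp u) (sp (c.ι.app i))),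
      r ≫ e = l ≫ pullback.fst (sp u) (sp (c.ι.app i)) → r ≫ (yon S).map g = l ≫ φ i

variable [IsAffine B'.left] [IsAffine Z.left] (hb : RepWith @Etale b) (hl : AffineLift c)
  (hu : IsEtaleMor (sp u)) {m : U ⟶ XO c b} (hm : m ≫ xp c b = u)
  {φ : ∀ i, pullback (sp u) (sp (c.ι.app i)) ⟶ (yon S).obj Z}
  (hn : ∀ ⦃i j⦄ (g : i ⟶ j), mm c u g ≫ φ j = φ i)
  (hz : ∀ i, φ i ≫ (yon S).map z = pullback.fst (sp u) (sp (c.ι.app i)) ≫ sp m ≫ pullback.snd c.pt.hom.hom b)

include hb hl hu hm hn hz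

theorem existsUnique_good {V : Over S} [IsAffine V.left] (e : (yon S).obj V ⟶ U.left.obj) (he : RepWith @Etale e) :
    ∃! g : V ⟶ Z, Good b z u m φ e g := by
  let uV : mkO _ (IsAlgSpace.yon_obj V) (e ≫ U.hom.hom) ⟶ U := mkH e rfl
  have hme : IsEtaleMor (sp m) := isEtaleMor_cancel U.left.property (XO c b).left.property c.pt.left.property
    (by rw [show sp m ≫ sp (xp c b) = sp u from congrArg sp hm]; exact hu) (isEtaleMor_xp c b hb)
  let v := uV ≫ u
  have hlw : ∀ i, (pullback.fst (sp v) (sp (c.ι.app i)) ≫ e) ≫ sp u = pullback.snd (sp v) (sp (c.ι.app i)) ≫ sp (c.ι.app i) :=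
    fun i => (Category.assoc _ _ _).trans (sqb c v i).w
  let ll := fun i => (sqb c u i).lift _ _ (hlw i)
  let φV : bcD c v ⋙ Over.forget B ⟶ (Functor.const I).obj ((AlgSp.ofScheme S).obj Z) :=
    { app := fun i => ObjectProperty.homMk (ll i ≫ φ i)
      naturality := fun i j g => ObjectProperty.hom_ext _ (by
        show mm c v g ≫ ll j ≫ φ j = (ll i ≫ φ i) ≫ 𝟙 _
        rw [Category.comp_id, ← hn g, ← Category.assoc, ← Category.assoc]
        congr 1
        apply (sqb c u j).hom_ext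
        · simp only [ll, Category.assoc, IsPullback.lift_fst, mm_fst]
          rw [← Category.assoc, mm_fst]
        · simp only [ll, Category.assoc, IsPullback.lift_snd, mm_snd, IsPullback.lift_snd_assoc]) }
  have hu' : sp v = (e ≫ sp m) ≫ pullback.fst c.pt.hom.hom b := by
    rw [Category.assoc]
    exact congrArg (e ≫ ·) (congrArg sp hm).symm
  have key := hl B' Z V b z (XB := (XO c b).left) (xp c b).left (pullback.snd c.pt.hom.hom b) (e ≫ sp m)
    (bcD c v ⋙ Over.forget B) (Functor.whiskerRight (bcα c v) (Over.forget B))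
    { app := fun i => ObjectProperty.homMk (pullback.fst (sp v) (sp (c.ι.app i)))
      naturality := fun i j g => ObjectProperty.hom_ext _ ((mm_fst c v g).trans (Category.comp_id _).symm) }
    φV inferInstance inferInstance inferInstance hb (IsPullback.of_hasPullback _ _) (hme e he)
    (fun i => hu' ▸ sqb c v i) (fun i => by
      show (ll i ≫ φ i) ≫ _ = pullback.fst _ _ ≫ (e ≫ sp m) ≫ _
      rw [Category.assoc, hz, ← Category.assoc (ll i), (sqb c u i).lift_fst]
      simp only [Category.assoc])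
  have iff : ∀ g : V ⟶ Z, ((yon S).map g ≫ (yon S).map z = (e ≫ sp m) ≫ pullback.snd c.pt.hom.hom b ∧
      ∀ i, pullback.fst (sp v) (sp (c.ι.app i)) ≫ (yon S).map g = ll i ≫ φ i) ↔ Good b z u m φ e g := fun g => by
    refine ⟨fun h => ⟨h.1.trans (Category.assoc _ _ _), fun i R r l hrl => ?_⟩, fun h =>
      ⟨h.1.trans (Category.assoc _ _ _).symm, fun i => h.2 i _ _ (ll i) ((sqb c u i).lift_fst _ _ _).symm⟩⟩
    obtain ⟨k, hk1, hk2⟩ := (sqb c v i).exists_lift r (l ≫ pullback.snd _ _) (by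
      show r ≫ e ≫ sp u = _
      rw [← Category.assoc, hrl, Category.assoc, (sqb c u i).w, Category.assoc])
    have hk : k ≫ ll i = l := by
      apply (sqb c u i).hom_ext
      · rw [Category.assoc, (sqb c u i).lift_fst, ← Category.assoc, hk1, hrl]
      · rw [Category.assoc, (sqb c u i).lift_snd, hk2]
    rw [← hk1, Category.assoc, h.2 i, ← Category.assoc, hk]
  obtain ⟨g, hg, hgu⟩ := key
  exact ⟨g, (iff g).1 hg, fun g' hg' => hgu g' ((iff g').2 hg')⟩

omit hb hl hu hm hn hz in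
theorem good_comp {V V' : Over S} (r : V' ⟶ V) {e : (yon S).obj V ⟶ U.left.obj} {g : V ⟶ Z}
    (h : Good b z u m φ e g) : Good b z u m φ ((yon S).map r ≫ e) (r ≫ g) := by
  refine ⟨by rw [Functor.map_comp, Category.assoc, h.1, Category.assoc], fun i R r' l hl => ?_⟩
  rw [Functor.map_comp, ← Category.assoc]
  exact h.2 i R _ l (by rw [Category.assoc]; exact hl)

theorem exists_lift_Z : ∃ g : U.left.obj ⟶ (yon S).obj Z,
    g ≫ (yon S).map z = sp m ≫ pullback.snd c.pt.hom.hom b ∧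
      ∀ i, pullback.fst (sp u) (sp (c.ι.app i)) ≫ g = φ i := by
  obtain ⟨κ, V, hV, q, p, hpe, hps, -⟩ := exists_etale_surjective_sigma_affine U.left.property
  let A : κ → Over S := fun k => Over.mk (Sigma.ι V k ≫ q)
  let inc : ∀ k, A k ⟶ Over.mk q := fun k => Over.homMk (Sigma.ι V k)
  let e := fun k => (yon S).map (inc k) ≫ p
  have hA : ∀ k, IsAffine (A k).left := hV
  have he : ∀ k, RepWith @Etale (e k) := fun k =>
    RepWith.comp ((repWith_yon_map_iff _ _).2 (show Etale (Sigma.ι V k) from inferInstance)) hpe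
  have hcov : ∀ x, ∃ k v, Points.ofPt (e k) v = x := fun x => by
    obtain ⟨w, rfl⟩ := surjective_ofPt p hps x
    obtain ⟨k, v, rfl⟩ : ∃ k v, (Sigma.ι V k) v = w := (sigmaOpenCover V).exists_eq w
    exact ⟨k, v, ofPt_map (inc k) p v⟩
  choose g hg hgu using fun k => existsUnique_good b z hb hl hu hm hn hz (e k) (he k)
  obtain ⟨G, hG⟩ := descend_family U.left.property e he hcov (fun k => (yon S).map (g k))
    fun k l P r₁ r₂ hP hr h => by
      rw [← Functor.map_comp, ← Functor.map_comp]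
      exact congrArg (yon S).map ((existsUnique_good b z hb hl hu hm hn hz _ hr).unique (good_comp b z r₁ (hg k))
        (h ▸ good_comp b z r₂ (hg l)))
  have hce : ∀ k, IsEtaleMor (e k) := fun k => isEtaleMor_rep (IsAlgSpace.yon_obj _) U.left.property (he k)
  have hcov' : ∀ x, ∃ k w, Points.map (e k) w = x := fun x => by
    obtain ⟨k, v, rfl⟩ := hcov x
    exact ⟨k, _, (Points.ofPt_eq_map_ofScheme (e k) v).symm⟩
  refine ⟨G, jointly_epi U.left.property (fun k => IsAlgSpace.yon_obj (A k)) e hce hcov' fun k => ?_, fun i => ?_⟩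
  · rw [← Category.assoc, hG]; exact (hg k).1
  · have sqi := fun k => IsPullback.of_hasPullback (e k) (pullback.fst (sp u) (sp (c.ι.app i)))
    refine jointly_epi (isAlgSpace_bc c u i)
      (fun k => isAlgSpace_of_isPullback U.left.property.diag (IsAlgSpace.yon_obj (A k)) (isAlgSpace_bc c u i) (sqi k))
      (fun k => pullback.snd _ _) (fun k => isEtaleMor_bc (IsAlgSpace.yon_obj _) U.left.property
        (isAlgSpace_of_isPullback U.left.property.diag (IsAlgSpace.yon_obj (A k)) (isAlgSpace_bc c u i) (sqi k))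
        (isAlgSpace_bc c u i) (sqi k) (hce k)) (fun x => ?_) fun k => ?_
    · obtain ⟨k, w, hw⟩ := hcov' (Points.map (pullback.fst (sp u) (sp (c.ι.app i))) x)
      obtain ⟨t, -, ht⟩ := exists_point_of_isPullback (sqi k) hw
      exact ⟨k, t, ht⟩
    · rw [← Category.assoc, ← (sqi k).w, Category.assoc, hG]
      exact (hg k).2 i _ _ _ (sqi k).w

theorem lift_Z_ext {g g' : U.left.obj ⟶ (yon S).obj Z}
    (h : g ≫ (yon S).map z = sp m ≫ pullback.snd c.pt.hom.hom b)
    (h' : g' ≫ (yon S).map z = sp m ≫ pullback.snd c.pt.hom.hom b)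
    (hi : ∀ i, pullback.fst (sp u) (sp (c.ι.app i)) ≫ g = φ i)
    (hi' : ∀ i, pullback.fst (sp u) (sp (c.ι.app i)) ≫ g' = φ i) : g = g' := by
  obtain ⟨κ, V, hV, q, p, hpe, hps, -⟩ := exists_etale_surjective_sigma_affine U.left.property
  have : Epi p := epi_of_etale_surjective hpe hps
  rw [← cancel_epi p]
  have : ∀ k, IsOpenImmersion (Over.homMk (Sigma.ι V k) : Over.mk (Sigma.ι V k ≫ q) ⟶ Over.mk q).left :=
    fun k => inferInstanceAs (IsOpenImmersion (Sigma.ι V k))
  refine yon_hom_ext_of_cover (fun k => (Over.homMk (Sigma.ι V k) : Over.mk (Sigma.ι V k ≫ q) ⟶ Over.mk q))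
    (fun w => ?_) _ _ fun k => ?_
  · obtain ⟨k, v, hv⟩ := (sigmaOpenCover V).exists_eq w
    exact ⟨k, v, hv⟩
  · let inc : Over.mk (Sigma.ι V k ≫ q) ⟶ Over.mk q := Over.homMk (Sigma.ι V k)
    let e := (yon S).map inc ≫ p
    have : IsAffine (Over.mk (Sigma.ι V k ≫ q)).left := hV k
    have he : RepWith @Etale e :=
      RepWith.comp ((repWith_yon_map_iff _ _).2 (show Etale (Sigma.ι V k) from inferInstance)) hpe
    have good : ∀ (G : U.left.obj ⟶ (yon S).obj Z) (f : _ ⟶ Z), (yon S).map f = e ≫ G →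
        G ≫ (yon S).map z = sp m ≫ pullback.snd c.pt.hom.hom b →
        (∀ i, pullback.fst (sp u) (sp (c.ι.app i)) ≫ G = φ i) → Good b z u m φ e f := fun G f hf h hi => by
      refine ⟨by rw [hf, Category.assoc, h], fun i R r l hrl => ?_⟩
      rw [hf, ← Category.assoc, hrl, Category.assoc, hi]
    obtain ⟨f, hf⟩ := (yon S).map_surjective (e ≫ g)
    obtain ⟨f', hf'⟩ := (yon S).map_surjective (e ≫ g')
    show (yon S).map inc ≫ p ≫ g = (yon S).map inc ≫ p ≫ g'
    rw [← Category.assoc, ← Category.assoc, ← hf, ← hf',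
      (existsUnique_good b z hb hl hu hm hn hz e he).unique (good g f hf h hi) (good g' f' hf' h' hi')]

omit hb hl hu hm hn hz [IsAffine B'.left] [IsAffine Z.left]

theorem leg_ext (hf : Full c) (hl : AffineLift c) {T : Sp S} (hT : IsAlgSpace T) (qT : T ⟶ B.obj)
    {κ : Type*} (Zk Bk : κ → Over S) (hZ : ∀ k, IsAffine (Zk k).left) (hB : ∀ k, IsAffine (Bk k).left)
    (bk : ∀ k, (yon S).obj (Bk k) ⟶ B.obj) (hbk : ∀ k, RepWith @Etale (bk k))
    (zk : ∀ k, Zk k ⟶ Bk k) (p : ∀ k, (yon S).obj (Zk k) ⟶ T) (hp : ∀ k, RepWith @Etale (p k))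
    (hpw : ∀ k, p k ≫ qT = (yon S).map (zk k) ≫ bk k) (hpc : ∀ x, ∃ k z, Points.map (p k) z = x)
    (s : ∀ i, (D.obj i).left.obj ⟶ T) {W : Over B} {w : W ⟶ c.pt} (hw : IsEtaleMor (sp w))
    {x y : W.left.obj ⟶ T} (hx : x ≫ qT = W.hom.hom) (hy : y ≫ qT = W.hom.hom)
    (hxs : ∀ i, pullback.fst (sp w) (sp (c.ι.app i)) ≫ x = pullback.snd (sp w) (sp (c.ι.app i)) ≫ s i)
    (hys : ∀ i, pullback.fst (sp w) (sp (c.ι.app i)) ≫ y = pullback.snd (sp w) (sp (c.ι.app i)) ≫ s i) :
    x = y := by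
  have sqx := fun k => IsPullback.of_hasPullback (p k) x
  have sqy := fun k => IsPullback.of_hasPullback (p k) y
  have hXa : ∀ k, IsAlgSpace (pullback (p k) x) := fun k =>
    isAlgSpace_of_isPullback hT.diag (IsAlgSpace.yon_obj _) W.left.property (sqx k)
  have hYa : ∀ k, IsAlgSpace (pullback (p k) y) := fun k =>
    isAlgSpace_of_isPullback hT.diag (IsAlgSpace.yon_obj _) W.left.property (sqy k)
  have hxe : ∀ k, IsEtaleMor (pullback.snd (p k) x) := fun k =>
    isEtaleMor_rep (hXa k) W.left.property (RepWith.baseChange (sqx k) (hp k))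
  refine jointly_epi W.left.property hXa (fun k => pullback.snd (p k) x) hxe (fun t => ?_) fun k => ?_
  · obtain ⟨k, z, hz⟩ := hpc (Points.map x t)
    obtain ⟨t', -, ht'⟩ := exists_point_of_isPullback (sqx k) hz
    exact ⟨k, t', ht'⟩
  let X : Over B := mkO _ (hXa k) (pullback.snd (p k) x ≫ W.hom.hom)
  let Y : Over B := mkO _ (hYa k) (pullback.snd (p k) y ≫ W.hom.hom)
  let πX : X ⟶ W := mkH (pullback.snd (p k) x) rfl
  let πY : Y ⟶ W := mkH (pullback.snd (p k) y) rfl
  let ux := πX ≫ w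
  let uy := πY ≫ w
  have hue : IsEtaleMor (sp ux) :=
    Induct.isEtaleMor_comp X.left.property W.left.property c.pt.left.property (hxe k) hw
  have huye : IsEtaleMor (sp uy) :=
    Induct.isEtaleMor_comp Y.left.property W.left.property c.pt.left.property
      (isEtaleMor_rep (hYa k) W.left.property (RepWith.baseChange (sqy k) (hp k))) hw
  -- the legs see no difference
  let fW := fun i => pullback.fst (sp ux) (sp (c.ι.app i)) ≫ pullback.snd (p k) x
  have hfW : ∀ i, fW i ≫ x = fW i ≫ y := fun i => by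
    obtain ⟨l, hl1, hl2⟩ := (sqb c w i).exists_lift (fW i) (pullback.snd (sp ux) (sp (c.ι.app i)))
      ((Category.assoc _ _ _).trans (sqb c ux i).w)
    rw [← hl1, Category.assoc, Category.assoc, hxs, hys]
  have hφ : ∀ i, (pullback.fst (sp ux) (sp (c.ι.app i)) ≫ pullback.fst (p k) x) ≫ p k = fW i ≫ y := fun i => by
    rw [← hfW, Category.assoc, (sqx k).w, Category.assoc]
  let φY := fun i => (sqy k).lift _ _ (hφ i)
  obtain ⟨θ, hθ, hθl⟩ := exists_hom hf hue huye φY (fun i => by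
      show φY i ≫ pullback.snd (p k) y ≫ sp w = _
      rw [← Category.assoc, (sqy k).lift_snd]
      exact (Category.assoc _ _ _).trans (sqb c ux i).w)
    (fun i j g => (sqy k).hom_ext
      (by simp only [φY, Category.assoc, IsPullback.lift_fst]; rw [← Category.assoc, mm_fst])
      (by simp only [φY, fW, Category.assoc, IsPullback.lift_snd]; rw [← Category.assoc, mm_fst]))
  have hθW : θ ≫ πY = πX := etale_hom_ext hf hue hw (by rw [Category.assoc]; exact hθ) rfl fun i => by
    show _ ≫ sp θ ≫ pullback.snd (p k) y = _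
    rw [← Category.assoc, hθl, (sqy k).lift_snd]
    rfl
  have hθs : sp θ ≫ pullback.snd (p k) y = pullback.snd (p k) x := congrArg sp hθW
  let x' := pullback.fst (p k) x
  let y' := sp θ ≫ pullback.fst (p k) y
  have ex : x' ≫ (yon S).map (zk k) ≫ bk k = X.hom.hom := by
    rw [← hpw, ← Category.assoc, pullback.condition, Category.assoc, hx]
    rfl
  have ey : y' ≫ (yon S).map (zk k) ≫ bk k = X.hom.hom := by
    rw [← hpw, Category.assoc, ← Category.assoc (pullback.fst (p k) y), pullback.condition, Category.assoc, hy,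
      ← Category.assoc, hθs]
    rfl
  have hw' : ∀ (v : X.left.obj ⟶ (yon S).obj (Zk k)), v ≫ (yon S).map (zk k) ≫ bk k = X.hom.hom →
      sp ux ≫ c.pt.hom.hom = (v ≫ (yon S).map (zk k)) ≫ bk k := fun v hv => by
    rw [Category.assoc, hv]; exact sp_w ux
  let mk : ∀ (v : X.left.obj ⟶ (yon S).obj (Zk k)), v ≫ (yon S).map (zk k) ≫ bk k = X.hom.hom →
      (X ⟶ XO c (bk k)) := fun v hv =>
    mkH ((IsPullback.of_hasPullback c.pt.hom.hom (bk k)).lift (sp ux) _ (hw' v hv)) (by
      show _ ≫ pullback.fst _ _ ≫ c.pt.hom.hom = _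
      rw [← Category.assoc, IsPullback.lift_fst]
      exact sp_w ux)
  have hmk : ∀ v hv, mk v hv ≫ xp c (bk k) = ux := fun v hv => sp_ext (IsPullback.lift_fst _ _ _ _)
  have hleg : ∀ i, pullback.fst (sp ux) (sp (c.ι.app i)) ≫ x' = pullback.fst (sp ux) (sp (c.ι.app i)) ≫ y' := fun i => by
    show _ = _ ≫ sp θ ≫ pullback.fst (p k) y
    rw [← Category.assoc _ (sp θ), hθl, (sqy k).lift_fst]
  have hmeq : mk x' ex = mk y' ey := etale_hom_ext hf hue (isEtaleMor_xp c _ (hbk k)) (hmk _ ex) (hmk _ ey) fun i => by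
    apply (IsPullback.of_hasPullback c.pt.hom.hom (bk k)).hom_ext
    · simp only [mk, sp, mkH, Category.assoc]
      erw [IsPullback.lift_fst, IsPullback.lift_fst]
    · simp only [mk, sp, mkH, Category.assoc]
      erw [IsPullback.lift_snd, IsPullback.lift_snd]
      rw [← Category.assoc, hleg, Category.assoc]
  have := hZ k
  have := hB k
  have hx' : x' ≫ (yon S).map (zk k) = sp (mk x' ex) ≫ pullback.snd c.pt.hom.hom (bk k) :=
    (IsPullback.lift_snd (IsPullback.of_hasPullback c.pt.hom.hom (bk k)) _ _ _).symm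
  have hy' : y' ≫ (yon S).map (zk k) = sp (mk x' ex) ≫ pullback.snd c.pt.hom.hom (bk k) := by
    rw [hmeq]
    exact (IsPullback.lift_snd (IsPullback.of_hasPullback c.pt.hom.hom (bk k)) _ _ _).symm
  have heq : x' = y' := lift_Z_ext (bk k) (zk k) (hbk k) hl hue (hmk x' ex)
    (φ := fun i => pullback.fst (sp ux) (sp (c.ι.app i)) ≫ x')
    (fun i j g => by rw [← Category.assoc, mm_fst]) (fun i => by rw [Category.assoc, hx'])
    hx' hy' (fun i => rfl) (fun i => (hleg i).symm)
  rw [← (sqx k).w]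
  show x' ≫ p k = _
  rw [heq, Category.assoc, (sqy k).w, ← Category.assoc, hθs]

theorem exists_charts {T : Sp S} (hT : IsAlgSpace T) (qT : T ⟶ B.obj) :
    ∃ (κ : Type u) (Zk Bk : κ → Over S) (_ : ∀ k, IsAffine (Zk k).left) (_ : ∀ k, IsAffine (Bk k).left)
      (bk : ∀ k, (yon S).obj (Bk k) ⟶ B.obj) (zk : ∀ k, Zk k ⟶ Bk k) (p : ∀ k, (yon S).obj (Zk k) ⟶ T),
      (∀ k, RepWith @Etale (bk k)) ∧ (∀ k, RepWith @Etale (p k)) ∧
        (∀ k, p k ≫ qT = (yon S).map (zk k) ≫ bk k) ∧ ∀ x, ∃ k z, Points.map (p k) z = x := by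
  obtain ⟨B₀, b₀, hbe, hbs⟩ := B.property.atlas
  obtain ⟨A, a, h, hae, has, w⟩ := exists_chart_over hT B.property qT b₀ hbe hbs
  have hk : ∀ t : A.left, ∃ (O : B₀.left.Opens) (O' : A.left.Opens), IsAffineOpen O ∧ IsAffineOpen O' ∧ t ∈ O' ∧
      O' ≤ h.left ⁻¹ᵁ O := fun t => by
    obtain ⟨_, ⟨O, hO, rfl⟩, ht, -⟩ :=
      B₀.left.isBasis_affineOpens.exists_subset_of_mem_open (Set.mem_univ (h.left t)) isOpen_univ
    obtain ⟨_, ⟨O', hO', rfl⟩, ht', hle⟩ :=
      A.left.isBasis_affineOpens.exists_subset_of_mem_open (show t ∈ h.left ⁻¹ᵁ O from ht) (h.left ⁻¹ᵁ O).2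
    exact ⟨O, O', hO, hO', ht', hle⟩
  choose O O' hO hO' ht hle using hk
  have hlift : ∀ t, ∃ z : restrictOver A (O' t) ⟶ restrictOver B₀ (O t),
      z ≫ restrictOverι B₀ (O t) = restrictOverι A (O' t) ≫ h := fun t => by
    refine ⟨Over.homMk (IsOpenImmersion.lift (restrictOverι B₀ (O t)).left ((restrictOverι A (O' t)).left ≫ h.left) ?_) ?_,
      Over.OverMorphism.ext (IsOpenImmersion.lift_fac _ _ _)⟩
    · rintro _ ⟨z, rfl⟩
      exact ⟨⟨_, hle t z.2⟩, rfl⟩
    · rw [← Over.w (restrictOverι B₀ (O t)), ← Category.assoc, IsOpenImmersion.lift_fac, Category.assoc,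
        Over.w, Over.w]
  choose zk hzk using hlift
  refine ⟨A.left, fun t => restrictOver A (O' t), fun t => restrictOver B₀ (O t), hO', hO,
    fun t => (yon S).map (restrictOverι B₀ (O t)) ≫ b₀, zk, fun t => (yon S).map (restrictOverι A (O' t)) ≫ a,
    fun t => RepWith.comp ((repWith_yon_map_iff _ _).2 (inferInstanceAs (Etale (O t).ι))) hbe,
    fun t => RepWith.comp ((repWith_yon_map_iff _ _).2 (inferInstanceAs (Etale (O' t).ι))) hae,
    fun t => ?_, fun x => ?_⟩
  · rw [Category.assoc, w, ← Category.assoc, ← Functor.map_comp, ← hzk, Functor.map_comp, Category.assoc]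
  · obtain ⟨t, rfl⟩ := surjective_ofPt a has x
    refine ⟨t, Points.ofPt (𝟙 _) (⟨t, ht t⟩ : ↥(O' t)), ?_⟩
    rw [Points.map_ofPt, Category.id_comp, ofPt_map]
    rfl

theorem exists_desc (hf : Full c) (hl : AffineLift c)
    (h₁ : ∀ (D' : I ⥤ Over B) (α : D' ⟶ D),
      (∀ ⦃i j : I⦄ (g : i ⟶ j), IsPullback (D'.map g).left.hom (α.app i).left.hom (α.app j).left.hom (D.map g).left.hom) →
      (∀ i, AlgSp.IsEtaleMor (α.app i).left.hom) →
        ∃ (c' : Cocone D') (a : c'.pt ⟶ c.pt), AlgSp.IsEtaleMor a.left.hom ∧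
          ∀ i, IsPullback (c'.ι.app i).left.hom (α.app i).left.hom a.left.hom (c.ι.app i).left.hom)
    (s : Cocone D) : ∃! t : c.pt ⟶ s.pt, ∀ i, c.ι.app i ≫ t = s.ι.app i := by
  obtain ⟨κ, Zk, Bk, hZ, hB, bk, zk, p, hbk, hp, hpw, hpc⟩ := exists_charts s.pt.left.property s.pt.hom.hom
  let ZO : κ → Over B := fun k => mkO _ (IsAlgSpace.yon_obj (Zk k)) (p k ≫ s.pt.hom.hom)
  let pO : ∀ k, ZO k ⟶ s.pt := fun k => mkH (p k) rfl
  have hpe : ∀ k, IsEtaleMor (sp (pO k)) := fun k => isEtaleMor_rep (IsAlgSpace.yon_obj _) s.pt.left.property (hp k)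
  choose c' a ha sqa using fun k => h₁ (bcD s (pO k)) (bcα s (pO k))
    (fun i j g => bc_equifibred s (pO k) g) (isEtaleMor_bcα s (pO k) (hpe k))
  -- the legs on the glued spaces
  have hl' : ∀ k i, ∃ l : pullback (sp (a k)) (sp (c.ι.app i)) ⟶ pullback (sp (pO k)) (sp (s.ι.app i)),
      l ≫ sp ((c' k).ι.app i) = pullback.fst _ _ ∧ l ≫ pullback.snd _ _ = pullback.snd _ _ :=
    fun k i => (sqa k i).exists_lift _ _ (sqb c (a k) i).w
  choose l hl1 hl2 using hl'
  let φ := fun k i => l k i ≫ pullback.fst (sp (pO k)) (sp (s.ι.app i))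
  have hφn : ∀ k ⦃i j⦄ (g : i ⟶ j), mm c (a k) g ≫ φ k j = φ k i := fun k i j g => by
    have : mm c (a k) g ≫ l k j = l k i ≫ mm s (pO k) g := by
      apply (sqa k j).hom_ext
      · rw [Category.assoc, hl1, mm_fst, Category.assoc]
        refine (hl1 k i).symm.trans (congrArg (l k i ≫ ·) ?_)
        exact (congrArg sp ((c' k).w g)).symm
      · show (mm c (a k) g ≫ l k j) ≫ pullback.snd _ _ = (l k i ≫ mm s (pO k) g) ≫ pullback.snd _ _
        rw [Category.assoc, hl2, mm_snd, Category.assoc, mm_snd, ← Category.assoc, hl2]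
    show mm c (a k) g ≫ l k j ≫ _ = _
    rw [← Category.assoc, this, Category.assoc, mm_fst]
  have hφp : ∀ k i, φ k i ≫ p k = pullback.snd (sp (a k)) (sp (c.ι.app i)) ≫ sp (s.ι.app i) := fun k i => by
    show (l k i ≫ _) ≫ sp (pO k) = _
    rw [Category.assoc, (sqb s (pO k) i).w, ← Category.assoc, hl2]
  have hw2 : ∀ k i, (pullback.snd (sp (a k)) (sp (c.ι.app i)) ≫ sp (c.ι.app i)) ≫ c.pt.hom.hom =
      (φ k i ≫ (yon S).map (zk k)) ≫ bk k := fun k i => by
    rw [Category.assoc, Category.assoc (φ k i), ← hpw, ← Category.assoc (φ k i), hφp, Category.assoc]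
    exact congrArg (_ ≫ ·) ((sp_w (c.ι.app i)).trans (sp_w (s.ι.app i)).symm)
  let ψ := fun k i => (IsPullback.of_hasPullback c.pt.hom.hom (bk k)).lift _ _ (hw2 k i)
  have hm' : ∀ k, ∃ m : (c' k).pt ⟶ XO c (bk k), m ≫ xp c (bk k) = a k ∧
      ∀ i, pullback.fst (sp (a k)) (sp (c.ι.app i)) ≫ sp m = ψ k i := fun k =>
    exists_hom hf (ha k) (isEtaleMor_xp c _ (hbk k)) (ψ k) (fun i => IsPullback.lift_fst _ _ _ _) fun i j g => by
      apply (IsPullback.of_hasPullback c.pt.hom.hom (bk k)).hom_ext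
      · simp only [ψ, Category.assoc, IsPullback.lift_fst]
        rw [← Category.assoc, mm_snd, Category.assoc, cw]
      · simp only [ψ, Category.assoc, IsPullback.lift_snd]
        rw [← Category.assoc, hφn k g]
  choose m hm hmψ using hm'
  have hg' : ∀ k, ∃ g : (c' k).pt.left.obj ⟶ (yon S).obj (Zk k),
      g ≫ (yon S).map (zk k) = sp (m k) ≫ pullback.snd c.pt.hom.hom (bk k) ∧
        ∀ i, pullback.fst (sp (a k)) (sp (c.ι.app i)) ≫ g = φ k i := fun k =>
    have := hZ k
    have := hB k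
    exists_lift_Z (bk k) (zk k) (hbk k) hl (ha k) (hm k) (hφn k) fun i => by
      rw [← Category.assoc, hmψ, IsPullback.lift_snd]
  choose g hgz hgl using hg'
  let n := fun k => g k ≫ p k
  have hnq : ∀ k, n k ≫ s.pt.hom.hom = (c' k).pt.hom.hom := fun k => by
    show (g k ≫ p k) ≫ _ = _
    rw [Category.assoc, hpw, ← Category.assoc, hgz, Category.assoc, ← (IsPullback.of_hasPullback c.pt.hom.hom (bk k)).w]
    exact sp_w (m k)
  have hnl : ∀ k i, pullback.fst (sp (a k)) (sp (c.ι.app i)) ≫ n k =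
      pullback.snd (sp (a k)) (sp (c.ι.app i)) ≫ sp (s.ι.app i) := fun k i => by
    rw [← Category.assoc, hgl, hφp]
  -- the glued spaces cover
  let O : Set (Points c.pt.left.obj) := ⋃ k, Set.range (Points.map (sp (a k)))
  have hO : IsOpen O := isOpen_iUnion fun k =>
    (isOpenMap_map_of_isEtaleMor (c' k).pt.left.property (ha k)).isOpen_range
  let V : Over B := mkO _ (isAlgSpace_openSubspace c.pt.left.property hO) (openSubspaceι _ O ≫ c.pt.hom.hom)
  let v : V ⟶ c.pt := mkH (openSubspaceι _ O) rfl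
  have hv : IsEtaleMor (sp v) :=
    Induct.isEtaleMor_of_openImm V.left.property c.pt.left.property (repWith_openSubspaceι _ hO)
  have hfac : ∀ i, ∃ f, f ≫ openSubspaceι c.pt.left.obj O = sp (c.ι.app i) := fun i => by
    refine (exists_lift_iff_range_subset (repWith_openSubspaceι _ hO) _).2 ?_
    rw [range_openSubspaceι]
    rintro _ ⟨y, rfl⟩
    obtain ⟨k, z, hz⟩ := hpc (Points.map (sp (s.ι.app i)) y)
    obtain ⟨t, -, ht⟩ := exists_point_of_isPullback (sqb s (pO k) i) hz
    refine Set.mem_iUnion.2 ⟨k, Points.map (sp ((c' k).ι.app i)) t, ?_⟩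
    rw [← ht, ← Points.map_comp, ← Points.map_comp]
    exact congrArg (fun f => Points.map f t) (sqa k i).w
  choose f hf' using hfac
  have hone : IsEtaleMor (sp (𝟙 c.pt)) :=
    isEtaleMor_rep c.pt.left.property c.pt.left.property (MorphismProperty.id_mem _ _)
  obtain ⟨mv, hmv, -⟩ := exists_hom hf hone hv (fun i => pullback.snd (sp (𝟙 c.pt)) (sp (c.ι.app i)) ≫ f i)
    (fun i => by
      show (_ ≫ f i) ≫ openSubspaceι _ O = _
      rw [Category.assoc, hf'])
    fun i j g => (cancel_mono (openSubspaceι c.pt.left.obj O)).1 (by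
      simp only [Category.assoc]
      rw [hf', hf', ← Category.assoc, mm_snd, Category.assoc, cw])
  have hsurj : ∀ x, ∃ k w, Points.map (sp (a k)) w = x := fun x => by
    have hx : x ∈ O := by
      rw [← range_openSubspaceι c.pt.left.obj O]
      refine ⟨Points.map (sp mv) x, ?_⟩
      rw [← Points.map_comp, show sp mv ≫ openSubspaceι _ O = 𝟙 _ from congrArg sp hmv, Points.map_id]
    exact Set.mem_iUnion.1 hx
  have hae : ∀ k, IsEtaleMor (sp (a k)) := ha
  -- charts of the cover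
  choose A q hqe hqs using fun k => (c' k).pt.left.property.atlas
  obtain ⟨t, ht⟩ := descend_family c.pt.left.property (fun k => q k ≫ sp (a k)) (fun k => ha k (q k) (hqe k))
    (fun x => by
      obtain ⟨k, w, rfl⟩ := hsurj x
      obtain ⟨v', rfl⟩ := surjective_ofPt (q k) (hqs k) w
      exact ⟨k, v', (Points.map_ofPt _ _ _).symm⟩)
    (fun k => q k ≫ n k) fun k l P r₁ r₂ _ hr e => by
      let R := IsPullback.of_hasPullback (sp (a k)) (sp (a l))
      have hR : IsAlgSpace (pullback (sp (a k)) (sp (a l))) :=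
        isAlgSpace_of_isPullback c.pt.left.property.diag (c' k).pt.left.property (c' l).pt.left.property R
      let RO : Over B := mkO _ hR (pullback.fst (sp (a k)) (sp (a l)) ≫ (c' k).pt.hom.hom)
      let π : RO ⟶ (c' k).pt := mkH (pullback.fst _ _) rfl
      have hw : IsEtaleMor (sp (π ≫ a k)) := Induct.isEtaleMor_comp hR (c' k).pt.left.property c.pt.left.property
        (isEtaleMor_bc (c' l).pt.left.property c.pt.left.property hR (c' k).pt.left.property R.flip (ha l)) (ha k)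
      have : pullback.fst (sp (a k)) (sp (a l)) ≫ n k = pullback.snd (sp (a k)) (sp (a l)) ≫ n l := by
        refine leg_ext hf hl s.pt.left.property s.pt.hom.hom Zk Bk hZ hB bk hbk zk p hp hpw hpc
          (fun i => sp (s.ι.app i)) (W := RO) (w := π ≫ a k) hw ?_ ?_ (fun i => ?_) fun i => ?_
        · rw [Category.assoc, hnq]; rfl
        · rw [Category.assoc, hnq]
          show _ = pullback.fst _ _ ≫ (c' k).pt.hom.hom
          rw [← sp_w (a k), ← sp_w (a l), ← Category.assoc, ← Category.assoc, R.w]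
        · obtain ⟨j, hj1, hj2⟩ := (sqb c (a k) i).exists_lift
            (pullback.fst (sp (π ≫ a k)) (sp (c.ι.app i)) ≫ pullback.fst (sp (a k)) (sp (a l))) (pullback.snd _ _)
            ((Category.assoc _ _ _).trans (sqb c (π ≫ a k) i).w)
          rw [← Category.assoc, ← hj1, Category.assoc, hnl, ← Category.assoc, hj2]
        · obtain ⟨j, hj1, hj2⟩ := (sqb c (a l) i).exists_lift
            (pullback.fst (sp (π ≫ a k)) (sp (c.ι.app i)) ≫ pullback.snd (sp (a k)) (sp (a l))) (pullback.snd _ _)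
            (by rw [Category.assoc, ← R.w]; exact (sqb c (π ≫ a k) i).w)
          rw [← Category.assoc, ← hj1, Category.assoc, hnl, ← Category.assoc, hj2]
      obtain ⟨j, hj1, hj2⟩ := R.exists_lift ((yon S).map r₁ ≫ q k) ((yon S).map r₂ ≫ q l)
        (by simpa only [Category.assoc] using e)
      rw [← Category.assoc, ← hj1, Category.assoc, this, ← Category.assoc, hj2, Category.assoc]
  have hqepi : ∀ k, Epi (q k) := fun k => epi_of_etale_surjective (hqe k) (hqs k)
  have hat : ∀ k, sp (a k) ≫ t = n k := fun k => by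
    have := hqepi k
    rw [← cancel_epi (q k), ← Category.assoc, ht]
  have htq : t ≫ s.pt.hom.hom = c.pt.hom.hom :=
    jointly_epi c.pt.left.property (fun k => (c' k).pt.left.property) (fun k => sp (a k)) hae hsurj fun k => by
      rw [← Category.assoc, hat, hnq, sp_w]
  have hts : ∀ i, sp (c.ι.app i) ≫ t = sp (s.ι.app i) := fun i => by
    refine jointly_epi (D.obj i).left.property (fun k => isAlgSpace_bc c (a k) i)
      (fun k => pullback.snd (sp (a k)) (sp (c.ι.app i))) (fun k => isEtaleMor_bcα c (a k) (ha k) i) (fun x => ?_)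
      fun k => ?_
    · obtain ⟨k, w, hw⟩ := hsurj (Points.map (sp (c.ι.app i)) x)
      obtain ⟨z, -, hz⟩ := exists_point_of_isPullback (sqb c (a k) i) hw
      exact ⟨k, z, hz⟩
    · rw [← Category.assoc, ← (sqb c (a k) i).w, Category.assoc, hat, hnl]
  refine ⟨mkH t htq, fun i => sp_ext (hts i), fun t' ht' => sp_ext ?_⟩
  have e : ∀ i, pullback.fst (sp (𝟙 c.pt)) (sp (c.ι.app i)) =
      pullback.snd (sp (𝟙 c.pt)) (sp (c.ι.app i)) ≫ sp (c.ι.app i) := fun i =>
    (Category.comp_id _).symm.trans (sqb c (𝟙 c.pt) i).w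
  refine leg_ext hf hl s.pt.left.property s.pt.hom.hom Zk Bk hZ hB bk hbk zk p hp hpw hpc
    (fun i => sp (s.ι.app i)) (W := c.pt) (w := 𝟙 c.pt) hone (sp_w t') htq (fun i => ?_) fun i => ?_
  · rw [e, Category.assoc, show sp (c.ι.app i) ≫ sp t' = sp (s.ι.app i) from congrArg sp (ht' i)]
  · rw [e, Category.assoc]
    exact congrArg (_ ≫ ·) (hts i)

end

/-- Let `B` be an algebraic space over `S`, `D : I ⥤ Over B` a diagram of algebraic spaces over `B` and
`c` a cocone. Assume (1) the base change functor from algebraic spaces etale over `c.pt` to systems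
of algebraic spaces etale over the `D_i` with cartesian transition squares is an equivalence: every
such system is the base change of some etale `U → c.pt`, and every morphism between the base-change
systems of two etale `U, U' → c.pt` comes from a unique morphism `U → U'` over `c.pt`; and (2) for
every affine scheme `B'` etale over `B`, affine scheme `Z` over `B'`, affine scheme `U` etale over
`c.pt ×_B B'` and cocone of morphisms `U ×_{c.pt} D_i → Z` over `B'`, there is a unique `U → Z` over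
`B'` inducing it. Then `c` is a colimit in algebraic spaces over `B`. -/
theorem result {S : Scheme.{u}} {B : AlgSp.Space S} {I : Type v} [Category.{w} I]
    (D : I ⥤ Over B) (c : Cocone D)
    (h₁ : ∀ (D' : I ⥤ Over B) (α : D' ⟶ D),
      (∀ ⦃i j : I⦄ (g : i ⟶ j), IsPullback (D'.map g).left.hom (α.app i).left.hom (α.app j).left.hom (D.map g).left.hom) →
      (∀ i, AlgSp.IsEtaleMor (α.app i).left.hom) →
        ∃ (c' : Cocone D') (a : c'.pt ⟶ c.pt), AlgSp.IsEtaleMor a.left.hom ∧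
          ∀ i, IsPullback (c'.ι.app i).left.hom (α.app i).left.hom a.left.hom (c.ι.app i).left.hom)
    (h₁' : ∀ (U U' : Over B) (u : U ⟶ c.pt) (u' : U' ⟶ c.pt), AlgSp.IsEtaleMor u.left.hom → AlgSp.IsEtaleMor u'.left.hom →
      ∀ (DU DU' : I ⥤ Over B) (αU : DU ⟶ D) (αU' : DU' ⟶ D) (ιU : DU ⟶ (Functor.const I).obj U)
        (ιU' : DU' ⟶ (Functor.const I).obj U'),
        (∀ i, IsPullback (ιU.app i).left.hom (αU.app i).left.hom u.left.hom (c.ι.app i).left.hom) →
        (∀ i, IsPullback (ιU'.app i).left.hom (αU'.app i).left.hom u'.left.hom (c.ι.app i).left.hom) →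
        ∀ (β : DU ⟶ DU'), β ≫ αU' = αU →
          ∃! m : U ⟶ U', m ≫ u' = u ∧ ∀ i, ιU.app i ≫ m = β.app i ≫ ιU'.app i)
    (h₂ : ∀ (B' Zs Us : Over S) (b : (AlgSp.yon S).obj B' ⟶ B.obj) (z : Zs ⟶ B') {XB : AlgSp.Space S}
      (x₁ : XB ⟶ c.pt.left) (x₂ : XB.obj ⟶ (AlgSp.yon S).obj B') (uu : (AlgSp.yon S).obj Us ⟶ XB.obj)
      (DU : I ⥤ AlgSp.Space S) (αU : DU ⟶ D ⋙ Over.forget B)
      (ιU : DU ⟶ (Functor.const I).obj ((AlgSp.ofScheme S).obj Us))
      (φ : DU ⟶ (Functor.const I).obj ((AlgSp.ofScheme S).obj Zs)),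
      IsAffine B'.left → IsAffine Zs.left → IsAffine Us.left → AlgSp.RepWith @Etale b →
      IsPullback x₁.hom x₂ c.pt.hom.hom b → AlgSp.RepWith @Etale uu →
      (∀ i, IsPullback (ιU.app i).hom (αU.app i).hom (uu ≫ x₁.hom) (c.ι.app i).left.hom) →
      (∀ i, (φ.app i).hom ≫ (AlgSp.yon S).map z = (ιU.app i).hom ≫ uu ≫ x₂) →
        ∃! fz : Us ⟶ Zs, (AlgSp.yon S).map fz ≫ (AlgSp.yon S).map z = uu ≫ x₂ ∧
          ∀ i, (ιU.app i).hom ≫ (AlgSp.yon S).map fz = (φ.app i).hom) :
    Nonempty (IsColimit c) := by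
  choose t ht htu using fun s => exists_desc (c := c) h₁' h₂ h₁ s
  exact ⟨{ desc := t, fac := ht, uniq := htu }⟩

end Groth.Agent.S10730
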