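import Groth.Statements.S10733
import Groth.Agent.AlgSpLib.ProperStage
import Groth.Agent.H8Lim.ChowPn
-- import your own Groth.Agent.* helpers here

set_option autoImplicit false
universe u
open CategoryTheory CategoryTheory.Limits AlgebraicGeometry Opposite
open AlgSp

namespace Groth.Agent.S10733

open Groth.Agent.AlgSpLib

set_option backward.isDefEq.respectTransparency false
set_option backward.isDefEq.respectTransparency.types false
set_option linter.style.haveILetI false

/-- Let S be an affine scheme and X an algebraic space over S whose structure morphism p to h_S (S over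
itself by the identity) is separated and of finite type. Then there are a scheme X' over S whose
structure morphism X' ⟶ S is H-quasi-projective (a quasi-compact immersion into some projective
space over S) and a proper surjective morphism h_{X'} ⟶ X. -/
theorem result {S : Scheme.{u}} [IsAffine S] (X : AlgSp.Space S)
    (p : X.obj ⟶ (AlgSp.yon S).obj (Over.mk (𝟙 S)))
    (hsep : AlgSp.IsSeparatedMor p) (hft : AlgSp.IsFiniteTypeMor p) :
    ∃ (T : Over S) (g : (AlgSp.yon S).obj T ⟶ X.obj),
      RelProj.IsHQuasiProjective T.hom ∧ AlgSp.IsProperMor g ∧ AlgSp.IsSurjectiveMor g := by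
  have hT : IsTerminal ((yon S).obj (Over.mk (𝟙 S))) := IsTerminal.isTerminalObj (yon S) _ Over.mkIdTerminal
  have hS := IsAlgSpace.yon_obj (Over.mk (𝟙 S))
  haveI : IsAffine (Over.mk (𝟙 S)).left := ‹IsAffine S›
  have hSc : IsQuasiCompactSp ((yon S).obj (Over.mk (𝟙 S))) := Stk19.isQuasiCompactSp_yon _
  have hXc : IsQuasiCompactSp X.obj := OpenFac.isQuasiCompactSp_of_mor X.property hS hft.2 hSc
  have hXs : IsQuasiSeparatedSp X.obj := (isQuasiSeparatedMor_iff_sp p).1
    (isQuasiSeparatedMor_of_isSeparatedMor hsep)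
  haveI := compactSpace_points_of_isQuasiCompactSp hXc
  obtain ⟨U, q, -, hqe, hqs⟩ := exists_affine_chart X.property
  obtain ⟨W, h, hh, hhs, -, -⟩ := Groth.Agent.S10048.result S X hXc hXs U q hqe hqs
  have hW := IsAlgSpace.yon_obj W
  have hhp : IsProperMor h := ((Groth.Agent.S10271.result (X := (AlgSp.ofScheme S).obj W) (Y := X)
    (ObjectProperty.homMk h)).1 hh).2
  let w : W ⟶ Over.mk (𝟙 S) := Over.homMk W.hom
  have e : h ≫ p = (yon S).map w := hT.hom_ext _ _
  haveI : IsSeparated W.hom :=
    (isSeparatedMor_yon_map_iff w).1 (e ▸ isSeparatedMor_comp hhp.1 hsep)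
  haveI : LocallyOfFiniteType W.hom := locP_yon_map (g := w)
    (e ▸ locP_comp etLocal_lft hW X.property hS hhp.2.1.1 hft.1)
  haveI : QuasiCompact W.hom := (repWith_yon_map_iff @QuasiCompact w).1 ((repWith_quasiCompact_iff hW hS
    (hS.representable_from_yon _)).2 (e ▸ isQuasiCompactMor_comp hW X.property hS hhp.2.1.2 hft.2))
  obtain ⟨n, X', π, j, hj, hjs, hπ, hπs⟩ := Groth.Agent.H8Lim.ChowPn.exists_chow_pn_surjective W.hom
  let T : Over S := Over.mk (π ≫ W.hom)
  let π' : T ⟶ W := Over.homMk π
  refine ⟨T, (yon S).map π' ≫ h, ⟨n, j, hj, ?_, hjs⟩,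
    isProperMor_comp (IsAlgSpace.yon_obj _) hW X.property ((isProperMor_yon_map_iff' π').2 hπ) hhp, ?_⟩
  · haveI : QuasiSeparated (CohB1.ProjSpaceOver.toBase n S) :=
      haveI := Groth.Agent.H8Lim.ChowPn.isProper_of_isHProjective (Groth.Agent.H8Lim.ChowPn.isHProjective_toBase (S := S) n)
      inferInstance
    haveI : QuasiCompact (j ≫ CohB1.ProjSpaceOver.toBase n S) := hjs ▸ inferInstance
    exact QuasiCompact.of_comp j (CohB1.ProjSpaceOver.toBase n S)
  · show Function.Surjective (Points.map _)
    intro x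
    obtain ⟨y, rfl⟩ := hhs x
    obtain ⟨z, rfl⟩ := surjective_map_of_repWith ((repWith_yon_map_iff @Surjective π').2 hπs) y
    exact ⟨z, Points.map_comp _ _ _⟩

end Groth.Agent.S10733
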