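import Groth.Statements.S1074
import Groth.Agent.Dual22Lib.PerfGen

set_option autoImplicit false
universe u
open CategoryTheory CategoryTheory.Limits AlgebraicGeometry
attribute [local instance] HasDerivedCategory.standard
open Perf

namespace Groth.Agent.S1074

open CategoryTheory CategoryTheory.Limits AlgebraicGeometry Groth.Agent.Dual22Lib


/-- Let X be a quasi-compact and quasi-separated scheme and T ⊆ X a closed subset whose complement is
quasi-compact and nonempty. Then there is a perfect object P of D(O_X) with quasi-coherent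
cohomology sheaves supported on T such that an object E of D(O_X) with quasi-coherent cohomology
sheaves supported on T is zero if and only if every morphism P[n] → E, n ∈ ℤ, is zero. The case T =
X is a separate statement. -/
theorem result (X : Scheme.{u}) [CompactSpace ↥X] [QuasiSeparatedSpace ↥X]
    (T : Set X) (hT : IsClosed T) (hTc : IsCompact Tᶜ) (hTne : Tᶜ.Nonempty) :
    ∃ P : DCoh.D X, DCoh.IsPerfect P ∧ DCoh.IsQCohD P ∧ (∀ i : ℤ, CohB1.support (DCoh.HD P i) ⊆ T) ∧
      ∀ E : DCoh.D X, DCoh.IsQCohD E → (∀ i : ℤ, CohB1.support (DCoh.HD E i) ⊆ T) →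
        (IsZero E ↔ ∀ (n : ℤ) (φ : P⟦n⟧ ⟶ E), φ = 0) := by
  let O : X.Opens := ⟨Tᶜ, hT.isOpen_compl⟩
  have hsupp : ∀ E : DCoh.D X, AdjGeom.killed O.ι E ↔ ∀ i : ℤ, CohB1.support (DCoh.HD E i) ⊆ T := fun E => by
    rw [AdjGeom.killed_iff]
    refine forall_congr' fun i => ?_
    simp only [Scheme.Opens.opensRange_ι]
    constructor
    · intro h x hx
      by_contra hxT
      exact hx (h x hxT)
    · intro h x hx
      by_contra hs
      exact hx (h hs)
  obtain ⟨P, hP, hk, hd⟩ := PerfGen.gen (X := X) O hTc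
  exact ⟨P, hP, PerfLift.isQCohD_perfect hP, (hsupp P).1 hk, fun E hE hET =>
    ⟨fun h n φ => h.eq_of_tgt _ _, hd E hE ((hsupp E).2 hET)⟩⟩

end Groth.Agent.S1074
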