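import Groth.Statements.S10742
import Groth.Agent.AlgSpLib.QCohEtFP
-- import your own Groth.Agent.* helpers here

set_option autoImplicit false
universe u
open CategoryTheory CategoryTheory.Limits AlgebraicGeometry Opposite
open AlgSp

namespace Groth.Agent.S10742

/-- Let X be a locally Noetherian algebraic space over S and φ : M ⟶ N a morphism of coherent
O_X-modules on the small etale site of X (coherent meaning of finite presentation, X being locally
Noetherian). Then the kernel and the cokernel of φ are coherent. -/
theorem result {S : Scheme.{u}} (X : AlgSp.Space S)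
    (hX : AlgSp.IsLocNoethSp X.obj) {M N : AlgSp.ModEt X.obj} [M.IsFinitePresentation] [N.IsFinitePresentation]
    (φ : M ⟶ N) :
    (kernel φ).IsFinitePresentation ∧ (cokernel φ).IsFinitePresentation := by
---
  refine ⟨?_, ?_⟩
  · refine Groth.Agent.AlgSpLib.QCohEt.isFinitePresentation_of_forall _
      (fun E hE => by
        haveI := hE
        exact Groth.Agent.AlgSpLib.QCohEt.isBC_kernel (kernel.condition φ) (kernelIsKernel φ) E
          (Groth.Agent.AlgSpLib.QCohEt.isBC M E) (Groth.Agent.AlgSpLib.QCohEt.isBC N E))
      (fun E hE => ?_)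
    haveI := hE
    haveI := Groth.Agent.AlgSpLib.QCohEt.isNoetherianRing_ΓE hX E
    haveI := Groth.Agent.AlgSpLib.QCohEt.finite_sec M E
    haveI := Module.Finite.of_injective _
      (Groth.Agent.AlgSpLib.QCohEt.ker_sec (kernel.condition φ) (kernelIsKernel φ) E).1
    exact Module.finitePresentation_of_finite _ _
  · refine Groth.Agent.AlgSpLib.QCohEt.isFinitePresentation_of_forall _
      (fun E hE => by
        haveI := hE
        exact (Groth.Agent.AlgSpLib.QCohEt.cokernel_sec φ E
          (Groth.Agent.AlgSpLib.QCohEt.isBC M E) (Groth.Agent.AlgSpLib.QCohEt.isBC N E)).1)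
      (fun E hE => ?_)
    haveI := hE
    haveI := Groth.Agent.AlgSpLib.QCohEt.isNoetherianRing_ΓE hX E
    haveI := Groth.Agent.AlgSpLib.QCohEt.finite_sec N E
    haveI := Module.Finite.of_surjective _ (Groth.Agent.AlgSpLib.QCohEt.cokernel_sec φ E
      (Groth.Agent.AlgSpLib.QCohEt.isBC M E) (Groth.Agent.AlgSpLib.QCohEt.isBC N E)).2
    exact Module.finitePresentation_of_finite _ _

end Groth.Agent.S10742
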