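import Groth.Statements.S10743
import Groth.Agent.AlgSpLib.QCohEtExt
-- import your own Groth.Agent.* helpers here

set_option autoImplicit false
universe u
open CategoryTheory CategoryTheory.Limits AlgebraicGeometry Opposite
open AlgSp

namespace Groth.Agent.S10743

open Groth.Agent.AlgSpLib.QCohEt in
theorem aux {S : Scheme.{u}} {X : AlgSp.Sp S} (hX : AlgSp.IsLocNoethSp X) {A B C : AlgSp.ModEt X}
    {f : A ⟶ B} {g : B ⟶ C} (w : f ≫ g = 0) (hk : IsLimit (KernelFork.ofι f w)) [Epi g]
    [A.IsFinitePresentation] [C.IsFinitePresentation] : B.IsFinitePresentation := by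
  refine isFinitePresentation_of_sec B fun E hE => ?_
  haveI := hE
  haveI := finite_sec C E
  obtain ⟨ι, Z, k, hcov, h⟩ := exists_cover_surjective g E (isBC C E)
  refine ⟨ULift.{u + 1} ι, fun i => Z i.down, fun i => k i.down, fun x => ?_, fun i => ?_⟩
  · obtain ⟨i, hi⟩ := hcov x
    exact ⟨⟨i⟩, hi⟩
  obtain ⟨hZ, hsur⟩ := h i.down
  haveI := hZ
  refine ⟨hZ, isBC_middle w hk _ (isBC A _) (isBC C _) hsur, ?_⟩
  haveI := isNoetherianRing_ΓE hX (Z i.down)
  haveI := finite_sec A (Z i.down)
  haveI := finite_sec C (Z i.down)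
  haveI := isNoetherian_of_range_eq_ker (secMap f (Z i.down)) (secMap g (Z i.down))
    (LinearMap.exact_iff.1 (ker_sec w hk (Z i.down)).2).symm
  exact Module.finitePresentation_of_finite _ _

/-- Let X be a locally Noetherian algebraic space over S and 0 ⟶ M₁ ⟶ M₂ ⟶ M₃ ⟶ 0 a short exact sequence
of O_X-modules on the small etale site of X with M₁ and M₃ coherent (of finite presentation, X being
locally Noetherian). Then M₂ is coherent. -/
theorem result {S : Scheme.{u}} (X : AlgSp.Space S)
    (hX : AlgSp.IsLocNoethSp X.obj) (T : ShortComplex (AlgSp.ModEt X.obj)) (hT : T.ShortExact)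
    [T.X₁.IsFinitePresentation] [T.X₃.IsFinitePresentation] :
    T.X₂.IsFinitePresentation := by
  haveI := hT.mono_f
  haveI := hT.epi_g
  exact aux hX T.zero hT.exact.fIsKernel

end Groth.Agent.S10743
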