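import Groth.Statements.S10745
import Groth.Agent.AlgSpLib.QCohEtFP
-- import your own Groth.Agent.* helpers here

set_option autoImplicit false
universe u
open CategoryTheory CategoryTheory.Limits AlgebraicGeometry Opposite
open AlgSp

namespace Groth.Agent.S10745

/-- Let X be a locally Noetherian algebraic space over S, M a coherent O_X-module on the small etale
site of X (of finite presentation, X being locally Noetherian) and M ⟶ Q an epimorphism with Q
quasi-coherent. Then Q is coherent. -/
theorem result {S : Scheme.{u}} (X : AlgSp.Space S)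
    (hX : AlgSp.IsLocNoethSp X.obj) {M Q : AlgSp.ModEt X.obj} [M.IsFinitePresentation] (π : M ⟶ Q) [Epi π]
    [Q.IsQuasicoherent] :
    Q.IsFinitePresentation := by
---
  obtain ⟨σ, hσ⟩ := SheafOfModules.IsFiniteType.exists_localGeneratorsData (M := M)
  haveI : ∀ i, Epi ((SheafOfModules.overFunctor.{u + 1} (AlgSp.OEtRing X.obj) (σ.X i)).map π) := fun i => by
    haveI := (SheafOfModules.overPushforwardOverAdj (R := AlgSp.OEtRing X.obj) (σ.X i)).isLeftAdjoint
    exact inferInstanceAs (Epi ((SheafOfModules.pushforward (𝟙 _)).map π))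
  haveI : Q.IsFiniteType := by
    refine @SheafOfModules.IsFiniteType.mk _ _ _ (AlgSp.OEtRing X.obj) _ _ Q ⟨@SheafOfModules.LocalGeneratorsData.mk _ _ _
      (AlgSp.OEtRing X.obj) Q _ _ σ.I σ.X σ.coversTop
      (fun i => (σ.generators i).ofEpi ((SheafOfModules.overFunctor (AlgSp.OEtRing X.obj) (σ.X i)).map π)), ?_⟩
    refine @SheafOfModules.LocalGeneratorsData.IsFiniteType.mk _ _ _ (AlgSp.OEtRing X.obj) Q _ _ _ fun i => ?_
    haveI := hσ.isFiniteType i
    exact inferInstanceAs (((σ.generators i).ofEpi
      ((SheafOfModules.overFunctor (AlgSp.OEtRing X.obj) (σ.X i)).map π)).IsFiniteType)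
  exact Groth.Agent.AlgSpLib.QCohEt.isFinitePresentation_of_finiteType Q hX

end Groth.Agent.S10745
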