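import Groth.Statements.S10746
import Groth.Agent.AlgSpLib.QCohEtPush
-- import your own Groth.Agent.* helpers here

set_option autoImplicit false
universe u
open CategoryTheory CategoryTheory.Limits AlgebraicGeometry Opposite
open AlgSp

namespace Groth.Agent.S10746

/-- Take a finite morphism f : X ⟶ Y of algebraic spaces over S whose target Y is locally Noetherian;
such a morphism is representable, and the representability is carried as a hypothesis. Let M be a
coherent O_X-module on the small etale site of X (of finite presentation; X is locally Noetherian as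
well). Then the O_Y-module f_* M is coherent (of finite presentation). (The vanishing of R^p f_* M
for p > 0, which holds for every integral morphism and every abelian sheaf, is not repeated here.) -/
theorem result {S : Scheme.{u}} {X Y : AlgSp.Space S} (f : X ⟶ Y)
    (hf : AlgSp.Representable f.hom) (hfin : AlgSp.IsFiniteMor f.hom) (hY : AlgSp.IsLocNoethSp Y.obj)
    (M : AlgSp.ModEt X.obj) [M.IsFinitePresentation] :
    ((AlgSp.pushModEt hf).obj M).IsFinitePresentation := by
---
  have haff : AlgSp.IsAffineMor f.hom := fun Z hZ g => by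
    obtain ⟨W, i, fst, sq, hW, -⟩ := hfin hZ g
    exact ⟨W, i, fst, sq, hW⟩
  refine Groth.Agent.AlgSpLib.QCohEt.isFinitePresentation_of_forall _
    (fun E hE => by haveI := hE; exact Groth.Agent.AlgSpLib.QCohEt.isBC_push hf haff M E) (fun E hE => ?_)
  haveI := hE
  haveI := Groth.Agent.AlgSpLib.QCohEt.isAff_bcObj hf haff E
  haveI := Groth.Agent.AlgSpLib.QCohEt.isNoetherianRing_ΓE hY E
  let B := Groth.Agent.AlgSpLib.QCohEt.ΓE (AlgSp.EtOver.bcObj hf E)
  let N := Groth.Agent.AlgSpLib.QCohEt.Sec M (AlgSp.EtOver.bcObj hf E)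
  letI := (Groth.Agent.AlgSpLib.QCohEt.bcΓ hf E).toAlgebra
  haveI : Module.Finite (Groth.Agent.AlgSpLib.QCohEt.ΓE E) B :=
    Groth.Agent.AlgSpLib.QCohEt.finite_bcΓ hf hfin E
  letI : Module (Groth.Agent.AlgSpLib.QCohEt.ΓE E) N :=
    (inferInstance : Module _ (Groth.Agent.AlgSpLib.QCohEt.Sec ((AlgSp.pushModEt hf).obj M) E))
  haveI : IsScalarTower (Groth.Agent.AlgSpLib.QCohEt.ΓE E) B N := IsScalarTower.of_algebraMap_smul fun a m => rfl
  haveI := Groth.Agent.AlgSpLib.QCohEt.finite_sec M (AlgSp.EtOver.bcObj hf E)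
  haveI : Module.Finite (Groth.Agent.AlgSpLib.QCohEt.ΓE E) (Groth.Agent.AlgSpLib.QCohEt.Sec ((AlgSp.pushModEt hf).obj M) E) :=
    Module.Finite.trans (R := Groth.Agent.AlgSpLib.QCohEt.ΓE E) B N
  exact Module.finitePresentation_of_finite _ _

end Groth.Agent.S10746
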