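import Groth.Statements.S10747
import Groth.Agent.AlgSpLib.QCohEtExt
-- import your own Groth.Agent.* helpers here

set_option autoImplicit false
universe u
open CategoryTheory CategoryTheory.Limits AlgebraicGeometry Opposite
open AlgSp

namespace Groth.Agent.S10747

open Groth.Agent.AlgSpLib.QCohEt in
theorem secMap_surjective_of_le {S : Scheme.{u}} {X : AlgSp.Sp S} (hX : IsAlgSpace X) {A B : AlgSp.ModEt X}
    [A.IsQuasicoherent] [B.IsQuasicoherent] (f : A ⟶ B) [Mono f] {I : Type*} (F : I → AlgSp.EtOver X)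
    (hF : ∀ i, IsAff (F i)) (hcov : ∀ x : AlgSp.Points X, ∃ i, x ∈ Set.range (AlgSp.Points.ofPt (F i).obj.hom))
    (h : ∀ i, Function.Surjective (secMap f (F i))) : IsIso f := by
  refine isIso_of_bijective_aff f fun E hE => ⟨?_, fun y => ?_⟩
  · exact (ModuleCat.mono_iff_injective ((SheafOfModules.forget _ ⋙
      PresheafOfModules.evaluation _ (Opposite.op E)).map f)).1 inferInstance
  haveI := hE
  have hloc : ∀ x : E.obj.left.left, ∃ (Z : AlgSp.EtOver X) (g : Z ⟶ E),
      x ∈ Set.range g.hom.left.left ∧ Function.Surjective (secMap f Z) := by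
    intro x
    obtain ⟨i, u, hu⟩ := hcov (AlgSp.Points.ofPt E.obj.hom x)
    haveI := hF i
    obtain ⟨Z, hZ, a, b, z, hza, -⟩ := exists_common_refinement hX hu.symm
    haveI := hZ
    exact ⟨Z, a, ⟨z, hza⟩, surjective_lTensor_secMap f (Over.mk b) (isBC B (F i) (Over.mk b) hZ).surjective (h i)⟩
  choose Z g hx hs using hloc
  choose a ha using fun x => hs x (mapSec B (g x) y)
  have hinj : ∀ V : AlgSp.EtOver X, Function.Injective (secMap f V) := fun V =>
    (ModuleCat.mono_iff_injective ((SheafOfModules.forget _ ⋙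
      PresheafOfModules.evaluation _ (Opposite.op V)).map f)).1 inferInstance
  obtain ⟨s, hs'⟩ := exists_mapSec_eq' A g (fun x => ⟨x, hx x⟩) a fun j k => by
    refine hinj _ ?_
    rw [← mapSec_secMap, ← mapSec_secMap, ha, ha, ← mapSec_comp, ← mapSec_comp, AlgSp.EtOver.pullback_condition]
  exact ⟨s, mapSec_ext B g (fun x => ⟨x, hx x⟩) _ _ fun j => by rw [mapSec_secMap, hs', ha]⟩

/-- Let X be a Noetherian algebraic space over S (quasi-compact, quasi-separated, locally Noetherian)
and M a coherent O_X-module on the small etale site of X (of finite presentation, X being locally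
Noetherian). Then every increasing sequence N₁ ≤ N₂ ≤ … of subobjects of M whose underlying modules
are quasi-coherent is eventually constant. -/
theorem result {S : Scheme.{u}} (X : AlgSp.Space S)
    (hqc : AlgSp.IsQuasiCompactSp X.obj) (hqs : AlgSp.IsQuasiSeparatedSp X.obj) (hN : AlgSp.IsLocNoethSp X.obj)
    (M : AlgSp.ModEt X.obj) [M.IsFinitePresentation] (N : ℕ →o Subobject M)
    (hq : ∀ n, (Subobject.underlying.obj (N n)).IsQuasicoherent) :
    ∃ n, ∀ m, n ≤ m → N m = N n := by
  haveI := fun n => hq n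
  haveI hM : M.IsQuasicoherent := inferInstance
  have hcomp : CompactSpace (AlgSp.Points X.obj) :=
    Groth.Agent.AlgSpLib.compactSpace_points_of_isQuasiCompactSp hqc
  choose F hF u hu using fun x : AlgSp.Points X.obj => Groth.Agent.AlgSpLib.QCohEt.exists_affine_chart X.property x
  obtain ⟨t, ht⟩ := (hcomp.isCompact_univ).elim_finite_subcover
    (fun x => Set.range (AlgSp.Points.ofPt (F x).obj.hom))
    (fun x => by
      rw [← Set.image_univ]
      exact Groth.Agent.AlgSpLib.isOpenMap_ofPt _ (F x).property _ isOpen_univ)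
    (fun x _ => Set.mem_iUnion.2 ⟨x, u x, hu x⟩)
  classical
  have hstab : ∀ x : AlgSp.Points X.obj, ∃ n, ∀ m, n ≤ m →
      LinearMap.range (Groth.Agent.AlgSpLib.QCohEt.secMap (N m).arrow (F x)) =
        LinearMap.range (Groth.Agent.AlgSpLib.QCohEt.secMap (N n).arrow (F x)) := by
    intro x
    haveI := hF x
    haveI := Groth.Agent.AlgSpLib.QCohEt.isNoetherianRing_ΓE hN (F x)
    haveI := Groth.Agent.AlgSpLib.QCohEt.finite_sec M (F x)
    let c : ℕ →o Submodule _ (Groth.Agent.AlgSpLib.QCohEt.Sec M (F x)) :=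
      { toFun := fun n => LinearMap.range (Groth.Agent.AlgSpLib.QCohEt.secMap (N n).arrow (F x))
        monotone' := fun a b hab => by
          rintro _ ⟨s, rfl⟩
          refine ⟨Groth.Agent.AlgSpLib.QCohEt.secMap (Subobject.ofLE _ _ (N.monotone hab)) (F x) s, ?_⟩
          conv_rhs => rw [← Subobject.ofLE_arrow (N.monotone hab)]
          rfl }
    obtain ⟨n, hn⟩ := monotone_stabilizes_iff_noetherian.2 inferInstance c
    exact ⟨n, fun m hm => (hn m hm).symm⟩
  choose n hn using hstab
  refine ⟨t.sup n, fun m hm => ?_⟩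
  have hle := N.monotone hm
  haveI : IsIso (Subobject.ofLE _ _ hle) := by
    refine secMap_surjective_of_le (I := {x // x ∈ t}) X.property _ (fun i => F i.1) (fun i => hF i.1)
      (fun y => ?_) (fun i s => ?_)
    · obtain ⟨x, hx, hy⟩ := Set.mem_iUnion₂.1 (ht (Set.mem_univ y))
      exact ⟨⟨x, hx⟩, hy⟩
    · have h1 := Finset.le_sup (f := n) i.2
      obtain ⟨s', hs'⟩ : Groth.Agent.AlgSpLib.QCohEt.secMap (N m).arrow (F i.1) s ∈
          LinearMap.range (Groth.Agent.AlgSpLib.QCohEt.secMap (N (t.sup n)).arrow (F i.1)) := by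
        rw [hn i.1 _ h1, ← hn i.1 _ (h1.trans hm)]
        exact ⟨s, rfl⟩
      refine ⟨s', ?_⟩
      haveI : Mono (((SheafOfModules.forget (AlgSp.OEtRing X.obj)) ⋙
        PresheafOfModules.evaluation _ (Opposite.op (F i.1))).map (N m).arrow) := inferInstance
      refine (ModuleCat.mono_iff_injective (((SheafOfModules.forget (AlgSp.OEtRing X.obj)) ⋙
        PresheafOfModules.evaluation _ (Opposite.op (F i.1))).map (N m).arrow)).1 inferInstance ?_
      refine Eq.trans ?_ hs'
      conv_rhs => rw [← Subobject.ofLE_arrow hle]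
      rfl
  exact (Subobject.eq_of_comm (asIso (Subobject.ofLE _ _ hle)) (Subobject.ofLE_arrow hle)).symm

end Groth.Agent.S10747
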