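import Groth.Statements.S10748
import Groth.Agent.AlgSpLib.QCohEtSubColim
import Groth.Agent.AlgSpLib.QCohEtFP
-- import your own Groth.Agent.* helpers here

set_option autoImplicit false
universe u
open CategoryTheory CategoryTheory.Limits AlgebraicGeometry Opposite
open AlgSp

namespace Groth.Agent.S10748

open Groth.Agent.AlgSpLib.QCohEt in
theorem exists_coh_sub {S : Scheme.{u}} [QuasiSeparatedSpace ↥S] (X : AlgSp.Space S)
    (hqc : AlgSp.IsQuasiCompactSp X.obj) (hqs : AlgSp.IsQuasiSeparatedSp X.obj) (hN : AlgSp.IsLocNoethSp X.obj)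
    (M : AlgSp.ModEt X.obj) [M.IsQuasicoherent] {ι : Type} [Finite ι] (E : ι → AlgSp.EtOver X.obj)
    (hE : ∀ i, IsAff (E i)) (s : ∀ i, Sec M (E i)) :
    ∃ N : MonoOver M, N.obj.left.IsFinitePresentation ∧
      ∀ i, ∃ a : Sec N.obj.left (E i), secMap N.arrow (E i) a = s i := by
  obtain ⟨Q, hQ, hm⟩ := exists_fg_containing hqc hqs M E hE s
  haveI := Q.isQuasicoherent_obj
  haveI := Q.isFiniteType_obj hQ
  refine ⟨MonoOver.mk Q.incl, isFinitePresentation_of_finiteType Q.obj hN, fun i => ?_⟩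
  exact (Q.range_incl (hE i)).symm.subset (hm i)

open Groth.Agent.AlgSpLib.QCohEt in
theorem exists_coh_upper {S : Scheme.{u}} (X : AlgSp.Space S) (hN : AlgSp.IsLocNoethSp X.obj)
    (M : AlgSp.ModEt X.obj) [M.IsQuasicoherent] (N₁ N₂ : MonoOver M) (h₁ : N₁.obj.left.IsFinitePresentation)
    (h₂ : N₂.obj.left.IsFinitePresentation) :
    ∃ N : MonoOver M, N.obj.left.IsFinitePresentation ∧ Nonempty (N₁ ⟶ N) ∧ Nonempty (N₂ ⟶ N) := by
  haveI := h₁
  haveI := h₂
  let q : Bool → QSub M := fun b => Bool.rec (QSub.image N₁.arrow) (QSub.image N₂.arrow) b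
  have hfg : ∀ E hE, ((QSub.iSup q).P E hE).FG := fun E hE =>
    Submodule.fg_iSup _ fun b => by cases b <;> exact QSub.fg_image _ E hE
  haveI := (QSub.iSup q).isQuasicoherent_obj
  haveI := (QSub.iSup q).isFiniteType_obj hfg
  refine ⟨MonoOver.mk (QSub.iSup q).incl, isFinitePresentation_of_finiteType (QSub.iSup q).obj hN, ?_, ?_⟩
  · obtain ⟨l, hl⟩ := exists_lift N₁.arrow (QSub.iSup q).incl fun E hE => by
      rintro _ ⟨a, rfl⟩
      exact ((QSub.iSup q).range_incl hE).symm.subset (Submodule.mem_iSup_of_mem false ⟨a, rfl⟩)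
    exact ⟨MonoOver.homMk l hl⟩
  · obtain ⟨l, hl⟩ := exists_lift N₂.arrow (QSub.iSup q).incl fun E hE => by
      rintro _ ⟨a, rfl⟩
      exact ((QSub.iSup q).range_incl hE).symm.subset (Submodule.mem_iSup_of_mem true ⟨a, rfl⟩)
    exact ⟨MonoOver.homMk l hl⟩

open Groth.Agent.AlgSpLib.QCohEt in
theorem coh_isColimit {S : Scheme.{u}} [QuasiSeparatedSpace ↥S] (X : AlgSp.Space S)
    (hqc : AlgSp.IsQuasiCompactSp X.obj) (hqs : AlgSp.IsQuasiSeparatedSp X.obj) (hN : AlgSp.IsLocNoethSp X.obj)
    (M : AlgSp.ModEt X.obj) [M.IsQuasicoherent] {J : Type*} [Category J] [IsFiltered J] (D : J ⥤ AlgSp.ModEt X.obj)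
    (ι : D ⟶ (Functor.const J).obj M) (hm : ∀ j, Mono (ι.app j))
    (hs : ∀ N : MonoOver M, N.obj.left.IsFinitePresentation →
      ∃ j, ∃ l : N.obj.left ⟶ D.obj j, l ≫ ι.app j = N.arrow) :
    Nonempty (IsColimit (Cocone.mk M ι)) := by
  refine nonempty_isColimit_of_exhaust (Cocone.mk M ι) hm fun E hE m => ?_
  obtain ⟨N, hN', hm'⟩ := exists_coh_sub X hqc hqs hN M (fun _ : PUnit.{1} => E) (fun _ => hE) (fun _ => m)
  obtain ⟨a, ha⟩ := hm' PUnit.unit
  obtain ⟨j, l, hl⟩ := hs N hN'
  exact ⟨j, secMap l E a, (secMap_eq hl E a).trans ha⟩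

/-- Let X be a Noetherian algebraic space (quasi-compact, quasi-separated, locally Noetherian) over a
quasi-separated scheme S and M a quasi-coherent O_X-module on the small etale site of X. Then M is
the union, as a filtered colimit, of those of its submodules that are coherent: the full subcategory
of monomorphisms N ⟶ M with N of finite presentation is filtered, and the cocone on their sources
with vertex M given by the inclusions is a colimit. -/
theorem result {S : Scheme.{u}} [QuasiSeparatedSpace ↥S]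
    (X : AlgSp.Space S) (hqc : AlgSp.IsQuasiCompactSp X.obj) (hqs : AlgSp.IsQuasiSeparatedSp X.obj)
    (hN : AlgSp.IsLocNoethSp X.obj) (M : AlgSp.ModEt X.obj) [M.IsQuasicoherent] :
    IsFiltered (ObjectProperty.FullSubcategory
        (fun N : MonoOver M => SheafOfModules.IsFinitePresentation N.obj.left)) ∧
      Nonempty (IsColimit ((Over.forgetCocone M).whisker
        (ObjectProperty.ι (fun N : MonoOver M => SheafOfModules.IsFinitePresentation N.obj.left) ⋙
          MonoOver.forget M))) := by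
  open Groth.Agent.AlgSpLib.QCohEt in
  have hfil : IsFiltered (ObjectProperty.FullSubcategory
      (fun N : MonoOver M => SheafOfModules.IsFinitePresentation N.obj.left)) := by
    haveI : Nonempty (ObjectProperty.FullSubcategory
        (fun N : MonoOver M => SheafOfModules.IsFinitePresentation N.obj.left)) := by
      obtain ⟨N, hN', -⟩ := exists_coh_sub X hqc hqs hN M (fun e : Fin 0 => e.elim0) (fun e => e.elim0)
        (fun e => e.elim0)
      exact ⟨⟨N, hN'⟩⟩
    haveI : IsFilteredOrEmpty (ObjectProperty.FullSubcategory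
        (fun N : MonoOver M => SheafOfModules.IsFinitePresentation N.obj.left)) := by
      refine ⟨fun a b => ?_, fun a b f g => ⟨b, 𝟙 b, ObjectProperty.hom_ext _ (Subsingleton.elim _ _)⟩⟩
      obtain ⟨N, hN', ⟨f⟩, ⟨g⟩⟩ := exists_coh_upper X hN M a.obj b.obj a.property b.property
      exact ⟨⟨N, hN'⟩, ObjectProperty.homMk f, ObjectProperty.homMk g, trivial⟩
    exact IsFiltered.mk
  refine ⟨hfil, ?_⟩
  haveI := hfil
  exact coh_isColimit X hqc hqs hN M _ _ (fun N => N.obj.property) fun N hN' =>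
    ⟨⟨N, hN'⟩, 𝟙 _, Category.id_comp _⟩

end Groth.Agent.S10748
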