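import Groth.Statements.S10749
import Groth.Agent.AlgSpLib.PullModEt
import Groth.Agent.AlgSpLib.ModEtAB
import Groth.Agent.S10748
-- import your own Groth.Agent.* helpers here

set_option autoImplicit false
universe u
open CategoryTheory CategoryTheory.Limits AlgebraicGeometry Opposite
open AlgSp

namespace Groth.Agent.S10749

open CategoryTheory.Limits Groth.Agent Groth.Agent.AlgSpLib Groth.Agent.AlgSpLib.QCohEt Groth.Agent.AlgSpLib.ModEtAB AlgSp

set_option backward.isDefEq.respectTransparency false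
set_option backward.isDefEq.respectTransparency.types false
set_option maxHeartbeats 1000000

theorem comp_map_eq_zero {C D : Type*} [Category C] [Category D] [HasZeroMorphisms C] [HasZeroMorphisms D]
    {F : C ⥤ D} {G : D ⥤ C} (adj : F ⊣ G) [G.PreservesZeroMorphisms] {N : C} {M K : D} (a : N ⟶ G.obj M) (g : M ⟶ K)
    (h : (adj.homEquiv N M).symm a ≫ g = 0) : a ≫ G.map g = 0 := by
  have h2 := congrArg (adj.homEquiv N K) h
  rw [Adjunction.homEquiv_naturality_right, Equiv.apply_symm_apply] at h2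
  rw [h2, Adjunction.homEquiv_unit, G.map_zero, comp_zero]

theorem exists_gens {S : Scheme.{u}} [QuasiSeparatedSpace ↥S]
    {X Y : AlgSp.Space S} (f : X ⟶ Y) (haff : AlgSp.IsAffineMor f.hom) (hqc : AlgSp.IsQuasiCompactSp Y.obj)
    (hqs : AlgSp.IsQuasiSeparatedSp Y.obj) (hN : AlgSp.IsLocNoethSp Y.obj) (M : AlgSp.ModEt X.obj)
    [M.IsQuasicoherent] :
    ∃ (ι : Type (u + 1)) (A : ι → AlgSp.ModEt X.obj) (π : ∀ i, A i ⟶ M),
      (∀ i, (A i).IsFinitePresentation) ∧ ∀ (K : AlgSp.ModEt X.obj) (g : M ⟶ K), (∀ i, π i ≫ g = 0) → g = 0 := by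
  have hf : Representable f.hom := ((isAffineMor_iff_repWith f.hom).1 haff).1
  haveI := isRightAdjoint_pushModEt hf
  let M' := (pushModEt hf).obj M
  haveI hq : M'.IsQuasicoherent :=
    isQuasicoherent_of_forall _ fun E hE => by haveI := hE; exact isBC_push hf haff M E
  let T := {N : Subobject M' // SheafOfModules.IsFinitePresentation (N : AlgSp.ModEt Y.obj)}
  let A : Shrink.{u + 1} T → AlgSp.ModEt X.obj := fun i =>
    (pullModEt hf).obj (((equivShrink T).symm i).1 : AlgSp.ModEt Y.obj)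
  let π : ∀ i, A i ⟶ M := fun i =>
    ((pullPushAdjModEt hf).homEquiv _ M).symm ((equivShrink T).symm i).1.arrow
  refine ⟨Shrink.{u + 1} T, A, π, fun i => ?_, fun K g hg => eq_zero_of_pushModEt_map hf Y.property haff g ?_⟩
  · haveI := ((equivShrink T).symm i).2
    exact isFinitePresentation_pull hf Y.property _
  obtain ⟨hc⟩ := (S10748.result Y hqc hqs hN M').2
  refine hc.hom_ext fun N => ?_
  show N.obj.obj.hom ≫ (pushModEt hf).map g = N.obj.obj.hom ≫ 0
  haveI : Mono N.obj.obj.hom := N.obj.property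
  let t : T := ⟨Subobject.mk N.obj.obj.hom,
    (SheafOfModules.isFinitePresentation (OEtRing Y.obj)).prop_of_iso
      (Subobject.underlyingIso N.obj.obj.hom).symm N.property⟩
  have h1 : ((equivShrink T).symm (equivShrink T t)).1.arrow ≫ (pushModEt hf).map g = 0 :=
    comp_map_eq_zero (pullPushAdjModEt hf) ((equivShrink T).symm (equivShrink T t)).1.arrow g (hg (equivShrink T t))
  rw [(equivShrink T).symm_apply_apply] at h1
  rw [comp_zero]
  refine (Eq.trans ?_ ((congrArg (fun z => (Subobject.underlyingIso N.obj.obj.hom).inv ≫ z) h1).trans comp_zero))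
  rw [← Category.assoc, Subobject.underlyingIso_arrow]

theorem exists_colimit {S : Scheme.{u}} {X : AlgSp.Sp S}
    (hgen : ∀ (M : AlgSp.ModEt X), M.IsQuasicoherent → ∃ (ι : Type (u + 1)) (A : ι → AlgSp.ModEt X) (π : ∀ i, A i ⟶ M),
      (∀ i, (A i).IsFinitePresentation) ∧ ∀ (K : AlgSp.ModEt X) (g : M ⟶ K), (∀ i, π i ≫ g = 0) → g = 0)
    (M : AlgSp.ModEt X) [M.IsQuasicoherent] :
    ∃ (J : Type (u + 1)) (_ : SmallCategory J) (_ : IsFiltered J) (D : J ⥤ AlgSp.ModEt X)
      (ι : D ⟶ (Functor.const J).obj M),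
      (∀ j, (D.obj j).IsFinitePresentation) ∧ Nonempty (IsColimit (Cocone.mk M ι)) := by
  classical
  obtain ⟨ι, A, π, hA, hπ⟩ := hgen M inferInstance
  let AF : Finset ι → AlgSp.ModEt X := fun F => ∐ fun i : (↥F : Type (u + 1)) => A i.1
  let πF : ∀ F, AF F ⟶ M := fun F => Sigma.desc fun i => π i.1
  let incl : ∀ {F F' : Finset ι}, F ⊆ F' → (AF F ⟶ AF F') := fun {F F'} h =>
    Sigma.desc fun i => Sigma.ι (fun i : (↥F' : Type (u + 1)) => A i.1) ⟨i.1, h i.2⟩
  have hincl : ∀ {F F' : Finset ι} (h : F ⊆ F'), incl h ≫ πF F' = πF F := fun {F F'} h =>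
    Sigma.hom_ext _ _ fun i => by simp [incl, πF]
  have hAFq : ∀ F, (AF F).IsFinitePresentation := fun F => isFinitePresentation_sigma _ fun i => hA i.1
  have hKq : ∀ F, (kernel (πF F)).IsQuasicoherent := fun F =>
    haveI := hAFq F
    isQuasicoherent_of_forall _ fun E hE => by
      haveI := hE
      exact isBC_kernel (kernel.condition (πF F)) (kernelIsKernel (πF F)) E (isBC (AF F) E) (isBC M E)
  choose κ B ρ hB hρ using fun F => hgen (kernel (πF F)) (hKq F)
  let τ := Σ F : Finset ι, κ F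
  let J := {p : Finset ι × Finset τ // ∀ t ∈ p.2, t.1 ⊆ p.1}
  let r : ∀ j : J, (∐ fun t : (↥j.1.2 : Type (u + 1)) => B t.1.1 t.1.2) ⟶ AF j.1.1 := fun j =>
    Sigma.desc fun t => ρ t.1.1 t.1.2 ≫ kernel.ι (πF t.1.1) ≫ incl (j.2 t.1 t.2)
  have hincl2 : ∀ {F F' F'' : Finset ι} (h : F ⊆ F') (h' : F' ⊆ F''), incl h ≫ incl h' = incl (h.trans h') :=
    fun h h' => Sigma.hom_ext _ _ fun i => by simp [incl]
  have hincl0 : ∀ {F : Finset ι} (h : F ⊆ F), incl h = 𝟙 (AF F) :=
    fun h => Sigma.hom_ext _ _ fun i => (Sigma.ι_desc _ i).trans (Category.comp_id _).symm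
  have hr : ∀ j : J, r j ≫ πF j.1.1 = 0 := fun j => Sigma.hom_ext _ _ fun t => by
    simp [r, hincl, kernel.condition]
  have hrle : ∀ {j j' : J} (h : j ≤ j'), r j ≫ incl h.1 ≫ cokernel.π (r j') = 0 := fun {j j'} h =>
    Sigma.hom_ext _ _ fun t => by
      rw [comp_zero]
      have e := congrArg (fun z => Sigma.ι (fun t : (↥j'.1.2 : Type (u + 1)) => B t.1.1 t.1.2) ⟨t.1, h.2 t.2⟩ ≫ z)
        (cokernel.condition (r j'))
      simp only [comp_zero, ← Category.assoc] at e
      refine Eq.trans ?_ e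
      rw [← Category.assoc, ← Category.assoc]
      congr 1
      simp [r, hincl2]
  let D : J ⥤ AlgSp.ModEt X :=
    { obj := fun j => cokernel (r j)
      map := fun {j j'} g => cokernel.desc (r j) (incl (leOfHom g).1 ≫ cokernel.π (r j')) (hrle (leOfHom g))
      map_id := fun j => coequalizer.hom_ext (by rw [cokernel.π_desc, hincl0]; simp)
      map_comp := fun {a b c} g g' => coequalizer.hom_ext (by
        rw [cokernel.π_desc, cokernel.π_desc_assoc, Category.assoc, cokernel.π_desc, ← Category.assoc, hincl2]) }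
  let cc : D ⟶ (Functor.const J).obj M :=
    { app := fun j => cokernel.desc (r j) (πF j.1.1) (hr j)
      naturality := fun j j' g => coequalizer.hom_ext (by
        change cokernel.π (r j) ≫ cokernel.desc (r j) _ _ ≫ _ = cokernel.π (r j) ≫ _
        rw [cokernel.π_desc_assoc, Category.assoc, cokernel.π_desc, hincl]
        simp) }
  haveI : Nonempty J := ⟨⟨(∅, ∅), fun t ht => absurd ht (Finset.notMem_empty t)⟩⟩
  haveI : IsDirected J (· ≤ ·) := ⟨fun a b => ⟨⟨(a.1.1 ∪ b.1.1, a.1.2 ∪ b.1.2), fun t ht => by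
    rcases Finset.mem_union.1 ht with h | h
    · exact (a.2 t h).trans Finset.subset_union_left
    · exact (b.2 t h).trans Finset.subset_union_right⟩,
    ⟨Finset.subset_union_left, Finset.subset_union_left⟩, ⟨Finset.subset_union_right, Finset.subset_union_right⟩⟩⟩
  refine ⟨J, inferInstance, inferInstance, D, cc, fun j => ?_, ⟨?_⟩⟩
  · haveI := hAFq j.1.1
    haveI := isFinitePresentation_sigma (fun t : (↥j.1.2 : Type (u + 1)) => B t.1.1 t.1.2) fun t => hB _ _
    exact isFinitePresentation_cokernel (r j)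
  -- the colimit property
  let LF : Finset ι ⥤ AlgSp.ModEt X :=
    { obj := AF, map := fun g => incl (leOfHom g), map_id := fun F => hincl0 _
      map_comp := fun g g' => (hincl2 _ _).symm }
  let pn : LF ⟶ (Functor.const (Finset ι)).obj M :=
    { app := πF, naturality := fun F F' g => (hincl (leOfHom g)).trans (Category.comp_id _).symm }
  let S₀ : ShortComplex (Finset ι ⥤ AlgSp.ModEt X) := ShortComplex.mk (kernel.ι pn) pn (kernel.condition pn)
  let T : ShortComplex (AlgSp.ModEt X) := S₀.map colim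
  have hT : T.Exact := (ShortComplex.exact_of_f_is_kernel S₀ (kernelIsKernel pn)).map colim
  let cM : colimit ((Functor.const (Finset ι)).obj M) ⟶ M :=
    colimit.desc _ (Cocone.mk M (𝟙 _))
  have hlegs : ∀ F, colimit.ι ((Functor.const (Finset ι)).obj M) F = colimit.ι ((Functor.const (Finset ι)).obj M) ∅ :=
    fun F => by
      have := colimit.w ((Functor.const (Finset ι)).obj M) (homOfLE (Finset.empty_subset F))
      simpa using this
  haveI hTg : Epi T.g := Preadditive.epi_of_cancel_zero _ fun {K} h hh => colimit.hom_ext fun F => by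
    rw [hlegs F, comp_zero]
    refine hπ K _ fun i => ?_
    have e : colimit.ι LF {i} ≫ colim.map pn = πF {i} ≫ colimit.ι ((Functor.const (Finset ι)).obj M) {i} :=
      ι_colimMap pn {i}
    have h2 := congrArg (fun z => Sigma.ι (fun k : (↥({i} : Finset ι) : Type (u + 1)) => A k.1)
      ⟨i, Finset.mem_singleton_self i⟩ ≫ z) ((congrArg (· ≫ h) e).symm.trans
        ((Category.assoc _ _ _).trans ((congrArg (colimit.ι LF {i} ≫ ·) hh).trans comp_zero)))
    simp only [comp_zero, Category.assoc, hlegs {i}] at h2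
    rw [← Category.assoc] at h2
    refine Eq.trans ?_ h2
    congr 1
    simp [πF]
  refine IsColimit.ofExistsUnique fun s => ?_
  let jF : Finset ι → J := fun F => ⟨(F, ∅), fun t ht => absurd ht (Finset.notMem_empty t)⟩
  let sF : ∀ F, AF F ⟶ s.pt := fun F => cokernel.π (r (jF F)) ≫ s.ι.app (jF F)
  have hsF : ∀ (j : J), cokernel.π (r j) ≫ s.ι.app j = sF j.1.1 := fun j => by
    have hle : jF j.1.1 ≤ j := ⟨subset_rfl, Finset.empty_subset _⟩
    have := s.w (homOfLE hle)
    show _ = cokernel.π (r (jF j.1.1)) ≫ _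
    rw [← this]
    change _ = cokernel.π (r (jF j.1.1)) ≫ cokernel.desc _ _ _ ≫ _
    rw [cokernel.π_desc_assoc, Category.assoc, hincl0, Category.id_comp]
  have hsmap : ∀ {F F' : Finset ι} (h : F ⊆ F'), incl h ≫ sF F' = sF F := fun {F F'} h => by
    have hle : jF F ≤ jF F' := ⟨h, subset_rfl⟩
    have := s.w (homOfLE hle)
    show _ = cokernel.π (r (jF F)) ≫ _
    rw [← this]
    change _ = cokernel.π (r (jF F)) ≫ cokernel.desc _ _ _ ≫ _
    rw [cokernel.π_desc_assoc, Category.assoc]
  let Φ : T.X₂ ⟶ s.pt := colimit.desc LF (Cocone.mk s.pt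
    { app := sF, naturality := fun F F' g => (hsmap (leOfHom g)).trans (Category.comp_id _).symm })
  have hΦ : T.f ≫ Φ = 0 := colimit.hom_ext fun F => by
    have hker : kernel.ι (πF F) ≫ sF F = 0 := hρ F _ _ fun k => by
      let j : J := ⟨(F, {⟨F, k⟩}), fun t ht => by rw [Finset.mem_singleton.1 ht]⟩
      have h1 : r j ≫ sF F = 0 := by
        rw [show sF F = cokernel.π (r j) ≫ s.ι.app j from (hsF j).symm, ← Category.assoc, cokernel.condition, zero_comp]
      have h2 := congrArg (fun z => Sigma.ι (fun t : (↥j.1.2 : Type (u + 1)) => B t.1.1 t.1.2)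
        ⟨⟨F, k⟩, Finset.mem_singleton_self _⟩ ≫ z) h1
      simpa [r, hincl0] using h2
    have hfac : (kernel.ι pn).app F ≫ πF F = 0 := NatTrans.congr_app (kernel.condition pn) F
    have e : colimit.ι (kernel pn) F ≫ T.f = (kernel.ι pn).app F ≫ colimit.ι LF F := ι_colimMap (kernel.ι pn) F
    refine (Category.assoc _ _ _).symm.trans ((congrArg (· ≫ Φ) e).trans ?_)
    refine (Category.assoc _ _ _).trans ((congrArg (_ ≫ ·) (colimit.ι_desc _ F)).trans ?_)
    show (kernel.ι pn).app F ≫ sF F = _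
    rw [← kernel.lift_ι (πF F) ((kernel.ι pn).app F) hfac, Category.assoc, hker, comp_zero, comp_zero]
  let d : M ⟶ s.pt := colimit.ι ((Functor.const (Finset ι)).obj M) ∅ ≫
    hT.gIsCokernel.desc (CokernelCofork.ofπ Φ hΦ)
  have hd : ∀ F, πF F ≫ d = sF F := fun F => by
    have h2 : T.g ≫ hT.gIsCokernel.desc (CokernelCofork.ofπ Φ hΦ) = Φ :=
      hT.gIsCokernel.fac (CokernelCofork.ofπ Φ hΦ) WalkingParallelPair.one
    have e : colimit.ι LF F ≫ T.g = πF F ≫ colimit.ι ((Functor.const (Finset ι)).obj M) F := ι_colimMap pn F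
    show πF F ≫ _ ≫ _ = _
    rw [← hlegs F, ← Category.assoc, ← e, Category.assoc, h2]
    exact colimit.ι_desc _ F
  refine ⟨d, fun j => coequalizer.hom_ext ?_, fun m hm => ?_⟩
  · change cokernel.π (r j) ≫ cokernel.desc _ _ _ ≫ d = cokernel.π (r j) ≫ _
    rw [cokernel.π_desc_assoc, hd, hsF]
  · refine sub_eq_zero.1 (hπ _ _ fun i => ?_)
    have h1 : πF {i} ≫ m = sF {i} := by
      show _ = cokernel.π (r (jF {i})) ≫ _
      rw [← hm (jF {i})]
      change _ = cokernel.π (r (jF {i})) ≫ cokernel.desc _ _ _ ≫ m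
      rw [cokernel.π_desc_assoc]
    have h2 := congrArg (fun z => Sigma.ι (fun k : (↥({i} : Finset ι) : Type (u + 1)) => A k.1)
      ⟨i, Finset.mem_singleton_self i⟩ ≫ z) (h1.trans (hd {i}).symm)
    rw [Preadditive.comp_sub, sub_eq_zero]
    simpa [πF] using h2

/-- Let f : X ⟶ Y be an affine morphism of algebraic spaces over a quasi-separated scheme S with Y
Noetherian (quasi-compact, quasi-separated, locally Noetherian). Then every quasi-coherent
O_X-module M on the small etale site of X is a filtered colimit of O_X-modules of finite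
presentation. -/
theorem result {S : Scheme.{u}} [QuasiSeparatedSpace ↥S]
    {X Y : AlgSp.Space S} (f : X ⟶ Y) (haff : AlgSp.IsAffineMor f.hom) (hqc : AlgSp.IsQuasiCompactSp Y.obj)
    (hqs : AlgSp.IsQuasiSeparatedSp Y.obj) (hN : AlgSp.IsLocNoethSp Y.obj) (M : AlgSp.ModEt X.obj)
    [M.IsQuasicoherent] :
    ∃ (J : Type (u + 1)) (_ : SmallCategory J) (_ : IsFiltered J) (D : J ⥤ AlgSp.ModEt X.obj)
      (ι : D ⟶ (Functor.const J).obj M),
      (∀ j, (D.obj j).IsFinitePresentation) ∧ Nonempty (IsColimit (Cocone.mk M ι)) := by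
  exact exists_colimit (fun M' hM' => haveI := hM'; exists_gens f haff hqc hqs hN M') M

end Groth.Agent.S10749
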