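import Groth.Statements.S1075
import Mathlib
-- import your own Groth.Agent.* helpers here

set_option autoImplicit false
universe w v u
open CategoryTheory CategoryTheory.Limits
open CohDer

namespace Groth.Agent.S1075

/-- In D(A), for A abelian with enough injectives and countable products, every sequence of
bounded-below objects has a product, so derived limits of such sequences exist. -/
theorem result {A : Type u} [Category.{v} A] [Abelian A] [HasDerivedCategory.{w} A]
    [HasLimitsOfShape (Discrete ℕ) A] [EnoughInjectives A]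
    (K : ℕ → DerivedCategory A) (hK : ∀ n, ∃ a : ℤ, (K n).IsGE a) : HasProduct K := by
  open DerivedCategory in
  have hres : ∀ n, ∃ (J : CochainComplex A ℤ) (_ : J.IsKInjective), Nonempty (K n ≅ Q.obj J) := by
    intro n
    obtain ⟨a, ha⟩ := hK n
    obtain ⟨C, _, ⟨e⟩⟩ := exists_iso_Q_obj_of_isGE (K n) a
    obtain ⟨J, f, hf, hJ, hJa⟩ :=
      CochainComplex.Plus.modelCategoryQuillen.exists_quasiIso_injective C a
    exact ⟨J, CochainComplex.isKInjective_of_injective J a, ⟨e ≪≫ asIso (Q.map f)⟩⟩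
  choose J hJ eJ using hres
  let P : CochainComplex A ℤ := ∏ᶜ J
  have hlim : ∀ m : ℤ, Nonempty (IsLimit (Fan.mk (P.X m) (fun k => (Pi.π J k).f m) :
      Fan (fun k => (J k).X m))) := fun m =>
    ⟨isLimitFanMkObjOfIsLimit (HomologicalComplex.eval A (ComplexShape.up ℤ) m) J
      (fun k => Pi.π J k) (productIsProduct J)⟩
  have hev : ∀ (m : ℤ) (Y : A) (φ : ∀ k, Y ⟶ (J k).X m), ∃ ψ : Y ⟶ P.X m,
      ∀ k, ψ ≫ (Pi.π J k).f m = φ k := fun m Y φ =>
    ⟨Fan.IsLimit.lift (hlim m).some φ, fun k => Fan.IsLimit.fac (hlim m).some φ k⟩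
  have hext : ∀ (m : ℤ) (Y : A) (u v : Y ⟶ P.X m),
      (∀ k, u ≫ (Pi.π J k).f m = v ≫ (Pi.π J k).f m) → u = v := fun m Y u v h =>
    Fan.IsLimit.hom_ext (hlim m).some _ _ h
  have glue : ∀ {X : CochainComplex A ℤ} (f g : X ⟶ P),
      (∀ k, Nonempty (Homotopy (f ≫ Pi.π J k) (g ≫ Pi.π J k))) → Nonempty (Homotopy f g) := by
    intro X f g h
    choose H hH using fun i j => hev j (X.X i) (fun k => (h k).some.hom i j)
    refine ⟨{ hom := H, zero := fun i j hij => hext j _ _ _ fun k => ?_, comm := fun i => hext i _ _ _ fun k => ?_ }⟩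
    · rw [hH, zero_comp, (h k).some.zero i j hij]
    · have hc := (h k).some.comm i
      simp only [HomologicalComplex.comp_f] at hc
      rw [hc, dNext_eq _ (show (ComplexShape.up ℤ).Rel i (i + 1) from rfl),
        prevD_eq _ (show (ComplexShape.up ℤ).Rel (i - 1) i from sub_add_cancel i 1),
        dNext_eq _ (show (ComplexShape.up ℤ).Rel i (i + 1) from rfl),
        prevD_eq _ (show (ComplexShape.up ℤ).Rel (i - 1) i from sub_add_cancel i 1)]
      simp only [Preadditive.add_comp, Category.assoc, hH]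
      rw [← (Pi.π J k).comm (i - 1) i, ← Category.assoc (H i (i - 1)), hH]
  have hP : P.IsKInjective := ⟨fun {X} f hX => glue f 0 fun k => by
    rw [zero_comp]
    exact (hJ k).nonempty_homotopy_zero _ hX⟩
  let H := HomotopyCategory.quotient A (ComplexShape.up ℤ)
  refine HasLimit.mk ⟨Fan.mk (Q.obj P) (fun k => Q.map (Pi.π J k) ≫ (eJ k).some.inv), ?_⟩
  refine Nonempty.some ?_
  have key : ∀ (X : DerivedCategory A) (φ : ∀ k, X ⟶ K k),
      ∃! ψ : X ⟶ Q.obj P, ∀ k, ψ ≫ Q.map (Pi.π J k) ≫ (eJ k).some.inv = φ k := by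
    intro X φ
    let x := Q.objPreimage X
    let ex : Q.obj x ≅ X := Q.objObjPreimageIso X
    let c := (quotientCompQhIso A)
    have lift : ∀ {L : CochainComplex A ℤ} [L.IsKInjective] (φ : Q.obj x ⟶ Q.obj L),
        ∃ m : x ⟶ L, Q.map m = φ := by
      intro L _ φ
      obtain ⟨f, hf⟩ := (CochainComplex.IsKInjective.Qh_map_bijective (H.obj x) L).surjective
        (c.hom.app x ≫ φ ≫ c.inv.app L)
      obtain ⟨m, rfl⟩ := H.map_surjective f
      refine ⟨m, ?_⟩
      rw [← cancel_epi (c.hom.app x)]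
      refine (c.hom.naturality m).symm.trans ((congrArg (· ≫ _) hf).trans ?_)
      simp
    have inj : ∀ {L : CochainComplex A ℤ} [L.IsKInjective] (m₁ m₂ : x ⟶ L),
        Q.map m₁ = Q.map m₂ → H.map m₁ = H.map m₂ := by
      intro L _ m₁ m₂ h
      apply (CochainComplex.IsKInjective.Qh_map_bijective (H.obj x) L).injective
      rw [← cancel_mono (c.hom.app L)]
      refine (c.hom.naturality m₁).trans (Eq.trans ?_ (c.hom.naturality m₂).symm)
      rw [h]
    choose m hm using fun k => lift (L := J k) (ex.hom ≫ φ k ≫ (eJ k).some.hom)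
    refine ⟨ex.inv ≫ Q.map (Pi.lift m), fun k => ?_, fun ψ hψ => ?_⟩
    · rw [Category.assoc, ← Functor.map_comp_assoc, Pi.lift_π, hm]
      simp
    · obtain ⟨ψ', hψ'⟩ := lift (L := P) (ex.hom ≫ ψ)
      have : H.map ψ' = H.map (Pi.lift m) := by
        obtain ⟨ho⟩ := glue ψ' (Pi.lift m) fun k => ⟨HomotopyCategory.homotopyOfEq _ _ (inj _ _ (by
          rw [Functor.map_comp, hψ', Pi.lift_π, hm, ← hψ k]
          simp))⟩
        exact HomotopyCategory.eq_of_homotopy _ _ ho
      rw [Iso.eq_inv_comp, ← hψ', ← cancel_epi (c.hom.app x)]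
      refine (c.hom.naturality ψ').symm.trans (Eq.trans ?_ (c.hom.naturality (Pi.lift m)))
      exact congrArg (· ≫ c.hom.app P) (congrArg Qh.map this)
  exact ⟨Fan.IsLimit.mk _ (fun s => (key s.pt s.proj).exists.choose)
    (fun s k => (key s.pt s.proj).exists.choose_spec k)
    (fun s m hm => (key s.pt s.proj).unique hm (key s.pt s.proj).exists.choose_spec)⟩

end Groth.Agent.S1075
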