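import Groth.Statements.S10752
import Groth.Agent.AlgSpLib.SerreAffineFinal
-- import your own Groth.Agent.* helpers here

set_option autoImplicit false
universe u
open CategoryTheory CategoryTheory.Limits AlgebraicGeometry Opposite
open AlgSp

namespace Groth.Agent.S10752

/-- Let X be a quasi-compact algebraic space, quasi-separated over a quasi-separated base scheme S, such
that H^1(X, M) = 0 for every quasi-coherent O_X-module M on the small etale site of X. Then X is
separated (the published statement: the canonical morphism from X to the spectrum of its ring of
global functions is separated; stated here as separatedness of X over S, which it implies). -/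
theorem result {S : Scheme.{u}} [QuasiSeparatedSpace ↥S] (X : AlgSp.Space S)
    (hqc : AlgSp.IsQuasiCompactSp X.obj) (hqs : AlgSp.IsQuasiSeparatedSp X.obj)
    (h1 : ∀ M : AlgSp.ModEt X.obj, M.IsQuasicoherent → Subsingleton (AlgSp.HModEt X.obj M 1)) :
    AlgSp.IsSeparatedSp X.obj := by
  obtain ⟨T, hT, ⟨e⟩⟩ := Groth.Agent.AlgSpLib.SerreAff.exists_iso_yon_affine X hqc hqs h1
  exact Groth.Agent.AlgSpLib.SerreAff.isSeparatedSp_of_iso_affine e

end Groth.Agent.S10752
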