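import Groth.Statements.S10753
import Groth.Agent.AlgSpLib.QCohEtPullExact
import Groth.Agent.AlgSpLib.FpqcBaseAffine
-- import your own Groth.Agent.* helpers here

set_option autoImplicit false
universe u
open CategoryTheory CategoryTheory.Limits AlgebraicGeometry Opposite
open AlgSp

namespace Groth.Agent.S10753

open Groth.Agent.AlgSpLib Groth.Agent.AlgSpLib.QCohEt
set_option backward.isDefEq.respectTransparency false

/-- Let X be a quasi-compact algebraic space, quasi-separated over a quasi-separated base scheme S, such
that H^1(X, M) = 0 for every quasi-coherent O_X-module M on the small etale site of X, and let f :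
X' ⟶ X be an affine morphism of algebraic spaces. Then H^1(X', M') = 0 for every quasi-coherent
O_{X'}-module M'. (The companion statement about base change along a ring map out of the ring of
global functions of X is not included.) -/
theorem result {S : Scheme.{u}} [QuasiSeparatedSpace ↥S]
    {X' X : AlgSp.Space S} (hqc : AlgSp.IsQuasiCompactSp X.obj) (hqs : AlgSp.IsQuasiSeparatedSp X.obj)
    (h1 : ∀ M : AlgSp.ModEt X.obj, M.IsQuasicoherent → Subsingleton (AlgSp.HModEt X.obj M 1))
    (f : X' ⟶ X) (haff : AlgSp.IsAffineMor f.hom)
    (M' : AlgSp.ModEt X'.obj) [M'.IsQuasicoherent] :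
    Subsingleton (AlgSp.HModEt X'.obj M' 1) := by
  have hf : Representable f.hom := ((isAffineMor_iff_repWith f.hom).1 haff).1
  haveI hq : ((pushModEt hf).obj M').IsQuasicoherent :=
    isQuasicoherent_of_forall _ fun E hE => by haveI := hE; exact isBC_push hf haff M' E
  obtain ⟨e⟩ := PushEtStalk.nonempty_hEt_push X'.property X.property hf ((toAbEt X'.obj).obj M') (fun q hq => by
    obtain ⟨n, rfl⟩ : ∃ n, q = n + 1 := ⟨q - 1, by omega⟩
    exact isZero_rpushEt hf (fun E hE => by haveI := hE; exact isAff_bcObj hf haff E) n _ (affBasis_acyclic M')) 1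
  haveI : Subsingleton (HEt X.obj ((pushEt hf AddCommGrpCat.{u + 1}).obj ((toAbEt X'.obj).obj M')) 1) := h1 _ hq
  exact e.toEquiv.subsingleton

end Groth.Agent.S10753
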