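import Groth.Statements.S10755
import Groth.Agent.AlgSpLib.QCohEtSupport
import Groth.Agent.AlgSpLib.QCohEtPush
import Groth.Agent.AlgSpLib.PointsCompact
-- import your own Groth.Agent.* helpers here

set_option autoImplicit false
universe u
open CategoryTheory CategoryTheory.Limits AlgebraicGeometry Opposite
open AlgSp

namespace Groth.Agent.S10755

open Groth.Agent.AlgSpLib

theorem pow_isQCoh {S : Scheme.{u}} {X : AlgSp.Sp S} (I : AlgSp.IdealEt X) (hI : I.IsQCoh)
    {E W : AlgSp.EtOver X} (g : W ⟶ E) (hE : IsAffine E.obj.left.left) (hW : IsAffine W.obj.left.left) (n : ℕ) :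
    (I.ideal W hW) ^ n = (I.ideal E hE ^ n).map g.hom.left.left.appTop.hom := by
  rw [le_antisymm (hI g hE hW) (I.map_le g hE hW), Ideal.map_pow]

/-- Let X be a Noetherian algebraic space over S (quasi-compact, quasi-separated, locally Noetherian), M
a coherent O_X-module on the small etale site of X (of finite presentation, X being locally
Noetherian), I a quasi-coherent sheaf of ideals on X and i : Z ⟶ X the closed subspace cut out by I.
Then I^n M = 0 for some n ≥ 0 (on every affine object U of the site the ideal I^n(U) annihilates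
every section of M over U) if and only if the support of M is contained in |Z| set-theoretically
(the stalk of M at every geometric point of X whose image in |X| is not in |Z| vanishes). -/
theorem result {S : Scheme.{u}} (X : AlgSp.Space S)
    (hqc : AlgSp.IsQuasiCompactSp X.obj) (hqs : AlgSp.IsQuasiSeparatedSp X.obj) (hN : AlgSp.IsLocNoethSp X.obj)
    (M : AlgSp.ModEt X.obj) [M.IsFinitePresentation] (I : AlgSp.IdealEt X.obj) (hI : I.IsQCoh)
    {Z : AlgSp.Space S} (i : Z ⟶ X) (hZ : AlgSp.IsCutOutBy I i.hom) :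
    (∃ n : ℕ, ∀ (E : AlgSp.EtOver X.obj) (hE : IsAffine E.obj.left.left) (s : AlgSp.sectModEt M E),
        (I ^ n).ideal E hE ≤ AlgSp.annSect s) ↔
      ∀ x : AlgSp.FieldPt X.obj, x.IsGeometric → AlgSp.Points.mk x ∉ Set.range (AlgSp.Points.map i.hom) →
        IsZero (AlgSp.stalkEt x ((AlgSp.toAbEt X.obj).obj M)) := by
  constructor
  · rintro ⟨n, hn⟩ x hx hxZ
    refine (QCohEt.isZero_stalkEt_iff X.property hx M).2 fun E hE v s => ?_
    haveI := hE
    refine (QCohEt.germ_eq_zero_iff X.property hx M v s).2 fun hmem => hxZ ?_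
    rw [QCohEt.mem_zeroLocus_iff_le_primeAtPt] at hmem
    have h1 : I.ideal E hE ^ n ≤ AlgSp.annSect (M := M) (E := E) s := by
      have := hn E hE s
      rwa [AlgSp.IdealEt.pow_ideal] at this
    have h2 := Ideal.IsPrime.le_of_pow_le (h1.trans hmem)
    have h3 : v.1.left (IsLocalRing.closedPoint x.K) ∈
        E.obj.left.left.zeroLocus (U := ⊤) (I.ideal E hE : Set Γ(E.obj.left.left, ⊤)) :=
      (QCohEt.mem_zeroLocus_iff_le_primeAtPt _ _).2 h2
    rw [QCohEt.zeroLocus_isCutOutBy hZ E hE] at h3
    have h4 : AlgSp.Points.ofPt E.obj.hom (v.1.left (IsLocalRing.closedPoint x.K)) = AlgSp.Points.mk x := by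
      let c : ↥x.pt.left := IsLocalRing.closedPoint x.K
      exact (ofPt_map v.1 E.obj.hom c).symm.trans ((congrArg (fun t : (AlgSp.yon S).obj x.pt ⟶ X.obj =>
        AlgSp.Points.ofPt t c) v.2).trans (Groth.Agent.Stk19b.EtNbhd.ofPt_toHom x c))
    exact h4 ▸ h3
  · intro h
    haveI : CompactSpace (AlgSp.Points X.obj) := (isQuasiCompactSp_iff_compactSpace X.property).1 hqc
    obtain ⟨U, q, hU, he, hs⟩ := exists_affine_chart X.property
    let E : AlgSp.EtOver X.obj := AlgSp.EtOver.mk q he
    haveI hE : QCohEt.IsAff E := hU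
    haveI := QCohEt.isNoetherianRing_ΓE hN E
    haveI : IsNoetherianRing Γ(E.obj.left.left, ⊤) :=
      isNoetherianRing_of_ringEquiv (QCohEt.ΓE E) (ULift.ringEquiv (R := Γ(E.obj.left.left, ⊤)))
    have hfin : Module.Finite (QCohEt.ΓE E) (QCohEt.Sec M E) :=
      haveI := QCohEt.finitePresentation_sec M E
      inferInstance
    obtain ⟨t, ht⟩ := hfin.fg_top
    have key : ∀ s : QCohEt.Sec M E, ∃ n, ∀ a ∈ I.ideal E hE ^ n,
        (AlgSp.upΓ E a) • (show AlgSp.sectModEt M E from s) = 0 := fun s => by
      refine (QCohEt.mem_iSup_annSub_iff M E (I.ideal E hE) (IsNoetherian.noetherian _) s).2.1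
        ((QCohEt.mem_iSup_annSub_iff M E (I.ideal E hE) (IsNoetherian.noetherian _) s).1.2 fun e he' => ?_)
      by_contra hne
      rw [QCohEt.zeroLocus_isCutOutBy hZ E hE] at hne
      obtain ⟨p, v, hp, hv, hpe⟩ := Groth.Agent.Stk19b.StalkPoint.exists_point_through E e
      have hz := (QCohEt.isZero_stalkEt_iff X.property hp M).1 (h p hp (hpe ▸ hne)) E hE v s
      exact (QCohEt.germ_eq_zero_iff X.property hp M v s).1 hz (hv ▸ he')
    choose n hn using key
    let N := t.sup n
    have hN' : ∀ (s : QCohEt.Sec M E), s ∈ QCohEt.annSub M E (QCohEt.upIdeal E (I.ideal E hE ^ N)) := fun s => by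
      have hle : (⊤ : Submodule (QCohEt.ΓE E) (QCohEt.Sec M E)) ≤
          QCohEt.annSub M E (QCohEt.upIdeal E (I.ideal E hE ^ N)) := by
        rw [← ht, Submodule.span_le]
        exact fun b hb => (QCohEt.upΓ_map M E b).1 fun a ha => hn b a (Ideal.pow_le_pow_right (Finset.le_sup hb) ha)
      exact hle Submodule.mem_top
    refine ⟨N, fun E' hE' s a ha => ?_⟩
    rw [AlgSp.IdealEt.pow_ideal] at ha
    obtain ⟨ι, W, g, k, hW, hc⟩ := QCohEt.exists_cover_over (Z := E) (E := E') (fun y _ => surjective_ofPt q hs y)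
    haveI := hE'
    refine QCohEt.mapSec_ext M g hc ((show QCohEt.ΓE E' from AlgSp.upΓ E' a) • (show QCohEt.Sec M E' from s)) 0
      fun i => ?_
    haveI := hW i
    rw [map_zero, QCohEt.mapSec_smul]
    have h1 : (g i).hom.left.left.appTop.hom a ∈ (I.ideal E hE ^ N).map (k i).hom.left.left.appTop.hom := by
      have := Ideal.mem_map_of_mem (g i).hom.left.left.appTop.hom ha
      rwa [← pow_isQCoh I hI (g i) hE' (hW i) N, pow_isQCoh I hI (k i) hE (hW i) N] at this
    have h2 : (QCohEt.ΓMap (g i)).hom (show QCohEt.ΓE E' from AlgSp.upΓ E' a) ∈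
        (QCohEt.upIdeal E (I.ideal E hE ^ N)).map (QCohEt.ΓMap (k i)).hom := by
      rw [QCohEt.upIdeal_map]
      exact Ideal.mem_map_of_mem _ h1
    have h3 : ∀ z : QCohEt.Sec M (W i), ∀ b ∈ (QCohEt.upIdeal E (I.ideal E hE ^ N)).map (QCohEt.ΓMap (k i)).hom,
        b • z = 0 := by
      have hall : QCohEt.annSub M (W i) ((QCohEt.upIdeal E (I.ideal E hE ^ N)).map (QCohEt.ΓMap (k i)).hom) = ⊤ := by
        rw [← QCohEt.span_annSub M (k i) _ (QCohEt.upIdeal_fg E (IsNoetherian.noetherian _)),
          show (QCohEt.annSub M E (QCohEt.upIdeal E (I.ideal E hE ^ N)) : Set (QCohEt.Sec M E)) = Set.univ from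
            Set.eq_univ_of_forall hN',
          Set.image_univ, eq_top_iff]
        rintro z -
        let V : Over E := Over.mk (k i)
        haveI : QCohEt.IsAff V.left := hW i
        obtain ⟨y, rfl⟩ := (QCohEt.isBC M E V inferInstance).surjective z
        induction y using TensorProduct.induction_on with
        | zero => rw [map_zero]; exact zero_mem _
        | tmul r m =>
          rw [QCohEt.bcMap_tmul]
          have hm : QCohEt.mapSec M (k i) m ∈ Submodule.span (QCohEt.ΓE (W i)) (Set.range (QCohEt.mapSec M (k i))) :=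
            Submodule.subset_span ⟨m, rfl⟩
          exact Submodule.smul_mem _ (show QCohEt.ΓE (W i) from r) hm
        | add b c hb hc => rw [map_add]; exact add_mem hb hc
      exact fun z => hall.ge (Submodule.mem_top (x := z))
    exact h3 _ _ h2

end Groth.Agent.S10755
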