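import Groth.Statements.S10758
import Groth.Agent.AlgSpLib.QCohEtStalk
import Groth.Agent.AlgSpLib.QCohEtPush
-- import your own Groth.Agent.* helpers here

set_option autoImplicit false
universe u
open CategoryTheory CategoryTheory.Limits AlgebraicGeometry Opposite
open AlgSp

namespace Groth.Agent.S10758

open Groth.Agent.AlgSpLib

/-- Let X be a locally Noetherian algebraic space over S, φ : G ⟶ F a morphism of coherent O_X-modules
on the small etale site of X (of finite presentation, X being locally Noetherian) and x̄ a geometric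
point of X. If the map φ_x̄ on stalks at x̄ (of the underlying abelian sheaves) is bijective, then
there is an open subspace X' ⊂ X containing the image of x̄ such that φ|_{X'} is an isomorphism: φ
is bijective on sections over every scheme etale over X whose image in |X| lies in |X'|. -/
theorem result {S : Scheme.{u}} (X : AlgSp.Space S)
    (hX : AlgSp.IsLocNoethSp X.obj) {G F : AlgSp.ModEt X.obj} [G.IsFinitePresentation] [F.IsFinitePresentation]
    (φ : G ⟶ F) (xbar : AlgSp.FieldPt X.obj) (hx : xbar.IsGeometric)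
    (hbij : IsIso ((AlgSp.stalkEtFunctor AddCommGrpCat.{u + 1} xbar).map ((AlgSp.toAbEt X.obj).map φ))) :
    ∃ (X' : AlgSp.Space S) (j : X' ⟶ X), AlgSp.RepWith @IsOpenImmersion j.hom ∧
      AlgSp.Points.mk xbar ∈ Set.range (AlgSp.Points.map j.hom) ∧
        ∀ E : AlgSp.EtOver X.obj, Set.range (AlgSp.Points.ofPt E.obj.hom) ⊆ Set.range (AlgSp.Points.map j.hom) →
          IsIso (φ.val.app (op E)) := by
  obtain ⟨⟨E₀, x₀⟩⟩ := Groth.Agent.Stk19b.EtNbhd.exists_nbhd X.property xbar hx
  obtain ⟨E, g₀, x, hE, -⟩ := QCohEt.exists_affine_refine hx x₀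
  haveI := hE
  haveI : Module.FinitePresentation (QCohEt.ΓE E) (QCohEt.Sec G E) := QCohEt.finitePresentation_sec G E
  obtain ⟨Z, g, z, hZ, -, hi⟩ := QCohEt.exists_nbhd_injective X.property hx hX φ
    ((AddCommGrpCat.mono_iff_injective _).1 inferInstance) x
  haveI := hZ
  haveI : Module.FinitePresentation (QCohEt.ΓE Z) (QCohEt.Sec F Z) := QCohEt.finitePresentation_sec F Z
  obtain ⟨Z', g', z', hZ', -, hs⟩ := QCohEt.exists_nbhd_surjective X.property hx φ
    ((AddCommGrpCat.epi_iff_surjective _).1 inferInstance) z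
  haveI := hZ'
  have hb : Function.Bijective (QCohEt.secMap φ Z') := ⟨QCohEt.injective_of_hom φ g' hi, hs⟩
  let W : Set (AlgSp.Points X.obj) := Set.range (AlgSp.Points.ofPt Z'.obj.hom)
  have hW : IsOpen W := (isOpenMap_ofPt Z'.obj.hom Z'.property).isOpen_range
  refine ⟨⟨openSubspace X.obj W, isAlgSpace_openSubspace X.property hW⟩,
    ObjectProperty.homMk (openSubspaceι X.obj W), repWith_openSubspaceι X.obj hW, ?_, fun E' hE' => ?_⟩
  · rw [ObjectProperty.homMk_hom, range_openSubspaceι]
    exact QCohEt.mk_mem_range_ofPt z'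
  · rw [ObjectProperty.homMk_hom, range_openSubspaceι] at hE'
    exact (ConcreteCategory.isIso_iff_bijective _).2 (QCohEt.bijective_over φ hb hE')

end Groth.Agent.S10758
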