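import Groth.Statements.S10759
import Groth.Agent.AlgSpLib.QCohEtSupport
import Groth.Agent.AlgSpLib.QCohEtPush
-- import your own Groth.Agent.* helpers here

set_option autoImplicit false
universe u
open CategoryTheory CategoryTheory.Limits AlgebraicGeometry Opposite
open AlgSp

namespace Groth.Agent.S10759

open Groth.Agent.AlgSpLib

theorem ofPt_lift {S : Scheme.{u}} {X : AlgSp.Sp S} {p : AlgSp.FieldPt X} {E : AlgSp.EtOver X}
    (v : (AlgSp.FieldPt.liftsTo p).obj E) :
    AlgSp.Points.ofPt E.obj.hom (v.1.left (IsLocalRing.closedPoint p.K)) = AlgSp.Points.mk p := by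
  let c : ↥p.pt.left := IsLocalRing.closedPoint p.K
  exact (ofPt_map v.1 E.obj.hom c).symm.trans ((congrArg (fun t : (AlgSp.yon S).obj p.pt ⟶ X =>
    AlgSp.Points.ofPt t c) v.2).trans (Groth.Agent.Stk19b.EtNbhd.ofPt_toHom p c))
theorem secMap_comp_zero {S : Scheme.{u}} {X : AlgSp.Sp S} {A B C : AlgSp.ModEt X} (f : A ⟶ B) (g : B ⟶ C)
    (w : f ≫ g = 0) (E : AlgSp.EtOver X) (a : QCohEt.Sec A E) :
    QCohEt.secMap g E (QCohEt.secMap f E a) = 0 := by
  have h : (f ≫ g).val.app (op E) = (0 : A ⟶ C).val.app (op E) := by rw [w]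
  exact congrArg (fun φ => (ConcreteCategory.hom φ) a) h

theorem germ_eq_zero_of_nbhd {S : Scheme.{u}} {X : AlgSp.Sp S} (hX : AlgSp.IsAlgSpace X) {p : AlgSp.FieldPt X}
    (hp : p.IsGeometric) (M : AlgSp.ModEt X) {E W : AlgSp.EtOver X} (g : W ⟶ E)
    (w : (AlgSp.FieldPt.liftsTo p).obj W) (v : (AlgSp.FieldPt.liftsTo p).obj E)
    (hw : (AlgSp.FieldPt.liftsTo p).map g w = v) (s : QCohEt.Sec M E) (h : QCohEt.mapSec M g s = 0) :
    QCohEt.germ hX hp M v s = 0 := by
  subst hw
  refine (QCohEt.germ_mapSec hX hp M g w s).symm.trans ?_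
  rw [h, map_zero]

theorem quot_stalk_zero {S : Scheme.{u}} {X : AlgSp.Sp S} (hX : AlgSp.IsAlgSpace X) {G F C : AlgSp.ModEt X}
    [C.IsQuasicoherent] (i : G ⟶ F) (π : F ⟶ C) (w : i ≫ π = 0)
    (hs : ∀ E, QCohEt.IsAff E → Function.Surjective (QCohEt.secMap π E)) {x : AlgSp.FieldPt X} (hx : x.IsGeometric)
    (U : Set (AlgSp.Points X)) (hU : IsOpen U) (hxU : AlgSp.Points.mk x ∈ U)
    (h : ∀ (W : AlgSp.EtOver X), QCohEt.IsAff W → (∀ e, AlgSp.Points.ofPt W.obj.hom e ∈ U) →
      ∀ t : QCohEt.Sec F W, t ∈ Set.range (QCohEt.secMap i W)) :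
    IsZero (AlgSp.stalkEt x ((AlgSp.toAbEt X).obj C)) := by
  refine (QCohEt.isZero_stalkEt_iff hX hx C).2 fun E hE v s => ?_
  let O : E.obj.left.left.Opens :=
    ⟨AlgSp.Points.ofPt E.obj.hom ⁻¹' U, hU.preimage (AlgSp.Points.continuous_ofPt E.obj.hom)⟩
  obtain ⟨W, g, w', hW, hw', hg⟩ := QCohEt.exists_open_nbhd hx E v O
    (show AlgSp.Points.ofPt E.obj.hom _ ∈ U from (ofPt_lift v).symm ▸ hxU)
  refine germ_eq_zero_of_nbhd hX hx C g w' v hw' s ?_
  obtain ⟨t, ht⟩ := hs W hW (QCohEt.mapSec C g s)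
  obtain ⟨a, ha⟩ := h W hW (fun e => (QCohEt.ofPt_hom g e) ▸ hg ⟨e, rfl⟩) t
  rw [← ht, ← ha, secMap_comp_zero i π w W a]

/-- Let X be a Noetherian algebraic space over S (quasi-compact, quasi-separated, locally Noetherian)
and F a coherent O_X-module on the small etale site of X (of finite presentation, X being locally
Noetherian) with Supp(F) = Z ∪ Z' for closed subsets Z, Z' of |X| (the support being the set of
points over which the stalk of F at a geometric point is nonzero). Then there is a short exact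
sequence 0 ⟶ G' ⟶ F ⟶ G ⟶ 0 of coherent modules with Supp(G') ⊂ Z' and Supp(G) ⊂ Z: a monomorphism
G' ⟶ F with G' and its cokernel coherent, the stalks of G' vanishing at geometric points outside Z'
and those of the cokernel vanishing at geometric points outside Z. -/
theorem result {S : Scheme.{u}} (X : AlgSp.Space S)
    (hqc : AlgSp.IsQuasiCompactSp X.obj) (hqs : AlgSp.IsQuasiSeparatedSp X.obj) (hN : AlgSp.IsLocNoethSp X.obj)
    (F : AlgSp.ModEt X.obj) [F.IsFinitePresentation] (Z Z' : Set (AlgSp.Points X.obj)) (hZ : IsClosed Z)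
    (hZ' : IsClosed Z')
    (hsupp : ∀ x : AlgSp.FieldPt X.obj, x.IsGeometric →
      (AlgSp.Points.mk x ∈ Z ∪ Z' ↔ ¬ IsZero (AlgSp.stalkEt x ((AlgSp.toAbEt X.obj).obj F)))) :
    ∃ (G' : AlgSp.ModEt X.obj) (a : G' ⟶ F), Mono a ∧ G'.IsFinitePresentation ∧
      (cokernel a).IsFinitePresentation ∧
        (∀ x : AlgSp.FieldPt X.obj, x.IsGeometric → AlgSp.Points.mk x ∉ Z' →
          IsZero (AlgSp.stalkEt x ((AlgSp.toAbEt X.obj).obj G'))) ∧
        (∀ x : AlgSp.FieldPt X.obj, x.IsGeometric → AlgSp.Points.mk x ∉ Z →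
          IsZero (AlgSp.stalkEt x ((AlgSp.toAbEt X.obj).obj (cokernel a)))) := by
  obtain ⟨Q, hQ⟩ := QCohEt.exists_supported F Z' (QCohEt.exists_fg_of_isClosed Z' hN hZ')
  haveI hFfin : ∀ E : AlgSp.EtOver X.obj, QCohEt.IsAff E → Module.Finite (QCohEt.ΓE E) (QCohEt.Sec F E) :=
    fun E hE => by
      haveI := hE
      haveI := QCohEt.finitePresentation_sec F E
      infer_instance
  have hFP : ∀ (M : AlgSp.ModEt X.obj), (∀ E, QCohEt.IsAff E → QCohEt.IsBC M E) →
      (∀ E, QCohEt.IsAff E → Module.Finite (QCohEt.ΓE E) (QCohEt.Sec M E)) → M.IsFinitePresentation :=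
    fun M hb hf => QCohEt.isFinitePresentation_of_forall M hb fun E hE => by
      haveI := hE
      haveI := QCohEt.isNoetherianRing_ΓE hN E
      haveI := hf E hE
      exact Module.finitePresentation_of_finite _ _
  have hb : ∀ E, QCohEt.IsAff E → QCohEt.IsBC F E := fun E hE => by
    haveI := hE
    exact QCohEt.isBC F E
  have hGb : ∀ E, QCohEt.IsAff E → QCohEt.IsBC Q.obj E := fun E hE => by
    haveI := hE
    exact Q.isBC_obj E
  have hG : Q.obj.IsFinitePresentation := hFP _ hGb fun E hE => by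
    haveI := hE
    haveI := QCohEt.isNoetherianRing_ΓE hN E
    haveI := hFfin E hE
    exact Module.Finite.of_injective (QCohEt.secMap Q.incl E) (Q.injective_incl E)
  have hC : ∀ E, QCohEt.IsAff E → QCohEt.IsBC (cokernel Q.incl) E ∧
      Function.Surjective (QCohEt.secMap (cokernel.π Q.incl) E) := fun E hE => by
    haveI := hE
    exact QCohEt.cokernel_sec Q.incl E (hGb E hE) (hb E hE)
  have hCFP : (cokernel Q.incl).IsFinitePresentation := hFP _ (fun E hE => (hC E hE).1) fun E hE => by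
    haveI := hFfin E hE
    exact Module.Finite.of_surjective (QCohEt.secMap (cokernel.π Q.incl) E) (hC E hE).2
  refine ⟨Q.obj, Q.incl, Q.mono_incl, hG, hCFP, fun x hx hxZ' => ?_, fun x hx hxZ => ?_⟩
  · refine (QCohEt.isZero_stalkEt_iff X.property hx Q.obj).2 fun E hE v s => ?_
    haveI := hE
    have h1 : QCohEt.secMap Q.incl E s ∈ Q.P E hE := (Q.mem_sub_iff hE s.val).1 s.property
    refine (QCohEt.germ_eq_zero_iff X.property hx Q.obj v s).2 fun hmem => hxZ' ?_
    have hsub : AlgSp.annSect (M := Q.obj) (E := E) s ≤ AlgSp.annSect (M := F) (E := E) (QCohEt.secMap Q.incl E s) :=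
      fun a ha => by
        have h2 : (show QCohEt.ΓE E from AlgSp.upΓ E a) • s = 0 := ha
        have h3 := congrArg (QCohEt.secMap Q.incl E) h2
        rw [map_smul, map_zero] at h3
        exact h3
    rw [QCohEt.mem_zeroLocus_iff_le_primeAtPt] at hmem
    have hle : AlgSp.annSect (M := F) (E := E) (QCohEt.secMap Q.incl E s) ≤ AlgSp.annSect (M := Q.obj) (E := E) s :=
      fun a ha => by
        have h2 : (show QCohEt.ΓE E from AlgSp.upΓ E a) • QCohEt.secMap Q.incl E s = 0 := ha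
        rw [← map_smul] at h2
        exact Q.injective_incl E (h2.trans (map_zero _).symm)
    have h4 := (hQ E hE _).1 h1 ((QCohEt.mem_zeroLocus_iff_le_primeAtPt _ _).2 (hle.trans hmem))
    exact ofPt_lift v ▸ h4
  · haveI := hCFP
    refine quot_stalk_zero X.property Q.incl (cokernel.π Q.incl) (cokernel.condition Q.incl)
      (fun E hE => (hC E hE).2) hx Zᶜ hZ.isOpen_compl hxZ fun W hW hWZ t => ?_
    haveI := hW
    refine (Q.range_incl hW).ge ((hQ W hW t).2 fun e he => ?_)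
    obtain ⟨p, z, hp, hz, hpe⟩ := Groth.Agent.Stk19b.StalkPoint.exists_point_through W e
    have hne : ¬ IsZero (AlgSp.stalkEt p ((AlgSp.toAbEt X.obj).obj F)) := fun h0 =>
      (QCohEt.germ_eq_zero_iff X.property hp F z t).1
        ((QCohEt.isZero_stalkEt_iff X.property hp F).1 h0 W hW z t) (hz ▸ he)
    have hmem : AlgSp.Points.ofPt W.obj.hom e ∈ Z ∪ Z' := hpe ▸ (hsupp p hp).2 hne
    exact hmem.resolve_left (hWZ e)

end Groth.Agent.S10759
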