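import Groth.Statements.S10763
import Groth.Agent.AlgSpLib.ProperImage
-- import your own Groth.Agent.* helpers here

set_option autoImplicit false
universe u
open CategoryTheory CategoryTheory.Limits AlgebraicGeometry
open AlgSp

namespace Groth.Agent.S10763

/-- Let B be an algebraic space over S, let a : X ⟶ B and b : Y ⟶ B be locally of finite type, and let f
: X ⟶ Y be a universally closed morphism over B. If i : Z ⟶ X is a closed subspace with Z ⟶ B
proper, then the image of |Z| under |f| is a closed subset of |Y| which underlies a closed subspace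
Z' ⟶ Y with Z' ⟶ B proper. -/
theorem result {S : Scheme.{u}} {X Y B Z : AlgSp.Space S}
    (a : X ⟶ B) (b : Y ⟶ B) (f : X ⟶ Y) (hcomm : f ≫ b = a)
    (ha : AlgSp.LocP @LocallyOfFiniteType a.hom) (hb : AlgSp.LocP @LocallyOfFiniteType b.hom)
    (hfc : AlgSp.IsUnivClosedMor f.hom)
    (i : Z ⟶ X) (hi : AlgSp.RepWith @IsClosedImmersion i.hom) (hZ : AlgSp.IsProperMor (i ≫ a).hom) :
    IsClosed (AlgSp.Points.map f.hom '' Set.range (AlgSp.Points.map i.hom)) ∧
      ∃ (Z' : AlgSp.Space S) (i' : Z' ⟶ Y), AlgSp.RepWith @IsClosedImmersion i'.hom ∧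
        Set.range (AlgSp.Points.map i'.hom) = AlgSp.Points.map f.hom '' Set.range (AlgSp.Points.map i.hom) ∧
        AlgSp.IsProperMor (i' ≫ b).hom := by
  obtain ⟨Z₀, i₀, hi₀, hred, hr, hp⟩ := AlgSpLib.exists_reduced_proper i hi a hZ
  have e : AlgSp.Points.map f.hom '' Set.range (AlgSp.Points.map i.hom) = Set.range (AlgSp.Points.map (i₀ ≫ f).hom) := by
    rw [← hr, ← Set.range_comp, ObjectProperty.FullSubcategory.comp_hom]
    exact congrArg Set.range (funext fun z => (AlgSp.Points.map_comp _ _ z).symm)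
  have hp' : AlgSp.IsProperMor ((i₀ ≫ f).hom ≫ b.hom) := by
    rw [← hcomm, ObjectProperty.FullSubcategory.comp_hom] at hp
    rw [ObjectProperty.FullSubcategory.comp_hom, Category.assoc]
    exact hp
  have hc : AlgSp.IsUnivClosedMor (i₀ ≫ f).hom :=
    AlgSpLib.isUnivClosedMor_comp X.property Y.property
      (AlgSpLib.isProperMor_of_closedImmersion Z₀.property X.property hi₀).2.2 hfc
  have hcl : IsClosed (AlgSp.Points.map f.hom '' Set.range (AlgSp.Points.map i.hom)) :=
    e ▸ (AlgSpLib.isClosedMap_of_univClosed Y.property hc).isClosed_range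
  obtain ⟨Z', i', hi', hr', -⟩ := Stk19b.RedInd.exists_isRedInduced Y _ hcl
  refine ⟨hcl, Z', i', hi', hr', ?_⟩
  exact AlgSpLib.isProperMor_closedSubspace b hb i' hi' (fun _ : Unit => Z₀) (fun _ => hred) (fun _ => i₀ ≫ f)
    (by rw [Set.iUnion_const, hr', e]) (fun _ => hc) (fun _ => hp')

end Groth.Agent.S10763
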