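import Groth.Statements.S10768
import Groth.Agent.AlgSpLib.InductPrinciple
-- import your own Groth.Agent.* helpers here

set_option autoImplicit false
universe u
open CategoryTheory CategoryTheory.Limits AlgebraicGeometry
open AlgSp

namespace Groth.Agent.S10768

open Groth.Agent.AlgSpLib Groth.Agent.AlgSpLib.Induct in
theorem eds_step {S : Scheme.{u}} {X W₁ W₂ : AlgSp.Space S} {j₁ : W₁ ⟶ X} {j₂ : W₂ ⟶ X} {k : W₁ ⟶ W₂}
    (h₁ : RepWith @IsOpenImmersion j₁.hom) (h₂ : RepWith @IsOpenImmersion j₂.hom) (hk : k ≫ j₂ = j₁)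
    {V : Over S} (f : (AlgSp.yon S).obj V ⟶ X.obj) (hf : RepWith @Etale f)
    (hu : Uniq (Set.range (Points.map j₁.hom)) f)
    (hr : Set.range (Points.map j₂.hom) = Set.range (Points.map j₁.hom) ∪ Set.range (Points.ofPt f)) :
    ∃ f' : (AlgSp.ofScheme S).obj V ⟶ W₂, IsElemDistSq k.hom f'.hom := by
  have := mono_openImm h₂
  have hk' : k.hom ≫ j₂.hom = j₁.hom := congrArg (fun φ : W₁ ⟶ X => φ.hom) hk
  obtain ⟨f', hf'⟩ := (exists_lift_iff_range_subset h₂ f).2 (by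
    rw [range_map_yon, hr]; exact Set.subset_union_right)
  have hke : RepWith @IsOpenImmersion k.hom := repWith_of_comp_mono k.hom j₂.hom (hk'.symm ▸ h₁)
  have hr' : ∀ y, y ∈ Set.range (Points.map k.hom) ↔
      Points.map j₂.hom y ∈ Set.range (Points.map j₁.hom) := fun y => by
    rw [← hk']
    constructor
    · rintro ⟨z, rfl⟩
      exact ⟨z, Points.map_comp _ _ z⟩
    · rintro ⟨z, hz⟩
      exact ⟨z, injective_map_of_mono j₂.hom ((Points.map_comp _ _ z).symm.trans hz)⟩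
  refine ⟨ObjectProperty.homMk f', isElemDistSq_of_uniq k hke f'
    (repWith_of_comp_mono f' j₂.hom (hf'.symm ▸ hf)) (fun x hx => ?_) fun Ω _ _ str v v' e hn => ?_⟩
  · rcases hr.subset ⟨x, rfl⟩ with h | ⟨v, hv⟩
    · exact absurd ((hr' x).2 h) hx
    · exact ⟨v, injective_map_of_mono j₂.hom (by rw [Points.map_ofPt, hf', hv])⟩
  · refine hu Ω str v v' (by rw [← hf', ← Category.assoc, e, Category.assoc]) fun h => hn ((hr' _).2 ?_)
    rw [map_ptOfHom, Category.assoc, hf']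
    exact h

/-- Let X be a quasi-compact and quasi-separated algebraic space over S, W ⊂ X a quasi-compact open
subspace, and P a property of open subspaces of X (pairs of an algebraic space and a representable
open immersion into X). Assume (1) W has property P, and (2) given any elementary distinguished
square (W₁ ⊂ W₂, V ⟶ W₂) where W₁ ⊂ W₂ are quasi-compact open subspaces of X containing W and V is
affine, P for W₁ implies P for W₂. Then P holds for X (with its identity). Quasi-separatedness is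
relative to S with S quasi-separated. -/
theorem result {S : Scheme.{u}} [QuasiSeparatedSpace ↥S] (X : AlgSp.Space S)
    (hXc : AlgSp.IsQuasiCompactSp X.obj) (hXs : AlgSp.IsQuasiSeparatedSp X.obj)
    (P : ∀ U : AlgSp.Space S, (U ⟶ X) → Prop)
    (W : AlgSp.Space S) (jW : W ⟶ X) (hjW : AlgSp.RepWith @IsOpenImmersion jW.hom)
    (hWc : AlgSp.IsQuasiCompactSp W.obj) (h1 : P W jW)
    (h2 : ∀ (W₁ W₂ V : AlgSp.Space S) (j₁ : W₁ ⟶ X) (j₂ : W₂ ⟶ X) (k : W₁ ⟶ W₂) (m : W ⟶ W₁) (f : V ⟶ W₂),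
      AlgSp.RepWith @IsOpenImmersion j₁.hom → AlgSp.RepWith @IsOpenImmersion j₂.hom →
      k ≫ j₂ = j₁ → m ≫ j₁ = jW →
      AlgSp.IsQuasiCompactSp W₁.obj → AlgSp.IsQuasiCompactSp W₂.obj →
      (∃ T : Over S, IsAffine T.left ∧ Nonempty ((AlgSp.yon S).obj T ≅ V.obj)) →
      AlgSp.IsElemDistSq k.hom f.hom → P W₁ j₁ → P W₂ j₂) :
    P X (𝟙 X) := by
  open Groth.Agent.AlgSpLib Groth.Agent.AlgSpLib.Induct in
  have key := opens_induction X hXc hXs (fun O => ∃ (W₁ : AlgSp.Space S) (j₁ : W₁ ⟶ X) (m : W ⟶ W₁),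
    RepWith @IsOpenImmersion j₁.hom ∧ IsQuasiCompactSp W₁.obj ∧
      Set.range (Points.map j₁.hom) = O ∪ Set.range (Points.map jW.hom) ∧ m ≫ j₁ = jW ∧ P W₁ j₁)
    ⟨W, jW, 𝟙 W, hjW, hWc, (Set.empty_union _).symm, Category.id_comp _, h1⟩ ?_
  · obtain ⟨W₁, j₁, m, hj₁, hW₁c, hr₁, hm, hP⟩ := key
    rw [Set.univ_union] at hr₁
    obtain ⟨U, a, ha, has⟩ := X.property.atlas
    have : IsAffine (Over.mk ((⊥ : U.left.Opens).ι ≫ U.hom)).left := isAffineOpen_bot U.left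
    let f := (AlgSp.yon S).map (Groth.Agent.AlgSpLib.Induct.opHom U ⊥) ≫ a
    have hfe : RepWith @Etale f := RepWith.comp (Groth.Agent.AlgSpLib.Induct.repWith_etale
      (Groth.Agent.AlgSpLib.Induct.repWith_opHom U ⊥)) ha
    have hid : RepWith @IsOpenImmersion (𝟙 X : X ⟶ X).hom := Groth.Agent.AlgSpLib.repWith_of_isIso _ (𝟙 X.obj)
    have hempty : IsEmpty ↥(Over.mk ((⊥ : U.left.Opens).ι ≫ U.hom)).left := ⟨fun x => (x : ↥(⊥ : U.left.Opens)).2⟩
    obtain ⟨f', hsq⟩ := eds_step hj₁ hid (Category.comp_id j₁) f hfe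
      (fun Ω _ _ str v v' _ _ => isEmptyElim (v.left (IsLocalRing.closedPoint Ω))) (by
        rw [hr₁, Set.univ_union]
        exact Set.range_eq_univ.2 fun x => ⟨x, Points.map_id x⟩)
    exact h2 W₁ X _ j₁ (𝟙 X) j₁ m f' hj₁ hid (Category.comp_id _) hm hW₁c hXc
      ⟨_, ‹_›, ⟨Iso.refl _⟩⟩ hsq hP
  · rintro O V f hV hf hOo hOc hu ⟨W₁, j₁, m, hj₁, hW₁c, hr₁, hm, hP⟩
    have hfo : IsOpen (Set.range (Points.ofPt f)) := (Groth.Agent.AlgSpLib.isOpenMap_ofPt f hf).isOpen_range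
    have ho : IsOpen ((O ∪ Set.range (Points.ofPt f)) ∪ Set.range (Points.map jW.hom)) :=
      (hOo.union hfo).union (Groth.Agent.AlgSpLib.Induct.isOpen_range_map W.property hjW)
    let W₂ : AlgSp.Space S := ⟨_, Groth.Agent.AlgSpLib.isAlgSpace_openSubspace X.property ho⟩
    let j₂ : W₂ ⟶ X := ObjectProperty.homMk (Groth.Agent.AlgSpLib.openSubspaceι _ _)
    have hj₂ : RepWith @IsOpenImmersion j₂.hom := Groth.Agent.AlgSpLib.repWith_openSubspaceι _ ho
    have hr₂ : Set.range (Points.map j₂.hom) = _ := Groth.Agent.AlgSpLib.range_openSubspaceι _ _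
    obtain ⟨k, hk⟩ := (Groth.Agent.AlgSpLib.exists_lift_iff_range_subset hj₂ j₁.hom).2 (by
      rw [hr₁, hr₂]; exact Set.union_subset_union_left _ Set.subset_union_left)
    have hk' : (ObjectProperty.homMk k : W₁ ⟶ W₂) ≫ j₂ = j₁ := ObjectProperty.hom_ext _ hk
    have hW₂c : IsQuasiCompactSp W₂.obj :=
      Groth.Agent.AlgSpLib.Induct.isQuasiCompactSp_openImm W₂.property X.property hj₂ (hr₂ ▸
        (hOc.union (isCompact_range (Points.continuous_ofPt f))).union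
          (Groth.Agent.AlgSpLib.Induct.isCompact_range_map hWc _))
    obtain ⟨f', hsq⟩ := eds_step hj₁ hj₂ hk' f hf (hu.mono (hr₁ ▸ Set.subset_union_left))
      (by rw [hr₁, hr₂, Set.union_right_comm])
    exact ⟨W₂, j₂, m ≫ ObjectProperty.homMk k, hj₂, hW₂c, hr₂, by rw [Category.assoc, hk', hm],
      h2 W₁ W₂ _ j₁ j₂ _ m f' hj₁ hj₂ hk' hm hW₁c hW₂c ⟨V, hV, ⟨Iso.refl _⟩⟩ hsq hP⟩

end Groth.Agent.S10768
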