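import Groth.Statements.S10769
import Groth.Agent.AlgSpLib.ModEtAB
import Groth.Agent.AlgSpLib.QCohEtFP
import Groth.Agent.AlgSpLib.QCohEtPush
import Groth.Agent.DQCoh.Coproduct
-- import your own Groth.Agent.* helpers here

set_option autoImplicit false
universe u
open CategoryTheory CategoryTheory.Limits AlgebraicGeometry
attribute [local instance] HasDerivedCategory.standard
open AlgSp

namespace Groth.Agent.S10769

open CategoryTheory.Limits Groth.Agent Groth.Agent.AlgSpLib Groth.Agent.AlgSpLib.QCohEt Groth.Agent.AlgSpLib.ModEtAB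

set_option backward.isDefEq.respectTransparency false

/-- Let X be an algebraic space over S and E_i a family of objects of D(O_X) (modules on the small etale
site) with quasi-coherent cohomology sheaves. Granted that the direct sum of the E_i exists in
D(O_X) (it does), the direct sum again has quasi-coherent cohomology sheaves; thus D_QCoh(O_X) has
direct sums and they agree with those of D(O_X). -/
theorem result {S : Scheme.{u}} (X : AlgSp.Space S) {ι : Type (u + 1)}
    (E : ι → AlgSp.DModEt X.obj) [HasCoproduct E]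
    (hE : ∀ i, DCoh.IsQCohDMod (AlgSp.OEtRing X.obj) (E i)) :
    DCoh.IsQCohDMod (AlgSp.OEtRing X.obj) (∐ E) := by
  intro i
  obtain ⟨G, hG, ⟨e⟩⟩ := DQCoh.exists_homology_sigma_derived (A := AlgSp.ModEt X.obj) E i
  have hq : ∀ j, (G.obj j).IsQuasicoherent := fun ⟨j⟩ =>
    (SheafOfModules.isQuasicoherent (AlgSp.OEtRing X.obj)).prop_of_iso (hG j).some.symm (hE j i)
  refine (SheafOfModules.isQuasicoherent (AlgSp.OEtRing X.obj)).prop_of_iso e.symm ?_
  refine isQuasicoherent_of_forall _ fun c hc => ?_
  haveI := hc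
  refine isBC_of_essImage _ ?_
  let e' : ∀ j : Discrete ι, (L c).obj ((Γtop c).obj ((G.obj j).over c)) ≅ (G.obj j).over c := fun j =>
    haveI := hq j
    haveI := isIso_counit_of_isBC (G.obj j) (isBC (G.obj j) c)
    asIso ((adj c).counit.app ((G.obj j).over c))
  haveI : PreservesColimitsOfSize.{u + 1, u + 1} (L c) := (adj c).leftAdjoint_preservesColimits
  let η' : Discrete.functor (fun j => (Γtop c).obj ((G.obj ⟨j⟩).over c)) ⋙ L c ≅ G ⋙ AlgSp.resModEt c :=
    Discrete.natIso fun j => e' j
  exact ⟨colimit (Discrete.functor fun j => (Γtop c).obj ((G.obj ⟨j⟩).over c)),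
    ⟨preservesColimitIso (L c) _ ≪≫ HasColimit.isoOfNatIso η' ≪≫ (preservesColimitIso (AlgSp.resModEt c) G).symm⟩⟩

end Groth.Agent.S10769
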