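import Groth.Statements.S10771
import Groth.Agent.AlgSpLib.QCohEtExact
import Groth.Agent.AlgSpLib.QCohEtPush
-- import your own Groth.Agent.* helpers here

set_option autoImplicit false
universe u
open CategoryTheory CategoryTheory.Limits AlgebraicGeometry
attribute [local instance] HasDerivedCategory.standard
open AlgSp

namespace Groth.Agent.S10771

open CategoryTheory.Limits Groth.Agent Groth.Agent.AlgSpLib Groth.Agent.AlgSpLib.QCohEt AlgSp

set_option backward.isDefEq.respectTransparency false

/-- Let X be an algebraic space over S and E an m-pseudo-coherent object of D(O_X) (modules on the small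
etale site). Then H^i(E) is a quasi-coherent O_X-module for every i > m. In particular a
pseudo-coherent object has quasi-coherent cohomology sheaves. -/
theorem result {S : Scheme.{u}} (X : AlgSp.Space S) (m : ℤ)
    (E : AlgSp.DModEt X.obj) (hE : AlgSp.IsPseudoCoherentEtD m E) (i : ℤ) (hi : m < i) :
    (DCoh.HDMod (AlgSp.OEtRing X.obj) E i).IsQuasicoherent := by
  let M := DCoh.HDMod (OEtRing X.obj) E i
  let A : Type (u + 1) := {c : EtOver X.obj // IsAff c ∧ (L c).essImage (M.over c)}
  have hcov : (etTop X.obj).CoversTop (fun a : A => a.1) := fun U => by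
    obtain ⟨ι, V, g, hg, hV⟩ := hE U
    refine GrothendieckTopology.transitive _ (ofArrows_mem_etTop V g
      (fun x => ((ofArrows_mem_etPre_iff V g).1 hg x).elim fun j hj => ⟨j, hj⟩)) _ fun W f hf => ?_
    obtain ⟨_, k, _, ⟨j⟩, rfl⟩ := hf
    rw [Sieve.pullback_comp]
    refine GrothendieckTopology.pullback_stable _ k ?_
    obtain ⟨κ, Z, z, hZ, hc⟩ := exists_affine_cover (V j)
    refine GrothendieckTopology.superset_covering _ ?_ (ofArrows_mem_etTop Z z hc)
    rintro V' f' ⟨_, k', _, ⟨l⟩, rfl⟩
    refine (Sieve.mem_ofObjects_iff ..).2 ⟨⟨Z l, hZ l, ?_⟩, ⟨k'⟩⟩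
    haveI := hZ l
    obtain ⟨E', α, hE', hiso, -⟩ := hV j
    haveI := hiso i hi
    let Φ := SheafOfModules.overMap.{u + 1} (OEtRing X.obj) (z l)
    haveI : PreservesColimitsOfSize.{0, 0} Φ :=
      (SheafOfModules.overMapPushforwardAdj (OEtRing X.obj) (z l)).leftAdjoint_preservesColimits
    haveI : PreservesFiniteColimits Φ := PreservesColimitsOfSize.preservesFiniteColimits Φ
    let e₁ : E'.homology i ≅ M.over (V j) :=
      ((DerivedCategory.homologyFunctorFactors (ModEtOn (V j)) i).app E').symm ≪≫
        asIso ((DerivedCategory.homologyFunctor (ModEtOn (V j)) i).map α) ≪≫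
        hdMapIso (resModEt (V j)) E i
    let e₂ : ((Φ.mapHomologicalComplex (ComplexShape.up ℤ)).obj E').homology i ≅ M.over (Z l) :=
      (E'.sc i).mapHomologyIso Φ ≪≫ Φ.mapIso e₁ ≪≫
        (SheafOfModules.overFunctorMap.{u + 1} (OEtRing X.obj) (z l)).app M
    refine Functor.essImage.ofIso e₂ (essImage_homology (Z l) _ (fun q => ?_) i)
    exact essImage_overMap_summand (z l) (hE'.2 q)
  have hP : ∀ a : A, Nonempty (M.over a.1).Presentation := fun a => by
    haveI := a.2.1
    obtain ⟨N, ⟨e⟩⟩ := a.2.2
    obtain ⟨P⟩ := exists_presentation (c := a.1) N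
    exact ⟨P.ofIsIso e.hom⟩
  exact (@SheafOfModules.QuasicoherentData.mk _ _ _ (OEtRing X.obj) _ _ M A (fun a => a.1) hcov
    fun a => (hP a).some).isQuasicoherent

end Groth.Agent.S10771
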