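import Groth.Statements.S10772
import Groth.Agent.AlgSpLib.PscNoethEt
import Groth.Agent.AlgSpLib.QCohEtSubColim
-- import your own Groth.Agent.* helpers here

set_option autoImplicit false
universe u
open CategoryTheory CategoryTheory.Limits AlgebraicGeometry
attribute [local instance] HasDerivedCategory.standard
open AlgSp

set_option backward.isDefEq.respectTransparency false
set_option backward.isDefEq.respectTransparency.types false

namespace Groth.Agent.S10772

open Opposite Groth.Agent.AlgSpLib Groth.Agent.AlgSpLib.QCohEt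

theorem map_comp_eq {A : Type*} [Category A] [Abelian A] [HasDerivedCategory A] {K L : CochainComplex A ℤ}
    (α : K ⟶ L) (k : ℤ) {Z : A} (h : (DerivedCategory.homologyFunctor A k).obj (DerivedCategory.Q.obj L) ⟶ Z) :
    (DerivedCategory.homologyFunctor A k).map (DerivedCategory.Q.map α) ≫ h =
      ((DerivedCategory.homologyFunctorFactors A k).app K).hom ≫ HomologicalComplex.homologyMap α k ≫
        ((DerivedCategory.homologyFunctorFactors A k).app L).inv ≫ h := by
  have := (DerivedCategory.homologyFunctorFactors A k).hom.naturality α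
  simp only [Functor.comp_map] at this
  simp only [Iso.app_hom, Iso.app_inv]
  rw [← Category.assoc, ← Category.assoc]
  congr 1
  change (DerivedCategory.homologyFunctor A k).map (DerivedCategory.Q.map α) = _
  rw [show HomologicalComplex.homologyMap α k = (HomologicalComplex.homologyFunctor A (ComplexShape.up ℤ) k).map α from rfl]
  erw [← this, Category.assoc, Iso.hom_inv_id_app]
  exact (Category.comp_id _).symm

/-- Let X be a Noetherian algebraic space over S (quasi-compact, quasi-separated, locally Noetherian)
and E an object of D(O_X) (modules on the small etale site) with quasi-coherent cohomology sheaves.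
For an integer m the following are equivalent: (1) H^i(E) is coherent (here: of finite type, the
cohomology sheaves being quasi-coherent on a locally Noetherian space) for i ≥ m and H^i(E) = 0 for
all large i; (2) E is m-pseudo-coherent. In particular E is pseudo-coherent exactly when it is
bounded above with coherent cohomology sheaves. -/
theorem result {S : Scheme.{u}} (X : AlgSp.Space S)
    (hXc : AlgSp.IsQuasiCompactSp X.obj) (hXs : AlgSp.IsQuasiSeparatedSp X.obj) (hXn : AlgSp.IsLocNoethSp X.obj)
    (E : AlgSp.DModEt X.obj) (hE : DCoh.IsQCohDMod (AlgSp.OEtRing X.obj) E) (m : ℤ) :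
    AlgSp.IsPseudoCoherentEtD m E ↔
      (∀ i : ℤ, m ≤ i → (DCoh.HDMod (AlgSp.OEtRing X.obj) E i).IsFiniteType) ∧ ∃ b : ℤ, E.IsLE b := by
  let F := DerivedCategory.Q.objPreimage E
  let e := DerivedCategory.Q.objObjPreimageIso E
  let eH : ∀ j, F.homology j ≅ DCoh.HDMod (AlgSp.OEtRing X.obj) E j := fun j =>
    ((DerivedCategory.homologyFunctorFactors (ModEt X.obj) j).app F).symm ≪≫
      (DerivedCategory.homologyFunctor (ModEt X.obj) j).mapIso e
  constructor
  · intro h
    refine ⟨fun i hi => ?_, ?_⟩
    · let M := DCoh.HDMod (OEtRing X.obj) E i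
      let A : Type (u + 1) := {c : EtOver X.obj // IsAff c ∧
        ∃ G : (M.over c).GeneratingSections, G.IsFiniteType}
      have hcov : (etTop X.obj).CoversTop (fun a : A => a.1) := fun U => by
        obtain ⟨ι, V, g, hg, hV⟩ := h U
        refine GrothendieckTopology.transitive _ (ofArrows_mem_etTop V g
          (fun x => ((ofArrows_mem_etPre_iff V g).1 hg x).elim fun j hj => ⟨j, hj⟩)) _ fun W f hf => ?_
        obtain ⟨_, k, _, ⟨j⟩, rfl⟩ := hf
        rw [Sieve.pullback_comp]
        refine GrothendieckTopology.pullback_stable _ k ?_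
        obtain ⟨κ, Z, z, hZ, hc⟩ := exists_affine_cover (V j)
        refine GrothendieckTopology.superset_covering _ ?_ (ofArrows_mem_etTop Z z hc)
        rintro V' f' ⟨_, k', _, ⟨l⟩, rfl⟩
        refine (Sieve.mem_ofObjects_iff ..).2 ⟨⟨Z l, hZ l, ?_⟩, ⟨k'⟩⟩
        haveI := hZ l
        haveI := isNoetherianRing_ΓE hXn (Z l)
        obtain ⟨E', α, hE', hiso, hepi⟩ := hV j
        haveI : Epi ((DerivedCategory.homologyFunctor (ModEtOn (V j)) i).map α) := by
          rcases hi.eq_or_lt with rfl | hlt
          · exact hepi
          · haveI := hiso i hlt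
            infer_instance
        let Φ := SheafOfModules.overMap.{u + 1} (OEtRing X.obj) (z l)
        haveI : PreservesColimitsOfSize.{0, 0} Φ :=
          (SheafOfModules.overMapPushforwardAdj (OEtRing X.obj) (z l)).leftAdjoint_preservesColimits
        haveI : PreservesFiniteColimits Φ := PreservesColimitsOfSize.preservesFiniteColimits Φ
        let e₁ : E'.homology i ⟶ M.over (V j) :=
          ((DerivedCategory.homologyFunctorFactors (ModEtOn (V j)) i).app E').inv ≫
            (DerivedCategory.homologyFunctor (ModEtOn (V j)) i).map α ≫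
            (hdMapIso (resModEt (V j)) E i).hom
        haveI : Epi e₁ := inferInstance
        let e₂ : ((Φ.mapHomologicalComplex (ComplexShape.up ℤ)).obj E').homology i ⟶ M.over (Z l) :=
          ((E'.sc i).mapHomologyIso Φ).hom ≫ Φ.map e₁ ≫
            ((SheafOfModules.overFunctorMap.{u + 1} (OEtRing X.obj) (z l)).app M).hom
        haveI : Epi e₂ := inferInstance
        obtain ⟨⟨N, ⟨u⟩⟩, hfin⟩ := PscNoeth.homology_ess ((Φ.mapHomologicalComplex (ComplexShape.up ℤ)).obj E')
          (fun q => PscNoeth.summand_ess (PscNoeth.summand_overMap (z l) (hE'.2 q))) i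
        haveI : IsIso ((adj (Z l)).unit.app N) := inferInstance
        haveI : Module.Finite (ΓE (Z l)) N := by
          let u' : (Γtop (Z l)).obj (((Φ.mapHomologicalComplex (ComplexShape.up ℤ)).obj E').homology i) ≅ N :=
            ((Γtop (Z l)).mapIso u).symm ≪≫ (asIso ((adj (Z l)).unit.app N)).symm
          haveI := hfin
          exact Module.Finite.equiv u'.toLinearEquiv
        haveI : Module.FinitePresentation (ΓE (Z l)) N := Module.finitePresentation_of_finite _ _
        obtain ⟨P, hP⟩ := exists_finite_presentation N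
        haveI := hP.isFiniteType_generators
        exact ⟨P.generators.ofEpi (u.hom ≫ e₂), inferInstanceAs ((P.generators.ofEpi (u.hom ≫ e₂)).IsFiniteType)⟩
      choose G hG using fun a : A => a.2.2
      refine @SheafOfModules.IsFiniteType.mk _ _ _ (OEtRing X.obj) _ _ M ⟨@SheafOfModules.LocalGeneratorsData.mk _ _ _
        (OEtRing X.obj) M _ _ A (fun a => a.1) hcov G, ?_⟩
      exact @SheafOfModules.LocalGeneratorsData.IsFiniteType.mk _ _ _ (OEtRing X.obj) M _ _ _ fun a => hG a
    · classical
      haveI := compactSpace_points_of_isQuasiCompactSp hXc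
      obtain ⟨T, a, hT, he, hs⟩ := AlgSpLib.exists_affine_chart X.property
      obtain ⟨ι, V, g, hg, hV⟩ := h (EtOver.mk a he)
      have hop : ∀ j, IsOpen (Set.range (g j).hom.left.left) := fun j => by
        haveI : Etale (g j).hom.left.left := EtOver.etale_left (g j)
        exact (g j).hom.left.left.isOpenMap.isOpen_range
      obtain ⟨t, ht⟩ := (isCompact_univ (X := T.left)).elim_finite_subcover
        (fun j => Set.range (g j).hom.left.left) hop fun x _ => Set.mem_iUnion.2 ((ofArrows_mem_etPre_iff V g).1 hg x)
      choose E' α hE' hiso hepi using hV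
      choose lo hi' hb using fun j => (hE' j).1
      obtain ⟨c, hc⟩ : ∃ c : ℤ, ∀ j ∈ t, hi' j ≤ c := (t.finite_toSet.image hi').bddAbove.imp fun c h j hj =>
        h ⟨j, hj, rfl⟩
      refine ⟨max c m, (DerivedCategory.isLE_iff E (max c m)).2 fun i hi => ?_⟩
      refine PerfBounded.isZero_of_cover X.property _ (fun j : t => V j.1) (fun j => ?_) fun x => ?_
      · haveI := hiso j.1 i (lt_of_le_of_lt (le_max_right _ _) hi)
        have hz : IsZero ((DerivedCategory.homologyFunctor (ModEtOn (V j.1)) i).obj
            (DCoh.toDMod (OEtOn (V j.1)) (E' j.1))) := by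
          refine IsZero.of_iso ?_ ((DerivedCategory.homologyFunctorFactors (ModEtOn (V j.1)) i).app (E' j.1))
          exact ShortComplex.isZero_homology_of_isZero_X₂ _ (hb j.1 i (Or.inr ((hc j.1 j.2).trans_lt
            (lt_of_le_of_lt (le_max_left _ _) hi))))
        exact IsZero.of_iso hz ((hdMapIso (resModEt (V j.1)) E i).symm ≪≫
          (asIso ((DerivedCategory.homologyFunctor (ModEtOn (V j.1)) i).map (α j.1))).symm)
      · obtain ⟨w, hw⟩ := surjective_ofPt a hs x
        obtain ⟨j, hj, v, hv⟩ := Set.mem_iUnion₂.1 (ht (Set.mem_univ w))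
        refine ⟨⟨j, hj⟩, v, ?_⟩
        rw [← ofPt_hom (g j) v, hv]
        exact hw
  · rintro ⟨hft, b, hb⟩ U
    have hq : ∀ j, (F.homology j).IsQuasicoherent := fun j =>
      (SheafOfModules.isQuasicoherent (OEtRing X.obj)).prop_of_iso (eH j).symm (hE j)
    have hft' : ∀ j, m ≤ j → (F.homology j).IsFiniteType := fun j hj => by
      haveI := hft j hj
      haveI : (DCoh.HDMod (AlgSp.OEtRing X.obj) E j).IsQuasicoherent := hE j
      exact (isFiniteType_of_iso (eH j).symm).2
    have hb' : ∀ j, b < j → IsZero (F.homology j) := fun j hj =>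
      IsZero.of_iso ((DerivedCategory.isLE_iff E b).1 hb j hj) (eH j)
    have key := PscNoeth.locallyEt_approx hXn F m b hq hft' hb' (max m (b + 1) - m).toNat (by omega) U
    rw [show max m (b + 1) - ((max m (b + 1) - m).toNat : ℤ) = m by omega] at key
    obtain ⟨ι, V, g, hg, hV⟩ := key
    refine ⟨ι, V, g, hg, fun j => ?_⟩
    obtain ⟨-, E', α, hE', -, hiso, hepi⟩ := hV j
    let φ : DCoh.toDMod (OEtOn (V j)) E' ⟶ (resDEt (V j)).obj E :=
      DerivedCategory.Q.map α ≫ ((resModEt (V j)).mapDerivedCategoryFactors.app F).inv ≫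
        (resModEt (V j)).mapDerivedCategory.map e.hom
    have hφ : ∀ k, (DerivedCategory.homologyFunctor (ModEtOn (V j)) k).map φ =
        ((DerivedCategory.homologyFunctorFactors (ModEtOn (V j)) k).app E').hom ≫ HomologicalComplex.homologyMap α k ≫
          ((DerivedCategory.homologyFunctorFactors (ModEtOn (V j)) k).app _).inv ≫
          (DerivedCategory.homologyFunctor (ModEtOn (V j)) k).map (((resModEt (V j)).mapDerivedCategoryFactors.app F).inv ≫
            (resModEt (V j)).mapDerivedCategory.map e.hom) := fun k => by
      simp only [φ, Functor.map_comp]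
      exact map_comp_eq α k _
    refine ⟨E', φ, hE', fun k hk => ?_, ?_⟩
    · haveI := hiso k hk
      rw [hφ]
      infer_instance
    · rw [hφ]
      infer_instance

end Groth.Agent.S10772
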