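import Groth.Statements.S10779
import Groth.Agent.AlgSpLib.PerfBounded

set_option autoImplicit false
universe u
open CategoryTheory CategoryTheory.Limits AlgebraicGeometry
attribute [local instance] HasDerivedCategory.standard
open AlgSp

namespace Groth.Agent.S10779

/-- Let X be a quasi-compact and quasi-separated algebraic space over S, P a perfect object of D(O_X)
(modules on the small etale site), E an object of D_QCoh(O_X) and a ∈ ℤ. Then the morphisms P[-i] ⟶
E vanish for all sufficiently negative i if and only if the morphisms P[-i] ⟶ τ_{≤ a}E vanish for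
all sufficiently negative i. Quasi-separatedness is relative to S with S quasi-separated. -/
theorem result {S : Scheme.{u}} [QuasiSeparatedSpace ↥S] (X : AlgSp.Space S)
    (hXc : AlgSp.IsQuasiCompactSp X.obj) (hXs : AlgSp.IsQuasiSeparatedSp X.obj)
    (P : AlgSp.DModEt X.obj) (hP : AlgSp.IsPerfectEtD P)
    (E : AlgSp.DModEt X.obj) (hE : DCoh.IsQCohDMod (AlgSp.OEtRing X.obj) E) (a : ℤ) :
    (∃ N : ℤ, ∀ i : ℤ, i ≤ N → ∀ φ : P⟦-i⟧ ⟶ E, φ = 0) ↔
      (∃ N : ℤ, ∀ i : ℤ, i ≤ N → ∀ φ : P⟦-i⟧ ⟶ ((DerivedCategory.TStructure.t : CategoryTheory.Triangulated.TStructure (AlgSp.DModEt X.obj)).truncLE a).obj E, φ = 0) := by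
  obtain ⟨c, hc⟩ := Groth.Agent.AlgSpLib.PerfBounded.exists_isLE hXc P hP
  let t : CategoryTheory.Triangulated.TStructure (AlgSp.DModEt X.obj) := DerivedCategory.TStructure.t
  have hT := t.triangleLEGE_distinguished a (a + 1) rfl E
  haveI hGE : ((t.truncGE (a + 1)).obj E).IsGE (a + 1) := inferInstanceAs (t.IsGE ((t.truncGE (a + 1)).obj E) (a + 1))
  constructor
  · rintro ⟨N, hN⟩
    refine ⟨min N (a + 1 - c), fun i hi ψ => ?_⟩
    obtain ⟨g, hg⟩ := Pretriangulated.Triangle.coyoneda_exact₂ _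
      (Pretriangulated.inv_rot_of_distTriang _ hT) ψ (hN i (by omega) _)
    haveI := hGE
    haveI : (((t.truncGE (a + 1)).obj E)⟦(-1 : ℤ)⟧).IsGE (a + 2) :=
      t.isGE_shift _ (a + 1) (-1) (a + 2) (by omega)
    have hg0 : g = 0 := Groth.Agent.AlgSpLib.PerfBounded.eq_zero_of_shift P _ c hc i (a + 2)
      (inferInstanceAs ((((t.truncGE (a + 1)).obj E)⟦(-1 : ℤ)⟧).IsGE (a + 2))) (by omega) g
    rw [hg, hg0]
    exact zero_comp
  · rintro ⟨N, hN⟩
    refine ⟨min N (a - c), fun i hi φ => ?_⟩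
    obtain ⟨g, hg⟩ := Pretriangulated.Triangle.coyoneda_exact₂ _ hT φ
      (Groth.Agent.AlgSpLib.PerfBounded.eq_zero_of_shift P _ c hc i (a + 1) hGE (by omega) _)
    rw [hg, hN i (by omega) g]
    exact zero_comp

end Groth.Agent.S10779
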