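import Groth.Statements.S10782
import Groth.Agent.AlgSpLib.RpushReflect
import Groth.Agent.DCat.RDUnbounded

set_option autoImplicit false
universe u
open CategoryTheory CategoryTheory.Limits AlgebraicGeometry
attribute [local instance] HasDerivedCategory.standard
open AlgSp

namespace Groth.Agent.S10782

open DerivedCategory
set_option backward.isDefEq.respectTransparency.types false
set_option backward.isDefEq.respectTransparency false
set_option linter.style.haveILetI false

/-- Let f : X ⟶ Y be an affine morphism of algebraic spaces over S; it is representable by schemes, and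
that hypothesis is carried separately so that the total direct image Rf_* on D(O_X) (modules on the
small etale sites, under its existence binder) is available. Then Rf_* reflects isomorphisms on
D_QCoh(O_X): a morphism α : E ⟶ F between objects with quasi-coherent cohomology sheaves is an
isomorphism as soon as Rf_*α is. -/
theorem result {S : Scheme.{u}} {X Y : AlgSp.Space S} (f : X ⟶ Y)
    (hfa : AlgSp.IsAffineMor f.hom) (hf : AlgSp.Representable f.hom) [AlgSp.HasRpushModEtD hf]
    {E F : AlgSp.DModEt X.obj} (hE : DCoh.IsQCohDMod (AlgSp.OEtRing X.obj) E)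
    (hF : DCoh.IsQCohDMod (AlgSp.OEtRing X.obj) F) (α : E ⟶ F)
    (hα : IsIso ((AlgSp.RpushModEtD hf).map α)) : IsIso α := by
  have hE' := Groth.Agent.DCat.enoughKInj_of_isGrothendieckAbelian (A := AlgSp.ModEt X.obj)
  obtain ⟨I, i, hI, hi⟩ := hE' (Q.objPreimage E)
  obtain ⟨J, j, hJ, hj⟩ := hE' (Q.objPreimage F)
  haveI := hI
  haveI := hJ
  let eI : Q.obj I ≅ E := (asIso (Q.map i)).symm ≪≫ Q.objObjPreimageIso E
  let eJ : Q.obj J ≅ F := (asIso (Q.map j)).symm ≪≫ Q.objObjPreimageIso F
  obtain ⟨g, hg⟩ := Groth.Agent.DCat.Amplitude.exists_Q_map_eq (CochainComplex.IsKInjective.Qh_map_bijective _ J)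
    (eI.hom ≫ α ≫ eJ.inv)
  let η := (AlgSp.pushModEtKh hf).totalRightDerivedUnit Qh
    (HomotopyCategory.quasiIso (AlgSp.ModEt X.obj) (ComplexShape.up ℤ))
  let qg := (HomotopyCategory.quotient (AlgSp.ModEt X.obj) (ComplexShape.up ℤ)).map g
  haveI hη₁ := Groth.Agent.DCat.isIso_unit_of_kInj hE' (AlgSp.pushModEtKh hf) I hI
  haveI hη₂ := Groth.Agent.DCat.isIso_unit_of_kInj hE' (AlgSp.pushModEtKh hf) J hJ
  haveI : IsIso ((AlgSp.RpushModEtD hf).map (Qh.map qg)) := by
    have h1 : IsIso ((AlgSp.RpushModEtD hf).map (Q.map g)) := by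
      rw [hg, Functor.map_comp, Functor.map_comp]
      infer_instance
    exact (MorphismProperty.isomorphisms (AlgSp.DModEt Y.obj)).arrow_mk_iso_iff
      ((AlgSp.RpushModEtD hf).mapArrow.mapIso (Arrow.isoMk ((quotientCompQhIso (AlgSp.ModEt X.obj)).app I)
        ((quotientCompQhIso (AlgSp.ModEt X.obj)).app J)
        ((quotientCompQhIso (AlgSp.ModEt X.obj)).hom.naturality g).symm :
          Arrow.mk (Qh.map qg) ≅ Arrow.mk (Q.map g))) |>.2 h1
  haveI hP : IsIso ((AlgSp.pushModEtKh hf).map qg) := by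
    have hn : (AlgSp.pushModEtKh hf).map qg ≫ η.app _ = η.app _ ≫ (AlgSp.RpushModEtD hf).map (Qh.map qg) :=
      η.naturality qg
    haveI : IsIso ((AlgSp.pushModEtKh hf).map qg ≫ η.app _) := by rw [hn]; infer_instance
    exact IsIso.of_isIso_comp_right ((AlgSp.pushModEtKh hf).map qg) (η.app _)
  have hq : QuasiIso (((AlgSp.pushModEt hf).mapHomologicalComplex (ComplexShape.up ℤ)).map g) := by
    rw [← DerivedCategory.isIso_Q_map_iff_quasiIso]
    exact (MorphismProperty.isomorphisms (AlgSp.DModEt Y.obj)).arrow_mk_iso_iff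
      (Arrow.isoMk ((quotientCompQhIso (AlgSp.ModEt Y.obj)).app _) ((quotientCompQhIso (AlgSp.ModEt Y.obj)).app _)
        ((quotientCompQhIso (AlgSp.ModEt Y.obj)).hom.naturality _).symm) |>.1 hP
  have hqE : DCoh.IsQCohDMod (AlgSp.OEtRing X.obj) (Q.obj I) := fun n =>
    (SheafOfModules.isQuasicoherent (AlgSp.OEtRing X.obj)).prop_of_iso
      ((homologyFunctor (AlgSp.ModEt X.obj) n).mapIso eI).symm (hE n)
  have hqF : DCoh.IsQCohDMod (AlgSp.OEtRing X.obj) (Q.obj J) := fun n =>
    (SheafOfModules.isQuasicoherent (AlgSp.OEtRing X.obj)).prop_of_iso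
      ((homologyFunctor (AlgSp.ModEt X.obj) n).mapIso eJ).symm (hF n)
  haveI := Groth.Agent.AlgSpLib.RpushReflect.quasiIso_of_push hf Y.property hfa g hqE hqF hq
  have e : α = eI.inv ≫ Q.map g ≫ eJ.hom := by simp [hg]
  rw [e]
  infer_instance

end Groth.Agent.S10782
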