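import Groth.Statements.S10783
import Groth.Agent.AlgSpLib.RFBound
import Groth.Agent.AlgSpLib.QCohEtRlim
import Groth.Agent.AlgSpLib.SerreAffineSec

set_option autoImplicit false
universe u
open CategoryTheory CategoryTheory.Limits AlgebraicGeometry
attribute [local instance] HasDerivedCategory.standard
open AlgSp

namespace Groth.Agent.S10783

set_option backward.isDefEq.respectTransparency.types false
set_option backward.isDefEq.respectTransparency false
set_option linter.style.haveILetI false

theorem hR {S : Scheme.{u}} {X : AlgSp.Sp S} (E : AlgSp.DModEt X) (hE : ∀ q, SheafOfModules.isQuasicoherent (AlgSp.OEtRing X) ((DerivedCategory.homologyFunctor (AlgSp.ModEt X) q).obj E))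
    [HasProduct (CohCx.truncTower E)] :
    CohCx.IsRlimVia (CohCx.truncTower E) (CohCx.truncTowerMap E) E (CohCx.toTruncTower E) :=
  Groth.Agent.AlgSpLib.EtSmall.isRlim E hE

/-- Let X be an algebraic space over S, F : Mod(O_X) ⥤ Ab (modules on the small etale site) a left exact
additive functor commuting with countable direct products, and N ≥ 0 an integer with R^pF(G) = 0 for
every p ≥ N and every quasi-coherent module G (right derived functors computed with injective
resolutions). Assume the total right derived functor RF : D(O_X) ⥤ D(Ab) exists. Then for E in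
D_QCoh(O_X) and i ≥ b the map H^i(RF(E)) ⟶ H^i(RF(τ_{≥ b-N+1}E)) induced by the truncation morphism
is an isomorphism. -/
theorem result {S : Scheme.{u}} (X : AlgSp.Space S)
    (F : AlgSp.ModEt X.obj ⥤ AddCommGrpCat.{u + 1}) [F.Additive] [PreservesFiniteLimits F]
    [PreservesLimitsOfShape (Discrete ℕ) F] [EnoughInjectives (AlgSp.ModEt X.obj)] (N : ℕ)
    (hF : ∀ G : AlgSp.ModEt X.obj, G.IsQuasicoherent → ∀ p : ℕ, N ≤ p → IsZero ((F.rightDerived p).obj G))
    [(F.mapHomotopyCategory (ComplexShape.up ℤ) ⋙ DerivedCategory.Qh).HasRightDerivedFunctor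
      (HomotopyCategory.quasiIso (AlgSp.ModEt X.obj) (ComplexShape.up ℤ))]
    (E : AlgSp.DModEt X.obj) (hE : DCoh.IsQCohDMod (AlgSp.OEtRing X.obj) E) (b i : ℤ) (hi : b ≤ i) :
    IsIso ((DerivedCategory.homologyFunctor AddCommGrpCat.{u + 1} i).map (((F.mapHomotopyCategory (ComplexShape.up ℤ) ⋙ DerivedCategory.Qh).totalRightDerived DerivedCategory.Qh (HomotopyCategory.quasiIso (AlgSp.ModEt X.obj) (ComplexShape.up ℤ))).map
      (((DerivedCategory.TStructure.t : CategoryTheory.Triangulated.TStructure (AlgSp.DModEt X.obj)).truncGEπ (b - N + 1)).app E))) := by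
  have hA : Groth.Agent.DCat.EnoughKInj (AlgSp.ModEt X.obj) := Groth.Agent.DCat.enoughKInj_of_isGrothendieckAbelian
  have hB : Groth.Agent.DCat.EnoughKInj AddCommGrpCat.{u + 1} := Groth.Agent.DCat.enoughKInj_of_isGrothendieckAbelian
  haveI : HasInjectiveResolutions (AlgSp.ModEt X.obj) := inferInstance
  refine Groth.Agent.AlgSpLib.RFBound.isIso_homology_truncGE hA hB F (SheafOfModules.isQuasicoherent (AlgSp.OEtRing X.obj)) N hF
    (fun E hE => hR E hE) (fun G hG => ?_) E hE b i hi
  haveI := hE 0
  exact (SheafOfModules.isQuasicoherent (AlgSp.OEtRing X.obj)).prop_of_iso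
    ((isZero_cokernel_of_epi (𝟙 (DCoh.HDMod (AlgSp.OEtRing X.obj) E 0))).iso hG)
    (Groth.Agent.AlgSpLib.QCohEt.isQuasicoherent_cokernel _)

end Groth.Agent.S10783
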