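import Groth.Statements.S10784
import Groth.Agent.AlgSpLib.RFBound
import Groth.Agent.AlgSpLib.QCohEtRlim
import Groth.Agent.AlgSpLib.SerreAffineSec

set_option autoImplicit false
universe u
open CategoryTheory CategoryTheory.Limits AlgebraicGeometry
attribute [local instance] HasDerivedCategory.standard
open AlgSp

namespace Groth.Agent.S10784

set_option backward.isDefEq.respectTransparency.types false
set_option backward.isDefEq.respectTransparency false
set_option linter.style.haveILetI false

theorem hR {S : Scheme.{u}} {X : AlgSp.Sp S} (E : AlgSp.DModEt X) (hE : ∀ q, SheafOfModules.isQuasicoherent (AlgSp.OEtRing X) ((DerivedCategory.homologyFunctor (AlgSp.ModEt X) q).obj E))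
    [HasProduct (CohCx.truncTower E)] :
    CohCx.IsRlimVia (CohCx.truncTower E) (CohCx.truncTowerMap E) E (CohCx.toTruncTower E) :=
  Groth.Agent.AlgSpLib.EtSmall.isRlim E hE

/-- Let X be an algebraic space over S, F : Mod(O_X) ⥤ Ab (modules on the small etale site) a left exact
additive functor commuting with countable direct products, and N ≥ 0 an integer with R^pF(G) = 0 for
every p ≥ N and every quasi-coherent module G (right derived functors computed with injective
resolutions). Assume the total right derived functor RF : D(O_X) ⥤ D(Ab) exists. Let E be in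
D_QCoh(O_X) and a, b integers. If H^i(E) = 0 for all i < a, then H^i(RF(E)) = 0 for all i < a; and
if H^i(E) = 0 for all i > b, then H^i(RF(E)) = 0 for all i > b + N - 1. (Either bound may be absent:
the two implications are stated separately, so E need not be bounded on the other side.) -/
theorem result {S : Scheme.{u}} (X : AlgSp.Space S)
    (F : AlgSp.ModEt X.obj ⥤ AddCommGrpCat.{u + 1}) [F.Additive] [PreservesFiniteLimits F]
    [PreservesLimitsOfShape (Discrete ℕ) F] [EnoughInjectives (AlgSp.ModEt X.obj)] (N : ℕ)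
    (hF : ∀ G : AlgSp.ModEt X.obj, G.IsQuasicoherent → ∀ p : ℕ, N ≤ p → IsZero ((F.rightDerived p).obj G))
    [(F.mapHomotopyCategory (ComplexShape.up ℤ) ⋙ DerivedCategory.Qh).HasRightDerivedFunctor
      (HomotopyCategory.quasiIso (AlgSp.ModEt X.obj) (ComplexShape.up ℤ))]
    (E : AlgSp.DModEt X.obj) (hE : DCoh.IsQCohDMod (AlgSp.OEtRing X.obj) E) (a b : ℤ) :
    ((∀ i : ℤ, i < a → IsZero (DCoh.HDMod (AlgSp.OEtRing X.obj) E i)) →
      ∀ i : ℤ, i < a → IsZero ((DerivedCategory.homologyFunctor AddCommGrpCat.{u + 1} i).obj (((F.mapHomotopyCategory (ComplexShape.up ℤ) ⋙ DerivedCategory.Qh).totalRightDerived DerivedCategory.Qh (HomotopyCategory.quasiIso (AlgSp.ModEt X.obj) (ComplexShape.up ℤ))).obj E))) ∧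
    ((∀ i : ℤ, b < i → IsZero (DCoh.HDMod (AlgSp.OEtRing X.obj) E i)) →
      ∀ i : ℤ, b + N - 1 < i → IsZero ((DerivedCategory.homologyFunctor AddCommGrpCat.{u + 1} i).obj (((F.mapHomotopyCategory (ComplexShape.up ℤ) ⋙ DerivedCategory.Qh).totalRightDerived DerivedCategory.Qh (HomotopyCategory.quasiIso (AlgSp.ModEt X.obj) (ComplexShape.up ℤ))).obj E))) := by
  have hA : Groth.Agent.DCat.EnoughKInj (AlgSp.ModEt X.obj) := Groth.Agent.DCat.enoughKInj_of_isGrothendieckAbelian
  have hB : Groth.Agent.DCat.EnoughKInj AddCommGrpCat.{u + 1} := Groth.Agent.DCat.enoughKInj_of_isGrothendieckAbelian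
  haveI : HasInjectiveResolutions (AlgSp.ModEt X.obj) := inferInstance
  refine ⟨fun h i hi => ?_, fun h i hi => ?_⟩
  · haveI : E.IsGE a := (DerivedCategory.isGE_iff _ _).2 h
    haveI := Groth.Agent.SiteDer16.isGE_totalRightDerived hA F E a
    exact DerivedCategory.isZero_of_isGE _ a i hi
  · exact Groth.Agent.AlgSpLib.RFBound.isZero_homology_above hA hB F (SheafOfModules.isQuasicoherent (AlgSp.OEtRing X.obj)) N hF
      (fun E hE => hR E hE) E hE b i ((DerivedCategory.isLE_iff _ _).2 h) hi

end Groth.Agent.S10784
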