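import Groth.Statements.S10785
import Groth.Agent.AlgSpLib.QCohEtLim

set_option autoImplicit false
universe u
open CategoryTheory CategoryTheory.Limits AlgebraicGeometry
attribute [local instance] HasDerivedCategory.standard
open AlgSp

namespace Groth.Agent.S10785

open Groth.Agent.AlgSpLib.EtSmall
set_option backward.isDefEq.respectTransparency.types false
set_option backward.isDefEq.respectTransparency false

theorem comp_symm {S : Scheme.{u}} {X : Sp S} (V : Idx X) {M N : ModEt X} (f : M ⟶ N)
    (s : sectModEt M (ULiftHom.objDown V)) :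
    (secEquiv X V M).symm s ≫ f = (secEquiv X V N).symm (f.val.app (Opposite.op (ULiftHom.objDown V)) s) := by
  apply (secEquiv X V N).injective
  rw [secEquiv_comp, AddEquiv.apply_symm_apply, AddEquiv.apply_symm_apply]

/-- Let X be an algebraic space over S and (K_n, t_n : K_{n+1} ⟶ K_n) an inverse system in D(O_X)
(modules on the small etale site) of objects with quasi-coherent cohomology sheaves such that
H^q(K_{n+1}) ⟶ H^q(K_n) is an epimorphism for all q and n, and let a : K ⟶ ∏ K_n exhibit K as the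
derived limit R lim K_n (a distinguished triangle K ⟶ ∏ K_n ⟶ ∏ K_n ⟶ K[1] whose middle map is
identity minus transition). Then H^q(K) = lim H^q(K_n): for every object W of the site, the maps
H^q(K)(W) ⟶ H^q(K_n)(W) induced by a identify the sections of H^q(K) over W with the compatible
families of sections of the H^q(K_n) over W. -/
theorem result {S : Scheme.{u}} (X : AlgSp.Space S)
    (K : ℕ → AlgSp.DModEt X.obj) (t : ∀ n, K (n + 1) ⟶ K n)
    (hK : ∀ n, DCoh.IsQCohDMod (AlgSp.OEtRing X.obj) (K n))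
    (ht : ∀ (q : ℤ) (n : ℕ), Epi ((DerivedCategory.homologyFunctor (AlgSp.ModEt X.obj) q).map (t n)))
    [HasProduct K] (L : AlgSp.DModEt X.obj) (a : L ⟶ ∏ᶜ K) (c : (∏ᶜ K) ⟶ L⟦(1 : ℤ)⟧)
    (hdist : CategoryTheory.Pretriangulated.Triangle.mk a
      (Pi.lift fun n : ℕ => Pi.π K n - Pi.π K (n + 1) ≫ t n) c ∈ CategoryTheory.Pretriangulated.distinguishedTriangles)
    (q : ℤ) (W : AlgSp.EtOver X.obj) :
    (∀ s s' : AlgSp.sectModEt (DCoh.HDMod (AlgSp.OEtRing X.obj) L q) W,
        (∀ n : ℕ, ((DerivedCategory.homologyFunctor (AlgSp.ModEt X.obj) q).map (a ≫ Pi.π K n)).val.app (Opposite.op W) s =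
          ((DerivedCategory.homologyFunctor (AlgSp.ModEt X.obj) q).map (a ≫ Pi.π K n)).val.app (Opposite.op W) s') → s = s') ∧
      ∀ x : ∀ n : ℕ, AlgSp.sectModEt (DCoh.HDMod (AlgSp.OEtRing X.obj) (K n) q) W,
        (∀ n : ℕ, ((DerivedCategory.homologyFunctor (AlgSp.ModEt X.obj) q).map (t n)).val.app (Opposite.op W) (x (n + 1)) = x n) →
        ∃ s : AlgSp.sectModEt (DCoh.HDMod (AlgSp.OEtRing X.obj) L q) W,
          ∀ n : ℕ, ((DerivedCategory.homologyFunctor (AlgSp.ModEt X.obj) q).map (a ≫ Pi.π K n)).val.app (Opposite.op W) s = x n := by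
  let V : Idx X.obj := ULiftHom.objUp W
  have hL : CohCx.IsRlimVia K t L (fun n => a ≫ Pi.π K n) :=
    ⟨c, by rw [show Pi.lift (fun n => a ≫ Pi.π K n) = a from Pi.hom_ext _ _ fun n => by simp]; exact hdist⟩
  obtain ⟨h1, h2⟩ := bijective_sections' K t hL hK ht q V
  constructor
  · intro s s' h
    refine (secEquiv X.obj V _).symm.injective (sub_eq_zero.1 (h1 _ fun n => ?_))
    exact (Preadditive.sub_comp ..).trans (sub_eq_zero.2 ((comp_symm V _ s).trans
      ((congrArg (secEquiv X.obj V _).symm (h n)).trans (comp_symm V _ s').symm)))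
  · intro x hx
    obtain ⟨z, hz⟩ := h2 (fun n => (secEquiv X.obj V _).symm (x n)) fun n =>
      (comp_symm V _ (x (n + 1))).trans (congrArg (secEquiv X.obj V _).symm (hx n))
    refine ⟨secEquiv X.obj V _ z, fun n => ?_⟩
    exact ((secEquiv_comp X.obj V z _).symm.trans (congrArg (secEquiv X.obj V _) (hz n))).trans
      ((secEquiv X.obj V _).apply_symm_apply (x n))

end Groth.Agent.S10785
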