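import Groth.Statements.S10790
import Groth.Agent.AlgSpLib.QCohEtLim

set_option autoImplicit false
universe u
open CategoryTheory CategoryTheory.Limits AlgebraicGeometry
attribute [local instance] HasDerivedCategory.standard
open AlgSp

namespace Groth.Agent.S10790

open Groth.Agent.AlgSpLib.EtSmall CategoryTheory.Pretriangulated DerivedCategory
set_option backward.isDefEq.respectTransparency.types false
set_option backward.isDefEq.respectTransparency false

section
variable {S : Scheme.{u}} {X : Sp S}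

theorem isQCoh_single (M : ModEt X) [M.IsQuasicoherent] : DCoh.IsQCohDMod (OEtRing X) (DCoh.inDMod (OEtRing X) M) := by
  intro i
  by_cases h : i = 0
  · subst h
    exact (SheafOfModules.isQuasicoherent (OEtRing X)).prop_of_iso
      ((singleFunctorCompHomologyFunctorIso (ModEt X) 0).app M).symm ‹M.IsQuasicoherent›
  · have hz : IsZero ((homologyFunctor (ModEt X) i).obj ((singleFunctor (ModEt X) 0).obj M)) := by
      rcases lt_or_gt_of_ne h with h' | h'
      · exact isZero_of_isGE _ 0 i h'
      · exact isZero_of_isLE _ 0 i h'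
    exact (SheafOfModules.isQuasicoherent (OEtRing X)).prop_of_iso
      ((isZero_cokernel_of_epi (𝟙 M)).iso hz) (Groth.Agent.AlgSpLib.QCohEt.isQuasicoherent_cokernel (𝟙 M))

variable {M : ℕ → ModEt X} (t : ∀ n, M (n + 1) ⟶ M n)

theorem epi_homology (ht : ∀ n, Epi (t n)) (q : ℤ) (n : ℕ) :
    Epi ((homologyFunctor (ModEt X) q).map ((singleFunctor (ModEt X) 0).map (t n))) := by
  by_cases h : q = 0
  · subst h
    have := NatIso.naturality_1 (singleFunctorCompHomologyFunctorIso (ModEt X) 0) (t n)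
    haveI := ht n
    have e := (singleFunctorCompHomologyFunctorIso (ModEt X) 0).hom.naturality (t n)
    have he : (homologyFunctor (ModEt X) 0).map ((singleFunctor (ModEt X) 0).map (t n)) =
        (singleFunctorCompHomologyFunctorIso (ModEt X) 0).hom.app (M (n + 1)) ≫ t n ≫
          (singleFunctorCompHomologyFunctorIso (ModEt X) 0).inv.app (M n) := by
      rw [← Category.assoc, ← show _ = _ ≫ t n from e, Category.assoc, Iso.hom_inv_id_app]
      exact (Category.comp_id _).symm
    rw [he]
    exact @epi_comp _ _ _ _ _ _ (@IsIso.epi_of_iso _ _ _ _ _ (inferInstance)) _ (@epi_comp _ _ _ _ _ _ (ht n) _ (@IsIso.epi_of_iso _ _ _ _ _ (inferInstance)))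
  · have hz : IsZero ((homologyFunctor (ModEt X) q).obj ((singleFunctor (ModEt X) 0).obj (M n))) := by
      rcases lt_or_gt_of_ne h with h' | h'
      · exact isZero_of_isGE _ 0 q h'
      · exact isZero_of_isLE _ 0 q h'
    exact ⟨fun u v _ => hz.eq_of_src u v⟩

/-- the degree zero cohomology of a map from a single object to a single object -/
theorem homology_single_map {N N' : ModEt X} {L : DModEt X} (e : L ≅ (singleFunctor (ModEt X) 0).obj N)
    (g : N ⟶ N') (f : L ⟶ (singleFunctor (ModEt X) 0).obj N') (hg : (singleFunctor (ModEt X) 0).map g = e.inv ≫ f) :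
    ((homologyFunctor (ModEt X) 0).mapIso e ≪≫ (singleFunctorCompHomologyFunctorIso (ModEt X) 0).app N).inv ≫
      (homologyFunctor (ModEt X) 0).map f = g ≫ (singleFunctorCompHomologyFunctorIso (ModEt X) 0).inv.app N' := by
  have h1 : (homologyFunctor (ModEt X) 0).map e.inv ≫ (homologyFunctor (ModEt X) 0).map f =
      (homologyFunctor (ModEt X) 0).map ((singleFunctor (ModEt X) 0).map g) := by
    rw [← Functor.map_comp, hg]
  refine (Category.assoc _ _ _).trans ((congrArg _ h1).trans ?_)
  exact ((singleFunctorCompHomologyFunctorIso (ModEt X) 0).inv.naturality g).symm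

theorem limit_π_comp (n : ℕ) : limit.π (Functor.ofOpSequence t) (Opposite.op (n + 1)) ≫ t n =
    limit.π (Functor.ofOpSequence t) (Opposite.op n) := by
  have := limit.w (Functor.ofOpSequence t) (homOfLE (Nat.le_add_right n 1)).op
  rwa [Functor.ofOpSequence_map_homOfLE_succ] at this

/-- a module whose sections are the compatible families is the limit -/
theorem isIso_of_families {M : ℕ → ModEt X} {N H Lm : ModEt X} {B : ℕ → ModEt X} (i : ∀ n, M n ≅ B n)
    (T : ∀ n, B (n + 1) ⟶ B n) (t : ∀ n, M (n + 1) ⟶ M n) (hT : ∀ n, t n ≫ (i n).hom = (i (n + 1)).hom ≫ T n)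
    (P : ∀ n, H ⟶ B n) (eN : H ≅ N)
    (hq : ∀ V : Idx X, (∀ x : (etSections X).P.obj V ⟶ H, (∀ n, x ≫ P n = 0) → x = 0) ∧
      ∀ v : ∀ n, (etSections X).P.obj V ⟶ B n, (∀ n, v (n + 1) ≫ T n = v n) → ∃ x, ∀ n, x ≫ P n = v n)
    (pr : ∀ n, Lm ⟶ M n) (hpr : ∀ n, pr (n + 1) ≫ t n = pr n)
    (hext : ∀ {W : ModEt X} (u v : W ⟶ Lm), (∀ n, u ≫ pr n = v ≫ pr n) → u = v) (φ : N ⟶ Lm)
    (key : ∀ n, eN.inv ≫ P n = φ ≫ pr n ≫ (i n).hom) : IsIso φ := by
  haveI : Mono φ := by
    refine Preadditive.mono_of_isZero_kernel _ ((etSections X).gen fun V x => ?_)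
    rw [← cancel_mono (kernel.ι φ), zero_comp, ← cancel_mono eN.inv, zero_comp]
    refine (hq V).1 _ fun n => ?_
    rw [Category.assoc, key, Category.assoc, kernel.condition_assoc, zero_comp, comp_zero]
  haveI : Epi φ := by
    refine Preadditive.epi_of_isZero_cokernel _ ((etSections X).gen fun V x => ?_)
    obtain ⟨R, hR, hl⟩ := (etSections X).lift (cokernel.π φ) x
    refine (etSections X).sep x R hR fun W k hk => ?_
    obtain ⟨y, hy⟩ := hl k hk
    obtain ⟨z, hz'⟩ := (hq W).2 (fun n => y ≫ pr n ≫ (i n).hom)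
      fun n => by rw [Category.assoc, Category.assoc, ← hT, ← Category.assoc _ (t n), hpr]
    have hy' : (z ≫ eN.hom) ≫ φ = y := hext _ _ fun n => by
      rw [← cancel_mono (i n).hom]
      simp only [Category.assoc]
      rw [← key, Iso.hom_inv_id_assoc]
      exact hz' n
    rw [← hy, ← hy', Category.assoc, cokernel.condition, comp_zero]
  exact isIso_of_mono_of_epi φ

theorem isRlim_single (hM : ∀ n, (M n).IsQuasicoherent) (ht : ∀ n, Epi (t n))
    [HasProduct fun n : ℕ => DCoh.inDMod (OEtRing X) (M n)] :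
    CohCx.IsRlimVia (fun n => DCoh.inDMod (OEtRing X) (M n)) (fun n => (singleFunctor (ModEt X) 0).map (t n))
      (DCoh.inDMod (OEtRing X) (limit (Functor.ofOpSequence t)))
      (fun n => (singleFunctor (ModEt X) 0).map (limit.π (Functor.ofOpSequence t) (Opposite.op n))) := by
  let K : ℕ → DModEt X := fun n => DCoh.inDMod (OEtRing X) (M n)
  let tK : ∀ n, K (n + 1) ⟶ K n := fun n => (singleFunctor (ModEt X) 0).map (t n)
  obtain ⟨L, a, c, hT⟩ := distinguished_cocone_triangle₁
    (Pi.lift fun n => Pi.π K n - Pi.π K (n + 1) ≫ tK n)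
  have hL : CohCx.IsRlimVia K tK L (fun n => a ≫ Pi.π K n) :=
    ⟨c, by rw [show Pi.lift (fun n => a ≫ Pi.π K n) = a from Pi.hom_ext _ _ fun n => by simp]; exact hT⟩
  have hK : ∀ n, DCoh.IsQCohDMod (OEtRing X) (K n) := fun n => haveI := hM n; isQCoh_single (M n)
  have hq := fun q V => bijective_sections' K tK hL hK (epi_homology t ht) q V
  have hz : ∀ q : ℤ, q ≠ 0 → IsZero ((homologyFunctor (ModEt X) q).obj L) := fun q hq0 =>
    (etSections X).gen fun V x => (hq q V).1 x fun n => (show IsZero ((homologyFunctor (ModEt X) q).obj (K n)) by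
      rcases lt_or_gt_of_ne hq0 with h' | h'
      · exact isZero_of_isGE _ 0 q h'
      · exact isZero_of_isLE _ 0 q h').eq_of_tgt _ _
  haveI : L.IsGE 0 := (isGE_iff _ _).2 fun i hi => hz i hi.ne
  haveI : L.IsLE 0 := (isLE_iff _ _).2 fun i hi => hz i hi.ne'
  obtain ⟨N, ⟨e⟩⟩ := exists_iso_singleFunctor_obj_of_isGE_of_isLE L 0
  choose g hg using fun n => (singleFunctor (ModEt X) 0).map_surjective (e.inv ≫ a ≫ Pi.π K n)
  have hgt : ∀ n, g (n + 1) ≫ t n = g n := fun n => (singleFunctor (ModEt X) 0).map_injective (by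
    rw [Functor.map_comp, hg, hg, Category.assoc]
    exact congrArg (e.inv ≫ ·) (Groth.Agent.SiteDer16.comp_eq_of_isRlimVia K tK hL n))
  let πc : (Functor.const ℕᵒᵖ).obj N ⟶ Functor.ofOpSequence t := NatTrans.ofOpSequence g fun n => by
    simp only [Functor.const_obj_map, Category.id_comp, Functor.ofOpSequence_map_homOfLE_succ]
    exact (hgt n).symm
  let cn : Cone (Functor.ofOpSequence t) := ⟨N, πc⟩
  let φ := limit.lift _ cn
  have hφn : ∀ n, φ ≫ limit.π (Functor.ofOpSequence t) (Opposite.op n) = g n := fun n => limit.lift_π cn _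
  let eN : (homologyFunctor (ModEt X) 0).obj L ≅ N := (homologyFunctor (ModEt X) 0).mapIso e ≪≫
    (singleFunctorCompHomologyFunctorIso (ModEt X) 0).app N
  haveI : IsIso φ := isIso_of_families (fun n => ((singleFunctorCompHomologyFunctorIso (ModEt X) 0).app (M n)).symm)
    (fun n => (homologyFunctor (ModEt X) 0).map (tK n)) t
    (fun n => (singleFunctorCompHomologyFunctorIso (ModEt X) 0).inv.naturality (t n))
    (fun n => (homologyFunctor (ModEt X) 0).map (a ≫ Pi.π K n)) eN (hq 0)
    (fun n => limit.π (Functor.ofOpSequence t) (Opposite.op n)) (fun n => limit_π_comp t n)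
    (fun u v huv => limit.hom_ext fun m => huv m.unop) φ
    fun n => (homology_single_map e (g n) _ (hg n)).trans (by rw [← Category.assoc, hφn]; rfl)
  obtain ⟨c', hc'⟩ : ∃ c' : (∏ᶜ K) ⟶ (DCoh.inDMod (OEtRing X) (limit (Functor.ofOpSequence t)))⟦(1 : ℤ)⟧,
      c' = c ≫ (e.hom ≫ (singleFunctor (ModEt X) 0).map φ)⟦(1 : ℤ)⟧' := ⟨_, rfl⟩
  refine ⟨c', isomorphic_distinguished _ hT _ (Iso.symm (Triangle.isoMk (Triangle.mk a
    (Pi.lift fun n => Pi.π K n - Pi.π K (n + 1) ≫ tK n) c) _ (e ≪≫ (singleFunctor (ModEt X) 0).mapIso (asIso φ))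
    (Iso.refl _) (Iso.refl _) ?_ ?_ ?_))⟩
  · refine (Category.comp_id _).trans ?_
    refine Pi.hom_ext _ _ fun n => ?_
    simp only [Triangle.mk_mor₁, Iso.trans_hom, Functor.mapIso_hom, asIso_hom, Category.assoc, Pi.lift_π]
    refine Eq.trans ?_ (congrArg (fun z => e.hom ≫ (singleFunctor (ModEt X) 0).map φ ≫ z)
      (Pi.lift_π (f := K) (fun n => (singleFunctor (ModEt X) 0).map (limit.π (Functor.ofOpSequence t) (Opposite.op n))) n)).symm
    have h4 : (singleFunctor (ModEt X) 0).map φ ≫ (singleFunctor (ModEt X) 0).map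
        (limit.π (Functor.ofOpSequence t) (Opposite.op n)) = e.inv ≫ a ≫ Pi.π K n :=
      (((singleFunctor (ModEt X) 0).map_comp _ _).symm.trans (congrArg _ (hφn n))).trans (hg n)
    exact ((congrArg (e.hom ≫ ·) h4).trans (e.hom_inv_id_assoc _)).symm
  · exact (Category.comp_id _).trans (Category.id_comp _).symm
  · refine Eq.trans ?_ (Category.id_comp _).symm
    exact hc'.symm


end

/-- Part (2): for the inverse system of cohomology sheaves: let X be an algebraic space over S and (M_n,
t_n : M_{n+1} ⟶ M_n) an inverse system of quasi-coherent O_X-modules (on the small etale site) whose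
transition maps are epimorphisms. Then R lim M_n = lim M_n in D(O_X): granted that the product of
the M_n[0] exists in D(O_X) (it does), the morphism (lim M_n)[0] ⟶ ∏ M_n[0] whose components are the
limit projections, followed by identity minus transition, extends to a distinguished triangle (lim
M_n)[0] ⟶ ∏ M_n[0] ⟶ ∏ M_n[0] ⟶ (lim M_n)[1]. -/
theorem result {S : Scheme.{u}} (X : AlgSp.Space S)
    (M : ℕ → AlgSp.ModEt X.obj) (t : ∀ n, M (n + 1) ⟶ M n) (hM : ∀ n, (M n).IsQuasicoherent)
    (ht : ∀ n, Epi (t n)) [HasProduct fun n : ℕ => DCoh.inDMod (AlgSp.OEtRing X.obj) (M n)] :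
    ∃ c : (∏ᶜ fun n : ℕ => DCoh.inDMod (AlgSp.OEtRing X.obj) (M n)) ⟶
        (DCoh.inDMod (AlgSp.OEtRing X.obj) (limit (Functor.ofOpSequence t)))⟦(1 : ℤ)⟧,
      CategoryTheory.Pretriangulated.Triangle.mk
        (Pi.lift (f := fun n : ℕ => DCoh.inDMod (AlgSp.OEtRing X.obj) (M n))
          fun n : ℕ => (DerivedCategory.singleFunctor (AlgSp.ModEt X.obj) 0).map
            (limit.π (Functor.ofOpSequence t) (Opposite.op n)))
        (Pi.lift fun n : ℕ => Pi.π (fun n : ℕ => DCoh.inDMod (AlgSp.OEtRing X.obj) (M n)) n -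
          Pi.π (fun n : ℕ => DCoh.inDMod (AlgSp.OEtRing X.obj) (M n)) (n + 1) ≫
            (DerivedCategory.singleFunctor (AlgSp.ModEt X.obj) 0).map (t n))
        c ∈ CategoryTheory.Pretriangulated.distinguishedTriangles := by
  exact isRlim_single t hM ht

end Groth.Agent.S10790
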