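import Groth.Statements.S10786
import Groth.Agent.AlgSpLib.EtShriekSlice
import Groth.Agent.S10790

set_option autoImplicit false
universe u
open CategoryTheory CategoryTheory.Limits AlgebraicGeometry
attribute [local instance] HasDerivedCategory.standard
open AlgSp

namespace Groth.Agent.S10786

open Groth.Agent.AlgSpLib.EtSmall CategoryTheory.Pretriangulated DerivedCategory
set_option backward.isDefEq.respectTransparency.types false
set_option backward.isDefEq.respectTransparency false
set_option linter.style.haveILetI false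

section
variable {S : Scheme.{u}} {X : Sp S} {M : ℕ → ModEt X} (t : ∀ n, M (n + 1) ⟶ M n)

theorem hom_shift_eq_zero (hM : ∀ n, (M n).IsQuasicoherent) (ht : ∀ n, Epi (t n)) {V : Idx X} (hV : V ∈ affSet X)
    (p : ℤ) (hp : 0 < p)
    (y : ((etSections X).pt.obj V)⟦-p⟧ ⟶ (singleFunctor (ModEt X) 0).obj (limit (Functor.ofOpSequence t))) : y = 0 := by
  haveI := Groth.Agent.DCat.hasProductsOfShape_derived (A := (ModEt X))
    Groth.Agent.DCat.enoughKInj_of_isGrothendieckAbelian ℕ
  let K : ℕ → DModEt X := fun n => DCoh.inDMod (OEtRing X) (M n)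
  let tK : ∀ n, K (n + 1) ⟶ K n := fun n => (singleFunctor (ModEt X) 0).map (t n)
  have hK : ∀ n, DCoh.IsQCohDMod (OEtRing X) (K n) := fun n => haveI := hM n; Groth.Agent.S10790.isQCoh_single (M n)
  obtain ⟨c, hc⟩ := Groth.Agent.S10790.isRlim_single t hM ht
  refine eq_zero_of_comp_zero K tK (a := fun n => (singleFunctor (ModEt X) 0).map
    (limit.π (Functor.ofOpSequence t) (Opposite.op n))) ⟨c, hc⟩ y (fun n => ?_)
    (surjective_comp_t_shift K tK hK (Groth.Agent.S10790.epi_homology t ht) p hV)
  haveI : Subsingleton ((etSections X).P.obj V ⟶ (homologyFunctor (ModEt X) p).obj (K n)) :=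
    ⟨fun a b => (isZero_of_isLE (K n) 0 p hp).eq_of_tgt a b⟩
  exact (bijective_θq (K n) (hK n) p hV).1 (Subsingleton.elim _ _)

theorem subsingleton_ext_limit [HasExt.{u + 2} (ModEt X)] (hM : ∀ n, (M n).IsQuasicoherent) (ht : ∀ n, Epi (t n))
    {V : Idx X} (hV : V ∈ affSet X) (n : ℕ) (hn : 0 < n) :
    Subsingleton (Abelian.Ext.{u + 2} ((etSections X).P.obj V) (limit (Functor.ofOpSequence t)) n) := by
  let e : (singleFunctor (ModEt X) 0).obj ((etSections X).P.obj V) ≅ (etSections X).pt.obj V :=
    (singleFunctorIsoCompQ (ModEt X) 0).app _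
  let ad := shAdj X (n : ℤ)
  refine ⟨fun a b => Abelian.Ext.homEquiv.injective ?_⟩
  rw [← cancel_epi e.inv]
  apply (ad.homEquiv _ _).symm.injective
  exact (hom_shift_eq_zero t hM ht hV n (by omega) _).trans (hom_shift_eq_zero t hM ht hV n (by omega) _).symm

end

/-- Part (3): for the inverse system of cohomology sheaves: let X be an algebraic space over S and (M_n,
t_n : M_{n+1} ⟶ M_n) an inverse system of quasi-coherent O_X-modules (on the small etale site) whose
transition maps are epimorphisms. Then H^p(U, lim M_n) = 0 for every p > 0 and every affine object U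
of the small etale site. (The published statement asks this only for affine open subspaces U of X;
this row asks it for every affine object U of the small etale site.) -/
theorem result {S : Scheme.{u}} (X : AlgSp.Space S)
    (M : ℕ → AlgSp.ModEt X.obj) (t : ∀ n, M (n + 1) ⟶ M n) (hM : ∀ n, (M n).IsQuasicoherent)
    (ht : ∀ n, Epi (t n)) (U : AlgSp.EtOver X.obj) (hU : IsAffine U.obj.left.left) (p : ℤ) (hp : 0 < p) :
    Subsingleton (AlgSp.HEtDOn U (DCoh.inDMod (AlgSp.OEtRing X.obj) (limit (Functor.ofOpSequence t))) p) := by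
  haveI : HasExt.{u + 2} (ModEt X.obj) := hasExt_of_hasDerivedCategory _
  haveI : HasExt.{u + 2} (ModEtOn U) := hasExt_of_hasDerivedCategory _
  obtain ⟨n, rfl⟩ : ∃ n : ℕ, p = (n : ℤ) := ⟨p.toNat, (Int.toNat_of_nonneg hp.le).symm⟩
  have h := subsingleton_ext_slice U (limit (Functor.ofOpSequence t)) n
    (subsingleton_ext_limit t hM ht (V := up U) (show IsAffine U.obj.left.left from hU) n (by omega))
  let e : (AlgSp.resDEt U).obj (DCoh.inDMod (AlgSp.OEtRing X.obj) (limit (Functor.ofOpSequence t))) ≅
      (singleFunctor (ModEtOn U) 0).obj ((resModEt U).obj (limit (Functor.ofOpSequence t))) :=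
    ((resModEt U).mapDerivedCategorySingleFunctor 0).app _
  refine ⟨fun a b => ?_⟩
  rw [← cancel_mono ((shiftFunctor _ (n : ℤ)).map e.hom)]
  exact Abelian.Ext.homEquiv.symm.injective (h.elim _ _)

end Groth.Agent.S10786
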