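import Groth.Statements.S10788
import Groth.Agent.AlgSpLib.MVSquare
import Groth.Agent.AlgSpLib.QCohEtSub
import Mathlib.Algebra.Homology.ShortComplex.ShortExact
-- import your own Groth.Agent.* helpers here

set_option autoImplicit false
universe u
open CategoryTheory CategoryTheory.Limits AlgebraicGeometry
attribute [local instance] HasDerivedCategory.standard
open AlgSp Opposite
open Groth.Agent.AlgSpLib

namespace Groth.Agent.S10788

open Groth.Agent.AlgSpLib Groth.Agent.AlgSpLib.QCohEt in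
theorem unit_app_apply {S : Scheme.{u}} {X : AlgSp.Sp S} (U : AlgSp.EtOver X) (F : AlgSp.ModEt X) (W : AlgSp.EtOver X)
    (s : F.val.obj (op W)) :
    (((AlgSp.resPushAdjEt U).unit.app F).val.app (op W)) s =
      MV.res F.val.presheaf (prod.snd : U ⨯ W ⟶ W) s := rfl

open Groth.Agent.AlgSpLib Groth.Agent.AlgSpLib.QCohEt in
theorem pushRes_app_apply {S : Scheme.{u}} {X : AlgSp.Sp S} {U' U : AlgSp.EtOver X} (g : U' ⟶ U) (F : AlgSp.ModEt X)
    (W : AlgSp.EtOver X) (s : ((AlgSp.resModEt U ⋙ AlgSp.pushOnModEt U).obj F).val.obj (op W)) :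
    ((AlgSp.pushResNatTrans g).app F).val.app (op W) s = MV.res F.val.presheaf (prod.map g (𝟙 W)) s := rfl

theorem sec_desc {S : Scheme.{u}} {X : AlgSp.Sp S} {A B C : AlgSp.ModEt X} (φ : A ⟶ C) (ψ : B ⟶ C)
    (W : (AlgSp.EtOver X)ᵒᵖ) (t : (A ⊞ B).val.obj W) :
    (biprod.desc φ ψ).val.app W t =
      φ.val.app W ((biprod.fst : A ⊞ B ⟶ A).val.app W t) + ψ.val.app W ((biprod.snd : A ⊞ B ⟶ B).val.app W t) := by
  rw [biprod.desc_eq]
  rfl

theorem sec_biprod {S : Scheme.{u}} {X : AlgSp.Sp S} {A B : AlgSp.ModEt X} (W : (AlgSp.EtOver X)ᵒᵖ)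
    (t : (A ⊞ B).val.obj W) :
    (biprod.inl : A ⟶ A ⊞ B).val.app W ((biprod.fst : A ⊞ B ⟶ A).val.app W t) +
      (biprod.inr : B ⟶ A ⊞ B).val.app W ((biprod.snd : A ⊞ B ⟶ B).val.app W t) = t :=
  have h := biprod.total (X := A) (Y := B)
  congr(($h).val.app W t)

theorem sec_comp {S : Scheme.{u}} {X : AlgSp.Sp S} {A B C : AlgSp.ModEt X} {f : A ⟶ B} {g : B ⟶ C} {h : A ⟶ C}
    (e : f ≫ g = h) (W : (AlgSp.EtOver X)ᵒᵖ) (t : A.val.obj W) : g.val.app W (f.val.app W t) = h.val.app W t :=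
  congr(($e).val.app W t)

open Groth.Agent.AlgSpLib in
theorem shortExact_of_sections {S : Scheme.{u}} {X : AlgSp.Sp S} (Q : ShortComplex (AlgSp.ModEt X))
    (h₁ : ∀ W, Function.Injective (Q.f.val.app W))
    (h₂ : ∀ W t, Q.g.val.app W t = 0 → ∃ s, Q.f.val.app W s = t)
    (h₃ : ∀ (W : AlgSp.EtOver X) (c : Q.X₃.val.obj (op W)), ∃ R ∈ AlgSp.etTop X W,
      ∀ ⦃T : AlgSp.EtOver X⦄ (k : T ⟶ W), R k → ∃ t, Q.g.val.app (op T) t = Q.X₃.val.map k.op c) :
    Q.ShortExact := by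
  haveI : Mono Q.f := ⟨fun a b e => SheafOfModules.hom_ext (PresheafOfModules.hom_ext fun W =>
    ModuleCat.hom_ext (LinearMap.ext fun x => h₁ W congr(($e).val.app W x)))⟩
  haveI : Epi Q.g := by
    haveI : Sheaf.IsLocallySurjective ((SheafOfModules.toSheaf (AlgSp.OEtRing X)).map Q.g) := ⟨fun {W} c => by
      obtain ⟨R, hR, hk⟩ := h₃ W c
      exact (AlgSp.etTop X).superset_covering (fun T k hk' => hk k hk') hR⟩
    haveI : Epi ((SheafOfModules.toSheaf (AlgSp.OEtRing X)).map Q.g) :=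
      (Sheaf.isLocallySurjective_iff_epi' _ _).1 inferInstance
    exact (SheafOfModules.toSheaf (AlgSp.OEtRing X)).epi_of_epi_map ‹_›
  refine ShortComplex.ShortExact.mk (ShortComplex.exact_of_f_is_kernel _ ?_)
  have hlift : ∀ {A : AlgSp.ModEt X} (a : A ⟶ Q.X₂), a ≫ Q.g = 0 → ∃ l : A ⟶ Q.X₁, l ≫ Q.f = a := fun {A} a ha => by
    obtain ⟨L, hL⟩ := QCohEt.exists_val_lift a.val Q.f.val h₁ fun W x => h₂ W _ congr(($ha).val.app W x)
    exact ⟨⟨L⟩, SheafOfModules.hom_ext hL⟩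
  exact KernelFork.IsLimit.ofι' _ _ fun a ha => ⟨(hlift a ha).choose, (hlift a ha).choose_spec⟩
theorem sec_lift_fst {S : Scheme.{u}} {X : AlgSp.Sp S} {F A B : AlgSp.ModEt X} (φ : F ⟶ A) (ψ : F ⟶ B)
    (W : (AlgSp.EtOver X)ᵒᵖ) (s : F.val.obj W) :
    (biprod.fst : A ⊞ B ⟶ A).val.app W ((biprod.lift φ ψ).val.app W s) = φ.val.app W s :=
  sec_comp (biprod.lift_fst φ ψ) W s

theorem sec_lift_snd {S : Scheme.{u}} {X : AlgSp.Sp S} {F A B : AlgSp.ModEt X} (φ : F ⟶ A) (ψ : F ⟶ B)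
    (W : (AlgSp.EtOver X)ᵒᵖ) (s : F.val.obj W) :
    (biprod.snd : A ⊞ B ⟶ B).val.app W ((biprod.lift φ ψ).val.app W s) = ψ.val.app W s :=
  sec_comp (biprod.lift_snd φ ψ) W s

/-- a four-term criterion in terms of sections -/
theorem shortExact_mv {S : Scheme.{u}} {X : AlgSp.Sp S} {F A B C : AlgSp.ModEt X} (η₁ : F ⟶ A) (η₂ : F ⟶ B)
    (α : A ⟶ C) (β : B ⟶ C)
    (h₀ : ∀ W s, α.val.app W (η₁.val.app W s) = β.val.app W (η₂.val.app W s))
    (h₁ : ∀ W s s', η₁.val.app W s = η₁.val.app W s' → η₂.val.app W s = η₂.val.app W s' → s = s')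
    (h₂ : ∀ W a b, α.val.app W a = β.val.app W b → ∃ s, η₁.val.app W s = a ∧ η₂.val.app W s = b)
    (h₃ : ∀ (W : AlgSp.EtOver X) (c : C.val.obj (op W)), ∃ R ∈ AlgSp.etTop X W,
      ∀ ⦃T : AlgSp.EtOver X⦄ (k : T ⟶ W), R k →
        ∃ a b, α.val.app (op T) a - β.val.app (op T) b = C.val.map k.op c) :
    ∃ h : biprod.lift η₁ η₂ ≫ biprod.desc α (-β) = 0, (ShortComplex.mk _ _ h).ShortExact := by
  have w : biprod.lift η₁ η₂ ≫ biprod.desc α (-β) = 0 := by
    refine SheafOfModules.hom_ext (PresheafOfModules.hom_ext fun W => ModuleCat.hom_ext (LinearMap.ext fun s => ?_))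
    show (biprod.desc α (-β)).val.app W ((biprod.lift η₁ η₂).val.app W s) = 0
    rw [sec_desc, sec_lift_fst, sec_lift_snd, h₀]
    exact add_neg_cancel _
  refine ⟨w, shortExact_of_sections _ ?_ ?_ ?_⟩
  · intro W s s' h
    exact h₁ W s s' ((sec_lift_fst η₁ η₂ W s).symm.trans ((congrArg _ h).trans (sec_lift_fst η₁ η₂ W s')))
      ((sec_lift_snd η₁ η₂ W s).symm.trans ((congrArg _ h).trans (sec_lift_snd η₁ η₂ W s')))
  · intro W t ht
    replace ht := (sec_desc α (-β) W t).symm.trans ht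
    obtain ⟨s, hs₁, hs₂⟩ := h₂ W _ _ (eq_of_sub_eq_zero ((sub_eq_add_neg _ _).trans ht))
    refine ⟨s, (sec_biprod W ((biprod.lift η₁ η₂).val.app W s)).symm.trans (Eq.trans ?_ (sec_biprod W t))⟩
    rw [sec_lift_fst, sec_lift_snd, hs₁, hs₂]
  · intro W c
    obtain ⟨R, hR, hk⟩ := h₃ W c
    refine ⟨R, hR, fun T k hk' => ?_⟩
    obtain ⟨a, b, hab⟩ := hk k hk'
    refine ⟨(biprod.inl : A ⟶ A ⊞ B).val.app (op T) a + (biprod.inr : B ⟶ A ⊞ B).val.app (op T) b, ?_⟩
    show (biprod.desc α (-β)).val.app (op T) _ = _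
    rw [map_add, sec_comp (biprod.inl_desc α (-β)), sec_comp (biprod.inr_desc α (-β))]
    exact (sub_eq_add_neg _ _).symm.trans hab

/-- Part (1): for squares whose two parts are schemes: let X be an algebraic space over S and let U, V
be objects of the small etale site of X (schemes with representable etale structure maps to X) such
that (U ⊂ X, V ⟶ X) is an elementary distinguished square; write U ×_X V for their product in the
site. Then for every O_X-module F the sequence 0 ⟶ F ⟶ j_{U,*}F|_U ⊕ j_{V,*}F|_V ⟶ j_{U ×_X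
V,*}F|_{U ×_X V} ⟶ 0 is short exact, where the first map is given by the two adjunction units and
the second by the restriction along U ×_X V ⟶ U minus the restriction along U ×_X V ⟶ V. Only
squares whose open part and etale part are both schemes are covered. -/
theorem result {S : Scheme.{u}} (X : AlgSp.Space S)
    (U V : AlgSp.EtOver X.obj) (hsq : AlgSp.IsElemDistSq U.obj.hom V.obj.hom) (F : AlgSp.ModEt X.obj) :
    ∃ h : biprod.lift ((AlgSp.resPushAdjEt U).unit.app F) ((AlgSp.resPushAdjEt V).unit.app F) ≫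
        biprod.desc ((AlgSp.pushResNatTrans (AlgSp.EtOver.prodFst U V)).app F)
          (-((AlgSp.pushResNatTrans (AlgSp.EtOver.prodSnd U V)).app F)) = 0,
      (ShortComplex.mk _ _ h).ShortExact := by
  let F' := F.val.presheaf
  have hP : Presheaf.IsSheaf (AlgSp.etTop X.obj) F' := F.isSheaf
  have D := MV.data X.property hsq
  refine shortExact_mv ((AlgSp.resPushAdjEt U).unit.app F) ((AlgSp.resPushAdjEt V).unit.app F)
    ((AlgSp.pushResNatTrans (AlgSp.EtOver.prodFst U V)).app F)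
    ((AlgSp.pushResNatTrans (AlgSp.EtOver.prodSnd U V)).app F) (fun W s => ?_) (fun W s s' h h' => ?_)
    (fun W a b h => ?_) (fun W c => ?_)
  · obtain ⟨W⟩ := W
    rw [pushRes_app_apply, pushRes_app_apply, unit_app_apply, unit_app_apply, MV.res_comp, MV.res_comp,
      prod.map_snd, prod.map_snd]
  · obtain ⟨W⟩ := W
    rw [unit_app_apply, unit_app_apply] at h h'
    exact MV.injective F' hP D h h'
  · obtain ⟨W⟩ := W
    rw [pushRes_app_apply, pushRes_app_apply] at h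
    obtain ⟨s, hs⟩ := MV.glue F' hP D a b h
    exact ⟨s, (unit_app_apply U F W s).trans hs.1, (unit_app_apply V F W s).trans hs.2⟩
  · refine ⟨_, D.coverA W, fun T k hk => ?_⟩
    obtain ⟨a, b, hab⟩ := MV.locally_surjective F' hP D c k hk
    exact ⟨a, b, hab⟩

end Groth.Agent.S10788
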