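import Groth.Statements.S10789
import Groth.Agent.S10788
import Groth.Agent.AlgSpLib.EtModInjectives
import Mathlib.CategoryTheory.Abelian.Injective.Basic
-- import your own Groth.Agent.* helpers here

set_option autoImplicit false
universe u
open CategoryTheory CategoryTheory.Limits AlgebraicGeometry
attribute [local instance] HasDerivedCategory.standard
open AlgSp

namespace Groth.Agent.S10789

/-- a left exact sequence of right adjoints with split values at injectives dualises to a short exact sequence of left adjoints -/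
theorem shortExact_conjugate {𝒜 : Type*} [Category 𝒜] [Abelian 𝒜] [EnoughInjectives 𝒜] {L₁ L₂ L₃ R₁ R₂ R₃ : 𝒜 ⥤ 𝒜}
    (adj₁ : L₁ ⊣ R₁) (adj₂ : L₂ ⊣ R₂) (adj₃ : L₃ ⊣ R₃) (α : R₁ ⟶ R₃) (β : R₂ ⟶ R₃)
    (η₁ : ∀ F, F ⟶ R₁.obj F) (η₂ : ∀ F, F ⟶ R₂.obj F) (ε₁ : ∀ F, L₁.obj F ⟶ F) (ε₂ : ∀ F, L₂.obj F ⟶ F)
    (hη₁ : ∀ {F G : 𝒜} (ψ : F ⟶ G), ψ ≫ η₁ G = η₁ F ≫ R₁.map ψ)
    (hη₂ : ∀ {F G : 𝒜} (ψ : F ⟶ G), ψ ≫ η₂ G = η₂ F ≫ R₂.map ψ)
    (h₁ : ∀ F, adj₁.homEquiv F F (ε₁ F) = η₁ F) (h₂ : ∀ F, adj₂.homEquiv F F (ε₂ F) = η₂ F)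
    (H : ∀ G, ∃ h : biprod.lift (η₁ G) (η₂ G) ≫ biprod.desc (α.app G) (-(β.app G)) = 0,
      (ShortComplex.mk _ _ h).ShortExact) (F : 𝒜) :
    ∃ h : biprod.lift (((conjugateEquiv adj₁ adj₃).symm α).app F) (-(((conjugateEquiv adj₂ adj₃).symm β).app F)) ≫
        biprod.desc (ε₁ F) (ε₂ F) = 0, (ShortComplex.mk _ _ h).ShortExact := by
  have e₁ : ∀ {G : 𝒜} (ψ : F ⟶ G), adj₁.homEquiv F G (ε₁ F ≫ ψ) = ψ ≫ η₁ G := by
    intro G ψ
    rw [adj₁.homEquiv_naturality_right, h₁]
    exact (hη₁ ψ).symm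
  have e₂ : ∀ {G : 𝒜} (ψ : F ⟶ G), adj₂.homEquiv F G (ε₂ F ≫ ψ) = ψ ≫ η₂ G := by
    intro G ψ
    rw [adj₂.homEquiv_naturality_right, h₂]
    exact (hη₂ ψ).symm
  have c₁ : ∀ {G : 𝒜} (φ : L₁.obj F ⟶ G), adj₃.homEquiv F G (((conjugateEquiv adj₁ adj₃).symm α).app F ≫ φ) =
      adj₁.homEquiv F G φ ≫ α.app G := by
    intro G φ
    rw [adj₃.homEquiv_unit, adj₁.homEquiv_unit, Functor.map_comp, ← Category.assoc,
      ← unit_conjugateEquiv_symm adj₁ adj₃ α F, Category.assoc, Category.assoc]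
    exact congrArg (adj₁.unit.app F ≫ ·) (α.naturality φ).symm
  have c₂ : ∀ {G : 𝒜} (φ : L₂.obj F ⟶ G), adj₃.homEquiv F G (((conjugateEquiv adj₂ adj₃).symm β).app F ≫ φ) =
      adj₂.homEquiv F G φ ≫ β.app G := by
    intro G φ
    rw [adj₃.homEquiv_unit, adj₂.homEquiv_unit, Functor.map_comp, ← Category.assoc,
      ← unit_conjugateEquiv_symm adj₂ adj₃ β F, Category.assoc, Category.assoc]
    exact congrArg (adj₂.unit.app F ≫ ·) (β.naturality φ).symm
  haveI : R₃.Additive := by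
    haveI : R₃.IsRightAdjoint := ⟨_, ⟨adj₃⟩⟩
    exact Functor.additive_of_preserves_binary_products _
  have w : biprod.lift (((conjugateEquiv adj₁ adj₃).symm α).app F) (-(((conjugateEquiv adj₂ adj₃).symm β).app F)) ≫
      biprod.desc (ε₁ F) (ε₂ F) = 0 := by
    rw [biprod.lift_desc, Preadditive.neg_comp, ← sub_eq_add_neg, sub_eq_zero]
    refine (adj₃.homEquiv F F).injective ?_
    rw [c₁, c₂, h₁, h₂]
    obtain ⟨h, -⟩ := H F
    rw [biprod.lift_desc, Preadditive.comp_neg, ← sub_eq_add_neg, sub_eq_zero] at h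
    exact h
  haveI : Epi (biprod.desc (ε₁ F) (ε₂ F)) := by
    refine ⟨fun {G} a b hab => ?_⟩
    obtain ⟨h, hs⟩ := H G
    haveI : Mono (biprod.lift (η₁ G) (η₂ G)) := hs.mono_f
    refine (cancel_mono (biprod.lift (η₁ G) (η₂ G))).1 ?_
    apply biprod.hom_ext
    · rw [Category.assoc, Category.assoc, biprod.lift_fst, ← e₁, ← e₁]
      have := congrArg (biprod.inl ≫ ·) hab
      simp only [biprod.inl_desc_assoc] at this
      rw [this]
    · rw [Category.assoc, Category.assoc, biprod.lift_snd, ← e₂, ← e₂]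
      have := congrArg (biprod.inr ≫ ·) hab
      simp only [biprod.inr_desc_assoc] at this
      rw [this]
  haveI : Mono (biprod.lift (((conjugateEquiv adj₁ adj₃).symm α).app F) (-(((conjugateEquiv adj₂ adj₃).symm β).app F))) := by
    let f := biprod.lift (((conjugateEquiv adj₁ adj₃).symm α).app F) (-(((conjugateEquiv adj₂ adj₃).symm β).app F))
    let ι := Injective.ι (L₃.obj F)
    obtain ⟨h, hs⟩ := H (Injective.under (L₃.obj F))
    haveI : Injective (ShortComplex.mk _ _ h).X₁ := inferInstanceAs (Injective (Injective.under (L₃.obj F)))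
    let sp := hs.splittingOfInjective
    obtain ⟨c, hc⟩ : ∃ c, c ≫ biprod.desc (α.app _) (-(β.app _)) = adj₃.homEquiv F _ ι :=
      ⟨adj₃.homEquiv F _ ι ≫ sp.s,
        (Category.assoc _ _ _).trans ((congrArg _ sp.s_g).trans (Category.comp_id _))⟩
    let φ : L₁.obj F ⊞ L₂.obj F ⟶ Injective.under (L₃.obj F) :=
      biprod.desc ((adj₁.homEquiv F _).symm (c ≫ biprod.fst)) ((adj₂.homEquiv F _).symm (c ≫ biprod.snd))
    have hφ : f ≫ φ = ι := by
      simp only [f, φ, biprod.lift_desc, Preadditive.neg_comp, ← sub_eq_add_neg]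
      have key : ((conjugateEquiv adj₁ adj₃).symm α).app F ≫ (adj₁.homEquiv F _).symm (c ≫ biprod.fst) =
          ((conjugateEquiv adj₂ adj₃).symm β).app F ≫ (adj₂.homEquiv F _).symm (c ≫ biprod.snd) + ι := by
        refine (adj₃.homEquiv F _).injective ?_
        rw [c₁, Equiv.apply_symm_apply, Adjunction.homEquiv_unit, Functor.map_add, Preadditive.comp_add,
          ← Adjunction.homEquiv_unit, ← Adjunction.homEquiv_unit, c₂, Equiv.apply_symm_apply, ← hc,
          biprod.desc_eq, Preadditive.comp_add, Preadditive.comp_neg, Preadditive.comp_neg,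
          ← Category.assoc, ← Category.assoc]
        abel
      rw [key, add_sub_cancel_left]
    exact mono_of_mono_fac hφ
  refine ⟨w, ShortComplex.ShortExact.mk (ShortComplex.exact_of_g_is_cokernel _ ?_)⟩
  have hd : ∀ {G : 𝒜} (φ : L₁.obj F ⊞ L₂.obj F ⟶ G), biprod.lift (((conjugateEquiv adj₁ adj₃).symm α).app F) (-(((conjugateEquiv adj₂ adj₃).symm β).app F)) ≫ φ = 0 → ∃ ψ, biprod.desc (ε₁ F) (ε₂ F) ≫ ψ = φ := ?_
  · exact CokernelCofork.IsColimit.ofπ' _ _ fun φ hφ => ⟨(hd φ hφ).choose, (hd φ hφ).choose_spec⟩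
  intro G φ hφ
  obtain ⟨h, hs⟩ := H G
  haveI : Mono (biprod.lift (η₁ G) (η₂ G)) := hs.mono_f
  let t := biprod.lift (adj₁.homEquiv F G (biprod.inl ≫ φ)) (adj₂.homEquiv F G (biprod.inr ≫ φ))
  have ht : t ≫ biprod.desc (α.app G) (-(β.app G)) = 0 := by
    have hφ' : biprod.lift (((conjugateEquiv adj₁ adj₃).symm α).app F) (-(((conjugateEquiv adj₂ adj₃).symm β).app F)) ≫
        biprod.desc (biprod.inl ≫ φ) (biprod.inr ≫ φ) = 0 := by
      rw [show biprod.desc (biprod.inl ≫ φ) (biprod.inr ≫ φ) = φ from by apply biprod.hom_ext' <;> simp]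
      exact hφ
    rw [biprod.lift_desc, Preadditive.neg_comp, ← sub_eq_add_neg, sub_eq_zero] at hφ'
    simp only [t, biprod.lift_desc, Preadditive.comp_neg, ← sub_eq_add_neg, sub_eq_zero]
    rw [← c₁, ← c₂, hφ']
  let ψ := hs.exact.lift t ht
  have hψ : ψ ≫ biprod.lift (η₁ G) (η₂ G) = t := hs.exact.lift_f t ht
  refine ⟨ψ, biprod.hom_ext' _ _ ?_ ?_⟩
  · refine (biprod.inl_desc_assoc _ _ _).trans ((adj₁.homEquiv F G).injective ?_)
    rw [e₁]
    simpa [t] using congrArg (· ≫ biprod.fst) hψ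
  · refine (biprod.inr_desc_assoc _ _ _).trans ((adj₂.homEquiv F G).injective ?_)
    rw [e₂]
    simpa [t] using congrArg (· ≫ biprod.snd) hψ

theorem homEquiv_counit {S : Scheme.{u}} {X : AlgSp.Sp S} (U : AlgSp.EtOver X) [(AlgSp.resModEt U).IsRightAdjoint]
    (F : AlgSp.ModEt X) :
    (AlgSp.shriekResAdj U).homEquiv F F ((Adjunction.ofIsRightAdjoint (AlgSp.resModEt U)).counit.app F) =
      (AlgSp.resPushAdjEt U).unit.app F := by
  rw [AlgSp.shriekResAdj, Adjunction.homEquiv_unit, Adjunction.comp_unit_app, Category.assoc]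
  refine (congrArg _ ((AlgSp.pushOnModEt U).map_comp _ _).symm).trans ?_
  rw [Adjunction.right_triangle_components]
  exact (congrArg _ ((AlgSp.pushOnModEt U).map_id _)).trans (Category.comp_id _)

/-- Part (1): for squares whose two parts are schemes: let X be an algebraic space over S and let U, V
be objects of the small etale site of X (schemes with representable etale structure maps to X) such
that (U ⊂ X, V ⟶ X) is an elementary distinguished square; write U ×_X V for their product in the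
site. Granting that restriction of O_X-modules to each of U, V and U ×_X V has a left adjoint j_!
(extension by zero, which exists), for every O_X-module F the sequence 0 ⟶ j_{U ×_X V,!}F|_{U ×_X V}
⟶ j_{U,!}F|_U ⊕ j_{V,!}F|_V ⟶ F ⟶ 0 is short exact, where the second map is given by the two
adjunction counits and the first by the extension map along U ×_X V ⟶ U and minus the extension map
along U ×_X V ⟶ V. Only squares whose open part and etale part are both schemes are covered. -/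
theorem result {S : Scheme.{u}} (X : AlgSp.Space S)
    (U V : AlgSp.EtOver X.obj) (hsq : AlgSp.IsElemDistSq U.obj.hom V.obj.hom)
    [(AlgSp.resModEt U).IsRightAdjoint] [(AlgSp.resModEt V).IsRightAdjoint]
    [(AlgSp.resModEt (AlgSp.EtOver.prodObj U V)).IsRightAdjoint] (F : AlgSp.ModEt X.obj) :
    ∃ h : biprod.lift ((AlgSp.shriekResNatTrans (AlgSp.EtOver.prodFst U V)).app F)
          (-((AlgSp.shriekResNatTrans (AlgSp.EtOver.prodSnd U V)).app F)) ≫
        biprod.desc ((Adjunction.ofIsRightAdjoint (AlgSp.resModEt U)).counit.app F)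
          ((Adjunction.ofIsRightAdjoint (AlgSp.resModEt V)).counit.app F) = 0,
      (ShortComplex.mk _ _ h).ShortExact := by
  haveI : EnoughInjectives (AlgSp.ModEt X.obj) := Groth.Agent.AlgSpLib.enoughInjectives_sheafOfModules _ _
  exact shortExact_conjugate (AlgSp.shriekResAdj U) (AlgSp.shriekResAdj V)
    (AlgSp.shriekResAdj (AlgSp.EtOver.prodObj U V)) (AlgSp.pushResNatTrans (AlgSp.EtOver.prodFst U V))
    (AlgSp.pushResNatTrans (AlgSp.EtOver.prodSnd U V)) (AlgSp.resPushAdjEt U).unit.app (AlgSp.resPushAdjEt V).unit.app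
    (Adjunction.ofIsRightAdjoint (AlgSp.resModEt U)).counit.app (Adjunction.ofIsRightAdjoint (AlgSp.resModEt V)).counit.app
    (fun ψ => (AlgSp.resPushAdjEt U).unit.naturality ψ) (fun ψ => (AlgSp.resPushAdjEt V).unit.naturality ψ) (homEquiv_counit U) (homEquiv_counit V) (Groth.Agent.S10788.result X U V hsq) F

end Groth.Agent.S10789
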