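import Groth.Statements.S10793
import Groth.Agent.AlgSpLib.EffCartierSub
-- import your own Groth.Agent.* helpers here

set_option autoImplicit false
universe u
open CategoryTheory CategoryTheory.Limits AlgebraicGeometry Topology TopologicalSpace
open AlgSp

namespace Groth.Agent.S10793

set_option backward.isDefEq.respectTransparency.types false

/-- For an algebraic space X over a scheme S, an effective Cartier divisor D ⟶ X (in the one-chart
sense) and the open subspace U ⟶ X complementary to D, that is, a morphism representable by open
immersions whose image in |X| is the complement of the image of |D|: the inclusion of U in X is an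
affine morphism, and in the scheme-theoretic sense (one-chart form) U is dense in X. -/
theorem result {S : Scheme.{u}} (X D U : AlgSp.Space S)
    (i : D ⟶ X) (hD : AlgSp.IsEffCartierSub i.hom) (j : U ⟶ X) (hj : AlgSp.RepWith @IsOpenImmersion j.hom)
    (hU : Set.range (AlgSp.Points.map j.hom) = (Set.range (AlgSp.Points.map i.hom))ᶜ) :
    AlgSp.IsAffineMor j.hom ∧ AlgSp.IsSchDense j.hom := by
  refine ⟨?_, Groth.Agent.AlgSpLib.isSchDense_compl hD hj hU⟩
  obtain ⟨V, p, he, hs, hI⟩ := Groth.Agent.AlgSpLib.exists_atlas_of_isEffCartierSub hD
  refine Groth.Agent.AlgSpLib.isAffineMor_compl hD.1 hj hU he hs fun y _ => ?_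
  obtain ⟨W, hy, f, -, hf⟩ := hI y
  exact ⟨W, hy, f, hf⟩

end Groth.Agent.S10793
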