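import Groth.Statements.S10794
import Groth.Agent.AlgSpLib.EffCartierSub
import Groth.Agent.SDiv28.LocalDim
-- import your own Groth.Agent.* helpers here

set_option autoImplicit false
universe u
open CategoryTheory CategoryTheory.Limits AlgebraicGeometry Topology TopologicalSpace
open AlgSp

namespace Groth.Agent.S10794

set_option backward.isDefEq.respectTransparency.types false

open Groth.Agent.AssSch12 in
private theorem exists_gen_not_support {T : Scheme.{u}} {I : T.IdealSheafData} (hI : BlowUp.IsEffCartierIdeal I)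
    (x : T) : ∃ y : T, y ⤳ x ∧ y ∉ I.support := by
  obtain ⟨V, hxV, a, ha, haI⟩ := hI x
  haveI : (primeAt V.2 hxV).IsPrime := (V.2.primeIdealOf ⟨x, hxV⟩).2
  obtain ⟨q, hq, hqle⟩ := Ideal.exists_minimalPrimes_le (bot_le : (⊥ : Ideal Γ(T, V.1)) ≤ primeAt V.2 hxV)
  haveI := hq.1.1
  obtain ⟨y, hy, rfl⟩ := exists_point V.2 q
  refine ⟨y, (specializes_iff V.2 hy hxV).2 hqle, fun hys => ?_⟩
  refine Set.disjoint_left.1 (Ideal.disjoint_nonZeroDivisors_of_mem_minimalPrimes hq) ?_ ha
  rw [SetLike.mem_coe, mem_primeAt_iff]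
  intro hya
  have h : y ∈ T.zeroLocus (U := V.1) (I.ideal V : Set Γ(T, V.1)) := ((I.coe_support_inter V).subset ⟨hys, hy⟩).1
  rw [haI, Scheme.zeroLocus_span, Scheme.zeroLocus_singleton] at h
  exact h hya

/-- Let X be an algebraic space over a scheme S, D ⟶ X an effective Cartier divisor (one-chart sense)
and x a point of |D|. If the dimension of X at the image of x is d, in the sense that some etale
scheme chart of X has local dimension d at a point over it, and d is finite, then the dimension of D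
at x is strictly smaller: some etale scheme chart of D has local dimension less than d at a point
over x. -/
theorem result {S : Scheme.{u}} (X D : AlgSp.Space S) (i : D ⟶ X)
    (hD : AlgSp.IsEffCartierSub i.hom) (x : AlgSp.Points D.obj) (d : WithBot ℕ∞)
    (hd : AlgSp.HasAt (fun U u => FlatMor.localDim ↥U u = d) X.obj (AlgSp.Points.map i.hom x)) (hfin : d ≠ ⊤) :
    AlgSp.HasAt (fun V v => FlatMor.localDim ↥V v < d) D.obj x := by
  obtain ⟨U, a, u, ha, hu, hd'⟩ := hd
  have hI := Groth.Agent.AlgSpLib.isEffCartierIdeal_chartIdeal hD ha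
  obtain ⟨fst, sq⟩ := Groth.Agent.AlgSpLib.exists_subscheme_chart hD.1 a
  rw [AlgSp.Points.ofPt_eq_map_ofScheme] at hu
  obtain ⟨w, hw1, hw2⟩ := AlgSpLib.exists_point_of_isPullback sq hu.symm
  obtain ⟨v, rfl⟩ := (AlgSp.Points.schemeEquiv _).surjective w
  refine ⟨_, fst, v, AlgSpLib.RepWith.baseChange sq.flip ha, ?_, ?_⟩
  · rw [AlgSp.Points.ofPt_eq_map_ofScheme]; exact hw1
  · let r : Over.mk ((Groth.Agent.AlgSpLib.chartIdeal hD.1 a).subschemeι ≫ U.hom) ⟶ U :=
      Over.homMk (Groth.Agent.AlgSpLib.chartIdeal hD.1 a).subschemeι rfl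
    have hv : r.left v = u :=
      (AlgSp.Points.schemeEquiv U).injective ((AlgSpLib.map_yon_map_ofScheme r v).symm.trans hw2)
    change (Groth.Agent.AlgSpLib.chartIdeal hD.1 a).subschemeι v = u at hv
    subst hv hd'
    refine SDiv28.localDim_lt (Groth.Agent.AlgSpLib.chartIdeal hD.1 a).subschemeι.isClosedEmbedding (fun d' => ?_) v hfin
    obtain ⟨y, hy, hys⟩ := exists_gen_not_support hI ((Groth.Agent.AlgSpLib.chartIdeal hD.1 a).subschemeι d')
    exact ⟨y, hy, fun hr => hys ((Scheme.IdealSheafData.range_subschemeι _).subset hr)⟩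

end Groth.Agent.S10794
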