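import Groth.Statements.S10796
import Groth.Agent.AlgSpLib.WeakAssChart
import Groth.Agent.AlgSpLib.SchImage
-- import your own Groth.Agent.* helpers here

set_option autoImplicit false
universe u
open CategoryTheory CategoryTheory.Limits AlgebraicGeometry Topology TopologicalSpace
open AlgSp

namespace Groth.Agent.S10796

set_option backward.isDefEq.respectTransparency.types false

/-- For algebraic spaces X and Y over a scheme S, a morphism f : X ⟶ Y and an effective Cartier divisor
D ⟶ Y (one-chart sense), assume that no weakly associated point of X (weakly associated point of the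
structure sheaf O_X on the small etale site of X) is mapped into |D|. Then the inverse image of D
under f is an effective Cartier divisor on X: for every pullback square of D ⟶ Y along f, the
projection to X is an effective Cartier divisor (one-chart sense). -/
theorem result {S : Scheme.{u}} (X Y D P : AlgSp.Space S) (f : X ⟶ Y)
    (i : D ⟶ Y) (hD : AlgSp.IsEffCartierSub i.hom) [(AlgSp.unitModEt X.obj).IsQuasicoherent]
    (h : ∀ x ∈ AlgSp.WeakAssEt (AlgSp.unitModEt X.obj),
      AlgSp.Points.map f.hom x ∉ Set.range (AlgSp.Points.map i.hom))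
    (fst : P ⟶ D) (snd : P ⟶ X) (hP : IsPullback fst.hom snd.hom i.hom f.hom) :
    AlgSp.IsEffCartierSub snd.hom := by
  obtain ⟨V, p, he, hs⟩ := Y.property.atlas
  obtain ⟨U, q, w, hqe, hqs, hw⟩ := Groth.Agent.AlgSpLib.exists_chart_over X.property Y.property f.hom p he hs
  haveI := IsClosedImmersion.isStableUnderBaseChange.{u}
  have hc : AlgSp.RepWith @IsClosedImmersion snd.hom := AlgSpLib.RepWith.baseChange hP hD.1
  refine Groth.Agent.AlgSpLib.isEffCartierSub_of_atlas hc hqe hqs ?_
  rw [Groth.Agent.AlgSpLib.chartIdeal_of_isPullback hD.1 hP hc, hw, Groth.Agent.AlgSpLib.chartIdeal_comp]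
  refine SDiv28.isEffCartier_comap_of_weakAss (Groth.Agent.AlgSpLib.isEffCartierIdeal_chartIdeal hD he) _ fun u hu => ?_
  rw [Groth.Agent.AlgSpLib.mem_range_of_mem_support hD.1 p]
  have := h _ (Groth.Agent.AlgSpLib.ofPt_mem_weakAssEt hqe hu)
  rwa [AlgSp.Points.map_ofPt, hw, AlgSpLib.ofPt_map] at this

end Groth.Agent.S10796
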