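import Groth.Statements.S1662
import Groth.Agent.ModPairLib.EffCartier
import Mathlib

set_option autoImplicit false
universe u
open CategoryTheory CategoryTheory.Limits AlgebraicGeometry
open Divisors

namespace Groth.Agent.S1662
open TopologicalSpace

/-- Let f : X → S, D an effective Cartier divisor on X such that D → S is flat, and g : S' → S any
morphism. Then the inverse image of D in X ×_S S' is an effective Cartier divisor. -/
theorem result {X S S' : Scheme.{u}} (f : X ⟶ S) (D : X.IdealSheafData) (hD : BlowUp.IsEffCartierIdeal D)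
    [Flat (D.subschemeι ≫ f)] (g : S' ⟶ S) :
    BlowUp.IsEffCartierIdeal (D.comap (pullback.fst f g)) := by
  intro p
  let g' := pullback.fst f g
  let f' := pullback.snd f g
  obtain ⟨U₀, hxU₀, a₀, ha₀, ha₀I⟩ := hD (g' p)
  obtain ⟨V, hV, hxV, -⟩ := Opens.isBasis_iff_nbhd.mp S.isBasis_affineOpens (Opens.mem_top (f (g' p)))
  obtain ⟨U, hU, hxU, hUle⟩ := Opens.isBasis_iff_nbhd.mp X.isBasis_affineOpens
    (show g' p ∈ U₀.1 ⊓ f ⁻¹ᵁ V from ⟨hxU₀, hxV⟩)
  have hUV : U ≤ f ⁻¹ᵁ V := hUle.trans inf_le_right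
  have hgx : g (f' p) = f (g' p) := by
    show (f' ≫ g).base p = (g' ≫ f).base p
    rw [pullback.condition]
  obtain ⟨V', hV', hxV', hV'V⟩ := Opens.isBasis_iff_nbhd.mp S'.isBasis_affineOpens
    (show f' p ∈ g ⁻¹ᵁ V by show g (f' p) ∈ V; rw [hgx]; exact hxV)
  let W : (pullback f g).Opens := g' ⁻¹ᵁ U ⊓ f' ⁻¹ᵁ V'
  have hsq := IsPullback.of_hasPullback f g
  have hW : IsAffineOpen W := by
    have : IsAffine _ := hV
    have : IsAffine _ := hV'
    have : IsAffine _ := hU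
    exact .of_isIso (Scheme.Hom.isPullback_resLE hsq hV'V hUV rfl).isoPullback.hom
  have e₁ : W ≤ g' ⁻¹ᵁ U := inf_le_left
  have e₂ : W ≤ f' ⁻¹ᵁ V' := inf_le_right
  have hpush : IsPushout (f.appLE V U hUV) (g.appLE V V' hV'V) (g'.appLE U W e₁) (f'.appLE V' W e₂) :=
    (isIso_pushoutSection_iff hsq hV'V hUV rfl).1 (isIso_pushoutSection_of_isAffineOpen hsq hV'V hUV rfl hV hV' hU)
  have hle : U ≤ U₀.1 := hUle.trans inf_le_left
  let a : Γ(X, U) := ModPairLib.res hle a₀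
  have ha : a ∈ nonZeroDivisors Γ(X, U) :=
    ModPairLib.res_mem_nonZeroDivisors (U := U₀) (V := ⟨U, hU⟩) hle ha₀
  have haI : D.ideal ⟨U, hU⟩ = Ideal.span {a} := ModPairLib.ideal_restrict D (U := U₀) (V := ⟨U, hU⟩) hle ha₀I
  refine ⟨⟨W, hW⟩, ⟨hxU, hxV'⟩, g'.appLE U W e₁ a, ?_, ?_⟩
  swap
  · rw [ProjLib.comap_ideal_eq D g' ⟨U, hU⟩ ⟨W, hW⟩ e₁, haI, Ideal.map_span, Set.image_singleton]
  letI : Algebra Γ(S, V) Γ(S', V') := (g.appLE V V' hV'V).hom.toAlgebra
  letI : Algebra Γ(S, V) Γ(X, U) := (f.appLE V U hUV).hom.toAlgebra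
  letI : Algebra Γ(X, U) Γ(pullback f g, W) := (g'.appLE U W e₁).hom.toAlgebra
  letI : Algebra Γ(S', V') Γ(pullback f g, W) := (f'.appLE V' W e₂).hom.toAlgebra
  letI : Algebra Γ(S, V) Γ(pullback f g, W) := (f.appLE V U hUV ≫ g'.appLE U W e₁).hom.toAlgebra
  haveI : IsScalarTower Γ(S, V) Γ(X, U) Γ(pullback f g, W) := .of_algebraMap_eq fun _ => rfl
  haveI : IsScalarTower Γ(S, V) Γ(S', V') Γ(pullback f g, W) := .of_algebraMap_eq fun r => congr($(hpush.w) r)
  haveI hP : Algebra.IsPushout Γ(S, V) Γ(S', V') Γ(X, U) Γ(pullback f g, W) :=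
    CommRingCat.isPushout_iff_isPushout.mp hpush.flip
  -- the quotient is flat over the base
  let Z := D.subscheme
  have hT : D.subschemeι ⁻¹ᵁ U ≤ (D.subschemeι ≫ f) ⁻¹ᵁ V := fun z hz => hUV hz
  have hflat := Scheme.Hom.flat_appLE (D.subschemeι ≫ f) hV (hU.preimage D.subschemeι) hT
  letI : Algebra Γ(S, V) Γ(Z, D.subschemeι ⁻¹ᵁ U) := ((D.subschemeι ≫ f).appLE V _ hT).hom.toAlgebra
  let ψ : Γ(X, U) →ₐ[Γ(S, V)] Γ(Z, D.subschemeι ⁻¹ᵁ U) :=
    { (D.subschemeι.app U).hom with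
      commutes' := fun r => by
        show D.subschemeι.app U (f.appLE V U hUV r) = (D.subschemeι ≫ f).appLE V _ hT r
        rw [← D.subschemeι.appLE_eq_app]
        exact congr($(Scheme.Hom.appLE_comp_appLE D.subschemeι f V U _ hUV le_rfl) r) }
  have hψk : RingHom.ker ψ.toRingHom = Ideal.span {a} := (D.ker_subschemeι_app ⟨U, hU⟩).trans haI
  haveI : Module.Flat Γ(S, V) (Γ(X, U) ⧸ Ideal.span {a}) := by
    haveI : Module.Flat Γ(S, V) Γ(Z, D.subschemeι ⁻¹ᵁ U) := hflat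
    exact Module.Flat.of_linearEquiv ((Ideal.quotientEquivAlgOfEq Γ(S, V) hψk.symm).trans
      (Ideal.quotientKerAlgEquivOfSurjective (f := ψ) (D.subschemeι_app_surjective ⟨U, hU⟩))).toLinearEquiv
  have hinj : Function.Injective ((LinearMap.mulLeft Γ(S, V) a).lTensor Γ(S', V')) := by
    refine LinearMap.lTensor_injective_of_exact_of_flat
      (Ideal.Quotient.mkₐ Γ(S, V) (Ideal.span {a})).toLinearMap Ideal.Quotient.mk_surjective _
      (fun x y h => (mul_cancel_left_mem_nonZeroDivisors ha).1 h) (fun x => ?_) _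
    show Ideal.Quotient.mk _ x = 0 ↔ _
    rw [Ideal.Quotient.eq_zero_iff_mem, Ideal.mem_span_singleton']
    exact ⟨fun ⟨c, hc⟩ => ⟨c, (mul_comm a c).trans hc⟩, fun ⟨c, hc⟩ => ⟨c, (mul_comm c a).trans hc⟩⟩
  have hb := hP.out
  have key : ∀ t, hb.equiv ((LinearMap.mulLeft Γ(S, V) a).lTensor Γ(S', V') t) =
      hb.equiv t * g'.appLE U W e₁ a := by
    intro t
    induction t with
    | zero => simp
    | tmul c b =>
      rw [LinearMap.lTensor_tmul, IsBaseChange.equiv_tmul, IsBaseChange.equiv_tmul]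
      show c • algebraMap Γ(X, U) Γ(pullback f g, W) (a * b) = (c • algebraMap Γ(X, U) Γ(pullback f g, W) b) *
        algebraMap Γ(X, U) Γ(pullback f g, W) a
      rw [map_mul, smul_mul_assoc, mul_comm (algebraMap Γ(X, U) Γ(pullback f g, W) a)]
    | add x y hx hy => simp only [map_add, hx, hy, add_mul]
  rw [mem_nonZeroDivisors_iff_right]
  intro z hz
  obtain ⟨t, rfl⟩ := hb.equiv.surjective z
  have h0 := (key t).trans hz
  rw [LinearEquiv.map_eq_zero_iff] at h0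
  rw [hinj (h0.trans (map_zero _).symm), map_zero]

end Groth.Agent.S1662
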