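import Groth.Statements.S10797
import Groth.Agent.AlgSpLib.EffCartierSub
import Groth.Agent.AlgSpLib.SchImage
import Groth.Agent.S1662
-- import your own Groth.Agent.* helpers here

set_option autoImplicit false
universe u
open CategoryTheory CategoryTheory.Limits AlgebraicGeometry Topology TopologicalSpace
open AlgSp

namespace Groth.Agent.S10797

set_option backward.isDefEq.respectTransparency.types false

/-- Let f : X ⟶ Y be a morphism of algebraic spaces over a scheme S and D ⟶ X an effective Cartier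
divisor (one-chart sense) such that the composite D ⟶ Y is flat. Then for every morphism g : Y' ⟶ Y
and every pullback square exhibiting X' as Y' ×_Y X with projection g' : X' ⟶ X, the inverse image
of D under g' (the projection to X' from any pullback of D ⟶ X along g') is an effective Cartier
divisor on X'. (The published statement takes g to be a morphism from a scheme Y'; this row allows
Y' to be an algebraic space, to which the same etale-local reduction to schemes applies.) -/
theorem result {S : Scheme.{u}} (X Y D Y' X' D' : AlgSp.Space S)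
    (f : X ⟶ Y) (i : D ⟶ X) (hD : AlgSp.IsEffCartierSub i.hom) (hflat : AlgSp.LocP @Flat (i ≫ f).hom)
    (g : Y' ⟶ Y) (g' : X' ⟶ X) (f' : X' ⟶ Y') (hX' : IsPullback g'.hom f'.hom f.hom g.hom)
    (k : D' ⟶ D) (i' : D' ⟶ X') (hD' : IsPullback k.hom i'.hom i.hom g'.hom) :
    AlgSp.IsEffCartierSub i'.hom := by
  obtain ⟨V, p, hpe, hps⟩ := Y.property.atlas
  obtain ⟨U, q, w, hqe, hqs, hw⟩ := Groth.Agent.AlgSpLib.exists_chart_over X.property Y.property f.hom p hpe hps
  have hI := Groth.Agent.AlgSpLib.isEffCartierIdeal_chartIdeal hD hqe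
  obtain ⟨fstD, sqD⟩ := Groth.Agent.AlgSpLib.exists_subscheme_chart hD.1 q
  let r : Over.mk ((Groth.Agent.AlgSpLib.chartIdeal hD.1 q).subschemeι ≫ U.hom) ⟶ U :=
    Over.homMk (Groth.Agent.AlgSpLib.chartIdeal hD.1 q).subschemeι rfl
  have hfl : Flat ((Groth.Agent.AlgSpLib.chartIdeal hD.1 q).subschemeι ≫ w.left) := by
    refine hflat fstD p (r ≫ w) (AlgSpLib.RepWith.baseChange sqD.flip hqe) hpe ?_
    rw [ObjectProperty.FullSubcategory.comp_hom, ← Category.assoc, sqD.w, Category.assoc, hw, ← Category.assoc,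
      (AlgSp.yon S).map_comp]
  obtain ⟨P, fV, fY, sqP⟩ : ∃ (P : AlgSp.Sp S) (fV : P ⟶ (AlgSp.yon S).obj V) (fY : P ⟶ Y'.obj),
      IsPullback fV fY p g.hom := ⟨_, _, _, IsPullback.of_hasPullback _ _⟩
  obtain ⟨V', a, hae, has⟩ := (AlgSpLib.isAlgSpace_of_isPullback Y.property.diag (AlgSp.IsAlgSpace.yon_obj V)
    Y'.property sqP).atlas
  obtain ⟨b, hb⟩ := (AlgSp.yon S).map_surjective (a ≫ fV)
  obtain ⟨Q, π₁, π₂, sqQ⟩ : ∃ (Q : AlgSp.Sp S) (π₁ : Q ⟶ (AlgSp.yon S).obj U) (π₂ : Q ⟶ X'.obj),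
      IsPullback π₁ π₂ q g'.hom := ⟨_, _, _, IsPullback.of_hasPullback _ _⟩
  have big : IsPullback π₁ (π₂ ≫ f'.hom) ((AlgSp.yon S).map w ≫ p) g.hom := hw ▸ sqQ.paste_vert hX'
  let m : Q ⟶ P := sqP.lift (π₁ ≫ (AlgSp.yon S).map w) (π₂ ≫ f'.hom) (by rw [Category.assoc]; exact big.w)
  have sqm : IsPullback π₁ m ((AlgSp.yon S).map w) fV :=
    IsPullback.of_bot (by rw [sqP.lift_snd]; exact big) (sqP.lift_fst _ _ _).symm sqP
  let T : Over S := Over.mk (pullback.fst w.left b.left ≫ U.hom)
  let x : T ⟶ U := Over.homMk (pullback.fst w.left b.left)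
  let y : T ⟶ V' := Over.homMk (pullback.snd w.left b.left) (by
    show pullback.snd w.left b.left ≫ V'.hom = pullback.fst w.left b.left ≫ U.hom
    rw [← Over.w b, ← Over.w w, pullback.condition_assoc])
  have sqT : IsPullback ((AlgSp.yon S).map x) ((AlgSp.yon S).map y) ((AlgSp.yon S).map w) ((AlgSp.yon S).map b) :=
    IsPullback.map (AlgSp.yon S) (IsPullback.of_map (Over.forget S) (Over.OverMorphism.ext pullback.condition)
      (IsPullback.of_hasPullback w.left b.left))
  let c : (AlgSp.yon S).obj T ⟶ Q := sqm.lift ((AlgSp.yon S).map x) ((AlgSp.yon S).map y ≫ a)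
    (by rw [Category.assoc, ← hb, sqT.w])
  have sqc : IsPullback c ((AlgSp.yon S).map y) m a :=
    IsPullback.of_right (by rw [sqm.lift_fst, ← hb]; exact sqT) (sqm.lift_snd _ _ _) sqm
  haveI := IsClosedImmersion.isStableUnderBaseChange.{u}
  have hc : AlgSp.RepWith @IsClosedImmersion i'.hom := AlgSpLib.RepWith.baseChange hD' hD.1
  refine Groth.Agent.AlgSpLib.isEffCartierSub_of_atlas hc (p := c ≫ π₂)
    (AlgSpLib.RepWith.comp (AlgSpLib.RepWith.baseChange sqc.flip hae) (AlgSpLib.RepWith.baseChange sqQ hqe))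
    (AlgSpLib.RepWith.comp (AlgSpLib.RepWith.baseChange sqc.flip has) (AlgSpLib.RepWith.baseChange sqQ hqs)) ?_
  rw [Groth.Agent.AlgSpLib.chartIdeal_of_isPullback hD.1 hD' hc, Category.assoc, ← sqQ.w, ← Category.assoc,
    sqm.lift_fst, Groth.Agent.AlgSpLib.chartIdeal_comp]
  exact Groth.Agent.S1662.result w.left (Groth.Agent.AlgSpLib.chartIdeal hD.1 q) hI b.left

end Groth.Agent.S10797
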