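import Groth.Statements.S10799
import Groth.Agent.AlgSpLib.EffCartierDepth
-- import your own Groth.Agent.* helpers here

set_option autoImplicit false
universe u
open CategoryTheory CategoryTheory.Limits AlgebraicGeometry Topology TopologicalSpace
open AlgSp

namespace Groth.Agent.S10799

set_option backward.isDefEq.respectTransparency.types false

/-- Let X be an algebraic space over a scheme S which is locally Noetherian and normal in the
etale-local sense: some etale surjective chart of X from a locally Noetherian scheme all of whose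
local rings are integrally closed domains. Let D ⟶ X be an effective Cartier divisor (one-chart
sense). Then D is (S_1): some etale surjective chart of D from a locally Noetherian scheme all of
whose local rings O satisfy min(1, dim O) ≤ depth O. -/
theorem result {S : Scheme.{u}} (X D : AlgSp.Space S)
    (hX : AlgSp.EtaleLocally (fun U => IsLocallyNoetherian U ∧ Pi1.IsNormalScheme U) X.obj)
    (i : D ⟶ X) (hD : AlgSp.IsEffCartierSub i.hom) :
    AlgSp.EtaleLocally (fun V => IsLocallyNoetherian V ∧ ∀ v : ↥V,
        min ((1 : ℕ) : WithBot ℕ∞) (ringKrullDim ↥(V.presheaf.stalk v)) ≤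
          ((LocCoh.depth ↥(V.presheaf.stalk v) ↥(V.presheaf.stalk v) : ℕ∞) : WithBot ℕ∞)) D.obj := by
  refine Groth.Agent.AlgSpLib.etaleLocally_effCartier hD hX (fun _ h => h.1) fun U I h hI => ?_
  obtain ⟨hn, hk⟩ := h
  refine ⟨LocallyOfFiniteType.isLocallyNoetherian I.subschemeι, fun v => ?_⟩
  obtain ⟨h1, h2⟩ := Groth.Agent.AlgSpLib.dim_depth_of_isEffCartierIdeal hI v
  refine Groth.Agent.AlgSpLib.min_pred_le (k := 2) ?_
  rw [h1, h2]
  obtain ⟨_, _⟩ := hk (I.subschemeι v)
  by_cases h3 : 2 ≤ ringKrullDim ↥(U.presheaf.stalk (I.subschemeι v))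
  · exact min_le_of_left_le (WithBot.coe_le_coe.2 (CAlgH3.two_le_depth_of_normal h3))
  · rw [← h1] at h3 ⊢
    refine le_trans (min_le_right _ _) ?_
    cases hd : ringKrullDim ↥(I.subscheme.presheaf.stalk v) with
    | bot => simp
    | coe a =>
      rw [hd, show ((a : WithBot ℕ∞) + 1) = ((a + 1 : ℕ∞) : WithBot ℕ∞) from rfl,
        show (2 : WithBot ℕ∞) = ((1 + 1 : ℕ∞) : WithBot ℕ∞) from rfl, WithBot.coe_le_coe] at h3
      rw [← h2, show ((a : WithBot ℕ∞) + 1) = ((a + 1 : ℕ∞) : WithBot ℕ∞) from rfl, WithBot.coe_le_coe]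
      refine add_le_add_left (le_trans (le_of_eq ?_) zero_le') 1
      exact ENat.lt_one_iff_eq_zero.1 (not_le.1 fun ha => h3 (add_le_add_left ha 1))

end Groth.Agent.S10799
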