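import Groth.Statements.S10800
import Groth.Agent.AlgSpLib.EffCartierSub
import Groth.Agent.AlgSpLib.EtaleAscend
import Groth.Agent.AlgSpLib.RedUniv
import Groth.Agent.AlgSpLib.NormNagata
import Groth.Agent.AlgSpLib.Diag
import Groth.Agent.AlgSpLib.PointsCompact
import Groth.Agent.AlgSpLib.AffineComplCartier
import Groth.Agent.CAlgH3.Factorial
import Groth.Agent.CAlgH3.RegularLocal
import Groth.Agent.Stk19b.RedInd
import Groth.Agent.Props12.KerReduced
-- import your own Groth.Agent.* helpers here

set_option autoImplicit false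
universe u
open CategoryTheory CategoryTheory.Limits AlgebraicGeometry Topology TopologicalSpace
open AlgSp

namespace Groth.Agent.S10800

open Opposite Groth.Agent.AlgSpLib

set_option backward.isDefEq.respectTransparency false

/-- Let S be a separated scheme and X an algebraic space over S which is Noetherian, separated and
regular: X is quasi-compact, quasi-separated and separated over S, and some etale surjective chart
of X is a locally Noetherian scheme whose local rings are regular. Let T be an affine scheme with a
representable open immersion h_T ⟶ X whose image is dense in |X| (a dense affine open subspace U).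
Then there is an effective Cartier divisor D ⟶ X (one-chart sense) with |D| = |X| ∖ |U|. (The
published statement asks X to be separated in the absolute sense; this row asks X separated over a
separated base scheme S, which implies it. Separatedness over S alone does not suffice: over the
affine plane with doubled origin as S, with X = S and U one of the two affine planes, the complement
is a point of codimension 2.) -/
theorem result {S : Scheme.{u}} [S.IsSeparated] (X : AlgSp.Space S)
    (hreg : AlgSp.EtaleLocally (fun U => IsLocallyNoetherian U ∧ ∀ u : ↥U, IsRegularLocalRing ↥(U.presheaf.stalk u)) X.obj)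
    (hqc : AlgSp.IsQuasiCompactSp X.obj) (hqs : AlgSp.IsQuasiSeparatedSp X.obj) (hsep : AlgSp.IsSeparatedSp X.obj)
    (T : Over S) [IsAffine T.left] (j : (AlgSp.yon S).obj T ⟶ X.obj) (hj : AlgSp.RepWith @IsOpenImmersion j)
    (hdense : Dense (Set.range (AlgSp.Points.ofPt j))) :
    ∃ (D : AlgSp.Space S) (i : D ⟶ X), AlgSp.IsEffCartierSub i.hom ∧
      Set.range (AlgSp.Points.map i.hom) = (Set.range (AlgSp.Points.ofPt j))ᶜ := by
  obtain ⟨U', p₀, he₀, hs₀, hN', hreg'⟩ := hreg
  have := compactSpace_points_of_isQuasiCompactSp hqc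
  obtain ⟨σ, hσ⟩ := isCompact_univ.elim_finite_subcover
    (fun i : U'.left.affineOpens => Points.ofPt p₀ '' (i.1 : Set U'.left))
    (fun i => isOpenMap_ofPt p₀ he₀ _ i.1.2) (fun x _ => by
      obtain ⟨v, rfl⟩ := surjective_ofPt p₀ hs₀ x
      obtain ⟨_, ⟨V, hV, rfl⟩, hv, -⟩ :=
        U'.left.isBasis_affineOpens.exists_subset_of_mem_open (Set.mem_univ v) isOpen_univ
      exact Set.mem_iUnion.2 ⟨⟨V, hV⟩, v, hv, rfl⟩)
  have hsig := exists_sigma_chart p₀ he₀ (fun i : σ => i.1.1) fun x => by
    obtain ⟨i, hi, v, hv, rfl⟩ := Set.mem_iUnion₂.1 (hσ (Set.mem_univ x))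
    exact ⟨⟨i, hi⟩, v, hv, rfl⟩
  obtain ⟨a, hae, has⟩ := hsig
  have : ∀ i : σ, IsAffine i.1.1.toScheme := fun i => i.1.2
  let U : Over S := Over.mk (Sigma.desc (fun i : σ => i.1.1.ι) ≫ U'.hom)
  have hUaff : IsAffine U.left := (inferInstance : IsAffine (∐ fun i : σ => i.1.1.toScheme))
  let c : U.left ⟶ U'.left := Sigma.desc fun i : σ => i.1.1.ι
  have : Etale c := IsZariskiLocalAtSource.sigmaDesc (P := @Etale) fun i => inferInstance
  have := hN'
  have hN : IsLocallyNoetherian U.left := LocallyOfFiniteType.isLocallyNoetherian c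
  have hregU : ∀ x : U.left, IsRegularLocalRing (U.left.presheaf.stalk x) := fun x =>
    regular_stalks_of_etale c hreg' x
  -- the preimage of the affine open
  have hjr := hj.1
  have sq := hjr.isPullback' a
  let W := hjr.pullback a
  let w : W ⟶ U := hjr.snd a
  have : IsOpenImmersion w.left := hj.property_snd a
  have hWaff : IsAffine W.left := by
    have h := RepWith.baseChange (P := @IsClosedImmersion) (isPullback_diag_prod_map sq) hsep
    have e : prod.lift ((yon S).map (hjr.fst' a)) ((yon S).map w) =
        (yon S).map (prod.lift (hjr.fst' a) w) ≫ prodComparison (yon S) T U := by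
      apply Limits.prod.hom_ext <;> simp [← Functor.map_comp, prod.lift_fst, prod.lift_snd]
    rw [e, MorphismProperty.cancel_right_of_respectsIso (RepWith @IsClosedImmersion),
      repWith_yon_map_iff (P := @IsClosedImmersion)] at h
    have : IsClosedImmersion (prod.lift (hjr.fst' a) w).left := h
    have : IsSeparated (terminal.from S) := ‹S.IsSeparated›.isSeparated_terminal_from
    have : IsAffineHom T.hom := IsAffineHom.of_comp T.hom (terminal.from S)
    have : IsAffine (pullback T.hom U.hom) := isAffine_of_isAffineHom (pullback.snd T.hom U.hom)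
    have : IsAffine (T ⨯ U).left := IsAffine.of_isIso (Over.prodLeftIsoPullback T U).hom
    exact isAffine_of_isAffineHom (prod.lift (hjr.fst' a) w).left
  let V : U.left.Opens := w.left.opensRange
  have hVset : (V : Set U.left) = Points.ofPt a ⁻¹' Set.range (Points.ofPt j) := by
    ext x
    constructor
    · rintro ⟨r, rfl⟩
      exact ⟨(hjr.fst' a).left r, (ofPt_eq_ofPt_iff sq _ _).2 ⟨r, rfl, rfl⟩⟩
    · rintro ⟨t, ht⟩
      obtain ⟨r, -, hr⟩ := (ofPt_eq_ofPt_iff sq t x).1 ht
      exact ⟨r, hr⟩
  have hVd : Dense (V : Set U.left) := by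
    rw [hVset]
    exact hdense.preimage (isOpenMap_ofPt a hae)
  have : QuasiSeparatedSpace U.left := inferInstance
  obtain ⟨I, hI, hIs⟩ : ∃ I : U.left.IdealSheafData, BlowUp.IsEffCartierIdeal I ∧
      I = Scheme.IdealSheafData.vanishingIdeal ⟨(V : Set U.left)ᶜ, V.isOpen.isClosed_compl⟩ := by
    refine ⟨_, ?_, rfl⟩
    exact isEffCartier_vanishingIdeal_compl (fun A B hA hB => hA.inf hB) (isAffineOpen_opensRange w.left) hVd
      fun x _ => by
        have := hregU x
        have := CAlgH3.isDomain_of_isRegularLocalRing (U.left.presheaf.stalk x)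
        exact ⟨inferInstance, CAlgH3.ufm_of_regular _⟩
  -- the reduced complement
  have hZc : IsClosed (Set.range (Points.ofPt j))ᶜ := by
    rw [isClosed_compl_iff]
    have hje : RepWith @Etale j := RepWith.mono (fun _ _ g (_ : IsOpenImmersion g) => (inferInstance : Etale g)) hj
    exact (isOpenMap_ofPt j hje).isOpen_range
  obtain ⟨D, i, hi, hir, hred⟩ := Stk19b.RedInd.exists_isRedInduced X _ hZc
  refine ⟨D, i, isEffCartierSub_of_atlas hi hae has ?_, hir⟩
  have hcl : IsClosedImmersion (hi.1.snd a).left := hi.property_snd a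
  have : IsReduced (hi.1.pullback a).left :=
    isReduced_chart hred (hi.1.fst a) (RepWith.baseChange (hi.1.isPullback a).flip hae)
  show BlowUp.IsEffCartierIdeal (hi.1.snd a).left.ker
  rw [Props12.ker_eq_vanishingIdeal]
  convert hI using 1
  rw [hIs]
  congr 1
  refine TopologicalSpace.Closeds.ext ?_
  show closure (Set.range (hi.1.snd a).left) = (V : Set U.left)ᶜ
  rw [(hi.1.snd a).left.isClosedEmbedding.isClosed_range.closure_eq, hVset, ← Set.preimage_compl, ← hir]
  have sqi := hi.1.isPullback a
  ext x
  constructor
  · rintro ⟨r, rfl⟩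
    refine ⟨Points.ofPt (hi.1.fst a) r, ?_⟩
    rw [Points.map_ofPt, sqi.w, ofPt_map]
  · rintro ⟨d, hd⟩
    rw [Points.ofPt_eq_map_ofScheme] at hd
    obtain ⟨r, -, hr⟩ := exists_point_of_isPullback sqi hd
    obtain ⟨r, rfl⟩ := (Points.schemeEquiv _).surjective r
    exact ⟨r, (Points.schemeEquiv U).injective ((map_yon_map_ofScheme _ r).symm.trans hr)⟩

end Groth.Agent.S10800
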