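import Groth.Statements.S10805
import Groth.Agent.AlgSpLib.WeakAssChart
import Groth.Agent.AlgSpLib.GeomReducedPt
import Groth.Agent.SDiv28.WeakAssUnit
-- import your own Groth.Agent.* helpers here

set_option autoImplicit false
universe u
open CategoryTheory CategoryTheory.Limits AlgebraicGeometry Topology TopologicalSpace
open AlgSp

namespace Groth.Agent.S10805

open Groth.Agent.AssSch12 in
private theorem dim_zero_iff {T : Scheme.{u}} (x : T) :
    ringKrullDim ↥(T.presheaf.stalk x) = 0 ↔ ∀ y : T, y ⤳ x → y = x := by
  obtain ⟨_, ⟨W, hW, rfl⟩, hx, -⟩ := T.isBasis_affineOpens.exists_subset_of_mem_open (Set.mem_univ x) isOpen_univ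
  letI := TopCat.Presheaf.algebra_section_stalk T.presheaf (⟨x, hx⟩ : W)
  haveI := (show IsAffineOpen W from hW).isLocalization_stalk ⟨x, hx⟩
  haveI : (primeAt hW hx).IsPrime := ((show IsAffineOpen W from hW).primeIdealOf ⟨x, hx⟩).2
  rw [IsLocalization.AtPrime.ringKrullDim_eq_height (primeAt hW hx) (T.presheaf.stalk x),
    ← SDiv28.mem_minimalPrimes_iff hW hx, ← Ideal.height_eq_zero_iff]
  exact ⟨fun h => WithBot.coe_injective h, fun h => by rw [h]; rfl⟩

set_option backward.isDefEq.respectTransparency.types false

/-- Let X be a reduced algebraic space over a scheme S and x a point of |X|. Then x is a weakly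
associated point of X (a weakly associated point of the structure sheaf O_X on the small etale site)
if and only if x is a point of codimension 0 of X (for some scheme U with a representable etale h_U
⟶ X and some point u of U over x, the local ring of U at u has Krull dimension 0). -/
theorem result {S : Scheme.{u}} (X : AlgSp.Space S)
    (hX : AlgSp.IsReducedSp X.obj) [(AlgSp.unitModEt X.obj).IsQuasicoherent] (x : AlgSp.Points X.obj) :
    x ∈ AlgSp.WeakAssEt (AlgSp.unitModEt X.obj) ↔
      AlgSp.HasAt (fun U u => ringKrullDim ↥(U.presheaf.stalk u) = 0) X.obj x := by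
  constructor
  · rintro ⟨E, hE, u, hu, s, hs⟩
    refine ⟨E.obj.left, E.obj.hom, u, E.property, hu, ?_⟩
    have : IsReduced E.obj.left.left := AlgSpLib.isReduced_of_etaleLocally hX E.obj.hom E.property
    show ringKrullDim ↥(E.obj.left.left.presheaf.stalk u) = 0
    rw [dim_zero_iff, ← SDiv28.isWeakAssPoint_structureModule_iff_reduced,
      SDiv28.isWeakAssPoint_structureModule_iff_affine (isAffineOpen_top E.obj.left.left) (show u ∈ ⊤ from trivial)]
    let r : Γ(E.obj.left.left, ⊤) := ULift.down s
    refine ⟨r, ?_⟩
    have e : AssSch12.primeAt (isAffineOpen_top E.obj.left.left) (show u ∈ ⊤ from trivial) =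
        AlgSp.primeAtPt E.obj.left.left u := by
      ext a
      exact (AssSch12.germ_mem_maximalIdeal_iff (isAffineOpen_top E.obj.left.left) (show u ∈ ⊤ from trivial) a).symm
    rw [e]
    suffices (Submodule.span Γ(E.obj.left.left, ⊤) {r}).annihilator = AlgSp.annSect s by
      rw [this]; exact hs
    ext a
    rw [Submodule.mem_annihilator_span_singleton, AlgSp.mem_annSect_iff]
    constructor
    · intro h
      exact ULift.ext _ _ h
    · intro h
      exact congrArg ULift.down h
  · rintro ⟨U, a, v, ha, rfl, hv⟩
    have : IsReduced U.left := AlgSpLib.isReduced_of_etaleLocally hX a ha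
    exact Groth.Agent.AlgSpLib.ofPt_mem_weakAssEt ha
      ((SDiv28.isWeakAssPoint_structureModule_iff_reduced v).2 ((dim_zero_iff v).1 hv))

end Groth.Agent.S10805
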