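import Groth.Statements.S10807
import Groth.Agent.AlgSpLib.BlowUpSp
import Groth.Agent.AlgSpLib.MorProper
import Groth.Agent.AlgSpLib.ProperYon
import Groth.Agent.S10536
-- import your own Groth.Agent.* helpers here

set_option autoImplicit false
universe u
open CategoryTheory CategoryTheory.Limits AlgebraicGeometry Topology TopologicalSpace
open AlgSp

namespace Groth.Agent.S10807

open Groth.Agent.AlgSpLib

set_option backward.isDefEq.respectTransparency false
set_option backward.isDefEq.respectTransparency.types false

/-- Let X be an algebraic space over a scheme S and Z ⟶ X a closed subspace of finite presentation (its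
ideal is of finite type), and let b : X' ⟶ X be the blowing up of X in Z, characterised by its
universal property: the inverse image of Z under b is an effective Cartier divisor (one-chart sense)
and every morphism from an algebraic space to X under which the inverse image of Z is an effective
Cartier divisor factors uniquely through b. Then b is a proper morphism. -/
theorem result {S : Scheme.{u}} (X X' Z : AlgSp.Space S)
    (i : Z ⟶ X) (hi : AlgSp.RepWith (@IsClosedImmersion ⊓ @LocallyOfFinitePresentation) i.hom)
    (b : X' ⟶ X) (hb : AlgSp.IsBlowUpSp b.hom i.hom) :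
    AlgSp.IsProperMor b.hom := by
  have hi1 : RepWith @IsClosedImmersion i.hom := RepWith.mono (fun _ _ _ h => h.1) hi
  obtain ⟨U, p, he, hs⟩ := X.property.atlas
  obtain ⟨B, β, φ, sq, hβ⟩ := BlowUpSp.exists_chart X.property X'.property hi1 hb p he
  haveI : IsProper β.left := Groth.Agent.BlowUpLib.isProper_of_isBlowUp hβ
    (BlowUpSp.isFiniteTypeIdeal_chartIdeal hi hi1 p)
  exact (Groth.Agent.S10536.result S (fun _ : PUnit.{u + 1} => (yon S).obj U) (fun _ => p) X.property
    (fun _ => IsAlgSpace.yon_obj U)
    (isFpqcCover_of_etale X.property _ _ (fun _ => he) fun x => ⟨⟨⟩, surjective_map_of_repWith hs x⟩) b.hom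
    X'.property (fun _ => (yon S).obj B) (fun _ => (yon S).map β) (fun _ => φ) (fun _ => IsAlgSpace.yon_obj B)
    (fun _ => sq)).2 fun _ => (isProperMor_yon_map_iff' β).2 ‹_›

end Groth.Agent.S10807
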