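import Groth.Statements.S1694
import Groth.Agent.FlatMorAdm.Descend
import Groth.Agent.ModPairLib.EffCartier

set_option autoImplicit false
universe u
open CategoryTheory CategoryTheory.Limits AlgebraicGeometry TopologicalSpace
open SDiv

namespace Groth.Agent.S1694

/-- Let X be a quasi-compact quasi-separated scheme, 𝓘 a quasi-coherent ideal sheaf of finite type, b :
X' ⟶ X a blowing-up along 𝓘, 𝓙 a quasi-coherent ideal sheaf of finite type on X' and b' : X'' ⟶ X' a
blowing-up along 𝓙. Then there is a quasi-coherent ideal sheaf 𝓚 of finite type on X whose support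
is the union of the support of 𝓘 and the image under b of the support of 𝓙, such that b' ≫ b is a
blowing-up of X along 𝓚. -/
theorem result (X : Scheme.{u}) [CompactSpace ↥X] [QuasiSeparatedSpace ↥X] {X' X'' : Scheme.{u}}
    (𝓘 : X.IdealSheafData) (h𝓘 : BlowUp.IsFiniteTypeIdeal 𝓘) (b : X' ⟶ X) (hb : BlowUp.IsBlowUp b 𝓘)
    (𝓙 : X'.IdealSheafData) (h𝓙 : BlowUp.IsFiniteTypeIdeal 𝓙) (b' : X'' ⟶ X') (hb' : BlowUp.IsBlowUp b' 𝓙) :
    ∃ 𝓚 : X.IdealSheafData, BlowUp.IsFiniteTypeIdeal 𝓚 ∧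
      (𝓚.support : Set ↥X) = (𝓘.support : Set ↥X) ∪ (fun x' => b x') '' (𝓙.support : Set ↥X') ∧
      BlowUp.IsBlowUp (b' ≫ b) 𝓚 := by
  obtain ⟨N, J₀, hJ₀, hJ₀b⟩ := Groth.Agent.FlatMorAdm.exists_descend h𝓘 hb 𝓙 h𝓙
  have hEpow : ∀ k : ℕ, BlowUp.IsEffCartierIdeal ((𝓘.comap b) ^ (k + 1)) := by
    intro k
    induction k with
    | zero => rw [pow_one]; exact hb.1
    | succ k ih => rw [pow_succ]; exact Groth.Agent.ModPairLib.isEffCartier_mul ih hb.1
  have h' : BlowUp.IsBlowUp b' (J₀.comap b) := by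
    rw [hJ₀b, mul_comm]
    exact Groth.Agent.SDiv28.isBlowUp_mul_effCartier hb' (hEpow N)
  refine ⟨𝓘 * J₀, fun W => ?_, ?_, Groth.Agent.SDiv28.isBlowUp_comp hb h'⟩
  · rw [Scheme.IdealSheafData.ideal_mul, Pi.mul_apply]
    exact (h𝓘 W).mul (hJ₀ W)
  have key : ∀ y : X', b y ∈ (J₀.support : Set ↥X) ↔
      b y ∈ (𝓘.support : Set ↥X) ∨ y ∈ (𝓙.support : Set ↥X') := fun y => by
    have h1 : y ∈ ((J₀.comap b).support : Set ↥X') ↔ b y ∈ (J₀.support : Set ↥X) := by
      rw [Scheme.IdealSheafData.support_comap]; rfl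
    rw [← h1, hJ₀b, Scheme.IdealSheafData.support_mul, Scheme.IdealSheafData.support_pow_succ,
      Scheme.IdealSheafData.support_comap]
    rfl
  rw [Scheme.IdealSheafData.support_mul]
  ext x
  constructor
  · rintro (hx | hx)
    · exact Or.inl hx
    by_cases hxI : x ∈ (𝓘.support : Set ↥X)
    · exact Or.inl hxI
    have := Groth.Agent.ProjLib.isIso_morphismRestrict hb 𝓘.support.compl disjoint_compl_right
    obtain ⟨y, hy⟩ := (b ∣_ 𝓘.support.compl).surjective ⟨x, hxI⟩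
    have hby : b y.1 = x := by
      have h := congrArg (Scheme.Opens.ι (𝓘.support.compl : X.Opens)) hy
      rw [← Scheme.Hom.comp_apply, morphismRestrict_ι] at h
      exact h
    refine Or.inr ⟨y.1, ((key y.1).1 (hby ▸ hx)).resolve_left (hby ▸ hxI), hby⟩
  · rintro (hx | ⟨y, hy, rfl⟩)
    · exact Or.inl hx
    · exact Or.inr ((key y).2 (Or.inr hy))

end Groth.Agent.S1694
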