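import Groth.Statements.S10808
import Groth.Agent.AlgSpLib.BlowUpSp
import Groth.Agent.S10035
import Groth.Agent.S1694
import Groth.Agent.AlgSpLib.LfpSpaces
-- import your own Groth.Agent.* helpers here

set_option autoImplicit false
universe u
open CategoryTheory CategoryTheory.Limits AlgebraicGeometry Topology TopologicalSpace
open AlgSp

namespace Groth.Agent.S10808

open Groth.Agent.AlgSpLib

set_option backward.isDefEq.respectTransparency false
set_option backward.isDefEq.respectTransparency.types false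
set_option linter.style.haveILetI false
set_option maxHeartbeats 1600000

/-- Let S be a quasi-separated scheme and X an algebraic space over S, quasi-compact and quasi-separated
over S. Let Z ⟶ X be a finitely presented closed subspace and b : X' ⟶ X a blowing up of X in Z; let
Z' ⟶ X' be a finitely presented closed subspace and b' : X'' ⟶ X' a blowing up of X' in Z' (blowing
ups characterised by their universal property: the inverse image of the centre is effective Cartier
in the one-chart sense, and every morphism from an algebraic space with that property factors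
uniquely). Then there is a finitely presented closed subspace Y ⟶ X with |Y| = |Z| ∪ b(|Z'|) such
that the composite X'' ⟶ X is a blowing up of X in Y. (The published statement asks X
quasi-separated in the absolute sense; this row asks X quasi-separated over a quasi-separated base
S, which implies it.) -/
theorem result {S : Scheme.{u}} [QuasiSeparatedSpace ↥S]
    (X X' X'' Z Z' : AlgSp.Space S) (hqc : AlgSp.IsQuasiCompactSp X.obj) (hqs : AlgSp.IsQuasiSeparatedSp X.obj)
    (i : Z ⟶ X) (hi : AlgSp.RepWith (@IsClosedImmersion ⊓ @LocallyOfFinitePresentation) i.hom)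
    (b : X' ⟶ X) (hb : AlgSp.IsBlowUpSp b.hom i.hom)
    (i' : Z' ⟶ X') (hi' : AlgSp.RepWith (@IsClosedImmersion ⊓ @LocallyOfFinitePresentation) i'.hom)
    (b' : X'' ⟶ X') (hb' : AlgSp.IsBlowUpSp b'.hom i'.hom) :
    ∃ (Y : AlgSp.Space S) (iY : Y ⟶ X),
      AlgSp.RepWith (@IsClosedImmersion ⊓ @LocallyOfFinitePresentation) iY.hom ∧
      Set.range (AlgSp.Points.map iY.hom) =
        Set.range (AlgSp.Points.map i.hom) ∪ AlgSp.Points.map b.hom '' Set.range (AlgSp.Points.map i'.hom) ∧
      AlgSp.IsBlowUpSp (b' ≫ b).hom iY.hom := by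
  have hi1 : RepWith @IsClosedImmersion i.hom := RepWith.mono (fun _ _ _ h => h.1) hi
  have hi1' : RepWith @IsClosedImmersion i'.hom := RepWith.mono (fun _ _ _ h => h.1) hi'
  haveI := compactSpace_points_of_isQuasiCompactSp hqc
  obtain ⟨U, p, hU, he, hs⟩ := exists_affine_chart X.property
  haveI : IsAffine U.left := hU
  let I := chartIdeal hi1 p
  have hI : BlowUp.IsFiniteTypeIdeal I := BlowUpSp.isFiniteTypeIdeal_chartIdeal hi hi1 p
  obtain ⟨B, β, φ, sq, hβ⟩ := BlowUpSp.exists_chart X.property X'.property hi1 hb p he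
  have hφe : RepWith @Etale φ := RepWith.baseChange sq.flip he
  have hφs : RepWith @Surjective φ := RepWith.baseChange sq.flip hs
  let J := chartIdeal hi1' φ
  have hJ : BlowUp.IsFiniteTypeIdeal J := BlowUpSp.isFiniteTypeIdeal_chartIdeal hi' hi1' φ
  obtain ⟨B', β', ψ, sq', hβ'⟩ := BlowUpSp.exists_chart X'.property X''.property hi1' hb' φ hφe
  haveI : IsProper β.left := Groth.Agent.BlowUpLib.isProper_of_isBlowUp hβ hI
  obtain ⟨N, J₀, hJ₀, hJ₀β⟩ := Groth.Agent.FlatMorAdm.exists_descend hI hβ J hJ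
  let L := (I.comap β.left) ^ (N + 1) * J
  have hL : ∀ (T : Over S) (x y : T ⟶ B), (yon S).map x ≫ φ = (yon S).map y ≫ φ →
      L.comap x.left = L.comap y.left := fun T x y e => by
    have h1 : (I.comap β.left).comap x.left = (I.comap β.left).comap y.left := by
      rw [← chartIdeal_comp, ← chartIdeal_comp, ← chartIdeal_comp, ← sq.w, reassoc_of% e]
    rw [ModPairLib.comap_mul, ModPairLib.comap_mul, BlowUpSp.comap_pow, BlowUpSp.comap_pow, h1,
      chartIdeal_invariant hi1' e]
  obtain ⟨D, ιD, hιD, hD, hDL⟩ := exists_closedSub X'.property hφe hφs L hL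
  obtain ⟨ZT, iT, hZT, himg⟩ := exists_isSchImage hD X.property (ιD ≫ b.hom)
  obtain ⟨fD, sqD⟩ : ∃ fD, IsPullback fD ((yon S).map (Over.homMk L.subschemeι rfl :
      Over.mk (L.subschemeι ≫ B.hom) ⟶ B)) ιD φ := by
    rw [← hDL]; exact exists_subscheme_chart hιD φ
  let C : ImgChart (ιD ≫ b.hom) :=
    ⟨U, p, he, hs, _, fD, _, sqD.paste_vert sq, Over.mk (L.subschemeι ≫ B.hom), 𝟙 _, repWith_of_isIso _ _,
      repWith_of_isIso _ _, Over.homMk L.subschemeι rfl ≫ β, by rw [Category.id_comp, Functor.map_comp]⟩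
  have hCq : QuasiCompact C.h.left := inferInstanceAs (QuasiCompact (L.subschemeι ≫ β.left))
  let T := chartIdeal himg.1 p
  have hT : T = (L.subschemeι ≫ β.left).ker := chartIdeal_of_isSchImage hD X.property C hCq himg
  have hTle : ∀ G : U.left.IdealSheafData, G ≤ T ↔ G.comap β.left ≤ L := fun G => by
    rw [hT, ← comap_eq_bot_iff_le_ker, Scheme.IdealSheafData.comap_comp, comap_eq_bot_iff_le_ker,
      Scheme.IdealSheafData.ker_subschemeι]
  -- a finitely presented stage
  obtain ⟨A, _, _, _, F, t, c, hc, e, hF, hFc, ht, hte⟩ := Groth.Agent.S10035.result S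
    (X := ⟨ZT, hZT⟩) (Y := X) (ObjectProperty.homMk iT) himg.1 hqc hqs
  let G : Aᵒᵖ → U.left.IdealSheafData := fun a => chartIdeal (ht a).1 p
  have hGinv : ∀ a (W : Over S) (x y : W ⟶ U), (yon S).map x ≫ p = (yon S).map y ≫ p →
      (G a).comap x.left = (G a).comap y.left := fun a _ _ _ h => chartIdeal_invariant (ht a).1 h
  have hGT : ∀ a, G a ≤ T := fun a =>
    (factors_closed_iff himg.1 (ht a).1 he hs).1 ⟨e.inv ≫ c.π.app a, (Category.assoc _ _ _).trans (hte a)⟩
  have hTG : T ≤ ⨆ a, G a := by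
    obtain ⟨Z₁, i₁, hi₁, hZ₁, hch⟩ := exists_closedSub X.property he hs (⨆ a, G a) fun W x y h => by
      rw [(Scheme.IdealSheafData.map_gc x.left).l_iSup, (Scheme.IdealSheafData.map_gc y.left).l_iSup]
      exact iSup_congr fun a => hGinv a W x y h
    choose m hm using fun a => (factors_closed_iff hi₁ (ht a).1 he hs).2 (hch ▸ le_iSup G a)
    have hnat : ∀ (a₁ a₂ : Aᵒᵖ) (g : a₁ ⟶ a₂), 𝟙 Z₁ ≫ m a₂ = m a₁ ≫ F.map g := fun a₁ a₂ g => by
      haveI := mono_closedImmersion (ht a₂).1
      rw [← cancel_mono (t.app a₂), Category.assoc, Category.assoc, hm, t.naturality g]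
      show 𝟙 _ ≫ i₁ = m a₁ ≫ t.app a₁ ≫ 𝟙 _
      rw [Category.id_comp, Category.comp_id, hm]
    let cs : Cone F := ⟨Z₁, { app := m, naturality := hnat }⟩
    rw [← hch]
    obtain ⟨a₀⟩ := ‹Nonempty A›
    refine (factors_closed_iff hi₁ himg.1 he hs).1 ⟨hc.lift cs ≫ e.hom, ?_⟩
    rw [show iT = e.inv ≫ c.π.app (Opposite.op a₀) ≫ t.app (Opposite.op a₀) from (hte _).symm, Category.assoc,
      e.hom_inv_id_assoc, hc.fac_assoc]
    exact hm _
  have hmono : ∀ {a₁ a₂ : Aᵒᵖ} (g : a₁ ⟶ a₂), G a₂ ≤ G a₁ := fun {a₁ a₂} g =>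
    (factors_closed_iff (ht a₁).1 (ht a₂).1 he hs).1 ⟨F.map g, (t.naturality g).trans (Category.comp_id _)⟩
  have hdir : Directed (· ≤ ·) G := fun a₁ a₂ => by
    obtain ⟨a, h₁, h₂⟩ := IsDirected.directed (r := fun x y : A => x ≤ y) a₁.unop a₂.unop
    exact ⟨Opposite.op a, hmono (homOfLE h₁).op, hmono (homOfLE h₂).op⟩
  obtain ⟨a, ha⟩ : ∃ a, J₀ ≤ G a := by
    let V : U.left.affineOpens := ⟨⊤, isAffineOpen_top U.left⟩
    have hle : J₀.ideal V ≤ ⨆ a, (G a).ideal V := by
      refine le_trans (((hTle J₀).2 hJ₀β.le).trans hTG V) (le_of_eq ?_)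
      rw [Scheme.IdealSheafData.ideal_iSup, iSup_apply]
    have hdir' : Directed (· ≤ ·) fun a => (G a).ideal V := fun a₁ a₂ => by
      obtain ⟨a, h₁, h₂⟩ := hdir a₁ a₂
      exact ⟨a, h₁ V, h₂ V⟩
    haveI : Nonempty Aᵒᵖ := ⟨Opposite.op (Classical.arbitrary A)⟩
    obtain ⟨_, ⟨a, rfl⟩, ha⟩ := (Submodule.fg_iff_compact _).1 (hJ₀ V) _ _ (Set.range_nonempty _)
      hdir'.directedOn_range isLUB_iSup hle
    exact ⟨a, Scheme.IdealSheafData.le_of_isAffine ha⟩
  have hGa : (G a).comap β.left = L :=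
    le_antisymm ((hTle _).1 (hGT a)) (hJ₀β.ge.trans (Scheme.IdealSheafData.comap_mono _ ha))
  have hGft : BlowUp.IsFiniteTypeIdeal (G a) := BlowUpSp.isFiniteTypeIdeal_chartIdeal
    ⟨(ht a).1.1, fun _ _ g fst snd sq => ⟨(ht a).1.property g fst snd sq,
      ((repWith_iff_locP etLocal_lfp (hF a) X.property (ht a).1.1).2 (ht a).2.1).property g fst snd sq⟩⟩ (ht a).1 p
  -- the centre
  obtain ⟨Y, k, hk, hY, hYK⟩ := exists_closedSub X.property he hs (I * G a) fun W x y h => by
    rw [ModPairLib.comap_mul, ModPairLib.comap_mul, hGinv a W x y h, chartIdeal_invariant hi1 h]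
  have hKft : BlowUp.IsFiniteTypeIdeal (chartIdeal hk p) := fun W => by
    rw [hYK, Scheme.IdealSheafData.ideal_mul, Pi.mul_apply]
    exact (hI W).mul (hGft W)
  refine ⟨⟨Y, hY⟩, ObjectProperty.homMk k, BlowUpSp.repWith_fp_of_chartIdeal hk he hs hKft, ?_, ?_⟩
  · have hkey : ∀ y : B.left, β.left y ∈ (G a).support ↔
        β.left y ∈ I.support ∨ y ∈ J.support := fun y => by
      have h1 : y ∈ (((G a).comap β.left).support : Set B.left) ↔ β.left y ∈ ((G a).support : Set U.left) := by
        rw [Scheme.IdealSheafData.support_comap]; rfl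
      show β.left y ∈ ((G a).support : Set U.left) ↔ _
      rw [← h1, hGa, Scheme.IdealSheafData.support_mul, Scheme.IdealSheafData.support_pow_succ,
        Scheme.IdealSheafData.support_comap]
      rfl
    have hk' : ∀ u, Points.ofPt p u ∈ Set.range (Points.map k) ↔ u ∈ I.support ∨ u ∈ (G a).support := fun u => by
      rw [← mem_range_of_mem_support hk p u, hYK, Scheme.IdealSheafData.support_mul]
      rfl
    have hbφ : ∀ y, Points.map b.hom (Points.ofPt φ y) = Points.ofPt p (β.left y) := fun y => by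
      rw [Points.ofPt_eq_map_ofScheme, Points.ofPt_eq_map_ofScheme, ← Points.map_comp, sq.w, Points.map_comp,
        map_yon_map_ofScheme]
    show Set.range (Points.map k) = _
    ext x
    constructor
    · intro hx
      obtain ⟨u, rfl⟩ := surjective_ofPt p hs x
      by_cases huI : u ∈ I.support
      · exact Or.inl ((mem_range_of_mem_support hi1 p u).1 huI)
      have hu := ((hk' u).1 hx).resolve_left huI
      have := Groth.Agent.ProjLib.isIso_morphismRestrict hβ I.support.compl disjoint_compl_right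
      obtain ⟨y, hy⟩ := (β.left ∣_ I.support.compl).surjective ⟨u, huI⟩
      have hby : β.left y.1 = u := by
        have h := congrArg (Scheme.Opens.ι (I.support.compl : U.left.Opens)) hy
        rw [← Scheme.Hom.comp_apply, morphismRestrict_ι] at h
        exact h
      exact Or.inr ⟨Points.ofPt φ y.1, (mem_range_of_mem_support hi1' φ y.1).1
        (((hkey y.1).1 (hby ▸ hu)).resolve_left (hby ▸ huI)), by rw [hbφ, hby]⟩
    · rintro (hx | ⟨z, hz, rfl⟩)
      · obtain ⟨u, rfl⟩ := surjective_ofPt p hs x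
        exact (hk' u).2 (Or.inl ((mem_range_of_mem_support hi1 p u).2 hx))
      · obtain ⟨y, rfl⟩ := surjective_ofPt φ hφs z
        rw [hbφ]
        exact (hk' _).2 (Or.inr ((hkey y).2 (Or.inr ((mem_range_of_mem_support hi1' φ y).2 hz))))
  · have sq'' : IsPullback ψ ((yon S).map (β' ≫ β)) (b' ≫ b).hom p := by
      rw [Functor.map_comp]
      exact sq'.paste_vert sq
    refine BlowUpSp.isBlowUpSp_of_chart X.property hk he hs sq'' ?_
    rw [show chartIdeal hk p = I * G a from hYK]
    show BlowUp.IsBlowUp (β'.left ≫ β.left) (I * G a)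
    refine Groth.Agent.SDiv28.isBlowUp_comp hβ ?_
    have hEpow : ∀ n : ℕ, BlowUp.IsEffCartierIdeal ((I.comap β.left) ^ (n + 1)) := by
      intro n
      induction n with
      | zero => rw [pow_one]; exact hβ.1
      | succ n ih => rw [pow_succ]; exact Groth.Agent.ModPairLib.isEffCartier_mul ih hβ.1
    rw [hGa]
    show BlowUp.IsBlowUp β'.left ((I.comap β.left) ^ (N + 1) * J)
    rw [mul_comm]
    exact Groth.Agent.SDiv28.isBlowUp_mul_effCartier hβ' (hEpow N)

end Groth.Agent.S10808
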