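import Groth.Statements.S10810
import Groth.Agent.AlgSpLib.WeakAssEtGlobal
-- import your own Groth.Agent.* helpers here

set_option autoImplicit false
universe u
open CategoryTheory CategoryTheory.Limits AlgebraicGeometry Topology TopologicalSpace
open AlgSp

namespace Groth.Agent.S10810

/-- Let X be an algebraic space over a scheme S and F a quasi-coherent O_X-module on the small etale
site of X. Then F = 0 if and only if the set of weakly associated points of F is empty. -/
theorem result {S : Scheme.{u}} (X : AlgSp.Space S)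
    (M : AlgSp.ModEt X.obj) [M.IsQuasicoherent] :
    IsZero M ↔ AlgSp.WeakAssEt M = ∅ := by
---
  constructor
  · intro h
    refine Set.eq_empty_iff_forall_notMem.2 ?_
    rintro x ⟨E, hE, u, -, s, hs⟩
    have hz : s = 0 := by
      have h1 := IsZero.eq_of_src h (𝟙 M) 0
      exact congrArg (fun f : M ⟶ M => f.val.app (Opposite.op E) s) h1
    have h1 : (1 : Γ(E.obj.left.left, ⊤)) ∈ AlgSp.annSect s := by
      rw [AlgSp.mem_annSect_iff, hz, smul_zero]
    exact hs.1.1.ne_top ((Ideal.eq_top_iff_one _).2 (hs.1.2 h1))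
  · intro h
    have h0 : ∀ (E : AlgSp.EtOver X.obj) (s : Groth.Agent.AlgSpLib.QCohEt.Sec M E), s = 0 := by
      intro E s
      refine Groth.Agent.AlgSpLib.QCohEt.sec_eq_of_affine M s 0 fun Z g hZ => ?_
      have hsub : Subsingleton (Groth.Agent.AlgSpLib.QCohEt.Sec M Z) := by
        refine (Groth.Agent.CAlgH3.weakAss_eq_empty_iff (R := Groth.Agent.AlgSpLib.QCohEt.ΓE Z)).1
          (Set.eq_empty_iff_forall_notMem.2 fun p hp => ?_)
        obtain ⟨t, ht⟩ := Groth.Agent.CAlgH3.mem_weakAss.1 hp
        obtain ⟨u, rfl⟩ := Groth.Agent.AlgSpLib.QCohEt.exists_primeE_eq p ht.1.1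
        exact (Set.eq_empty_iff_forall_notMem.1 h) _
          ⟨Z, hZ, u, rfl, (Groth.Agent.AlgSpLib.QCohEt.isWeakAssOn_iff_mem u).2 hp⟩
      exact @Subsingleton.elim _ hsub _ _
    refine (IsZero.iff_id_eq_zero M).2 ?_
    ext W s
    exact h0 W.unop s

end Groth.Agent.S10810
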