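import Groth.Statements.S10811
import Groth.Agent.AlgSpLib.WeakAssEtGlobal
import Mathlib.Algebra.Homology.ShortComplex.ModuleCat
-- import your own Groth.Agent.* helpers here

set_option autoImplicit false
universe u
open CategoryTheory CategoryTheory.Limits AlgebraicGeometry Topology TopologicalSpace
open AlgSp

namespace Groth.Agent.S10811

/-- Let X be an algebraic space over a scheme S and 0 ⟶ F₁ ⟶ F₂ ⟶ F₃ ⟶ 0 a short exact sequence of
quasi-coherent O_X-modules on the small etale site of X. Then the weakly associated points satisfy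
WeakAss(F₂) ⊆ WeakAss(F₁) ∪ WeakAss(F₃) and WeakAss(F₁) ⊆ WeakAss(F₂). -/
theorem result {S : Scheme.{u}} (X : AlgSp.Space S)
    (C : ShortComplex (AlgSp.ModEt X.obj)) (hC : C.ShortExact)
    [C.X₁.IsQuasicoherent] [C.X₂.IsQuasicoherent] [C.X₃.IsQuasicoherent] :
    AlgSp.WeakAssEt C.X₂ ⊆ AlgSp.WeakAssEt C.X₁ ∪ AlgSp.WeakAssEt C.X₃ ∧
      AlgSp.WeakAssEt C.X₁ ⊆ AlgSp.WeakAssEt C.X₂ := by
---
  have := hC.mono_f
  have hex : ∀ E : AlgSp.EtOver X.obj,
      (C.map (SheafOfModules.forget _ ⋙ PresheafOfModules.evaluation _ (Opposite.op E))).Exact ∧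
        Mono (C.map (SheafOfModules.forget _ ⋙ PresheafOfModules.evaluation _ (Opposite.op E))).f := fun E =>
    ⟨hC.exact.map_of_mono_of_preservesKernel _ hC.mono_f inferInstance,
      Functor.map_mono (SheafOfModules.forget _ ⋙ PresheafOfModules.evaluation _ (Opposite.op E)) C.f⟩
  let f := fun E : AlgSp.EtOver X.obj => ((Groth.Agent.AlgSpLib.QCohEt.Γtop E).map
    ((SheafOfModules.overFunctor (AlgSp.OEtRing X.obj) E).map C.f)).hom
  let g := fun E : AlgSp.EtOver X.obj => ((Groth.Agent.AlgSpLib.QCohEt.Γtop E).map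
    ((SheafOfModules.overFunctor (AlgSp.OEtRing X.obj) E).map C.g)).hom
  have hf : ∀ E, Function.Injective (f E) := fun E => (ModuleCat.mono_iff_injective _).1 (hex E).2
  have hfg : ∀ E, Function.Exact (f E) (g E) := fun E =>
    (ShortComplex.ShortExact.moduleCat_exact_iff_function_exact _).1 (hex E).1
  refine ⟨?_, ?_⟩
  · rintro x ⟨E, hE, u, e, h⟩
    rw [Groth.Agent.AlgSpLib.QCohEt.isWeakAssOn_iff_mem] at h
    rcases Groth.Agent.CAlgH3.weakAss_subset_union (f E) (g E) (hf E) (hfg E) h with h | h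
    · exact Or.inl ⟨E, hE, u, e, (Groth.Agent.AlgSpLib.QCohEt.isWeakAssOn_iff_mem u).2 h⟩
    · exact Or.inr ⟨E, hE, u, e, (Groth.Agent.AlgSpLib.QCohEt.isWeakAssOn_iff_mem u).2 h⟩
  · rintro x ⟨E, hE, u, e, h⟩
    rw [Groth.Agent.AlgSpLib.QCohEt.isWeakAssOn_iff_mem] at h
    exact ⟨E, hE, u, e, (Groth.Agent.AlgSpLib.QCohEt.isWeakAssOn_iff_mem u).2
      (Groth.Agent.CAlgH3.weakAss_subset_of_injective (f E) (hf E) h)⟩

end Groth.Agent.S10811
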