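import Groth.Statements.S10812
import Groth.Agent.AlgSpLib.QCohEtFinite
import Mathlib.RingTheory.Ideal.AssociatedPrime.Finiteness
-- import your own Groth.Agent.* helpers here

set_option autoImplicit false
universe u
open CategoryTheory CategoryTheory.Limits AlgebraicGeometry Topology TopologicalSpace
open AlgSp

namespace Groth.Agent.S10812

open Groth.Agent.AlgSpLib.QCohEt in
theorem finite_set {S : Scheme.{u}} {X : AlgSp.Sp S} (hN : AlgSp.IsLocNoethSp X) (M : AlgSp.ModEt X)
    [M.IsQuasicoherent] [M.IsFiniteType] (E : AlgSp.EtOver X) [IsAff E] :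
    {u : E.obj.left.left | AlgSp.IsWeakAssOn M E u}.Finite := by
  haveI := isNoetherianRing_ΓE hN E
  haveI := finite_sec M E
  have hfin : (FlatCA.weakAss (ΓE E) (Sec M E)).Finite := by
    refine (associatedPrimes.finite (ΓE E) (Sec M E)).subset fun p hp => ?_
    obtain ⟨hpp, m, hm⟩ := Groth.Agent.CAlgH3.mem_ass.1
      (Groth.Agent.CAlgH3.mem_ass_of_mem_weakAss_of_fg (IsNoetherian.noetherian p) hp)
    refine ⟨hpp, m, ?_⟩
    rw [Groth.Agent.CAlgH3.colon_bot_singleton, ← hm, hpp.radical]
  refine Set.Finite.of_finite_image (f := primeE E) (hfin.subset ?_) ?_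
  · rintro p ⟨u, hu, rfl⟩
    exact (isWeakAssOn_iff_mem u).1 hu
  · intro a _ b _ hab
    have h : AlgSp.primeAtPt E.obj.left.left a = AlgSp.primeAtPt E.obj.left.left b :=
      Ideal.comap_injective_of_surjective _ (ULift.ringEquiv (R := Γ(E.obj.left.left, ⊤))).surjective hab
    refine E.obj.left.left.toSpecΓ.homeomorph.injective (PrimeSpectrum.ext ?_)
    change (E.obj.left.left.toSpecΓ a).asIdeal = (E.obj.left.left.toSpecΓ b).asIdeal
    rw [Scheme.toSpecΓ_apply, Scheme.toSpecΓ_apply]
    exact h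

/-- Let X be a locally Noetherian algebraic space over a scheme S and F a coherent O_X-module on the
small etale site of X (a quasi-coherent module of finite type; on a locally Noetherian space its
associated points are its weakly associated points). Then for every quasi-compact open subset W of
|X| the set of associated points of F contained in W is finite. -/
theorem result {S : Scheme.{u}} (X : AlgSp.Space S)
    (hX : AlgSp.IsLocNoethSp X.obj) (M : AlgSp.ModEt X.obj) [M.IsQuasicoherent] [M.IsFiniteType]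
    (W : Set (AlgSp.Points X.obj)) (hWo : IsOpen W) (hWc : IsCompact W) :
    (AlgSp.WeakAssEt M ∩ W).Finite := by
  have hchart : ∀ x : W, ∃ (E : AlgSp.EtOver X.obj) (_ : IsAffine E.obj.left.left),
      x.1 ∈ Set.range (AlgSp.Points.ofPt E.obj.hom) := fun x => by
    obtain ⟨E, hE, u, e⟩ := Groth.Agent.AlgSpLib.QCohEt.exists_affine_chart X.property x.1
    exact ⟨E, hE, u, e⟩
  choose E hE hx using hchart
  obtain ⟨t, ht⟩ := hWc.elim_finite_subcover (fun x : W => Set.range (AlgSp.Points.ofPt (E x).obj.hom))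
    (fun x => by
      rw [← Set.image_univ]
      exact Groth.Agent.AlgSpLib.isOpenMap_ofPt _ (E x).property _ isOpen_univ)
    (fun x hxW => Set.mem_iUnion.2 ⟨⟨x, hxW⟩, hx ⟨x, hxW⟩⟩)
  refine Set.Finite.subset (s := ⋃ x ∈ t, AlgSp.Points.ofPt (E x).obj.hom ''
    {u : (E x).obj.left.left | haveI := hE x; AlgSp.IsWeakAssOn M (E x) u}) ?_ ?_
  · exact Set.Finite.biUnion t.finite_toSet fun x _ =>
      (@finite_set _ _ hX M _ _ (E x) (hE x)).image _
  · rintro x ⟨hxM, hxW⟩
    obtain ⟨y, hy, hxy⟩ := Set.mem_iUnion₂.1 (ht hxW)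
    obtain ⟨u, hu⟩ := hxy
    exact Set.mem_iUnion₂.2 ⟨y, hy, u,
      (@Groth.Agent.AlgSpLib.QCohEt.mem_weakAssEt_iff _ _ M _ X.property _ (E y) (hE y) u hu).1 hxM, hu⟩

end Groth.Agent.S10812
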