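import Groth.Statements.S10813
import Groth.Agent.AlgSpLib.EffCartierSub
-- import your own Groth.Agent.* helpers here

set_option autoImplicit false
universe u
open CategoryTheory CategoryTheory.Limits AlgebraicGeometry Topology TopologicalSpace
open AlgSp

namespace Groth.Agent.S10813

set_option backward.isDefEq.respectTransparency.types false

/-- Let X be an algebraic space over a scheme S, let Z ⟶ X and Y ⟶ X be closed subspaces cut out by
quasi-coherent sheaves of ideals I and J, and let D ⟶ X be the closed subspace which the product I·J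
cuts out. If D is an effective Cartier divisor (one-chart sense), then so are Z and Y, and D is
their sum. -/
theorem result {S : Scheme.{u}} (X Z Y D : AlgSp.Space S)
    (iZ : Z ⟶ X) (iY : Y ⟶ X) (iD : D ⟶ X) (I J : AlgSp.IdealEt X.obj) (hI : I.IsQCoh) (hJ : J.IsQCoh)
    (hZ : AlgSp.IsCutOutBy I iZ.hom) (hY : AlgSp.IsCutOutBy J iY.hom) (hD : AlgSp.IsCutOutBy (I * J) iD.hom)
    (hDc : AlgSp.IsEffCartierSub iD.hom) :
    AlgSp.IsEffCartierSub iZ.hom ∧ AlgSp.IsEffCartierSub iY.hom := by
  obtain ⟨V, p, he, hs, hV⟩ := Groth.Agent.AlgSpLib.exists_atlas_of_isEffCartierSub hDc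
  have e := Groth.Agent.AlgSpLib.chartIdeal_mul hZ hY hD (p := p) he
  have hmul := e ▸ hV
  exact ⟨Groth.Agent.AlgSpLib.isEffCartierSub_of_atlas hZ.1 he hs (Groth.Agent.SDiv28.isEffCartier_left_of_mul hmul),
    Groth.Agent.AlgSpLib.isEffCartierSub_of_atlas hY.1 he hs (Groth.Agent.SDiv28.isEffCartier_right_of_mul hmul)⟩

end Groth.Agent.S10813
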