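import Groth.Statements.S10815
import Groth.Agent.AlgSpLib.WeakAssEtPush
-- import your own Groth.Agent.* helpers here

set_option autoImplicit false
universe u
open CategoryTheory CategoryTheory.Limits AlgebraicGeometry Topology TopologicalSpace
open AlgSp

namespace Groth.Agent.S10815

/-- Let f : X ⟶ Y be a finite morphism of algebraic spaces over a scheme S (representable; the
representability is carried as a separate hypothesis) and F a quasi-coherent O_X-module on the small
etale site of X, with f_*F quasi-coherent. Then WeakAss(f_*F) = f(WeakAss(F)) as subsets of |Y|. -/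
theorem result {S : Scheme.{u}} (X Y : AlgSp.Space S) (f : X ⟶ Y)
    (hf : AlgSp.Representable f.hom) (hfin : AlgSp.IsFiniteMor f.hom)
    (M : AlgSp.ModEt X.obj) [M.IsQuasicoherent] [((AlgSp.pushModEt hf).obj M).IsQuasicoherent] :
    AlgSp.WeakAssEt ((AlgSp.pushModEt hf).obj M) = AlgSp.Points.map f.hom '' AlgSp.WeakAssEt M := by
---
  have haff : AlgSp.IsAffineMor f.hom := fun Z hZ g => by
    obtain ⟨W, i, fst, sq, hW, -⟩ := hfin hZ g
    exact ⟨W, i, fst, sq, hW⟩
  refine (Groth.Agent.AlgSpLib.QCohEt.weakAssEt_push_subset hf haff M).antisymm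
    (Groth.Agent.AlgSpLib.QCohEt.image_subset_weakAssEt_push hf X.property Y.property haff M ?_)
  intro E _ m q hq
  let ψ := Groth.Agent.AlgSpLib.QCohEt.bcΓ hf E
  letI := ψ.toAlgebra
  haveI : Module.Finite (Groth.Agent.AlgSpLib.QCohEt.ΓE E)
      (Groth.Agent.AlgSpLib.QCohEt.ΓE (AlgSp.EtOver.bcObj hf E)) :=
    Groth.Agent.AlgSpLib.QCohEt.finite_bcΓ hf hfin E
  obtain ⟨s, hs⟩ := Groth.Agent.SDiv28.weakAss_comap_of_finite (R := Groth.Agent.AlgSpLib.QCohEt.ΓE E) m hq
  exact ⟨s • m, hs⟩

end Groth.Agent.S10815
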