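import Groth.Statements.S10816
import Groth.Agent.AlgSpLib.WeakAssEtPush
-- import your own Groth.Agent.* helpers here

set_option autoImplicit false
universe u
open CategoryTheory CategoryTheory.Limits AlgebraicGeometry Topology TopologicalSpace
open AlgSp

namespace Groth.Agent.S10816

/-- Let f : X ⟶ Y be an affine morphism of algebraic spaces over a scheme S (representable; the
representability is carried as a separate hypothesis) with X locally Noetherian, and F a
quasi-coherent O_X-module on the small etale site of X with f_*F quasi-coherent. Then WeakAss(f_*F)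
= f(WeakAss(F)) as subsets of |Y|. -/
theorem result {S : Scheme.{u}} (X Y : AlgSp.Space S) (f : X ⟶ Y)
    (hf : AlgSp.Representable f.hom) (haff : AlgSp.IsAffineMor f.hom) (hX : AlgSp.IsLocNoethSp X.obj)
    (M : AlgSp.ModEt X.obj) [M.IsQuasicoherent] [((AlgSp.pushModEt hf).obj M).IsQuasicoherent] :
    AlgSp.WeakAssEt ((AlgSp.pushModEt hf).obj M) = AlgSp.Points.map f.hom '' AlgSp.WeakAssEt M := by
---
  refine (Groth.Agent.AlgSpLib.QCohEt.weakAssEt_push_subset hf haff M).antisymm
    (Groth.Agent.AlgSpLib.QCohEt.image_subset_weakAssEt_push hf X.property Y.property haff M ?_)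
  intro E _ m q hq
  haveI := Groth.Agent.AlgSpLib.QCohEt.isAff_bcObj hf haff E
  haveI := Groth.Agent.AlgSpLib.QCohEt.isNoetherianRing_ΓE hX (AlgSp.EtOver.bcObj hf E)
  obtain ⟨hp, m', hm'⟩ := Groth.Agent.CAlgH3.mem_ass.1 (Groth.Agent.CAlgH3.mem_ass_of_mem_weakAss_of_fg
    (IsNoetherian.noetherian q) (Groth.Agent.CAlgH3.mem_weakAss.2 ⟨m, hq⟩))
  refine ⟨m', ?_⟩
  rw [← hm']
  exact ⟨⟨Ideal.IsPrime.comap _, le_rfl⟩, fun _ h _ => h.2⟩

end Groth.Agent.S10816
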