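import Groth.Statements.S10817
import Groth.Agent.AlgSpLib.WeakAssEtGlobal
-- import your own Groth.Agent.* helpers here

set_option autoImplicit false
universe u
open CategoryTheory CategoryTheory.Limits AlgebraicGeometry Topology TopologicalSpace
open AlgSp

namespace Groth.Agent.S10817

/-- Let X be an algebraic space over a scheme S and F a quasi-coherent O_X-module on the small etale
site of X. If U ⟶ X is an etale morphism from a scheme (an object of the small etale site) whose
image in |X| contains all weakly associated points of F, then the restriction map Γ(X, F) ⟶ Γ(U, F)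
is injective; here Γ(X, F) is the type of compatible families of sections of F over all objects of
the site, and the map is evaluation at U. -/
theorem result {S : Scheme.{u}} (X : AlgSp.Space S)
    (M : AlgSp.ModEt X.obj) [M.IsQuasicoherent] (E : AlgSp.EtOver X.obj)
    (hE : AlgSp.WeakAssEt M ⊆ Set.range (AlgSp.Points.ofPt E.obj.hom)) :
    Function.Injective (fun s : M.sections => PresheafOfModules.sections.eval s (Opposite.op E)) := by
---
  intro s t hst
  have h0 : ∀ (Z : AlgSp.EtOver X.obj), IsAffine Z.obj.left.left →
      PresheafOfModules.sections.eval s (Opposite.op Z) = PresheafOfModules.sections.eval t (Opposite.op Z) := by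
    intro Z hZ
    refine sub_eq_zero.1 (Groth.Agent.AlgSpLib.QCohEt.eq_zero_of_range M X.property E hE
      (E := Z) (show Groth.Agent.AlgSpLib.QCohEt.Sec M Z from s.1 (Opposite.op Z) - t.1 (Opposite.op Z))
      fun W a b _ => ?_)
    refine (map_sub (Groth.Agent.AlgSpLib.QCohEt.mapSec M a) _ _).trans (sub_eq_zero.2 ?_)
    have h1 : ∀ r : M.sections, M.val.map a.op (r.1 (Opposite.op Z)) = M.val.map b.op (r.1 (Opposite.op E)) :=
      fun r => (PresheafOfModules.sections_property r a.op).trans (PresheafOfModules.sections_property r b.op).symm
    exact (h1 s).trans ((congrArg (M.val.map b.op) hst).trans (h1 t).symm)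
  refine Subtype.ext (funext fun W => ?_)
  refine Groth.Agent.AlgSpLib.QCohEt.sec_eq_of_affine M (E := W.unop) _ _ fun Z g hZ => ?_
  exact (PresheafOfModules.sections_property s g.op).trans
    ((h0 Z hZ).trans (PresheafOfModules.sections_property t g.op).symm)

end Groth.Agent.S10817
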