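import Groth.Statements.S10820
import Groth.Agent.DimLib.ProjUFD

set_option autoImplicit false
universe u
open AlgebraicGeometry Topology TopologicalSpace
open Variety

namespace Groth.Agent.S10820

/-- For a field k, n ≥ 2 and a nonzero homogeneous polynomial f of degree d ≥ 1 in n + 1 variables, the
hypersurface V_+(f) in projective n-space over k (as a subspace of Proj of the polynomial ring
graded by degree) is connected and nonempty. -/
theorem result (k : Type u) [Field k] (n d : ℕ) (hn : 2 ≤ n)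
    (f : MvPolynomial (Fin (n + 1)) k) (hf : f.IsHomogeneous d) (hd : 0 < d) (hf0 : f ≠ 0) :
    IsConnected (ProjectiveSpectrum.zeroLocus (CohB1.polyGrading n k)
      ({f} : Set (MvPolynomial (Fin (n + 1)) k))) := by
  classical
  open Groth.Agent.DimLib Groth.Agent.DimLib.PN in
  have hzl : ∀ w : ProjectiveSpectrum (CohB1.polyGrading n k),
      w ∈ ProjectiveSpectrum.zeroLocus (CohB1.polyGrading n k) ({f} : Set (MvPolynomial (Fin (n + 1)) k)) ↔
        f ∈ w.asHomogeneousIdeal.toIdeal := fun w => by simp [ProjectiveSpectrum.mem_zeroLocus]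
  obtain ⟨η, hη⟩ := exists_bot_point (n := n) (k := k)
  obtain ⟨z₀, -, hz₀⟩ := exists_mem_zeroLocus η {f} (fun e he => ⟨d, hd, (Finset.mem_singleton.1 he) ▸ hf⟩)
    (by rw [hη, cdim_bot, Finset.card_singleton]; omega)
  rw [Finset.coe_singleton] at hz₀
  obtain ⟨w₀, -, hfw₀, hw₀⟩ := exists_above hf z₀ ((hzl _).1 hz₀)
  obtain ⟨q, hq, hqe, -⟩ := exists_prime_span w₀.isPrime (fun e => hf0 (by rw [e] at hfw₀; exact hfw₀)) hw₀
  have hqh := isHomogeneous_generator hq.ne_zero (hqe ▸ w₀.asHomogeneousIdeal.isHomogeneous)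
  have hqd : 0 < q.totalDegree := by
    by_contra h0
    have hc := MvPolynomial.totalDegree_eq_zero_iff_eq_C.1 (by omega : q.totalDegree = 0)
    have hc0 : MvPolynomial.coeff 0 q ≠ 0 := fun e => hq.ne_zero (by rw [hc, e, map_zero])
    exact hq.not_unit (hc ▸ (Ne.isUnit hc0).map _)
  refine ⟨⟨w₀, (hzl _).2 hfw₀⟩, isPreconnected_of_forall w₀ fun y hy => ?_⟩
  obtain ⟨w, hwy, hfw, hw⟩ := exists_above hf y ((hzl _).1 hy)
  obtain ⟨u, hwu, hu⟩ := exists_mem_zeroLocus w {q} (fun e he => ⟨_, hqd, (Finset.mem_singleton.1 he) ▸ hqh⟩)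
    (by rw [Finset.card_singleton]; omega)
  rw [Finset.coe_singleton] at hu
  have hw₀u : w₀ ⤳ u := (specializes_iff w₀ u).2 (by
    rw [hqe]
    exact (Ideal.span_singleton_le_iff_mem _).2 (hu rfl))
  refine ⟨closure {w} ∪ closure {w₀}, Set.union_subset ?_ ?_, Or.inr (subset_closure rfl),
    Or.inl (specializes_iff_mem_closure.1 hwy), IsPreconnected.union u (specializes_iff_mem_closure.1 hwu)
      (specializes_iff_mem_closure.1 hw₀u) isIrreducible_singleton.closure.2.isPreconnected
      isIrreducible_singleton.closure.2.isPreconnected⟩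
  · exact closure_minimal (Set.singleton_subset_iff.2 ((hzl _).2 hfw)) (ProjectiveSpectrum.isClosed_zeroLocus _ _)
  · exact closure_minimal (Set.singleton_subset_iff.2 ((hzl _).2 hfw₀)) (ProjectiveSpectrum.isClosed_zeroLocus _ _)

end Groth.Agent.S10820
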