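import Groth.Statements.S10821
import Groth.Agent.DimLib.ProjUFD

set_option autoImplicit false
universe u
open AlgebraicGeometry Topology TopologicalSpace
open Variety

namespace Groth.Agent.S10821

/-- For a field k and an irreducible closed subset Z of projective n-space over k, Z has codimension 1
(the longest chain of irreducible closed subsets strictly above Z has length 1) if and only if Z is
the zero set V_+(f) of an irreducible homogeneous polynomial f in n + 1 variables. -/
theorem result (k : Type u) [Field k] (n : ℕ)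
    (Z : TopologicalSpace.IrreducibleCloseds (ProjectiveSpectrum (CohB1.polyGrading n k))) :
    Order.coheight Z = 1 ↔
      ∃ (d : ℕ) (f : MvPolynomial (Fin (n + 1)) k), f.IsHomogeneous d ∧ Irreducible f ∧
        (Z : Set (ProjectiveSpectrum (CohB1.polyGrading n k))) =
          ProjectiveSpectrum.zeroLocus (CohB1.polyGrading n k) ({f} : Set (MvPolynomial (Fin (n + 1)) k)) := by
  classical
  open Groth.Agent.DimLib Groth.Agent.DimLib.PN in
  obtain ⟨z, hz, -⟩ := exists_generic (Z : Set (ProjectiveSpectrum (CohB1.polyGrading n k))) Z.isClosed Z.isIrreducible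
  have hzl : ∀ f : MvPolynomial (Fin (n + 1)) k, ∀ w : ProjectiveSpectrum (CohB1.polyGrading n k),
      w ∈ ProjectiveSpectrum.zeroLocus (CohB1.polyGrading n k) ({f} : Set (MvPolynomial (Fin (n + 1)) k)) ↔
        f ∈ w.asHomogeneousIdeal.toIdeal := fun f w => by simp [ProjectiveSpectrum.mem_zeroLocus]
  obtain ⟨η, hη⟩ := exists_bot_point (n := n) (k := k)
  let cl : ProjectiveSpectrum (CohB1.polyGrading n k) → TopologicalSpace.IrreducibleCloseds (ProjectiveSpectrum (CohB1.polyGrading n k)) :=
    fun w => ⟨closure {w}, isIrreducible_singleton.closure, isClosed_closure⟩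
  have hcl : ∀ w v, v ∈ ((cl w : TopologicalSpace.IrreducibleCloseds _) : Set (ProjectiveSpectrum (CohB1.polyGrading n k))) ↔
      w ⤳ v := fun w v => specializes_iff_mem_closure.symm
  constructor
  · intro h1
    obtain ⟨-, ⟨W, hW, hW0⟩, hall⟩ := Order.coheight_eq_coe_add_one_iff (n := 0) (x := Z) |>.1 (by simpa using h1)
    have hzne : z.asHomogeneousIdeal.toIdeal ≠ ⊥ := fun e => by
      refine hW.not_ge (fun w _ => (hz w).2 ((specializes_iff z w).2 ?_))
      rw [e]; exact bot_le
    have hc : n ≤ cdim z.asHomogeneousIdeal.toIdeal := by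
      by_contra hc
      obtain ⟨f, hfz, d, hfd, hf0⟩ : ∃ f ∈ z.asHomogeneousIdeal.toIdeal, ∃ d, f.IsHomogeneous d ∧ f ≠ 0 := by
        obtain ⟨g, hg, hg0⟩ := Submodule.exists_mem_ne_zero_of_ne_bot hzne
        obtain ⟨i, hi⟩ : ∃ i, MvPolynomial.homogeneousComponent i g ≠ 0 := by
          by_contra! hh
          exact hg0 (by rw [← MvPolynomial.sum_homogeneousComponent g]; simp [hh])
        exact ⟨_, MvPolynomial.homogeneousComponent_mem_of_mem z.asHomogeneousIdeal.isHomogeneous hg i, i,
          MvPolynomial.homogeneousComponent_isHomogeneous _ _, hi⟩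
      obtain ⟨w, hwz, hfw, hw⟩ := exists_above hfd z hfz
      have hlt : Z < cl w := by
        refine lt_of_le_not_ge (fun v hv => (hcl w v).2 (hwz.trans ((hz v).1 hv))) fun hle => ?_
        have := cdim_le z.isPrime w.isPrime ((specializes_iff z w).1 ((hz w).1 (hle ((hcl w w).2 specializes_rfl))))
        omega
      have hlt2 : cl w < cl η := by
        refine lt_of_le_not_ge (fun v _ => (hcl η v).2 ((specializes_iff η v).2 (by rw [hη]; exact bot_le))) fun hle => ?_
        have := (specializes_iff w η).1 ((hcl w η).1 (hle ((hcl η η).2 specializes_rfl)))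
        rw [hη] at this
        exact hf0 (this hfw)
      have h2 := Order.coheight_add_one_le hlt2
      have h3 := hall _ hlt
      rw [Nat.cast_zero] at h3
      exact absurd (h2.trans h3) (by simp)
    obtain ⟨q, hq, hqe, -⟩ := exists_prime_span z.isPrime hzne hc
    refine ⟨q.totalDegree, q, isHomogeneous_generator hq.ne_zero (hqe ▸ z.asHomogeneousIdeal.isHomogeneous), hq.irreducible, ?_⟩
    ext w
    rw [hzl, hz, specializes_iff, hqe, Ideal.span_singleton_le_iff_mem]
  · rintro ⟨d, f, hfd, hirr, hZ⟩
    have hp := hirr.prime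
    have hfz : f ∈ z.asHomogeneousIdeal.toIdeal := (hzl f z).1 (hZ ▸ (hz z).2 specializes_rfl)
    have hfI : (Ideal.span {f} : Ideal (MvPolynomial (Fin (n + 1)) k)).IsPrime :=
      (Ideal.span_singleton_prime hp.ne_zero).2 hp
    obtain ⟨w, hw⟩ := exists_point hfI (span_isHomogeneous fun e he => ⟨d, (Set.mem_singleton_iff.1 he) ▸ hfd⟩)
      (fun e => ne_m0 z (le_antisymm (le_m0 z.isPrime z.asHomogeneousIdeal.isHomogeneous)
        (e ▸ (Ideal.span_singleton_le_iff_mem _).2 hfz)))
    have hzw : z.asHomogeneousIdeal.toIdeal = Ideal.span {f} := by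
      refine le_antisymm ?_ ((Ideal.span_singleton_le_iff_mem _).2 hfz)
      rw [← hw]
      exact (specializes_iff z w).1 ((hz w).1 (hZ.symm ▸ (hzl f w).2 (hw ▸ Ideal.mem_span_singleton_self f)))
    have htop : ∀ W : TopologicalSpace.IrreducibleCloseds (ProjectiveSpectrum (CohB1.polyGrading n k)), Z < W → IsMax W := by
      intro W hW
      obtain ⟨v, hv, -⟩ := exists_generic (W : Set (ProjectiveSpectrum (CohB1.polyGrading n k))) W.isClosed W.isIrreducible
      have hvz : v.asHomogeneousIdeal.toIdeal ≤ z.asHomogeneousIdeal.toIdeal :=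
        (specializes_iff v z).1 ((hv z).1 (hW.le ((hz z).2 specializes_rfl)))
      have hne : v.asHomogeneousIdeal.toIdeal ≠ z.asHomogeneousIdeal.toIdeal := fun e =>
        hW.not_ge fun u hu => (hz u).2 ((specializes_iff z u).2 (e ▸ (specializes_iff v u).1 ((hv u).1 hu)))
      have h3 := cdim_lt v.isPrime z.isPrime hvz hne
      rw [hzw, cdim_span_prime hp] at h3
      have hv0 : v.asHomogeneousIdeal.toIdeal = ⊥ := by
        by_contra h0
        have := cdim_lt Ideal.isPrime_bot v.isPrime bot_le (Ne.symm h0)
        rw [cdim_bot] at this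
        omega
      exact fun U _ u _ => (hv u).2 ((specializes_iff v u).2 (by rw [hv0]; exact bot_le))
    have hne : ¬ IsMax Z := fun hmax => by
      have := (specializes_iff z η).1 ((hz η).1 (hmax (b := cl η)
        (fun v _ => (hcl η v).2 ((specializes_iff η v).2 (by rw [hη]; exact bot_le))) ((hcl η η).2 specializes_rfl)))
      rw [hη] at this
      exact hp.ne_zero (this hfz)
    obtain ⟨W, hW⟩ := not_isMax_iff.1 hne
    have h0 : ∀ W, Z < W → Order.coheight W = 0 := fun W hW => Order.coheight_eq_zero.2 (htop W hW)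
    have hle : Order.coheight Z ≤ 1 := by
      rw [Order.coheight_le_iff']
      intro p hp'
      by_contra hlen
      have h2 : 1 < p.length := by exact_mod_cast not_le.1 hlen
      have hz1 : Z < p ⟨1, by omega⟩ := hp' ▸ p.step ⟨0, by omega⟩
      exact (htop _ hz1).not_lt (p.step ⟨1, h2⟩)
    have hge : 1 ≤ Order.coheight Z := le_trans (by simp [h0 W hW]) (Order.coheight_add_one_le hW)
    exact le_antisymm hle hge

end Groth.Agent.S10821
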