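import Groth.Statements.S10822
import Groth.Agent.DimLib.ProjDim

set_option autoImplicit false
universe u
open AlgebraicGeometry Topology TopologicalSpace
open Variety

namespace Groth.Agent.S10822

/-- Let k be a field, X an irreducible closed subset of projective n-space over k of positive dimension,
and f a homogeneous polynomial in n + 1 variables whose zero set V_+(f) is nonempty and does not
contain X. Then X meets V_+(f), and every irreducible component C of X ∩ V_+(f) has dim C + 1 = dim
X, i.e. codimension 1 in X (all maximal chains of irreducible closed subsets of X have length dim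
X). -/
theorem result (k : Type u) [Field k] (n d : ℕ)
    (X : Set (ProjectiveSpectrum (CohB1.polyGrading n k))) (hXc : IsClosed X) (hXi : IsIrreducible X)
    (hXd : 0 < topologicalKrullDim ↥X)
    (f : MvPolynomial (Fin (n + 1)) k) (hf : f.IsHomogeneous d)
    (hV : (ProjectiveSpectrum.zeroLocus (CohB1.polyGrading n k)
      ({f} : Set (MvPolynomial (Fin (n + 1)) k))).Nonempty)
    (hX : ¬ X ⊆ ProjectiveSpectrum.zeroLocus (CohB1.polyGrading n k)
      ({f} : Set (MvPolynomial (Fin (n + 1)) k))) :
    (X ∩ ProjectiveSpectrum.zeroLocus (CohB1.polyGrading n k)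
        ({f} : Set (MvPolynomial (Fin (n + 1)) k))).Nonempty ∧
      ∀ C ∈ irreducibleComponents ↥(X ∩ ProjectiveSpectrum.zeroLocus (CohB1.polyGrading n k)
          ({f} : Set (MvPolynomial (Fin (n + 1)) k))),
        topologicalKrullDim ↥C + 1 = topologicalKrullDim ↥X := by
  classical
  obtain ⟨x, hx, hd'⟩ := Groth.Agent.DimLib.PN.exists_generic X hXc hXi
  rw [hd'] at hXd ⊢
  have hd : 0 < d := by
    by_contra h0
    have hc := MvPolynomial.totalDegree_eq_zero_iff_eq_C.1 (le_antisymm ((hf.totalDegree_le).trans (by omega)) (Nat.zero_le _))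
    obtain ⟨z, hz⟩ := hV
    by_cases hc0 : MvPolynomial.coeff 0 f = 0
    · refine hX fun w _ => ?_
      rw [hc, hc0, map_zero]
      simp [ProjectiveSpectrum.mem_zeroLocus]
    · refine z.isPrime.ne_top (Ideal.eq_top_of_isUnit_mem _ (hz rfl) ?_)
      rw [hc]; exact (Ne.isUnit hc0).map _
  have hx' : x ∉ ProjectiveSpectrum.zeroLocus (CohB1.polyGrading n k) ({f} : Set (MvPolynomial (Fin (n + 1)) k)) := by
    intro h
    refine hX fun w hw => ?_
    exact ((hx w).1 hw).mem_closed (ProjectiveSpectrum.isClosed_zeroLocus _ _) h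
  have hhom : ∀ e ∈ ({f} : Finset (MvPolynomial (Fin (n + 1)) k)), ∃ d', 0 < d' ∧ MvPolynomial.IsHomogeneous e d' :=
    fun e he => ⟨d, hd, by rw [Finset.mem_singleton.1 he]; exact hf⟩
  have h1 := Groth.Agent.DimLib.PN.ptDim_add_one x
  have hpos : 0 < Groth.Agent.DimLib.ptDim (CohB1.ProjSpace.toSpec n k) (Groth.Agent.DimLib.PN.pt x) := by
    exact_mod_cast hXd
  rw [← Finset.coe_singleton]
  refine ⟨?_, (Groth.Agent.DimLib.PN.forall_components_inter_iff x X hx hXc _ (fun D => D + 1 = _)).2
    fun z hxz hz hmax => ?_⟩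
  · obtain ⟨z, hxz, hz⟩ := Groth.Agent.DimLib.PN.exists_mem_zeroLocus x {f} hhom (by rw [Finset.card_singleton]; omega)
    exact ⟨z, (hx z).2 hxz, hz⟩
  · have h2 := Groth.Agent.DimLib.PN.ptDim_le_add_of_maximal x z _ (fun e he => (hhom e he).imp fun _ h => h.2) hxz hz hmax
    rw [Finset.card_singleton] at h2
    have h3 := Groth.Agent.DimLib.ptDim_lt_of_specializes (CohB1.ProjSpace.toSpec n k) (hxz :) (fun e => by
      rw [Finset.coe_singleton] at hz
      have e' : x = z := e
      exact hx' (e' ▸ hz))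
    exact_mod_cast (show Groth.Agent.DimLib.ptDim (CohB1.ProjSpace.toSpec n k) (Groth.Agent.DimLib.PN.pt z) + 1 =
      Groth.Agent.DimLib.ptDim (CohB1.ProjSpace.toSpec n k) (Groth.Agent.DimLib.PN.pt x) by
        simp only [Groth.Agent.DimLib.PN.pt] at *; omega)

end Groth.Agent.S10822
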