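import Groth.Statements.S10823
import Groth.Agent.DimLib.ProjDim

set_option autoImplicit false
universe u
open AlgebraicGeometry Topology TopologicalSpace
open Variety

namespace Groth.Agent.S10823

/-- Let k be a field, X an irreducible closed subset of projective n-space over k, and f_1, …, f_r
nonzero homogeneous polynomials of positive degrees in n + 1 variables. Then every irreducible
component C of X ∩ V_+(f_1, …, f_r) has codimension at most r in X, i.e. dim X ≤ dim C + r, and if
dim X ≥ r the intersection is nonempty. -/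
theorem result (k : Type u) [Field k] (n r : ℕ)
    (X : Set (ProjectiveSpectrum (CohB1.polyGrading n k))) (hXc : IsClosed X) (hXi : IsIrreducible X)
    (f : Fin r → MvPolynomial (Fin (n + 1)) k) (d : Fin r → ℕ)
    (hf : ∀ i, (f i).IsHomogeneous (d i)) (hd : ∀ i, 0 < d i) (hf0 : ∀ i, f i ≠ 0) :
    (∀ C ∈ irreducibleComponents ↥(X ∩ ProjectiveSpectrum.zeroLocus (CohB1.polyGrading n k) (Set.range f)),
        topologicalKrullDim ↥X ≤ topologicalKrullDim ↥C + (r : WithBot ℕ∞)) ∧
      ((r : WithBot ℕ∞) ≤ topologicalKrullDim ↥X →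
        (X ∩ ProjectiveSpectrum.zeroLocus (CohB1.polyGrading n k) (Set.range f)).Nonempty) := by
  classical
  obtain ⟨x, hx, hd'⟩ := Groth.Agent.DimLib.PN.exists_generic X hXc hXi
  have hhom : ∀ e ∈ Finset.univ.image f, ∃ d', 0 < d' ∧ MvPolynomial.IsHomogeneous e d' := fun e he => by
    obtain ⟨i, -, rfl⟩ := Finset.mem_image.1 he
    exact ⟨d i, hd i, hf i⟩
  have hcard : (Finset.univ.image f).card ≤ r := by
    simpa using Finset.card_image_le (s := Finset.univ) (f := f)
  have hco : ((Finset.univ.image f : Finset _) : Set (MvPolynomial (Fin (n + 1)) k)) = Set.range f := by simp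
  rw [← hco, hd']
  refine ⟨(Groth.Agent.DimLib.PN.forall_components_inter_iff x X hx hXc _
    (fun D => _ ≤ D + (r : WithBot ℕ∞))).2 fun z hxz hz hmax => ?_, fun hr => ?_⟩
  · have := Groth.Agent.DimLib.PN.ptDim_le_add_of_maximal x z _ (fun e he => (hhom e he).imp fun _ h => h.2) hxz hz hmax
    exact_mod_cast le_trans this (add_le_add le_rfl hcard)
  · have hr' : r ≤ Groth.Agent.DimLib.ptDim (CohB1.ProjSpace.toSpec n k) (Groth.Agent.DimLib.PN.pt x) := by
      exact_mod_cast hr
    have := Groth.Agent.DimLib.PN.ptDim_add_one x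
    obtain ⟨z, hxz, hz⟩ := Groth.Agent.DimLib.PN.exists_mem_zeroLocus x (Finset.univ.image f) hhom (by omega)
    exact ⟨z, (hx z).2 hxz, hz⟩

end Groth.Agent.S10823
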