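import Groth.Statements.S10824
import Groth.Agent.CAlgPts.Plane
import Mathlib

set_option autoImplicit false
universe u
open Variety
open Groth.Agent
set_option backward.isDefEq.respectTransparency.types false

namespace Groth.Agent.S10824

open MvPolynomial

theorem comp_mul_homogeneous {σ k : Type*} [CommRing k] {f : MvPolynomial σ k} {n : ℕ} (hf : f.IsHomogeneous n)
    (a : MvPolynomial σ k) {d : ℕ} (hnd : n ≤ d) :
    homogeneousComponent d (a * f) = homogeneousComponent (d - n) a * f := by
  classical
  conv_lhs => rw [← sum_homogeneousComponent a, Finset.sum_mul, map_sum]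
  have e : ∀ i, homogeneousComponent d (homogeneousComponent i a * f) =
      if i + n = d then homogeneousComponent i a * f else 0 := fun i => by
    rw [homogeneousComponent_of_mem ((homogeneousComponent_isHomogeneous i a).mul hf)]
    split_ifs with h1 h2 h2 <;> first | rfl | omega
  simp only [e]
  rw [Finset.sum_eq_single (d - n)]
  · rw [if_pos (by omega)]
  · intro i _ hi; rw [if_neg (by omega)]
  · intro h
    rw [homogeneousComponent_eq_zero _ a (by simp at h; omega)]
    simp


/-- Let k be a field, S the polynomial ring in three variables over k with degree-d part S_d, and f, g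
nonzero homogeneous polynomials of positive degrees n and m with no common non-unit factor. Then for
every d ≥ n + m the degree-d part of S/(f, g), namely S_d modulo its intersection with the ideal (f,
g), has dimension n·m over k. -/
theorem result (k : Type u) [Field k] (n m d : ℕ)
    (f g : MvPolynomial (Fin 3) k) (hf : f.IsHomogeneous n) (hg : g.IsHomogeneous m)
    (hn : 0 < n) (hm : 0 < m) (hf0 : f ≠ 0) (hg0 : g ≠ 0) (hfg : IsRelPrime f g) (hd : n + m ≤ d) :
    Module.finrank k
        (↥(MvPolynomial.homogeneousSubmodule (Fin 3) k d) ⧸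
          Submodule.comap (MvPolynomial.homogeneousSubmodule (Fin 3) k d).subtype
            ((Ideal.span ({f, g} : Set (MvPolynomial (Fin 3) k))).restrictScalars k)) = n * m := by
  classical
  let V : ℕ → Submodule k (MvPolynomial (Fin 3) k) := fun e => MvPolynomial.homogeneousSubmodule (Fin 3) k e
  haveI hfin : ∀ e, FiniteDimensional k (V e) := fun e =>
    FiniteDimensional.of_finrank_pos (by rw [CAlgPts.finrank_forms]; exact Nat.choose_pos (by omega))
  let μ : (V (d - n) × V (d - m)) →ₗ[k] MvPolynomial (Fin 3) k :=
    (LinearMap.mulRight k f).comp ((V (d - n)).subtype.comp (LinearMap.fst k _ _)) +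
      (LinearMap.mulRight k g).comp ((V (d - m)).subtype.comp (LinearMap.snd k _ _))
  have hμ : ∀ v, μ v = (v.1 : MvPolynomial (Fin 3) k) * f + (v.2 : MvPolynomial (Fin 3) k) * g := fun v => rfl
  have hle : LinearMap.range μ ≤ V d := by
    rintro _ ⟨⟨⟨a, ha⟩, ⟨b, hb⟩⟩, rfl⟩
    rw [hμ]
    refine Submodule.add_mem _ ?_ ?_
    · have h := MvPolynomial.IsHomogeneous.mul ha hf
      rwa [Nat.sub_add_cancel (by omega)] at h
    · have h := MvPolynomial.IsHomogeneous.mul hb hg
      rwa [Nat.sub_add_cancel (by omega)] at h
  have hI : Submodule.comap (V d).subtype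
      ((Ideal.span ({f, g} : Set (MvPolynomial (Fin 3) k))).restrictScalars k) =
      Submodule.comap (V d).subtype (LinearMap.range μ) := by
    ext ⟨c, hc⟩
    simp only [Submodule.mem_comap, Submodule.restrictScalars_mem, Submodule.subtype_apply, LinearMap.mem_range]
    constructor
    · intro h
      obtain ⟨a, b, hab⟩ := Ideal.mem_span_pair.1 h
      refine ⟨⟨⟨_, homogeneousComponent_isHomogeneous (d - n) a⟩, ⟨_, homogeneousComponent_isHomogeneous (d - m) b⟩⟩, ?_⟩
      rw [hμ]
      have h2 := congrArg (homogeneousComponent d) hab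
      rw [map_add, comp_mul_homogeneous hf a (by omega), comp_mul_homogeneous hg b (by omega),
        homogeneousComponent_eq_self hc] at h2
      exact h2
    · rintro ⟨v, rfl⟩
      exact Ideal.mem_span_pair.2 ⟨_, _, (hμ v).symm⟩
  let κ : V (d - n - m) →ₗ[k] (V (d - n) × V (d - m)) := LinearMap.prod
    (((LinearMap.mulRight k g).comp (V (d - n - m)).subtype).codRestrict _ fun h => by
      have h' := MvPolynomial.IsHomogeneous.mul h.2 hg
      rwa [Nat.sub_add_cancel (by omega)] at h')
    ((-(LinearMap.mulRight k f).comp (V (d - n - m)).subtype).codRestrict _ fun h => by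
      refine Submodule.neg_mem _ ?_
      have h' := MvPolynomial.IsHomogeneous.mul h.2 hf
      rwa [show d - n - m + n = d - m by omega] at h')
  have hκ : LinearMap.range κ = LinearMap.ker μ := by
    apply le_antisymm
    · rintro _ ⟨h, rfl⟩
      show (h : MvPolynomial (Fin 3) k) * g * f + -((h : MvPolynomial (Fin 3) k) * f) * g = 0
      ring
    · rintro ⟨⟨a, ha⟩, ⟨b, hb⟩⟩ h0
      have h0' : a * f + b * g = 0 := h0
      obtain ⟨h, rfl⟩ : g ∣ a := (hfg.symm : IsRelPrime g f).dvd_of_dvd_mul_right ⟨-b, by linear_combination h0'⟩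
      have hb' : b = -(h * f) := mul_right_cancel₀ hg0 (by linear_combination h0')
      refine ⟨⟨homogeneousComponent (d - n - m) h, homogeneousComponent_isHomogeneous _ _⟩, ?_⟩
      have e1 : homogeneousComponent (d - n - m) h * g = g * h := by
        have h2 := comp_mul_homogeneous hg h (d := d - n) (by omega)
        rw [homogeneousComponent_eq_self (show (h * g).IsHomogeneous (d - n) by rw [mul_comm]; exact ha)] at h2
        rw [← h2, mul_comm]
      have e2 : -(homogeneousComponent (d - n - m) h * f) = b := by
        rw [hb', mul_right_cancel₀ hg0 (e1.trans (mul_comm g h))]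
      exact Prod.ext (Subtype.ext e1) (Subtype.ext e2)
  have hκi : Function.Injective κ := fun x y e => Subtype.ext
    (mul_right_cancel₀ hg0 (congrArg (fun v => (v.1 : MvPolynomial (Fin 3) k)) e))
  have c1 := LinearMap.finrank_range_add_finrank_ker μ
  rw [Module.finrank_prod, ← hκ, LinearMap.finrank_range_of_inj hκi] at c1
  have c2 := Submodule.finrank_quotient_add_finrank (Submodule.comap (V d).subtype (LinearMap.range μ))
  rw [(Submodule.comapSubtypeEquivOfLe hle).finrank_eq] at c2
  show Module.finrank k (V d ⧸ Submodule.comap (V d).subtype _) = n * m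
  rw [hI]
  have p : ∀ e, 2 * Module.finrank k (V e) = (e + 1) * (e + 2) := fun e => by
    show 2 * Module.finrank k (MvPolynomial.homogeneousSubmodule (Fin 3) k e) = _
    rw [CAlgPts.finrank_forms, Nat.choose_two_right, Nat.mul_div_cancel' ?_]
    · rw [show e + 2 - 1 = e + 1 by omega]; ring
    · exact (Nat.even_mul_pred_self _).two_dvd
  have p0 := p d
  have p1 := p (d - n)
  have p2 := p (d - m)
  have p3 := p (d - n - m)
  zify at c1 c2 p0 p1 p2 p3 ⊢
  rw [Nat.cast_sub (by omega : n ≤ d)] at p1
  rw [Nat.cast_sub (by omega : m ≤ d)] at p2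
  rw [Nat.cast_sub (by omega : m ≤ d - n), Nat.cast_sub (by omega : n ≤ d)] at p3
  refine mul_left_cancel₀ (two_ne_zero (α := ℤ)) ?_
  linear_combination 2 * c2 - 2 * c1 + p0 - p1 - p2 + p3

end Groth.Agent.S10824
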