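import Groth.Statements.S10825
import Mathlib.RingTheory.Norm.Transitivity
import Mathlib.FieldTheory.Minpoly.IsIntegrallyClosed
import Groth.Agent.DimLib.Algebra

set_option autoImplicit false
universe u
open Topology
open CAlg

namespace Groth.Agent.S10825

/-- Let A → B be an injective integral homomorphism of integral domains with fraction fields K and L, L
a finite extension of K, and A integrally closed. For b in B the norm N_{L/K}(b) lies in A; if a
denotes this element of A, then the image of the closed set V(b) of Spec B under Spec B → Spec A is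
exactly V(a), and V(b) and V(a) have the same dimension. -/
theorem result
    (A B K L : Type u) [CommRing A] [IsDomain A] [CommRing B] [IsDomain B] [Algebra A B]
    [Field K] [Field L] [Algebra A K] [IsFractionRing A K] [Algebra B L] [IsFractionRing B L]
    [Algebra A L] [Algebra K L] [IsScalarTower A B L] [IsScalarTower A K L]
    [FiniteDimensional K L] [Algebra.IsIntegral A B] [IsIntegrallyClosed A]
    (hinj : Function.Injective (algebraMap A B))
    (b : B) (a : A) (ha : algebraMap A K a = Algebra.norm K (algebraMap B L b)) :
    PrimeSpectrum.comap (algebraMap A B) '' PrimeSpectrum.zeroLocus ({b} : Set B) =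
        PrimeSpectrum.zeroLocus ({a} : Set A) ∧
      topologicalKrullDim ↥(PrimeSpectrum.zeroLocus ({b} : Set B)) =
        topologicalKrullDim ↥(PrimeSpectrum.zeroLocus ({a} : Set A)) := by
    classical
    let I : Ideal A := (Ideal.span {b}).comap (algebraMap A B)
    have hbi : IsIntegral A b := Algebra.IsIntegral.isIntegral b
    have hx : IsIntegral K (algebraMap B L b) := Algebra.IsIntegral.isIntegral _
    have haI : a ∈ I := by
      have h1 := Algebra.norm_eq_norm_adjoin K (algebraMap B L b)
      rw [← IntermediateField.adjoin.powerBasis_gen hx, Algebra.PowerBasis.norm_gen_eq_coeff_zero_minpoly,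
        IntermediateField.adjoin.powerBasis_gen hx, IntermediateField.minpoly_gen,
        minpoly.isIntegrallyClosed_eq_field_fractions K L hbi, Polynomial.coeff_map, ← ha] at h1
      set m := Module.finrank (IntermediateField.adjoin K {algebraMap B L b}) L with hm
      set d := (IntermediateField.adjoin.powerBasis hx).dim
      have h2 : a = ((-1) ^ d * (minpoly A b).coeff 0) ^ m := by
        apply IsFractionRing.injective A K
        rw [h1, map_pow, map_mul, map_pow, map_neg, map_one]
      have hc : (minpoly A b).coeff 0 ∈ I := by
        have h3 := minpoly.aeval A b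
        rw [← Polynomial.X_mul_divX_add (minpoly A b), map_add, map_mul, Polynomial.aeval_X, Polynomial.aeval_C] at h3
        change algebraMap A B _ ∈ Ideal.span {b}
        rw [eq_neg_of_add_eq_zero_right h3]
        exact (Ideal.span {b}).neg_mem (Ideal.mul_mem_right _ _ (Ideal.mem_span_singleton_self b))
      rw [h2]
      exact I.pow_mem_of_mem (I.mul_mem_left _ hc) m Module.finrank_pos
    have hIa : I ≤ (Ideal.span {a}).radical := by
      intro r hr
      obtain ⟨y, hy⟩ := Ideal.mem_span_singleton.1 (show algebraMap A B r ∈ Ideal.span {b} from hr)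
      obtain ⟨z, hz⟩ := IsIntegrallyClosed.isIntegral_iff.1
        (Algebra.isIntegral_norm (R := A) K (show IsIntegral A (algebraMap B L y) from (Algebra.IsIntegral.isIntegral y).algebraMap))
      refine ⟨Module.finrank K L, Ideal.mem_span_singleton.2 ⟨z, IsFractionRing.injective A K ?_⟩⟩
      rw [map_mul, map_pow, ha, hz, ← map_mul (Algebra.norm K), ← map_mul, ← hy, ← IsScalarTower.algebraMap_apply A B L,
        IsScalarTower.algebraMap_apply A K L, Algebra.norm_algebraMap]
    have hZ : PrimeSpectrum.zeroLocus (I : Set A) = PrimeSpectrum.zeroLocus ({a} : Set A) := by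
      apply le_antisymm
      · exact PrimeSpectrum.zeroLocus_anti_mono (Set.singleton_subset_iff.2 haI)
      · rw [← PrimeSpectrum.zeroLocus_span {a}, ← PrimeSpectrum.zeroLocus_radical]
        exact PrimeSpectrum.zeroLocus_anti_mono hIa
    refine ⟨?_, ?_⟩
    · rw [← hZ]
      ext p
      refine ⟨?_, fun hp => ?_⟩
      · rintro ⟨q, hq, rfl⟩
        intro r hr
        exact (Ideal.span_le.2 hq : Ideal.span {b} ≤ q.asIdeal) hr
      · obtain ⟨Q, hle, hQ, hc⟩ := Ideal.exists_ideal_over_prime_of_isIntegral p.asIdeal (Ideal.span {b}) hp
        exact ⟨⟨Q, hQ⟩, Set.singleton_subset_iff.2 (hle (Ideal.mem_span_singleton_self b)), PrimeSpectrum.ext hc⟩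
    · have key : ∀ {R : Type u} [CommRing R] (J : Ideal R), topologicalKrullDim ↥(PrimeSpectrum.zeroLocus (J : Set R)) = ringKrullDim (R ⧸ J) := by
        intro R _ J
        rw [← PrimeSpectrum.topologicalKrullDim_eq_ringKrullDim]
        symm
        refine IsHomeomorph.topologicalKrullDim_eq _ (((PrimeSpectrum.isClosedEmbedding_comap_of_surjective _ (Ideal.Quotient.mk J) Ideal.Quotient.mk_surjective).isEmbedding.toHomeomorph).trans (Homeomorph.setCongr ?_)).isHomeomorph
        rw [_root_.range_comap_of_surjective _ _ Ideal.Quotient.mk_surjective, Ideal.mk_ker]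
      rw [← hZ, ← PrimeSpectrum.zeroLocus_span {b}, key, key]
      have : Algebra.IsIntegral (A ⧸ I) (B ⧸ Ideal.span {b}) := inferInstance
      exact (Groth.Agent.DimLib.ringKrullDim_eq_of_isIntegral Ideal.quotientMap_injective).symm

end Groth.Agent.S10825
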