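import Groth.Statements.S10826
import Groth.Agent.CAlgH3.PowerSeriesHom
import Groth.Agent.KumLib.InvFun
import Mathlib.LinearAlgebra.Matrix.NonsingularInverse

set_option autoImplicit false
open CAlg

namespace Groth.Agent.S10826

/-- Let R be a commutative ring, n ≥ 1, and φ an R-algebra homomorphism from the power series ring in n
variables over R to itself that sends each variable to a power series without constant term. If the
Jacobian matrix at the origin, whose (i, j) entry is the coefficient of X_j in φ(X_i), has
invertible determinant in R, then φ is an isomorphism (bijective). -/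
theorem result
    (R : Type*) [CommRing R] (n : ℕ) (hn : 1 ≤ n)
    (φ : MvPowerSeries (Fin n) R →ₐ[R] MvPowerSeries (Fin n) R)
    (h0 : ∀ i, MvPowerSeries.constantCoeff (φ (MvPowerSeries.X i)) = 0)
    (hJ : IsUnit (Matrix.det (Matrix.of fun i j : Fin n =>
      MvPowerSeries.coeff (Finsupp.single j 1) (φ (MvPowerSeries.X i))))) :
    Function.Bijective φ := by
    classical
    let a : Fin n → MvPowerSeries (Fin n) R := fun i => φ (MvPowerSeries.X i)
    let J : Matrix (Fin n) (Fin n) R := Matrix.of fun i j : Fin n => MvPowerSeries.coeff (Finsupp.single j 1) (a i)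
    let lin : Matrix (Fin n) (Fin n) R → Fin n → MvPowerSeries (Fin n) R := fun M i => ∑ k, M i k • MvPowerSeries.X k
    have hlin : ∀ M, MvPowerSeries.HasSubst (lin M) := fun M => MvPowerSeries.hasSubst_of_constantCoeff_zero fun i => by
      simp [lin]
    have hs : MvPowerSeries.HasSubst a := MvPowerSeries.hasSubst_of_constantCoeff_zero h0
    have hsum : ∀ (b : Fin n → MvPowerSeries (Fin n) R) (hb : MvPowerSeries.HasSubst b) (M : Matrix (Fin n) (Fin n) R) (i : Fin n),
        MvPowerSeries.subst b (lin M i) = ∑ k, M i k • b k := fun b hb M i => by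
      simp only [lin]
      rw [← MvPowerSeries.coe_substAlgHom (R := R) hb, map_sum]
      exact Finset.sum_congr rfl fun k _ => by rw [map_smul, MvPowerSeries.substAlgHom_X]
    have hmul : ∀ M N : Matrix (Fin n) (Fin n) R, M * N = 1 → ∀ f : MvPowerSeries (Fin n) R,
        MvPowerSeries.subst (lin N) (MvPowerSeries.subst (lin M) f) = f := by
      intro M N h f
      rw [MvPowerSeries.subst_comp_subst_apply (hlin M) (hlin N),
        show (fun i => MvPowerSeries.subst (lin N) (lin M i)) = (MvPowerSeries.X : Fin n → MvPowerSeries (Fin n) R) from funext fun i => by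
          rw [hsum _ (hlin N)]
          simp only [lin, Finset.smul_sum, smul_smul]
          rw [Finset.sum_comm]
          simp_rw [← Finset.sum_smul, ← Matrix.mul_apply, h, Matrix.one_apply, ite_smul, one_smul, zero_smul]
          simp,
        MvPowerSeries.subst_self]
      rfl
    have hinv : J⁻¹ * J = 1 := Matrix.nonsing_inv_mul _ hJ
    have hinv' : J * J⁻¹ = 1 := Matrix.mul_nonsing_inv _ hJ
    have hb : Function.Bijective (MvPowerSeries.subst (lin J⁻¹) : MvPowerSeries (Fin n) R → MvPowerSeries (Fin n) R) :=
      Function.bijective_iff_has_inverse.2 ⟨MvPowerSeries.subst (lin J), hmul _ _ hinv, hmul _ _ hinv'⟩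
    have hφ : (φ : MvPowerSeries (Fin n) R → MvPowerSeries (Fin n) R) = MvPowerSeries.subst a :=
      funext (Groth.Agent.CAlgH3.algHom_eq_subst φ h0)
    rw [hφ]
    refine (Function.Bijective.of_comp_iff (MvPowerSeries.subst a : MvPowerSeries (Fin n) R → MvPowerSeries (Fin n) R) hb).1 ?_
    rw [show (MvPowerSeries.subst a : MvPowerSeries (Fin n) R → MvPowerSeries (Fin n) R) ∘ MvPowerSeries.subst (lin J⁻¹) =
        MvPowerSeries.subst (fun i => ∑ k, J⁻¹ i k • a k) from funext fun f => by
      rw [Function.comp_apply, MvPowerSeries.subst_comp_subst_apply (hlin _) hs]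
      simp_rw [hsum a hs]]
    refine Groth.Agent.KumLib.subst_bijective_of_near fun i d => ⟨fun hd => ?_, fun hd => ?_⟩
    · obtain rfl : d = 0 := (Finsupp.degree_eq_zero_iff d).1 (by omega)
      simp
    · by_cases hd0 : d = 0
      · subst hd0
        simp [a, h0]
      · obtain ⟨l, hl⟩ := Finsupp.support_nonempty_iff.2 hd0
        have hle : Finsupp.single l 1 ≤ d := by
          simpa [Finsupp.single_le_iff] using Nat.one_le_iff_ne_zero.2 (Finsupp.mem_support_iff.1 hl)
        have : d = Finsupp.single l 1 := by
          have h1 : Finsupp.degree (d - Finsupp.single l 1) = 0 := by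
            have := congrArg Finsupp.degree (tsub_add_cancel_of_le hle)
            rw [map_add, Finsupp.degree_single] at this
            omega
          have h2 := tsub_add_cancel_of_le hle
          rw [(Finsupp.degree_eq_zero_iff _).1 h1, zero_add] at h2
          exact h2.symm
        subst this
        rw [map_sum]
        simp only [map_smul, smul_eq_mul]
        rw [show ∑ k, J⁻¹ i k * MvPowerSeries.coeff (Finsupp.single l 1) (a k) = (J⁻¹ * J) i l from rfl, hinv,
          MvPowerSeries.coeff_X, Matrix.one_apply]
        simp [Finsupp.single_left_inj, eq_comm]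

end Groth.Agent.S10826
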