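import Groth.Statements.S10827
import Groth.Agent.FF.PlaneKer
import Mathlib

set_option autoImplicit false
universe u
open Variety
set_option backward.isDefEq.respectTransparency.types false

namespace Groth.Agent.S10827

open MvPolynomial

theorem comp_top_mul {σ k : Type*} [CommRing k] {a b : MvPolynomial σ k} {p q : ℕ} (ha : a.totalDegree ≤ p)
    (hb : b.totalDegree ≤ q) :
    homogeneousComponent (p + q) (a * b) = homogeneousComponent p a * homogeneousComponent q b := by
  classical
  conv_lhs => rw [← sum_homogeneousComponent a, ← sum_homogeneousComponent b, Finset.sum_mul_sum]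
  rw [map_sum, Finset.sum_congr rfl fun i _ => map_sum _ _ _]
  have e : ∀ i j, homogeneousComponent (p + q) (homogeneousComponent i a * homogeneousComponent j b) =
      if i + j = p + q then homogeneousComponent i a * homogeneousComponent j b else 0 := fun i j => by
    rw [homogeneousComponent_of_mem
      ((homogeneousComponent_isHomogeneous i a).mul (homogeneousComponent_isHomogeneous j b))]
    split_ifs with h1 h2 h2 <;> first | rfl | omega
  simp only [e]
  rw [Finset.sum_eq_single p]
  · rw [Finset.sum_eq_single q]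
    · rw [if_pos rfl]
    · intro j _ hj
      rw [if_neg (by omega)]
    · intro hq
      rw [homogeneousComponent_eq_zero q b (by simp at hq; omega)]
      simp
  · intro i hi hip
    refine Finset.sum_eq_zero fun j hj => ?_
    simp at hi hj
    rw [if_neg (by omega)]
  · intro hp
    refine Finset.sum_eq_zero fun j _ => ?_
    rw [homogeneousComponent_eq_zero p a (by simp at hp; omega)]
    simp

theorem totalDegree_le_pred {σ k : Type*} [CommRing k] {a : MvPolynomial σ k} {d : ℕ}
    (ha : a.totalDegree ≤ d + 1) (h : homogeneousComponent (d + 1) a = 0) : a.totalDegree ≤ d := by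
  classical
  refine Finset.sup_le fun s hs => ?_
  by_contra hlt
  have h1 : (s.sum fun _ e => e) ≤ d + 1 := (le_totalDegree hs).trans ha
  have h2 : Finsupp.degree s = d + 1 := by
    have h3 : (s.sum fun _ e => e) = Finsupp.degree s := rfl
    omega
  have := congrArg (coeff s) h
  rw [coeff_homogeneousComponent, if_pos h2, coeff_zero] at this
  exact MvPolynomial.mem_support_iff.1 hs this

section core

variable {k : Type u} [Field k]


variable {F G : (MvPolynomial (Fin 2) k)} {n m : ℕ} (hF : F.totalDegree ≤ n) (hG : G.totalDegree ≤ m)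
  (hf0 : homogeneousComponent n F ≠ 0) (hg0 : homogeneousComponent m G ≠ 0)
  (hrel : IsRelPrime (homogeneousComponent n F) (homogeneousComponent m G))

include hF hG hrel hg0 hf0 in
theorem reduce_step {a b : (MvPolynomial (Fin 2) k)} {D : ℕ} (hnD : n ≤ D) (hmD : m ≤ D) (ha : a.totalDegree + n ≤ D + 1)
    (hb : b.totalDegree + m ≤ D + 1) (hc : (a * F + b * G).totalDegree ≤ D) :
    ∃ h : (MvPolynomial (Fin 2) k), (a - h * G).totalDegree + n ≤ D ∧ (b + h * F).totalDegree + m ≤ D ∧
      (h = 0 ∨ h.totalDegree + n + m ≤ D + 1) := by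
  set f₀ := homogeneousComponent n F
  set g₀ := homogeneousComponent m G
  obtain ⟨p, hp⟩ : ∃ p, p + n = D + 1 := ⟨D + 1 - n, by omega⟩
  obtain ⟨q, hq⟩ : ∃ q, q + m = D + 1 := ⟨D + 1 - m, by omega⟩
  have h0 : homogeneousComponent (D + 1) (a * F + b * G) = 0 := homogeneousComponent_eq_zero _ _ (by omega)
  rw [map_add] at h0
  nth_rw 1 [← hp] at h0
  nth_rw 1 [← hq] at h0
  rw [comp_top_mul (by omega) hF, comp_top_mul (by omega) hG] at h0
  set a₀ := homogeneousComponent p a
  set b₀ := homogeneousComponent q b
  have hdvd : g₀ ∣ a₀ := by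
    refine (hrel.symm : IsRelPrime g₀ f₀).dvd_of_dvd_mul_right (z := f₀) ⟨-b₀, ?_⟩
    linear_combination h0
  obtain ⟨h, hh⟩ := hdvd
  have hb₀ : b₀ = -(h * f₀) := by
    have h1 : g₀ * (b₀ + h * f₀) = 0 := by rw [hh] at h0; linear_combination h0
    exact eq_neg_of_add_eq_zero_left ((mul_eq_zero.1 h1).resolve_left hg0)
  have hhd : h = 0 ∨ h.totalDegree + n + m ≤ D + 1 := by
    refine or_iff_not_imp_left.2 fun hne => ?_
    have e1 : a₀.totalDegree = g₀.totalDegree + h.totalDegree := by rw [hh, totalDegree_mul_of_isDomain hg0 hne]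
    have e2 : a₀.totalDegree ≤ p := (homogeneousComponent_isHomogeneous p a).totalDegree_le
    have e3 : g₀.totalDegree = m := (homogeneousComponent_isHomogeneous m G).totalDegree hg0
    omega
  refine ⟨h, ?_, ?_, hhd⟩
  · rcases hhd with rfl | hd
    · have e : a₀ = 0 := by rw [hh, mul_zero]
      rw [zero_mul, sub_zero]
      obtain ⟨p', rfl⟩ : ∃ p', p = p' + 1 := ⟨p - 1, by omega⟩
      have := totalDegree_le_pred (d := p') (a := a) (by omega) e
      omega
    · obtain ⟨p', rfl⟩ : ∃ p', p = p' + 1 := ⟨p - 1, by omega⟩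
      have h2 : (a - h * G).totalDegree ≤ p' + 1 := (totalDegree_sub _ _).trans (max_le (by omega)
        ((totalDegree_mul _ _).trans (by omega)))
      have hha : h.IsHomogeneous h.totalDegree ∨ True := Or.inr trivial
      have h3 : homogeneousComponent (p' + 1) (a - h * G) = 0 := by
        rw [map_sub]
        have e : p' + 1 = (p' + 1 - m) + m := by omega
        nth_rw 2 [e]
        rw [comp_top_mul (by omega) hG]
        have e2 : homogeneousComponent (p' + 1) (h * g₀) = homogeneousComponent (p' + 1 - m) h * g₀ := by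
          nth_rw 1 [e]
          rw [comp_top_mul (by omega) (homogeneousComponent_isHomogeneous m G).totalDegree_le,
            homogeneousComponent_eq_self (homogeneousComponent_isHomogeneous m G)]
        rw [mul_comm g₀ h] at hh
        rw [← hh, homogeneousComponent_eq_self (homogeneousComponent_isHomogeneous _ a)] at e2
        show a₀ - homogeneousComponent (p' + 1 - m) h * g₀ = 0
        rw [← e2, sub_self]
      have := totalDegree_le_pred h2 h3
      omega
  · rcases hhd with rfl | hd
    · have e : b₀ = 0 := by rw [hb₀, zero_mul, neg_zero]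
      rw [zero_mul, add_zero]
      obtain ⟨q', rfl⟩ : ∃ q', q = q' + 1 := ⟨q - 1, by omega⟩
      have := totalDegree_le_pred (d := q') (a := b) (by omega) e
      omega
    · obtain ⟨q', rfl⟩ : ∃ q', q = q' + 1 := ⟨q - 1, by omega⟩
      have h2 : (b + h * F).totalDegree ≤ q' + 1 := (totalDegree_add _ _).trans (max_le (by omega)
        ((totalDegree_mul _ _).trans (by omega)))
      have h3 : homogeneousComponent (q' + 1) (b + h * F) = 0 := by
        rw [map_add]
        have e : q' + 1 = (q' + 1 - n) + n := by omega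
        nth_rw 2 [e]
        rw [comp_top_mul (by omega) hF]
        have e2 : homogeneousComponent (q' + 1) (h * f₀) = homogeneousComponent (q' + 1 - n) h * f₀ := by
          nth_rw 1 [e]
          rw [comp_top_mul (by omega) (homogeneousComponent_isHomogeneous n F).totalDegree_le,
            homogeneousComponent_eq_self (homogeneousComponent_isHomogeneous n F)]
        have e3 : h * f₀ = -b₀ := by rw [hb₀, neg_neg]
        rw [e3, map_neg, homogeneousComponent_eq_self (homogeneousComponent_isHomogeneous _ b)] at e2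
        show b₀ + homogeneousComponent (q' + 1 - n) h * f₀ = 0
        rw [← e2, add_neg_cancel]
      have := totalDegree_le_pred h2 h3
      omega

include hF hG hrel hg0 hf0 in
theorem exists_small {N : ℕ} (hnN : n ≤ N) (hmN : m ≤ N) : ∀ (j : ℕ) (a b : (MvPolynomial (Fin 2) k)),
    a.totalDegree + n ≤ N + j → b.totalDegree + m ≤ N + j → (a * F + b * G).totalDegree ≤ N →
    ∃ a' b' : (MvPolynomial (Fin 2) k), a'.totalDegree + n ≤ N ∧ b'.totalDegree + m ≤ N ∧ a' * F + b' * G = a * F + b * G := by
  intro j
  induction j with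
  | zero => exact fun a b ha hb _ => ⟨a, b, ha, hb, rfl⟩
  | succ j ih =>
    intro a b ha hb hc
    obtain ⟨h, h1, h2, -⟩ := reduce_step hF hG hf0 hg0 hrel (D := N + j) (a := a) (b := b) (by omega) (by omega)
      ha hb (by omega)
    obtain ⟨a', b', ha', hb', e⟩ := ih (a - h * G) (b + h * F) h1 h2
      (by rwa [show (a - h * G) * F + (b + h * F) * G = a * F + b * G by ring])
    exact ⟨a', b', ha', hb', by rw [e]; ring⟩

include hG hrel hg0 hF hf0 in
theorem exists_syzygy (hn : 0 < n) (hm : 0 < m) {a b : (MvPolynomial (Fin 2) k)} (hab : a * F + b * G = 0) :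
    ∃ h : (MvPolynomial (Fin 2) k), a = h * G ∧ b = -(h * F) := by
  suffices ∀ (D : ℕ) (a b : (MvPolynomial (Fin 2) k)), a.totalDegree + n ≤ D + 1 → b.totalDegree + m ≤ D + 1 → a * F + b * G = 0 →
      ∃ h : (MvPolynomial (Fin 2) k), a = h * G ∧ b = -(h * F) by
    exact this (a.totalDegree + n + (b.totalDegree + m)) a b (by omega) (by omega) hab
  intro D
  induction D using Nat.strong_induction_on with
  | _ D ih => ?_
  intro a b ha hb hab
  have hFne : F ≠ 0 := fun e => hf0 (by rw [e, map_zero])
  have hGne : G ≠ 0 := fun e => hg0 (by rw [e, map_zero])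
  by_cases ha0 : a = 0
  · subst ha0
    rw [zero_mul, zero_add] at hab
    exact ⟨0, by simp, by simp [(mul_eq_zero.1 hab).resolve_right hGne]⟩
  by_cases hnD : n ≤ D ∧ m ≤ D
  · obtain ⟨h, h1, h2, -⟩ := reduce_step hF hG hf0 hg0 hrel hnD.1 hnD.2 ha hb (by simp [hab])
    obtain ⟨D', rfl⟩ : ∃ D', D = D' + 1 := ⟨D - 1, by omega⟩
    obtain ⟨h', e1, e2⟩ := ih D' (by omega) (a - h * G) (b + h * F) h1 h2 (by linear_combination hab)
    exact ⟨h + h', by linear_combination e1, by linear_combination e2⟩
  · -- too low degree: impossible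
    exfalso
    rcases not_and_or.1 hnD with h' | h'
    · -- `a` is constant and `b` too small
      have e : a * F = -(b * G) := by linear_combination hab
      have hb0 : b ≠ 0 := fun e' => ha0 ((mul_eq_zero.1 (by rw [e, e', zero_mul, neg_zero])).resolve_right hFne)
      have hd := congrArg totalDegree e
      rw [totalDegree_neg, totalDegree_mul_of_isDomain ha0 hFne, totalDegree_mul_of_isDomain hb0 hGne] at hd
      have hFd : F.totalDegree = n := le_antisymm hF (by
        by_contra hlt
        exact hf0 (homogeneousComponent_eq_zero _ _ (by omega)))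
      have hGd : G.totalDegree = m := le_antisymm hG (by
        by_contra hlt
        exact hg0 (homogeneousComponent_eq_zero _ _ (by omega)))
      have ha1 : a = C (coeff 0 a) := totalDegree_eq_zero_iff_eq_C.1 (by omega)
      have h0 := congrArg (homogeneousComponent n) e
      rw [map_neg] at h0
      nth_rw 1 [show n = 0 + n by omega] at h0
      nth_rw 2 [show n = b.totalDegree + m by omega] at h0
      rw [comp_top_mul (by omega) hF, comp_top_mul le_rfl hG, homogeneousComponent_zero] at h0
      have hu : IsUnit (C (coeff 0 a) : (MvPolynomial (Fin 2) k)) := (isUnit_iff_ne_zero.2 fun e' => ha0 (by rw [ha1, e', map_zero])).map C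
      have hdv : homogeneousComponent m G ∣ homogeneousComponent n F := by
        refine (hu.dvd_mul_left).1 ⟨-homogeneousComponent b.totalDegree b, ?_⟩
        linear_combination h0
      have := hrel.symm.isUnit_of_dvd hdv
      rw [MvPolynomial.isUnit_iff_eq_C_of_isReduced] at this
      obtain ⟨c, -, hc⟩ := this
      have h5 := (homogeneousComponent_isHomogeneous m G).totalDegree hg0
      rw [hc, totalDegree_C] at h5
      omega
    · have e : b * G = -(a * F) := by linear_combination hab
      have hb0 : b ≠ 0 := fun e' => ha0 ((mul_eq_zero.1 (neg_eq_zero.1 (by rw [← e, e', zero_mul]))).resolve_right hFne)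
      have hd := congrArg totalDegree e
      rw [totalDegree_neg, totalDegree_mul_of_isDomain ha0 hFne, totalDegree_mul_of_isDomain hb0 hGne] at hd
      have hFd : F.totalDegree = n := le_antisymm hF (by
        by_contra hlt
        exact hf0 (homogeneousComponent_eq_zero _ _ (by omega)))
      have hGd : G.totalDegree = m := le_antisymm hG (by
        by_contra hlt
        exact hg0 (homogeneousComponent_eq_zero _ _ (by omega)))
      have hb1 : b = C (coeff 0 b) := totalDegree_eq_zero_iff_eq_C.1 (by omega)
      have h0 := congrArg (homogeneousComponent m) e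
      rw [map_neg] at h0
      nth_rw 1 [show m = 0 + m by omega] at h0
      nth_rw 2 [show m = a.totalDegree + n by omega] at h0
      rw [comp_top_mul (by omega) hG, comp_top_mul le_rfl hF, homogeneousComponent_zero] at h0
      have hu : IsUnit (C (coeff 0 b) : (MvPolynomial (Fin 2) k)) := (isUnit_iff_ne_zero.2 fun e' => hb0 (by rw [hb1, e', map_zero])).map C
      have hdv : homogeneousComponent n F ∣ homogeneousComponent m G := by
        refine (hu.dvd_mul_left).1 ⟨-homogeneousComponent a.totalDegree a, ?_⟩
        linear_combination h0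
      have := hrel.isUnit_of_dvd hdv
      rw [MvPolynomial.isUnit_iff_eq_C_of_isReduced] at this
      obtain ⟨c, -, hc⟩ := this
      have h5 := (homogeneousComponent_isHomogeneous n F).totalDegree hf0
      rw [hc, totalDegree_C] at h5
      omega

include hF hG hrel hg0 hf0 in
theorem finrank_quotient (hn : 0 < n) (hm : 0 < m) :
    Module.finrank k ((MvPolynomial (Fin 2) k) ⧸ Ideal.span ({F, G} : Set (MvPolynomial (Fin 2) k))) = n * m := by
  let I := Ideal.span ({F, G} : Set (MvPolynomial (Fin 2) k))
  let π : (MvPolynomial (Fin 2) k) →ₗ[k] (MvPolynomial (Fin 2) k) ⧸ I := (Ideal.Quotient.mkₐ k I).toLinearMap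
  let V : ℕ → Submodule k (MvPolynomial (Fin 2) k) := fun d => restrictTotalDegree (Fin 2) k d
  have hV : ∀ d (p : (MvPolynomial (Fin 2) k)), p ∈ V d ↔ p.totalDegree ≤ d := fun d p => mem_restrictTotalDegree _ _ _
  have hGne : G ≠ 0 := fun e => hg0 (by rw [e, map_zero])
  have hGd : G.totalDegree = m := le_antisymm hG (by
    by_contra hlt
    exact hg0 (homogeneousComponent_eq_zero _ _ (by omega)))
  have key : ∀ N, n + m ≤ N → Module.finrank k ((V N).map π) = n * m := by
    intro N hN
    let μ : (V (N - n) × V (N - m)) →ₗ[k] (MvPolynomial (Fin 2) k) :=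
      (LinearMap.mulRight k F).comp ((V (N - n)).subtype.comp (LinearMap.fst k _ _)) +
        (LinearMap.mulRight k G).comp ((V (N - m)).subtype.comp (LinearMap.snd k _ _))
    have hμ : ∀ v, μ v = (v.1 : (MvPolynomial (Fin 2) k)) * F + (v.2 : (MvPolynomial (Fin 2) k)) * G := fun v => rfl
    have hle : LinearMap.range μ ≤ V N := by
      rintro _ ⟨⟨⟨a, ha⟩, ⟨b, hb⟩⟩, rfl⟩
      rw [hV, hμ]
      rw [hV] at ha hb
      show (a * F + b * G).totalDegree ≤ N
      exact (totalDegree_add _ _).trans (max_le ((totalDegree_mul _ _).trans (by omega))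
        ((totalDegree_mul _ _).trans (by omega)))
    have hker : (LinearMap.ker (π.domRestrict (V N))).map (V N).subtype = LinearMap.range μ := by
      apply le_antisymm
      · rintro _ ⟨⟨c, hc⟩, hc0, rfl⟩
        have hcI : c ∈ I := Ideal.Quotient.eq_zero_iff_mem.1 hc0
        obtain ⟨a, b, hab⟩ := Ideal.mem_span_pair.1 hcI
        rw [hV] at hc
        obtain ⟨a', b', ha', hb', e⟩ := exists_small hF hG hf0 hg0 hrel (N := N) (by omega) (by omega)
          (a.totalDegree + n + (b.totalDegree + m)) a b (by omega) (by omega) (by rwa [hab])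
        refine ⟨⟨⟨a', (hV _ _).2 (by omega)⟩, ⟨b', (hV _ _).2 (by omega)⟩⟩, ?_⟩
        rw [hμ]
        exact e.trans hab
      · intro c hc
        refine ⟨⟨c, hle hc⟩, Ideal.Quotient.eq_zero_iff_mem.2 ?_, rfl⟩
        obtain ⟨v, rfl⟩ := hc
        exact Ideal.mem_span_pair.2 ⟨_, _, rfl⟩
    let κ : V (N - n - m) →ₗ[k] (V (N - n) × V (N - m)) := LinearMap.prod
      (((LinearMap.mulRight k G).comp (V (N - n - m)).subtype).codRestrict _ fun h => by
        rw [hV]
        refine (totalDegree_mul (h : (MvPolynomial (Fin 2) k)) G).trans ?_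
        have := (hV _ _).1 h.2
        omega)
      ((-(LinearMap.mulRight k F).comp (V (N - n - m)).subtype).codRestrict _ fun h => by
        rw [hV]
        show (-((h : (MvPolynomial (Fin 2) k)) * F)).totalDegree ≤ _
        rw [totalDegree_neg]
        refine (totalDegree_mul (h : (MvPolynomial (Fin 2) k)) F).trans ?_
        have := (hV _ _).1 h.2
        omega)
    have hκ : LinearMap.range κ = LinearMap.ker μ := by
      apply le_antisymm
      · rintro _ ⟨h, rfl⟩
        show (h : (MvPolynomial (Fin 2) k)) * G * F + -((h : (MvPolynomial (Fin 2) k)) * F) * G = 0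
        ring
      · rintro ⟨⟨a, ha⟩, ⟨b, hb⟩⟩ h0
        obtain ⟨h, rfl, rfl⟩ := exists_syzygy hF hG hf0 hg0 hrel hn hm (show a * F + b * G = 0 from h0)
        have hh : h.totalDegree ≤ N - n - m := by
          rcases eq_or_ne h 0 with rfl | hh
          · simp
          · have := (hV _ _).1 ha
            rw [totalDegree_mul_of_isDomain hh hGne] at this
            omega
        exact ⟨⟨h, (hV _ _).2 hh⟩, rfl⟩
    have hκi : Function.Injective κ := fun x y e => Subtype.ext
      (mul_right_cancel₀ hGne (congrArg (fun v => (v.1 : (MvPolynomial (Fin 2) k))) e))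
    have c1 := LinearMap.finrank_range_add_finrank_ker μ
    rw [Module.finrank_prod, ← hκ, LinearMap.finrank_range_of_inj hκi, ← hker,
      Submodule.finrank_map_subtype_eq] at c1
    have c2 := LinearMap.finrank_range_add_finrank_ker (π.domRestrict (V N))
    rw [LinearMap.range_domRestrict] at c2
    have p0 := Groth.Agent.FF.two_mul_polyCount (k := k) N
    have p1 := Groth.Agent.FF.two_mul_polyCount (k := k) (N - n)
    have p2 := Groth.Agent.FF.two_mul_polyCount (k := k) (N - m)
    have p3 := Groth.Agent.FF.two_mul_polyCount (k := k) (N - n - m)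
    simp only [Groth.Agent.FF.polyCount] at p0 p1 p2 p3
    zify at c1 c2 p0 p1 p2 p3 ⊢
    rw [Nat.cast_sub (by omega : n ≤ N)] at p1
    rw [Nat.cast_sub (by omega : m ≤ N)] at p2
    rw [Nat.cast_sub (by omega : m ≤ N - n), Nat.cast_sub (by omega : n ≤ N)] at p3
    refine mul_left_cancel₀ (two_ne_zero (α := ℤ)) ?_
    linear_combination 2 * c2 - 2 * c1 + p0 - p1 - p2 + p3
  have hmono : ∀ N N', N ≤ N' → (V N).map π ≤ (V N').map π := fun N N' h =>
    Submodule.map_mono fun p hp => (hV _ _).2 (((hV _ _).1 hp).trans h)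
  have htop : (V (n + m)).map π = ⊤ := by
    refine top_le_iff.1 fun z _ => ?_
    obtain ⟨p, rfl⟩ := Ideal.Quotient.mk_surjective z
    have he : (V (n + m)).map π = (V (n + m + p.totalDegree)).map π := by
      refine Submodule.eq_of_le_of_finrank_eq (hmono _ _ (by omega)) ?_
      rw [key _ le_rfl, key _ (by omega)]
    rw [he]
    exact ⟨p, (hV _ _).2 (by omega), rfl⟩
  have := key (n + m) le_rfl
  rw [htop, finrank_top] at this
  exact this

end core

theorem homogeneousComponent_dehomogenise {k : Type u} [Field k] {f : MvPolynomial (Fin 3) k} {n : ℕ}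
    (hf : f.IsHomogeneous n) :
    (aeval (Fin.cons (X 0) (Fin.cons (X 1) (Fin.cons 1 Fin.elim0)) : Fin 3 → MvPolynomial (Fin 2) k) f).totalDegree ≤ n ∧
    homogeneousComponent n
      (aeval (Fin.cons (X 0) (Fin.cons (X 1) (Fin.cons 1 Fin.elim0)) : Fin 3 → MvPolynomial (Fin 2) k) f) =
      aeval (Fin.cons (X 0) (Fin.cons (X 1) (Fin.cons 0 Fin.elim0)) : Fin 3 → MvPolynomial (Fin 2) k) f := by
  classical
  have h12 : ∀ (a b c : MvPolynomial (Fin 2) k), (Fin.cons a (Fin.cons b (Fin.cons c Fin.elim0)) : Fin 3 → MvPolynomial (Fin 2) k) 1 = b ∧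
      (Fin.cons a (Fin.cons b (Fin.cons c Fin.elim0)) : Fin 3 → MvPolynomial (Fin 2) k) 2 = c := fun a b c => ⟨rfl, rfl⟩
  have hmon : ∀ s : Fin 3 →₀ ℕ, Finsupp.degree s = n → ∀ c : k,
      (aeval (Fin.cons (X 0) (Fin.cons (X 1) (Fin.cons 1 Fin.elim0)) : Fin 3 → MvPolynomial (Fin 2) k)
          (monomial s c)).totalDegree ≤ n ∧
      homogeneousComponent n
        (aeval (Fin.cons (X 0) (Fin.cons (X 1) (Fin.cons 1 Fin.elim0)) : Fin 3 → MvPolynomial (Fin 2) k) (monomial s c)) =
        aeval (Fin.cons (X 0) (Fin.cons (X 1) (Fin.cons 0 Fin.elim0)) : Fin 3 → MvPolynomial (Fin 2) k) (monomial s c) := by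
    intro s hs c
    have hs' : s 0 + s 1 + s 2 = n := by
      rw [← hs, Finsupp.degree_eq_sum, Fin.sum_univ_three]
    have hhom : (C c * (X 0 ^ s 0 * X 1 ^ s 1) : MvPolynomial (Fin 2) k).IsHomogeneous (s 0 + s 1) :=
      ((isHomogeneous_X_pow 0 _).mul (isHomogeneous_X_pow 1 _)).C_mul c
    have e1 : (aeval (Fin.cons (X 0) (Fin.cons (X 1) (Fin.cons 1 Fin.elim0)) : Fin 3 → MvPolynomial (Fin 2) k)
          (monomial s c)) = C c * (X 0 ^ s 0 * X 1 ^ s 1) := by
      rw [aeval_monomial, Finsupp.prod_fintype _ _ (fun i => pow_zero _), Fin.prod_univ_three]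
      rw [(h12 _ _ _).1, (h12 _ _ _).2, Fin.cons_zero]
      simp [MvPolynomial.algebraMap_eq]
    have e2 : (aeval (Fin.cons (X 0) (Fin.cons (X 1) (Fin.cons 0 Fin.elim0)) : Fin 3 → MvPolynomial (Fin 2) k)
          (monomial s c)) = C c * (X 0 ^ s 0 * X 1 ^ s 1 * 0 ^ s 2) := by
      rw [aeval_monomial, Finsupp.prod_fintype _ _ (fun i => pow_zero _), Fin.prod_univ_three]
      rw [(h12 _ _ _).1, (h12 _ _ _).2, Fin.cons_zero]
      simp [MvPolynomial.algebraMap_eq]
    rw [e1, e2]
    refine ⟨hhom.totalDegree_le.trans (by omega), ?_⟩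
    rw [homogeneousComponent_of_mem hhom]
    rcases Nat.eq_zero_or_pos (s 2) with h2 | h2
    · rw [if_pos (by omega), h2, pow_zero, mul_one]
    · rw [if_neg (by omega), zero_pow (by omega), mul_zero, mul_zero]
  rw [f.as_sum]
  simp only [map_sum]
  have hdeg : ∀ s ∈ f.support, Finsupp.degree s = n := fun s hs => by
    by_contra h
    exact MvPolynomial.mem_support_iff.1 hs (hf.coeff_eq_zero h)
  exact ⟨totalDegree_finsetSum_le fun s hs => (hmon s (hdeg s hs) _).1,
    Finset.sum_congr rfl fun s hs => (hmon s (hdeg s hs) _).2⟩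


/-- Let k be a field and f, g nonzero homogeneous polynomials of positive degrees n and m in three
variables X, Y, T without common non-unit factor, and assume that f(X, Y, 0) and g(X, Y, 0) are also
without common non-unit factor in k[X, Y] (no common point of the two curves lies on the line T =
0). Then the quotient of k[X, Y] by the ideal generated by f(X, Y, 1) and g(X, Y, 1) has dimension
n·m over k. (The published statement is that two plane curves without common component have total
intersection number equal to the product of their degrees; its argument moves a line off the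
finitely many common points and then proves exactly this affine count, which is what this row
states, over an arbitrary field.) -/
theorem result (k : Type u) [Field k] (n m : ℕ)
    (f g : MvPolynomial (Fin 3) k) (hf : f.IsHomogeneous n) (hg : g.IsHomogeneous m)
    (hn : 0 < n) (hm : 0 < m) (hf0 : f ≠ 0) (hg0 : g ≠ 0) (hfg : IsRelPrime f g)
    (hT : IsRelPrime
      (MvPolynomial.aeval (Fin.cons (MvPolynomial.X 0) (Fin.cons (MvPolynomial.X 1)
        (Fin.cons 0 Fin.elim0)) : Fin 3 → MvPolynomial (Fin 2) k) f)
      (MvPolynomial.aeval (Fin.cons (MvPolynomial.X 0) (Fin.cons (MvPolynomial.X 1)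
        (Fin.cons 0 Fin.elim0)) : Fin 3 → MvPolynomial (Fin 2) k) g)) :
    Module.finrank k (MvPolynomial (Fin 2) k ⧸ Ideal.span
      ({MvPolynomial.aeval (Fin.cons (MvPolynomial.X 0) (Fin.cons (MvPolynomial.X 1)
          (Fin.cons 1 Fin.elim0)) : Fin 3 → MvPolynomial (Fin 2) k) f,
        MvPolynomial.aeval (Fin.cons (MvPolynomial.X 0) (Fin.cons (MvPolynomial.X 1)
          (Fin.cons 1 Fin.elim0)) : Fin 3 → MvPolynomial (Fin 2) k) g} :
        Set (MvPolynomial (Fin 2) k))) = n * m := by
  obtain ⟨hF, hF0⟩ := homogeneousComponent_dehomogenise hf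
  obtain ⟨hG, hG0⟩ := homogeneousComponent_dehomogenise hg
  rw [← hF0, ← hG0] at hT
  have hne : ∀ {p : ℕ} (a : MvPolynomial (Fin 2) k), 0 < p → IsUnit (MvPolynomial.homogeneousComponent p a) → False := by
    intro p a hp hu
    have h0 := hu.ne_zero
    have h5 := (MvPolynomial.homogeneousComponent_isHomogeneous p a).totalDegree h0
    rw [MvPolynomial.isUnit_iff_eq_C_of_isReduced] at hu
    obtain ⟨c, -, hc⟩ := hu
    rw [hc, MvPolynomial.totalDegree_C] at h5
    omega
  exact finrank_quotient hF hG (fun e => hne _ hm (isRelPrime_zero_left.1 (e ▸ hT)))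
    (fun e => hne _ hn (isRelPrime_zero_right.1 (e ▸ hT))) hT hn hm

end Groth.Agent.S10827
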