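import Groth.Statements.S10828
import Groth.Agent.VarietyLib.GeomPoints
import Groth.Agent.AbSchLib.RigidityOver
import Groth.Agent.Props12.Components

set_option autoImplicit false
set_option backward.isDefEq.respectTransparency.types false
universe u
open CategoryTheory AlgebraicGeometry
open Variety Groth.Agent Groth.Agent.VarietyLib CategoryTheory CategoryTheory.Limits AlgebraicGeometry

namespace Groth.Agent.S10828

/-- Let k be a field, K an algebraic closure of k with its group G of k-automorphisms, and X a k-scheme
locally of finite type. The map sending a K-valued point of X over k to its image point identifies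
the closed points of X with the G-orbits in X(K): a point is closed if and only if it is the image
of some K-valued point, and two K-valued points have the same image if and only if one is obtained
from the other by composing with Spec of a k-automorphism of K. -/
theorem result (k K : Type u) [Field k] [Field K]
    [Algebra k K] [IsAlgClosure k K] {X : Scheme.{u}} (f : X ⟶ Spec (CommRingCat.of k))
    [LocallyOfFiniteType f] :
    (∀ x : X, IsClosed ({x} : Set X) ↔
        ∃ p : Spec (CommRingCat.of K) ⟶ X, p ≫ f = Spec.map (CommRingCat.ofHom (algebraMap k K)) ∧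
          p.base (IsLocalRing.closedPoint K) = x) ∧
      ∀ p q : Spec (CommRingCat.of K) ⟶ X,
        p ≫ f = Spec.map (CommRingCat.ofHom (algebraMap k K)) →
        q ≫ f = Spec.map (CommRingCat.ofHom (algebraMap k K)) →
          (p.base (IsLocalRing.closedPoint K) = q.base (IsLocalRing.closedPoint K) ↔
            ∃ σ : K ≃ₐ[k] K, q = Spec.map (CommRingCat.ofHom σ.toRingHom) ≫ p) := by
  have : IsAlgClosed K := IsAlgClosure.isAlgClosed k
  have : Algebra.IsAlgebraic k K := IsAlgClosure.isAlgebraic
  have : Normal k K := IsAlgClosure.normal k K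
  let π := pullback.fst f (sK k K)
  let s := pullback.snd f (sK k K)
  have hint : IsIntegralHom π := isIntegralHom_fst k f
  have : LocallyOfFiniteType s := MorphismProperty.pullback_snd (P := @LocallyOfFiniteType) _ _ inferInstance
  have : JacobsonSpace ↥(pullback f (sK k K)) := LocallyOfFiniteType.jacobsonSpace s
  let o : ↥(Spec (CommRingCat.of K)) := IsLocalRing.closedPoint K
  -- `K`-points as sections
  have sec : ∀ p : Spec (CommRingCat.of K) ⟶ X, p ≫ f = sK k K →
      ∃ σp : Spec (CommRingCat.of K) ⟶ pullback f (sK k K), σp ≫ s = 𝟙 _ ∧ σp ≫ π = p := fun p hp =>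
    ⟨pullback.lift p (𝟙 _) (by rw [hp, Category.id_comp]), pullback.lift_snd _ _ _, pullback.lift_fst _ _ _⟩
  refine ⟨fun x => ⟨fun hx => ?_, ?_⟩, fun p q hp hq => ⟨fun h => ?_, ?_⟩⟩
  · obtain ⟨y, hy⟩ := surjective_fst k f (L := K) x
    obtain ⟨z, hz, hzc⟩ := nonempty_inter_closedPoints (X := ↥(pullback f (sK k K))) ⟨y, show π y ∈ ({x} : Set X) from hy⟩
      (hx.preimage π.continuous).isLocallyClosed
    refine ⟨pointOfClosedPoint s z hzc ≫ π, ?_, ?_⟩
    · rw [Category.assoc, pullback.condition, ← Category.assoc,
        show pointOfClosedPoint s z hzc ≫ pullback.snd f (sK k K) = 𝟙 _ from pointOfClosedPoint_comp s z hzc, Category.id_comp]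
    · show (pointOfClosedPoint s z hzc ≫ π) o = x
      rw [Scheme.Hom.comp_apply, pointOfClosedPoint_apply]
      exact hz
  · rintro ⟨p, hp, rfl⟩
    obtain ⟨σp, h1, h2⟩ := sec p hp
    have hc : IsClosed ({σp o} : Set ↥(pullback f (sK k K))) := ((pointEquivClosedPoint s) ⟨σp, h1⟩).2
    have := π.isClosedMap _ hc
    rw [Set.image_singleton, ← Scheme.Hom.comp_apply, h2] at this
    exact this
  · obtain ⟨σp, h1, h2⟩ := sec p hp
    obtain ⟨σq, h3, h4⟩ := sec q hq
    obtain ⟨τ, hτ⟩ := exists_gal_apply_eq k f (p := σq o) (q := σp o) (by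
      show π (σq o) = π (σp o)
      rw [← Scheme.Hom.comp_apply, ← Scheme.Hom.comp_apply, h2, h4]
      exact h.symm)
    let w := Spec.map (CommRingCat.ofHom τ.symm.toRingHom) ≫ σp ≫ gal k f τ
    have hw : w ≫ s = 𝟙 _ := by
      rw [Category.assoc, Category.assoc, gal_snd, ← Category.assoc σp, h1, Category.id_comp, ← Spec.map_comp,
        ← CommRingCat.ofHom_comp, ← Spec.map_id]
      congr 1
      ext x
      simp
    have : σq = w := ext_of_apply_closedPoint_eq s h3 hw (by
      show σq o = w o
      rw [Scheme.Hom.comp_apply, Scheme.Hom.comp_apply, ← hτ]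
      exact congrArg (fun z => gal k f τ (σp z)) (Subsingleton.elim (α := PrimeSpectrum K) _ _))
    refine ⟨τ.symm, ?_⟩
    rw [← h4, this, Category.assoc, Category.assoc, gal_fst, h2]
  · rintro ⟨σ, rfl⟩
    show p o = (Spec.map _ ≫ p) o
    rw [Scheme.Hom.comp_apply]
    exact congrArg p (Subsingleton.elim (α := PrimeSpectrum K) _ _)

end Groth.Agent.S10828
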