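import Mathlib.Topology.KrullDimension
import Groth.Agent.TopDim.Basic

set_option autoImplicit false
universe u
namespace Topology
end Topology
namespace TopologicalSpace
end TopologicalSpace
open Topology TopologicalSpace
namespace TopDim
end TopDim
open TopDim

namespace Groth.Agent.S10830

/-- In an irreducible topological space X of finite Krull dimension, every proper closed subset Y has
strictly smaller Krull dimension than X. -/
theorem result (X : Type u) [TopologicalSpace X]
    [IrreducibleSpace X] (hfin : topologicalKrullDim X ≠ ⊤) (Y : Set X) (hY : IsClosed Y) (hYX : Y ≠ Set.univ) :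
    topologicalKrullDim ↥Y < topologicalKrullDim X := by
  rcases isEmpty_or_nonempty ↥Y with hY0 | hY0
  · have : topologicalKrullDim ↥Y = ⊥ := by
      refine le_bot_iff.1 (Groth.Agent.TopDim.dim_le_iff.2 fun l => ?_)
      obtain ⟨y, -⟩ := l.head.isIrreducible.nonempty
      exact isEmptyElim y
    have hne : Nonempty X := (inferInstance : IrreducibleSpace X).toNonempty
    exact this ▸ (WithBot.bot_lt_coe _).trans_le (show ((0 : ℕ∞) : WithBot ℕ∞) ≤ _ from Groth.Agent.TopDim.dim_nonneg)
  · let Xu : TopologicalSpace.IrreducibleCloseds X :=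
      ⟨Set.univ, IrreducibleSpace.isIrreducible_univ X, isClosed_univ⟩
    have key : ∀ l : LTSeries (TopologicalSpace.IrreducibleCloseds ↥Y),
        ((l.length + 1 : ℕ) : WithBot ℕ∞) ≤ topologicalKrullDim X := by
      intro l
      let m := l.map _ (TopologicalSpace.IrreducibleCloseds.map_strictMono_of_isInducing
        (f := (Subtype.val : ↥Y → X)) Topology.IsInducing.subtypeVal)
      have hlast : m.last < Xu := by
        refine lt_of_le_of_ne (fun y _ => trivial) fun he => hYX (Set.univ_subset_iff.1 fun y _ => ?_)
        have hy : y ∈ (m.last : Set X) := he ▸ trivial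
        have hy' : y ∈ closure (Subtype.val '' (l.last : Set ↥Y)) := hy
        exact closure_minimal (by rintro _ ⟨z, -, rfl⟩; exact z.2) hY hy'
      exact Groth.Agent.TopDim.length_le_dim (m.snoc Xu hlast)
    obtain ⟨n, hn⟩ : ∃ n : ℕ, topologicalKrullDim X = (n : WithBot ℕ∞) := by
      have hne : Nonempty X := (inferInstance : IrreducibleSpace X).toNonempty
      have h0 := Groth.Agent.TopDim.dim_nonneg (X := X)
      revert hfin h0
      rcases topologicalKrullDim X with _ | _ | n <;> intro hfin h0
      · exact absurd h0 (not_le.2 (WithBot.bot_lt_coe _))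
      · exact absurd rfl hfin
      · exact ⟨n, rfl⟩
    rw [hn] at key ⊢
    obtain ⟨l⟩ : Nonempty (LTSeries (TopologicalSpace.IrreducibleCloseds ↥Y)) :=
      ⟨RelSeries.singleton _ ⟨closure {Classical.arbitrary ↥Y}, isIrreducible_singleton.closure, isClosed_closure⟩⟩
    have h1 : 1 ≤ n := (Nat.le_add_left 1 l.length).trans (by exact_mod_cast key l)
    refine lt_of_le_of_lt (Groth.Agent.TopDim.dim_le_iff.2 fun m => ?_) (show ((n - 1 : ℕ) : WithBot ℕ∞) < (n : WithBot ℕ∞) by exact_mod_cast Nat.sub_lt h1 one_pos)
    have : m.length + 1 ≤ n := by exact_mod_cast key m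
    exact_mod_cast Nat.le_sub_one_of_lt this

end Groth.Agent.S10830
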