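import Mathlib.Topology.KrullDimension
import Groth.Agent.TopDim.Basic

set_option autoImplicit false
universe u
namespace Topology
end Topology
namespace TopologicalSpace
end TopologicalSpace
open Topology TopologicalSpace
namespace TopDim
end TopDim
open TopDim

namespace Groth.Agent.S10831

/-- The Krull dimension of a topological space is the supremum of the Krull dimensions of its
irreducible components. -/
theorem result (X : Type u) [TopologicalSpace X] :
    topologicalKrullDim X = ⨆ Y ∈ irreducibleComponents X, topologicalKrullDim ↥Y := by
  refine le_antisymm (Groth.Agent.TopDim.dim_le_iff.2 fun l => ?_) (iSup₂_le fun Y _ => topologicalKrullDim_subspace_le X Y)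
  obtain ⟨Y, hY, hsub, hmax⟩ := exists_preirreducible _ l.last.isIrreducible.isPreirreducible
  have hYirr : IsIrreducible Y := ⟨l.last.isIrreducible.nonempty.mono hsub, hY⟩
  have hmem : Y ∈ irreducibleComponents X := ⟨hYirr, fun Z hZ hYZ => (hmax Z hZ.isPreirreducible hYZ).le⟩
  exact (Groth.Agent.TopDim.le_dim_of_subset l Y hsub).trans
    (le_iSup₂ (f := fun (Y : Set X) (_ : Y ∈ irreducibleComponents X) => topologicalKrullDim ↥Y) Y hmem)

end Groth.Agent.S10831
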