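import Groth.Statements.S10832
import Groth.Agent.DimLib.Zero
import Mathlib.AlgebraicGeometry.Morphisms.Finite

set_option autoImplicit false
universe u
open CategoryTheory AlgebraicGeometry Topology
open Variety

namespace Groth.Agent.S10832

/-- For a nonempty scheme X of finite type over a field k the following are equivalent: X has Krull
dimension 0; X is affine with ring of global sections finite over k and equal to the product of all
its local rings via the germ maps; the underlying space of X is discrete; the underlying space of X
is finite. -/
theorem result (k : Type u) [Field k] {X : Scheme.{u}} [Nonempty X]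
    (f : X ⟶ Spec (CommRingCat.of k)) [LocallyOfFiniteType f] [QuasiCompact f] :
    [topologicalKrullDim ↥X = 0,
      IsAffine X ∧ f.appTop.hom.Finite ∧
        Function.Bijective (fun s : Γ(X, ⊤) => fun x : X => X.presheaf.germ ⊤ x trivial s),
      DiscreteTopology ↥X,
      Finite ↥X].TFAE := by
  open Groth.Agent.DimLib in
  have : CompactSpace X := QuasiCompact.compactSpace_of_compactSpace f
  have : IsLocallyNoetherian X := LocallyOfFiniteType.isLocallyNoetherian f
  tfae_have 1 → 3 := fun h => discreteTopology_of_dim_le_zero f h.le
  tfae_have 3 → 4 := fun _ => finite_of_compact_of_discrete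
  tfae_have 4 → 2 := fun _ => by
    have := isFinite_of_finite f
    have := discreteTopology_of_finite f
    refine ⟨isAffine_of_isAffineHom f, ?_, bijective_germ⟩
    exact IsFinite.finite_app f ⊤ (isAffineOpen_top _)
  tfae_have 2 → 1 := fun ⟨_, hfin, _⟩ => by
    have : IsFinite f := by
      set_option backward.isDefEq.respectTransparency.types false in
      rw [HasAffineProperty.iff_of_isAffine (P := @IsFinite)]
      exact ⟨inferInstance, hfin⟩
    have : IsLocallyArtinian (Spec (CommRingCat.of k)) := Scheme.isLocallyArtinianScheme_Spec.2 inferInstance
    have : IsLocallyArtinian X := .of_locallyQuasiFinite f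
    have : DiscreteTopology X := IsLocallyArtinian.discreteTopology
    refine le_antisymm (topologicalKrullDim_zero_of_discreteTopology X) ?_
    rw [topologicalKrullDim_eq_krullDim]
    exact Order.krullDim_nonneg
  tfae_finish

end Groth.Agent.S10832
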