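import Groth.Statements.S10834
import Groth.Agent.CAlgH3.QuotientLocal
import Groth.Agent.CAlgH3.Serre
import Mathlib.RingTheory.LocalProperties.IntegrallyClosed

set_option autoImplicit false
universe u
open CAlg

namespace Groth.Agent.S10834

/-- Let A be a Noetherian ring whose localizations at all prime ideals are regular local rings, and f an
element of A generating a prime ideal, so that A/(f) is an integral domain (an integral hypersurface
in the regular affine scheme Spec A). Then A/(f) is normal (integrally closed in its fraction field)
if and only if it is regular in codimension 1, i.e. its localization at every prime at which the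
local ring has dimension 1 is a regular local ring. -/
theorem result (A : Type u) [CommRing A]
    [IsNoetherianRing A] (hreg : ∀ (p : Ideal A) (_ : p.IsPrime), IsRegularLocalRing (Localization.AtPrime p))
    (f : A) (hf : (Ideal.span ({f} : Set A)).IsPrime) :
    IsIntegrallyClosed (A ⧸ Ideal.span ({f} : Set A)) ↔
      ∀ q : PrimeSpectrum (A ⧸ Ideal.span ({f} : Set A)),
        ringKrullDim (Localization.AtPrime q.asIdeal) = 1 →
          IsRegularLocalRing (Localization.AtPrime q.asIdeal) := by
  have : IsRegularRing A := isRegularRing_iff.2 fun p hp => hreg p hp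
  have hcm := CAlgH3.isCohenMacaulayRing_quotient_span f
  have : IsDomain (A ⧸ Ideal.span ({f} : Set A)) := (Ideal.Quotient.isDomain_iff_prime _).2 hf
  constructor
  · intro hn q hq
    have : IsDomain (Localization.AtPrime q.asIdeal) := IsLocalization.isDomain_localization q.asIdeal.primeCompl_le_nonZeroDivisors
    have : IsIntegrallyClosed (Localization.AtPrime q.asIdeal) :=
      isIntegrallyClosed_of_isLocalization _ q.asIdeal.primeCompl q.asIdeal.primeCompl_le_nonZeroDivisors
    exact CAlgH3.isRegularLocalRing_of_normal_dim_le_one hq.le
  · intro h
    have hn := (CAlgH3.normal_localization_iff (R := A ⧸ Ideal.span ({f} : Set A))).2 ⟨fun p hp hp1 => ?_, (CAlgH3.hasSk_self_iff 2).2 fun p hp => ?_⟩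
    · exact IsIntegrallyClosed.of_localization_maximal fun p _ => (hn p).2
    · rcases lt_or_eq_of_le hp1 with h0 | h1
      · exact CAlgH3.hasR0_of_isReduced p (by
          rw [Nat.cast_one, Order.lt_one_iff] at h0
          simp [h0])
      · refine h ⟨p, hp⟩ ?_
        rw [IsLocalization.AtPrime.ringKrullDim_eq_height p (Localization.AtPrime p), h1]
        rfl
    · have := LocCoh.IsCohenMacaulayRing.isCohenMacaulayLocalRing_localization (R := A ⧸ Ideal.span ({f} : Set A)) p
      rw [← (CAlgH3.isCohenMacaulayLocalRing_iff_depth _).1 this]
      exact min_le_right _ _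

end Groth.Agent.S10834
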