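import Groth.Statements.S10835
import Groth.Prelude.Def_CurvBase
import Mathlib

set_option autoImplicit false
universe u
open CategoryTheory AlgebraicGeometry
attribute [local instance] Curv2.stalkAlgebra
open Variety
set_option backward.isDefEq.respectTransparency.types false

namespace Groth.Agent.S10835

/-- Elements of `K` that lie in `A[1/f]`. -/
def awaySub {k : Type u} [Field k] {K : Type u} [Field K] [Algebra k K] (A : Subalgebra k K) (f : K)
    (hf : f ∈ A) : Subalgebra k K where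
  carrier := {z | ∃ n : ℕ, z * f ^ n ∈ A}
  mul_mem' := by
    rintro a b ⟨n, hn⟩ ⟨m, hm⟩
    exact ⟨n + m, by rw [pow_add, show a * b * (f ^ n * f ^ m) = a * f ^ n * (b * f ^ m) by ring]; exact mul_mem hn hm⟩
  add_mem' := by
    rintro a b ⟨n, hn⟩ ⟨m, hm⟩
    exact ⟨n + m, by
      rw [show (a + b) * f ^ (n + m) = a * f ^ n * f ^ m + b * f ^ m * f ^ n by ring]
      exact add_mem (mul_mem hn (pow_mem hf m)) (mul_mem hm (pow_mem hf n))⟩
  algebraMap_mem' c := ⟨0, by simp⟩

theorem mem_awaySub {k : Type u} [Field k] {K : Type u} [Field K] [Algebra k K] {A : Subalgebra k K} {f : K}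
    {hf : f ∈ A} {z : K} : z ∈ awaySub A f hf ↔ ∃ n : ℕ, z * f ^ n ∈ A := Iff.rfl

theorem le_awaySub {k : Type u} [Field k] {K : Type u} [Field K] [Algebra k K] (A : Subalgebra k K) {f : K}
    (hf : f ∈ A) : A ≤ awaySub A f hf := fun z hz => ⟨0, by simpa using hz⟩

theorem inv_mem_awaySub {k : Type u} [Field k] {K : Type u} [Field K] [Algebra k K] (A : Subalgebra k K) {f : K}
    (hf : f ∈ A) (hf0 : f ≠ 0) : f⁻¹ ∈ awaySub A f hf := ⟨1, by rw [pow_one, inv_mul_cancel₀ hf0]; exact one_mem A⟩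

/-- Two models with the same fraction field have isomorphic principal opens. -/
theorem exists_awaySub_eq {k : Type u} [Field k] {K : Type u} [Field K] [Algebra k K] (A B : Subalgebra k K)
    (hA : A.FG) (hB : B.FG) (hAK : ∀ z : K, ∃ b ∈ A, b ≠ 0 ∧ z * b ∈ A)
    (hBK : ∀ z : K, ∃ b ∈ B, b ≠ 0 ∧ z * b ∈ B) :
    ∃ (f h : K) (hf : f ∈ A) (hh : h ∈ B), f ≠ 0 ∧ h ≠ 0 ∧ awaySub A f hf = awaySub B h hh := by
  classical
  have key : ∀ (C D : Subalgebra k K), C.FG → (∀ z : K, ∃ b ∈ D, b ≠ 0 ∧ z * b ∈ D) →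
      ∃ (h : K) (hh : h ∈ D), h ≠ 0 ∧ C ≤ awaySub D h hh := by
    intro C D ⟨s, hs⟩ hD
    choose den hden hden0 hnum using hD
    have hp : ∏ z ∈ s, den z ∈ D := prod_mem fun z _ => hden z
    refine ⟨_, hp, Finset.prod_ne_zero_iff.2 fun z _ => hden0 z, ?_⟩
    rw [← hs]
    refine Algebra.adjoin_le fun z hz => ⟨1, ?_⟩
    rw [pow_one, ← Finset.mul_prod_erase s den hz, ← mul_assoc]
    exact mul_mem (hnum z) (prod_mem fun z _ => hden z)
  obtain ⟨h₁, hh₁, hh₁0, hAB⟩ := key A B hA hBK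
  obtain ⟨f₁, hf₁, hf₁0, hBA⟩ := key B A hB hAK
  obtain ⟨N, hN⟩ := hAB hf₁
  obtain ⟨M, hM⟩ := hBA hh₁
  set c := f₁ * h₁ ^ N with hc
  set a := h₁ * f₁ ^ M with ha
  have hfA : f₁ * a ∈ A := mul_mem hf₁ hM
  have hhB : h₁ * c ∈ B := mul_mem hh₁ hN
  have hf0 : f₁ * a ≠ 0 := mul_ne_zero hf₁0 (mul_ne_zero hh₁0 (pow_ne_zero _ hf₁0))
  have hh0 : h₁ * c ≠ 0 := mul_ne_zero hh₁0 (mul_ne_zero hf₁0 (pow_ne_zero _ hh₁0))
  refine ⟨f₁ * a, h₁ * c, hfA, hhB, hf0, hh0, ?_⟩
  have hf₁i : f₁⁻¹ ∈ awaySub A _ hfA := by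
    rw [show f₁⁻¹ = a * (f₁ * a)⁻¹ from by field_simp [mul_ne_zero_iff.1 hf0]]
    exact mul_mem (le_awaySub A hfA hM) (inv_mem_awaySub A hfA hf0)
  have hh₁i : h₁⁻¹ ∈ awaySub B _ hhB := by
    rw [show h₁⁻¹ = c * (h₁ * c)⁻¹ from by field_simp [mul_ne_zero_iff.1 hh0]]
    exact mul_mem (le_awaySub B hhB hN) (inv_mem_awaySub B hhB hh0)
  have hA' : A ≤ awaySub B _ hhB := fun z hz => by
    obtain ⟨n, hn⟩ := hAB hz
    rw [show z = z * h₁ ^ n * h₁⁻¹ ^ n by rw [inv_pow, mul_assoc, mul_inv_cancel₀ (pow_ne_zero _ hh₁0), mul_one]]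
    exact mul_mem (le_awaySub B hhB hn) (pow_mem hh₁i n)
  have hB' : B ≤ awaySub A _ hfA := fun z hz => by
    obtain ⟨n, hn⟩ := hBA hz
    rw [show z = z * f₁ ^ n * f₁⁻¹ ^ n by rw [inv_pow, mul_assoc, mul_inv_cancel₀ (pow_ne_zero _ hf₁0), mul_one]]
    exact mul_mem (le_awaySub A hfA hn) (pow_mem hf₁i n)
  have hfi : (f₁ * a)⁻¹ ∈ awaySub B _ hhB := by
    have h3 : f₁⁻¹ = h₁ ^ N * (h₁ * c)⁻¹ * h₁ := by rw [hc]; field_simp
    rw [show (f₁ * a)⁻¹ = h₁⁻¹ * f₁⁻¹ ^ (M + 1) by
      rw [ha, pow_succ, inv_pow, mul_inv, mul_inv]; ring, h3]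
    exact mul_mem hh₁i (pow_mem (mul_mem (mul_mem (le_awaySub B hhB (pow_mem hh₁ N))
      (inv_mem_awaySub B hhB hh0)) (le_awaySub B hhB hh₁)) _)
  have hhi : (h₁ * c)⁻¹ ∈ awaySub A _ hfA := by
    have h3 : h₁⁻¹ = f₁ ^ M * (f₁ * a)⁻¹ * f₁ := by rw [ha]; field_simp
    rw [show (h₁ * c)⁻¹ = f₁⁻¹ * h₁⁻¹ ^ (N + 1) by
      rw [hc, pow_succ, inv_pow, mul_inv, mul_inv]; ring, h3]
    exact mul_mem hf₁i (pow_mem (mul_mem (mul_mem (le_awaySub A hfA (pow_mem hf₁ M))
      (inv_mem_awaySub A hfA hf0)) (le_awaySub A hfA hf₁)) _)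
  refine le_antisymm (fun z ⟨n, hn⟩ => ?_) (fun z ⟨n, hn⟩ => ?_)
  · rw [show z = z * (h₁ * c) ^ n * (h₁ * c)⁻¹ ^ n by rw [inv_pow, mul_assoc, mul_inv_cancel₀ (pow_ne_zero _ hh0), mul_one]]
    exact mul_mem (hB' hn) (pow_mem hhi n)
  · rw [show z = z * (f₁ * a) ^ n * (f₁ * a)⁻¹ ^ n by rw [inv_pow, mul_assoc, mul_inv_cancel₀ (pow_ne_zero _ hf0), mul_one]]
    exact mul_mem (hA' hn) (pow_mem hfi n)

theorem exists_away_equiv {k : Type u} [Field k] {K : Type u} [Field K] [Algebra k K] {A B : Type u}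
    [CommRing A] [CommRing B] [Algebra k A] [Algebra k B] [Algebra.FiniteType k A] [Algebra.FiniteType k B]
    (i : A →ₐ[k] K) (j : B →ₐ[k] K) (hi : Function.Injective i) (hj : Function.Injective j)
    (hAK : ∀ z : K, ∃ a b : A, b ≠ 0 ∧ z * i b = i a) (hBK : ∀ z : K, ∃ a b : B, b ≠ 0 ∧ z * j b = j a) :
    ∃ (f : A) (h : B), f ≠ 0 ∧ h ≠ 0 ∧ Nonempty (Localization.Away f ≃ₐ[k] Localization.Away h) := by
  have hAK' : ∀ z : K, ∃ b ∈ i.range, b ≠ 0 ∧ z * b ∈ i.range := fun z => by
    obtain ⟨a, b, hb, h⟩ := hAK z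
    exact ⟨i b, ⟨b, rfl⟩, (map_ne_zero_iff i hi).2 hb, a, h.symm⟩
  have hBK' : ∀ z : K, ∃ b ∈ j.range, b ≠ 0 ∧ z * b ∈ j.range := fun z => by
    obtain ⟨a, b, hb, h⟩ := hBK z
    exact ⟨j b, ⟨b, rfl⟩, (map_ne_zero_iff j hj).2 hb, a, h.symm⟩
  have hfgA : i.range.FG := by rw [← Algebra.map_top]; exact (Algebra.FiniteType.out (R := k) (A := A)).map i
  have hfgB : j.range.FG := by rw [← Algebra.map_top]; exact (Algebra.FiniteType.out (R := k) (A := B)).map j
  obtain ⟨_, _, ⟨f, rfl⟩, ⟨h, rfl⟩, hf, hh, he⟩ := exists_awaySub_eq i.range j.range hfgA hfgB hAK' hBK'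
  refine ⟨f, h, fun e => hf (by rw [e]; exact map_zero i), fun e => hh (by rw [e]; exact map_zero j), ?_⟩
  have main : ∀ {C : Type u} [CommRing C] [Algebra k C] (l : C →ₐ[k] K) (hl : Function.Injective l) (c : C)
      (hc : l c ≠ 0), ∃ L : Localization.Away c →ₐ[k] K, Function.Injective L ∧
        L.range = awaySub l.range (l c) ⟨c, rfl⟩ := by
    intro C _ _ l hl c hc
    have hu : IsUnit (l.toRingHom c) := isUnit_iff_ne_zero.2 hc
    let L₀ : Localization.Away c →+* K := IsLocalization.Away.lift c hu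
    have hL : ∀ x, L₀ (algebraMap C _ x) = l x := fun x => IsLocalization.Away.lift_eq c hu x
    have hcomm : ∀ r : k, L₀ (algebraMap k (Localization.Away c) r) = algebraMap k K r := fun r => by
      rw [IsScalarTower.algebraMap_apply k C (Localization.Away c), hL, AlgHom.commutes]
    let L : Localization.Away c →ₐ[k] K := { toRingHom := L₀, commutes' := hcomm }
    refine ⟨L, fun x y hxy => ?_, ?_⟩
    · obtain ⟨⟨a, _, n, rfl⟩, ha⟩ := IsLocalization.surj (Submonoid.powers c) x
      obtain ⟨⟨b, _, m, rfl⟩, hb⟩ := IsLocalization.surj (Submonoid.powers c) y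
      have h1 : l (a * c ^ m) = l (b * c ^ n) := by
        rw [map_mul, map_mul, ← hL, ← hL, ← hL, ← hL, ← ha, ← hb, map_mul, map_mul]
        rw [show L₀ x = L₀ y from hxy]
        ring
      have h2 := congrArg (algebraMap C (Localization.Away c)) (hl h1)
      rw [map_mul, map_mul, ← ha, ← hb] at h2
      refine ((IsLocalization.map_units (Localization.Away c) (⟨c ^ n * c ^ m, n + m, pow_add c n m⟩ : Submonoid.powers c)).mul_left_inj).1 ?_
      show x * algebraMap C _ (c ^ n * c ^ m) = y * algebraMap C _ (c ^ n * c ^ m)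
      rw [map_mul, ← mul_assoc]
      exact h2.trans (by ring)
    · ext z
      constructor
      · rintro ⟨x, rfl⟩
        obtain ⟨⟨a, _, n, rfl⟩, ha⟩ := IsLocalization.surj (Submonoid.powers c) x
        refine ⟨n, a, ?_⟩
        show l a = L₀ x * l c ^ n
        rw [← hL a, ← map_pow, ← hL (c ^ n), ← map_mul]
        exact congrArg L₀ ha.symm
      · rintro ⟨n, a, ha⟩
        refine ⟨IsLocalization.mk' _ a (⟨c ^ n, ⟨n, rfl⟩⟩ : Submonoid.powers c), ?_⟩
        refine mul_right_cancel₀ (pow_ne_zero n hc) ?_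
        show L₀ _ * l c ^ n = z * l c ^ n
        rw [← map_pow, ← hL (c ^ n), ← map_mul, show IsLocalization.mk' (Localization.Away c) a (⟨c ^ n, ⟨n, rfl⟩⟩ : Submonoid.powers c) * algebraMap C _ (c ^ n) = algebraMap C _ a from IsLocalization.mk'_spec _ _ _, hL, hL, map_pow]
        exact ha
  obtain ⟨L, hL, hLr⟩ := main i hi f hf
  obtain ⟨L', hL', hLr'⟩ := main j hj h hh
  exact ⟨(AlgEquiv.ofInjective L hL).trans ((Subalgebra.equivOfEq _ _ ((hLr.trans he).trans hLr'.symm)).trans
    (AlgEquiv.ofInjective L' hL').symm)⟩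


/-- Let k be a field and X an integral scheme of finite type over k whose function field admits a
transcendence basis s_1, …, s_d over k over which it is separable algebraic (this holds whenever the
function field is a separable extension of k in the sense of field theory, e.g. for k perfect, and
then d = dim X). Then some nonempty open subscheme of X is isomorphic, over k, to a nonempty open
subscheme of Spec k[T_1, …, T_d][T]/(g) for a monic polynomial g over k[T_1, …, T_d] which is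
irreducible and separable over the fraction field k(T_1, …, T_d). -/
theorem result (k : Type u) [Field k]
    (X : Scheme.{u}) [X.Over (Spec (CommRingCat.of k))] [IsIntegral X]
    [LocallyOfFiniteType (X ↘ Spec (CommRingCat.of k))] [QuasiCompact (X ↘ Spec (CommRingCat.of k))]
    (d : ℕ) (s : Fin d → X.presheaf.stalk (genericPoint X)) (hs : IsTranscendenceBasis k s)
    (hsep : Algebra.IsSeparable ↥(IntermediateField.adjoin k (Set.range s)) (X.presheaf.stalk (genericPoint X))) :
    ∃ (g : Polynomial (MvPolynomial (Fin d) k)), g.Monic ∧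
      Irreducible (g.map (algebraMap (MvPolynomial (Fin d) k) (FractionRing (MvPolynomial (Fin d) k)))) ∧
      (g.map (algebraMap (MvPolynomial (Fin d) k) (FractionRing (MvPolynomial (Fin d) k)))).Separable ∧
      ∃ (U : X.Opens) (V : (Spec (CommRingCat.of (AdjoinRoot g))).Opens) (e : (U : Scheme.{u}) ≅ (V : Scheme.{u})),
        (U : Set X).Nonempty ∧ (V : Set (Spec (CommRingCat.of (AdjoinRoot g)))).Nonempty ∧
        e.hom ≫ V.ι ≫ Spec.map (CommRingCat.ofHom (algebraMap k (AdjoinRoot g))) =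
          U.ι ≫ (X ↘ Spec (CommRingCat.of k)) := by
  classical
  let η := genericPoint X
  let K := X.functionField
  let q := X ↘ Spec (CommRingCat.of k)
  obtain ⟨_, ⟨W, hW, rfl⟩, hηW, -⟩ :=
    X.isBasis_affineOpens.exists_subset_of_mem_open (Set.mem_univ η) isOpen_univ
  haveI : Nonempty W := ⟨⟨η, hηW⟩⟩
  let A := Γ(X, W)
  let φ : k →+* A := ((Scheme.ΓSpecIso (CommRingCat.of k)).inv ≫ q.appLE ⊤ W le_top).hom
  letI algkA : Algebra k A := φ.toAlgebra
  haveI hft : Algebra.FiniteType k A := by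
    rw [← RingHom.finiteType_algebraMap]
    exact RingHom.finiteType_respectsIso.2 (q.appLE ⊤ W le_top).hom
      (Scheme.ΓSpecIso (CommRingCat.of k)).commRingCatIsoToRingEquiv.symm
      (HasRingHomProperty.appLE @LocallyOfFiniteType q ‹_› ⟨⊤, isAffineOpen_top _⟩ ⟨W, hW⟩ le_top)
  haveI hfrac : IsFractionRing A K := functionField_isFractionRing_of_isAffineOpen X W hW
  have hφ : ∀ c : k, algebraMap A K (φ c) = algebraMap k K c := by
    have h : ((Scheme.ΓSpecIso (CommRingCat.of k)).inv ≫ q.appLE ⊤ W le_top) ≫ X.presheaf.germ W η hηW =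
        (Scheme.ΓSpecIso (CommRingCat.of k)).inv ≫ q.appTop ≫ X.presheaf.germ ⊤ η trivial := by
      rw [Scheme.Hom.appLE, Category.assoc, Category.assoc, TopCat.Presheaf.germ_res]
      rfl
    exact fun c => congrArg (fun m => m c) h
  haveI : IsScalarTower k A K := IsScalarTower.of_algebraMap_eq fun c => (hφ c).symm
  let P := MvPolynomial (Fin d) k
  let L := FractionRing P
  letI algPK : Algebra P K := (MvPolynomial.aeval (R := k) (S₁ := (K : Type u)) s).toRingHom.toAlgebra
  haveI : FaithfulSMul P K := (faithfulSMul_iff_algebraMap_injective P K).2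
    (algebraicIndependent_iff_injective_aeval.1 hs.1)
  letI : Algebra L K := FractionRing.liftAlgebra P K
  haveI : IsScalarTower P L K := FractionRing.isScalarTower_liftAlgebra P K
  haveI : IsScalarTower k P K := IsScalarTower.of_algebraMap_eq fun c => ((MvPolynomial.aeval (R := k) (S₁ := (K : Type u)) s).commutes c).symm
  haveI : IsScalarTower k L K := IsScalarTower.to₁₃₄ k P L K
  have heq : ∀ z : L, ((hs.1.aevalEquivField z : ↥(IntermediateField.adjoin k (Set.range s))) : K) = algebraMap L K z := by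
    intro z
    rw [AlgebraicIndependent.aevalEquivField_apply_coe]
    obtain ⟨a, b, hb, rfl⟩ := IsFractionRing.div_surjective (A := P) z
    rw [map_div₀, map_div₀, IsFractionRing.lift_algebraMap, IsFractionRing.lift_algebraMap,
      ← IsScalarTower.algebraMap_apply P L K, ← IsScalarTower.algebraMap_apply P L K]
    rfl
  haveI hsepL : Algebra.IsSeparable L K := by
    haveI := hsep
    refine Algebra.IsSeparable.of_equiv_equiv (A₁ := ↥(IntermediateField.adjoin k (Set.range s))) (B₁ := (K : Type u))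
      hs.1.aevalEquivField.symm.toRingEquiv (RingEquiv.refl _) (RingHom.ext fun z => ?_)
    show algebraMap L K (hs.1.aevalEquivField.symm z) = z.1
    rw [← heq, AlgEquiv.apply_symm_apply]
  haveI : Algebra.EssFiniteType A K := .of_isLocalization _ (nonZeroDivisors A)
  haveI : Algebra.EssFiniteType k K := .comp k A K
  haveI : Algebra.EssFiniteType L K := .of_comp k L K
  haveI : FiniteDimensional L K := Algebra.finite_of_essFiniteType_of_isAlgebraic
  obtain ⟨θ₀, hθ₀⟩ := Field.exists_primitive_element L K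
  obtain ⟨y, hy, hint⟩ := ((IsFractionRing.isAlgebraic_iff P L K).2 (Algebra.IsAlgebraic.isAlgebraic (R := L) θ₀)).exists_integral_multiple
  let θ := y • θ₀
  let g := minpoly P θ
  have hg : g.Monic := minpoly.monic hint
  have hmin : minpoly L θ = g.map (algebraMap P L) := minpoly.isIntegrallyClosed_eq_field_fractions' L hint
  refine ⟨g, hg, hmin ▸ minpoly.irreducible (Algebra.IsIntegral.isIntegral θ), hmin ▸ Algebra.IsSeparable.isSeparable L θ, ?_⟩
  let C := AdjoinRoot g
  let ψP : C →ₐ[P] K := AdjoinRoot.liftAlgHom g (Algebra.ofId P K) θ (minpoly.aeval P θ)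
  let ψ : C →ₐ[k] K := ψP.restrictScalars k
  have hθψ : ψ (AdjoinRoot.root g) = θ := AdjoinRoot.lift_root (minpoly.aeval P θ)
  have hψinj : Function.Injective ψ := by
    rw [injective_iff_map_eq_zero]
    intro z hz
    obtain ⟨p, rfl⟩ := AdjoinRoot.mk_surjective z
    rw [AdjoinRoot.mk_eq_zero]
    refine minpoly.isIntegrallyClosed_dvd hint ?_
    have h1 : ψP (Polynomial.aeval (AdjoinRoot.root g) p) = Polynomial.aeval θ p := by
      rw [← Polynomial.aeval_algHom_apply]
      congr 2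
    rw [AdjoinRoot.aeval_eq] at h1
    exact h1.symm.trans hz
  have hPψ : ∀ p : P, ψ (algebraMap P C p) = algebraMap P K p := ψP.commutes
  have hgen : IntermediateField.adjoin L {θ} = ⊤ := by
    refine top_le_iff.1 (hθ₀.ge.trans (IntermediateField.adjoin_simple_le_iff.2 ?_))
    have h1 : θ₀ = (algebraMap P L y)⁻¹ • θ := by
      show θ₀ = (algebraMap P L y)⁻¹ • (y • θ₀)
      rw [← algebraMap_smul L y θ₀, smul_smul, inv_mul_cancel₀ (by simpa using hy), one_smul]
    rw [h1, Algebra.smul_def]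
    exact mul_mem (IntermediateField.algebraMap_mem _ _) (IntermediateField.mem_adjoin_simple_self L θ)
  have hCK : ∀ z : K, ∃ a b : C, b ≠ 0 ∧ z * ψ b = ψ a := by
    intro z
    have hz : z ∈ IntermediateField.adjoin L {θ} := hgen ▸ IntermediateField.mem_top
    induction hz using IntermediateField.adjoin_induction with
    | mem x hx =>
      rw [Set.mem_singleton_iff] at hx
      exact ⟨AdjoinRoot.root g, 1, fun e => one_ne_zero (α := (K : Type u)) (by rw [← map_one ψ, e, map_zero]), by rw [map_one, mul_one, hθψ, hx]⟩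
    | algebraMap x =>
      obtain ⟨a, b, hb, rfl⟩ := IsFractionRing.div_surjective (A := P) x
      have hb0 : algebraMap P K b ≠ 0 :=
        (map_ne_zero_iff _ (FaithfulSMul.algebraMap_injective P K)).2 (nonZeroDivisors.ne_zero hb)
      refine ⟨algebraMap P C a, algebraMap P C b, fun e => hb0 (by rw [← hPψ, e, map_zero]), ?_⟩
      rw [hPψ, hPψ, map_div₀, ← IsScalarTower.algebraMap_apply, ← IsScalarTower.algebraMap_apply,
        div_mul_cancel₀ _ hb0]
    | add x y _ _ hx hy =>
      obtain ⟨a, b, hb, h⟩ := hx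
      obtain ⟨a', b', hb', h'⟩ := hy
      refine ⟨a * b' + a' * b, b * b', fun e => ?_, by rw [map_mul, map_add, map_mul, map_mul, ← h, ← h']; ring⟩
      have e' := congrArg ψ e
      rw [map_mul, map_zero] at e'
      rcases mul_eq_zero.1 e' with e1 | e1
      · exact hb ((map_eq_zero_iff ψ hψinj).1 e1)
      · exact hb' ((map_eq_zero_iff ψ hψinj).1 e1)
    | inv x _ hx =>
      obtain ⟨a, b, hb, h⟩ := hx
      rcases eq_or_ne x 0 with rfl | hx0
      · exact ⟨0, 1, fun e => hb (by rw [← mul_one b, e, mul_zero]), by simp⟩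
      · refine ⟨b, a, fun e => ?_, by rw [← h, ← mul_assoc, inv_mul_cancel₀ hx0, one_mul]⟩
        rw [e, map_zero, mul_eq_zero] at h
        exact h.elim hx0 fun e' => hb ((map_eq_zero_iff ψ hψinj).1 e')
    | mul x y _ _ hx hy =>
      obtain ⟨a, b, hb, h⟩ := hx
      obtain ⟨a', b', hb', h'⟩ := hy
      refine ⟨a * a', b * b', fun e => ?_, by rw [map_mul, map_mul, ← h, ← h']; ring⟩
      have e' := congrArg ψ e
      rw [map_mul, map_zero] at e'
      rcases mul_eq_zero.1 e' with e1 | e1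
      · exact hb ((map_eq_zero_iff ψ hψinj).1 e1)
      · exact hb' ((map_eq_zero_iff ψ hψinj).1 e1)
  haveI : Algebra.FiniteType k C := by
    haveI : Algebra.FiniteType P C := inferInstance
    exact Algebra.FiniteType.trans (S := P) inferInstance inferInstance
  have hAK : ∀ z : K, ∃ a b : A, b ≠ 0 ∧ z * IsScalarTower.toAlgHom k A K b = IsScalarTower.toAlgHom k A K a := fun z => by
    obtain ⟨⟨a, b⟩, h⟩ := IsLocalization.surj (nonZeroDivisors A) z
    exact ⟨a, b, nonZeroDivisors.ne_zero b.2, h⟩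
  obtain ⟨f, h, hf, hh, ⟨ε⟩⟩ := exists_away_equiv (IsScalarTower.toAlgHom k A K) ψ
    (IsFractionRing.injective A K) hψinj hAK hCK
  let jA : Spec (CommRingCat.of (Localization.Away f)) ⟶ X :=
    Spec.map (CommRingCat.ofHom (algebraMap A (Localization.Away f))) ≫ hW.fromSpec
  let jC : Spec (CommRingCat.of (Localization.Away h)) ⟶ Spec (CommRingCat.of C) :=
    Spec.map (CommRingCat.ofHom (algebraMap C (Localization.Away h)))
  haveI : IsOpenImmersion jA := inferInstance
  haveI : IsOpenImmersion jC := inferInstance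
  let eS : Spec (CommRingCat.of (Localization.Away f)) ≅ Spec (CommRingCat.of (Localization.Away h)) :=
    Scheme.Spec.mapIso ε.symm.toRingEquiv.toCommRingCatIso.op
  let e := jA.isoOpensRange.symm ≪≫ eS ≪≫ jC.isoOpensRange
  have hneC : Nontrivial (Localization.Away h) := by
    haveI : IsDomain C := Function.Injective.isDomain ψ.toRingHom hψinj
    haveI : IsDomain (Localization.Away h) :=
      IsLocalization.isDomain_localization (powers_le_nonZeroDivisors_of_noZeroDivisors hh)
    infer_instance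
  haveI : Nontrivial (Localization.Away f) := ε.toRingEquiv.toEquiv.nontrivial
  refine ⟨jA.opensRange, jC.opensRange, e, ?_, ?_, ?_⟩
  · obtain ⟨P₀⟩ : Nonempty (Spec (CommRingCat.of (Localization.Away f))) := inferInstance
    exact ⟨jA P₀, ⟨P₀, rfl⟩⟩
  · obtain ⟨P₀⟩ : Nonempty (Spec (CommRingCat.of (Localization.Away h))) := inferInstance
    exact ⟨jC P₀, ⟨P₀, rfl⟩⟩
  · rw [← cancel_epi jA.isoOpensRange.hom]
    simp only [e, Iso.trans_hom, Iso.symm_hom, Category.assoc, Iso.hom_inv_id_assoc]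
    rw [Scheme.Hom.isoOpensRange_hom_ι_assoc, Scheme.Hom.isoOpensRange_hom_ι_assoc]
    have e2 : hW.fromSpec ≫ q = Spec.map (CommRingCat.ofHom φ) := by
      rw [show CommRingCat.ofHom φ = (Scheme.ΓSpecIso (CommRingCat.of k)).inv ≫ q.appLE ⊤ W le_top from rfl,
        Spec.map_comp, ← IsAffineOpen.SpecMap_appLE_fromSpec q (isAffineOpen_top _) hW le_top,
        IsAffineOpen.fromSpec_top, Scheme.isoSpec_Spec_inv]
    simp only [jA, Category.assoc]
    rw [show (X ↘ Spec (CommRingCat.of k)) = q from rfl, e2]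
    simp only [eS, jC, Functor.mapIso_hom, Scheme.Spec_map, Iso.op_hom, Quiver.Hom.unop_op, ← Spec.map_comp]
    congr 1
    ext c
    show ε.symm (algebraMap C (Localization.Away h) (algebraMap k C c)) = algebraMap A (Localization.Away f) (φ c)
    rw [← IsScalarTower.algebraMap_apply k C (Localization.Away h), AlgEquiv.commutes]
    exact IsScalarTower.algebraMap_apply k A (Localization.Away f) c

end Groth.Agent.S10835
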