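import Groth.Statements.S10836
import Groth.Agent.LocFreeLib.Semilocal

set_option autoImplicit false
universe u
open Coh

namespace Groth.Agent.S10836

/-- Let A be a commutative ring, M a finitely generated projective A-module whose rank at every prime is
r, and Z a finite set of prime ideals of A. Then there is an element s of A outside every prime of Z
such that the localized module M_s has a basis of r elements over A_s. (The published statement is
for a finite locally free module of constant rank r on a scheme and a finite set of points inside an
affine open Spec A, and produces a basic open D(s) containing the points on which the module is free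
of rank r; its argument begins by replacing the scheme with Spec A, and this row states that case.) -/
theorem result (A : Type u) [CommRing A]
    (M : Type u) [AddCommGroup M] [Module A M] [Module.Finite A M] [Module.Projective A M] (r : ℕ)
    (hr : ∀ p : PrimeSpectrum A, Module.rankAtStalk M p = r)
    (Z : Set (PrimeSpectrum A)) (hZ : Z.Finite) :
    ∃ s : A, (∀ p ∈ Z, s ∉ p.asIdeal) ∧
      Nonempty (Module.Basis (Fin r) (Localization.Away s) (LocalizedModule (Submonoid.powers s) M)) := by
  haveI := Module.finitePresentation_of_projective A M
  haveI := hZ.to_subtype
  rcases Z.eq_empty_or_nonempty with rfl | hne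
  · refine ⟨0, by simp, ?_⟩
    haveI : Subsingleton (Localization.Away (0 : A)) := IsLocalization.subsingleton (M := Submonoid.powers (0 : A)) ⟨1, pow_one 0⟩
    haveI : Subsingleton (LocalizedModule (Submonoid.powers (0 : A)) M) := Module.subsingleton (Localization.Away (0 : A)) _
    exact ⟨Module.Basis.ofEquivFun (LinearEquiv.ofSubsingleton _ _)⟩
  haveI : Nonempty Z := hne.to_subtype
  obtain ⟨g, hg, b⟩ := Groth.Agent.LocFreeLib.exists_basis_away_of_finite_primes M
    (fun p : Z => p.1.asIdeal) r (fun p => hr p.1)
  exact ⟨g, fun p hp => hg ⟨p, hp⟩, b⟩

end Groth.Agent.S10836
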