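import Mathlib.AlgebraicGeometry.Scheme
import Mathlib.Topology.Inseparable
import Groth.Agent.MorProj.OpenMap

set_option autoImplicit false
universe u
namespace CategoryTheory
end CategoryTheory
namespace AlgebraicGeometry
end AlgebraicGeometry
namespace Topology
end Topology
open CategoryTheory AlgebraicGeometry Topology
namespace Mor
end Mor
open Mor

namespace Groth.Agent.S10837

/-- For a morphism of schemes f : X → Y which is open as a map of topological spaces, generalizations
lift along f: every generalization of f(x) is the image of a generalization of x. -/
theorem result {X Y : Scheme.{u}} (f : X ⟶ Y) (hf : IsOpenMap f.base) :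
    GeneralizingMap f.base := by
  exact Groth.Agent.MorProj.generalizingMap_of_isOpenMap f hf

end Groth.Agent.S10837
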