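import Mathlib.AlgebraicGeometry.Scheme
import Mathlib.Topology.KrullDimension
import Groth.Agent.MorProj.OpenMap
import Groth.Agent.CommAlg6.DimMaps

set_option autoImplicit false
universe u
namespace CategoryTheory
end CategoryTheory
namespace AlgebraicGeometry
end AlgebraicGeometry
namespace Topology
end Topology
open CategoryTheory AlgebraicGeometry Topology
namespace Mor
end Mor
open Mor

namespace Groth.Agent.S10838

/-- For a morphism of schemes f : X → Y which is open as a map of topological spaces, the Krull
dimension of the image f(X) (with the subspace topology from Y) is at most the Krull dimension of X. -/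
theorem result {X Y : Scheme.{u}} (f : X ⟶ Y) (hf : IsOpenMap f.base) :
    topologicalKrullDim ↥(Set.range f.base) ≤ topologicalKrullDim ↥X := by
  have hR : IsOpen (Set.range f.base) := hf.isOpen_range
  haveI : QuasiSober ↥(Set.range f.base) := hR.isOpenEmbedding_subtypeVal.quasiSober
  refine Groth.Agent.CommAlg6.topologicalKrullDim_le_of_generalizingMap Set.rangeFactorization_surjective ?_
  intro x b hb
  obtain ⟨x', hx', hfx'⟩ := Groth.Agent.MorProj.generalizingMap_of_isOpenMap f hf (hb.map continuous_subtype_val)
  exact ⟨x', hx', Subtype.ext hfx'⟩

end Groth.Agent.S10838
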