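import Groth.Statements.S10839
import Groth.Agent.DimLib.Components

set_option autoImplicit false
universe u
open CategoryTheory AlgebraicGeometry Topology
open Variety

namespace Groth.Agent.S10839

/-- A closed immersion i : Y → X into an integral scheme X with dim X = dim Y < ∞ is an isomorphism. -/
theorem result {X Y : Scheme.{u}} (i : Y ⟶ X)
    [IsClosedImmersion i] [IsIntegral X] (hfin : topologicalKrullDim ↥X ≠ ⊤)
    (hdim : topologicalKrullDim ↥X = topologicalKrullDim ↥Y) : IsIso i := by
  have hsurj : Surjective i := by
    refine ⟨Set.range_eq_univ.1 ?_⟩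
    by_contra hne
    have hη : genericPoint X ∉ Set.range i := fun h => hne (Set.eq_univ_of_univ_subset (by
      rw [← (genericPoint_spec X).def]
      exact closure_minimal (Set.singleton_subset_iff.2 h) i.isClosedEmbedding.isClosed_range))
    rw [Groth.Agent.DimLib.topologicalKrullDim_eq_krullDim, Groth.Agent.DimLib.topologicalKrullDim_eq_krullDim] at hdim
    rw [Groth.Agent.DimLib.topologicalKrullDim_eq_krullDim] at hfin
    have hmono : StrictMono (i : Y → X) := fun a b hab => by
      have hs : i b ⤳ i a := (Scheme.le_iff_specializes.1 hab.le).map i.continuous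
      refine lt_of_le_not_ge (Scheme.le_iff_specializes.2 hs) fun h => hab.not_ge (Scheme.le_iff_specializes.2 ?_)
      exact i.isClosedEmbedding.isInducing.specializes_iff.1 (Scheme.le_iff_specializes.1 h)
    rcases isEmpty_or_nonempty Y with hY | hY
    · rw [Order.krullDim_eq_bot (α := Y)] at hdim
      exact Order.krullDim_ne_bot_iff.2 ⟨genericPoint X⟩ hdim
    have hle : ∀ y : Y, Order.height y + 1 ≤ Order.height (genericPoint X) := fun y =>
      le_trans (add_le_add (Order.height_le_height_apply_of_strictMono _ hmono y) le_rfl)
        (Order.height_add_one_le (lt_of_le_not_ge (Scheme.le_iff_specializes.2 (genericPoint_specializes _))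
          fun h => hη ((Scheme.le_iff_specializes.1 h).mem_closed i.isClosedEmbedding.isClosed_range ⟨y, rfl⟩)))
    have hX := Order.height_le_krullDim (genericPoint X)
    rw [hdim] at hX
    rw [hdim] at hfin
    rw [Order.krullDim_eq_iSup_height] at hX hfin
    obtain ⟨m, hm⟩ : ∃ m : ℕ, (⨆ y : Y, ((Order.height y : ℕ∞) : WithBot ℕ∞)) = (m : WithBot ℕ∞) := by
      generalize hg : (⨆ y : Y, ((Order.height y : ℕ∞) : WithBot ℕ∞)) = D at hfin
      induction D using WithBot.recBotCoe with
      | bot =>
        obtain ⟨y⟩ := hY
        exact absurd (hg ▸ le_iSup (fun y : Y => ((Order.height y : ℕ∞) : WithBot ℕ∞)) y) (by simp)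
      | coe D =>
        induction D using ENat.recTopCoe with
        | top => exact absurd rfl hfin
        | coe n => exact ⟨n, rfl⟩
    rw [hm] at hX
    have hη' : Order.height (genericPoint X) ≤ (m : ℕ∞) := by exact_mod_cast hX
    have hlt : ∀ y : Y, Order.height y + 1 ≤ (m : ℕ∞) := fun y => (hle y).trans hη'
    have hbound : (⨆ y : Y, ((Order.height y : ℕ∞) : WithBot ℕ∞)) ≤ ((m - 1 : ℕ) : WithBot ℕ∞) :=
      iSup_le fun y => by
        have := hlt y
        revert this
        generalize Order.height y = t
        intro ht
        induction t using ENat.recTopCoe with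
        | top => simp at ht
        | coe t =>
          have ht' : t + 1 ≤ m := by exact_mod_cast ht
          exact WithBot.coe_le_coe.2 (Nat.cast_le.2 (show t ≤ m - 1 by omega))
    rw [hm] at hbound
    obtain ⟨y⟩ := hY
    have := hlt y
    have h1 : (1 : ℕ∞) ≤ m := le_trans le_add_self this
    norm_cast at hbound h1
    omega
  exact isIso_of_isClosedImmersion_of_surjective i

end Groth.Agent.S10839
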