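import Groth.Statements.S10840
import Groth.Agent.DimLib.ProjUFD

set_option autoImplicit false
universe u
open AlgebraicGeometry Topology
open Variety

namespace Groth.Agent.S10840

lemma cdim_le_one {k : Type u} [Field k] {f g : MvPolynomial (Fin 3) k} (hf0 : f ≠ 0) (h : IsRelPrime f g)
    {Q : Ideal (MvPolynomial (Fin 3) k)} (hQ : Q.IsPrime) (hfQ : f ∈ Q) (hgQ : g ∈ Q) :
    Groth.Agent.DimLib.PN.cdim (n := 2) Q ≤ 1 := by
  by_contra hc
  obtain ⟨q, hq, rfl, -⟩ := Groth.Agent.DimLib.PN.exists_prime_span (n := 2) hQ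
    (fun e => hf0 (by rw [e] at hfQ; exact hfQ)) (by omega)
  exact hq.not_unit (h (Ideal.mem_span_singleton.1 hfQ) (Ideal.mem_span_singleton.1 hgQ))


/-- For a field k and nonzero homogeneous polynomials f, g of positive degrees in three variables, the
common zero set V_+(f, g) in the projective plane over k is zero-dimensional as a topological
subspace exactly when f and g are coprime, i.e. their only common divisors are the non-zero
constants. -/
theorem result (k : Type u) [Field k] (n m : ℕ)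
    (f g : MvPolynomial (Fin 3) k) (hf : f.IsHomogeneous n) (hg : g.IsHomogeneous m)
    (hn : 0 < n) (hm : 0 < m) (hf0 : f ≠ 0) (hg0 : g ≠ 0) :
    topologicalKrullDim ↥(ProjectiveSpectrum.zeroLocus (CohB1.polyGrading 2 k)
        ({f, g} : Set (MvPolynomial (Fin 3) k))) = 0 ↔ IsRelPrime f g := by
  classical
  open Groth.Agent.DimLib Groth.Agent.DimLib.PN in
  have hcl : IsClosed (ProjectiveSpectrum.zeroLocus (CohB1.polyGrading 2 k) ({f, g} : Set (MvPolynomial (Fin 3) k))) :=
    ProjectiveSpectrum.isClosed_zeroLocus _ _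
  have hdim : topologicalKrullDim ↥(ProjectiveSpectrum.zeroLocus (CohB1.polyGrading 2 k) ({f, g} : Set (MvPolynomial (Fin 3) k))) =
      ⨆ z : ↥(ProjectiveSpectrum.zeroLocus (CohB1.polyGrading 2 k) ({f, g} : Set (MvPolynomial (Fin 3) k))),
        (ptDim (CohB1.ProjSpace.toSpec 2 k) (pt z.1) : WithBot ℕ∞) :=
    topologicalKrullDim_closed_eq_iSup (X := CohB1.ProjSpace 2 k) (CohB1.ProjSpace.toSpec 2 k) hcl
  rw [hdim]
  obtain ⟨η, hη⟩ := exists_bot_point (n := 2) (k := k)
  constructor
  · intro hd a haf hag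
    by_contra hu
    obtain ⟨q, hq, hqa⟩ := WfDvdMonoid.exists_irreducible_factor hu (fun e => hf0 (by
      rw [e] at haf; exact zero_dvd_iff.1 haf))
    have hqp := hq.prime
    have hqI : (Ideal.span {q} : Ideal (MvPolynomial (Fin 3) k)).IsPrime :=
      (Ideal.span_singleton_prime hqp.ne_zero).2 hqp
    have hE : Ideal.span ({f, g} : Set (MvPolynomial (Fin 3) k)) ≤ Ideal.span {q} := by
      rw [Ideal.span_le]
      rintro e (rfl | rfl)
      · exact Ideal.mem_span_singleton.2 (hqa.trans haf)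
      · exact Ideal.mem_span_singleton.2 (hqa.trans hag)
    obtain ⟨Q, hQ, hQq⟩ := Ideal.exists_minimalPrimes_le hE
    have hQh := isHomogeneous_of_mem_minimalPrimes (span_isHomogeneous (by
      rintro e (rfl | rfl)
      · exact ⟨n, hf⟩
      · exact ⟨m, hg⟩)) hQ
    have h2 := cdim_le (n := 2) hQ.1.1 hqI hQq
    rw [cdim_span_prime hqp] at h2
    obtain ⟨w, rfl⟩ := exists_point hQ.1.1 hQh (fun e => by rw [e, cdim_m0] at h2; omega)
    have h3 := ptDim_add_one w
    have h4 : (ptDim (CohB1.ProjSpace.toSpec 2 k) (pt w) : WithBot ℕ∞) ≤ 0 := by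
      rw [← hd]
      exact le_iSup (fun z : ↥(ProjectiveSpectrum.zeroLocus (CohB1.polyGrading 2 k) ({f, g} : Set (MvPolynomial (Fin 3) k))) =>
        (ptDim (CohB1.ProjSpace.toSpec 2 k) (pt z.1) : WithBot ℕ∞)) ⟨w, fun e he => hQ.1.2 (Ideal.subset_span he)⟩
    have h5 : ptDim (CohB1.ProjSpace.toSpec 2 k) (pt w) ≤ 0 := by exact_mod_cast h4
    omega
  · intro hrel
    refine le_antisymm (iSup_le fun z => ?_) ?_
    · have h1 := cdim_le_one hf0 hrel z.1.isPrime (z.2 (Set.mem_insert _ _)) (z.2 (Set.mem_insert_of_mem _ rfl))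
      have h2 := ptDim_add_one z.1
      exact_mod_cast (show ptDim (CohB1.ProjSpace.toSpec 2 k) (pt z.1) ≤ 0 by omega)
    · obtain ⟨z, -, hz⟩ := exists_mem_zeroLocus η {f, g} (fun e he => by
        rcases Finset.mem_insert.1 he with rfl | he
        · exact ⟨n, hn, hf⟩
        · exact ⟨m, hm, by rw [Finset.mem_singleton.1 he]; exact hg⟩) (by
        rw [hη, cdim_bot]
        have := Finset.card_insert_le f {g}
        rw [Finset.card_singleton] at this
        omega)
      rw [Finset.coe_insert, Finset.coe_singleton] at hz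
      exact le_trans (by simp) (le_iSup (fun z : ↥(ProjectiveSpectrum.zeroLocus (CohB1.polyGrading 2 k) ({f, g} : Set (MvPolynomial (Fin 3) k))) =>
        (ptDim (CohB1.ProjSpace.toSpec 2 k) (pt z.1) : WithBot ℕ∞)) ⟨z, hz⟩)

end Groth.Agent.S10840
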