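import Groth.Statements.S10842
import Mathlib

set_option autoImplicit false
universe u
open CategoryTheory AlgebraicGeometry
open Variety
set_option backward.isDefEq.respectTransparency.types false

namespace Groth.Agent.S10842

/-- A quasi-compact scheme whose local rings at all closed points are integrally closed domains is
normal, i.e. all of its local rings are integrally closed domains. -/
theorem result (X : Scheme.{u}) [CompactSpace ↥X]
    (h : ∀ x : X, IsClosed ({x} : Set X) →
      IsDomain (X.presheaf.stalk x) ∧ IsIntegrallyClosed (X.presheaf.stalk x)) :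
    Pi1.IsNormalScheme X := by
  intro x
  obtain ⟨y, hy, hyc⟩ := (isClosed_closure (s := ({x} : Set X))).exists_closed_singleton ⟨x, subset_closure rfl⟩
  have hxy : x ⤳ y := specializes_iff_mem_closure.2 hy
  obtain ⟨hdom, hic⟩ := h y hyc
  obtain ⟨_, ⟨U, hU, rfl⟩, hyU, -⟩ :=
    X.isBasis_affineOpens.exists_subset_of_mem_open (Set.mem_univ y) isOpen_univ
  have hxU : x ∈ U := hxy.mem_open U.2 hyU
  let px := hU.primeIdealOf ⟨x, hxU⟩
  let py := hU.primeIdealOf ⟨y, hyU⟩
  letI aX : Algebra Γ(X, U) (X.presheaf.stalk x) := TopCat.Presheaf.algebra_section_stalk X.presheaf ⟨x, hxU⟩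
  letI aY : Algebra Γ(X, U) (X.presheaf.stalk y) := TopCat.Presheaf.algebra_section_stalk X.presheaf ⟨y, hyU⟩
  haveI : IsLocalization px.asIdeal.primeCompl (X.presheaf.stalk x) := hU.isLocalization_stalk ⟨x, hxU⟩
  haveI : IsLocalization py.asIdeal.primeCompl (X.presheaf.stalk y) := hU.isLocalization_stalk ⟨y, hyU⟩
  have hle : px.asIdeal ≤ py.asIdeal := by
    refine (PrimeSpectrum.le_iff_specializes px py).2 ?_
    refine hU.fromSpec.isOpenEmbedding.isInducing.specializes_iff.1 ?_
    rw [hU.fromSpec_primeIdealOf, hU.fromSpec_primeIdealOf]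
    exact hxy
  letI alg : Algebra (X.presheaf.stalk y) (X.presheaf.stalk x) := (X.presheaf.stalkSpecializes hxy).hom.toAlgebra
  haveI : IsScalarTower Γ(X, U) (X.presheaf.stalk y) (X.presheaf.stalk x) :=
    IsScalarTower.of_algebraMap_eq fun a => (TopCat.Presheaf.germ_stalkSpecializes_apply X.presheaf hyU hxy a).symm
  have hloc : IsLocalization (px.asIdeal.primeCompl.map (algebraMap Γ(X, U) (X.presheaf.stalk y)))
      (X.presheaf.stalk x) :=
    IsLocalization.isLocalization_of_submonoid_le _ _ py.asIdeal.primeCompl px.asIdeal.primeCompl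
      fun a ha hax => ha (hle hax)
  haveI : IsDomain (X.presheaf.stalk y) := hdom
  haveI : IsIntegrallyClosed (X.presheaf.stalk y) := hic
  have hM : px.asIdeal.primeCompl.map (algebraMap Γ(X, U) (X.presheaf.stalk y)) ≤
      nonZeroDivisors (X.presheaf.stalk y) := by
    rintro _ ⟨a, ha, rfl⟩
    refine mem_nonZeroDivisors_of_ne_zero fun h0 => ?_
    have h2 := congrArg (algebraMap (X.presheaf.stalk y) (X.presheaf.stalk x)) h0
    rw [← IsScalarTower.algebraMap_apply, map_zero] at h2
    have h3 := IsLocalization.map_units (X.presheaf.stalk x) (⟨a, ha⟩ : px.asIdeal.primeCompl)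
    rw [show algebraMap Γ(X, U) (X.presheaf.stalk x) a = 0 from h2] at h3
    exact not_isUnit_zero h3
  haveI := hloc
  exact ⟨IsLocalization.isDomain_of_le_nonZeroDivisors _ hM,
    isIntegrallyClosed_of_isLocalization (X.presheaf.stalk x) _ hM⟩

end Groth.Agent.S10842
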