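import Groth.Statements.S10844
import Groth.Agent.Coherent.CohOps
import Groth.Agent.Coherent.SupportPullback
import Groth.Agent.ModStalk.Exact
-- import your own Groth.Agent.* helpers here

set_option autoImplicit false
universe u
open RepF

namespace Groth.Agent.S10844

open AlgebraicGeometry CategoryTheory in
/-- For a scheme S and a homomorphism v : E → F of quasi-coherent O_S-modules with F of finite type,
there is an open subscheme U of S such that a morphism of schemes f : T → S factors through U (its
image lies in U) if and only if the pulled-back homomorphism f^*v : f^*E → f^*F is an epimorphism. -/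
theorem result {S : Scheme.{u}} {E F : S.Modules}
    [Coh.IsQCoh E] [Coh.IsQCoh F] (hF : CohB1.IsFT F) (v : E ⟶ F) :
    ∃ U : S.Opens, ∀ (T : Scheme.{u}) (f : T ⟶ S),
      Set.range f.base ⊆ (U : Set S) ↔ Epi ((Scheme.Modules.pullback f).map v) := by
  have hq : Coh.IsQCoh (Limits.cokernel v) := Groth.Agent.Coherent.isQCoh_cokernel v
  have hft : CohB1.IsFT (Limits.cokernel v) := Groth.Agent.Coherent.isFT_of_epi (Limits.cokernel.π v) hF
  refine ⟨⟨(CohB1.support (Limits.cokernel v))ᶜ,
    (Groth.Agent.Coherent.isClosed_support _ (Groth.Agent.Coherent.locallyFinGen_of_isFT _ hft)).isOpen_compl⟩,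
    fun T f => ?_⟩
  have hs := Groth.Agent.Coherent.support_pullback_qcoh f hq hft
  let e := Limits.PreservesCokernel.iso (Scheme.Modules.pullback f) v
  show Set.range f.base ⊆ (CohB1.support (Limits.cokernel v))ᶜ ↔ _
  constructor
  · intro h
    refine Preadditive.epi_of_isZero_cokernel _ ((Groth.Agent.ModStalk.isZero_of_stalks fun y => ?_).of_iso e.symm)
    refine (Groth.Agent.Coherent.notMem_support_iff _ y).1 fun hy => ?_
    rw [hs] at hy
    exact h ⟨y, rfl⟩ hy
  · rintro hepi _ ⟨y, rfl⟩ hy
    have hz : Limits.IsZero ((Scheme.Modules.pullback f).obj (Limits.cokernel v)) :=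
      (Limits.isZero_cokernel_of_epi _).of_iso e
    have : y ∈ CohB1.support ((Scheme.Modules.pullback f).obj (Limits.cokernel v)) := by rw [hs]; exact hy
    exact this ((ModuleCat.isZero_iff_subsingleton).1 ((DerSch.stalkFunctor T y).map_isZero hz))

end Groth.Agent.S10844
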