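import Groth.Statements.S10845
import Groth.Agent.GrassLib.ZeroLocus
import Groth.Agent.FinCovLib29.Basis
-- import your own Groth.Agent.* helpers here

set_option autoImplicit false
universe u
open RepF

namespace Groth.Agent.S10845

namespace ZL
open CategoryTheory CategoryTheory.Limits AlgebraicGeometry Opposite TopologicalSpace
open Groth.Agent.Coherent Groth.Agent.PicLib
open Groth.Agent Groth.Agent.GrassLib Groth.Agent.FinCovLib29

theorem exists_isBasisOn_of_locFree {X : Scheme.{u}} {N : X.Modules} (hN : FlatMod.IsFinLocFree N) (y : X) :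
    ∃ (n : ℕ) (U : X.Opens) (e : ULift.{u} (Fin n) → Γ(N, U)), y ∈ U ∧ IsBasisOn N U e := by
  classical
  obtain ⟨U₀, n, hy, ⟨e⟩⟩ := hN y
  let ψ := e ≪≫ (Props12.freeModIso U₀.toScheme n).symm
  let v : ∀ W : U₀.toScheme.Opens, ULift.{u} (Fin n) → Γ(N, U₀.ι ''ᵁ W) := fun W i =>
    (N.restrictAppIso U₀.ι W).hom (unitVal (freeInj i ≫ ψ.inv) W)
  refine ⟨n, U₀.ι ''ᵁ ⊤, v ⊤, (Scheme.Opens.ι_image_top U₀).ge hy, fun V hV => ?_⟩
  obtain ⟨W, rfl⟩ : ∃ W : U₀.toScheme.Opens, U₀.ι ''ᵁ W = V := by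
    refine ⟨U₀.ι ⁻¹ᵁ V, ?_⟩
    rw [U₀.ι.image_preimage_eq_opensRange_inf, Scheme.Opens.opensRange_ι, inf_eq_right]
    exact hV.trans (Scheme.Opens.ι_image_top U₀).le
  have hres : ∀ i, resM N hV (v ⊤ i) = v W i := fun i => by
    show resM N hV ((N.restrictAppIso U₀.ι ⊤).hom (unitVal _ ⊤)) = (N.restrictAppIso U₀.ι W).hom (unitVal _ W)
    rw [← resM_unitVal (freeInj i ≫ ψ.inv) (le_top : W ≤ ⊤)]
    rfl
  have h1 := ConcreteCategory.bijective_of_isIso (U₀.ι.appIso W).hom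
  have h2 := (freeSectionsEquiv (X := U₀.toScheme) (I := ULift.{u} (Fin n)) W).symm.bijective
  have h3 := ConcreteCategory.bijective_of_isIso (C := AddCommGrpCat) (ψ.inv.app W)
  have h4 := ConcreteCategory.bijective_of_isIso (N.restrictAppIso U₀.ι W).hom
  have h1' : Function.Bijective (fun c : ULift.{u} (Fin n) → Γ(X, U₀.ι ''ᵁ W) => fun i => (U₀.ι.appIso W).hom (c i)) :=
    Function.Bijective.piMap fun _ => h1
  convert h4.comp (h3.comp (h2.comp h1')) using 1
  funext c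
  simp only [Function.comp_apply, hres]
  rw [freeMod_app, map_sum]
  refine Finset.sum_congr rfl fun i _ => ?_
  refine Eq.trans ?_ (Scheme.Modules.smul_restrictAppIso_hom_apply U₀.ι N W _ _).symm
  congr 1
  show c i = (U₀.ι.appIso W).inv (freeSectionsEquiv W ((freeSectionsEquiv W).symm _) i)
  rw [LinearEquiv.apply_symm_apply, ← ConcreteCategory.comp_apply, Iso.hom_inv_id]
  rfl

theorem exists_zero_locus' {T : Scheme.{u}} {M N : T.Modules} (hM : Coh.IsQCoh M) (hN : FlatMod.IsFinLocFree N)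
    (φ : M ⟶ N) :
    ∃ (Z : Scheme.{u}) (j : Z ⟶ T), IsClosedImmersion j ∧
      ∀ (U : Scheme.{u}) (g : U ⟶ T), (Scheme.Modules.pullback g).map φ = 0 ↔ ∃ h : U ⟶ Z, h ≫ j = g := by
  refine H8Coh.exists_closed_locus (fun U g => (Scheme.Modules.pullback g).map φ = 0)
    (fun U U' h g hg => H8Coh.pullback_map_comp_eq_zero φ h g hg)
    (fun U g hg => H8Coh.eq_zero_of_pullback_opens _ fun x => by
      obtain ⟨U', hx, hU'⟩ := hg x
      exact ⟨U', hx, (H8Coh.pullback_map_map_eq_zero_iff φ _ g).2 hU'⟩) fun t => ?_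
  obtain ⟨q, O, e, htO, he⟩ := exists_isBasisOn_of_locFree hN t
  refine ⟨O, htO, fun W hW hWO => ?_⟩
  haveI : IsAffine W.toScheme := hW
  haveI : Coh.IsQCoh ((Scheme.Modules.pullback W.ι).obj M) := EGA43.InjFibre.isQCoh_pullback W.ι M
  let e' : ULift.{u} (Fin q) → Γ((Scheme.Modules.pullback W.ι).obj N, ⊤) := fun i =>
    resM _ (show (⊤ : W.toScheme.Opens) ≤ W.ι ⁻¹ᵁ O from W.ι_preimage_self.ge.trans (W.ι.preimage_mono hWO))
      (pullSec W.ι (e i))
  have he' : IsBasisOn ((Scheme.Modules.pullback W.ι).obj N) ⊤ e' := fun V hV => by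
    simpa only [e', resM_resM] using IsBasisOn.pull W.ι he (hV.trans
      (W.ι_preimage_self.ge.trans (W.ι.preimage_mono hWO)))
  let φW := (Scheme.Modules.pullback W.ι).map φ
  refine ⟨Ideal.span {c | ∃ w i, W.topIso.hom (he'.coef le_rfl (φW.app ⊤ w) i) = c}, fun C ψ => ?_⟩
  show (Scheme.Modules.pullback (Spec.map ψ ≫ hW.fromSpec)).map φ = 0 ↔ _
  rw [show Spec.map ψ ≫ hW.fromSpec = (Spec.map ψ ≫ hW.isoSpec.inv) ≫ W.ι from (Category.assoc _ _ _).symm,
    ← H8Coh.pullback_map_map_eq_zero_iff, pullback_map_eq_zero_iff_top, Ideal.span_le]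
  have key : ∀ c : Γ(W.toScheme, ⊤), (Spec.map ψ ≫ hW.isoSpec.inv).appTop c = 0 ↔ ψ (W.topIso.hom c) = 0 := by
    intro c
    have h1 : (Spec.map ψ ≫ hW.isoSpec.inv).appTop = W.topIso.hom ≫ ψ ≫ (Scheme.ΓSpecIso C).inv := by
      rw [Scheme.Hom.comp_appTop, hW.isoSpec_inv_appTop, Category.assoc, Scheme.ΓSpecIso_inv_naturality]
    rw [h1, CommRingCat.comp_apply, CommRingCat.comp_apply,
      map_eq_zero_iff _ (ConcreteCategory.bijective_of_isIso (Scheme.ΓSpecIso C).inv).1]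
  constructor
  · rintro h _ ⟨w, i, rfl⟩
    exact (key _).1 ((pullSec_eq_zero_iff_coef _ he' _).1 (h w) i)
  · exact fun h w => (pullSec_eq_zero_iff_coef _ he' _).2 fun i => (key _).2 (h ⟨w, i, rfl⟩)

end ZL

open AlgebraicGeometry CategoryTheory in
/-- For a scheme S and a homomorphism v : E → F of quasi-coherent O_S-modules with F finite locally
free, there is a quasi-coherent ideal sheaf on S whose closed subscheme Z has the property that a
morphism of schemes f : T → S factors through the inclusion Z → S if and only if the pulled-back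
homomorphism f^*v : f^*E → f^*F is zero. -/
theorem result {S : Scheme.{u}} {E F : S.Modules}
    [Coh.IsQCoh E] [Coh.IsQCoh F] (hF : FlatMod.IsFinLocFree F) (v : E ⟶ F) :
    ∃ I : S.IdealSheafData, ∀ (T : Scheme.{u}) (f : T ⟶ S),
      (∃ g : T ⟶ I.subscheme, g ≫ I.subschemeι = f) ↔ (Scheme.Modules.pullback f).map v = 0 := by
  obtain ⟨Z, j, hj, h⟩ := ZL.exists_zero_locus' (T := S) (inferInstance : Coh.IsQCoh E) hF v
  refine ⟨j.ker, fun T f => ?_⟩
  rw [h T f]
  constructor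
  · rintro ⟨g, hg⟩
    exact ⟨g ≫ inv j.toImage, by rw [Category.assoc, ← hg]; congr 1; rw [IsIso.inv_comp_eq]; exact (Scheme.Hom.toImage_imageι j).symm⟩
  · rintro ⟨g, hg⟩
    exact ⟨g ≫ j.toImage, by rw [Category.assoc, Scheme.Hom.toImage_imageι, hg]⟩

end Groth.Agent.S10845
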