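import Groth.Statements.S10850
import Groth.Agent.CommAlg4.ProjAut
import Groth.Agent.CurveLib.ProjLine
-- import your own Groth.Agent.* helpers here

set_option autoImplicit false
universe u
open ProjAut

namespace Groth.Agent.S10850

open AlgebraicGeometry CategoryTheory in
/-- Let k be a field and n a natural number. There is a surjective group homomorphism from GL_{n+1}(k)
onto the group of automorphisms of projective n-space P^n_k over Spec k whose kernel is the subgroup
of invertible scalar matrices; so the automorphism group of P^n_k over k is isomorphic to
PGL_{n+1}(k). (Only the existence of a surjective homomorphism with this kernel is asserted here;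
the published statement is about the homomorphism induced by linear substitutions of the homogeneous
coordinates.) -/
theorem result
    (k : Type u) [Field k] (n : ℕ) :
    ∃ φ : Matrix.GeneralLinearGroup (Fin (n + 1)) k →* Aut (Over.mk (CohB1.ProjSpace.toSpec n k)),
      Function.Surjective φ ∧
        φ.ker = (Units.map (Matrix.scalar (Fin (n + 1)) : k →+* Matrix (Fin (n + 1)) (Fin (n + 1)) k).toMonoidHom).range := by
  haveI : IsProper (CohB1.ProjSpace.toSpec n k) := Groth.Agent.CurveLib.isProper_projSpace k n
  exact ⟨Groth.Agent.CommAlg4.ProjAut.glHom n k, Groth.Agent.CommAlg4.ProjAut.glHom_surjective,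
    Groth.Agent.CommAlg4.ProjAut.glHom_ker⟩

end Groth.Agent.S10850
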