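import Groth.Statements.S10852
import Groth.Agent.GrassLib.Charts
-- import your own Groth.Agent.* helpers here

set_option autoImplicit false
set_option backward.isDefEq.respectTransparency.types false
universe u
open Grass

namespace Groth.Agent.S10852

open AlgebraicGeometry CategoryTheory in
/-- Let R be a commutative ring and k < n natural numbers. Suppose the scheme X over Spec R represents
the Grassmannian functor of rank-k locally free quotients of the free module R^n (bijections,
compatible with base change along R-algebra maps, between Spec R-morphisms Spec A → X and submodules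
of A^n whose quotient is finite projective of constant rank k). Then the structure morphism X → Spec
R is smooth of relative dimension k(n − k), and X has a finite open covering by subschemes each
isomorphic over Spec R to affine space of dimension k(n − k). -/
theorem result (R : Type u) [CommRing R]
    (n k : ℕ) (hk : k < n) (X : Over (Spec (CommRingCat.of R)))
    (e : ∀ A : CommAlgCat.{u} R,
      (Over.mk (Spec.map (CommRingCat.ofHom (algebraMap R A))) ⟶ X) ≃
        (Module.Grassmannian.functor (R := R) (M := Fin n → R) k).obj A)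
    (he : ∀ (A B : CommAlgCat.{u} R) (φ : A ⟶ B)
      (g : Over.mk (Spec.map (CommRingCat.ofHom (algebraMap R A))) ⟶ X)
      (g' : Over.mk (Spec.map (CommRingCat.ofHom (algebraMap R B))) ⟶ X),
      g'.left = Spec.map (CommRingCat.ofHom φ.hom.toRingHom) ≫ g.left →
        e B g' = (Module.Grassmannian.functor (R := R) (M := Fin n → R) k).map φ (e A g)) :
    SmoothOfRelativeDimension (k * (n - k)) X.hom ∧
      ∃ (ι : Type) (_ : Finite ι) (U : ι → X.left.Opens), ⨆ i, U i = ⊤ ∧
        ∀ i, Nonempty (Over.mk ((U i).ι ≫ X.hom) ≅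
          Over.mk (𝔸(ULift.{u} (Fin (k * (n - k))); Spec (CommRingCat.of R)) ↘ Spec (CommRingCat.of R))) := by
  obtain ⟨i, -⟩ := GrassLib.exists_iso_GrOver X e he
  haveI : IsIso i.hom.left := (inferInstance : IsIso ((Over.forget _).map i.hom))
  obtain ⟨U, hU, hU'⟩ := GrassLib.exists_affine_cover n k R
  have key : ∀ I, Nonempty (Over.mk ((i.hom.left ⁻¹ᵁ U I).ι ≫ X.hom) ≅
      Over.mk (𝔸(ULift.{u} (Fin (k * (n - k))); Spec (CommRingCat.of R)) ↘ Spec (CommRingCat.of R))) := fun I => by
    obtain ⟨f⟩ := hU' I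
    refine ⟨(Over.isoMk (asIso (i.hom.left ∣_ U I)) ?_ :
      Over.mk ((i.hom.left ⁻¹ᵁ U I).ι ≫ X.hom) ≅ Over.mk ((U I).ι ≫ (GrassLib.GrOver n k R).hom)) ≪≫ f⟩
    show (i.hom.left ∣_ U I) ≫ (U I).ι ≫ (GrassLib.GrOver n k R).hom = (i.hom.left ⁻¹ᵁ U I).ι ≫ X.hom
    rw [morphismRestrict_ι_assoc, Over.w i.hom]
  have hcov : ⨆ I, (i.hom.left ⁻¹ᵁ U I) = ⊤ := by
    rw [← Scheme.Hom.preimage_iSup, hU, Scheme.Hom.preimage_top]
  refine ⟨?_, _, inferInstance, _, hcov, key⟩
  rw [IsZariskiLocalAtSource.iff_of_iSup_eq_top (P := @SmoothOfRelativeDimension (k * (n - k))) _ hcov]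
  intro I
  obtain ⟨f⟩ := key I
  rw [← (show f.hom.left ≫ (𝔸(ULift.{u} (Fin (k * (n - k))); Spec (CommRingCat.of R)) ↘ Spec (CommRingCat.of R)) =
    (i.hom.left ⁻¹ᵁ U I).ι ≫ X.hom from Over.w f.hom)]
  haveI : IsIso f.hom.left := (inferInstance : IsIso ((Over.forget _).map f.hom))
  exact (MorphismProperty.cancel_left_of_respectsIso (@SmoothOfRelativeDimension (k * (n - k))) _ _).2
    (GrassLib.smoothOfRelativeDimension_affineSpace (k * (n - k)) R)

end Groth.Agent.S10852
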