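import Groth.Statements.S10856
import Groth.Agent.MeroLib.Noeth

set_option autoImplicit false
universe u
open Mero

namespace Groth.Agent.S10856

open Groth.Agent.MeroLib

open AlgebraicGeometry CategoryTheory TopologicalSpace in
/-- Let X be a scheme and f a global section of the sheaf of meromorphic functions K_X. The domain of
definition of f, i.e. the set of points x whose value f_x ∈ K_{X,x} lies in the image of the local
ring O_{X,x}, is the underlying set of an open subscheme D of X, and D is schematically dense in X: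
for every open subset V of X the restriction map from sections of O_X over V to sections over V ∩ D
is injective. -/
theorem result {X : Scheme.{u}} (f : Γ(Mero.kmod X, ⊤)) :
    ∃ D : X.Opens,
      (D : Set X) = {x | f.1 ⟨x, Opens.mem_top x⟩ ∈ (algebraMap (X.presheaf.stalk x) (Mero.KStalk X x)).range} ∧
        ∀ V : X.Opens, Function.Injective (X.presheaf.map (homOfLE (inf_le_left : V ⊓ D ≤ V)).op) := by
  obtain ⟨D, hD⟩ : ∃ D : X.Opens, (D : Set X) =
      {x | f.1 ⟨x, Opens.mem_top x⟩ ∈ (algebraMap (X.presheaf.stalk x) (Mero.KStalk X x)).range} := by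
    refine ⟨⟨{x | f.1 ⟨x, Opens.mem_top x⟩ ∈ (algebraMap (X.presheaf.stalk x) (Mero.KStalk X x)).range}, ?_⟩, rfl⟩
    rw [isOpen_iff_forall_mem_open]
    intro x hx
    obtain ⟨W, hWU, hxW, r, hr⟩ := exists_toK_near f (Opens.mem_top x) hx
    exact ⟨W, fun y hy => ⟨_, (hr y hy).symm⟩, W.isOpen, hxW⟩
  refine ⟨D, hD, fun V => ?_⟩
  · refine (injective_iff_map_eq_zero _).2 fun s hs => ?_
    refine Groth.Agent.MeroLib.section_ext fun x hx => ?_
    obtain ⟨W, hWV, hW, hxW, a, b, w⟩ :=
      exists_fraction ((Mero.kmod X).presheaf.map (homOfLE (le_top : V ≤ ⊤)).op f) hx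
    have hz : X.presheaf.map (homOfLE (X.basicOpen_le b.1)).op (X.presheaf.map (homOfLE hWV).op s) = 0 := by
      refine Groth.Agent.MeroLib.section_ext fun y hy => ?_
      rw [TopCat.Presheaf.germ_res_apply, TopCat.Presheaf.germ_res_apply]
      rw [map_zero]
      have hyW : y ∈ W := X.basicOpen_le b.1 hy
      have hyD : y ∈ D := by
        rw [← SetLike.mem_coe, hD]
        obtain ⟨u, hu⟩ := (X.mem_basicOpen b.1 y hyW).1 hy
        refine ⟨X.presheaf.germ W y hyW a * ↑u⁻¹, ?_⟩
        rw [map_mul, ← w y hyW, map_val, mul_assoc, ← map_mul, ← hu, Units.mul_inv, map_one, mul_one]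
      have h2 := congrArg (X.presheaf.germ (V ⊓ D) y ⟨hWV hyW, hyD⟩) hs
      rw [map_zero] at h2
      erw [TopCat.Presheaf.germ_res_apply] at h2
      exact h2
    have h3 := congrArg (X.presheaf.germ W x hxW) (eq_zero_of_res_basicOpen hW b.2 hz)
    rw [map_zero] at h3 ⊢
    rw [TopCat.Presheaf.germ_res_apply] at h3
    exact h3

end Groth.Agent.S10856
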