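import Groth.Statements.S10857
import Groth.Agent.QCohFP14.HomColim

set_option autoImplicit false
universe u
open QCohSup

open Groth.Agent Groth.Agent.Coherent Groth.Agent.PicLib Groth.Agent.AmpleLib CategoryTheory.Limits TopologicalSpace

namespace Groth.Agent.S10857

open AlgebraicGeometry CategoryTheory CategoryTheory.Limits in
/-- Take a quasi-compact scheme X, a finite-type quasi-coherent O_X-module F, and G a quasi-coherent
O_X-module which is the colimit of a filtered diagram of quasi-coherent O_X-modules G_j. A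
homomorphism u : G → F is an epimorphism if and only if there is an index j₀ such that for every
index j admitting a map from j₀ the composite G_j → G → F is an epimorphism. -/
theorem result {X : Scheme.{u}} [CompactSpace X]
    {J : Type u} [SmallCategory J] [IsFiltered J] (D : J ⥤ X.Modules) [∀ j, Coh.IsQCoh (D.obj j)]
    (c : Cocone D) (hc : IsColimit c) [Coh.IsQCoh c.pt]
    (F : X.Modules) [Coh.IsQCoh F] (hF : CohB1.IsFT F) (u : c.pt ⟶ F) :
    Epi u ↔ ∃ j₀ : J, ∀ j : J, Nonempty (j₀ ⟶ j) → Epi (c.ι.app j ≫ u) := by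
  classical
  constructor
  · intro hu
    obtain ⟨t, ht, hcov⟩ := isCompact_iff_finite_and_eq_biUnion_affineOpens.1
      (show IsCompact ((⊤ : X.Opens) : Set X) from isCompact_univ)
    haveI := ht.fintype
    choose T hT using fun V : t => (H8Lim.finite_sections_of_isFT (M := F) hF V.1.2).fg_top
    have hlift : ∀ r : Σ V : t, ↥(T V), ∃ (j : J) (y : Γ(D.obj j, r.1.1.1)), (c.ι.app j ≫ u).app r.1.1.1 y = r.2.1 := fun r => by
      obtain ⟨z, hz⟩ := Coherent.Existence.app_surjective_of_epi u r.1.1.2 r.2.1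
      obtain ⟨j, y, hy⟩ := QCohFP14.exists_rep hc (fun j => inferInstance) r.1.1.2 z
      exact ⟨j, y, (congrArg (u.app r.1.1.1) hy).trans hz⟩
    choose jr yr hyr using hlift
    obtain ⟨j₀, hj₀⟩ := IsFiltered.sup_objs_exists (Finset.univ.image jr)
    refine ⟨j₀, fun j ⟨f⟩ => ?_⟩
    let v := c.ι.app j ≫ u
    suffices h : cokernel.π v = 0 from Preadditive.epi_of_cokernel_zero h
    haveI : Coh.IsQCoh F := inferInstance
    have key : H8Lim.homLoc (cokernel.π v) (⊤ : X.Opens) = H8Lim.homLoc (0 : F ⟶ cokernel v) ⊤ := by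
      refine H8Lim.locHom_ext_cover (fun V : t => V.1.1) (fun V => V.1.2) (fun V => le_top) (fun x _ => ?_)
        (fun V => (T V : Set _)) hT fun V m hm => ?_
      · have hx : x ∈ ((⊤ : X.Opens) : Set X) := trivial
        rw [hcov] at hx
        simpa using hx
      · show (cokernel.π v).app V.1.1 m = (0 : F ⟶ cokernel v).app V.1.1 m
        let g := (hj₀ (Finset.mem_image.2 ⟨⟨V, m, hm⟩, Finset.mem_univ _, rfl⟩)).some ≫ f
        have h1 : v.app V.1.1 ((D.map g).app V.1.1 (yr ⟨V, m, hm⟩)) = m :=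
          (congrArg (fun z : D.obj (jr ⟨V, m, hm⟩) ⟶ F => z.app V.1.1 (yr ⟨V, m, hm⟩))
            (by show D.map g ≫ c.ι.app j ≫ u = _; rw [c.w_assoc])).trans (hyr ⟨V, m, hm⟩)
        rw [← h1]
        exact (congrArg (fun z : D.obj j ⟶ cokernel v => z.app V.1.1 ((D.map g).app V.1.1 (yr ⟨V, m, hm⟩)))
          (cokernel.condition v)).trans (by simp)
    refine Scheme.Modules.hom_ext _ _ fun W => ?_
    ext a
    exact congrArg (fun θ : locHom F (cokernel v) ⊤ => ev θ W le_top a) key
  · rintro ⟨j₀, h⟩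
    haveI := h j₀ ⟨𝟙 j₀⟩
    exact epi_of_epi (c.ι.app j₀) u

end Groth.Agent.S10857
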