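import Mathlib.AlgebraicGeometry.Morphisms.Proper
import Mathlib.AlgebraicGeometry.Morphisms.Finite
import Groth.Agent.MorProj.ProperFinite

set_option autoImplicit false
universe u
namespace Mor
end Mor
open Mor

namespace Groth.Agent.S10860

open CategoryTheory AlgebraicGeometry in
/-- For a proper morphism f : X → Y, the set V of points of Y with finite fibre is open, and f
restricted over V is finite (stated as the existence of an open subscheme of Y whose underlying set
is exactly V and over which f is finite). -/
theorem result {X Y : Scheme.{u}} (f : X ⟶ Y) [IsProper f] :
    ∃ U : Y.Opens, (U : Set Y) = {y : Y | (f.base ⁻¹' {y}).Finite} ∧ IsFinite (f ∣_ U) := by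
  exact Groth.Agent.MorProj.exists_finite_fibre_locus f

end Groth.Agent.S10860
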