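import Groth.Statements.S10862
import Groth.Agent.NormalizationLib.Finite
-- import your own Groth.Agent.* helpers here

set_option autoImplicit false
universe u
open CAlg

namespace Groth.Agent.S10862

/-- For a field k, an integral domain A of finite type over k with fraction field K, and a finite field
extension L of K, the integral closure of A in L is a finitely generated A-module. -/
theorem result (k A K L : Type u) [Field k] [CommRing A] [IsDomain A]
    [Algebra k A] [Algebra.FiniteType k A] [Field K] [Field L] [Algebra A K] [IsFractionRing A K] [Algebra K L]
    [FiniteDimensional K L] [Algebra A L] [IsScalarTower A K L] : Module.Finite A (integralClosure A L) := by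
  have hN := Groth.Agent.CAlgH.isNagata_of_finiteType (Groth.Agent.NormalizationLib.isNagata_field k) A
  have hN2 : CAlg.IsN2 A := Groth.Agent.CAlgH.isN2_of_ringEquiv (RingEquiv.quotientBot A) (hN.2 ⊥)
  let e := (IsLocalization.algEquiv (nonZeroDivisors A) (FractionRing A) K)
  letI : Algebra (FractionRing A) K := e.toRingHom.toAlgebra
  letI : Algebra (FractionRing A) L := ((algebraMap K L).comp e.toRingHom).toAlgebra
  haveI : IsScalarTower (FractionRing A) K L := IsScalarTower.of_algebraMap_eq fun _ => rfl
  haveI : IsScalarTower A (FractionRing A) L := IsScalarTower.of_algebraMap_eq fun x => by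
    rw [IsScalarTower.algebraMap_apply A K L, RingHom.algebraMap_toAlgebra, RingHom.comp_apply]
    exact congrArg _ (e.commutes x).symm
  haveI : Module.Finite (FractionRing A) K :=
    Module.Finite.of_surjective (Algebra.linearMap (FractionRing A) K) e.surjective
  exact hN2 L (Module.Finite.trans K L)

end Groth.Agent.S10862
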