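import Groth.Statements.S10863
import Mathlib
-- import your own Groth.Agent.* helpers here

set_option autoImplicit false
universe u
open CAlg

namespace Groth.Agent.S10863

open TensorProduct in
/-- Let k be a field, A a finite-dimensional local k-algebra with residue field κ, and k' a field
extension of k. Then the separable degree of κ over k equals the sum over the maximal ideals m' of
k' ⊗_k A (the points of the base-changed finite scheme lying over the given point) of the separable
degrees over k' of their residue fields. -/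
theorem result (k A k' : Type u) [Field k] [CommRing A] [Algebra k A]
    [Module.Finite k A] [IsLocalRing A] [Field k'] [Algebra k k'] :
    Field.finSepDegree k (IsLocalRing.ResidueField A) =
      ∑ᶠ m : MaximalSpectrum (k' ⊗[k] A),
        Field.finSepDegree k' (IsLocalRing.ResidueField (Localization.AtPrime m.asIdeal)) := by
  classical
  let Ω := AlgebraicClosure k'
  haveI : IsArtinianRing A := IsArtinianRing.of_finite k A
  haveI : Module.Finite k' (k' ⊗[k] A) := inferInstance
  haveI : IsArtinianRing (k' ⊗[k] A) := IsArtinianRing.of_finite k' (k' ⊗[k] A)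
  haveI : Fintype (MaximalSpectrum (k' ⊗[k] A)) := Fintype.ofFinite _
  haveI : Module.Finite k (IsLocalRing.ResidueField A) :=
    Module.Finite.of_surjective (IsScalarTower.toAlgHom k A (IsLocalRing.ResidueField A)).toLinearMap
      Ideal.Quotient.mk_surjective
  let π : A →ₐ[k] IsLocalRing.ResidueField A := IsScalarTower.toAlgHom k A _
  have hπ : Function.Surjective π := Ideal.Quotient.mk_surjective
  have e1 : Function.Bijective (fun f : IsLocalRing.ResidueField A →ₐ[k] Ω => f.comp π) := by
    refine ⟨fun f g h => AlgHom.ext fun x => ?_, fun f => ?_⟩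
    · obtain ⟨a, rfl⟩ := hπ x
      exact AlgHom.congr_fun h a
    · haveI : (RingHom.ker f).IsPrime := RingHom.ker_isPrime f
      have hker : RingHom.ker f = IsLocalRing.maximalIdeal A := IsLocalRing.eq_maximalIdeal inferInstance
      refine ⟨Ideal.Quotient.liftₐ (IsLocalRing.maximalIdeal A) f (fun a ha => ?_), AlgHom.ext fun a => rfl⟩
      rw [← hker] at ha
      exact ha
  have e2 : Function.Bijective (fun f : (k' ⊗[k] A) →ₐ[k'] Ω =>
      (f.restrictScalars k).comp Algebra.TensorProduct.includeRight) := by
    refine ⟨fun f g h => Algebra.TensorProduct.ext' fun a b => ?_, fun f => ?_⟩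
    · have hb : f (1 ⊗ₜ[k] b) = g (1 ⊗ₜ[k] b) := AlgHom.congr_fun h b
      rw [show (a ⊗ₜ[k] b : k' ⊗[k] A) = algebraMap k' _ a * (1 ⊗ₜ[k] b) by
        rw [Algebra.TensorProduct.algebraMap_apply, Algebra.algebraMap_self, RingHom.id_apply,
          Algebra.TensorProduct.tmul_mul_tmul, mul_one, one_mul],
        map_mul, map_mul, hb, AlgHom.commutes, AlgHom.commutes]
    · refine ⟨Algebra.TensorProduct.lift (Algebra.ofId k' Ω) f (fun _ _ => Commute.all _ _), AlgHom.ext fun b => ?_⟩
      show Algebra.TensorProduct.lift (Algebra.ofId k' Ω) f (fun _ _ => Commute.all _ _) ((1 : k') ⊗ₜ[k] b) = f b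
      rw [Algebra.TensorProduct.lift_tmul, map_one, one_mul]
  let κ : MaximalSpectrum (k' ⊗[k] A) → Type u := fun m =>
    IsLocalRing.ResidueField (Localization.AtPrime m.asIdeal)
  let πm : ∀ m : MaximalSpectrum (k' ⊗[k] A), (k' ⊗[k] A) →ₐ[k'] κ m := fun m =>
    IsScalarTower.toAlgHom k' (k' ⊗[k] A) _
  have hπm : ∀ m : MaximalSpectrum (k' ⊗[k] A), Function.Surjective (πm m) := fun m => by
    haveI := m.isMaximal
    exact m.asIdeal.bijective_algebraMap_quotient_residueField.surjective.comp Ideal.Quotient.mk_surjective
  have hker : ∀ m : MaximalSpectrum (k' ⊗[k] A), RingHom.ker (πm m) = m.asIdeal := fun m =>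
    Ideal.ker_algebraMap_residueField m.asIdeal
  have e3 : Function.Bijective (fun s : Σ m, (κ m →ₐ[k'] Ω) => s.2.comp (πm s.1)) := by
    refine ⟨?_, fun f => ?_⟩
    · rintro ⟨m, f⟩ ⟨n, g⟩ h
      have h' : f.comp (πm m) = g.comp (πm n) := h
      have hmn : m = n := by
        apply MaximalSpectrum.ext
        rw [← hker m, ← hker n]
        ext x
        rw [RingHom.mem_ker, RingHom.mem_ker]
        constructor <;> intro hx
        · apply g.toRingHom.injective
          show g (πm n x) = g 0
          rw [map_zero, ← AlgHom.comp_apply, ← h', AlgHom.comp_apply, hx, map_zero]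
        · apply f.toRingHom.injective
          show f (πm m x) = f 0
          rw [map_zero, ← AlgHom.comp_apply, h', AlgHom.comp_apply, hx, map_zero]
      subst hmn
      refine Sigma.ext rfl (heq_of_eq (AlgHom.ext fun x => ?_))
      obtain ⟨a, rfl⟩ := hπm m x
      exact AlgHom.congr_fun h' a
    · haveI : (RingHom.ker f).IsPrime := RingHom.ker_isPrime f
      haveI hmax : (RingHom.ker f).IsMaximal := IsArtinianRing.isMaximal_of_isPrime (RingHom.ker f)
      let m : MaximalSpectrum (k' ⊗[k] A) := ⟨RingHom.ker f, hmax⟩
      let e := Ideal.quotientKerAlgEquivOfSurjective (hπm m)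
      refine ⟨⟨m, (Ideal.Quotient.liftₐ (RingHom.ker (πm m)) f (fun a ha => ?_)).comp e.symm.toAlgHom⟩, ?_⟩
      · rw [hker m] at ha
        exact ha
      · refine AlgHom.ext fun a => ?_
        have : e.symm (πm m a) = Ideal.Quotient.mk _ a := e.symm_apply_eq.2 rfl
        exact (congrArg (fun z => (Ideal.Quotient.liftₐ (RingHom.ker (πm m)) f
          (fun b hb => by rw [hker m] at hb; exact hb)) z) this).trans rfl
  haveI : ∀ m, Module.Finite k' (κ m) := fun m => Module.Finite.of_surjective (πm m).toLinearMap (hπm m)
  rw [Field.finSepDegree_eq_of_isAlgClosed k (IsLocalRing.ResidueField A) Ω, finsum_eq_sum_of_fintype]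
  rw [Finset.sum_congr rfl fun m _ => Field.finSepDegree_eq_of_isAlgClosed k' (κ m) Ω, ← Nat.card_sigma]
  exact (Nat.card_congr (((Equiv.ofBijective _ e3).trans (Equiv.ofBijective _ e2)).trans (Equiv.ofBijective _ e1).symm)).symm

end Groth.Agent.S10863
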