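import Groth.Statements.S10865
import Groth.Agent.SubAvoid14.Roof
import Groth.Agent.Coherent.DevissageTwoThree

set_option autoImplicit false
universe u
open Coherent

open Groth.Agent Groth.Agent.Coherent Groth.Agent.AssSch12 Groth.Agent.SubAvoid14 CategoryTheory.Limits TopologicalSpace

namespace Groth.Agent.S10865

open CategoryTheory CategoryTheory.Limits AlgebraicGeometry in
/-- Let X be a nonempty Noetherian scheme and K an isomorphism-closed class of O_X-modules such that (a)
in a short exact sequence of coherent modules, if the middle and right terms lie in K so does the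
left one, and if the two outer terms lie in K so does the middle one; (b) if a coherent F has some
d-fold direct sum (d ≥ 1) in K then F lies in K. If for every integral closed subscheme i : Z → X
there is a coherent O_Z-module with nonzero stalk at the generic point whose direct image under i
lies in K, then every coherent O_X-module lies in K. (For the empty scheme the hypotheses hold for
the empty class, so X is taken nonempty here.) -/
theorem result (X : Scheme.{u}) [IsNoetherian X] [Nonempty X]
    (K : ObjectProperty X.Modules) [K.IsClosedUnderIsomorphisms]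
    (ha : ∀ S : ShortComplex X.Modules, S.ShortExact → Coh.IsCoh S.X₁ → Coh.IsCoh S.X₂ → Coh.IsCoh S.X₃ →
      (K S.X₂ → K S.X₃ → K S.X₁) ∧ (K S.X₁ → K S.X₃ → K S.X₂))
    (hb : ∀ (F : X.Modules) (d : ℕ), 1 ≤ d → Coh.IsCoh F → K (∐ fun _ : Fin d => F) → K F)
    (hgen : ∀ (Z : Scheme.{u}) (i : Z ⟶ X) [IsClosedImmersion i] [IsIntegral Z],
      ∃ H : Z.Modules, Coh.IsCoh H ∧ Nontrivial (H.presheaf.stalk (genericPoint Z)) ∧
        K ((Scheme.Modules.pushforward i).obj H))
    (F : X.Modules) (hF : Coh.IsCoh F) : K F := by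
  haveI := Groth.Agent.Coherent.hasFiniteBiproducts X
  have hzero : ∀ M : X.Modules, IsZero M → K M := fun M hM => by
    obtain ⟨x⟩ := ‹Nonempty X›
    obtain ⟨H, hH, -, hKH⟩ := hgen _ (clI x).subschemeι
    have hP : Coh.IsCoh ((Coh.push (clI x).subschemeι).obj H) := isCoh_push_finite _ hH
    have hS : (ShortComplex.mk (0 : M ⟶ (Coh.push (clI x).subschemeι).obj H) (𝟙 _) zero_comp).ShortExact :=
      { exact := (ShortComplex.exact_iff_mono _ rfl).2 inferInstance
        mono_f := ⟨fun a b _ => hM.eq_of_tgt a b⟩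
        epi_g := inferInstanceAs (Epi (𝟙 _)) }
    exact (ha _ hS (isCoh_of_isZero hM) hP hP).1 hKH hKH
  have hK : ExtClass (K : X.Modules → Prop) :=
    ⟨fun e h => K.prop_of_iso e h, hzero, fun S hS a b c => (ha S hS a b c).2⟩
  let S : Closeds X := ⟨CohB1.support F, isClosed_support F (locallyFinGen_of_isFT F hF.2)⟩
  refine mem_of_support hK Set.univ (fun Z _ _ _ y hy Z₀ hZ₀ hsm => ?_) S (Set.subset_univ _) F hF le_rfl
  rintro C hC hCZ ⟨e⟩
  obtain ⟨H, hH, hne, hKH⟩ := hgen _ (clI y).subschemeι
  let i := (clI y).subschemeι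
  let G := (Coh.push i).obj H
  have hG : Coh.IsCoh G := isCoh_push_finite i hH
  have hgy : i (genericPoint (clI y).subscheme) = y := by
    have h1 := ((genericPoint_spec (clI y).subscheme).image i.continuous)
    rw [Set.image_univ, range_clι, closure_closure] at h1
    exact h1.eq isGenericPoint_closure
  have hGs : CohB1.support G ⊆ Z₀ :=
    (support_push_subset i H).trans (by rw [range_clι, hy]; exact hZ₀)
  have hk : Killed y 1 G := killed_of_killedByIdeal (Z := closure {y}) isClosed_closure le_rfl hG
    fun U r hr m => killedByIdeal_of_mono i H (𝟙 G) U r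
      (by rw [Scheme.IdealSheafData.ker_subschemeι]; exact hr) m
  have hyG : y ∈ CohB1.support G := fun hsub => by
    refine not_subsingleton_iff_nontrivial.2 hne ⟨fun u v => ?_⟩
    have hz : ∀ u : H.presheaf.stalk (genericPoint (clI y).subscheme), u = 0 := fun u => by
      obtain ⟨W, hW, s, rfl⟩ := H.presheaf.exists_germ_eq u
      obtain ⟨W', hW', rfl⟩ : ∃ W' : X.Opens, IsOpen (W' : Set X) ∧ W = i ⁻¹ᵁ W' := by
        obtain ⟨V, hV, hVW⟩ := i.isClosedEmbedding.isInducing.isOpen_iff.1 W.2
        exact ⟨⟨V, hV⟩, hV, Opens.ext hVW.symm⟩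
      have hyW : y ∈ W' := hgy ▸ hW
      obtain ⟨V, hyV, i₁, i₂, h1⟩ := TopCat.Presheaf.germ_eq G.presheaf y
        (U := W') (V := W') hyW hyW (s : Γ(G, W')) 0 (hsub.elim _ _)
      rw [map_zero] at h1
      have hη : genericPoint (clI y).subscheme ∈ i ⁻¹ᵁ V := show i _ ∈ V from hgy.symm ▸ hyV
      have h2 := congrArg (H.presheaf.germ (i ⁻¹ᵁ V) _ hη) h1
      exact (TopCat.Presheaf.germ_res_apply H.presheaf ((Opens.map i.base).map i₁) _ hη s).symm.trans (h2.trans (map_zero _))
    rw [hz u, hz v]
  obtain ⟨n, ⟨eF⟩⟩ := exists_biproduct_stalk_iso hG hk hyG e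
  have hCn : Coh.IsCoh (⨁ fun _ : Fin (n + 1) => C) := isCoh_biproduct _ fun _ => hC
  obtain ⟨E, a, b, hE, hma, hmb, hab, hbb⟩ := exists_roof hCn hG eF hk
  haveI := hma
  haveI := hmb
  have hS : (ShortComplex.mk b (cokernel.π b) (cokernel.condition b)).ShortExact :=
    { exact := ShortComplex.exact_cokernel b }
  have hQ : Coh.IsCoh (cokernel b) := isCoh_cokernel b hE.1 hG
  have hKE : K E := (ha _ hS hE hG hQ).1 hKH
    (hsm _ hQ ((support_subset_of_epi (cokernel.π b)).trans hGs) (notMem_support_cokernel b hbb.2))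
  exact hb C (n + 1) (Nat.le_add_left 1 n) hC (K.prop_of_iso (biproduct.isoCoproduct _)
    (mem_of_mono_stalk hK hsm a hE hCn (support_biproduct_subset _ fun _ => hCZ) hab.2 hKE))

end Groth.Agent.S10865
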