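import Groth.Statements.S10866
import Groth.Agent.S10865
import Groth.Agent.Coherent.DevissageApps
import Groth.Agent.Coherent.DevissageTwoThree

set_option autoImplicit false
universe u
open Coherent

open Groth.Agent Groth.Agent.Coherent CategoryTheory.Limits TopologicalSpace

namespace Groth.Agent.S10866

open CategoryTheory AlgebraicGeometry in
/-- Let f : X → Y be a morphism of Noetherian schemes such that for every integral closed subscheme i :
Z → X there is a coherent O_Z-module with nonzero stalk at the generic point of Z whose direct image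
under i followed by f is coherent on Y. Then the direct image f_*F of every coherent O_X-module F is
coherent. -/
theorem result {X Y : Scheme.{u}} [IsNoetherian X] [IsNoetherian Y]
    (f : X ⟶ Y)
    (hgen : ∀ (Z : Scheme.{u}) (i : Z ⟶ X) [IsClosedImmersion i] [IsIntegral Z],
      ∃ H : Z.Modules, Coh.IsCoh H ∧ Nontrivial (H.presheaf.stalk (genericPoint Z)) ∧
        Coh.IsCoh ((Scheme.Modules.pushforward (i ≫ f)).obj H))
    (F : X.Modules) (hF : Coh.IsCoh F) : Coh.IsCoh ((Scheme.Modules.pushforward f).obj F) := by
  haveI : QuasiCompact f := quasiCompact_of_compactSpace f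
  haveI : (Scheme.Modules.pushforward f).IsRightAdjoint :=
    (Scheme.Modules.pullbackPushforwardAdjunction f).isRightAdjoint
  have hq : ∀ M : X.Modules, Coh.IsCoh M → Coh.IsQCoh ((Scheme.Modules.pushforward f).obj M) := fun M hM =>
    haveI := hM.1
    isQCoh_push f M
  rcases isEmpty_or_nonempty X with hX | hX
  · refine isCoh_of_isZero ((Scheme.Modules.pushforward f).map_isZero (ModStalk.isZero_of_stalks fun x => isEmptyElim x))
  let K : ObjectProperty X.Modules := fun M => Coh.IsCoh ((Scheme.Modules.pushforward f).obj M)
  haveI : K.IsClosedUnderIsomorphisms :=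
    ⟨fun e h => isCoh_iso ((Scheme.Modules.pushforward f).mapIso e) h⟩
  refine S10865.result X K (fun S hS h₁ h₂ h₃ => ?_) (fun M d hd hM hK => ?_) (fun Z i _ _ => ?_) F hF
  · let P := Scheme.Modules.pushforward f
    haveI := hS.mono_f
    refine ⟨fun k₂ _ => isCoh_of_mono (P.map S.f) k₂ (hq _ h₁), fun k₁ k₃ => ?_⟩
    haveI := (hq _ h₂)
    haveI := (hq _ h₃)
    let g := P.map S.g
    have hI : Coh.IsCoh (Abelian.image g) := isCoh_of_mono (Abelian.image.ι g) k₃ (isQCoh_image g)
    have w : P.map S.f ≫ Abelian.factorThruImage g = 0 := by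
      rw [← cancel_mono (Abelian.image.ι g), Category.assoc, Abelian.image.fac, zero_comp, ← P.map_comp,
        S.zero, P.map_zero]
    refine isCoh_X₂ (S := ShortComplex.mk _ _ w)
      { mono_f := inferInstanceAs (Mono (P.map S.f))
        epi_g := inferInstanceAs (Epi (Abelian.factorThruImage g))
        exact := ShortComplex.exact_of_f_is_kernel _
          (isKernelOfComp (f := Abelian.factorThruImage g) (Abelian.image.ι g) g
            (KernelFork.mapIsLimit _ hS.fIsKernel P) w (Abelian.image.fac g)) } k₁ hI
  · let P := Scheme.Modules.pushforward f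
    let k : Fin d := ⟨0, hd⟩
    haveI : Mono (Limits.Sigma.ι (fun _ : Fin d => M) k) := inferInstance
    exact isCoh_of_mono (P.map (Limits.Sigma.ι (fun _ : Fin d => M) k)) hK (hq M hM)
  · obtain ⟨H, hH, hne, hK⟩ := hgen Z i
    exact ⟨H, hH, hne, isCoh_iso ((Scheme.Modules.pushforwardComp i f).symm.app H) hK⟩

end Groth.Agent.S10866
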