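import Mathlib.AlgebraicGeometry.Morphisms.Proper
import Mathlib.AlgebraicGeometry.Morphisms.ClosedImmersion
import Mathlib.FieldTheory.IsAlgClosed.Basic
import Mathlib.RingTheory.LocalRing.MaximalIdeal.Basic
import Groth.Agent.CAlgSmall.ClosedImmCriterion

set_option autoImplicit false
universe u
namespace Mor
end Mor
open Mor

namespace Groth.Agent.S10867

open CategoryTheory AlgebraicGeometry in
/-- In the case of an algebraically closed base field k and K = k: let X, Y be k-schemes of finite type
and f : X → Y a proper k-morphism which is injective on closed points and such that for every closed
point x of X the ideal generated by the image of the maximal ideal of the local ring at f(x),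
together with the square of the maximal ideal at x, is the whole maximal ideal at x (the cotangent
map is surjective, i.e. the tangent map at x is injective). Then f is a closed immersion. (The
published statement allows any field k and tests points and tangent spaces with values in an
algebraically closed extension K of k; this row is the case K = k.) -/
theorem result (k : Type u) [Field k] [IsAlgClosed k]
    {X Y : Scheme.{u}} (f : X ⟶ Y) (q : Y ⟶ Spec (CommRingCat.of k)) [LocallyOfFiniteType q] [QuasiCompact q]
    [LocallyOfFiniteType (f ≫ q)] [IsProper f]
    (hinj : Set.InjOn f.base {x : X | IsClosed ({x} : Set X)})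
    (hT : ∀ x : X, IsClosed ({x} : Set X) →
      Ideal.map (f.stalkMap x).hom (IsLocalRing.maximalIdeal (Y.presheaf.stalk (f.base x))) ⊔
        IsLocalRing.maximalIdeal (X.presheaf.stalk x) ^ 2 = IsLocalRing.maximalIdeal (X.presheaf.stalk x)) :
    IsClosedImmersion f := by
  exact Groth.Agent.CAlgSmall.isClosedImmersion_of_injOn_closedPoints f q hinj hT

end Groth.Agent.S10867
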