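import Groth.Prelude.Def_Mor2
import Mathlib.AlgebraicGeometry.Morphisms.Proper
import Mathlib.AlgebraicGeometry.Morphisms.Finite
import Mathlib.AlgebraicGeometry.QuasiAffine

set_option autoImplicit false
universe u
namespace Mor
end Mor
open Mor

namespace Groth.Agent.S10868

open CategoryTheory AlgebraicGeometry in
/-- f : X → Y is a finite morphism exactly when it is proper and quasi-affine (quasi-compact, with the
inverse image of every affine open subscheme of Y a quasi-affine scheme). -/
theorem result {X Y : Scheme.{u}} (f : X ⟶ Y) :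
    IsFinite f ↔ IsProper f ∧ Mor2.IsQuasiAffine f := by
  constructor
  · intro h
    refine ⟨inferInstance, inferInstance, fun V hV => ?_⟩
    haveI : IsAffine (f ⁻¹ᵁ V : Scheme.{u}) := hV.preimage f
    infer_instance
  · rintro ⟨hp, -, hq⟩
    refine IsFinite.iff_isProper_and_isAffineHom.2 ⟨hp, ⟨fun V hV => ?_⟩⟩
    haveI := hq V hV
    haveI : IsAffine (V : Scheme.{u}) := hV
    let W : Scheme.{u} := (f ⁻¹ᵁ V : X.Opens)
    have hfac : W.toSpecΓ ≫ Spec.map (f ∣_ V).appTop = (f ∣_ V) ≫ (V : Scheme.{u}).toSpecΓ :=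
      (Scheme.toSpecΓ_naturality _).symm
    haveI : UniversallyClosed (W.toSpecΓ ≫ Spec.map (f ∣_ V).appTop) := by rw [hfac]; infer_instance
    haveI : UniversallyClosed W.toSpecΓ := .of_comp_of_isSeparated _ (Spec.map (f ∣_ V).appTop)
    haveI : IsClosedImmersion W.toSpecΓ := .of_isPreimmersion _ W.toSpecΓ.isClosedMap.isClosed_range
    exact isAffine_of_isAffineHom W.toSpecΓ

end Groth.Agent.S10868
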