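import Groth.Statements.S10869
import Groth.Agent.AmpleLib.CounitEpi
import Groth.Agent.AmpleLib.Generated
import Groth.Agent.Desc19b.GGFpqc
import Groth.Agent.Coherent.QcohOps


set_option autoImplicit false
universe u
open Coh

open CategoryTheory CategoryTheory.Limits AlgebraicGeometry
open Groth.Agent Groth.Agent.Coherent
set_option backward.isDefEq.respectTransparency false
set_option backward.isDefEq.respectTransparency.types false

namespace Groth.Agent.S10869

open CategoryTheory AlgebraicGeometry in
/-- For f : X → S quasi-compact and quasi-separated and F a quasi-coherent O_X-module, the counit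
f^*f_*F → F is an epimorphism iff F is a quotient of f^*G for some quasi-coherent O_S-module G, iff
the restriction of F to the inverse image of every affine open of S is globally generated. -/
theorem result {X S : Scheme.{u}} (f : X ⟶ S) [QuasiCompact f] [QuasiSeparated f]
    (F : X.Modules) (hF : Coh.IsQCoh F) :
    (Epi ((Scheme.Modules.pullbackPushforwardAdjunction f).counit.app F) ↔
      ∃ G : S.Modules, Coh.IsQCoh G ∧ ∃ φ : (Scheme.Modules.pullback f).obj G ⟶ F, Epi φ) ∧
    (Epi ((Scheme.Modules.pullbackPushforwardAdjunction f).counit.app F) ↔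
      ∀ U : S.Opens, IsAffineOpen U → Curv2.IsGloballyGenerated (F.restrict (f ⁻¹ᵁ U).ι)) := by
  haveI := hF
  have h1 : Epi ((Scheme.Modules.pullbackPushforwardAdjunction f).counit.app F) ↔
      ∃ G : S.Modules, Coh.IsQCoh G ∧ ∃ φ : (Scheme.Modules.pullback f).obj G ⟶ F, Epi φ := by
    refine ⟨fun h => ⟨(Scheme.Modules.pushforward f).obj F, isQCoh_push f F,
      (Scheme.Modules.pullbackPushforwardAdjunction f).counit.app F, h⟩, ?_⟩
    rintro ⟨G, -, φ, hφ⟩
    have e : φ = (Scheme.Modules.pullback f).map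
        ((Scheme.Modules.pullbackPushforwardAdjunction f).homEquiv _ _ φ) ≫
          (Scheme.Modules.pullbackPushforwardAdjunction f).counit.app F :=
      (((Scheme.Modules.pullbackPushforwardAdjunction f).homEquiv G F).symm_apply_apply φ).symm.trans
        ((Scheme.Modules.pullbackPushforwardAdjunction f).homEquiv_counit _ _ _)
    rw [e] at hφ
    exact epi_of_epi ((Scheme.Modules.pullback f).map
      ((Scheme.Modules.pullbackPushforwardAdjunction f).homEquiv _ _ φ)) _
  refine ⟨h1, fun h U hU => ?_, fun h => AmpleLib.epi_counit_of_globallyGenerated f F fun x => ?_⟩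
  · obtain ⟨G, hG, φ, hφ⟩ := h1.1 h
    haveI := hφ
    haveI := hG
    haveI : IsAffine U.toScheme := hU
    haveI : Coh.IsQCoh (G.restrict U.ι) := inferInstance
    obtain ⟨I, p, hp⟩ := Desc19b.isGloballyGenerated_pullback (f ∣_ U)
      (AmpleLib.globallyGenerated_of_isQuasiAffine (G.restrict U.ι))
    let e : (Scheme.Modules.pullback (f ∣_ U)).obj (G.restrict U.ι) ≅
        (Scheme.Modules.restrictFunctor (f ⁻¹ᵁ U).ι).obj ((Scheme.Modules.pullback f).obj G) :=
      (Scheme.Modules.pullback (f ∣_ U)).mapIso ((Scheme.Modules.restrictFunctorIsoPullback U.ι).app G) ≪≫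
        (Scheme.Modules.pullbackComp (f ∣_ U) U.ι).app G ≪≫
        (Scheme.Modules.pullbackCongr (morphismRestrict_ι f U)).app G ≪≫
        ((Scheme.Modules.pullbackComp (f ⁻¹ᵁ U).ι f).app G).symm ≪≫
        ((Scheme.Modules.restrictFunctorIsoPullback (f ⁻¹ᵁ U).ι).app ((Scheme.Modules.pullback f).obj G)).symm
    refine ⟨I, p ≫ e.hom ≫ (Scheme.Modules.restrictFunctor (f ⁻¹ᵁ U).ι).map φ, ?_⟩
    haveI := hp
    haveI : Epi ((Scheme.Modules.restrictFunctor (f ⁻¹ᵁ U).ι).map φ) := inferInstance
    haveI : Epi (e.hom ≫ (Scheme.Modules.restrictFunctor (f ⁻¹ᵁ U).ι).map φ) := epi_comp _ _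
    exact epi_comp _ _
  · obtain ⟨_, ⟨V, hV, rfl⟩, hxV, -⟩ := S.isBasis_affineOpens.exists_subset_of_mem_open
      (Set.mem_univ (f x)) isOpen_univ
    exact ⟨V, hxV, h V hV⟩


end Groth.Agent.S10869
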