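import Groth.Statements.S1087
import Groth.Agent.CommAlg4.FilDTrunc
-- import your own Groth.Agent.* helpers here

set_option autoImplicit false
universe v u
open CategoryTheory CategoryTheory.Limits Opposite
open FilD

namespace Groth.Agent.S1087

/-- Let K be a cochain complex of finite filtered objects of an abelian category such that Hⁿ(grᵖ K) = 0
for all p and all n < a. Then there is a filtered quasi-isomorphism K ⟶ L with Lⁿ = 0 for all n < a. -/
theorem result {A : Type u} [Category.{v} A] [Abelian A] (K : CochainComplex (FilD.FilF A) ℤ) (a : ℤ)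
    (hK : ∀ (p n : ℤ), n < a → IsZero (((FilD.grCx p).obj K).homology n)) :
    ∃ (L : CochainComplex (FilD.FilF A) ℤ) (φ : K ⟶ L), L.IsStrictlyGE a ∧ FilD.IsFilteredQuasiIso φ := by
  have hK' : ∀ (p n : ℤ), n < a → ((FilD.grCx p).obj K).ExactAt n := fun p n hn =>
    (HomologicalComplex.exactAt_iff_isZero_homology _ _).2 (hK p n hn)
  refine Groth.Agent.CommAlg4.FilDTrunc.exists_truncGE K a ?_ hK'
  exact (Groth.Agent.CommAlg4.FilDStrict.strict_and_exact
    (ShortComplex.mk (K.d (a - 2) (a - 1)) (K.d (a - 1) a) (K.d_comp_d _ _ _)) fun p =>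
      ((HomologicalComplex.exactAt_iff' _ (a - 2) (a - 1) a (by simp; omega) (by simp)).1 (hK' p (a - 1) (by omega)) :)).2.2

end Groth.Agent.S1087
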