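import Groth.Statements.S10870
import Groth.Agent.Det5.Dim

set_option autoImplicit false
universe u
open CAlgX

namespace Groth.Agent.S10870

/-- For a field k and 0 ≤ r ≤ min(n, m), the affine determinantal scheme of n × m matrices of rank at
most r over k — the spectrum of the polynomial ring on the entries of the generic n × m matrix
modulo the ideal of its (r+1) × (r+1) minors — has dimension r(m + n − r). -/
theorem result (k : Type u) [Field k] (n m r : ℕ) (hr : r ≤ min n m) :
    ringKrullDim (MvPolynomial (Fin n × Fin m) k ⧸ CAlgX.minorIdeal (Matrix.of fun (i : Fin n) (j : Fin m) => (MvPolynomial.X (i, j) : MvPolynomial (Fin n × Fin m) k)) (r + 1)) =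
      ((r * (m + n - r) : ℕ) : WithBot ℕ∞) := Groth.Agent.Det5.ringKrullDim_dI k hr

end Groth.Agent.S10870
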