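import Groth.Statements.S10871
import Mathlib
import Groth.Prelude

set_option linter.all false

set_option autoImplicit false
universe u
open AlgebraicGeometry
open Curves

open CategoryTheory AlgebraicGeometry

namespace Groth.Agent.S10871

theorem locally_principal (A : Type u) [CommRing A] [IsDedekindDomain A] (I : Ideal A) (p : Ideal A) [p.IsPrime] :
    ∃ f ∉ p, ∃ a ∈ I, ∀ x ∈ I, a ∣ f * x := by
  haveI : IsDedekindDomain (Localization.AtPrime p) :=
    IsLocalization.isDedekindDomain A (Ideal.primeCompl_le_nonZeroDivisors p) _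
  haveI : Finite (MaximalSpectrum (Localization.AtPrime p)) := inferInstance
  haveI : IsPrincipalIdealRing (Localization.AtPrime p) :=
    IsPrincipalIdealRing.of_finite_maximals (by
      rcases IsLocalRing.maximal_ideal_unique (Localization.AtPrime p) with ⟨m, hm, hu⟩
      exact (Set.finite_singleton m).subset fun I hI => hu I hI)
  obtain ⟨g, hg⟩ := (IsPrincipalIdealRing.principal (I.map (algebraMap A (Localization.AtPrime p)))).principal
  have hgmem : g ∈ I.map (algebraMap A (Localization.AtPrime p)) := hg ▸ Submodule.mem_span_singleton_self g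
  obtain ⟨⟨a, s⟩, hs⟩ := (IsLocalization.mem_map_algebraMap_iff p.primeCompl _).1 hgmem
  obtain ⟨S, hS⟩ := (IsNoetherian.noetherian I : I.FG)
  have key : ∀ x ∈ I, ∃ t ∉ p, (a : A) ∣ t * x := by
    intro x hx
    have : algebraMap A (Localization.AtPrime p) x ∈ Submodule.span (Localization.AtPrime p) {g} := hg ▸ Ideal.mem_map_of_mem _ hx
    obtain ⟨c, hc⟩ := Submodule.mem_span_singleton.1 this
    obtain ⟨⟨b, t⟩, ht⟩ := IsLocalization.surj p.primeCompl c
    have e : algebraMap A (Localization.AtPrime p) ((t : A) * s * x) = algebraMap A _ (b * a) := by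
      simp only [map_mul, ← hc, ← hs, ← ht, smul_eq_mul]; ring
    obtain ⟨w, hw⟩ := (IsLocalization.eq_iff_exists p.primeCompl _).1 e
    exact ⟨(w : A) * t * s, p.primeCompl.mul_mem (p.primeCompl.mul_mem w.2 t.2) s.2, ⟨w * b, by linear_combination hw⟩⟩
  choose t ht hdvd using key
  refine ⟨∏ x : S, t x.1 (hS ▸ Submodule.subset_span x.2), p.primeCompl.prod_mem fun x _ => ht _ _, a, a.2, fun x hx => ?_⟩
  rw [← hS] at hx
  induction hx using Submodule.span_induction with
  | mem x hx' =>
    obtain ⟨c, hc⟩ := Finset.dvd_prod_of_mem (fun x : S => t x.1 (hS ▸ Submodule.subset_span x.2)) (Finset.mem_univ ⟨x, hx'⟩)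
    rw [hc, mul_right_comm]
    exact dvd_mul_of_dvd_left (hdvd x _) _
  | zero => simp
  | add x y _ _ hx hy => rw [mul_add]; exact dvd_add hx hy
  | smul r x _ hx => rw [smul_eq_mul, mul_left_comm]; exact dvd_mul_of_dvd_right hx r

/-- Every open subscheme of the spectrum of a Dedekind domain is affine. -/
theorem result (A : Type u) [CommRing A] [IsDedekindDomain A]
    (U : (Spec (CommRingCat.of A)).Opens) : IsAffineOpen U := by
  classical
  obtain ⟨I, hI⟩ := (PrimeSpectrum.isClosed_iff_zeroLocus_ideal _).1 (U.isOpen.isClosed_compl)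
  let R := CommRingCat.of A
  let F : Set A := {f | ∃ a ∈ I, ∀ x ∈ I, a ∣ f * x}
  have hF : Ideal.span F = ⊤ := by
    by_contra h
    obtain ⟨m, hm, hle⟩ := Ideal.exists_le_maximal _ h
    obtain ⟨f, hf, hmem⟩ := locally_principal A I m
    exact hf (hle (Ideal.subset_span hmem))
  let φ : A →+* Γ(Spec R, U) := ((Scheme.ΓSpecIso R).inv ≫ (Spec R).presheaf.map (homOfLE le_top).op).hom
  refine isAffineOpen_of_isAffineOpen_basicOpen U (φ '' F) ?_ ?_
  · rw [← Ideal.map_span, hF, Ideal.map_top]
  · rintro _ ⟨f, ⟨a, ha, hdiv⟩, rfl⟩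
    have e : (Spec R).basicOpen (φ f) = PrimeSpectrum.basicOpen (f * a) := by
      show (Spec R).basicOpen ((Spec R).presheaf.map (homOfLE le_top).op ((Scheme.ΓSpecIso R).inv f)) = _
      rw [Scheme.basicOpen_res, basicOpen_eq_of_affine]
      apply TopologicalSpace.Opens.ext
      ext q
      have hq : q ∈ (U : Set (Spec R)) ↔ ¬ I ≤ q.asIdeal := by
        have := Set.ext_iff.1 hI q
        exact ⟨fun h hle => this.2 hle h, fun h => by_contra fun h' => h (this.1 h')⟩
      show (q ∈ (U : Set (Spec R)) ∧ f ∉ q.asIdeal) ↔ f * a ∉ q.asIdeal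
      rw [hq]
      constructor
      · rintro ⟨h1, h2⟩ h
        rcases q.isPrime.mem_or_mem h with h | h
        · exact h2 h
        · refine h1 fun x hx => ?_
          obtain ⟨c, hc⟩ := hdiv x hx
          exact (q.isPrime.mem_or_mem (hc ▸ q.asIdeal.mul_mem_right c h)).resolve_left h2
      · exact fun h => ⟨fun hle => h (q.asIdeal.mul_mem_left _ (hle ha)), fun hf => h (q.asIdeal.mul_mem_right _ hf)⟩
    show IsAffineOpen ((Spec R).basicOpen (φ f))
    rw [e]
    exact IsAffineOpen.Spec_basicOpen (R := R) (f * a)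

end Groth.Agent.S10871
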