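import Groth.Statements.S10876
import Groth.Agent.CAlgH3.FlatDescent
import Mathlib.RingTheory.Filtration
import Mathlib.RingTheory.Artinian.Module
import Mathlib.RingTheory.Ideal.GoingUp

set_option autoImplicit false
universe u
open TensorProduct
open CAlg

namespace Groth.Agent.S10876

/-- Descent of flatness along finite injective maps: let A → B be a local homomorphism of Noetherian
local rings and A → A' an injective ring homomorphism making A' a finite A-module. Then B is A-flat
if and only if the base change A' ⊗_A B is A'-flat. -/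
theorem result (A B A' : Type u) [CommRing A] [CommRing B]
    [CommRing A'] [IsNoetherianRing A] [IsLocalRing A] [IsNoetherianRing B] [IsLocalRing B]
    [Algebra A B] [IsLocalHom (algebraMap A B)] [Algebra A A'] [Module.Finite A A']
    (hinj : Function.Injective (algebraMap A A')) :
    Module.Flat A B ↔ Module.Flat A' (A' ⊗[A] B) := by
  refine ⟨fun h => inferInstance, fun h => ?_⟩
  classical
  have : Nontrivial A' := hinj.nontrivial
  have : IsNoetherianRing A' := Algebra.FiniteType.isNoetherianRing A A'
  have : Algebra.IsIntegral A A' := Algebra.IsIntegral.of_finite A A'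
  set m := IsLocalRing.maximalIdeal A
  have hmax : ∀ P : Ideal A', P.IsMaximal → P.comap (algebraMap A A') = m := fun P hP =>
    IsLocalRing.eq_maximalIdeal (Ideal.isMaximal_comap_of_isIntegral_of_isMaximal P)
  have hrad : (Ideal.jacobson (⊥ : Ideal A')).comap (algebraMap A A') = m := by
    apply le_antisymm
    · obtain ⟨P, hP⟩ := Ideal.exists_maximal A'
      refine (Ideal.comap_mono ?_).trans (hmax P hP).le
      exact sInf_le ⟨bot_le, hP⟩
    · intro x hx
      rw [Ideal.mem_comap, Ideal.jacobson, Submodule.mem_sInf]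
      rintro P ⟨-, hP⟩
      exact (hmax P hP).ge hx
  have hJ : Ideal.jacobson (⊥ : Ideal A') ≤ (m.map (algebraMap A A')).radical := by
    rw [Ideal.radical_eq_sInf]
    refine le_sInf fun P ⟨hle, hP⟩ => sInf_le ⟨bot_le, ?_⟩
    have : (P.comap (algebraMap A A')).IsMaximal := by
      rw [show P.comap (algebraMap A A') = m from ((IsLocalRing.maximalIdeal.isMaximal A).eq_of_le
        (Ideal.IsPrime.comap (algebraMap A A')).ne_top (Ideal.map_le_iff_le_comap.1 hle)).symm]
      infer_instance
    exact Ideal.isMaximal_of_isIntegral_of_isMaximal_comap P this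
  obtain ⟨e, he⟩ := Ideal.exists_pow_le_of_le_radical_of_fg hJ (IsNoetherian.noetherian _)
  obtain ⟨c, hc⟩ := Ideal.exists_pow_inf_eq_pow_smul m (LinearMap.range (Algebra.linearMap A A'))
  refine CAlgH3.flat_descent_of_adic _ hrad fun n => ⟨e * (n + c), fun x hx => ?_⟩
  have h1 : algebraMap A A' x ∈ (m ^ (n + c) • ⊤ : Submodule A A') := by
    rw [Ideal.smul_top_eq_map, Submodule.restrictScalars_mem, Ideal.map_pow]
    exact Ideal.pow_right_mono he (n + c) (pow_mul (Ideal.jacobson (⊥ : Ideal A')) e (n + c) ▸ hx)
  have h2 : algebraMap A A' x ∈ m ^ (n + c) • ⊤ ⊓ LinearMap.range (Algebra.linearMap A A') :=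
    ⟨h1, x, rfl⟩
  rw [hc (n + c) (by omega), Nat.add_sub_cancel] at h2
  have h3 : algebraMap A A' x ∈ (m ^ n • (⊤ : Submodule A A)).map (Algebra.linearMap A A') := by
    rw [Submodule.map_smul'', Submodule.map_top]
    exact Submodule.smul_mono le_rfl inf_le_right h2
  obtain ⟨y, hy, hye⟩ := h3
  rw [← hinj hye]
  simpa using hy

end Groth.Agent.S10876
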