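import Groth.Statements.S10877
import Groth.Agent.FlatMor12.DenseImmersion

set_option autoImplicit false
universe u
open CategoryTheory AlgebraicGeometry
open FlatMor

namespace Groth.Agent.S10877

/-- A separated morphism f : X → Y, with X having finitely many irreducible components, which restricts
to an open immersion on each member of a cover of X by dense open subsets, is an open immersion. -/
theorem result {X Y : Scheme.{u}} (f : X ⟶ Y) [IsSeparated f]
    (hfin : (irreducibleComponents (X : Type u)).Finite) {ι : Type u} (U : ι → X.Opens)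
    (hU : ⨆ i, U i = ⊤) (hd : ∀ i, Dense (U i : Set X)) (h : ∀ i, IsOpenImmersion ((U i).ι ≫ f)) :
    IsOpenImmersion f := by
  have := FlatMor12.DenseImmersion.isImmersion f hfin U hU hd (fun i => inferInstance)
  refine isOpenImmersion_iff_stalk.2 ⟨⟨f.isEmbedding, ?_⟩, fun x => ?_⟩
  · have : Set.range f = ⋃ i, Set.range ((U i).ι ≫ f) := by
      simp only [Scheme.Hom.comp_base, TopCat.coe_comp, Set.range_comp, Scheme.Opens.range_ι, ← Set.image_iUnion]
      rw [show (⋃ i, (U i : Set X)) = Set.univ from by rw [← TopologicalSpace.Opens.coe_iSup, hU]; rfl, Set.image_univ]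
    rw [this]
    exact isOpen_iUnion fun i => ((U i).ι ≫ f).isOpenEmbedding.isOpen_range
  · obtain ⟨i, hxi⟩ := TopologicalSpace.Opens.mem_iSup.1 (hU ▸ TopologicalSpace.Opens.mem_top x : x ∈ iSup U)
    let y : (U i).toScheme := ⟨x, hxi⟩
    have h1 : IsIso (((U i).ι ≫ f).stalkMap y) := inferInstance
    rw [Scheme.Hom.stalkMap_comp] at h1
    exact @IsIso.of_isIso_comp_right _ _ _ _ _ (f.stalkMap ((U i).ι y)) ((U i).ι.stalkMap y) inferInstance h1

end Groth.Agent.S10877
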