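import Groth.Statements.S10879
import Groth.Agent.AbVarLib.DenseExt
import Mathlib.AlgebraicGeometry.FunctionField
import Mathlib.AlgebraicGeometry.Morphisms.Flat
import Mathlib.AlgebraicGeometry.Morphisms.UniversallyOpen
import Mathlib.RingTheory.Flat.FaithfullyFlat.Algebra
import Mathlib.AlgebraicGeometry.Morphisms.Affine

set_option autoImplicit false
set_option backward.isDefEq.respectTransparency false
universe u
open CategoryTheory AlgebraicGeometry
open FlatMor

namespace Groth.Agent.S10879

/-- A faithfully flat birational map of domains is bijective. -/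
theorem bijective_of_ff {A B : Type u} [CommRing A] [CommRing B] [IsDomain B] [Algebra A B]
    [Module.FaithfullyFlat A B]
    (hden : ∀ b : B, ∃ a s : A, algebraMap A B s ≠ 0 ∧ algebraMap A B s * b = algebraMap A B a) :
    Function.Bijective (algebraMap A B) := by
  refine ⟨FaithfulSMul.algebraMap_injective A B, fun b => ?_⟩
  obtain ⟨a, s, hs, hab⟩ := hden b
  have h1 : a ∈ ((Ideal.span {s}).map (algebraMap A B)).comap (algebraMap A B) := by
    rw [Ideal.mem_comap, ← hab]
    exact Ideal.mul_mem_right _ _ (Ideal.mem_map_of_mem _ (Ideal.mem_span_singleton_self s))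
  rw [Ideal.comap_map_eq_self_of_faithfullyFlat, Ideal.mem_span_singleton'] at h1
  obtain ⟨a', rfl⟩ := h1
  refine ⟨a', ?_⟩
  rw [map_mul, mul_comm (algebraMap A B a')] at hab
  exact (mul_left_cancel₀ hs hab).symm

variable {X' X : Scheme.{u}} [IsIntegral X'] [IsIntegral X] (f : X' ⟶ X) [Surjective f]

theorem map_genericPoint : f (genericPoint X') = genericPoint X := by
  obtain ⟨x, hx⟩ := f.surjective (genericPoint X)
  exact (Specializes.antisymm (hx ▸ (genericPoint_specializes x).map f.continuous) (genericPoint_specializes _)).eq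

/-- Fractions on an affine open. -/
theorem exists_fraction (hK : IsIso (f.stalkMap (genericPoint X'))) {V : X.Opens} (hV : IsAffineOpen V)
    (hne : genericPoint X ∈ V) (b : X'.presheaf.stalk (genericPoint X')) :
    ∃ a s : Γ(X, V), f.stalkMap (genericPoint X') (X.presheaf.germ V _ (by rw [map_genericPoint f]; exact hne) s) ≠ 0 ∧
      f.stalkMap (genericPoint X') (X.presheaf.germ V _ (by rw [map_genericPoint f]; exact hne) s) * b =
        f.stalkMap (genericPoint X') (X.presheaf.germ V _ (by rw [map_genericPoint f]; exact hne) a) := by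
  have hy : f (genericPoint X') ∈ V := by rw [map_genericPoint f]; exact hne
  obtain ⟨c, rfl⟩ := ((ConcreteCategory.isIso_iff_bijective (f.stalkMap (genericPoint X'))).1 hK).2 b
  letI := TopCat.Presheaf.algebra_section_stalk X.presheaf (⟨f (genericPoint X'), hy⟩ : V)
  haveI := hV.isLocalization_stalk ⟨f (genericPoint X'), hy⟩
  obtain ⟨⟨a, s⟩, h⟩ := IsLocalization.surj (hV.primeIdealOf ⟨f (genericPoint X'), hy⟩).asIdeal.primeCompl c
  refine ⟨a, s.1, ?_, ?_⟩
  · exact ((IsLocalization.map_units (X.presheaf.stalk (f (genericPoint X'))) s).map (f.stalkMap (genericPoint X')).hom).ne_zero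
  · rw [← map_mul]
    exact congrArg _ ((mul_comm _ c).trans h)

theorem isIso_of_affine [Flat f] [IsAffineHom f] (hK : IsIso (f.stalkMap (genericPoint X'))) : IsIso f := by
  have key : ∀ V : X.Opens, IsAffineOpen V → IsIso (f.app V) := by
    intro V hV
    by_cases hne : genericPoint X ∈ V
    · have hU : IsAffineOpen (f ⁻¹ᵁ V) := hV.preimage f
      have hξ : genericPoint X' ∈ f ⁻¹ᵁ V := by show f _ ∈ V; rw [map_genericPoint f]; exact hne
      haveI : Nonempty (f ⁻¹ᵁ V) := ⟨⟨_, hξ⟩⟩
      letI := (f.app V).hom.toAlgebra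
      haveI : Module.Flat Γ(X, V) Γ(X', f ⁻¹ᵁ V) := by
        have := f.flat_appLE hV hU le_rfl
        rwa [← Scheme.Hom.app_eq_appLE] at this
      have hsurj : Function.Surjective (PrimeSpectrum.comap (algebraMap Γ(X, V) Γ(X', f ⁻¹ᵁ V))) := by
        intro p
        have hpV : hV.fromSpec p ∈ V := by
          rw [← SetLike.mem_coe, ← hV.range_fromSpec]; exact ⟨p, rfl⟩
        obtain ⟨x, hx⟩ := f.surjective (hV.fromSpec p)
        have hxU : x ∈ f ⁻¹ᵁ V := by show f x ∈ V; rw [hx]; exact hpV
        refine ⟨hU.primeIdealOf ⟨x, hxU⟩, hV.fromSpec.isOpenEmbedding.injective ?_⟩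
        show hV.fromSpec (Spec.map (f.app V) (hU.primeIdealOf ⟨x, hxU⟩)) = hV.fromSpec p
        rw [← Scheme.Hom.comp_apply, Scheme.Hom.app_eq_appLE, hV.SpecMap_appLE_fromSpec f hU le_rfl,
          Scheme.Hom.comp_apply, hU.fromSpec_primeIdealOf]
        exact hx
      haveI : Module.FaithfullyFlat Γ(X, V) Γ(X', f ⁻¹ᵁ V) := Module.FaithfullyFlat.of_comap_surjective hsurj
      haveI : IsDomain Γ(X', f ⁻¹ᵁ V) := inferInstance
      refine (ConcreteCategory.isIso_iff_bijective _).2 (bijective_of_ff (A := Γ(X, V)) (B := Γ(X', f ⁻¹ᵁ V)) fun b => ?_)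
      obtain ⟨a, s, hs, hab⟩ := exists_fraction f hK hV hne (X'.presheaf.germ _ _ hξ b)
      rw [Scheme.Hom.germ_stalkMap_apply] at hs
      rw [Scheme.Hom.germ_stalkMap_apply, Scheme.Hom.germ_stalkMap_apply, ← map_mul] at hab
      exact ⟨a, s, fun h0 => hs (by
        show X'.presheaf.germ (f ⁻¹ᵁ V) _ _ (algebraMap Γ(X, V) Γ(X', f ⁻¹ᵁ V) s) = 0
        rw [h0, map_zero]), germ_injective_of_isIntegral X' _ hξ hab⟩
    · have hbot : V = ⊥ := TopologicalSpace.Opens.ext (Set.eq_empty_of_forall_notMem fun x hx =>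
        hne ((genericPoint_specializes x).mem_open V.isOpen hx))
      subst hbot
      haveI : Subsingleton Γ(X', f ⁻¹ᵁ ⊥) := by rw [Scheme.Hom.preimage_bot]; infer_instance
      exact (ConcreteCategory.isIso_iff_bijective _).2
        ⟨fun a b _ => Subsingleton.elim _ _, fun b => ⟨0, Subsingleton.elim _ _⟩⟩
  refine (IsZariskiLocalAtTarget.iff_of_iSup_eq_top (P := MorphismProperty.isomorphisms Scheme) _
    (iSup_affineOpens_eq_top X)).2 fun V => ?_
  show IsIso (f ∣_ V.1)
  haveI : IsAffine (↑V.1 : Scheme.{u}) := V.2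
  haveI : IsAffine (↑(f ⁻¹ᵁ V.1) : Scheme.{u}) := V.2.preimage f
  haveI := key V.1 V.2
  exact (HasAffineProperty.iff_of_isAffine (P := MorphismProperty.isomorphisms Scheme)).2
    ⟨inferInstance, by
      rw [morphismRestrict_appTop]
      exact @IsIso.comp_isIso _ _ _ _ _ _ _ (key (V.1.ι ''ᵁ ⊤) (by rw [Scheme.Opens.ι_image_top]; exact V.2)) inferInstance⟩

theorem eq_of_stalks [IsSeparated f] (hK : IsIso (f.stalkMap (genericPoint X'))) {x₁ x₂ : X'} (he : f x₁ = f x₂)
    [IsIso (f.stalkMap x₁)] [IsIso (f.stalkMap x₂)] : x₁ = x₂ := by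
  let y := f x₁
  let e₂ : X.presheaf.stalk (f x₂) ≅ X.presheaf.stalk y := X.presheaf.stalkCongr (Inseparable.of_eq he.symm)
  let b₁ : X'.presheaf.stalk x₁ ⟶ X.presheaf.stalk y := inv (f.stalkMap x₁)
  let b₂ : X'.presheaf.stalk x₂ ⟶ X.presheaf.stalk y := inv (f.stalkMap x₂) ≫ e₂.hom
  let a₁ : Spec (X.presheaf.stalk y) ⟶ X' := Spec.map b₁ ≫ X'.fromSpecStalk x₁
  let a₂ : Spec (X.presheaf.stalk y) ⟶ X' := Spec.map b₂ ≫ X'.fromSpecStalk x₂
  have h1 : a₁ ≫ f = X.fromSpecStalk y := by
    rw [Category.assoc, ← Scheme.SpecMap_stalkMap_fromSpecStalk, ← Spec.map_comp_assoc, IsIso.hom_inv_id, Spec.map_id,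
      Category.id_comp]
  have h2 : a₂ ≫ f = X.fromSpecStalk y := by
    rw [Category.assoc, ← Scheme.SpecMap_stalkMap_fromSpecStalk, ← Spec.map_comp_assoc]
    simp only [b₂, ← Category.assoc, IsIso.hom_inv_id, Category.id_comp]
    exact Scheme.SpecMap_stalkSpecializes_fromSpecStalk (specializes_of_eq he)
  let ξ := genericPoint X'
  have hξy : f ξ ⤳ y := by rw [map_genericPoint f]; exact genericPoint_specializes _
  let g : X.presheaf.stalk y ⟶ X'.presheaf.stalk ξ := X.presheaf.stalkSpecializes hξy ≫ f.stalkMap ξ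
  have hg : ∀ (x : X') (hx : f x = y) (b : X'.presheaf.stalk x ⟶ X.presheaf.stalk y),
      f.stalkMap x ≫ b = X.presheaf.stalkSpecializes (specializes_of_eq hx.symm) →
      IsIso (f.stalkMap x) → b ≫ g = X'.presheaf.stalkSpecializes (genericPoint_specializes x) := by
    intro x hx b hb hi
    haveI := hi
    rw [← cancel_epi (f.stalkMap x), reassoc_of% hb]
    simp only [g]
    rw [TopCat.Presheaf.stalkSpecializes_comp_assoc]
    exact Scheme.Hom.stalkSpecializes_stalkMap f ξ x (genericPoint_specializes x)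
  have hinjg : Function.Injective g.hom := by
    show Function.Injective (⇑(f.stalkMap ξ) ∘ ⇑(X.presheaf.stalkSpecializes hξy))
    refine Function.Injective.comp ((ConcreteCategory.isIso_iff_bijective (f.stalkMap ξ)).1 hK).1 ?_
    have h0 : f ξ = genericPoint X := map_genericPoint f
    have : X.presheaf.stalkSpecializes hξy = X.presheaf.stalkSpecializes (genericPoint_specializes y) ≫
        X.presheaf.stalkSpecializes (specializes_of_eq h0) := by
      rw [TopCat.Presheaf.stalkSpecializes_comp]
    rw [this]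
    exact ((ConcreteCategory.isIso_iff_bijective (X.presheaf.stalkCongr (Inseparable.of_eq h0.symm)).hom).1
      inferInstance).1.comp (IsFractionRing.injective (X.presheaf.stalk y) X.functionField)
  haveI : IsSchemeTheoreticallyDominant (Spec.map g) :=
    LieSLib.isSchemeTheoreticallyDominant_spec _ hinjg
  have e : a₁ = a₂ := AbVarLib.ext_of_isSchemeTheoreticallyDominant (Spec.map g) _ f a₁ a₂ h1 h2 (by
    simp only [a₁, a₂]
    rw [← Spec.map_comp_assoc, ← Spec.map_comp_assoc,
      hg x₁ rfl b₁ (by simp only [b₁, IsIso.hom_inv_id, TopCat.Presheaf.stalkSpecializes_refl]; rfl) inferInstance,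
      hg x₂ he.symm b₂ (by simp only [b₂, IsIso.hom_inv_id_assoc]; rfl) inferInstance,
      Scheme.SpecMap_stalkSpecializes_fromSpecStalk, Scheme.SpecMap_stalkSpecializes_fromSpecStalk])
  have k1 : ∀ (x : X') (b : X'.presheaf.stalk x ⟶ X.presheaf.stalk y) (_ : IsIso b),
      (Spec.map b ≫ X'.fromSpecStalk x) (IsLocalRing.closedPoint _) = x := by
    intro x b _
    haveI : IsLocalHom b.hom := inferInstanceAs (IsLocalHom b.hom)
    rw [Scheme.Hom.comp_apply, Spec_closedPoint, Scheme.fromSpecStalk_closedPoint]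
  have := congrArg (fun a : Spec (X.presheaf.stalk y) ⟶ X' => a (IsLocalRing.closedPoint _)) e
  simp only [a₁, a₂] at this
  rwa [k1 x₁ b₁ (by infer_instance), k1 x₂ b₂ (by simp only [b₂]; infer_instance)] at this

theorem isIso_of_lfp [Flat f] [IsSeparated f] [LocallyOfFinitePresentation f]
    (hK : IsIso (f.stalkMap (genericPoint X'))) : IsIso f := by
  have hstalk : ∀ x, IsIso (f.stalkMap x) := by
    intro x
    algebraize [(f.stalkMap x).hom]
    haveI : Module.Flat (X.presheaf.stalk (f x)) (X'.presheaf.stalk x) := Flat.stalkMap f x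
    haveI : IsLocalHom (algebraMap (X.presheaf.stalk (f x)) (X'.presheaf.stalk x)) :=
      inferInstanceAs (IsLocalHom (f.stalkMap x).hom)
    haveI : Module.FaithfullyFlat (X.presheaf.stalk (f x)) (X'.presheaf.stalk x) :=
      Module.FaithfullyFlat.of_flat_of_isLocalHom
    haveI : IsDomain (X'.presheaf.stalk x) :=
      Function.Injective.isDomain _ (IsFractionRing.injective (X'.presheaf.stalk x) X'.functionField)
    refine (ConcreteCategory.isIso_iff_bijective _).2 (bijective_of_ff (A := X.presheaf.stalk (f x)) (B := X'.presheaf.stalk x) fun b => ?_)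
    obtain ⟨V, hV, hxV, -⟩ := exists_isAffineOpen_mem_and_subset (x := f x) (U := ⊤) trivial
    have hne : genericPoint X ∈ V := (genericPoint_specializes _).mem_open V.isOpen hxV
    let hsp : genericPoint X' ⤳ x := genericPoint_specializes x
    obtain ⟨a, s, hs, hab⟩ := exists_fraction f hK hV hne (X'.presheaf.stalkSpecializes hsp b)
    have e : ∀ t : Γ(X, V), f.stalkMap (genericPoint X') (X.presheaf.germ V _ (by rw [map_genericPoint f]; exact hne) t) =
        X'.presheaf.stalkSpecializes hsp (f.stalkMap x (X.presheaf.germ V _ hxV t)) := fun t => by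
      rw [← Scheme.Hom.stalkSpecializes_stalkMap_apply f _ x hsp, TopCat.Presheaf.germ_stalkSpecializes_apply]
    rw [e] at hs
    rw [e, e, ← map_mul] at hab
    refine ⟨X.presheaf.germ V _ hxV a, X.presheaf.germ V _ hxV s, fun h0 => hs (?_), ?_⟩
    · show X'.presheaf.stalkSpecializes hsp (algebraMap (X.presheaf.stalk (f x)) (X'.presheaf.stalk x) _) = 0
      rw [h0, map_zero]
    · exact IsFractionRing.injective (X'.presheaf.stalk x) X'.functionField hab
  have hinj : Function.Injective f := by
    intro x₁ x₂ he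
    haveI := hstalk x₁
    haveI := hstalk x₂
    exact eq_of_stalks f hK he
  have hbij : Function.Bijective f := ⟨hinj, f.surjective⟩
  haveI : IsOpenImmersion f := isOpenImmersion_iff_stalk.2
    ⟨Topology.IsOpenEmbedding.of_continuous_injective_isOpenMap f.continuous hinj f.isOpenMap, hstalk⟩
  exact (isIso_iff_isOpenImmersion_and_surjective f).2 ⟨inferInstance, inferInstance⟩


/-- Take integral schemes X' and X and a separated surjective morphism f : X' → X which is birational in
the sense that the induced map of function fields (the stalk map of f at the generic point of X') is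
an isomorphism, and suppose f is affine (e.g. a normalization) or locally of finite presentation
(e.g. a blow-up of a Noetherian integral scheme). Then f is flat exactly when it is an isomorphism. -/
theorem result {X' X : Scheme.{u}} [IsIntegral X'] [IsIntegral X]
    (f : X' ⟶ X) [Surjective f] [IsSeparated f] (hK : IsIso (f.stalkMap (genericPoint X')))
    (h : IsAffineHom f ∨ LocallyOfFinitePresentation f) :
    Flat f ↔ IsIso f := by
  refine ⟨fun hflat => ?_, fun _ => inferInstance⟩
  rcases h with h | h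
  · exact isIso_of_affine f hK
  · exact isIso_of_lfp f hK

end Groth.Agent.S10879
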