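import Groth.Statements.S10880
import Mathlib.AlgebraicGeometry.Fiber
import Mathlib.AlgebraicGeometry.Morphisms.Flat
import Mathlib.AlgebraicGeometry.Noetherian
import Mathlib.AlgebraicGeometry.FunctionField
import Mathlib.RingTheory.Flat.TorsionFree
import Mathlib.RingTheory.Nakayama
import Mathlib.RingTheory.DiscreteValuationRing.Basic

set_option autoImplicit false
universe u
open CategoryTheory CategoryTheory.Limits AlgebraicGeometry TensorProduct

namespace Groth.Agent.S10880

/-- A non-zerodivisor criterion: reduced quotient and outside every minimal prime. -/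
theorem eq_zero_of_mul {A : Type u} [CommRing A] [IsNoetherianRing A] (π : A)
    (hred : ∀ (a : A) (n : ℕ), a ^ n ∈ Ideal.span {π} → a ∈ Ideal.span {π})
    (hmin : ∀ P ∈ minimalPrimes A, π ∉ P) {a : A} (ha : π * a = 0) : a = 0 := by
  have key : ∀ b : A, π * b ∈ nilradical A → b ∈ nilradical A := fun b hb => by
    have hb' : π * b ∈ sInf ((⊥ : Ideal A).minimalPrimes) := by
      rwa [Ideal.sInf_minimalPrimes]
    show b ∈ (⊥ : Ideal A).radical
    rw [← Ideal.sInf_minimalPrimes, Submodule.mem_sInf]
    intro P hP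
    exact (hP.1.1.mem_or_mem ((Submodule.mem_sInf.1 hb') P hP)).resolve_left (hmin P hP)
  have hle : nilradical A ≤ Ideal.span {π} • nilradical A := fun x hx => by
    obtain ⟨n, hn⟩ := mem_nilradical.1 hx
    obtain ⟨b, rfl⟩ := Ideal.mem_span_singleton'.1 (hred x n (hn ▸ zero_mem _))
    rw [mul_comm] at hx ⊢
    exact Submodule.smul_mem_smul (Ideal.mem_span_singleton_self π) (key b hx)
  obtain ⟨r, hr, hr0⟩ := Submodule.exists_sub_one_mem_and_smul_eq_zero_of_fg_of_le_smul _ _
    (IsNoetherian.noetherian _) hle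
  obtain ⟨c, hc⟩ := Ideal.mem_span_singleton'.1 hr
  have h1 : r * a = 0 := hr0 a (key a (ha ▸ zero_mem _))
  have h2 : r = c * π + 1 := by rw [hc]; ring
  rw [h2, add_mul, one_mul, mul_assoc, ha, mul_zero, zero_add] at h1
  exact h1

/-- The affine case. -/
theorem flat_affine (R : Type u) [CommRing R] [IsDomain R] [IsDiscreteValuationRing R] (A : Type u)
    [CommRing A] [IsNoetherianRing A] [Algebra R A]
    (hred : _root_.IsReduced (A ⊗[R] (IsLocalRing.maximalIdeal R).ResidueField))
    (hdense : ∀ s : A, ¬ IsNilpotent s → ∃ P : Ideal A, P.IsPrime ∧ s ∉ P ∧ P.comap (algebraMap R A) = ⊥) :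
    Module.Flat R A := by
  classical
  obtain ⟨π, hπ⟩ := IsDiscreteValuationRing.exists_irreducible R
  let p := algebraMap R A π
  have hm : IsLocalRing.maximalIdeal R = Ideal.span {π} := hπ.maximalIdeal_eq
  have hred' : ∀ (a : A) (n : ℕ), a ^ n ∈ Ideal.span {p} → a ∈ Ideal.span {p} := by
    let κ := (IsLocalRing.maximalIdeal R).ResidueField
    let e : A ⊗[R] (R ⧸ IsLocalRing.maximalIdeal R) ≃ₐ[R] A ⊗[R] κ :=
      Algebra.TensorProduct.congr AlgEquiv.refl
        (AlgEquiv.ofBijective (IsScalarTower.toAlgHom R (R ⧸ IsLocalRing.maximalIdeal R) κ)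
          (Ideal.bijective_algebraMap_quotient_residueField _))
    let e' : (A ⧸ (IsLocalRing.maximalIdeal R).map (algebraMap R A)) ≃ₐ[A] A ⊗[R] (R ⧸ IsLocalRing.maximalIdeal R) :=
      Algebra.TensorProduct.quotIdealMapEquivTensorQuot A _
    have : _root_.IsReduced (A ⧸ (IsLocalRing.maximalIdeal R).map (algebraMap R A)) :=
      isReduced_of_injective (e.toRingEquiv.toRingHom.comp e'.toRingEquiv.toRingHom)
        (e.injective.comp e'.injective)
    intro a n han
    rw [show Ideal.span {p} = (IsLocalRing.maximalIdeal R).map (algebraMap R A) by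
      rw [hm, Ideal.map_span, Set.image_singleton]] at han ⊢
    rw [← Ideal.Quotient.eq_zero_iff_mem] at han ⊢
    exact IsNilpotent.eq_zero ⟨n, by rw [← map_pow]; exact han⟩
  have hmin : ∀ P ∈ minimalPrimes A, p ∉ P := fun P hP hpP => by
    let F := (minimalPrimes.finite_of_isNoetherianRing A).toFinset.erase P
    have hQ : ∀ Q : F, ∃ s, s ∈ Q.1 ∧ s ∉ P := fun ⟨Q, hQ⟩ => by
      obtain ⟨hne, hQ⟩ := Finset.mem_erase.1 hQ
      rw [Set.Finite.mem_toFinset] at hQ
      by_contra hc
      push Not at hc
      exact hne (le_antisymm hc (hP.2 hQ.1 hc))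
    choose s hs hsP using hQ
    let t := ∏ Q : F, s Q
    have htP : t ∉ P := fun h => by
      haveI := hP.1.1
      obtain ⟨Q, -, hQ⟩ := Ideal.IsPrime.prod_mem_iff.1 h
      exact hsP Q hQ
    obtain ⟨Q, hQ, htQ, hQR⟩ := hdense t fun hn => htP (hP.1.1.radical ▸ (by
      obtain ⟨n, hn⟩ := hn
      exact ⟨n, hn ▸ zero_mem _⟩ : t ∈ P.radical))
    obtain ⟨M, hM, hMQ⟩ := Ideal.exists_minimalPrimes_le (bot_le : (⊥ : Ideal A) ≤ Q)
    have hMP : M = P := by
      by_contra hne
      let M' : F := ⟨M, Finset.mem_erase.2 ⟨hne, (Set.Finite.mem_toFinset _).2 hM⟩⟩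
      exact htQ (hMQ (Ideal.prod_mem _ (Finset.mem_univ M') (hs M')))
    have : π ∈ Q.comap (algebraMap R A) := hMQ (hMP ▸ hpP)
    exact hπ.ne_zero ((Submodule.mem_bot R).1 (hQR ▸ this))
  rw [IsDedekindDomain.flat_iff_torsion_eq_bot, eq_bot_iff]
  intro a ha
  obtain ⟨⟨r, hr⟩, hra⟩ := ha
  have hr0 : r ≠ 0 := nonZeroDivisors.ne_zero hr
  obtain ⟨n, hn⟩ := IsDiscreteValuationRing.associated_pow_irreducible hr0 hπ
  obtain ⟨w, hw⟩ := hn
  change r • a = 0 at hra
  have h1 : p ^ n * a = 0 := by
    rw [show p ^ n = algebraMap R A (r * w) by rw [hw, map_pow], mul_comm r, map_mul, mul_assoc,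
      ← Algebra.smul_def r a, hra, mul_zero]
  rw [Submodule.mem_bot]
  have h3 : ∀ (n : ℕ) (b : A), p ^ n * b = 0 → b = 0 := fun n => by
    induction n with
    | zero => intro b hb; simpa using hb
    | succ n ih =>
      intro b hb
      rw [pow_succ', mul_assoc] at hb
      exact ih b (eq_zero_of_mul p hred' hmin hb)
  exact h3 n a h1

/-- Let R be a discrete valuation ring and X a locally Noetherian scheme over Spec R whose
scheme-theoretic special fibre is reduced and such that every maximal point of the special fibre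
lies in the closure of the generic fibre, i.e. the generic fibre is dense in X. Then X is flat over
R. -/
theorem result (R : Type u) [CommRing R] [IsDomain R]
    [IsDiscreteValuationRing R] {X : Scheme.{u}} (f : X ⟶ Spec (CommRingCat.of R)) [IsLocallyNoetherian X]
    (hred : IsReduced (f.fiber (IsLocalRing.closedPoint R)))
    (hdense : Dense (f.base ⁻¹' {genericPoint (Spec (CommRingCat.of R))})) : Flat f := by
  rw [IsZariskiLocalAtSource.iff_of_openCover (P := @Flat) X.affineCover]
  intro i
  let A := X.affineOpenCover.X i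
  let j : Spec A ⟶ X := X.affineOpenCover.f i
  show Flat (j ≫ f)
  let φ := Spec.preimage (j ≫ f)
  rw [show j ≫ f = Spec.map φ from (Spec.map_preimage _).symm, Flat.SpecMap_iff]
  algebraize [φ.hom]
  have hloc : IsLocallyNoetherian (Spec A) := isLocallyNoetherian_of_isOpenImmersion j
  have : IsNoetherianRing A := isLocallyNoetherian_Spec.1 hloc
  refine flat_affine R A ?_ fun s hs => ?_
  · let κ := (IsLocalRing.maximalIdeal R).ResidueField
    let x : Spec (CommRingCat.of R) := IsLocalRing.closedPoint R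
    have e1 := IsPullback.of_hasPullback (Spec.map φ) (Spec.map (CommRingCat.ofHom (algebraMap R κ)))
    let g : pullback (Spec.map φ) (Spec.map (CommRingCat.ofHom (algebraMap R κ))) ⟶ f.fiber x :=
      pullback.map _ _ _ _ j (Spec.map (Scheme.Spec.residueFieldIso (CommRingCat.of R) x).hom) (𝟙 _)
        (by rw [Category.comp_id, Spec.map_preimage])
        (by
          rw [Category.comp_id, ← Scheme.Spec.map_residueFieldIso_inv_eq_fromSpecResidueField, ← Category.assoc,
            ← Spec.map_comp]
          erw [Iso.inv_hom_id, Spec.map_id, Category.id_comp]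
          rfl)
    have : IsOpenImmersion (Spec.map (Scheme.Spec.residueFieldIso (CommRingCat.of R) x).hom) := inferInstance
    have : IsOpenImmersion j := inferInstance
    have : IsOpenImmersion g := Scheme.pullback_map_isOpenImmersion ..
    have : IsReduced (pullback (Spec.map φ) (Spec.map (CommRingCat.ofHom (algebraMap R κ)))) :=
      isReduced_of_isOpenImmersion g
    have : IsReduced (Spec (CommRingCat.of (A ⊗[R] κ))) :=
      isReduced_of_isOpenImmersion (pullbackSpecIso R A κ).inv
    exact (affine_isReduced_iff _).1 this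
  · have hne : (j '' (PrimeSpectrum.basicOpen s : Set (PrimeSpectrum A))).Nonempty := by
      rw [Set.image_nonempty, Set.nonempty_iff_ne_empty]
      intro h
      exact hs ((PrimeSpectrum.basicOpen_eq_bot_iff s).1 (TopologicalSpace.Opens.ext h))
    obtain ⟨x, hx, hxη⟩ := hdense.inter_open_nonempty _
      (j.isOpenEmbedding.isOpenMap _ (PrimeSpectrum.basicOpen s).isOpen) hne
    obtain ⟨P, hP, rfl⟩ := hx
    refine ⟨P.asIdeal, P.isPrime, hP, ?_⟩
    have h1 : Spec.map φ P = genericPoint (Spec (CommRingCat.of R)) := by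
      rw [Spec.map_preimage, Scheme.Hom.comp_apply]
      exact hxη
    rw [genericPoint_eq_bot_of_affine] at h1
    exact congrArg PrimeSpectrum.asIdeal h1

end Groth.Agent.S10880
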