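import Groth.Statements.S10881
import Groth.Agent.FlatMor12.DimOneFlat
import Groth.Agent.CAlgH3.MiracleFlat
import Groth.Agent.CAlgH3.RegularCore
import Groth.Agent.CAlgH3.RegularLocal
import Mathlib.AlgebraicGeometry.Morphisms.Finite
import Mathlib.AlgebraicGeometry.Morphisms.Flat
import Mathlib.RingTheory.IntegralClosure.GoingDown
import Mathlib.RingTheory.Ideal.KrullsHeightTheorem

set_option autoImplicit false
universe u
open CategoryTheory AlgebraicGeometry
open FlatMor

open TensorProduct IsLocalRing

namespace Groth.Agent.S10881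

theorem comap_maximal (R S : Type u) [CommRing R] [CommRing S] [IsLocalRing R] [IsLocalRing S] [Algebra R S]
    [IsLocalHom (algebraMap R S)] : (maximalIdeal S).comap (algebraMap R S) = maximalIdeal R :=
  Ideal.ext fun r => by simp [mem_maximalIdeal, mem_nonunits_iff, isUnit_map_iff]

/-- Finite injective maps of regular local rings (at a point of a finite algebra) are flat. -/
theorem flat_of_finite_injective (A B R S : Type u) [CommRing A] [CommRing B] [CommRing R] [CommRing S]
    [Algebra A B] [Module.Finite A B] [Algebra A R] [Algebra B S] [Algebra A S] [Algebra R S]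
    [IsScalarTower A B S] [IsScalarTower A R S] (q : Ideal B) [q.IsPrime] [IsLocalization.AtPrime S q]
    [IsRegularLocalRing R] [IsRegularLocalRing S] [IsLocalHom (algebraMap R S)]
    (hinj : Function.Injective (algebraMap R S)) : Module.Flat R S := by
  haveI : IsDomain S := CAlgH3.isDomain_of_isRegularLocalRing S
  let φ : R ⊗[A] B →ₐ[R] S :=
    Algebra.TensorProduct.lift (Algebra.ofId R S) (IsScalarTower.toAlgHom A B S) fun _ _ => .all _ _
  let C := φ.range
  haveI : Module.Finite R C := Module.Finite.of_surjective φ.rangeRestrict.toLinearMap φ.rangeRestrict_surjective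
  haveI : FaithfulSMul R C := (faithfulSMul_iff_algebraMap_injective R C).2 fun a b h =>
    hinj (congrArg Subtype.val h)
  haveI : IsIntegrallyClosed R := CAlgH3.isIntegrallyClosed_of_regular R
  haveI : IsNoetherianRing C := IsNoetherianRing.of_finite R C
  let n : Ideal C := (maximalIdeal S).comap C.val.toRingHom
  haveI : n.IsPrime := inferInstance
  have hB : ∀ b : B, algebraMap B S b ∈ C := fun b => ⟨1 ⊗ₜ b, by
    show Algebra.TensorProduct.lift _ _ _ (1 ⊗ₜ b) = _
    simp⟩
  haveI : IsLocalization.AtPrime S n :=
    { map_units := fun c => (IsLocalRing.notMem_maximalIdeal.1 c.2 : IsUnit (C.val c.1))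
      surj := fun z => by
        obtain ⟨⟨b, s⟩, h⟩ := IsLocalization.surj q.primeCompl z
        exact ⟨⟨⟨algebraMap B S b, hB b⟩, ⟨⟨algebraMap B S s, hB s⟩,
          IsLocalRing.notMem_maximalIdeal.2 (IsLocalization.map_units S s)⟩⟩, h⟩
      exists_of_eq := fun {a b} h => ⟨1, by rw [OneMemClass.coe_one, one_mul, one_mul]; exact Subtype.ext h⟩ }
  have hover : n.LiesOver (maximalIdeal R) := ⟨by
    rw [Ideal.under_def]
    show _ = ((maximalIdeal S).comap C.val.toRingHom).comap (algebraMap R C)
    rw [Ideal.comap_comap]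
    exact (comap_maximal R S).symm⟩
  have hfib : ∀ P : Ideal C, P.IsPrime → (maximalIdeal R).map (algebraMap R C) ≤ P → P ≤ n → P = n := by
    intro P hP hle hPn
    haveI := hP
    have h1 : P.comap (algebraMap R C) = maximalIdeal R :=
      ((maximalIdeal.isMaximal R).eq_of_le (Ideal.IsPrime.comap _).ne_top (Ideal.map_le_iff_le_comap.1 hle)).symm
    haveI : P.IsMaximal := Ideal.isMaximal_of_isIntegral_of_isMaximal_comap P (h1 ▸ maximalIdeal.isMaximal R)
    exact Ideal.IsMaximal.eq_of_le inferInstance (Ideal.IsPrime.ne_top inferInstance) hPn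
  have himg : (n.map (Ideal.Quotient.mk ((maximalIdeal R).map (algebraMap R C)))).height = 0 := by
    have hle : (maximalIdeal R).map (algebraMap R C) ≤ n := Ideal.map_le_iff_le_comap.2 hover.over.le
    haveI : (n.map (Ideal.Quotient.mk ((maximalIdeal R).map (algebraMap R C)))).IsPrime :=
      Ideal.map_isPrime_of_surjective Ideal.Quotient.mk_surjective (by rwa [Ideal.mk_ker])
    rw [Ideal.height_eq_zero_iff]
    refine ⟨⟨inferInstance, bot_le⟩, fun Q hQ hQn => ?_⟩
    have h2 := hfib (Q.comap (Ideal.Quotient.mk _)) (hQ.1.comap _) (by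
        conv_lhs => rw [← Ideal.mk_ker (I := (maximalIdeal R).map (algebraMap R C))]
        exact Ideal.comap_mono bot_le) (by
        refine (Ideal.comap_mono hQn).trans ?_
        rw [Ideal.comap_map_of_surjective _ Ideal.Quotient.mk_surjective, ← RingHom.ker_eq_comap_bot, Ideal.mk_ker]
        exact sup_le le_rfl hle)
    rw [← h2, Ideal.map_comap_of_surjective _ Ideal.Quotient.mk_surjective]
  have hd : ringKrullDim S = ringKrullDim R := by
    rw [IsLocalization.AtPrime.ringKrullDim_eq_height n S, ← maximalIdeal_height_eq_ringKrullDim (R := R),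
      Ideal.height_eq_height_add_of_liesOver_of_hasGoingDown (maximalIdeal R) n, himg, add_zero]
  haveI : Nontrivial (S ⧸ (maximalIdeal R).map (algebraMap R S)) := by
    refine Ideal.Quotient.nontrivial_iff.2 fun h => (maximalIdeal.isMaximal S).ne_top (top_le_iff.1 ?_)
    rw [← h]
    exact Ideal.map_le_iff_le_comap.2 (comap_maximal R S).ge
  have hf : ringKrullDim (S ⧸ (maximalIdeal R).map (algebraMap R S)) = 0 := by
    refine (ringKrullDimZero_iff_ringKrullDim_eq_zero).1 (Ring.krullDimLE_zero_iff.2 fun P hP => ?_)
    let P' : Ideal S := P.comap (Ideal.Quotient.mk _)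
    haveI : P'.IsPrime := hP.comap _
    have hle : (maximalIdeal R).map (algebraMap R S) ≤ P' := by
      conv_lhs => rw [← Ideal.mk_ker (I := (maximalIdeal R).map (algebraMap R S))]
      exact Ideal.comap_mono bot_le
    have h1 : P'.comap C.val.toRingHom = n := hfib _ (Ideal.IsPrime.comap _) (by
      rw [Ideal.map_le_iff_le_comap, Ideal.comap_comap]
      exact Ideal.map_le_iff_le_comap.1 hle) (Ideal.comap_mono (le_maximalIdeal (Ideal.IsPrime.ne_top inferInstance)))
    have h2 : P' = maximalIdeal S := by
      rw [← IsLocalization.map_comap n.primeCompl S P', ← IsLocalization.map_comap n.primeCompl S (maximalIdeal S)]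
      exact congrArg (Ideal.map (algebraMap C S)) h1
    haveI : P'.IsMaximal := h2 ▸ maximalIdeal.isMaximal S
    rw [← Ideal.map_comap_of_surjective _ Ideal.Quotient.mk_surjective P]
    exact (Ideal.map_eq_top_or_isMaximal_of_surjective _ Ideal.Quotient.mk_surjective ‹P'.IsMaximal›).resolve_left
      (fun h => hP.ne_top ((Ideal.map_comap_of_surjective _ Ideal.Quotient.mk_surjective P).symm.trans h))
  haveI := CAlgH3.isCohenMacaulayLocalRing_of_regular S
  exact CAlgH3.flat_of_dim_eq _ R rfl S (by rw [hd, hf, add_zero])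

/-- Stalk maps are injective when components dominate components. -/
theorem stalkMap_injective {X Y : Scheme.{u}} (f : X ⟶ Y)
    (hX : ∀ x : X, IsRegularLocalRing (X.presheaf.stalk x))
    (hY : ∀ y : Y, IsRegularLocalRing (Y.presheaf.stalk y))
    (hdom : ∀ Z ∈ irreducibleComponents (X : Type u), closure (f.base '' Z) ∈ irreducibleComponents (Y : Type u))
    (x : X) : Function.Injective (f.stalkMap x).hom := by
  have := hX x
  have := hY (f x)
  haveI : IsDomain (X.presheaf.stalk x) := CAlgH3.isDomain_of_isRegularLocalRing _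
  haveI : IsDomain (Y.presheaf.stalk (f x)) := CAlgH3.isDomain_of_isRegularLocalRing _
  let b : PrimeSpectrum (X.presheaf.stalk x) := ⟨⊥, Ideal.isPrime_bot⟩
  let z := X.fromSpecStalk x b
  have hz : ∀ w : X, w ⤳ z → w = z := fun w hw => by
    obtain ⟨(q' : PrimeSpectrum (X.presheaf.stalk x)), rfl⟩ : w ∈ Set.range (X.fromSpecStalk x) := by
      rw [Scheme.range_fromSpecStalk]
      have := Set.mem_range_self (f := X.fromSpecStalk x) b
      rw [Scheme.range_fromSpecStalk] at this
      exact hw.trans this
    have h1 : q'.asIdeal ≤ b.asIdeal := (PrimeSpectrum.le_iff_specializes q' b).2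
      ((X.fromSpecStalk x).isEmbedding.isInducing.specializes_iff.1 hw)
    exact congrArg (X.fromSpecStalk x) (PrimeSpectrum.ext (le_bot_iff.1 h1))
  have h2 := hdom _ (FlatMor12.DimOneFlat.mem_irreducibleComponents_of_maximal hz)
  have h3 : closure (f.base '' closure {z}) = closure {f z} := by
    rw [closure_image_closure f.continuous, Set.image_singleton]
  rw [h3] at h2
  let q : PrimeSpectrum (Y.presheaf.stalk (f x)) := PrimeSpectrum.comap (f.stalkMap x).hom b
  have hq : Y.fromSpecStalk (f x) q = f z := by
    show _ = (X.fromSpecStalk x ≫ f) b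
    rw [← Scheme.SpecMap_stalkMap_fromSpecStalk]
    rfl
  let b' : PrimeSpectrum (Y.presheaf.stalk (f x)) := ⟨⊥, Ideal.isPrime_bot⟩
  have h4 : Y.fromSpecStalk (f x) b' ⤳ f z := hq ▸
    ((PrimeSpectrum.le_iff_specializes b' q).1 bot_le).map (Y.fromSpecStalk (f x)).continuous
  have h5 : f z ⤳ Y.fromSpecStalk (f x) b' := specializes_iff_mem_closure.2
    (h2.2 isIrreducible_singleton.closure h4.closure_subset (subset_closure rfl))
  have h6 : q = b' := (Y.fromSpecStalk (f x)).isEmbedding.injective (hq.trans (h5.antisymm h4).eq)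
  rw [RingHom.injective_iff_ker_eq_bot]
  exact congrArg PrimeSpectrum.asIdeal h6

/-- A finite morphism f : X → Y between regular schemes (locally Noetherian with regular local rings)
under which each irreducible component of X dominates some irreducible component of Y is flat, hence
finite locally free. (The published statement asks only that f be dominant; for X the disjoint union
of the affine line and a point, mapped to the affine line Y by the identity and the inclusion of a
closed point, f is finite and dominant between regular schemes but not flat, and the published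
argument uses injectivity of the local ring maps, which holds exactly under the component-wise
dominance assumed here.) -/
theorem result {X Y : Scheme.{u}} (f : X ⟶ Y) [IsFinite f]
    [IsLocallyNoetherian X] [IsLocallyNoetherian Y]
    (hX : ∀ x : X, IsRegularLocalRing (X.presheaf.stalk x))
    (hY : ∀ y : Y, IsRegularLocalRing (Y.presheaf.stalk y))
    (hdom : ∀ Z ∈ irreducibleComponents (X : Type u), closure (f.base '' Z) ∈ irreducibleComponents (Y : Type u)) :
    Flat f := by
  rw [Flat.iff_flat_stalkMap]
  intro x
  algebraize [(f.stalkMap x).hom]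
  have := hX x
  have := hY (f x)
  have : IsLocalHom (algebraMap (Y.presheaf.stalk (f x)) (X.presheaf.stalk x)) :=
    inferInstanceAs (IsLocalHom (f.stalkMap x).hom)
  have hinj : Function.Injective (f.stalkMap x).hom := stalkMap_injective f hX hY hdom x
  obtain ⟨V, hV, hyV, -⟩ := exists_isAffineOpen_mem_and_subset (x := f x) (U := ⊤) trivial
  have hU : IsAffineOpen (f ⁻¹ᵁ V) := hV.preimage f
  let U := f ⁻¹ᵁ V
  letI := (f.app V).hom.toAlgebra
  haveI : Module.Finite Γ(Y, V) Γ(X, U) := f.finite_app V hV
  haveI : IsNoetherianRing Γ(Y, V) := IsLocallyNoetherian.component_noetherian ⟨V, hV⟩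
  letI := TopCat.Presheaf.algebra_section_stalk X.presheaf (⟨x, hyV⟩ : U)
  letI := TopCat.Presheaf.algebra_section_stalk Y.presheaf (⟨f x, hyV⟩ : V)
  haveI := hU.isLocalization_stalk ⟨x, hyV⟩
  letI : Algebra Γ(Y, V) (X.presheaf.stalk x) :=
    ((algebraMap Γ(X, U) (X.presheaf.stalk x)).comp (algebraMap Γ(Y, V) Γ(X, U))).toAlgebra
  haveI : IsScalarTower Γ(Y, V) Γ(X, U) (X.presheaf.stalk x) := .of_algebraMap_eq fun _ => rfl
  haveI : IsScalarTower Γ(Y, V) (Y.presheaf.stalk (f x)) (X.presheaf.stalk x) := .of_algebraMap_eq fun a =>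
    (Scheme.Hom.germ_stalkMap_apply f V x hyV a).symm
  exact flat_of_finite_injective Γ(Y, V) Γ(X, U) (Y.presheaf.stalk (f x)) (X.presheaf.stalk x)
    (hU.primeIdealOf ⟨x, hyV⟩).asIdeal hinj

end Groth.Agent.S10881
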