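import Groth.Statements.S10883
import Groth.Agent.Det5.Singular

set_option autoImplicit false
universe u
open CAlgX

namespace Groth.Agent.S10883

/-- Let k be a field and 0 < r < min(n, m), and let B be the coordinate ring of the affine determinantal
scheme of n × m matrices of rank at most r over k (polynomial ring on the entries of the generic
matrix modulo its (r+1) × (r+1) minors). A prime P of B is a smooth point over k (the localization
B_P is formally smooth over k) exactly when it corresponds to a matrix of rank exactly r, i.e. when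
P does not contain the image of the ideal generated by the r × r minors. -/
theorem result (k : Type u) [Field k] (n m r : ℕ) (hr0 : 0 < r)
    (hr : r < min n m)
    (P : PrimeSpectrum (MvPolynomial (Fin n × Fin m) k ⧸ CAlgX.minorIdeal (Matrix.of fun (i : Fin n) (j : Fin m) => (MvPolynomial.X (i, j) : MvPolynomial (Fin n × Fin m) k)) (r + 1))) :
    P ∈ Algebra.smoothLocus k (MvPolynomial (Fin n × Fin m) k ⧸ CAlgX.minorIdeal (Matrix.of fun (i : Fin n) (j : Fin m) => (MvPolynomial.X (i, j) : MvPolynomial (Fin n × Fin m) k)) (r + 1)) ↔
      ¬ (CAlgX.minorIdeal (Matrix.of fun (i : Fin n) (j : Fin m) => (MvPolynomial.X (i, j) : MvPolynomial (Fin n × Fin m) k)) r).map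
          (Ideal.Quotient.mk (CAlgX.minorIdeal (Matrix.of fun (i : Fin n) (j : Fin m) => (MvPolynomial.X (i, j) : MvPolynomial (Fin n × Fin m) k)) (r + 1))) ≤ P.asIdeal := by
  rw [Ideal.map_le_iff_le_comap]
  refine Iff.trans ?_ (not_congr Ideal.span_le).symm
  constructor
  · intro hs hle
    exact Groth.Agent.Det5.not_mem_smoothLocus k (by omega) (by omega) P
      (fun a b => hle ⟨(a, b), rfl⟩) hs
  · intro hne
    rw [Set.not_subset] at hne
    obtain ⟨_, ⟨⟨f, g⟩, rfl⟩, hfg⟩ := hne
    exact Groth.Agent.Det5.mem_smoothLocus_of_minor k f g P hfg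

end Groth.Agent.S10883
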