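import Groth.Statements.S10884
import Groth.Agent.DimLib.Morphism
import Groth.Agent.H8Top.SchemeBasic

set_option autoImplicit false
universe u
open CategoryTheory AlgebraicGeometry
open Variety

namespace Groth.Agent.S10884

/-- Let Y be a scheme of finite type over a field k and f : X → Y a dominant morphism of finite type all
of whose non-empty fibres have dimension r. Then dim X = r + dim Y. -/
theorem result (k : Type u) [Field k] {X Y : Scheme.{u}}
    (q : Y ⟶ Spec (CommRingCat.of k)) [LocallyOfFiniteType q] [QuasiCompact q]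
    (f : X ⟶ Y) [LocallyOfFiniteType f] [QuasiCompact f] (hdom : DenseRange f.base) (r : ℕ)
    (hfib : ∀ y : Y, (f.base ⁻¹' {y}).Nonempty → topologicalKrullDim (f.base ⁻¹' {y}) = r) :
    topologicalKrullDim X = (r : WithBot ℕ∞) + topologicalKrullDim Y := by
  have hq : LocallyOfFiniteType (f ≫ q) := inferInstance
  refine le_antisymm ?_ (Groth.Agent.DimLib.add_topologicalKrullDim_le q r _ fun η hη => ?_)
  · rw [Groth.Agent.DimLib.topologicalKrullDim_eq_iSup (f ≫ q)]
    refine iSup_le fun x => ?_
    have h1 := (Groth.Agent.DimLib.topologicalKrullDim_fiber_le_iff q f (f x) r).1 (hfib _ ⟨x, rfl⟩).le x rfl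
    refine le_trans ?_ (add_le_add le_rfl (Groth.Agent.DimLib.ptDim_le_topologicalKrullDim q (f x)))
    exact_mod_cast (by omega : _ ≤ r + _)
  · obtain ⟨x0, hx0⟩ := Groth.Agent.H8Top.exists_specializes_of_mem_closure_range f (hdom η)
    have he : f x0 = η := (hη _ hx0).symm
    obtain ⟨x, -, hx⟩ := (Groth.Agent.DimLib.le_topologicalKrullDim_fiber_iff q f η r).1
      (hfib η ⟨x0, he⟩).ge
    refine le_trans ?_ (Groth.Agent.DimLib.ptDim_le_topologicalKrullDim (f ≫ q) x)
    exact_mod_cast (by omega : r + _ ≤ _)

end Groth.Agent.S10884
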