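import Groth.Statements.S10885
import Groth.Agent.DimLib.Morphism

set_option autoImplicit false
universe u
open CategoryTheory AlgebraicGeometry
open Variety

namespace Groth.Agent.S10885

/-- Let Y be a scheme of finite type over a field k, r ≥ 0, and f : X → Y a morphism of finite type
whose fibre over every maximal point of Y has dimension at least r. Then dim X ≥ r + dim Y. -/
theorem result (k : Type u) [Field k] {X Y : Scheme.{u}}
    (q : Y ⟶ Spec (CommRingCat.of k)) [LocallyOfFiniteType q] [QuasiCompact q]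
    (f : X ⟶ Y) [LocallyOfFiniteType f] [QuasiCompact f] (r : ℕ)
    (hfib : ∀ η : Y, (∀ y : Y, y ⤳ η → y = η) → (r : WithBot ℕ∞) ≤ topologicalKrullDim (f.base ⁻¹' {η})) :
    (r : WithBot ℕ∞) + topologicalKrullDim Y ≤ topologicalKrullDim X := by
  have hq : LocallyOfFiniteType (f ≫ q) := inferInstance
  have key : ∀ η : Y, (∀ z : Y, z ⤳ η → η = z) →
      (r : WithBot ℕ∞) + (Groth.Agent.DimLib.ptDim q η : WithBot ℕ∞) ≤ topologicalKrullDim X := by
    intro η hη
    obtain ⟨x, -, hx⟩ := (Groth.Agent.DimLib.le_topologicalKrullDim_fiber_iff q f η r).1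
      (hfib η fun y hy => (hη y hy).symm)
    refine le_trans ?_ (Groth.Agent.DimLib.ptDim_le_topologicalKrullDim (f ≫ q) x)
    exact_mod_cast (by omega : r + _ ≤ _)
  exact Groth.Agent.DimLib.add_topologicalKrullDim_le q r _ key

end Groth.Agent.S10885
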