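import Groth.Statements.S10886
import Mathlib
import Groth.Prelude

set_option linter.all false

set_option autoImplicit false
universe u
open CategoryTheory AlgebraicGeometry
open Curves

open Polynomial TensorProduct AlgebraicGeometry

namespace Groth.Agent.S10886

/-- In an irreducible Noetherian scheme of dimension one every constructible subset is either a finite
set of closed points or the complement of such a set; in particular it is open or closed. -/
theorem result {X : Scheme.{u}} [IsNoetherian X]
    [IrreducibleSpace X] (hX : topologicalKrullDim X = 1) (s : Set X) (hs : Topology.IsConstructible s) :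
    (s.Finite ∧ (∀ x ∈ s, IsClosed ({x} : Set X))) ∨ (sᶜ.Finite ∧ ∀ x ∈ sᶜ, IsClosed ({x} : Set X)) := by
  classical
  haveI : TopologicalSpace.NoetherianSpace X := inferInstance
  have hchain : ∀ Z W : Set X, IsClosed Z → IsClosed W → IsIrreducible Z → IsIrreducible W → W ⊂ Z → Z ≠ Set.univ → False := by
    intro Z W hZ hW hZi hWi hWZ hne
    let a : TopologicalSpace.IrreducibleCloseds X := ⟨W, hWi, hW⟩
    let b : TopologicalSpace.IrreducibleCloseds X := ⟨Z, hZi, hZ⟩
    let c : TopologicalSpace.IrreducibleCloseds X := ⟨Set.univ, IrreducibleSpace.isIrreducible_univ X, isClosed_univ⟩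
    have hab : a < b := hWZ
    have hbc : b < c := ⟨Set.subset_univ Z, fun h => hne (Set.eq_univ_of_univ_subset h)⟩
    let l : LTSeries (TopologicalSpace.IrreducibleCloseds X) := LTSeries.mk 2 ![a, b, c] (by
      refine Fin.strictMono_iff_lt_succ.2 fun i => ?_
      fin_cases i
      · exact hab
      · exact hbc)
    have := Order.LTSeries.length_le_krullDim l
    rw [topologicalKrullDim] at hX
    rw [hX, show l.length = 2 from rfl] at this
    exact absurd this (by norm_num)
  have hfin : ∀ Z : Set X, IsClosed Z → Z ≠ Set.univ → Z.Finite ∧ ∀ x ∈ Z, IsClosed ({x} : Set X) := by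
    intro Z hZ hne
    have hpt : ∀ x ∈ Z, IsClosed ({x} : Set X) := by
      intro x hx
      have hsub : closure ({x} : Set X) ⊆ Z := closure_minimal (by simpa using hx) hZ
      suffices closure ({x} : Set X) ⊆ {x} from closure_subset_iff_isClosed.1 this
      intro y hy
      by_contra hne'
      have hyx : closure ({y} : Set X) ⊆ closure {x} := closure_minimal (by simpa using hy) isClosed_closure
      refine hchain (closure {x}) (closure {y}) isClosed_closure isClosed_closure isIrreducible_singleton.closure
        isIrreducible_singleton.closure (hyx.ssubset_of_ne fun h => hne' ?_) (fun h => hne (Set.eq_univ_of_univ_subset (h ▸ hsub)))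
      have h' : Inseparable x y := inseparable_iff_closure_eq.2 h.symm
      exact h'.eq.symm
    obtain ⟨S, hSf, hS, hirr, hun⟩ := TopologicalSpace.NoetherianSpace.exists_finite_set_isClosed_irreducible hZ
    refine ⟨?_, hpt⟩
    rw [hun]
    refine hSf.sUnion fun T hT => Set.Subsingleton.finite fun a ha b hb => ?_
    obtain ⟨η, hη⟩ := QuasiSober.sober (hirr T hT) (hS T hT)
    have hηT : η ∈ Z := hun ▸ Set.subset_sUnion_of_mem hT hη.mem
    have hT' : T = {η} := by rw [← hη.def, (hpt η hηT).closure_eq]
    rw [hT'] at ha hb
    rw [Set.mem_singleton_iff.1 ha, Set.mem_singleton_iff.1 hb]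
  induction hs using Topology.IsConstructible.empty_union_induction with
  | open_retrocompact U hU _ =>
    by_cases hne : U = ∅
    · subst hne; exact Or.inl ⟨Set.finite_empty, by simp⟩
    · exact Or.inr (hfin Uᶜ hU.isClosed_compl (by simpa [Set.compl_univ_iff] using hne))
  | union s _ t _ hs ht =>
    rcases hs with ⟨h1, h2⟩ | ⟨h1, h2⟩
    · rcases ht with ⟨h3, h4⟩ | ⟨h3, h4⟩
      · exact Or.inl ⟨h1.union h3, fun x hx => hx.elim (h2 x) (h4 x)⟩
      · refine Or.inr ⟨h3.subset ?_, fun x hx => h4 x ?_⟩
        · exact Set.compl_subset_compl.2 Set.subset_union_right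
        · exact fun h => hx (Or.inr h)
    · refine Or.inr ⟨h1.subset (Set.compl_subset_compl.2 Set.subset_union_left), fun x hx => h2 x fun h => hx (Or.inl h)⟩
  | compl s _ h =>
    rcases h with h | h
    · exact Or.inr (by rwa [compl_compl])
    · exact Or.inl h

end Groth.Agent.S10886
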