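import Groth.Statements.S10889
import Groth.Agent.FlatMorDim.Semicont
import Groth.Agent.DimLib.Zero
import Groth.Agent.MorProj.ProperFinite

set_option autoImplicit false
universe u
open CategoryTheory AlgebraicGeometry
open FlatMor

namespace Groth.Agent.S10889

/-- Restrictions to smaller opens are base changes. -/
theorem isPullback_restrict {X Y : Scheme.{u}} (f : X ⟶ Y) {U G : Y.Opens} (h : U ≤ G) :
    IsPullback (f ∣_ U) (X.homOfLE (f.preimage_mono h)) (Y.homOfLE h) (f ∣_ G) := by
  refine IsPullback.of_bot ?_ ?_ (isPullback_morphismRestrict f G)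
  · rw [Scheme.homOfLE_ι, Scheme.homOfLE_ι]
    exact isPullback_morphismRestrict f U
  · rw [← cancel_mono G.ι]
    simp

/-- Let f : X → Y be proper, flat and of finite presentation, and let V be the set of points of Y whose
fibre is (non-empty and) zero-dimensional. Then V is a clopen subset of Y, and over every open
subset of V the restriction of f is finite, hence finite locally free. -/
theorem result {X Y : Scheme.{u}} (f : X ⟶ Y) [IsProper f] [Flat f]
    [LocallyOfFinitePresentation f] :
    IsClopen {y : Y | topologicalKrullDim (f.base ⁻¹' {y}) = 0} ∧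
      ∀ U : Y.Opens, (U : Set Y) ⊆ {y : Y | topologicalKrullDim (f.base ⁻¹' {y}) = 0} → IsFinite (f ∣_ U) := by
  have hdim : ∀ y, topologicalKrullDim ↥(f.fiber y) = topologicalKrullDim (f.base ⁻¹' {y}) := fun y =>
    IsHomeomorph.topologicalKrullDim_eq _ (f.fiberHomeo y).isHomeomorph
  have hset : {y : Y | topologicalKrullDim (f.base ⁻¹' {y}) = 0} =
      {y | topologicalKrullDim ↥(f.fiber y) ≤ ((0 : ℕ∞) : WithBot ℕ∞)} ∩
        {y | (⊥ : WithBot ℕ∞) < topologicalKrullDim ↥(f.fiber y)} := by
    ext y
    simp only [Set.mem_inter_iff, Set.mem_ofPred_eq, hdim, WithBot.coe_zero]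
    constructor
    · intro h; rw [h]; exact ⟨le_rfl, WithBot.bot_lt_coe 0⟩
    · rintro ⟨h1, h2⟩
      refine le_antisymm h1 ?_
      obtain ⟨v, hv⟩ := WithBot.ne_bot_iff_exists.1 h2.ne'
      rw [← hv]
      exact WithBot.coe_le_coe.2 zero_le
  have hset' : {y : Y | topologicalKrullDim (f.base ⁻¹' {y}) = 0}ᶜ =
      {y | topologicalKrullDim ↥(f.fiber y) ≤ (⊥ : WithBot ℕ∞)} ∪
        {y | ((0 : ℕ∞) : WithBot ℕ∞) < topologicalKrullDim ↥(f.fiber y)} := by
    rw [hset, Set.compl_inter, Set.union_comm]
    congr 1 <;> ext y <;> simp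
  refine ⟨⟨⟨?_⟩, ?_⟩, fun U hU => ?_⟩
  · rw [hset']
    exact (FlatMorDim.isOpen_fiber_dim_le f _).union (FlatMorDim.isOpen_lt_fiber_dim f _)
  · rw [hset]
    exact (FlatMorDim.isOpen_fiber_dim_le f _).inter (FlatMorDim.isOpen_lt_fiber_dim f _)
  · obtain ⟨G, hG, hGf⟩ := MorProj.exists_finite_fibre_locus f
    have hUG : U ≤ G := fun y hy => by
      show y ∈ (G : Set Y)
      rw [hG]
      haveI : LocallyOfFiniteType (f.fiberToSpecResidueField y) :=
        inferInstanceAs (LocallyOfFiniteType (Limits.pullback.snd f (Y.fromSpecResidueField y)))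
      haveI : QuasiCompact (f.fiberToSpecResidueField y) :=
        inferInstanceAs (QuasiCompact (Limits.pullback.snd f (Y.fromSpecResidueField y)))
      haveI := DimLib.finite_of_dim_le_zero (k := Y.residueField y) (f.fiberToSpecResidueField y)
        ((hdim y).trans (hU hy)).le
      haveI : Finite ↥(f.base ⁻¹' {y}) := Finite.of_equiv _ (f.fiberHomeo y).toEquiv
      exact Set.toFinite _
    exact MorphismProperty.of_isPullback (P := @IsFinite) (isPullback_restrict f hUG).flip hGf

end Groth.Agent.S10889
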