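import Groth.Statements.S10890
import Groth.Agent.CAlgH3.BEAux
import Mathlib.LinearAlgebra.FreeModule.Finite.Basic

set_option autoImplicit false
universe u
open CAlgX

namespace Groth.Agent.S10890

open Groth.Agent.CAlgH3

/-- A matrix with a left inverse over a local ring has a unit maximal minor. -/
theorem exists_unit_minor_of_leftInverse {R : Type u} [CommRing R] [IsLocalRing R] {n r : ℕ}
    (C : Matrix (Fin n) (Fin r) R) (G : Matrix (Fin r) (Fin n) R) (h : G * C = 1) :
    ∃ ρ : Fin r → Fin n, IsUnit (C.submatrix ρ id).det := by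
  let π := IsLocalRing.residue R
  have hinj : Function.Injective (C.map π).mulVec := fun v w hvw => by
    have e := congrArg (G.map π).mulVec hvw
    rwa [Matrix.mulVec_mulVec, Matrix.mulVec_mulVec, ← Matrix.map_mul, h, Matrix.map_one π (map_zero π) (map_one π),
      Matrix.one_mulVec, Matrix.one_mulVec] at e
  obtain ⟨ρ, hρ⟩ := BEAux.exists_minor_of_injective (C.map π) hinj
  refine ⟨ρ, IsLocalRing.notMem_maximalIdeal.1 fun hm => hρ ?_⟩
  rw [Matrix.submatrix_map, ← RingHom.mapMatrix_apply, ← RingHom.map_det]
  exact (IsLocalRing.residue_eq_zero_iff _).2 hm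

/-- A product through a smaller dimension has zero determinant. -/
theorem det_mul_eq_zero_of_lt {R : Type u} [CommRing R] {p r : ℕ} (hr : r < p) (C : Matrix (Fin p) (Fin r) R)
    (D : Matrix (Fin r) (Fin p) R) : (C * D).det = 0 := by
  obtain ⟨d, rfl⟩ : ∃ d, p = r + (d + 1) := ⟨p - r - 1, by omega⟩
  let C' : Matrix (Fin (r + (d + 1))) (Fin r ⊕ Fin (d + 1)) R := Matrix.fromCols C 0
  let D' : Matrix (Fin r ⊕ Fin (d + 1)) (Fin (r + (d + 1))) R := Matrix.fromRows D 0
  have h : C * D = (C'.submatrix id finSumFinEquiv.symm) * (D'.submatrix finSumFinEquiv.symm id) := by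
    rw [Matrix.submatrix_mul_equiv, Matrix.fromCols_mul_fromRows, Matrix.zero_mul, add_zero]
    rfl
  rw [h, Matrix.det_mul]
  refine mul_eq_zero_of_left (Matrix.det_eq_zero_of_column_eq_zero (finSumFinEquiv (Sum.inr 0)) fun i => ?_) _
  simp [C']

/-- (i) ⇔ (ii): let R be a local ring, A an n × m matrix over R regarded as a linear map R^m → R^n, and
1 ≤ r ≤ n. Then the image of A is a direct summand of R^n of rank r if and only if every (r+1) ×
(r+1) minor of A is zero and the r × r minors of A generate the unit ideal. (The printed statement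
is over an arbitrary ring with 'direct summand of rank r'; its proof localises at once, and this row
states the local case, where a direct summand of R^n is free and its rank is its finrank.) -/
theorem result (R : Type u) [CommRing R] [IsLocalRing R] (n m r : ℕ)
    (hr : 1 ≤ r) (hrn : r ≤ n) (A : Matrix (Fin n) (Fin m) R) :
    (∃ N' : Submodule R (Fin n → R), IsCompl (LinearMap.range (Matrix.mulVecLin A)) N' ∧
        Module.finrank R (LinearMap.range (Matrix.mulVecLin A)) = r) ↔
      (CAlgX.minorIdeal A (r + 1) = ⊥ ∧ CAlgX.minorIdeal A r = ⊤) := by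
  classical
  constructor
  · rintro ⟨N', hc, hrk⟩
    let P := LinearMap.range (Matrix.mulVecLin A)
    haveI : Module.Projective R P := Module.Projective.of_split P.subtype (P.linearProjOfIsCompl N' hc)
      (LinearMap.ext fun x => Submodule.linearProjOfIsCompl_apply_left hc x)
    haveI : Module.Finite R P := Module.Finite.range _
    haveI : Module.Free R P := Module.free_of_flat_of_isLocalRing
    let b : Module.Basis (Fin r) R P := Module.finBasisOfFinrankEq R P hrk
    let e := b.equivFun
    let C := LinearMap.toMatrix' (P.subtype ∘ₗ e.symm.toLinearMap)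
    let G := LinearMap.toMatrix' (e.toLinearMap ∘ₗ P.linearProjOfIsCompl N' hc)
    let D := LinearMap.toMatrix' (e.toLinearMap ∘ₗ (Matrix.mulVecLin A).rangeRestrict)
    have hGC : G * C = 1 := by
      rw [← LinearMap.toMatrix'_comp, ← LinearMap.toMatrix'_id]
      congr 1
      refine LinearMap.ext fun v => ?_
      simp only [LinearMap.comp_apply, LinearMap.id_apply, LinearEquiv.coe_coe, Submodule.subtype_apply]
      exact (congrArg e (Submodule.linearProjOfIsCompl_apply_left hc (e.symm v))).trans (e.apply_symm_apply v)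
    have hA : A = C * D := by
      rw [← LinearMap.toMatrix'_comp, ← Matrix.toLin'_symm, LinearEquiv.eq_symm_apply, Matrix.toLin'_apply']
      refine LinearMap.ext fun v => ?_
      simp only [LinearMap.comp_apply, LinearEquiv.coe_coe, e.symm_apply_apply, Submodule.subtype_apply]
      rfl
    obtain ⟨H, hH⟩ : ∃ H : Matrix (Fin m) (Fin r) R, D * H = 1 := by
      obtain ⟨s, hs⟩ := Module.projective_lifting_property (e.toLinearMap ∘ₗ (Matrix.mulVecLin A).rangeRestrict)
        LinearMap.id (e.surjective.comp (Matrix.mulVecLin A).surjective_rangeRestrict)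
      exact ⟨LinearMap.toMatrix' s, by rw [← LinearMap.toMatrix'_comp, hs, LinearMap.toMatrix'_id]⟩
    constructor
    · refine Ideal.span_eq_bot.2 ?_
      rintro _ ⟨⟨f, g⟩, rfl⟩
      show (A.submatrix f g).det = 0
      rw [hA, Matrix.submatrix_mul _ _ f id g Function.bijective_id]
      exact det_mul_eq_zero_of_lt (Nat.lt_succ_self r) _ _
    · obtain ⟨ρ, hρ⟩ := exists_unit_minor_of_leftInverse C G hGC
      obtain ⟨γ, hγ⟩ := exists_unit_minor_of_leftInverse D.transpose H.transpose
        (by rw [← Matrix.transpose_mul, hH, Matrix.transpose_one])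
      rw [← Matrix.transpose_submatrix, Matrix.det_transpose] at hγ
      refine Ideal.eq_top_of_isUnit_mem _ (Ideal.subset_span ⟨(ρ, γ), rfl⟩) ?_
      show IsUnit (A.submatrix ρ γ).det
      rw [hA, Matrix.submatrix_mul _ _ ρ id γ Function.bijective_id, Matrix.det_mul]
      exact hρ.mul hγ
  · rintro ⟨h0, h1⟩
    obtain ⟨ρ, γ, hu⟩ := BEAux.exists_unit_minor h1
    let U := A.submatrix ρ γ
    let C := A.submatrix id γ
    let G := U⁻¹ * (1 : Matrix (Fin n) (Fin n) R).submatrix ρ id
    have hGC : G * C = 1 := by
      rw [Matrix.mul_assoc, ← BEAux.submatrix_eq_mul', Matrix.submatrix_submatrix]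
      exact Matrix.nonsing_inv_mul _ hu
    have hrange : LinearMap.range (Matrix.mulVecLin A) = LinearMap.range (Matrix.mulVecLin C) := by
      refine le_antisymm ?_ ?_
      · rintro _ ⟨v, rfl⟩
        refine ⟨(U⁻¹ * A.submatrix ρ id).mulVec v, ?_⟩
        simp only [Matrix.mulVecLin_apply, Matrix.mulVec_mulVec, ← Matrix.mul_assoc]
        exact congrArg (fun M => Matrix.mulVec M v) (BEAux.gen_inverse A ρ γ hu h0)
      · rintro _ ⟨v, rfl⟩
        refine ⟨((1 : Matrix (Fin m) (Fin m) R).submatrix id γ).mulVec v, ?_⟩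
        simp only [Matrix.mulVecLin_apply, Matrix.mulVec_mulVec, ← BEAux.submatrix_eq_mul]
        rfl
    have hleft : Function.LeftInverse G.mulVecLin C.mulVecLin := fun v => by
      simp only [Matrix.mulVecLin_apply, Matrix.mulVec_mulVec, hGC, Matrix.one_mulVec]
    refine ⟨LinearMap.ker G.mulVecLin, ?_, ?_⟩
    · rw [hrange]
      exact LinearMap.isCompl_of_proj (f := (C.mulVecLin ∘ₗ G.mulVecLin).codRestrict (LinearMap.range C.mulVecLin) fun v => ⟨_, rfl⟩)
        (fun ⟨x, v, hv⟩ => Subtype.ext (by
          show C.mulVecLin (G.mulVecLin x) = x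
          rw [← hv, hleft v])) |> fun h => by
        rwa [LinearMap.ker_codRestrict, LinearMap.ker_comp_of_ker_eq_bot _ (LinearMap.ker_eq_bot.2 hleft.injective)] at h
    · rw [hrange, LinearMap.finrank_range_of_inj hleft.injective]
      exact Module.finrank_fin_fun R

end Groth.Agent.S10890
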