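import Groth.Statements.S10891
import Mathlib
-- import your own Groth.Agent.* helpers here

set_option autoImplicit false
universe u
open CAlg

namespace Groth.Agent.S10891

/-- Let k be a field containing a primitive r-th root of unity ζ and 0 < a < r. The cyclic group of r-th
roots of unity acts on k[X, Y] through the generator X ↦ ζ⁻¹ X, Y ↦ ζ^(−a) Y, and the ring of
invariants of this action is generated as a k-algebra by the monomials X^i Y^j with 0 ≤ i, j ≤ r,
(i, j) ≠ (r, r) and i + a·j ≡ 0 (mod r). (The printed statement writes n for the order of the group,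
which the surrounding section calls r.) -/
theorem result (k : Type u) [Field k] (r a : ℕ) (ha : 0 < a) (har : a < r)
    (ζ : k) (hζ : IsPrimitiveRoot ζ r) (p : MvPolynomial (Fin 2) k) :
    MvPolynomial.aeval (fun i : Fin 2 => if i = 0 then MvPolynomial.C ζ⁻¹ * MvPolynomial.X 0
        else MvPolynomial.C (ζ⁻¹ ^ a) * (MvPolynomial.X 1 : MvPolynomial (Fin 2) k)) p = p ↔
      p ∈ Algebra.adjoin k {q : MvPolynomial (Fin 2) k | ∃ i j : ℕ, i ≤ r ∧ j ≤ r ∧ ¬ (i = r ∧ j = r) ∧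
        r ∣ i + a * j ∧ q = MvPolynomial.X 0 ^ i * MvPolynomial.X 1 ^ j} := by
  classical
  set φ := MvPolynomial.aeval (R := k) (fun i : Fin 2 => if i = 0 then MvPolynomial.C ζ⁻¹ * MvPolynomial.X 0
      else MvPolynomial.C (ζ⁻¹ ^ a) * (MvPolynomial.X 1 : MvPolynomial (Fin 2) k)) with hφ
  have hX : ∀ i j : ℕ, φ (MvPolynomial.X 0 ^ i * MvPolynomial.X 1 ^ j) =
      MvPolynomial.C (ζ⁻¹ ^ (i + a * j)) * (MvPolynomial.X 0 ^ i * MvPolynomial.X 1 ^ j) := fun i j => by
    simp only [hφ, map_mul, map_pow, MvPolynomial.aeval_X, if_true, show (1 : Fin 2) ≠ 0 by decide, if_false, mul_pow,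
      pow_add, pow_mul]
    ring
  have hmon : ∀ (m : Fin 2 →₀ ℕ) (c : k), MvPolynomial.monomial m c = MvPolynomial.C c * (MvPolynomial.X 0 ^ m 0 * MvPolynomial.X 1 ^ m 1) := fun m c => by
    rw [MvPolynomial.monomial_eq, Finsupp.prod_fintype _ _ (fun i => pow_zero _), Fin.prod_univ_two]
  have hcoeff : ∀ (q : MvPolynomial (Fin 2) k) (m : Fin 2 →₀ ℕ), MvPolynomial.coeff m (φ q) = ζ⁻¹ ^ (m 0 + a * m 1) * MvPolynomial.coeff m q := by
    intro q m
    induction q using MvPolynomial.induction_on' with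
    | monomial s c =>
      have : φ (MvPolynomial.monomial s c) = MvPolynomial.monomial s (ζ⁻¹ ^ (s 0 + a * s 1) * c) := by
        rw [hmon s c, map_mul, hφ, MvPolynomial.aeval_C, ← hφ, hX, hmon, MvPolynomial.C.map_mul, MvPolynomial.algebraMap_eq]
        ring
      rw [this, MvPolynomial.coeff_monomial, MvPolynomial.coeff_monomial]
      split_ifs with h
      · subst h; rfl
      · simp
    | add p q hp hq => rw [map_add, MvPolynomial.coeff_add, MvPolynomial.coeff_add, hp, hq, mul_add]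
  have hone : ∀ e : ℕ, ζ⁻¹ ^ e = 1 ↔ r ∣ e := fun e => by
    rw [inv_pow, inv_eq_one, hζ.pow_eq_one_iff_dvd]
  constructor
  · intro hp
    rw [MvPolynomial.as_sum p]
    refine Subalgebra.sum_mem _ fun m hm => ?_
    have hd : r ∣ m 0 + a * m 1 := by
      have h := hcoeff p m
      rw [hp] at h
      exact (hone _).1 (mul_eq_right₀ (MvPolynomial.mem_support_iff.1 hm) |>.1 h.symm)
    rw [hmon]
    refine Subalgebra.mul_mem _ (Subalgebra.algebraMap_mem _ _) ?_
    rw [← Nat.div_add_mod (m 0) r, ← Nat.div_add_mod (m 1) r, pow_add, pow_add, pow_mul, pow_mul]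
    have hr0 : 0 < r := by omega
    have hx : (MvPolynomial.X 0 ^ r : MvPolynomial (Fin 2) k) ∈ Algebra.adjoin k {q : MvPolynomial (Fin 2) k | ∃ i j : ℕ, i ≤ r ∧ j ≤ r ∧ ¬ (i = r ∧ j = r) ∧
        r ∣ i + a * j ∧ q = MvPolynomial.X 0 ^ i * MvPolynomial.X 1 ^ j} :=
      Algebra.subset_adjoin ⟨r, 0, le_rfl, Nat.zero_le _, fun h => by omega, by simp, by simp⟩
    have hy : (MvPolynomial.X 1 ^ r : MvPolynomial (Fin 2) k) ∈ Algebra.adjoin k {q : MvPolynomial (Fin 2) k | ∃ i j : ℕ, i ≤ r ∧ j ≤ r ∧ ¬ (i = r ∧ j = r) ∧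
        r ∣ i + a * j ∧ q = MvPolynomial.X 0 ^ i * MvPolynomial.X 1 ^ j} :=
      Algebra.subset_adjoin ⟨0, r, Nat.zero_le _, le_rfl, fun h => by omega, by simp, by simp⟩
    have h0 : r ∣ m 0 % r + a * (m 1 % r) := by
      have e : m 0 + a * m 1 = (m 0 % r + a * (m 1 % r)) + r * (m 0 / r + a * (m 1 / r)) := by
        conv_lhs => rw [← Nat.div_add_mod (m 0) r, ← Nat.div_add_mod (m 1) r]
        ring
      rw [e] at hd
      exact (Nat.dvd_add_left (Dvd.intro _ rfl)).1 hd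
    have hres : (MvPolynomial.X 0 ^ (m 0 % r) * MvPolynomial.X 1 ^ (m 1 % r) : MvPolynomial (Fin 2) k) ∈ Algebra.adjoin k {q : MvPolynomial (Fin 2) k | ∃ i j : ℕ, i ≤ r ∧ j ≤ r ∧ ¬ (i = r ∧ j = r) ∧
        r ∣ i + a * j ∧ q = MvPolynomial.X 0 ^ i * MvPolynomial.X 1 ^ j} :=
      Algebra.subset_adjoin ⟨_, _, (Nat.mod_lt _ hr0).le, (Nat.mod_lt _ hr0).le, fun h => (Nat.mod_lt _ hr0).ne h.1, h0, rfl⟩
    rw [mul_mul_mul_comm]
    exact Subalgebra.mul_mem _ (Subalgebra.mul_mem _ (Subalgebra.pow_mem _ hx _) (Subalgebra.pow_mem _ hy _)) hres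
  · intro hp
    have hle : Algebra.adjoin k {q : MvPolynomial (Fin 2) k | ∃ i j : ℕ, i ≤ r ∧ j ≤ r ∧ ¬ (i = r ∧ j = r) ∧
        r ∣ i + a * j ∧ q = MvPolynomial.X 0 ^ i * MvPolynomial.X 1 ^ j} ≤ AlgHom.equalizer φ (AlgHom.id k _) := by
      refine Algebra.adjoin_le ?_
      rintro _ ⟨i, j, -, -, -, hd, rfl⟩
      show φ _ = _
      rw [hX, (hone _).2 hd, map_one, one_mul]
      rfl
    exact hle hp


end Groth.Agent.S10891
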