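import Groth.Statements.S10893
import Groth.Agent.Clifford24.AbsCurveEff
-- import your own Groth.Agent.* helpers here

set_option autoImplicit false
universe u
open CategoryTheory AlgebraicGeometry
open Curves

set_option backward.isDefEq.respectTransparency.types false
namespace Groth.Agent.S10893

/-- Let C be an absolute curve (Noetherian, local rings at closed points one-dimensional) none of whose
points is open, and U ⊆ C an open dense subset. Then there is an effective divisor D on C with
support contained in U and meeting every irreducible component of C. -/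
theorem result {C : Scheme.{u}} [IsNoetherian C]
    (hC : ∀ x : C, IsClosed ({x} : Set C) → ringKrullDim (C.presheaf.stalk x) = 1)
    (hpt : ∀ x : C, ¬ IsOpen ({x} : Set C)) (U : C.Opens) (hU : Dense (U : Set C)) :
    ∃ D : Mero.Divisor C, Mero.IsEffective D ∧ Mero.supp D ⊆ (U : Set C) ∧
      ∀ Z ∈ irreducibleComponents (C : Type u), (Mero.supp D ∩ Z).Nonempty := by
  classical
  open Groth.Agent.Clifford24.AbsCurveDiv in
  choose p hpc hpU hpZ hpB using fun Z : irreducibleComponents (C : Type u) =>
    exists_closed_mem hC hpt hU finite_not_exists_nzd Z.2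
  have hr : ∀ x : C, x ∈ Set.range p → ∃ a : Mero.regStalk C x, ¬ IsUnit (a : C.presheaf.stalk x) := by
    rintro x ⟨Z, rfl⟩
    exact Groth.Agent.Clifford24.AbsCurveDiv.exists_nonunit_reg (hpB Z)
  choose a ha using hr
  let g : ∀ x, Mero.Germ C x := fun x =>
    if h : x ∈ Set.range p then QuotientGroup.mk (Groth.Agent.Clifford24.AbsCurveDiv.regUnit (a x h)) else 1
  haveI := (TopologicalSpace.NoetherianSpace.finite_irreducibleComponents (α := C)).to_subtype
  have hsupp : {x | g x ≠ 1} = Set.range p := by
    ext x
    by_cases h : x ∈ Set.range p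
    · refine iff_of_true ?_ h
      show g x ≠ 1
      rw [show g x = _ from dif_pos h]
      exact Groth.Agent.Clifford24.AbsCurveDiv.germ_regUnit_ne_one (ha x h)
    · exact iff_of_false (fun hne => hne (dif_neg h)) h
  refine ⟨⟨g, Groth.Agent.Clifford24.AbsCurveDiv.mem_divisorGroup_of_finite hC g (hsupp ▸ Set.finite_range p)⟩,
    fun x => ?_, fun x hx => ?_, fun Z hZ => ⟨p ⟨Z, hZ⟩, (hsupp.ge ⟨⟨Z, hZ⟩, rfl⟩ : _), hpZ ⟨Z, hZ⟩⟩⟩
  · by_cases h : x ∈ Set.range p
    · exact ⟨a x h, dif_pos h⟩
    · refine ⟨1, ?_⟩
      show g x = QuotientGroup.mk (Groth.Agent.Clifford24.AbsCurveDiv.regUnit (1 : Mero.regStalk C x))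
      rw [show Groth.Agent.Clifford24.AbsCurveDiv.regUnit (1 : Mero.regStalk C x) = 1 from Units.ext (map_one _),
        QuotientGroup.mk_one]
      exact dif_neg h
  · obtain ⟨Z, rfl⟩ := hsupp.le hx
    exact hpU Z

end Groth.Agent.S10893
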