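import Groth.Statements.S10894
import Groth.Agent.Clifford24.AbsCurveEff
-- import your own Groth.Agent.* helpers here

set_option autoImplicit false
universe u
open CategoryTheory AlgebraicGeometry
open Curves

set_option backward.isDefEq.respectTransparency.types false
namespace Groth.Agent.S10894

/-- On an absolute curve C (Noetherian, local rings at closed points one-dimensional) every divisor D is
a difference of two effective divisors each supported inside the support of D (divisors are written
multiplicatively, so the difference is D₁ · D₂⁻¹). -/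
theorem result {C : Scheme.{u}} [IsNoetherian C]
    (hC : ∀ x : C, IsClosed ({x} : Set C) → ringKrullDim (C.presheaf.stalk x) = 1) (D : Mero.Divisor C) :
    ∃ D₁ D₂ : Mero.Divisor C, Mero.IsEffective D₁ ∧ Mero.IsEffective D₂ ∧ D = D₁ * D₂⁻¹ ∧
      Mero.supp D₁ ⊆ Mero.supp D ∧ Mero.supp D₂ ⊆ Mero.supp D := by
  classical
  open Groth.Agent.Clifford24.AbsCurveDiv in
  choose a b hab using fun x => exists_germ_eq_div (D.1 x)
  let g₁ : ∀ x, Mero.Germ C x := fun x => if D.1 x = 1 then 1 else QuotientGroup.mk (Groth.Agent.Clifford24.AbsCurveDiv.regUnit (a x))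
  let g₂ : ∀ x, Mero.Germ C x := fun x => if D.1 x = 1 then 1 else QuotientGroup.mk (Groth.Agent.Clifford24.AbsCurveDiv.regUnit (b x))
  have hfin := Groth.Agent.Clifford24.AbsCurveDiv.finite_supp hC D
  have h1 : ∀ x, D.1 x = 1 → g₁ x = 1 := fun x h => if_pos h
  have h2 : ∀ x, D.1 x = 1 → g₂ x = 1 := fun x h => if_pos h
  let D₁ : Mero.Divisor C := ⟨g₁, Groth.Agent.Clifford24.AbsCurveDiv.mem_divisorGroup_of_finite hC g₁
    (hfin.subset fun x hx h => hx (h1 x h))⟩
  let D₂ : Mero.Divisor C := ⟨g₂, Groth.Agent.Clifford24.AbsCurveDiv.mem_divisorGroup_of_finite hC g₂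
    (hfin.subset fun x hx h => hx (h2 x h))⟩
  have heff : ∀ (c : ∀ x, Mero.regStalk C x) (x : C), ∃ r : Mero.regStalk C x,
      (if D.1 x = 1 then (1 : Mero.Germ C x) else QuotientGroup.mk (Groth.Agent.Clifford24.AbsCurveDiv.regUnit (c x))) =
        QuotientGroup.mk (Groth.Agent.Clifford24.AbsCurveDiv.regUnit r) := by
    intro c x
    by_cases h : D.1 x = 1
    · refine ⟨1, ?_⟩
      rw [if_pos h, show Groth.Agent.Clifford24.AbsCurveDiv.regUnit (1 : Mero.regStalk C x) = 1 from
        Units.ext (map_one _), QuotientGroup.mk_one]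
    · exact ⟨c x, if_neg h⟩
  refine ⟨D₁, D₂, heff a, heff b, ?_, fun x hx h => hx (h1 x h), fun x hx h => hx (h2 x h)⟩
  refine Subtype.ext (funext fun x => ?_)
  show D.1 x = g₁ x * (g₂ x)⁻¹
  by_cases h : D.1 x = 1
  · rw [h1 x h, h2 x h, h, inv_one]; exact (_root_.mul_one (1 : Mero.Germ C x)).symm
  · simp only [g₁, g₂, if_neg h]
    exact hab x

end Groth.Agent.S10894
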