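import Groth.Statements.S10895

set_option autoImplicit false
universe u
open CategoryTheory AlgebraicGeometry
open FlatMor

namespace Groth.Agent.S10895

/-- A closed immersion of finite presentation which is flat at a point x is an isomorphism over some
open neighbourhood of the image of x. -/
theorem result {X Y : Scheme.{u}} (f : X ⟶ Y) [IsClosedImmersion f]
    [LocallyOfFinitePresentation f] (x : X) (hflat : (f.stalkMap x).hom.Flat) :
    ∃ V : Y.Opens, f.base x ∈ V ∧ IsIso (f ∣_ V) := by
  have hinj : Function.Injective (f.stalkMap x).hom := by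
    let _ := (f.stalkMap x).hom.toAlgebra
    have : Module.Flat (Y.presheaf.stalk (f.base x)) (X.presheaf.stalk x) := hflat
    have : IsLocalHom (algebraMap (Y.presheaf.stalk (f.base x)) (X.presheaf.stalk x)) :=
      inferInstanceAs (IsLocalHom (f.stalkMap x).hom)
    have := Module.FaithfullyFlat.of_flat_of_isLocalHom
      (A := Y.presheaf.stalk (f.base x)) (B := X.presheaf.stalk x)
    exact FaithfulSMul.algebraMap_injective (Y.presheaf.stalk (f.base x)) (X.presheaf.stalk x)
  obtain ⟨U, hU, hxU⟩ : ∃ U : Y.Opens, IsAffineOpen U ∧ f.base x ∈ U := by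
    obtain ⟨U, hU, hxU, -⟩ := TopologicalSpace.Opens.isBasis_iff_nbhd.mp Y.isBasis_affineOpens
      (TopologicalSpace.Opens.mem_top (f.base x))
    exact ⟨U, hU, hxU⟩
  obtain ⟨s, hs⟩ : (RingHom.ker (f.app U).hom).FG := by
    have h1 : (f.app U).hom.FinitePresentation := by
      rw [← Scheme.Hom.appLE_eq_app]
      exact HasRingHomProperty.appLE @LocallyOfFinitePresentation f inferInstance ⟨U, hU⟩
        ⟨f ⁻¹ᵁ U, hU.preimage f⟩ le_rfl
    let _ := (f.app U).hom.toAlgebra
    have : Algebra.FinitePresentation Γ(Y, U) Γ(X, f ⁻¹ᵁ U) := h1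
    have hsurj : Function.Surjective (f.app U).hom := by
      have : IsAffine (U.toScheme) := hU
      have : IsClosedImmersion (f ∣_ U) := IsZariskiLocalAtTarget.restrict ‹_› _
      have h2 := (IsClosedImmersion.isAffine_surjective_of_isAffine (f ∣_ U)).2
      rw [Scheme.Hom.appTop, morphismRestrict_app] at h2
      have h3 : Function.Surjective (f.app (U.ι ''ᵁ ⊤)).hom := fun z => by
        obtain ⟨w, hw⟩ := h2 (X.presheaf.map (eqToHom (image_morphismRestrict_preimage f U ⊤)).op z)
        exact ⟨w, (ConcreteCategory.bijective_of_isIso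
          (X.presheaf.map (eqToHom (image_morphismRestrict_preimage f U ⊤)).op)).1 hw⟩
      exact Scheme.Opens.ι_image_top U ▸ h3
    exact Algebra.FinitePresentation.ker_fG_of_surjective
      (Algebra.ofId Γ(Y, U) Γ(X, f ⁻¹ᵁ U))
      hsurj
  let P := (hU.primeIdealOf ⟨f.base x, hxU⟩).asIdeal.primeCompl
  let _ := (Y.presheaf.germ U (f.base x) hxU).hom.toAlgebra
  have := hU.isLocalization_stalk ⟨f.base x, hxU⟩
  have hkill : ∀ a ∈ RingHom.ker (f.app U).hom, ∃ r : P, (r : Γ(Y, U)) * a = 0 := by
    intro a ha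
    refine (IsLocalization.map_eq_zero_iff P (Y.presheaf.stalk (f.base x)) (r := a)).1 (hinj ?_)
    change f.stalkMap x (Y.presheaf.germ U (f.base x) hxU a) = f.stalkMap x 0
    rw [Scheme.Hom.germ_stalkMap_apply, RingHom.mem_ker.1 ha, map_zero, map_zero]
  choose r hr using hkill
  obtain ⟨R, hR, hRa⟩ : ∃ R ∈ P, ∀ a ∈ RingHom.ker (f.app U).hom, R * a = 0 := by
    classical
    refine ⟨∏ a ∈ s.attach, (r a.1 (hs ▸ Ideal.subset_span a.2)).1,
      prod_mem fun a _ => (r _ _).2, fun a ha => ?_⟩
    rw [← hs] at ha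
    induction ha using Submodule.span_induction with
    | mem y hy =>
      rw [← Finset.prod_erase_mul _ _ (Finset.mem_attach s ⟨y, hy⟩), mul_assoc, hr, mul_zero]
    | zero => exact mul_zero _
    | add y z _ _ hy hz => rw [mul_add, hy, hz, add_zero]
    | smul c y _ hy => rw [smul_eq_mul, mul_left_comm, hy, mul_zero]
  have hxR : f.base x ∈ Y.basicOpen R := by
    rw [Scheme.mem_basicOpen _ _ _ hxU]
    exact (IsLocalization.AtPrime.isUnit_to_map_iff (Y.presheaf.stalk (f.base x))
      (hU.primeIdealOf ⟨f.base x, hxU⟩).asIdeal R).2 hR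
  have hinjR : Function.Injective (f.app (Y.basicOpen R)).hom := by
    let _ := (Y.presheaf.map (homOfLE (Y.basicOpen_le R)).op).hom.toAlgebra
    have := hU.isLocalization_basicOpen R
    have := (hU.preimage f).isLocalization_basicOpen (f.app U R)
    rw [RingHom.injective_iff_ker_eq_bot, RingHom.ker_eq_bot_iff_eq_zero]
    intro b hb
    obtain ⟨⟨a, ⟨_, n, rfl⟩⟩, hab⟩ := IsLocalization.surj (Submonoid.powers R) b
    have hu := IsLocalization.map_units Γ(Y, Y.basicOpen R) (⟨R ^ n, n, rfl⟩ : Submonoid.powers R)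
    refine (hu.mul_left_eq_zero).1 (hab.trans ?_)
    have h0 : f.app (Y.basicOpen R) (Y.presheaf.map (homOfLE (Y.basicOpen_le R)).op a) = 0 := by
      have := congrArg (f.app (Y.basicOpen R)) hab
      rw [map_mul, hb, zero_mul] at this
      exact this.symm
    rw [Scheme.Hom.app, ← CommRingCat.comp_apply, NatTrans.naturality, CommRingCat.comp_apply] at h0
    have hle : X.basicOpen (f.app U R) = f ⁻¹ᵁ Y.basicOpen R := (f.preimage_basicOpen R).symm
    have h1 : X.presheaf.map (homOfLE (X.basicOpen_le (f.app U R))).op (f.app U a) = 0 := by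
      have := congrArg (X.presheaf.map (homOfLE hle.le).op) h0
      rw [map_zero] at this
      refine Eq.trans ?_ this
      exact ConcreteCategory.congr_hom (X.presheaf.map_comp _ _) (f.app U a)
    obtain ⟨⟨_, m, rfl⟩, hm⟩ := (IsLocalization.map_eq_zero_iff (Submonoid.powers (f.app U R))
      Γ(X, X.basicOpen (f.app U R)) (f.app U a)).1 h1
    have hker : R * (R ^ m * a) = 0 := hRa _ (by
      rw [RingHom.mem_ker, map_mul, map_pow]
      exact hm)
    refine (IsLocalization.map_eq_zero_iff (Submonoid.powers R) Γ(Y, Y.basicOpen R) a).2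
      ⟨⟨R ^ (m + 1), m + 1, rfl⟩, ?_⟩
    change R ^ (m + 1) * a = 0
    rw [pow_succ', mul_assoc]
    exact hker
  refine ⟨Y.basicOpen R, hxR, ?_⟩
  have : IsAffine (Y.basicOpen R).toScheme := hU.basicOpen R
  have : IsClosedImmersion (f ∣_ Y.basicOpen R) := IsZariskiLocalAtTarget.restrict ‹_› _
  refine IsClosedImmersion.isIso_of_injective_of_isAffine ?_
  rw [Scheme.Hom.appTop, morphismRestrict_app]
  refine Function.Injective.comp (g := X.presheaf.map _) ?_ ?_
  · exact (ConcreteCategory.bijective_of_isIso _).1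
  · exact (show Function.Injective (f.app ((Y.basicOpen R).ι ''ᵁ ⊤)).hom from
      (Scheme.Opens.ι_image_top (Y.basicOpen R)).symm ▸ hinjR)

end Groth.Agent.S10895
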