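import Groth.Statements.S10896
import Groth.Agent.CubicSurface.PlanesThroughLine
-- import your own Groth.Agent.* helpers here

set_option autoImplicit false
universe u
open Cubic

namespace Groth.Agent.S10896

open Groth.Agent.CubicSurface

/-- Over an algebraically closed field of characteristic zero, a smooth cubic surface S = V_+(f) ⊂ P^3
which contains a line contains two disjoint lines (2-dimensional subspaces of k^4 on which f
vanishes and which intersect trivially). -/
theorem result (k : Type u) [Field k] [IsAlgClosed k] [CharZero k]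
    (f : MvPolynomial (Fin 4) k) (hf : f.IsHomogeneous 3) (hf0 : f ≠ 0)
    (hsm : ∀ v : Fin 4 → k, v ≠ 0 → MvPolynomial.eval v f = 0 →
      ∃ i : Fin 4, MvPolynomial.eval v (MvPolynomial.pderiv i f) ≠ 0)
    (hL : ∃ U : Submodule k (Fin 4 → k), (Module.finrank k ↥U = 2 ∧ ∀ u ∈ U, MvPolynomial.eval u f = 0)) :
    ∃ U₁ U₂ : Submodule k (Fin 4 → k), (Module.finrank k ↥U₁ = 2 ∧ ∀ u ∈ U₁, MvPolynomial.eval u f = 0) ∧ (Module.finrank k ↥U₂ = 2 ∧ ∀ u ∈ U₂, MvPolynomial.eval u f = 0) ∧ U₁ ⊓ U₂ = ⊥ := by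
  classical
  have hs := smooth_of hf hsm
  obtain ⟨L, hL⟩ := hL
  have hLl := (isLine_iff hf L).2 hL
  obtain ⟨P, hPc, hP, -⟩ := five_planes hs hLl
  obtain ⟨H, hH, H', hH', hne⟩ := Finset.one_lt_card.1 (show 1 < P.card by omega)
  obtain ⟨hd, hLH, U, _, hU, -, hUH, -, hUL, -⟩ := hP H hH
  obtain ⟨hd', hLH', U', _, hU', -, hU'H, -, hU'L, -⟩ := hP H' hH'
  exact ⟨U, U', (isLine_iff hf U).1 hU, (isLine_iff hf U').1 hU',
    disjoint_of_planes_ne hs hLl hd hd' hne hLH hLH' hU hU' hUH hU'H hUL hU'L⟩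

end Groth.Agent.S10896
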