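import Groth.Statements.S10898
import Mathlib
import Groth.Prelude

set_option linter.all false

set_option autoImplicit false
universe u
open Polynomial
open WDiv

open TensorProduct Polynomial

namespace Groth.Agent.S10898

/-- Let A be a Noetherian integral domain and P a prime ideal of height 1 of the polynomial ring A[X].
Then either P meets A in 0 only, or its contraction p = P ∩ A is a prime of height 1 of A and P is
the extension p·A[X]. (The published lemma also assumes A regular in codimension 1; that hypothesis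
is not used for this assertion.) -/
theorem result (A : Type u) [CommRing A] [IsDomain A]
    [IsNoetherianRing A] (P : Ideal A[X]) [P.IsPrime] (hP : P.height = 1) :
    P.comap (C : A →+* A[X]) = ⊥ ∨
      ((P.comap (C : A →+* A[X])).height = 1 ∧ P = (P.comap (C : A →+* A[X])).map C) := by
  refine or_iff_not_imp_left.2 fun hne => ?_
  have hP' : ∀ Q : Ideal A[X], Q.IsPrime → Q ≠ ⊥ → Q ≤ P → Q = P := by
    intro Q hQ hQ0 hle
    by_contra h
    haveI := hQ
    have h1 : Q.height + 1 ≤ P.height := Ideal.height_add_one_le_of_lt_of_isPrime (lt_of_le_of_ne hle h)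
    have h2 : Q.height ≠ 0 := fun h0 => hQ0 (Ideal.height_eq_zero_iff_eq_bot.1 h0)
    rw [hP] at h1
    exact h2 (nonpos_iff_eq_zero.1 ((ENat.add_le_add_iff_right (show (1 : ℕ∞) ≠ ⊤ from ENat.one_ne_top)).1 (by simpa using h1)))
  have hmapne : ∀ q : Ideal A, q ≠ ⊥ → q.map (C : A →+* A[X]) ≠ ⊥ := fun q hq h =>
    hq ((Ideal.map_eq_bot_iff_of_injective C_injective).1 h)
  let p := P.comap (C : A →+* A[X])
  haveI : p.IsPrime := Ideal.comap_isPrime _ _
  have heq : p.map C = P := hP' _ Ideal.isPrime_map_C_of_isPrime (hmapne p hne) Ideal.map_comap_le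
  refine ⟨le_antisymm ?_ ?_, heq.symm⟩
  · rw [show (1 : ℕ∞) = ((1 : ℕ) : ℕ∞) from rfl, Ideal.height_le_iff]
    intro q hq hlt
    haveI := hq
    suffices q = ⊥ by rw [this, Ideal.height_bot]; exact zero_lt_one
    by_contra hq0
    have h1 := hP' _ Ideal.isPrime_map_C_of_isPrime (hmapne q hq0) ((Ideal.map_mono hlt.le).trans Ideal.map_comap_le)
    refine hlt.ne (Ideal.ext fun x => ?_)
    show x ∈ q ↔ C x ∈ P
    rw [← h1, Ideal.mem_map_C_iff]
    exact ⟨fun hx m => by rw [coeff_C]; split_ifs; exacts [hx, zero_mem _], fun hx => by simpa using hx 0⟩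
  · exact ENat.one_le_iff_ne_zero.2 fun h0 => hne (Ideal.height_eq_zero_iff_eq_bot.1 h0)

end Groth.Agent.S10898
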