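import Groth.Statements.S10899
import Mathlib.RingTheory.DiscreteValuationRing.TFAE
import Mathlib.RingTheory.Ideal.Height
import Mathlib.RingTheory.Polynomial.Basic

set_option autoImplicit false
universe u
open Polynomial
open WDiv

namespace Groth.Agent.S10899

/-- principal maximal ideal criterion -/
theorem dvr_of_locally_principal {B : Type u} [CommRing B] [IsDomain B] [IsNoetherianRing B] (P : Ideal B) [P.IsPrime]
    (hP : P ≠ ⊥) (g : B) (hg : g ∈ P) (h : ∀ f ∈ P, ∃ s ∉ P, s * f ∈ Ideal.span {g}) :
    IsDiscreteValuationRing (Localization.AtPrime P) := by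
  let L := Localization.AtPrime P
  haveI : IsNoetherianRing L := IsLocalization.isNoetherianRing P.primeCompl _ inferInstance
  haveI : IsDomain L := IsLocalization.isDomain_of_atPrime L P
  have hmax : IsLocalRing.maximalIdeal L = Ideal.span {algebraMap B L g} := by
    rw [← Localization.AtPrime.map_eq_maximalIdeal]
    refine le_antisymm (Ideal.map_le_iff_le_comap.mpr fun f hf => ?_)
      ((Ideal.span_singleton_le_iff_mem _).mpr (Ideal.mem_map_of_mem _ hg))
    obtain ⟨s, hs, hsf⟩ := h f hf
    have := Ideal.mem_map_of_mem (algebraMap B L) hsf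
    rw [Ideal.map_span, Set.image_singleton, map_mul] at this
    exact (Ideal.unit_mul_mem_iff_mem _ (IsLocalization.map_units L (⟨s, hs⟩ : P.primeCompl))).mp this
  have hne : ¬ IsField L := by
    rw [IsLocalRing.isField_iff_maximalIdeal_eq, ← Localization.AtPrime.map_eq_maximalIdeal, ← ne_eq,
      ← Ideal.map_bot (f := algebraMap B L)]
    exact fun h => hP (by
      have h' := congrArg (Ideal.comap (algebraMap B L)) h
      rw [Ideal.map_bot, ← RingHom.ker_eq_comap_bot,
        (RingHom.injective_iff_ker_eq_bot _).mp (IsLocalization.injective L P.primeCompl_le_nonZeroDivisors),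
        Localization.AtPrime.map_eq_maximalIdeal] at h'
      rw [← Localization.AtPrime.under_maximalIdeal (I := P)]
      exact h')
  exact ((IsDiscreteValuationRing.TFAE L hne).out 0 4).mpr (show (IsLocalRing.maximalIdeal L).IsPrincipal from ⟨_, hmax⟩)

/-- Let A be a Noetherian integral domain which is regular in codimension 1, i.e. whose localization at
every prime ideal of height 1 is a discrete valuation ring. Then the polynomial ring A[X] is regular
in codimension 1 as well: its localization at every prime ideal of height 1 is a discrete valuation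
ring. -/
theorem result (A : Type u) [CommRing A]
    [IsDomain A] [IsNoetherianRing A]
    (hR1 : ∀ (p : Ideal A) [p.IsPrime], p.height = 1 → IsDiscreteValuationRing (Localization.AtPrime p))
    (P : Ideal A[X]) [P.IsPrime] (hP : P.height = 1) :
    IsDiscreteValuationRing (Localization.AtPrime P) := by
  classical
  have hP0 : P ≠ ⊥ := by
    rintro rfl
    rw [Ideal.height_bot] at hP
    exact zero_ne_one hP
  have hmin : ∀ Q : Ideal A[X], Q.IsPrime → Q ≠ ⊥ → Q ≤ P → Q = P := by
    intro Q hQ hQ0 hle
    by_contra hne
    have h1 := Ideal.height_strict_mono_of_isPrime (lt_of_le_of_ne hle hne)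
    have h2 := Ideal.height_strict_mono_of_isPrime (I := (⊥ : Ideal A[X])) (bot_lt_iff_ne_bot.mpr hQ0)
    rw [hP, ENat.lt_one_iff_eq_zero] at h1
    rw [h1] at h2
    exact not_lt_zero h2
  let p := P.comap (Polynomial.C : A →+* A[X])
  haveI hp : p.IsPrime := Ideal.IsPrime.comap _
  by_cases hp0 : p = ⊥
  · obtain ⟨g, hg, hgen⟩ : ∃ g ∈ P, ∀ f ∈ P, ∃ s ∉ P, s * f ∈ Ideal.span {g} := by
      have hK : ∃ f ∈ P, f ≠ 0 := Submodule.exists_mem_ne_zero_of_ne_bot hP0
      obtain ⟨g, ⟨hg, hg0⟩, hmin'⟩ := (measure fun f : A[X] => f.natDegree).wf.has_min {f | f ∈ P ∧ f ≠ 0} hK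
      refine ⟨g, hg, fun f hf => ?_⟩
      suffices ∀ N, ∀ f ∈ P, f.natDegree < N → ∃ a : A, a ≠ 0 ∧ Polynomial.C a * f ∈ Ideal.span {g} by
        obtain ⟨a, ha, h⟩ := this _ f hf (Nat.lt_succ_self _)
        exact ⟨_, fun hm => ha (by
          have : a ∈ p := hm
          rwa [hp0, Ideal.mem_bot] at this), h⟩
      intro N
      induction N with
      | zero => intro f _ h; exact absurd h (Nat.not_lt_zero _)
      | succ N ih =>
        intro f hf hN
        by_cases hf0 : f = 0
        · exact ⟨1, one_ne_zero, by simp [hf0]⟩
        have hdeg : g.natDegree ≤ f.natDegree := by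
          by_contra h
          exact hmin' f ⟨hf, hf0⟩ (not_le.mp h)
        let f' := Polynomial.C g.leadingCoeff * f - g * (Polynomial.C f.leadingCoeff * X ^ (f.natDegree - g.natDegree))
        have hf' : f' ∈ P := P.sub_mem (P.mul_mem_left _ hf) (P.mul_mem_right _ hg)
        have hlg : g.leadingCoeff ≠ 0 := Polynomial.leadingCoeff_ne_zero.mpr hg0
        have hmem : ∀ a : A, Polynomial.C a * f' ∈ Ideal.span {g} → Polynomial.C (a * g.leadingCoeff) * f ∈ Ideal.span {g} := by
          intro a h
          have : Polynomial.C (a * g.leadingCoeff) * f = Polynomial.C a * f' +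
              Polynomial.C a * (Polynomial.C f.leadingCoeff * X ^ (f.natDegree - g.natDegree)) * g := by
            simp only [f', map_mul]; ring
          rw [this]
          exact Ideal.add_mem _ h (Ideal.mul_mem_left _ _ (Ideal.mem_span_singleton_self g))
        by_cases hf'0 : f' = 0
        · exact ⟨g.leadingCoeff, hlg, by simpa using hmem 1 (by simp [hf'0])⟩
        have hlt : f'.natDegree < f.natDegree := by
          have hle : f'.natDegree ≤ f.natDegree := by
            refine (Polynomial.natDegree_sub_le _ _).trans (max_le (Polynomial.natDegree_C_mul_le _ _) ?_)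
            refine Polynomial.natDegree_mul_le.trans ?_
            have := Polynomial.natDegree_C_mul_X_pow_le f.leadingCoeff (f.natDegree - g.natDegree)
            omega
          refine lt_of_le_of_ne hle fun he => hf'0 (Polynomial.leadingCoeff_eq_zero.mp ?_)
          rw [Polynomial.leadingCoeff, he, Polynomial.coeff_sub, Polynomial.coeff_C_mul, ← mul_assoc]
          rw [Polynomial.coeff_mul_X_pow', if_pos (Nat.sub_le _ _),
            show f.natDegree - (f.natDegree - g.natDegree) = g.natDegree by omega, Polynomial.coeff_mul_C]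
          rw [Polynomial.coeff_natDegree, Polynomial.coeff_natDegree]
          ring
        obtain ⟨a, ha, h⟩ := ih f' hf' (by omega)
        exact ⟨a * g.leadingCoeff, mul_ne_zero ha hlg, hmem a h⟩
    exact dvr_of_locally_principal P hP0 g hg hgen
  · have hprime : (p.map (Polynomial.C : A →+* A[X])).IsPrime := inferInstance
    have hne : p.map (Polynomial.C : A →+* A[X]) ≠ ⊥ := fun h => hp0 ((Ideal.map_eq_bot_iff_of_injective Polynomial.C_injective).mp h)
    have hPeq := hmin _ hprime hne Ideal.map_comap_le
    have hht : p.height = 1 := by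
      refine le_antisymm (le_of_not_gt fun hgt => ?_) ?_
      · obtain ⟨q, hqp, hq, hq0⟩ : ∃ q : Ideal A, q < p ∧ q.IsPrime ∧ q ≠ ⊥ := by
          by_contra hc
          simp only [not_exists, not_and, not_not] at hc
          have hle : p.height ≤ ((1 : ℕ) : ℕ∞) := by
            refine Ideal.height_le_iff.mpr fun q hq hqp => ?_
            rw [hc q hqp hq, Ideal.height_bot]
            exact_mod_cast zero_lt_one
          exact absurd hgt (not_lt.mpr (by exact_mod_cast hle))
        haveI := hq
        have h1 := hmin (q.map Polynomial.C) inferInstance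
          (fun h => hq0 ((Ideal.map_eq_bot_iff_of_injective Polynomial.C_injective).mp h))
          ((Ideal.map_mono hqp.le).trans Ideal.map_comap_le)
        apply hqp.ne
        have h2 := congrArg (Ideal.comap (Polynomial.C : A →+* A[X])) h1
        refine Eq.trans ?_ h2
        exact le_antisymm Ideal.le_comap_map fun a ha => by
          have := Ideal.mem_map_C_iff.mp ha 0
          simpa using this
      · have := Ideal.height_strict_mono_of_isPrime (I := (⊥ : Ideal A)) (bot_lt_iff_ne_bot.mpr hp0)
        rw [Ideal.height_bot] at this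
        exact Order.one_le_iff_pos.mpr this
    haveI := hR1 p hht
    obtain ⟨ϖ, hϖ⟩ := IsDiscreteValuationRing.exists_irreducible (Localization.AtPrime p)
    obtain ⟨⟨π, u⟩, hπ⟩ := IsLocalization.surj p.primeCompl ϖ
    have hm : IsLocalRing.maximalIdeal (Localization.AtPrime p) = Ideal.span {algebraMap A _ π} := by
      rw [← hπ, Ideal.span_singleton_mul_right_unit (IsLocalization.map_units _ u)]
      exact (IsDiscreteValuationRing.irreducible_iff_uniformizer ϖ).mp hϖ
    have hπp : π ∈ p := by
      rw [← Localization.AtPrime.under_maximalIdeal (I := p)]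
      show algebraMap A _ π ∈ IsLocalRing.maximalIdeal _
      rw [hm]
      exact Ideal.mem_span_singleton_self _
    let J : Ideal A[X] :=
      { carrier := {f | ∃ s ∉ P, s * f ∈ Ideal.span {Polynomial.C π}}
        zero_mem' := ⟨1, (Ideal.ne_top_iff_one P).mp (Ideal.IsPrime.ne_top inferInstance), by simp⟩
        add_mem' := by
          rintro a b ⟨s, hs, ha⟩ ⟨t, ht, hb⟩
          refine ⟨s * t, fun h => (Ideal.IsPrime.mem_or_mem inferInstance h).elim hs ht, ?_⟩
          rw [show s * t * (a + b) = t * (s * a) + s * (t * b) by ring]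
          exact Ideal.add_mem _ (Ideal.mul_mem_left _ _ ha) (Ideal.mul_mem_left _ _ hb)
        smul_mem' := by
          rintro c a ⟨s, hs, ha⟩
          exact ⟨s, hs, by rw [smul_eq_mul, show s * (c * a) = c * (s * a) by ring]; exact Ideal.mul_mem_left _ _ ha⟩ }
    have hle : p.map (Polynomial.C : A →+* A[X]) ≤ J := by
      rw [Ideal.map_le_iff_le_comap]
      intro a ha
      have hmem : algebraMap A (Localization.AtPrime p) a ∈ Ideal.span {algebraMap A _ π} := by
        rw [← hm, ← Localization.AtPrime.map_eq_maximalIdeal]
        exact Ideal.mem_map_of_mem _ ha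
      rw [← Set.image_singleton, ← Ideal.map_span, IsLocalization.algebraMap_mem_map_algebraMap_iff p.primeCompl] at hmem
      obtain ⟨s, hs, hsa⟩ := hmem
      refine ⟨Polynomial.C s, hs, ?_⟩
      obtain ⟨c, hc⟩ := Ideal.mem_span_singleton'.mp hsa
      exact Ideal.mem_span_singleton'.mpr ⟨Polynomial.C c, by rw [← map_mul, ← map_mul, hc]⟩
    exact dvr_of_locally_principal P hP0 (Polynomial.C π) hπp fun f hf => hle (hPeq ▸ hf)

end Groth.Agent.S10899
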