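import Groth.Statements.S10901
import Groth.Agent.CommAlg4.AffineSpaceDiv
-- import your own Groth.Agent.* helpers here

set_option autoImplicit false
universe u
open CategoryTheory CategoryTheory.Limits AlgebraicGeometry TopologicalSpace
open WDiv

namespace Groth.Agent.S10901

/-- Affine charts of affine space over an affine neighbourhood of a given point of the base. -/
theorem exists_chart (ι : Type u) (X : Scheme.{u}) [IsIntegral X] [IsLocallyNoetherian X] (x : X) :
    ∃ (R : CommRingCat.{u}) (j0 : Spec R ⟶ X) (jA : Spec (CommRingCat.of (MvPolynomial ι R)) ⟶ 𝔸(ι; X)),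
      IsDomain R ∧ IsNoetherianRing R ∧ IsOpenImmersion j0 ∧ IsOpenImmersion jA ∧ x ∈ Set.range j0 ∧
      (∀ w, (𝔸(ι; X) ↘ X) (jA w) = j0 (Spec.map (CommRingCat.ofHom (MvPolynomial.C : R →+* MvPolynomial ι R)) w)) ∧
      ∀ y, (𝔸(ι; X) ↘ X) y ∈ Set.range j0 → y ∈ Set.range jA := by
  obtain ⟨_, ⟨U, hU, rfl⟩, hxU, -⟩ :=
    X.isBasis_affineOpens.exists_subset_of_mem_open (Set.mem_univ x) isOpen_univ
  have hU : IsAffineOpen U := hU
  haveI : Nonempty U := ⟨⟨x, hxU⟩⟩
  have hj : IsOpenImmersion hU.fromSpec := inferInstance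
  have hmap : IsOpenImmersion (AffineSpace.map ι hU.fromSpec) :=
    MorphismProperty.of_isPullback (P := @IsOpenImmersion) (AffineSpace.isPullback_map hU.fromSpec).flip hj
  refine ⟨Γ(X, U), hU.fromSpec, (AffineSpace.SpecIso ι Γ(X, U)).inv ≫ AffineSpace.map ι hU.fromSpec,
    inferInstance, IsLocallyNoetherian.component_noetherian ⟨U, hU⟩, hj, inferInstance, ?_, fun w => ?_, fun y hy => ?_⟩
  · rw [IsAffineOpen.range_fromSpec]; exact hxU
  · rw [← Scheme.Hom.comp_apply, Category.assoc, AffineSpace.map_over, AffineSpace.SpecIso_inv_over_assoc,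
      Scheme.Hom.comp_apply]
  · obtain ⟨t, ht⟩ := hy
    have hpb := AffineSpace.isPullback_map (n := ι) hU.fromSpec
    obtain ⟨z, hz1, hz2⟩ := Scheme.Pullback.exists_preimage_pullback (f := 𝔸(ι; X) ↘ X) (g := hU.fromSpec) y t ht.symm
    refine ⟨(AffineSpace.SpecIso ι Γ(X, U)).hom (hpb.isoPullback.inv z), ?_⟩
    rw [← Scheme.Hom.comp_apply, ← Scheme.Hom.comp_apply, Iso.hom_inv_id_assoc, IsPullback.isoPullback_inv_fst, hz1]

/-- Points of codimension one of affine space lying over a non-generic point. -/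
theorem vertical (ι : Type u) [Finite ι] (X : Scheme.{u}) [IsIntegral X] [IsLocallyNoetherian X]
    [IsLocallyNoetherian 𝔸(ι; X)] (x : X) (hx : x ≠ genericPoint X) (y₁ y₂ : ↥(𝔸(ι; X)))
    (h₁ : Order.coheight y₁ = 1) (h₂ : Order.coheight y₂ = 1)
    (e₁ : (𝔸(ι; X) ↘ X) y₁ = x) (e₂ : (𝔸(ι; X) ↘ X) y₂ = x) :
    Order.coheight x = 1 ∧ y₁ = y₂ := by
  obtain ⟨R, j0, jA, hdom, hnoeth, hj0, hjA, hxR, hcomm, hrange⟩ := exists_chart ι X x
  obtain ⟨w₁, rfl⟩ := hrange y₁ (e₁.symm ▸ hxR)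
  obtain ⟨w₂, rfl⟩ := hrange y₂ (e₂.symm ▸ hxR)
  obtain ⟨t, rfl⟩ := hxR
  have c₁ : Spec.map (CommRingCat.ofHom (MvPolynomial.C : R →+* MvPolynomial ι R)) w₁ = t :=
    hj0.base_open.injective ((hcomm w₁).symm.trans e₁)
  have c₂ : Spec.map (CommRingCat.ofHom (MvPolynomial.C : R →+* MvPolynomial ι R)) w₂ = t :=
    hj0.base_open.injective ((hcomm w₂).symm.trans e₂)
  rw [coheight_eq_of_isOpenImmersion jA] at h₁ h₂
  have hh₁ : w₁.asIdeal.height = 1 := (idealHeight_eq_coheight _ w₁).trans h₁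
  have hh₂ : w₂.asIdeal.height = 1 := (idealHeight_eq_coheight _ w₂).trans h₂
  have i₁ : w₁.asIdeal.comap (MvPolynomial.C : R →+* MvPolynomial ι R) = t.asIdeal := by rw [← c₁]; rfl
  have i₂ : w₂.asIdeal.comap (MvPolynomial.C : R →+* MvPolynomial ι R) = t.asIdeal := by rw [← c₂]; rfl
  have ht : t.asIdeal ≠ ⊥ := by
    intro h
    apply hx
    haveI : Nonempty (Spec R) := ⟨t⟩
    haveI : IsIntegral (Spec R) := inferInstance
    have : t = genericPoint (Spec R) := by
      rw [genericPoint_eq_bot_of_affine R]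
      exact PrimeSpectrum.ext h
    rw [this, genericPoint_eq_of_isOpenImmersion j0]
  haveI : w₁.asIdeal.IsPrime := w₁.isPrime
  haveI : w₂.asIdeal.IsPrime := w₂.isPrime
  obtain ⟨a₁, b₁⟩ := CommAlg4.AffineSpaceDiv.eq_map_of_comap_ne_bot w₁.asIdeal hh₁ (i₁ ▸ ht)
  obtain ⟨a₂, b₂⟩ := CommAlg4.AffineSpaceDiv.eq_map_of_comap_ne_bot w₂.asIdeal hh₂ (i₂ ▸ ht)
  refine ⟨?_, ?_⟩
  · rw [coheight_eq_of_isOpenImmersion j0, ← idealHeight_eq_coheight R t, ← i₁]; exact a₁
  · congr 1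
    exact PrimeSpectrum.ext (by rw [b₁, b₂, i₁, i₂])

/-- Let X be an integral Noetherian separated scheme which is regular in codimension 1 (the local ring
at every point of coheight 1 is a discrete valuation ring), and p : A^m_X → X the affine m-space
over X. Then pulling back along p is surjective on divisor classes: for every Weil divisor D' on
A^m_X (an integer-valued function on its points with finite support inside the points of coheight 1)
there are a Weil divisor D on X and a nonzero rational function g on A^m_X such that D'(y) = D(p(y))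
+ ord_y(g) at every point y of A^m_X of coheight 1. -/
theorem result (m : ℕ) (X : Scheme.{u}) [IsIntegral X]
    [IsNoetherian X] [X.IsSeparated] [IsLocallyNoetherian 𝔸(ULift.{u} (Fin m); X)]
    (hR1 : ∀ x : ↥X, Order.coheight x = 1 → IsDiscreteValuationRing ↑(X.presheaf.stalk x))
    (D' : ↥(𝔸(ULift.{u} (Fin m); X)) → ℤ) (hD' : ∀ y, Order.coheight y ≠ 1 → D' y = 0) (hfin : {y | D' y ≠ 0}.Finite) :
    ∃ (D : ↥X → ℤ) (g : ↑(𝔸(ULift.{u} (Fin m); X)).functionField), (∀ x, Order.coheight x ≠ 1 → D x = 0) ∧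
      {x | D x ≠ 0}.Finite ∧ g ≠ 0 ∧
        ∀ y : ↥(𝔸(ULift.{u} (Fin m); X)), Order.coheight y = 1 → D' y = D ((𝔸(ULift.{u} (Fin m); X) ↘ X) y) + Scheme.ord g y := by
  classical
  haveI : CompactSpace 𝔸(ULift.{u} (Fin m); X) := QuasiCompact.compactSpace_of_compactSpace (𝔸(ULift.{u} (Fin m); X) ↘ X)
  -- a rational function matching `D'` on the horizontal part
  obtain ⟨R, j0, jA, hdom, hnoeth, hj0, hjA, hxR, hcomm, hrange⟩ := exists_chart (ULift.{u} (Fin m)) X (genericPoint X)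
  obtain ⟨t, ht⟩ := hxR
  haveI : Nonempty (Spec R) := ⟨t⟩
  haveI : Nonempty ↥(Spec (CommRingCat.of (MvPolynomial (ULift.{u} (Fin m)) R))) := inferInstance
  obtain ⟨E, hE, hord⟩ := CommAlg4.OrdTransfer.exists_map_functionField jA
  let H : Set ↥(Spec (CommRingCat.of (MvPolynomial (ULift.{u} (Fin m)) R))) :=
    {w | w.asIdeal.comap (MvPolynomial.C : R →+* MvPolynomial (ULift.{u} (Fin m)) R) = ⊥}
  have hgen : ∀ x ∈ H, Order.coheight x = 1 → ∃ π : CommRingCat.of (MvPolynomial (ULift.{u} (Fin m)) R), π ≠ 0 ∧ π ∈ x.asIdeal ∧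
      (∀ y ∈ H, Order.coheight y = 1 → π ∈ y.asIdeal → y = x) ∧
      ∀ a ∈ x.asIdeal, ∃ c ∉ x.asIdeal, π ∣ c * a := by
    intro x hxH hx
    haveI : x.asIdeal.IsPrime := x.isPrime
    obtain ⟨π, h0, h1, h2, h3⟩ := CommAlg4.AffineSpaceDiv.exists_equation_horizontal x.asIdeal
      ((idealHeight_eq_coheight _ x).trans hx) hxH
    exact ⟨π, h0, h1, fun y hyH hy hmem => PrimeSpectrum.ext (h2 y.asIdeal y.isPrime ((idealHeight_eq_coheight _ y).trans hy) hyH hmem), h3⟩
  obtain ⟨f, hf0, hf⟩ := CommAlg4.AffineSpaceDiv.exists_ord_eq_on _ H hgen (fun w => D' (jA w))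
    (fun w hw => hD' _ (by rw [coheight_eq_of_isOpenImmersion jA]; exact hw))
    (hfin.preimage hjA.base_open.injective.injOn)
  obtain ⟨g, rfl⟩ := hE.2 f
  have hg : g ≠ 0 := fun h => hf0 (by rw [h, map_zero])
  have hhor : ∀ y, Order.coheight y = 1 → (𝔸(ULift.{u} (Fin m); X) ↘ X) y = genericPoint X → D' y = Scheme.ord g y := by
    intro y hy hgy
    obtain ⟨w, rfl⟩ := hrange y (by rw [hgy, ← ht]; exact ⟨t, rfl⟩)
    have hwH : w ∈ H := by
      have h1 : j0 (Spec.map (CommRingCat.ofHom (MvPolynomial.C : R →+* MvPolynomial (ULift.{u} (Fin m)) R)) w) = j0 (genericPoint (Spec R)) :=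
        (hcomm w).symm.trans (hgy.trans (genericPoint_eq_of_isOpenImmersion j0).symm)
      have h2 := hj0.base_open.injective h1
      rw [genericPoint_eq_bot_of_affine R] at h2
      show w.asIdeal.comap _ = ⊥
      exact congrArg PrimeSpectrum.asIdeal h2
    rw [← hord w g]
    exact (hf w hwH (by rw [← coheight_eq_of_isOpenImmersion jA]; exact hy)).symm
  -- the vertical part
  let V : ↥X → ↥(𝔸(ULift.{u} (Fin m); X)) → Prop := fun x y =>
    Order.coheight y = 1 ∧ (𝔸(ULift.{u} (Fin m); X) ↘ X) y = x ∧ x ≠ genericPoint X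
  let D : ↥X → ℤ := fun x => if h : ∃ y, V x y then D' h.choose - Scheme.ord g h.choose else 0
  have hDsupp : ∀ x, D x ≠ 0 → ∃ y, V x y ∧ (D' y ≠ 0 ∨ Scheme.ord g y ≠ 0) := by
    intro x hx
    by_cases h : ∃ y, V x y
    · refine ⟨h.choose, h.choose_spec, ?_⟩
      simp only [D, dif_pos h] at hx
      by_contra hc
      rw [not_or, not_not, not_not] at hc
      rw [hc.1, hc.2] at hx
      exact hx (sub_zero 0)
    · exact absurd (dif_neg h) hx
  refine ⟨D, g, fun x hx => by_contra fun h => ?_, ?_, hg, fun y hy => ?_⟩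
  · obtain ⟨y, ⟨hy, e, hne⟩, -⟩ := hDsupp x h
    exact hx (vertical _ X x hne y y hy hy e e).1
  · refine ((hfin.union (CommAlg4.AffineSpaceDiv.finite_ord_support hg)).image (fun y => (𝔸(ULift.{u} (Fin m); X) ↘ X) y)).subset fun x hx => ?_
    obtain ⟨y, ⟨-, e, -⟩, h'⟩ := hDsupp x hx
    exact ⟨y, h', e⟩
  · by_cases hgy : (𝔸(ULift.{u} (Fin m); X) ↘ X) y = genericPoint X
    · have h0 : D ((𝔸(ULift.{u} (Fin m); X) ↘ X) y) = 0 := by
        simp only [D]
        exact dif_neg fun ⟨z, hz⟩ => hz.2.2 hgy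
      rw [h0, zero_add, hhor y hy hgy]
    · have h : ∃ z, V ((𝔸(ULift.{u} (Fin m); X) ↘ X) y) z := ⟨y, hy, rfl, hgy⟩
      have he : h.choose = y := (vertical _ X _ hgy h.choose y h.choose_spec.1 hy h.choose_spec.2.1 rfl).2
      simp only [D, dif_pos h, he]
      ring

end Groth.Agent.S10901
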