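import Groth.Statements.S10900
import Groth.Agent.S10901
import Groth.Agent.WDivPn5.Ring
-- import your own Groth.Agent.* helpers here

set_option autoImplicit false
universe u
open CategoryTheory CategoryTheory.Limits AlgebraicGeometry TopologicalSpace
open WDiv

set_option linter.style.haveILetI false
set_option backward.isDefEq.respectTransparency false

namespace Groth.Agent.S10900

open Groth.Agent WDivPn5

/-- The map of function fields along a morphism preserving the generic point. -/
noncomputable def ff {X Y : Scheme.{u}} [IsIntegral X] [IsIntegral Y] (f : X ⟶ Y)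
    (h : f (genericPoint X) = genericPoint Y) : Y.functionField →+* X.functionField :=
  (Y.presheaf.stalkSpecializes (h ▸ specializes_rfl : f (genericPoint X) ⤳ genericPoint Y) ≫
    f.stalkMap (genericPoint X)).hom

theorem ff_comp {X Y Z : Scheme.{u}} [IsIntegral X] [IsIntegral Y] [IsIntegral Z] (f : X ⟶ Y) (g : Y ⟶ Z)
    (hf : f (genericPoint X) = genericPoint Y) (hg : g (genericPoint Y) = genericPoint Z)
    (hfg : (f ≫ g) (genericPoint X) = genericPoint Z) (a : Z.functionField) :
    ff (f ≫ g) hfg a = ff f hf (ff g hg a) := by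
  simp only [ff, CommRingCat.hom_comp, RingHom.comp_apply, Scheme.Hom.stalkMap_comp]
  congr 1
  have key := Scheme.Hom.stalkSpecializes_stalkMap_apply g (f (genericPoint X)) (genericPoint Y)
    (hf ▸ specializes_rfl : f (genericPoint X) ⤳ genericPoint Y)
    ((Z.presheaf.stalkSpecializes (hg ▸ specializes_rfl : g (genericPoint Y) ⤳ genericPoint Z)).hom a)
  refine Eq.trans ?_ key
  show (g.stalkMap (f (genericPoint X))).hom _ =
    (g.stalkMap (f (genericPoint X))).hom ((Z.presheaf.stalkSpecializes _).hom ((Z.presheaf.stalkSpecializes _).hom a))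
  congr 1
  exact (DFunLike.congr_fun (congrArg CommRingCat.Hom.hom
    (TopCat.Presheaf.stalkSpecializes_comp (F := Z.presheaf) _ _)) a).symm

theorem ff_congr {X Y : Scheme.{u}} [IsIntegral X] [IsIntegral Y] {f f' : X ⟶ Y} (e : f = f')
    (h : f (genericPoint X) = genericPoint Y) (h' : f' (genericPoint X) = genericPoint Y) :
    ff f h = ff f' h' := by
  subst e
  rfl

theorem ff_specMap {R S : CommRingCat.{u}} [IsDomain R] [IsDomain S] (φ : R ⟶ S)
    (h : Spec.map φ (genericPoint (Spec S)) = genericPoint (Spec R)) (r : R) :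
    ff (Spec.map φ) h (phi R r) = phi S (φ r) := by
  show ((Spec R).presheaf.stalkSpecializes _ ≫ (Spec.map φ).stalkMap (genericPoint (Spec S))).hom
      (((Spec R).presheaf.germ ⊤ (genericPoint (Spec R)) trivial).hom ((Scheme.ΓSpecIso R).inv.hom r)) = _
  rw [CommRingCat.hom_comp, RingHom.comp_apply, ← CommRingCat.comp_apply ((Spec R).presheaf.germ ⊤ _ _),
    TopCat.Presheaf.germ_stalkSpecializes]
  refine (Scheme.Hom.germ_stalkMap_apply (Spec.map φ) ⊤ (genericPoint (Spec S)) trivial _).trans ?_
  have e : (Spec.map φ).appTop ((Scheme.ΓSpecIso R).inv.hom r) = (Scheme.ΓSpecIso S).inv.hom (φ r) :=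
    (DFunLike.congr_fun (congrArg CommRingCat.Hom.hom (Scheme.ΓSpecIso_inv_naturality φ)) r).symm
  show ((Spec S).presheaf.germ ⊤ (genericPoint (Spec S)) trivial).hom
    ((Spec.map φ).appTop ((Scheme.ΓSpecIso R).inv.hom r)) = _
  rw [e]
  rfl

theorem ord_ff {X Y : Scheme.{u}} [IsIntegral X] [IsIntegral Y] [IsLocallyNoetherian X] [IsLocallyNoetherian Y]
    (j : X ⟶ Y) [IsOpenImmersion j] (hj : j (genericPoint X) = genericPoint Y) (x : X) (f : Y.functionField) :
    Scheme.ord (ff j hj f) x = Scheme.ord f (j x) := by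
  by_cases hx : Order.coheight x = 1
  swap
  · rw [Scheme.ord_eq_zero_of_coheight_neq_one hx, Scheme.ord_eq_zero_of_coheight_neq_one (by rw [coheight_eq_of_isOpenImmersion j]; exact hx)]
  have hjx : Order.coheight (j x) = 1 := by rw [coheight_eq_of_isOpenImmersion j]; exact hx
  haveI : Ring.KrullDimLE 1 (X.presheaf.stalk x) := krullDimLE_of_coheight_le hx.le
  haveI : Ring.KrullDimLE 1 (Y.presheaf.stalk (j x)) := krullDimLE_of_coheight_le hjx.le
  rw [Scheme.ord_eq_ordHom_of_coheight_eq_one hx, Scheme.ord_eq_ordHom_of_coheight_eq_one hjx]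
  congr 2
  refine CommAlg4.OrdTransfer.ordFrac_ringEquiv (A := Y.presheaf.stalk (j x)) (B := X.presheaf.stalk x)
    (asIso (j.stalkMap x)).commRingCatIsoToRingEquiv (ff j hj) (fun a => ?_) f
  have key := Scheme.Hom.stalkSpecializes_stalkMap_apply j (genericPoint X) x (genericPoint_specializes x) a
  show ff j hj ((Y.presheaf.stalkSpecializes (genericPoint_specializes (j x))).hom a) =
    (X.presheaf.stalkSpecializes (genericPoint_specializes x)).hom ((j.stalkMap x).hom a)
  refine Eq.trans ?_ key
  show (j.stalkMap (genericPoint X)).hom ((Y.presheaf.stalkSpecializes _).hom ((Y.presheaf.stalkSpecializes (genericPoint_specializes (j x))).hom a)) = _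
  rw [← CommRingCat.comp_apply (Y.presheaf.stalkSpecializes (genericPoint_specializes (j x))), TopCat.Presheaf.stalkSpecializes_comp]

/-- A chart of affine space with variables indexed by `Fin m`. -/
theorem exists_chart' (m : ℕ) (X : Scheme.{u}) [IsIntegral X] [IsLocallyNoetherian X] (x : X) :
    ∃ (R : CommRingCat.{u}) (j0 : Spec R ⟶ X)
      (jA : Spec (CommRingCat.of (MvPolynomial (Fin m) R)) ⟶ 𝔸(ULift.{u} (Fin m); X)),
      IsDomain R ∧ IsNoetherianRing R ∧ IsOpenImmersion j0 ∧ IsOpenImmersion jA ∧ x ∈ Set.range j0 ∧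
      jA ≫ (𝔸(ULift.{u} (Fin m); X) ↘ X) =
        Spec.map (CommRingCat.ofHom (MvPolynomial.C : R →+* MvPolynomial (Fin m) R)) ≫ j0 := by
  obtain ⟨_, ⟨U, hU, rfl⟩, hxU, -⟩ :=
    X.isBasis_affineOpens.exists_subset_of_mem_open (Set.mem_univ x) isOpen_univ
  have hU : IsAffineOpen U := hU
  haveI : Nonempty U := ⟨⟨x, hxU⟩⟩
  haveI hj : IsOpenImmersion hU.fromSpec := inferInstance
  haveI : IsOpenImmersion (AffineSpace.map (ULift.{u} (Fin m)) hU.fromSpec) :=
    MorphismProperty.of_isPullback (P := @IsOpenImmersion) (AffineSpace.isPullback_map hU.fromSpec).flip hj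
  let e : CommRingCat.of (MvPolynomial (ULift.{u} (Fin m)) Γ(X, U)) ≅ CommRingCat.of (MvPolynomial (Fin m) Γ(X, U)) :=
    (MvPolynomial.renameEquiv Γ(X, U) Equiv.ulift).toRingEquiv.toCommRingCatIso
  refine ⟨Γ(X, U), hU.fromSpec,
    Spec.map e.hom ≫ (AffineSpace.SpecIso (ULift.{u} (Fin m)) Γ(X, U)).inv ≫ AffineSpace.map _ hU.fromSpec,
    inferInstance, IsLocallyNoetherian.component_noetherian ⟨U, hU⟩, hj, inferInstance,
    by rw [IsAffineOpen.range_fromSpec]; exact hxU, ?_⟩
  rw [Category.assoc, Category.assoc, AffineSpace.map_over, AffineSpace.SpecIso_inv_over_assoc, ← Category.assoc,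
    ← Spec.map_comp]
  congr 2
  refine CommRingCat.hom_ext (RingHom.ext fun r => ?_)
  exact MvPolynomial.rename_C _ r

theorem map_C_genericPoint (m : ℕ) (R : CommRingCat.{u}) [IsDomain R] :
    Spec.map (CommRingCat.ofHom (MvPolynomial.C : R →+* MvPolynomial (Fin m) R))
      (genericPoint (Spec (CommRingCat.of (MvPolynomial (Fin m) R)))) = genericPoint (Spec R) := by
  rw [genericPoint_eq_bot_of_affine, genericPoint_eq_bot_of_affine]
  refine PrimeSpectrum.ext ?_
  show Ideal.comap (MvPolynomial.C : R →+* MvPolynomial (Fin m) R) ⊥ = ⊥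
  exact (RingHom.injective_iff_ker_eq_bot _).1 (MvPolynomial.C_injective _ _)


/-- Let X be an integral Noetherian separated scheme which is regular in codimension 1 (the local ring
at every point of codimension 1, i.e. of coheight 1 in the specialization order, is a discrete
valuation ring), and let p : A^m_X → X be the affine m-space over X. Pulling back Weil divisors
along p (a divisor D, viewed as an integer-valued function on the codimension-1 points of X with
finite support, goes to y ↦ D(p(y)) on the codimension-1 points of A^m_X) induces an injective map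
on divisor class groups: if the pulled-back divisor is the divisor of a nonzero rational function on
A^m_X, then D is the divisor of a nonzero rational function on X. -/
theorem result (m : ℕ) (X : Scheme.{u}) [IsIntegral X]
    [IsNoetherian X] [X.IsSeparated] [IsLocallyNoetherian 𝔸(ULift.{u} (Fin m); X)]
    (hR1 : ∀ x : ↥X, Order.coheight x = 1 → IsDiscreteValuationRing ↑(X.presheaf.stalk x))
    (D : ↥X → ℤ) (hD : ∀ x, Order.coheight x ≠ 1 → D x = 0) (hfin : {x | D x ≠ 0}.Finite)
    (g : ↑(𝔸(ULift.{u} (Fin m); X)).functionField) (hg : g ≠ 0)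
    (h : ∀ y : ↥(𝔸(ULift.{u} (Fin m); X)), Order.coheight y = 1 →
      Scheme.ord g y = D ((𝔸(ULift.{u} (Fin m); X) ↘ X) y)) :
    ∃ f : ↑X.functionField, f ≠ 0 ∧ ∀ x : ↥X, Order.coheight x = 1 → Scheme.ord f x = D x := by
  let p := 𝔸(ULift.{u} (Fin m); X) ↘ X
  haveI : CompactSpace 𝔸(ULift.{u} (Fin m); X) := QuasiCompact.compactSpace_of_compactSpace p
  obtain ⟨R, j0, jA, hdom, hnoeth, hj0, hjA, hxR, hsq⟩ := exists_chart' m X (genericPoint X)
  haveI := hdom
  haveI := hnoeth
  haveI : IsDomain (CommRingCat.of (MvPolynomial (Fin m) R)) := inferInstanceAs (IsDomain (MvPolynomial (Fin m) R))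
  haveI : IsNoetherianRing (CommRingCat.of (MvPolynomial (Fin m) R)) :=
    inferInstanceAs (IsNoetherianRing (MvPolynomial (Fin m) R))
  have g0 := genericPoint_eq_of_isOpenImmersion j0
  have gA := genericPoint_eq_of_isOpenImmersion jA
  let c := Spec.map (CommRingCat.ofHom (MvPolynomial.C : R →+* MvPolynomial (Fin m) R))
  have gc : c (genericPoint _) = genericPoint (Spec R) := map_C_genericPoint m R
  have gp : p (genericPoint _) = genericPoint X := by
    rw [← gA, ← Scheme.Hom.comp_apply, hsq, Scheme.Hom.comp_apply]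
    exact (congrArg j0 gc).trans g0
  have hcoh : Order.coheight (genericPoint X) ≠ 1 := by
    have : IsMax (genericPoint X) := fun y hy => Scheme.le_iff_specializes.2 (genericPoint_specializes y)
    rw [Order.coheight_eq_zero.2 this]
    exact zero_ne_one
  -- the function is a constant
  obtain ⟨a, b, ha, hb, hab⟩ := exists_const_of_ord_horizontal_eq_zero (A := R) (n := m) (ff jA gA g)
    ((map_ne_zero_iff _ (ff jA gA).injective).2 hg) (fun w hw hw1 => by
      rw [ord_ff jA gA, h _ (by rw [coheight_eq_of_isOpenImmersion jA]; exact hw1)]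
      have e1 : c w = genericPoint (Spec R) := by
        rw [genericPoint_eq_bot_of_affine]
        exact PrimeSpectrum.ext hw
      have e2 : p (jA w) = genericPoint X := by
        rw [← Scheme.Hom.comp_apply, hsq, Scheme.Hom.comp_apply]
        exact (congrArg j0 e1).trans g0
      exact (congrArg D e2).trans (hD _ hcoh))
  have hbij : Function.Bijective (ff j0 g0) := by
    haveI : IsIso (X.presheaf.stalkSpecializes (g0 ▸ specializes_rfl : j0 (genericPoint (Spec R)) ⤳ genericPoint X)) := by
      refine ⟨X.presheaf.stalkSpecializes (genericPoint_specializes _), ?_, ?_⟩ <;>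
        rw [TopCat.Presheaf.stalkSpecializes_comp, TopCat.Presheaf.stalkSpecializes_refl]
    refine ((asIso (X.presheaf.stalkSpecializes (g0 ▸ specializes_rfl : j0 (genericPoint (Spec R)) ⤳ genericPoint X) ≫
      j0.stalkMap (genericPoint (Spec R)))).commRingCatIsoToRingEquiv.bijective : _)
  obtain ⟨f, hf⟩ := hbij.2 (phi R a / phi R b)
  have hf0 : f ≠ 0 := by
    rintro rfl
    rw [map_zero, eq_comm, div_eq_zero_iff] at hf
    exact hf.elim (phi_ne_zero R ha) (phi_ne_zero R hb)
  -- the function is the pullback of `f`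
  have hgf : g = ff p gp f := by
    apply (ff jA gA).injective
    rw [← ff_comp jA p gA gp (by rw [Scheme.Hom.comp_apply, gA, gp]),
      ff_congr hsq _ (by rw [Scheme.Hom.comp_apply]; exact (congrArg j0 gc).trans g0),
      ff_comp c j0 gc g0]
    erw [hf]
    rw [map_div₀]
    erw [ff_specMap (CommRingCat.ofHom (MvPolynomial.C : R →+* MvPolynomial (Fin m) R)) gc a,
      ff_specMap (CommRingCat.ofHom (MvPolynomial.C : R →+* MvPolynomial (Fin m) R)) gc b]
    exact (eq_div_iff (phi_ne_zero (CommRingCat.of (MvPolynomial (Fin m) R))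
      (fun e => hb (MvPolynomial.C_eq_zero.1 e)))).2 hab
  refine ⟨f, hf0, fun x hx => ?_⟩
  obtain ⟨R', j0', jA', hdom', hnoeth', hj0', hjA', hxR', hsq'⟩ := exists_chart' m X x
  haveI := hdom'
  haveI := hnoeth'
  haveI : IsDomain (CommRingCat.of (MvPolynomial (Fin m) R')) := inferInstanceAs (IsDomain (MvPolynomial (Fin m) R'))
  haveI : IsNoetherianRing (CommRingCat.of (MvPolynomial (Fin m) R')) :=
    inferInstanceAs (IsNoetherianRing (MvPolynomial (Fin m) R'))
  obtain ⟨t, rfl⟩ := hxR'
  haveI : Nonempty (Spec R') := ⟨t⟩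
  have ht : Order.coheight t = 1 := by rw [← coheight_eq_of_isOpenImmersion j0']; exact hx
  haveI : IsDiscreteValuationRing ((Spec R').presheaf.stalk t) :=
    haveI := hR1 _ hx
    IsDiscreteValuationRing.RingEquivClass.isDiscreteValuationRing (asIso (j0'.stalkMap t)).commRingCatIsoToRingEquiv
  obtain ⟨w, hw, hwt, hord⟩ := exists_vertical (A := R') (n := m) t ht
  let c' := Spec.map (CommRingCat.ofHom (MvPolynomial.C : R' →+* MvPolynomial (Fin m) R'))
  have gc' : c' (genericPoint _) = genericPoint (Spec R') := map_C_genericPoint m R'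
  have g0' := genericPoint_eq_of_isOpenImmersion j0'
  have gA' := genericPoint_eq_of_isOpenImmersion jA'
  have e2 : p (jA' w) = j0' t := by
    rw [← Scheme.Hom.comp_apply, hsq', Scheme.Hom.comp_apply]
    exact congrArg j0' (PrimeSpectrum.ext hwt)
  have key := h (jA' w) (by rw [coheight_eq_of_isOpenImmersion jA']; exact hw)
  rw [show (𝔸(ULift.{u} (Fin m); X) ↘ X) (jA' w) = j0' t from e2, hgf, ← ord_ff jA' gA',
    ← ff_comp jA' p gA' gp (by rw [Scheme.Hom.comp_apply, gA', gp]),
    ff_congr hsq' _ (by rw [Scheme.Hom.comp_apply]; exact (congrArg j0' gc').trans g0'),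
    ff_comp c' j0' gc' g0'] at key
  rw [← key, ← ord_ff j0' g0']
  have hF : ff j0' g0' f ≠ 0 := (map_ne_zero_iff _ (ff j0' g0').injective).2 hf0
  obtain ⟨r, s, hs, hrs⟩ := exists_phi_div R' (ff j0' g0' f)
  rw [← hrs] at hF
  erw [← hrs]
  have hr : r ≠ 0 := by rintro rfl; rw [map_zero, zero_div] at hF; exact hF rfl
  rw [map_div₀]
  erw [ff_specMap (CommRingCat.ofHom (MvPolynomial.C : R' →+* MvPolynomial (Fin m) R')) gc' r,
    ff_specMap (CommRingCat.ofHom (MvPolynomial.C : R' →+* MvPolynomial (Fin m) R')) gc' s]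
  have hC : ∀ z : R', z ≠ 0 → phi (CommRingCat.of (MvPolynomial (Fin m) R'))
      ((CommRingCat.ofHom (MvPolynomial.C : R' →+* MvPolynomial (Fin m) R')) z) ≠ 0 :=
    fun z hz => phi_ne_zero _ (fun e => hz (MvPolynomial.C_eq_zero.1 e))
  have m1 := Scheme.ord_mul (x := t) (div_ne_zero (phi_ne_zero R' hr) (phi_ne_zero R' hs)) (phi_ne_zero R' hs)
  rw [div_mul_cancel₀ _ (phi_ne_zero R' hs)] at m1
  have m2 := Scheme.ord_mul (x := w) (div_ne_zero (hC r hr) (hC s hs)) (hC s hs)
  rw [div_mul_cancel₀ _ (hC s hs)] at m2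
  have o1 := hord r hr
  have o2 := hord s hs
  have o1' : Scheme.ord (phi (CommRingCat.of (MvPolynomial (Fin m) R'))
      ((CommRingCat.ofHom (MvPolynomial.C : R' →+* MvPolynomial (Fin m) R')) r)) w =
        Scheme.ord (phi R' r) t := o1
  have o2' : Scheme.ord (phi (CommRingCat.of (MvPolynomial (Fin m) R'))
      ((CommRingCat.ofHom (MvPolynomial.C : R' →+* MvPolynomial (Fin m) R')) s)) w =
        Scheme.ord (phi R' s) t := o2
  omega

end Groth.Agent.S10900
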