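import Groth.Statements.S10904
import Groth.Agent.Hilb24.Shift
import Mathlib.RingTheory.MvPolynomial.Homogeneous
import Mathlib.LinearAlgebra.FiniteDimensional.Basic

set_option autoImplicit false
universe u
open Polynomial
open ProjDeg

namespace Groth.Agent.S10904

/-- Let k be a field, R = k[X_0, …, X_n] graded by degree, I a homogeneous prime ideal of R, f a
homogeneous element of degree d ≥ 1 not in I, and I' = I + (f). Let P be the Hilbert polynomial of
R/I and Q that of R/I': rational polynomials whose value at every large integer m is the k-dimension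
of the degree-m piece, i.e. dim R_m − dim (I ∩ R_m). Assume P has degree at least 1, i.e. the
projective variety V(I) ⊆ P^n_k has dimension ≥ 1. Then Q has degree deg P − 1, and the degrees of
the projective schemes, (degree of the Hilbert polynomial)! times its leading coefficient, satisfy
deg V(I') = d · deg V(I). (The published statement has no dimension hypothesis; for V(I) a single
point the left side is 0 and the right side is d · deg V(I) ≠ 0, and the printed proof uses dim
V(I') = dim V(I) − 1.) -/
theorem result (k : Type u) [Field k] (n : ℕ)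
    (I : Ideal (MvPolynomial (Fin (n + 1)) k)) (hIh : I.IsHomogeneous (CohB1.polyGrading n k)) [I.IsPrime]
    (f : MvPolynomial (Fin (n + 1)) k) (d : ℕ) (hd : 0 < d) (hf : f.IsHomogeneous d) (hfI : f ∉ I)
    (P Q : ℚ[X])
    (hP : ∃ m₀ : ℕ, ∀ m : ℕ, m₀ ≤ m → P.eval (m : ℚ) =
      (Module.finrank k ↥(CohB1.polyGrading n k m) : ℚ) -
        Module.finrank k ↥(Submodule.restrictScalars k I ⊓ CohB1.polyGrading n k m))
    (hQ : ∃ m₀ : ℕ, ∀ m : ℕ, m₀ ≤ m → Q.eval (m : ℚ) =
      (Module.finrank k ↥(CohB1.polyGrading n k m) : ℚ) -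
        Module.finrank k ↥(Submodule.restrictScalars k (I ⊔ Ideal.span {f}) ⊓ CohB1.polyGrading n k m))
    (hdim : 1 ≤ P.natDegree) :
    Q.natDegree + 1 = P.natDegree ∧
      (Q.natDegree.factorial : ℚ) * Q.leadingCoeff =
        d * ((P.natDegree.factorial : ℚ) * P.leadingCoeff) := by
  classical
  obtain ⟨mP, hP⟩ := hP
  obtain ⟨mQ, hQ⟩ := hQ
  let S := MvPolynomial (Fin (n + 1)) k
  let R : ℕ → Submodule k S := fun m => CohB1.polyGrading n k m
  let J : Submodule k S := Submodule.restrictScalars k I
  have hfin : ∀ m, FiniteDimensional k (R m) := fun m =>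
    Module.Finite.iff_fg.2 (MvPolynomial.homogeneousSubmodule_fg _ k m)
  let μ : S →ₗ[k] S := LinearMap.mulLeft k f
  have hμ : Function.Injective μ := fun a b h => mul_left_cancel₀ (fun e : f = 0 => hfI (e ▸ I.zero_mem)) h
  have key : ∀ m, (Module.finrank k ↥(Submodule.restrictScalars k (I ⊔ Ideal.span {f}) ⊓ R (m + d)) : ℚ) +
      Module.finrank k ↥(J ⊓ R m) = Module.finrank k ↥(J ⊓ R (m + d)) + Module.finrank k ↥(R m) := by
    intro m
    have hsup : Submodule.restrictScalars k (I ⊔ Ideal.span {f}) ⊓ R (m + d) =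
        (J ⊓ R (m + d)) ⊔ (R m).map μ := by
      refine le_antisymm ?_ (sup_le (inf_le_inf_right _ (fun x hx => Submodule.mem_sup_left (hx : x ∈ I))) ?_)
      · rintro x ⟨hx, hxm⟩
        obtain ⟨a, ha, b, hb, rfl⟩ := Submodule.mem_sup.1 (hx : x ∈ I ⊔ Ideal.span {f})
        obtain ⟨c, rfl⟩ := Ideal.mem_span_singleton'.1 hb
        have e : MvPolynomial.homogeneousComponent (m + d) (a + c * f) = a + c * f :=
          (MvPolynomial.homogeneousComponent_of_mem hxm).trans (if_pos rfl)
        rw [← e, map_add]
        refine Submodule.add_mem_sup ?_ ?_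
        · refine ⟨?_, MvPolynomial.homogeneousComponent_mem _ _⟩
          exact MvPolynomial.homogeneousComponent_mem_of_mem hIh ha _
        · refine ⟨MvPolynomial.homogeneousComponent m c, MvPolynomial.homogeneousComponent_mem _ _, ?_⟩
          show f * MvPolynomial.homogeneousComponent m c = MvPolynomial.homogeneousComponent (m + d) (c * f)
          conv_rhs => rw [← MvPolynomial.sum_homogeneousComponent c, Finset.sum_mul, map_sum]
          have hterm : ∀ i, MvPolynomial.homogeneousComponent (m + d) (MvPolynomial.homogeneousComponent i c * f) =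
              if i = m then MvPolynomial.homogeneousComponent i c * f else 0 := by
            intro i
            rw [MvPolynomial.homogeneousComponent_of_mem
              ((MvPolynomial.homogeneousComponent_isHomogeneous i c).mul hf)]
            by_cases h : i = m
            · rw [if_pos h, if_pos (by omega)]
            · rw [if_neg h, if_neg (by omega)]
          simp only [hterm, Finset.sum_ite_eq', Finset.mem_range]
          split_ifs with hm
          · exact mul_comm _ _
          · rw [MvPolynomial.homogeneousComponent_eq_zero m c (by omega), mul_zero]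
      · rintro _ ⟨c, hc, rfl⟩
        refine ⟨Submodule.mem_sup_right (Ideal.mem_span_singleton'.2 ⟨c, mul_comm c f⟩), ?_⟩
        show (f * c).IsHomogeneous (m + d)
        rw [add_comm m d]
        exact hf.mul hc
    have hinf : (J ⊓ R (m + d)) ⊓ (R m).map μ = (J ⊓ R m).map μ := by
      refine le_antisymm ?_ ?_
      · rintro _ ⟨⟨hJ, -⟩, c, hc, rfl⟩
        exact ⟨c, ⟨((Ideal.IsPrime.mem_or_mem ‹I.IsPrime› (hJ : f * c ∈ I)).resolve_left hfI), hc⟩, rfl⟩
      · rintro _ ⟨c, ⟨hcI, hc⟩, rfl⟩
        refine ⟨⟨(I.mul_mem_left f hcI : f * c ∈ I), ?_⟩, c, hc, rfl⟩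
        show (f * c).IsHomogeneous (m + d)
        rw [add_comm m d]
        exact hf.mul hc
    have := hfin (m + d)
    have := hfin m
    have hd1 := Submodule.finrank_sup_add_finrank_inf_eq (J ⊓ R (m + d)) ((R m).map μ)
    rw [← hsup, hinf, LinearEquiv.finrank_eq (Submodule.equivMapOfInjective μ hμ (J ⊓ R m)).symm,
      LinearEquiv.finrank_eq (Submodule.equivMapOfInjective μ hμ (R m)).symm] at hd1
    exact_mod_cast hd1
  have hQeq : Q = P - P.comp (Polynomial.X + Polynomial.C (-(d : ℚ))) := by
    refine Groth.Agent.Hilb24.eq_of_eventually_eval_eq ⟨mP + mQ + d, fun m hm => ?_⟩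
    obtain ⟨m', rfl⟩ : ∃ m', m = m' + d := ⟨m - d, by omega⟩
    rw [hQ _ (by omega), Polynomial.eval_sub, Polynomial.eval_comp, Polynomial.eval_add, Polynomial.eval_X,
      Polynomial.eval_C, Nat.cast_add, add_neg_cancel_right, hP m' (by omega), ← Nat.cast_add,
      hP (m' + d) (by omega)]
    linear_combination (-1 : ℚ) * key m'
  obtain ⟨r, hr⟩ : ∃ r, P.natDegree = r + 1 := ⟨P.natDegree - 1, by omega⟩
  obtain ⟨h1, h2⟩ := Groth.Agent.Hilb24.natDegree_leadingCoeff_sub_shift P hr
    (a := -(d : ℚ)) (neg_ne_zero.2 (Nat.cast_ne_zero.2 hd.ne'))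
  rw [← hQeq] at h1 h2
  refine ⟨by omega, ?_⟩
  rw [h2, h1, hr, Nat.factorial_succ]
  push_cast
  ring

end Groth.Agent.S10904
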