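import Groth.Statements.S10905
import Groth.Agent.Hilb24.Dim
import Groth.Agent.S10904

set_option autoImplicit false
universe u
open Polynomial
open ProjDeg

namespace Groth.Agent.S10905
open Groth.Agent Groth.Agent.Hilb24 Groth.Agent.DimLib.PN

/-- Let k be a field, R = k[X_0, …, X_n] graded by degree, I a homogeneous prime ideal whose Hilbert
polynomial P (a rational polynomial with P(m) = dim_k R_m − dim_k (I ∩ R_m) for all large m) has
degree ≥ 1, so that Y = V(I) is a projective variety of dimension ≥ 1; let f ∉ I be homogeneous of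
degree d ≥ 1, I' = I + (f), and p_1, …, p_r the minimal prime ideals over I' (listed without
repetition), with Hilbert polynomials Q_i. Define the degree of V(J) as (degree of its Hilbert
polynomial)! times the leading coefficient, and the intersection multiplicity of I and (f) at p_i as
the length of (R/I')_{p_i} over R_{p_i}. Then d · deg Y = Σ_i deg V(p_i) · i(I, (f); p_i). (The
published statement has no dimension hypothesis; for Y a single point the only minimal prime over I'
is the irrelevant ideal, whose Hilbert polynomial is 0, so the right side vanishes while the left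
side does not.) -/
theorem result (k : Type u) [Field k] (n : ℕ)
    (I : Ideal (MvPolynomial (Fin (n + 1)) k)) (hIh : I.IsHomogeneous (CohB1.polyGrading n k)) [I.IsPrime]
    (f : MvPolynomial (Fin (n + 1)) k) (d : ℕ) (hd : 0 < d) (hf : f.IsHomogeneous d) (hfI : f ∉ I)
    (P : ℚ[X])
    (hP : ∃ m₀ : ℕ, ∀ m : ℕ, m₀ ≤ m → P.eval (m : ℚ) =
      (Module.finrank k ↥(CohB1.polyGrading n k m) : ℚ) -
        Module.finrank k ↥(Submodule.restrictScalars k I ⊓ CohB1.polyGrading n k m))
    (hdim : 1 ≤ P.natDegree)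
    (r : ℕ) (p : Fin r → Ideal (MvPolynomial (Fin (n + 1)) k)) [hp : ∀ i, (p i).IsPrime] (hpinj : Function.Injective p)
    (hpmin : ∀ q : Ideal (MvPolynomial (Fin (n + 1)) k), q ∈ (I ⊔ Ideal.span {f}).minimalPrimes ↔ ∃ i, q = p i)
    (Qp : Fin r → ℚ[X])
    (hQp : ∀ i, ∃ m₀ : ℕ, ∀ m : ℕ, m₀ ≤ m → (Qp i).eval (m : ℚ) =
      (Module.finrank k ↥(CohB1.polyGrading n k m) : ℚ) -
        Module.finrank k ↥(Submodule.restrictScalars k (p i) ⊓ CohB1.polyGrading n k m)) :
    (d : ℚ) * ((P.natDegree.factorial : ℚ) * P.leadingCoeff) =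
      ∑ i : Fin r, ((Qp i).natDegree.factorial : ℚ) * (Qp i).leadingCoeff *
        (Module.length (Localization.AtPrime (p i))
          (LocalizedModule (p i).primeCompl (MvPolynomial (Fin (n + 1)) k ⧸ (I ⊔ Ideal.span {f})))).toNat := by
  classical
  have hI' := isHomogeneous_sup_span hIh hf
  obtain ⟨Q, ⟨m₀, hQ⟩, -, -⟩ := formula hI' (cdim I) fun q hq _ hle =>
    cdim_le ‹I.IsPrime› hq (le_sup_left.trans hle)
  obtain ⟨hQd, hQl⟩ := Groth.Agent.S10904.result k n I hIh f d hd hf hfI P Q hP ⟨m₀, hQ⟩ hdim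
  rw [← hQl, degree_formula hI' ⟨m₀, hQ⟩ p hpinj hpmin Qp hQp]
  refine Finset.sum_congr rfl fun i _ => if_pos ?_
  have hmem : p i ∈ (I ⊔ Ideal.span {f}).minimalPrimes := (hpmin _).2 ⟨i, rfl⟩
  have hhom := isHomogeneous_of_mem_minimalPrimes hI' hmem
  have h1 := (hilb_prime (hp i) hhom (hQp i)).1
  have h2 := (hilb_prime ‹I.IsPrime› hIh hP).1
  have h3 := cdim_le_add ‹I.IsPrime› {f} (Q := p i) (by rwa [Finset.coe_singleton])
  have hle : I ≤ p i := le_sup_left.trans hmem.1.2
  have h4 := cdim_lt ‹I.IsPrime› (hp i) hle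
    fun e => hfI (e ▸ hmem.1.2 (Ideal.mem_sup_right (Ideal.mem_span_singleton_self f)))
  rw [Finset.card_singleton] at h3
  omega

end Groth.Agent.S10905
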