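import Groth.Statements.S10907
import Groth.Agent.Hilb24.Dim

set_option autoImplicit false
universe u
open Polynomial
open ProjDeg

namespace Groth.Agent.S10907
open Groth.Agent Groth.Agent.Hilb24 Groth.Agent.DimLib.PN

/-- Let k be a field, R = k[X_0, …, X_n] graded by degree, and I a homogeneous ideal whose Hilbert
polynomial P (a rational polynomial with P(m) = dim_k R_m − dim_k (I ∩ R_m) for all large m) is
nonzero, i.e. the projective scheme V_+(I) ⊆ P^n_k is nonempty. Then the Krull dimension of R/I (the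
affine cone) equals deg P + 1; the dimension of V_+(I) itself is deg P. -/
theorem result (k : Type u) [Field k]
    (n : ℕ) (I : Ideal (MvPolynomial (Fin (n + 1)) k)) (hIh : I.IsHomogeneous (CohB1.polyGrading n k))
    (P : ℚ[X]) (hP0 : P ≠ 0)
    (hP : ∃ m₀ : ℕ, ∀ m : ℕ, m₀ ≤ m → P.eval (m : ℚ) =
      (Module.finrank k ↥(CohB1.polyGrading n k m) : ℚ) -
        Module.finrank k ↥(Submodule.restrictScalars k I ⊓ CohB1.polyGrading n k m)) :
    ringKrullDim (MvPolynomial (Fin (n + 1)) k ⧸ I) = (P.natDegree : WithBot ℕ∞) + 1 := by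
  have htop : I ≠ ⊤ := fun h => hP0 (isHilb_top_eq_zero (n := n) (k := k) (h ▸ hP))
  obtain ⟨D, hD, hex, hdim⟩ := exists_max_cdim hIh htop
  obtain ⟨hdeg, h0, -⟩ := main hIh hP hD hex
  have hD0 : D ≠ 0 := fun h => hP0 (h0.2 h)
  rw [hdim, hdeg]
  exact_mod_cast (show D = D - 1 + 1 by omega)

end Groth.Agent.S10907
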