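import Groth.Statements.S10909
import Groth.Agent.GenSmoothLib.OmegaRank
import Groth.Agent.FlatMor12.GenericSmooth
import Mathlib

set_option autoImplicit false
universe u
open TensorProduct
open SmVar

namespace Groth.Agent.S10909

theorem ringKrullDim_quotient_nilradical (A : Type u) [CommRing A] :
    ringKrullDim A ≤ ringKrullDim (A ⧸ nilradical A) := by
  refine Order.krullDim_le_of_strictMono (fun p : PrimeSpectrum A =>
    (⟨p.asIdeal.map (Ideal.Quotient.mk (nilradical A)),
      Ideal.map_isPrime_of_surjective Ideal.Quotient.mk_surjective
        (Ideal.mk_ker.trans_le (nilradical_le_prime p.asIdeal))⟩ : PrimeSpectrum (A ⧸ nilradical A))) ?_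
  intro p p' h
  refine lt_of_le_of_ne (Ideal.map_mono h.le) fun e => h.ne ?_
  have := congrArg (fun q : PrimeSpectrum _ => q.asIdeal.comap (Ideal.Quotient.mk (nilradical A))) e
  simp only [Ideal.comap_map_of_surjective _ Ideal.Quotient.mk_surjective, ← RingHom.ker_eq_comap_bot,
    Ideal.mk_ker, sup_eq_left.2 (nilradical_le_prime p.asIdeal),
    sup_eq_left.2 (nilradical_le_prime p'.asIdeal)] at this
  exact PrimeSpectrum.ext this


/-- Let k be an algebraically closed field and A a k-algebra of finite type with irreducible spectrum
(the nilradical of A is prime) and Krull dimension n; X = Spec A is then an irreducible separated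
k-scheme of finite type of dimension n. Then X is a nonsingular variety — A is reduced and every
localization of A at a prime is a regular local ring — if and only if the module of Kähler
differentials Ω_{A/k} is locally free of rank n: projective, with fibre κ(P) ⊗_A Ω_{A/k} of
dimension n at every prime P. -/
theorem result (k : Type u) [Field k]
    [IsAlgClosed k] (A : Type u) [CommRing A] [Algebra k A] [Algebra.FiniteType k A]
    (hirr : (nilradical A).IsPrime) (n : ℕ) (hn : ringKrullDim A = n) :
    (IsReduced A ∧ IsRegularRing A) ↔
      (Module.Projective A (Ω[A⁄k]) ∧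
        ∀ (P : Ideal A) [P.IsPrime],
          Module.finrank P.ResidueField (P.ResidueField ⊗[A] Ω[A⁄k]) = n) := by
  have : IsNoetherianRing A := Algebra.FiniteType.isNoetherianRing k A
  have : Algebra.FinitePresentation k A := Algebra.FinitePresentation.of_finiteType.1 inferInstance
  constructor
  · rintro ⟨hred, hreg⟩
    have : IsDomain A := by
      have h : (⊥ : Ideal A).IsPrime := by
        rwa [nilradical_eq_zero A] at hirr
      exact IsDomain.of_bot_isPrime A
    have hsm : ∀ (P : Ideal A) [P.IsPrime], Algebra.IsSmoothAt k P := by
      intro P _
      have : Algebra.EssFiniteType A (Localization.AtPrime P) := .of_isLocalization _ P.primeCompl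
      have : Algebra.EssFiniteType k (Localization.AtPrime P) := .comp k A _
      exact Groth.Agent.FlatMor12.GenericSmooth.formallySmooth_of_regular_of_perfect k (Localization.AtPrime P)
    have : Algebra.FormallySmooth k A :=
      Algebra.smoothLocus_eq_univ_iff.1 (Set.eq_univ_of_forall fun p => hsm p.asIdeal)
    refine ⟨inferInstance, fun P _ => ?_⟩
    have := hsm P
    have h := (Groth.Agent.Unram17Lib.regular_and_localDim_eq_finrank k P).2
    rw [Groth.Agent.Unram17Lib.localDim_spec k A ⟨P, inferInstance⟩,
      IsLocalization.AtPrime.ringKrullDim_eq_height P (Localization.AtPrime P),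
      Groth.Agent.DimLib.height_add_ringKrullDim_quotient (k := k) P, hn] at h
    exact_mod_cast h.symm
  · rintro ⟨-, hrk⟩
    have hreg : ∀ (P : Ideal A) [P.IsPrime], IsRegularLocalRing (Localization.AtPrime P) := by
      intro P _
      have : Algebra.IsSmoothAt k P := by
        refine Groth.Agent.Unram17Lib.isSmoothAt_of_finrank_kaehler_le k P ?_
        rw [hrk P, ← hn]
        exact (ringKrullDim_quotient_nilradical A).trans
          (Groth.Agent.GenSmoothLib.ringKrullDim_quotient_le_localDim k A P (nilradical A)
            (nilradical_le_prime P))
      exact (Groth.Agent.Unram17Lib.regular_and_localDim_eq_finrank k P).1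
    refine ⟨isReduced_ofLocalizationMaximal A fun J hJ => ?_, ⟨fun p _ => hreg p⟩⟩
    have := hreg J
    have := Groth.Agent.CAlgH3.isDomain_of_isRegularLocalRing (Localization.AtPrime J)
    infer_instance

end Groth.Agent.S10909
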