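import Groth.Statements.S10910
import Groth.Agent.Unram17Lib.KaehlerCriterion
import Groth.Agent.FlatMor12.GenericSmooth
import Mathlib

set_option autoImplicit false
universe u
open TensorProduct
open SmVar

namespace Groth.Agent.S10910

theorem formallySmooth_of_isRegularRing (k C : Type u) [Field k] [PerfectField k] [CommRing C]
    [Algebra k C] [Algebra.FiniteType k C] [IsRegularRing C] : Algebra.FormallySmooth k C := by
  have : Algebra.FinitePresentation k C := Algebra.FinitePresentation.of_finiteType.1 inferInstance
  refine Algebra.smoothLocus_eq_univ_iff.1 (Set.eq_univ_of_forall fun p => ?_)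
  have : Algebra.EssFiniteType C (Localization.AtPrime p.asIdeal) := .of_isLocalization _ p.asIdeal.primeCompl
  have : Algebra.EssFiniteType k (Localization.AtPrime p.asIdeal) := .comp k C _
  exact Groth.Agent.FlatMor12.GenericSmooth.formallySmooth_of_regular_of_perfect k (Localization.AtPrime p.asIdeal)


/-- Let k be an algebraically closed field, A a k-algebra of finite type which is an integral domain all
of whose localizations at primes are regular (X = Spec A is a nonsingular affine variety), and B an
A-algebra with surjective structure map A → B whose nilradical is prime (Y = Spec B is an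
irreducible closed subscheme of X, with ideal I = ker(A → B)). Then every localization of B is
regular (Y is nonsingular) if and only if (i) Ω_{B/k} is a projective B-module (locally free) and
(ii) the conormal map I/I² → B ⊗_A Ω_{A/k}, class of x ↦ 1 ⊗ dx, is injective, i.e. the conormal
sequence 0 → I/I² → B ⊗_A Ω_{A/k} → Ω_{B/k} → 0 is exact on the left as well. -/
theorem result (k : Type u) [Field k]
    [IsAlgClosed k] (A B : Type u) [CommRing A] [CommRing B] [Algebra k A] [Algebra.FiniteType k A]
    [IsDomain A] [IsRegularRing A] [Algebra A B] [Algebra k B] [IsScalarTower k A B]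
    (hsurj : Function.Surjective (algebraMap A B)) (hirr : (nilradical B).IsPrime) :
    IsRegularRing B ↔
      (Module.Projective B (Ω[B⁄k]) ∧
        Function.Injective (KaehlerDifferential.kerCotangentToTensor k A B)) := by
  have : Algebra.FiniteType k B := Algebra.FiniteType.of_surjective (IsScalarTower.toAlgHom k A B) hsurj
  have : IsNoetherianRing B := Algebra.FiniteType.isNoetherianRing k B
  have := formallySmooth_of_isRegularRing k A
  constructor
  · intro hB
    have := formallySmooth_of_isRegularRing k B
    exact ⟨inferInstance, (Algebra.FormallySmooth.kerCotangentToTensor_injective_iff hsurj).2 inferInstance⟩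
  · rintro ⟨hproj, hinj⟩
    have : Algebra.FormallySmooth k B :=
      (Algebra.formallySmooth_iff k B).2 ⟨hproj, (Algebra.FormallySmooth.kerCotangentToTensor_injective_iff hsurj).1 hinj⟩
    exact ⟨fun p _ => (Groth.Agent.Unram17Lib.regular_and_localDim_eq_finrank k p).1⟩

end Groth.Agent.S10910
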