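import Groth.Statements.S10911
import Mathlib
import Groth.Prelude
import Groth.Agent.CommAlg4.OrdTransfer

set_option linter.all false

set_option autoImplicit false
universe u
open CategoryTheory CategoryTheory.Limits AlgebraicGeometry TopologicalSpace
open WDiv

open AlgebraicGeometry CategoryTheory

set_option backward.isDefEq.respectTransparency.types false

namespace Groth.Agent.S10911

/-- Let X be an integral Noetherian separated scheme which is regular in codimension 1 (local rings at
points of coheight 1 are discrete valuation rings), z a point of coheight 1 (generic point of a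
prime divisor Z), and U the open subscheme complementary to the closure of z. Let D be a Weil
divisor on X, an integer-valued function on its points with finite support inside the points of
coheight 1. If the restriction of D to U is the divisor of a nonzero rational function on U, then D
differs from an integer multiple of Z by a principal divisor on X: there are an integer m and a
nonzero rational function f on X with ord_z(f) = D(z) − m and ord_x(f) = D(x) for every other point
x of coheight 1. In other words, the sequence ℤ → Cl X → Cl(X − Z), whose first map sends m to the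
class of m·Z and whose second map is restriction, is exact at Cl X. -/
theorem result (X : Scheme.{u}) [IsIntegral X]
    [IsNoetherian X] [X.IsSeparated]
    (hR1 : ∀ x : ↥X, Order.coheight x = 1 → IsDiscreteValuationRing ↑(X.presheaf.stalk x))
    (z : ↥X) (hz : Order.coheight z = 1) (U : X.Opens) (hU : (U : Set ↥X) = (closure {z})ᶜ)
    [Nonempty U]
    (D : ↥X → ℤ) (hD : ∀ x, Order.coheight x ≠ 1 → D x = 0) (hfin : {x | D x ≠ 0}.Finite)
    (g : ↑(U : Scheme.{u}).functionField) (hg : g ≠ 0)
    (h : ∀ u : ↥(U : Scheme.{u}), Order.coheight u = 1 → Scheme.ord g u = D u.1) :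
    ∃ (m : ℤ) (f : ↑X.functionField), f ≠ 0 ∧ Scheme.ord f z = D z - m ∧
      ∀ x : ↥X, x ≠ z → Order.coheight x = 1 → Scheme.ord f x = D x := by
  obtain ⟨E, hE, hord⟩ := Groth.Agent.CommAlg4.OrdTransfer.exists_map_functionField U.ι
  obtain ⟨f, rfl⟩ := hE.2 g
  refine ⟨D z - Scheme.ord f z, f, fun hf => hg (by rw [hf, map_zero]), by ring, fun x hxz hx => ?_⟩
  have hxU : x ∈ (U : Set ↥X) := by
    rw [hU, Set.mem_compl_iff]
    intro hxc
    have hzx : z ⤳ x := specializes_iff_mem_closure.2 hxc
    have hle : x ≤ z := Scheme.le_iff_specializes.2 hzx
    by_cases hzle : z ≤ x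
    · exact hxz (((Scheme.le_iff_specializes.1 hzle).antisymm hzx).eq)
    · have hlt := Order.coheight_add_one_le (lt_of_le_not_ge hle hzle)
      rw [hx, hz] at hlt
      exact absurd hlt (by norm_num)
  let w : (U : Scheme.{u}) := (⟨x, hxU⟩ : U)
  have hux : Order.coheight w = 1 := (coheight_eq_of_isOpenImmersion U.ι (x := w)).symm.trans hx
  have h1 := h w hux
  rw [hord] at h1
  exact h1

end Groth.Agent.S10911
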