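import Groth.Statements.S10914
import Groth.Agent.DimLib.Sub

set_option autoImplicit false
universe u
open CategoryTheory CategoryTheory.Limits AlgebraicGeometry TopologicalSpace
open ProjDeg

namespace Groth.Agent.S10914

/-- Let k be a field, X and Y reduced schemes proper over k and f : X → Y a k-morphism with (i) f
surjective, (ii) every fibre X_y over a closed point y irreducible, (iii) all these fibres of the
same dimension m, and (iv) Y irreducible. Then X is irreducible and dim X = dim Y + m. (The
published statement takes X, Y projective over k and f projective; its proof uses only that f is a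
closed map and upper semicontinuity of fibre dimension, i.e. properness.) -/
theorem result (k : Type u) [Field k] {X Y : Scheme.{u}}
    (pX : X ⟶ Spec (CommRingCat.of k)) (pY : Y ⟶ Spec (CommRingCat.of k)) [IsProper pX] [IsProper pY]
    [IsReduced X] [IsReduced Y] (f : X ⟶ Y) (hf : f ≫ pY = pX) (hsurj : Function.Surjective f)
    [IrreducibleSpace ↥Y] (m : ℕ)
    (hirr : ∀ y : ↥Y, IsClosed ({y} : Set ↥Y) → IrreducibleSpace ↥(f.fiber y))
    (hdim : ∀ y : ↥Y, IsClosed ({y} : Set ↥Y) → topologicalKrullDim ↥(f.fiber y) = m) :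
    IrreducibleSpace ↥X ∧ topologicalKrullDim ↥X = topologicalKrullDim ↥Y + m := by
  subst hf
  open Groth.Agent.DimLib in
  have : IsProper f := IsProper.of_comp f pY
  have hirr' : ∀ y : Y, IsClosed ({y} : Set Y) → IsIrreducible (f.base ⁻¹' {y}) := fun y hy => by
    rw [← f.range_fiberι y]
    have := hirr y hy
    rw [← Set.image_univ]
    exact (IrreducibleSpace.isIrreducible_univ _).image _ (f.fiberι y).continuous.continuousOn
  have hdim' : ∀ y : Y, IsClosed ({y} : Set Y) → topologicalKrullDim ↥(f.base ⁻¹' {y}) = m := fun y hy => by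
    rw [← topologicalKrullDim_fiber_eq_preimage]; exact hdim y hy
  obtain ⟨Z, hZ, hZd⟩ := exists_dominant_component pY f (fun y _ => ⟨_, (hsurj y).choose_spec⟩)
  have hZs : ∀ y : Y, y ∈ f.base '' Z := fun y => by
    have hcl : IsClosed (f.base '' Z) := f.isClosedMap _ (isClosed_of_mem_irreducibleComponents Z hZ)
    have := hZd y
    rwa [hcl.closure_eq] at this
  have hZu : Z = Set.univ := by
    rw [Set.eq_univ_iff_forall]
    have : JacobsonSpace X := LocallyOfFiniteType.jacobsonSpace (f ≫ pY)
    by_contra! hne
    obtain ⟨x, hx⟩ := hne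
    obtain ⟨z, hz, hzc⟩ := exists_isClosed_singleton_mem (f ≫ pY) ⟨x, hx⟩
      (isClosed_of_mem_irreducibleComponents Z hZ).isOpen_compl.isLocallyClosed
    obtain ⟨w, hw, hwz⟩ := hZs (f z)
    exact hz ((topologicalKrullDim_component_eq pY f m hirr' hdim' hZ).1 (f z)
      (isClosed_singleton_image pY f hzc) ⟨w, hwz, hw⟩ rfl)
  subst hZu
  have h2 := (topologicalKrullDim_component_eq pY f m hirr' hdim' hZ).2
  refine ⟨(irreducibleSpace_def _).2 hZ.1, ?_⟩
  rw [show closure (f.base '' Set.univ) = Set.univ from Dense.closure_eq hZd] at h2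
  rw [← (Homeomorph.Set.univ X).isHomeomorph.topologicalKrullDim_eq, h2,
    (Homeomorph.Set.univ Y).isHomeomorph.topologicalKrullDim_eq, add_comm]

end Groth.Agent.S10914
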