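import Groth.Statements.S10915
import Mathlib.GroupTheory.CosetCover
import Mathlib.RingTheory.KrullDimension.Field
import Mathlib.RingTheory.KrullDimension.Zero
import Mathlib.RingTheory.MvPolynomial.Ideal
import Mathlib.RingTheory.KrullDimension.NonZeroDivisors
import Mathlib.RingTheory.GradedAlgebra.Radical
import Mathlib.RingTheory.Ideal.MinimalPrime.Noetherian

set_option autoImplicit false
universe u
open ProjDeg

namespace Groth.Agent.S10915

theorem exists_linearForm_avoiding (k : Type u) [Field k] [IsAlgClosed k] (n : ℕ)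
    (S : Set (Ideal (MvPolynomial (Fin (n + 1)) k))) (hS : S.Finite) :
    ∃ l : MvPolynomial (Fin (n + 1)) k, l.IsHomogeneous 1 ∧
      ∀ P ∈ S, l ∈ P → Ideal.span (Set.range MvPolynomial.X) ≤ P := by
  classical
  haveI := hS.fintype
  let φ : (Fin (n + 1) → k) →ₗ[k] MvPolynomial (Fin (n + 1)) k := Fintype.linearCombination k MvPolynomial.X
  let W : Option S → Submodule k (Fin (n + 1) → k) := fun o ↦ o.elim ⊥ fun P ↦ (P.1.restrictScalars k).comap φ
  by_contra hcon
  push Not at hcon
  have hcov : (⋃ o : {o : Option S // W o ≠ ⊤}, ((W o.1) : Set (Fin (n + 1) → k))) = Set.univ := by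
    refine Set.eq_univ_of_forall fun v ↦ ?_
    obtain ⟨P, hP, hvP, hne⟩ := hcon (φ v) (by
      rw [Fintype.linearCombination_apply]
      exact MvPolynomial.IsHomogeneous.sum _ _ _ fun i _ ↦ by
        rw [MvPolynomial.smul_eq_C_mul]; exact (MvPolynomial.isHomogeneous_X k i).C_mul _)
    refine Set.mem_iUnion.mpr ⟨⟨some ⟨P, hP⟩, fun htop ↦ hne (Ideal.span_le.mpr ?_)⟩, hvP⟩
    rintro _ ⟨i, rfl⟩
    have : Pi.single i (1 : k) ∈ W (some ⟨P, hP⟩) := htop ▸ Submodule.mem_top
    simpa [W, φ, Fintype.linearCombination_apply_single] using this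
  obtain ⟨o, ho⟩ := Subspace.exists_eq_top_of_iUnion_eq_univ hcov
  exact o.2 ho

theorem dim_quotient_nonpos (k : Type u) [Field k] (n : ℕ) (P : Ideal (MvPolynomial (Fin (n + 1)) k)) [P.IsPrime]
    (h : Ideal.span (Set.range MvPolynomial.X) ≤ P) :
    ringKrullDim (MvPolynomial (Fin (n + 1)) k ⧸ P) ≤ 0 := by
  have h1 : Function.Surjective ((Ideal.Quotient.mk P).comp MvPolynomial.C) := by
    intro x
    obtain ⟨p, rfl⟩ := Ideal.Quotient.mk_surjective x
    refine ⟨MvPolynomial.coeff 0 p, Ideal.Quotient.eq.mpr (h ?_)⟩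
    rw [← Set.image_univ, MvPolynomial.mem_ideal_span_X_image]
    intro m hm
    have hm0 : m ≠ 0 := fun h0 ↦ by
      rw [h0, MvPolynomial.mem_support_iff, MvPolynomial.coeff_sub, MvPolynomial.coeff_C] at hm
      simp at hm
    obtain ⟨i, hi⟩ := Finsupp.ne_iff.mp hm0
    exact ⟨i, trivial, by simpa using hi⟩
  exact (ringKrullDim_le_of_surjective _ h1).trans (ringKrullDim_eq_zero_of_field k).le

theorem vars_le_of_dim_nonpos (k : Type u) [Field k] (n : ℕ) (J : Ideal (MvPolynomial (Fin (n + 1)) k))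
    (hJh : J.IsHomogeneous (CohB1.polyGrading n k)) (Q : Ideal (MvPolynomial (Fin (n + 1)) k))
    (hQm : Q ∈ J.minimalPrimes) (hd : ringKrullDim (MvPolynomial (Fin (n + 1)) k ⧸ Q) ≤ 0) :
    Ideal.span (Set.range MvPolynomial.X) ≤ Q := by
  haveI := hQm.1.1
  haveI : Ring.KrullDimLE 0 (MvPolynomial (Fin (n + 1)) k ⧸ Q) := Ring.krullDimLE_iff.mpr (by simpa using hd)
  haveI : Q.IsMaximal := Ideal.Quotient.maximal_of_isField _ (Ring.KrullDimLE.isField_of_isDomain)
  have hhom : Q.IsHomogeneous (CohB1.polyGrading n k) := by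
    have hp := Ideal.IsPrime.homogeneousCore (𝒜 := CohB1.polyGrading n k) (I := Q) inferInstance
    have hle : J ≤ (Q.homogeneousCore (CohB1.polyGrading n k)).toIdeal := by
      rw [← hJh.toIdeal_homogeneousCore_eq_self]
      exact Ideal.homogeneousCore_mono _ hQm.1.2
    have := hQm.2 ⟨hp, hle⟩ (Ideal.toIdeal_homogeneousCore_le _ _)
    rw [le_antisymm this (Ideal.toIdeal_homogeneousCore_le _ _)]
    exact HomogeneousIdeal.isHomogeneous _
  refine Ideal.span_le.mpr ?_
  rintro _ ⟨i, rfl⟩
  by_contra hi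
  obtain ⟨a, q, hq, he⟩ := Ideal.IsMaximal.exists_inv ‹Q.IsMaximal› hi
  have hcc : MvPolynomial.constantCoeff q = 1 := by
    have := congrArg MvPolynomial.constantCoeff he
    simpa using this
  have h0 := hhom 0 hq
  erw [MvPolynomial.decomposition.decompose'_apply] at h0
  rw [MvPolynomial.homogeneousComponent_zero] at h0
  rw [MvPolynomial.constantCoeff_eq] at hcc
  rw [hcc, map_one] at h0
  exact (Ideal.IsPrime.ne_top ‹_›) ((Ideal.eq_top_iff_one _).mpr h0)


/-- Let k be an algebraically closed field, R = k[X_0, …, X_n] graded by degree, and I a homogeneous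
prime ideal with dim R/I = r + 1, so that X = V_+(I) ⊆ P^n_k is a projective variety of dimension r.
Then there are r + 1 linear forms h_1, …, h_{r+1} (homogeneous of degree 1) whose common zero set in
P^n_k does not meet X, i.e. the ideal I + (h_1, …, h_{r+1}) contains some power of the irrelevant
ideal (X_0, …, X_n). (The published statement says that a generic linear subspace of dimension n − r
− 1 misses X; this row asserts only that one such subspace, cut out by r + 1 linear forms, exists.) -/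
theorem result (k : Type u) [Field k] [IsAlgClosed k]
    (n r : ℕ) (I : Ideal (MvPolynomial (Fin (n + 1)) k)) (hIh : I.IsHomogeneous (CohB1.polyGrading n k)) [I.IsPrime]
    (hdim : ringKrullDim (MvPolynomial (Fin (n + 1)) k ⧸ I) = (r : WithBot ℕ∞) + 1) :
    ∃ h : Fin (r + 1) → MvPolynomial (Fin (n + 1)) k, (∀ i, (h i).IsHomogeneous 1) ∧
      ∃ N : ℕ, (Ideal.span (Set.range (MvPolynomial.X : Fin (n + 1) → MvPolynomial (Fin (n + 1)) k))) ^ N ≤
        I ⊔ Ideal.span (Set.range h) := by
  classical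
  have hvars : ∀ j : ℕ, j ≤ r + 1 → ∃ h : Fin j → MvPolynomial (Fin (n + 1)) k, (∀ i, (h i).IsHomogeneous 1) ∧
      ∀ Q ∈ (I ⊔ Ideal.span (Set.range h)).minimalPrimes,
        ringKrullDim (MvPolynomial (Fin (n + 1)) k ⧸ Q) ≤ ((r + 1 - j : ℕ) : WithBot ℕ∞) := by
    intro j hj
    induction j with
    | zero =>
      refine ⟨Fin.elim0, fun i ↦ i.elim0, fun Q hQ ↦ ?_⟩
      have : Q = I := by
        have h0 : I ⊔ Ideal.span (Set.range (Fin.elim0 : Fin 0 → MvPolynomial (Fin (n + 1)) k)) = I := by
          simp [Set.range_eq_empty]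
        rw [h0, Ideal.minimalPrimes_eq_subsingleton_self] at hQ
        exact hQ
      rw [this, hdim]
      exact_mod_cast le_rfl
    | succ j ih =>
      obtain ⟨h, hh, hQ⟩ := ih (by omega)
      set J := I ⊔ Ideal.span (Set.range h) with hJ
      have hJh : J.IsHomogeneous (CohB1.polyGrading n k) :=
        hIh.sup (Ideal.homogeneous_span _ _ (by rintro _ ⟨i, rfl⟩; exact ⟨1, (MvPolynomial.mem_homogeneousSubmodule 1 _).mpr (hh i)⟩))
      obtain ⟨l, hl, hlmem⟩ := exists_linearForm_avoiding k n J.minimalPrimes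
        (Ideal.finite_minimalPrimes_of_isNoetherianRing _ J)
      refine ⟨Fin.snoc h l, fun i ↦ ?_, fun Q hQ' ↦ ?_⟩
      · refine Fin.lastCases ?_ (fun i ↦ ?_) i
        · simpa using hl
        · simpa using hh i
      · haveI := hQ'.1.1
        have hle : J ⊔ Ideal.span {l} ≤ Q := by
          refine le_trans (le_of_eq ?_) hQ'.1.2
          rw [hJ, sup_assoc, ← Ideal.span_union, Fin.range_snoc, Set.union_comm, Set.singleton_union]
        obtain ⟨P, hP, hPQ⟩ := Ideal.exists_minimalPrimes_le (le_sup_left.trans hle)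
        haveI := hP.1.1
        have hd := hQ P hP
        rcases eq_or_ne P Q with rfl | hne
        · have hlP : l ∈ P := (le_sup_right.trans hle) (Ideal.mem_span_singleton_self l)
          have hall := hlmem P hP hlP
          refine le_trans ?_ (by exact_mod_cast Nat.zero_le (r + 1 - (j + 1)) : (0 : WithBot ℕ∞) ≤ _)
          exact dim_quotient_nonpos k n P hall
        · obtain ⟨x, hxQ, hxP⟩ := SetLike.exists_of_lt (lt_of_le_of_ne hPQ hne)
          have key : ringKrullDim (MvPolynomial (Fin (n + 1)) k ⧸ Q) + 1 ≤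
              ringKrullDim (MvPolynomial (Fin (n + 1)) k ⧸ P) :=
            ringKrullDim_succ_le_of_surjective (Ideal.Quotient.factor hPQ) (Ideal.Quotient.factor_surjective hPQ)
              (r := Ideal.Quotient.mk P x)
              (mem_nonZeroDivisors_of_ne_zero (by rwa [Ne, Ideal.Quotient.eq_zero_iff_mem]))
              (by rw [Ideal.Quotient.factor_mk, Ideal.Quotient.eq_zero_iff_mem]; exact hxQ)
          have h2 := key.trans hd
          rw [show r + 1 - j = (r + 1 - (j + 1)) + 1 by omega] at h2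
          have h3 := ENat.WithBot.add_one_le_natCast_iff.mp h2
          rw [Nat.cast_add, Nat.cast_one] at h3
          exact ENat.WithBot.lt_add_one_iff.mp h3
  obtain ⟨h, hh, hQ⟩ := hvars (r + 1) le_rfl
  refine ⟨h, hh, ?_⟩
  set J := I ⊔ Ideal.span (Set.range h) with hJ
  have hJh : J.IsHomogeneous (CohB1.polyGrading n k) :=
    hIh.sup (Ideal.homogeneous_span _ _ (by rintro _ ⟨i, rfl⟩; exact ⟨1, (MvPolynomial.mem_homogeneousSubmodule 1 _).mpr (hh i)⟩))
  apply Ideal.exists_pow_le_of_le_radical_of_fg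
  · rw [← Ideal.sInf_minimalPrimes]
    refine le_sInf fun Q hQm ↦ ?_
    haveI := hQm.1.1
    have hd := hQ Q hQm
    rw [show r + 1 - (r + 1) = 0 by omega, Nat.cast_zero] at hd
    exact vars_le_of_dim_nonpos k n J hJh Q hQm hd
  · exact Submodule.fg_span (Set.finite_range _)

end Groth.Agent.S10915
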