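import Groth.Statements.S10918
import Mathlib
import Groth.Agent.Misc15.CICone
import Groth.Agent.CAlgH3.Serre
-- import your own Groth.Agent.* helpers here

set_option autoImplicit false
universe u
open CInt

namespace Groth.Agent.S10918
set_option maxHeartbeats 1000000

/-- Let k be a field, S = k[x_0, …, x_n], and f_1, …, f_r with r < n homogeneous polynomials of positive
degrees whose ideal J has height r, so that Y = V_+(J) ⊆ P^n_k is a global complete intersection of
dimension n − r ≥ 1 with homogeneous coordinate ring S' = S/J. Suppose Y is normal, expressed on the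
affine cone: for every prime ideal Q of S' not containing all the classes of the x_i (every point of
the cone Spec S' other than the vertex), the localization S'_Q is an integrally closed domain. Then
S' is an integrally closed domain, i.e. Y is projectively normal. -/
theorem result
    (k : Type u) [Field k] (n r : ℕ) (hr : r < n) (f : Fin r → MvPolynomial (Fin (n + 1)) k) (d : Fin r → ℕ)
    (hf : ∀ i, (f i).IsHomogeneous (d i)) (hd : ∀ i, 0 < d i)
    (hJ : (Ideal.span (Set.range f)).height = r)
    (hnorm : ∀ (Q : Ideal (MvPolynomial (Fin (n + 1)) k ⧸ Ideal.span (Set.range f))) [Q.IsPrime],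
      (∃ i, Ideal.Quotient.mk (Ideal.span (Set.range f)) (MvPolynomial.X i) ∉ Q) →
        IsDomain (Localization.AtPrime Q) ∧ IsIntegrallyClosed (Localization.AtPrime Q)) :
    IsDomain (MvPolynomial (Fin (n + 1)) k ⧸ Ideal.span (Set.range f)) ∧
      IsIntegrallyClosed (MvPolynomial (Fin (n + 1)) k ⧸ Ideal.span (Set.range f)) := by
  classical
  letI := MvPolynomial.gradedAlgebra (σ := Fin (n + 1)) (R := k)
  set J := Ideal.span (Set.range f) with hJdef
  haveI := Misc15.cmRing_mvPolynomial (k := k) (N := n + 1)
  let v := W4Gr15.coneVtx k (n + 1)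
  have hfv : J ≤ v := by
    rw [hJdef, Ideal.span_le]
    rintro _ ⟨i, rfl⟩
    show f i ∈ W4Gr15.coneVtx k (n + 1)
    rw [W4Gr15.coneVtx_eq, RingHom.mem_ker]
    exact ((hf i).coeff_eq_zero (d := 0) (by simpa using (hd i).ne))
  have hJv : RingHom.ker (Ideal.Quotient.mk J) ≤ v := by rw [Ideal.mk_ker]; exact hfv
  let V : Ideal (MvPolynomial (Fin (n + 1)) k ⧸ J) := v.map (Ideal.Quotient.mk J)
  haveI hV : V.IsPrime := Ideal.map_isPrime_of_surjective Ideal.Quotient.mk_surjective hJv
  have hcomap : V.comap (Ideal.Quotient.mk J) = v := by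
    rw [Ideal.comap_map_of_surjective _ Ideal.Quotient.mk_surjective, ← RingHom.ker_eq_comap_bot,
      sup_eq_left.2 hJv]
  let T := Localization.AtPrime V
  obtain ⟨hcm, hdim⟩ := Misc15.cm_localization_quotient_span f hJ.ge V
  replace hdim : ringKrullDim T + r = ((n + 1 : ℕ) : WithBot ℕ∞) := by
    rw [hdim, hcomap, Misc15.height_vtx]; rfl
  haveI : _root_.LocCoh.IsCohenMacaulayLocalRing T := hcm
  haveI : IsNoetherianRing T := inferInstance
  have hother : ∀ (Q : Ideal (MvPolynomial (Fin (n + 1)) k ⧸ J)) [Q.IsPrime], Q ≠ V →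
      ∃ i, Ideal.Quotient.mk J (MvPolynomial.X i) ∉ Q := by
    intro Q _ hQ
    by_contra! hall
    refine hQ ?_
    have : v = Q.comap (Ideal.Quotient.mk J) :=
      (inferInstance : (W4Gr15.coneVtx k (n + 1)).IsMaximal).eq_of_le
        (Ideal.IsPrime.ne_top inferInstance) (Misc15.vtx_le_of_forall_X_mem fun i => hall i)
    rw [show V = v.map (Ideal.Quotient.mk J) from rfl, this,
      Ideal.map_comap_of_surjective _ Ideal.Quotient.mk_surjective]
  have hSk : _root_.LocCoh.HasSk 2 T T := by
    rw [CAlgH3.hasSk_self_iff]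
    intro p _
    haveI := CAlgH3.isCohenMacaulayLocalRing_localization (R := T) p
    exact (min_le_right _ _).trans ((CAlgH3.isCohenMacaulayLocalRing_iff_depth _).1 inferInstance).le
  have hRk : _root_.LocCoh.HasRk 1 T := by
    intro p _ hp
    let P := p.comap (algebraMap (MvPolynomial (Fin (n + 1)) k ⧸ J) T)
    have hPV : P ≠ V := by
      intro hPV
      have hpm : p = IsLocalRing.maximalIdeal T := by
        rw [← IsLocalization.map_comap V.primeCompl T p]
        change Ideal.map _ P = _
        rw [hPV, Localization.AtPrime.map_eq_maximalIdeal]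
      have : ringKrullDim T ≤ (1 : ℕ) := by
        rw [← IsLocalRing.maximalIdeal_height_eq_ringKrullDim (R := T), ← hpm]
        exact WithBot.coe_le_coe.2 hp
      have h1 : ((n + 1 : ℕ) : WithBot ℕ∞) ≤ ((1 + r : ℕ) : WithBot ℕ∞) := by
        rw [← hdim, Nat.cast_add]; exact add_le_add this le_rfl
      have : n + 1 ≤ 1 + r := by exact_mod_cast h1
      omega
    obtain ⟨hdom, hic⟩ := hnorm P (hother P hPV)
    let e : Localization.AtPrime P ≃+* Localization.AtPrime p := (IsLocalization.localizationLocalizationAtPrimeIsoLocalization V.primeCompl p).toRingEquiv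
    haveI := hdom
    haveI := hic
    haveI : IsLocalRing (Localization.AtPrime P) := inferInstance
    suffices IsRegularLocalRing (Localization.AtPrime P) from IsRegularLocalRing.of_ringEquiv (R := Localization.AtPrime P) e
    have hd1 : ringKrullDim (Localization.AtPrime P) ≤ (1 : ℕ) := by
      rw [IsLocalization.AtPrime.ringKrullDim_eq_height P (Localization.AtPrime P), IsLocalization.height_comap V.primeCompl p]
      exact WithBot.coe_le_coe.2 hp
    exact CAlgH3.isRegularLocalRing_of_normal_dim_le_one (by exact_mod_cast hd1)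
  obtain ⟨hTd, hTic⟩ := CAlgH3.normal_of_R1_S2 hRk hSk
  have hinj : Function.Injective (algebraMap (MvPolynomial (Fin (n + 1)) k ⧸ J) T) := by
    rw [injective_iff_map_eq_zero]
    intro z hz
    obtain ⟨⟨s, hs⟩, hsz⟩ := (IsLocalization.map_eq_zero_iff V.primeCompl T z).1 hz
    obtain ⟨a, rfl⟩ := Ideal.Quotient.mk_surjective z
    obtain ⟨s, rfl⟩ := Ideal.Quotient.mk_surjective s
    rw [← map_mul, Ideal.Quotient.eq_zero_iff_mem] at hsz
    rw [Ideal.Quotient.eq_zero_iff_mem]
    refine W4Gr15.mem_of_mul_mem _ W4Gr15.cone_degZero (Misc15.isHomogeneous_span hf) (fun hsv => hs ?_) hsz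
    exact Ideal.mem_map_of_mem _ hsv
  haveI : IsDomain (MvPolynomial (Fin (n + 1)) k ⧸ J) := hinj.isDomain (algebraMap _ T)
  refine ⟨inferInstance, IsIntegrallyClosed.of_localization_maximal fun Q _ _ => ?_⟩
  by_cases hQ : Q = V
  · subst hQ; exact hTic
  · exact (hnorm Q (hother Q hQ)).2

end Groth.Agent.S10918
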