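import Groth.Statements.S10921
import Groth.Agent.BertiniLib.Affine
import Mathlib.AlgebraicGeometry.ProjectiveSpectrum.Basic
import Mathlib.AlgebraicGeometry.Morphisms.ClosedImmersion
import Mathlib.LinearAlgebra.Dual.Lemmas
import Groth.Agent.DimLib.ProjPrime

set_option autoImplicit false
set_option backward.isDefEq.respectTransparency.types false
universe u
open CategoryTheory CategoryTheory.Limits AlgebraicGeometry TopologicalSpace
open SmVar

namespace Groth.Agent.S10921

open HomogeneousLocalization in
/-- Dehomogenisation. -/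
theorem eval₂_frac {k : Type u} [Field k] (n : ℕ) (j : Fin (n + 1))
    (N : ℕ) (p : MvPolynomial (Fin (n + 1)) k) (hp : p ∈ CohB1.polyGrading n k (N • 1)) :
    MvPolynomial.eval₂
      ((fromZeroRingHom (CohB1.polyGrading n k) (Submonoid.powers (MvPolynomial.X j))).comp
        (algebraMap k (CohB1.polyGrading n k 0)))
      (fun i => Away.mk (CohB1.polyGrading n k) (MvPolynomial.isHomogeneous_X k j) 1 (MvPolynomial.X i)
        (by simpa using MvPolynomial.isHomogeneous_X k i)) p =
      Away.mk (CohB1.polyGrading n k) (MvPolynomial.isHomogeneous_X k j) N p hp := by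
  let L := Localization.Away (MvPolynomial.X j : MvPolynomial (Fin (n + 1)) k)
  let al := algebraMap (MvPolynomial (Fin (n + 1)) k) L
  let u : L := Localization.mk 1 ⟨MvPolynomial.X j, 1, pow_one _⟩
  have halg : ∀ a, al a = Localization.mk a 1 := fun a =>
    (Localization.mk_one_eq_algebraMap (M := Submonoid.powers (MvPolynomial.X j : MvPolynomial (Fin (n + 1)) k)) a).symm
  apply val_injective
  rw [Away.val_mk]
  have hom : ∀ {q : MvPolynomial (Fin (n + 1)) k}, q.IsHomogeneous N →
      MvPolynomial.eval₂ (al.comp MvPolynomial.C) (fun i => al (MvPolynomial.X i) * u) q =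
        al q * u ^ N := by
    intro q hq
    rw [q.as_sum, MvPolynomial.eval₂_sum, map_sum, Finset.sum_mul]
    refine Finset.sum_congr rfl fun d hd => ?_
    have hN : ∑ i ∈ d.support, d i = N := (hq.degree_eq_sum_deg_support hd).symm
    rw [MvPolynomial.eval₂_monomial, MvPolynomial.monomial_eq, map_mul, map_finsuppProd]
    simp only [map_pow, Finsupp.prod, mul_pow, Finset.prod_mul_distrib, Finset.prod_pow_eq_pow_sum,
      hN, RingHom.comp_apply, mul_assoc]
  have hv : (algebraMap (Away (CohB1.polyGrading n k) (MvPolynomial.X j)) L) (MvPolynomial.eval₂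
      ((fromZeroRingHom (CohB1.polyGrading n k) (Submonoid.powers (MvPolynomial.X j))).comp
        (algebraMap k (CohB1.polyGrading n k 0)))
      (fun i => Away.mk (CohB1.polyGrading n k) (MvPolynomial.isHomogeneous_X k j) 1 (MvPolynomial.X i)
        (by simpa using MvPolynomial.isHomogeneous_X k i)) p) =
      MvPolynomial.eval₂ (al.comp MvPolynomial.C) (fun i => al (MvPolynomial.X i) * u) p := by
    rw [MvPolynomial.eval₂_comp_left]
    congr 1
    funext i
    show (Away.mk (CohB1.polyGrading n k) (MvPolynomial.isHomogeneous_X k j) 1 (MvPolynomial.X i)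
      (by simpa using MvPolynomial.isHomogeneous_X k i)).val = _
    rw [Away.val_mk, halg]
    show _ = Localization.mk (MvPolynomial.X i) 1 * Localization.mk 1 _
    rw [Localization.mk_mul, mul_one, one_mul]
    congr 1
    exact Subtype.ext (pow_one _)
  rw [HomogeneousLocalization.algebraMap_apply] at hv
  rw [hv, hom (by simpa using hp)]
  rw [halg]
  show Localization.mk p 1 * Localization.mk 1 _ ^ N = _
  rw [Localization.mk_pow, one_pow, Localization.mk_mul, mul_one, one_mul]
  congr 1

theorem linear_eq_sum {k : Type u} [Field k] {n : ℕ} {h : MvPolynomial (Fin (n + 1)) k}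
    (hh : h ∈ CohB1.polyGrading n k 1) :
    h = ∑ i, MvPolynomial.C (MvPolynomial.coeff (Finsupp.single i 1) h) * MvPolynomial.X i := by
  classical
  rw [CohB1.polyGrading, MvPolynomial.homogeneousSubmodule_one_eq_span_X] at hh
  induction hh using Submodule.span_induction with
  | mem x hx =>
    obtain ⟨i, rfl⟩ := hx
    rw [Finset.sum_eq_single i (fun b _ hb => by
      rw [MvPolynomial.coeff_X', if_neg (fun e => hb ((Finsupp.single_left_injective one_ne_zero e).symm)),
        map_zero, zero_mul]) (by simp)]
    simp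
  | zero => simp
  | add x y _ _ hx hy =>
    simp only [MvPolynomial.coeff_add, map_add, add_mul, Finset.sum_add_distrib]
    rw [← hx, ← hy]
  | smul a x _ hx =>
    rw [MvPolynomial.smul_eq_C_mul]
    simp only [MvPolynomial.coeff_C_mul, map_mul, mul_assoc, ← Finset.mul_sum]
    rw [← hx]

set_option maxHeartbeats 1000000 in
open HomogeneousLocalization in
theorem exists_poly_chart (k : Type u) [Field k] [IsAlgClosed k] (n : ℕ) (X : Scheme.{u})
    (ι : X ⟶ CohB1.ProjSpace n k) [IsClosedImmersion ι]
    (hreg : ∀ x : ↥X, IsRegularLocalRing ↑(X.presheaf.stalk x)) (j : Fin (n + 1)) :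
    ∃ g : MvPolynomial (Fin (n + 1)) k, g ≠ 0 ∧
      ∀ h : ↥(CohB1.polyGrading n k 1),
        MvPolynomial.eval (fun i => MvPolynomial.coeff (Finsupp.single i 1) (h : MvPolynomial (Fin (n + 1)) k)) g ≠ 0 →
          ∀ x : ↥X, IsClosed ({x} : Set ↥X) →
            (h : MvPolynomial (Fin (n + 1)) k) ∈ (ι.base x).asHomogeneousIdeal →
            ∀ (hj : (MvPolynomial.X j : MvPolynomial (Fin (n + 1)) k) ∉ (ι.base x).asHomogeneousIdeal),
              IsRegularLocalRing (↑(X.presheaf.stalk x) ⧸ Ideal.span
                {(ι.stalkMap x).hom ((Proj.stalkIso' (CohB1.polyGrading n k) (ι.base x)).symm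
                  (HomogeneousLocalization.mk
                    ⟨1, h, ⟨MvPolynomial.X j, MvPolynomial.isHomogeneous_X k j⟩, hj⟩))}) := by
  classical
  let GP := CohB1.polyGrading n k
  let D : (CohB1.ProjSpace n k).Opens := Proj.basicOpen GP (MvPolynomial.X j)
  have hD : IsAffineOpen D :=
    Proj.isAffineOpen_basicOpen GP _ (MvPolynomial.isHomogeneous_X k j) one_pos
  let U := ι ⁻¹ᵁ D
  have hU : IsAffineOpen U := hD.preimage ι
  let A := Γ(X, U)
  let σ : CommRingCat.of (Away GP (MvPolynomial.X j)) ⟶ A := Proj.awayToSection GP (MvPolynomial.X j) ≫ ι.app D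
  have hσ : Function.Surjective σ.hom := by
    have h1 : Function.Surjective (Proj.awayToSection GP (MvPolynomial.X j)).hom :=
      (Proj.basicOpenIsoAway GP (MvPolynomial.X j) (MvPolynomial.isHomogeneous_X k j) one_pos).commRingCatIsoToRingEquiv.surjective
    exact (Scheme.Hom.app_surjective ι D hD).comp h1
  let κ₀ := (fromZeroRingHom GP (Submonoid.powers (MvPolynomial.X j))).comp (algebraMap k (GP 0))
  let alg : Algebra k A := (σ.hom.comp κ₀).toAlgebra
  let frac : Fin (n + 1) → Away GP (MvPolynomial.X j : MvPolynomial (Fin (n + 1)) k) := fun i =>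
    Away.mk GP (MvPolynomial.isHomogeneous_X k j) 1 (MvPolynomial.X i)
      (by simpa [GP] using MvPolynomial.isHomogeneous_X k i)
  let s : Fin (n + 1) → A := fun i => σ.hom (frac i)
  have haeval : ∀ p, MvPolynomial.aeval s p = σ.hom (MvPolynomial.eval₂ κ₀ frac p) := fun p => by
    rw [MvPolynomial.eval₂_comp_left]
    rfl
  have hs : Function.Surjective (MvPolynomial.aeval s : MvPolynomial (Fin (n + 1)) k →ₐ[k] A) := by
    intro a
    obtain ⟨z, rfl⟩ := hσ a
    obtain ⟨N, p, hp, rfl⟩ := Away.mk_surjective GP (MvPolynomial.isHomogeneous_X k j) z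
    exact ⟨p, by rw [haeval, eval₂_frac n j N p hp]⟩
  have : Algebra.FiniteType k A := Algebra.FiniteType.of_surjective _ hs
  have : Algebra.FinitePresentation k A :=
    haveI := Algebra.FiniteType.isNoetherianRing k A
    Algebra.FinitePresentation.of_finiteType.1 ‹_›
  have : Algebra.Smooth k A := BertiniLib.smooth_of_smoothAt_maximal fun q hq _ => by
    rw [AlgSpLib.SmoothField.isSmoothAt_iff_regular]
    let y : PrimeSpectrum A := ⟨q, inferInstance⟩
    have hy : hU.fromSpec y ∈ U := by
      rw [← SetLike.mem_coe, ← hU.range_fromSpec]; exact ⟨y, rfl⟩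
    letI := TopCat.Presheaf.algebra_section_stalk X.presheaf (⟨hU.fromSpec y, hy⟩ : U)
    have : IsLocalization.AtPrime (X.presheaf.stalk (hU.fromSpec y)) q :=
      hU.isLocalization_stalk' y hy
    have := hreg (hU.fromSpec y)
    exact IsRegularLocalRing.of_ringEquiv
      (IsLocalization.algEquiv q.primeCompl (X.presheaf.stalk (hU.fromSpec y))
        (Localization.AtPrime q)).toRingEquiv
  have h1 : (1 : A) ∈ Set.range s := ⟨j, by
    have : frac j = 1 := by
      apply val_injective
      simp only [frac, Away.val_mk, val_one, pow_one]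
      exact Localization.mk_self (⟨MvPolynomial.X j, 1, pow_one _⟩ : Submonoid.powers (MvPolynomial.X j : MvPolynomial (Fin (n + 1)) k))
    simp [s, this]⟩
  have hgen : Algebra.adjoin k (Set.range s) = ⊤ := by
    rw [Algebra.adjoin_range_eq_range_aeval, AlgHom.range_eq_top]
    exact hs
  obtain ⟨g, hg0, hg⟩ := BertiniLib.exists_poly_smooth_quotient s 0
    (BertiniLib.span_pairs_of_adjoin s h1 hgen)
  refine ⟨g, hg0, fun h hh x hx hhx hj => ?_⟩
  set c : Fin (n + 1) → k := fun i => MvPolynomial.coeff (Finsupp.single i 1) h.1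
  have hsm := hg c hh
  have hl : 0 + ∑ i, algebraMap k A (c i) * s i =
      σ.hom (Away.mk GP (MvPolynomial.isHomogeneous_X k j) 1 h.1 (by simpa using h.2)) := by
    rw [← eval₂_frac n j 1 h.1 (by simpa using h.2), ← haeval, zero_add]
    conv_rhs => rw [linear_eq_sum h.2, map_sum]
    simp [c]
  rw [hl] at hsm
  set l := σ.hom (Away.mk GP (MvPolynomial.isHomogeneous_X k j) 1 h.1 (by simpa using h.2)) with hldef
  have hxU : x ∈ U := hj
  let P := (hU.primeIdealOf ⟨x, hxU⟩).asIdeal
  have hPmax : P.IsMaximal := hU.primeIdealOf_isMaximal_of_isClosed ⟨x, hxU⟩ hx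
  letI algS := TopCat.Presheaf.algebra_section_stalk X.presheaf (⟨x, hxU⟩ : U)
  have hloc : IsLocalization.AtPrime (X.presheaf.stalk x) P := hU.isLocalization_stalk ⟨x, hxU⟩
  have hgerm : (ι.stalkMap x).hom ((Proj.stalkIso' (CohB1.polyGrading n k) (ι.base x)).symm
      (HomogeneousLocalization.mk ⟨1, h, ⟨MvPolynomial.X j, MvPolynomial.isHomogeneous_X k j⟩, hj⟩ :
        HomogeneousLocalization.AtPrime GP (ι.base x).asHomogeneousIdeal.toIdeal)) =
      algebraMap A (X.presheaf.stalk x) l := by
    have hz : HomogeneousLocalization.mapId GP (Submonoid.powers_le.mpr hj)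
        (Away.mk GP (MvPolynomial.isHomogeneous_X k j) 1 h.1 (by simpa using h.2)) =
        (HomogeneousLocalization.mk ⟨1, h, ⟨MvPolynomial.X j, MvPolynomial.isHomogeneous_X k j⟩, hj⟩ :
          HomogeneousLocalization.AtPrime GP (ι.base x).asHomogeneousIdeal.toIdeal) := by
      apply val_injective
      simp [HomogeneousLocalization.mapId, Away.mk, map_mk]
    have := ConcreteCategory.congr_hom
      (ProjectiveSpectrum.Proj.awayToSection_germ GP (MvPolynomial.X j) (ι.base x) hj)
      (Away.mk GP (MvPolynomial.isHomogeneous_X k j) 1 h.1 (by simpa using h.2))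
    rw [← hz]
    refine (congrArg (ι.stalkMap x).hom this.symm).trans ?_
    exact Scheme.Hom.germ_stalkMap_apply ι D x hj _
  have hlP : Ideal.span {l} ≤ P := by
    rw [Ideal.span_singleton_le_iff_mem]
    by_contra hlP
    have hu : IsUnit (algebraMap A (X.presheaf.stalk x) l) :=
      IsLocalization.map_units _ (⟨l, hlP⟩ : P.primeCompl)
    rw [← hgerm] at hu
    have hu' := (MulEquiv.isUnit_map (Proj.stalkIso' (CohB1.polyGrading n k) (ι.base x)).symm).1
      (IsUnit.of_map (ι.stalkMap x).hom _ hu)
    rw [← HomogeneousLocalization.isUnit_iff_isUnit_val, HomogeneousLocalization.val_mk,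
      Localization.mk_eq_mk', IsLocalization.AtPrime.isUnit_mk'_iff] at hu'
    exact hu' hhx
  set q := P.map (Ideal.Quotient.mk (Ideal.span {l}))
  have hker : RingHom.ker (Ideal.Quotient.mk (Ideal.span {l})) ≤ P := by rwa [Ideal.mk_ker]
  have hqc : q.comap (Ideal.Quotient.mk (Ideal.span {l})) = P := by
    rw [Ideal.comap_map_of_surjective' _ Ideal.Quotient.mk_surjective, sup_eq_left]
    exact hker
  have hqm : q.IsMaximal := (Ideal.map_eq_top_or_isMaximal_of_surjective _
    Ideal.Quotient.mk_surjective hPmax).resolve_left fun e => hPmax.ne_top (by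
      rw [← hqc]; show (P.map _).comap _ = ⊤; rw [e, Ideal.comap_top])
  have : Algebra.FiniteType k (A ⧸ Ideal.span {l}) := inferInstance
  have hsa : Algebra.IsSmoothAt k q :=
    (Algebra.smoothLocus_eq_univ_iff.2 hsm.1).ge (Set.mem_univ (⟨q, hqm.isPrime⟩ : PrimeSpectrum _))
  rw [AlgSpLib.SmoothField.isSmoothAt_iff_regular] at hsa
  rw [hgerm]
  let S' := X.presheaf.stalk x ⧸ (Ideal.span {l}).map (algebraMap A (X.presheaf.stalk x))
  have hi : IsLocalization (Algebra.algebraMapSubmonoid (A ⧸ Ideal.span {l}) P.primeCompl) S' :=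
    inferInstance
  have hpc : Algebra.algebraMapSubmonoid (A ⧸ Ideal.span {l}) P.primeCompl = q.primeCompl := by
    ext z
    obtain ⟨a, rfl⟩ := Ideal.Quotient.mk_surjective z
    constructor
    · rintro ⟨b, hb, hba⟩ ha
      exact hb (show b ∈ P from hqc ▸ (show Ideal.Quotient.mk _ b ∈ q from hba.symm ▸ ha))
    · intro ha
      exact ⟨a, fun hP' => ha (Ideal.mem_map_of_mem _ hP'), rfl⟩
  rw [hpc] at hi
  have hS : IsRegularLocalRing S' :=
    haveI := hsa
    IsRegularLocalRing.of_ringEquiv
      (IsLocalization.algEquiv q.primeCompl (Localization.AtPrime q) S').toRingEquiv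
  have e : Ideal.span {algebraMap A (X.presheaf.stalk x) l} =
      (Ideal.span {l}).map (algebraMap A (X.presheaf.stalk x)) := by
    rw [Ideal.map_span, Set.image_singleton]
  exact IsRegularLocalRing.of_ringEquiv (R := S') (Ideal.quotEquivOfEq e.symm)


/-- Let k be an algebraically closed field and X ⊆ P^n_k a nonsingular projective variety, given as an
integral scheme X with a closed immersion ι into projective n-space all of whose local rings are
regular. For a linear form h = Σ a_i X_i let H be the hyperplane h = 0 and H ∩ X the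
scheme-theoretic intersection. Then the hyperplanes H which do not contain X and for which H ∩ X is
regular at each of its closed points form a set containing a nonempty Zariski-open subset of the
dual projective space: there is a nonzero polynomial g in the coefficients a_0, …, a_n such that
every h with g(a) ≠ 0 has these two properties. Regularity of H ∩ X at a closed point x of X lying
on H is expressed on the local ring: O_{X,x} modulo the image of the germ of h/X_j (any j with
X_j(x) ≠ 0) is a regular local ring. (The published statement asserts that the set of good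
hyperplanes is itself open and dense and that H ∩ X is a regular subvariety; this row asserts
regularity of H ∩ X at its closed points for all hyperplanes outside a proper closed set, and not
irreducibility, which fails for curves of degree ≥ 2.) -/
theorem result (k : Type u) [Field k] [IsAlgClosed k] (n : ℕ)
    (X : Scheme.{u}) [IsIntegral X] (ι : X ⟶ CohB1.ProjSpace n k) [IsClosedImmersion ι]
    (hreg : ∀ x : ↥X, IsRegularLocalRing ↑(X.presheaf.stalk x)) :
    ∃ g : MvPolynomial (Fin (n + 1)) k, g ≠ 0 ∧
      ∀ h : ↥(CohB1.polyGrading n k 1),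
        MvPolynomial.eval (fun i => MvPolynomial.coeff (Finsupp.single i 1) (h : MvPolynomial (Fin (n + 1)) k)) g ≠ 0 →
          (∃ x : ↥X, (h : MvPolynomial (Fin (n + 1)) k) ∉ (ι.base x).asHomogeneousIdeal) ∧
          ∀ x : ↥X, IsClosed ({x} : Set ↥X) →
            (h : MvPolynomial (Fin (n + 1)) k) ∈ (ι.base x).asHomogeneousIdeal →
            ∀ (j : Fin (n + 1))
              (hj : (MvPolynomial.X j : MvPolynomial (Fin (n + 1)) k) ∉ (ι.base x).asHomogeneousIdeal),
              IsRegularLocalRing (↑(X.presheaf.stalk x) ⧸ Ideal.span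
                {(ι.stalkMap x).hom ((Proj.stalkIso' (CohB1.polyGrading n k) (ι.base x)).symm
                  (HomogeneousLocalization.mk
                    ⟨1, h, ⟨MvPolynomial.X j, MvPolynomial.isHomogeneous_X k j⟩, hj⟩))}) := by
  classical
  choose g hg0 hg using exists_poly_chart k n X ι hreg
  let η := genericPoint X
  obtain ⟨j₀, hj₀⟩ := DimLib.PN.exists_X_notMem (ι.base η).isPrime
    (ι.base η).asHomogeneousIdeal.isHomogeneous (DimLib.PN.ne_m0 (ι.base η))
  let 𝔭 := (ι.base η).asHomogeneousIdeal.toIdeal
  let lin : (Fin (n + 1) → k) →ₗ[k] MvPolynomial (Fin (n + 1)) k :=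
    Fintype.linearCombination k (fun i => MvPolynomial.X i)
  let W : Submodule k (Fin (n + 1) → k) := (𝔭.restrictScalars k).comap lin
  have he : Pi.single j₀ 1 ∉ W := fun h => hj₀ (by
    have : lin (Pi.single j₀ 1) ∈ 𝔭 := h
    show _ ∈ 𝔭
    simpa [lin] using this)
  obtain ⟨φ, hφ, hφW⟩ := Submodule.exists_dual_map_eq_bot_of_notMem he inferInstance
  refine ⟨(∏ j, g j) * ∑ i, MvPolynomial.C (φ (Pi.single i 1)) * MvPolynomial.X i, mul_ne_zero
    (Finset.prod_ne_zero_iff.2 fun j _ => hg0 j) (fun h0 => hφ ?_), fun h hh => ?_⟩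
  · have := congrArg (MvPolynomial.eval (Pi.single j₀ (1 : k))) h0
    rw [map_sum, Finset.sum_eq_single j₀ (fun b _ hb => by simp [hb]) (by simp), map_zero] at this
    simpa using this
  · rw [map_mul, map_prod, mul_ne_zero_iff, Finset.prod_ne_zero_iff] at hh
    refine ⟨⟨η, fun hmem => hh.2 ?_⟩, fun x hx hhx j hj => hg j h (hh.1 j (Finset.mem_univ j)) x hx hhx hj⟩
    set c : Fin (n + 1) → k := fun i => MvPolynomial.coeff (Finsupp.single i 1) h.1
    have hc : c ∈ W := by
      show lin c ∈ 𝔭
      have : lin c = h.1 := by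
        conv_rhs => rw [linear_eq_sum h.2]
        simp [lin, c, Fintype.linearCombination_apply, MvPolynomial.smul_eq_C_mul]
      rw [this]; exact hmem
    have h0 : φ c = 0 := by
      have : φ c ∈ W.map φ := ⟨c, hc, rfl⟩
      rwa [hφW, Submodule.mem_bot] at this
    rw [← h0]
    conv_rhs => rw [pi_eq_sum_univ c, map_sum]
    simp only [map_sum, map_mul, MvPolynomial.eval_C, MvPolynomial.eval_X, map_smul, smul_eq_mul]
    refine Finset.sum_congr rfl fun i _ => ?_
    rw [mul_comm]
    congr 2
    funext l
    simp [Pi.single_apply, eq_comm]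

end Groth.Agent.S10921
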