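import Groth.Statements.S10928
import Groth.Agent.GenSmoothLib.Homogeneous
import Groth.Agent.GenSmoothLib.SmoothDim
import Groth.Agent.Unram17Lib.RelDim
import Mathlib

set_option autoImplicit false
universe u
open CategoryTheory CategoryTheory.Limits MonoidalCategory CartesianMonoidalCategory MonObj GrpObj AlgebraicGeometry
open Variety
set_option backward.isDefEq.respectTransparency.types false

namespace Groth.Agent.S10928

open MonoidalCategory CartesianMonoidalCategory MonObj GrpObj Groth.Agent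

theorem add_nat_eq {x : WithBot ℕ∞} {n m : ℕ} (h : x + (n : WithBot ℕ∞) = (m : WithBot ℕ∞)) :
    ∃ c : ℕ, x = (c : WithBot ℕ∞) ∧ c + n = m := by
  induction x using WithBot.recBotCoe with
  | bot => simp at h
  | coe x =>
    induction x using ENat.recTopCoe with
    | top =>
      have h' : ((⊤ : ℕ∞) + (n : ℕ∞)) = (m : ℕ∞) := by exact_mod_cast h
      simp at h'
    | coe c =>
      have h' : c + n = m := by exact_mod_cast h
      exact ⟨c, rfl, h'⟩

theorem localDim_opens {Z : Scheme.{u}} (V : Z.Opens) (v : V.toScheme) :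
    FlatMor.localDim V.toScheme v = FlatMor.localDim Z (V.ι v) :=
  AlgSpLib.localDim_eq_of_map V.ι.continuous V.ι.isOpenEmbedding.isOpenMap
    V.ι.isOpenEmbedding.generalizingMap (fun _ _ _ h => V.ι.isOpenEmbedding.injective h) v


/-- Let k be an algebraically closed field of characteristic zero, G a group variety over k (integral,
separated k-group scheme of finite type), X a homogeneous space for G (a k-variety with a G-action
such that G(k) acts transitively on X(k)) of dimension n, and f : Y → X, g : Z → X morphisms of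
k-schemes where Y and Z are nonsingular varieties over k (integral, separated, smooth of finite type
over k) of dimensions r and s. For a k-point σ of G write f^σ : Y → X for y ↦ σ · f(y). Then there
is a nonempty open subset V ⊆ G such that for every k-point σ of G lying in V the scheme Y^σ ×_X Z
(fibre product of f^σ and g) is smooth over k and is either empty or of dimension r + s − n
(dimensions are topological Krull dimensions). -/
theorem result (k : Type u) [Field k] [IsAlgClosed k] [CharZero k]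
    (G X : Over (Spec (CommRingCat.of k))) [GrpObj G] (a : AlgGrp.Action G X)
    [IsIntegral G.left] [IsSeparated G.hom] [LocallyOfFiniteType G.hom] [QuasiCompact G.hom]
    [IsIntegral X.left] [IsSeparated X.hom] [LocallyOfFiniteType X.hom] [QuasiCompact X.hom]
    (htrans : ∀ x x' : 𝟙_ (Over (Spec (CommRingCat.of k))) ⟶ X,
      ∃ σ : 𝟙_ (Over (Spec (CommRingCat.of k))) ⟶ G, CartesianMonoidalCategory.lift σ x ≫ a.act = x')
    {Y Z : Scheme.{u}} (f : Y ⟶ X.left) (g : Z ⟶ X.left)
    [IsIntegral Y] [IsSeparated (f ≫ X.hom)] [QuasiCompact (f ≫ X.hom)] [Smooth (f ≫ X.hom)]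
    [IsIntegral Z] [IsSeparated (g ≫ X.hom)] [QuasiCompact (g ≫ X.hom)] [Smooth (g ≫ X.hom)]
    (n r s : ℕ) (hn : topologicalKrullDim ↥X.left = n) (hr : topologicalKrullDim ↥Y = r)
    (hs : topologicalKrullDim ↥Z = s) :
    ∃ V : G.left.Opens, (V : Set ↥G.left).Nonempty ∧
      ∀ σ : 𝟙_ (Over (Spec (CommRingCat.of k))) ⟶ G, Set.range σ.left.base ⊆ (V : Set ↥G.left) →
        ∀ fσ : Y ⟶ X.left,
          fσ = (CartesianMonoidalCategory.lift (CartesianMonoidalCategory.toUnit (Over.mk (f ≫ X.hom)) ≫ σ)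
            (Over.homMk f) ≫ a.act).left →
          Smooth (pullback.fst fσ g ≫ f ≫ X.hom) ∧
            (IsEmpty ↥(pullback fσ g) ∨ (n ≤ r + s ∧ topologicalKrullDim ↥(pullback fσ g) = ((r + s - n : ℕ) : WithBot ℕ∞))) := by
  let Y' : Over (Spec (CommRingCat.of k)) := Over.mk (f ≫ X.hom)
  let f' : Y' ⟶ X := Over.homMk f
  haveI : IrreducibleSpace ↥Y'.left := inferInstanceAs (IrreducibleSpace ↥Y)
  haveI : Smooth Y'.hom := ‹Smooth (f ≫ X.hom)›
  haveI : QuasiCompact Y'.hom := ‹QuasiCompact (f ≫ X.hom)›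
  haveI := GenSmoothLib.smooth_actMap a htrans f'
  haveI := GenSmoothLib.smooth_hom_of_homogeneous a htrans
  haveI : Smooth G.hom := HopfLib.smooth_of_grpObj G
  let h := (GenSmoothLib.actMap a f').left
  let p₁ : (G ⊗ Y').left ⟶ G.left := (fst G Y').left
  have hhX : h ≫ X.hom = p₁ ≫ G.hom := (Over.w (GenSmoothLib.actMap a f')).trans (Over.w (fst G Y')).symm
  let W := pullback h g
  let q : W ⟶ G.left := pullback.fst h g ≫ p₁
  have hqW : q ≫ G.hom = pullback.snd h g ≫ g ≫ X.hom := by
    simp only [q, Category.assoc, ← hhX]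
    rw [← Category.assoc, pullback.condition, Category.assoc]
  haveI hWsm : Smooth (q ≫ G.hom) := by rw [hqW]; infer_instance
  haveI : QuasiCompact (G ⊗ Y').hom := by
    change QuasiCompact (pullback.fst G.hom Y'.hom ≫ G.hom)
    infer_instance
  haveI : QuasiCompact h := by
    haveI : QuasiCompact (h ≫ X.hom) := by
      rw [Over.w (GenSmoothLib.actMap a f')]; infer_instance
    exact QuasiCompact.of_comp h X.hom
  haveI hWqc : QuasiCompact (q ≫ G.hom) := by rw [hqW]; infer_instance
  haveI : LocallyOfFinitePresentation q := GenSmoothLib.finitePresentation_of_overField k (qX := q ≫ G.hom) (qY := G.hom) q rfl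
  haveI : QuasiCompact q := QuasiCompact.of_comp q G.hom
  haveI := GenSmoothLib.perfectField_functionField k G.hom
  obtain ⟨V, hV, hsmV⟩ := GenSmoothLib.exists_open_smooth_of_regular q
    (fun w => VarietyLib.isRegularLocalRing_stalk_of_smooth k W (q ≫ G.hom) w)
  haveI := hsmV
  refine ⟨V, hV, fun σ hσ fσ hfσ => ?_⟩
  let iσ : Y' ⟶ G ⊗ Y' := lift (toUnit Y' ≫ σ) (𝟙 Y')
  have hfh : iσ.left ≫ h = fσ := by
    rw [hfσ]
    show (iσ ≫ GenSmoothLib.actMap a f').left = _
    congr 1
    rw [GenSmoothLib.actMap, SGA3cLib.comp_smulPt, lift_fst, lift_snd_assoc, Category.id_comp]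
    rfl
  let str := pullback.fst fσ g ≫ f ≫ X.hom
  have sqA : IsPullback iσ.left Y'.hom p₁ σ.left := by
    refine IsPullback.of_right (h₁₂ := (snd G Y').left) (v₁₃ := Y'.hom) (h₂₂ := G.hom) ?_ ?_
      (IsPullback.of_hasPullback G.hom Y'.hom).flip
    · have e1 : iσ.left ≫ (snd G Y').left = 𝟙 Y'.left := by
        rw [← Over.comp_left, lift_snd]; rfl
      have e2 : σ.left ≫ G.hom = 𝟙 (Spec (CommRingCat.of k)) := Over.w σ
      rw [e1, e2]
      exact IsPullback.of_horiz_isIso ⟨(Category.id_comp _).trans (Category.comp_id _).symm⟩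
    · rw [← Over.comp_left, lift_fst, Over.comp_left, Over.toUnit_left]
  have hj0 : (pullback.fst fσ g ≫ iσ.left) ≫ h = pullback.snd fσ g ≫ g := by
    rw [Category.assoc, hfh, pullback.condition]
  let j : pullback fσ g ⟶ W := pullback.lift (pullback.fst fσ g ≫ iσ.left) (pullback.snd fσ g) hj0
  have sqB : IsPullback j (pullback.fst fσ g) (pullback.fst h g) iσ.left := by
    refine IsPullback.of_right (h₁₂ := pullback.snd h g) (v₁₃ := g) (h₂₂ := h) ?_ (pullback.lift_fst _ _ _)
      (IsPullback.of_hasPullback h g).flip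
    rw [pullback.lift_snd, hfh]
    exact (IsPullback.of_hasPullback fσ g).flip
  have sq : IsPullback j str q σ.left := sqB.paste_vert sqA
  let σ' : Spec (CommRingCat.of k) ⟶ V.toScheme :=
    IsOpenImmersion.lift V.ι σ.left (by rw [Scheme.Opens.range_ι]; exact hσ)
  have hσ' : σ' ≫ V.ι = σ.left := IsOpenImmersion.lift_fac _ _ _
  have hres := (isPullback_morphismRestrict q V).flip
  let j' := hres.lift j (str ≫ σ') (by rw [Category.assoc, hσ', sq.w])
  have sq' : IsPullback j' str (q ∣_ V) σ' := by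
    refine IsPullback.of_right (h₁₂ := (q ⁻¹ᵁ V).ι) (v₁₃ := q) (h₂₂ := V.ι) ?_ (hres.lift_snd _ _ _) hres
    rw [hres.lift_fst, hσ']
    exact sq
  haveI hstr : Smooth str := MorphismProperty.of_isPullback (P := @Smooth) sq' hsmV
  refine ⟨hstr, ?_⟩
  rcases isEmpty_or_nonempty ↥(pullback fσ g) with he | hne
  · exact Or.inl he
  refine Or.inr ?_
  haveI : IrreducibleSpace G.left := inferInstance
  obtain ⟨e, he⟩ : ∃ e : ℕ, topologicalKrullDim G.left = (e : WithBot ℕ∞) :=
    ⟨_, DimLib.topologicalKrullDim_eq_ptDim_genericPoint G.hom⟩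
  have key : ∀ p : ↥(pullback fσ g),
      ∃ c : ℕ, FlatMor.localDim _ p = (c : WithBot ℕ∞) ∧ c + n = r + s := by
    intro p
    let w' := j' p
    let w := (q ⁻¹ᵁ V).ι w'
    let z := pullback.fst h g w
    have h1 : FlatMor.localDim (G ⊗ Y').left z = FlatMor.fibreDimAt h z + (n : WithBot ℕ∞) := by
      rw [← GenSmoothLib.fibreDimAt_toField (h ≫ X.hom), Unram17Lib.fibreDimAt_comp,
        GenSmoothLib.fibreDimAt_toField X.hom, GenSmoothLib.localDim_eq_topologicalKrullDim X.hom, hn]
    haveI : Smooth p₁ := MorphismProperty.pullback_fst (P := @Smooth) G.hom Y'.hom inferInstance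
    have h2 : FlatMor.localDim (G ⊗ Y').left z = ((r + e : ℕ) : WithBot ℕ∞) := by
      rw [← GenSmoothLib.fibreDimAt_toField (p₁ ≫ G.hom), Unram17Lib.fibreDimAt_comp,
        AlgSpLib.fibreDimAt_baseChange (g' := (snd G Y').left) (f' := p₁)
          (IsPullback.of_hasPullback G.hom Y'.hom).flip z,
        GenSmoothLib.fibreDimAt_toField G.hom, GenSmoothLib.localDim_eq_topologicalKrullDim G.hom, he,
        GenSmoothLib.fibreDimAt_toField Y'.hom,
        GenSmoothLib.localDim_eq_topologicalKrullDim (Z := Y'.left) Y'.hom,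
        show topologicalKrullDim ↥Y'.left = _ from hr, Nat.cast_add]
    obtain ⟨d, hd, hdn⟩ := add_nat_eq (h1.symm.trans h2)
    have h3 : FlatMor.localDim W w = ((d + s : ℕ) : WithBot ℕ∞) := by
      rw [← GenSmoothLib.fibreDimAt_toField (pullback.snd h g ≫ g ≫ X.hom), Unram17Lib.fibreDimAt_comp,
        AlgSpLib.fibreDimAt_baseChange (IsPullback.of_hasPullback h g) w,
        hd, GenSmoothLib.fibreDimAt_toField (g ≫ X.hom),
        GenSmoothLib.localDim_eq_topologicalKrullDim (g ≫ X.hom), hs, Nat.cast_add]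
    haveI : Smooth (V.ι ≫ G.hom) := inferInstance
    have h4 : FlatMor.localDim W w = FlatMor.fibreDimAt (q ∣_ V) w' + (e : WithBot ℕ∞) := by
      rw [← localDim_opens (q ⁻¹ᵁ V) w', ← GenSmoothLib.fibreDimAt_toField ((q ∣_ V) ≫ V.ι ≫ G.hom),
        Unram17Lib.fibreDimAt_comp, GenSmoothLib.fibreDimAt_toField (V.ι ≫ G.hom), localDim_opens,
        GenSmoothLib.localDim_eq_topologicalKrullDim G.hom, he]
    obtain ⟨c, hc, hce⟩ := add_nat_eq (h4.symm.trans h3)
    refine ⟨c, ?_, by omega⟩
    rw [← GenSmoothLib.fibreDimAt_toField str, AlgSpLib.fibreDimAt_baseChange sq' p]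
    exact hc
  obtain ⟨c, -, hc⟩ := key (Classical.arbitrary _)
  refine ⟨by omega, GenSmoothLib.topologicalKrullDim_eq_of_localDim str _ fun p => ?_⟩
  obtain ⟨c', hc', hc''⟩ := key p
  rw [hc', show c' = r + s - n by omega]

end Groth.Agent.S10928
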