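import Groth.Statements.S10929
import Groth.Agent.GenSmoothLib.CharZero
import Groth.Agent.FlatMor12.GenericSmooth
import Groth.Agent.VarietyLib.SmoothStalk
import Mathlib

set_option autoImplicit false
universe u
open CategoryTheory CategoryTheory.Limits AlgebraicGeometry
open Variety

namespace Groth.Agent.S10929

/-- Let k be an algebraically closed field of characteristic zero, X and Y integral schemes of finite
type over k and f : X → Y a dominant k-morphism. Then there is a nonempty open subscheme U of X such
that f restricted to U is a smooth morphism U → Y. -/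
theorem result (k : Type u) [Field k] [IsAlgClosed k] [CharZero k]
    {X Y : Scheme.{u}} (qX : X ⟶ Spec (CommRingCat.of k)) (qY : Y ⟶ Spec (CommRingCat.of k))
    [LocallyOfFiniteType qX] [QuasiCompact qX] [LocallyOfFiniteType qY] [QuasiCompact qY]
    [IsIntegral X] [IsIntegral Y] (f : X ⟶ Y) (hf : f ≫ qY = qX) (hdom : DenseRange f.base) :
    ∃ U : X.Opens, (U : Set ↥X).Nonempty ∧ Smooth (U.ι ≫ f) := by
  have : LocallyOfFinitePresentation f := Groth.Agent.GenSmoothLib.finitePresentation_of_overField k f hf
  have : IsDominant f := ⟨hdom⟩
  have := Groth.Agent.GenSmoothLib.perfectField_functionField k qY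
  have : IsRegularLocalRing (X.presheaf.stalk (genericPoint X)) :=
    inferInstanceAs (IsRegularLocalRing X.functionField)
  have hmem := Groth.Agent.FlatMor12.GenericSmooth.mem_smoothLocus_of_regular f (genericPoint X)
    (Groth.Agent.FlatMor12.GenericSmooth.genericPoint_eq_of_isDominant f)
  refine ⟨f.smoothLocus, ⟨_, hmem⟩, ?_⟩
  rw [← Scheme.Hom.smoothLocus_eq_top_iff, ← Scheme.Hom.preimage_smoothLocus_eq]
  exact top_le_iff.1 fun x _ => x.2

end Groth.Agent.S10929
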