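import Groth.Statements.S1093
import Groth.Agent.DQCoh.FlatDescPsc17
-- import your own Groth.Agent.* helpers here

set_option autoImplicit false
universe u
open CategoryTheory CategoryTheory.Limits AlgebraicGeometry Opposite
attribute [local instance] HasDerivedCategory.standard
open Perf

namespace Groth.Agent.S1093

/-- Let f : X' → X be a flat, surjective morphism of schemes locally of finite presentation (an fppf
covering by a single morphism), and assume Lf^* exists. Then an object E of D(𝒪_X) is
m-pseudo-coherent if and only if Lf^*E is m-pseudo-coherent. -/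
theorem result {X' X : Scheme.{u}} (f : X' ⟶ X) [Flat f] [Surjective f] [LocallyOfFinitePresentation f]
    [DCoh.HasLpull f] (E : DCoh.D X) (m : ℤ) :
    DCoh.IsPseudoCoherentD m E ↔ DCoh.IsPseudoCoherentD m ((DCoh.Lpull f).obj E) := by
  obtain ⟨e⟩ := Groth.Agent.DQCoh.FlatDesc17.nonempty_Lpull_fd f E
  have hf : IsOpenMap f.base := f.isOpenMap
  refine ⟨fun h => Groth.Agent.DCat.PullPerf.isPseudoCoherentD_Lpull f m E h, fun h => ?_⟩
  exact Groth.Agent.DQCoh.FlatDesc17.psc_desc f (hf.isQuotientMap f.continuous f.surjective) (Groth.Agent.DQCoh.FlatDesc17.exists_compact_nhd_open f hf) E (Groth.Agent.DCat.PCTriangle.psc_iso e h)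

end Groth.Agent.S1093

#print axioms Groth.Agent.S1093.result
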