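import Groth.Statements.S10932
import Groth.Agent.CAlgH3.ExtDual
import Groth.Agent.CAlgH3.RegularCore

set_option autoImplicit false
universe u
open CategoryTheory
open CAlg

namespace Groth.Agent.S10932

/-- Let A be a (Noetherian) regular local ring of Krull dimension n and M a finitely generated A-module
such that Ext^j_A(M, A) = 0 for every j with 1 ≤ j ≤ n. Then M is projective, hence a free A-module. -/
theorem result (A : Type u) [CommRing A] [IsRegularLocalRing A]
    (n : ℕ) (hn : ringKrullDim A = n) (M : Type u) [AddCommGroup M] [Module A M] [Module.Finite A M]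
    (h : ∀ j : ℕ, 1 ≤ j → j ≤ n →
      Subsingleton (Abelian.Ext (ModuleCat.of A M) (ModuleCat.of A A) j)) :
    Module.Free A M := by
  rcases subsingleton_or_nontrivial M with hM | hM
  · exact Module.Free.of_subsingleton A M
  obtain ⟨p, hpN, hp1, hp2⟩ := CAlgH3.exists_pd_index (CAlgH3.pd_all (R := A) M)
  rw [← IsRegularLocalRing.spanFinrank_maximalIdeal, Nat.cast_inj] at hn
  rcases p with - | p
  · have := CAlgH3.pd_one_iff.1 hp1
    exact Module.free_of_flat_of_isLocalRing
  · exact (not_nontrivial_iff_subsingleton.2 (h (p + 1) (by omega) (by omega)) (CAlgH3.nontrivial_ext_of_pd _ M hp1 hp2)).elim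

end Groth.Agent.S10932
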