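import Groth.Statements.S10933
import Groth.Agent.CAlgH3.ExtDual
import Groth.Agent.CAlgH3.RegularCore

set_option autoImplicit false
universe u
open CategoryTheory
open CAlg

namespace Groth.Agent.S10933

/-- Let A be a (Noetherian) regular local ring, M a finitely generated A-module and d a natural number.
Then the projective dimension of M equals d if and only if Ext^j_A(M, A) = 0 for every j > d and
Ext^d_A(M, A) ≠ 0. (Projective dimension valued in WithBot ℕ∞, the zero module having projective
dimension ⊥.) -/
theorem result (A : Type u) [CommRing A] [IsRegularLocalRing A]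
    (M : Type u) [AddCommGroup M] [Module A M] [Module.Finite A M] (d : ℕ) :
    projectiveDimension (ModuleCat.of A M) = (d : WithBot ℕ∞) ↔
      ((∀ j : ℕ, d < j → Subsingleton (Abelian.Ext (ModuleCat.of A M) (ModuleCat.of A A) j)) ∧
        Nontrivial (Abelian.Ext (ModuleCat.of A M) (ModuleCat.of A A) d)) := by
  have key : projectiveDimension (ModuleCat.of A M) = (d : WithBot ℕ∞) ↔ CAlgH3.PD A (d + 1) M ∧ ¬ CAlgH3.PD A d M := by
    rw [le_antisymm_iff, projectiveDimension_le_iff, projectiveDimension_ge_iff]
  rw [key]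
  constructor
  · rintro ⟨h1, h2⟩
    exact ⟨fun j hj => HasProjectiveDimensionLT.subsingleton (hX := h1) (ModuleCat.of A M) (d + 1) j hj _,
      CAlgH3.nontrivial_ext_of_pd d M h1 h2⟩
  · rintro ⟨h1, h2⟩
    rcases subsingleton_or_nontrivial M with hM | hM
    · have h0 : CAlgH3.PD A 0 M := CAlgH3.pd_zero_iff.2 hM
      exact absurd (HasProjectiveDimensionLT.subsingleton (hX := h0) (ModuleCat.of A M) 0 d (Nat.zero_le d) (ModuleCat.of A A))
        (not_subsingleton_iff_nontrivial.2 h2)
    obtain ⟨p, -, hp1, hp2⟩ := CAlgH3.exists_pd_index (CAlgH3.pd_all (R := A) M)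
    rcases lt_trichotomy d p with h | h | h
    · exact absurd (h1 p h) (not_subsingleton_iff_nontrivial.2 (CAlgH3.nontrivial_ext_of_pd p M hp1 hp2))
    · subst h; exact ⟨hp1, hp2⟩
    · exact absurd (HasProjectiveDimensionLT.subsingleton (hX := hp1) (ModuleCat.of A M) (p + 1) d h (ModuleCat.of A A))
        (not_subsingleton_iff_nontrivial.2 h2)

end Groth.Agent.S10933
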