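import Groth.Statements.S10936
import Groth.Agent.GenSmoothLib.CharZero
import Groth.Agent.GenSmoothLib.CotangentConverse
import Groth.Agent.GenSmoothLib.SmoothDim
import Groth.Agent.Unram17Lib.RelDim
import Groth.Agent.DimLib.Components
import Mathlib

set_option autoImplicit false
universe u
open CategoryTheory CategoryTheory.Limits AlgebraicGeometry
open Variety
set_option backward.isDefEq.respectTransparency.types false

namespace Groth.Agent.S10936

open Groth.Agent TopologicalSpace


/-- (a)⇔(c): let k be an algebraically closed field, X and Y nonsingular varieties over k (integral,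
separated, of finite type and smooth over k) with dim Y = dY and dim X = dY + n, and f : X → Y a
k-morphism. Then f is smooth of relative dimension n if and only if for every closed point x of X
the tangent map T_x f : T_x X → T_{f(x)} Y is surjective — equivalently, the cotangent map
m_{f(x)}/m_{f(x)}^2 → m_x/m_x^2 of the local rings is injective. -/
theorem result (k : Type u) [Field k] [IsAlgClosed k]
    {X Y : Scheme.{u}} (qX : X ⟶ Spec (CommRingCat.of k)) (qY : Y ⟶ Spec (CommRingCat.of k))
    [IsIntegral X] [IsSeparated qX] [LocallyOfFiniteType qX] [QuasiCompact qX] [Smooth qX]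
    [IsIntegral Y] [IsSeparated qY] [LocallyOfFiniteType qY] [QuasiCompact qY] [Smooth qY]
    (f : X ⟶ Y) (hf : f ≫ qY = qX) (n dY : ℕ) (hY : topologicalKrullDim ↥Y = dY)
    (hX : topologicalKrullDim ↥X = ((dY + n : ℕ) : WithBot ℕ∞)) :
    SmoothOfRelativeDimension n f ↔
      ∀ x : X, IsClosed ({x} : Set ↥X) → Function.Injective (FixPt.cotangentMapAt f x (f.base x) rfl) := by
  haveI : LocallyOfFinitePresentation f := GenSmoothLib.finitePresentation_of_overField k f hf
  haveI : LocallyOfFiniteType (f ≫ qY) := by rw [hf]; infer_instance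
  haveI : JacobsonSpace X := LocallyOfFiniteType.jacobsonSpace qX
  constructor
  · intro h x hx
    haveI := h
    haveI : Smooth f := SmoothOfRelativeDimension.smooth n f
    exact GenSmoothLib.cotangentMapAt_injective_of_smooth qX qY f hf x hx
      (DimLib.isClosed_singleton_image qY f hx)
  · intro hT
    haveI hsm : Smooth f := by
      rw [← Scheme.Hom.smoothLocus_eq_top_iff]
      by_contra hne
      obtain ⟨p, hpU, hp⟩ : ((f.smoothLocus : Set X)ᶜ ∩ closedPoints X).Nonempty :=
        nonempty_inter_closedPoints (Set.nonempty_compl.2 fun h => hne (Opens.ext h))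
          f.smoothLocus.2.isClosed_compl.isLocallyClosed
      exact hpU (GenSmoothLib.mem_smoothLocus_of_cotangentMapAt qX qY f hf p hp
        (DimLib.isClosed_singleton_image qY f hp) (hT p hp))
    choose U m hxU hm using Unram17Lib.exists_smoothOfRelativeDimension f
    have hmn : ∀ x, m x = n := fun x => by
      haveI := hm x
      have h1 : FlatMor.fibreDimAt (f ≫ qY) x = ((dY + n : ℕ) : WithBot ℕ∞) := by
        rw [hf, GenSmoothLib.fibreDimAt_toField qX, GenSmoothLib.localDim_eq_topologicalKrullDim qX, hX]
      rw [Unram17Lib.fibreDimAt_comp, GenSmoothLib.fibreDimAt_toField qY,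
        GenSmoothLib.localDim_eq_topologicalKrullDim qY, hY] at h1
      have h2 := Unram17Lib.fibreDimAt_eq_of_openImmersion (U x).ι (𝟙 Y) (h := f) (h' := (U x).ι ≫ f)
        (Category.comp_id _).symm (⟨x, hxU x⟩ : (U x).toScheme)
      rw [Unram17Lib.fibreDimAt_of_smoothOfRelativeDimension ((U x).ι ≫ f) (m x)] at h2
      rw [show FlatMor.fibreDimAt f x = _ from h2] at h1
      have h3 : m x + dY = dY + n := by exact_mod_cast h1
      omega
    refine IsZariskiLocalAtSource.of_iSup_eq_top (P := @SmoothOfRelativeDimension n) U
      (Opens.ext (Set.eq_univ_of_forall fun x => by simpa using ⟨x, hxU x⟩)) fun x => ?_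
    exact hmn x ▸ hm x

end Groth.Agent.S10936
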