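import Groth.Statements.S10937
import Groth.Agent.GenSmoothLib.CharZero
import Groth.Agent.GenSmoothLib.OmegaFree
import Groth.Agent.DimLib.Components

set_option autoImplicit false
universe u
open CategoryTheory CategoryTheory.Limits AlgebraicGeometry
open Variety
set_option backward.isDefEq.respectTransparency.types false

namespace Groth.Agent.S10937

open Groth.Agent TopologicalSpace

/-- (a)⇔(b): let k be an algebraically closed field, X and Y nonsingular varieties over k (integral,
separated, of finite type and smooth over k) with dim Y = dY and dim X = dY + n, and f : X → Y a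
k-morphism. Then f is smooth of relative dimension n if and only if Ω_{X/Y} (the conormal sheaf of
the diagonal of f) is locally free of rank n. -/
theorem result (k : Type u) [Field k] [IsAlgClosed k]
    {X Y : Scheme.{u}} (qX : X ⟶ Spec (CommRingCat.of k)) (qY : Y ⟶ Spec (CommRingCat.of k))
    [IsIntegral X] [IsSeparated qX] [LocallyOfFiniteType qX] [QuasiCompact qX] [Smooth qX]
    [IsIntegral Y] [IsSeparated qY] [LocallyOfFiniteType qY] [QuasiCompact qY] [Smooth qY]
    (f : X ⟶ Y) (hf : f ≫ qY = qX) (n dY : ℕ) (hY : topologicalKrullDim ↥Y = dY)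
    (hX : topologicalKrullDim ↥X = ((dY + n : ℕ) : WithBot ℕ∞)) :
    SmoothOfRelativeDimension n f ↔ FlatMod.IsFinLocFreeOfRank n (Omega.sheaf f) := by
  haveI : LocallyOfFinitePresentation f := GenSmoothLib.finitePresentation_of_overField k f hf
  haveI : LocallyOfFiniteType (f ≫ qY) := by rw [hf]; infer_instance
  haveI : IsSeparated (f ≫ qY) := by rw [hf]; infer_instance
  haveI : IsSeparated f := IsSeparated.of_comp f qY
  haveI : JacobsonSpace X := LocallyOfFiniteType.jacobsonSpace qX
  constructor
  · intro h x
    haveI := h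
    obtain ⟨W, hW, V, hV, hxV, e, hst⟩ :=
      SmoothOfRelativeDimension.exists_isStandardSmoothOfRelativeDimension (n := n) (f := f) x
    letI := (f.appLE W V e).hom.toAlgebra
    haveI : Algebra.IsStandardSmoothOfRelativeDimension n Γ(Y, W) Γ(X, V) := hst
    obtain ⟨ψ⟩ := GenSmoothLib.exists_omega_equiv f hV hW e
    obtain ⟨b⟩ := OmegaLib.exists_basis_kaehler Γ(Y, W) Γ(X, V) n
    haveI := MorProj.isQCoh_omega f
    exact ⟨V, hxV, OmegaLib.exists_iso_freeMod_affine (Omega.sheaf f) hV (b.map ψ)⟩
  · intro hΩ
    haveI hsm : Smooth f := by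
      rw [← Scheme.Hom.smoothLocus_eq_top_iff]
      by_contra hne
      obtain ⟨p, hpU, hp⟩ : ((f.smoothLocus : Set X)ᶜ ∩ closedPoints X).Nonempty :=
        nonempty_inter_closedPoints (Set.nonempty_compl.2 fun h => hne (Opens.ext h))
          f.smoothLocus.2.isClosed_compl.isLocallyClosed
      refine hpU ?_
      show p ∈ f.smoothLocus
      rw [Scheme.Hom.mem_smoothLocus]
      haveI := GenSmoothLib.smoothOfRelativeDimension_toField qY hY
      haveI := GenSmoothLib.smoothOfRelativeDimension_toField qX hX
      letI := (GenSmoothLib.stalkStr qX p).toAlgebra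
      letI := (GenSmoothLib.stalkStr qY (f p)).toAlgebra
      letI := (f.stalkMap p).hom.toAlgebra
      haveI : IsScalarTower k (Y.presheaf.stalk (f p)) (X.presheaf.stalk p) :=
        IsScalarTower.of_algebraMap_eq' (GenSmoothLib.stalkMap_stalkStr qX qY f hf p).symm
      haveI := (GenSmoothLib.stalk_facts qX p).2.1
      obtain ⟨bA⟩ := GenSmoothLib.exists_basis_stalk qY (d := dY) (f p)
      obtain ⟨bB⟩ := GenSmoothLib.exists_basis_stalk qX (d := dY + n) p
      obtain ⟨bBA⟩ := GenSmoothLib.exists_basis_omega_stalk f hΩ p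
      exact GenSmoothLib.formallySmooth_of_ranks bA bB bBA
    choose U m hxU hm using Unram17Lib.exists_smoothOfRelativeDimension f
    have hmn : ∀ x, m x = n := fun x => by
      haveI := hm x
      have h1 : FlatMor.fibreDimAt (f ≫ qY) x = ((dY + n : ℕ) : WithBot ℕ∞) := by
        rw [hf, GenSmoothLib.fibreDimAt_toField qX, GenSmoothLib.localDim_eq_topologicalKrullDim qX, hX]
      rw [Unram17Lib.fibreDimAt_comp, GenSmoothLib.fibreDimAt_toField qY,
        GenSmoothLib.localDim_eq_topologicalKrullDim qY, hY] at h1
      have h2 := Unram17Lib.fibreDimAt_eq_of_openImmersion (U x).ι (𝟙 Y) (h := f) (h' := (U x).ι ≫ f)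
        (Category.comp_id _).symm (⟨x, hxU x⟩ : (U x).toScheme)
      rw [Unram17Lib.fibreDimAt_of_smoothOfRelativeDimension ((U x).ι ≫ f) (m x)] at h2
      rw [show FlatMor.fibreDimAt f x = _ from h2] at h1
      have h3 : m x + dY = dY + n := by exact_mod_cast h1
      omega
    refine IsZariskiLocalAtSource.of_iSup_eq_top (P := @SmoothOfRelativeDimension n) U
      (Opens.ext (Set.eq_univ_of_forall fun x => by simpa using ⟨x, hxU x⟩)) fun x => ?_
    exact hmn x ▸ hm x


end Groth.Agent.S10937
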