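import Groth.Statements.S10938
import Groth.Agent.GenSmoothLib.TangentRank
import Groth.Agent.DimLib.Maximal

set_option autoImplicit false
universe u
open CategoryTheory CategoryTheory.Limits AlgebraicGeometry
open Variety Groth.Agent TopologicalSpace
set_option backward.isDefEq.respectTransparency.types false

namespace Groth.Agent.S10938

/-- Let k be an algebraically closed field of characteristic zero, X and Y schemes of finite type over
k, f : X → Y a k-morphism and r a natural number. Let X_r be the set of closed points x of X such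
that the tangent map T_x f : T_x X → T_{f(x)} Y has rank at most r — equivalently, the image of the
cotangent map m_{f(x)}/m_{f(x)}^2 → m_x/m_x^2 is contained in the span of at most r vectors over the
residue field. Then the closure of f(X_r) in Y has (topological Krull) dimension at most r. -/
theorem result (k : Type u) [Field k] [IsAlgClosed k] [CharZero k]
    {X Y : Scheme.{u}} (qX : X ⟶ Spec (CommRingCat.of k)) (qY : Y ⟶ Spec (CommRingCat.of k))
    [LocallyOfFiniteType qX] [QuasiCompact qX] [LocallyOfFiniteType qY] [QuasiCompact qY]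
    (f : X ⟶ Y) (hf : f ≫ qY = qX) (r : ℕ) :
    topologicalKrullDim ↥(closure (f.base '' {x : ↥X | IsClosed ({x} : Set ↥X) ∧
      ∃ S : Finset (IsLocalRing.CotangentSpace (X.presheaf.stalk x)), S.card ≤ r ∧
        (LinearMap.range (FixPt.cotangentMapAt f x (f.base x) rfl) : Set (IsLocalRing.CotangentSpace (X.presheaf.stalk x))) ⊆
          (Submodule.span (IsLocalRing.ResidueField (X.presheaf.stalk x))
            (S : Set (IsLocalRing.CotangentSpace (X.presheaf.stalk x))) : Set (IsLocalRing.CotangentSpace (X.presheaf.stalk x)))})) ≤ r := by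
  set A : Set X := {x : ↥X | IsClosed ({x} : Set ↥X) ∧
      ∃ S : Finset (IsLocalRing.CotangentSpace (X.presheaf.stalk x)), S.card ≤ r ∧
        (LinearMap.range (FixPt.cotangentMapAt f x (f.base x) rfl) : Set (IsLocalRing.CotangentSpace (X.presheaf.stalk x))) ⊆
          (Submodule.span (IsLocalRing.ResidueField (X.presheaf.stalk x))
            (S : Set (IsLocalRing.CotangentSpace (X.presheaf.stalk x))) : Set (IsLocalRing.CotangentSpace (X.presheaf.stalk x)))}
  haveI : IsLocallyNoetherian X := LocallyOfFiniteType.isLocallyNoetherian qX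
  haveI : CompactSpace X := QuasiCompact.compactSpace_of_compactSpace qX
  haveI : IsNoetherian X := {}
  rw [DimLib.topologicalKrullDim_closed_eq_iSup qY isClosed_closure]
  refine iSup_le fun ξ => ?_
  obtain ⟨ξ, hξ⟩ := ξ
  let C : Set X := closure A
  haveI : NoetherianSpace C := (Topology.IsInducing.subtypeVal).noetherianSpace
  have hcov : C ⊆ ⋃ W ∈ irreducibleComponents C, Subtype.val '' W := fun c hc =>
    Set.mem_iUnion₂.2 ⟨irreducibleComponent ⟨c, hc⟩, irreducibleComponent_mem_irreducibleComponents _,
      ⟨c, hc⟩, mem_irreducibleComponent, rfl⟩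
  have hsub : f.base '' A ⊆ ⋃ W ∈ irreducibleComponents C, closure (f.base '' (Subtype.val '' W)) := by
    rintro _ ⟨a, ha, rfl⟩
    obtain ⟨W, hW, haW⟩ := Set.mem_iUnion₂.1 (hcov (subset_closure ha))
    exact Set.mem_iUnion₂.2 ⟨W, hW, subset_closure (Set.mem_image_of_mem _ haW)⟩
  obtain ⟨W, hW, hξW⟩ := Set.mem_iUnion₂.1 (closure_minimal hsub
    (NoetherianSpace.finite_irreducibleComponents.isClosed_biUnion fun _ _ => isClosed_closure) hξ)
  have hCc : IsClosed C := isClosed_closure
  have hWX : IsClosed (Subtype.val '' W : Set X) :=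
    hCc.isClosedEmbedding_subtypeVal.isClosedMap _ (isClosed_of_mem_irreducibleComponents W hW)
  obtain ⟨ω, hω⟩ := QuasiSober.sober (hW.1.image _ continuous_subtype_val.continuousOn) hWX
  have h1 : DimLib.ptDim qY ξ ≤ DimLib.ptDim qY (f ω) := by
    refine DimLib.ptDim_le_of_specializes qY (specializes_iff_mem_closure.2 (closure_minimal ?_ isClosed_closure hξW))
    rintro _ ⟨w, hw, rfl⟩
    exact specializes_iff_mem_closure.1 ((hω.specializes hw).map f.continuous)
  have h2 : DimLib.ptDim qY (f ω) ≤ r := by
    refine GenSmoothLib.ptDim_image_le qX qY f hf r ω A (fun a ha => ha) fun O hO hωO => ?_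
    obtain ⟨U, hU, ⟨u, hu⟩, hUW⟩ := NoetherianSpace.exists_isOpen_nonempty_subset_irreducibleComponent W hW
    obtain ⟨U', hU', rfl⟩ := isOpen_induced_iff.1 hU
    have hωU : ω ∈ U' := (hω.mem_open_set_iff hU').2 ⟨u, ⟨u, hUW hu, rfl⟩, hu⟩
    obtain ⟨ω', -, hωC⟩ := hω.mem
    obtain ⟨a, ⟨haO, haU⟩, haA⟩ := mem_closure_iff.1 (show ω ∈ closure A from hωC ▸ ω'.2)
      (O ∩ U') (hO.inter hU') ⟨hωO, hωU⟩
    exact ⟨a, haA, haO, hω.specializes ⟨⟨a, subset_closure haA⟩, hUW haU, rfl⟩⟩
  exact_mod_cast h1.trans h2

end Groth.Agent.S10938
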