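import Groth.Statements.S10940
import Groth.Agent.DimLib.ProjCover
import Mathlib.AlgebraicGeometry.Morphisms.Finite

set_option autoImplicit false
universe u
open CategoryTheory CategoryTheory.Limits AlgebraicGeometry
open Variety

namespace Groth.Agent.S10940

/-- Let k be a field and X a quasi-projective variety over k of dimension r: an integral scheme with an
immersion j : X → P^n_k. Then X admits a cover by r + 1 affine open subschemes. (Consequently the
cohomology of every quasi-coherent O_X-module vanishes above degree r; that consequence is the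
general vanishing above the number of affines in a cover and is not restated here. The published
statement is for varieties over an algebraically closed field; the argument, r + 1 hypersurfaces
through the boundary of the closure of X, works over any field, so k is an arbitrary field here.) -/
theorem result (k : Type u) [Field k] (n r : ℕ)
    {X : Scheme.{u}} (j : X ⟶ CohB1.ProjSpace n k) [IsImmersion j] [IsIntegral X]
    (hX : topologicalKrullDim ↥X = r) :
    ∃ U : Fin (r + 1) → X.Opens, (∀ i, IsAffineOpen (U i)) ∧ ⨆ i, U i = ⊤ := by
  open Groth.Agent.DimLib Groth.Agent.DimLib.PN in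
  let C : Set ↥(CohB1.ProjSpace n k) := closure (Set.range j.base) \ Set.range j.base
  have hC : IsClosed C := by
    have h := j.isLocallyClosed_range
    rw [isLocallyClosed_iff_isOpen_coborder, coborder, isOpen_compl_iff] at h
    exact h
  have hgen : ∀ z ∈ closure (Set.range j.base), (j (genericPoint X)) ⤳ (z : ↥(CohB1.ProjSpace n k)) := by
    intro z hz
    rw [specializes_iff_mem_closure]
    refine closure_minimal ?_ isClosed_closure hz
    rintro _ ⟨a, rfl⟩
    exact specializes_iff_mem_closure.1 ((genericPoint_specializes a).map j.continuous)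
  have hr : ptDim (CohB1.ProjSpace.toSpec n k) (j (genericPoint X)) = r := by
    rw [← ptDim_comp_preimmersion]
    exact_mod_cast (topologicalKrullDim_eq_ptDim_genericPoint (j ≫ CohB1.ProjSpace.toSpec n k)).symm.trans hX
  obtain ⟨h, hh, hhC, hcov⟩ := exists_forms_cover (n := n) (k := k) C hC (r + 1)
    (closure (Set.range j.base)) isClosed_closure (fun z hz _ =>
      Nat.lt_succ_of_le ((ptDim_le_of_specializes (CohB1.ProjSpace.toSpec n k) (hgen z hz)).trans hr.le))
  refine ⟨fun i => j ⁻¹ᵁ Proj.basicOpen (CohB1.polyGrading n k) (h i), fun i => ?_, ?_⟩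
  · obtain ⟨d, hd, hhd⟩ := hh i
    set D : (CohB1.ProjSpace n k).Opens := Proj.basicOpen (CohB1.polyGrading n k) (h i) with hD
    have hDa : IsAffineOpen D := Proj.isAffineOpen_basicOpen (CohB1.polyGrading n k) (h i) hhd hd
    have hcl : IsClosed (Set.range (j ∣_ D)) := by
      have he : Set.range (j ∣_ D) = D.ι ⁻¹' closure (Set.range j.base) := by
        ext w
        constructor
        · rintro ⟨a, rfl⟩
          refine subset_closure ⟨a.1, ?_⟩
          exact (morphismRestrict_base_coe j D a).symm
        · intro hw
          by_cases hwr : w.1 ∈ Set.range j.base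
          · obtain ⟨a, ha⟩ := hwr
            exact ⟨⟨a, show j a ∈ D by rw [show j a = w.1 from ha]; exact w.2⟩,
              Subtype.ext ((morphismRestrict_base_coe j D _).trans ha)⟩
          · exact absurd (hhC i w.1 ⟨hw, hwr⟩) w.2
      rw [he]
      exact isClosed_closure.preimage D.ι.continuous
    haveI : IsClosedImmersion (j ∣_ D) := IsClosedImmersion.of_isPreimmersion _ hcl
    haveI : IsAffine (D : Scheme.{u}) := hDa
    exact isAffine_of_isAffineHom (j ∣_ D)
  · rw [eq_top_iff]
    intro a _
    obtain ⟨i, hi⟩ := hcov (j a) (subset_closure ⟨a, rfl⟩) (fun hc => hc.2 ⟨a, rfl⟩)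
    exact TopologicalSpace.Opens.mem_iSup.2 ⟨i, hi⟩

end Groth.Agent.S10940
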