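import Groth.Statements.S10942
import Groth.Agent.Coherent.InternalHomFlasque
-- import your own Groth.Agent.* helpers here

set_option autoImplicit false
universe u
open CategoryTheory AlgebraicGeometry Opposite
open Coherent

namespace Groth.Agent.S10942

/-- Let X be a scheme, F an O_X-module for which the internal Hom functor Hom(F, -) exists (as the right
adjoint of F ⊗ -; always true) and I an injective object of the category of O_X-modules. Then the
O_X-module Hom(F, I) is flasque: for all opens U ⊆ V of X the restriction map Hom(F, I)(V) → Hom(F,
I)(U) is surjective. -/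
theorem result (X : Scheme.{u}) (F I : X.Modules)
    [DCoh.HasSheafHom F] (hI : Injective I) (U V : X.Opens) (hUV : U ≤ V) :
    Function.Surjective (((DCoh.sheafHom F).obj I).val.map (homOfLE hUV).op).hom := by
  intro b
  have := hI
  let e := (Groth.Agent.Coherent.sheafHomIso F).app I
  obtain ⟨a, ha⟩ := Groth.Agent.Coherent.surjective_resM_internalHom F I hUV (e.hom.app U b)
  refine ⟨e.inv.app V a, ?_⟩
  refine (Groth.Agent.Coherent.app_resM e.inv hUV a).symm.trans ?_
  refine (congrArg (e.inv.app U) ha).trans ?_
  exact congr($(e.hom_inv_id).app U b)

end Groth.Agent.S10942
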