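import Groth.Statements.S10944
import Groth.Agent.H8Lim.MaxPoints
import Groth.Agent.FlatLocal.MaxPoints

set_option autoImplicit false
universe u
open CategoryTheory AlgebraicGeometry
open FlatMor

namespace Groth.Agent.S10944

/-- Let f : X → Y be a flat morphism of Noetherian schemes and Y' an irreducible component of Y. Then
f⁻¹(Y') is the union of the irreducible components Z of X with f(Z) ⊆ Y'. -/
theorem result {X Y : Scheme.{u}}
    [IsNoetherian X] [IsNoetherian Y] (f : X ⟶ Y) [Flat f]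
    (Y' : Set ↥Y) (hY' : Y' ∈ irreducibleComponents ↥Y) :
    f.base ⁻¹' Y' = ⋃₀ {Z : Set ↥X | Z ∈ irreducibleComponents ↥X ∧ f.base '' Z ⊆ Y'} := by
  ext x
  constructor
  · intro hx
    have hgen := hY'.1.isGenericPoint_genericPoint_closure
    rw [(isClosed_of_mem_irreducibleComponents Y' hY').closure_eq] at hgen
    obtain ⟨x', hx', e⟩ := Flat.generalizingMap f (hgen.specializes hx)
    obtain ⟨ξ, hξ, hξx'⟩ := Groth.Agent.H8Lim.exists_isMaxPt_specializes x'
    have hmax : Groth.Agent.H8Lim.IsMaxPt hY'.1.genericPoint := by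
      refine (Groth.Agent.FlatLocal.isMaxPt_iff _).2 ?_
      rw [hgen.def]; exact hY'
    have hfξ : f ξ = hY'.1.genericPoint := hmax _ (e ▸ hξx'.map f.continuous)
    refine ⟨closure {ξ}, ⟨(Groth.Agent.FlatLocal.isMaxPt_iff ξ).1 hξ, ?_⟩,
      (hξx'.trans hx').mem_closure⟩
    rintro _ ⟨z, hz, rfl⟩
    exact ((specializes_iff_mem_closure.2 hz).map f.continuous).mem_closed
      (isClosed_of_mem_irreducibleComponents Y' hY') (show f ξ ∈ Y' by rw [hfξ]; exact hgen.mem)
  · rintro ⟨Z, ⟨-, hZ⟩, hxZ⟩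
    exact hZ ⟨x, hxZ, rfl⟩

end Groth.Agent.S10944
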