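import Groth.Statements.S10945
import Groth.Agent.Desc19b.GGFpqc

set_option autoImplicit false
universe u
open CategoryTheory AlgebraicGeometry Opposite
open Coherent

set_option backward.isDefEq.respectTransparency.types false
set_option backward.isDefEq.respectTransparency false

namespace Groth.Agent.S10945


/-- Let X be a scheme and 0 → F' → F → F'' → 0 a short exact sequence of O_X-modules whose map on global
sections Γ(X, F) → Γ(X, F'') is surjective. If F' and F'' are generated by global sections (each is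
a quotient of a free O_X-module), then F is generated by global sections. -/
theorem result (X : Scheme.{u})
    (S : ShortComplex X.Modules) (hS : S.ShortExact)
    (hsurj : Function.Surjective (S.g.val.app (op ⊤)).hom)
    (h1 : Curv2.IsGloballyGenerated S.X₁) (h3 : Curv2.IsGloballyGenerated S.X₃) :
    Curv2.IsGloballyGenerated S.X₂ := by
  obtain ⟨J₁, q₁, hq₁⟩ := h1
  obtain ⟨J₃, q₃, hq₃⟩ := h3
  let p₁ : Groth.Agent.Coherent.freeMod X J₁ ⟶ S.X₁ := q₁
  let p₃ : Groth.Agent.Coherent.freeMod X J₃ ⟶ S.X₃ := q₃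
  have : Epi p₁ := hq₁
  have : Epi p₃ := hq₃
  refine ⟨Γ(S.X₂, ⊤), Groth.Agent.Desc19b.evalGlobal S.X₂, ?_⟩
  show Epi (Groth.Agent.Desc19b.evalGlobal S.X₂)
  refine Preadditive.epi_of_cancel_zero _ fun {P} k hk => ?_
  have hw : ∀ w : Γ(S.X₂, ⊤), k.app ⊤ w = 0 := fun w => by
    rw [← Groth.Agent.Desc19b.evalGlobal_basis S.X₂ w]
    exact congrArg (fun φ => Scheme.Modules.Hom.app φ ⊤ (Groth.Agent.Coherent.freeBasisVec w ⊤)) hk
  have hf : S.f ≫ k = 0 := Groth.Agent.Desc19b.eq_zero_of_app_top p₁ _ fun w => hw (S.f.app ⊤ w)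
  have := hS.epi_g
  obtain ⟨k', hk'⟩ : ∃ k' : S.X₃ ⟶ P, S.g ≫ k' = k :=
    ⟨hS.exact.desc k hf, hS.exact.g_desc k hf⟩
  have : k' = 0 := Groth.Agent.Desc19b.eq_zero_of_app_top p₃ _ fun w => by
    obtain ⟨v, rfl⟩ := hsurj w
    rw [← hk'] at hw
    exact hw v
  rw [← hk', this, CategoryTheory.Limits.comp_zero]

end Groth.Agent.S10945
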