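import Groth.Statements.S10946
import Groth.Agent.SerreDual.Colim
import Groth.Agent.CAlgSmall.FPFiltered
import Groth.Agent.Coherent.FinitePres

set_option autoImplicit false
universe u
open CategoryTheory AlgebraicGeometry
open Coherent

open Groth.Agent Groth.Agent.Coherent CategoryTheory.Limits TopologicalSpace

namespace Groth.Agent.S10946

/-- Let X be a Noetherian separated scheme and n a natural number such that H^i(X, F) = 0 for all
coherent O_X-modules F and all i > n. Then H^i(X, G) = 0 for all quasi-coherent O_X-modules G and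
all i > n. -/
theorem result (X : Scheme.{u}) [IsNoetherian X]
    [X.IsSeparated] (n : ℕ)
    (h : ∀ F : X.Modules, Coh.IsCoh F → ∀ i : ℕ, n < i → Subsingleton (Coh.HH X F i))
    (G : X.Modules) (hG : Coh.IsQCoh G) (i : ℕ) (hi : n < i) :
    Subsingleton (Coh.HH X G i) := by
  haveI := hG
  obtain ⟨I, _, _, D, c, hc, hFP, rfl⟩ := CAlgSmall.FPFiltered.exists_filtered G
  haveI := SerreDual.preservesFilteredColimits_HH X I i
  let Φ := SheafOfModules.toSheaf.{u} X.ringCatSheaf ⋙ Sheaf.functorH (Opens.grothendieckTopology X) i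
  haveI hs : ∀ j, Subsingleton (Φ.obj (D.obj j)) := fun j =>
    h (D.obj j) ((isCoh_iff_isFP _).2 (hFP j)) i hi
  refine ⟨fun a b => ?_⟩
  obtain ⟨j, a', ha⟩ := Concrete.isColimit_exists_rep _ (isColimitOfPreserves Φ hc) a
  obtain ⟨k, b', hb⟩ := Concrete.isColimit_exists_rep _ (isColimitOfPreserves Φ hc) b
  rw [← ha, ← hb, (hs j).elim a' 0, (hs k).elim b' 0]
  exact (map_zero _).trans (map_zero _).symm

end Groth.Agent.S10946
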