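import Groth.Statements.S10947
import Groth.Agent.AmpleLib.Relative
import Groth.Agent.TwistLib.G.Inv
import Groth.Agent.Desc19b.ResProp
import Groth.Agent.Coherent.Vanishing
import Groth.Agent.Coherent.CohOps
import Groth.Agent.Clifford24.Lipman.GG
import Groth.Agent.Coherent.CohBC.HomSheaf
import Groth.Agent.AbCubeLib.AmpleOfFiniteKL


set_option autoImplicit false
universe u
open CategoryTheory AlgebraicGeometry
open Coherent

open CategoryTheory.Limits
open Groth.Agent Groth.Agent.Coherent

namespace Groth.Agent.S10947

/-- Let k be a field and X a quasi-projective scheme over k, given with an immersion ι : X → P^N_k into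
a projective space. If n is a natural number with H^i(X, E) = 0 for all finite locally free
O_X-modules E and all i > n, then H^i(X, F) = 0 for all coherent O_X-modules F (quasi-coherent of
finite type) and all i > n. -/
theorem result
    (k : Type u) [Field k] (N : ℕ) {X : Scheme.{u}} (ι : X ⟶ CohB1.ProjSpace N k) [IsImmersion ι]
    (n : ℕ) (h : ∀ E : X.Modules, FlatMod.IsFinLocFree E → ∀ i : ℕ, n < i → Subsingleton (Coh.HH X E i))
    (F : X.Modules) (hF : Coh.IsCoh F) (i : ℕ) (hi : n < i) :
    Subsingleton (Coh.HH X F i) := by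
  classical
  haveI := Coherent.isProper_projSpace_toSpec (n := N) (R := k)
  haveI : IsLocallyNoetherian (CohB1.ProjSpace N k) :=
    LocallyOfFiniteType.isLocallyNoetherian (CohB1.ProjSpace.toSpec N k)
  haveI : CompactSpace (CohB1.ProjSpace N k) :=
    QuasiCompact.compactSpace_of_compactSpace (CohB1.ProjSpace.toSpec N k)
  haveI : IsNoetherian (CohB1.ProjSpace N k) := {}
  haveI : IsLocallyNoetherian X := LocallyOfFiniteType.isLocallyNoetherian ι
  haveI : TopologicalSpace.NoetherianSpace X := ι.isEmbedding.isInducing.noetherianSpace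
  have hP : CohB1.IsAmple (Twist.twistProjSpace N k 1) :=
    TwistLib.G.isAmple_twist_one (𝒜 := CohB1.polyGrading N k) (Finset.univ.image MvPolynomial.X) (by
        intro g hg
        obtain ⟨j, -, rfl⟩ := Finset.mem_image.1 hg
        exact MvPolynomial.isHomogeneous_X _ j)
      (by
        rw [Finset.coe_image, Finset.coe_univ, Set.image_univ]
        refine le_antisymm (ProjLib.irrelevant_le_span_X N _) (Ideal.span_le.2 ?_)
        rintro _ ⟨j, rfl⟩
        exact HomogeneousIdeal.mem_irrelevant_of_mem (CohB1.polyGrading N _) Nat.one_pos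
          (MvPolynomial.isHomogeneous_X _ j))
  have hL := AmpleLib.isAmple_pullback_of_isEmbedding ι ι.isEmbedding hP
  have hres := Desc19b.hasResolutionProperty_of_isAmple hL
  obtain ⟨d, hd⟩ := Coherent.exists_bound_subsingleton_H'_top (X := X)
  suffices key : ∀ m i : ℕ, d ≤ i + m → n < i → ∀ G : X.Modules, Coh.IsCoh G →
      Subsingleton (Coh.HH X G i) from key d i (Nat.le_add_left d i) hi F hF
  intro m
  induction m with
  | zero =>
    intro i hi' _ G hG
    haveI := hd G hG.1 i (by simpa using hi')
    exact (Coherent.HHTopEquiv G i).toEquiv.subsingleton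
  | succ m ih =>
    intro i hi' hni G hG
    obtain ⟨E, π, hE, hπ⟩ := hres G hG.1 hG.2
    haveI := hπ
    let S : ShortComplex X.Modules := ShortComplex.mk (kernel.ι π) π (kernel.condition π)
    have hS : S.ShortExact := { exact := ShortComplex.exact_kernel π }
    refine Lipman24.subsingleton_HH_X₃ hS i (h E hE i hni) ?_
    exact ih (i + 1) (by omega) (by omega) _ (Coherent.isCoh_kernel π (Coherent.CohBC.isCoh_of_isFinLocFree hE) hG.1)


end Groth.Agent.S10947
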