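import Groth.Statements.S10948
import Groth.Agent.FinPush14.ToPush

set_option autoImplicit false
universe u
open CategoryTheory AlgebraicGeometry
open Coherent

open Groth.Agent Groth.Agent.Coherent CategoryTheory.Limits

namespace Groth.Agent.S10948

/-- Let f : X → Y be a finite surjective morphism of integral Noetherian schemes. Then there are an
integer r ≥ 1, a coherent O_X-module M (quasi-coherent of finite type) and a morphism of O_Y-modules
α : O_Y^r → f_*M (O_Y^r the free O_Y-module on r generators) such that the map induced by α on
stalks of the underlying abelian sheaves at the generic point of Y is an isomorphism. -/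
theorem result
    {X Y : Scheme.{u}} [IsIntegral X] [IsNoetherian X] [IsIntegral Y] [IsNoetherian Y]
    (f : X ⟶ Y) [IsFinite f] [Surjective f] :
    ∃ (r : ℕ) (M : X.Modules) (α : (SheafOfModules.free (ULift.{u} (Fin r)) : Y.Modules) ⟶
        (Scheme.Modules.pushforward f).obj M),
      0 < r ∧ Coh.IsCoh M ∧
      IsIso ((TopCat.Presheaf.stalkFunctor AddCommGrpCat.{u} (genericPoint ↥Y)).map
        ((SheafOfModules.toSheaf Y.ringCatSheaf).map α).hom) := by
  obtain ⟨r, M, α, hr, hM, hb⟩ := FinPush14.exists_free_to_push f
  let e := Props12.freeModIso Y r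
  refine ⟨r, M, e.hom ≫ α, hr, hM, (ConcreteCategory.isIso_iff_bijective _).2 ?_⟩
  change Function.Bijective ((DerSch.stalkFunctor Y (genericPoint Y)).map (e.hom ≫ α))
  rw [Functor.map_comp]
  exact hb.comp (ConcreteCategory.bijective_of_isIso ((DerSch.stalkFunctor Y (genericPoint Y)).map e.hom))

end Groth.Agent.S10948
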