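import Groth.Statements.S10953
import Groth.Agent.RedSepLib.Immersion

set_option autoImplicit false
universe u
open RedSep

namespace Groth.Agent.S10953

open AlgebraicGeometry CategoryTheory in
/-- For a morphism of schemes f : X → S to an affine scheme S such that any two points of X with the
same image in S lie in one common affine open subset of X, the morphism f is separated. -/
theorem result {X S : Scheme.{u}} [IsAffine S] (f : X ⟶ S)
    (h : ∀ x y : X, f x = f y → ∃ U : X.Opens, IsAffineOpen U ∧ x ∈ U ∧ y ∈ U) :
    IsSeparated f := by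
  open AlgebraicGeometry CategoryTheory Limits in
  refine ⟨IsClosedImmersion.of_isPreimmersion _ ?_⟩
  open AlgebraicGeometry CategoryTheory Limits in
  rw [← isOpen_compl_iff, isOpen_iff_forall_mem_open]
  open AlgebraicGeometry CategoryTheory Limits in
  intro z hz
  open AlgebraicGeometry CategoryTheory Limits in
  obtain ⟨U, hU, h1, h2⟩ := h (pullback.fst f f z) (pullback.snd f f z)
    (by rw [← Scheme.Hom.comp_apply, ← Scheme.Hom.comp_apply, pullback.condition])
  open AlgebraicGeometry CategoryTheory Limits in
  have : IsAffine U := hU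
  open AlgebraicGeometry CategoryTheory Limits in
  have : IsSeparated (U.ι ≫ f) := inferInstance
  open AlgebraicGeometry CategoryTheory Limits in
  let m := pullback.map (U.ι ≫ f) (U.ι ≫ f) f f U.ι U.ι (𝟙 S) (by simp) (by simp)
  open AlgebraicGeometry CategoryTheory Limits in
  have : IsOpenImmersion m :=
    MorphismProperty.pullbackMap (P := @IsOpenImmersion) (inferInstance : IsOpenImmersion U.ι)
      (inferInstance : IsOpenImmersion U.ι) rfl rfl
  open AlgebraicGeometry CategoryTheory Limits in
  have hcomm : pullback.diagonal (U.ι ≫ f) ≫ m = U.ι ≫ pullback.diagonal f := by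
    apply pullback.hom_ext <;> simp only [m, Category.assoc] <;>
      first | (erw [pullback.lift_fst]; simp) | (erw [pullback.lift_snd]; simp)
  open AlgebraicGeometry CategoryTheory Limits in
  refine ⟨m '' (Set.range (pullback.diagonal (U.ι ≫ f)))ᶜ, ?_,
    m.isOpenEmbedding.isOpenMap _ (pullback.diagonal (U.ι ≫ f)).isClosedEmbedding.isClosed_range.isOpen_compl, ?_⟩
  open AlgebraicGeometry CategoryTheory Limits in
  · rintro _ ⟨w, hw, rfl⟩ ⟨x, hx⟩
    have hxU : x ∈ U := by
      have := congr_arg (pullback.fst f f) hx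
      rw [← Scheme.Hom.comp_apply, pullback.diagonal_fst, ← Scheme.Hom.comp_apply, pullback.lift_fst,
        Scheme.Hom.comp_apply] at this
      change x = _ at this
      rw [this]
      exact (U.range_ι.le ⟨_, rfl⟩ :)
    refine hw ⟨⟨x, hxU⟩, m.isOpenEmbedding.injective ?_⟩
    erw [← Scheme.Hom.comp_apply, hcomm, Scheme.Hom.comp_apply, ← hx]
    rfl
  open AlgebraicGeometry CategoryTheory Limits in
  · have hzm : z ∈ Set.range m := by
      rw [Scheme.Pullback.range_map]
      exact ⟨U.range_ι.ge h1, U.range_ι.ge h2⟩
    obtain ⟨w, rfl⟩ := hzm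
    refine ⟨w, fun ⟨x, hx⟩ => hz ⟨U.ι x, ?_⟩, rfl⟩
    rw [← Scheme.Hom.comp_apply, ← hcomm, Scheme.Hom.comp_apply, hx]

end Groth.Agent.S10953
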