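import Groth.Statements.S10954
import Groth.Agent.Coherent.Affineness

set_option autoImplicit false
universe u
open Coherent

namespace Groth.Agent.S10954

open AlgebraicGeometry CategoryTheory CategoryTheory.Limits Opposite in
/-- Let X be a quasi-compact scheme such that, for every short exact sequence 0 → F' → F → F'' → 0 of
quasi-coherent O_X-modules whose first term F' admits a monomorphism into a finite direct sum of
copies of O_X, taking global sections gives a surjection F(X) → F''(X). Then X is affine. (The
published statement is an equivalence of three conditions on a quasi-compact scheme; this row states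
the implication from exactness of global sections on such sequences to affineness.) -/
theorem result (X : Scheme.{u}) [CompactSpace X]
    (h : ∀ (S : ShortComplex X.Modules) (n : ℕ)
      (j : S.X₁ ⟶ ∏ᶜ (fun _ : Fin n => Coh.structureModule X)),
      S.ShortExact → Mono j → Coh.IsQCoh S.X₁ → Coh.IsQCoh S.X₂ → Coh.IsQCoh S.X₃ →
        Function.Surjective (S.g.val.app (op ⊤)).hom) :
    IsAffine X := by
  refine Groth.Agent.Coherent.isAffine_of_sectionsExact fun T n φ hT hφ h₁ h₂ h₃ => ?_
  refine h T n (Limits.Pi.lift φ) hT ?_ h₁ h₂ h₃
  refine (Preadditive.mono_iff_cancel_zero _).2 fun P g hg => ?_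
  refine Scheme.Modules.hom_ext _ _ fun W => ?_
  ext a
  refine hφ W _ fun i => ?_
  have hgi : g ≫ φ i = 0 := by
    rw [← Limits.Pi.lift_π φ i, ← Category.assoc, hg, Limits.zero_comp]
  exact congrArg (fun ψ : P ⟶ Coh.structureModule X => ψ.app W a) hgi

end Groth.Agent.S10954
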