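import Groth.Statements.S10956
import Mathlib

set_option autoImplicit false
universe u
open scoped TensorProduct
open CAlg

namespace Groth.Agent.S10956

/-- Let R be a commutative ring, A and B commutative R-algebras and T = A ⊗_R B, an A-algebra through
the left factor. There is a T-linear map r from Ω_{T/R} to T ⊗_A Ω_{A/R} sending d(a ⊗ b) to (1 ⊗ b)
⊗ da for all a in A and b in B, and together with the canonical map Ω_{T/R} → Ω_{T/A} it identifies
Ω_{T/R} with the product (T ⊗_A Ω_{A/R}) × Ω_{T/A}. (The published statement is the isomorphism of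
(Ω_{A/R} ⊗_R B) ⊕ (A ⊗_R Ω_{B/R}) with Ω_{T/R} matching the exterior differentials; it is stated
here through the canonical identifications T ⊗_A Ω_{A/R} = Ω_{A/R} ⊗_R B and Ω_{T/A} = A ⊗_R
Ω_{B/R}.) -/
theorem result (R A B : Type u) [CommRing R] [CommRing A] [CommRing B]
    [Algebra R A] [Algebra R B] :
    ∃ r : Ω[(A ⊗[R] B)⁄R] →ₗ[A ⊗[R] B] ((A ⊗[R] B) ⊗[A] Ω[A⁄R]),
      (∀ (a : A) (b : B), r (KaehlerDifferential.D R (A ⊗[R] B) (a ⊗ₜ[R] b)) =
          ((1 : A) ⊗ₜ[R] b) ⊗ₜ[A] KaehlerDifferential.D R A a) ∧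
        Function.Bijective (fun ω : Ω[(A ⊗[R] B)⁄R] =>
          (r ω, KaehlerDifferential.map R A (A ⊗[R] B) (A ⊗[R] B) ω)) := by
  letI : Algebra B (A ⊗[R] B) := Algebra.TensorProduct.rightAlgebra
  haveI : IsScalarTower R B (A ⊗[R] B) := Algebra.TensorProduct.right_isScalarTower
  haveI : Algebra.IsPushout R B A (A ⊗[R] B) := inferInstance
  let r : Ω[(A ⊗[R] B)⁄R] →ₗ[A ⊗[R] B] ((A ⊗[R] B) ⊗[A] Ω[A⁄R]) :=
    (KaehlerDifferential.tensorKaehlerEquiv R B A (A ⊗[R] B)).symm.toLinearMap ∘ₗ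
      KaehlerDifferential.map R B (A ⊗[R] B) (A ⊗[R] B)
  have hr : ∀ (a : A) (b : B), r (KaehlerDifferential.D R (A ⊗[R] B) (a ⊗ₜ[R] b)) =
      ((1 : A) ⊗ₜ[R] b) ⊗ₜ[A] KaehlerDifferential.D R A a := fun a b => by
    show (KaehlerDifferential.tensorKaehlerEquiv R B A (A ⊗[R] B)).symm
      (KaehlerDifferential.map R B (A ⊗[R] B) (A ⊗[R] B) (KaehlerDifferential.D R _ (a ⊗ₜ[R] b))) = _
    rw [KaehlerDifferential.map_D]
    exact KaehlerDifferential.tensorKaehlerEquiv_symm_D_tmul' R B A b a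
  refine ⟨r, hr, ?_⟩
  have hinv : ∀ t, r (KaehlerDifferential.mapBaseChange R A (A ⊗[R] B) t) = t := by
    intro t
    induction t using TensorProduct.induction_on with
    | zero => simp
    | tmul x ω =>
      induction KaehlerDifferential.span_range_derivation R A ▸ Submodule.mem_top (x := ω) using Submodule.span_induction generalizing x with
      | mem ω hω =>
        obtain ⟨a, rfl⟩ := hω
        rw [KaehlerDifferential.mapBaseChange_tmul, KaehlerDifferential.map_D, map_smul,
          Algebra.TensorProduct.algebraMap_apply, Algebra.algebraMap_self, RingHom.id_apply, hr,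
          TensorProduct.smul_tmul', smul_eq_mul]
        rw [show x * (1 : A) ⊗ₜ[R] (1 : B) = x from mul_one x]
      | zero => simp
      | add ω ω' _ _ h h' => simp only [TensorProduct.tmul_add, map_add, h x, h' x]
      | smul c ω _ h => rw [← TensorProduct.smul_tmul]; exact h (c • x)
    | add s t hs ht => simp [map_add, hs, ht]
  have hex := KaehlerDifferential.exact_mapBaseChange_map R A (A ⊗[R] B)
  refine ⟨fun x y hxy => ?_, fun ⟨u, v⟩ => ?_⟩
  · simp only [Prod.mk.injEq] at hxy
    obtain ⟨t, ht⟩ := (hex (x - y)).1 (by rw [map_sub, hxy.2, sub_self])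
    have h1 : r (x - y) = 0 := by rw [map_sub, hxy.1, sub_self]
    rw [← ht, hinv] at h1
    rw [h1, map_zero] at ht
    exact sub_eq_zero.1 ht.symm
  · obtain ⟨ω, hω⟩ := KaehlerDifferential.map_surjective R A (A ⊗[R] B) v
    refine ⟨ω + KaehlerDifferential.mapBaseChange R A (A ⊗[R] B) (u - r ω), ?_⟩
    simp only [map_add, hinv, hex.apply_apply_eq_zero, add_zero, hω]
    exact Prod.ext (by abel) rfl

end Groth.Agent.S10956
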