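import Groth.Statements.S10957
import Mathlib.RingTheory.DiscreteValuationRing.TFAE
import Mathlib.RingTheory.Ideal.AssociatedPrime.Basic
import Mathlib.RingTheory.IntegralClosure.IntegrallyClosed

set_option autoImplicit false
universe u
open CAlg

namespace Groth.Agent.S10957

/-- Let A be a Noetherian local integral domain that is normal (integrally closed in its field of
fractions). If there is a nonzero element a of A such that the maximal ideal of A is an associated
prime of the A-module A/(a), then A is a discrete valuation ring. (The other conditions listed in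
the published result — normal of dimension one, maximal ideal nonzero principal, regular of
dimension one — are the library's standard characterisations; this row records the criterion through
an associated prime.) -/
theorem result
    (A : Type u) [CommRing A] [IsDomain A] [IsNoetherianRing A] [IsLocalRing A] [IsIntegrallyClosed A]
    (a : A) (ha : a ≠ 0)
    (hass : IsLocalRing.maximalIdeal A ∈ associatedPrimes A (A ⧸ Ideal.span ({a} : Set A))) :
    IsDiscreteValuationRing A := by
  classical
  let K := FractionRing A
  set m := IsLocalRing.maximalIdeal A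
  obtain ⟨-, x, hx⟩ := isAssociatedPrime_iff.1 hass
  obtain ⟨b, rfl⟩ := Ideal.Quotient.mk_surjective x
  have hmb : ∀ t, t ∈ m ↔ a ∣ t * b := by
    intro t
    rw [hx, Submodule.mem_colon_singleton, Submodule.mem_bot, ← Ideal.mem_span_singleton, ← Ideal.Quotient.eq_zero_iff_mem]
    rfl
  have hab : ¬ a ∣ b := fun h => Ideal.IsPrime.ne_top inferInstance ((Ideal.eq_top_iff_one m).2 ((hmb 1).2 (by rwa [one_mul])))
  have hamem : a ∈ m := (hmb a).2 (dvd_mul_right _ _)
  have hnf : ¬ IsField A := by
    intro hf
    exact ha (by simpa [m, IsLocalRing.isField_iff_maximalIdeal_eq.1 hf] using hamem)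
  by_cases hc : ∀ t ∈ m, ∀ c, t * b = a * c → c ∈ m
  · exfalso
    let y : K := algebraMap A K b / algebraMap A K a
    have haK : algebraMap A K a ≠ 0 := (map_ne_zero_iff _ (IsFractionRing.injective A K)).2 ha
    have hy : IsIntegral A y := by
      let N : Submodule A K := Submodule.map (Algebra.linearMap A K) m
      refine isIntegral_of_smul_mem_submodule N ?_ ((IsNoetherian.noetherian m).map _) y ?_
      · intro hN
        have : (algebraMap A K a) ∈ N := ⟨a, hamem, rfl⟩
        rw [hN, Submodule.mem_bot] at this
        exact haK this
      · rintro _ ⟨t, ht, rfl⟩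
        obtain ⟨c, hc'⟩ := (hmb t).1 ht
        refine ⟨c, hc t ht c hc', ?_⟩
        simp only [Algebra.linearMap_apply, smul_eq_mul, y]
        rw [div_mul_eq_mul_div, eq_div_iff haK, ← map_mul, ← map_mul, mul_comm b, hc', mul_comm a]
    obtain ⟨z, hz⟩ := IsIntegrallyClosed.isIntegral_iff.1 hy
    rw [eq_div_iff haK, ← map_mul] at hz
    exact hab ⟨z, by rw [mul_comm]; exact (IsFractionRing.injective A K hz).symm⟩
  · push Not at hc
    obtain ⟨t, ht, c, htc, hcm⟩ := hc
    obtain ⟨u, rfl⟩ : IsUnit c := by simpa [m] using hcm
    have hgen : m = Ideal.span {t} := by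
      refine le_antisymm (fun z hz => ?_) (by rwa [Ideal.span_le, Set.singleton_subset_iff])
      obtain ⟨d, hd⟩ := (hmb z).1 hz
      have : a * (z * u) = a * (t * d) := by linear_combination (-z) * htc + t * hd
      exact Ideal.mem_span_singleton.2 ⟨d * ↑u⁻¹, by rw [← mul_assoc, ← mul_left_cancel₀ ha this, Units.mul_inv_cancel_right]⟩
    have hp : m.IsPrincipal := ⟨⟨t, hgen⟩⟩
    exact ((IsDiscreteValuationRing.TFAE A hnf).out 0 4 rfl rfl).2 hp

end Groth.Agent.S10957
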