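import Groth.Statements.S10958
import Groth.Agent.AbCubeLib.ExistsAmple
import Groth.Agent.AbCubeLib.ProjEmbedding
import Groth.Agent.FBaseLib.GeomConn
import Groth.Agent.AbVarLib.GeomIntegralSmooth
import Groth.Agent.PnEmb.Ample
-- import your own Groth.Agent.* helpers here

set_option autoImplicit false
universe u
open CategoryTheory MonoidalCategory CartesianMonoidalCategory MonObj GrpObj AlgebraicGeometry
open AbVar

namespace Groth.Agent.S10958

/-- Let K be a field and A an abelian variety over K, that is, a group scheme over Spec K whose
structure morphism is proper and smooth and whose underlying topological space is irreducible. Then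
there exist a natural number n and a closed immersion of A into projective n-space over K which is a
morphism over Spec K. -/
theorem result
    (K : Type u) [Field K] (A : Over (Spec (CommRingCat.of K)))
    [GrpObj A] [IsProper A.hom] [Smooth A.hom] [IrreducibleSpace A.left] :
    ∃ (n : ℕ) (f : A.left ⟶ CohB1.ProjSpace n K),
      IsClosedImmersion f ∧ f ≫ CohB1.ProjSpace.toSpec n K = A.hom := by
  have : GeometricallyConnected (η[A].left ≫ A.hom) := by
    rw [Over.w η[A]]
    exact ⟨fun L _ y Z fst snd h => by
      have : IsIso snd := MorphismProperty.of_isPullback (P := MorphismProperty.isomorphisms Scheme) h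
        (inferInstanceAs (IsIso (𝟙 _)))
      exact (asIso snd).schemeIsoToHomeo.symm.surjective.connectedSpace (asIso snd).schemeIsoToHomeo.symm.continuous⟩
  have : Nonempty ↥((𝟙_ (Over (Spec (CommRingCat.of K)))).left) :=
    inferInstanceAs (Nonempty (Spec (CommRingCat.of K)))
  have : GeometricallyConnected A.hom := Groth.Agent.FBaseLib.geometricallyConnected_of_source η[A].left A.hom
  have : GeometricallyIntegral A.hom := Groth.Agent.AbVarLib.geometricallyIntegral_of_smooth A.hom
  obtain ⟨L, hL, hamp⟩ := Groth.Agent.AbCubeLib.exists_ample A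
  obtain ⟨n₀, hn⟩ := Groth.Agent.PnEmb.eventually_isRelVeryAmplePn A.hom hamp hL
  obtain ⟨n, f, hf, hfA, -⟩ := Groth.Agent.AbCubeLib.exists_isClosedImmersion_projSpace A.hom
    (Groth.Agent.AmpleLib.isInvertible_tensorMod (Groth.Agent.AmpleLib.isInvertible_tensorPow hL n₀) hL) (hn n₀ le_rfl)
  exact ⟨n, f, hf, hfA⟩

end Groth.Agent.S10958
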