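import Groth.Statements.S10959
import Mathlib.CategoryTheory.Monoidal.Cartesian.Grp
import Mathlib.AlgebraicGeometry.AlgClosed.Basic
open CategoryTheory CategoryTheory.Limits AlgebraicGeometry MonoidalCategory CartesianMonoidalCategory MonObj TopologicalSpace

set_option autoImplicit false
universe u
open CategoryTheory MonoidalCategory CartesianMonoidalCategory MonObj GrpObj AlgebraicGeometry
open AbVar

namespace Groth.Agent.S10959

/-- Let K be an algebraically closed field and A an abelian variety over K (a group scheme over Spec K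
with proper smooth structure morphism and irreducible underlying space). Let Z be a closed subset of
A which is not all of A, and z a K-valued point of A. Then there is a K-valued point x of A such
that the point underlying z lies neither in the translate of Z by x nor in the translate of Z by the
inverse of x; here the translation by x is the morphism A → A given on points by a ↦ a·x, the
product of the identity and the constant map x in the group of morphisms into A. (The published
statement takes Z to be the support of an effective divisor; this row allows any closed subset other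
than A.) -/
theorem result
    (K : Type u) [Field K] [IsAlgClosed K] (A : Over (Spec (CommRingCat.of K)))
    [GrpObj A] [IsProper A.hom] [Smooth A.hom] [IrreducibleSpace A.left]
    (Z : Set A.left) (hZ : IsClosed Z) (hZne : Z ≠ Set.univ)
    (z : 𝟙_ (Over (Spec (CommRingCat.of K))) ⟶ A) :
    ∃ x : 𝟙_ (Over (Spec (CommRingCat.of K))) ⟶ A,
      Disjoint (Set.range z.left.base)
        ((𝟙 A * (toUnit A ≫ x)).left.base '' Z ∪ (𝟙 A * (toUnit A ≫ x)⁻¹).left.base '' Z) := by
  let O := (Over (Spec (CommRingCat.of K)))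
  have hjac : JacobsonSpace A.left := LocallyOfFiniteType.jacobsonSpace A.hom
  let c : (A ⟶ A) := toUnit A ≫ z
  -- left multiplication by z and inversion composed with it
  let φ₁ : A ⟶ A := c * 𝟙 A
  let φ₂ : A ⟶ A := c * (𝟙 A)⁻¹
  have hx : ∀ (p : 𝟙_ (Over (Spec (CommRingCat.of K))) ⟶ A) (y : 𝟙_ _ ⟶ A), p ≫ toUnit A ≫ y = y := fun p y => by
    rw [← Category.assoc, show p ≫ toUnit A = 𝟙 (𝟙_ _) from toUnit_unique _ _, Category.id_comp]
  have hxA : ∀ (p : A ⟶ A) (y : 𝟙_ _ ⟶ A), p ≫ toUnit A ≫ y = toUnit A ≫ y := fun p y => by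
    rw [← Category.assoc, toUnit_unique (p ≫ toUnit A) (toUnit A)]
  have hs₁ : ∀ U : Set A.left, U.Nonempty → (φ₁.left.base ⁻¹' U).Nonempty := by
    rintro U ⟨u, hu⟩
    refine ⟨((toUnit A ≫ z)⁻¹ * 𝟙 A).left u, ?_⟩
    have h : ((toUnit A ≫ z)⁻¹ * 𝟙 A) ≫ φ₁ = 𝟙 A := by
      simp only [φ₁, c, MonObj.comp_mul, Category.comp_id, hxA]
      rw [mul_inv_cancel_left]
    show φ₁.left _ ∈ U
    rwa [← Scheme.Hom.comp_apply, ← Over.comp_left, h]
  have hs₂ : ∀ U : Set A.left, U.Nonempty → (φ₂.left.base ⁻¹' U).Nonempty := by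
    rintro U ⟨u, hu⟩
    refine ⟨((𝟙 A)⁻¹ * (toUnit A ≫ z)).left u, ?_⟩
    have h : ((𝟙 A)⁻¹ * (toUnit A ≫ z)) ≫ φ₂ = 𝟙 A := by
      simp only [φ₂, c, MonObj.comp_mul, GrpObj.comp_inv, Category.comp_id, hxA]
      rw [_root_.mul_inv_rev, _root_.inv_inv, mul_inv_cancel_left]
    show φ₂.left _ ∈ U
    rwa [← Scheme.Hom.comp_apply, ← Over.comp_left, h]
  have hU : (Zᶜ).Nonempty := Set.nonempty_compl.2 hZne
  obtain ⟨p, hp⟩ := nonempty_preirreducible_inter (hZ.isOpen_compl.preimage φ₁.left.continuous)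
    (hZ.isOpen_compl.preimage φ₂.left.continuous) (hs₁ _ hU) (hs₂ _ hU)
  obtain ⟨q, ⟨hq₁, hq₂⟩, hqc⟩ := nonempty_inter_closedPoints ⟨p, hp⟩
    ((hZ.isOpen_compl.preimage φ₁.left.continuous).inter (hZ.isOpen_compl.preimage φ₂.left.continuous)).isLocallyClosed
  let x : 𝟙_ (Over (Spec (CommRingCat.of K))) ⟶ A := Over.homMk (pointOfClosedPoint A.hom q hqc) (by simp)
  refine ⟨x, ?_⟩
  have hsub : ∀ t t' : ↥(Spec (CommRingCat.of K)), t = t' := fun t t' =>
    Subsingleton.elim (α := PrimeSpectrum K) t t'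
  rw [Set.disjoint_left]
  rintro _ ⟨t, rfl⟩ (⟨a, ha, he⟩ | ⟨a, ha, he⟩)
  · refine hq₂ ?_
    have h : z ≫ (𝟙 A * (toUnit A ≫ x)⁻¹) = x ≫ φ₂ := by
      simp only [φ₂, c, MonObj.comp_mul, GrpObj.comp_inv, Category.comp_id, hx]
    have h' : (𝟙 A * (toUnit A ≫ x)) ≫ (𝟙 A * (toUnit A ≫ x)⁻¹) = 𝟙 A := by
      simp only [MonObj.comp_mul, GrpObj.comp_inv, Category.comp_id, hxA, mul_inv_cancel_right]
    have e1 : φ₂.left q = (x ≫ φ₂).left t := congrArg φ₂.left (pointOfClosedPoint_apply A.hom q hqc t).symm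
    rw [e1, ← h, Over.comp_left, Scheme.Hom.comp_apply, ← he, ← Scheme.Hom.comp_apply, ← Over.comp_left, h']
    exact ha
  · refine hq₁ ?_
    have h : z ≫ (𝟙 A * (toUnit A ≫ x)) = x ≫ φ₁ := by
      simp only [φ₁, c, MonObj.comp_mul, Category.comp_id, hx]
    have h' : (𝟙 A * (toUnit A ≫ x)⁻¹) ≫ (𝟙 A * (toUnit A ≫ x)) = 𝟙 A := by
      simp only [MonObj.comp_mul, Category.comp_id, hxA, inv_mul_cancel_right]
    have e1 : φ₁.left q = (x ≫ φ₁).left t := congrArg φ₁.left (pointOfClosedPoint_apply A.hom q hqc t).symm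
    rw [e1, ← h, Over.comp_left, Scheme.Hom.comp_apply, ← he, ← Scheme.Hom.comp_apply, ← Over.comp_left, h']
    exact ha

end Groth.Agent.S10959
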