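import Groth.Statements.S1096
import Groth.Agent.DQCoh.KoszulPunct17
-- import your own Groth.Agent.* helpers here

set_option autoImplicit false
universe u
open CategoryTheory CategoryTheory.Limits AlgebraicGeometry Opposite
attribute [local instance] HasDerivedCategory.standard
open Perf

namespace Groth.Agent.S1096

/-- Let A be a ring, f₁, …, f_r ∈ A, X = Spec A, j : U ⟶ X the inclusion of the complement of V(f₁, …,
f_r), K the object of D(O_X) attached to the Koszul complex on f₁, …, f_r (in degrees −r, …, 0), E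
an object of D(O_X) with quasi-coherent cohomology sheaves, and a ∈ ℤ; the adjunction j^* ⊣ Rj_* is
given as data, with unit the canonical map E ⟶ Rj_*(E|_U). Then: if every morphism K[−n] ⟶ E with n
≥ a vanishes, τ_{≥ a} of the unit at E is an isomorphism; and if τ_{≥ a} of the unit at E is an
isomorphism, then every morphism K[−n] ⟶ E with n ≥ a + r vanishes, where r is the length of the
list (f₁, …, f_r). (The published statement gives the second clause with the bound a + 1 in place of
a + r. For r ≥ 2 that is false, e.g. for A = k[x, y], (f₁, f₂) = (x, y) and E the residue field k =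
A/(x, y) placed in degree a − 1; the bound a + r is true and sharp.) -/
theorem result (A : Type u) [CommRing A] (fs : List A) [PreservesFiniteLimits (tilde.functor (CommRingCat.of A))]
    [PreservesFiniteLimits (Scheme.Modules.restrictFunctor (LocCoh.puncturedOpen A (Ideal.span {a | a ∈ fs})).ι)] [DCoh.HasRpush (LocCoh.puncturedOpen A (Ideal.span {a | a ∈ fs})).ι]
    (adj : DCoh.restrictD (LocCoh.puncturedOpen A (Ideal.span {a | a ∈ fs})).ι ⊣ DCoh.Rpush (LocCoh.puncturedOpen A (Ideal.span {a | a ∈ fs})).ι)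
    (E : DCoh.D (Spec (CommRingCat.of A))) (hE : DCoh.IsQCohD E) (a : ℤ) :
    ((∀ n : ℤ, a ≤ n → ∀ φ : ((DCoh.tildeD (CommRingCat.of A)).obj (DerivedCategory.Q.obj (Koszul.koszul A fs)))⟦-n⟧ ⟶ E, φ = 0) →
      IsIso (((DerivedCategory.TStructure.t : CategoryTheory.Triangulated.TStructure (DCoh.D (Spec (CommRingCat.of A)))).truncGE a).map (adj.unit.app E))) ∧
    (IsIso (((DerivedCategory.TStructure.t : CategoryTheory.Triangulated.TStructure (DCoh.D (Spec (CommRingCat.of A)))).truncGE a).map (adj.unit.app E)) →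
      ∀ n : ℤ, a + (fs.length : ℤ) ≤ n → ∀ φ : ((DCoh.tildeD (CommRingCat.of A)).obj (DerivedCategory.Q.obj (Koszul.koszul A fs)))⟦-n⟧ ⟶ E, φ = 0) := by
  classical
  obtain ⟨MN, ME, g, eE, δ, hM, hT⟩ := Groth.Agent.DQCoh.KosPunct.exists_fibre adj E hE
  rw [Groth.Agent.DQCoh.PerfApprox.isIso_truncGE_map_iff]
  constructor
  · intro h i hi
    exact Groth.Agent.DQCoh.KosPunct.isIso_unit_of_isZero hT i
      (Groth.Agent.DQCoh.KosPunct.isZero_H_of_orth hM i ((Groth.Agent.DQCoh.KosPunct.orth_iff adj hT i).1 (h i hi)))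
      (Groth.Agent.DQCoh.KosPunct.isZero_H_of_orth hM (i + 1)
        ((Groth.Agent.DQCoh.KosPunct.orth_iff adj hT (i + 1)).1 (h (i + 1) (by omega))))
  · intro h n hn
    have hz : ∀ i, a < i → IsZero ((Groth.Agent.DRingLib.KosHom.H A i).obj MN) := fun i hi => by
      haveI := h i hi.le
      haveI := h (i - 1) (by omega)
      exact Groth.Agent.DQCoh.KosPunct.isZero_of_mono_of_epi hT i inferInstance inferInstance
    haveI hle : MN.IsLE a := (DerivedCategory.isLE_iff _ _).2 hz
    haveI hle2 : (MN⟦n⟧).IsLE (a - n) := DerivedCategory.TStructure.t.isLE_shift MN a n (a - n) (by ring)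
    haveI hle3 : (MN⟦n⟧).IsLE (-(fs.length : ℤ)) :=
      DerivedCategory.TStructure.t.isLE_of_le (MN⟦n⟧) (a - n) _ (by omega)
    refine Groth.Agent.DQCoh.KosPunct.orth_of_comp hT n
      (Groth.Agent.DRingLib.KosHom.comp_eq_zero fs (g⟦n⟧') hle3 ?_)
    let s := (DerivedCategory.homologyFunctor (ModuleCat.{u} A) 0).shiftIso n (-(fs.length : ℤ)) (n - (fs.length : ℤ)) (by ring)
    haveI := h (n - (fs.length : ℤ)) (by omega)
    have h0 := Groth.Agent.DQCoh.KosPunct.map_g_eq_zero hT (n - (fs.length : ℤ)) inferInstance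
    have hn : (DerivedCategory.homologyFunctor (ModuleCat.{u} A) (-(fs.length : ℤ))).map (g⟦n⟧') ≫ s.hom.app ME =
        s.hom.app MN ≫ (DerivedCategory.homologyFunctor (ModuleCat.{u} A) (n - (fs.length : ℤ))).map g :=
      s.hom.naturality g
    exact Preadditive.IsIso.comp_right_eq_zero _ (s.hom.app ME) |>.1
      (hn.trans ((congrArg (s.hom.app MN ≫ ·) h0).trans comp_zero))

end Groth.Agent.S1096

#print axioms Groth.Agent.S1096.result
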