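import Groth.Statements.S10961
import Groth.Agent.MeroLib.Torsion

set_option autoImplicit false
universe u
open CategoryTheory AlgebraicGeometry TopologicalSpace
open Mero

namespace Groth.Agent.S10961

open Groth.Agent.MeroLib

/-- Let X be a reduced scheme with only finitely many irreducible components, with generic points x_1,
…, x_r, and let U be an open subset of X. Then the ring of sections over U of the sheaf of
meromorphic functions K_X maps bijectively, by evaluation, onto the product of the rings K_{X,x_i}
over those generic points x_i that lie in U; moreover for each generic point x_i the local ring of X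
at x_i is a field and maps bijectively onto K_{X,x_i}, so that K_{X,x_i} is the residue field of
x_i. (The hypothesis holds for every Noetherian scheme; for X integral it says that K_X is the
constant sheaf with value the function field.) -/
theorem result
    (X : Scheme.{u}) [IsReduced X] (hfin : (irreducibleComponents (X : Type u)).Finite) (U : X.Opens) :
    Function.Bijective (fun s : Γ(Mero.kmod X, U) =>
      fun x : {x : U // closure ({x.1} : Set X) ∈ irreducibleComponents (X : Type u)} =>
        Mero.evalK X U x.1 s) ∧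
    (∀ x : X, closure ({x} : Set X) ∈ irreducibleComponents (X : Type u) →
      IsField (X.presheaf.stalk x) ∧
        Function.Bijective (algebraMap (X.presheaf.stalk x) (Mero.KStalk X x))) := by
  classical
  have hmax : ∀ y : X, y ∈ weakPts X ↔ ∀ z : X, z ⤳ y → z = y :=
    Groth.Agent.SDiv28.isWeakAssPoint_structureModule_iff_reduced
  have hbij : ∀ x : X, closure ({x} : Set X) ∈ irreducibleComponents (X : Type u) →
      IsField (X.presheaf.stalk x) ∧
        Function.Bijective (algebraMap (X.presheaf.stalk x) (Mero.KStalk X x)) := fun x hx => by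
    have hf := isField_stalk_of_max (max_of_closure_mem hx)
    refine ⟨hf, bijective_algebraMap_KStalk_of_units fun a ha => ?_⟩
    letI := hf.toField
    exact IsUnit.mk0 a (nonZeroDivisors.ne_zero ha)
  refine ⟨⟨fun s s' h => sub_eq_zero.1 ?_, fun f => ?_⟩, hbij⟩
  · refine Groth.Agent.SDiv28.kmod_ext (fun x hx y hy => (hmax x).1 hx y hy) _ fun y hy => ?_
    exact sub_eq_zero.2 (congrFun h ⟨y, closure_mem_irreducibleComponents hy⟩)
  · let M : Set X := {x | closure ({x} : Set X) ∈ irreducibleComponents (X : Type u)}
    have hMfin : M.Finite := Set.Finite.of_finite_image (hfin.subset (by rintro _ ⟨x, hx, rfl⟩; exact hx))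
      (fun a _ b _ hab => (inseparable_iff_closure_eq.2 hab).eq)
    choose c hc using fun x : {x : U // closure ({x.1} : Set X) ∈ irreducibleComponents (X : Type u)} =>
      (hbij x.1.1 x.2).2.2 (f x)
    choose T hxT r hr using fun x => X.presheaf.exists_germ_eq (c x)
    let N : {x : U // closure ({x.1} : Set X) ∈ irreducibleComponents (X : Type u)} → X.Opens := fun x =>
      U ⊓ T x ⊓ ⟨(⋃ z ∈ M \ {x.1.1}, closure {z})ᶜ,
        ((hMfin.subset Set.diff_subset).isClosed_biUnion fun z _ => isClosed_closure).isOpen_compl⟩
    have hxN : ∀ x, x.1.1 ∈ N x := fun x => ⟨⟨x.1.2, hxT x⟩, fun hx => by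
      obtain ⟨z, ⟨hzM, hzne⟩, hz⟩ := Set.mem_iUnion₂.1 hx
      exact hzne (max_of_closure_mem x.2 z (specializes_iff_mem_closure.2 hz))⟩
    have huniq : ∀ x p, p ∈ N x → ∀ z : X, z ⤳ p → z ∈ M → z = x.1.1 := fun x p hp z hzp hzM => by
      by_contra hne
      exact hp.2 (Set.mem_iUnion₂.2 ⟨z, ⟨hzM, hne⟩, specializes_iff_mem_closure.1 hzp⟩)
    let rN : ∀ x, Γ(X, N x) := fun x => X.presheaf.map (homOfLE (inf_le_left.trans inf_le_right)).op (r x)
    have hcomp : TopCat.Presheaf.IsCompatible X.presheaf N rN := by
      intro x y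
      refine Groth.Agent.MeroLib.section_ext fun p hp => ?_
      obtain ⟨z, hzp, hzmax⟩ := exists_max_specializes p
      have hzM : z ∈ M := closure_mem_irreducibleComponents hzmax
      obtain rfl : x = y := Subtype.ext (Subtype.ext
        ((huniq x p hp.1 z hzp hzM).symm.trans (huniq y p hp.2 z hzp hzM)))
      rfl
    obtain ⟨g, hg, -⟩ := X.sheaf.existsUnique_gluing' N (iSup N) (fun x => homOfLE (le_iSup N x)) le_rfl rN hcomp
    have hVU : iSup N ≤ U := iSup_le fun x => inf_le_left.trans inf_le_left
    have hmem : ∀ y : X, y ∈ U → y ∈ weakPts X → y ∈ iSup N := fun y hy hyw =>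
      TopologicalSpace.Opens.mem_iSup.2 ⟨⟨⟨y, hy⟩, closure_mem_irreducibleComponents ((hmax y).1 hyw)⟩, hxN _⟩
    have hV : ∀ W : X.Opens, W ≤ U →
        Function.Injective ⇑(X.presheaf.map (homOfLE (inf_le_left : W ⊓ iSup N ≤ W)).op) := by
      intro W hWU
      refine (injective_iff_map_eq_zero _).2 fun s hs => Groth.Agent.MeroLib.section_ext fun p hp => ?_
      rw [map_zero]
      obtain ⟨T', hT', hpT, hTW⟩ := exists_affine hp
      have h1 := Groth.Agent.SDiv28.germ_eq_zero_of_weak hT' (X.presheaf.map (homOfLE hTW).op s) (fun y hy hyw => by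
        rw [TopCat.Presheaf.germ_res_apply]
        have h2 := congrArg (X.presheaf.germ (W ⊓ iSup N) y ⟨hTW hy, hmem y (hWU (hTW hy)) hyw⟩) hs
        rw [map_zero] at h2
        erw [TopCat.Presheaf.germ_res_apply] at h2
        exact h2) hpT
      rw [TopCat.Presheaf.germ_res_apply] at h1
      exact h1
    obtain ⟨s, hs⟩ := exists_extend hVU hV
      (fun W _ => hMfin.subset fun y hy => closure_mem_irreducibleComponents ((hmax y).1 hy.2)) hmem g
    refine ⟨s, funext fun x => ?_⟩
    show s.1 x.1 = f x
    refine (hs x.1.1 (TopologicalSpace.Opens.mem_iSup.2 ⟨x, hxN x⟩)).trans ((congrArg _ ?_).trans (hc x))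
    rw [← hr x]
    have h3 := congrArg (X.presheaf.germ (N x) x.1.1 (hxN x)) (hg x)
    erw [TopCat.Presheaf.germ_res_apply] at h3
    exact h3.trans (TopCat.Presheaf.germ_res_apply X.presheaf _ _ (hxN x) (r x))

end Groth.Agent.S10961
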