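import Groth.Statements.S10962
import Groth.Agent.MorProj.VeryAmple
import Groth.Agent.AmpleLib.Local
import Groth.Agent.AbCubeLib.MulBy
import Groth.Agent.PicPn22.Main
import Groth.Agent.Coherent.ProjSpaceBase
import Groth.Agent.Coherent.ProjSpaceFinite
import Groth.Agent.Coherent.ProjSpaceCoh
import Groth.Agent.TwistLib.TwistInv

set_option autoImplicit false
set_option linter.style.haveILetI false
universe u
open CategoryTheory CategoryTheory.Limits AlgebraicGeometry TopologicalSpace
open SDiv

namespace Groth.Agent.S10962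

open Groth.Agent.Coherent Groth.Agent.PicLib Groth.Agent.AmpleLib TopologicalSpace in
private theorem hcov (n : ℕ) (R : Type u) [CommRing R] :
    ∀ x : ProjectiveSpectrum (CohB1.polyGrading n R),
      ∃ f ∈ CohB1.polyGrading n R 1, f ∉ x.asHomogeneousIdeal.toIdeal := fun x => by
  by_contra! h
  refine x.not_irrelevant_le ?_
  intro p hp
  exact (Ideal.span_le.2 (by rintro _ ⟨j, rfl⟩; exact h _ (MvPolynomial.isHomogeneous_X _ j)) :
    Ideal.span (Set.range MvPolynomial.X) ≤ x.asHomogeneousIdeal.toIdeal)
    (ProjLib.irrelevant_le_span_X n R hp)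

open Classical Groth.Agent.Coherent Groth.Agent.PicLib Groth.Agent.AmpleLib TopologicalSpace in
private theorem ample_succ (n : ℕ) (R : Type u) [CommRing R] :
    ∀ m : ℕ, CohB1.IsAmple (Twist.twistProjSpace n R ((m + 1 : ℕ) : ℤ))
  | 0 => TwistLib.isAmple_twist_one (𝒜 := CohB1.polyGrading n R)
      (Finset.univ.image MvPolynomial.X) (by
        intro g hg
        obtain ⟨j, -, rfl⟩ := Finset.mem_image.1 hg
        exact MvPolynomial.isHomogeneous_X _ j)
      (by
        rw [Finset.coe_image, Finset.coe_univ, Set.image_univ]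
        refine le_antisymm (ProjLib.irrelevant_le_span_X n _) (Ideal.span_le.2 ?_)
        rintro _ ⟨j, rfl⟩
        exact HomogeneousIdeal.mem_irrelevant_of_mem (CohB1.polyGrading n _) Nat.one_pos
          (MvPolynomial.isHomogeneous_X _ j))
  | m + 1 => by
    obtain ⟨e⟩ := TwistLib.nonempty_tensor_twist_iso (𝒜 := CohB1.polyGrading n R) (hcov n R)
      (a := ((m + 1 : ℕ) : ℤ)) (b := 1) (c := ((m + 1 + 1 : ℕ) : ℤ)) (by push_cast; ring)
    exact isAmple_of_iso e (isAmple_tensorMod (ample_succ n R m) (ample_succ n R 0))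

open Groth.Agent.Coherent Groth.Agent.PicLib Groth.Agent.AmpleLib TopologicalSpace in
private theorem not_ample_structure (n : ℕ) (hn : 1 ≤ n) (R : Type u) [CommRing R] [Nontrivial R] :
    ¬ CohB1.IsAmple (Coh.structureModule (CohB1.ProjSpace n R)) := by
  intro h
  obtain ⟨m, hm⟩ := Ideal.exists_maximal R
  letI := Ideal.Quotient.field m
  let sq := isPullback_projSpace n R (R ⧸ m)
  haveI : IsAffineHom (Proj.map (polyGradedMap n R (R ⧸ m)) (polyGradedMap_irrelevant n R (R ⧸ m))) :=
    MorphismProperty.of_isPullback (P := @IsAffineHom) sq.flip inferInstance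
  have h1 := isAmple_of_iso (PicLoc.pullbackStructureIso _)
    (isAmple_pullback_of_isAffineHom (Proj.map (polyGradedMap n R (R ⧸ m)) (polyGradedMap_irrelevant n R (R ⧸ m))) h)
  let K := R ⧸ m
  haveI : IsProper (CohB1.ProjSpace.toSpec n K) := isProper_projSpace_toSpec n K
  haveI := AbCubeLib.isFinite_of_isAmple_structureModule (CohB1.ProjSpace.toSpec n K) h1
  haveI : IsAffine (CohB1.ProjSpace n K) := isAffine_of_isAffineHom (CohB1.ProjSpace.toSpec n K)
  haveI : IsIso (CohB1.ProjSpace.toSpec n K).appTop := isIso_appTop_toSpec n K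
  haveI : IsIso (CohB1.ProjSpace.toSpec n K) := by
    have h2 : IsIso ((CohB1.ProjSpace n K).toSpecΓ ≫ Spec.map (CohB1.ProjSpace.toSpec n K).appTop) := inferInstance
    rw [← Scheme.toSpecΓ_naturality] at h2
    exact IsIso.of_isIso_comp_right _ (Spec (CommRingCat.of K)).toSpecΓ
  haveI : Subsingleton (Spec (CommRingCat.of K)) := inferInstanceAs (Subsingleton (PrimeSpectrum K))
  haveI : Subsingleton (CohB1.ProjSpace n K) :=
    (CohB1.ProjSpace.toSpec n K).homeomorph.toEquiv.subsingleton
  have htop : (⊤ : (CohB1.ProjSpace n K).Opens) ≤ Proj.basicOpen (CohB1.polyGrading n K) (MvPolynomial.X 0) :=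
    fun x _ => (Subsingleton.elim (α := ↥(CohB1.ProjSpace n K)) (PicPn22.eta n K) x) ▸ (PicPn22.eta_mem_D n K 0)
  have hg := (TwistLib.isGen_tau (𝒜 := CohB1.polyGrading n K)
    (show MvPolynomial.X (0 : Fin (n + 1)) ∈ CohB1.polyGrading n K 1 from MvPolynomial.isHomogeneous_X _ _)
      (1 : ℤ)).restrict htop
  obtain ⟨e1⟩ := TwistLib.nonempty_iso_of_isGen_top hg
  obtain ⟨e0⟩ := TwistLib.nonempty_twist_zero_iso (𝒜 := CohB1.polyGrading n K)
  have := PicPn22.eq_of_iso_twist n K hn (a := (1 : ℤ) * (1 : ℕ)) (b := 0) (e1 ≪≫ e0.symm)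
  simp at this



/-- Let R be a nonzero ring and n ≥ 1, and let X be projective n-space over R. For an integer d, the
Serre twist O_X(d) is ample if and only if d > 0. (Ample is taken in the sense that X is
quasi-compact and covered by the affine open non-vanishing loci X_s of global sections s of positive
tensor powers; for the quasi-compact separated scheme X this agrees with the definition through
finitely many generating sections with quasi-affine non-vanishing loci. The published remark also
asserts that O_X(d) is very ample relative to R for d > 0; that clause is not part of this row.) -/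
theorem result (R : Type u) [CommRing R] [Nontrivial R] (n : ℕ) (hn : 1 ≤ n) (d : ℤ) :
    CohB1.IsAmple (Twist.twistProjSpace n R d) ↔ 0 < d := by
  constructor
  · intro h
    by_contra hd
    apply not_ample_structure n hn R
    obtain ⟨m, hm⟩ : ∃ m : ℕ, d = -(m : ℤ) := ⟨(-d).toNat, by omega⟩
    obtain ⟨e0⟩ := TwistLib.nonempty_twist_zero_iso (𝒜 := CohB1.polyGrading n R)
    cases m with
    | zero =>
      subst hm
      exact Groth.Agent.AmpleLib.isAmple_of_iso e0 (by simpa [Twist.twistProjSpace] using h)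
    | succ m =>
      obtain ⟨e⟩ := TwistLib.nonempty_tensor_twist_iso (𝒜 := CohB1.polyGrading n R) (hcov n R)
        (a := d) (b := ((m + 1 : ℕ) : ℤ)) (c := 0) (by omega)
      exact Groth.Agent.AmpleLib.isAmple_of_iso e0
        (Groth.Agent.AmpleLib.isAmple_of_iso e (Groth.Agent.AmpleLib.isAmple_tensorMod h (ample_succ n R m)))
  · intro hd
    obtain ⟨m, rfl⟩ : ∃ m : ℕ, d = ((m + 1 : ℕ) : ℤ) := ⟨(d - 1).toNat, by omega⟩
    exact ample_succ n R m

end Groth.Agent.S10962
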