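import Groth.Statements.S10964
import Groth.Agent.PicLib.Invertible
open Groth.Agent.PicLib Groth.Agent.Coherent AlgebraicGeometry CategoryTheory

set_option autoImplicit false
universe u
open CategoryTheory AlgebraicGeometry TopologicalSpace Opposite
open PicF

namespace Groth.Agent.S10964

/-- Let X be a scheme with an open cover (U_i)_{i ∈ ι}. Let L and L' be O_X-modules with sections s_i of
L and s'_i of L' over U_i that generate there (for every open V ⊆ U_i, r ↦ r · s_i|_V is a bijection
from functions on V onto sections of L over V, and likewise for s'_i), and let η_ij, η'_ij be the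
functions on U_i ∩ U_j with s_i = η_ij · s_j and s'_i = η'_ij · s'_j there. Then L and L' are
isomorphic as O_X-modules if and only if there is a family of units u_i of the rings of functions on
the U_i with η'_ij · u_i|_{U_i ∩ U_j} = u_j|_{U_i ∩ U_j} · η_ij for all i, j. (So two invertible
modules trivialised by the cover are isomorphic exactly when their transition cocycles define the
same Čech cohomology class.) -/
theorem result (X : Scheme.{u}) {ι : Type u} (U : ι → X.Opens)
    (hU : iSup U = ⊤) (L L' : X.Modules) (s : ∀ i : ι, Γ(L, U i)) (s' : ∀ i : ι, Γ(L', U i))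
    (hs : ∀ (i : ι) (V : X.Opens) (h : V ≤ U i),
        Function.Bijective (fun r : Γ(X, V) => r • L.presheaf.map (homOfLE h).op (s i)))
    (hs' : ∀ (i : ι) (V : X.Opens) (h : V ≤ U i),
        Function.Bijective (fun r : Γ(X, V) => r • L'.presheaf.map (homOfLE h).op (s' i)))
    (η η' : ∀ i j : ι, Γ(X, U i ⊓ U j))
    (hη : ∀ i j : ι, L.presheaf.map (homOfLE (inf_le_left : U i ⊓ U j ≤ U i)).op (s i) =
        η i j • L.presheaf.map (homOfLE (inf_le_right : U i ⊓ U j ≤ U j)).op (s j))
    (hη' : ∀ i j : ι, L'.presheaf.map (homOfLE (inf_le_left : U i ⊓ U j ≤ U i)).op (s' i) =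
        η' i j • L'.presheaf.map (homOfLE (inf_le_right : U i ⊓ U j ≤ U j)).op (s' j)) :
    Nonempty (L ≅ L') ↔ ∃ u : ∀ i : ι, (Γ(X, U i))ˣ, ∀ i j : ι,
      η' i j * X.presheaf.map (homOfLE (inf_le_left : U i ⊓ U j ≤ U i)).op (u i : Γ(X, U i)) =
        X.presheaf.map (homOfLE (inf_le_right : U i ⊓ U j ≤ U j)).op (u j : Γ(X, U j)) * η i j := by
  have gs : ∀ i, IsGen L (U i) (s i) := fun i V h => hs i V h
  have gs' : ∀ i, IsGen L' (U i) (s' i) := fun i V h => hs' i V h
  refine ⟨fun ⟨e⟩ => ?_, fun ⟨u, hu⟩ => ?_⟩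
  · have ge : ∀ i, IsGen L' (U i) (e.hom.app (U i) (s i)) := by
      intro i V h
      have hb := ConcreteCategory.bijective_of_isIso (e.hom.app V)
      have : (fun r : Γ(X, V) => r • resM L' h (e.hom.app (U i) (s i))) =
          (e.hom.app V) ∘ (fun r : Γ(X, V) => r • resM L h (s i)) := by
        funext r
        show r • resM L' h (e.hom.app (U i) (s i)) = e.hom.app V (r • resM L h (s i))
        rw [Scheme.Modules.Hom.app_smul, app_resM]
      rw [this]
      exact hb.comp (gs i V h)
    refine ⟨fun i => ((gs' i).isUnit_coef (ge i)).unit, fun i j => ?_⟩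
    simp only [IsUnit.unit_spec]
    have hi := (inf_le_left : U i ⊓ U j ≤ U i)
    have hj := (inf_le_right : U i ⊓ U j ≤ U j)
    refine ((gs' j) (U i ⊓ U j) hj).1 ?_
    show (η' i j * res hi _) • resM L' hj (s' j) = (res hj _ * η i j) • resM L' hj (s' j)
    have h1 : resM L' hi (e.hom.app (U i) (s i)) = η i j • resM L' hj (e.hom.app (U j) (s j)) := by
      rw [← app_resM, ← app_resM, ← Scheme.Modules.Hom.app_smul]
      exact congrArg (e.hom.app (U i ⊓ U j)) (hη i j)
    rw [← (gs' i).coef_spec le_rfl (e.hom.app (U i) (s i)), ← (gs' j).coef_spec le_rfl (e.hom.app (U j) (s j)),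
      resM_smul, resM_smul, resM_resM, resM_resM, show resM L' _ (s' i) = η' i j • resM L' hj (s' j) from hη' i j,
      ← mul_smul, ← mul_smul] at h1
    rw [mul_comm (η' i j)]
    rw [mul_comm (η i j)] at h1
    exact h1
  · have hc : ∀ (i j : ι) (W : X.Opens) (hi : W ≤ U i) (hj : W ≤ U j) (c : Γ(X, W)),
        resM L hi (s i) = c • resM L hj (s j) →
          resM L' hi ((u i : Γ(X, U i)) • s' i) = c • resM L' hj ((u j : Γ(X, U j)) • s' j) := by
      intro i j W hi hj c h
      have hW : W ≤ U i ⊓ U j := le_inf hi hj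
      have e1 : c = res hW (η i j) := by
        refine ((gs j) W hj).1 ?_
        show c • resM L hj (s j) = res hW (η i j) • resM L hj (s j)
        have e := congrArg (resM L hW) (hη i j)
        rw [resM_smul] at e
        erw [resM_resM, resM_resM] at e
        exact h.symm.trans e
      have e2 : resM L' hi (s' i) = res hW (η' i j) • resM L' hj (s' j) := by
        have e := congrArg (resM L' hW) (hη' i j)
        rw [resM_smul] at e
        erw [resM_resM, resM_resM] at e
        exact e
      have e3 : res hW (η' i j) * res hi (u i : Γ(X, U i)) = res hj (u j : Γ(X, U j)) * res hW (η i j) := by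
        have e := congrArg (res hW) (hu i j)
        rw [map_mul, map_mul] at e
        erw [res_res, res_res] at e
        exact e
      rw [resM_smul, resM_smul, e2, ← mul_smul, ← mul_smul, e1]
      show (res hi _ * res hW (η' i j)) • _ = (res hW (η i j) * res hj _) • _
      rw [mul_comm, e3, mul_comm]
    obtain ⟨φ, hφ⟩ := exists_hom_of_gen U hU s gs (fun i => (u i : Γ(X, U i)) • s' i) hc
    have gu : ∀ i, IsGen L' (U i) ((u i : Γ(X, U i)) • s' i) := fun i => (gs' i).smul_unit (u i)
    obtain ⟨ψ, hψ⟩ := exists_hom_of_gen U hU (fun i => (u i : Γ(X, U i)) • s' i) gu s (fun i j W hi hj c h => by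
      obtain ⟨c', hc'⟩ : ∃ c', resM L hi (s i) = c' • resM L hj (s j) :=
        ⟨_, ((gs j).coef_spec hj _).symm⟩
      have h2 := hc i j W hi hj c' hc'
      rw [show c = c' from ((gu j) W hj).1 (h.symm.trans h2)]
      exact hc')
    refine ⟨⟨φ, ψ, hom_ext_gen U hU s gs _ _ fun i => ?_, hom_ext_gen U hU _ gu _ _ fun i => ?_⟩⟩
    · show ψ.app (U i) (φ.app (U i) (s i)) = s i
      rw [hφ, hψ]
    · show φ.app (U i) (ψ.app (U i) ((u i : Γ(X, U i)) • s' i)) = _
      rw [hψ, hφ]
      rfl

end Groth.Agent.S10964
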