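import Groth.Statements.S10969
import Groth.Agent.FF.RiemannRoch

set_option autoImplicit false
open FunFld

namespace Groth.Agent.S10969

open Groth.Agent.FF

/-- For `x` transcendental over `k` in a function field of one variable `K/k`, the degree of the divisor
of zeros of `x` equals `[K : k(x)]`. -/
theorem result (k K : Type*) [Field k] [Field K] [Algebra k K]
    (hK : FunFld.IsFunctionField k K) (x : K) (hx : Transcendental k x) :
    (∑ P ∈ (FunFld.div k x).support with 0 < FunFld.div k x P,
        FunFld.div k x P * (P.deg : ℤ)) =
      Module.finrank (IntermediateField.adjoin k ({x} : Set K)) K := by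
  classical
  have hxi : Transcendental k x⁻¹ := transcendental_of_not_mem hK fun ⟨c, hc⟩ => hx (by
    rw [← inv_inv x, ← hc, ← map_inv₀]; exact isAlgebraic_algebraMap _)
  have hadj : IntermediateField.adjoin k ({x⁻¹} : Set K) = IntermediateField.adjoin k ({x} : Set K) := by
    refine le_antisymm (IntermediateField.adjoin_simple_le_iff.mpr
      (inv_mem (IntermediateField.mem_adjoin_simple_self k x)))
      (IntermediateField.adjoin_simple_le_iff.mpr ?_)
    have := inv_mem (IntermediateField.mem_adjoin_simple_self k x⁻¹)
    rwa [inv_inv] at this
  rw [← hadj, ← deg_poles hK hxi, FunFld.Divisor.deg, Finsupp.sum]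
  refine Finset.sum_congr ?_ fun P hP => ?_
  · ext P; simp [Finsupp.mem_support_iff, poles_apply hK, div_apply hK]; omega
  · rw [Finsupp.mem_support_iff, poles_apply hK, ord_inv, neg_neg] at hP
    rw [poles_apply hK, div_apply hK, ord_inv, neg_neg, max_eq_left (by omega)]

end Groth.Agent.S10969
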