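import Groth.Statements.S10970
import Groth.Agent.FF.RiemannRoch

set_option autoImplicit false
open FunFld

namespace Groth.Agent.S10970

open Groth.Agent.FF

/-- An element of a function field of one variable has only finitely many zeros and poles. -/
theorem result (k K : Type*) [Field k] [Field K] [Algebra k K]
    (hK : FunFld.IsFunctionField k K) (x : K) :
    (Function.support fun P : FunFld.Place k K => P.ord x).Finite := by
  exact finite_support_ord hK x

end Groth.Agent.S10970
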