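import Groth.Statements.S10973
import Groth.Agent.FF.RiemannRoch

set_option autoImplicit false
open FunFld

namespace Groth.Agent.S10973

open Groth.Agent.FF

/-- Two nonzero elements of a function field of one variable with the same principal divisor differ by a
constant multiple. -/
theorem result (k K : Type*) [Field k] [Field K] [Algebra k K]
    (hK : FunFld.IsFunctionField k K) (x y : K) (hx : x ≠ 0) (hy : y ≠ 0)
    (h : ∀ P : FunFld.Place k K, P.ord x = P.ord y) : ∃ c : k, x = c • y := by
  have hy' : x / y ∈ FunFld.L (0 : FunFld.Divisor k K) := fun P => by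
    rw [map_div₀, val_eq_exp_neg_ord P hx, val_eq_exp_neg_ord P hy, h P, div_self WithZero.exp_ne_zero]
    simp
  rw [L_zero_eq hK, Submodule.mem_span_singleton] at hy'
  obtain ⟨c, hc⟩ := hy'
  exact ⟨c, by rw [eq_div_iff hy] at hc; rw [← hc, smul_one_mul]⟩

end Groth.Agent.S10973
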