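import Groth.Statements.S10989
import Groth.Agent.FF.RiemannRoch

set_option autoImplicit false
open FunFld

namespace Groth.Agent.S10989

open Groth.Agent.FF

/-- Any two canonical divisors of a function field of one variable are linearly equivalent. -/
theorem result (k K : Type*) [Field k] [Field K] [Algebra k K]
    (hK : FunFld.IsFunctionField k K) (C₁ C₂ : FunFld.Divisor k K) (h₁ : FunFld.IsCanonical k K C₁) (h₂ : FunFld.IsCanonical k K C₂) :
    ∃ x : K, x ≠ 0 ∧ C₂ = C₁ + FunFld.div k x := by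
  obtain ⟨ω₁, h10, hω₁⟩ := h₁
  obtain ⟨ω₂, h20, hω₂⟩ := h₂
  obtain ⟨x, hx⟩ := exists_mulW_eq' hK ⟨C₁, (hω₁ C₁).mpr le_rfl⟩ h10 ⟨C₂, (hω₂ C₂).mpr le_rfl⟩
  have hx0 : x ≠ 0 := by
    rintro rfl
    apply h20; rw [← hx]; ext a
    simp only [mulW_apply, zero_smul, LinearMap.zero_apply]; exact map_zero ω₁
  refine ⟨x, hx0, ?_⟩
  have hd := hx ▸ isDivOf_mulW' hK hx0 (smul_mem_adele hK x) hω₁
  exact le_antisymm ((hd C₂).mp ((hω₂ C₂).mpr le_rfl)) ((hω₂ _).mp ((hd _).mpr le_rfl))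

end Groth.Agent.S10989
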