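import Groth.Statements.S1099
import Groth.Agent.DQCoh.PerfectHom
import Groth.Agent.Dual22Lib.AdjGeom
import Groth.Agent.Dual22Lib.PerfLift
import Groth.Agent.DCat.SuppOpen
-- import your own Groth.Agent.* helpers here

set_option autoImplicit false
set_option backward.isDefEq.respectTransparency false
set_option linter.style.haveILetI false
universe u
open CategoryTheory CategoryTheory.Limits AlgebraicGeometry Opposite
attribute [local instance] HasDerivedCategory.standard
open Perf

namespace Groth.Agent.S1099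
open Groth.Agent

/-- Let the scheme X be quasi-compact and quasi-separated, K ∈ D(O_X) with quasi-coherent cohomology
sheaves whose sections over affine opens are countable, E a perfect object of D(O_X), and U ⊆ X a
quasi-compact open (restriction to U assumed exact). Then for every i the group of morphisms E|_U ⟶
K|_U[i] in D(O_U) is countable. -/
theorem result (X : Scheme.{u}) [CompactSpace ↥X] [QuasiSeparatedSpace ↥X]
    (K : DCoh.D X) (hK : DCoh.IsQCohD K) (hKc : ∀ V : X.Opens, IsAffineOpen V → ∀ i : ℤ, Countable ((DCoh.HD K i).val.obj (op V)))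
    (E : DCoh.D X) (hE : DCoh.IsPerfect E) (U : X.Opens) (hU : IsCompact (U : Set X)) [PreservesFiniteLimits (Scheme.Modules.restrictFunctor U.ι)] (i : ℤ) :
    Countable ((DCoh.restrictD U.ι).obj E ⟶ ((DCoh.restrictD U.ι).obj K)⟦i⟧) := by
    haveI : CompactSpace (U : Scheme.{u}) := isCompact_iff_compactSpace.1 hU
    haveI : QuasiSeparatedSpace (U : Scheme.{u}) := U.ι.isOpenEmbedding.quasiSeparatedSpace
    have hq : DCoh.IsQCohD ((DCoh.restrictD U.ι).obj K) := Dual22Lib.AdjGeom.isQCohD_restrictD U.ι hK
    let K' := (DCoh.restrictD U.ι).obj K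
    let Φ : ObjectProperty (DCoh.D (U : Scheme.{u})) := fun Q => ∀ j : ℤ, Countable (Q ⟶ K'⟦j⟧)
    have hdev : DQCoh.IsDev Φ :=
      { iso := fun e h j => by
          haveI := h j
          exact (Iso.homCongr e.symm (Iso.refl (K'⟦j⟧))).injective.countable
        zero := fun Q hQ j =>
          haveI : Subsingleton (Q ⟶ K'⟦j⟧) := ⟨fun a b => hQ.eq_of_src a b⟩
        inferInstance
        shift := fun Q n h j => by
          haveI := h (j - n)
          let e : (K'⟦j - n⟧)⟦n⟧ ≅ K'⟦j⟧ :=
            ((shiftFunctorAdd' (DCoh.D (U : Scheme.{u})) (j - n) n j (by omega)).app K').symm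
          exact (Function.Surjective.countable (f := fun g : Q ⟶ K'⟦j - n⟧ => g⟦n⟧' ≫ e.hom) fun f => by
            obtain ⟨g, hg⟩ := (shiftFunctor (DCoh.D (U : Scheme.{u})) n).map_surjective (f ≫ e.inv)
            exact ⟨g, by simp only [hg, Category.assoc, e.inv_hom_id, Category.comp_id]⟩)
        ext := fun T hT h1 h3 j => by
          classical
          haveI := h1 j
          haveI := h3 j
          let r : (T.obj₁ ⟶ K'⟦j⟧) → (T.obj₂ ⟶ K'⟦j⟧) :=
            fun c => if h : ∃ f, T.mor₁ ≫ f = c then h.choose else 0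
          refine Function.Surjective.countable
            (f := fun p : (T.obj₁ ⟶ K'⟦j⟧) × (T.obj₃ ⟶ K'⟦j⟧) => r p.1 + T.mor₂ ≫ p.2) fun f => ?_
          have hr : T.mor₁ ≫ r (T.mor₁ ≫ f) = T.mor₁ ≫ f := by
            have h : ∃ f', T.mor₁ ≫ f' = T.mor₁ ≫ f := ⟨f, rfl⟩
            simp only [r, dif_pos h]
            exact h.choose_spec
          obtain ⟨g, hg⟩ := Pretriangulated.Triangle.yoneda_exact₂ T hT (f - r (T.mor₁ ≫ f))
            (by rw [Preadditive.comp_sub, hr, sub_self])
          exact ⟨(T.mor₁ ≫ f, g), by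
            show r (T.mor₁ ≫ f) + T.mor₂ ≫ g = f
            rw [← hg]
            abel⟩ }
    have haff : ∀ W : (U : Scheme.{u}).Opens, IsAffineOpen W → Φ ((DQCoh.sec (U : Scheme.{u})).pt.obj W) := by
      intro W hW j
      haveI := hKc (U.ι ''ᵁ W) (hW.image_of_isOpenImmersion U.ι) j
      haveI : Countable Γ(DCoh.HD (K'⟦j⟧) 0, W) := by
        let e : DCoh.HD (K'⟦j⟧) 0 ≅ (DCoh.HD K j).restrict U.ι :=
          ((DerivedCategory.homologyFunctor (U : Scheme.{u}).Modules 0).shiftIso j 0 j (by omega)).app K' ≪≫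
            DCat.SuppOpen.hdMapIso (Scheme.Modules.restrictFunctor U.ι) K j
        haveI : Countable Γ((DCoh.HD K j).restrict U.ι, W) :=
          inferInstanceAs (Countable ((DCoh.HD K j).val.obj (op (U.ι ''ᵁ W))))
        exact Function.Injective.countable (f := fun x => e.hom.app W x)
          (Function.LeftInverse.injective (g := fun y => e.inv.app W y) fun x =>
          ((CategoryTheory.comp_apply (e.hom.app W) (e.inv.app W) x).symm.trans
            ((ConcreteCategory.congr_hom (congrArg (fun φ => Scheme.Modules.Hom.app φ W) e.hom_inv_id) x).trans rfl)))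
      haveI : Countable ((DQCoh.sec (U : Scheme.{u})).P.obj W ⟶ DCoh.HD (K'⟦j⟧) 0) :=
        (Coherent.freeModOnEquiv W (DCoh.HD (K'⟦j⟧) 0)).injective.countable
      exact (DQCoh.bijective_θ (K'⟦j⟧) (DQCoh.isQCohD_shift hq j) hW).1.countable
    exact DQCoh.perfect_induction hdev (hdev.of_affine haff) _ (Dual22Lib.PerfLift.isPerfect_restrictD U.ι hE) i

end Groth.Agent.S1099

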