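import Groth.Statements.S10994
import Groth.Agent.FF.Rational

set_option autoImplicit false
open FunFld

namespace Groth.Agent.S10994

open Groth.Agent.FF

/-- A function field of one variable has genus `0` and a place of degree `1` iff it is a rational
function field `k(x)`. -/
theorem result (k K : Type*) [Field k] [Field K] [Algebra k K]
    (hK : FunFld.IsFunctionField k K) :
    (FunFld.genus k K = 0 ∧ ∃ P : FunFld.Place k K, P.deg = 1) ↔
      ∃ x : K, IntermediateField.adjoin k ({x} : Set K) = ⊤ := by
  constructor
  · rintro ⟨hg, P, hP⟩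
    have h2 : 2 ≤ FunFld.ell (Finsupp.single P (1 : ℤ)) := by
      have := ell_eq_of_deg_large hK (D := Finsupp.single P (1 : ℤ)) (by rw [deg_single, hP, hg]; simp)
      rw [deg_single, hP, hg] at this; push_cast at this; omega
    have := finiteDimensional_L hK (Finsupp.single P (1 : ℤ))
    obtain ⟨x, hx, hxc⟩ : ∃ x ∈ FunFld.L (Finsupp.single P (1 : ℤ)), x ∉ Set.range (algebraMap k K) := by
      by_contra hc; push Not at hc
      have hle : FunFld.L (Finsupp.single P (1 : ℤ)) ≤ Submodule.span k {(1 : K)} := fun x hx => by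
        obtain ⟨c, rfl⟩ := hc x hx
        exact Submodule.mem_span_singleton.mpr ⟨c, by rw [Algebra.smul_def, mul_one]⟩
      have := (Submodule.finrank_mono hle).trans (finrank_span_singleton (K := k) one_ne_zero).le
      simp only [FunFld.ell] at h2; omega
    have hxt := transcendental_of_not_mem hK hxc
    refine ⟨x, (adjoin_eq_top_iff hK hxt).mpr ?_⟩
    have h1 : (poles (k := k) x).deg ≤ FunFld.Divisor.deg (Finsupp.single P (1 : ℤ)) := deg_mono fun Q => by
      have hx0 : x ≠ 0 := fun e => hxt (e ▸ isAlgebraic_zero)
      have := (val_le_exp_iff Q hx0).mp (hx Q)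
      have h0 : (0:ℤ) ≤ (Finsupp.single P (1 : ℤ) : FunFld.Divisor k K) Q := Finsupp.single_nonneg.mpr zero_le_one Q
      rw [poles_apply hK]
      exact max_le (by omega) h0
    rw [deg_single, hP] at h1
    have := finiteDimensional_adjoin hK hxt
    have h3 : 0 < Module.finrank (IntermediateField.adjoin k ({x} : Set K)) K := Module.finrank_pos
    have h4 := deg_poles hK hxt
    omega
  · rintro ⟨x, hx⟩
    obtain ⟨P, hP, -, -, hg⟩ := genus_zero_of_adjoin_eq_top hK hx (transcendental_of_adjoin_eq_top hK hx)
    exact ⟨hg, P, hP⟩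

end Groth.Agent.S10994
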