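import Groth.Statements.S10995
import Groth.Agent.FF.Rational

set_option autoImplicit false
open FunFld

namespace Groth.Agent.S10995

open Groth.Agent.FF

/-- A function field of one variable has an element with pole divisor of degree `1` iff it is a rational
function field. -/
theorem result (k K : Type*) [Field k] [Field K] [Algebra k K]
    (hK : FunFld.IsFunctionField k K) :
    (∃ (x : K) (P : FunFld.Place k K), P.deg = 1 ∧ P.ord x = -1 ∧
        ∀ Q : FunFld.Place k K, Q ≠ P → 0 ≤ Q.ord x) ↔
      ∃ x : K, IntermediateField.adjoin k ({x} : Set K) = ⊤ := by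
  constructor
  · rintro ⟨x, P, hP, hx, hQ⟩
    have hx0 : x ≠ 0 := by rintro rfl; simp at hx
    have hxt := transcendental_of_not_mem hK (not_mem_range_of_val hx0 (P := P) (by omega))
    refine ⟨x, (adjoin_eq_top_iff hK hxt).mpr ?_⟩
    have : poles (k := k) x = Finsupp.single P 1 := by
      ext Q; rw [poles_apply hK]
      rcases eq_or_ne Q P with rfl | h
      · simp [hx]
      · rw [Finsupp.single_eq_of_ne h]; have := hQ Q h; omega
    rw [this, deg_single, hP]; rfl
  · rintro ⟨x, hx⟩
    obtain ⟨P, hP, ho, hQ, -⟩ := genus_zero_of_adjoin_eq_top hK hx (transcendental_of_adjoin_eq_top hK hx)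
    exact ⟨x, P, hP, ho, hQ⟩

end Groth.Agent.S10995
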