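import Groth.Statements.S10996
import Groth.Agent.FF.Rational

set_option autoImplicit false
open FunFld

namespace Groth.Agent.S10996

open Groth.Agent.FF

/-- In a function field of one variable of positive genus, distinct places of degree one are not
linearly equivalent. -/
theorem result (k K : Type*) [Field k] [Field K] [Algebra k K]
    (hK : FunFld.IsFunctionField k K) (hg : 0 < FunFld.genus k K) (P P' : FunFld.Place k K) (hP : P.deg = 1) (hP' : P'.deg = 1)
    (x : K) (hx : x ≠ 0) (h : Finsupp.single P 1 - Finsupp.single P' 1 = FunFld.div k x) : P = P' := by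
  by_contra hne
  have hdiv : ∀ Q, Q.ord x⁻¹ = -((Finsupp.single P 1 - Finsupp.single P' 1 : FunFld.Divisor k K) Q) := fun Q => by
    rw [h, div_apply hK, ord_inv]
  have hmem : x⁻¹ ∈ FunFld.L (Finsupp.single P 1) := by
    rw [mem_L_iff hK (inv_ne_zero hx)]; intro Q
    simp only [Finsupp.coe_zero, Pi.zero_apply, Finsupp.add_apply, div_apply hK, hdiv]
    simp only [Finsupp.sub_apply]
    have : (0:ℤ) ≤ Finsupp.single P' (1:ℤ) Q := (Finsupp.single_nonneg.mpr zero_le_one : (0 : FunFld.Divisor k K) ≤ Finsupp.single P' 1) Q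
    simp at this ⊢; omega
  have hone : (1 : K) ∈ FunFld.L (Finsupp.single P 1) :=
    L_mono (Finsupp.single_nonneg.mpr zero_le_one) (by rw [L_zero_eq hK]; exact Submodule.mem_span_singleton_self _)
  have hnc : x⁻¹ ∉ Set.range (algebraMap k K) := not_mem_range_of_val (inv_ne_zero hx) (P := P)
    (by rw [hdiv]; simp [Finsupp.single_eq_of_ne hne])
  have h2 : 2 ≤ FunFld.ell (Finsupp.single P 1) := by
    have := finiteDimensional_L hK (Finsupp.single P 1)
    have li : LinearIndependent k ![(⟨1, hone⟩ : FunFld.L (Finsupp.single P 1)), ⟨x⁻¹, hmem⟩] := by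
      refine LinearIndependent.pair_iff.mpr fun s t hst => ?_
      have := congrArg Subtype.val hst
      simp only [Submodule.coe_add, SetLike.val_smul, Algebra.smul_def, mul_one, ZeroMemClass.coe_zero] at this
      rcases eq_or_ne t 0 with rfl | ht
      · exact ⟨by simpa using this, rfl⟩
      · exact absurd ⟨-s / t, by
          rw [map_div₀, map_neg, div_eq_iff ((map_ne_zero _).mpr ht)]; linear_combination -this⟩ hnc
    simpa [FunFld.ell] using li.fintype_card_le_finrank
  have hg0 : (FunFld.genus k K : ℤ) ≤ 0 := genus_le_zero_of_two_le hK hP h2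
  omega

end Groth.Agent.S10996
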