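import Groth.Statements.S10997
import Groth.Agent.FF.Gaps

set_option autoImplicit false
open FunFld

namespace Groth.Agent.S10997

open Groth.Agent.FF

/-- Given distinct places `P∞, P_1, …, P_n` of a function field of one variable, elements `x_i` and
integers `m_i`, some `x ∈ K` has `ord_{P_i}(x - x_i) = m_i` for all `i` and is integral outside
`{P∞, P_1, …, P_n}`. -/
theorem result (k K : Type*) [Field k] [Field K] [Algebra k K]
    (hK : FunFld.IsFunctionField k K) (Pinf : FunFld.Place k K) (n : ℕ) (P : Fin n → FunFld.Place k K) (hP : Function.Injective P)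
    (hinf : Pinf ∉ Set.range P) (x : Fin n → K) (m : Fin n → ℤ) :
    ∃ y : K, (∀ i, (P i).1 (y - x i) = WithZero.exp (-(m i))) ∧
      ∀ Q : FunFld.Place k K, Q ≠ Pinf → Q ∉ Set.range P → Q.1 y ≤ 1 := by
  classical
  have ht : ∀ i, ∃ u : K, (P i).1 u = WithZero.exp (-(m i)) := fun i => (P i).2.2 _
  choose u hu using ht
  obtain ⟨y, h1, h2⟩ := strong_approximation' hK Pinf (Finset.univ.image P) (by simpa using hinf)
    (fun Q => if h : ∃ i, P i = Q then x h.choose + u h.choose else 0)
    (fun Q => if h : ∃ i, P i = Q then -(m h.choose) - 1 else 0)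
  refine ⟨y, fun i => ?_, fun Q hQ hQ' => h2 Q hQ (by simpa using hQ')⟩
  have h := h1 (P i) (by simp)
  have he : ∃ j, P j = P i := ⟨i, rfl⟩
  simp only [dif_pos he] at h
  have hi : he.choose = i := hP he.choose_spec
  rw [hi] at h
  rw [show y - x i = (y - (x i + u i)) + u i by ring]
  rw [Valuation.map_add_eq_of_lt_right _ ?_, hu i]
  rw [hu i]
  exact lt_of_le_of_lt h (WithZero.exp_lt_exp.mpr (by omega))

end Groth.Agent.S10997
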