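import Groth.Statements.S10999
import Groth.Agent.FF.Gaps
import Groth.Agent.FF.Rational
import Groth.Agent.S10996

set_option autoImplicit false
open FunFld

namespace Groth.Agent.S10999

open Groth.Agent.FF

/-- In a genus-one function field with a place `P₀` of degree one, `P ↦ P - P₀` is a bijection from the
places of degree one onto the divisor classes of degree zero. The geometric description of the group
law is not stated. -/
theorem result (k K : Type*) [Field k] [Field K] [Algebra k K]
    (hK : FunFld.IsFunctionField k K) (hg : FunFld.genus k K = 1) (P₀ : FunFld.Place k K) (hP : P₀.deg = 1)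
    (D : FunFld.Divisor k K) (hD : D.deg = 0) :
    ∃! P : FunFld.Place k K, P.deg = 1 ∧
      ∃ x : K, x ≠ 0 ∧ D = Finsupp.single P 1 - Finsupp.single P₀ 1 + FunFld.div k x := by
  have hl : 0 < FunFld.ell (D + Finsupp.single P₀ 1) := by
    have := ell_eq_of_deg_large hK (D := D + Finsupp.single P₀ 1)
      (by rw [deg_add, hD, deg_single, hP, hg]; simp)
    rw [deg_add, hD, deg_single, hP, hg] at this
    push_cast at this; omega
  obtain ⟨z, hz0, hz⟩ := exists_of_ell_pos hl
  have hdeg : FunFld.Divisor.deg (D + Finsupp.single P₀ 1 + FunFld.div k z) = 1 := by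
    rw [deg_add, deg_add, hD, deg_single, hP, deg_div_eq_zero hK]; simp
  obtain ⟨P, hP1, hPe⟩ := exists_single_of_deg_one hK ((mem_L_iff hK hz0).mp hz) hdeg
  refine ⟨P, ⟨hP1, z⁻¹, inv_ne_zero hz0, ?_⟩, ?_⟩
  · rw [div_inv hK, ← hPe]; abel
  · rintro P' ⟨hP', w, hw0, hw⟩
    by_contra hne
    refine hne (Groth.Agent.S10996.result k K hK (by omega) P' P hP' hP1 (z⁻¹ / w)
      (div_ne_zero (inv_ne_zero hz0) hw0) ?_)
    rw [div_eq_mul_inv, div_mul hK (inv_ne_zero hz0) (inv_ne_zero hw0), div_inv hK, div_inv hK, ← hPe, hw]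
    abel

end Groth.Agent.S10999
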