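import Groth.Statements.S11000
import Groth.Agent.FF.Geometric

set_option autoImplicit false
universe u v
open FunFld

namespace Groth.Agent.S11000

/-- Over a perfect ground field every function field of one variable is geometric (`k' ⊗_k K` is a field
for all finite `k'/k`). -/
theorem result (k : Type u) (K : Type v) [Field k] [Field K] [Algebra k K] [PerfectField k]
    (hK : FunFld.IsFunctionField k K) : FunFld.IsGeometric k K := by
  obtain ⟨x, hx, -, _⟩ := Groth.Agent.FF.exists_separating hK
  exact Groth.Agent.FF.isGeometric_of_separating hK hx

end Groth.Agent.S11000
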