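import Groth.Statements.S11007
import Groth.Agent.FF.Geometric

set_option autoImplicit false
universe u v
open FunFld

namespace Groth.Agent.S11007

/-- In a geometric function field of one variable of characteristic `p > 0`, `kK^p` is the only
intermediate field over which `K` is purely inseparable of degree `p`. The companion assertion about
the natural map on Kähler differentials is not stated. -/
theorem result (k : Type u) (K : Type v) [Field k] [Field K] [Algebra k K] (p : ℕ) [Fact p.Prime] [CharP K p]
    (hK : FunFld.IsFunctionField k K) (hg : FunFld.IsGeometric k K) (K₀ : IntermediateField k K) :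
    (IsPurelyInseparable K₀ K ∧ Module.finrank K₀ K = p) ↔ K₀ = IntermediateField.adjoin k (Set.range fun y : K => y ^ p) := by
  have hp : ExpChar K p := .prime (Fact.out : p.Prime)
  have hk : ∀ y : K, y ^ p ∈ IntermediateField.adjoin k (Set.range fun y : K => y ^ p) :=
    Groth.Agent.FF.pow_mem_powField p
  constructor
  · rintro ⟨hpi, hrank⟩
    have : ExpChar K₀ p := (algebraMap K₀ K).expChar (algebraMap K₀ K).injective p
    have hle : IntermediateField.adjoin k (Set.range fun y : K => y ^ p) ≤ K₀ := by
      rw [IntermediateField.adjoin_le_iff]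
      rintro _ ⟨y, rfl⟩
      have : FiniteDimensional K₀ K := Module.finite_of_finrank_pos (by rw [hrank]; exact (Fact.out : p.Prime).pos)
      obtain ⟨n, c, hn⟩ := IsPurelyInseparable.minpoly_eq_X_pow_sub_C K₀ p y
      have hdeg : (minpoly K₀ y).natDegree = p ^ n := by rw [hn, Polynomial.natDegree_X_pow_sub_C]
      have hdvd : p ^ n ∣ p := by
        rw [← hdeg, ← IntermediateField.adjoin.finrank (IsIntegral.of_finite K₀ y)]
        conv_rhs => rw [← hrank]
        exact ⟨_, (Module.finrank_mul_finrank K₀ (IntermediateField.adjoin K₀ ({y} : Set K)) K).symm⟩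
      have hev : y ^ p ^ n = (c : K) := by
        have := minpoly.aeval K₀ y
        rw [hn] at this
        simpa [sub_eq_zero] using this
      have hn1 : n ≤ 1 := (Nat.pow_dvd_pow_iff_le_right (Fact.out : p.Prime).one_lt).mp (by simpa using hdvd)
      show y ^ p ∈ K₀
      interval_cases n
      · simp only [pow_zero, pow_one] at hev; rw [hev]; exact pow_mem c.2 p
      · rw [pow_one] at hev; rw [hev]; exact c.2
    have hM := Groth.Agent.FF.finrank_powField p hK hg
    have : FiniteDimensional (IntermediateField.adjoin k (Set.range fun y : K => y ^ p)) K :=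
      Module.finite_of_finrank_pos (by rw [hM]; exact (Fact.out : p.Prime).pos)
    exact (IntermediateField.eq_of_le_of_finrank_eq' hle (by rw [hM, hrank])).symm
  · rintro rfl
    refine ⟨?_, Groth.Agent.FF.finrank_powField p hK hg⟩
    have : ExpChar (IntermediateField.adjoin k (Set.range fun y : K => y ^ p)) p :=
      (algebraMap (IntermediateField.adjoin k (Set.range fun y : K => y ^ p)) K).expChar (RingHom.injective _) p
    exact (isPurelyInseparable_iff_pow_mem _ p).mpr fun y => ⟨1, ⟨y ^ p, hk y⟩, by rw [pow_one]; rfl⟩

end Groth.Agent.S11007
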