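import Groth.Statements.S11008
import Groth.Agent.CommAlg4.PlaneGeometric
-- import your own Groth.Agent.* helpers here

set_option autoImplicit false
universe u v
open FunFld

namespace Groth.Agent.S11008

/-- `K/k` is a geometric function field of one variable iff `K = k(x, y)` where the relation ideal of
`(x, y)` in `k[X, Y]` is generated by an absolutely irreducible polynomial `f`. -/
theorem result (k : Type u) (K : Type v) [Field k] [Field K] [Algebra k K] :
    (FunFld.IsFunctionField k K ∧ FunFld.IsGeometric k K) ↔
      ∃ (x y : K) (f : MvPolynomial (Fin 2) k),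
        IntermediateField.adjoin k ({x, y} : Set K) = ⊤ ∧
        (∀ (k' : Type u) [Field k'] [Algebra k k'], FiniteDimensional k k' →
          Irreducible (MvPolynomial.map (algebraMap k k') f)) ∧
        RingHom.ker (MvPolynomial.aeval ![x, y] : MvPolynomial (Fin 2) k →ₐ[k] K) = Ideal.span {f} := by
  classical
  open Groth.Agent.CommAlg4.PlaneGeometric in
  constructor
  · rintro ⟨hK, hg⟩
    obtain ⟨x, y, f, htop, hker, hf0⟩ := exists_model hK hg
    refine ⟨x, y, f, htop, fun k' _ _ hfd => ?_, hker⟩
    haveI : IsDomain (TensorProduct k k' K) := (hg k' hfd).isDomain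
    have hp : (RingHom.ker (Φ (k := k) k' x y)).IsPrime := RingHom.ker_isPrime _
    rw [ker_Φ k' x y hker] at hp
    exact ((Ideal.span_singleton_prime (fun h => hf0 (MvPolynomial.map_injective _ (algebraMap k k').injective
      (h.trans (map_zero _).symm)))).mp hp).irreducible
  · rintro ⟨x, y, f, htop, hirr, hker⟩
    have hf : Irreducible f := by
      have := hirr k (by infer_instance)
      rwa [show MvPolynomial.map (algebraMap k k) f = f from MvPolynomial.map_id f] at this
    have hg : FunFld.IsGeometric k K := fun k' _ _ hfd =>
      haveI := hfd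
      isField_tensor htop hker k' (hirr k' hfd)
    have hf0 := hf.ne_zero
    have hdep : ∀ a b : K, (![a, b] = ![x, y] ∨ ![b, a] = ![x, y]) → ¬ AlgebraicIndependent k ![a, b] := by
      intro a b hab h
      have h' : AlgebraicIndependent k ![x, y] := by
        rcases hab with e | e
        · exact e ▸ h
        · rw [← e]
          have hs : Function.Injective (![1, 0] : Fin 2 → Fin 2) := by decide
          convert h.comp _ hs using 1
          funext i; fin_cases i <;> rfl
      exact hf0 ((algebraicIndependent_iff_injective_aeval.mp h') ((RingHom.mem_ker.mp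
        (hker.symm ▸ Ideal.mem_span_singleton_self f : f ∈ RingHom.ker _)).trans (map_zero _).symm))
    have hconst : ∀ a : K, IsAlgebraic k a → a ∈ Set.range (algebraMap k K) := fun a ha => by
      have hm := minpoly.irreducible ha.isIntegral
      haveI := Fact.mk hm
      let F := AdjoinRoot (minpoly k a)
      haveI : FiniteDimensional k F := (AdjoinRoot.powerBasis hm.ne_zero).finite
      let ι : F →ₐ[k] K := AdjoinRoot.liftAlgHom (minpoly k a) (Algebra.ofId k K) a (by
        have := minpoly.aeval k a
        rwa [Polynomial.aeval_def] at this)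
      let μ : TensorProduct k F K →ₐ[k] K := Algebra.TensorProduct.productMap ι (AlgHom.id k K)
      letI := (hg F inferInstance).toField
      have hμ : Function.Injective μ := μ.toRingHom.injective
      have he : (AdjoinRoot.root (minpoly k a) : F) ⊗ₜ[k] (1 : K) = (1 : F) ⊗ₜ[k] a := hμ (by
        simp only [μ, Algebra.TensorProduct.productMap_apply_tmul, map_one, mul_one, one_mul, AlgHom.id_apply, ι]; exact AdjoinRoot.liftAlgHom_root (i := Algebra.ofId k K) (x := a) (h := _))
      obtain ⟨b, hb⟩ : ∃ ℓ : F →ₗ[k] k, ℓ 1 = 1 := by
        obtain ⟨g, hg'⟩ := LinearMap.exists_leftInverse_of_injective (Algebra.linearMap k F)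
          (LinearMap.ker_eq_bot.mpr (algebraMap k F).injective)
        exact ⟨g, by simpa using LinearMap.congr_fun hg' 1⟩
      refine ⟨b (AdjoinRoot.root (minpoly k a)), ?_⟩
      have := congrArg (TensorProduct.lift (LinearMap.lsmul k K ∘ₗ b)) he
      simpa [hb, Algebra.algebraMap_eq_smul_one] using this
    refine ⟨⟨?_, hconst⟩, hg⟩
    rcases not_both_algebraic hf hker with hx | hy
    · exact ⟨x, hx, finrank_adjoin htop (hdep x y (Or.inl rfl)) hx⟩
    · exact ⟨y, hy, finrank_adjoin (Set.pair_comm x y ▸ htop) (hdep y x (Or.inr rfl)) hy⟩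

end Groth.Agent.S11008
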