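import Groth.Statements.S11010
import Groth.Agent.FF.GeometricSub

set_option autoImplicit false
universe u v
open FunFld

namespace Groth.Agent.S11010

/-- A finite separable extension `K'/k'` of a geometric function field of one variable `K/k` (with `k'`
the constant field of `K'`) is again geometric. (The published statement has no separability
hypothesis on `K'/K`; for `k = 𝔽_p(s,t)`, `K = k(x)` and `K' = K(y)` with `y^p = s x^p + t`, the
field `k` is algebraically closed in `K'` yet `k(s^{1/p}, t^{1/p}) ⊗_k K'` has nonzero nilpotents,
so `K'/K` is taken separable here.) -/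
theorem result (k k' : Type u) (K K' : Type v) [Field k] [Field k'] [Field K] [Field K']
    [Algebra k k'] [Algebra k K] [Algebra K K'] [Algebra k' K'] [Algebra k K']
    [IsScalarTower k k' K'] [IsScalarTower k K K'] [FiniteDimensional K K'] [Algebra.IsSeparable K K']
    (hK : FunFld.IsFunctionField k K) (hg : FunFld.IsGeometric k K)
    (hK' : FunFld.IsFunctionField k' K') : FunFld.IsGeometric k' K' := by
  obtain ⟨t, ht, -, _⟩ := Groth.Agent.FF.exists_separating_of_isGeometric hK hg
  set t' := algebraMap K K' t with ht'
  have htk : Transcendental k t' := fun h => ht ((isAlgebraic_algebraMap_iff (algebraMap K K').injective).mp h)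
  have hk' : Algebra.IsAlgebraic k k' := by
    refine ⟨fun c => ?_⟩
    by_contra hc
    obtain ⟨⟨y, hy, -⟩, -⟩ := id hK'
    have hFF := Groth.Agent.FF.isFF'_ext (K' := K') (Groth.Agent.FF.isFF'_of_isFunctionField hK)
    have hcK : Transcendental k (algebraMap k' K' c) := fun h =>
      hc ((isAlgebraic_algebraMap_iff (algebraMap k' K').injective).mp h)
    have hfd := Groth.Agent.FF.finiteDimensional_adjoin (Groth.Agent.FF.isFunctionField_consts hFF)
      (Groth.Agent.FF.transcendental_consts hcK)
    let F := IntermediateField.adjoin (Groth.Agent.FF.consts k K') ({algebraMap k' K' c} : Set K')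
    have hF : ∀ z : F, (z : K') ∈ Set.range (algebraMap k' K') := fun ⟨z, hz⟩ => by
      change z ∈ (algebraMap k' K').fieldRange
      induction hz using IntermediateField.adjoin_induction with
      | mem z hz => exact ⟨c, (Set.mem_singleton_iff.mp hz).symm⟩
      | algebraMap r =>
        have hr : IsAlgebraic k (r : K') := mem_algebraicClosure_iff.mp r.2
        exact hK'.2 _ (hr.tower_top k')
      | add a b _ _ ha hb => exact add_mem ha hb
      | inv a _ ha => exact inv_mem ha
      | mul a b _ _ ha hb => exact mul_mem ha hb
    refine hy ?_
    obtain ⟨q, hq0, hq⟩ := (Algebra.IsAlgebraic.of_finite F K').isAlgebraic y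
    choose g hg' using hF
    let G : F →+* k' :=
      { toFun := g
        map_one' := (algebraMap k' K').injective (by rw [hg', map_one]; rfl)
        map_mul' := fun a b => (algebraMap k' K').injective (by rw [hg', map_mul, hg', hg']; rfl)
        map_zero' := (algebraMap k' K').injective (by rw [hg', map_zero]; rfl)
        map_add' := fun a b => (algebraMap k' K').injective (by rw [hg', map_add, hg', hg']; rfl) }
    refine ⟨q.map G, Polynomial.map_ne_zero hq0, ?_⟩
    rw [Polynomial.aeval_def, Polynomial.eval₂_map]
    rw [Polynomial.aeval_def] at hq
    rw [← hq]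
    congr 1
    exact RingHom.ext hg'
  have htk' : Transcendental k' t' := fun h => htk (h.restrictScalars k)
  have : Algebra.IsSeparable (IntermediateField.adjoin k ({t} : Set K)) K' :=
    Algebra.IsSeparable.trans _ K K'
  have hmem : ∀ z : IntermediateField.adjoin k ({t} : Set K),
      algebraMap (IntermediateField.adjoin k ({t} : Set K)) K' z ∈ IntermediateField.adjoin k' ({t'} : Set K') := by
    rintro ⟨z, hz⟩
    show algebraMap K K' z ∈ _
    induction hz using IntermediateField.adjoin_induction with
    | mem z hz => exact IntermediateField.subset_adjoin _ _ (by rw [Set.mem_singleton_iff.mp hz]; rfl)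
    | algebraMap r =>
      rw [← IsScalarTower.algebraMap_apply, IsScalarTower.algebraMap_apply k k' K']
      exact IntermediateField.algebraMap_mem _ _
    | add a b _ _ ha hb => rw [map_add]; exact add_mem ha hb
    | inv a _ ha => rw [map_inv₀]; exact inv_mem ha
    | mul a b _ _ ha hb => rw [map_mul]; exact mul_mem ha hb
  let f : IntermediateField.adjoin k ({t} : Set K) →+* IntermediateField.adjoin k' ({t'} : Set K') :=
    (algebraMap (IntermediateField.adjoin k ({t} : Set K)) K').codRestrict _ hmem
  let := f.toAlgebra
  have : IsScalarTower (IntermediateField.adjoin k ({t} : Set K)) (IntermediateField.adjoin k' ({t'} : Set K')) K' :=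
    IsScalarTower.of_algebraMap_eq fun _ => rfl
  have : Algebra.IsSeparable (IntermediateField.adjoin k' ({t'} : Set K')) K' :=
    Algebra.isSeparable_tower_top_of_isSeparable (IntermediateField.adjoin k ({t} : Set K)) _ K'
  exact Groth.Agent.FF.isGeometric_of_separating hK' htk'

end Groth.Agent.S11010
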