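import Groth.Statements.S11017
import Groth.Agent.FF.RiemannRoch

set_option autoImplicit false
open FunFld

namespace Groth.Agent.S11017

open Groth.Agent.FF

/-- For a Weil differential `ω` with divisor `C`, `ord_P [ω] ≥ e` iff `ω` kills every repartition
concentrated at `P` with `P`-component of order at least `-e`. -/
theorem result (k K : Type*) [Field k] [Field K] [Algebra k K] (ω : Module.Dual k (FunFld.adele k K)) (C : FunFld.Divisor k K) (hω : FunFld.IsDivOf ω C)
    (P : FunFld.Place k K) (e : ℤ) :
    e ≤ C P ↔ ∀ (a : FunFld.Place k K → K) (ha : a ∈ FunFld.adele k K),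
      (∀ Q, Q ≠ P → a Q = 0) → P.1 (a P) ≤ WithZero.exp e → ω ⟨a, ha⟩ = 0 := by
  classical
  have hC : ω ∈ FunFld.WD C := (hω C).mpr le_rfl
  constructor
  · intro he a ha h0 hP
    refine mem_WD.mp hC ⟨a, ha⟩ (Submodule.mem_sup_left fun Q => ?_)
    rcases eq_or_ne Q P with rfl | hQ
    · exact hP.trans (WithZero.exp_le_exp.mpr he)
    · simp [h0 Q hQ]
  · intro H
    by_contra hlt
    push Not at hlt
    let E : FunFld.Divisor k K := C + Finsupp.single P (e - C P)
    have hE : ω ∈ FunFld.WD E := by
      rw [mem_WD]
      intro a ha
      obtain ⟨u, hu, v, hv, huv⟩ := Submodule.mem_sup.mp ha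
      have hu' : u ∈ FunFld.adele k K := AD_le_adele E hu
      have huP : Function.update (0 : FunFld.Place k K → K) P (u P) ∈ FunFld.adele k K :=
        AD_le_adele E fun Q => by
          rcases eq_or_ne Q P with rfl | hQ
          · rw [Function.update_self]; exact hu Q
          · simp [Function.update_of_ne hQ]
      have hrest := (FunFld.adele k K).sub_mem a.2 huP
      rw [show a = (⟨_, huP⟩ : FunFld.adele k K) + ⟨_, hrest⟩ from Subtype.ext (by simp), map_add]
      rw [H _ huP (fun Q hQ => Function.update_of_ne hQ _ _) (by
        rw [Function.update_self]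
        have := hu P
        simpa [E] using this), zero_add]
      refine mem_WD.mp hC _ ?_
      change (a : FunFld.Place k K → K) - Function.update (0 : FunFld.Place k K → K) P (u P) ∈ _
      rw [← huv, show u + v - Function.update (0 : FunFld.Place k K → K) P (u P) =
        (u - Function.update (0 : FunFld.Place k K → K) P (u P)) + v by abel]
      refine Submodule.add_mem_sup (fun Q => ?_) hv
      rcases eq_or_ne Q P with rfl | hQ
      · simp
      · rw [Pi.sub_apply, Function.update_of_ne hQ, Pi.zero_apply, sub_zero]
        have := hu Q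
        simpa [E, Finsupp.single_eq_of_ne hQ] using this
    have := (hω E).mp hE P
    simp [E] at this
    omega

end Groth.Agent.S11017
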