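import Groth.Statements.S11019
import Groth.Agent.FF.Quadratic

set_option autoImplicit false
open FunFld

namespace Groth.Agent.S11019

open WithZero Groth.Agent.FF


/-- For `char k ≠ 2` and `K = k(x, y)` with `x` transcendental and `y² = f(x)`, `f` squarefree of degree
`≥ 1`: the field `k` is algebraically closed in `K` (whatever in `K` is algebraic over `k` lies in
`k`), and `K/k` is a function field of one variable. -/
theorem result (k K : Type*) [Field k] [Field K] [Algebra k K] (h2 : ringChar k ≠ 2) (x y : K) (hx : Transcendental k x)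
    (hxy : IntermediateField.adjoin k ({x, y} : Set K) = ⊤)
    (f : Polynomial k) (hf : Squarefree f) (hd : 1 ≤ f.natDegree)
    (heq : y ^ 2 = Polynomial.aeval x f) : FunFld.IsFunctionField k K := by
  set F := IntermediateField.adjoin k ({x} : Set K)
  let e : RatFunc k ≃ₐ[k] F := RatFunc.algEquivOfTranscendental x hx
  have he : ∀ p : Polynomial k, (e (algebraMap (Polynomial k) (RatFunc k) p) : K) = Polynomial.aeval x p := fun p => by
    rw [RatFunc.algEquivOfTranscendental_algebraMap]; simp
  have hyF : y ∉ F := fun hy => not_square hf hd (e.symm ⟨y, hy⟩) (by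
    apply e.injective
    rw [map_pow, AlgEquiv.apply_symm_apply]
    exact Subtype.ext (heq.trans (he f).symm))
  have hint : IsIntegral F y := ⟨Polynomial.X ^ 2 - Polynomial.C (e (algebraMap _ _ f)),
    Polynomial.monic_X_pow_sub_C _ two_ne_zero, by
    rw [Polynomial.eval₂_sub, Polynomial.eval₂_pow, Polynomial.eval₂_X, Polynomial.eval₂_C, heq]
    exact sub_eq_zero.mpr (he f).symm⟩
  have htop : IntermediateField.adjoin F ({y} : Set K) = ⊤ := by
    apply IntermediateField.restrictScalars_injective k
    rw [IntermediateField.adjoin_adjoin_left, IntermediateField.restrictScalars_top, Set.singleton_union, hxy]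
  have hfd : FiniteDimensional F K := by
    have := IntermediateField.adjoin.finiteDimensional hint
    rw [htop] at this
    exact Module.Finite.equiv IntermediateField.topEquiv.toLinearEquiv
  have hclosed : ∀ a : F, IsAlgebraic k (a : K) → ∃ c : k, algebraMap k K c = a := fun a ha => by
    have ha' : IsAlgebraic k a := (isAlgebraic_algebraMap_iff (algebraMap F K).injective).mp ha
    obtain ⟨c, hc⟩ := isFunctionField_ratFunc.2 (e.symm a) (ha'.algHom e.symm.toAlgHom)
    refine ⟨c, ?_⟩
    have := congrArg (fun r => (e r : K)) hc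
    simp only [AlgEquiv.commutes, AlgEquiv.apply_symm_apply] at this
    exact this
  refine ⟨⟨x, hx, hfd⟩, fun z hz => ?_⟩
  by_cases hzF : z ∈ F
  · obtain ⟨c, hc⟩ := hclosed ⟨z, hzF⟩ hz
    exact ⟨c, hc⟩
  exfalso
  have hdeg2 : Module.finrank F K = 2 := by
    have h1 : (minpoly F y).natDegree ≤ 2 := by
      have := Polynomial.natDegree_le_of_dvd (minpoly.dvd F y (p := Polynomial.X ^ 2 - Polynomial.C (e (algebraMap _ _ f)))
        (by simp only [map_sub, map_pow, Polynomial.aeval_X, Polynomial.aeval_C, heq]; exact sub_eq_zero.mpr (he f).symm))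
        (Polynomial.X_pow_sub_C_ne_zero two_pos _)
      simpa [Polynomial.natDegree_X_pow_sub_C] using this
    have h2' : (minpoly F y).natDegree ≠ 1 := fun h => by
      obtain ⟨r, hr⟩ := minpoly.natDegree_eq_one_iff.mp h
      exact hyF (hr ▸ r.2)
    have h3 := minpoly.natDegree_pos hint
    rw [← IntermediateField.finrank_top', ← htop, IntermediateField.adjoin.finrank hint]
    omega
  obtain ⟨a, b, hab⟩ := exists_decomp hdeg2 (z := y) (fun ⟨r, hr⟩ => hyF (hr ▸ r.2)) z
  have hb : b ≠ 0 := fun h => hzF (by rw [hab, h, map_zero, zero_mul, add_zero]; exact a.2)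
  set g : Polynomial F := Polynomial.X ^ 2 + (Polynomial.C (-2 * a) * Polynomial.X + Polynomial.C (a ^ 2 - b ^ 2 * e (algebraMap _ _ f))) with hg
  have hgdeg : (Polynomial.C (-2 * a) * Polynomial.X + Polynomial.C (a ^ 2 - b ^ 2 * e (algebraMap _ _ f))).degree < 2 :=
    lt_of_le_of_lt Polynomial.degree_linear_le (by norm_num)
  have hgm : g.Monic := Polynomial.monic_X_pow_add hgdeg
  have hgz : Polynomial.aeval z g = 0 := by
    rw [hg, hab]
    simp only [map_add, map_mul, map_pow, Polynomial.aeval_X, Polynomial.aeval_C, map_sub, map_neg, map_ofNat]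
    have hfe : algebraMap F K (e (algebraMap _ _ f)) = y ^ 2 := (he f).trans heq.symm
    rw [hfe]; ring
  have hzint : IsIntegral F z := ⟨g, hgm, hgz⟩
  have hmin : minpoly F z = g := by
    refine (Polynomial.eq_of_monic_of_dvd_of_natDegree_le (minpoly.monic hzint) hgm (minpoly.dvd F z hgz) ?_).symm
    have h1 := minpoly.natDegree_pos hzint
    have h2' : (minpoly F z).natDegree ≠ 1 := fun h => by
      obtain ⟨r, hr⟩ := minpoly.natDegree_eq_one_iff.mp h
      exact hzF (hr ▸ r.2)
    have h3 : g.natDegree ≤ 2 := by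
      rw [Polynomial.natDegree_le_iff_degree_le, hg]
      exact (Polynomial.degree_add_le _ _).trans (max_le (Polynomial.degree_X_pow_le 2) hgdeg.le)
    omega
  have hcoef : ∀ i, ∃ c : k, algebraMap k F c = g.coeff i := fun i => by
    have hd := minpoly.dvd_map_of_isScalarTower k F z
    rw [hmin] at hd
    have h := (Polynomial.lifts_iff_coeff_lifts _).mp
      (integralClosure.mem_lifts_of_monic_of_dvd_map F (minpoly.monic hz.isIntegral) hgm hd) i
    obtain ⟨r, hr⟩ := h
    obtain ⟨c, hc⟩ := hclosed (g.coeff i) (by rw [← hr]; exact ((r.2 : IsIntegral k (r : F)).isAlgebraic.algebraMap))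
    exact ⟨c, Subtype.ext hc⟩
  obtain ⟨c0, hc0⟩ := hcoef 0
  obtain ⟨c1, hc1⟩ := hcoef 1
  have hg0 : g.coeff 0 = a ^ 2 - b ^ 2 * e (algebraMap _ _ f) := by simp [hg, Polynomial.coeff_X_pow, -map_sub, -map_mul, -map_pow, -map_neg]
  have hg1 : g.coeff 1 = -2 * a := by simp [hg, Polynomial.coeff_X_pow, Polynomial.coeff_C, -map_sub, -map_mul, -map_pow, -map_neg]
  rw [hg0] at hc0
  rw [hg1] at hc1
  have h2F : (2 : k) ≠ 0 := fun h => h2 (CharP.ringChar_of_prime_eq_zero Nat.prime_two (by exact_mod_cast h))
  have h2F' : (2 : F) ≠ 0 := by rw [← map_ofNat (algebraMap k F) 2]; exact (map_ne_zero _).mpr h2F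
  have ha : algebraMap k F (-c1 / 2) = a := by rw [map_div₀, map_neg, hc1, map_ofNat]; field_simp
  set c := (-c1 / 2) ^ 2 - c0 with hc
  have hcb : e (algebraMap _ _ f) * b ^ 2 = algebraMap k F c := by
    rw [hc, map_sub, map_pow, ha, hc0]; ring
  have hfne : e (algebraMap (Polynomial k) (RatFunc k) f) ≠ 0 := (map_ne_zero_iff _ e.injective).mpr (ι_ne_zero hf.ne_zero)
  have hcne : c ≠ 0 := fun h => mul_ne_zero hfne (pow_ne_zero 2 hb) (by rw [hcb, h, map_zero])
  refine squarefree_mul_sq_ne_const hf hd hcne (e.symm b) (e.injective ?_)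
  rw [map_mul, map_pow, AlgEquiv.apply_symm_apply, AlgEquiv.commutes, hcb]

end Groth.Agent.S11019
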