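import Groth.Statements.S11026
import Groth.Agent.FF.GeometricExt

set_option autoImplicit false
universe u v
open FunFld

namespace Groth.Agent.S11026

/-- A weakly separable finite extension `K'/k'` of a geometric function field `K/k` (the map `Ω_{K/k} →
Ω_{K'/k'}` injective) is separable over the compositum `k'K`. -/
theorem result (k k' : Type u) (K K' : Type v) [Field k] [Field k'] [Field K] [Field K']
    [Algebra k k'] [Algebra k K] [Algebra K K'] [Algebra k' K'] [Algebra k K']
    [IsScalarTower k k' K'] [IsScalarTower k K K'] [FiniteDimensional K K']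
    (hK : FunFld.IsFunctionField k K) (hg : FunFld.IsGeometric k K)
    (hK' : FunFld.IsFunctionField k' K') (hg' : FunFld.IsGeometric k' K')
    (hw : Function.Injective (KaehlerDifferential.map k k' K K')) :
    Algebra.IsSeparable (IntermediateField.adjoin K (Set.range (algebraMap k' K'))) K' := by
  obtain ⟨t, ht, -, _⟩ := Groth.Agent.FF.exists_separating_of_isGeometric hK hg
  have hne : KaehlerDifferential.D k' K' (algebraMap K K' t) ≠ 0 := fun h0 =>
    (Groth.Agent.FF.D_separating hK (t := t)).1 (hw (by rw [KaehlerDifferential.map_D, map_zero, h0]))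
  have := (Groth.Agent.FF.isSeparable_iff_D_ne_zero hK' hg' (algebraMap K K' t)).mpr hne
  set L := IntermediateField.adjoin K (Set.range (algebraMap k' K'))
  have hmem : ∀ z : IntermediateField.adjoin k' ({algebraMap K K' t} : Set K'), (z : K') ∈ L := by
    rintro ⟨z, hz⟩
    show z ∈ L
    induction hz using IntermediateField.adjoin_induction with
    | mem z hz => rw [Set.mem_singleton_iff.mp hz]; exact IntermediateField.algebraMap_mem _ _
    | algebraMap r => exact IntermediateField.subset_adjoin _ _ ⟨r, rfl⟩
    | add a b _ _ ha hb => exact add_mem ha hb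
    | inv a _ ha => exact inv_mem ha
    | mul a b _ _ ha hb => exact mul_mem ha hb
  let f : IntermediateField.adjoin k' ({algebraMap K K' t} : Set K') →+* L :=
    (algebraMap _ K').codRestrict L hmem
  let := f.toAlgebra
  have : IsScalarTower (IntermediateField.adjoin k' ({algebraMap K K' t} : Set K')) L K' :=
    IsScalarTower.of_algebraMap_eq fun _ => rfl
  exact Algebra.isSeparable_tower_top_of_isSeparable (IntermediateField.adjoin k' ({algebraMap K K' t} : Set K')) _ K'

end Groth.Agent.S11026
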