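import Groth.Statements.S11028
import Groth.Agent.CommAlg4.ASchar2
-- import your own Groth.Agent.* helpers here

set_option autoImplicit false
open FunFld

namespace Groth.Agent.S11028

/-- For `k` perfect of characteristic `2` and `K = k(x, y)` with `y² + y = f(x)`, all poles of `f` of
odd order `2d_i - 1` at places `p_i` of `k(x)`, the genus of `K` is `-1 + ∑ d_i deg p_i`. -/
theorem result (k K : Type*) [Field k] [Field K] [PerfectField k] (h2 : ringChar k = 2) [Algebra k K]
    [Algebra (RatFunc k) K] [IsScalarTower k (RatFunc k) K] (hK : FunFld.IsFunctionField k K)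
    (hdeg : Module.finrank (RatFunc k) K = 2) (y : K) (hy : y ∉ Set.range (algebraMap (RatFunc k) K))
    (f : RatFunc k) (heq : y ^ 2 + y = algebraMap (RatFunc k) K f)
    (hodd : ∀ P : FunFld.Place k (RatFunc k), FunFld.div k f P < 0 → Odd (FunFld.div k f P)) :
    (FunFld.genus k K : ℤ) = -1 + ∑ P ∈ (FunFld.div k f).support with FunFld.div k f P < 0,
      (1 - FunFld.div k f P) / 2 * (P.deg : ℤ) := by
  classical
  have hR := Groth.Agent.FF.isFunctionField_ratFunc (k := k)
  have hd : Groth.Agent.CommAlg4.ASchar2.Data k K y f := ⟨h2, hdeg, hy, heq, fun p hp => by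
    rw [← Groth.Agent.FF.div_apply hR] at hp ⊢
    exact hodd p hp⟩
  have hW : (Groth.Agent.CommAlg4.ASchar2.wDiv f).deg = ∑ P ∈ (FunFld.div k f).support with FunFld.div k f P < 0,
      (1 - FunFld.div k f P) / 2 * (P.deg : ℤ) := by
    rw [Finset.sum_filter]
    show Finsupp.sum _ _ = _
    rw [Finsupp.sum_of_support_subset _ (s := (FunFld.div k f).support) (fun p hp => ?_) _ (fun _ _ => zero_mul _)]
    · refine Finset.sum_congr rfl fun p _ => ?_
      rw [Groth.Agent.CommAlg4.ASchar2.wDiv_apply, Groth.Agent.CommAlg4.ASchar2.wt, Groth.Agent.FF.div_apply hR]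
      split_ifs with h
      · rfl
      · exact zero_mul _
    · rw [Finsupp.mem_support_iff] at hp ⊢
      intro h0
      rw [Groth.Agent.FF.div_apply hR] at h0
      exact hp (by rw [Groth.Agent.CommAlg4.ASchar2.wDiv_apply, Groth.Agent.CommAlg4.ASchar2.wt, if_neg (by omega)])
  rw [hd.genus_eq hK, hW]
  ring

end Groth.Agent.S11028
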