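import Groth.Statements.S11029
import Groth.Agent.FF.Galois

set_option autoImplicit false
open FunFld

namespace Groth.Agent.S11029

open Groth.Agent.FF

/-- For an intermediate field `E` of a finite Galois extension `K'/K` of a geometric function field of
one variable and a place `Q` of `K'`, `e(Q ∩ E | Q ∩ K) = 1` iff `E` lies in the inertia field `K₁`
of `Q`. (Residue field of `Q` assumed separable over `k`; the total ramification of `K'/K₁` is not
stated.) -/
theorem result (k K K' : Type*) [Field k] [Field K] [Field K'] [Algebra k K] [Algebra K K'] [Algebra k K']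
    [IsScalarTower k K K'] [FiniteDimensional K K'] (hK : FunFld.IsFunctionField k K) (hg : FunFld.IsGeometric k K) [IsGalois K K'] (Q : FunFld.Place k K') [Algebra.IsSeparable k (IsLocalRing.ResidueField Q.O)]
    (E : IntermediateField K K') :
    Set.range (Q.1.comap (algebraMap E K')) = Set.range (Q.1.comap (algebraMap K K')) ↔
      E ≤ IntermediateField.fixedField
        (((Q.O).inertiaSubgroup K).map ((Q.O).decompositionSubgroup K).subtype) := by
  obtain ⟨P, e, -, h⟩ := exists_isOverWith hK.1 Q
  have : IsScalarTower k E K' := IsScalarTower.of_algebraMap_eq fun c => rfl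
  obtain ⟨QE, e', -, hE⟩ := exists_isOverWith (K := E) (isFF'_ext hK.1) Q
  obtain ⟨-, hiff⟩ := ramIdx_tower_iff hK.1 h E hE
  rw [← hiff, Set.ext_iff]
  simp only [mem_range_comap_iff hE, mem_range_comap_iff h]
  constructor
  · intro hall
    have h1 := (hall (WithZero.exp (e' : ℤ))).mp (Or.inr ⟨1, by rw [mul_one]⟩)
    have h2 := (hall (WithZero.exp (e : ℤ))).mpr (Or.inr ⟨1, by rw [mul_one]⟩)
    rcases h1 with h1 | ⟨n, h1⟩
    · exact absurd h1 WithZero.exp_ne_zero
    rcases h2 with h2 | ⟨m, h2⟩
    · exact absurd h2 WithZero.exp_ne_zero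
    rw [WithZero.exp_inj] at h1 h2
    have a : (e : ℤ) ∣ e' := ⟨n, h1⟩
    have b : (e' : ℤ) ∣ e := ⟨m, h2⟩
    exact Nat.dvd_antisymm (Int.natCast_dvd_natCast.mp b) (Int.natCast_dvd_natCast.mp a)
  · rintro rfl v; rfl

end Groth.Agent.S11029
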