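import Groth.Statements.S1103
import Groth.Agent.DQCoh.PerfApprox
import Groth.Agent.Dual22Lib.CompactPerf
-- import your own Groth.Agent.* helpers here

set_option autoImplicit false
universe u
open CategoryTheory CategoryTheory.Limits AlgebraicGeometry
attribute [local instance] HasDerivedCategory.standard
open Perf

namespace Groth.Agent.S1103

/-- Approximation by perfect complexes: let X be a quasi-compact and quasi-separated scheme. For every
closed subset T ⊆ X with quasi-compact complement there is an integer r such that for every m ∈ ℤ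
and every E ∈ D(O_X) with quasi-coherent cohomology sheaves which is (m − r)-pseudo-coherent and
whose cohomology sheaves Hⁱ(E) for i ≥ m − r are supported on T, there exist a perfect object P of
D(O_X) with all cohomology sheaves supported on T and a morphism α : P → E inducing isomorphisms
Hⁱ(P) → Hⁱ(E) for i > m and an epimorphism Hᵐ(P) → Hᵐ(E). -/
theorem result (X : Scheme.{u}) [CompactSpace ↥X] [QuasiSeparatedSpace ↥X]
    (T : Set X) (hT : IsClosed T) (hTc : IsCompact Tᶜ) :
    ∃ r : ℤ, ∀ (m : ℤ) (E : DCoh.D X), DCoh.IsQCohD E → DCoh.IsPseudoCoherentD (m - r) E →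
      (∀ i : ℤ, m - r ≤ i → CohB1.support (DCoh.HD E i) ⊆ T) →
      ∃ (P : DCoh.D X) (α : P ⟶ E), DCoh.IsPerfect P ∧ (∀ i : ℤ, CohB1.support (DCoh.HD P i) ⊆ T) ∧
        (∀ i : ℤ, m < i → IsIso ((DerivedCategory.homologyFunctor X.Modules i).map α)) ∧
        Epi ((DerivedCategory.homologyFunctor X.Modules m).map α) := by
    classical
    let O : X.Opens := ⟨Tᶜ, hT.isOpen_compl⟩
    obtain ⟨r, hr⟩ := Groth.Agent.DQCoh.PerfApprox.full_of_top (Groth.Agent.DQCoh.PerfApprox.top (X := X)) O hTc
    refine ⟨r, fun m E hE hp hs => ?_⟩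
    obtain ⟨P, α, hP, hk, hα⟩ := hr m E hE hp (fun i hi x hx => by
      by_contra hn
      exact hx (hs i (by omega) hn))
    refine ⟨P, α, hP, fun i => ?_, hα.1, hα.2⟩
    have := (Groth.Agent.Dual22Lib.CompactPerf.killed_iff_support O P).1 hk i
    exact this.trans (by simp [O])

end Groth.Agent.S1103

#print axioms Groth.Agent.S1103.result
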