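import Groth.Statements.S11031
import Groth.Agent.FF.RiemannRoch

set_option autoImplicit false
open FunFld

namespace Groth.Agent.S11031

open Groth.Agent.FF

/-- An effective divisor `D` of degree `< g` on a function field of one variable of genus `g` is
special: some nonzero Weil differential vanishes on `A(D) + K`. (The published statement is phrased
with differential forms `Ω_K(D)`, identified with `W_K(D)` by duality; the Weil-differential form is
stated.) -/
theorem result (k K : Type*) [Field k] [Field K] [Algebra k K]
    (hK : FunFld.IsFunctionField k K) (D : FunFld.Divisor k K) (hD : 0 ≤ D) (hdeg : D.deg < FunFld.genus k K) :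
    ∃ ω : Module.Dual k (FunFld.adele k K), ω ≠ 0 ∧ ω ∈ FunFld.WD D := by
  obtain ⟨hf, hdim⟩ := finrank_WD' hK D
  have h := ell_le_deg_add_one hK hD
  have h1 : 0 ≤ FunFld.ell D := Nat.zero_le _
  have hone : 0 < FunFld.ell D := ell_pos_of_mem hK one_ne_zero
    (L_mono hD (by rw [L_zero_eq hK]; exact Submodule.mem_span_singleton_self _))
  simp only [defect] at hdim
  have : Nontrivial (FunFld.WD D) := Module.nontrivial_of_finrank_pos (R := k) (by omega)
  obtain ⟨ω, hω⟩ := exists_ne (0 : FunFld.WD D)
  exact ⟨ω.1, fun e => hω (Subtype.ext e), ω.2⟩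

end Groth.Agent.S11031
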