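import Groth.Statements.S11034
import Groth.Agent.FF.Quadratic

set_option autoImplicit false
open FunFld

namespace Groth.Agent.S11034

open WithZero Groth.Agent.FF


/-- For `char k ≠ 2` and `K = k(x, y)`, `y² = f(x)` with `f` squarefree, each irreducible factor `p` of
`f` has a unique place `P` of `K` above it, with `e(P|p) = 2`, `f(P|p) = 1` and `deg P = deg p`. The
zero divisor of `y` and the behaviour above the infinite place of `k(x)` are not stated. -/
theorem result (k K : Type*) [Field k] [Field K] (h2 : ringChar k ≠ 2) [Algebra k K]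
    [Algebra (RatFunc k) K] [IsScalarTower k (RatFunc k) K]
    (hdeg : Module.finrank (RatFunc k) K = 2) (y : K) (f : Polynomial k) (hf : Squarefree f)
    (hd : 1 ≤ f.natDegree)
    (heq : y ^ 2 = algebraMap (RatFunc k) K (algebraMap (Polynomial k) (RatFunc k) f))
    (p : Polynomial k) (hp : Irreducible p) (hpf : p ∣ f)
    (P₀ : FunFld.Place k (RatFunc k)) (hP₀ : P₀.1 (algebraMap (Polynomial k) (RatFunc k) p) < 1) :
    (∃! P : FunFld.Place k K, FunFld.IsOver P P₀) ∧
    ∀ P : FunFld.Place k K, FunFld.IsOver P P₀ → FunFld.IsOverWith P P₀ 2 ∧ P.deg = P₀.deg := by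
  have : FiniteDimensional (RatFunc k) K := Module.finite_of_finrank_pos (by omega)
  have hX0 : (RatFunc.X : RatFunc k) ≠ 0 := RatFunc.X_ne_zero
  have hX : P₀.1 (RatFunc.X : RatFunc k) ≤ 1 := by
    by_contra hc
    have h1 := (infinite_place P₀ hc).2 p hp.ne_zero
    have h2' := (val_lt_one_iff P₀ (ι_ne_zero hp.ne_zero)).mp hP₀
    omega
  have hord : P₀.ord (algebraMap (Polynomial k) (RatFunc k) f) = 1 := by
    obtain ⟨g, rfl⟩ := hpf
    have hg0 : g ≠ 0 := right_ne_zero_of_mul hf.ne_zero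
    have h1 := (ord_squarefree_le_one P₀ hX hf).2
    have h2' := (val_lt_one_iff P₀ (ι_ne_zero hp.ne_zero)).mp hP₀
    have h3 := (val_le_one_iff P₀ (ι_ne_zero hg0)).mp (val_poly_le_one P₀ hX g)
    rw [map_mul, ord_mul P₀ (ι_ne_zero hp.ne_zero) (ι_ne_zero hg0)] at h1 ⊢
    omega
  refine ramified_of_odd isFF'_ratFunc hdeg fun Q e he => ?_
  have h1 := ow_ord_eq he (algebraMap (Polynomial k) (RatFunc k) f)
  rw [← heq, ord_pow', hord, mul_one] at h1
  exact ⟨(Q.ord y).toNat, by omega⟩

end Groth.Agent.S11034
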