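import Groth.Statements.S11043
import Mathlib.RingTheory.Polynomial.Cyclotomic.Basic
import Mathlib.RingTheory.RootsOfUnity.Complex

set_option autoImplicit false
open FunFld

namespace Groth.Agent.S11043

/-- For positive integers `n`, `d` with `e = gcd(n, d)`, in `ℂ[t]` one has `(1 - t^{nd/e})^e = ∏_{θⁿ =
1} (1 - (θ t)^d)`, the product over the complex `n`-th roots of unity. -/
theorem result (n d : ℕ) (hn : 0 < n) (hd : 0 < d) :
    ((1 : Polynomial ℂ) - Polynomial.X ^ (n * d / Nat.gcd n d)) ^ Nat.gcd n d =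
      ∏ θ ∈ Polynomial.nthRootsFinset n (1 : ℂ),
        (1 - Polynomial.C (θ ^ d) * Polynomial.X ^ d) := by
  obtain ⟨g, hgdef⟩ : ∃ g, g = Nat.gcd n d := ⟨_, rfl⟩
  have hg : 0 < g := hgdef ▸ Nat.gcd_pos_of_pos_left d hn
  obtain ⟨m, hm⟩ : g ∣ n := hgdef ▸ Nat.gcd_dvd_left n d
  obtain ⟨e, he⟩ : g ∣ d := hgdef ▸ Nat.gcd_dvd_right n d
  have hm0 : 0 < m := Nat.pos_of_ne_zero fun h => by rw [h, mul_zero] at hm; omega
  have hdiv : n * d / g = d * m := by
    rw [hm, show g * m * d = d * m * g by ring, Nat.mul_div_cancel _ hg]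
  rw [← hgdef, hdiv, pow_mul]
  obtain ⟨ζ, hζ⟩ : ∃ ζ : ℂ, IsPrimitiveRoot ζ n := ⟨_, Complex.isPrimitiveRoot_exp n hn.ne'⟩
  have hη : IsPrimitiveRoot (ζ ^ d) m := by
    have := hζ.pow_of_dvd (p := g) hg.ne' ⟨m, hm⟩
    rw [hm, Nat.mul_div_cancel_left _ hg] at this
    have hco : Nat.Coprime e m := by
      have h1 : Nat.gcd (g * m) (g * e) = g := by rw [← hm, ← he]; exact hgdef.symm
      rw [Nat.gcd_mul_left] at h1
      have h2 : Nat.gcd m e = 1 := Nat.eq_of_mul_eq_mul_left hg (by rw [mul_one]; exact h1)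
      exact Nat.Coprime.symm h2
    rw [he, pow_mul]
    exact this.pow_of_coprime e hco
  have hroots : ∀ {l : ℕ} {z : ℂ}, IsPrimitiveRoot z l → 0 < l →
      Polynomial.nthRootsFinset l (1 : ℂ) = (Finset.range l).image (z ^ ·) := fun {l z} hz hl => by
    refine (Finset.eq_of_subset_of_card_le (fun x hx => ?_) ?_).symm
    · obtain ⟨i, -, rfl⟩ := Finset.mem_image.mp hx
      rw [Polynomial.mem_nthRootsFinset hl, ← pow_mul, mul_comm, pow_mul, hz.pow_eq_one, one_pow]
    · rw [Finset.card_image_of_injOn fun i hi j hj h => hz.pow_inj (Finset.mem_range.mp hi) (Finset.mem_range.mp hj) h,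
        Finset.card_range, hz.card_nthRootsFinset]
  rw [hroots hζ hn, Finset.prod_image fun i hi j hj h => hζ.pow_inj (Finset.mem_range.mp hi) (Finset.mem_range.mp hj) h]
  simp only [← pow_mul ζ, mul_comm _ d]
  simp only [pow_mul ζ]
  have hC := (hη.map_of_injective (f := (Polynomial.C : ℂ →+* Polynomial ℂ)) Polynomial.C_injective).pow_sub_pow_eq_prod_sub_mul
    (x := (1 : Polynomial ℂ)) (y := Polynomial.X ^ d) hm0
  rw [one_pow] at hC
  have himg : Polynomial.nthRootsFinset m (1 : Polynomial ℂ) = (Finset.range m).image fun i => Polynomial.C ((ζ ^ d) ^ i) := by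
    have hη' := hη.map_of_injective (f := (Polynomial.C : ℂ →+* Polynomial ℂ)) Polynomial.C_injective
    refine (Finset.eq_of_subset_of_card_le (fun x hx => ?_) ?_).symm
    · obtain ⟨i, -, rfl⟩ := Finset.mem_image.mp hx
      rw [Polynomial.mem_nthRootsFinset hm0, ← map_pow, ← pow_mul, mul_comm, pow_mul, hη.pow_eq_one, one_pow, map_one]
    · rw [Finset.card_image_of_injOn fun i hi j hj h =>
        hη.pow_inj (Finset.mem_range.mp hi) (Finset.mem_range.mp hj) (Polynomial.C_injective h),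
        Finset.card_range, hη'.card_nthRootsFinset]
  rw [hC, himg, Finset.prod_image fun i hi j hj h =>
    hη.pow_inj (Finset.mem_range.mp hi) (Finset.mem_range.mp hj) (Polynomial.C_injective h)]
  rw [hm]
  clear hm hdiv hgdef hg he
  induction g with
  | zero => simp
  | succ g ih =>
    rw [pow_succ, ih, add_mul, one_mul, Finset.prod_range_add]
    congr 1
    refine Finset.prod_congr rfl fun i _ => ?_
    rw [pow_add, pow_mul', hη.pow_eq_one, one_pow, one_mul]

end Groth.Agent.S11043
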