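import Groth.Statements.S11045
import Groth.Agent.FF.Gaps

set_option autoImplicit false
open FunFld

namespace Groth.Agent.S11045

open Groth.Agent.FF

/-- Over an algebraically closed constant field, if `n ≥ 1` is a gap number at the place `P` (no
function has a pole of exact order `n` at `P` and no other pole, i.e. `L(nP) = L((n-1)P)`), then the
gap numbers at `P` make up at least half of the positive integers below `n`. -/
theorem result
    (k K : Type*) [Field k] [IsAlgClosed k] [Field K] [Algebra k K]
    (hK : FunFld.IsFunctionField k K) (P : FunFld.Place k K) (n : ℕ) (hn : 1 ≤ n)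
    (hgap : FunFld.L (Finsupp.single P (n : ℤ)) = FunFld.L (Finsupp.single P ((n : ℤ) - 1))) :
    n - 1 ≤ 2 * Set.ncard {m : ℕ | 1 ≤ m ∧ m < n ∧
      FunFld.L (Finsupp.single P (m : ℤ)) = FunFld.L (Finsupp.single P ((m : ℤ) - 1))} := by
  classical
  have hn' : ¬ IsPoleNum P n := fun h => h hgap
  let s := (Finset.Icc 1 (n - 1)).filter fun m => IsPoleNum P m
  let t := (Finset.Icc 1 (n - 1)).filter fun m => ¬ IsPoleNum P m
  have h1 : s.card ≤ t.card := card_poleNum_le_card_gap P (n := n - 1) (G := n) (by omega) hn'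
    fun a h1 h2 => by omega
  have h2 : s.card + t.card = (Finset.Icc 1 (n - 1)).card := Finset.card_filter_add_card_filter_not _
  rw [Nat.card_Icc] at h2
  have h3 : t.card = Set.ncard {m : ℕ | 1 ≤ m ∧ m < n ∧
      FunFld.L (Finsupp.single P (m : ℤ)) = FunFld.L (Finsupp.single P ((m : ℤ) - 1))} := by
    rw [← Set.ncard_coe_finset]
    congr 1
    ext a
    simp only [t, Finset.coe_filter, Finset.mem_Icc, Set.mem_ofPred_eq, IsPoleNum, not_not]
    exact ⟨fun h => ⟨h.1.1, by omega, h.2⟩, fun h => ⟨⟨h.1, by omega⟩, h.2.2⟩⟩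
  omega

end Groth.Agent.S11045
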