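import Groth.Statements.S11047
import Groth.Agent.FF.FixedPts

set_option autoImplicit false
open FunFld

namespace Groth.Agent.S11047

/-- Over an algebraically closed constant field, a `k`-automorphism of a function field of one variable
of genus `g` that fixes more than `2g + 2` places is the identity. -/
theorem result
    (k K : Type*) [Field k] [IsAlgClosed k] [Field K] [Algebra k K]
    (hK : FunFld.IsFunctionField k K) (σ : K ≃ₐ[k] K)
    (h : ((2 * FunFld.genus k K + 2 : ℕ) : ℕ∞) <
      Set.encard {P : FunFld.Place k K | ∀ x : K, P.1 x < 1 → P.1 (σ x) < 1}) :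
    σ = 1 := by
  classical
  obtain ⟨T, hT, hc⟩ := Set.exists_subset_encard_eq (s := {P : FunFld.Place k K | ∀ x : K, P.1 x < 1 → P.1 (σ x) < 1})
    (k := ((2 * FunFld.genus k K + 3 : ℕ) : ℕ∞)) (Order.add_one_le_of_lt h)
  have hfin : T.Finite := Set.finite_of_encard_eq_coe hc
  rw [hfin.encard_eq_coe_toFinset_card, Nat.cast_inj] at hc
  exact Groth.Agent.FF.eq_refl_of_many_fixed hK σ hfin.toFinset
    (fun Q hQ => (Groth.Agent.FF.pullPlace_eq_iff hK σ Q).mpr (hT (hfin.mem_toFinset.mp hQ))) (by omega)

end Groth.Agent.S11047
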