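import Groth.Statements.S11048
import Groth.Agent.FF.Dichotomy

set_option autoImplicit false
open FunFld

namespace Groth.Agent.S11048

/-- Over an algebraically closed constant field of characteristic `0` or greater than `2g - 2`, a
function field of one variable of genus `g > 1` has only finitely many automorphisms over the
constants. -/
theorem result
    (k K : Type*) [Field k] [IsAlgClosed k] [Field K] [Algebra k K]
    (hK : FunFld.IsFunctionField k K) (hg : 1 < FunFld.genus k K)
    (hp : ringChar k = 0 ∨ 2 * FunFld.genus k K - 2 < ringChar k) :
    Finite (K ≃ₐ[k] K) := by
  exact Groth.Agent.FF.finite_algEquiv hK hg hp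

end Groth.Agent.S11048
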