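import Groth.Statements.S11049
import Mathlib

set_option autoImplicit false
open CAlg

namespace Groth.Agent.S11049

/-- For `k`-algebras `S ⊆ R` with `R` an integral domain and a nonzero `x ∈ S`, if `R/S` and `R/Rx` are
finite-dimensional over `k` then `dim_k R/Rx = dim_k S/Sx`. (The published statement allows `x = 0`;
then `R` is a field finite over `k` and the two sides are `dim_k R` and `dim_k S`, which differ for
`S = k ⊊ R`; the published proof multiplies by `x` as an injection, so `x ≠ 0` is assumed here.) -/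
theorem result
    (k R : Type*) [Field k] [CommRing R]
    [IsDomain R] [Algebra k R] (S : Subalgebra k R) (x : S) (hx : (x : R) ≠ 0)
    [Module.Finite k (R ⧸ Subalgebra.toSubmodule S)]
    [Module.Finite k (R ⧸ Ideal.span {(x : R)})] :
    Module.finrank k (R ⧸ Ideal.span {(x : R)}) = Module.finrank k (S ⧸ Ideal.span {x}) := by
  classical
  let m : R →ₗ[k] R := LinearMap.mulLeft k (x : R)
  have hm : Function.Injective m := fun a b h => mul_left_cancel₀ hx h
  let T := Subalgebra.toSubmodule S
  let I : Submodule k R := (Ideal.span {(x : R)}).restrictScalars k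
  let P : Submodule k R := T.map m
  have hPT : P ≤ T := by
    rintro _ ⟨s, hs, rfl⟩
    exact S.mul_mem x.2 hs
  have hPI : P ≤ I := by
    rintro _ ⟨s, _, rfl⟩
    exact Ideal.mul_mem_right _ _ (Ideal.mem_span_singleton_self _)
  haveI : Module.Finite k (R ⧸ T) := inferInstanceAs (Module.Finite k (R ⧸ Subalgebra.toSubmodule S))
  let eI : (R ⧸ I) ≃ₗ[k] (R ⧸ Ideal.span {(x : R)}) := Submodule.Quotient.restrictScalarsEquiv k (Ideal.span {(x : R)})
  haveI : Module.Finite k (R ⧸ I) := Module.Finite.equiv eI.symm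
  -- `R/S → R/xS → R/xR`
  let f : (R ⧸ T) →ₗ[k] (R ⧸ P) := T.mapQ P m (fun s hs => ⟨s, hs, rfl⟩)
  let g : (R ⧸ P) →ₗ[k] (R ⧸ I) := Submodule.factor hPI
  have hg : Function.Surjective g := Submodule.factor_surjective hPI
  have hf : Function.Injective f := by
    rw [injective_iff_map_eq_zero]
    intro a ha
    obtain ⟨a, rfl⟩ := Submodule.Quotient.mk_surjective _ a
    rw [Submodule.mapQ_apply, Submodule.Quotient.mk_eq_zero] at ha
    obtain ⟨s, hs, he⟩ := ha
    rw [Submodule.Quotient.mk_eq_zero, ← hm he]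
    exact hs
  have hfg : LinearMap.ker g = LinearMap.range f := by
    refine le_antisymm (fun a ha => ?_) ?_
    · obtain ⟨a, rfl⟩ := Submodule.Quotient.mk_surjective _ a
      rw [LinearMap.mem_ker] at ha
      have ha' : a ∈ I := (Submodule.Quotient.mk_eq_zero I).1 ha
      obtain ⟨c, hc⟩ := Ideal.mem_span_singleton'.1 ha'
      refine ⟨Submodule.Quotient.mk c, ?_⟩
      rw [Submodule.mapQ_apply, ← hc]
      exact congrArg _ (mul_comm _ _)
    · rintro _ ⟨a, rfl⟩
      obtain ⟨a, rfl⟩ := Submodule.Quotient.mk_surjective _ a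
      exact (Submodule.Quotient.mk_eq_zero I).2 (Ideal.mul_mem_right _ _ (Ideal.mem_span_singleton_self _))
  haveI : Module.Finite k (LinearMap.ker g) := hfg ▸ Module.Finite.range f
  haveI : Module.Finite k ((R ⧸ P) ⧸ LinearMap.ker g) :=
    Module.Finite.equiv (LinearMap.quotKerEquivOfSurjective g hg).symm
  haveI : Module.Finite k (R ⧸ P) := Module.Finite.of_submodule_quotient (LinearMap.ker g)
  have h1 : Module.finrank k (R ⧸ P) = Module.finrank k (R ⧸ Ideal.span {(x : R)}) + Module.finrank k (R ⧸ T) := by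
    rw [← LinearMap.finrank_range_add_finrank_ker g, hfg, LinearMap.finrank_range_of_inj hf,
      LinearMap.range_eq_top.2 hg, finrank_top, eI.finrank_eq]
  -- `S/xS → R/xS → R/S`
  let g' : (R ⧸ P) →ₗ[k] (R ⧸ T) := Submodule.factor hPT
  have hg' : Function.Surjective g' := Submodule.factor_surjective hPT
  let J : Submodule k S := (Ideal.span {x}).restrictScalars k
  let i : (↥S ⧸ J) →ₗ[k] (R ⧸ P) := J.mapQ P S.val.toLinearMap (fun s hs => by
    obtain ⟨c, hc⟩ := Ideal.mem_span_singleton'.1 hs
    exact ⟨c, c.2, by rw [← hc]; exact mul_comm _ _⟩)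
  have hi : Function.Injective i := by
    rw [injective_iff_map_eq_zero]
    intro a ha
    obtain ⟨a, rfl⟩ := Submodule.Quotient.mk_surjective _ a
    rw [Submodule.mapQ_apply, Submodule.Quotient.mk_eq_zero] at ha
    obtain ⟨s, hs, he⟩ := ha
    rw [Submodule.Quotient.mk_eq_zero]
    exact Ideal.mem_span_singleton'.2 ⟨⟨s, hs⟩, Subtype.ext ((mul_comm _ _).trans he)⟩
  have hig : LinearMap.ker g' = LinearMap.range i := by
    refine le_antisymm (fun a ha => ?_) ?_
    · obtain ⟨a, rfl⟩ := Submodule.Quotient.mk_surjective _ a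
      exact ⟨Submodule.Quotient.mk ⟨a, (Submodule.Quotient.mk_eq_zero T).1 ha⟩, rfl⟩
    · rintro _ ⟨a, rfl⟩
      obtain ⟨a, rfl⟩ := Submodule.Quotient.mk_surjective _ a
      exact (Submodule.Quotient.mk_eq_zero T).2 a.2
  have h2 : Module.finrank k (R ⧸ P) = Module.finrank k (R ⧸ T) + Module.finrank k (↥S ⧸ J) := by
    rw [← LinearMap.finrank_range_add_finrank_ker g', hig, LinearMap.finrank_range_of_inj hi,
      LinearMap.range_eq_top.2 hg', finrank_top]
  rw [← (Submodule.Quotient.restrictScalarsEquiv k (Ideal.span {x})).finrank_eq]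
  show _ = Module.finrank k (↥S ⧸ J)
  omega

end Groth.Agent.S11049
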