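import Groth.Statements.S11050
import Groth.Agent.FF.Separating
import Groth.Agent.FF.LinSys

set_option autoImplicit false
open FunFld

namespace Groth.Agent.S11050

open WithZero LocRes Groth.Agent.FF


/-- Over an algebraically closed constant field, let `W` be a finite-dimensional subspace of the
function field `K` containing `1` and generating `K` over `k` (the span of an effective birational
projective map). Then `W` contains a separating variable `x`, and for each separating `x ∈ W` some
`y ∈ W` gives `K = k(x, y)`. -/
theorem result
    (k K : Type*) [Field k] [IsAlgClosed k] [Field K] [Algebra k K]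
    (hK : FunFld.IsFunctionField k K) (W : Submodule k K)
    [FiniteDimensional k W] (h1 : (1 : K) ∈ W)
    (hW : IntermediateField.adjoin k (W : Set K) = ⊤) :
    (∃ x ∈ W, Algebra.IsSeparable (IntermediateField.adjoin k ({x} : Set K)) K) ∧
    ∀ x ∈ W, Algebra.IsSeparable (IntermediateField.adjoin k ({x} : Set K)) K →
      ∃ y ∈ W, IntermediateField.adjoin k ({x, y} : Set K) = ⊤ := by
  refine ⟨?_, fun x _ hsep => ?_⟩
  · obtain ⟨s, hs, hsf, hss⟩ := exists_separating hK
    obtain ⟨H, hH⟩ := exists_hasse (t := s) hs
    by_contra hcon
    push Not at hcon
    have hz : ∀ w ∈ (W : Set K), hasseDer hH w = 0 := fun w hw => by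
      by_contra h
      exact hcon w hw (isSeparable_of_derivative_ne hK hH h)
    have hall' : ∀ q ∈ IntermediateField.adjoin k (W : Set K), hasseDer hH q = 0 := fun q hmem => by
      induction hmem using IntermediateField.adjoin_induction with
      | mem w hw => exact hz w hw
      | algebraMap c => exact Derivation.map_algebraMap _ c
      | add a b _ _ ha hb => rw [map_add, ha, hb, add_zero]
      | inv a _ ha => rw [Derivation.leibniz_inv, ha, smul_zero]
      | mul a b _ _ ha hb => rw [Derivation.leibniz, ha, hb, smul_zero, smul_zero, add_zero]
    have hall : hasseDer hH s = 0 := hall' s (hW ▸ trivial)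
    exact one_ne_zero ((hasseD_one_self hH).symm.trans hall)
  · obtain ⟨y, hy, -, h⟩ := exists_intermediate_avoid hK (x := x) W hW ⊥ (fun h => one_ne_zero (h h1))
    exact ⟨y, hy, h⟩

end Groth.Agent.S11050
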