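import Groth.Statements.S11051
import Groth.Agent.FF.Separating
import Groth.Agent.FF.LinSys

set_option autoImplicit false
open FunFld

namespace Groth.Agent.S11051

open WithZero LocRes Groth.Agent.FF


/-- Over an algebraically closed constant field, for every separating variable `x` of a function field
`K` of one variable (`K` separable over `k(x)`) there is `y` with `K = k(x, y)` such that the span
of `1, x, y` contains a local parameter at every place. (The published statement takes any `x`; this
row takes `x` separating, which is what the published proof uses, since it works with the finitely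
many places ramified over `k(x)`: for a constant `x` the conclusion fails for every `K`, and in
characteristic `p` it fails for `K = k(t)`, `x = t^p`, where every place is ramified over `k(x)` and
no element of the span has order one at the place at infinity or, if `y` is not a polynomial in `t`,
at a pole of `y`.) -/
theorem result
    (k K : Type*) [Field k] [IsAlgClosed k] [Field K] [Algebra k K]
    (hK : FunFld.IsFunctionField k K) (x : K)
    (hsep : Algebra.IsSeparable (IntermediateField.adjoin k ({x} : Set K)) K) :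
    ∃ y : K, IntermediateField.adjoin k ({x, y} : Set K) = ⊤ ∧
      ∀ P : FunFld.Place k K, ∃ f ∈ Submodule.span k ({1, x, y} : Set K),
        P.1 f = WithZero.exp (-1) := by
  classical
  have htr := transcendental_of_separable_adjoin hK (x := x)
  have hx0 : x ≠ 0 := fun e => htr (e ▸ isAlgebraic_zero)
  have := finiteDimensional_adjoin hK htr
  obtain ⟨H, hH⟩ := exists_hasse (t := x) htr
  obtain ⟨δ, hδ, S₀, hS₀, -⟩ := deg_dx hK hH
  obtain ⟨t₀, ht₀, hfinx⟩ : ∃ S : Finset (FunFld.Place k K), S.Nonempty ∧ ∀ Q : FunFld.Place k K, 1 < Q.1 x → Q ∈ S := by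
    obtain ⟨Q, hQ⟩ := exists_val_lt_one hK (z := x⁻¹) (by
      intro halg; exact htr (by simpa using halg.inv))
    refine ⟨(finite_support_ord hK x).toFinset ∪ {Q}, ⟨Q, by simp⟩, fun R hR => ?_⟩
    simp only [Finset.mem_union, Set.Finite.mem_toFinset, Function.mem_support]
    exact Or.inl fun h => not_lt.mpr ((val_le_one_iff R hx0).mpr h.ge) hR
  set S := S₀ ∪ t₀ with hS
  choose t ht0 ht using fun Q : FunFld.Place k K => exists_uniformizer Q
  obtain ⟨y0, hy0⟩ := exists_approx S t fun _ => (-2 : ℤ)
  let M : Submodule k K :=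
    { carrier := {z | ∀ R ∈ S, R.1 z ≤ exp (-2 : ℤ)}
      zero_mem' := fun R _ => by rw [map_zero]; exact zero_le
      add_mem' := fun ha hb R hR => R.1.map_add_le (ha R hR) (hb R hR)
      smul_mem' := fun c z hz R hR => by
        rw [Algebra.smul_def, map_mul]; exact (mul_le_of_le_one_left' (R.2.1 c)).trans (hz R hR) }
  obtain ⟨R₀, hR₀⟩ : S.Nonempty := ht₀.mono Finset.subset_union_right
  have hval : ∀ R ∈ S, R.1 y0 = exp (-1 : ℤ) := fun R hR => by
    rw [show y0 = t R + (y0 - t R) by ring, Valuation.map_add_eq_of_lt_left _ (by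
      rw [ht]; exact (hy0 R hR).trans_lt (exp_lt_exp.mpr (by norm_num))), ht]
  have hy0M : y0 ∉ M := fun h => by
    have := h R₀ hR₀
    rw [hval R₀ hR₀, exp_le_exp] at this
    omega
  have hMgen : IntermediateField.adjoin k (M : Set K) = ⊤ := by
    rw [eq_top_iff]
    intro w _
    have hb : ∃ N : ℕ, ∀ R ∈ S, R.1 w ≤ exp (N : ℤ) := ⟨S.sup fun R => (-R.ord w).toNat, fun R hR => by
      rcases eq_or_ne w 0 with rfl | hw
      · rw [map_zero]; exact zero_le
      · have := Finset.le_sup (f := fun R : FunFld.Place k K => (-R.ord w).toNat) hR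
        rw [val_le_exp_iff R hw]; omega⟩
    obtain ⟨N, hN⟩ := hb
    obtain ⟨z, hz⟩ := exists_approx S (fun R => t R ^ (N + 2)) fun _ => -((N : ℤ) + 3)
    have hzv : ∀ R ∈ S, R.1 z = exp (-((N : ℤ) + 2)) := fun R hR => by
      have h1 : R.1 (t R ^ (N + 2)) = exp (-((N : ℤ) + 2)) := by
        rw [map_pow, ht, ← exp_nsmul]; simp
      rw [show z = t R ^ (N + 2) + (z - t R ^ (N + 2)) by ring, Valuation.map_add_eq_of_lt_left _ (by
        rw [h1]; exact (hz R hR).trans_lt (exp_lt_exp.mpr (by omega))), h1]
    have hz0 : z ≠ 0 := fun e => by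
      have := hzv R₀ hR₀
      rw [e, map_zero] at this
      exact exp_ne_zero this.symm
    have hzM : z ∈ M := fun R hR => (hzv R hR).le.trans (exp_le_exp.mpr (by omega))
    have hwM : z * w ∈ M := fun R hR => by
      rw [map_mul, hzv R hR]
      refine (mul_le_mul' le_rfl (hN R hR)).trans ?_
      rw [← exp_add, exp_le_exp]; omega
    rw [show w = z * w / z by field_simp]
    exact div_mem (IntermediateField.subset_adjoin k _ hwM) (IntermediateField.subset_adjoin k _ hzM)
  obtain ⟨y, hy, hyM, hgen⟩ := exists_intermediate_avoid hK (x := x) (M ⊔ Submodule.span k {y0})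
    (eq_top_iff.mpr (hMgen.symm.le.trans (IntermediateField.adjoin.mono k _ _ (SetLike.coe_subset_coe.mpr le_sup_left))))
    M (fun h => hy0M (h (Submodule.mem_sup_right (Submodule.mem_span_singleton_self y0))))
  obtain ⟨m, hm, z, hz, rfl⟩ := Submodule.mem_sup.mp hy
  obtain ⟨c, rfl⟩ := Submodule.mem_span_singleton.mp hz
  have hc : c ≠ 0 := fun e => hyM (by rw [e, zero_smul, add_zero]; exact hm)
  refine ⟨m + c • y0, hgen, fun P => ?_⟩
  by_cases hP : P ∈ S
  · refine ⟨m + c • y0, Submodule.subset_span (by simp), ?_⟩
    have h1 : P.1 (c • y0) = exp (-1 : ℤ) := by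
      rw [Algebra.smul_def, map_mul, val_algebraMap P hc, one_mul, hval P hP]
    rw [Valuation.map_add_eq_of_lt_right _ (by rw [h1]; exact (hm P hP).trans_lt (exp_lt_exp.mpr (by norm_num))), h1]
  · simp only [hS, Finset.mem_union, not_or] at hP
    have hPx : P.1 x ≤ 1 := not_lt.mp fun h => hP.2 (hfinx P h)
    obtain ⟨a, ha⟩ := exists_const_near hK P hPx
    refine ⟨x - algebraMap k K a, sub_mem (Submodule.subset_span (by simp)) ?_, ?_⟩
    · rw [Algebra.algebraMap_eq_smul_one]
      exact Submodule.smul_mem _ a (Submodule.subset_span (by simp))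
    obtain ⟨Ht, hHt⟩ := exists_hasse_uniformizer hK P (ht P)
    have hd0 : P.ord (hasseD Ht 1 x) = 0 := by
      rw [← hδ P (t P) Ht (ht P) hHt]
      by_contra h
      exact hP.1 (hS₀ P h)
    set u := x - algebraMap k K a with hu
    refine le_antisymm (val_le_of_lt_one P ha) (not_lt.mp fun hlt => ?_)
    have hdu : hasseDer hHt u = hasseD Ht 1 x := by
      rw [hu, map_sub, Derivation.map_algebraMap, sub_zero]; rfl
    set w := u / t P with hw
    have hwlt : P.1 w < 1 := by
      rw [hw, map_div₀, ht, div_lt_one₀ exp_pos]; exact hlt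
    have hdlt : P.1 (hasseD Ht 1 x) < 1 := by
      rw [← hdu, show u = t P * w by rw [hw, mul_div_cancel₀ _ (ht0 P)], Derivation.leibniz,
        show hasseDer hHt (t P) = 1 from hasseD_one_self hHt, smul_eq_mul, smul_eq_mul, mul_one]
      refine P.1.map_add_lt ?_ hwlt
      rw [map_mul]
      refine (mul_le_of_le_one_right' (val_hasseD_le hK P (ht P) hHt hwlt.le 1)).trans_lt ?_
      rw [ht, ← exp_zero, exp_lt_exp]; norm_num
    rcases eq_or_ne (hasseD Ht 1 x) 0 with h0 | h0
    · have := isSeparable_of_hasse hK hH
      have he : hasseDer hH = hasseD H 1 (t P) • hasseDer hHt := by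
        have := isSeparable_of_hasse hK hHt
        refine derivation_ext_separable (x := t P) _ _ ?_
        change hasseD H 1 (t P) = hasseD H 1 (t P) * hasseD Ht 1 (t P)
        rw [hasseD_one_self hHt, mul_one]
      have h1 : hasseD H 1 x = hasseD H 1 (t P) * hasseD Ht 1 x := Derivation.congr_fun he x
      rw [hasseD_one_self hH, h0, mul_zero] at h1
      exact one_ne_zero h1
    · rw [val_eq_exp_neg_ord P h0, hd0, neg_zero, exp_zero] at hdlt
      exact lt_irrefl _ hdlt

end Groth.Agent.S11051
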