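import Groth.Statements.S11052
import Groth.Agent.FF.WDiv

set_option autoImplicit false
open FunFld

namespace Groth.Agent.S11052

/-- Over an algebraically closed constant field, for a `k`-embedding `τ` of the function field `K` into
itself and a projective map `φ = (φ₀, …, φₙ)` (a linearly independent tuple), the degree of the map
`τ(φ)` is `deg τ · deg φ`, where `deg τ = [K : τ(K)]`. -/
theorem result
    (k K : Type*) [Field k] [IsAlgClosed k] [Field K] [Algebra k K]
    (hK : FunFld.IsFunctionField k K) (τ : K →ₐ[k] K) {n : ℕ}
    (φ : Fin (n + 1) → K) (hφ : LinearIndependent k φ) :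
    (FunFld.mapDiv k (τ ∘ φ)).deg =
      Module.finrank τ.fieldRange K * (FunFld.mapDiv k φ).deg := by
  exact (Groth.Agent.FF.deg_mapDiv_tau hK τ φ).1

end Groth.Agent.S11052
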