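import Groth.Statements.S11055
import Groth.Agent.FF.LocRing

set_option autoImplicit false
open FunFld

namespace Groth.Agent.S11055

/-- Over an algebraically closed constant field, a projective map `φ = (φ₀, …, φₙ)`, `n ≥ 1`, with span
`W` and divisor `[φ]` is nonsingular at the place `P` if and only if `W ∩ L([φ] - P - Q)` has
codimension `2` in `W` for every place `Q`. Here a projective map is nonsingular at a place when its
local ring there (quotients of polynomials over `k` in the ratios `φᵢ/φⱼ`, `φⱼ` of least order at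
the place, with denominator a unit there) is the whole valuation ring. (The published statement is
for any projective map; the published proof uses the finiteness property of the local ring that is
established for birational maps, so `φ` is taken birational here: the ratios `φᵢ/φ₀` generate `K`
over `k`.) -/
theorem result
    (k K : Type*) [Field k] [IsAlgClosed k] [Field K] [Algebra k K]
    (hK : FunFld.IsFunctionField k K) {n : ℕ} (hn : 1 ≤ n)
    (φ : Fin (n + 1) → K) (hφ : LinearIndependent k φ)
    (hbir : IntermediateField.adjoin k (Set.range fun i => φ i / φ 0) = ⊤) (P : FunFld.Place k K) :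
    FunFld.IsNonsingularAt φ P ↔ ∀ Q : FunFld.Place k K,
      Module.finrank k ↥(Submodule.span k (Set.range φ) ⊓
          FunFld.L (FunFld.mapDiv k φ - Finsupp.single P 1 - Finsupp.single Q 1)) + 2 =
        Module.finrank k ↥(Submodule.span k (Set.range φ)) := by
  classical
  have hne : ∀ i, φ i ≠ 0 := fun i => hφ.ne_zero i
  set W := Submodule.span k (Set.range φ) with hW
  have hfd : FiniteDimensional k W := FiniteDimensional.span_of_finite k (Set.finite_range φ)
  set D : FunFld.Divisor k K := mapDiv k φ with hD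
  have hb := Groth.Agent.FF.isBpf_mapDiv hK hne
  have hWL : W ⊓ L D = W := inf_eq_left.mpr hb.le
  have h1 : Module.finrank k ↥(W ⊓ L (D - Finsupp.single P 1)) + 1 = Module.finrank k W := by
    obtain ⟨s, hs, he⟩ := hb.exists_exact P
    rw [(Groth.Agent.FF.finrank_inf_sub_single hK W D P).1 ⟨s, ⟨hs, hb.le hs⟩, he⟩, hWL]
  have key : ∀ Q, (Module.finrank k ↥(W ⊓ L (D - Finsupp.single P 1 - Finsupp.single Q 1)) + 2 = Module.finrank k W) ↔
      ∃ s ∈ W, P.1 s ≤ WithZero.exp (D P - 1) ∧ Q.1 s = WithZero.exp ((D - Finsupp.single P 1 : Place k K →₀ ℤ) Q) := fun Q => by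
    have h2 := Groth.Agent.FF.finrank_inf_sub_single hK W (D - Finsupp.single P 1) Q
    constructor
    · intro h
      by_contra hn
      have := h2.2 (by
        rintro ⟨s, ⟨hsW, hsL⟩, hsv⟩
        exact hn ⟨s, hsW, (Groth.Agent.FF.mem_L_sub_single.mp hsL).2, hsv⟩)
      omega
    · rintro ⟨s, hsW, hsP, hsv⟩
      have := h2.1 ⟨s, ⟨hsW, Groth.Agent.FF.mem_L_sub_single.mpr ⟨hb.le hsW, hsP⟩⟩, hsv⟩
      omega
  simp only [key]
  rw [Groth.Agent.FF.isNonsingularAt_iff hK hne P]
  constructor
  · rintro ⟨h, s, hs, hsv⟩ Q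
    rcases eq_or_ne Q P with rfl | hQ
    · exact ⟨s, hs, hsv.le, by rw [hsv, Finsupp.sub_apply, Finsupp.single_eq_same]⟩
    · obtain ⟨s', hs', hlt, hex⟩ := Groth.Agent.FF.exists_separating_mem hK hne (fun h' => hQ (h Q h'))
      refine ⟨s', hs', ?_, ?_⟩
      · rcases eq_or_ne s' 0 with rfl | h0
        · rw [map_zero]; exact zero_le
        · rw [Groth.Agent.FF.val_eq_exp_neg_ord P h0, WithZero.exp_lt_exp] at hlt
          rw [Groth.Agent.FF.val_eq_exp_neg_ord P h0, WithZero.exp_le_exp, hD]; omega
      · rw [Finsupp.sub_apply, Finsupp.single_eq_of_ne hQ, sub_zero]; exact hex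
  · intro h
    refine ⟨fun Q hQ => ?_, ?_⟩
    · by_contra hne'
      obtain ⟨s, hs, hsP, hsQ⟩ := h Q
      obtain ⟨j, hj0, hjP, hjQ, hc⟩ := id hQ
      rw [Finsupp.sub_apply, Finsupp.single_eq_of_ne hne', sub_zero] at hsQ
      have hz := (Groth.Agent.FF.sameImage_locRing hQ (Groth.Agent.FF.inLocRing_of_mem ⟨hj0, hjP⟩
        (Groth.Agent.FF.div_mem_ratioAlg j hs))).2
      have eP := Groth.Agent.FF.isMax_val hK hne (P := P) ⟨hj0, hjP⟩
      have eQ := Groth.Agent.FF.isMax_val hK hne (P := Q) ⟨hj0, hjQ⟩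
      rw [map_div₀, map_div₀, eP, eQ, hsQ, div_self WithZero.exp_ne_zero] at hz
      refine lt_irrefl _ (hz.mpr ?_)
      rw [div_lt_one₀ WithZero.exp_pos]
      exact hsP.trans_lt (WithZero.exp_lt_exp.mpr (by rw [hD]; omega))
    · obtain ⟨s, hs, -, hsv⟩ := h P
      exact ⟨s, hs, by rw [hsv, Finsupp.sub_apply, Finsupp.single_eq_same]⟩

end Groth.Agent.S11055
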