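import Groth.Statements.S11056
import Groth.Agent.FF.Embed2

set_option autoImplicit false
open FunFld

namespace Groth.Agent.S11056

open Groth.Agent.FF Module

/-- Over an algebraically closed constant field, if `deg D ≥ 2g + 1` then the projective map given by a
basis of `L(D)` is an embedding, i.e. nonsingular at every place. Here a projective map is
nonsingular at a place when its local ring there (quotients of polynomials over `k` in the ratios
`φᵢ/φⱼ`, `φⱼ` of least order at the place, with denominator a unit there) is the whole valuation
ring. -/
theorem result
    (k K : Type*) [Field k] [IsAlgClosed k] [Field K] [Algebra k K]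
    (hK : FunFld.IsFunctionField k K) (D : FunFld.Divisor k K)
    (hD : 2 * (FunFld.genus k K : ℤ) + 1 ≤ D.deg) {n : ℕ} (φ : Fin (n + 1) → K)
    (hφ : LinearIndependent k φ) (hspan : Submodule.span k (Set.range φ) = FunFld.L D)
    (P : FunFld.Place k K) : FunFld.IsNonsingularAt φ P := by
  refine isNonsingularAt_of_ell hK φ D hspan (fun P Q => ?_) P
  have h1 := ell_eq_of_deg_large hK (D := D) (by omega)
  have h2 := ell_eq_of_deg_large hK (D := D - Finsupp.single P 1 - Finsupp.single Q 1)
    (by rw [deg_sub, deg_sub, deg_single, deg_single, deg_eq_one hK, deg_eq_one hK]; omega)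
  rw [deg_sub, deg_sub, deg_single, deg_single, deg_eq_one hK, deg_eq_one hK] at h2
  omega

end Groth.Agent.S11056
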