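import Groth.Statements.S11058
import Groth.Agent.FF.LocRing

set_option autoImplicit false
open FunFld

namespace Groth.Agent.S11058

/-- Over an algebraically closed constant field, a birational projective map `φ = (φ₀, …, φₙ)` (the
ratios `φᵢ/φ₀` generate `K` over `k`) is nonsingular at all but finitely many places. Here a
projective map is nonsingular at a place when its local ring there (quotients of polynomials over
`k` in the ratios `φᵢ/φⱼ`, `φⱼ` of least order at the place, with denominator a unit there) is the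
whole valuation ring. -/
theorem result
    (k K : Type*) [Field k] [IsAlgClosed k] [Field K] [Algebra k K]
    (hK : FunFld.IsFunctionField k K) {n : ℕ} (hn : 1 ≤ n) (φ : Fin (n + 1) → K)
    (hφ : LinearIndependent k φ)
    (hbir : IntermediateField.adjoin k (Set.range fun i => φ i / φ 0) = ⊤) :
    {P : FunFld.Place k K | ¬ FunFld.IsNonsingularAt φ P}.Finite := by
  classical
  have hne : ∀ i, φ i ≠ 0 := fun i => hφ.ne_zero i
  obtain ⟨x, hx⟩ := Groth.Agent.FF.exists_transcendental hK
  obtain ⟨ι, _, d, b, hbd, hgen, -⟩ := Groth.Agent.FF.exists_reduced_basis hK hx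
  set A := Groth.Agent.FF.ratioAlg k φ 0 with hA
  have hquot : ∀ z : K, ∃ u ∈ A, ∃ w ∈ A, w ≠ 0 ∧ z * w = u := fun z => by
    have hz : z ∈ IntermediateField.adjoin k (Set.range fun i => φ i / φ 0) := hbir ▸ IntermediateField.mem_top
    rw [IntermediateField.mem_adjoin_iff_div] at hz
    obtain ⟨u, hu, w, hw, rfl⟩ := hz
    rcases eq_or_ne w 0 with rfl | hw0
    · exact ⟨0, zero_mem _, 1, one_mem _, one_ne_zero, by simp⟩
    · exact ⟨u, hu, w, hw, hw0, div_mul_cancel₀ _ hw0⟩
  choose u hu w hw hw0 huw using hquot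
  let T : Set (Place k K) := (⋃ i, Function.support fun P : Place k K => P.ord (φ i)) ∪
    (Function.support fun P : Place k K => P.ord x) ∪ (Function.support fun P : Place k K => P.ord (w x)) ∪
    ⋃ s, Function.support fun P : Place k K => P.ord (w (b s))
  have hT : T.Finite := by
    refine (((Set.finite_iUnion fun i => ?_).union ?_).union ?_).union (Set.finite_iUnion fun s => ?_) <;>
      exact Groth.Agent.FF.finite_support_ord hK _
  refine hT.subset fun P hP => ?_
  by_contra hPT
  simp only [T, Set.mem_union, Set.mem_iUnion, Function.mem_support, not_or, not_exists, not_not] at hPT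
  obtain ⟨⟨⟨hφ0, hx0⟩, hwx⟩, hwb⟩ := hPT
  have hv1 : ∀ z : K, z ≠ 0 → P.ord z = 0 → P.1 z = 1 := fun z hz h => by
    rw [Groth.Agent.FF.val_eq_exp_neg_ord P hz, h, neg_zero, WithZero.exp_zero]
  have hj : Groth.Agent.FF.IsMax φ P 0 := ⟨hne 0, fun i => by
    rw [hv1 _ (hne i) (hφ0 i), hv1 _ (hne 0) (hφ0 0)]⟩
  have hloc : ∀ z, P.ord (w z) = 0 → InLocRing φ P z := fun z h =>
    Groth.Agent.FF.inLocRing_of_max hj (hu z) (hw z) (hv1 _ (hw0 z) h) (huw z)
  let O : Subalgebra k K :=
    { carrier := {z | InLocRing φ P z}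
      mul_mem' := fun ha hb => Groth.Agent.FF.inLocRing_mul ha hb
      add_mem' := fun ha hb => Groth.Agent.FF.inLocRing_add ha hb
      algebraMap_mem' := fun c => Groth.Agent.FF.inLocRing_algebraMap ⟨0, hne 0⟩ P c }
  have hxO : x ∈ O := hloc x hwx
  have hxne : x ≠ 0 := fun e => hx (e ▸ isAlgebraic_zero)
  have haff : ∀ z ∈ Groth.Agent.FF.affineRing (Groth.Agent.FF.poles (k := k) x), z ∈ O := by
    intro z hz
    set m : ℕ := (Groth.Agent.FF.poles (k := k) z).support.sup (fun Q => (Groth.Agent.FF.poles (k := k) z Q).toNat) with hm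
    have hzb : z ∈ Groth.Agent.FF.bnd (k := k) x m := by
      refine (Groth.Agent.FF.mem_bnd hK hxne).mpr ⟨fun Q hQ => hz Q ?_, fun Q hQ => ?_⟩
      · rw [Groth.Agent.FF.poles_apply hK]
        have := (Groth.Agent.FF.val_le_one_iff Q hxne).mp hQ
        omega
      · refine (Groth.Agent.FF.val_le_exp_poles hK z Q).trans (WithZero.exp_le_exp.mpr ?_)
        have h1 : ¬ (0 ≤ Q.ord x) := fun h' => not_lt.mpr ((Groth.Agent.FF.val_le_one_iff Q hxne).mpr h') hQ
        have h2 : (Groth.Agent.FF.poles (k := k) z Q).toNat ≤ m := by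
          by_cases h : Q ∈ (Groth.Agent.FF.poles (k := k) z).support
          · exact Finset.le_sup (f := fun Q => (Groth.Agent.FF.poles (k := k) z Q).toNat) h
          · simp [Finsupp.notMem_support_iff.mp h]
        have h3 : (m : ℤ) ≤ (m : ℤ) * -Q.ord x := le_mul_of_one_le_right (Int.natCast_nonneg m) (by omega)
        omega
    obtain ⟨p, -, rfl⟩ := hgen m z hzb
    refine sum_mem fun s _ => mul_mem ?_ (hloc _ (hwb s))
    exact (Algebra.adjoin_le (by simpa using hxO) : Algebra.adjoin k {x} ≤ O)
      (Polynomial.aeval_mem_adjoin_singleton k x)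
  apply hP
  intro z hz
  have hd : 0 < (Groth.Agent.FF.poles (k := k) x).deg := by
    have := Groth.Agent.FF.finiteDimensional_adjoin hK hx
    rw [Groth.Agent.FF.deg_poles hK hx]; exact_mod_cast Module.finrank_pos
  obtain ⟨c, hc, hc1, hcz⟩ := Groth.Agent.FF.exists_unit_mult hK hd
    (by rw [Groth.Agent.FF.poles_apply hK, hx0]; simp) hz
  have := Groth.Agent.FF.inLocRing_mul (haff _ hcz) (Groth.Agent.FF.inLocRing_inv (haff _ hc) hc1)
  have hc0 : c ≠ 0 := fun e => by rw [e, map_zero] at hc1; exact zero_ne_one hc1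
  rwa [mul_comm c z, mul_assoc, mul_inv_cancel₀ hc0, mul_one] at this

end Groth.Agent.S11058
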