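import Groth.Statements.S11060
import Groth.Agent.FF.PlaneSmooth

set_option autoImplicit false
open FunFld

namespace Groth.Agent.S11060

open Groth.Agent.FF

/-- Over an algebraically closed constant field, a function field of genus `g` with a nonsingular plane
model has `g` a triangular number. Here a projective map is nonsingular at a place when its local
ring there (quotients of polynomials over `k` in the ratios `φᵢ/φⱼ`, `φⱼ` of least order at the
place, with denominator a unit there) is the whole valuation ring. -/
theorem result
    (k K : Type*) [Field k] [IsAlgClosed k] [Field K] [Algebra k K]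
    (hK : FunFld.IsFunctionField k K)
    (h : ∃ x y : K, IntermediateField.adjoin k ({x, y} : Set K) = ⊤ ∧
      ∀ P : FunFld.Place k K, FunFld.IsNonsingularAt ![(1 : K), x, y] P) :
    ∃ m : ℕ, 2 * FunFld.genus k K = m * (m + 1) := by
  obtain ⟨x, y, hxy, hns⟩ := h
  have heq := (plane_smooth_iff hK hxy).mpr hns
  obtain ⟨d, hd⟩ := Int.eq_ofNat_of_zero_le (deg_mapDiv_plane_pos hK hxy).le
  have hpos := deg_mapDiv_plane_pos hK hxy
  rw [hd] at heq hpos
  rcases d with _ | _ | m
  · simp at hpos
  · exact ⟨0, by simp at heq ⊢; omega⟩
  · refine ⟨m, ?_⟩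
    have : (2 * genus k K : ℤ) = (m : ℤ) * (m + 1) := by rw [heq]; push_cast; ring
    exact_mod_cast this

end Groth.Agent.S11060
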