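import Groth.Statements.S11064
import Groth.Agent.FF.Embed2

set_option autoImplicit false
open FunFld

namespace Groth.Agent.S11064

open Groth.Agent.FF Module

/-- Over an algebraically closed constant field, a projective map `φ = (φ₀, …, φₙ)` that is nonsingular
at some place is birational, i.e. the ratios `φᵢ/φ₀` generate `K` over `k`. Here the local ring of a
projective map at a place consists of the quotients of polynomials over `k` in the ratios `φᵢ/φⱼ`,
`φⱼ` of least order at the place, with denominator a unit there; the map is nonsingular at the place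
when this ring is the whole valuation ring. -/
theorem result
    (k K : Type*) [Field k] [IsAlgClosed k] [Field K] [Algebra k K]
    (hK : FunFld.IsFunctionField k K) {n : ℕ} (φ : Fin (n + 1) → K)
    (h0 : φ 0 ≠ 0) (P : FunFld.Place k K) (h : FunFld.IsNonsingularAt φ P) :
    IntermediateField.adjoin k (Set.range fun i => φ i / φ 0) = ⊤ := by
  set F := IntermediateField.adjoin k (Set.range fun i => φ i / φ 0)
  have hO : ∀ z, P.1 z ≤ 1 → z ∈ F := by
    intro z hz
    obtain ⟨j, hj0, -, u, hu, w, hw, hw1, hzw⟩ := h z hz
    have hle : Algebra.adjoin k (Set.range fun i => φ i / φ j) ≤ F.toSubalgebra := by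
      rw [Algebra.adjoin_le_iff]
      rintro _ ⟨i, rfl⟩
      show φ i / φ j ∈ F
      rw [← div_div_div_cancel_right₀ h0 (φ i) (φ j)]
      exact F.div_mem (IntermediateField.subset_adjoin k _ ⟨i, rfl⟩)
        (IntermediateField.subset_adjoin k _ ⟨j, rfl⟩)
    have hw0 : w ≠ 0 := by rintro rfl; simp at hw1
    rw [show z = u / w by rw [← hzw, mul_div_cancel_right₀ _ hw0]]
    exact F.div_mem (hle hu) (hle hw)
  rw [eq_top_iff]
  intro z _
  rcases le_total (P.1 z) 1 with h1 | h1
  · exact hO z h1
  · rw [← inv_inv z]; exact F.inv_mem (hO _ (by rw [map_inv₀]; exact inv_le_one_of_one_le₀ h1))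

end Groth.Agent.S11064
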