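import Groth.Statements.S11066
import Groth.Agent.FF.LocRing

set_option autoImplicit false
open FunFld

namespace Groth.Agent.S11066

/-- Over an algebraically closed constant field, for an effective projective map `φ` normalized at the
place `P` (`1` in the span of the entries, all entries integral at `P`), the local ring of `φ` at
`P` has an element of order one at `P` (a local parameter) exactly when the span of the entries has
one. The local ring consists of the quotients of polynomials over `k` in the ratios `φᵢ/φⱼ`, `φⱼ` of
least order at `P`, with denominator a unit at `P`. -/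
theorem result
    (k K : Type*) [Field k] [IsAlgClosed k] [Field K] [Algebra k K]
    (hK : FunFld.IsFunctionField k K) {n : ℕ} (φ : Fin (n + 1) → K)
    (P : FunFld.Place k K) (heff : (1 : K) ∈ Submodule.span k (Set.range φ))
    (hnorm : ∀ i, P.1 (φ i) ≤ 1) :
    (∃ t : K, FunFld.InLocRing φ P t ∧ P.1 t = WithZero.exp (-1)) ↔
      ∃ t ∈ Submodule.span k (Set.range φ), P.1 t = WithZero.exp (-1) := by
  classical
  have hne : ∃ i, φ i ≠ 0 := by
    by_contra hc
    push Not at hc
    have : Submodule.span k (Set.range φ) ≤ ⊥ := Submodule.span_le.mpr (by
      rintro _ ⟨i, rfl⟩; exact hc i)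
    exact one_ne_zero ((Submodule.mem_bot k).mp (this heff))
  obtain ⟨j, hj⟩ := Groth.Agent.FF.exists_isMax hne P
  have h1 : P.1 (φ j) = 1 := by
    refine le_antisymm (hnorm j) ?_
    refine le_of_eq_of_le P.1.map_one.symm ?_
    have key : ∀ f ∈ Submodule.span k (Set.range φ), P.1 f ≤ P.1 (φ j) := fun f hf => by
      induction hf using Submodule.span_induction with
      | mem x hx => obtain ⟨i, rfl⟩ := hx; exact hj.2 i
      | zero => rw [map_zero]; exact zero_le
      | add x y _ _ hx hy => exact P.1.map_add_le hx hy
      | smul c x _ hx =>
        rw [Algebra.smul_def, map_mul]; exact le_trans (mul_le_of_le_one_left zero_le (P.2.1 c)) hx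
    exact key 1 heff
  simpa only [h1, one_mul] using Groth.Agent.FF.exists_uniformizer_loc_iff hK hj

end Groth.Agent.S11066
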