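import Groth.Statements.S11067
import Groth.Agent.FF.LinSys
import Groth.Agent.FF.DiffDegree
import Groth.Agent.FF.LocRing
import Mathlib.FieldTheory.Minpoly.IsIntegrallyClosed

set_option autoImplicit false
open FunFld

namespace Groth.Agent.S11067

open WithZero Groth.Agent.FF


/-- Over an algebraically closed constant field, for a plane curve with natural map `(1 : x : y)` (so `K
= k(x, y)`) and `y` integral over `k[x]`, the ring `k[x, y]` is the intersection of the rings
`O_P[y]` over the places `P` of `k(x)` at which `x` is integral. -/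
theorem result
    (k K : Type*) [Field k] [IsAlgClosed k] [Field K] [Algebra k K]
    (hK : FunFld.IsFunctionField k K) (x y : K) (hx : Transcendental k x)
    (hxy : IntermediateField.adjoin k ({x, y} : Set K) = ⊤)
    (hy : IsIntegral (Algebra.adjoin k ({x} : Set K)) y) :
    (Algebra.adjoin k ({x, y} : Set K) : Set K) =
      ⋂ (P : FunFld.Place k (IntermediateField.adjoin k ({x} : Set K)))
        (_ : P.1 ⟨x, IntermediateField.mem_adjoin_simple_self k x⟩ ≤ 1),
        (Subring.closure
          ((algebraMap (IntermediateField.adjoin k ({x} : Set K)) K '' (P.O : Set _)) ∪ {y}) :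
          Set K) := by
  classical
  have hfd := finiteDimensional_adjoin hK hx
  set F := IntermediateField.adjoin k ({x} : Set K) with hF
  obtain ⟨hKF, -⟩ := isFunctionField_adjoin hK hx
  set xF : F := ⟨x, IntermediateField.mem_adjoin_simple_self k x⟩ with hxF
  have hxFv : ((xF : F) : K) = x := rfl
  have hval : ∀ p : Polynomial k, ((Polynomial.aeval xF p : F) : K) = Polynomial.aeval x p := fun p =>
    (Polynomial.aeval_algHom_apply F.val xF p).symm
  have hxFtr : Transcendental k xF := fun h => hx (h.algebraMap (A := K))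
  let algF : Algebra (Polynomial k) F := (Polynomial.aeval xF).toRingHom.toAlgebra
  let algK : Algebra (Polynomial k) K := (Polynomial.aeval x).toRingHom.toAlgebra
  have : IsScalarTower (Polynomial k) F K := IsScalarTower.of_algebraMap_eq fun p => (hval p).symm
  have hinj : Function.Injective (algebraMap (Polynomial k) F) := transcendental_iff_injective.mp hxFtr
  have : FaithfulSMul (Polynomial k) F := (faithfulSMul_iff_algebraMap_injective _ _).mpr hinj
  have : IsFractionRing (Polynomial k) F := by
    refine IsFractionRing.of_field _ _ fun z => ?_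
    obtain ⟨r, s, hz⟩ := (IntermediateField.mem_adjoin_simple_iff (F := k) (α := x) (z : K)).mp z.2
    refine ⟨r, s, Subtype.ext ?_⟩
    change (z : K) = ((Polynomial.aeval xF r / Polynomial.aeval xF s : F) : K)
    push_cast
    rw [hval, hval, hz]
  have hyint : IsIntegral (Polynomial k) y := by
    obtain ⟨g, hg, hg0⟩ := hy
    have hlift : g ∈ Polynomial.lifts ((Polynomial.aeval x).codRestrict (Algebra.adjoin k ({x} : Set K))
        fun p => Polynomial.aeval_mem_adjoin_singleton k x).toRingHom :=
      (Polynomial.lifts_iff_coeff_lifts g).mpr fun n => by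
        have hm : (g.coeff n : K) ∈ (Polynomial.aeval x : Polynomial k →ₐ[k] K).range := by
          rw [← Algebra.adjoin_singleton_eq_range_aeval k x]; exact (g.coeff n).2
        obtain ⟨p, hp⟩ := hm
        exact ⟨p, Subtype.ext hp⟩
    obtain ⟨q, hq, -, hqm⟩ := Polynomial.lifts_and_degree_eq_and_monic hlift hg
    refine ⟨q, hqm, ?_⟩
    rw [← hq, Polynomial.eval₂_map] at hg0
    exact hg0
  set g := minpoly (Polynomial k) y with hg
  have hgm : g.Monic := minpoly.monic hyint
  set gF := g.map (algebraMap (Polynomial k) F) with hgF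
  have hgFy : gF = minpoly F y := (minpoly.isIntegrallyClosed_eq_field_fractions' F hyint).symm
  have hgFm : gF.Monic := hgm.map _
  have hgF0 : Polynomial.aeval y gF = 0 := by rw [hgFy]; exact minpoly.aeval F y
  have huniq : ∀ r r' : Polynomial F, r.degree < gF.degree → r'.degree < gF.degree →
      Polynomial.aeval y r = Polynomial.aeval y r' → r = r' := by
    intro r r' hr hr' he
    by_contra hne
    have h1 := minpoly.degree_le_of_ne_zero F y (sub_ne_zero.mpr hne) (by rw [map_sub, he, sub_self])
    rw [← hgFy] at h1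
    exact absurd ((Polynomial.degree_sub_le _ _).trans_lt (max_lt hr hr')) (not_lt.mpr h1)
  -- members of `O_P[y]` in coordinates
  have hform : ∀ P : FunFld.Place k F, P.1 xF ≤ 1 → ∀ z ∈ Subring.closure ((algebraMap F K '' (P.O : Set F)) ∪ {y}),
      ∃ r : Polynomial F, r.degree < gF.degree ∧ (∀ i, r.coeff i ∈ P.O) ∧ Polynomial.aeval y r = z := by
    intro P hP z hz
    let ι : P.O →+* F := P.O.subtype
    have hcl : ∀ z ∈ Subring.closure ((algebraMap F K '' (P.O : Set F)) ∪ {y}),
        z ∈ (Polynomial.eval₂RingHom ((algebraMap F K).comp ι) y).range := by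
      intro z hz
      refine Subring.closure_le.mpr ?_ hz
      rintro _ (⟨w, hw, rfl⟩ | hw)
      · exact ⟨Polynomial.C ⟨w, hw⟩, by simp [ι]⟩
      · exact ⟨Polynomial.X, by simpa using hw.symm⟩
    obtain ⟨q, hq⟩ := hcl z hz
    have hgP : gF ∈ Polynomial.lifts ι := (Polynomial.lifts_iff_coeff_lifts _).mpr fun n => by
      refine ⟨⟨gF.coeff n, ?_⟩, rfl⟩
      rw [hgF, Polynomial.coeff_map]
      exact (mem_O P).mpr (val_aeval_le hP _)
    obtain ⟨gP, hgP', hdeg, hgPm⟩ := Polynomial.lifts_and_degree_eq_and_monic hgP hgFm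
    refine ⟨(q %ₘ gP).map ι, ?_, fun i => ?_, ?_⟩
    · rw [← hdeg]
      exact Polynomial.degree_map_le.trans_lt (Polynomial.degree_modByMonic_lt _ hgPm)
    · rw [Polynomial.coeff_map]; exact ((q %ₘ gP).coeff i).2
    · have h1 : (q %ₘ gP).map ι = q.map ι %ₘ gF := by rw [← hgP', Polynomial.map_modByMonic ι hgPm]
      rw [h1, Polynomial.modByMonic_eq_sub_mul_div, map_sub, map_mul, hgF0, zero_mul, sub_zero,
        Polynomial.aeval_def, Polynomial.eval₂_map]
      exact hq
  refine Set.Subset.antisymm ?_ ?_
  · intro z hz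
    simp only [Set.mem_iInter, SetLike.mem_coe] at hz ⊢
    intro P hP
    induction hz using Algebra.adjoin_induction with
    | mem w hw =>
      rcases hw with rfl | rfl
      · exact Subring.subset_closure (Or.inl ⟨xF, (mem_O P).mpr hP, rfl⟩)
      · exact Subring.subset_closure (Or.inr rfl)
    | algebraMap c =>
      exact Subring.subset_closure (Or.inl ⟨algebraMap k F c, (mem_O P).mpr (P.2.1 c),
        (IsScalarTower.algebraMap_apply k F K c).symm⟩)
    | add a b _ _ ha hb => exact add_mem ha hb
    | mul a b _ _ ha hb => exact mul_mem ha hb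
  · intro z hz
    simp only [Set.mem_iInter, SetLike.mem_coe] at hz ⊢
    obtain ⟨P₀, hP₀⟩ := exists_val_lt_one hKF hxFtr
    obtain ⟨r, hr, -, hrz⟩ := hform P₀ hP₀.le z (hz P₀ hP₀.le)
    have hrc : ∀ (P : FunFld.Place k F), P.1 xF ≤ 1 → ∀ i, P.1 (r.coeff i) ≤ 1 := by
      intro P hP i
      obtain ⟨r', hr', hc, hrz'⟩ := hform P hP z (hz P hP)
      rw [huniq r r' hr hr' (hrz.trans hrz'.symm)]
      exact (mem_O P).mp (hc i)
    have hpoly : ∀ i, ∃ a : Polynomial k, r.coeff i = Polynomial.aeval xF a := by
      intro i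
      obtain ⟨a, b, hb, hab, hco⟩ : ∃ a b : Polynomial k, b ≠ 0 ∧
          r.coeff i * Polynomial.aeval xF b = Polynomial.aeval xF a ∧ IsCoprime a b := by
        refine ⟨IsFractionRing.num (Polynomial k) (r.coeff i), IsFractionRing.den (Polynomial k) (r.coeff i),
          nonZeroDivisors.coe_ne_zero _, ?_, ?_⟩
        · have h := IsFractionRing.mk'_num_den (Polynomial k) (r.coeff i)
          exact (IsLocalization.eq_mk'_iff_mul_eq.mp h.symm)
        · exact (IsFractionRing.num_den_reduced (Polynomial k) (r.coeff i)).isCoprime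
      by_cases hu : IsUnit b
      · obtain ⟨c, hc⟩ := isUnit_iff_exists_inv.mp hu
        refine ⟨a * c, ?_⟩
        rw [map_mul, ← hab, mul_assoc, ← map_mul, hc, map_one, mul_one]
      exfalso
      obtain ⟨α, hα⟩ := IsAlgClosed.exists_root b (fun h => hu (Polynomial.isUnit_iff_degree_eq_zero.mpr h))
      obtain ⟨P, hP⟩ := exists_val_lt_one hKF (z := xF - algebraMap k F α) (by
        intro h
        have h2 := h.add (isAlgebraic_algebraMap (A := F) α)
        rw [sub_add_cancel] at h2
        exact hxFtr h2)
      have hPx : P.1 xF ≤ 1 := val_le_one_of_const hP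
      obtain ⟨b', hb'⟩ := Polynomial.dvd_iff_isRoot.mpr hα
      have hbP : P.1 (Polynomial.aeval xF b) < 1 := by
        rw [hb', map_mul, map_mul, map_sub, Polynomial.aeval_X, Polynomial.aeval_C]
        exact (mul_le_of_le_one_right' (val_aeval_le hPx b')).trans_lt hP
      obtain ⟨s, t, hst⟩ := hco
      have haP : P.1 (Polynomial.aeval xF a) < 1 := by
        rw [← hab, map_mul]
        exact (mul_le_of_le_one_left' (hrc P hPx i)).trans_lt hbP
      have h1 : P.1 (1 : F) < 1 := by
        rw [← map_one (Polynomial.aeval (R := k) xF), ← hst, map_add, map_mul, map_mul]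
        refine P.1.map_add_lt ?_ ?_ <;> rw [map_mul]
        · exact (mul_le_of_le_one_left' (val_aeval_le hPx s)).trans_lt haP
        · exact (mul_le_of_le_one_left' (val_aeval_le hPx t)).trans_lt hbP
      rw [map_one] at h1
      exact lt_irrefl _ h1
    rw [← hrz, Polynomial.aeval_eq_sum_range]
    refine Subalgebra.sum_mem _ fun i _ => ?_
    obtain ⟨a, ha⟩ := hpoly i
    rw [Algebra.smul_def, ha]
    refine Subalgebra.mul_mem _ ?_ (Subalgebra.pow_mem _ (Algebra.subset_adjoin (show y ∈ ({x, y} : Set K) from Or.inr rfl)) i)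
    show ((Polynomial.aeval xF a : F) : K) ∈ _
    rw [hval]
    exact Algebra.adjoin_mono (by simp) (Polynomial.aeval_mem_adjoin_singleton k x)

end Groth.Agent.S11067
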