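import Groth.Statements.S11069
import Groth.Agent.FF.Extension

set_option autoImplicit false
open FunFld

namespace Groth.Agent.S11069

open Groth.Agent.FF

/-- Over an algebraically closed constant field, for function fields `K ⊇ K'` and a projective map `φ`
with entries in `K'`, the divisor of `φ` as a map of `K` is the conorm `N*_{K/K'}` of its divisor as
a map of `K'`. -/
theorem result
    (k K' K : Type*) [Field k] [IsAlgClosed k] [Field K'] [Field K] [Algebra k K'] [Algebra k K]
    [Algebra K' K] [IsScalarTower k K' K] [FiniteDimensional K' K]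
    (hK : FunFld.IsFunctionField k K) (hK' : FunFld.IsFunctionField k K') {n : ℕ}
    (φ : Fin (n + 1) → K') (hφ : LinearIndependent k φ) :
    FunFld.mapDiv k (fun i => algebraMap K' K (φ i)) = FunFld.conorm K (FunFld.mapDiv k φ) := by
  refine Finsupp.ext fun Q => ?_
  obtain ⟨P, e, -, he⟩ := exists_isOverWith hK'.1 Q
  rw [conorm_apply hK'.1 _ ⟨e, he⟩, ow_ramIdx_eq he, mapDiv_apply' hK.1, mapDiv_apply' hK'.1, mul_neg, neg_inj]
  refine le_antisymm ?_ ?_
  · obtain ⟨i, -, hi⟩ := Finset.exists_mem_eq_inf' Finset.univ_nonempty (fun i => P.ord (φ i))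
    rw [hi, ← ow_ord_eq he]
    exact Finset.inf'_le (fun i => Q.ord (algebraMap K' K (φ i))) (Finset.mem_univ i)
  · refine Finset.le_inf' _ _ fun i _ => ?_
    rw [ow_ord_eq he]
    exact mul_le_mul_of_nonneg_left (Finset.inf'_le (fun i => P.ord (φ i)) (Finset.mem_univ i)) (by positivity)

end Groth.Agent.S11069
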