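import Groth.Statements.S1107
import Groth.Agent.Dual22Lib.ProperSuppPush

set_option autoImplicit false
universe u
open CategoryTheory CategoryTheory.Limits AlgebraicGeometry
attribute [local instance] HasDerivedCategory.standard
open Perf

namespace Groth.Agent.S1107

open CategoryTheory CategoryTheory.Limits AlgebraicGeometry Groth.Agent


/-- Let S be a Noetherian scheme, f : X ⟶ S locally of finite type, and E ∈ D(O_X) bounded below with
coherent cohomology sheaves whose supports are proper over S. Assuming Rf_* exists, Rf_*E is bounded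
below with coherent cohomology sheaves. -/
theorem result {X S : Scheme.{u}} [IsNoetherian S] (f : X ⟶ S) [LocallyOfFiniteType f]
    [DCoh.HasRpush f] (E : DCoh.D X) (a : ℤ) [E.IsGE a] (hE : DCoh.IsCohD E)
    (hsupp : ∀ i : ℤ, ClSub.IsProperOver f (CohB1.support (DCoh.HD E i))) :
    DCoh.IsCohD ((DCoh.Rpush f).obj E) ∧ ((DCoh.Rpush f).obj E).IsGE a := by
  have hP : WSerre.cohIn (Dual22Lib.ProperSuppPush.PS f) E := fun i => ⟨hE i, hsupp i⟩
  exact ⟨Dual22Lib.ProperSuppPush.isCohD_Rpush f E a hP, Dual22Lib.ProperSuppPush.isGE_Rpush f E a⟩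

end Groth.Agent.S1107
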