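import Groth.Statements.S11071
import Groth.Agent.CommAlg4.JacobianModel
-- import your own Groth.Agent.* helpers here

set_option autoImplicit false
set_option backward.isDefEq.respectTransparency false
open FunFld

namespace Groth.Agent.S11071

/-- Over an algebraically closed constant field, let `φ = (φ₀, …, φₙ)`, `n ≥ 1`, be a birational
projective map, `f₁, …, f_r` homogeneous generators of its ideal of homogeneous relations (the ideal
of the image curve), and `P` a place at which all `φᵢ/φ₀` are integral, with image point `a`. Then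
`φ` is nonsingular at `P` if and only if the matrix `(∂fᵢ/∂Xⱼ(a))`, `1 ≤ j ≤ n`, has rank `n - 1`
(entries read in the residue field of `P`). Here the local ring of `φ` at `P` consists of the
quotients of polynomials over `k` in the ratios `φᵢ/φ₀` with denominator a unit at `P`; `φ` is
nonsingular at `P` when this ring is the whole valuation ring. -/
theorem result (k K : Type*) [Field k] [IsAlgClosed k] [Field K] [Algebra k K]
    (hK : FunFld.IsFunctionField k K) {n : ℕ} (hn : 1 ≤ n)
    (φ : Fin (n + 1) → K) (hφ : LinearIndependent k φ)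
    (hbir : IntermediateField.adjoin k (Set.range fun i => φ i / φ 0) = ⊤)
    (P : FunFld.Place k K) (hP : ∀ i, P.1 (φ i) ≤ P.1 (φ 0)) {r : ℕ}
    (f : Fin r → MvPolynomial (Fin (n + 1)) k)
    (hhom : ∀ i, (f i).IsHomogeneous (f i).totalDegree)
    (hgen : Ideal.span (Set.range f) =
      RingHom.ker (MvPolynomial.aeval fun i => Polynomial.C (φ i) * Polynomial.X))
    (M : Matrix (Fin r) (Fin n) P.O)
    (hM : ∀ i j, ((M i j : P.O) : K) =
      MvPolynomial.aeval (fun l => φ l / φ 0) (MvPolynomial.pderiv j.succ (f i))) :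
    FunFld.IsNonsingularAt φ P ↔ (M.map (IsLocalRing.residue P.O)).rank = n - 1 := by
  classical
  have hφ0 : φ 0 ≠ 0 := hφ.ne_zero 0
  have hmax : Groth.Agent.FF.IsMax φ P 0 := ⟨hφ0, hP⟩
  have hy : ∀ j : Fin n, P.1 (φ j.succ / φ 0) ≤ 1 := fun j => by
    rw [map_div₀, div_le_one₀ hmax.pos]; exact hP _
  choose c hc using fun j => Groth.Agent.FF.exists_const_near hK P (hy j)
  set g := fun i => Groth.Agent.CommAlg4.JacobianModel.dehom (f i) with hg
  have hker := Groth.Agent.CommAlg4.JacobianModel.ker_eq hφ0 hhom hgen
  have hfrac := Groth.Agent.CommAlg4.JacobianModel.adjoin_eq_top hφ0 hbir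
  set J : Matrix (Fin r) (Fin n) k := Matrix.of fun i j => MvPolynomial.eval c (MvPolynomial.pderiv j (g i)) with hJ
  have hbij : Function.Bijective (algebraMap k (IsLocalRing.ResidueField P.O)) := by
    have hfd : Module.Finite k (IsLocalRing.ResidueField P.O) := Groth.Agent.FF.finiteDimensional_residue hK P
    have : Algebra.IsIntegral k (IsLocalRing.ResidueField P.O) := ⟨fun x => @IsIntegral.of_finite k _ _ _ _ hfd x⟩
    exact IsAlgClosed.algebraMap_bijective_of_isIntegral
  have hmap : M.map (IsLocalRing.residue P.O) = J.map (algebraMap k (IsLocalRing.ResidueField P.O)) := by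
    ext i j
    rw [Matrix.map_apply, Matrix.map_apply, hJ, Matrix.of_apply,
      IsScalarTower.algebraMap_apply k P.O (IsLocalRing.ResidueField P.O), IsLocalRing.ResidueField.algebraMap_eq,
      ← sub_eq_zero, ← map_sub, Groth.Agent.FF.residue_eq_zero_iff]
    show P.1 (((M i j : P.O) : K) - algebraMap k K _) < 1
    rw [hM, ← Groth.Agent.CommAlg4.JacobianModel.aeval_dehom (fun l => φ l / φ 0) (div_self hφ0),
      hg, Groth.Agent.CommAlg4.JacobianModel.pderiv_dehom, ← MvPolynomial.aeval_C (fun j : Fin n => φ j.succ / φ 0),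
      ← map_sub, Groth.Agent.CommAlg4.JacobianCrit.eval_eq_zero_iff hc, map_sub, MvPolynomial.eval_C, sub_self]
  rw [Groth.Agent.CommAlg4.JacobianModel.nonsingular_iff hmax, hmap,
    Groth.Agent.CommAlg4.JacobianModel.rank_map_of_bijective hbij]
  have hadd := Groth.Agent.CommAlg4.JacobianModel.finrank_tangent_add_rank (c := c) (g := g)
  rw [← hJ] at hadd
  constructor
  · intro hfull
    have h1 := Groth.Agent.CommAlg4.JacobianCrit.finrank_tangent_le_one hc hker hfull
    have h2 := Groth.Agent.CommAlg4.JacobianModel.one_le_finrank_tangent hK hc hker hfull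
    rw [← hg] at h1 h2
    omega
  · intro hrk
    exact Groth.Agent.CommAlg4.JacobianCrit.full_of_finrank_le_one hc hker hfrac (by rw [← hg]; omega)

end Groth.Agent.S11071
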