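import Groth.Statements.S11072
import Groth.Agent.FF.PlanePoint

set_option autoImplicit false
open FunFld

namespace Groth.Agent.S11072

open Groth.Agent.FF


/-- Over an algebraically closed constant field, a plane curve with defining irreducible homogeneous
polynomial `f` and birational natural map `φ = (φ₀ : φ₁ : φ₂)` is singular at the point `a = φ(P)`
(coordinates `(φᵢ/φⱼ)(P)` for an entry `φⱼ` of least order at `P`, read in the residue field) if and
only if `∂f/∂Xᵢ(a) = 0` for `i = 0, 1, 2`. Here `φ` is nonsingular at `P` when its local ring there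
(quotients of polynomials over `k` in the `φᵢ/φⱼ` with denominator a unit at `P`) is the whole
valuation ring. -/
theorem result (k K : Type*) [Field k] [IsAlgClosed k] [Field K] [Algebra k K]
    (hK : FunFld.IsFunctionField k K) (φ : Fin 3 → K)
    (hφ : LinearIndependent k φ)
    (hbir : IntermediateField.adjoin k (Set.range fun i => φ i / φ 0) = ⊤)
    (f : MvPolynomial (Fin 3) k) (hf : Irreducible f) (hhom : f.IsHomogeneous f.totalDegree)
    (hfφ : MvPolynomial.aeval φ f = 0) (P : FunFld.Place k K) (j : Fin 3)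
    (hj : ∀ i, P.1 (φ i) ≤ P.1 (φ j)) (a : Fin 3 → P.O) (ha : ∀ i, ((a i : P.O) : K) = φ i / φ j) :
    ¬ FunFld.IsNonsingularAt φ P ↔
      ∀ l : Fin 3, MvPolynomial.aeval (fun i => IsLocalRing.residue P.O (a i))
        (MvPolynomial.pderiv l f) = 0 := by
  have hne : φ 0 ≠ 0 := hφ.ne_zero 0
  have hM : IsMax φ P j := ⟨fun e => hne ((map_eq_zero P.1).mp (le_antisymm (by
    have := hj 0
    rwa [e, map_zero] at this) zero_le)), hj⟩
  obtain ⟨g, hx, hy, hgen, hrel, hker, hd, heuler, hrat⟩ := plane_chart_data hK hbir hf hhom hfφ hM hne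
  rw [isNonsingularAt_iff_locFull hM hrat, locFull_iff_gradient hK hx hy hgen hrel hker, not_not, hd 0, hd 1]
  have hres : ∀ l, MvPolynomial.aeval (fun i => IsLocalRing.residue P.O (a i)) (MvPolynomial.pderiv l f) = 0 ↔
      P.1 (MvPolynomial.aeval (fun i => φ i / φ j) (MvPolynomial.pderiv l f)) < 1 := by
    intro l
    rw [(residue_aeval_eq a _).1, residue_eq_zero_iff, (residue_aeval_eq a _).2]
    simp only [ha]
  simp only [hres]
  have hle : ∀ l, P.1 (φ l / φ j) ≤ 1 := fun l => by rw [map_div₀, div_le_one₀ hM.pos]; exact hM.2 l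
  refine ⟨fun h l => ?_, fun h => ⟨h _, h _⟩⟩
  rcases Fin.eq_self_or_eq_succAbove j l with rfl | ⟨i, rfl⟩
  · rw [Fin.sum_univ_succAbove _ l, Fin.sum_univ_two, div_self hM.1, one_mul] at heuler
    rw [eq_neg_of_add_eq_zero_left heuler, P.1.map_neg]
    refine P.1.map_add_lt ?_ ?_ <;> rw [map_mul]
    · exact (mul_le_of_le_one_left' (hle _)).trans_lt h.1
    · exact (mul_le_of_le_one_left' (hle _)).trans_lt h.2
  · fin_cases i
    · exact h.1
    · exact h.2

end Groth.Agent.S11072
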