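import Groth.Statements.S11074
import Groth.Agent.FF.PlanePoint

set_option autoImplicit false
open FunFld

namespace Groth.Agent.S11074

open Groth.Agent.FF


/-- Over an algebraically closed constant field, at a nonsingular point `a = φ(P)` of a plane curve
`V(f)` with birational natural map `φ = (φ₀ : φ₁ : φ₂)`, the tangent line is `(∂f/∂X₀(a) : ∂f/∂X₁(a)
: ∂f/∂X₂(a))`: the corresponding linear form, pulled back along `φ` normalized at `P`, vanishes to
order at least `2` at `P` (the tangent line being the one line whose pullback vanishes to order `≥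
2`). Nonsingular at `P` means that the local ring of `φ` at `P` (quotients of polynomials over `k`
in the `φᵢ/φⱼ`, `φⱼ` of least order at `P`, denominator a unit at `P`) is the whole valuation ring. -/
theorem result
    (k K : Type*) [Field k] [IsAlgClosed k] [Field K] [Algebra k K]
    (hK : FunFld.IsFunctionField k K) (φ : Fin 3 → K) (hφ : LinearIndependent k φ)
    (hbir : IntermediateField.adjoin k (Set.range fun i => φ i / φ 0) = ⊤)
    (f : MvPolynomial (Fin 3) k) (hf : Irreducible f) (hhom : f.IsHomogeneous f.totalDegree)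
    (hfφ : MvPolynomial.aeval φ f = 0) (P : FunFld.Place k K) (j : Fin 3)
    (hj : ∀ i, P.1 (φ i) ≤ P.1 (φ j)) (hns : FunFld.IsNonsingularAt φ P) (a : Fin 3 → P.O)
    (ha : ∀ i, ((a i : P.O) : K) = φ i / φ j) (c : Fin 3 → k)
    (hc : ∀ i, algebraMap k (IsLocalRing.ResidueField P.O) (c i) =
      MvPolynomial.aeval (fun l => IsLocalRing.residue P.O (a l)) (MvPolynomial.pderiv i f)) :
    P.1 (∑ i, c i • (φ i / φ j)) ≤ WithZero.exp (-2) := by
  have hne : φ 0 ≠ 0 := hφ.ne_zero 0
  have hM : IsMax φ P j := ⟨fun e => hne ((map_eq_zero P.1).mp (le_antisymm (by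
    have := hj 0
    rwa [e, map_zero] at this) zero_le)), hj⟩
  obtain ⟨g, hx, hy, hgen, hrel, -, hd, heuler, -⟩ := plane_chart_data hK hbir hf hhom hfφ hM hne
  obtain ⟨a0, ha0⟩ := exists_const_near hK P hx
  obtain ⟨b0, hb0⟩ := exists_const_near hK P hy
  have hcl : ∀ l, P.1 (MvPolynomial.aeval (fun i => φ i / φ j) (MvPolynomial.pderiv l f) - algebraMap k K (c l)) < 1 := by
    intro l
    have h := hc l
    rw [(residue_aeval_eq a _).1] at h
    have h' : IsLocalRing.residue P.O (MvPolynomial.aeval a (MvPolynomial.pderiv l f) - algebraMap k P.O (c l)) = 0 := by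
      rw [map_sub, ← h]; exact sub_self _
    rw [residue_eq_zero_iff] at h'
    rw [show (fun i => φ i / φ j) = fun i => ((a i : P.O) : K) from funext fun i => (ha i).symm]
    rw [← (residue_aeval_eq a _).2]
    exact h'
  have hT := val_tangent_le ha0 hb0 hrel (ca := c (j.succAbove 0)) (cb := c (j.succAbove 1))
    (by rw [hd 0]; exact hcl _) (by rw [hd 1]; exact hcl _)
  have hk : c j + c (j.succAbove 0) * a0 + c (j.succAbove 1) * b0 = 0 := by
    by_contra hcon
    have hlt : P.1 (algebraMap k K (c j + c (j.succAbove 0) * a0 + c (j.succAbove 1) * b0)) < 1 := by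
      rw [Fin.sum_univ_succAbove _ j, Fin.sum_univ_two, div_self hM.1, one_mul] at heuler
      set x := φ (j.succAbove 0) / φ j
      set y := φ (j.succAbove 1) / φ j
      set F := fun l => MvPolynomial.aeval (fun i => φ i / φ j) (MvPolynomial.pderiv l f)
      have key : ∀ (s p : K) (t q : k), P.1 s ≤ 1 → P.1 (s - algebraMap k K t) < 1 → P.1 (p - algebraMap k K q) < 1 →
          P.1 (s * p - algebraMap k K (q * t)) < 1 := by
        intro s p t q h0 h1 h2
        rw [show s * p - algebraMap k K (q * t) = s * (p - algebraMap k K q) + algebraMap k K q * (s - algebraMap k K t) by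
          rw [map_mul]; ring]
        refine P.1.map_add_lt ?_ ?_ <;> rw [map_mul]
        · exact (mul_le_of_le_one_left' h0).trans_lt h2
        · exact (mul_le_of_le_one_left' (P.2.1 q)).trans_lt h1
      rw [show algebraMap k K (c j + c (j.succAbove 0) * a0 + c (j.succAbove 1) * b0) =
        -((F j - algebraMap k K (c j)) + (x * F (j.succAbove 0) - algebraMap k K (c (j.succAbove 0) * a0)) +
          (y * F (j.succAbove 1) - algebraMap k K (c (j.succAbove 1) * b0))) by
        simp only [F, map_add]; linear_combination heuler, P.1.map_neg]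
      exact P.1.map_add_lt (P.1.map_add_lt (hcl j) (key _ _ _ _ hx ha0 (hcl _))) (key _ _ _ _ hy hb0 (hcl _))
    rw [val_algebraMap P hcon] at hlt
    exact lt_irrefl _ hlt
  refine le_of_eq_of_le (congrArg P.1 ?_) hT
  rw [Fin.sum_univ_succAbove _ j, Fin.sum_univ_two, div_self hM.1, show c j = -(c (j.succAbove 0) * a0 + c (j.succAbove 1) * b0) by linear_combination hk]
  simp only [Algebra.smul_def, map_add, map_mul, map_neg, mul_one]
  ring

end Groth.Agent.S11074
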