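import Groth.Statements.S11075
import Groth.Agent.FF.LocRing

set_option autoImplicit false
open FunFld

namespace Groth.Agent.S11075

/-- Over an algebraically closed constant field, let `φ = (φ₀, …, φₙ)`, `n ≥ 1`, be a projective map
onto the curve `V`. (a) A homogeneous `g` not vanishing identically on `V` vanishes at the image
point of only finitely many places (so a closed set not containing `V` meets `V` in a finite set);
(b) each fibre of `φ` is finite. Here `g` vanishes at `φ(P)` when `g(φ₀/φⱼ, …, φₙ/φⱼ)` lies in the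
maximal ideal of `P` for an entry `φⱼ` of least order at `P`. Two places have the same image point
when some entry `φⱼ` has least order at both and each `φᵢ/φⱼ` is congruent to one constant modulo
both maximal ideals. -/
theorem result (k K : Type*) [Field k] [IsAlgClosed k] [Field K] [Algebra k K]
    (hK : FunFld.IsFunctionField k K) {n : ℕ} (hn : 1 ≤ n)
    (φ : Fin (n + 1) → K) (hφ : LinearIndependent k φ) :
    (∀ g : MvPolynomial (Fin (n + 1)) k, g.IsHomogeneous g.totalDegree →
      MvPolynomial.aeval φ g ≠ 0 →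
        {P : FunFld.Place k K | ∃ j, φ j ≠ 0 ∧ (∀ i, P.1 (φ i) ≤ P.1 (φ j)) ∧
          P.1 (MvPolynomial.aeval (fun i => φ i / φ j) g) < 1}.Finite) ∧
    ∀ P : FunFld.Place k K, {Q : FunFld.Place k K | FunFld.SameImage φ P Q}.Finite := by
  classical
  have hne : ∀ i, φ i ≠ 0 := fun i => hφ.ne_zero i
  refine ⟨fun g hg hg0 => ?_, fun P => ?_⟩
  · refine ((Finset.univ : Finset (Fin (n + 1))).finite_toSet.biUnion fun j _ =>
      Groth.Agent.FF.finite_support_ord hK (MvPolynomial.aeval φ g / φ j ^ g.totalDegree)).subset ?_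
    rintro P ⟨j, -, -, hlt⟩
    have e : MvPolynomial.aeval (fun i => φ i / φ j) g = MvPolynomial.aeval φ g / φ j ^ g.totalDegree := by
      rw [MvPolynomial.aeval_def, MvPolynomial.aeval_def, MvPolynomial.eval₂_eq', MvPolynomial.eval₂_eq',
        Finset.sum_div]
      refine Finset.sum_congr rfl fun d hd => ?_
      have hdeg : ∑ i, d i = g.totalDegree := by
        rw [← hg (MvPolynomial.mem_support_iff.mp hd), Finsupp.weight_apply, Finsupp.sum_fintype] <;> simp
      simp_rw [div_pow]
      rw [Finset.prod_div_distrib, Finset.prod_pow_eq_pow_sum, hdeg, mul_div_assoc]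
    rw [e] at hlt
    refine Set.mem_biUnion (Finset.mem_coe.mpr (Finset.mem_univ j)) ?_
    exact ((Groth.Agent.FF.val_lt_one_iff P (div_ne_zero hg0 (pow_ne_zero _ (hne j)))).mp hlt).ne'
  · obtain ⟨j, hj⟩ := Groth.Agent.FF.exists_isMax ⟨0, hne 0⟩ P
    have : Nontrivial (Fin (n + 1)) := Fin.nontrivial_iff_two_le.mpr (by omega)
    obtain ⟨i, hi⟩ := exists_ne j
    obtain ⟨c, hc⟩ := Groth.Agent.FF.exists_const_near hK P
      (hj.val_le_one (Algebra.subset_adjoin ⟨i, rfl⟩))
    have hz0 : φ i / φ j - algebraMap k K c ≠ 0 := fun e => by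
      rw [sub_eq_zero, div_eq_iff (hne j), ← Algebra.smul_def] at e
      have h1 := linearIndependent_iff'.mp hφ {i, j} (fun l => if l = i then (1 : k) else -c)
        (by rw [Finset.sum_pair hi]; simp only [if_true, if_neg (Ne.symm hi)]; rw [one_smul, neg_smul, e, add_neg_cancel])
        i (Finset.mem_insert_self _ _)
      rw [if_pos rfl] at h1
      exact one_ne_zero h1
    refine (Groth.Agent.FF.finite_support_ord hK (φ i / φ j - algebraMap k K c)).subset fun Q hQ => ?_
    have hloc := Groth.Agent.FF.inLocRing_of_mem hj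
      (sub_mem (Algebra.subset_adjoin ⟨i, rfl⟩) (Subalgebra.algebraMap_mem _ c))
    exact ((Groth.Agent.FF.val_lt_one_iff Q hz0).mp
      ((Groth.Agent.FF.sameImage_locRing hQ hloc).2.mpr hc)).ne'

end Groth.Agent.S11075
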