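import Groth.Statements.S11076
import Groth.Agent.FF.LocRing

set_option autoImplicit false
open FunFld

namespace Groth.Agent.S11076

/-- Over an algebraically closed constant field, a projective curve (given by a birational projective
map `φ = (φ₀, …, φₙ)`, `n ≥ 1`) is nonsingular at the point `a = φ(P)` if and only if some
hyperplane `∑ cᵢ Xᵢ` has intersection multiplicity `1` with it at `a`: the sum over the places `Q`
of the fibre of `a` of `[φ](Q) + ord_Q(∑ cᵢ φᵢ)` is `1`. Nonsingular at `P` means that the local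
ring of `φ` at `P` (quotients of polynomials over `k` in the `φᵢ/φⱼ`, `φⱼ` of least order at `P`,
denominator a unit at `P`) is the whole valuation ring. Two places have the same image point when
some entry `φⱼ` has least order at both and each `φᵢ/φⱼ` is congruent to one constant modulo both
maximal ideals. -/
theorem result (k K : Type*) [Field k] [IsAlgClosed k] [Field K] [Algebra k K]
    (hK : FunFld.IsFunctionField k K) {n : ℕ} (hn : 1 ≤ n)
    (φ : Fin (n + 1) → K) (hφ : LinearIndependent k φ)
    (hbir : IntermediateField.adjoin k (Set.range fun i => φ i / φ 0) = ⊤)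
    (P : FunFld.Place k K) :
    FunFld.IsNonsingularAt φ P ↔ ∃ c : Fin (n + 1) → k, ∑ i, c i • φ i ≠ 0 ∧
      ∑ᶠ Q ∈ {Q : FunFld.Place k K | FunFld.SameImage φ P Q},
        ((FunFld.mapDiv k φ) Q + Q.ord (∑ i, c i • φ i)) = 1 := by
  classical
  have hne : ∀ i, φ i ≠ 0 := fun i => hφ.ne_zero i
  have hmem : ∀ c : Fin (n + 1) → k, ∑ i, c i • φ i ∈ Submodule.span k (Set.range φ) := fun c =>
    Submodule.sum_mem _ fun i _ => Submodule.smul_mem _ _ (Submodule.subset_span ⟨i, rfl⟩)
  have hnn : ∀ (s : K), s ∈ Submodule.span k (Set.range φ) → s ≠ 0 → ∀ Q : Place k K, 0 ≤ mapDiv k φ Q + Q.ord s :=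
    fun s hs h0 Q => (Groth.Agent.FF.val_le_exp_iff Q h0).mp (Groth.Agent.FF.val_le_of_mem_span' hK Q hs)
  rw [Groth.Agent.FF.isNonsingularAt_iff hK hne P]
  constructor
  · rintro ⟨h, s, hs, hsv⟩
    obtain ⟨c, hc⟩ := (Submodule.mem_span_range_iff_exists_fun k).mp hs
    have hs0 : s ≠ 0 := fun e => by rw [e, map_zero] at hsv; exact WithZero.exp_ne_zero hsv.symm
    refine ⟨c, hc ▸ hs0, ?_⟩
    have hset : {Q : Place k K | SameImage φ P Q} = {P} :=
      Set.ext fun Q => ⟨h Q, fun hQ => hQ ▸ Groth.Agent.FF.sameImage_refl hK ⟨0, hne 0⟩ P⟩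
    rw [hset, finsum_mem_singleton, hc]
    rw [Groth.Agent.FF.val_eq_exp_neg_ord P hs0, WithZero.exp_inj] at hsv
    omega
  · rintro ⟨c, hs0, hsum⟩
    set s := ∑ i, c i • φ i with hsdef
    set S := {Q : Place k K | SameImage φ P Q} with hS
    have hPS : P ∈ S := Groth.Agent.FF.sameImage_refl hK ⟨0, hne 0⟩ P
    have hf := hnn s (hmem c) hs0
    have hpos : ∀ Q ∈ S, (0 < mapDiv k φ Q + Q.ord s ↔ 0 < mapDiv k φ P + P.ord s) := by
      intro Q hQ
      obtain ⟨j, hj0, hjP, hjQ, hc⟩ := id (show SameImage φ P Q from hQ)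
      have hz := (Groth.Agent.FF.sameImage_locRing hQ (Groth.Agent.FF.inLocRing_of_mem ⟨hj0, hjP⟩
        (Groth.Agent.FF.div_mem_ratioAlg j (hmem c)))).2
      rw [map_div₀, map_div₀, Groth.Agent.FF.isMax_val hK hne (P := P) ⟨hj0, hjP⟩,
        Groth.Agent.FF.isMax_val hK hne (P := Q) ⟨hj0, hjQ⟩, div_lt_one₀ WithZero.exp_pos,
        div_lt_one₀ WithZero.exp_pos, Groth.Agent.FF.val_eq_exp_neg_ord P hs0,
        Groth.Agent.FF.val_eq_exp_neg_ord Q hs0, WithZero.exp_lt_exp, WithZero.exp_lt_exp] at hz
      constructor <;> intro h <;> [have := hz.mp (by omega); have := hz.mpr (by omega)] <;> omega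
    have hfin : S.Finite := by
      by_contra hinf
      rcases lt_or_ge 0 (mapDiv k φ P + P.ord s) with hp | hp
      · apply hinf
        refine ((mapDiv k φ).support.finite_toSet.union (Groth.Agent.FF.finite_support_ord hK s)).subset fun Q hQ => ?_
        have := (hpos Q hQ).mpr hp
        simp only [Set.mem_union, Finset.mem_coe, Finsupp.mem_support_iff, Function.mem_support]
        omega
      · have hz : ∀ Q ∈ S, mapDiv k φ Q + Q.ord s = 0 := fun Q hQ => by
          have := hpos Q hQ; have := hf Q; omega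
        rw [finsum_mem_eq_zero_of_forall_eq_zero hz] at hsum
        exact zero_ne_one hsum
    rw [finsum_mem_eq_finite_toFinset_sum _ hfin] at hsum
    have hP1 : 0 < mapDiv k φ P + P.ord s := by
      by_contra hp
      rw [Finset.sum_eq_zero fun Q hQ => ?_] at hsum
      · exact zero_ne_one hsum
      · have := hpos Q (hfin.mem_toFinset.mp hQ); have := hf Q; omega
    have hle : ∀ T : Finset (Place k K), (∀ Q ∈ T, Q ∈ S) → ∑ Q ∈ T, (mapDiv k φ Q + Q.ord s) ≤ 1 := fun T hT =>
      hsum ▸ Finset.sum_le_sum_of_subset_of_nonneg (fun Q hQ => hfin.mem_toFinset.mpr (hT Q hQ))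
        fun Q _ _ => hf Q
    refine ⟨fun Q hQ => ?_, s, hmem c, ?_⟩
    · by_contra hQP
      have := hle {P, Q} (by
        intro R hR
        rcases Finset.mem_insert.mp hR with rfl | hR
        · exact hPS
        · rw [Finset.mem_singleton] at hR; exact hR ▸ hQ)
      rw [Finset.sum_pair (Ne.symm hQP)] at this
      have := (hpos Q hQ).mpr hP1
      omega
    · have := hle {P} (by intro R hR; rw [Finset.mem_singleton] at hR; exact hR ▸ hPS)
      rw [Finset.sum_singleton] at this
      rw [Groth.Agent.FF.val_eq_exp_neg_ord P hs0, WithZero.exp_inj]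
      omega

end Groth.Agent.S11076
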