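import Groth.Statements.S11077
import Groth.Agent.CommAlg4.PlaneIntersect
-- import your own Groth.Agent.* helpers here

set_option autoImplicit false
set_option backward.isDefEq.respectTransparency false
open FunFld

namespace Groth.Agent.S11077

/-- Over an algebraically closed constant field, for a plane curve `V(f)` with natural map `(1 : x :
y)`, a polynomial `g` not vanishing on the curve and a finite point `a = (c₀, c₁)` of the curve
below the place `P`, the intersection multiplicity of `V(g)` with the curve at `a` (the sum of
`ord_Q g(x, y)` over the places `Q` with image point `a`) equals `dim_k A/(f, g)` with `A` the local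
ring of the plane at `a`. Two places have the same image point when some entry of `(1, x, y)` has
least order at both and the ratios are congruent to common constants modulo both maximal ideals. -/
theorem result
    (k K : Type*) [Field k] [IsAlgClosed k] [Field K] [Algebra k K]
    (hK : FunFld.IsFunctionField k K) (x y : K)
    (hxy : IntermediateField.adjoin k ({x, y} : Set K) = ⊤) (f g : MvPolynomial (Fin 2) k)
    (hf : Irreducible f) (hfxy : MvPolynomial.aeval ![x, y] f = 0)
    (hgxy : MvPolynomial.aeval ![x, y] g ≠ 0) (P : FunFld.Place k K) (c : Fin 2 → k)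
    (hc : ∀ i, P.1 (![x, y] i - algebraMap k K (c i)) < 1)
    (M : Ideal (MvPolynomial (Fin 2) k)) [M.IsMaximal]
    (hM : M = Ideal.span {MvPolynomial.X 0 - MvPolynomial.C (c 0),
      MvPolynomial.X 1 - MvPolynomial.C (c 1)}) :
    ∑ᶠ Q ∈ {Q : FunFld.Place k K | FunFld.SameImage ![(1 : K), x, y] P Q},
        Q.ord (MvPolynomial.aeval ![x, y] g) =
      (Module.finrank k (Localization.AtPrime M ⧸
        Ideal.map (algebraMap (MvPolynomial (Fin 2) k) (Localization.AtPrime M))
          (Ideal.span {f, g})) : ℤ) := by
  classical
  open Groth.Agent.CommAlg4.PlaneIntersect in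
  have hker := Groth.Agent.FF.ker_eq_span x y (Groth.Agent.FF.exists_not_range_of_adjoin hK hxy) hf hfxy
  have hPF : P ∈ fibre x y c := hc
  have hfin := finite_fibre (c := c) hK hxy
  have hset : {Q : FunFld.Place k K | FunFld.SameImage ![(1 : K), x, y] P Q} = ↑hfin.toFinset := by
    ext Q
    rw [Set.Finite.coe_toFinset]
    exact sameImage_iff hK hPF Q
  have hMc : ∀ G, MvPolynomial.eval c G ≠ 0 ↔ G ∉ M := by
    have hle : M ≤ RingHom.ker (MvPolynomial.eval c) := by
      rw [hM, Ideal.span_le]
      rintro z (rfl | rfl) <;> simp
    have heq : M = RingHom.ker (MvPolynomial.eval c) :=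
      Ideal.IsMaximal.eq_of_le (by assumption) (RingHom.ker_ne_top _) hle
    intro G
    rw [heq, RingHom.mem_ker]
  obtain ⟨e⟩ := nonempty_quotient_equiv (f := f) (g := g) hPF hker M hMc
  have hlen := relLen_locA_eq (c := c) hK hxy hfin.toFinset (fun Q => hfin.mem_toFinset) hgxy
  have hne : Module.length k (↥(locA x y c) ⧸ ((locA x y c).map
      (LinearMap.mulLeft k (MvPolynomial.aeval ![x, y] g))).comap (locA x y c).subtype) ≠ ⊤ := by
    rw [show Module.length k _ = _ from hlen]
    exact ENat.coe_ne_top _
  have : Module.Finite k (↥(locA x y c) ⧸ ((locA x y c).map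
      (LinearMap.mulLeft k (MvPolynomial.aeval ![x, y] g))).comap (locA x y c).subtype) := by
    have hfl := Module.length_ne_top_iff.mp hne
    haveI := (isFiniteLength_iff_isNoetherian_isArtinian.mp hfl).1
    infer_instance
  rw [e.finrank_eq, hset, finsum_mem_coe_finset]
  unfold relLen at hlen
  rw [Module.length_eq_finrank, Nat.cast_inj] at hlen
  rw [hlen, Nat.cast_sum]
  refine Finset.sum_congr rfl fun Q hQ => (Int.toNat_of_nonneg ?_).symm
  have h1 := (val_eq_one_iff (hfin.mem_toFinset.mp hQ) g).1
  rw [Groth.Agent.FF.val_eq_exp_neg_ord Q hgxy, ← WithZero.exp_zero, WithZero.exp_le_exp] at h1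
  omega

end Groth.Agent.S11077
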