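import Groth.Statements.S11079
import Groth.Agent.GalCoh.Speiser

set_option autoImplicit false
universe u
open CAlg

namespace Groth.Agent.S11079

/-- Let L/K be a finite Galois extension of fields, n a natural number, and B a map from the Galois
group of L over K to the invertible n × n matrices over L such that B(σ) · σ(B(τ)) = B(στ) for all
σ, τ, where σ acts on matrices entrywise and στ is the automorphism applying τ first. Then there is
an invertible matrix A over L with B(σ) = A⁻¹ · σ(A) for every σ; that is, every 1-cocycle of the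
Galois group with values in GL_n(L) is a coboundary. -/
theorem result (K L : Type u) [Field K] [Field L]
    [Algebra K L] [FiniteDimensional K L] [IsGalois K L] (n : ℕ)
    (B : (L ≃ₐ[K] L) → GL (Fin n) L)
    (hB : ∀ σ τ : L ≃ₐ[K] L,
      (B σ : Matrix (Fin n) (Fin n) L) * (B τ : Matrix (Fin n) (Fin n) L).map σ = (B (σ * τ) : Matrix (Fin n) (Fin n) L)) :
    ∃ A : GL (Fin n) L, ∀ σ : L ≃ₐ[K] L,
      (B σ : Matrix (Fin n) (Fin n) L) = ((A⁻¹ : GL (Fin n) L) : Matrix (Fin n) (Fin n) L) * (A : Matrix (Fin n) (Fin n) L).map σ := by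
  obtain ⟨A, hA⟩ := GalCoh.exists_GL_eq_mul_map K L n B hB
  refine ⟨A⁻¹, fun σ => ?_⟩
  rw [inv_inv]
  have h1 : (A : Matrix (Fin n) (Fin n) L).map σ * ((A⁻¹ : GL (Fin n) L) : Matrix (Fin n) (Fin n) L).map σ = 1 := by
    have := map_mul ((σ : L →ₐ[K] L).toRingHom.mapMatrix) (A : Matrix (Fin n) (Fin n) L) ((A⁻¹ : GL (Fin n) L) : Matrix (Fin n) (Fin n) L)
    rw [Units.mul_inv, map_one] at this
    exact this.symm
  conv_rhs => rw [← hA σ, Matrix.mul_assoc, h1, Matrix.mul_one]

end Groth.Agent.S11079
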