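import Groth.Statements.S11084
import Groth.Agent.CAlgH3.ValSubrings
-- import your own Groth.Agent.* helpers here

set_option autoImplicit false
universe u
open CAlg

namespace Groth.Agent.S11084

/-- Let k be a field and O a valuation subring of the field of rational functions k(x). Then O contains
the constants k and is different from k(x) if and only if O is the valuation ring of the P-adic
valuation at a nonzero prime P of the polynomial ring k[x], or O is the valuation ring of the
valuation at infinity (given by the degree). (The published statement has k algebraically closed, so
that these valuation rings correspond to the points of the projective line; the published proof does
not use that k is algebraically closed. The published statement also asserts that distinct points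
give distinct valuation rings, which this row does not state, and counts k(x) itself among the
valuation rings containing k; this row excludes it.) -/
theorem result (k : Type u) [Field k] [DecidableEq (RatFunc k)]
    (O : ValuationSubring (RatFunc k)) :
    ((algebraMap k (RatFunc k)).range ≤ O.toSubring ∧ O ≠ ⊤) ↔
      ((∃ v : IsDedekindDomain.HeightOneSpectrum (Polynomial k), O = (v.valuation (RatFunc k)).valuationSubring) ∨
        O = (RatFunc.inftyValuation k).valuationSubring) := by
  exact Groth.Agent.CAlgH3.ValSubrings.ratFunc_iff k O

end Groth.Agent.S11084
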