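import Groth.Statements.S4271
import Mathlib
import Groth.Agent.CAlgH3.AmpleCodimOne
import Groth.Agent.CAlgH3.RegularCore
import Groth.Agent.CAlgH3.Factorial
import Groth.Agent.KLLib.Basic
import Groth.Agent.AlgSpLib.AffineComplCartier
import Groth.Agent.FlatMor12.IdealModGen
import Groth.Agent.VarietyLib.Dual

set_option autoImplicit false
set_option backward.isDefEq.respectTransparency false
universe u
open CategoryTheory CategoryTheory.Limits AlgebraicGeometry
attribute [local instance] HasDerivedCategory.standard
open KSix

namespace Groth.Agent.S4271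

/-- The published statement asserts that a separated regular Noetherian scheme is divisorial; stated
here in the following form: a quasi-compact locally Noetherian scheme all of whose local rings are
regular and whose affine opens have pairwise affine intersections (affine diagonal) admits an ample
family of invertible modules. -/
theorem result (X : Scheme.{u}) [CompactSpace X] [IsLocallyNoetherian X]
    (hreg : ∀ x : X, IsRegularLocalRing (X.presheaf.stalk x))
    (hdiag : ∀ U V : X.Opens, IsAffineOpen U → IsAffineOpen V → IsAffineOpen (U ⊓ V)) : MoreMor.HasAmpleFamily X := by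
  haveI : IsNoetherian X := { }
  haveI : QuasiSeparatedSpace X := by
    rw [quasiSeparatedSpace_iff_forall_affineOpens]
    intro A B
    exact (hdiag A.1 B.1 A.2 B.2).isCompact
  refine Groth.Agent.FlatMor12.AmpleFamily.hasAmpleFamily_of fun x => ?_
  obtain ⟨U, hU, hxU, hgens⟩ := Groth.Agent.CAlgH3.AmpleOne.exists_affine_mem_gens x
  obtain ⟨-, hex⟩ := Groth.Agent.CAlgH3.AmpleOne.finite_gens_and_exists (X := X) isClosed_univ
  have hdense : Dense (U : Set X) := fun y => by
    obtain ⟨η, hη, hηy⟩ := hex y trivial
    exact closure_mono (Set.singleton_subset_iff.2 (hgens hη)) (specializes_iff_mem_closure.1 hηy)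
  have hufd : ∀ y : X, y ∉ U → IsDomain (X.presheaf.stalk y) ∧ UniqueFactorizationMonoid (X.presheaf.stalk y) := fun y _ => by
    haveI := hreg y
    haveI := Groth.Agent.CAlgH3.isDomain_of_isRegularLocalRing (X.presheaf.stalk y)
    exact ⟨inferInstance, Groth.Agent.CAlgH3.ufm_of_regular _⟩
  have hI := Groth.Agent.AlgSpLib.isEffCartier_vanishingIdeal_compl hdiag hU hdense hufd
  have hinv := Groth.Agent.FlatMor12.IdealModGen.isInvertible_idealMod _ hI
  obtain ⟨M, ⟨e⟩⟩ := Groth.Agent.VarietyLib.exists_isInverseOf hinv
  have hM : PicF.IsInvertible M := Groth.Agent.PicLib.PicM.isInvertible_of_tensor hinv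
    (Groth.Agent.KLLib.isInvertible_of_iso e.symm Groth.Agent.AmpleLib.isInvertible_structureModule)
  obtain ⟨σ, hσ⟩ := Groth.Agent.FlatMor12.IdealModGen.exists_section_of_effCartier _ hI hM
    ⟨Groth.Agent.AmpleLib.tensorComm _ _ ≪≫ e⟩
  refine ⟨U, ⟨M, σ, hM, TopologicalSpace.Opens.ext ?_⟩, hxU, hU⟩
  simp [hσ]

end Groth.Agent.S4271
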