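import Groth.Statements.S11090
import Groth.Agent.AbVarLib.KernelQuot
import Groth.Agent.WeilLib.Geom
import Mathlib.AlgebraicGeometry.AlgClosed.Basic
open CategoryTheory MonoidalCategory CartesianMonoidalCategory MonObj GrpObj

set_option autoImplicit false
universe u
open CategoryTheory CategoryTheory.Limits MonoidalCategory CartesianMonoidalCategory MonObj GrpObj AlgebraicGeometry
open AbVar

namespace Groth.Agent.S11090

/-- Let k be an algebraically closed field and E, E′, E″ elliptic curves over k, i.e. group schemes over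
Spec k whose underlying schemes are proper, smooth, integral and one-dimensional. Let φ : E → E′ be
a homomorphism which is finite, surjective and étale (a separable isogeny) and ψ : E → E″ a
homomorphism such that every k-valued point of E sent to the unit by φ is sent to the unit by ψ.
Then there is a unique homomorphism ρ : E′ → E″ with ψ = ρ ∘ φ. (The published statement prints ψ as
a map from E″ to E and calls it an isogeny; its proof treats ψ as a map from E to E″, as here, and
this row allows any homomorphism ψ, the extra case of trivial ψ being immediate.) -/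
theorem result (k : Type u) [Field k] [IsAlgClosed k]
    (E E' E'' : Over (Spec (CommRingCat.of k)))
    [GrpObj E] [IsProper E.hom] [Smooth E.hom] [IsIntegral E.left] (hE : topologicalKrullDim E.left = 1)
    [GrpObj E'] [IsProper E'.hom] [Smooth E'.hom] [IsIntegral E'.left] (hE' : topologicalKrullDim E'.left = 1)
    [GrpObj E''] [IsProper E''.hom] [Smooth E''.hom] [IsIntegral E''.left] (hE'' : topologicalKrullDim E''.left = 1)
    (φ : E ⟶ E') [IsMonHom φ] [IsFinite φ.left] [Surjective φ.left] [Etale φ.left]
    (ψ : E ⟶ E'') [IsMonHom ψ]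
    (hker : ∀ P : 𝟙_ (Over (Spec (CommRingCat.of k))) ⟶ E, P ≫ φ = η[E'] → P ≫ ψ = η[E'']) :
    ∃! ρ : E' ⟶ E'', IsMonHom ρ ∧ φ ≫ ρ = ψ := by
  let N : Over (Spec (CommRingCat.of k)) := Limits.pullback φ η[E']
  let i : N ⟶ E := Limits.pullback.fst _ _
  have hN : AlgGrp.IsKernel i φ := by
    have h := IsPullback.of_hasPullback φ η[E']
    rwa [toUnit_unique (Limits.pullback.snd φ η[E']) (toUnit _)] at h
  have := Groth.Agent.AbVarLib.isFinite_kernel φ i hN
  have hh := Groth.Agent.AbVarLib.kernel_of φ i @Etale hN inferInstance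
  have := Groth.Agent.WeilLib.isReduced_of_smooth N.hom
  refine Groth.Agent.AbVarLib.existsUnique_lift_of_kernel φ i hN ψ ?_
  apply Over.OverMorphism.ext
  have : LocallyOfFiniteType ((i ≫ ψ).left ≫ E''.hom) := by rw [Over.w (i ≫ ψ)]; infer_instance
  refine ext_of_apply_eq E''.hom Set.univ isOpen_univ.isLocallyClosed dense_univ (fun z _ hz => ?_)
    (by rw [Over.w (i ≫ ψ), Over.w (1 : N ⟶ E'')])
  let z' : 𝟙_ (Over (Spec (CommRingCat.of k))) ⟶ N :=
    Over.homMk (pointOfClosedPoint N.hom z hz) (pointOfClosedPoint_comp N.hom z hz)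
  have h1 : z' ≫ i ≫ ψ = z' ≫ (1 : N ⟶ E'') := by
    rw [← Category.assoc, hker (z' ≫ i) (by rw [Category.assoc, hN.w, ← Category.assoc,
      toUnit_unique (z' ≫ toUnit N) (𝟙 _), Category.id_comp]), MonObj.comp_one, Hom.one_def,
      toUnit_unique (toUnit (𝟙_ (Over (Spec (CommRingCat.of k))))) (𝟙 _), Category.id_comp]
  have h2 : (z' ≫ i ≫ ψ).left (IsLocalRing.closedPoint k) = (z' ≫ (1 : N ⟶ E'')).left (IsLocalRing.closedPoint k) := by
    rw [h1]
  rw [Over.comp_left, Over.comp_left, Scheme.Hom.comp_apply, Scheme.Hom.comp_apply] at h2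
  change (i ≫ ψ).left (pointOfClosedPoint N.hom z hz _) = (1 : N ⟶ E'').left (pointOfClosedPoint N.hom z hz _) at h2
  simpa [pointOfClosedPoint_apply] using h2

end Groth.Agent.S11090
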