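import Groth.Statements.S11093
import Groth.Agent.EtRamLib.ASNormalForm
import Groth.Agent.EtRamLib.ASMain
import Groth.Agent.CAlgH3.CompleteDedekindExt
import Groth.Agent.CAlgH.ParaLocalization
-- import your own Groth.Agent.* helpers here

set_option autoImplicit false
set_option linter.style.haveILetI false
universe u
attribute [local instance] FractionRing.liftAlgebra
open CAlg

namespace Groth.Agent.S11093

/-- Second assertion: (Artin–Schreier normal form): let K be a perfect field of characteristic p > 0, A
= K[[t]] the power series ring with fraction field F, and B a Dedekind domain which is a finite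
torsion-free A-algebra whose fraction field E is Galois of degree p over F and totally ramified:
some maximal ideal of B has ramification index p over A. Then there are x in E generating E over F
and α in F with x^p − x + α = 0, where α = a / t^m for a power series a with nonzero constant term
and a positive integer m not divisible by p. -/
theorem result (p : ℕ) [Fact p.Prime] (K : Type u) [Field K]
    [CharP K p] [PerfectField K] (B : Type u) [CommRing B] [IsDedekindDomain B]
    [Algebra (PowerSeries K) B] [Module.Finite (PowerSeries K) B] [Module.IsTorsionFree (PowerSeries K) B]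
    [IsGalois (FractionRing (PowerSeries K)) (FractionRing B)]
    (hdeg : Module.finrank (FractionRing (PowerSeries K)) (FractionRing B) = p)
    (M : Ideal B) [M.IsMaximal] (hram : M.ramificationIdx (PowerSeries K) = p) :
    ∃ x : FractionRing B, ∃ m : ℕ, ∃ a : PowerSeries K,
      IntermediateField.adjoin (FractionRing (PowerSeries K)) {x} = ⊤ ∧ 0 < m ∧ ¬ p ∣ m ∧
      PowerSeries.constantCoeff a ≠ 0 ∧
      x ^ p - x + algebraMap (FractionRing (PowerSeries K)) (FractionRing B)
        (algebraMap (PowerSeries K) (FractionRing (PowerSeries K)) a /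
          algebraMap (PowerSeries K) (FractionRing (PowerSeries K)) (PowerSeries.X ^ m)) = 0 := by
  classical
  have hp : p.Prime := Fact.out
  let A := PowerSeries K
  let F := FractionRing A
  let E := FractionRing B
  haveI : FaithfulSMul A B := inferInstance
  have hX : Irreducible (PowerSeries.X : A) := PowerSeries.X_irreducible
  haveI : CharP F p := by
    haveI : CharP A p := charP_of_injective_ringHom (PowerSeries.C_injective (R := K)) p
    exact charP_of_injective_algebraMap (IsFractionRing.injective A F) p
  haveI : CharP E p := charP_of_injective_algebraMap (algebraMap F E).injective p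
  haveI : ExpChar E p := ExpChar.prime hp
  haveI : PerfectRing K p := by
    haveI : ExpChar K p := ExpChar.prime hp
    exact PerfectField.toPerfectRing p
  have hperf : ∀ a : A, ∃ r : A, IsLocalRing.residue A a = IsLocalRing.residue A r ^ p := by
    intro a
    obtain ⟨c, hc⟩ := surjective_frobenius K p (PowerSeries.constantCoeff a)
    refine ⟨PowerSeries.C c, ?_⟩
    rw [← map_pow]
    refine (Ideal.Quotient.eq).2 ?_
    show a - PowerSeries.C c ^ p ∈ IsLocalRing.maximalIdeal A
    rw [PowerSeries.maximalIdeal_eq_span_X, Ideal.mem_span_singleton, PowerSeries.X_dvd_iff, map_sub, map_pow,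
      PowerSeries.constantCoeff_C, ← frobenius_def, hc, sub_self]
  obtain ⟨y, ξ, hy, hgen⟩ := EtRamLib.ASWeak.exists_generator p hp F E hdeg
  obtain ⟨h, hh⟩ := EtRamLib.ASForm.reduce_perfect p hp (K := F) hX hperf ξ
  let x : E := y - algebraMap F E h
  have hx : x ^ p - x = algebraMap F E (ξ - (h ^ p - h)) := by
    rw [map_sub, map_sub, map_pow, ← hy, sub_pow_expChar]
    ring
  have hgenx : IntermediateField.adjoin F {x} = ⊤ := by
    rw [eq_top_iff, ← hgen, IntermediateField.adjoin_simple_le_iff]
    have := IntermediateField.add_mem _ (IntermediateField.mem_adjoin_simple_self F x)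
      ((IntermediateField.adjoin F {x}).algebraMap_mem h)
    rwa [sub_add_cancel] at this
  rcases hh with ⟨a, ha⟩ | ⟨j, u, hj, hju⟩
  swap
  · refine ⟨x, j, -(u : A), hgenx, Nat.pos_of_ne_zero (fun h0 => hj (h0 ▸ dvd_zero p)), hj, ?_, ?_⟩
    · rw [map_neg, neg_ne_zero]
      exact (u.isUnit.map PowerSeries.constantCoeff).ne_zero
    · have hX0 : algebraMap A F (PowerSeries.X ^ j) ≠ 0 :=
        IsFractionRing.to_map_ne_zero_of_mem_nonZeroDivisors (mem_nonZeroDivisors_of_ne_zero (pow_ne_zero _ hX.ne_zero))
      rw [map_pow] at hX0
      rw [hx, ← map_add, map_neg, map_pow, ← hju, neg_div, mul_div_cancel_right₀ _ hX0, add_neg_cancel, map_zero]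
  exfalso
  -- integral right-hand side: the extension would be unramified
  haveI : IsAdicComplete (IsLocalRing.maximalIdeal A) A := CAlgH.RS.isAdicComplete_powerSeries K
  obtain ⟨_, hM⟩ := CAlgH3.CompleteDedekindExt.eq_maximal (A := A) M
  haveI : IsDiscreteValuationRing B :=
    { not_a_field' := hM ▸ CAlgH3.CompleteDedekindExt.ne_bot (A := A) M }
  haveI := CAlgH3.CompleteDedekindExt.liesOver (A := A) M
  let f : Polynomial A := Polynomial.X ^ p - Polynomial.X - Polynomial.C a
  have hf : f.Monic := by
    refine Polynomial.Monic.sub_of_left ((Polynomial.monic_X_pow p).sub_of_left ?_) ?_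
    · rw [Polynomial.degree_X, Polynomial.degree_X_pow]; exact_mod_cast hp.one_lt
    · rw [Polynomial.degree_sub_eq_left_of_degree_lt (by rw [Polynomial.degree_X, Polynomial.degree_X_pow]; exact_mod_cast hp.one_lt),
        Polynomial.degree_X_pow]
      exact Polynomial.degree_C_le.trans_lt (by exact_mod_cast hp.pos)
  haveI : CharP (IsLocalRing.ResidueField A) p := EtRamLib.ASWeak.charP_residue p hp A F (IsFractionRing.injective A F)
  have hsep : (f.map (IsLocalRing.residue A)).Separable := by
    simp only [f, Polynomial.map_sub, Polynomial.map_pow, Polynomial.map_X, Polynomial.map_C]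
    rw [Polynomial.separable_def]
    rw [Polynomial.derivative_sub, Polynomial.derivative_sub, Polynomial.derivative_X_pow, Polynomial.derivative_X,
      Polynomial.derivative_C, CharP.cast_eq_zero, Polynomial.C_0, zero_mul, zero_sub, sub_zero]
    exact isCoprime_one_right.neg_right
  have hz : Polynomial.aeval x f = 0 := by
    simp only [f, map_sub, map_pow, Polynomial.aeval_X, Polynomial.aeval_C]
    rw [hx, ha, ← IsScalarTower.algebraMap_apply, sub_self]
  have hunr := EtRamLib.DegP.unramified (K := F) hX f hf hsep hz hgenx
  let V : ValuationSubring E :=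
    ValuationSubring.ofSubring (algebraMap B E).range fun e => by
      rcases ValuationRing.isInteger_or_isInteger B e with ⟨b, hb⟩ | ⟨b, hb⟩
      · exact Or.inl ⟨b, hb⟩
      · exact Or.inr ⟨b, hb⟩
  let e : B ≃+* V := RingEquiv.ofBijective (algebraMap B E).rangeRestrict
    ⟨fun c d hcd => IsFractionRing.injective B E (congrArg Subtype.val hcd), (algebraMap B E).rangeRestrict_surjective⟩
  have hmem : ∀ c : A, algebraMap A E c ∈ V := fun c =>
    ⟨algebraMap A B c, (IsScalarTower.algebraMap_apply A B E c).symm⟩
  have hinM : ∀ c ∈ IsLocalRing.maximalIdeal A, algebraMap A B c ∈ M := fun c hc => (M.mem_of_liesOver _ c).1 hc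
  letI : Algebra A V := (RingHom.codRestrict (algebraMap A E) V.toSubring hmem).toAlgebra
  have hcomp : ∀ c : A, algebraMap A V c = e (algebraMap A B c) := fun c =>
    Subtype.ext (IsScalarTower.algebraMap_apply A B E c)
  have hmaxV : ∀ c ∈ IsLocalRing.maximalIdeal A, algebraMap A V c ∈ IsLocalRing.maximalIdeal V := fun c hc => by
    rw [hcomp, IsLocalRing.mem_maximalIdeal, mem_nonunits_iff, MulEquiv.isUnit_map, ← mem_nonunits_iff,
      ← IsLocalRing.mem_maximalIdeal, ← hM]
    exact hinM c hc
  have hdom : EtRam.Dominates A (algebraMap A E) V :=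
    ⟨hmem, fun c hc => (V.valuation_lt_one_iff (algebraMap A V c)).1 (hmaxV c hc)⟩
  haveI : IsLocalHom (algebraMap A V) := ⟨fun c hc => by
    by_contra hcu
    exact (IsLocalRing.mem_maximalIdeal _).1 (hmaxV c ((IsLocalRing.mem_maximalIdeal c).2 hcu)) hc⟩
  have hw : (IsLocalRing.maximalIdeal A).map (algebraMap A V) = IsLocalRing.maximalIdeal V := (hunr V hdom).1
  have hB : (IsLocalRing.maximalIdeal A).map (algebraMap A B) = M := by
    refine le_antisymm (Ideal.map_le_iff_le_comap.2 hinM) fun m hm => ?_
    have h1 : e m ∈ IsLocalRing.maximalIdeal V := by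
      rw [IsLocalRing.mem_maximalIdeal, mem_nonunits_iff, MulEquiv.isUnit_map, ← mem_nonunits_iff,
        ← IsLocalRing.mem_maximalIdeal, ← hM]
      exact hm
    rw [← hw, show algebraMap A V = (e : B →+* V).comp (algebraMap A B) from RingHom.ext hcomp, ← Ideal.map_map] at h1
    have h2 := Ideal.apply_coe_mem_map e ((IsLocalRing.maximalIdeal A).map (algebraMap A B))
    obtain ⟨m', hm', he⟩ := (Ideal.mem_map_iff_of_surjective (e : B →+* V) e.surjective).1 h1
    rwa [← e.injective he]
  rw [CAlgH3.CompleteDedekindExt.map_eq_pow (A := A) M, hram] at hB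
  have := Ideal.pow_right_strictAnti M (CAlgH3.CompleteDedekindExt.ne_bot (A := A) M)
    (Ideal.IsPrime.ne_top inferInstance) hp.one_lt
  simp only [pow_one] at this
  exact this.ne hB

end Groth.Agent.S11093
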