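import Groth.Statements.S15003
import Groth.Agent.S10881
import Groth.Agent.FibreDeg5.Alg
import Mathlib.AlgebraicGeometry.FunctionField
import Mathlib.AlgebraicGeometry.Morphisms.FormallyUnramified

set_option autoImplicit false
set_option linter.style.haveILetI false
universe u
open CategoryTheory CategoryTheory.Limits AlgebraicGeometry
open Harb

namespace Groth.Agent.S15003

/-- Let k be an algebraically closed field and let π : Y → X be a finite, surjective and unramified
k-morphism of smooth varieties over k (X and Y integral, separated and of finite type over k with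
all local rings regular) which sends the generic point of Y to the generic point of X, so that the
function field k(X) embeds in k(Y). Then for every closed point p of X the fibre π⁻¹(p) consists of
exactly deg π points, where deg π = [k(Y) : k(X)] is the degree of that field extension. -/
theorem result (k : Type u) [Field k] [IsAlgClosed k]
    (X Y : Scheme.{u}) [X.Over (Spec (CommRingCat.of k))] [Y.Over (Spec (CommRingCat.of k))]
    [IsIntegral X] [IsIntegral Y]
    [IsSeparated (X ↘ (Spec (CommRingCat.of k)))] [LocallyOfFiniteType (X ↘ (Spec (CommRingCat.of k)))]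
    [QuasiCompact (X ↘ (Spec (CommRingCat.of k)))]
    [IsSeparated (Y ↘ (Spec (CommRingCat.of k)))] [LocallyOfFiniteType (Y ↘ (Spec (CommRingCat.of k)))]
    [QuasiCompact (Y ↘ (Spec (CommRingCat.of k)))]
    (hregX : ∀ x : X, IsRegularLocalRing (X.presheaf.stalk x))
    (hregY : ∀ y : Y, IsRegularLocalRing (Y.presheaf.stalk y))
    (π : Y ⟶ X) (hπ : π ≫ (X ↘ (Spec (CommRingCat.of k))) = (Y ↘ (Spec (CommRingCat.of k))))
    [AlgebraicGeometry.IsFinite π] [AlgebraicGeometry.Surjective π] [AlgebraicGeometry.FormallyUnramified π]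
    (e : π.base (genericPoint Y) = genericPoint X) (p : X) (hp : IsClosed ({p} : Set X)) :
    Nat.card {q : Y // π.base q = p} =
      Models.homDegree (X.presheaf.stalkSpecializes (specializes_of_eq e) ≫ π.stalkMap (genericPoint Y)).hom := by
  classical
  haveI : IsLocallyNoetherian X :=
    LocallyOfFiniteType.isLocallyNoetherian (X ↘ (Spec (CommRingCat.of k)))
  haveI : IsLocallyNoetherian Y :=
    LocallyOfFiniteType.isLocallyNoetherian (Y ↘ (Spec (CommRingCat.of k)))
  haveI : Flat π := Groth.Agent.S10881.result π hregY hregX (by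
    intro Z hZ
    rw [irreducibleComponents_eq_singleton, Set.mem_singleton_iff] at hZ ⊢
    subst hZ
    refine Set.eq_univ_of_univ_subset ?_
    rw [← (genericPoint_spec X).def]
    exact closure_mono (Set.singleton_subset_iff.2 ⟨genericPoint Y, trivial, e⟩))
  obtain ⟨U, hU, hpU, -⟩ := exists_isAffineOpen_mem_and_subset (x := p) (U := ⊤) trivial
  have hV : IsAffineOpen (π ⁻¹ᵁ U) := hU.preimage π
  haveI : Nonempty U := ⟨⟨p, hpU⟩⟩
  obtain ⟨y, hy⟩ := π.surjective p
  haveI : Nonempty (π ⁻¹ᵁ U : Y.Opens) := ⟨⟨y, by show π.base y ∈ U; rw [hy]; exact hpU⟩⟩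
  haveI : IsFractionRing Γ(X, U) X.functionField := functionField_isFractionRing_of_isAffineOpen X U hU
  haveI : IsFractionRing Γ(Y, π ⁻¹ᵁ U) Y.functionField :=
    functionField_isFractionRing_of_isAffineOpen Y _ hV
  letI := (π.app U).hom.toAlgebra
  haveI : Module.Finite Γ(X, U) Γ(Y, π ⁻¹ᵁ U) := π.finite_app U hU
  haveI : Module.Flat Γ(X, U) Γ(Y, π ⁻¹ᵁ U) := by
    have := HasRingHomProperty.appLE @Flat π ‹_› ⟨U, hU⟩ ⟨_, hV⟩ le_rfl
    rw [← Scheme.Hom.app_eq_appLE] at this
    exact this
  haveI : Algebra.FormallyUnramified Γ(X, U) Γ(Y, π ⁻¹ᵁ U) := by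
    have := HasRingHomProperty.appLE @FormallyUnramified π ‹_› ⟨U, hU⟩ ⟨_, hV⟩ le_rfl
    rw [← Scheme.Hom.app_eq_appLE] at this
    exact this
  let φ : k →+* Γ(X, U) := ((Scheme.ΓSpecIso (CommRingCat.of k)).inv ≫
    (X ↘ (Spec (CommRingCat.of k))).appLE ⊤ U le_top).hom
  letI := φ.toAlgebra
  haveI : Algebra.FiniteType k Γ(X, U) := by
    have h1 := HasRingHomProperty.appLE @LocallyOfFiniteType (X ↘ (Spec (CommRingCat.of k))) ‹_›
      ⟨⊤, isAffineOpen_top _⟩ ⟨U, hU⟩ le_top
    exact RingHom.FiniteType.comp h1 (RingHom.FiniteType.of_surjective _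
      (Scheme.ΓSpecIso (CommRingCat.of k)).commRingCatIsoToRingEquiv.symm.surjective)
  let P := hU.primeIdealOf ⟨p, hpU⟩
  have hP : hU.fromSpec P = p := hU.fromSpec_primeIdealOf ⟨p, hpU⟩
  have hPmax : P.asIdeal.IsMaximal := by
    refine (PrimeSpectrum.isClosed_singleton_iff_isMaximal P).1 ?_
    have : ({P} : Set (Spec Γ(X, U))) = hU.fromSpec.base ⁻¹' {p} := by
      ext Q
      constructor
      · rintro rfl; exact hP
      · intro h
        exact hU.fromSpec.isOpenEmbedding.injective (h.trans hP.symm)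
    change IsClosed ({P} : Set (Spec Γ(X, U)))
    erw [this]
    exact hp.preimage hU.fromSpec.continuous
  have hcomm : ∀ q : Spec Γ(Y, π ⁻¹ᵁ U),
      π.base (hV.fromSpec q) = hU.fromSpec (PrimeSpectrum.comap (algebraMap _ _) q) := fun q => by
    have h1 := hU.SpecMap_appLE_fromSpec π hV le_rfl
    rw [← Scheme.Hom.app_eq_appLE] at h1
    exact (congrArg (fun f => f.base q) h1).symm
  let E : {q : Spec Γ(Y, π ⁻¹ᵁ U) // PrimeSpectrum.comap (algebraMap _ _) q = P} → {q : Y // π.base q = p} :=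
    fun q => ⟨hV.fromSpec q.1, by rw [hcomm, q.2, hP]⟩
  have hinjV : ∀ a b : Spec Γ(Y, π ⁻¹ᵁ U), hV.fromSpec a = hV.fromSpec b → a = b :=
    fun a b h => hV.fromSpec.isOpenEmbedding.injective h
  have hE : Function.Bijective E := by
    refine ⟨fun a b h => ?_, fun q => ?_⟩
    · have h1 := congrArg Subtype.val h
      exact Subtype.ext (hinjV _ _ h1)
    have hq : (q.1 : Y) ∈ π ⁻¹ᵁ U := by show π.base q.1 ∈ U; rw [q.2]; exact hpU
    refine ⟨⟨hV.primeIdealOf ⟨q.1, hq⟩, hU.fromSpec.isOpenEmbedding.injective ?_⟩,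
      Subtype.ext (hV.fromSpec_primeIdealOf ⟨q.1, hq⟩)⟩
    rw [← hcomm, hV.fromSpec_primeIdealOf ⟨q.1, hq⟩, hP]
    exact q.2
  refine (Nat.card_eq_of_bijective E hE).symm.trans
    ((FibreDeg5.natCard_fibre k Γ(X, U) Γ(Y, π ⁻¹ᵁ U) P hPmax).trans ?_)
  let ψ := (X.presheaf.stalkSpecializes (specializes_of_eq e) ≫ π.stalkMap (genericPoint Y)).hom
  letI : Algebra X.functionField Y.functionField := ψ.toAlgebra
  letI : Algebra Γ(X, U) Y.functionField :=
    ((algebraMap Γ(Y, π ⁻¹ᵁ U) Y.functionField).comp (algebraMap Γ(X, U) Γ(Y, π ⁻¹ᵁ U))).toAlgebra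
  haveI : IsScalarTower Γ(X, U) Γ(Y, π ⁻¹ᵁ U) Y.functionField := .of_algebraMap_eq fun _ => rfl
  haveI : IsScalarTower Γ(X, U) X.functionField Y.functionField := .of_algebraMap_eq fun a => by
    show (π.app U ≫ Y.germToFunctionField (π ⁻¹ᵁ U)).hom a =
      (X.germToFunctionField U ≫ X.presheaf.stalkSpecializes (specializes_of_eq e) ≫
        π.stalkMap (genericPoint Y)).hom a
    congr 2
    have h := TopCat.Presheaf.germ_stalkSpecializes (F := X.presheaf) (U := U)
      (hy := ((genericPoint_spec X).mem_open_set_iff U.isOpen).mpr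
        (by simpa using (inferInstance : Nonempty U))) (specializes_of_eq e)
    show π.app U ≫ Y.presheaf.germ _ _ _ = X.presheaf.germ _ _ _ ≫ _ ≫ _
    rw [← Category.assoc, h, Scheme.Hom.germ_stalkMap]
  exact (IsFractionRing.finrank_eq Γ(X, U) X.functionField Γ(Y, π ⁻¹ᵁ U) Y.functionField).symm

end Groth.Agent.S15003
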