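import Groth.Statements.S11094
import Groth.Agent.S15003
import Groth.Agent.AbVarLib.CurveDisjointDivisor
import Groth.Agent.VarietyLib.SmoothStalk

set_option autoImplicit false
universe u
open CategoryTheory CategoryTheory.Limits MonoidalCategory CartesianMonoidalCategory MonObj GrpObj AlgebraicGeometry
open AbVar

namespace Groth.Agent.S11094

section GenericMap

variable {X Y Z : Scheme.{u}} [IsIntegral X] [IsIntegral Y] [IsIntegral Z]

/-- The map of function fields of a map preserving generic points. -/
noncomputable def gmap (f : X ⟶ Y) (e : f (genericPoint X) = genericPoint Y) : Y.functionField ⟶ X.functionField :=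
  Y.presheaf.stalkSpecializes (specializes_of_eq e) ≫ f.stalkMap (genericPoint X)

theorem SpecMap_gmap (f : X ⟶ Y) (e : f (genericPoint X) = genericPoint Y) :
    Spec.map (gmap f e) ≫ Y.fromSpecStalk (genericPoint Y) = X.fromSpecStalk (genericPoint X) ≫ f := by
  rw [gmap, Spec.map_comp, Category.assoc, Scheme.SpecMap_stalkSpecializes_fromSpecStalk,
    Scheme.SpecMap_stalkMap_fromSpecStalk]

theorem gmap_unique (f : X ⟶ Y) (e : f (genericPoint X) = genericPoint Y) (σ : Y.functionField ⟶ X.functionField)
    (h : Spec.map σ ≫ Y.fromSpecStalk (genericPoint Y) = X.fromSpecStalk (genericPoint X) ≫ f) : σ = gmap f e :=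
  Spec.map_injective ((cancel_mono (Y.fromSpecStalk (genericPoint Y))).1 (h.trans (SpecMap_gmap f e).symm))

/-- An endomorphism over the base fixes the function field of the base. -/
theorem gmap_over (f : X ⟶ Y) (e : f (genericPoint X) = genericPoint Y) (τ : X ⟶ X)
    (eτ : τ (genericPoint X) = genericPoint X) (h : τ ≫ f = f) : gmap f e ≫ gmap τ eτ = gmap f e :=
  gmap_unique f e _ (by rw [Spec.map_comp, Category.assoc, SpecMap_gmap, ← Category.assoc, SpecMap_gmap,
    Category.assoc, h])

/-- Maps to a separated scheme with the same map of function fields coincide. -/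
theorem eq_of_gmap_eq (q : Y ⟶ Z) [IsSeparated q] (f g : X ⟶ Y) (ef : f (genericPoint X) = genericPoint Y)
    (eg : g (genericPoint X) = genericPoint Y) (hq : f ≫ q = g ≫ q) (h : gmap f ef = gmap g eg) : f = g := by
  letI : Y.Over Z := ⟨q⟩
  haveI : IsSeparated (Y ↘ Z) := ‹IsSeparated q›
  haveI : IsDominant (X.fromSpecStalk (genericPoint X)) := by
    refine ⟨fun z => ?_⟩
    have hz : genericPoint X ∈ Set.range (X.fromSpecStalk (genericPoint X)) := by
      rw [Scheme.range_fromSpecStalk]
      exact specializes_rfl
    exact closure_mono (Set.singleton_subset_iff.2 hz) (((genericPoint_spec X).specializes trivial).mem_closure)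
  refine ext_of_isDominant_of_isSeparated (Y ↘ Z) hq (X.fromSpecStalk (genericPoint X)) ?_
  rw [← SpecMap_gmap f ef, ← SpecMap_gmap g eg, h]

end GenericMap


/-- Let k be an algebraically closed field, E and E′ elliptic curves over k — group schemes over Spec k
whose underlying schemes are proper, smooth, integral and one-dimensional — and φ : E → E′ a
homomorphism which is finite, surjective and étale (a separable isogeny), sending the generic point
of E to that of E′, so that the function field of E′ maps into the function field of E. Then the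
function field of E is a Galois extension of that of E′, and the number of its automorphisms over
the function field of E′ equals the number of k-valued points of E that φ sends to the unit of E′. -/
theorem result (k : Type u) [Field k] [IsAlgClosed k]
    (E E' : Over (Spec (CommRingCat.of k)))
    [GrpObj E] [IsProper E.hom] [Smooth E.hom] [IsIntegral E.left] (hE : topologicalKrullDim E.left = 1)
    [GrpObj E'] [IsProper E'.hom] [Smooth E'.hom] [IsIntegral E'.left] (hE' : topologicalKrullDim E'.left = 1)
    (φ : E ⟶ E') [IsMonHom φ] [IsFinite φ.left] [Surjective φ.left] [Etale φ.left]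
    (e : φ.left (genericPoint E.left) = genericPoint E'.left) :
    letI := ((E'.left.presheaf.stalkSpecializes (specializes_of_eq e) ≫
      φ.left.stalkMap (genericPoint E.left)).hom).toAlgebra
    IsGalois E'.left.functionField E.left.functionField ∧
      Nat.card (E.left.functionField ≃ₐ[E'.left.functionField] E.left.functionField) =
        Nat.card {P : 𝟙_ (Over (Spec (CommRingCat.of k))) ⟶ E // P ≫ φ = η[E']} := by
  classical
  letI := ((E'.left.presheaf.stalkSpecializes (specializes_of_eq e) ≫
      φ.left.stalkMap (genericPoint E.left)).hom).toAlgebra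
  haveI : IsSeparated E.hom := inferInstance
  let pt : Spec (CommRingCat.of k) := IsLocalRing.closedPoint k
  let K' := E'.left.functionField
  let K := E.left.functionField
  let Ker := {P : 𝟙_ (Over (Spec (CommRingCat.of k))) ⟶ E // P ≫ φ = η[E']}
  -- the number of rational points of the kernel is the degree
  letI : E'.left.Over (Spec (CommRingCat.of k)) := ⟨E'.hom⟩
  letI : E.left.Over (Spec (CommRingCat.of k)) := ⟨E.hom⟩
  haveI : IsSeparated (E'.left ↘ Spec (CommRingCat.of k)) := inferInstanceAs (IsSeparated E'.hom)
  haveI : LocallyOfFiniteType (E'.left ↘ Spec (CommRingCat.of k)) := inferInstanceAs (LocallyOfFiniteType E'.hom)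
  haveI : QuasiCompact (E'.left ↘ Spec (CommRingCat.of k)) := inferInstanceAs (QuasiCompact E'.hom)
  haveI : IsSeparated (E.left ↘ Spec (CommRingCat.of k)) := inferInstanceAs (IsSeparated E.hom)
  haveI : LocallyOfFiniteType (E.left ↘ Spec (CommRingCat.of k)) := inferInstanceAs (LocallyOfFiniteType E.hom)
  haveI : QuasiCompact (E.left ↘ Spec (CommRingCat.of k)) := inferInstanceAs (QuasiCompact E.hom)
  let p : E'.left := (η[E']).left.base pt
  have hp : IsClosed ({p} : Set E'.left) :=
    ((pointEquivClosedPoint E'.hom) ⟨(η[E']).left, Over.w η[E']⟩).2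
  have hcount := Groth.Agent.S15003.result k E'.left E.left
    (fun x => Groth.Agent.VarietyLib.isRegularLocalRing_stalk_of_smooth k E'.left E'.hom x)
    (fun x => Groth.Agent.VarietyLib.isRegularLocalRing_stalk_of_smooth k E.left E.hom x)
    φ.left (Over.w φ) e p hp
  have hclosed : ∀ q : E.left, φ.left.base q = p → IsClosed ({q} : Set E.left) := by
    intro q hq
    haveI := LocallyOfFiniteType.jacobsonSpace E.hom
    obtain ⟨U, hU, hUq⟩ := isDiscrete_iff_forall_exists_isOpen.1 (φ.left.isDiscrete_preimage_singleton p) q hq
    refine isClosed_singleton_of_isLocallyClosed_singleton ?_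
    rw [show ({q} : Set E.left) = U ∩ φ.left.base ⁻¹' {p} from hUq.symm]
    exact hU.isLocallyClosed.inter (hp.preimage φ.left.continuous).isLocallyClosed
  let toFib : Ker → {q : E.left // φ.left.base q = p} :=
    fun P => ⟨P.1.left.base pt, congrArg (fun f => f.left.base pt) P.2⟩
  have htoFib : Function.Bijective toFib := by
    refine ⟨fun P Q h => Subtype.ext (Groth.Agent.AbVarLib.ratPoint_ext P.1 Q.1 (congrArg Subtype.val h)),
      fun q => ?_⟩
    let r := (pointEquivClosedPoint E.hom).symm ⟨q.1, hclosed q.1 q.2⟩
    let P : 𝟙_ (Over (Spec (CommRingCat.of k))) ⟶ E := Over.homMk r.1 r.2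
    have hP : P.left.base pt = q.1 :=
      congrArg Subtype.val ((pointEquivClosedPoint E.hom).apply_symm_apply ⟨q.1, hclosed q.1 q.2⟩)
    refine ⟨⟨P, Groth.Agent.AbVarLib.ratPoint_ext _ _ ?_⟩, Subtype.ext hP⟩
    show φ.left.base (P.left.base pt) = _
    rw [hP, q.2]
  have hdeg : Nat.card Ker = Module.finrank K' K := (Nat.card_eq_of_bijective toFib htoFib).trans hcount
  have hη : η[E] ≫ φ = η[E'] := IsMonHom.one_hom φ
  have hfin : Finite {q : E.left // φ.left.base q = p} := (φ.left.finite_preimage_singleton p).to_subtype
  haveI : Finite Ker := Finite.of_injective toFib htoFib.1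
  have hpos : 0 < Module.finrank K' K := by
    rw [← hdeg]
    haveI : Nonempty Ker := ⟨⟨η[E], hη⟩⟩
    exact Nat.card_pos
  haveI : FiniteDimensional K' K := Module.finite_of_finrank_pos hpos
  -- translations by kernel points
  have hgen : ∀ P : Ker, (Groth.Agent.AbVarLib.rightTransl P.1).left (genericPoint E.left) = genericPoint E.left :=
    fun P => by
      haveI := Groth.Agent.AbVarLib.isIso_rightTransl P.1
      exact genericPoint_eq_of_isOpenImmersion _
  have hover : ∀ P : Ker, (Groth.Agent.AbVarLib.rightTransl P.1).left ≫ φ.left = φ.left := fun P => by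
    have h : Groth.Agent.AbVarLib.rightTransl P.1 ≫ φ = φ := by
      rw [Groth.Agent.AbVarLib.rightTransl, MonObj.mul_comp, Category.id_comp, Category.assoc, P.2,
        MonObj.one_eq_one, MonObj.comp_one, _root_.mul_one]
    rw [← Over.comp_left, h]
  let σ (P : Ker) : K →ₐ[K'] K :=
    { (gmap (Groth.Agent.AbVarLib.rightTransl P.1).left (hgen P)).hom with
      commutes' := fun a => congrArg (fun m => m.hom a)
        (gmap_over φ.left e (Groth.Agent.AbVarLib.rightTransl P.1).left (hgen P) (hover P)) }
  let act (P : Ker) : K ≃ₐ[K'] K :=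
    AlgEquiv.ofBijective (σ P) ((σ P).bijective)
  have hact : Function.Injective act := by
    intro P Q h
    have h1 : gmap (Groth.Agent.AbVarLib.rightTransl P.1).left (hgen P) =
        gmap (Groth.Agent.AbVarLib.rightTransl Q.1).left (hgen Q) := by
      ext a
      exact congrArg (fun g : K ≃ₐ[K'] K => g a) h
    have h2 : Groth.Agent.AbVarLib.rightTransl P.1 = Groth.Agent.AbVarLib.rightTransl Q.1 :=
      Over.OverMorphism.ext (eq_of_gmap_eq E.hom _ _ (hgen P) (hgen Q) (by rw [Over.w, Over.w]) h1)
    have h3 := congrArg (fun f => (1 : 𝟙_ (Over (Spec (CommRingCat.of k))) ⟶ E) ≫ f) h2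
    simp only [Groth.Agent.AbVarLib.comp_rightTransl, _root_.one_mul] at h3
    exact Subtype.ext h3
  have hle : Nat.card (K ≃ₐ[K'] K) ≤ Module.finrank K' K := by
    rw [Nat.card_eq_fintype_card]
    exact AlgEquiv.card_le
  have hge : Module.finrank K' K ≤ Nat.card (K ≃ₐ[K'] K) :=
    hdeg ▸ Nat.card_le_card_of_injective act hact
  exact ⟨IsGalois.of_card_aut_eq_finrank K' K (le_antisymm hle hge), (le_antisymm hle hge).trans hdeg.symm⟩

end Groth.Agent.S11094
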