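import Groth.Statements.S11095
import Groth.Agent.FF.Geometric
-- import your own Groth.Agent.* helpers here

set_option autoImplicit false
universe u
open CAlg

namespace Groth.Agent.S11095

/-- Let K₀ be a perfect field, K an algebraic extension of K₀ and F₀ a field extension of K₀ such that
K₀ is algebraically closed in F₀. Then the K₀-algebra F₀ ⊗ K is a field; consequently F₀ and K,
embedded in it by x ↦ x ⊗ 1 and y ↦ 1 ⊗ y, are linearly disjoint over K₀. -/
theorem result (K₀ F₀ K : Type u)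
    [Field K₀] [PerfectField K₀] [Field F₀] [Algebra K₀ F₀] [Field K] [Algebra K₀ K]
    [Algebra.IsAlgebraic K₀ K] (h : algebraicClosure K₀ F₀ = ⊥) :
    IsField (TensorProduct K₀ F₀ K) := by
  have hcl : ∀ y : F₀, IsAlgebraic K₀ y → y ∈ Set.range (algebraMap K₀ F₀) := fun y hy => by
    have hy' := mem_algebraicClosure_iff.2 hy
    rw [h] at hy'
    exact IntermediateField.mem_bot.1 hy'
  refine ⟨⟨0, 1, ?_⟩, mul_comm, fun {z} hz => ?_⟩
  · exact zero_ne_one
  obtain ⟨S, rfl⟩ := TensorProduct.exists_finset z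
  classical
  let K' := IntermediateField.adjoin K₀ ((S.image Prod.snd : Finset K) : Set K)
  haveI : FiniteDimensional K₀ K' := IntermediateField.finiteDimensional_adjoin fun x _ => (Algebra.IsAlgebraic.isAlgebraic x).isIntegral
  haveI : Algebra.IsAlgebraic K₀ K' := Algebra.IsAlgebraic.of_finite K₀ K'
  haveI : Algebra.IsSeparable K₀ K' := Algebra.IsAlgebraic.isSeparable_of_perfectField
  let ι := Algebra.TensorProduct.map (AlgHom.id K₀ F₀) K'.val
  let w : TensorProduct K₀ F₀ K' := ∑ p ∈ S.attach, p.1.1 ⊗ₜ[K₀]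
    (⟨p.1.2, IntermediateField.subset_adjoin K₀ _ (Finset.mem_image_of_mem Prod.snd p.2)⟩ : K')
  have hw : ι w = ∑ p ∈ S, p.1 ⊗ₜ[K₀] p.2 := by
    simp only [w, ι, map_sum, Algebra.TensorProduct.map_tmul, AlgHom.id_apply]
    exact Finset.sum_attach S fun p => p.1 ⊗ₜ[K₀] p.2
  have hw0 : w ≠ 0 := fun h0 => hz (by rw [← hw, h0, map_zero])
  obtain ⟨u, hu⟩ := (Groth.Agent.FF.isField_tensor_of_isSeparable hcl K').mul_inv_cancel hw0
  exact ⟨ι u, by rw [← hw, ← map_mul, hu, map_one]⟩


end Groth.Agent.S11095
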