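import Groth.Statements.S11097
import Mathlib.RingTheory.RegularLocalRing.Defs
import Mathlib.AlgebraicGeometry.EllipticCurve.Affine.Point
open WeierstrassCurve.Affine WeierstrassCurve.Affine.CoordinateRing

set_option autoImplicit false
universe u
open Polynomial
open Neron

namespace Groth.Agent.S11097

/-- Let R be a discrete valuation ring with maximal ideal m and let y² + a₁xy + a₃y = x³ + a₂x² + a₄x +
a₆ be a Weierstrass equation with coefficients in R such that a₃, a₄, a₆ ∈ m and a₆ ∉ m². Then the
affine scheme defined by the equation over R is regular at the point π = x = y = 0 of its special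
fibre: the localization of the coordinate ring at a maximal ideal containing the image of m and the
classes of x and y is a regular local ring. (The published statement asserts regularity of the
projective Weierstrass scheme; this row states it at the point π = x = y = 0 of the special fibre.) -/
theorem result (R : Type u) [CommRing R] [IsDomain R]
    [IsDiscreteValuationRing R] (W : WeierstrassCurve.Affine R)
    (h3 : W.a₃ ∈ IsLocalRing.maximalIdeal R) (h4 : W.a₄ ∈ IsLocalRing.maximalIdeal R)
    (h6 : W.a₆ ∈ IsLocalRing.maximalIdeal R) (h6' : W.a₆ ∉ IsLocalRing.maximalIdeal R ^ 2)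
    (P : Ideal W.CoordinateRing) [P.IsMaximal]
    (hP : ∀ r ∈ IsLocalRing.maximalIdeal R, algebraMap R W.CoordinateRing r ∈ P)
    (hx : WeierstrassCurve.Affine.CoordinateRing.mk W (C X) ∈ P)
    (hy : WeierstrassCurve.Affine.CoordinateRing.mk W X ∈ P) :
    IsRegularLocalRing (Localization.AtPrime P) := by
  classical
  obtain ⟨π, hπ⟩ := IsDiscreteValuationRing.exists_irreducible R
  have hm : IsLocalRing.maximalIdeal R = Ideal.span {π} := hπ.maximalIdeal_eq
  set A := W.CoordinateRing
  set L := Localization.AtPrime P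
  set xx : A := CoordinateRing.mk W (C X)
  set yy : A := CoordinateRing.mk W X
  let q : R → A := fun r => algebraMap R A r
  have hq : ∀ r, algebraMap R A r = CoordinateRing.mk W (C (C r)) := fun r => rfl
  set loc := algebraMap A L
  obtain ⟨u, hu⟩ : π ∣ W.a₆ := Ideal.mem_span_singleton.1 (hm ▸ h6)
  have huu : IsUnit u := by
    by_contra h
    apply h6'
    rw [sq, hu]
    exact Ideal.mul_mem_mul (hm ▸ Ideal.mem_span_singleton_self π) h
  set J : Ideal L := Ideal.span {loc xx, loc yy}
  have hxJ : loc xx ∈ J := Ideal.subset_span (by simp)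
  have hyJ : loc yy ∈ J := Ideal.subset_span (by simp)
  have heq : loc (algebraMap R A W.a₆) = (loc yy + loc (algebraMap R A W.a₁) * loc xx + loc (algebraMap R A W.a₃)) * loc yy
      - (loc xx ^ 2 + loc (algebraMap R A W.a₂) * loc xx + loc (algebraMap R A W.a₄)) * loc xx := by
    rw [← sub_eq_zero]
    have h0 : CoordinateRing.mk W
        (X ^ 2 + C (C W.a₁ * X + C W.a₃) * X - C (X ^ 3 + C W.a₂ * X ^ 2 + C W.a₄ * X + C W.a₆)) = 0 := by
      have hpoly : X ^ 2 + C (C W.a₁ * X + C W.a₃) * X - C (X ^ 3 + C W.a₂ * X ^ 2 + C W.a₄ * X + C W.a₆) = W.polynomial := by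
        rw [WeierstrassCurve.Affine.polynomial_eq, Cubic.toPoly, Cubic.toPoly, Cubic.toPoly]
        simp only [map_add, map_mul, map_neg, map_pow, map_one, map_zero]
        ring
      rw [hpoly]
      exact AdjoinRoot.mk_self
    simp only [map_add, map_sub, map_mul, map_pow] at h0
    have h1 := congrArg loc h0
    simp only [map_add, map_sub, map_mul, map_pow, map_zero] at h1
    simp only [hq]
    simp only [xx, yy] at *
    linear_combination -h1
  have hπJ : loc (algebraMap R A π) ∈ J := by
    have h : loc (algebraMap R A W.a₆) ∈ J := heq ▸ J.sub_mem (J.mul_mem_left _ hyJ) (J.mul_mem_left _ hxJ)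
    rw [hu, map_mul, map_mul] at h
    exact (Ideal.mul_unit_mem_iff_mem J ((huu.map (algebraMap R A)).map loc)).1 h
  have hmax : IsLocalRing.maximalIdeal L = J := by
    have hxP : loc xx ∈ IsLocalRing.maximalIdeal L := by
      rw [← Localization.AtPrime.map_eq_maximalIdeal]; exact Ideal.mem_map_of_mem _ hx
    have hyP : loc yy ∈ IsLocalRing.maximalIdeal L := by
      rw [← Localization.AtPrime.map_eq_maximalIdeal]; exact Ideal.mem_map_of_mem _ hy
    refine le_antisymm ?_ (Ideal.span_le.2 (by rintro a (rfl | rfl) <;> assumption))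
    rw [← Localization.AtPrime.map_eq_maximalIdeal, Ideal.map_le_iff_le_comap]
    intro a ha
    obtain ⟨p, r, hpr⟩ := exists_smul_basis_eq a
    rw [smul, smul, mul_one] at hpr
    set c := p.eval 0
    have hp : CoordinateRing.mk W (C p) - algebraMap R A c = xx * CoordinateRing.mk W (C p.divX) := by
      rw [hq, ← map_sub, ← map_mul, ← map_sub, ← map_mul, show c = p.coeff 0 from (Polynomial.coeff_zero_eq_eval_zero p).symm]
      congr 2
      conv_lhs => arg 1; rw [← Polynomial.X_mul_divX_add p]
      ring
    have hJ : loc a - loc (algebraMap R A c) ∈ J := by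
      rw [← map_sub, ← hpr, add_sub_right_comm, hp, map_add, map_mul, map_mul]
      exact J.add_mem (J.mul_mem_right _ hxJ) (J.mul_mem_left _ hyJ)
    have hcP : algebraMap R A c ∈ P := by
      have : algebraMap R A c = a - (xx * CoordinateRing.mk W (C p.divX) + CoordinateRing.mk W (C r) * yy) := by
        rw [← hp, ← hpr]; ring
      rw [this]
      exact P.sub_mem ha (P.add_mem (P.mul_mem_right _ hx) (P.mul_mem_left _ hy))
    have hc : c ∈ IsLocalRing.maximalIdeal R := fun hunit =>
      (inferInstance : P.IsMaximal).ne_top (Ideal.eq_top_of_isUnit_mem _ hcP (hunit.map _))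
    obtain ⟨c', hc'⟩ := Ideal.mem_span_singleton.1 (hm ▸ hc)
    rw [Ideal.mem_comap, ← sub_add_cancel (loc a) (loc (algebraMap R A c))]
    refine J.add_mem hJ ?_
    rw [hc', map_mul, map_mul]
    exact J.mul_mem_right _ hπJ
  have : IsDomain L := IsLocalization.isDomain_of_atPrime L P
  have : IsNoetherianRing L := IsLocalization.isNoetherianRing P.primeCompl L inferInstance
  refine IsRegularLocalRing.of_spanFinrank_maximalIdeal_le _ ?_
  have hle : (IsLocalRing.maximalIdeal L).spanFinrank ≤ 2 := by
    rw [hmax]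
    refine (Submodule.spanFinrank_span_le_ncard_of_finite (Set.toFinite _)).trans ?_
    exact (Set.ncard_insert_le _ _).trans (by simp)
  refine le_trans (Nat.cast_le.2 hle) ?_
  have hπinj : ∀ r : R, algebraMap R A r = 0 → r = 0 := fun r h =>
    FaithfulSMul.algebraMap_injective R A (h.trans (map_zero _).symm)
  set ϖ := loc (algebraMap R A π)
  have hϖ : ϖ ≠ 0 := fun h =>
    hπ.ne_zero (hπinj π ((IsLocalization.to_map_eq_zero_iff L P.primeCompl_le_nonZeroDivisors).1 h))
  -- a prime containing `π` which is not maximal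
  obtain ⟨Q, hQ, hQπ, hQne⟩ : ∃ Q : Ideal L, Q.IsPrime ∧ ϖ ∈ Q ∧ Q ≠ IsLocalRing.maximalIdeal L := by
    by_contra hcon
    push Not at hcon
    have hrad : loc xx ∈ (Ideal.span {ϖ}).radical := by
      rw [Ideal.radical_eq_sInf]
      refine Submodule.mem_sInf.2 ?_
      rintro Q ⟨hQle, hQp⟩
      rw [hcon Q hQp (hQle (Ideal.mem_span_singleton_self _)), hmax]
      exact hxJ
    obtain ⟨k, hk⟩ := hrad
    obtain ⟨t, ht⟩ := Ideal.mem_span_singleton.1 hk
    obtain ⟨⟨t', s⟩, hts⟩ := IsLocalization.surj P.primeCompl t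
    have h1 : loc (xx ^ k * (s : A)) = loc (algebraMap R A π * t') := by
      rw [map_mul, map_mul, map_pow, ht, mul_assoc, hts]
    have h2 : xx ^ k * (s : A) = algebraMap R A π * t' :=
      IsLocalization.injective L P.primeCompl_le_nonZeroDivisors h1
    obtain ⟨a, b, hab⟩ := exists_smul_basis_eq (s : A)
    obtain ⟨a', b', hab'⟩ := exists_smul_basis_eq t'
    have h3 : (X ^ k * a - C π * a') • (1 : A) + (X ^ k * b - C π * b') • CoordinateRing.mk W X = 0 := by
      rw [sub_smul, sub_smul, mul_smul, mul_smul, mul_smul, mul_smul]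
      have := h2
      rw [← hab, ← hab', hq, show xx ^ k = CoordinateRing.mk W (C (X ^ k)) from by rw [C_pow, map_pow]] at this
      rw [← smul, ← smul, smul_add, smul_add] at this
      linear_combination (norm := module) this
    obtain ⟨e1, e2⟩ := smul_basis_eq_zero h3
    have hdvd : ∀ g g' : R[X], X ^ k * g - C π * g' = 0 → C π ∣ g := by
      intro g g' hg
      rw [Polynomial.C_dvd_iff_dvd_coeff]
      intro i
      have := congrArg (fun p : R[X] => p.coeff (i + k)) (sub_eq_zero.1 hg)
      simp only [Polynomial.coeff_X_pow_mul, Polynomial.coeff_C_mul] at this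
      exact ⟨_, this⟩
    obtain ⟨a₁, ha₁⟩ := hdvd a a' e1
    obtain ⟨b₁, hb₁⟩ := hdvd b b' e2
    apply s.2
    rw [← hab, ha₁, hb₁, mul_smul, mul_smul, ← smul_add, smul, ← hq]
    exact P.mul_mem_right _ (hP π (hm ▸ Ideal.mem_span_singleton_self π))
  have h01 : (⟨⊥, Ideal.isPrime_bot⟩ : PrimeSpectrum L) < ⟨Q, hQ⟩ := by
    show (⊥ : Ideal L) < Q
    exact bot_lt_iff_ne_bot.2 fun h => hϖ (Ideal.mem_bot.1 (h ▸ hQπ))
  have h12 : (⟨Q, hQ⟩ : PrimeSpectrum L) < ⟨IsLocalRing.maximalIdeal L, inferInstance⟩ :=
    show Q < IsLocalRing.maximalIdeal L from lt_of_le_of_ne (IsLocalRing.le_maximalIdeal hQ.ne_top) hQne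
  exact Order.LTSeries.length_le_krullDim
    ⟨2, ![⟨⊥, Ideal.isPrime_bot⟩, ⟨Q, hQ⟩, ⟨IsLocalRing.maximalIdeal L, inferInstance⟩], fun i => by
      fin_cases i
      · exact h01
      · exact h12⟩

end Groth.Agent.S11097
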