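import Groth.Statements.S11100
import Groth.Agent.NeronLib.RegularSection
-- import your own Groth.Agent.* helpers here

set_option autoImplicit false
universe u
open CategoryTheory AlgebraicGeometry
open Neron

namespace Groth.Agent.S11100

/-- Let R be a Dedekind domain and p : X → Spec R flat and locally of finite presentation with X regular
(all local rings regular). Then every section s of p factors through the smooth locus of p: for
every point t of Spec R, p is smooth at s(t). (The published statement is for regular arithmetic
surfaces over a Dedekind domain with perfect residue fields; this row assumes only that X is flat,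
locally of finite presentation and regular.) -/
theorem result {R : Type u} [CommRing R] [IsDedekindDomain R]
    {X : Scheme.{u}} (p : X ⟶ Spec (CommRingCat.of R)) [Flat p] [LocallyOfFinitePresentation p]
    (hreg : ∀ x : X, IsRegularLocalRing (X.presheaf.stalk x))
    (s : Spec (CommRingCat.of R) ⟶ X) (hs : s ≫ p = 𝟙 _) (t : Spec (CommRingCat.of R)) :
    s.base t ∈ p.smoothLocus := by
  obtain ⟨_, ⟨V, hV, rfl⟩, hxV, -⟩ :=
    X.isBasis_affineOpens.exists_subset_of_mem_open (Set.mem_univ (s.base t)) isOpen_univ
  let A := Localization.AtPrime t.asIdeal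
  let g₀ : Spec (CommRingCat.of A) ⟶ Spec (CommRingCat.of R) :=
    Spec.map (CommRingCat.ofHom (algebraMap R A))
  have hg₀ : g₀ (IsLocalRing.closedPoint A) = t :=
    PrimeSpectrum.ext (Localization.AtPrime.under_maximalIdeal (I := t.asIdeal))
  let g := g₀ ≫ s
  have hgc : g (IsLocalRing.closedPoint A) = s.base t := by
    rw [Scheme.Hom.comp_apply, hg₀]
  have hrange : Set.range g ⊆ Set.range hV.fromSpec := by
    rw [IsAffineOpen.range_fromSpec]
    rintro _ ⟨y, rfl⟩
    exact ((IsLocalRing.specializes_closedPoint (y : PrimeSpectrum A)).map g.continuous).mem_open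
      V.2 (show g (IsLocalRing.closedPoint A) ∈ V from hgc ▸ hxV)
  let φ : CommRingCat.of R ⟶ Γ(X, V) := Spec.preimage (hV.fromSpec ≫ p)
  have hφ : Spec.map φ = hV.fromSpec ≫ p := Spec.map_preimage _
  let g' := IsOpenImmersion.lift hV.fromSpec g hrange
  let ε₀ : Γ(X, V) ⟶ CommRingCat.of A := Spec.preimage g'
  let : Algebra R Γ(X, V) := φ.hom.toAlgebra
  have hε : φ ≫ ε₀ = CommRingCat.ofHom (algebraMap R A) := by
    apply Spec.map_injective
    rw [Spec.map_comp, hφ, Spec.map_preimage, IsOpenImmersion.lift_fac_assoc]
    simp only [g, g₀, Category.assoc, hs, Category.comp_id]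
  let ε : Γ(X, V) →ₐ[R] A := { ε₀.hom with commutes' := fun r => congr($hε r) }
  have hfpS : LocallyOfFinitePresentation (Spec.map φ) := by rw [hφ]; infer_instance
  have hflS : Flat (Spec.map φ) := by rw [hφ]; infer_instance
  have : Algebra.FinitePresentation R Γ(X, V) :=
    (HasRingHomProperty.Spec_iff (P := @LocallyOfFinitePresentation) (φ := φ)).mp hfpS
  have : Module.Flat R Γ(X, V) := (HasRingHomProperty.Spec_iff (P := @Flat) (φ := φ)).mp hflS
  let q : PrimeSpectrum Γ(X, V) := g' (IsLocalRing.closedPoint A)
  have hq : q.asIdeal = (IsLocalRing.maximalIdeal A).comap ε.toRingHom := by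
    change (g' (IsLocalRing.closedPoint A)).asIdeal = _
    rw [show g' = Spec.map ε₀ from (Spec.map_preimage g').symm]
    rfl
  have hqx : hV.fromSpec q = s.base t := by
    rw [← hgc]
    exact congr($(IsOpenImmersion.lift_fac hV.fromSpec g hrange) (IsLocalRing.closedPoint A))
  have : IsRegularLocalRing (Localization.AtPrime q.asIdeal) := by
    have := hreg (hV.fromSpec q)
    have : IsRegularLocalRing ((Spec Γ(X, V)).presheaf.stalk q) :=
      IsRegularLocalRing.of_ringEquiv (asIso (hV.fromSpec.stalkMap q)).commRingCatIsoToRingEquiv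
    exact IsRegularLocalRing.of_ringEquiv (R := (Spec Γ(X, V)).presheaf.stalk q)
      (StructureSheaf.stalkIso Γ(X, V) q).symm.toRingEquiv
  have hpid : IsPrincipalIdealRing A := by
    rcases eq_or_ne t.asIdeal ⊥ with h | h
    · have : IsFractionRing R A := by
        have h2 : t.asIdeal.primeCompl = nonZeroDivisors R := by
          ext x
          simp [h, mem_nonZeroDivisors_iff_ne_zero]
        show IsLocalization (nonZeroDivisors R) A
        rw [← h2]
        infer_instance
      let := IsFractionRing.toField R (K := A)
      infer_instance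
    · have := IsLocalization.AtPrime.isDiscreteValuationRing_of_dedekind_domain R h A
      infer_instance
  obtain ⟨π, hπ⟩ := (IsPrincipalIdealRing.principal (IsLocalRing.maximalIdeal A)).principal
  have hπ2 : π = 0 ∨ π ∉ IsLocalRing.maximalIdeal A ^ 2 := by
    refine or_iff_not_imp_right.mpr fun hc => ?_
    rw [not_not, hπ, ← Ideal.span, Ideal.span_singleton_pow, Ideal.mem_span_singleton] at hc
    obtain ⟨c, hc⟩ := hc
    have hu : IsUnit (1 - π * c) := by
      rcases IsLocalRing.isUnit_or_isUnit_one_sub_self (π * c) with h | h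
      · exact absurd (isUnit_of_mul_isUnit_left h) (fun hu =>
          (IsLocalRing.mem_maximalIdeal π).mp (hπ ▸ Submodule.mem_span_singleton_self π) hu)
      · exact h
    exact hu.mul_left_eq_zero.mp (by linear_combination hc)
  have hsm : Algebra.IsSmoothAt R q.asIdeal :=
    NeronLib.RegularSection.isSmoothAt_of_retraction t.asIdeal π hπ hπ2 ε q.asIdeal hq
  have hmem : q ∈ hV.fromSpec ⁻¹ᵁ p.smoothLocus := by
    suffices key : ∀ f : Spec Γ(X, V) ⟶ Spec (CommRingCat.of R), f = Spec.map φ →
        (f.stalkMap q).hom.FormallySmooth by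
      rw [Scheme.Hom.preimage_smoothLocus_eq]
      exact key _ hφ.symm
    rintro _ rfl
    refine (RingHom.FormallySmooth.respectsIso.arrow_mk_iso_iff (Scheme.arrowStalkMapSpecIso φ q)).mpr ?_
    let p' := (Spec.map φ q).asIdeal
    have : q.asIdeal.LiesOver p' := ⟨rfl⟩
    let := Localization.AtPrime.algebraOfLiesOver p' q.asIdeal
    show (Localization.localRingHom p' q.asIdeal φ.hom rfl).FormallySmooth
    have h1 : Algebra.FormallySmooth (Localization.AtPrime p') (Localization.AtPrime q.asIdeal) :=
      Algebra.FormallySmooth.iff_restrictScalars.mp hsm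
    exact RingHom.formallySmooth_algebraMap.mpr h1
  rw [← hqx]
  exact hmem

end Groth.Agent.S11100
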