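import Groth.Statements.S11103
import Groth.Agent.NeronLib.Restrict
import Mathlib.RingTheory.Localization.BaseChange
import Mathlib.RingTheory.Algebraic.Integral
import Mathlib.AlgebraicGeometry.Morphisms.Etale
import Mathlib.RingTheory.Smooth.Flat
import Mathlib.RingTheory.Flat.TorsionFree

set_option autoImplicit false
universe u
open CategoryTheory CategoryTheory.Limits AlgebraicGeometry
open Neron

namespace Groth.Agent.S11103

/-- Let R be a Dedekind domain with fraction field K, let R' be a Dedekind domain finite étale over R
(the integral closure of R in a finite unramified extension K' of K), and let N be a Néron model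
over Spec R of its generic fibre N_K. Then the base change N' = N ×_R R' is a Néron model over Spec
R' of its generic fibre N'_{K'}: it is smooth, separated and of finite type over Spec R', and every
K'-morphism from the generic fibre of a smooth R'-scheme to N'_{K'} extends uniquely to an
R'-morphism into N'. (The published statement concerns the Néron model of an elliptic curve with the
mapping property for rational maps; this row allows any N and tests the mapping property on
morphisms from smooth schemes. The property generally fails for ramified extensions.) -/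
theorem result (R R' : Type u) [CommRing R] [IsDedekindDomain R]
    [CommRing R'] [IsDedekindDomain R'] [Algebra R R'] [Module.Finite R R'] [Algebra.Etale R R']
    (N : Over (Spec (CommRingCat.of R)))
    (hN : Neron.IsNeronModelOf R N ((Neron.genericFibre R).obj N) (Iso.refl _)) :
    Neron.IsNeronModelOf R'
      ((Over.pullback (Spec.map (CommRingCat.ofHom (algebraMap R R')))).obj N)
      ((Neron.genericFibre R').obj ((Over.pullback (Spec.map (CommRingCat.ofHom (algebraMap R R')))).obj N))
      (Iso.refl _) := by
  obtain ⟨hNs, hNsep, hNf, hNq, hNN⟩ := hN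
  let t := Spec.map (CommRingCat.ofHom (algebraMap R R'))
  have : Etale t := (HasRingHomProperty.Spec_iff (P := @Etale)).2 (RingHom.etale_algebraMap.2 ‹_›)
  have hinj : Function.Injective (algebraMap R R') := by
    intro a b hab
    have : Module.IsTorsionFree R R' := inferInstance
    have h : (a - b) • (1 : R') = 0 := by rw [sub_smul, ← Algebra.algebraMap_eq_smul_one, ← Algebra.algebraMap_eq_smul_one, hab, sub_self]
    exact sub_eq_zero.1 ((smul_eq_zero.1 h).resolve_right one_ne_zero)
  let K := FractionRing R
  let K' := FractionRing R'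
  have hM : IsLocalization (Algebra.algebraMapSubmonoid R' (nonZeroDivisors R)) K' := by
    refine { map_units := ?_, surj := ?_, exists_of_eq := ?_ }
    · rintro ⟨_, r, hr, rfl⟩
      refine Ne.isUnit fun h => nonZeroDivisors.ne_zero hr (hinj ?_)
      rw [map_zero]
      exact IsFractionRing.injective R' K' (h.trans (map_zero _).symm)
    · intro z
      obtain ⟨a, b, hb, rfl⟩ := IsFractionRing.div_surjective (A := R') z
      obtain ⟨r, hr, c, hc⟩ :=
        (Algebra.IsIntegral.isIntegral (R := R) b).isAlgebraic.exists_nonzero_dvd hb
      refine ⟨⟨a * c, ⟨algebraMap R R' r, r, mem_nonZeroDivisors_of_ne_zero hr, rfl⟩⟩, ?_⟩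
      show algebraMap R' K' a / algebraMap R' K' b * algebraMap R' K' (algebraMap R R' r) = algebraMap R' K' (a * c)
      rw [hc, map_mul, map_mul]
      have : algebraMap R' K' b ≠ 0 := IsFractionRing.to_map_ne_zero_of_mem_nonZeroDivisors hb
      rw [← mul_assoc, div_mul_cancel₀ _ this]
    · intro x y h
      exact ⟨1, by rw [IsFractionRing.injective R' K' h]⟩
  let ρ : K →+* K' := IsFractionRing.lift (g := (algebraMap R' K').comp (algebraMap R R')) (by
    exact (IsFractionRing.injective R' K').comp hinj)
  letI : Algebra K K' := ρ.toAlgebra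
  haveI : IsScalarTower R K K' := IsScalarTower.of_algebraMap_eq fun r =>
    ((IsFractionRing.lift_algebraMap _ r).trans (IsScalarTower.algebraMap_apply R R' K' r).symm).symm
  have hpo : Algebra.IsPushout R K R' K' :=
    (Algebra.isPushout_of_isLocalization (nonZeroDivisors R) (A := K) R' K').symm
  have hsq : IsPullback (Neron.genPt R') (Spec.map (CommRingCat.ofHom ρ)) t (Neron.genPt R) :=
    (isPullback_SpecMap_of_isPushout _ _ _ _ (CommRingCat.isPushout_iff_isPushout.2 hpo)).flip
  refine ⟨inferInstanceAs (Smooth (pullback.snd N.hom t)), inferInstanceAs (IsSeparated (pullback.snd N.hom t)),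
    inferInstanceAs (LocallyOfFiniteType (pullback.snd N.hom t)), inferInstanceAs (QuasiCompact (pullback.snd N.hom t)),
    fun Y hY => ?_⟩
  suffices hb : Function.Bijective (fun g : Y ⟶ (Over.pullback t).obj N => (Neron.genericFibre R').map g) by
    simpa using hb
  refine (Groth.Agent.NeronLib.bijective_map_iff (Neron.genPt R') (.of_hasPullback _ _)).2 fun h hh => ?_
  let Y₀ := Over.mk (Y.hom ≫ t)
  have hb := hNN Y₀ (inferInstanceAs (Smooth (Y.hom ≫ t)))
  simp only [Iso.refl_hom, Category.comp_id] at hb
  have hP : IsPullback (pullback.fst Y.hom (Neron.genPt R'))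
      (pullback.snd Y.hom (Neron.genPt R') ≫ Spec.map (CommRingCat.ofHom ρ)) (Y.hom ≫ t) (Neron.genPt R) :=
    ((IsPullback.of_hasPullback Y.hom (Neron.genPt R')).flip.paste_horiz hsq.flip).flip
  let q := pullback.fst N.hom t
  have hhN : (h ≫ q) ≫ N.hom = pullback.fst Y.hom (Neron.genPt R') ≫ Y₀.hom := by
    rw [Category.assoc, pullback.condition, ← Category.assoc]
    exact (congrArg (· ≫ t) hh).trans (Category.assoc _ _ _)
  obtain ⟨a, ha, hau⟩ := (Groth.Agent.NeronLib.bijective_map_iff (Neron.genPt R) hP).1 hb (h ≫ q) hhN
  let b : Y ⟶ (Over.pullback t).obj N := Over.homMk (pullback.lift a.left Y.hom (Over.w a)) (pullback.lift_snd _ _ _)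
  refine ⟨b, ?_, fun c hc => ?_⟩
  · apply pullback.hom_ext
    · exact (Category.assoc _ _ _).trans ((congrArg (_ ≫ ·) (pullback.lift_fst _ _ _)).trans ha)
    · exact (Category.assoc _ _ _).trans ((congrArg (_ ≫ ·) (pullback.lift_snd _ _ _)).trans hh.symm)
  · let c₀ : Y₀ ⟶ N := Over.homMk (c.left ≫ q) (by
      show (c.left ≫ q) ≫ N.hom = Y.hom ≫ t
      rw [Category.assoc, pullback.condition, ← Category.assoc]
      exact congrArg (· ≫ t) (Over.w c))
    have h1 := hau c₀ ((Category.assoc _ _ _).symm.trans (congrArg (· ≫ q) hc))
    refine Over.OverMorphism.ext (pullback.hom_ext ?_ ?_)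
    · exact (congrArg Over.Hom.left h1).trans (pullback.lift_fst _ _ _).symm
    · exact (Over.w c).trans (pullback.lift_snd _ _ _).symm

end Groth.Agent.S11103
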