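import Groth.Statements.S11104
import Groth.Agent.CAlgH3.RegularLocal
import Mathlib
-- import your own Groth.Agent.* helpers here

set_option autoImplicit false
universe u
open Neron

namespace Groth.Agent.S11104

open Polynomial
open scoped Polynomial.Bivariate

/-- The ring of plane polynomials modulo the Weierstrass equation has regular local rings at the primes where
the equation is not in the square of the ideal, in the local ring of the plane. -/
theorem exists_witness {R : Type u} [CommRing R] [IsDomain R] [IsDiscreteValuationRing R]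
    (W : WeierstrassCurve.Affine R) (hΔ : W.Δ ≠ 0) (h3 : W.a₃ ∈ IsLocalRing.maximalIdeal R)
    (h4 : W.a₄ ∈ IsLocalRing.maximalIdeal R) (h6 : W.a₆ ∈ IsLocalRing.maximalIdeal R)
    (h6' : W.a₆ ∉ IsLocalRing.maximalIdeal R ^ 2) (Q : Ideal R[X][Y]) [Q.IsPrime] (hW : W.polynomial ∈ Q) :
    ∀ s ∉ Q, s * W.polynomial ∉ Q ^ 2 := by
  intro s hs hsW
  let D := R[X][Y] ⧸ Q
  let _ : CommRing D := Ideal.Quotient.commRing Q
  let L := FractionRing D
  let ι : R[X][Y] →+* L := (algebraMap D L).comp (Ideal.Quotient.mk Q : R[X][Y] →+* D)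
  have hker : ∀ a, ι a = 0 ↔ a ∈ Q := fun a => by
    simp only [ι, RingHom.comp_apply, map_eq_zero_iff _ (IsFractionRing.injective D L)]
    exact Ideal.Quotient.eq_zero_iff_mem
  let c : R →+* L := ι.comp ((C : R[X] →+* R[X][Y]).comp C)
  let x : L := ι (C X)
  let y : L := ι Y
  let ev : R → DualNumber L := fun r => TrivSqZeroExt.inl (c r)
  let Φ : DualNumber L → DualNumber L → (R[X][Y] →+* DualNumber L) := fun ξ η =>
    eval₂RingHom (eval₂RingHom ((TrivSqZeroExt.inlHom L L).comp c) ξ) η
  have hΦ : ∀ ξ η, Φ ξ η W.polynomial = η ^ 2 + (ev W.a₁ * ξ + ev W.a₃) * η -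
      (ξ ^ 3 + ev W.a₂ * ξ ^ 2 + ev W.a₄ * ξ + ev W.a₆) := by
    intro ξ η
    simp only [WeierstrassCurve.Affine.polynomial, map_add, map_sub, map_mul, map_pow]
    simp [Φ, ev]
  have hfst : ∀ ξ η, TrivSqZeroExt.fst ξ = x → TrivSqZeroExt.fst η = y → ∀ a,
      TrivSqZeroExt.fst (Φ ξ η a) = ι a := by
    intro ξ η hξ hη a
    have : ((TrivSqZeroExt.fstHom L L L).toRingHom.comp (Φ ξ η)) = ι := by
      refine Polynomial.ringHom_ext (fun p => ?_) ?_
      · show ((TrivSqZeroExt.fstHom L L L).toRingHom.comp (Φ ξ η)).comp C p = ι.comp C p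
        congr 1
        refine Polynomial.ringHom_ext (fun r => ?_) ?_
        · simp [Φ, c]
        · simp [Φ, hξ, x]
      · simp [Φ, hη, y]
    exact congr($this a)
  have hzero : ∀ ξ η, TrivSqZeroExt.fst ξ = x → TrivSqZeroExt.fst η = y → Φ ξ η W.polynomial = 0 := by
    intro ξ η hξ hη
    have h2 : Φ ξ η (s * W.polynomial) = 0 := by
      have hle : (Q ^ 2).map (Φ ξ η) ≤ ⊥ := by
        rw [Ideal.map_pow, pow_two, Ideal.mul_le]
        intro a ha b hb
        have hz : ∀ z ∈ Q.map (Φ ξ η), TrivSqZeroExt.fst z = 0 := fun z hz => by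
          have : Q.map (Φ ξ η) ≤ RingHom.ker (TrivSqZeroExt.fstHom L L L).toRingHom :=
            Ideal.map_le_iff_le_comap.mpr fun a ha => (hfst ξ η hξ hη a).trans ((hker a).mpr ha)
          exact this hz
        rw [Ideal.mem_bot]
        ext
        · simp [hz a ha]
        · simp [hz a ha, hz b hb]
      exact hle (Ideal.mem_map_of_mem _ hsW)
    rw [map_mul] at h2
    have hu : IsUnit (Φ ξ η s) := by
      rw [TrivSqZeroExt.isUnit_iff_isUnit_fst, hfst ξ η hξ hη]
      exact isUnit_iff_ne_zero.mpr (fun h => hs ((hker s).mp h))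
    exact hu.mul_right_eq_zero.mp h2
  have e0 := congrArg TrivSqZeroExt.fst
    ((hΦ (TrivSqZeroExt.inl x) (TrivSqZeroExt.inl y)).symm.trans
      (hzero (TrivSqZeroExt.inl x) (TrivSqZeroExt.inl y) (by simp) (by simp)))
  simp [ev] at e0
  have eX := congrArg TrivSqZeroExt.snd
    ((hΦ (TrivSqZeroExt.inl x + DualNumber.eps) (TrivSqZeroExt.inl y)).symm.trans
      (hzero (TrivSqZeroExt.inl x + DualNumber.eps) (TrivSqZeroExt.inl y) (by simp) (by simp)))
  simp [ev, pow_succ] at eX
  have eY := congrArg TrivSqZeroExt.snd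
    ((hΦ (TrivSqZeroExt.inl x) (TrivSqZeroExt.inl y + DualNumber.eps)).symm.trans
      (hzero (TrivSqZeroExt.inl x) (TrivSqZeroExt.inl y + DualNumber.eps) (by simp) (by simp)))
  simp [ev, pow_succ] at eY
  have hW' : (W.map c).toAffine.Equation x y := by
    rw [WeierstrassCurve.Affine.equation_iff]
    simp only [WeierstrassCurve.map_a₁, WeierstrassCurve.map_a₂, WeierstrassCurve.map_a₃,
      WeierstrassCurve.map_a₄, WeierstrassCurve.map_a₆]
    linear_combination e0
  have hsing : ¬ (W.map c).toAffine.Nonsingular x y := by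
    rw [WeierstrassCurve.Affine.nonsingular_iff']
    simp only [WeierstrassCurve.map_a₁, WeierstrassCurve.map_a₂, WeierstrassCurve.map_a₃,
      WeierstrassCurve.map_a₄]
    rintro ⟨-, h | h⟩
    · exact h (by linear_combination eX)
    · exact h (by linear_combination eY)
  have hcΔ : c W.Δ = 0 := by
    by_contra hne
    exact hsing ((WeierstrassCurve.Affine.equation_iff_nonsingular_of_Δ_ne_zero
      (by rw [WeierstrassCurve.map_Δ]; exact hne)).mp hW')
  have hm : IsLocalRing.maximalIdeal R ≤ RingHom.ker c := by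
    have hne : RingHom.ker c ≠ ⊥ := fun h => hΔ ((Submodule.eq_bot_iff _).mp h _ hcΔ)
    have hmax := (RingHom.ker_isPrime c).isMaximal hne
    exact (IsLocalRing.eq_maximalIdeal hmax).ge
  have e3 : c W.a₃ = 0 := hm h3
  have e4 : c W.a₄ = 0 := hm h4
  have e6 : c W.a₆ = 0 := hm h6
  rw [e3, e4, e6] at e0
  rw [e4] at eX
  rw [e3] at eY
  have hx : x = 0 := pow_eq_zero_iff (n := 3) (by norm_num) |>.mp
    (by linear_combination 2 * e0 - y * eY - x * eX)
  have hy : y = 0 := pow_eq_zero_iff (n := 2) (by norm_num) |>.mp (by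
    rw [hx] at e0
    linear_combination e0)
  -- `Q` is the closed point
  let π₀ : R[X][Y] →+* R := (evalRingHom 0).comp (evalRingHom 0)
  let cst : R →+* R[X][Y] := (C : R[X] →+* R[X][Y]).comp C
  let M : Ideal R[X][Y] := (IsLocalRing.maximalIdeal R).comap π₀
  have hπ : Function.Surjective π₀ := fun r => ⟨cst r, by simp [π₀, cst]⟩
  have : M.IsMaximal := Ideal.comap_isMaximal_of_surjective π₀ hπ
  have hdec : ∀ a : R[X][Y], a - cst (π₀ a) ∈ Ideal.span {C X, Y} := by
    intro a
    rw [Ideal.mem_span_pair]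
    refine ⟨C (a.coeff 0).divX, a.divX, ?_⟩
    have h1 := a.X_mul_divX_add
    have h2 := (a.coeff 0).X_mul_divX_add
    simp only [π₀, cst, RingHom.comp_apply, coe_evalRingHom, ← coeff_zero_eq_eval_zero]
    have h3 := congrArg (C : R[X] → R[X][Y]) h2
    simp only [map_add, map_mul] at h3
    linear_combination h1 + h3
  have hXY : Ideal.span {C X, Y} ≤ Q := by
    rw [Ideal.span_le]
    rintro _ (rfl | rfl)
    · exact (hker _).mp hx
    · exact (hker _).mp hy
  have hQM : Q = M := by
    refine (Ideal.IsMaximal.eq_of_le inferInstance (Ideal.IsPrime.ne_top ‹_›) fun a ha => ?_).symm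
    have h1 : cst (π₀ a) ∈ Q := (hker _).mp (hm ha)
    simpa using Q.add_mem (hXY (hdec a)) h1
  -- evaluate at the origin
  have hle : (Q ^ 2).map π₀ ≤ IsLocalRing.maximalIdeal R ^ 2 := by
    rw [Ideal.map_pow, hQM]
    exact Ideal.pow_right_mono Ideal.map_comap_le 2
  have h := hle (Ideal.mem_map_of_mem π₀ hsW)
  rw [map_mul] at h
  have hπW : π₀ W.polynomial = -W.a₆ := by simp [π₀, WeierstrassCurve.Affine.polynomial]
  rw [hπW, mul_neg, Ideal.neg_mem_iff] at h
  have hu : IsUnit (π₀ s) := by
    by_contra hu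
    exact hs (hQM ▸ (show s ∈ M from hu))
  exact h6' ((Ideal.unit_mul_mem_iff_mem _ hu).mp h)

/-- The local ring of a quotient at a prime is a quotient of the local ring. -/
theorem isRegularLocalRing_quotient {A : Type u} [CommRing A] (w : A) (Q : Ideal A) [Q.IsPrime]
    [IsRegularLocalRing (Localization.AtPrime Q)] (hw : w ∈ Q) (hw2 : ∀ s ∉ Q, s * w ∉ Q ^ 2)
    {B : Type u} [CommRing B] (f : A →+* B) (hf : Function.Surjective f) (hfker : RingHom.ker f = Ideal.span {w})
    (P : Ideal B) [P.IsPrime] (hPQ : P.comap f = Q) :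
    IsRegularLocalRing (Localization.AtPrime P) := by
  let AQ := Localization.AtPrime Q
  let g : AQ →+* Localization.AtPrime P := Localization.localRingHom Q P f hPQ.symm
  have hg : Function.Surjective g := by
    intro z
    obtain ⟨b, ⟨t, ht⟩, rfl⟩ := IsLocalization.exists_mk'_eq P.primeCompl z
    obtain ⟨a, rfl⟩ := hf b
    obtain ⟨t, rfl⟩ := hf t
    exact ⟨IsLocalization.mk' AQ a (⟨t, fun h => ht (hPQ.symm.le h : t ∈ P.comap f)⟩ : Q.primeCompl),
      Localization.localRingHom_mk' Q P f hPQ.symm a _⟩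
  have hker : RingHom.ker g = Ideal.span {algebraMap A AQ w} := by
    refine le_antisymm (fun z hz => ?_) ?_
    · obtain ⟨a, ⟨t, ht⟩, rfl⟩ := IsLocalization.exists_mk'_eq Q.primeCompl z
      rw [RingHom.mem_ker, Localization.localRingHom_mk', IsLocalization.mk'_eq_zero_iff] at hz
      obtain ⟨⟨m, hm⟩, hmz⟩ := hz
      obtain ⟨m, rfl⟩ := hf m
      change f m * f a = 0 at hmz
      rw [← map_mul, ← RingHom.mem_ker, hfker, Ideal.mem_span_singleton] at hmz
      obtain ⟨d, hd⟩ := hmz
      have hmu : IsUnit (algebraMap A AQ m) :=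
        IsLocalization.map_units AQ (⟨m, fun h => hm (hPQ.symm.le h : m ∈ P.comap f)⟩ : Q.primeCompl)
      rw [IsLocalization.mk'_eq_mul_mk'_one, Ideal.mem_span_singleton]
      refine dvd_mul_of_dvd_left (hmu.dvd_mul_left.mp ?_) _
      rw [← map_mul, hd, map_mul]
      exact dvd_mul_right _ _
    · rw [Ideal.span_le, Set.singleton_subset_iff, SetLike.mem_coe, RingHom.mem_ker,
        Localization.localRingHom_to_map]
      rw [RingHom.mem_ker.mp (hfker ▸ Ideal.mem_span_singleton_self w : w ∈ RingHom.ker f), map_zero]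
  have hm : algebraMap A AQ w ∈ IsLocalRing.maximalIdeal AQ :=
    (IsLocalization.AtPrime.to_map_mem_maximal_iff AQ Q w).mpr hw
  have hm2 : algebraMap A AQ w ∉ IsLocalRing.maximalIdeal AQ ^ 2 := by
    rw [← Localization.AtPrime.map_eq_maximalIdeal, ← Ideal.map_pow]
    intro h
    obtain ⟨⟨⟨i, hi⟩, ⟨t, ht⟩⟩, he⟩ := (IsLocalization.mem_map_algebraMap_iff Q.primeCompl AQ).mp h
    rw [← map_mul, IsLocalization.eq_iff_exists Q.primeCompl] at he
    obtain ⟨⟨m, hmQ⟩, he⟩ := he
    refine hw2 (m * t) (fun h => (‹Q.IsPrime›.mem_or_mem h).elim hmQ ht) ?_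
    simp only at he
    rw [show m * t * w = m * (w * t) by ring, he]
    exact Ideal.mul_mem_left _ _ hi
  have := (Groth.Agent.CAlgH3.regular_quotient_of_notMem_sq hm hm2).1
  exact IsRegularLocalRing.of_ringEquiv
    ((Ideal.quotEquivOfEq hker.symm).trans (RingHom.quotientKerEquivOfSurjective hg))


/-- Let R be a discrete valuation ring with maximal ideal m and y² + a₁xy + a₃y = x³ + a₂x² + a₄x + a₆ a
Weierstrass equation over R with nonzero discriminant (an elliptic curve over the fraction field)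
such that a₃, a₄, a₆ ∈ m and a₆ ∉ m². Then the affine scheme over R defined by the equation is
regular: every localization of its coordinate ring at a prime ideal is a regular local ring. (The
published statement asserts regularity of the projective Weierstrass scheme in P²_R; this row states
it for the affine part.) -/
theorem result (R : Type u) [CommRing R] [IsDomain R]
    [IsDiscreteValuationRing R] (W : WeierstrassCurve.Affine R) (hΔ : W.Δ ≠ 0)
    (h3 : W.a₃ ∈ IsLocalRing.maximalIdeal R) (h4 : W.a₄ ∈ IsLocalRing.maximalIdeal R)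
    (h6 : W.a₆ ∈ IsLocalRing.maximalIdeal R) (h6' : W.a₆ ∉ IsLocalRing.maximalIdeal R ^ 2)
    (P : Ideal W.CoordinateRing) [P.IsPrime] :
    IsRegularLocalRing (Localization.AtPrime P) := by
  let f : Polynomial (Polynomial R) →+* W.CoordinateRing := AdjoinRoot.mk W.polynomial
  exact isRegularLocalRing_quotient W.polynomial (P.comap f)
    (by simp [Ideal.mem_comap, f]) (exists_witness W hΔ h3 h4 h6 h6' _ (by simp [Ideal.mem_comap, f]))
    f AdjoinRoot.mk_surjective (Ideal.mk_ker) P rfl

end Groth.Agent.S11104
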