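import Groth.Statements.S11108
import Groth.Agent.HenselLib.SectionsLift
import Mathlib.AlgebraicGeometry.AlgClosed.Basic
import Mathlib.AlgebraicGeometry.PullbackCarrier
-- import your own Groth.Agent.* helpers here

set_option autoImplicit false
universe u
open CategoryTheory AlgebraicGeometry
open Neron

namespace Groth.Agent.S11108

/-- Let R be a strictly Henselian discrete valuation ring — Henselian with algebraically closed residue
field — and p : X → Spec R a smooth morphism. Then the image of the reduction map from R-valued
points of X to the special fibre is dense in the special fibre: every point of X over the closed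
point of Spec R lies in the closure of the set of points s(𝔪), s a section of p and 𝔪 the closed
point. -/
theorem result (R : Type u) [CommRing R] [IsDomain R]
    [IsDiscreteValuationRing R] [HenselianLocalRing R] [IsAlgClosed (IsLocalRing.ResidueField R)]
    {X : Scheme.{u}} (p : X ⟶ Spec (CommRingCat.of R)) [Smooth p]
    (x : X) (hx : p.base x = IsLocalRing.closedPoint R) :
    x ∈ closure {y : X | ∃ s : Spec (CommRingCat.of R) ⟶ X, s ≫ p = 𝟙 _ ∧
      s.base (IsLocalRing.closedPoint R) = y} := by
  rw [mem_closure_iff]
  intro O hO hxO
  let q : Spec (CommRingCat.of (IsLocalRing.ResidueField R)) ⟶ Spec (CommRingCat.of R) :=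
    Spec.map (CommRingCat.ofHom (IsLocalRing.residue R))
  let P := Limits.pullback p q
  let p' : P ⟶ _ := Limits.pullback.snd p q
  let i : P ⟶ X := Limits.pullback.fst p q
  have hne : (i.base ⁻¹' O).Nonempty := by
    obtain ⟨y, hy⟩ : x ∈ Set.range i.base := by
      rw [Scheme.Pullback.range_fst]
      refine ⟨default, ?_⟩
      rw [hx]
      exact Groth.Agent.HenselLib.SectionsLift.residue_default
    exact ⟨y, show i.base y ∈ O from hy ▸ hxO⟩
  have : JacobsonSpace P := LocallyOfFiniteType.jacobsonSpace p'
  obtain ⟨y, hyO, hy⟩ := (nonempty_inter_closedPoints hne (hO.preimage i.continuous).isLocallyClosed)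
  let t := pointOfClosedPoint p' y hy ≫ i
  have ht : t ≫ p = q := by
    rw [Category.assoc, Limits.pullback.condition, pointOfClosedPoint_comp_assoc]
  obtain ⟨s, hs, hst⟩ := Groth.Agent.HenselLib.SectionsLift.exists_section p t ht
  refine ⟨s.base (IsLocalRing.closedPoint R), ?_, s, hs, rfl⟩
  rw [← Groth.Agent.HenselLib.SectionsLift.residue_default]
  show (Spec.map (CommRingCat.ofHom (IsLocalRing.residue R)) ≫ s).base default ∈ O
  rw [hst]
  show i.base ((pointOfClosedPoint p' y hy).base default) ∈ O
  rw [pointOfClosedPoint_apply]
  exact hyO

end Groth.Agent.S11108
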