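import Mathlib.CategoryTheory.Abelian.GrothendieckCategory.Basic
import Mathlib.CategoryTheory.Limits.Preserves.Filtered
import Mathlib.CategoryTheory.Limits.Preserves.Finite
import Mathlib.CategoryTheory.Adjunction.Basic
import Groth.Agent.CohDer1.FaithfulExact

set_option autoImplicit false
universe w u₁ u₂
namespace CategoryTheory
end CategoryTheory
namespace CategoryTheory.Limits
end CategoryTheory.Limits
open CategoryTheory CategoryTheory.Limits
namespace CohDer
end CohDer
open CohDer

namespace Groth.Agent.S11128

/-- Suppose A is an abelian category that has small hom-sets and all small colimits, B is a Grothendieck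
abelian category, and F : A ⥤ B is a faithful exact functor with a right adjoint G preserving
filtered colimits. Then A is a Grothendieck abelian category. -/
theorem result
    {A : Type u₁} [Category.{w} A] [Abelian A] [HasColimitsOfSize.{w, w} A]
    {B : Type u₂} [Category.{w} B] [Abelian B] [IsGrothendieckAbelian.{w} B]
    (F : A ⥤ B) (G : B ⥤ A) (adj : F ⊣ G) [F.Additive] [F.Faithful]
    [PreservesFiniteLimits F] [PreservesFiniteColimits F] [PreservesFilteredColimitsOfSize.{w, w} G] :
    IsGrothendieckAbelian.{w} A := by
  exact Groth.Agent.CohDer1.FaithfulExact.isGrothendieck F G adj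

end Groth.Agent.S11128
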