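import Groth.Statements.S11129
import Groth.Agent.Coherent.SubFTApps
import Groth.Agent.EulerLib.CohSub


set_option autoImplicit false
universe u
open CategoryTheory AlgebraicGeometry
open QCohCat

set_option backward.isDefEq.respectTransparency false
set_option linter.style.haveILetI false
set_option maxHeartbeats 1000000

namespace Groth.Agent.S11129

open CategoryTheory CategoryTheory.Limits AlgebraicGeometry Opposite TopologicalSpace Groth.Agent.Coherent

variable {Y : Scheme.{u}} [IsNoetherian Y]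

/-- A monomorphism of `QCoh` is a monomorphism of modules. -/
theorem mono_hom {A B : QCohCat.QCoh Y} (f : A ⟶ B) [Mono f] : Mono f.hom := by
  haveI : Coh.IsQCoh A.obj := A.property
  haveI : Coh.IsQCoh B.obj := B.property
  refine Preadditive.mono_of_kernel_zero ?_
  let K : QCohCat.QCoh Y := ⟨kernel f.hom, isQCoh_kernel f.hom⟩
  let k : K ⟶ A := ObjectProperty.homMk (kernel.ι f.hom)
  have h : k = 0 := by
    rw [← cancel_mono f, zero_comp]
    exact ObjectProperty.hom_ext _ (kernel.condition f.hom)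
  exact congrArg (fun z => z.hom) h

/-- The inclusion of one submodule into a larger one. -/
noncomputable def incl {F : Y.Modules} {P P' : SubM F} (h : ∀ W, P.carrier W ≤ P'.carrier W) :
    P.toMod ⟶ P'.toMod :=
  ⟨PresheafOfModules.homMk
    { app := fun W => AddCommGrpCat.ofHom (Submodule.inclusion (h W.unop)).toAddMonoidHom
      naturality := fun W W' g => by ext x; rfl }
    (fun W r x => rfl)⟩

theorem incl_toι {F : Y.Modules} {P P' : SubM F} (h : ∀ W, P.carrier W ≤ P'.carrier W) :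
    incl h ≫ P'.toι = P.toι := rfl

theorem isCoh_of_noetherianObject (M : QCohCat.QCoh Y) (hM : IsNoetherianObject M) :
    Coh.IsCoh M.obj := by
  classical
  haveI : Coh.IsQCoh M.obj := M.property
  haveI := hM
  let G := {Q : SubM M.obj // Q.Good ⊤}
  haveI hmono : ∀ Q : G, Mono (ObjectProperty.homMk Q.1.toι :
      (⟨Q.1.toMod, SubM.isQCoh Q.2⟩ : QCohCat.QCoh Y) ⟶ M) := fun Q =>
    (QCohCat.isQCoh Y).ι.mono_of_mono_map (inferInstanceAs (Mono Q.1.toι))
  let toS : G → Subobject M := fun Q =>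
    haveI : Mono (ObjectProperty.homMk Q.1.toι : (⟨Q.1.toMod, SubM.isQCoh Q.2⟩ : QCohCat.QCoh Y) ⟶ M) :=
      (QCohCat.isQCoh Y).ι.mono_of_mono_map (inferInstanceAs (Mono Q.1.toι))
    Subobject.mk (ObjectProperty.homMk Q.1.toι : (⟨Q.1.toMod, SubM.isQCoh Q.2⟩ : QCohCat.QCoh Y) ⟶ M)
  let ne : G := ⟨SubM.sum (κ := PEmpty.{u + 1}) fun a => a.elim, SubM.good_sum _ fun a => a.elim⟩
  obtain ⟨A, ⟨Q, rfl⟩, hmax⟩ := (wellFounded_gt (α := Subobject M)).has_min (Set.range toS) ⟨_, ne, rfl⟩
  suffices h : ∀ W : Y.Opens, IsAffineOpen W → Function.Surjective (Q.1.toι.app W) by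
    refine ⟨M.property, ?_⟩
    haveI : Epi Q.1.toι := epi_of_locally_surjective _ fun W a y hy => by
      obtain ⟨V, hV, hyV, hVW⟩ := Opens.isBasis_iff_nbhd.mp Y.isBasis_affineOpens hy
      obtain ⟨b, hb⟩ := h V hV (resM M.obj hVW a)
      exact ⟨V, hVW, hyV, b, hb⟩
    haveI : IsIso Q.1.toι := isIso_of_mono_of_epi _
    exact isFT_of_epi Q.1.toι (SubM.isFT Q.2)
  intro W hW a
  obtain ⟨P, hP, ha⟩ := exists_good_containing_qcqs (F := M.obj) hW.isCompact (I := PUnit.{u + 1}) fun _ => a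
  let fam : ULift.{u} Bool → SubM M.obj := fun b => if b.down then Q.1 else P
  let S : G := ⟨SubM.sum fam, SubM.good_sum _ fun b => by
    dsimp only [fam]; split_ifs
    · exact Q.2
    · exact hP⟩
  have hle : ∀ V, Q.1.carrier V ≤ S.1.carrier V := SubM.le_sum fam ⟨true⟩
  have le : toS Q ≤ toS S :=
    Subobject.mk_le_mk_of_comm (ObjectProperty.homMk (incl hle)) (ObjectProperty.hom_ext _ (incl_toι hle))
  have heq : toS Q = toS S := (lt_or_eq_of_le le).resolve_left fun hlt => hmax _ ⟨S, rfl⟩ hlt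
  obtain ⟨g, hg⟩ : ∃ g : S.1.toMod ⟶ Q.1.toMod, g ≫ Q.1.toι = S.1.toι :=
    ⟨(Subobject.ofMkLEMk _ _ heq.ge).hom, congrArg (fun z => z.hom) (Subobject.ofMkLEMk_comp heq.ge)⟩
  refine ⟨g.app W ⟨a, SubM.le_sum fam ⟨false⟩ W (ha PUnit.unit)⟩, ?_⟩
  exact congrArg (fun z => z.app W ⟨a, SubM.le_sum fam ⟨false⟩ W (ha PUnit.unit)⟩) hg

theorem noetherianObject_of_isCoh (M : QCohCat.QCoh Y) (hM : Coh.IsCoh M.obj) :
    IsNoetherianObject M := by
  rw [isNoetherianObject_iff_monotone_chain_condition]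
  intro f
  let F : ℕ → Y.Modules := fun n => (f n : QCohCat.QCoh Y).obj
  let ι : ∀ n, F n ⟶ M.obj := fun n => (f n).arrow.hom
  haveI : ∀ n, Mono (ι n) := fun n => mono_hom _
  have hcoh : ∀ n, Coh.IsCoh (F n) := fun n =>
    haveI : Coh.IsQCoh (F n) := (f n : QCohCat.QCoh Y).property
    isCoh_of_mono (ι n) hM (f n : QCohCat.QCoh Y).property
  obtain ⟨F', ι', h1, h2, ⟨n, e, he⟩, hmax⟩ := EulerLib.exists_maximal_sub hM
    (fun F' ι' => ∃ (n : ℕ) (e : F' ≅ F n), e.hom ≫ ι n = ι')
    ⟨F 0, ι 0, inferInstance, hcoh 0, 0, Iso.refl _, Category.id_comp _⟩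
  refine ⟨n, fun m hm => ?_⟩
  let g : (f n : QCohCat.QCoh Y) ⟶ (f m : QCohCat.QCoh Y) := Subobject.ofLE _ _ (f.2 hm)
  have hg : g.hom ≫ ι m = ι n := congrArg (fun z => z.hom) (Subobject.ofLE_arrow (f.2 hm))
  haveI : IsIso (e.hom ≫ g.hom) := hmax (F m) (ι m) inferInstance (hcoh m) ⟨m, Iso.refl _, Category.id_comp _⟩
    (e.hom ≫ g.hom) (by rw [Category.assoc, hg, he])
  haveI : IsIso g.hom := IsIso.of_isIso_comp_left e.hom g.hom
  haveI : IsIso g := @Functor.FullyFaithful.isIso_of_isIso_map _ _ _ _ _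
    (QCohCat.isQCoh Y).fullyFaithfulι _ _ g (inferInstanceAs (IsIso g.hom))
  exact Subobject.eq_of_comm (asIso g) (Subobject.ofLE_arrow (f.2 hm))

end Groth.Agent.S11129

namespace Groth.Agent.S11129

/-- For a noetherian scheme Y, an object M of the category QCoh(O_Y) of quasi-coherent O_Y-modules (a
full subcategory of all O_Y-modules) is a noetherian object of that category if and only if M is
coherent (quasi-coherent of finite type). (The published statement also records that QCoh(O_Y) is a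
locally noetherian category; only the characterisation of its noetherian objects is stated here.) -/
theorem result (Y : Scheme.{u}) [IsNoetherian Y] (M : QCohCat.QCoh Y) :
    IsNoetherianObject M ↔ Coh.IsCoh M.obj := by
  exact ⟨isCoh_of_noetherianObject M, noetherianObject_of_isCoh M⟩

end Groth.Agent.S11129
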