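import Mathlib.Algebra.Category.ModuleCat.Sheaf.PushforwardContinuous
import Mathlib.CategoryTheory.Sites.CoverLifting
import Mathlib.CategoryTheory.Sites.CoverPreserving
import Groth.Agent.DerCompLib.RestrAdj

set_option autoImplicit false
universe u
namespace CategoryTheory
end CategoryTheory
open CategoryTheory
namespace ModSite
end ModSite
open ModSite

namespace Groth.Agent.S11131

set_option backward.isDefEq.respectTransparency false

open CategoryTheory.Limits in
theorem preservesColimitsOfShape_toSheaf {C : Type u} [SmallCategory C] {J : GrothendieckTopology C}
    (R : Sheaf J RingCat.{u}) (T : Type u) [SmallCategory T] :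
    PreservesColimitsOfShape T (SheafOfModules.toSheaf.{u} R) where
  preservesColimit {K} := by
    let α := 𝟙 R.obj
    let sh := PresheafOfModules.sheafification.{u} α
    let adj := PresheafOfModules.sheafificationAdjunction.{u} α
    let G := SheafOfModules.forget.{u} R ⋙ PresheafOfModules.restrictScalars α
    haveI : sh.IsLeftAdjoint := adj.isLeftAdjoint
    haveI : (presheafToSheaf J AddCommGrpCat.{u}).IsLeftAdjoint :=
      (sheafificationAdjunction J AddCommGrpCat.{u}).isLeftAdjoint
    haveI : PreservesColimit (K ⋙ G) (sh ⋙ SheafOfModules.toSheaf.{u} R) :=
      preservesColimit_of_natIso _ (PresheafOfModules.sheafificationCompToSheaf.{u} α).symm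
    have h : PreservesColimit ((K ⋙ G) ⋙ sh) (SheafOfModules.toSheaf.{u} R) :=
      preservesColimit_of_preserves_colimit_cocone
        (isColimitOfPreserves sh (colimit.isColimit (K ⋙ G)))
        (isColimitOfPreserves (sh ⋙ SheafOfModules.toSheaf.{u} R)
          (colimit.isColimit (K ⋙ G)))
    exact preservesColimit_of_iso_diagram _
      ((Functor.associator K G sh) ≪≫ Functor.isoWhiskerLeft K (asIso adj.counit) ≪≫
        Functor.rightUnitor K)

/-- Let F : C ⥤ D be a functor between small sites which preserves coverings, is continuous
(precomposition with F preserves sheaves) and is cocontinuous (every covering of F y is refined by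
the image of a covering of y). For sheaves of rings S on C and R on D and a ring map φ : S ⟶ F_* R,
the restriction functor from sheaves of R-modules to sheaves of S-modules (precompose with F,
restrict scalars along φ) is a left adjoint. (The published statement asks the functor to send
coverings to coverings and to preserve fibre products of members of a covering, takes commutative
structure sheaves, and also asserts that restriction commutes with sheafification of presheaves of
modules; this row assumes only that restriction along the functor preserves sheaves, that coverings
go to coverings and that the functor is cocontinuous, and states only that the right adjoint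
exists.) -/
theorem result
    {C : Type u} [SmallCategory C] {D : Type u} [SmallCategory D]
    (J : GrothendieckTopology C) (K : GrothendieckTopology D) (F : C ⥤ D)
    [F.IsContinuous J K] (hF : CoverPreserving J K F) [F.IsCocontinuous J K]
    {S : Sheaf J RingCat.{u}} {R : Sheaf K RingCat.{u}}
    (φ : S ⟶ (F.sheafPushforwardContinuous RingCat.{u} J K).obj R) :
    (SheafOfModules.pushforward.{u} φ).IsLeftAdjoint := by
  open CategoryTheory.Limits in
  haveI : PreservesColimits (SheafOfModules.pushforward.{u} φ) := ⟨fun {T} _ => by
    haveI := preservesColimitsOfShape_toSheaf R T
    haveI := preservesColimitsOfShape_toSheaf S T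
    haveI : (F.sheafPushforwardContinuous AddCommGrpCat.{u} J K).IsLeftAdjoint :=
      (F.sheafAdjunctionCocontinuous AddCommGrpCat.{u} J K).isLeftAdjoint
    haveI : PreservesColimitsOfShape T
        (SheafOfModules.pushforward.{u} φ ⋙ SheafOfModules.toSheaf.{u} S) :=
      preservesColimitsOfShape_of_natIso
        (show SheafOfModules.toSheaf.{u} R ⋙ F.sheafPushforwardContinuous AddCommGrpCat.{u} J K ≅
          SheafOfModules.pushforward.{u} φ ⋙ SheafOfModules.toSheaf.{u} S from Iso.refl _)
    haveI : ReflectsColimitsOfShape T (SheafOfModules.toSheaf.{u} S) :=
      reflectsColimitsOfShape_of_reflectsIsomorphisms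
    exact preservesColimitsOfShape_of_reflects_of_preserves _ (SheafOfModules.toSheaf.{u} S)⟩
  haveI : WellPowered.{u} (SheafOfModules.{u} R) :=
    wellPowered_of_isDetecting (DCat.sheafOfModules_isSeparating K R).isDetecting
  exact isLeftAdjoint_of_preservesColimits_of_isSeparating (DCat.sheafOfModules_isSeparating K R) _

end Groth.Agent.S11131
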