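import Groth.Statements.S11135
import Mathlib.RingTheory.IntegralClosure.IntegrallyClosed
import Mathlib.RingTheory.Localization.FractionRing

set_option autoImplicit false
universe u
open InvTh

namespace Groth.Agent.S11135

/-- Suppose S is the product of a finite family of integrally closed domains (a finite product of normal
domains), R is any commutative ring, and F is a family of ring maps S → R each carrying
non-zero-divisors of S to non-zero-divisors of R. Then the subring A of S on which all members of F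
coincide (a ∈ A iff f(a) = f'(a) for all f, f' in F) is ring-isomorphic to a product of finitely
many integrally closed domains. -/
theorem result {ι : Type u} [Fintype ι] (D : ι → Type u)
    [∀ i, CommRing (D i)] [∀ i, IsDomain (D i)] [∀ i, IsIntegrallyClosed (D i)]
    (R : Type u) [CommRing R] (F : Set ((Π i, D i) →+* R))
    (hF : ∀ f ∈ F, ∀ s ∈ nonZeroDivisors (Π i, D i), f s ∈ nonZeroDivisors R)
    (A : Subring (Π i, D i)) (hA : ∀ a, a ∈ A ↔ ∀ f ∈ F, ∀ f' ∈ F, f a = f' a) :
    ∃ (κ : Type u) (_ : Fintype κ) (E : κ → Type u) (_ : ∀ j, CommRing (E j)) (_ : ∀ j, IsDomain (E j))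
      (_ : ∀ j, IsIntegrallyClosed (E j)), Nonempty (A ≃+* Π j, E j) := by
  classical
  -- support idempotents stay in `A`
  have hsupp : ∀ a ∈ A, (fun i => if a i = 0 then (0 : D i) else 1) ∈ A := by
    intro a ha
    set e : (∀ i, D i) := fun i => if a i = 0 then (0 : D i) else 1 with he
    have hea : e * a = a := by
      funext i; by_cases h : a i = 0 <;> simp [he, h]
    have hnzd : a + (1 - e) ∈ nonZeroDivisors (∀ i, D i) := by
      rw [mem_nonZeroDivisors_iff_right]
      intro z hz
      funext i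
      have := congrFun hz i
      by_cases h : a i = 0 <;> simp_all [he]
    rw [hA]
    intro f hf f' hf'
    have hx : f a = f' a := (hA a).1 ha f hf f' hf'
    have hee : e * e = e := by funext i; by_cases h : a i = 0 <;> simp [he, h]
    have key : ∀ g ∈ F, ∀ g' ∈ F, g a = g' a → g e * (1 - g' e) = 0 := by
      intro g hg g' hg' hgg'
      refine (mem_nonZeroDivisors_iff_right.1 (hF g hg _ hnzd)) _ ?_
      have h1 : g' e * g' a = g' a := by rw [← map_mul, hea]
      have h2 : g e * g e = g e := by rw [← map_mul, hee]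
      rw [map_add, map_sub, map_one]
      linear_combination (g e * (1 - g' e)) * hgg' - g e * h1 + (g' e - 1) * h2
    have h1 := key f hf f' hf' hx
    have h2 := key f' hf' f hf hx.symm
    linear_combination h1 - h2
  -- the partition of the index set
  let rel : Setoid ι :=
    { r := fun i i' => ∀ a ∈ A, a i = 0 ↔ a i' = 0
      iseqv := ⟨fun _ _ _ => Iff.rfl, fun h a ha => (h a ha).symm,
        fun h h' a ha => (h a ha).trans (h' a ha)⟩ }
  let κ := Quotient rel
  haveI : Fintype κ := Fintype.ofFinite _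
  let cls : κ → Type u := fun q => {i : ι // (⟦i⟧ : κ) = q}
  let res : ∀ q : κ, A →+* Π i : cls q, D i.1 := fun q =>
    RingHom.pi fun i => (Pi.evalRingHom D i.1).comp A.subtype
  have hres : ∀ q (a : A) (i : cls q), res q a i = (a : (∀ i, D i)) i.1 := fun _ _ _ => rfl
  have hzero : ∀ q (a : A) (i i' : cls q), (a : (∀ i, D i)) i.1 = 0 → (a : (∀ i, D i)) i'.1 = 0 := fun q a i i' h =>
    (Quotient.exact (i.2.trans i'.2.symm) _ a.2).1 h
  -- the atoms
  have hatom : ∀ q : κ, ∃ e : A, ∀ i, (e : (∀ i, D i)) i = if (⟦i⟧ : κ) = q then (1 : D i) else 0 := by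
    intro q
    obtain ⟨i₀, rfl⟩ := Quotient.mk_surjective q
    have hsep : ∀ i, ∃ e : A, (e : (∀ i, D i)) i₀ = 1 ∧ (∀ j, (e : (∀ i, D i)) j = 0 ∨ (e : (∀ i, D i)) j = 1) ∧
        ((⟦i⟧ : κ) ≠ ⟦i₀⟧ → (e : (∀ i, D i)) i = 0) := by
      intro i
      by_cases hi : (⟦i⟧ : κ) = ⟦i₀⟧
      · exact ⟨1, rfl, fun j => Or.inr rfl, fun h => absurd hi h⟩
      · have : ¬ ∀ a ∈ A, a i = 0 ↔ a i₀ = 0 := fun h => hi (Quotient.sound h)
        push Not at this
        obtain ⟨a, ha, hai⟩ := this
        rcases hai with ⟨h1, h2⟩ | ⟨h1, h2⟩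
        · refine ⟨⟨_, hsupp a ha⟩, by simp [h2], fun j => ?_, fun _ => by simp [h1]⟩
          by_cases h : a j = 0 <;> simp [h]
        · refine ⟨⟨_, A.sub_mem A.one_mem (hsupp a ha)⟩, by simp [h2], fun j => ?_,
            fun _ => by simp [h1]⟩
          by_cases h : a j = 0 <;> simp [h]
    choose e he₀ he01 he using hsep
    refine ⟨∏ i, e i, fun i => ?_⟩
    have hprod : ((∏ j, e j : A) : (∀ i, D i)) i = ∏ j, (e j : (∀ i, D i)) i := by
      rw [SubmonoidClass.coe_finsetProd, Finset.prod_apply]
    rw [hprod]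
    by_cases hi : (⟦i⟧ : κ) = ⟦i₀⟧
    · rw [if_pos hi]
      refine Finset.prod_eq_one fun j _ => ?_
      rcases he01 j i with h | h
      · have := (Quotient.exact hi (e j : (∀ i, D i)) (e j).2).1 h
        exact absurd (this.symm.trans (he₀ j)) zero_ne_one
      · exact h
    · rw [if_neg hi]
      exact Finset.prod_eq_zero (Finset.mem_univ i) (he i hi)
  choose at' hat using hatom
  have hne : ∀ q : κ, Nonempty (cls q) := fun q => by
    obtain ⟨i, rfl⟩ := Quotient.mk_surjective q; exact ⟨⟨i, rfl⟩⟩
  let E : κ → Type u := fun q => (res q).range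
  let ev : ∀ q (i : cls q), (res q).range →+* D i.1 := fun q i =>
    (Pi.evalRingHom (fun j : cls q => D j.1) i).comp (res q).range.subtype
  have hev : ∀ q (i : cls q), Function.Injective (ev q i) := by
    intro q i
    rw [injective_iff_map_eq_zero]
    rintro ⟨_, a, rfl⟩ h
    exact Subtype.ext (funext fun j => hzero q a i j h)
  haveI hdom : ∀ q, IsDomain (res q).range := fun q => by
    obtain ⟨i⟩ := hne q
    exact (hev q i).isDomain
  haveI hic : ∀ q, IsIntegrallyClosed (res q).range := by
    intro q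
    rw [isIntegrallyClosed_iff (FractionRing (res q).range)]
    intro x hx
    obtain ⟨⟨_, a, rfl⟩, ⟨⟨_, b, rfl⟩, hb0⟩, rfl⟩ := IsLocalization.exists_mk'_eq
      (nonZeroDivisors (res q).range) x
    have hb : ∀ i : cls q, (b : (∀ i, D i)) i.1 ≠ 0 := fun i h => by
      refine nonZeroDivisors.ne_zero hb0 (hev q i ?_)
      rw [map_zero]; exact h
    have hc : ∀ i : cls q, ∃ c : D i.1, c * (b : (∀ i, D i)) i.1 = (a : (∀ i, D i)) i.1 := by
      intro i
      let φ : FractionRing (res q).range →+* FractionRing (D i.1) :=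
        IsFractionRing.lift (g := (algebraMap (D i.1) (FractionRing (D i.1))).comp (ev q i))
          ((IsFractionRing.injective (D i.1) _).comp (hev q i))
      have hint : IsIntegral (D i.1) (φ (IsLocalization.mk' (FractionRing (res q).range)
          (⟨res q a, a, rfl⟩ : (res q).range) (⟨⟨res q b, b, rfl⟩, hb0⟩ : nonZeroDivisors _))) := by
        obtain ⟨P, hP, hev'⟩ := hx
        refine ⟨P.map (ev q i), hP.map _, ?_⟩
        have h1 := congrArg φ hev'
        rw [map_zero, Polynomial.hom_eval₂] at h1
        rw [Polynomial.eval₂_map]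
        refine Eq.trans ?_ h1
        congr 1
        refine RingHom.ext fun y => ?_
        simp [φ]
      obtain ⟨c, hc⟩ := IsIntegrallyClosed.isIntegral_iff.1 hint
      refine ⟨c, IsFractionRing.injective (D i.1) (FractionRing (D i.1)) ?_⟩
      have h2 : φ (IsLocalization.mk' (FractionRing (res q).range) (⟨res q a, a, rfl⟩ : (res q).range)
          (⟨⟨res q b, b, rfl⟩, hb0⟩ : nonZeroDivisors _)) *
          φ (algebraMap _ _ (⟨res q b, b, rfl⟩ : (res q).range)) =
          φ (algebraMap _ _ (⟨res q a, a, rfl⟩ : (res q).range)) := by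
        rw [← map_mul]
        congr 1
        exact IsLocalization.mk'_spec _ _ _
      rw [← hc] at h2
      simp only [φ, IsFractionRing.lift_algebraMap, RingHom.comp_apply] at h2
      rw [map_mul]
      exact h2
    choose c hc using hc
    let cS : (∀ i, D i) := fun i => if h : (⟦i⟧ : κ) = q then c ⟨i, h⟩ else 0
    let b' : A := b * at' q + (1 - at' q)
    have hb' : (b' : (∀ i, D i)) ∈ nonZeroDivisors (∀ i, D i) := by
      rw [mem_nonZeroDivisors_iff_right]
      intro z hz
      funext i
      have h1 := congrFun hz i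
      simp only [b', Pi.mul_apply, Subring.coe_add, Subring.coe_mul, AddSubgroupClass.coe_sub,
        Subring.coe_one, Pi.add_apply, Pi.sub_apply, Pi.one_apply, hat, Pi.zero_apply] at h1
      by_cases hi : (⟦i⟧ : κ) = q
      · simpa [hi, hb ⟨i, hi⟩] using h1
      · simpa [hi] using h1
    have hcb : cS * (b' : (∀ i, D i)) = ((a * at' q : A) : (∀ i, D i)) := by
      funext i
      simp only [b', Pi.mul_apply, Subring.coe_add, Subring.coe_mul, AddSubgroupClass.coe_sub,
        Subring.coe_one, Pi.add_apply, Pi.sub_apply, Pi.one_apply, hat, cS]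
      by_cases hi : (⟦i⟧ : κ) = q
      · simp [hi, hc ⟨i, hi⟩]
      · simp [hi]
    have hcS : cS ∈ A := by
      rw [hA]
      intro f hf f' hf'
      refine (mul_cancel_right_mem_nonZeroDivisors (hF f hf _ hb')).1 ?_
      rw [← map_mul, hcb, (hA _).1 (a * at' q).2 f hf f' hf', ← hcb, map_mul,
        (hA _).1 b'.2 f' hf' f hf]
    refine ⟨⟨res q ⟨cS, hcS⟩, ⟨_, rfl⟩⟩, ?_⟩
    rw [IsLocalization.eq_mk'_iff_mul_eq, ← map_mul]
    congr 1
    refine Subtype.ext (funext fun i => ?_)
    show cS i.1 * (b : (∀ i, D i)) i.1 = (a : (∀ i, D i)) i.1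
    simp only [cS, i.2, dite_true]
    exact hc i
  refine ⟨κ, inferInstance, E, fun q => inferInstanceAs (CommRing (res q).range), hdom, hic,
    ⟨RingEquiv.ofBijective (RingHom.pi fun q => (res q).rangeRestrict) ⟨?_, ?_⟩⟩⟩
  · rw [injective_iff_map_eq_zero]
    intro a h
    refine Subtype.ext (funext fun i => ?_)
    exact congrFun (congrArg Subtype.val (congrFun h ⟦i⟧)) ⟨i, rfl⟩
  · intro y
    choose l hl using fun q => (res q).rangeRestrict_surjective (y q)
    refine ⟨∑ q, l q * at' q, funext fun q => ?_⟩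
    rw [← hl q]
    refine Subtype.ext (funext fun i => ?_)
    show ((∑ q, l q * at' q : A) : (∀ i, D i)) i.1 = (l q : (∀ i, D i)) i.1
    rw [AddSubmonoidClass.coe_finsetSum, Finset.sum_apply, Finset.sum_eq_single q]
    · simp [hat, i.2]
    · intro q' _ hq'
      simp [hat, i.2, Ne.symm hq']
    · simp

end Groth.Agent.S11135
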