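import Groth.Statements.S11136
import Mathlib.RingTheory.Invariant.Basic
import Mathlib.RingTheory.Spectrum.Prime.Noetherian
import Mathlib.Topology.NoetherianSpace
import Mathlib.RingTheory.Spectrum.Prime.Jacobson
import Mathlib.RingTheory.Ideal.GoingUp

set_option autoImplicit false
universe u v
open InvTh

namespace Groth.Agent.S11136

/-- Let a finite group G act on a Noetherian commutative ring R by ring automorphisms, with ring of
invariants A (A → R injective with image the fixed elements). When the prime spectrum of A is
connected, any two connected components of Spec R are exchanged by some element of G: for all points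
x, y of Spec R there is g in G whose induced self-map of Spec R carries the connected component of x
onto the connected component of y. -/
theorem result
    (A : Type u) (R : Type v) [CommRing A] [CommRing R] [Algebra A R] [IsNoetherianRing R]
    (G : Type u) [Group G] [Finite G] [MulSemiringAction G R] [SMulCommClass G A R]
    [Algebra.IsInvariant A R G] [FaithfulSMul A R]
    [ConnectedSpace (PrimeSpectrum A)] (x y : PrimeSpectrum R) :
    ∃ g : G, PrimeSpectrum.comap (MulSemiringAction.toRingHom G R g) '' connectedComponent x =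
      connectedComponent y := by
  open scoped Pointwise in
  classical
  have := Algebra.IsInvariant.isIntegral A R G
  let h : G → PrimeSpectrum R → PrimeSpectrum R := fun g => PrimeSpectrum.comap (MulSemiringAction.toRingHom G R g)
  have hcomp : ∀ g g' : G, h g ∘ h g' = h (g' * g) := fun g g' => by
    funext z
    ext r
    simp [h, mul_smul]
  have h1 : h 1 = _root_.id := by funext z; ext r; simp [h]
  have himg : ∀ (g : G) (z : PrimeSpectrum R), h g '' connectedComponent z = connectedComponent (h g z) := by
    intro g z
    refine subset_antisymm ((PrimeSpectrum.continuous_comap _).image_connectedComponent_subset z) ?_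
    intro w hw
    refine ⟨h g⁻¹ w, ?_, ?_⟩
    · have := (PrimeSpectrum.continuous_comap (MulSemiringAction.toRingHom G R g⁻¹)).image_connectedComponent_subset (h g z) ⟨w, hw, rfl⟩
      rwa [show PrimeSpectrum.comap (MulSemiringAction.toRingHom G R g⁻¹) (h g z) = z from by
        have := congrFun (hcomp g⁻¹ g) z; rwa [mul_inv_cancel, h1] at this] at this
    · have := congrFun (hcomp g g⁻¹) w; rwa [inv_mul_cancel, h1] at this
  let U : Set (PrimeSpectrum R) := ⋃ g : G, connectedComponent (h g x)
  have hUclosed : IsClosed U := isClosed_iUnion_of_finite fun g => isClosed_connectedComponent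
  have hV : IsClosed Uᶜ := by
    have e : Uᶜ = ⋃ Z ∈ {Z ∈ irreducibleComponents (PrimeSpectrum R) | Disjoint Z U}, Z := by
      ext z
      simp only [Set.mem_compl_iff, Set.mem_iUnion, Set.mem_setOf_eq, exists_prop]
      constructor
      · intro hz
        refine ⟨irreducibleComponent z, ⟨irreducibleComponent_mem_irreducibleComponents z, Set.disjoint_left.2 fun w hw hwU => hz ?_⟩, mem_irreducibleComponent⟩
        obtain ⟨g, hg⟩ := Set.mem_iUnion.1 hwU
        exact Set.mem_iUnion.2 ⟨g, (connectedComponent_eq hg) ▸
          ((isIrreducible_irreducibleComponent.isConnected.isPreconnected.subset_connectedComponent hw) mem_irreducibleComponent)⟩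
      · rintro ⟨Z, ⟨-, hd⟩, hz⟩ hzU
        exact Set.disjoint_left.1 hd hz hzU
    rw [e]
    exact (Set.Finite.subset TopologicalSpace.NoetherianSpace.finite_irreducibleComponents fun Z hZ => hZ.1).isClosed_biUnion
      fun Z hZ => isClosed_of_mem_irreducibleComponents Z hZ.1
  let q : PrimeSpectrum R → PrimeSpectrum A := PrimeSpectrum.comap (algebraMap A R)
  have hq : IsClosedMap q := PrimeSpectrum.isClosedMap_comap_of_isIntegral _ (algebraMap_isIntegral_iff.2 inferInstance)
  have hsurj : Function.Surjective q := fun p => by
    obtain ⟨Q, -, hQ, hQp⟩ := Ideal.exists_ideal_over_prime_of_isIntegral p.asIdeal (⊥ : Ideal R) (fun a ha => by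
      have ha' : a = 0 := FaithfulSMul.algebraMap_injective A R (by rw [map_zero]; simpa [Ideal.mem_comap] using ha)
      rw [ha']; exact zero_mem _)
    exact ⟨⟨Q, hQ⟩, PrimeSpectrum.ext hQp⟩
  have hsat : ∀ u v, q u = q v → u ∈ U → v ∈ U := by
    intro u v huv hu
    obtain ⟨g, hg⟩ := Algebra.IsInvariant.exists_smul_of_under_eq A R G u.asIdeal v.asIdeal (congrArg PrimeSpectrum.asIdeal huv)
    have hv : v = h g⁻¹ u := by
      ext r
      rw [hg, Ideal.mem_pointwise_smul_iff_inv_smul_mem]
      rfl
    obtain ⟨g', hg'⟩ := Set.mem_iUnion.1 hu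
    refine Set.mem_iUnion.2 ⟨g' * g⁻¹, ?_⟩
    rw [show h (g' * g⁻¹) x = h g⁻¹ (h g' x) from (congrFun (hcomp g⁻¹ g') x).symm, ← himg, hv]
    exact ⟨u, hg', rfl⟩
  have hne : (q '' U).Nonempty := ⟨q x, x, Set.mem_iUnion.2 ⟨1, by rw [h1]; exact mem_connectedComponent⟩, rfl⟩
  have hcl : IsClopen (q '' U) := by
    refine ⟨hq U hUclosed, ?_⟩
    have : (q '' U)ᶜ = q '' Uᶜ := by
      ext w
      constructor
      · intro hw
        obtain ⟨z, rfl⟩ := hsurj w
        exact ⟨z, fun hz => hw ⟨z, hz, rfl⟩, rfl⟩
      · rintro ⟨z, hz, rfl⟩ ⟨z', hz', e⟩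
        exact hz (hsat z' z e hz')
    rw [← compl_compl (q '' U), this]
    exact (hq _ hV).isOpen_compl
  obtain ⟨u, hu, huy⟩ : q y ∈ q '' U := by rw [hcl.eq_univ hne]; trivial
  obtain ⟨g, hg⟩ := Set.mem_iUnion.1 (hsat u y huy hu)
  exact ⟨g, (himg g x).trans (connectedComponent_eq hg)⟩

end Groth.Agent.S11136
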