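import Groth.Prelude.Def_RegImm
import Mathlib.AlgebraicGeometry.Noetherian
import Mathlib.AlgebraicGeometry.Morphisms.Flat
import Mathlib.AlgebraicGeometry.Morphisms.FiniteType
import Mathlib.AlgebraicGeometry.Pullbacks
import Mathlib.CategoryTheory.Monoidal.Cartesian.Over
import Mathlib.AlgebraicGeometry.Group.Smooth
import Groth.Agent.CohDer1.GroupSyntomic

set_option autoImplicit false
universe u
namespace CategoryTheory
end CategoryTheory
namespace MonoidalCategory
end MonoidalCategory
namespace CartesianMonoidalCategory
end CartesianMonoidalCategory
namespace MonObj
end MonObj
namespace GrpObj
end GrpObj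
namespace AlgebraicGeometry
end AlgebraicGeometry
open CategoryTheory MonoidalCategory CartesianMonoidalCategory MonObj GrpObj AlgebraicGeometry
namespace GrpSch
end GrpSch
open GrpSch

namespace Groth.Agent.S11138

/-- For a Noetherian scheme S and a group scheme G over S that is flat and of finite type over S, the
structure morphism G → S is syntomic (flat and lci): locally it is given by flat ring maps of finite
presentation each of whose fibre rings is a local complete intersection over the residue field. -/
theorem result (S : Scheme.{u}) [IsNoetherian S]
    (G : Over S) [GrpObj G] [Flat G.hom] [LocallyOfFiniteType G.hom] [QuasiCompact G.hom] :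
    Synt.IsSyntomicMor G.hom := by
  haveI : LocallyOfFinitePresentation G.hom := inferInstance
  exact Groth.Agent.CohDer1.GroupSyntomic.isSyntomicMor G

end Groth.Agent.S11138
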