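import Groth.Statements.S11141
import Groth.Agent.HopfLib.GITApps
import Mathlib.RingTheory.IntegralClosure.IntegrallyClosed
import Mathlib.RingTheory.Localization.FractionRing

set_option autoImplicit false
universe u
open TensorProduct
open InvTh

namespace Groth.Agent.S11141

open Groth.Agent.HopfLib

/-- A subring of a product of normal domains closed under supports and division is again one. -/
theorem product_of_saturated {ι : Type u} [Fintype ι] {D : ι → Type u} [∀ i, CommRing (D i)]
    [∀ i, IsDomain (D i)] [∀ i, IsIntegrallyClosed (D i)] (A : Subring (Π i, D i))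
    (hsupp : ∀ b ∈ A, ∃ e ∈ A, ∀ i, (b i ≠ 0 → e i = 1) ∧ (b i = 0 → e i = 0))
    (hsat : ∀ b ∈ A, ∀ y : Π i, D i, b * y ∈ A → (∀ i, b i = 0 → y i = 0) → y ∈ A) :
    ∃ (κ : Type u) (_ : Fintype κ) (E : κ → Type u) (_ : ∀ j, CommRing (E j)) (_ : ∀ j, IsDomain (E j))
      (_ : ∀ j, IsIntegrallyClosed (E j)), Nonempty (A ≃+* Π j, E j) := by
  classical
  let r : Setoid ι :=
    { r := fun i i' => ∀ b ∈ A, (b i = 0 ↔ b i' = 0)
      iseqv := ⟨fun _ _ _ => Iff.rfl, fun h b hb => (h b hb).symm, fun h h' b hb => (h b hb).trans (h' b hb)⟩ }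
  let κ := Quotient r
  let cl : ι → κ := Quotient.mk r
  -- indicators of the classes
  have hε : ∀ j : κ, (fun i => if cl i = j then (1 : D i) else 0) ∈ A := by
    intro j
    obtain ⟨i₀, rfl⟩ := Quotient.exists_rep j
    have hsep : ∀ i', cl i' ≠ cl i₀ → ∃ e ∈ A, (∀ i, cl i = cl i₀ → e i = 1) ∧ e i' = 0 ∧
        ∀ i, e i = 0 ∨ e i = 1 := by
      intro i' hne
      obtain ⟨b, hb, hbne⟩ : ∃ b ∈ A, ¬(b i₀ = 0 ↔ b i' = 0) := by
        by_contra hc
        push Not at hc
        exact hne (Quotient.sound fun b hb => (hc b hb).symm)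
      obtain ⟨e, he, hee⟩ := hsupp b hb
      have h01 : ∀ i, e i = 0 ∨ e i = 1 := fun i => by
        by_cases h : b i = 0
        · exact Or.inl ((hee i).2 h)
        · exact Or.inr ((hee i).1 h)
      by_cases h0 : b i₀ = 0
      · refine ⟨1 - e, A.sub_mem A.one_mem he, fun i hi => ?_, ?_, fun i => ?_⟩
        · simp [(hee i).2 ((Quotient.exact hi b hb).2 h0)]
        · simp [(hee i').1 fun h => hbne ⟨fun _ => h, fun _ => h0⟩]
        · rcases h01 i with h | h <;> simp [h]
      · exact ⟨e, he, fun i hi => (hee i).1 fun h => h0 ((Quotient.exact hi b hb).1 h),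
          (hee i').2 (by by_contra h; exact hbne ⟨fun h' => absurd h' h0, fun h' => absurd h' h⟩), h01⟩
    choose! e he he1 he0 he01 using hsep
    have hprod : (fun i => if cl i = cl i₀ then (1 : D i) else 0) =
        ∏ i' ∈ Finset.univ.filter (fun i' => cl i' ≠ cl i₀), e i' := by
      funext i
      rw [Finset.prod_apply]
      by_cases hi : cl i = cl i₀
      · rw [if_pos hi, Finset.prod_eq_one]
        exact fun i' hi' => he1 i' (Finset.mem_filter.1 hi').2 i hi
      · rw [if_neg hi, Finset.prod_eq_zero (Finset.mem_filter.2 ⟨Finset.mem_univ i, hi⟩)]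
        exact he0 i hi
    show (fun i => if cl i = cl i₀ then (1 : D i) else 0) ∈ A
    rw [hprod]
    exact Subring.prod_mem _ fun i' hi' => he i' (Finset.mem_filter.1 hi').2
  let π : ∀ j : κ, A →+* Π i : {i // cl i = j}, D i.1 := fun j =>
    Pi.ringHom fun i => (Pi.evalRingHom D i.1).comp A.subtype
  let E : κ → Type u := fun j => ↥(π j).range
  letI : ∀ j, CommRing (E j) := fun j => inferInstanceAs (CommRing ↥(π j).range)
  have hrep : ∀ j : κ, ∃ i : ι, cl i = j := fun j => Quotient.exists_rep j
  have hfull : ∀ (j : κ) (x : E j), x ≠ 0 → ∀ i : {i // cl i = j}, (x : (π j).range).1 i ≠ 0 := by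
    intro j x hx i hi
    apply hx
    obtain ⟨b, hb⟩ := x.2
    refine Subtype.ext (funext fun i' => ?_)
    have hbi : (b : Π i, D i) i.1 = 0 := by rw [← hb] at hi; exact hi
    have hrel : r i.1 i'.1 := Quotient.exact (i.2.trans i'.2.symm)
    rw [← hb]
    exact (hrel b b.2).1 hbi
  have hdom : ∀ j, IsDomain (E j) := fun j => by
    haveI : Nontrivial (E j) := by
      obtain ⟨i, hi⟩ := hrep j
      refine ⟨⟨1, 0, fun h => ?_⟩⟩
      exact one_ne_zero (congrFun (congrArg Subtype.val h) ⟨i, hi⟩)
    haveI : NoZeroDivisors (E j) := ⟨fun {x y} hxy => by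
      obtain ⟨i, hi⟩ := hrep j
      rcases mul_eq_zero.1 (congrFun (congrArg Subtype.val hxy) ⟨i, hi⟩) with h | h
      · exact Or.inl (by_contra fun hne => hfull j x hne ⟨i, hi⟩ h)
      · exact Or.inr (by_contra fun hne => hfull j y hne ⟨i, hi⟩ h)⟩
    exact NoZeroDivisors.to_isDomain _
  haveI := hdom
  have hic : ∀ j, IsIntegrallyClosed (E j) := fun j => by
    rw [isIntegrallyClosed_iff (FractionRing (E j))]
    intro x hx
    obtain ⟨⟨a, b, hb⟩, hab⟩ := IsLocalization.surj (nonZeroDivisors (E j)) x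
    obtain ⟨a', ha'⟩ := a.2
    obtain ⟨b', hb'⟩ := b.2
    have hb0 : b ≠ 0 := nonZeroDivisors.ne_zero hb
    have hy : ∀ i : {i // cl i = j}, ∃ y : D i.1, (b' : Π i, D i) i.1 * y = (a' : Π i, D i) i.1 := by
      intro i
      let f : E j →+* D i.1 := (Pi.evalRingHom (fun i : {i // cl i = j} => D i.1) i).comp (π j).range.subtype
      have hf : Function.Injective f := (injective_iff_map_eq_zero f).2 fun z hz =>
        by_contra fun hne => hfull j z hne i hz
      have hfa : f a = (a' : Π i, D i) i.1 := (congrFun ha' i).symm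
      have hfb : f b = (b' : Π i, D i) i.1 := (congrFun hb' i).symm
      let g : FractionRing (E j) →+* FractionRing (D i.1) :=
        IsFractionRing.lift (g := (algebraMap (D i.1) (FractionRing (D i.1))).comp f)
          ((IsFractionRing.injective _ _).comp hf)
      have hg : ∀ z, g (algebraMap (E j) _ z) = algebraMap (D i.1) _ (f z) := fun z =>
        IsFractionRing.lift_algebraMap _ z
      have hint : IsIntegral (D i.1) (g x) := by
        obtain ⟨p, hp, hpx⟩ := hx
        refine ⟨p.map f, hp.map f, ?_⟩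
        rw [Polynomial.eval₂_map, ← show g.comp (algebraMap (E j) (FractionRing (E j))) =
          (algebraMap (D i.1) (FractionRing (D i.1))).comp f from RingHom.ext hg, ← Polynomial.hom_eval₂, hpx, map_zero]
      obtain ⟨y, hy⟩ := IsIntegrallyClosed.isIntegral_iff.1 hint
      refine ⟨y, IsFractionRing.injective (D i.1) (FractionRing (D i.1)) ?_⟩
      have h := congrArg g hab
      rw [map_mul, ← hy, hg, hg, hfa, hfb] at h
      rw [map_mul, mul_comm]
      exact h
    choose y hy using hy
    let y' : Π i, D i := fun i => if h : cl i = j then y ⟨i, h⟩ else 0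
    let ε : Π i, D i := fun i => if cl i = j then 1 else 0
    have hby : ε * (b' : Π i, D i) * y' = ε * (a' : Π i, D i) := funext fun i => by
      by_cases h : cl i = j
      · simp only [Pi.mul_apply, ε, y', if_pos h, dif_pos h, one_mul]; exact hy ⟨i, h⟩
      · simp [ε, if_neg h]
    have hmem : y' ∈ A := hsat (ε * (b' : Π i, D i)) (A.mul_mem (hε j) b'.2) y'
      (by rw [hby]; exact A.mul_mem (hε j) a'.2) fun i hi => by
        by_cases h : cl i = j
        · simp only [Pi.mul_apply, ε, if_pos h, one_mul] at hi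
          exact absurd hi (fun h' => hfull j b hb0 ⟨i, h⟩ ((congrFun hb' ⟨i, h⟩).symm.trans h'))
        · simp [y', dif_neg h]
    refine ⟨⟨π j ⟨y', hmem⟩, ⟨_, rfl⟩⟩, ?_⟩
    have hb0' : algebraMap (E j) (FractionRing (E j)) b ≠ 0 := fun h =>
      hb0 (IsFractionRing.injective (E j) (FractionRing (E j)) (by rw [h, map_zero]))
    refine mul_right_cancel₀ hb0' (Eq.trans ?_ hab.symm)
    rw [← map_mul]
    refine congrArg _ (Subtype.ext (funext fun i => ?_))
    show y' i.1 * b.1 i = a.1 i
    rw [← hb', ← ha', mul_comm]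
    simp only [y', dif_pos i.2]
    exact hy i
  refine ⟨κ, Fintype.ofFinite κ, E, inferInstance, hdom, hic,
    ⟨RingEquiv.ofBijective (Pi.ringHom fun j => (π j).rangeRestrict) ⟨fun x x' h => ?_, fun z => ?_⟩⟩⟩
  · refine Subtype.ext (funext fun i => ?_)
    exact congrFun (congrArg Subtype.val (congrFun h (cl i))) ⟨i, rfl⟩
  · have hz := fun j => (z j).2
    choose a ha using hz
    haveI := Fintype.ofFinite κ
    let s : A := ∑ j, ⟨_, hε j⟩ * a j
    refine ⟨s, funext fun j => Subtype.ext (funext fun i => ?_)⟩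
    show (s : Π i, D i) i.1 = (z j).1 i
    rw [← ha j]
    show (s : Π i, D i) i.1 = (a j : Π i, D i) i.1
    simp only [s, AddSubmonoidClass.coe_finsetSum, Finset.sum_apply, Subring.coe_mul, Pi.mul_apply]
    rw [Finset.sum_eq_single j]
    · simp [i.2]
    · intro j' _ hne
      simp [i.2, Ne.symm hne]
    · simp

/-- Let k be a field, H a finitely generated commutative Hopf algebra over k (the coordinate ring of a
group scheme affine and of finite type over k), and S a commutative k-algebra which is
ring-isomorphic to a finite product of normal (integrally closed) domains and carries an H-comodule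
structure whose coaction S → S ⊗ H is multiplicative and unital. Then the k-subalgebra of invariants
of S, the elements s whose coaction is s ⊗ 1, is again ring-isomorphic to a finite product of normal
domains. -/
theorem result (k : Type u) [Field k]
    (H : Type u) [CommRing H] [HopfAlgebra k H] [Algebra.FiniteType k H]
    (S : Type u) [CommRing S] [Algebra k S] [HopfRep.Comod k H S]
    (hmul : ∀ x y : S, HopfRep.Comod.coact (k := k) (A := H) (x * y) =
        HopfRep.Comod.coact (k := k) (A := H) x * HopfRep.Comod.coact (k := k) (A := H) y)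
    (hone : HopfRep.Comod.coact (k := k) (A := H) (1 : S) = 1)
    {ι : Type u} [Fintype ι] (D : ι → Type u) [∀ i, CommRing (D i)] [∀ i, IsDomain (D i)]
    [∀ i, IsIntegrallyClosed (D i)] (e : S ≃+* Π i, D i)
    (A : Subalgebra k S)
    (hA : ∀ a : S, a ∈ A ↔ HopfRep.Comod.coact (k := k) (A := H) a = a ⊗ₜ[k] (1 : H)) :
    ∃ (κ : Type u) (_ : Fintype κ) (E : κ → Type u) (_ : ∀ j, CommRing (E j)) (_ : ∀ j, IsDomain (E j))
      (_ : ∀ j, IsIntegrallyClosed (E j)), Nonempty (A ≃+* Π j, E j) := by
  classical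
  haveI : GLin.IsCoactAlg k H S := ⟨hone, hmul⟩
  let φ : S →ₐ[k] S ⊗[k] H := GLin.coactAlgHom k H S
  let φ₀ : S →ₐ[k] S ⊗[k] H := Algebra.TensorProduct.includeLeft
  have hA' : ∀ a : S, a ∈ A ↔ φ a = φ₀ a := hA
  have hsh : ∀ s : S, shear (k := k) (φ₀ s) = φ s := fun s => by
    show shear (k := k) (s ⊗ₜ[k] (1 : H)) = _
    rw [shear_tmul, ← Algebra.TensorProduct.one_def, mul_one]; rfl
  let ind : S → S := fun b => e.symm fun i => if e b i = 0 then 0 else 1
  have hbe : ∀ b : S, b * ind b = b := fun b => e.injective (funext fun i => by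
    simp only [ind, map_mul, RingEquiv.apply_symm_apply, Pi.mul_apply]
    by_cases h : e b i = 0 <;> simp [h])
  have hann : ∀ b : S, ∀ t : S ⊗[k] H, φ₀ b * t = 0 → φ₀ (ind b) * t = 0 := by
    intro b t ht
    let L := LinearMap.mulLeft k b
    let M := LinearMap.mulLeft k (ind b)
    have hker : LinearMap.ker L ≤ LinearMap.ker M := fun x hx => by
      rw [LinearMap.mem_ker] at hx ⊢
      change b * x = 0 at hx
      refine e.injective (funext fun i => ?_)
      have hx' := congrFun (congrArg e hx) i
      simp only [M, ind, LinearMap.mulLeft_apply, map_mul, RingEquiv.apply_symm_apply, Pi.mul_apply, map_zero,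
        Pi.zero_apply, mul_eq_zero] at hx' ⊢
      rcases hx' with h | h <;> simp [h]
    obtain ⟨N, hN⟩ : ∃ N : S →ₗ[k] S, N ∘ₗ L = M := by
      obtain ⟨N, hN⟩ := LinearMap.exists_extend
        (((LinearMap.ker L).liftQ M hker) ∘ₗ L.quotKerEquivRange.symm.toLinearMap)
      refine ⟨N, LinearMap.ext fun x => ?_⟩
      have := LinearMap.congr_fun hN ⟨L x, ⟨x, rfl⟩⟩
      refine Eq.trans this ?_
      refine (congrArg ((LinearMap.ker L).liftQ M hker) (L.quotKerEquivRange_symm_apply_image x ⟨x, rfl⟩)).trans ?_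
      rfl
    have hrT : ∀ c : S, ∀ u : S ⊗[k] H, φ₀ c * u = (LinearMap.mulLeft k c).rTensor H u := fun c u => by
      induction u using TensorProduct.induction_on with
      | zero => simp
      | add p q hp hq => simp only [mul_add, map_add, hp, hq]
      | tmul p q => simp [φ₀]
    rw [hrT]
    show M.rTensor H t = 0
    rw [← hN, LinearMap.rTensor_comp, LinearMap.comp_apply, ← hrT, ht, map_zero]
  have hindA : ∀ b ∈ A, ind b ∈ A := by
    intro b hb
    rw [hA'] at hb ⊢
    have hb1 : φ₀ b * (1 - φ (ind b)) = 0 := by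
      rw [← hb, mul_sub, mul_one, ← map_mul, hbe, sub_self]
    have h1 := hann b _ hb1
    have hb2 : φ b * (1 - φ₀ (ind b)) = 0 := by
      rw [hb, mul_sub, mul_one, ← map_mul, hbe, sub_self]
    obtain ⟨u, hu⟩ := shear_surjective (1 - φ₀ (ind b))
    have h2' : φ₀ b * u = 0 := shear_injective (by rw [map_mul, hsh, hu, hb2, map_zero])
    have h2 : φ (ind b) * (1 - φ₀ (ind b)) = 0 := by
      rw [← hu, ← hsh, ← map_mul, hann b u h2', map_zero]
    linear_combination h2 - h1
  let A' : Subring (Π i, D i) := A.toSubring.map e.toRingHom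
  have hmem : ∀ x : Π i, D i, x ∈ A' ↔ e.symm x ∈ A := fun x => by
    simp only [A', Subring.mem_map]
    exact ⟨fun ⟨y, hy, hye⟩ => by rw [← hye]; simpa using hy, fun h => ⟨_, h, e.apply_symm_apply x⟩⟩
  obtain ⟨κ, hκ, E, i1, i2, i3, ⟨eA⟩⟩ := product_of_saturated A'
    (fun b hb => ⟨e (ind (e.symm b)), (hmem _).2 (by rw [e.symm_apply_apply]; exact hindA _ ((hmem b).1 hb)),
      fun i => ⟨fun h => by simp [ind, h], fun h => by simp [ind, h]⟩⟩)
    (fun b hb y hby hy => by
      rw [hmem] at hb hby ⊢
      set c := e.symm b with hc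
      set z := e.symm y with hz
      have hcz : c * z ∈ A := by rw [hc, hz, ← map_mul]; exact hby
      have hiz : ind c * z = z := e.injective (funext fun i => by
        simp only [ind, map_mul, hc, hz, RingEquiv.apply_symm_apply, Pi.mul_apply]
        by_cases h : b i = 0 <;> simp [h, hy i])
      have hcA := (hA' c).1 hb
      have h3 : φ₀ c * (φ z - φ₀ z) = 0 := by
        rw [mul_sub, ← map_mul, ← (hA' _).1 hcz, map_mul, hcA, sub_self]
      have h4 := hann c _ h3
      rw [mul_sub, ← map_mul, ← (hA' _).1 (hindA c hb), ← map_mul, hiz, sub_eq_zero] at h4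
      exact (hA' z).2 h4)
  exact ⟨κ, hκ, E, i1, i2, i3, ⟨(A.toSubring.equivMapOfInjective e.toRingHom e.injective).trans eA⟩⟩

end Groth.Agent.S11141
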