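import Groth.Statements.S11142
import Groth.Agent.H8Lim.MaxPoints
import Groth.Agent.FlatLocal.MaxPoints

set_option autoImplicit false
universe u
open CategoryTheory AlgebraicGeometry
open FlatMor

namespace Groth.Agent.S11142

/-- For a flat morphism f : X → Y between locally Noetherian schemes, the preimage under f of any dense
open subset of Y is dense in X. -/
theorem result (X Y : Scheme.{u}) [IsLocallyNoetherian X]
    [IsLocallyNoetherian Y] (f : X ⟶ Y) [Flat f] (U : Y.Opens) (hU : Dense (U : Set Y)) :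
    Dense ((f ⁻¹ᵁ U : X.Opens) : Set X) := by
  refine Groth.Agent.H8Lim.dense_of_forall_isMaxPt_mem fun ξ hξ => ?_
  have hη : Groth.Agent.H8Lim.IsMaxPt (f ξ) := Groth.Agent.FlatLocal.isMaxPt_of_flat f hξ
  obtain ⟨N, hN, hxN, -⟩ := TopologicalSpace.Opens.isBasis_iff_nbhd.mp Y.isBasis_affineOpens
    (TopologicalSpace.Opens.mem_top (f ξ))
  have : IsNoetherianRing Γ(Y, N) := IsLocallyNoetherian.component_noetherian ⟨N, hN⟩
  let j := hN.fromSpec
  obtain ⟨p, hp⟩ := hN.range_fromSpec.ge hxN
  have hmax : Groth.Agent.H8Lim.IsMaxPt p := fun z hz =>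
    j.isOpenEmbedding.injective ((hη (j z) (hp ▸ hz.map j.continuous)).trans hp.symm)
  have hfin : {s : PrimeSpectrum Γ(Y, N) | Groth.Agent.H8Lim.IsMaxPt s}.Finite := by
    refine ((TopologicalSpace.NoetherianSpace.finite_irreducibleComponents
      (α := PrimeSpectrum Γ(Y, N))).preimage (f := fun s => closure {s}) ?_).subset fun s hs =>
        (Groth.Agent.FlatLocal.isMaxPt_iff s).1 hs
    intro a _ b _ e
    exact (isGenericPoint_closure (x := a)).eq (show IsGenericPoint b (closure {a}) from e.symm)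
  have := Groth.Agent.H8Lim.mem_of_dense_of_isMaxPt (X := Spec Γ(Y, N)) hfin
    (U.2.preimage j.continuous) (hU.preimage j.isOpenEmbedding.isOpenMap) hmax
  show f ξ ∈ U
  rw [← hp]
  exact this

end Groth.Agent.S11142
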