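import Groth.Statements.S11145
import Groth.Agent.Dual22Lib.CohAdj
import Groth.Agent.Dual22Lib.CohTors

set_option autoImplicit false
universe u
open CategoryTheory CategoryTheory.Limits AlgebraicGeometry
attribute [local instance] HasDerivedCategory.standard
open Dual3

namespace Groth.Agent.S11145

/-- Let S be a Noetherian scheme, X and Y schemes separated and of finite type over S and f : X → Y a
morphism over S; compute f^! through a compactification f = j ∘ p (j : X → X' an open immersion, p :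
X' → Y proper, Rp_* on D_QCoh assumed to exist and to preserve quasi-coherence of cohomology, a a
right adjoint of Rp_*, restriction of modules to opens assumed exact), so that f^!K = a(K)|_X. If K
in D_QCoh(O_Y) is bounded below and all its cohomology sheaves are coherent, then f^!K is bounded
below and all its cohomology sheaves are coherent. -/
theorem result (S X Y : Scheme.{u}) [IsNoetherian S] (p : X ⟶ S) (q : Y ⟶ S)
    [Dual3.IsSepFT p] [Dual3.IsSepFT q] (f : X ⟶ Y) (w : f ≫ q = p) (c : DEt.Compactification f)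
    [DCoh.HasRpush c.fbar] (hc : DCoh.RpushPreservesQCoh c.fbar) (a : DCoh.DQCoh Y ⥤ DCoh.DQCoh c.Xbar)
    (adj : DCoh.RpushQ c.fbar hc ⊣ a)
    [∀ (U V : Scheme.{u}) (j : U ⟶ V) [IsOpenImmersion j], PreservesFiniteLimits (Scheme.Modules.restrictFunctor j)]
    (K : DCoh.DQCoh Y) (b : ℤ) (hKb : ∀ i : ℤ, i < b → IsZero (DCoh.HD K.obj i))
    (hK : ∀ i : ℤ, Coh.IsCoh (DCoh.HD K.obj i)) :
    (∃ b' : ℤ, ∀ i : ℤ, i < b' → IsZero (DCoh.HD ((Dual3.shriekC c a).obj K) i)) ∧
      ∀ i : ℤ, Coh.IsCoh (DCoh.HD ((Dual3.shriekC c a).obj K) i) := by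
  haveI : IsLocallyNoetherian Y := LocallyOfFiniteType.isLocallyNoetherian q
  haveI : CompactSpace Y := QuasiCompact.compactSpace_of_compactSpace q
  haveI : IsNoetherian Y := { }
  haveI : IsLocallyNoetherian X := LocallyOfFiniteType.isLocallyNoetherian p
  haveI : K.obj.IsGE b := (DerivedCategory.isGE_iff _ _).2 fun j hj => hKb j hj
  have hA : Groth.Agent.Dual22Lib.RepLib.RepObj c.fbar K.obj (a.obj K).obj :=
    ⟨fun {_} => ⟨(a.obj K).property, (adj.counit.app K).hom,
      fun L hL => Groth.Agent.Dual22Lib.SupportAdj.rep_counit c.fbar hc a adj K L hL⟩⟩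
  obtain ⟨b', hb'⟩ := Groth.Agent.Dual22Lib.RepLib.exists_isGE b hA
  haveI := hb'
  refine ⟨⟨b', fun i hi => ?_⟩, ?_⟩
  · exact (DerivedCategory.isGE_iff _ _).1 (Groth.Agent.Dual22Lib.CohTors.isGE_restrictD c.j b' hb') i hi
  · exact Groth.Agent.Dual22Lib.CohTors.isCohD_restrictD c.j (Groth.Agent.Dual22Lib.CohAdj.isCohD_of_rep c.fbar hA b hK)

end Groth.Agent.S11145
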