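import Groth.Prelude.Def_Dual3
import Groth.Prelude.Def_CAlg
import Mathlib.AlgebraicGeometry.Morphisms.Flat
import Mathlib.AlgebraicGeometry.Morphisms.FiniteType
import Mathlib.AlgebraicGeometry.Pullbacks
import Mathlib.CategoryTheory.Monoidal.Cartesian.Over
import Mathlib.AlgebraicGeometry.Group.Smooth
import Mathlib.Topology.KrullDimension
import Groth.Agent.CohDer1.GroupSyntomic

set_option autoImplicit false
universe u
namespace CategoryTheory
end CategoryTheory
namespace MonoidalCategory
end MonoidalCategory
namespace CartesianMonoidalCategory
end CartesianMonoidalCategory
namespace MonObj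
end MonObj
namespace GrpObj
end GrpObj
namespace AlgebraicGeometry
end AlgebraicGeometry
open CategoryTheory MonoidalCategory CartesianMonoidalCategory MonObj GrpObj AlgebraicGeometry
attribute [local instance] HasDerivedCategory.standard
namespace GrpSch
end GrpSch
open GrpSch

namespace Groth.Agent.S11146

/-- Group schemes over Gorenstein rings: let R be a Gorenstein local ring and G a group scheme over Spec
R which is flat and of finite type over Spec R. Then G is a Gorenstein scheme (locally Noetherian
with all local rings Gorenstein) and has finite Krull dimension. (The published statement concerns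
every member of the diagram Spec R ← G ⇇ G ×_R G of the action groupoid, each of which is Spec R or
again a flat finite-type group scheme over Spec R, and adds that O_S[d], for S = Spec R and d the
dimension of R, is then an equivariant dualizing complex; this row states the first assertion for
G.) -/
theorem result (R : Type u) [CommRing R]
    [LocCoh.IsGorensteinLocalRing R] (G : Over (Spec (CommRingCat.of R))) [GrpObj G] [Flat G.hom]
    [LocallyOfFiniteType G.hom] [QuasiCompact G.hom] :
    Dual3.IsGorenstein G.left ∧ topologicalKrullDim G.left < ⊤ := by
  haveI : LocallyOfFinitePresentation G.hom := inferInstance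
  exact ⟨Groth.Agent.Dual22Lib.GorMor.isGorenstein_of_lci G.hom
      (Groth.Agent.CohDer1.GroupSyntomic.isLCIMor G.hom (Groth.Agent.CohDer1.GroupSyntomic.isSyntomicMor G))
      (Groth.Agent.CohDer1.GroupSyntomic.isGorenstein_Spec R),
    Groth.Agent.CohDer1.GroupSyntomic.topologicalKrullDim_lt_top G.hom⟩

end Groth.Agent.S11146
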