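import Groth.Statements.S11148
import Groth.Agent.InvGor15.Core
import Groth.Agent.InvGor15.Invariance
-- import your own Groth.Agent.* helpers here

set_option autoImplicit false
universe u
open InvTh

namespace Groth.Agent.S11148

/-- Let k be a field, G a finite group whose order is invertible in k, and ρ : G → GL_n(k) a group
homomorphism all of whose values have determinant 1. Let G act on the polynomial ring k[X_1, …, X_n]
by ring automorphisms fixing k with g • X_i = Σ_j ρ(g)_{ji} X_j (the induced action on the symmetric
algebra of the representation), and let A be the ring of invariants (A → k[X] injective with image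
the fixed elements). Then A is a Gorenstein ring. (The published statement allows any linearly
reductive finite k-group scheme G with G → GL(V) factoring through SL(V), and also identifies the
canonical module of A with A; this row is the case of a constant group of order invertible in k and
keeps the Gorenstein conclusion.) -/
theorem result (k : Type u) [Field k] (n : ℕ)
    (G : Type u) [Group G] [Finite G] (hG : IsUnit ((Nat.card G : ℕ) : k))
    (ρ : G →* Matrix.GeneralLinearGroup (Fin n) k)
    (hdet : ∀ g : G, Matrix.det ((ρ g : Matrix (Fin n) (Fin n) k)) = 1)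
    [MulSemiringAction G (MvPolynomial (Fin n) k)]
    (hC : ∀ (g : G) (c : k), g • (MvPolynomial.C c : MvPolynomial (Fin n) k) = MvPolynomial.C c)
    (hX : ∀ (g : G) (i : Fin n), g • (MvPolynomial.X i : MvPolynomial (Fin n) k) =
      ∑ j : Fin n, (ρ g : Matrix (Fin n) (Fin n) k) j i • (MvPolynomial.X j : MvPolynomial (Fin n) k))
    (A : Type u) [CommRing A] [Algebra A (MvPolynomial (Fin n) k)]
    [SMulCommClass G A (MvPolynomial (Fin n) k)] [Algebra.IsInvariant A (MvPolynomial (Fin n) k) G]
    [FaithfulSMul A (MvPolynomial (Fin n) k)] :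
    LocCoh.IsGorensteinRing A := by
  haveI := Fintype.ofFinite G
  have hN : ((Fintype.card G : ℕ) : k) ≠ 0 := by
    rw [← Nat.card_eq_fintype_card]; exact hG.ne_zero
  obtain ⟨θ, d, hd, hfix, hrad⟩ := InvGor15.exists_invariant_params (fun g => (ρ g : Matrix (Fin n) (Fin n) k)) hC hX
  letI : Algebra (InvGor15.ParRing k n) (MvPolynomial (Fin n) k) := (InvGor15.parMap θ).toRingHom.toAlgebra
  have halg : algebraMap (InvGor15.ParRing k n) (MvPolynomial (Fin n) k) = (InvGor15.parMap θ).toRingHom := rfl
  haveI : Module.Finite (InvGor15.ParRing k n) (MvPolynomial (Fin n) k) := InvGor15.finite_parMap hd hrad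
  haveI : Module.Free (InvGor15.ParRing k n) (MvPolynomial (Fin n) k) := InvGor15.free_param halg hd
  have hcomm : ∀ (g : G) (s : InvGor15.ParRing k n),
      g • algebraMap (InvGor15.ParRing k n) (MvPolynomial (Fin n) k) s = algebraMap _ _ s := by
    intro g s
    refine RingHom.congr_fun (f := (MulSemiringAction.toRingHom G (MvPolynomial (Fin n) k) g).comp
      (algebraMap (InvGor15.ParRing k n) _)) (MvPolynomial.ringHom_ext (fun c => ?_) fun i => ?_) s
    · simp [InvGor15.algebraMap_C_apply halg, hC]
    · simp [InvGor15.algebraMap_X halg i.down, hfix]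
  haveI : SMulCommClass G (InvGor15.ParRing k n) (MvPolynomial (Fin n) k) :=
    ⟨fun g s x => by rw [Algebra.smul_def, Algebra.smul_def, smul_mul', hcomm]⟩
  have hθ : ∀ i, θ i ∈ Ideal.span (Set.range (MvPolynomial.X : Fin n → MvPolynomial (Fin n) k)) := fun i => by
    rw [← InvGor15.irr_eq_span_X]
    exact SegreDim.mem_irr_of_mem _ (by exact_mod_cast (hd i).1) (hd i).2
  obtain ⟨ω, hgen, hnd⟩ := InvGor15.exists_generator halg
  have hinv := InvGor15.functional_invariant ρ hC hX halg hN hfix hθ hdet ω hgen hnd
  have hNP : IsUnit ((Fintype.card G : ℕ) : MvPolynomial (Fin n) k) := by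
    rw [← map_natCast (MvPolynomial.C (R := k) (σ := Fin n))]
    exact (IsUnit.mk0 _ hN).map _
  have hS : LocCoh.IsGorensteinRing (InvGor15.ParRing k n) := DualLib.GorRing.gorensteinRing_of_isRegularRing _
  have hB := InvGor15.gorensteinRing_fixed hS hNP ω hinv hgen
  let φ : A →+* FixedPoints.subalgebra (InvGor15.ParRing k n) (MvPolynomial (Fin n) k) G :=
    (algebraMap A (MvPolynomial (Fin n) k)).codRestrict _ fun a g => smul_algebraMap g a
  have hφ : Function.Bijective φ := by
    refine ⟨fun a b h => FaithfulSMul.algebraMap_injective A (MvPolynomial (Fin n) k) (congrArg Subtype.val h), fun b => ?_⟩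
    obtain ⟨a, ha⟩ := Algebra.IsInvariant.isInvariant (A := A) (G := G) (b : MvPolynomial (Fin n) k) b.2
    exact ⟨a, Subtype.ext ha⟩
  exact DualLib.GorRing.gorensteinRing_congr (RingEquiv.ofBijective φ hφ).symm hB

end Groth.Agent.S11148
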