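import Groth.Statements.S11153
import Groth.Agent.CommAlg4.BoundedInj
-- import your own Groth.Agent.* helpers here

set_option autoImplicit false
universe w v u
open CategoryTheory CategoryTheory.Limits
open CohDer

namespace Groth.Agent.S11153

/-- (i) ⇔ (iii): let A be an abelian category with enough injectives and K a bounded below cochain
complex of objects of A. Then K admits a quasi-isomorphism into a bounded complex of injective
objects of A if and only if there is an integer n₀ such that Hom_{D(A)}(Y[0], K[i]) = 0 for every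
object Y of A and every i > n₀. -/
theorem result {A : Type u} [Category.{v} A] [Abelian A]
    [HasDerivedCategory.{w} A] [EnoughInjectives A]
    (K : CochainComplex A ℤ) (a : ℤ) [K.IsStrictlyGE a] :
    (∃ (I : CochainComplex A ℤ) (b c : ℤ) (f : K ⟶ I), I.IsStrictlyGE b ∧ I.IsStrictlyLE c ∧
        (∀ n : ℤ, Injective (I.X n)) ∧ QuasiIso f) ↔
      ∃ n₀ : ℤ, ∀ (Y : A) (i : ℤ), n₀ < i →
        ∀ φ : (DerivedCategory.singleFunctor A 0).obj Y ⟶ (DerivedCategory.Q.obj K)⟦i⟧, φ = 0 := by
  open CommAlg4.BoundedInj DerivedCategory in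
  constructor
  · rintro ⟨I, b, c, f, hb, hc, hI, hf⟩
    refine ⟨c, fun Y i hi => hom_shift_eq_zero (Q.obj K) Y i fun ψ => ?_⟩
    have := CochainComplex.isKInjective_of_injective I b
    have := hom_eq_zero_of_isZero I i (I.isZero_of_isStrictlyLE c i hi) Y (ψ ≫ Q.map f)
    exact (cancel_mono (Q.map f)).1 (this.trans zero_comp.symm)
  · rintro ⟨n₀, h⟩
    obtain ⟨J, f, hf, hJ, hJa⟩ := CochainComplex.Plus.modelCategoryQuillen.exists_quasiIso_injective K a
    have hv : ∀ (i : ℤ), n₀ < i → ∀ (Y : A) (ψ : (singleFunctor A i).obj Y ⟶ Q.obj J), ψ = 0 := by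
      intro i hi Y ψ
      have := hom_single_eq_zero (Q.obj K) Y i (h Y i hi) (ψ ≫ inv (Q.map f))
      exact (cancel_mono (inv (Q.map f))).1 (this.trans zero_comp.symm)
    obtain ⟨h1, h2, h3, h4⟩ := exists_bounded J hJ a n₀ hv
    have := CochainComplex.isKInjective_of_injective J a
    have := CochainComplex.isKInjective_of_injective (J.truncLE n₀) a
    obtain ⟨e, he⟩ := (CochainComplex.IsKInjective.quasiIso_iff (J.ιTruncLE n₀)).1 h4
    refine ⟨J.truncLE n₀, a, n₀, f ≫ e.inv, h1, h2, h3, ?_⟩
    infer_instance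

end Groth.Agent.S11153
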