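import Groth.Statements.S11154
import Groth.Agent.InjMod14.Local
import Groth.Agent.Coherent.QcohOps
import Groth.Agent.S0311


set_option autoImplicit false
universe u
open CategoryTheory CategoryTheory.Limits AlgebraicGeometry
open Coherent

open Groth.Agent Groth.Agent.Coherent
set_option backward.isDefEq.respectTransparency false

namespace Groth.Agent.S11154

/-- Let X be a locally Noetherian scheme, x a point of X, and k(x) → E an injective hull of the residue
field over the local ring O_{X,x}. Then the direct image along Spec O_{X,x} ⟶ X of the sheaf E~ on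
Spec O_{X,x} is an injective O_X-module (an injective object of the category of O_X-modules), and it
is quasi-coherent. -/
theorem result {X : Scheme.{u}} [IsLocallyNoetherian X]
    (x : X) (E : Type u) [AddCommGroup E] [Module (X.presheaf.stalk x) E]
    (i : IsLocalRing.ResidueField (X.presheaf.stalk x) →ₗ[X.presheaf.stalk x] E)
    (hi : InjHull.IsInjectiveHull i) :
    Injective ((Scheme.Modules.pushforward (X.fromSpecStalk x)).obj
        (tilde (ModuleCat.of (X.presheaf.stalk x) E))) ∧
      Coh.IsQCoh ((Scheme.Modules.pushforward (X.fromSpecStalk x)).obj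
        (tilde (ModuleCat.of (X.presheaf.stalk x) E))) := by
  haveI : Module.Injective (X.presheaf.stalk x) (ModuleCat.of (X.presheaf.stalk x) E) := hi.isInjective
  have hE : LocCoh.IsPowerTorsion (IsLocalRing.maximalIdeal (X.presheaf.stalk x)) E :=
    Groth.Agent.S0311.result (X.presheaf.stalk x) E i hi
  refine ⟨InjMod14.injective_pushforward_fromSpecStalk x _
    (InjMod14.injective_tilde_of_local (E := ModuleCat.of (X.presheaf.stalk x) E) hE), ?_⟩
  haveI : CompactSpace (Spec (X.presheaf.stalk x)) := inferInstance
  haveI : QuasiSeparatedSpace X := inferInstance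
  haveI : QuasiCompact (X.fromSpecStalk x) := QuasiCompact.of_comp (X.fromSpecStalk x) (terminal.from X)
  exact isQCoh_push (X.fromSpecStalk x) (tilde (ModuleCat.of (X.presheaf.stalk x) E))


end Groth.Agent.S11154
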