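import Groth.Statements.S11159
import Mathlib
-- import your own Groth.Agent.* helpers here

set_option autoImplicit false
universe w v u
open CategoryTheory CategoryTheory.Limits CategoryTheory.Pretriangulated
open CohDer

namespace Groth.Agent.S11159

/-- Let A be an abelian category with enough injectives and X ⟶ Y ⟶ Z ⟶ X⟦1⟧ a distinguished triangle in
D(A). If X and Z are each isomorphic in D(A) to a bounded complex of injective objects of A, then so
is Y. -/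
theorem result {A : Type u} [Category.{v} A] [Abelian A]
    [HasDerivedCategory.{w} A] [EnoughInjectives A]
    (T : Triangle (DerivedCategory A)) (hT : T ∈ distTriang (DerivedCategory A))
    (h₁ : (∃ (I : CochainComplex A ℤ) (b c : ℤ), I.IsStrictlyGE b ∧ I.IsStrictlyLE c ∧
        (∀ n : ℤ, Injective (I.X n)) ∧ Nonempty (T.obj₁ ≅ DerivedCategory.Q.obj I)))
    (h₃ : (∃ (I : CochainComplex A ℤ) (b c : ℤ), I.IsStrictlyGE b ∧ I.IsStrictlyLE c ∧
        (∀ n : ℤ, Injective (I.X n)) ∧ Nonempty (T.obj₃ ≅ DerivedCategory.Q.obj I))) :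
    (∃ (I : CochainComplex A ℤ) (b c : ℤ), I.IsStrictlyGE b ∧ I.IsStrictlyLE c ∧
        (∀ n : ℤ, Injective (I.X n)) ∧ Nonempty (T.obj₂ ≅ DerivedCategory.Q.obj I)) := by
  open DerivedCategory in
  obtain ⟨I, b, c, hb, hc, hI, ⟨e₁⟩⟩ := h₁
  obtain ⟨J, b', c', hb', hc', hJ, ⟨e₃⟩⟩ := h₃
  obtain ⟨w, hw⟩ : ∃ w : T.obj₃⟦(-1 : ℤ)⟧ ⟶ T.obj₁, w = T.invRotate.mor₁ := ⟨_, rfl⟩
  obtain ⟨φ, hφ⟩ : ∃ φ : Q.obj (J⟦(-1 : ℤ)⟧) ⟶ Q.obj I,
      φ = (Q.commShiftIso (-1 : ℤ)).hom.app J ≫ e₃.inv⟦(-1 : ℤ)⟧' ≫ w ≫ e₁.hom :=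
    ⟨_, rfl⟩
  have := CochainComplex.isKInjective_of_injective I b
  obtain ⟨f, hf⟩ := (CochainComplex.IsKInjective.Qh_map_bijective
    ((HomotopyCategory.quotient A _).obj (J⟦(-1 : ℤ)⟧)) I).surjective
    ((quotientCompQhIso A).hom.app _ ≫ φ ≫ (quotientCompQhIso A).inv.app I)
  obtain ⟨m, rfl⟩ := (HomotopyCategory.quotient A _).map_surjective f
  have hm : Q.map m = φ := by
    rw [← cancel_epi ((quotientCompQhIso A).hom.app _)]
    refine ((quotientCompQhIso A).hom.naturality m).symm.trans ?_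
    refine (congrArg (· ≫ _) hf).trans ?_
    simp
  have hTi := inv_rot_of_distTriang _ hT
  let α₁ : Q.obj (J⟦(-1 : ℤ)⟧) ≅ T.invRotate.obj₁ :=
    (Q.commShiftIso (-1 : ℤ)).app J ≪≫ (shiftFunctor (DerivedCategory A) (-1 : ℤ)).mapIso e₃.symm
  have hcomm : Q.map m ≫ e₁.inv = α₁.hom ≫ T.invRotate.mor₁ := by
    have hα : α₁.hom = (Q.commShiftIso (-1 : ℤ)).hom.app J ≫ e₃.inv⟦(-1 : ℤ)⟧' := rfl
    rw [hm, hφ, hα]
    refine Eq.trans ?_ (congrArg (((Q.commShiftIso (-1 : ℤ)).hom.app J ≫ e₃.inv⟦(-1 : ℤ)⟧') ≫ ·) hw)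
    simp
  have hmem : Q.mapTriangle.obj (CochainComplex.mappingCone.triangle m) ∈
      distinguishedTriangles := (mem_distTriang_iff _).2 ⟨_, _, m, ⟨Iso.refl _⟩⟩
  obtain ⟨g, hg1, hg2⟩ := complete_distinguished_triangle_morphism
    (Q.mapTriangle.obj (CochainComplex.mappingCone.triangle m)) T.invRotate hmem hTi
    α₁.hom e₁.inv hcomm
  have : IsIso g := isIso₃_of_isIso₁₂ (Triangle.homMk (Q.mapTriangle.obj
    (CochainComplex.mappingCone.triangle m)) T.invRotate α₁.hom e₁.inv g hcomm hg1 hg2)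
    hmem hTi (α₁.isIso_hom) (e₁.isIso_inv)
  have hX : ∀ n, Nonempty ((CochainComplex.mappingCone m).X n ≅ J.X n ⊞ I.X n) := fun n =>
    ⟨HomologicalComplex.homotopyCofiber.XIsoBiprod m n (n + 1) rfl ≪≫ biprod.mapIso
      ((CochainComplex.shiftFunctorObjXIso J (-1) (n + 1) n (by omega))) (Iso.refl _)⟩
  refine ⟨CochainComplex.mappingCone m, min b b', max c c', ?_, ?_, fun n => ?_, ⟨(asIso g).symm⟩⟩
  · rw [CochainComplex.isStrictlyGE_iff]
    intro i hi
    refine IsZero.of_iso ?_ (hX i).some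
    rw [biprod_isZero_iff]
    exact ⟨J.isZero_of_isStrictlyGE b' i (by omega), I.isZero_of_isStrictlyGE b i (by omega)⟩
  · rw [CochainComplex.isStrictlyLE_iff]
    intro i hi
    refine IsZero.of_iso ?_ (hX i).some
    rw [biprod_isZero_iff]
    exact ⟨J.isZero_of_isStrictlyLE c' i (by omega), I.isZero_of_isStrictlyLE c i (by omega)⟩
  · have := hJ n
    have := hI n
    exact Injective.of_iso (hX n).some.symm inferInstance

end Groth.Agent.S11159
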