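import Groth.Statements.S11164
import Groth.Agent.InjMod14.Opens
import Groth.Agent.RefHullLib.Restrict
import Groth.Agent.ModStalk.Exact
import Groth.Agent.Props12.FinLocFree
import Groth.Agent.Coherent.CohBC.HomSheaf
import Groth.Agent.Coherent.CohBC.PushStructure

set_option autoImplicit false
universe u
open CategoryTheory CategoryTheory.Limits AlgebraicGeometry
attribute [local instance] HasDerivedCategory.standard
open Coherent

open CategoryTheory CategoryTheory.Limits AlgebraicGeometry TopologicalSpace
open Groth.Agent Groth.Agent.Coherent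
namespace Groth.Agent.S11164

/-- Every O_X-module on a scheme X is a quotient of a flat O_X-module; precisely, for every O_X-module F
there are opens U_i of X and an epimorphism ∐ j_{U_i !} O_{U_i} ⟶ F, and such a direct sum of
extensions by zero of structure sheaves of opens is flat (all its stalks are flat over the local
rings). -/
theorem result {X : Scheme.{u}} (F : X.Modules) :
    ∃ (ι : Type u) (U : ι → X.Opens) (p : (∐ fun i => CxOX.extZeroUnit (U i).ι) ⟶ F),
      Epi p ∧ FlatMod.IsFlat (∐ fun i => CxOX.extZeroUnit (U i).ι) := by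
  classical
  let ι := InjMod14.Idx (Σ U : X.Opens, Γ(F.restrict U.ι, ⊤))
  let U : ι → X.Opens := fun i => i.val.1
  let e : ∀ V : X.Opens, CxOX.extZeroUnit V.ι ≅ InjMod14.jO V := fun V =>
    ((CxOX.extZeroAdj V.ι).leftAdjointUniq (DCat.JShriek.shriekAdj V.ι)).app (Coh.structureModule V.toScheme)
  refine ⟨ι, U, Limits.Sigma.desc fun i => (e (U i)).hom ≫ InjMod14.jODesc F i.val.2, ?_, fun x => ?_⟩
  · refine Preadditive.epi_of_cancel_zero _ fun {Q} q hq => ?_
    refine InjMod14.jO_separating Set.univ (Opens.isBasis_iff_nbhd.2 fun {W} {y} hy => ⟨W, trivial, hy, le_rfl⟩)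
      q 0 fun V a => ?_
    obtain ⟨V, hV⟩ := V
    let t := Coherent.unitVal ((DCat.JShriek.shriekAdj V.ι).homEquiv _ _ a) ⊤
    have ha : InjMod14.jODesc F t = a := by
      refine ((DCat.JShriek.shriekAdj V.ι).homEquiv _ _).injective ?_
      simp only [InjMod14.jODesc, Equiv.apply_symm_apply]
      refine Scheme.Modules.hom_ext _ _ fun W => ConcreteCategory.hom_ext _ _ fun r => ?_
      exact (Coherent.app_unit _ r).trans (Eq.trans (congrArg ((show Γ(V.toScheme, W) from r) • ·) ((Coherent.unitVal_unitDesc _ _ W).trans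
        (Coherent.resM_unitVal _ le_top))) (Coherent.app_unit _ r).symm)
    have h := Limits.Sigma.ι (fun i => CxOX.extZeroUnit (U i).ι) (⟨⟨V, t⟩⟩ : ι) ≫= hq
    rw [Sigma.ι_desc_assoc, comp_zero, Category.assoc] at h
    rw [comp_zero, ← ha, ← cancel_epi (e V).hom, comp_zero]
    exact h
  · let S := DerSch.stalkFunctor X x
    haveI : PreservesColimitsOfSize.{u, u} S := (ModStalk.stalkAdj x).leftAdjoint_preservesColimits
    let es : S.obj (∐ fun i => CxOX.extZeroUnit (U i).ι) ≅
        ModuleCat.of (X.presheaf.stalk x) (DirectSum ι fun i => S.obj (CxOX.extZeroUnit (U i).ι)) :=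
      PreservesCoproduct.iso S _ ≪≫ ModuleCat.coprodIsoDirectSum _
    haveI : ∀ i, Module.Free (X.presheaf.stalk x) (S.obj (CxOX.extZeroUnit (U i).ι)) := fun i => by
      by_cases hx : x ∈ (U i).ι.opensRange
      · obtain ⟨y, rfl⟩ := hx
        haveI : Coh.IsQCoh (Coh.structureModule (U i).toScheme) :=
          (CohBC.isCoh_of_isFinLocFree (CohBC.isFinLocFree_structureModule _)).1
        haveI : Module.Free ((U i).toScheme.presheaf.stalk y) ((Coh.structureModule (U i).toScheme).presheaf.stalk y) :=
          Props12.free_stalk_of_isFinLocFree _ (CohBC.isFinLocFree_structureModule _) y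
        haveI h1 : Module.Free ((U i).toScheme.presheaf.stalk y)
            (((InjMod14.jO (U i)).restrict (U i).ι).presheaf.stalk y) :=
          let eq : ((Coh.structureModule (U i).toScheme).presheaf.stalk y) ≃ₗ[(U i).toScheme.presheaf.stalk y]
              (((InjMod14.jO (U i)).restrict (U i).ι).presheaf.stalk y) :=
            ((DerSch.stalkFunctor (U i).toScheme y).mapIso (InjMod14.jOIso (U i))).toLinearEquiv
          Module.Free.of_equiv eq
        haveI : Module.Free _ ((InjMod14.jO (U i)).presheaf.stalk ((U i).ι y)) :=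
          (RefHullLib.free_stalk_restrict_iff (U i).ι (InjMod14.jO (U i)) y).1 h1
        let eq : (InjMod14.jO (U i)).presheaf.stalk ((U i).ι y) ≃ₗ[X.presheaf.stalk ((U i).ι y)]
            (S.obj (CxOX.extZeroUnit (U i).ι)) := (S.mapIso (e (U i)).symm).toLinearEquiv
        exact Module.Free.of_equiv eq
      · haveI := ModuleCat.subsingleton_of_isZero ((DCat.JShriek.isZero_stalk_shriek (U i).ι
          (Coh.structureModule (U i).toScheme) x hx).of_iso (S.mapIso (e (U i))))
        exact Module.Free.of_subsingleton _ _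
    exact Module.Flat.of_linearEquiv (es.toLinearEquiv :
      (∐ fun i => CxOX.extZeroUnit (U i).ι : X.Modules).presheaf.stalk x ≃ₗ[X.presheaf.stalk x]
        DirectSum ι fun i => S.obj (CxOX.extZeroUnit (U i).ι))

end Groth.Agent.S11164
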