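import Groth.Statements.S11165
import Groth.Agent.Coherent.RpushComp


set_option autoImplicit false
universe u
open CategoryTheory CategoryTheory.Limits AlgebraicGeometry
open Coherent

namespace Groth.Agent.S11165

/-- Let f : X ⟶ Y be a separated morphism of schemes, U an open of X on which f restricts to an affine
morphism, i : U ⟶ X the inclusion and F a quasi-coherent O_X-module. Then i_*(F|_U) is acyclic for
f_*: its higher direct images R^j f_* vanish for j > 0. (The binder asserting injective resolutions
of O_X-modules always holds.) -/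
theorem result {X Y : Scheme.{u}} (f : X ⟶ Y) [IsSeparated f]
    (U : X.Opens) [IsAffineHom (U.ι ≫ f)] (F : X.Modules) (hF : Coh.IsQCoh F)
    [HasInjectiveResolutions X.Modules] (j : ℕ) (hj : 0 < j) :
    IsZero ((Coh.Rpush f j).obj ((Scheme.Modules.pushforward U.ι).obj ((Scheme.Modules.restrictFunctor U.ι).obj F))) := by
  haveI : Coh.IsQCoh F := hF
  haveI : Coh.IsQCoh ((Scheme.Modules.restrictFunctor U.ι).obj F) :=
    Scheme.Modules.isQuasicoherent_restrictFunctor U.ι F
  haveI : IsAffineHom U.ι := MorphismProperty.of_postcomp @IsAffineHom (W' := @IsSeparated) U.ι f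
    inferInstance inferInstance
  set M := (Scheme.Modules.restrictFunctor U.ι).obj F
  obtain ⟨e⟩ := Coherent.nonempty_rpushAb_comp_affine U.ι f M j
  have h : IsZero ((Coh.RpushAb f j).obj (Coh.toAb ((Coh.push U.ι).obj M))) :=
    (Coherent.isZero_rpushAb_of_isAffineHom (U.ι ≫ f) M j hj).of_iso e
  have h2 : IsZero ((Coherent.toAbFunctor Y).obj ((Coh.Rpush f j).obj ((Coh.push U.ι).obj M))) :=
    h.of_iso ((Coherent.toAbRpushNatIso f j).app _)
  rw [IsZero.iff_id_eq_zero] at h2 ⊢
  exact (Coherent.toAbFunctor Y).map_injective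
    (((Coherent.toAbFunctor Y).map_id _).trans (h2.trans ((Coherent.toAbFunctor Y).map_zero _ _).symm))

end Groth.Agent.S11165
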