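import Groth.Statements.S11166
import Groth.Agent.InjMod14.QCohInjective
import Groth.Agent.CommAlg4.WeakInjRes
import Groth.Agent.Coherent.QcohLocal

set_option autoImplicit false
universe u
open CategoryTheory CategoryTheory.Limits AlgebraicGeometry
attribute [local instance] HasDerivedCategory.standard
open Coherent

namespace Groth.Agent.S11166

/-- For a locally Noetherian scheme X the natural functor D⁺(QCoh(X)) ⥤ D⁺_qc(O_X) is an equivalence:
granting that quasi-coherent modules form an abelian full subcategory of all O_X-modules with exact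
inclusion (instance hypotheses that always hold), the induced functor D(QCoh(X)) ⥤ D(O_X) is fully
faithful on cohomologically bounded below objects, and every object of D(O_X) with Hⁱ = 0 for i < a
and quasi-coherent cohomology sheaves is isomorphic to the image of an object of D(QCoh(X)) with Hⁱ
= 0 for i < a. -/
theorem result (X : Scheme.{u}) [IsLocallyNoetherian X]
    [ObjectProperty.ContainsZero (fun M : X.Modules => Coh.IsQCoh M)] [ObjectProperty.IsClosedUnderKernels (fun M : X.Modules => Coh.IsQCoh M)]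
    [ObjectProperty.IsClosedUnderCokernels (fun M : X.Modules => Coh.IsQCoh M)] [ObjectProperty.IsClosedUnderFiniteProducts (fun M : X.Modules => Coh.IsQCoh M)]
    [PreservesFiniteLimits (ObjectProperty.ι (fun M : X.Modules => Coh.IsQCoh M))] [PreservesFiniteColimits (ObjectProperty.ι (fun M : X.Modules => Coh.IsQCoh M))] :
    (∀ (M N : DerivedCategory (ObjectProperty.FullSubcategory (fun M : X.Modules => Coh.IsQCoh M))) (a b : ℤ), M.IsGE a → N.IsGE b →
        Function.Bijective (fun f : M ⟶ N => (ObjectProperty.ι (fun M : X.Modules => Coh.IsQCoh M)).mapDerivedCategory.map f)) ∧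
      ∀ (K : DCoh.D X) (a : ℤ), K.IsGE a → DCoh.IsQCohD K →
        ∃ M : DerivedCategory (ObjectProperty.FullSubcategory (fun M : X.Modules => Coh.IsQCoh M)), M.IsGE a ∧
          Nonempty ((ObjectProperty.ι (fun M : X.Modules => Coh.IsQCoh M)).mapDerivedCategory.obj M ≅ K) := by
  let ι' := ObjectProperty.ι (fun M : X.Modules => Coh.IsQCoh M)
  have himg : ∀ {M : X.Modules}, Coh.IsQCoh M → ι'.essImage M := fun {M} h => ⟨⟨M, h⟩, ⟨Iso.refl _⟩⟩
  have hq : ∀ {M : X.Modules}, ι'.essImage M → Coh.IsQCoh M := fun {M} ⟨N, ⟨i⟩⟩ =>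
    @Coherent.isQCoh_of_iso _ _ _ i N.property
  have hinj : ∀ N, ∃ (N' : ObjectProperty.FullSubcategory (fun M : X.Modules => Coh.IsQCoh M)) (i : N ⟶ N'),
      Mono i ∧ Injective (ι'.obj N') := fun N => by
    obtain ⟨I, e, he, hqI, hI⟩ := InjMod14.exists_qcoh_injective N.obj N.property
    exact ⟨⟨I, hqI⟩, ObjectProperty.homMk e, ι'.mono_of_mono_map he, hI⟩
  have hext : ∀ S : ShortComplex X.Modules, S.ShortExact → ι'.essImage S.X₁ → ι'.essImage S.X₃ →
      ι'.essImage S.X₂ := fun S hS h1 h3 => by
    haveI := hq h1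
    haveI := hq h3
    exact himg (Coherent.isQCoh_X₂ hS)
  refine ⟨fun M N a b hM hN => CommAlg4.WeakInjRes.bijective_map ι' hinj M N b, fun K a hK hKq => ?_⟩
  obtain ⟨I, hI, -, hiso⟩ := CommAlg4.WeakInjRes.essSurj ι' hext hinj K a fun i => himg (hKq i)
  haveI := hI
  exact ⟨DerivedCategory.Q.obj I, inferInstance, hiso⟩

end Groth.Agent.S11166
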