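import Groth.Statements.S1117
import Groth.Agent.Dual22Lib.FlatPerfPush
import Groth.Agent.Dual22Lib.RelTorDim
import Groth.Agent.Dual22Lib.ShSymm
import Groth.Agent.DCat.RHomDual

set_option autoImplicit false
universe u
open CategoryTheory CategoryTheory.Limits AlgebraicGeometry Opposite
attribute [local instance] HasDerivedCategory.standard
open Perf

namespace Groth.Agent.S1117

open Groth.Agent Groth.Agent.Dual22Lib Groth.Agent.DCat


/-- In the case of a single module: let S be Noetherian, f : X ⟶ S locally of finite type, E a cochain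
complex of O_X-modules whose image in D(O_X) is perfect, and G a coherent O_X-module flat over S
with support proper over S. Assuming the derived functors exist, Rf_* RHom(E, G) is a perfect object
of D(O_S). (The source allows a bounded complex of such modules G.) -/
theorem result {X S : Scheme.{u}} [IsNoetherian S] (f : X ⟶ S) [LocallyOfFiniteType f]
    (E : CochainComplex X.Modules ℤ) (hE : DCoh.IsPerfect (DCoh.toD X E)) [DCoh.HasLTensorCx E] [DCoh.HasRSheafHom E] [DCoh.HasRpush f]
    (G : X.Modules) (hG : Coh.IsCoh G) (hflat : FlatMod.IsFlatOver f G) (hsupp : ClSub.IsProperOver f (CohB1.support G)) :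
    DCoh.IsPerfect ((DCoh.Rpush f).obj ((DCoh.RSheafHom E).obj (DCoh.inD X G))) := by
  haveI := LTensorSheaf.hasLTensorCx E
  obtain ⟨K, q, hK, -, hq, -⟩ := exists_kflat_sheaf E
  haveI := hq
  haveI := LTensorSheaf.hasLTensorCx K
  haveI := RHomExist.hasRSheafHom K
  have hKp : DCoh.IsPerfect (DerivedCategory.Q.obj K) :=
    PCTriangle.perfect_iso (asIso (DerivedCategory.Q.map q)).symm hE
  obtain ⟨c⟩ := TensorCongr.nonempty_congr_rhom (E := K) (E' := E) (asIso (DerivedCategory.Q.map q))
  obtain ⟨D, hD, ⟨eD⟩⟩ := PullPerf.exists_kflat_rep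
    ((DCoh.RSheafHom K).obj ((DerivedCategory.singleFunctor X.Modules 0).obj (Coh.structureModule X)))
  haveI := LTensorSheaf.hasLTensorCx D
  obtain ⟨t⟩ := RHomDual.nonempty_tensor_dual K hK hKp D hD eD (DCoh.inD X G)
  obtain ⟨P, p, hP, hp⟩ := RelTorDim.exists_resolution G
  haveI := hp
  haveI := LTensorSheaf.hasLTensorCx P
  haveI := hasLTensorMod G
  obtain ⟨u⟩ := RelTorDim.nonempty_LTensorMod_iso G hP p (DerivedCategory.Q.obj D)
  let w : (DCoh.LTensorMod G).obj (DerivedCategory.Q.obj D) ≅ (DCoh.RSheafHom E).obj (DCoh.inD X G) :=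
    u ≪≫ LTensorSheaf.ltensorCxIso P hD ≪≫ DerivedCategory.Q.mapIso (ShSymm.symm D P) ≪≫
      (LTensorSheaf.ltensorCxIso D hP).symm ≪≫ (DCoh.LTensorCx D).mapIso (asIso (DerivedCategory.Q.map p) ≪≫
        ((DerivedCategory.singleFunctorIsoCompQ X.Modules 0).app G).symm) ≪≫ t ≪≫ c.app _
  refine PCTriangle.perfect_iso ((DCoh.Rpush f).mapIso w) ?_
  exact FlatPerfPush.isPerfect_Rpush_LTensorMod f _
    (PCTriangle.perfect_iso eD.symm (RHomDual.isPerfect_dual K hKp)) G hG hflat hsupp

end Groth.Agent.S1117
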