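import Groth.Statements.S11170
import Groth.Agent.ProjVanish14.Basic
import Groth.Agent.S0800
import Groth.Agent.SerreDual.Colim

set_option autoImplicit false
universe u
open CategoryTheory CategoryTheory.Limits AlgebraicGeometry
open Coherent

open Groth.Agent TopologicalSpace
set_option backward.isDefEq.respectTransparency false

namespace Groth.Agent.S11170

/-- Let Y be a locally Noetherian scheme, f : P^n_Y ⟶ Y the projection, G_j quasi-coherent O_Y-modules
and m_j > 0. Then the direct sum L = ∐_j f^*(G_j) ⊗ O(-m_j) has R^i f_*(L) = 0 (higher direct images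
of the underlying abelian sheaf) for every i ≠ n. -/
theorem result (Y : Scheme.{u}) [IsLocallyNoetherian Y]
    (n : ℕ) {ι : Type u} (G : ι → Y.Modules) (hG : ∀ j, Coh.IsQCoh (G j)) (m : ι → ℕ) (hm : ∀ j, 0 < m j)
    (i : ℕ) (hi : i ≠ n) :
    IsZero ((Coh.RpushAb (CohB1.ProjSpaceOver.toBase n Y) i).obj (Coh.toAb
      (∐ fun j => CohB1.tensorMod ((Scheme.Modules.pullback (CohB1.ProjSpaceOver.toBase n Y)).obj (G j))
        (Twist.twistOver n Y (-((m j : ℕ) : ℤ)))))) := by
  classical
  let π := CohB1.ProjSpaceOver.toBase n Y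
  let F := SheafOfModules.toSheaf.{u} (CohB1.ProjSpaceOver n Y).ringCatSheaf ⋙ Coh.RpushAb π i
  haveI := Coherent.isProper_projSpace_toSpec n (ULift.{u} ℤ)
  haveI : IsProper π := (Quot8.isPn_projSpaceOver n Y).isProper
  haveI : PreservesColimitsOfShape (Finset (Discrete ι)) F := by
    haveI := SerreDual.preservesColimitsOfShape_toAb (CohB1.ProjSpaceOver n Y) (Finset (Discrete ι))
    haveI := S0800.preserves π i (Finset (Discrete ι))
    exact comp_preservesColimitsOfShape _ _
  exact ProjVanish14.isZero_obj_sigma F (fun s => inferInstance) _ fun j =>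
    ProjVanish14.isZero_rpushAb_twist (Quot8.isPn_projSpaceOver n Y) (G j) (hG j) i
      (fun h => by have := hm j; omega) (fun h => hi h.1)

end Groth.Agent.S11170
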