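import Groth.Statements.S11173
import Groth.Agent.DualLib.PointwiseDualizing

set_option autoImplicit false
universe u
open CategoryTheory
attribute [local instance] HasDerivedCategory.standard
open Dual

namespace Groth.Agent.S11173

/-- Let A be a Noetherian ring of finite Krull dimension and R an object of D(A) whose cohomology
modules are finite and vanish in all sufficiently negative degrees. If for every prime ideal p of A
the derived base change of R to the local ring A_p (the total left derived functor of extension of
scalars, assumed to exist) is a dualizing complex for A_p, then R is a dualizing complex for A. (The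
published statement is for a Noetherian scheme of finite Krull dimension and a pointwise dualizing
complex; this row is its affine case, with the pointwise hypothesis expressed through the local
rings at all primes.) -/
theorem result (A : Type u) [CommRing A] [IsNoetherianRing A] (hdim : ringKrullDim A < ⊤) (R : Dual.D A) (hfin : ∀ i : ℤ, Module.Finite A (Dual.HD A R i)) (hbdd : ∃ a : ℤ, ∀ i : ℤ, i < a → Subsingleton (Dual.HD A R i)) (h : ∀ p : PrimeSpectrum A, ∃ _ : DRing.HasLBaseChange (algebraMap A (Localization.AtPrime p.asIdeal)), Dual.IsDualizing (Localization.AtPrime p.asIdeal) ((DRing.LBaseChange (algebraMap A (Localization.AtPrime p.asIdeal))).obj R)) : Dual.IsDualizing A R := by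
  obtain ⟨a, ha⟩ := hbdd
  refine Groth.Agent.DualLib.isDualizing_of_pointwise hdim hfin ((Groth.Agent.DRingLib.isGE_iff_HD R a).2 ha) fun p => ?_
  obtain ⟨_, hd⟩ := h p
  obtain ⟨e⟩ := Groth.Agent.DualLib.nonempty_LBaseChange_iso (Groth.Agent.DualLib.flat_localization p.asIdeal.primeCompl) R
  exact Groth.Agent.DualLib.isDualizing_of_iso e hd

end Groth.Agent.S11173
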