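import Groth.Statements.S11175
import Groth.Agent.LocCoh.GorensteinCriteria

set_option autoImplicit false
universe u
open CategoryTheory
open Goren

namespace Groth.Agent.S11175

/-- A Noetherian local ring A with maximal ideal m is Gorenstein (A has finite injective dimension as a
module over itself) if and only if there is a natural number d such that the local cohomology
modules H^i_m(A) (direct limits of Ext^i(A/m^n, A)) vanish for all i ≠ d and H^d_m(A) is an
injective A-module. -/
theorem result (A : Type u) [CommRing A] [IsLocalRing A] [IsNoetherianRing A] : LocCoh.IsGorensteinLocalRing A ↔ ∃ d : ℕ, (∀ i : ℕ, i ≠ d → Subsingleton (LocCoh.H (IsLocalRing.maximalIdeal A) i A)) ∧ Module.Injective A (LocCoh.H (IsLocalRing.maximalIdeal A) d A) := by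
  open Groth.Agent.LocCoh in
  constructor
  · intro h
    obtain ⟨n, hn⟩ := exists_dim_eq (R := A)
    refine ⟨n, fun i hi => ?_, ?_⟩
    · rcases lt_or_gt_of_ne hi with h1 | h1
      · exact subsingleton_H_gorenstein hn i h1
      · refine subsingleton_H_of_supportDim_lt (((Module.supportDim_le_ringKrullDim A A).trans hn.le).trans_lt ?_)
        exact_mod_cast h1
    · obtain ⟨E, _, _, hE⟩ := Groth.Agent.Matlis6.exists_isHullAt (IsLocalRing.maximalIdeal A)
      obtain ⟨e⟩ := nonempty_H_equiv_hull_of_gorenstein hn hE
      exact (hE.congr e.symm).inj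
  · rintro ⟨d, hd, hinj⟩
    obtain ⟨n, hn⟩ := exists_dim_eq (R := A)
    have hdn : d = n := by
      by_contra hne
      haveI := hd n (Ne.symm hne)
      haveI := nontrivial_H_supportDim A n ((Module.supportDim_self_eq_ringKrullDim (R := A)).trans hn)
      exact not_subsingleton (_root_.LocCoh.H (IsLocalRing.maximalIdeal A) n A) inferInstance
    subst hdn
    exact gorenstein_of_injective hn (fun j hj => hd j (Nat.ne_of_lt hj)) hinj

end Groth.Agent.S11175
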