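import Groth.Statements.S11178
import Groth.Agent.CAlgH3.DualTorDim
import Groth.Agent.CAlgH3.RGam.RHomBridge
import Groth.Agent.S6965
-- import your own Groth.Agent.* helpers here

set_option autoImplicit false
set_option backward.isDefEq.respectTransparency false
set_option backward.defeqAttrib.useBackward true
set_option linter.style.haveILetI false
universe u
open CategoryTheory
attribute [local instance] HasDerivedCategory.standard
open Dual

namespace Groth.Agent.S11178

/-- The affine form: let A be a Noetherian ring with a dualizing complex ω, and G a cochain complex of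
A-modules whose cohomology modules are finite and vanish outside a bounded range of degrees, with
RHom_A(G, −) existing as a total right derived functor. Then G has finite Tor-dimension (G is
isomorphic in D(A) to a bounded complex of flat modules) if and only if RHom_A(G, ω) has finite
injective dimension (is isomorphic in D(A) to a bounded complex of injective modules). -/
theorem result (A : Type u) [CommRing A] [IsNoetherianRing A] (ω : Dual.D A) (hω : Dual.IsDualizing A ω) (G : DRing.Cx A) [DRing.HasRHomCx G] (hfin : ∀ i : ℤ, Module.Finite A (Dual.HD A (DRing.toD G) i)) (hbdd : ∃ a b : ℤ, ∀ i : ℤ, (i < a ∨ b < i) → Subsingleton (Dual.HD A (DRing.toD G) i)) : DRing.HasFiniteTorDimCx A (DRing.toD G) ↔ DRing.HasFiniteInjDim A ((DRing.RHomCx G).obj ω) := by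
  haveI := Groth.Agent.DCat.hasLTen A
  haveI := Groth.Agent.DCat.hasLTen₃ A
  haveI := Groth.Agent.DCat.hasRHom (A := A)
  haveI := Groth.Agent.DualLib.isSymMonoidal (A := A)
  obtain ⟨θ⟩ := Groth.Agent.CAlgH3.RGam.nonempty_RHomCx_iso_RHomR G
  obtain ⟨a, b, hab⟩ := Groth.Agent.DualLib.exists_injAmplitude hω
  let X := DerivedCategory.Q.obj G
  let DX := (DTen.RHomR A X).obj ω
  have hiso : DRing.HasFiniteInjDim A ((DRing.RHomCx G).obj ω) ↔ DRing.HasFiniteInjDim A DX := by
    constructor
    · rintro ⟨c, d, I, h1, h2, ⟨e⟩⟩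
      exact ⟨c, d, I, h1, h2, ⟨e ≪≫ θ.app ω⟩⟩
    · rintro ⟨c, d, I, h1, h2, ⟨e⟩⟩
      exact ⟨c, d, I, h1, h2, ⟨e ≪≫ (θ.app ω).symm⟩⟩
  rw [hiso]
  constructor
  · rintro ⟨ga, gb, P, hPz, hPf, ⟨eP⟩⟩
    refine ⟨a - gb, b - ga, ((Groth.Agent.S6965.result A DX (a - gb) (b - ga)).out 0 1).2 ?_⟩
    intro N _ _ i hi
    let T := (DTen.LTen₂ A).obj (Dual.inD A N, X)
    let SN : DRing.Cx A := (HomologicalComplex.single (ModuleCat.{u} A) (ComplexShape.up ℤ) 0).obj (ModuleCat.of A N)
    have hP : Groth.Agent.DCat.IsKFlatFor (Groth.Agent.DCat.modT A) P :=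
      Groth.Agent.DCat.isKFlatFor_of_vanishesAbove P gb (fun n hn => hPz n (Or.inr hn)) hPf
    haveI := Groth.Agent.DCat.isIso_ε_of_right (K := SN) hP
    let eT : DerivedCategory.Q.obj (MonoidalCategory.tensorObj SN P) ≅ T :=
      (asIso ((DTen.ε A).app (SN, P))).symm ≪≫ (DTen.LTen₂ A).mapIso
        (Iso.prod (((DerivedCategory.singleFunctorIsoCompQ _ 0).app (ModuleCat.of A N)).symm) eP)
    have hz : ∀ n : ℤ, (n < ga ∨ gb < n) →
        Limits.IsZero ((MonoidalCategory.tensorObj SN P).X n) := fun n hn =>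
      Groth.Agent.DCat.isZero_tot_X SN P n fun p q hpq => by
        by_cases hp : p = 0
        · exact Or.inr (hPz q (by omega))
        · exact Or.inl (HomologicalComplex.isZero_single_obj_X _ _ _ _ hp)
    haveI : (MonoidalCategory.tensorObj SN P).IsStrictlyGE ga :=
      (CochainComplex.isStrictlyGE_iff _ ga).2 fun n hn => hz n (Or.inl hn)
    haveI : (MonoidalCategory.tensorObj SN P).IsStrictlyLE gb :=
      (CochainComplex.isStrictlyLE_iff _ gb).2 fun n hn => hz n (Or.inr hn)
    haveI : (DerivedCategory.Q.obj (MonoidalCategory.tensorObj SN P)).IsGE ga :=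
      (DerivedCategory.isGE_Q_obj_iff _ ga).2 inferInstance
    haveI : (DerivedCategory.Q.obj (MonoidalCategory.tensorObj SN P)).IsLE gb :=
      (DerivedCategory.isLE_Q_obj_iff _ gb).2 inferInstance
    haveI : T.IsGE ga := DerivedCategory.TStructure.t.isGE_of_iso eT ga
    haveI : T.IsLE gb := DerivedCategory.TStructure.t.isLE_of_iso eT gb
    haveI : Subsingleton (T ⟶ ω⟦i⟧) := by
      rcases hi with hi | hi
      · exact Groth.Agent.DualLib.subsingleton_hom_of_isLE hab T gb i (by omega)
      · exact Groth.Agent.DualLib.subsingleton_hom_of_isGE hab T ga i (by omega)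
    exact @Equiv.subsingleton _ _ (Groth.Agent.DualLib.adjShift (Dual.inD A N) X ω i).toEquiv (by assumption)
  · rintro ⟨c, d, hD⟩
    obtain ⟨ga, gb, hg⟩ := hbdd
    have hX : ∀ q, Module.Finite A (Dual.HD A X q) := hfin
    haveI : X.IsLE gb := (DerivedCategory.isLE_iff X gb).2 fun i hi =>
      haveI : Subsingleton (Dual.HD A X i) := hg i (Or.inr hi); ModuleCat.isZero_of_subsingleton _
    haveI : X.IsGE ga := (DerivedCategory.isGE_iff X ga).2 fun i hi =>
      haveI : Subsingleton (Dual.HD A X i) := hg i (Or.inl hi); ModuleCat.isZero_of_subsingleton _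
    refine Groth.Agent.CAlgH3.DualTorDim.hasFiniteTorDim_of_vanish
      (Groth.Agent.DualLib.isPseudoCoherent' X gb hX) ga (d - a) fun N _ _ _ i hi => ?_
    obtain ⟨eN⟩ := Groth.Agent.DualLib.exists_biduality hω N
    let DN := (DTen.RHomR A (Dual.inD A N)).obj ω
    haveI := Groth.Agent.DualLib.isGE_of_injAmp hab
    haveI : DN.IsGE (a - 0) := Groth.Agent.DCat.isGE_RHomR (Dual.inD A N) ω 0 a
    haveI : Subsingleton (DN ⟶ DX⟦i⟧) :=
      Groth.Agent.DualLib.subsingleton_hom_of_isGE hD DN (a - 0) i (by omega)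
    haveI : Subsingleton ((DTen.LTen₂ A).obj (DN, X) ⟶ ω⟦i⟧) :=
      (Groth.Agent.DualLib.adjShift DN X ω i).symm.toEquiv.subsingleton
    haveI := Groth.Agent.DCat.isIso_symm_app' DN X
    haveI hXDN : Subsingleton ((DTen.LTen₂ A).obj (X, DN) ⟶ ω⟦i⟧) :=
      (Iso.homCongr (asIso ((DTen.symm A).app (DN, X))) (Iso.refl _)).subsingleton
    haveI : Subsingleton (X ⟶ ((DTen.RHomR A DN).obj ω)⟦i⟧) :=
      @Equiv.subsingleton _ _ (Groth.Agent.DualLib.adjShift X DN ω i).toEquiv hXDN
    exact (Iso.homCongr (Iso.refl X) ((shiftFunctor (Dual.D A) i).mapIso eN.symm)).subsingleton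


end Groth.Agent.S11178
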