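import Groth.Statements.S11180
import Groth.Agent.Matlis6.CompletionNoetherian
import Mathlib.RingTheory.AdicCompletion.LocalRing
import Mathlib.RingTheory.AdicCompletion.AsTensorProduct
import Mathlib.RingTheory.Flat.FaithfullyFlat.Algebra
import Mathlib.RingTheory.LocalProperties.Submodule
import Mathlib.RingTheory.Localization.BaseChange
import Mathlib.RingTheory.Flat.Localization

set_option autoImplicit false
universe u
open scoped TensorProduct
open CAlg

namespace Groth.Agent.S11180

/-- Let A be a Noetherian ring and M an A-module. If an element m of M is such that 1 ⊗ m = 0 in B ⊗_A M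
for every A-algebra B which is a complete Noetherian local ring, flat over A, then m = 0.
(Equivalently the natural map from M to the limit of the modules B ⊗_A M over all such B is
injective.) -/
theorem result (A : Type u) [CommRing A] [IsNoetherianRing A] (M : Type u) [AddCommGroup M] [Module A M] (m : M) (h : ∀ (B : Type u) [CommRing B] [Algebra A B] [IsNoetherianRing B] [IsLocalRing B], IsAdicComplete (IsLocalRing.maximalIdeal B) B → Module.Flat A B → (1 : B) ⊗ₜ[A] m = 0) : m = 0 := by
  refine Module.eq_zero_of_localization_maximal (fun I _ => Localization.AtPrime I ⊗[A] M)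
    (fun I _ => TensorProduct.mk A (Localization.AtPrime I) M 1) m fun I _ => ?_
  let R := Localization.AtPrime I
  let B := AdicCompletion (IsLocalRing.maximalIdeal R) R
  have : IsNoetherianRing R := IsLocalization.isNoetherianRing I.primeCompl R inferInstance
  have : IsNoetherianRing B := Matlis6.isNoetherianRing_adicCompletion _
  have : Module.Flat R B := AdicCompletion.flat_of_isNoetherian _
  have : Module.Flat A R := IsLocalization.flat R I.primeCompl
  have : Module.Flat A B := Module.Flat.trans A R B
  have : Module.FaithfullyFlat R B := Module.FaithfullyFlat.of_flat_of_isLocalHom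
  have h1 := h B (inferInstanceAs (IsAdicComplete (IsLocalRing.maximalIdeal (AdicCompletion (IsLocalRing.maximalIdeal R) R)) _)) inferInstance
  apply Module.FaithfullyFlat.tensorProduct_mk_injective (A := R) (B := B) (R ⊗[A] M)
  apply (TensorProduct.AlgebraTensorModule.cancelBaseChange A R B B M).injective
  simp only [TensorProduct.mk_apply, TensorProduct.tmul_zero, map_zero]
  exact (TensorProduct.AlgebraTensorModule.cancelBaseChange_tmul ..).trans (by rw [one_smul]; exact h1)

end Groth.Agent.S11180
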