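import Groth.Statements.S11184
import Groth.Agent.Matlis6.Finite

set_option autoImplicit false
universe u
open Matlis

namespace Groth.Agent.S11184

/-- Let A be a Noetherian local ring with residue field k, k → E an injective hull of k, and B a finite
A-algebra (a semilocal ring all of whose maximal ideals lie over the maximal ideal of A). Then the
B-module Hom_A(B, E), with B acting by (b·φ)(b') = φ(bb'), is the internal direct sum over the
maximal ideals n of B of submodules J_n (independent, with supremum everything), where each J_n is
an injective hull over B of the residue field B/n: each hull occurs exactly once. -/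
theorem result (A B : Type u) [CommRing A] [IsLocalRing A] [IsNoetherianRing A] [CommRing B] [Algebra A B] [Module.Finite A B] (E : Type u) [AddCommGroup E] [Module A E] (f : IsLocalRing.ResidueField A →ₗ[A] E) (hf : InjHull.IsInjectiveHull f) : ∃ J : MaximalSpectrum B → Submodule B ((ModuleCat.coextendScalars (algebraMap A B)).obj (ModuleCat.of A E)), iSupIndep J ∧ iSup J = ⊤ ∧ ∀ n : MaximalSpectrum B, ∃ g : (B ⧸ n.asIdeal) →ₗ[B] J n, InjHull.IsInjectiveHull g := by
  have hE := Matlis6.of_isInjectiveHull_residueField hf
  obtain ⟨h1, h2, h3⟩ := Matlis6.coextend_decomposition (B := B) hE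
  exact ⟨fun n => Matlis6.tors n.asIdeal _, h2, h3, fun n => (h1 n).exists_isInjectiveHull⟩

end Groth.Agent.S11184
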