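import Groth.Statements.S11186
import Groth.Agent.Dual6Lib.SmoothDegree

set_option autoImplicit false
universe u
open CategoryTheory
attribute [local instance] HasDerivedCategory.standard
open Dual

namespace Groth.Agent.S11186

/-- Let A be a Noetherian ring, A → B a smooth ring map of relative dimension n, ω a dualizing complex
for A, and q a prime of B lying over the prime p of A, with residue field extension κ(p) ⊆ κ(q) of
transcendence degree t. Assume the derived base change functors from D(A) to D(A_p) and to D(B_q)
exist. If the module of maps κ(p) → ω_p[d] in D(A_p) is nonzero (so d is the unique such degree, the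
codimension value of ω at p), then the module of maps κ(q) → (ω ⊗^L_A B_q)[d − t + n] in D(B_q) is
nonzero: the codimension function of ω ⊗^L_A B at q equals that of ω at p minus the transcendence
degree plus the relative dimension. (The published formula is stated for the base change twisted by
the top relative differentials and shifted by n, where it reads codimension at q = codimension at p
+ transcendence degree; with the convention that the codimension function rises by one under
immediate specialization, the generic point of the affine line over a field shows that the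
transcendence degree must enter with a minus sign, as here.) -/
theorem result (A B : Type u) [CommRing A] [CommRing B] [Algebra A B] [IsNoetherianRing A] (n : ℕ) (hs : FlatCA.SmoothRelDim n A B) (ω : Dual.D A) (hω : Dual.IsDualizing A ω) (p : Ideal A) [p.IsPrime] (q : Ideal B) [q.IsPrime] [hq : q.LiesOver p] [DRing.HasLBaseChange (algebraMap A (Localization.AtPrime p))] [DRing.HasLBaseChange (algebraMap A (Localization.AtPrime q))] (d : ℤ) (hd : Nontrivial (Dual.inD (Localization.AtPrime p) p.ResidueField ⟶ ((DRing.LBaseChange (algebraMap A (Localization.AtPrime p))).obj ω)⟦d⟧)) (t : ℕ) (ht : @Algebra.trdeg p.ResidueField q.ResidueField _ _ (Ideal.ResidueField.mapₐ p q (Algebra.ofId A B) hq.over).toRingHom.toAlgebra = (t : Cardinal.{u})) : Nontrivial (Dual.inD (Localization.AtPrime q) q.ResidueField ⟶ ((DRing.LBaseChange (algebraMap A (Localization.AtPrime q))).obj ω)⟦(d - (t : ℤ) + (n : ℤ))⟧) := by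
  haveI : Algebra.Smooth A B := FlatMorDevissage.smooth_of_smoothRelDim hs
  haveI : IsNoetherianRing B := Algebra.FiniteType.isNoetherianRing A B
  letI := Localization.AtPrime.algebraOfLiesOver p q
  let Ap := Localization.AtPrime p
  let BP := Localization.AtPrime q
  haveI : IsNoetherianRing Ap := IsLocalization.isNoetherianRing p.primeCompl Ap inferInstance
  haveI : IsNoetherianRing BP := IsLocalization.isNoetherianRing q.primeCompl BP inferInstance
  haveI : Module.Flat Ap BP := inferInstance
  haveI := DualLib.preservesFiniteLimits_flat (A := Ap) (B := BP)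
  haveI := DualLib.preservesFiniteColimits_ext (A := Ap) (B := BP)
  haveI : Module.Flat A BP := Module.Flat.trans A B BP
  haveI := DualLib.preservesFiniteLimits_flat (A := A) (B := BP)
  haveI := DualLib.preservesFiniteColimits_ext (A := A) (B := BP)
  haveI := DualLib.preservesFiniteLimits_flat (A := A) (B := Ap)
  haveI := DualLib.preservesFiniteColimits_ext (A := A) (B := Ap)
  obtain ⟨e0⟩ := DualLib.nonempty_LBaseChange_iso
    (RingHom.flat_algebraMap_iff.2 (inferInstance : Module.Flat A Ap)) ω
  have hωp : Dual.IsDualizing Ap ((DRing.LBaseChange (algebraMap A Ap)).obj ω) :=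
    DualLib.isDualizing_of_iso e0.symm (DualLib.isDualizing_extD p.primeCompl hω)
  obtain ⟨n₀, hn₀, -⟩ := DualLib.exists_degree hωp
  have hdn : d = n₀ := by
    by_contra hne
    haveI := hn₀ d hne
    exact absurd this (not_subsingleton_iff_nontrivial.2 hd)
  have hnorm : Dual.IsNormalized Ap (((DRing.LBaseChange (algebraMap A Ap)).obj ω)⟦d⟧) := fun i hi =>
    haveI := hn₀ (d + i) (by omega)
    (Iso.homCongr (Iso.refl _) ((shiftFunctorAdd' (Dual.D Ap) d i (d + i) rfl).app _)).symm.injective.subsingleton
  have hF := DualLib.isDualIn_fibre (B := BP) (DualLib.isDualizing_shift hωp d) hnorm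
  have hmap : (IsLocalRing.maximalIdeal Ap).map (algebraMap Ap BP) = p.map (algebraMap A BP) := by
    rw [← Localization.AtPrime.map_eq_maximalIdeal, Ideal.map_map, ← IsScalarTower.algebraMap_eq]
  have hp : p = q.comap (algebraMap A B) := hq.over
  have hmap' : (IsLocalRing.maximalIdeal Ap).map (algebraMap Ap BP) =
      (q.comap (algebraMap A B)).map (algebraMap A BP) := by
    rw [hmap, hp]
  obtain ⟨hreg, m, hm, hmn⟩ := Dual6Lib.SmoothDegree.fibre_data hs q
  let eq' : (BP ⧸ (IsLocalRing.maximalIdeal Ap).map (algebraMap Ap BP)) ≃+* EGA4.FibLocRing A B q :=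
    Ideal.quotEquivOfEq hmap'
  haveI := hreg
  have hres := Dual6Lib.SmoothDegree.isDualIn_residue_add m _ (IsRegularLocalRing.of_ringEquiv eq'.symm)
    ((ringKrullDim_eq_of_ringEquiv eq').trans hm) 0 hF
  have htr : EGA43.FibDepth.trd A ⟨q, inferInstance⟩ = t := by
    rw [EGA43.FibDepth.trd_eq_trdegHom (A := A) ⟨q, inferInstance⟩ hp]
    exact (congrArg Cardinal.toNat ht).trans (Cardinal.toNat_natCast t)
  obtain ⟨-, ⟨eE⟩⟩ := hres
  have hnt : Nontrivial (DualLib.E ((DualLib.extD (algebraMap Ap BP)).obj
      (((DRing.LBaseChange (algebraMap A Ap)).obj ω)⟦d⟧)) (IsLocalRing.ResidueField BP) (0 + (m : ℤ))) :=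
    eE.toEquiv.nontrivial
  obtain ⟨e1⟩ := DualLib.nonempty_extD_comp (algebraMap A Ap) (algebraMap Ap BP) (algebraMap A BP)
    (IsScalarTower.algebraMap_eq A Ap BP).symm ω
  obtain ⟨e2⟩ := DualLib.nonempty_LBaseChange_iso
    (RingHom.flat_algebraMap_iff.2 (inferInstance : Module.Flat A BP)) ω
  let eW : (DualLib.extD (algebraMap Ap BP)).obj (((DRing.LBaseChange (algebraMap A Ap)).obj ω)⟦d⟧) ≅
      ((DRing.LBaseChange (algebraMap A BP)).obj ω)⟦d⟧ :=
    ((DualLib.extD (algebraMap Ap BP)).commShiftIso d).app _ ≪≫
      (shiftFunctor (Dual.D BP) d).mapIso ((DualLib.extD (algebraMap Ap BP)).mapIso e0 ≪≫ e1 ≪≫ e2.symm)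
  have heq : d + (0 + (m : ℤ)) = d - (t : ℤ) + (n : ℤ) := by
    rw [← hmn, htr]; push_cast; ring
  exact (Iso.homCongr (Iso.refl (Dual.inD BP (IsLocalRing.ResidueField BP)))
    ((shiftFunctor (Dual.D BP) (0 + (m : ℤ))).mapIso eW ≪≫
      ((shiftFunctorAdd' (Dual.D BP) d (0 + (m : ℤ)) _ heq).app _).symm)).symm.nontrivial

end Groth.Agent.S11186
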