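import Groth.Statements.S11189
import Groth.Agent.AGF12.QuotQA
import Groth.Agent.S11234
-- import your own Groth.Agent.* helpers here

set_option autoImplicit false
set_option backward.isDefEq.respectTransparency false
set_option backward.isDefEq.respectTransparency.types false
open Groth.Agent.CommAlg4.AffPt Groth.Agent Groth.Agent.AGF12
universe u
open CategoryTheory MonoidalCategory CartesianMonoidalCategory MonObj GrpObj AlgebraicGeometry
open scoped TensorProduct
open AGF

namespace Groth.Agent.S11189

variable {k : Type u} [Field k] [IsAlgClosed k]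

theorem isObservable_of_isQuasiAffine {G H X : Over (Spec (CommRingCat.of k))} [GrpObj G] [GrpObj H] {i : H ⟶ G}
    {a : AlgGrp.Action G X} {o : 𝟙_ (Over (Spec (CommRingCat.of k))) ⟶ X} [IsAffine G.left] [Smooth G.hom]
    (hX : AGF.IsQuotient i X a o) (hq : X.left.IsQuasiAffine) : AGF.IsObservableIn k i := by
  haveI := hq
  intro g hg
  have key : ∀ c : Γ(X.left, ⊤), algPt (g ≫ a.orbitMap o) c = algPt ((1 : VecGrp.pt k k ⟶ G) ≫ a.orbitMap o) c := by
    intro c
    rw [algPt_comp, algPt_comp]
    have hc : AGF.IsRTransInv i ((a.orbitMap o).left.appTop c) := by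
      have h1 := congrArg (fun z : G ⊗ H ⟶ X => z.left.appTop c) (Quot.comp_orbit hX)
      exact h1
    have h2 := S11234.algPt_mul_of_invariant g _ (hg _ hc) (1 : VecGrp.pt k k ⟶ G) (𝟙 _)
    rw [Category.id_comp, _root_.one_mul] at h2
    exact h2
  have e : g ≫ a.orbitMap o = (1 : VecGrp.pt k k ⟶ G) ≫ a.orbitMap o := by
    apply Over.OverMorphism.ext
    rw [← cancel_mono X.left.toSpecΓ, Quot.pt_left_comp, Quot.pt_left_comp]
    congr 1
    ext c
    exact key c
  obtain ⟨x, hx⟩ := Quot.mem_of_orbit_eq hX e.symm
  exact ⟨x, by rwa [_root_.one_mul] at hx⟩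

end Groth.Agent.S11189

namespace Groth.Agent.S11189

/-- Let k be an algebraically closed field, G a linear algebraic group over k (an affine smooth group
scheme over k) and H a closed subgroup of G (a smooth closed subgroup scheme, i : H → G), and let X,
with G-action a and base point o, be the quotient G/H. Then H is observable in G if and only if X is
quasi-affine (quasi-compact and an open subscheme of an affine scheme). -/
theorem result (k : Type u) [Field k] [IsAlgClosed k]
    (G : Over (Spec (CommRingCat.of k))) [GrpObj G] [IsAffine G.left] [Smooth G.hom]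
    (H : Over (Spec (CommRingCat.of k))) [GrpObj H] [Smooth H.hom] (i : H ⟶ G) [IsMonHom i]
    [IsClosedImmersion i.left]
    (X : Over (Spec (CommRingCat.of k))) (a : AlgGrp.Action G X) (o : 𝟙_ (Over (Spec (CommRingCat.of k))) ⟶ X)
    (hX : AGF.IsQuotient i X a o) :
    AGF.IsObservableIn k i ↔ X.left.IsQuasiAffine := by
  exact ⟨Quot.isQuasiAffine_of_observable hX, isObservable_of_isQuasiAffine hX⟩


end Groth.Agent.S11189
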