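import Groth.Statements.S11190
import Groth.Agent.AGF12.Extend
-- import your own Groth.Agent.* helpers here

set_option autoImplicit false
set_option backward.isDefEq.respectTransparency false
set_option backward.isDefEq.respectTransparency.types false
open Groth.Agent.CommAlg4.AffPt Groth.Agent Groth.Agent.AGF12
universe u
open CategoryTheory MonoidalCategory CartesianMonoidalCategory MonObj GrpObj AlgebraicGeometry
open scoped TensorProduct
open AGF

namespace Groth.Agent.S11190


/-- The one-dimensional module of a multiplicative unit. -/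
theorem exists_oneDim {k : Type u} [Field k] {H : Over (Spec (CommRingCat.of k))} [GrpObj H] (c : Γ(H.left, ⊤))
    (hu : IsUnit c) (hm : ∀ (B : Type u) [CommRing B] [Algebra k B] (h h' : VecGrp.pt k B ⟶ H),
      algPt (h * h') c = algPt h c * algPt h' c) :
    ∃ σ : VecGrp.GMod H k, ∀ (B : Type u) [CommRing B] [Algebra k B] (h : VecGrp.pt k B ⟶ H) (x : B ⊗[k] k),
      σ.ρ B h x = algPt h c • x := by
  let E : ∀ (B : Type u) [CommRing B] [Algebra k B], (VecGrp.pt k B ⟶ H) →* ((B ⊗[k] k) ≃ₗ[B] (B ⊗[k] k)) :=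
    fun B _ _ => MonoidHom.mk' (fun h => LinearEquiv.smulOfUnit (hu.map (algPt h)).unit) (fun h h' => LinearEquiv.ext fun x => by
      show algPt (h * h') c • x = algPt h c • (algPt h' c • x)
      rw [hm, mul_smul])
  refine ⟨{ ρ := E, naturality := fun {B B'} _ _ _ _ φ g x => ?_ }, fun B _ _ h x => rfl⟩
  show VecGrp.Wmap φ (algPt g c • x) = algPt (VecGrp.ptMap φ ≫ g) c • VecGrp.Wmap φ x
  rw [VecGrp.Wmap_smul, algPt_ptMap]

/-- Observability follows from extension of one-dimensional modules. -/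
theorem isObservableIn_of_extends {k : Type u} [Field k] {G H : Over (Spec (CommRingCat.of k))} [GrpObj G] [GrpObj H]
    [IsAffine G.left] [Smooth G.hom] {i : H ⟶ G} [IsMonHom i] [IsClosedImmersion i.left]
    (hext : ∀ σ : VecGrp.GMod H k, σ.ExtendsAlong i) : AGF.IsObservableIn k i := by
  haveI : IsAffine H.left := isAffine_of_isAffineHom i.left
  refine isObservableIn_of_inverse fun f c hf hf1 => ?_
  obtain ⟨cu, rfl⟩ := hf.isUnit hf1
  obtain ⟨σ, hσ⟩ := exists_oneDim (↑cu⁻¹ : Γ(H.left, ⊤)) cu⁻¹.isUnit (fun B _ _ h h' => by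
    have e : ∀ h : VecGrp.pt k B ⟶ H, algPt h (↑cu⁻¹ : Γ(H.left, ⊤)) * algPt h (cu : Γ(H.left, ⊤)) = 1 := fun h => by
      rw [← map_mul, Units.inv_mul, map_one]
    have h1 := e (h * h')
    rw [hf.mul_apply hf1] at h1
    have := e h
    have := e h'
    calc algPt (h * h') (↑cu⁻¹ : Γ(H.left, ⊤))
        = algPt (h * h') (↑cu⁻¹ : Γ(H.left, ⊤)) * ((algPt h (↑cu⁻¹ : Γ(H.left, ⊤)) * algPt h (cu : Γ(H.left, ⊤))) *
            (algPt h' (↑cu⁻¹ : Γ(H.left, ⊤)) * algPt h' (cu : Γ(H.left, ⊤)))) := by rw [e h, e h']; simp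
      _ = (algPt (h * h') (↑cu⁻¹ : Γ(H.left, ⊤)) * (algPt h (cu : Γ(H.left, ⊤)) * algPt h' (cu : Γ(H.left, ⊤)))) *
            (algPt h (↑cu⁻¹ : Γ(H.left, ⊤)) * algPt h' (↑cu⁻¹ : Γ(H.left, ⊤))) := by ring
      _ = _ := by rw [h1, _root_.one_mul])
  obtain ⟨W, _, _, _, ρ, φ, hφ, hφh⟩ := hext σ
  obtain ⟨f', hf', hf'1⟩ := exists_semi_of_vector ρ (φ 1) (fun h => one_ne_zero (hφ (h.trans (map_zero φ).symm)))
    (↑cu⁻¹ : Γ(H.left, ⊤)) (fun B _ _ h => by
      have h1 := hφh B h ((1 : B) ⊗ₜ[k] (1 : k))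
      rw [hσ, map_smul, LinearMap.baseChange_tmul] at h1
      exact h1.symm)
  exact ⟨1, f', _, Nat.one_pos, by rw [pow_one, Units.inv_mul], hf', hf'1⟩

end Groth.Agent.S11190

namespace Groth.Agent.S11190

/-- Let k be an algebraically closed field, G a linear algebraic group over k (an affine smooth group
scheme over k) and H a closed subgroup of G (a smooth closed subgroup scheme, i : H → G). Then H is
observable in G if and only if each finite-dimensional rational H-module occurs as an H-submodule of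
some rational G-module of finite dimension (it embeds, H-equivariantly along i, into one). -/
theorem result (k : Type u) [Field k] [IsAlgClosed k]
    (G : Over (Spec (CommRingCat.of k))) [GrpObj G] [IsAffine G.left] [Smooth G.hom]
    (H : Over (Spec (CommRingCat.of k))) [GrpObj H] [Smooth H.hom] (i : H ⟶ G) [IsMonHom i]
    [IsClosedImmersion i.left] :
    AGF.IsObservableIn k i ↔
      ∀ (V : Type u) [AddCommGroup V] [Module k V] [Module.Finite k V] (σ : VecGrp.GMod H V), σ.ExtendsAlong i := by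
  constructor
  · intro hobs V _ _ _ σ
    refine extendsAlong_of_inverse (fun f c hf hf1 => ?_) σ
    exact exists_inverse hobs hf hf1
  · intro hext
    exact isObservableIn_of_extends fun σ => hext k σ

end Groth.Agent.S11190
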