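import Groth.Statements.S11191
import Mathlib
-- import your own Groth.Agent.* helpers here

set_option autoImplicit false
universe u
open CategoryTheory MonoidalCategory CartesianMonoidalCategory MonObj GrpObj AlgebraicGeometry
open scoped TensorProduct
open AGF

namespace Groth.Agent.S11191

section
variable {k : Type u} [Field k]

/-- The functions algebra. -/
noncomputable abbrev gAlg (Z : Over (Spec (CommRingCat.of k))) : Algebra k Γ(Z.left, ⊤) :=
  ((Scheme.ΓSpecIso (CommRingCat.of k)).inv ≫ Z.hom.appTop).hom.toAlgebra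

/-- A point as a ring map. -/
noncomputable def algPt {Z : Over (Spec (CommRingCat.of k))} {B : Type u} [CommRing B] [Algebra k B]
    (t : VecGrp.pt k B ⟶ Z) : Γ(Z.left, ⊤) →+* B :=
  (t.left.appTop ≫ (Scheme.ΓSpecIso (CommRingCat.of B)).hom).hom

theorem algPt_comp {Y Z : Over (Spec (CommRingCat.of k))} {B : Type u} [CommRing B] [Algebra k B]
    (t : VecGrp.pt k B ⟶ Y) (m : Y ⟶ Z) (f : Γ(Z.left, ⊤)) :
    algPt (t ≫ m) f = algPt t (m.left.appTop f) := rfl

theorem exists_algHom {Z : Over (Spec (CommRingCat.of k))} {B : Type u} [CommRing B] [Algebra k B]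
    (t : VecGrp.pt k B ⟶ Z) :
    ∃ φ : @AlgHom k Γ(Z.left, ⊤) B _ _ _ (gAlg Z) _, ∀ f, φ f = algPt t f := by
  letI := gAlg Z
  refine ⟨{ algPt t with commutes' := fun c => ?_ }, fun f => rfl⟩
  have h : (Scheme.ΓSpecIso (CommRingCat.of k)).inv ≫ Z.hom.appTop ≫ t.left.appTop ≫
      (Scheme.ΓSpecIso (CommRingCat.of B)).hom = CommRingCat.ofHom (algebraMap k B) := by
    rw [← Scheme.Hom.comp_appTop_assoc, Over.w t]
    show _ ≫ (Spec.map (CommRingCat.ofHom (algebraMap k B))).appTop ≫ _ = _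
    rw [← Scheme.ΓSpecIso_inv_naturality_assoc, Iso.inv_hom_id, Category.comp_id]
  exact congrArg (fun m => m.hom c) h

/-- The universal point of an affine scheme. -/
theorem exists_univ_pt (Z : Over (Spec (CommRingCat.of k))) [IsAffine Z.left] :
    ∃ u : @VecGrp.pt k _ Γ(Z.left, ⊤) _ (gAlg Z) ⟶ Z,
      ∀ f, @algPt k _ Z Γ(Z.left, ⊤) _ (gAlg Z) u f = f := by
  letI := gAlg Z
  have hinv : Z.left.isoSpec.inv.appTop = (Scheme.ΓSpecIso Γ(Z.left, ⊤)).inv := by
    have e := Scheme.Hom.comp_appTop Z.left.isoSpec.inv Z.left.isoSpec.hom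
    rw [Iso.inv_hom_id, Scheme.Hom.id_appTop,
      show Z.left.isoSpec.hom.appTop = (Scheme.ΓSpecIso Γ(Z.left, ⊤)).hom from Scheme.toSpecΓ_appTop Z.left] at e
    rw [← cancel_epi (Scheme.ΓSpecIso Γ(Z.left, ⊤)).hom, Iso.hom_inv_id]
    exact e.symm
  have hw : Z.left.isoSpec.inv ≫ Z.hom = Spec.map (CommRingCat.ofHom (algebraMap k Γ(Z.left, ⊤))) := by
    apply ext_of_isAffine
    rw [Scheme.Hom.comp_appTop, hinv, ← cancel_epi (Scheme.ΓSpecIso (CommRingCat.of k)).inv,
      ← Scheme.ΓSpecIso_inv_naturality]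
    rfl
  refine ⟨Over.homMk Z.left.isoSpec.inv hw, fun f => ?_⟩
  show (Z.left.isoSpec.inv.appTop ≫ (Scheme.ΓSpecIso Γ(Z.left, ⊤)).hom) f = f
  rw [hinv, Iso.inv_hom_id]
  rfl

/-- An affine scheme has no other points. -/
theorem pt_eq {Z : Over (Spec (CommRingCat.of k))} [IsAffine Z.left] {B : Type u} [CommRing B] [Algebra k B]
    (t t' : VecGrp.pt k B ⟶ Z) (h : ∀ f, algPt t f = algPt t' f) : t = t' := by
  apply Over.OverMorphism.ext
  apply ext_of_isAffine
  rw [← cancel_mono (Scheme.ΓSpecIso (CommRingCat.of B)).hom]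
  exact CommRingCat.hom_ext (RingHom.ext h)

theorem algPt_ptMap {Z : Over (Spec (CommRingCat.of k))} {B B' : Type u} [CommRing B] [Algebra k B]
    [CommRing B'] [Algebra k B'] (φ : B →ₐ[k] B') (t : VecGrp.pt k B ⟶ Z) (f : Γ(Z.left, ⊤)) :
    algPt (VecGrp.ptMap φ ≫ t) f = φ (algPt t f) := by
  rw [algPt_comp]
  have h := congrArg (fun m => m.hom (t.left.appTop f)) (Scheme.ΓSpecIso_naturality (CommRingCat.ofHom φ.toRingHom))
  exact h

/-- Matrix coefficients. -/
theorem exists_coeff (G : Over (Spec (CommRingCat.of k))) [GrpObj G] [IsAffine G.left] (M : Type u) [AddCommGroup M]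
    [Module k M] (ρ : VecGrp.GMod G M) (a : M) :
    ∃ F : (M →ₗ[k] k) → Γ(G.left, ⊤), ∀ (B : Type u) [CommRing B] [Algebra k B] (t : VecGrp.pt k B ⟶ G) (lam : M →ₗ[k] k),
      algPt t (F lam) = TensorProduct.rid k B (lam.lTensor B (ρ.ρ B t ((1 : B) ⊗ₜ[k] a))) := by
  letI := gAlg G
  obtain ⟨uG, hu⟩ := exists_univ_pt G
  refine ⟨fun lam => TensorProduct.rid k Γ(G.left, ⊤) (lam.lTensor Γ(G.left, ⊤) (ρ.ρ Γ(G.left, ⊤) uG ((1 : Γ(G.left, ⊤)) ⊗ₜ[k] a))),
    fun B _ _ t lam => ?_⟩
  obtain ⟨φ, hφ⟩ := exists_algHom t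
  have ht : VecGrp.ptMap φ ≫ uG = t := pt_eq _ _ fun f => by rw [algPt_ptMap, hu, hφ]
  have hn := ρ.naturality φ uG ((1 : Γ(G.left, ⊤)) ⊗ₜ[k] a)
  rw [ht, VecGrp.Wmap_tmul, map_one] at hn
  rw [← hn, ← hφ]
  generalize ρ.ρ Γ(G.left, ⊤) uG ((1 : Γ(G.left, ⊤)) ⊗ₜ[k] a) = z
  induction z using TensorProduct.induction_on with
  | zero => simp
  | tmul b m => simp
  | add x y hx hy => simp only [map_add, hx, hy]

theorem algPt_mul_of_fixed {G : Over (Spec (CommRingCat.of k))} [GrpObj G] {M : Type u} [AddCommGroup M] [Module k M]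
    (ρ : VecGrp.GMod G M) (a : M) (f : Γ(G.left, ⊤)) (lam : M →ₗ[k] k)
    (hf : ∀ (B : Type u) [CommRing B] [Algebra k B] (t : VecGrp.pt k B ⟶ G),
      algPt t f = TensorProduct.rid k B (lam.lTensor B (ρ.ρ B t ((1 : B) ⊗ₜ[k] a))))
    (B : Type u) [CommRing B] [Algebra k B] (t t' : VecGrp.pt k B ⟶ G)
    (hfix : ρ.ρ B t' ((1 : B) ⊗ₜ[k] a) = (1 : B) ⊗ₜ[k] a) : algPt (t * t') f = algPt t f := by
  rw [hf, hf, map_mul]
  exact congrArg (fun z => TensorProduct.rid k B (lam.lTensor B z))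
    (show ρ.ρ B t (ρ.ρ B t' ((1 : B) ⊗ₜ[k] a)) = _ by rw [hfix])

end

/-- Let k be an algebraically closed field, G a linear algebraic group over k (an affine smooth group
scheme over k) and H a closed subgroup of G (a smooth closed subgroup scheme, i : H → G), and let M
be a rational G-module. Then every H-invariant element of M is fixed by the observable hull of H: if
a rational point g of G fixes under right translation every right-H-invariant global function on G,
then g fixes every H-invariant element of M. (The published statement is for a commutative algebra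
with a rational action by automorphisms; the multiplication plays no role and the row is stated for
modules.) -/
theorem result (k : Type u) [Field k] [IsAlgClosed k]
    (G : Over (Spec (CommRingCat.of k))) [GrpObj G] [IsAffine G.left] [Smooth G.hom]
    (H : Over (Spec (CommRingCat.of k))) [GrpObj H] [Smooth H.hom] (i : H ⟶ G) [IsMonHom i]
    [IsClosedImmersion i.left]
    (M : Type u) [AddCommGroup M] [Module k M] (ρ : VecGrp.GMod G M)
    (g : VecGrp.pt k k ⟶ G) (hg : ∀ f : Γ(G.left, ⊤), AGF.IsRTransInv i f → AGF.IsRTransInv g f)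
    (a : M) (ha : a ∈ ρ.fixedUnder i) :
    ρ.ρ k g ((1 : k) ⊗ₜ[k] a) = (1 : k) ⊗ₜ[k] a := by
  classical
  haveI : IsAffine H.left := isAffine_of_isAffineHom i.left
  obtain ⟨F, hF⟩ := exists_coeff G M ρ a
  have hinv : ∀ lam, AGF.IsRTransInv i (F lam) := by
    intro lam
    haveI : IsAffine (G ⊗ H).left := by
      rw [Over.tensorObj_left]; infer_instance
    letI := gAlg (G ⊗ H)
    obtain ⟨uP, huP⟩ := exists_univ_pt (G ⊗ H)
    have key : algPt (uP ≫ ((G ◁ i) ≫ μ[G])) (F lam) = algPt (uP ≫ fst G H) (F lam) := by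
      have ht : uP ≫ ((G ◁ i) ≫ μ[G]) = (uP ≫ fst G H) * ((uP ≫ snd G H) ≫ i) := by
        rw [Hom.mul_def, ← Category.assoc]
        congr 1
        apply CartesianMonoidalCategory.hom_ext <;> simp [Category.assoc]
      rw [ht]
      exact algPt_mul_of_fixed ρ a (F lam) lam (fun B _ _ t => hF B t lam) _ (uP ≫ fst G H) _ (ha _ (uP ≫ snd G H))
    rw [algPt_comp, algPt_comp, huP, huP] at key
    exact key
  have hfix : ∀ lam : M →ₗ[k] k, algPt g (F lam) = algPt (1 : VecGrp.pt k k ⟶ G) (F lam) := by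
    intro lam
    have h := hg (F lam) (hinv lam)
    let s : VecGrp.pt k k ⟶ G ⊗ VecGrp.pt k k := lift 1 (𝟙 _)
    have h1 : s ≫ ((G ◁ g) ≫ μ[G]) = g := by
      have : s ≫ G ◁ g = lift 1 g := by
        apply CartesianMonoidalCategory.hom_ext <;> simp [s, Category.assoc]
      rw [← Category.assoc, this, ← Hom.mul_def, _root_.one_mul]
    have h2 : s ≫ fst G (VecGrp.pt k k) = 1 := lift_fst _ _
    conv_lhs => rw [← h1]
    conv_rhs => rw [← h2]
    rw [algPt_comp, algPt_comp]
    exact congrArg _ h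
  have hlam : ∀ lam : M →ₗ[k] k,
      TensorProduct.rid k k (lam.lTensor k (ρ.ρ k g ((1 : k) ⊗ₜ[k] a))) = TensorProduct.rid k k (lam.lTensor k ((1 : k) ⊗ₜ[k] a)) := by
    intro lam
    have := hfix lam
    rw [hF, hF, map_one] at this
    exact this
  apply (TensorProduct.lid k M).injective
  rw [← sub_eq_zero]
  refine (Module.forall_dual_apply_eq_zero_iff k _).1 fun lam => ?_
  rw [map_sub, sub_eq_zero]
  have hrid : ∀ z : k ⊗[k] M, TensorProduct.rid k k (lam.lTensor k z) = lam (TensorProduct.lid k M z) := by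
    intro z
    induction z using TensorProduct.induction_on with
    | zero => simp
    | tmul b m => simp [mul_comm]
    | add x y hx hy => simp only [map_add, hx, hy]
  rw [← hrid, ← hrid]
  exact hlam lam

end Groth.Agent.S11191
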