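import Groth.Statements.S11192
import Groth.Agent.AbVarLib.GeomIntegralSmooth
import Groth.Agent.CAlgH3.RegularLocal
-- import your own Groth.Agent.* helpers here

set_option autoImplicit false
universe u
open CategoryTheory MonoidalCategory CartesianMonoidalCategory MonObj GrpObj AlgebraicGeometry
open scoped TensorProduct
open AGF

namespace Groth.Agent.S11192

theorem isIntegrallyClosed_top {k : Type u} [Field k] {X : Scheme.{u}} (f : X ⟶ Spec (CommRingCat.of k))
    [Smooth f] [IsAffine X] [IsIntegral X] : IsIntegrallyClosed Γ(X, ⊤) := by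
  refine IsIntegrallyClosed.of_localization_maximal fun p _ hp => ?_
  have hU := isAffineOpen_top X
  let y : PrimeSpectrum Γ(X, ⊤) := ⟨p, inferInstance⟩
  have hy : hU.fromSpec y ∈ (⊤ : X.Opens) := trivial
  letI := TopCat.Presheaf.algebra_section_stalk X.presheaf (⟨hU.fromSpec y, hy⟩ : (⊤ : X.Opens))
  haveI : IsLocalization.AtPrime (X.presheaf.stalk (hU.fromSpec y)) p := hU.isLocalization_stalk' y hy
  haveI := Groth.Agent.VarietyLib.isRegularLocalRing_stalk_of_smooth k X f (hU.fromSpec y)
  haveI : IsIntegrallyClosed (X.presheaf.stalk (hU.fromSpec y)) := Groth.Agent.CAlgH3.isIntegrallyClosed_of_regular _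
  exact IsIntegrallyClosed.of_equiv (IsLocalization.algEquiv p.primeCompl (X.presheaf.stalk (hU.fromSpec y)) (Localization.AtPrime p)).toRingEquiv

theorem isIntegrallyClosed_eqLocus {B C : Type u} [CommRing B] [IsDomain B] [IsIntegrallyClosed B] [CommRing C]
    (φ₁ φ₂ : B →+* C) (hreg : ∀ b : B, b ≠ 0 → ∀ z, z * φ₂ b = 0 → z = 0) :
    IsIntegrallyClosed ↥(RingHom.eqLocus φ₁ φ₂) := by
  let j : ↥(RingHom.eqLocus φ₁ φ₂) →+* B := (RingHom.eqLocus φ₁ φ₂).subtype
  have hj : Function.Injective j := Subtype.val_injective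
  refine (isIntegrallyClosed_iff (FractionRing ↥(RingHom.eqLocus φ₁ φ₂))).2 fun {x} hx => ?_
  obtain ⟨a, b, hb, rfl⟩ := IsFractionRing.div_surjective (A := ↥(RingHom.eqLocus φ₁ φ₂)) x
  have hinjJ : Function.Injective ((algebraMap B (FractionRing B)).comp j) :=
    (IsFractionRing.injective B (FractionRing B)).comp hj
  obtain ⟨J, hJc⟩ : ∃ J : FractionRing ↥(RingHom.eqLocus φ₁ φ₂) →+* FractionRing B,
      ∀ c, J (algebraMap ↥(RingHom.eqLocus φ₁ φ₂) (FractionRing ↥(RingHom.eqLocus φ₁ φ₂)) c) = algebraMap B (FractionRing B) (j c) :=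
    ⟨IsFractionRing.lift hinjJ, fun c => IsFractionRing.lift_algebraMap hinjJ c⟩
  have hb0 : j b ≠ 0 := fun h => nonZeroDivisors.ne_zero hb (hj (by rw [h, map_zero]))
  have hJ : J (algebraMap _ _ a / algebraMap _ _ b) = algebraMap B (FractionRing B) (j a) / algebraMap B _ (j b) := by
    rw [map_div₀, hJc, hJc]
  have hint : IsIntegral B (algebraMap B (FractionRing B) (j a) / algebraMap B (FractionRing B) (j b)) := by
    rw [← hJ]
    obtain ⟨P, hP, hP0⟩ := hx
    refine ⟨P.map j, hP.map j, ?_⟩
    rw [Polynomial.eval₂_map]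
    have := congrArg J hP0
    rw [map_zero, Polynomial.hom_eval₂] at this
    have hcomp : J.comp (algebraMap _ (FractionRing ↥(RingHom.eqLocus φ₁ φ₂))) = (algebraMap B (FractionRing B)).comp j :=
      RingHom.ext hJc
    rwa [hcomp] at this
  obtain ⟨c, hc⟩ := IsIntegrallyClosed.isIntegral_iff.1 hint
  have hcb : c * j b = j a := by
    apply IsFractionRing.injective B (FractionRing B)
    rw [map_mul, hc, div_mul_cancel₀]
    exact fun h => hb0 (IsFractionRing.injective B (FractionRing B) (by rw [h, map_zero]))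
  have hinv : φ₁ c = φ₂ c := by
    have e1 := congrArg φ₁ hcb
    have e2 := congrArg φ₂ hcb
    have hbi : φ₁ (j b) = φ₂ (j b) := b.2
    have hai : φ₁ (j a) = φ₂ (j a) := a.2
    rw [map_mul, hbi, hai] at e1
    rw [map_mul] at e2
    exact sub_eq_zero.1 (hreg (j b) hb0 _ (by rw [sub_mul, e1, e2, sub_self]))
  refine ⟨⟨c, hinv⟩, ?_⟩
  rw [eq_div_iff (IsFractionRing.to_map_ne_zero_of_mem_nonZeroDivisors hb), ← map_mul]
  exact congrArg _ (hj (by simpa [j] using hcb))

/-- Let k be an algebraically closed field, G a linear algebraic group over k (an affine smooth group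
scheme over k) and H a closed subgroup of G (a smooth closed subgroup scheme, i : H → G), with G
connected. Then the ring of global functions on G invariant under right translation by H is
integrally closed. -/
theorem result (k : Type u) [Field k] [IsAlgClosed k]
    (G : Over (Spec (CommRingCat.of k))) [GrpObj G] [IsAffine G.left] [Smooth G.hom]
    (H : Over (Spec (CommRingCat.of k))) [GrpObj H] [Smooth H.hom] (i : H ⟶ G) [IsMonHom i]
    [IsClosedImmersion i.left] [ConnectedSpace G.left] :
    IsIntegrallyClosed ↥(AGF.rTransInv i) := by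
  classical
  haveI : IsAffine H.left := isAffine_of_isAffineHom i.left
  haveI : IsAffine (G ⊗ H).left := by
    rw [Over.tensorObj_left]; infer_instance
  haveI : CompactSpace G.left := inferInstance
  haveI : QuasiCompact G.hom := inferInstance
  haveI : IsIntegral G.left := Groth.Agent.AbVarLib.isIntegral_of_smooth_connected G.hom
  haveI : IsDomain Γ(G.left, ⊤) := inferInstance
  haveI := isIntegrallyClosed_top G.hom
  let B := Γ(G.left, ⊤)
  let φ₁ := ((G ◁ i) ≫ μ[G]).left.appTop.hom
  let φ₂ := (fst G H).left.appTop.hom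
  have hflat : φ₂.Flat := by
    have : Flat (fst G H).left := by
      haveI : Flat H.hom := inferInstance
      rw [Over.fst_left]
      infer_instance
    exact HasRingHomProperty.appTop (P := @Flat) _ this
  have hreg : ∀ b : B, b ≠ 0 → ∀ z, z * φ₂ b = 0 → z = 0 := by
    intro b hb z hz
    letI := φ₂.toAlgebra
    haveI : Module.Flat B Γ((G ⊗ H).left, ⊤) := hflat
    have hr : IsSMulRegular B b := fun u v h => mul_left_cancel₀ hb h
    exact (hr.of_flat (S := Γ((G ⊗ H).left, ⊤))).right_eq_zero_of_smul (by rwa [smul_eq_mul, mul_comm])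
  exact isIntegrallyClosed_eqLocus φ₁ φ₂ hreg

end Groth.Agent.S11192
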