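import Groth.Statements.S11193
import Groth.Agent.S11190
import Mathlib.RingTheory.Ideal.Pure
import Mathlib.RingTheory.Ideal.IdempotentFG
-- import your own Groth.Agent.* helpers here

set_option autoImplicit false
set_option backward.isDefEq.respectTransparency false
set_option backward.isDefEq.respectTransparency.types false
open Groth.Agent.CommAlg4.AffPt Groth.Agent Groth.Agent.AGF12
universe u
open CategoryTheory MonoidalCategory CartesianMonoidalCategory MonObj GrpObj AlgebraicGeometry
open scoped TensorProduct
open AGF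

namespace Groth.Agent.S11193


/-- A subgroup which is also open is observable. -/
theorem isObservableIn_of_isOpenImmersion {k : Type u} [Field k] [IsAlgClosed k] {G H : Over (Spec (CommRingCat.of k))}
    [GrpObj G] [GrpObj H] [IsAffine G.left] [Smooth G.hom] [Smooth H.hom] (i : H ⟶ G) [IsMonHom i] [IsClosedImmersion i.left]
    [IsOpenImmersion i.left] : AGF.IsObservableIn k i := by
  haveI : IsAffine H.left := isAffine_of_isAffineHom i.left
  haveI : IsLocallyNoetherian G.left := LocallyOfFiniteType.isLocallyNoetherian G.hom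
  haveI : IsNoetherianRing Γ(G.left, ⊤) := IsLocallyNoetherian.component_noetherian ⟨⊤, isAffineOpen_top _⟩
  let I := RingHom.ker i.left.appTop.hom
  have hflat : i.left.appTop.hom.Flat := HasRingHomProperty.appTop (P := @Flat) i.left inferInstance
  have hs : Function.Surjective i.left.appTop.hom := fun y => Scheme.Hom.app_surjective i.left ⊤ (isAffineOpen_top _) y
  haveI : I.Pure := by
    letI := i.left.appTop.hom.toAlgebra
    haveI : Module.Flat Γ(G.left, ⊤) Γ(H.left, ⊤) := hflat
    exact Module.Flat.of_linearEquiv (Ideal.quotientKerAlgEquivOfSurjective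
      (f := Algebra.ofId Γ(G.left, ⊤) Γ(H.left, ⊤)) hs).toLinearEquiv
  obtain ⟨e, he, hIe⟩ := (Ideal.isIdempotentElem_iff_of_fg I (IsNoetherian.noetherian I)).1 (Ideal.isIdempotentElem_of_pure I)
  have hie : i.left.appTop e = 0 := (show e ∈ I from hIe ▸ Submodule.mem_span_singleton_self e)
  have hf : ∀ t : VecGrp.pt k k ⟶ G, (algPt t e = 0 ∧ ∃ h : VecGrp.pt k k ⟶ H, h ≫ i = t) ∨
      (algPt t e = 1 ∧ ¬ ∃ h : VecGrp.pt k k ⟶ H, h ≫ i = t) := by
    intro t
    by_cases hh : ∃ h : VecGrp.pt k k ⟶ H, h ≫ i = t
    · refine Or.inl ⟨?_, hh⟩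
      obtain ⟨h, rfl⟩ := hh
      rw [algPt_comp, hie, map_zero]
    · refine Or.inr ⟨?_, hh⟩
      have h2 : algPt t e * algPt t e = algPt t e := by rw [← map_mul, he.eq]
      refine mul_left_cancel₀ (fun h0 => hh (exists_pt_of_ker t fun x hx => ?_)) (h2.trans (_root_.mul_one _).symm)
      have hxI : x ∈ I := hx
      rw [hIe] at hxI
      obtain ⟨a, rfl⟩ := Submodule.mem_span_singleton.1 hxI
      rw [smul_eq_mul, map_mul, h0, mul_zero]
  have hinv : AGF.IsRTransInv i e := by
    refine invariant_of_semi i e (semi_of_pts fun t h => ?_)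
    rw [map_one, _root_.mul_one]
    rcases hf t with ⟨h1, h0, rfl⟩ | ⟨h1, h2⟩
    · rw [h1, ← MonObj.mul_comp, algPt_comp, hie, map_zero]
    · rcases hf (t * (h ≫ i)) with ⟨h3, h', hh'⟩ | ⟨h3, -⟩
      · refine absurd ⟨h' * h⁻¹, ?_⟩ h2
        rw [MonObj.mul_comp, hh', GrpObj.inv_comp, mul_inv_cancel_right]
      · rw [h1, h3]
  intro g hg
  have h1 := S11199.universal_of_invariant g e (hg e hinv) (1 : VecGrp.pt k k ⟶ G)
  rw [_root_.one_mul, show VecGrp.ptMap (Algebra.ofId k k) ≫ g = g from pt_eq _ _ fun x => by rw [algPt_ptMap]; rfl,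
    algPt_one_comp (i := i), hie, map_zero] at h1
  rcases hf g with ⟨-, hh⟩ | ⟨h2, -⟩
  · exact hh
  · exact absurd (h2.symm.trans h1) one_ne_zero

end Groth.Agent.S11193

namespace Groth.Agent.S11193

/-- Let k be an algebraically closed field, G a linear algebraic group over k (an affine smooth group
scheme over k) and H a closed subgroup of G (a smooth closed subgroup scheme, i : H → G), with H of
finite index in G (equivalently, H is also open in G). Then each finite-dimensional rational
H-module occurs as an H-submodule of some rational G-module of finite dimension. -/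
theorem result (k : Type u) [Field k] [IsAlgClosed k]
    (G : Over (Spec (CommRingCat.of k))) [GrpObj G] [IsAffine G.left] [Smooth G.hom]
    (H : Over (Spec (CommRingCat.of k))) [GrpObj H] [Smooth H.hom] (i : H ⟶ G) [IsMonHom i]
    [IsClosedImmersion i.left] [IsOpenImmersion i.left]
    (V : Type u) [AddCommGroup V] [Module k V] [Module.Finite k V] (σ : VecGrp.GMod H V) :
    σ.ExtendsAlong i := by
  haveI : IsAffine H.left := isAffine_of_isAffineHom i.left
  refine (Groth.Agent.S11190.result k G H i).1 ?_ V σ
  exact isObservableIn_of_isOpenImmersion i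

end Groth.Agent.S11193
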