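import Groth.Statements.S11194
import Groth.Agent.S11193
import Groth.Agent.S11195
import Groth.Agent.SGA3cLib.OpenSubgroup
-- import your own Groth.Agent.* helpers here

set_option autoImplicit false
set_option backward.isDefEq.respectTransparency false
set_option backward.isDefEq.respectTransparency.types false
open Groth.Agent.CommAlg4.AffPt Groth.Agent Groth.Agent.AGF12
universe u
open CategoryTheory MonoidalCategory CartesianMonoidalCategory MonObj GrpObj AlgebraicGeometry
open scoped TensorProduct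
open AGF

namespace Groth.Agent.S11194


section
variable {k : Type u} [Field k]

theorem isClosedImmersion_of_open {G H : Over (Spec (CommRingCat.of k))} [GrpObj G] [GrpObj H] (i : H ⟶ G) [IsMonHom i]
    [IsOpenImmersion i.left] : IsClosedImmersion i.left := by
  haveI : Subsingleton ↥(Spec (CommRingCat.of k)) := inferInstanceAs (Subsingleton (PrimeSpectrum k))
  refine IsClosedImmersion.of_isPreimmersion i.left ?_
  rw [← closure_subset_iff_isClosed]
  intro y hy
  refine SGA3cLib.mem_range_of_mem_closure_fibre i y fun V hV hyV => ?_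
  obtain ⟨z, hz1, hz2⟩ := mem_closure_iff.1 hy V hV hyV
  exact ⟨z, ⟨hz1, Subsingleton.elim _ _⟩, hz2⟩

/-- Observability descends to an intermediate group. -/
theorem isObservableIn_intermediate [IsAlgClosed k] {G K H : Over (Spec (CommRingCat.of k))} [GrpObj G] [GrpObj K] [GrpObj H]
    [IsAffine G.left] [Smooth G.hom] [IsAffine K.left] [IsAffine H.left] [Smooth H.hom] [Smooth K.hom] (i : H ⟶ K) [IsMonHom i]
    (j : K ⟶ G) [IsMonHom j] [Mono j] (h : AGF.IsObservableIn k (i ≫ j)) : AGF.IsObservableIn k i := by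
  intro g hg
  obtain ⟨x, hx⟩ := h (g ≫ j) (fun f hf => by
    letI := gAlg G
    obtain ⟨u, hu⟩ := exists_univ_pt G
    have hpts : ∀ t : VecGrp.pt k k ⟶ G, algPt (t * (g ≫ j)) f = algPt t f := fun t => by
      obtain ⟨τ, hτ⟩ := exists_leftTranslate G t
      have hτk : ∀ s x, algPt s (τ x) = algPt (t * s) x := fun s x => by
        rw [hτ k s x, show VecGrp.ptMap (Algebra.ofId k k) ≫ t = t from pt_eq _ _ fun y => by rw [algPt_ptMap]; rfl]
      have hsemi : Semi i (j.left.appTop (τ f)) 1 := fun B _ _ s h => by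
        rw [map_one, _root_.mul_one, ← algPt_comp, ← algPt_comp, MonObj.mul_comp, Category.assoc]
        have h1 := (semi_of_invariant (i ≫ j) f hf).translate hτ B (s ≫ j) h
        rwa [map_one, _root_.mul_one] at h1
      have h1 := S11199.universal_of_invariant g _ (hg _ (invariant_of_semi i _ hsemi)) (1 : VecGrp.pt k k ⟶ K)
      rw [_root_.one_mul, show VecGrp.ptMap (Algebra.ofId k k) ≫ g = g from pt_eq _ _ fun y => by rw [algPt_ptMap]; rfl,
        ← algPt_comp, ← algPt_comp, MonObj.one_comp, hτk, hτk, _root_.mul_one] at h1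
      exact h1
    refine S11199.invariant_of_universal (g ≫ j) f u hu ?_
    haveI : IsReduced G.left := WeilLib.isReduced_of_smooth G.hom
    refine sub_eq_zero.1 (S11188.eq_zero_of_pts G _ fun t => ?_)
    obtain ⟨φ, hφ⟩ := exists_algHom t
    rw [← hφ, map_sub, ← algPt_ptMap, MonObj.comp_mul]
    have e1 : VecGrp.ptMap φ ≫ u = t := pt_eq _ _ fun y => by rw [algPt_ptMap, hu, hφ]
    have e2 : VecGrp.ptMap φ ≫ VecGrp.ptMap (Algebra.ofId k Γ(G.left, ⊤)) ≫ g ≫ j = g ≫ j := pt_eq _ _ fun y => by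
      rw [algPt_ptMap, algPt_ptMap]; exact φ.commutes _
    rw [e1, e2, hpts, hφ, sub_self])
  exact ⟨x, by rw [← cancel_mono j, Category.assoc, hx]⟩

/-- A subgroup containing an observable subgroup with finite index is observable. -/
theorem isObservableIn_of_open [IsAlgClosed k] {G H H₀ : Over (Spec (CommRingCat.of k))} [GrpObj G] [GrpObj H] [GrpObj H₀]
    [IsAffine G.left] [Smooth G.hom] [Smooth H.hom] [Smooth H₀.hom] (i : H ⟶ G) [IsMonHom i] [IsClosedImmersion i.left]
    (j : H₀ ⟶ H) [IsMonHom j] [IsOpenImmersion j.left] (h : AGF.IsObservableIn k (j ≫ i)) : AGF.IsObservableIn k i := by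
  classical
  haveI : IsClosedImmersion j.left := isClosedImmersion_of_open j
  haveI : IsAffine H.left := isAffine_of_isAffineHom i.left
  haveI : IsAffine H₀.left := isAffine_of_isAffineHom j.left
  haveI : IsClosedImmersion (j ≫ i).left := by rw [Over.comp_left]; infer_instance
  haveI : IsLocallyNoetherian H.left := LocallyOfFiniteType.isLocallyNoetherian H.hom
  haveI : IsNoetherianRing Γ(H.left, ⊤) := IsLocallyNoetherian.component_noetherian ⟨⊤, isAffineOpen_top _⟩
  -- finitely many cosets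
  let S : Subgroup (VecGrp.pt k k ⟶ H) :=
    (MonoidHom.mk' (fun x : VecGrp.pt k k ⟶ H₀ => x ≫ j) (fun x y => MonObj.mul_comp x y j)).range
  have hS : ∀ x, x ∈ S ↔ ∃ y : VecGrp.pt k k ⟶ H₀, y ≫ j = x := fun x => Iff.rfl
  haveI : Finite ((VecGrp.pt k k ⟶ H) ⧸ S) := by
    let I := RingHom.ker j.left.appTop.hom
    have hflat : j.left.appTop.hom.Flat := HasRingHomProperty.appTop (P := @Flat) j.left inferInstance
    have hs : Function.Surjective j.left.appTop.hom := fun y => Scheme.Hom.app_surjective j.left ⊤ (isAffineOpen_top _) y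
    haveI : I.Pure := by
      letI := j.left.appTop.hom.toAlgebra
      haveI : Module.Flat Γ(H.left, ⊤) Γ(H₀.left, ⊤) := hflat
      exact Module.Flat.of_linearEquiv (Ideal.quotientKerAlgEquivOfSurjective
        (f := Algebra.ofId Γ(H.left, ⊤) Γ(H₀.left, ⊤)) hs).toLinearEquiv
    obtain ⟨e, he, hIe⟩ := (Ideal.isIdempotentElem_iff_of_fg I (IsNoetherian.noetherian I)).1 (Ideal.isIdempotentElem_of_pure I)
    have hje : j.left.appTop e = 0 := (show e ∈ I from hIe ▸ Submodule.mem_span_singleton_self e)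
    have hout : ∀ t : VecGrp.pt k k ⟶ H, algPt t e = 0 → t ∈ S := fun t h0 => (hS t).2 (exists_pt_of_ker t fun x hx => by
      have hxI : x ∈ I := hx
      rw [hIe] at hxI
      obtain ⟨a, rfl⟩ := Submodule.mem_span_singleton.1 hxI
      rw [smul_eq_mul, map_mul, h0, mul_zero])
    choose τ hτ using fun t => exists_leftTranslate H t
    have hτk : ∀ (t s : VecGrp.pt k k ⟶ H) x, algPt s (τ t x) = algPt (t * s) x := fun t s x => by
      rw [hτ t k s x, show VecGrp.ptMap (Algebra.ofId k k) ≫ t = t from pt_eq _ _ fun y => by rw [algPt_ptMap]; rfl]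
    letI := gAlg H
    obtain ⟨uH, hu⟩ := exists_univ_pt H
    haveI : Algebra.FiniteType k Γ(H.left, ⊤) := by
      have h1 : H.hom.appTop.hom.FiniteType := HasRingHomProperty.appTop (P := @LocallyOfFiniteType) H.hom inferInstance
      exact h1.comp (RingHom.FiniteType.of_surjective _
        (ConcreteCategory.bijective_of_isIso (Scheme.ΓSpecIso (CommRingCat.of k)).inv).surjective)
    let fam : (VecGrp.pt k k ⟶ H) → Γ(H.left, ⊤) := fun t => 1 - τ t e
    have htop : Ideal.span (Set.range fam) = ⊤ := by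
      by_contra hne
      obtain ⟨m, hm, hle⟩ := Ideal.exists_le_maximal _ hne
      obtain ⟨χ, hχ⟩ := exists_algHom_of_isMaximal (k := k) m
      let t := VecGrp.ptMap χ ≫ uH
      have h1 := (hχ _).2 (hle (Ideal.subset_span ⟨t⁻¹, rfl⟩))
      rw [← hu (fam t⁻¹), ← algPt_ptMap χ] at h1
      simp only [fam, map_sub, map_one] at h1
      rw [hτk, inv_mul_cancel, algPt_one_comp (i := j), hje, map_zero, sub_zero] at h1
      exact one_ne_zero h1
    obtain ⟨T, hTsub, hT⟩ := Submodule.mem_span_finite_of_mem_span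
      (show (1 : Γ(H.left, ⊤)) ∈ Ideal.span (Set.range fam) from htop ▸ Submodule.mem_top)
    choose gT hgT using fun a => show ∃ t, a ∈ T → fam t = a from
      if ha : a ∈ T then (hTsub ha).imp fun t ht _ => ht else ⟨1, fun h => absurd h ha⟩
    refine Finite.of_surjective (fun a : T => (QuotientGroup.mk (gT a)⁻¹ : (VecGrp.pt k k ⟶ H) ⧸ S)) fun q => ?_
    obtain ⟨t, rfl⟩ := QuotientGroup.mk_surjective q
    obtain ⟨a, ha, hat⟩ : ∃ a ∈ T, algPt t a ≠ 0 := by
      by_contra hc
      push_neg at hc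
      have h2 : algPt t (1 : Γ(H.left, ⊤)) = 0 :=
        RingHom.mem_ker.1 ((Submodule.span_le.2 fun a ha => RingHom.mem_ker.2 (hc a ha) :
          Submodule.span Γ(H.left, ⊤) (T : Set Γ(H.left, ⊤)) ≤ RingHom.ker (algPt t)) hT)
      rw [map_one] at h2
      exact one_ne_zero h2
    refine ⟨⟨a, ha⟩, QuotientGroup.eq.2 ?_⟩
    rw [_root_.inv_inv]
    refine hout _ ?_
    rw [← hgT a ha] at hat
    simp only [fam, map_sub, map_one, hτk] at hat
    have h2 : algPt (gT a * t) e * algPt (gT a * t) e = algPt (gT a * t) e := by rw [← map_mul, he.eq]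
    by_contra hne
    exact hat (sub_eq_zero.2 ((mul_left_cancel₀ hne (h2.trans (_root_.mul_one _).symm))).symm)
  haveI : Fintype ((VecGrp.pt k k ⟶ H) ⧸ S) := Fintype.ofFinite _
  intro g hg
  by_contra hgH
  letI := gAlg G
  obtain ⟨uG, hu⟩ := exists_univ_pt G
  haveI : IsReduced G.left := WeilLib.isReduced_of_smooth G.hom
  let rep : ((VecGrp.pt k k ⟶ H) ⧸ S) → (VecGrp.pt k k ⟶ G) := fun q => Quotient.out q ≫ i
  -- separating invariants
  have hsep : ∀ l m, ∃ a : Γ(G.left, ⊤), Semi (j ≫ i) a 1 ∧ algPt (g * rep l) a = 1 ∧ algPt (rep m) a = 0 := by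
    intro l m
    have hout : ¬ ∃ y : VecGrp.pt k k ⟶ H₀, y ≫ j ≫ i = (rep m)⁻¹ * g * rep l := by
      rintro ⟨y, hy⟩
      refine hgH ⟨Quotient.out m * (y ≫ j) * (Quotient.out l)⁻¹, ?_⟩
      rw [MonObj.mul_comp, MonObj.mul_comp, GrpObj.inv_comp, Category.assoc, hy]
      simp [rep, _root_.mul_assoc]
    have hnot : ¬ ∀ f : Γ(G.left, ⊤), AGF.IsRTransInv (j ≫ i) f → AGF.IsRTransInv ((rep m)⁻¹ * g * rep l) f := fun hc =>
      hout (h _ hc)
    push_neg at hnot
    obtain ⟨f, hf, hf'⟩ := hnot
    obtain ⟨t, ht⟩ : ∃ t : VecGrp.pt k k ⟶ G, algPt (t * ((rep m)⁻¹ * g * rep l)) f ≠ algPt t f := by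
      by_contra hc
      push_neg at hc
      refine hf' (S11199.invariant_of_universal _ f uG hu (sub_eq_zero.1 (S11188.eq_zero_of_pts G _ fun t => ?_)))
      obtain ⟨φ, hφ⟩ := exists_algHom t
      rw [← hφ, map_sub, ← algPt_ptMap, MonObj.comp_mul]
      have e1 : VecGrp.ptMap φ ≫ uG = t := pt_eq _ _ fun y => by rw [algPt_ptMap, hu, hφ]
      have e2 : VecGrp.ptMap φ ≫ VecGrp.ptMap (Algebra.ofId k Γ(G.left, ⊤)) ≫ ((rep m)⁻¹ * g * rep l) = (rep m)⁻¹ * g * rep l :=
        pt_eq _ _ fun y => by rw [algPt_ptMap, algPt_ptMap]; exact φ.commutes _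
      rw [e1, e2, hc, hφ, sub_self]
    obtain ⟨τ, hτ⟩ := exists_leftTranslate G (t * (rep m)⁻¹)
    have hτk : ∀ s x, algPt s (τ x) = algPt (t * (rep m)⁻¹ * s) x := fun s x => by
      rw [hτ k s x, show VecGrp.ptMap (Algebra.ofId k k) ≫ (t * (rep m)⁻¹) = t * (rep m)⁻¹ from pt_eq _ _ fun y => by
        rw [algPt_ptMap]; rfl]
    have hd : algPt (g * rep l) (τ f) - algPt (rep m) (τ f) ≠ 0 := by
      rw [sub_ne_zero, hτk, hτk, inv_mul_cancel_right, _root_.mul_assoc]
      simpa [_root_.mul_assoc] using ht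
    refine ⟨algebraMap k _ (algPt (g * rep l) (τ f) - algPt (rep m) (τ f))⁻¹ * (τ f - algebraMap k _ (algPt (rep m) (τ f))), ?_, ?_, ?_⟩
    · refine Semi.smul_const ?_ _
      intro B _ _ s x
      have h1 := (semi_of_invariant (j ≫ i) f hf).translate hτ B s x
      rw [map_one, _root_.mul_one] at h1 ⊢
      rw [map_sub, map_sub, h1]
      congr 1
      exact (algPt_appTop_hom _ _).trans (algPt_appTop_hom _ _).symm
    · rw [map_mul, map_sub, show algPt (g * rep l) (algebraMap k Γ(G.left, ⊤) (algPt (g * rep l) (τ f) - algPt (rep m) (τ f))⁻¹) = _ from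
        algPt_appTop_hom _ _, show algPt (g * rep l) (algebraMap k Γ(G.left, ⊤) (algPt (rep m) (τ f))) = _ from algPt_appTop_hom _ _]
      exact inv_mul_cancel₀ hd
    · rw [map_mul, map_sub, show algPt (rep m) (algebraMap k Γ(G.left, ⊤) (algPt (rep m) (τ f))) = _ from algPt_appTop_hom _ _]
      simp
  choose a ha ha1 ha0 using hsep
  have hsemi1 : ∀ (u : Finset ((VecGrp.pt k k ⟶ H) ⧸ S)) (F : ((VecGrp.pt k k ⟶ H) ⧸ S) → Γ(G.left, ⊤)),
      (∀ q, Semi (j ≫ i) (F q) 1) → Semi (j ≫ i) (∏ q ∈ u, F q) 1 := fun u F hF => by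
    induction u using Finset.induction with
    | empty => simpa using semi_one (i := j ≫ i)
    | insert q u hq ih => rw [Finset.prod_insert hq]; simpa using (hF q).mul ih
  have hsub : ∀ x, Semi (j ≫ i) x 1 → Semi (j ≫ i) (1 - x) 1 := fun x hx B _ _ s y => by
    have h1 := hx B s y
    rw [map_one, _root_.mul_one] at h1 ⊢
    rw [map_sub, map_sub, h1, map_one, map_one]
  let Q := fun l => ∏ m, a l m
  let P := 1 - ∏ l, (1 - Q l)
  have hP : Semi (j ≫ i) P 1 := hsub _ (hsemi1 _ _ fun l => hsub _ (hsemi1 _ _ (ha l)))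
  have hP1 : ∀ l, algPt (g * rep l) P = 1 := fun l => by
    simp only [P, map_sub, map_one, map_prod]
    rw [Finset.prod_eq_zero (Finset.mem_univ l) (by simp [Q, map_prod, ha1]), sub_zero]
  have hP0 : ∀ m, algPt (rep m) P = 0 := fun m => by
    simp only [P, map_sub, map_one, map_prod]
    rw [Finset.prod_eq_one fun l _ => ?_, sub_self]
    rw [sub_eq_self]
    simp only [Q, map_prod]
    exact Finset.prod_eq_zero (Finset.mem_univ m) (ha0 l m)
  -- right translates and their product
  have hR : ∀ q, ∃ x : Γ(G.left, ⊤), ∀ t : VecGrp.pt k k ⟶ G, algPt t x = algPt (t * rep q) P := fun q => by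
    refine ⟨algPt (uG * (VecGrp.ptMap (Algebra.ofId k Γ(G.left, ⊤)) ≫ rep q)) P, fun t => ?_⟩
    obtain ⟨φ, hφ⟩ := exists_algHom t
    rw [← hφ, ← algPt_ptMap φ, MonObj.comp_mul]
    refine congrArg (fun z => algPt z P) (congrArg₂ (fun a b => a * b) ?_ ?_)
    · exact pt_eq _ _ fun y => by rw [algPt_ptMap, hu, hφ]
    · exact pt_eq _ _ fun y => by rw [algPt_ptMap, algPt_ptMap]; exact φ.commutes _
  choose R hR using hR
  have hN : AGF.IsRTransInv i (∏ q, R q) := by
    refine invariant_of_semi i _ (semi_of_pts fun t x => ?_)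
    simp only [map_one, _root_.mul_one, map_prod, hR]
    refine Fintype.prod_bijective (fun q => x • q) (MulAction.bijective x) _ _ fun q => ?_
    have hmem : (Quotient.out (x • q))⁻¹ * (x * Quotient.out q) ∈ S := by
      rw [← QuotientGroup.eq, QuotientGroup.out_eq']
      conv_lhs => rw [← QuotientGroup.out_eq' q]
      rfl
    obtain ⟨y, hy⟩ := (hS _).1 hmem
    have h1 : (x ≫ i) * rep q = rep (x • q) * (y ≫ j ≫ i) := by
      rw [← Category.assoc, hy, MonObj.mul_comp, MonObj.mul_comp, GrpObj.inv_comp, mul_inv_cancel_left]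
    rw [_root_.mul_assoc, h1, ← _root_.mul_assoc]
    have h2 := hP k (t * rep (x • q)) y
    rwa [map_one, _root_.mul_one] at h2
  have h1 := S11199.universal_of_invariant g _ (hg _ hN) (1 : VecGrp.pt k k ⟶ G)
  rw [_root_.one_mul, show VecGrp.ptMap (Algebra.ofId k k) ≫ g = g from pt_eq _ _ fun x => by rw [algPt_ptMap]; rfl] at h1
  simp only [map_prod, hR, hP1, hP0, _root_.one_mul, Finset.prod_const_one] at h1
  rw [Finset.prod_eq_zero (Finset.mem_univ (QuotientGroup.mk 1)) rfl] at h1
  exact one_ne_zero h1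

end

end Groth.Agent.S11194

namespace Groth.Agent.S11194

/-- (i) ⇔ (iii): let k be an algebraically closed field, G a linear algebraic group over k (an affine
smooth group scheme over k) and H a closed subgroup of G (a smooth closed subgroup scheme, i : H →
G); let G₀ ⊆ G and H₀ ⊆ H be the identity components (connected open subgroup schemes) and i₀ : H₀ →
G₀ the induced homomorphism. Then H is observable in G if and only if H₀ is observable in G₀. -/
theorem result (k : Type u) [Field k] [IsAlgClosed k]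
    (G : Over (Spec (CommRingCat.of k))) [GrpObj G] [IsAffine G.left] [Smooth G.hom]
    (H : Over (Spec (CommRingCat.of k))) [GrpObj H] [Smooth H.hom] (i : H ⟶ G) [IsMonHom i]
    [IsClosedImmersion i.left]
    (G₀ : Over (Spec (CommRingCat.of k))) [GrpObj G₀] [ConnectedSpace G₀.left] (jG : G₀ ⟶ G) [IsMonHom jG]
    [IsOpenImmersion jG.left]
    (H₀ : Over (Spec (CommRingCat.of k))) [GrpObj H₀] [ConnectedSpace H₀.left] (jH : H₀ ⟶ H) [IsMonHom jH]
    [IsOpenImmersion jH.left] (i₀ : H₀ ⟶ G₀) [IsMonHom i₀] (hc : i₀ ≫ jG = jH ≫ i) :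
    AGF.IsObservableIn k i ↔ AGF.IsObservableIn k i₀ := by
  haveI : IsClosedImmersion jG.left := isClosedImmersion_of_open jG
  haveI : IsClosedImmersion jH.left := isClosedImmersion_of_open jH
  haveI : Smooth G₀.hom := by rw [← Over.w jG]; infer_instance
  haveI : Smooth H₀.hom := by rw [← Over.w jH]; infer_instance
  haveI : IsAffine G₀.left := isAffine_of_isAffineHom jG.left
  haveI : IsAffine H.left := isAffine_of_isAffineHom i.left
  haveI : IsAffine H₀.left := isAffine_of_isAffineHom jH.left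
  haveI : IsClosedImmersion i₀.left := by
    haveI : IsClosedImmersion (i₀.left ≫ jG.left) := by rw [← Over.comp_left, hc, Over.comp_left]; infer_instance
    exact IsClosedImmersion.of_comp i₀.left jG.left
  haveI : Mono jG := (Over.forget _).mono_of_mono_map (show Mono jG.left from inferInstance)
  constructor
  · intro hi
    refine isObservableIn_intermediate i₀ jG ?_
    rw [hc]
    exact Groth.Agent.S11195.result k G H i H₀ jH (Groth.Agent.S11193.isObservableIn_of_isOpenImmersion jH) hi
  · intro h0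
    refine isObservableIn_of_open i jH ?_
    rw [← hc]
    exact Groth.Agent.S11195.result k G G₀ jG H₀ i₀ h0 (Groth.Agent.S11193.isObservableIn_of_isOpenImmersion jG)

end Groth.Agent.S11194
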