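import Groth.Statements.S11196
import Groth.Agent.AGF12.Inverse
import Groth.Agent.S11194
import Groth.Agent.S7520
import Groth.Agent.HopfQuot.SchemeQuot
import Groth.Agent.HopfLib.LieKolchinComod
import Groth.Agent.DynLib.SolvCell26
import Mathlib.AlgebraicGeometry.Morphisms.FlatMono
-- import your own Groth.Agent.* helpers here

set_option autoImplicit false
set_option backward.isDefEq.respectTransparency false
set_option backward.isDefEq.respectTransparency.types false
open Groth.Agent.CommAlg4.AffPt Groth.Agent Groth.Agent.AGF12 WithConv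
universe u
open CategoryTheory MonoidalCategory CartesianMonoidalCategory MonObj GrpObj AlgebraicGeometry
open scoped TensorProduct
open AGF

namespace Groth.Agent.S11196

variable {k : Type u} [Field k]

/-- Common eigenvectors of a connected solvable linear algebraic group. -/
theorem exists_common_eigen [IsAlgClosed k] {G : Over (Spec (CommRingCat.of k))} [GrpObj G] [IsAffine G.left] [Smooth G.hom]
    [ConnectedSpace G.left] (hs : Red.IsSolvableGrp G) {V : Type u} [AddCommGroup V] [Module k V] [Module.Finite k V]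
    [Nontrivial V] (R : (VecGrp.pt k k ⟶ G) →* Module.End k V)
    (hR : ∀ (v : V) (l : V →ₗ[k] k), ∃ F : Γ(G.left, ⊤), ∀ t, algPt t F = l (R t v)) :
    ∃ v : V, v ≠ 0 ∧ ∀ t, ∃ c : k, R t v = c • v := by
  obtain ⟨A, _, _, e, he, hm⟩ := HopfQuot.exists_spec (k := k) G
  haveI := he
  haveI := hm
  haveI : IsIso e.left := (Over.forget _).map_isIso e
  haveI : ConnectedSpace (PrimeSpectrum A) :=
    Function.Surjective.connectedSpace (asIso e.left).inv.surjective (asIso e.left).inv.continuous
  have hhom : Spec.map (CommRingCat.ofHom (algebraMap k A)) = e.left ≫ G.hom := (Over.w e).symm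
  haveI : Smooth (Spec.map (CommRingCat.ofHom (algebraMap k A))) := by rw [hhom]; infer_instance
  haveI : Algebra.FiniteType k A := by
    have h : (CommRingCat.ofHom (algebraMap k A)).hom.FiniteType :=
      (HasRingHomProperty.Spec_iff (P := @LocallyOfFiniteType)).1 inferInstance
    exact RingHom.finiteType_algebraMap.1 h
  haveI : AlgebraicGeometry.IsReduced (Spec (CommRingCat.of A)) :=
    WeilLib.isReduced_of_smooth (Spec.map (CommRingCat.ofHom (algebraMap k A)))
  haveI : _root_.IsReduced A := affine_isReduced_iff (CommRingCat.of A) |>.1 inferInstance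
  let E : WithConv (A →ₐ[k] k) →* (VecGrp.pt k k ⟶ G) :=
    { toFun := fun x => (HopfQuot.ptSpec x : VecGrp.pt k k ⟶ HopfQuot.spec (k := k) A) ≫ e
      map_one' := by
        show (HopfQuot.ptSpec (1 : WithConv (A →ₐ[k] k))) ≫ e = _
        rw [map_one]
        exact MonObj.one_comp e
      map_mul' := fun x y => by
        show (HopfQuot.ptSpec (x * y)) ≫ e = _
        rw [map_mul]
        exact MonObj.mul_comp _ _ e }
  have hEi : Function.Injective E := fun x y h => HopfQuot.ptSpec.injective ((cancel_mono e).1 h)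
  have hEs : Function.Surjective E := fun t => by
    obtain ⟨x, hx⟩ := (HopfQuot.ptSpec (k := k) (A := A) (T := k)).surjective (t ≫ CategoryTheory.inv e)
    refine ⟨x, ?_⟩
    show HopfQuot.ptSpec x ≫ e = t
    rw [hx, Category.assoc, IsIso.inv_hom_id]
    exact Category.comp_id t
  let u : VecGrp.pt k A ⟶ G := (HopfQuot.ptSpec (toConv (AlgHom.id k A)) : VecGrp.pt k A ⟶ HopfQuot.spec (k := k) A) ≫ e
  have hu : ∀ x : WithConv (A →ₐ[k] k), E x = VecGrp.ptMap x.ofConv ≫ u := fun x => by
    show HopfQuot.ptSpec x ≫ e = _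
    rw [← Category.assoc]
    congr 1
    apply Over.OverMorphism.ext
    show Spec.map _ = Spec.map _ ≫ Spec.map _
    rw [← Spec.map_comp]
    rfl
  haveI : Group.IsSolvable (WithConv (A →ₐ[k] k)) := by
    obtain ⟨n, hn⟩ := hs
    haveI : Group.IsSolvable (VecGrp.pt k k ⟶ G) := Group.IsSolvable.mk ⟨n, hn _⟩
    exact Group.isSolvable_of_isSolvable_injective hEi
  have hreg : HopfLib.LieKolchin.IsRegularRep (R.comp E) := fun v l => by
    obtain ⟨F, hF⟩ := hR v l
    refine ⟨algPt u F, fun x => ?_⟩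
    rw [← algPt_ptMap, ← hu, hF]
    rfl
  obtain ⟨v, hv, hc⟩ := HopfLib.LieKolchin.exists_eigenvector
    (fun a ha => CAlgH3.GeomBridge.isIdempotentElem_trivial_of_connected A ha) (R.comp E) hreg
  refine ⟨v, hv, fun t => ?_⟩
  obtain ⟨x, rfl⟩ := hEs t
  exact hc x

theorem connectedSpace_of_range {X Y : Scheme.{u}} (j : X ⟶ Y) [IsOpenImmersion j] (h : _root_.IsConnected (Set.range j)) :
    ConnectedSpace X := by
  have h1 : _root_.IsPreconnected (Set.univ : Set X) := by
    rw [← j.isOpenEmbedding.isInducing.isPreconnected_image, Set.image_univ]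
    exact h.isPreconnected
  obtain ⟨_, y, -⟩ := h.nonempty
  exact connectedSpace_iff_univ.2 ⟨⟨y, trivial⟩, h1⟩

theorem isSolvableGrp_of_mono {G G' : Over (Spec (CommRingCat.of k))} [GrpObj G] [GrpObj G'] (j : G' ⟶ G) [IsMonHom j]
    [Mono j] (hs : Red.IsSolvableGrp G) : Red.IsSolvableGrp G' := by
  obtain ⟨n, hn⟩ := hs
  refine ⟨n, fun X => ?_⟩
  let f : (X ⟶ G') →* (X ⟶ G) :=
    MonoidHom.mk' (fun a => a ≫ j) (fun a b => MonObj.mul_comp a b j)
  have h := map_derivedSeries_le_derivedSeries f n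
  rw [hn X, le_bot_iff] at h
  exact (Subgroup.map_eq_bot_iff_of_injective _ (fun a b hab => (cancel_mono j).1 hab)).1 h

/-- The connected case. -/
theorem isObservableIn_connected [IsAlgClosed k] {G H : Over (Spec (CommRingCat.of k))} [GrpObj G] [GrpObj H]
    [IsAffine G.left] [Smooth G.hom] [ConnectedSpace G.left] [Smooth H.hom] (i : H ⟶ G) [IsMonHom i]
    [IsClosedImmersion i.left] (hs : Red.IsSolvableGrp G) : AGF.IsObservableIn k i := by
  classical
  haveI : IsAffine H.left := isAffine_of_isAffineHom i.left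
  haveI : AlgebraicGeometry.IsReduced G.left := WeilLib.isReduced_of_smooth G.hom
  haveI : AlgebraicGeometry.IsReduced H.left := WeilLib.isReduced_of_smooth H.hom
  refine isObservableIn_of_inverse fun f c hf hf1 => ?_
  obtain ⟨cu, rfl⟩ := hf.isUnit hf1
  letI := gAlg G
  obtain ⟨uG, ρ, hu, hρ⟩ := S11234.exists_regular G
  let fv := algPt uG⁻¹ f
  have hfv : ∀ t : VecGrp.pt k k ⟶ G, algPt t fv = algPt t⁻¹ f := fun t => by
    obtain ⟨φ, hφ⟩ := exists_algHom t
    rw [← hφ, ← algPt_ptMap φ, GrpObj.comp_inv,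
      show VecGrp.ptMap φ ≫ uG = t from pt_eq _ _ fun x => by rw [algPt_ptMap, hu, hφ]]
  obtain ⟨N, hfN, hN, hst⟩ := Groth.Agent.CommAlg4.GModStab.exists_stable_of_noetherian ρ
    (Submodule.span k {fv}) (Submodule.fg_span (Set.finite_singleton fv))
  haveI : Module.Finite k N := Module.Finite.iff_fg.2 hN
  let W : Submodule k Γ(G.left, ⊤) :=
    { carrier := {x | x ∈ N ∧ ∀ (t : VecGrp.pt k k ⟶ G) (h : VecGrp.pt k k ⟶ H),
        algPt ((h ≫ i) * t) x * algPt h (cu : Γ(H.left, ⊤)) = algPt t x}
      zero_mem' := ⟨N.zero_mem, fun t h => by simp⟩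
      add_mem' := fun ha hb => ⟨N.add_mem ha.1 hb.1, fun t h => by rw [map_add, map_add, add_mul, ha.2, hb.2]⟩
      smul_mem' := fun a x hx => ⟨N.smul_mem a hx.1, fun t h => by
        rw [Algebra.smul_def, map_mul, map_mul,
          show algPt ((h ≫ i) * t) (algebraMap k Γ(G.left, ⊤) a) = a from algPt_appTop_hom _ _,
          show algPt t (algebraMap k Γ(G.left, ⊤) a) = a from algPt_appTop_hom _ _, _root_.mul_assoc, hx.2]⟩ }
  haveI : Module.Finite k W := by
    exact Module.Finite.of_injective (Submodule.inclusion (show W ≤ N from fun x hx => hx.1)) (Submodule.inclusion_injective _)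
  have hfvW : fv ∈ W := ⟨hfN (Submodule.subset_span rfl), fun t h => by
    rw [hfv, hfv, _root_.mul_inv_rev, ← GrpObj.inv_comp, hf k t⁻¹ h⁻¹, _root_.mul_assoc, ← hf.mul_apply hf1, inv_mul_cancel,
      ← hf.one_apply hf1, MonObj.one_comp, hf1, _root_.mul_one]⟩
  let R₀ : (VecGrp.pt k k ⟶ G) → Module.End k Γ(G.left, ⊤) := fun g =>
    (TensorProduct.lid k Γ(G.left, ⊤)).toLinearMap ∘ₗ (ρ.ρ k g).toLinearMap ∘ₗ
      (TensorProduct.lid k Γ(G.left, ⊤)).symm.toLinearMap
  have hR₀ : ∀ g x (t : VecGrp.pt k k ⟶ G), algPt t (R₀ g x) = algPt (t * g) x := fun g x t => by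
    obtain ⟨φ, hφ⟩ := exists_algHom t
    let ψ : k ⊗[k] Γ(G.left, ⊤) →ₐ[k] k := Algebra.TensorProduct.productMap (AlgHom.id k k) φ
    have key : ∀ z : k ⊗[k] Γ(G.left, ⊤), ψ z = φ (TensorProduct.lid k Γ(G.left, ⊤) z) := fun z => by
      induction z using TensorProduct.induction_on with
      | zero => simp
      | tmul a y => simp [ψ]
      | add a b ha hb => rw [map_add, map_add, map_add, ha, hb]
    show algPt t (TensorProduct.lid k Γ(G.left, ⊤) (ρ.ρ k g ((1 : k) ⊗ₜ[k] x))) = _
    rw [← hφ, ← key, hρ, ← algPt_ptMap ψ, MonObj.comp_mul]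
    refine congrArg (fun z => algPt z x) (congrArg₂ (fun a b => a * b) ?_ ?_)
    · exact pt_eq _ _ fun y => by rw [algPt_ptMap, algPt_ptMap, hu, ← hφ]; simp [ψ]
    · exact pt_eq _ _ fun y => by rw [algPt_ptMap, algPt_ptMap]; simp [ψ]
  have hW : ∀ g x, x ∈ W → R₀ g x ∈ W := fun g x hx => by
    refine ⟨?_, fun t h => ?_⟩
    · obtain ⟨w, hw⟩ := hst k g x hx.1
      show TensorProduct.lid k Γ(G.left, ⊤) (ρ.ρ k g ((1 : k) ⊗ₜ[k] x)) ∈ N
      rw [← hw]
      clear hw
      induction w using TensorProduct.induction_on with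
      | zero => simp
      | tmul a y => simpa using N.smul_mem a y.2
      | add a b ha hb => rw [map_add, map_add]; exact N.add_mem ha hb
    · rw [hR₀, hR₀, _root_.mul_assoc, hx.2]
  let R : (VecGrp.pt k k ⟶ G) →* Module.End k W :=
    { toFun := fun g => (R₀ g).restrict (hW g)
      map_one' := LinearMap.ext fun x => Subtype.ext <| by
        show TensorProduct.lid k _ (ρ.ρ k 1 ((1 : k) ⊗ₜ[k] (x : Γ(G.left, ⊤)))) = (x : Γ(G.left, ⊤))
        rw [map_one]
        exact (TensorProduct.lid_tmul _ _).trans (one_smul _ _)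
      map_mul' := fun g g' => LinearMap.ext fun x => Subtype.ext <| by
        show TensorProduct.lid k _ (ρ.ρ k (g * g') ((1 : k) ⊗ₜ[k] (x : Γ(G.left, ⊤)))) =
          TensorProduct.lid k _ (ρ.ρ k g ((TensorProduct.lid k _).symm (TensorProduct.lid k _ (ρ.ρ k g' ((1 : k) ⊗ₜ[k] (x : Γ(G.left, ⊤)))))))
        rw [map_mul, LinearEquiv.symm_apply_apply]
        rfl }
  haveI : Nontrivial W := by
    refine ⟨⟨⟨fv, hfvW⟩, 0, fun h => one_ne_zero (α := k) ?_⟩⟩
    have h1 := hfv 1
    rw [show fv = 0 from congrArg Subtype.val h, map_zero, inv_one, hf1] at h1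
    exact h1.symm
  obtain ⟨v, hv, hc⟩ := exists_common_eigen hs R fun x l => by
    obtain ⟨l', hl'⟩ := l.exists_extend
    obtain ⟨F, hF⟩ := exists_coeff G Γ(G.left, ⊤) ρ (x : Γ(G.left, ⊤))
    refine ⟨F l', fun t => ?_⟩
    rw [hF k t l']
    have key : ∀ z : k ⊗[k] Γ(G.left, ⊤), TensorProduct.rid k k (l'.lTensor k z) = l' (TensorProduct.lid k _ z) := fun z => by
      induction z using TensorProduct.induction_on with
      | zero => simp
      | tmul a y => simp [mul_comm]
      | add a b ha hb => simp only [map_add, ha, hb]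
    rw [key, ← hl']
    rfl
  choose χ hχ using hc
  have hvmul : ∀ t g, algPt (t * g) (v : Γ(G.left, ⊤)) = χ g * algPt t (v : Γ(G.left, ⊤)) := fun t g => by
    rw [← hR₀, show R₀ g (v : Γ(G.left, ⊤)) = χ g • (v : Γ(G.left, ⊤)) from congrArg Subtype.val (hχ g), Algebra.smul_def,
      map_mul, show algPt t (algebraMap k Γ(G.left, ⊤) (χ g)) = χ g from algPt_appTop_hom _ _]
  let a := algPt (1 : VecGrp.pt k k ⟶ G) (v : Γ(G.left, ⊤))
  have hva : ∀ g, algPt g (v : Γ(G.left, ⊤)) = χ g * a := fun g => by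
    have := hvmul 1 g
    rwa [_root_.one_mul] at this
  have ha : a ≠ 0 := fun h0 => hv (Subtype.ext (S11188.eq_zero_of_pts G _ fun g => by rw [hva, h0, mul_zero]))
  let f' : Γ(G.left, ⊤) := algebraMap k Γ(G.left, ⊤) a⁻¹ * (v : Γ(G.left, ⊤))
  have hf' : ∀ g, algPt g f' = χ g := fun g => by
    rw [map_mul, show algPt g (algebraMap k Γ(G.left, ⊤) a⁻¹) = a⁻¹ from algPt_appTop_hom _ _, hva, mul_left_comm,
      inv_mul_cancel₀ ha, _root_.mul_one]
  have hf'H : ∀ h : VecGrp.pt k k ⟶ H, algPt (h ≫ i) f' * algPt h (cu : Γ(H.left, ⊤)) = 1 := fun h => by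
    have h1 := v.2.2 1 h
    rw [_root_.mul_one, hva, mul_right_comm] at h1
    exact mul_right_cancel₀ ha (by rw [hf', h1, _root_.one_mul])
  refine ⟨1, f', i.left.appTop f', one_pos, ?_, semi_of_pts fun t h => ?_, ?_⟩
  · rw [pow_one]
    refine sub_eq_zero.1 (S11188.eq_zero_of_pts H _ fun h => ?_)
    rw [map_sub, map_mul, map_one, ← algPt_comp, hf'H, sub_self]
  · rw [hf', ← algPt_comp, hf', hf']
    refine mul_right_cancel₀ ha ?_
    rw [← hva, hvmul, hva]
    ring
  · rw [hf']
    refine mul_right_cancel₀ ha ?_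
    rw [← hva, _root_.one_mul]

end Groth.Agent.S11196

namespace Groth.Agent.S11196

/-- Let k be an algebraically closed field, G a linear algebraic group over k (an affine smooth group
scheme over k) and H a closed subgroup of G (a smooth closed subgroup scheme, i : H → G), with G
solvable. Then H is observable in G. -/
theorem result (k : Type u) [Field k] [IsAlgClosed k]
    (G : Over (Spec (CommRingCat.of k))) [GrpObj G] [IsAffine G.left] [Smooth G.hom]
    (H : Over (Spec (CommRingCat.of k))) [GrpObj H] [Smooth H.hom] (i : H ⟶ G) [IsMonHom i]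
    [IsClosedImmersion i.left]
    (hs : Red.IsSolvableGrp G) :
    AGF.IsObservableIn k i := by
  obtain ⟨G₀, _, jG, hmG, hcG, hfG, hrG, -, -⟩ := Groth.Agent.S7520.result k G
  obtain ⟨H₀, _, jH, hmH, hcH, hfH, hrH, -, -⟩ := Groth.Agent.S7520.result k H
  haveI := hmG; haveI := hcG; haveI := hfG; haveI := hmH; haveI := hcH; haveI := hfH
  haveI : IsLocallyNoetherian G.left := LocallyOfFiniteType.isLocallyNoetherian G.hom
  haveI : IsLocallyNoetherian H.left := LocallyOfFiniteType.isLocallyNoetherian H.hom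
  haveI : IsOpenImmersion jG.left := IsOpenImmersion.of_flat_of_mono jG.left
  haveI : IsOpenImmersion jH.left := IsOpenImmersion.of_flat_of_mono jH.left
  haveI : ConnectedSpace G₀.left := connectedSpace_of_range jG.left (by rw [hrG]; exact isConnected_connectedComponent)
  haveI : ConnectedSpace H₀.left := connectedSpace_of_range jH.left (by rw [hrH]; exact isConnected_connectedComponent)
  haveI : IsAffine G₀.left := isAffine_of_isAffineHom jG.left
  haveI : Smooth G₀.hom := by rw [← Over.w jG]; infer_instance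
  haveI : Smooth H₀.hom := by rw [← Over.w jH]; infer_instance
  haveI : Mono jG := (Over.forget _).mono_of_mono_map (show Mono jG.left from inferInstance)
  have hsub : Set.range (jH ≫ i).left ⊆ Set.range jG.left := by
    rw [hrG, Over.comp_left, Scheme.Hom.comp_base, TopCat.coe_comp, Set.range_comp, hrH]
    refine (i.left.continuous.image_connectedComponent_subset _).trans_eq (congrArg connectedComponent ?_)
    rw [← IsMonHom.one_hom i, Over.comp_left]
    rfl
  let i₀ : H₀ ⟶ G₀ := Over.homMk (IsOpenImmersion.lift jG.left (jH ≫ i).left hsub) (by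
    rw [← Over.w jG, IsOpenImmersion.lift_fac_assoc]; exact Over.w (jH ≫ i))
  have hc : i₀ ≫ jG = jH ≫ i := Over.OverMorphism.ext (IsOpenImmersion.lift_fac _ _ _)
  haveI : IsMonHom i₀ :=
    { one_hom := by rw [← cancel_mono jG, Category.assoc, hc, IsMonHom.one_hom_assoc, IsMonHom.one_hom, IsMonHom.one_hom]
      mul_hom := by
        rw [← cancel_mono jG, Category.assoc, Category.assoc, hc, IsMonHom.mul_hom_assoc, IsMonHom.mul_hom, IsMonHom.mul_hom,
          ← Category.assoc, ← Category.assoc, MonoidalCategory.tensorHom_comp_tensorHom, MonoidalCategory.tensorHom_comp_tensorHom, hc] }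
  haveI : IsClosedImmersion i₀.left := by
    haveI : IsClosedImmersion (i₀.left ≫ jG.left) := by rw [← Over.comp_left, hc, Over.comp_left]; infer_instance
    exact IsClosedImmersion.of_comp i₀.left jG.left
  exact (Groth.Agent.S11194.result k G H i G₀ jG H₀ jH i₀ hc).2 (isObservableIn_connected i₀ (isSolvableGrp_of_mono jG hs))

end Groth.Agent.S11196
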