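import Groth.Statements.S11198
import Groth.Agent.AGF12.QuotQA
import Groth.Agent.S11234
import Mathlib.AlgebraicGeometry.Morphisms.Proper
-- import your own Groth.Agent.* helpers here

set_option autoImplicit false
set_option backward.isDefEq.respectTransparency false
set_option backward.isDefEq.respectTransparency.types false
open Groth.Agent.CommAlg4.AffPt Groth.Agent Groth.Agent.AGF12
universe u
open CategoryTheory MonoidalCategory CartesianMonoidalCategory MonObj GrpObj AlgebraicGeometry
open scoped TensorProduct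
open AGF

namespace Groth.Agent.S11198

variable {k : Type u} [Field k] [IsAlgClosed k]

theorem algPt_eq_of_proper {X : Over (Spec (CommRingCat.of k))} [IsProper X.hom] [IrreducibleSpace X.left]
    (χ χ' : VecGrp.pt k k ⟶ X) (d : Γ(X.left, ⊤)) : algPt χ d = algPt χ' d := by
  letI := gAlg X
  haveI : CompactSpace X.left := QuasiCompact.compactSpace_of_compactSpace X.hom
  haveI : IrreducibleSpace (PrimeSpectrum Γ(X.left, ⊤)) :=
    { isPreirreducible_univ := by
        have h1 := (IrreducibleSpace.isIrreducible_univ X.left).image X.left.toSpecΓ.base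
          X.left.toSpecΓ.continuous.continuousOn
        rw [Set.image_univ] at h1
        have h2 := h1.closure
        rw [(X.left.toSpecΓ.denseRange).closure_range] at h2
        exact h2.2
      toNonempty := Nonempty.map X.left.toSpecΓ.base inferInstance }
  have hp : (nilradical Γ(X.left, ⊤)).IsPrime := PrimeSpectrum.irreducibleSpace_iff_isPrime_nilradical.1 ‹_›
  haveI : Algebra.IsIntegral k Γ(X.left, ⊤) := ⟨by
    have h1 : X.hom.appTop.hom.IsIntegral := isIntegral_appTop_of_universallyClosed X.hom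
    exact RingHom.IsIntegral.trans _ _ (RingHom.IsIntegral.of_finite (RingHom.Finite.of_surjective _
      (ConcreteCategory.bijective_of_isIso (Scheme.ΓSpecIso (CommRingCat.of k)).inv).surjective)) h1⟩
  haveI := hp
  haveI hm : (nilradical Γ(X.left, ⊤)).IsMaximal :=
    Ideal.isMaximal_of_isIntegral_of_isMaximal_comap (R := k) _ (by
      have : (nilradical Γ(X.left, ⊤)).comap (algebraMap k Γ(X.left, ⊤)) = ⊥ :=
        (Ideal.eq_bot_or_top _).resolve_right (Ideal.comap_ne_top _ hp.ne_top)
      rw [this]; exact Ideal.bot_isMaximal)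
  have hk : ∀ z : VecGrp.pt k k ⟶ X, RingHom.ker (algPt z) = nilradical Γ(X.left, ⊤) := fun z =>
    haveI : (RingHom.ker (algPt z)).IsPrime := RingHom.ker_isPrime _
    (hm.eq_of_le (RingHom.ker_ne_top _) (nilradical_le_prime _)).symm
  have h : d - algebraMap k Γ(X.left, ⊤) (algPt χ d) ∈ RingHom.ker (algPt χ') := by
    rw [hk χ', ← hk χ, RingHom.mem_ker, map_sub]
    exact sub_eq_zero.2 (algPt_appTop_hom χ _).symm
  rw [RingHom.mem_ker, map_sub, sub_eq_zero] at h
  exact (h.trans (algPt_appTop_hom χ' _)).symm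

theorem exists_pullback_eq {G H X : Over (Spec (CommRingCat.of k))} [GrpObj G] [GrpObj H] {i : H ⟶ G} [IsMonHom i]
    [IsAffine G.left] [Smooth G.hom] [IsAffine H.left] {a : AlgGrp.Action G X}
    {o : 𝟙_ (Over (Spec (CommRingCat.of k))) ⟶ X} (hX : AGF.IsQuotient i X a o)
    (c : Γ(G.left, ⊤)) (hc : AGF.IsRTransInv i c) :
    ∃ d : Γ(X.left, ⊤), (a.orbitMap o).left.appTop d = c := by
  letI := gAlg G
  let C := Algebra.adjoin k ({c} : Set Γ(G.left, ⊤))
  have hCinv : ∀ x ∈ C, AGF.IsRTransInv i x := by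
    intro x hx
    induction hx using Algebra.adjoin_induction with
    | mem x hx => cases hx; exact hc
    | algebraMap r =>
      refine invariant_of_semi i _ fun B _ _ t h => ?_
      rw [map_one, _root_.mul_one]
      exact (algPt_appTop_hom _ _).trans (algPt_appTop_hom _ _).symm
    | add x y _ _ hx hy => exact (AGF.rTransInv i).add_mem hx hy
    | mul x y _ _ hx hy => exact (AGF.rTransInv i).mul_mem hx hy
  let incl := CommRingCat.ofHom C.val.toRingHom
  let φ : G.left ⟶ Spec (CommRingCat.of C) := G.left.toSpecΓ ≫ Spec.map incl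
  have hφ : ((G ◁ i) ≫ μ[G]).left ≫ φ = (fst G H).left ≫ φ := by
    simp only [φ, ← Category.assoc, Scheme.toSpecΓ_naturality]
    rw [Category.assoc, Category.assoc, ← Spec.map_comp, ← Spec.map_comp]
    congr 2
    ext x
    exact hCinv x x.2
  obtain ⟨ψ, hψ⟩ := Quot.descend hX φ hφ
  have e : (Scheme.ΓSpecIso (CommRingCat.of C)).inv ≫ φ.appTop = incl := by
    simp only [φ, Scheme.Hom.comp_appTop, Scheme.toSpecΓ_appTop, ← Scheme.ΓSpecIso_inv_naturality_assoc,
      Iso.inv_hom_id, Category.comp_id]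
  rw [← hψ, Scheme.Hom.comp_appTop] at e
  exact ⟨((Scheme.ΓSpecIso (CommRingCat.of C)).inv ≫ ψ.appTop).hom ⟨c, Algebra.subset_adjoin rfl⟩,
    congrArg (fun z : CommRingCat.of C ⟶ Γ(G.left, ⊤) => z.hom ⟨c, Algebra.subset_adjoin rfl⟩) e⟩

end Groth.Agent.S11198

namespace Groth.Agent.S11198

/-- Let k be an algebraically closed field, G a linear algebraic group over k and H₁ ⊆ H₂ ⊆ G closed
subgroups (smooth closed subgroup schemes i₁ : H₁ → H₂, i₂ : H₂ → G), such that the quotient H₂/H₁
(the scheme X with H₂-action a and base point o) is proper over k and irreducible. Then a global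
function on G is invariant under right translation by H₁ if and only if it is invariant under right
translation by H₂. -/
theorem result (k : Type u) [Field k] [IsAlgClosed k]
    (G : Over (Spec (CommRingCat.of k))) [GrpObj G] [IsAffine G.left] [Smooth G.hom]
    (H₂ : Over (Spec (CommRingCat.of k))) [GrpObj H₂] [Smooth H₂.hom] (i₂ : H₂ ⟶ G) [IsMonHom i₂] [IsClosedImmersion i₂.left]
    (H₁ : Over (Spec (CommRingCat.of k))) [GrpObj H₁] [Smooth H₁.hom] (i₁ : H₁ ⟶ H₂) [IsMonHom i₁] [IsClosedImmersion i₁.left]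
    (X : Over (Spec (CommRingCat.of k))) (a : AlgGrp.Action H₂ X) (o : 𝟙_ (Over (Spec (CommRingCat.of k))) ⟶ X) (hX : AGF.IsQuotient i₁ X a o)
    [IsProper X.hom] [IrreducibleSpace X.left] :
    AGF.rTransInv (i₁ ≫ i₂) = AGF.rTransInv i₂ := by
  haveI : IsAffine H₂.left := isAffine_of_isAffineHom i₂.left
  haveI : IsAffine H₁.left := isAffine_of_isAffineHom i₁.left
  ext f
  refine ⟨fun hf => ?_, fun hf => ?_⟩
  · let p : H₂ ⟶ VecGrp.pt k k := Over.homMk H₂.hom (by
      show H₂.hom ≫ Spec.map (CommRingCat.ofHom (algebraMap k k)) = H₂.hom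
      simp)
    have hp : ∀ h : VecGrp.pt k k ⟶ H₂, h ≫ p = 𝟙 _ := fun h => by
      apply Over.OverMorphism.ext
      show h.left ≫ H₂.hom = 𝟙 _
      rw [Over.w]
      show Spec.map (CommRingCat.ofHom (algebraMap k k)) = 𝟙 _
      simp
    refine invariant_of_semi i₂ _ (semi_of_pts fun t h => ?_)
    rw [map_one, _root_.mul_one]
    let m : H₂ ⟶ G := (p ≫ t) * i₂
    have hm : ∀ h : VecGrp.pt k k ⟶ H₂, algPt h (m.left.appTop f) = algPt (t * (h ≫ i₂)) f := fun h => by
      rw [← algPt_comp, MonObj.comp_mul, ← Category.assoc, hp, Category.id_comp]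
    have hc : AGF.IsRTransInv i₁ (m.left.appTop f) := invariant_of_semi i₁ _ (semi_of_pts fun h' x => by
      rw [map_one, _root_.mul_one, hm, hm, MonObj.mul_comp, ← _root_.mul_assoc, Category.assoc]
      exact S11234.algPt_mul_of_invariant (i₁ ≫ i₂) f hf _ x)
    obtain ⟨d, hd⟩ := exists_pullback_eq hX _ hc
    have h1 := hm h
    have h2 := hm 1
    rw [← hd, ← algPt_comp, algPt_eq_of_proper _ ((1 : VecGrp.pt k k ⟶ H₂) ≫ a.orbitMap o), algPt_comp, hd, h2,
      MonObj.one_comp, _root_.mul_one] at h1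
    exact h1.symm
  · refine invariant_of_semi (i₁ ≫ i₂) _ fun B _ _ t x => ?_
    rw [map_one, _root_.mul_one, ← Category.assoc]
    exact S11234.algPt_mul_of_invariant i₂ f hf t (x ≫ i₁)


end Groth.Agent.S11198
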