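import Groth.Statements.S1120
import Groth.Agent.DQCoh.PerfProperPush17

set_option autoImplicit false
set_option backward.isDefEq.respectTransparency false
set_option linter.style.haveILetI false
universe u
open CategoryTheory CategoryTheory.Limits AlgebraicGeometry Opposite
attribute [local instance] HasDerivedCategory.standard
open Perf

namespace Groth.Agent.S1120

open Groth.Agent Groth.Agent.DCat

/-- Let f : X → S be a morphism of schemes of finite presentation (locally of finite presentation,
quasi-compact and quasi-separated), let E be a cochain complex of 𝒪_X-modules that becomes perfect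
in D(𝒪_X), and let G be a finitely presented 𝒪_X-module that is S-flat and whose support is proper
over S. Assuming the derived functors involved exist, Rf_* RHom(E, G) is a perfect object of D(𝒪_S).
(The published statement also allows G to be a bounded complex of such modules and proves
compatibility with base change; neither claim is made here.) -/
theorem result {X S : Scheme.{u}} (f : X ⟶ S) [LocallyOfFinitePresentation f] [QuasiCompact f] [QuasiSeparated f]
    (E : CochainComplex X.Modules ℤ) (hE : DCoh.IsPerfect (DCoh.toD X E)) [DCoh.HasLTensorCx E] [DCoh.HasRSheafHom E] [DCoh.HasRpush f]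
    (G : X.Modules) (hG : CohB1.IsFP G) (hflat : FlatMod.IsFlatOver f G) (hsupp : ClSub.IsProperOver f (CohB1.support G)) :
    DCoh.IsPerfect ((DCoh.Rpush f).obj ((DCoh.RSheafHom E).obj (DCoh.inD X G))) := by
  haveI := LTensorSheaf.hasLTensorCx E
  obtain ⟨K, q, hK, -, hq, -⟩ := exists_kflat_sheaf E
  haveI := hq
  haveI := LTensorSheaf.hasLTensorCx K
  haveI := RHomExist.hasRSheafHom K
  have hKp : DCoh.IsPerfect (DerivedCategory.Q.obj K) :=
    PCTriangle.perfect_iso (asIso (DerivedCategory.Q.map q)).symm hE
  obtain ⟨c⟩ := TensorCongr.nonempty_congr_rhom (E := K) (E' := E) (asIso (DerivedCategory.Q.map q))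
  obtain ⟨D, hD, ⟨eD⟩⟩ := PullPerf.exists_kflat_rep
    ((DCoh.RSheafHom K).obj ((DerivedCategory.singleFunctor X.Modules 0).obj (Coh.structureModule X)))
  haveI := LTensorSheaf.hasLTensorCx D
  obtain ⟨t⟩ := RHomDual.nonempty_tensor_dual K hK hKp D hD eD (DCoh.inD X G)
  haveI := hasLTensorMod G
  obtain ⟨m⟩ := DQCoh.PerfProperPush17.nonempty_mod_cx G D hD
  refine PCTriangle.perfect_iso ((DCoh.Rpush f).mapIso (m ≪≫ t ≪≫ c.app _)) ?_
  exact DQCoh.PerfProperPush17.isPerfect f _
    (PCTriangle.perfect_iso eD.symm (RHomDual.isPerfect_dual K hKp)) G hG hflat hsupp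

end Groth.Agent.S1120

#print axioms Groth.Agent.S1120.result
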