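import Groth.Statements.S11207
import Groth.Agent.AGF12.TensorAct
import Groth.Agent.AGF12.Inverse
import Groth.Agent.S11212
import Groth.Agent.CommAlg4.GModStable
-- import your own Groth.Agent.* helpers here

set_option autoImplicit false
set_option backward.isDefEq.respectTransparency false
set_option backward.isDefEq.respectTransparency.types false
open Groth.Agent.CommAlg4.AffPt Groth.Agent Groth.Agent.AGF12
universe u
open CategoryTheory MonoidalCategory CartesianMonoidalCategory MonObj GrpObj AlgebraicGeometry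
open scoped TensorProduct
open AGF

namespace Groth.Agent.S11207

variable {k : Type u} [Field k]

theorem lid_symm_eq {M : Type u} [AddCommGroup M] [Module k M] (z : k ⊗[k] M) :
    (1 : k) ⊗ₜ[k] TensorProduct.lid k M z = z := (TensorProduct.lid k M).symm_apply_apply z

/-- The subalgebra of right invariant functions. -/
theorem exists_subalgebra {G H : Over (Spec (CommRingCat.of k))} [GrpObj G] [GrpObj H] [IsAffine G.left] [IsAffine H.left]
    (i : H ⟶ G) [IsMonHom i] :
    letI := gAlg G
    ∃ R : Subalgebra k Γ(G.left, ⊤), ∀ f, f ∈ R ↔ AGF.IsRTransInv i f := by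
  letI := gAlg G
  refine ⟨{ (AGF.rTransInv i : Subring Γ(G.left, ⊤)) with
    algebraMap_mem' := fun c => invariant_of_semi i _ fun B _ _ t h => ?_ }, fun f => Iff.rfl⟩
  rw [map_one, _root_.mul_one]
  exact (algPt_appTop_hom _ _).trans (algPt_appTop_hom _ _).symm

/-- Transfer principle: invariants of a subgroup as images of invariants of the whole group. -/
theorem finiteType_fixed_of_fg [IsAlgClosed k] {G H : Over (Spec (CommRingCat.of k))} [GrpObj G] [GrpObj H]
    [IsAffine G.left] [Smooth G.hom] [IsAffine H.left] [Smooth H.hom] (i : H ⟶ G) [IsMonHom i]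
    (hG : VecGrp.IsReductiveGrp k G) (thmA : VecGrp.ReductiveInvariantsFG k)
    (R : letI := gAlg G; Subalgebra k Γ(G.left, ⊤)) (hR : ∀ f, f ∈ R ↔ AGF.IsRTransInv i f)
    (hRft : letI := gAlg G; Algebra.FiniteType k R)
    (A : Type u) [CommRing A] [Algebra k A] [Algebra.FiniteType k A] (ρ : VecGrp.GMod G A) (hρ : ρ.IsMult) :
    Algebra.FiniteType k ↥(ρ.fixedSubalgebra hρ i) := by
  classical
  letI := gAlg G
  haveI := hRft
  haveI : AlgebraicGeometry.IsReduced G.left := WeilLib.isReduced_of_smooth G.hom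
  haveI : AlgebraicGeometry.IsReduced H.left := WeilLib.isReduced_of_smooth H.hom
  obtain ⟨σ, hσ, hσv⟩ := exists_left_action i R hR
  obtain ⟨τ, hτ, hτv⟩ := exists_tensor_mult ρ hρ σ hσ
  haveI : Algebra.FiniteType k (A ⊗[k] R) := Algebra.FiniteType.trans (R := k) (S := A) inferInstance inferInstance
  obtain ⟨s, hs, hsadj⟩ := thmA G hG (A ⊗[k] R) τ hτ inferInstance
  choose φ hφ using fun t : VecGrp.pt k k ⟶ G => exists_algHom t
  let ev : (VecGrp.pt k k ⟶ G) → (A ⊗[k] R →ₐ[k] A) := fun t =>
    Algebra.TensorProduct.productMap (AlgHom.id k A) ((Algebra.ofId k A).comp ((φ t).comp R.val))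
  have hev : ∀ t a (r : R), ev t (a ⊗ₜ[k] r) = algPt t (r : Γ(G.left, ⊤)) • a := fun t a r => by
    simp [ev, hφ, Algebra.smul_def, Algebra.ofId_apply, mul_comm]
  choose fρ hfρ using fun g : VecGrp.pt k k ⟶ G => exists_algHom_of_isMult ρ hρ k g
  choose fτ hfτ using fun g : VecGrp.pt k k ⟶ G => exists_algHom_of_isMult τ hτ k g
  let Rρ : (VecGrp.pt k k ⟶ G) → (A →ₐ[k] A) := fun g =>
    (Algebra.TensorProduct.lid k A).toAlgHom.comp (((fρ g).restrictScalars k).comp Algebra.TensorProduct.includeRight)
  let T : (VecGrp.pt k k ⟶ G) → (A ⊗[k] R →ₐ[k] A ⊗[k] R) := fun g =>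
    (Algebra.TensorProduct.lid k (A ⊗[k] R)).toAlgHom.comp (((fτ g).restrictScalars k).comp Algebra.TensorProduct.includeRight)
  have hρval : ∀ g a, ρ.ρ k g ((1 : k) ⊗ₜ[k] a) = (1 : k) ⊗ₜ[k] Rρ g a := fun g a => by
    rw [← hfρ]
    exact (lid_symm_eq _).symm
  have hTval : ∀ g x, τ.ρ k g ((1 : k) ⊗ₜ[k] x) = (1 : k) ⊗ₜ[k] T g x := fun g x => by
    rw [← hfτ]
    exact (lid_symm_eq _).symm
  have hRρmul : ∀ g g' a, Rρ (g * g') a = Rρ g (Rρ g' a) := fun g g' a => by
    have h1 := hρval (g * g') a
    rw [map_mul, LinearEquiv.mul_apply, hρval, hρval] at h1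
    exact ((TensorProduct.lid k A).symm.injective h1).symm
  -- evaluation intertwines the actions
  have hint : ∀ g t x, ev t (T g x) = Rρ g (ev (g⁻¹ * t) x) := by
    intro g t x
    suffices h : (ev t).comp (T g) = (Rρ g).comp (ev (g⁻¹ * t)) from congrArg (fun F => F x) h
    refine Algebra.TensorProduct.ext (AlgHom.ext fun a => ?_) (AlgHom.ext fun r => ?_)
    · show ev t (T g (a ⊗ₜ[k] (1 : R))) = Rρ g (ev (g⁻¹ * t) (a ⊗ₜ[k] (1 : R)))
      have h1 := (hτv k g).1 a
      rw [hTval, hρval, Algebra.TensorProduct.map_tmul] at h1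
      rw [show T g (a ⊗ₜ[k] (1 : R)) = Rρ g a ⊗ₜ[k] (1 : R) from (TensorProduct.lid k _).symm.injective h1, hev, hev]
      simp
    · show ev t (T g ((1 : A) ⊗ₜ[k] r)) = Rρ g (ev (g⁻¹ * t) ((1 : A) ⊗ₜ[k] r))
      have h1 := (hτv k g).2 r
      have h2 : σ.ρ k g ((1 : k) ⊗ₜ[k] r) = (1 : k) ⊗ₜ[k] TensorProduct.lid k R (σ.ρ k g ((1 : k) ⊗ₜ[k] r)) := (lid_symm_eq _).symm
      have h3 := hσv k g r t (φ t) (hφ t)
      rw [h2, Algebra.TensorProduct.productMap_apply_tmul, map_one, _root_.one_mul, AlgHom.comp_apply, Subalgebra.coe_val, hφ] at h3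
      rw [h2, hTval, Algebra.TensorProduct.map_tmul] at h1
      rw [show T g ((1 : A) ⊗ₜ[k] r) = (1 : A) ⊗ₜ[k] TensorProduct.lid k R (σ.ρ k g ((1 : k) ⊗ₜ[k] r)) from
        (TensorProduct.lid k _).symm.injective h1, hev, hev, h3, map_smul, map_one]
  have hinj : ∀ y, (∀ t, ev t y = 0) → y = 0 := by
    intro y hy
    suffices h : TensorProduct.comm k A R y = 0 from (TensorProduct.comm k A R).map_eq_zero_iff.1 h
    refine S11234.eq_of_dual _ _ fun lam => ?_
    rw [map_zero, map_zero]
    refine Subtype.ext (S11188.eq_zero_of_pts G _ fun t => ?_)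
    have key : ∀ w : A ⊗[k] R,
        algPt t (TensorProduct.rid k R (lam.lTensor R (TensorProduct.comm k A R w)) : Γ(G.left, ⊤)) = lam (ev t w) := by
      intro w
      induction w using TensorProduct.induction_on with
      | zero => simp
      | tmul a r =>
        rw [hev, map_smul, TensorProduct.comm_tmul, LinearMap.lTensor_tmul, TensorProduct.rid_tmul, Subalgebra.coe_smul,
          Algebra.smul_def, map_mul, show algPt t (algebraMap k Γ(G.left, ⊤) (lam a)) = lam a from algPt_appTop_hom _ _,
          smul_eq_mul, mul_comm]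
      | add p q hp hq => simp only [map_add, Subalgebra.coe_add, hp, hq]
    rw [key, hy, map_zero]
  -- evaluation at the identity
  have hev_inv : ∀ x ∈ τ.fixedUnder (𝟙 G), ev 1 x ∈ ρ.fixedSubalgebra hρ i := by
    intro x hx
    refine S11188.mem_fixedUnder_of_pts i ρ _ fun h => ?_
    have hTx : T (h ≫ i) x = x := (TensorProduct.lid k _).symm.injective <| by
      have h1 := hx k (h ≫ i)
      rw [Category.comp_id, hTval] at h1
      exact h1
    have e : ev (h ≫ i) = ev 1 := by
      have e' : (φ (h ≫ i)).comp R.val = (φ 1).comp R.val := AlgHom.ext fun r => by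
        rw [AlgHom.comp_apply, AlgHom.comp_apply, hφ, hφ]
        have := S11234.algPt_mul_of_invariant i _ ((hR _).1 r.2) (1 : VecGrp.pt k k ⟶ G) h
        rwa [_root_.one_mul] at this
      simp only [ev, e']
    have h1 := hint (h ≫ i) (h ≫ i) x
    rw [hTx, inv_mul_cancel, e] at h1
    rw [hρval, ← h1]
  have hsurj : ∀ a ∈ ρ.fixedSubalgebra hρ i, ∃ x ∈ τ.fixedUnder (𝟙 G), ev 1 x = a := by
    intro a ha
    obtain ⟨N, haN, hN, hst⟩ := Groth.Agent.CommAlg4.GModStab.exists_stable_of_noetherian ρ
      (Submodule.span k {a}) (Submodule.fg_span (Set.finite_singleton a))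
    haveI : Module.Finite k N := Module.Finite.iff_fg.2 hN
    let b := Module.finBasis k N
    obtain ⟨P, hP⟩ := LinearMap.exists_leftInverse_of_injective N.subtype (Submodule.ker_subtype N)
    obtain ⟨F, hF⟩ := exists_coeff G A ρ a
    let f : Fin (Module.finrank k N) → Γ(G.left, ⊤) := fun j => F (b.coord j ∘ₗ P)
    have hfpt : ∀ t j, algPt t (f j) = b.coord j (P (Rρ t a)) := fun t j => by
      rw [hF k t, hρval]
      simp
    have hfR : ∀ j, f j ∈ R := fun j => (hR _).2 (invariant_of_semi i _ (semi_of_pts fun t h => by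
      rw [map_one, _root_.mul_one, hfpt, hfpt, hRρmul]
      have h1 := ha k h
      rw [hρval] at h1
      rw [show Rρ (h ≫ i) a = a from (TensorProduct.lid k A).symm.injective h1]))
    let x : A ⊗[k] R := ∑ j, (b j : A) ⊗ₜ[k] (⟨f j, hfR j⟩ : R)
    have hx : ∀ t, ev t x = Rρ t a := fun t => by
      have hm : Rρ t a ∈ N := by
        obtain ⟨w, hw⟩ := hst k t a (haN (Submodule.subset_span rfl))
        rw [hρval] at hw
        have h1 := congrArg (TensorProduct.lid k A) hw
        rw [TensorProduct.lid_tmul, one_smul] at h1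
        rw [← h1]
        clear hw h1
        induction w using TensorProduct.induction_on with
        | zero => simp
        | tmul p y => simpa using N.smul_mem p y.2
        | add p q hp hq => rw [map_add, map_add]; exact N.add_mem hp hq
      have hP' : P (Rρ t a) = ⟨Rρ t a, hm⟩ := LinearMap.congr_fun hP ⟨Rρ t a, hm⟩
      rw [map_sum]
      have h1 := congrArg Subtype.val (b.sum_repr ⟨Rρ t a, hm⟩)
      rw [Submodule.coe_sum] at h1
      refine Eq.trans (Finset.sum_congr rfl fun j _ => ?_) h1
      rw [hev, hfpt, hP', Submodule.coe_smul]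
      rfl
    refine ⟨x, S11188.mem_fixedUnder_of_pts (𝟙 G) τ x fun g => ?_, ?_⟩
    · rw [Category.comp_id, hTval]
      congr 1
      refine sub_eq_zero.1 (hinj _ fun t => ?_)
      rw [map_sub, hint, hx, hx, ← hRρmul, mul_inv_cancel_left, sub_self]
    · rw [hx]
      exact (TensorProduct.lid k A).symm.injective ((hρval 1 a).symm.trans (by rw [map_one]; rfl))
  have hA : ρ.fixedSubalgebra hρ i = Algebra.adjoin k ((s.image (ev 1) : Finset A) : Set A) := by
    refine le_antisymm (fun a ha => ?_) (Algebra.adjoin_le fun a ha => ?_)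
    · obtain ⟨x, hx, rfl⟩ := hsurj a ha
      rw [Finset.coe_image, ← AlgHom.map_adjoin]
      exact Subalgebra.mem_map.2 ⟨x, hsadj hx, rfl⟩
    · obtain ⟨x, hx, rfl⟩ := Finset.mem_image.1 ha
      exact hev_inv x (hs hx)
  refine (Subalgebra.fg_iff_finiteType _).1 ?_
  rw [hA]
  exact Subalgebra.fg_adjoin_finset _

end Groth.Agent.S11207

namespace Groth.Agent.S11207

/-- (a) ⇔ (b): let k be an algebraically closed field, G a linear algebraic group over k whose identity
component is reductive, and H a closed subgroup of G. Assume that invariants of reductive groups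
over k on finitely generated algebras are finitely generated (a standard result, carried as a
hypothesis). Then k[G]^H is finitely generated over the constants if and only if, for every finitely
generated commutative k-algebra A with a rational action of G by algebra automorphisms, the algebra
of H-invariants A^H is finitely generated over k. -/
theorem result (k : Type u) [Field k] [IsAlgClosed k]
    (G : Over (Spec (CommRingCat.of k))) [GrpObj G] [IsAffine G.left] [Smooth G.hom]
    (H : Over (Spec (CommRingCat.of k))) [GrpObj H] [Smooth H.hom] (i : H ⟶ G) [IsMonHom i]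
    [IsClosedImmersion i.left]
    (hG : VecGrp.IsReductiveGrp k G) (thmA : VecGrp.ReductiveInvariantsFG k) :
    AGF.SubringFGOver k G (AGF.rTransInv i) ↔
      ∀ (A : Type u) [CommRing A] [Algebra k A] [Algebra.FiniteType k A] (ρ : VecGrp.GMod G A) (hρ : ρ.IsMult),
        Algebra.FiniteType k ↥(ρ.fixedSubalgebra hρ i) := by
  classical
  haveI : IsAffine H.left := isAffine_of_isAffineHom i.left
  letI := gAlg G
  obtain ⟨R, hR⟩ := exists_subalgebra i
  constructor
  · rintro ⟨s, hs, hle⟩ A _ _ _ ρ hρ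
    refine finiteType_fixed_of_fg i hG thmA R hR ((Subalgebra.fg_iff_finiteType _).1 ⟨s, le_antisymm
      (Algebra.adjoin_le fun x hx => (hR x).2 (hs hx)) fun x hx => ?_⟩) A ρ hρ
    refine (Subring.closure_le (t := (Algebra.adjoin k (s : Set Γ(G.left, ⊤))).toSubring)).2 ?_ (hle ((hR x).1 hx))
    rintro z (⟨c, rfl⟩ | hz)
    · exact Subalgebra.algebraMap_mem _ c
    · exact Algebra.subset_adjoin hz
  · intro h
    haveI : AlgebraicGeometry.IsReduced G.left := WeilLib.isReduced_of_smooth G.hom
    haveI : Algebra.FiniteType k Γ(G.left, ⊤) := by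
      have h1 : G.hom.appTop.hom.FiniteType := HasRingHomProperty.appTop (P := @LocallyOfFiniteType) G.hom inferInstance
      exact h1.comp (RingHom.FiniteType.of_surjective _
        (ConcreteCategory.bijective_of_isIso (Scheme.ΓSpecIso (CommRingCat.of k)).inv).surjective)
    obtain ⟨uG, σ, hσ, hu, hσf⟩ := Groth.Agent.S11212.exists_regular_mult (𝟙 G)
    have hfix : ∀ f, f ∈ σ.fixedSubalgebra hσ i ↔ AGF.IsRTransInv i f := by
      intro f
      constructor
      · intro hf
        refine invariant_of_semi i _ fun B _ _ t x => ?_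
        obtain ⟨φ, hφ⟩ := exists_algHom t
        let ψ : B ⊗[k] Γ(G.left, ⊤) →ₐ[k] B := Algebra.TensorProduct.productMap (AlgHom.id k B) φ
        have h2 := congrArg ψ (hf B x)
        rw [hσf, ← algPt_ptMap ψ, MonObj.comp_mul] at h2
        rw [map_one, _root_.mul_one]
        refine Eq.trans (congrArg (fun w => algPt w f) (congrArg₂ (fun a b => a * b) ?_ ?_)) (h2.trans ?_)
        · exact (pt_eq _ _ fun y => by rw [algPt_ptMap, algPt_ptMap, hu, ← hφ]; simp [ψ]).symm
        · exact (pt_eq _ _ fun y => by simp only [algPt_ptMap, Category.comp_id]; simp [ψ]).symm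
        · simp [ψ, hφ]
      · intro hf B _ _ x
        rw [hσf, Category.comp_id, ← Category.assoc, S11234.algPt_mul_of_invariant i f hf, algPt_ptMap, hu]
        rfl
    obtain ⟨s, hs⟩ := (Subalgebra.fg_iff_finiteType _).2 (h Γ(G.left, ⊤) σ hσ)
    refine ⟨s, fun x hx => (hfix x).1 (hs ▸ Algebra.subset_adjoin hx), fun x hx => ?_⟩
    have hx' : x ∈ Algebra.adjoin k (s : Set Γ(G.left, ⊤)) := hs ▸ (hfix x).2 hx
    exact Algebra.mem_adjoin_iff.1 hx'


end Groth.Agent.S11207
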