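import Groth.Statements.S11219
import Groth.Agent.AGF12.Inverse
import Groth.Agent.S11188
import Groth.Agent.AbVarLib.GeomIntegralSmooth
import Mathlib.LinearAlgebra.Matrix.NonsingularInverse
import Mathlib.LinearAlgebra.Dimension.Finite
import Mathlib.Tactic.LinearCombination
-- import your own Groth.Agent.* helpers here

set_option autoImplicit false
set_option backward.isDefEq.respectTransparency false
set_option backward.isDefEq.respectTransparency.types false
open Groth.Agent.CommAlg4.AffPt Groth.Agent Groth.Agent.AGF12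
universe u
open CategoryTheory MonoidalCategory CartesianMonoidalCategory MonObj GrpObj AlgebraicGeometry
open scoped TensorProduct
open AGF

namespace Groth.Agent.S11219

variable {k : Type u} [Field k]

/-- Linearly independent functions have a nonzero evaluation determinant. -/
theorem exists_det_eval {T : Type*} {d : ℕ} (w : Fin d → T → k)
    (hw : ∀ a : Fin d → k, (∀ t, ∑ p, a p * w p t = 0) → a = 0) :
    ∃ t : Fin d → T, (Matrix.of fun j p => w p (t j)).det ≠ 0 := by
  classical
  let v : T → Fin d → k := fun t p => w p t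
  have htop : Submodule.span k (Set.range v) = ⊤ := by
    by_contra hne
    obtain ⟨f, hf, hle⟩ := Submodule.exists_dual_map_eq_bot_of_lt_top (lt_top_iff_ne_top.2 hne) inferInstance
    refine hf (LinearMap.ext fun x => ?_)
    have hb := hw (fun p => f (Pi.single p 1)) fun t => by
      have h1 : f (v t) = 0 := by
        have : f (v t) ∈ (Submodule.span k (Set.range v)).map f := Submodule.mem_map_of_mem (Submodule.subset_span ⟨t, rfl⟩)
        rwa [hle, Submodule.mem_bot] at this
      rw [← h1, pi_eq_sum_univ (v t), map_sum]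
      refine Finset.sum_congr rfl fun p _ => ?_
      rw [map_smul, smul_eq_mul, mul_comm]
      congr 2
      funext q
      simp [Pi.single_apply, eq_comm]
    rw [pi_eq_sum_univ x, map_sum, LinearMap.zero_apply]
    refine Finset.sum_eq_zero fun p _ => ?_
    rw [map_smul, show (fun j => if p = j then (1 : k) else 0) = Pi.single p 1 from funext fun q => by simp [Pi.single_apply, eq_comm],
      congrFun hb p, Pi.zero_apply, smul_zero]
  obtain ⟨b, hb, hspan, hli⟩ := exists_linearIndependent k (Set.range v)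
  let B := Module.Basis.mk hli (by rw [Subtype.range_coe, hspan, htop])
  haveI : Fintype b := hli.setFinite.fintype
  have hcard : Fintype.card b = d := by
    rw [← Module.finrank_eq_card_basis B, Module.finrank_fintype_fun_eq_card, Fintype.card_fin]
  let e : Fin d ≃ b := (Fintype.equivFinOfCardEq hcard).symm
  choose t ht using fun j => hb (e j).2
  refine ⟨t, ?_⟩
  have hli' : LinearIndependent k fun j => v (t j) := by
    simp only [ht]
    exact hli.comp _ e.injective
  exact (Matrix.isUnit_iff_isUnit_det _).1 (Matrix.linearIndependent_rows_iff_isUnit.1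
    (show LinearIndependent k (Matrix.of fun j p => w p (t j)).row from hli')) |>.ne_zero

/-- A nonzero finite space of functions stable under `H` yields a semi-invariant in the ideal it generates. -/
theorem exists_semi_det [IsAlgClosed k] {G H : Over (Spec (CommRingCat.of k))} [GrpObj G] [GrpObj H] (i : H ⟶ G) [IsMonHom i]
    [IsAffine G.left] [Smooth G.hom] [IsAffine H.left] [Smooth H.hom]
    (W : letI := gAlg G; Submodule k Γ(G.left, ⊤)) [hfin : letI := gAlg G; Module.Finite k W] (I : Ideal Γ(G.left, ⊤))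
    (hWI : ∀ x ∈ W, x ∈ I) (hW0 : ∃ x ∈ W, x ≠ 0)
    (hst : ∀ (h : VecGrp.pt k k ⟶ H), ∀ x ∈ W, ∃ y ∈ W, ∀ t : VecGrp.pt k k ⟶ G, algPt t y = algPt (t * (h ≫ i)) x) :
    ∃ (D : Γ(G.left, ⊤)) (c : Γ(H.left, ⊤)), D ∈ I ∧ D ≠ 0 ∧ Semi i D c := by
  classical
  letI := gAlg G
  haveI : AlgebraicGeometry.IsReduced G.left := WeilLib.isReduced_of_smooth G.hom
  let b := Module.finBasis k W
  obtain ⟨t, ht⟩ := exists_det_eval (fun p (s : VecGrp.pt k k ⟶ G) => algPt s (b p : Γ(G.left, ⊤))) fun a ha => by
    refine funext (Fintype.linearIndependent_iff.1 b.linearIndependent a (Subtype.ext (S11188.eq_zero_of_pts G _ fun s => ?_)))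
    rw [Submodule.coe_sum, map_sum]
    refine (Finset.sum_congr rfl fun p _ => ?_).trans (ha s)
    rw [Submodule.coe_smul, Algebra.smul_def, map_mul]
    congr 1
    exact algPt_appTop_hom _ _
  have hd : 0 < Module.finrank k W := by
    obtain ⟨x, hx, hx0⟩ := hW0
    haveI : Nontrivial W := ⟨⟨⟨x, hx⟩, 0, fun h => hx0 (congrArg Subtype.val h)⟩⟩
    exact Module.finrank_pos
  let j₀ : Fin (Module.finrank k W) := ⟨0, hd⟩
  choose τ hτ using fun j => exists_leftTranslate G (t j * (t j₀)⁻¹)
  have hτk : ∀ j s x, algPt s (τ j x) = algPt (t j * (t j₀)⁻¹ * s) x := fun j s x => by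
    rw [hτ j k s x, show VecGrp.ptMap (Algebra.ofId k k) ≫ (t j * (t j₀)⁻¹) = t j * (t j₀)⁻¹ from pt_eq _ _ fun y => by
      rw [algPt_ptMap]; rfl]
  let X : Matrix (Fin (Module.finrank k W)) (Fin (Module.finrank k W)) Γ(G.left, ⊤) :=
    Matrix.of fun j p => τ j (b p : Γ(G.left, ⊤))
  have hX0 : ∀ p, X j₀ p = (b p : Γ(G.left, ⊤)) := fun p => by
    refine sub_eq_zero.1 (S11188.eq_zero_of_pts G _ fun s => ?_)
    show algPt s (τ j₀ _ - _) = 0
    rw [map_sub, hτk, mul_inv_cancel, _root_.one_mul, sub_self]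
  have hne : algPt (t j₀) X.det ≠ 0 := by
    rw [RingHom.map_det]
    convert ht using 3
    ext j p
    show algPt (t j₀) (τ j _) = _
    rw [hτk, inv_mul_cancel_right]
    rfl
  -- the weight
  have hsemi : ∀ (h : VecGrp.pt k k ⟶ H), ∃ κ : k, ∀ s, algPt (s * (h ≫ i)) X.det = algPt s X.det * κ := by
    intro h
    choose y hy hy' using fun p => hst h _ (b p).2
    let M : Matrix (Fin (Module.finrank k W)) (Fin (Module.finrank k W)) k := Matrix.of fun q p => b.repr ⟨y p, hy p⟩ q
    refine ⟨M.det, fun s => ?_⟩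
    rw [RingHom.map_det, RingHom.map_det, ← Matrix.det_mul]
    congr 1
    ext j p
    show algPt (s * (h ≫ i)) (τ j _) = ∑ q, algPt s (τ j _) * M q p
    rw [hτk, ← _root_.mul_assoc, ← hy']
    have h1 := congrArg Subtype.val (b.sum_repr ⟨y p, hy p⟩).symm
    rw [Submodule.coe_sum] at h1
    rw [show y p = _ from h1, map_sum]
    refine Finset.sum_congr rfl fun q _ => ?_
    rw [Submodule.coe_smul, Algebra.smul_def, map_mul, hτk, mul_comm]
    congr 1
    exact algPt_appTop_hom _ _
  choose κ hκ using hsemi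
  obtain ⟨τ', hτ'⟩ := exists_leftTranslate G (t j₀)
  let f := G.hom.appTop ((Scheme.ΓSpecIso (CommRingCat.of k)).inv (algPt (t j₀) X.det)⁻¹) * τ' X.det
  have hf : ∀ h, algPt (h ≫ i) f = κ h := fun h => by
    rw [map_mul, algPt_appTop_hom, Algebra.algebraMap_self_apply, hτ' k (h ≫ i),
      show VecGrp.ptMap (Algebra.ofId k k) ≫ t j₀ = t j₀ from pt_eq _ _ fun y => by rw [algPt_ptMap]; rfl, hκ,
      inv_mul_cancel_left₀ hne]
  refine ⟨X.det, i.left.appTop f, ?_, fun h0 => hne (by rw [h0, map_zero]), semi_of_pts fun s h => ?_⟩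
  · rw [Matrix.det_apply]
    refine I.sum_mem fun σ _ => ?_
    refine I.smul_of_tower_mem _ ?_
    obtain ⟨p, hp⟩ : ∃ p, σ p = j₀ := σ.surjective j₀
    rw [← Finset.mul_prod_erase _ _ (Finset.mem_univ p), hp, hX0]
    exact I.mul_mem_right _ (hWI _ (b p).2)
  · rw [← algPt_comp, hf, hκ]

end Groth.Agent.S11219

namespace Groth.Agent.S11219

/-- Let k be an algebraically closed field, G a linear algebraic group over k (an affine smooth group
scheme over k) and H a closed subgroup of G (a smooth closed subgroup scheme, i : H → G), with G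
connected. Then H is observable in G if and only if every right-H-invariant rational function on G
is a quotient of two right-H-invariant global functions: whenever global functions a, b with b ≠ 0
satisfy a(xh)·b(x) = a(x)·b(xh) on G × H, there are right-H-invariant global functions a′, b′ with
b′ ≠ 0 and a·b′ = a′·b. (The published condition concerns the identity component of G and its
intersection with H; for connected G it reads as stated.) -/
theorem result (k : Type u) [Field k] [IsAlgClosed k]
    (G : Over (Spec (CommRingCat.of k))) [GrpObj G] [IsAffine G.left] [Smooth G.hom]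
    (H : Over (Spec (CommRingCat.of k))) [GrpObj H] [Smooth H.hom] (i : H ⟶ G) [IsMonHom i]
    [IsClosedImmersion i.left] [ConnectedSpace G.left] :
    AGF.IsObservableIn k i ↔
      ∀ a b : Γ(G.left, ⊤), b ≠ 0 →
        ((G ◁ i) ≫ μ[G]).left.appTop a * (fst G H).left.appTop b = (fst G H).left.appTop a * ((G ◁ i) ≫ μ[G]).left.appTop b →
        ∃ a' b' : Γ(G.left, ⊤), AGF.IsRTransInv i a' ∧ AGF.IsRTransInv i b' ∧ b' ≠ 0 ∧ a * b' = a' * b := by
  classical
  haveI : IsAffine H.left := isAffine_of_isAffineHom i.left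
  haveI : AlgebraicGeometry.IsReduced G.left := WeilLib.isReduced_of_smooth G.hom
  haveI : AlgebraicGeometry.IsReduced H.left := WeilLib.isReduced_of_smooth H.hom
  haveI : IsIntegral G.left := AbVarLib.isIntegral_of_smooth_connected G.hom
  haveI : IsDomain Γ(G.left, ⊤) := inferInstance
  haveI : IsAffine (G ⊗ H).left := by rw [Over.tensorObj_left]; infer_instance
  letI := gAlg G
  letI := gAlg (G ⊗ H)
  obtain ⟨uG, ρ, hu, hρ⟩ := S11234.exists_regular G
  obtain ⟨uP, hP⟩ := exists_univ_pt (G ⊗ H)
  have hφu : ∀ (B : Type u) [CommRing B] [Algebra k B] (s : VecGrp.pt k B ⟶ G) (φ : Γ(G.left, ⊤) →ₐ[k] B),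
      (∀ x, φ x = algPt s x) → VecGrp.ptMap φ ≫ uG = s := fun B _ _ s φ h =>
    pt_eq _ _ fun x => by rw [algPt_ptMap, hu, h]
  -- right translations
  obtain ⟨R, hR⟩ : ∃ R : (VecGrp.pt k k ⟶ G) → (Γ(G.left, ⊤) →+* Γ(G.left, ⊤)),
      ∀ g t x, algPt t (R g x) = algPt (t * g) x := by
    refine ⟨fun g => algPt (uG * (VecGrp.ptMap (Algebra.ofId k Γ(G.left, ⊤)) ≫ g)), fun g t x => ?_⟩
    obtain ⟨φ, hφ⟩ := exists_algHom t
    rw [← hφ, ← algPt_ptMap φ, MonObj.comp_mul, hφu k t φ hφ]
    refine congrArg (fun z => algPt (t * z) x) (pt_eq _ _ fun y => ?_)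
    rw [algPt_ptMap, algPt_ptMap]
    exact φ.commutes _
  have hP1 : ∀ y, algPt (uP ≫ ((G ◁ i) ≫ μ[G])) y = ((G ◁ i) ≫ μ[G]).left.appTop y := fun y => by rw [algPt_comp, hP]
  have hP2 : ∀ y, algPt (uP ≫ fst G H) y = (fst G H).left.appTop y := fun y => by rw [algPt_comp, hP]
  have hP3 : uP ≫ ((G ◁ i) ≫ μ[G]) = (uP ≫ fst G H) * ((uP ≫ snd G H) ≫ i) := by
    rw [Hom.mul_def, ← Category.assoc]
    congr 1
    apply CartesianMonoidalCategory.hom_ext <;> simp [Category.assoc]
  constructor
  · intro hobs a b hb hab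
    let I : Ideal Γ(G.left, ⊤) :=
      { carrier := {d | ∃ e, d * a = e * b}
        zero_mem' := ⟨0, by simp⟩
        add_mem' := fun {x y} ⟨e, he⟩ ⟨e', he'⟩ => ⟨e + e', by rw [add_mul, add_mul, he, he']⟩
        smul_mem' := fun c x ⟨e, he⟩ => ⟨c * e, by rw [smul_eq_mul, _root_.mul_assoc, he, _root_.mul_assoc]⟩ }
    have hRab : ∀ h : VecGrp.pt k k ⟶ H, R (h ≫ i) a * b = a * R (h ≫ i) b := fun h => by
      refine sub_eq_zero.1 (S11188.eq_zero_of_pts G _ fun t => ?_)
      obtain ⟨φ, hφ⟩ := exists_algHom (lift t h)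
      have hp : VecGrp.ptMap φ ≫ uP = lift t h := pt_eq _ _ fun x => by rw [algPt_ptMap, hP, hφ]
      have h1 := congrArg φ hab
      rw [← hP1, ← hP1, ← hP2, ← hP2, hP3] at h1
      simp only [map_mul, ← algPt_ptMap φ, MonObj.comp_mul] at h1
      simp only [← Category.assoc, hp, lift_fst, lift_snd] at h1
      rw [map_sub, map_mul, map_mul, hR, hR, h1, sub_self]
    obtain ⟨N, hbN, hN, hst⟩ := Groth.Agent.CommAlg4.GModStab.exists_stable_of_noetherian ρ
      (Submodule.span k {b}) (Submodule.fg_span (Set.finite_singleton b))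
    haveI : Module.Finite k N := Module.Finite.iff_fg.2 hN
    let W : Submodule k Γ(G.left, ⊤) := N ⊓ I.restrictScalars k
    haveI : Module.Finite k W :=
      Module.Finite.of_injective (Submodule.inclusion (inf_le_left : W ≤ N)) (Submodule.inclusion_injective _)
    have hRne : ∀ g z, z ≠ 0 → R g z ≠ 0 := fun g z hz h0 => hz (S11188.eq_zero_of_pts G z fun t => by
      have := hR g (t * g⁻¹) z
      rwa [h0, map_zero, inv_mul_cancel_right, eq_comm] at this)
    obtain ⟨D, c, hDI, hD0, hD⟩ := exists_semi_det i W I (fun x hx => hx.2)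
      ⟨b, ⟨hbN (Submodule.subset_span rfl), ⟨a, mul_comm b a⟩⟩, hb⟩ fun h x hx => by
        refine ⟨R (h ≫ i) x, ⟨?_, ?_⟩, fun t => hR _ t x⟩
        · obtain ⟨w, hw⟩ := hst k (h ≫ i) x hx.1
          have key : R (h ≫ i) x = TensorProduct.lid k Γ(G.left, ⊤) (N.subtype.baseChange k w) := by
            rw [hw, hρ]
            refine sub_eq_zero.1 (S11188.eq_zero_of_pts G _ fun t => ?_)
            obtain ⟨φ, hφ⟩ := exists_algHom t
            let ψ : k ⊗[k] Γ(G.left, ⊤) →ₐ[k] k := Algebra.TensorProduct.productMap (AlgHom.id k k) φ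
            have k2 : ∀ z : k ⊗[k] Γ(G.left, ⊤), ψ z = algPt t (TensorProduct.lid k Γ(G.left, ⊤) z) := fun z => by
              induction z using TensorProduct.induction_on with
              | zero => simp
              | tmul a' y => rw [← hφ]; simp [ψ]
              | add p q hp hq => rw [map_add, map_add, map_add, hp, hq]
            rw [map_sub, hR, ← k2, ← algPt_ptMap ψ, MonObj.comp_mul, sub_eq_zero]
            refine congrArg (fun z => algPt z x) (congrArg₂ (fun p q => p * q) ?_ ?_)
            · exact (pt_eq _ _ fun y => by rw [algPt_ptMap, algPt_ptMap, hu, ← hφ]; simp [ψ]).symm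
            · exact (pt_eq _ _ fun y => by rw [algPt_ptMap, algPt_ptMap]; simp [ψ]).symm
          rw [key]
          clear key hw
          induction w using TensorProduct.induction_on with
          | zero => simp
          | tmul p y => simpa using N.smul_mem p y.2
          | add p q hp hq => rw [map_add, map_add]; exact N.add_mem hp hq
        · obtain ⟨e, he⟩ := hx.2
          refine ⟨R (h ≫ i) e, mul_right_cancel₀ (hRne (h ≫ i) b hb) ?_⟩
          have h2 := congrArg (R (h ≫ i)) he
          rw [map_mul, map_mul] at h2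
          linear_combination b * h2 - R (h ≫ i) x * hRab h
    obtain ⟨e, he⟩ := hDI
    obtain ⟨D₁, hD₁, hD₁1⟩ := hD.exists_normalised hD0
    obtain ⟨f', c', hc', hf', hf'1⟩ := exists_inverse hobs hD₁ hD₁1
    have hb' : AGF.IsRTransInv i (D * f') := invariant_of_semi i _ (by
      have h := hD.mul hf'
      rwa [show c * c' = 1 by rw [mul_comm, hc']] at h)
    have hne : D * f' ≠ 0 := mul_ne_zero hD0 fun h => zero_ne_one (α := k) (by rw [← hf'1, h, map_zero])
    refine ⟨e * f', D * f', ?_, hb', hne, by linear_combination f' * he⟩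
    refine invariant_of_semi i _ (semi_of_pts fun t h => ?_)
    have h1 : R (h ≫ i) (e * f') = e * f' := by
      refine mul_right_cancel₀ (hRne (h ≫ i) b hb) ?_
      have hinv : R (h ≫ i) (D * f') = D * f' := sub_eq_zero.1 (S11188.eq_zero_of_pts G _ fun s => by
        rw [map_sub, hR, S11234.algPt_mul_of_invariant i _ hb' s h, sub_self])
      have h2 := congrArg (R (h ≫ i)) he
      simp only [map_mul] at h2 hinv ⊢
      refine mul_left_cancel₀ hb ?_
      linear_combination (-(b * R (h ≫ i) f')) * h2 + (b * R (h ≫ i) a) * hinv + (D * f') * hRab h + (f' * R (h ≫ i) b) * he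
    rw [map_one, _root_.mul_one, ← hR, h1]
  · intro hrat
    haveI : IsLocallyNoetherian G.left := LocallyOfFiniteType.isLocallyNoetherian G.hom
    haveI : IsNoetherianRing Γ(G.left, ⊤) := IsLocallyNoetherian.component_noetherian ⟨⊤, isAffineOpen_top _⟩
    obtain ⟨S, hS⟩ := IsNoetherian.noetherian (RingHom.ker i.left.appTop.hom)
    obtain ⟨F, -, hF⟩ := exists_frame (i := i) S
    intro g hg
    have key : ∀ f f' : Γ(G.left, ⊤), f ≠ 0 → Semi i f F.wt → Semi i f' F.wt →
        ∀ t, algPt (t * g) f' * algPt t f = algPt t f' * algPt (t * g) f := by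
      intro f f' hf hs hs' t
      obtain ⟨a', b', ha', hb', hb0, heq⟩ := hrat f' f hf (by
        rw [← hP1, ← hP1, ← hP2, ← hP2, hP3, hs' _ _ _, hs _ _ _]
        ring)
      have hfix : ∀ y, AGF.IsRTransInv i y → R g y = y := fun y hy => sub_eq_zero.1 (S11188.eq_zero_of_pts G _ fun s => by
        have h1 := S11199.universal_of_invariant g _ (hg _ hy) s
        rw [show VecGrp.ptMap (Algebra.ofId k k) ≫ g = g from pt_eq _ _ fun x => by rw [algPt_ptMap]; rfl] at h1
        rw [map_sub, hR, h1, sub_self])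
      have h2 := congrArg (R g) heq
      rw [map_mul, map_mul, hfix _ ha', hfix _ hb'] at h2
      have h3 : R g f' * f = f' * R g f := mul_right_cancel₀ hb0 (by linear_combination f * h2 - R g f * heq)
      have h4 := congrArg (algPt t) h3
      rwa [map_mul, map_mul, hR, hR] at h4
    let f := F.minor Sum.inl
    have hf0 : f ≠ 0 := fun h => zero_ne_one (α := k) (by rw [← F.minor_one_inl (B := k), show F.minor Sum.inl = 0 from h, map_zero])
    have h0 : algPt g f ≠ 0 := by
      intro h
      obtain ⟨τ, hτ⟩ := exists_leftTranslate G g⁻¹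
      have hτk : ∀ s, algPt s (τ f) = algPt (g⁻¹ * s) f := fun s => by
        rw [hτ k s f, show VecGrp.ptMap (Algebra.ofId k k) ≫ g⁻¹ = g⁻¹ from pt_eq _ _ fun y => by rw [algPt_ptMap]; rfl]
      have h1 := key f (τ f) hf0 (F.semi_minor _) ((F.semi_minor _).translate hτ) 1
      rw [_root_.one_mul, hτk, inv_mul_cancel, h, mul_zero, F.minor_one_inl, _root_.mul_one] at h1
      exact one_ne_zero h1
    have hc : ∀ r l, algPt g (F.M (Sum.inr r) (Sum.inl l)) = 0 := F.corner_of_minors g h0 fun l₀ r => by
      have h1 := key f (F.minor (F.rowsel l₀ r)) hf0 (F.semi_minor _) (F.semi_minor _) 1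
      rw [_root_.one_mul, F.minor_one_inl, F.minor_one_rowsel, zero_mul, _root_.mul_one] at h1
      exact h1
    refine exists_pt_of_ker g fun x hx => ?_
    have hβ : ∀ l, algPt g (F.β (Sum.inl l)) = 0 := fun l => by
      have h1 := F.expand k 1 g (Sum.inl l)
      rw [_root_.one_mul] at h1
      rw [h1, Fintype.sum_sum_type]
      simp [hc, algPt_one_comp (i := i), F.beta_inl]
    have hmem : x ∈ Ideal.span (S : Set Γ(G.left, ⊤)) := by
      rw [show Ideal.span (S : Set Γ(G.left, ⊤)) = RingHom.ker i.left.appTop.hom from hS]; exact hx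
    refine RingHom.mem_ker.1 ((Ideal.span_le (I := RingHom.ker (algPt g))).2 (fun z hz => ?_) hmem)
    have hzk : i.left.appTop z = 0 := by
      have : z ∈ RingHom.ker i.left.appTop.hom := hS ▸ Submodule.subset_span hz
      exact this
    obtain ⟨a, rfl⟩ := hF z hz hzk
    show algPt g _ = 0
    simp [hβ]

end Groth.Agent.S11219
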