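import Groth.Statements.S11203
import Groth.Agent.AGF12.Cosets
import Groth.Agent.S11207
import Groth.Agent.S11219
import Mathlib.RingTheory.Adjoin.Tower
import Mathlib.Algebra.Polynomial.Lifts
import Mathlib.LinearAlgebra.LinearIndependent.Defs
import Mathlib.RingTheory.IntegralClosure.IsIntegral.Defs
import Mathlib.Tactic.Group
import Mathlib.Tactic.TFAE
-- import your own Groth.Agent.* helpers here

set_option autoImplicit false
set_option backward.isDefEq.respectTransparency false
set_option backward.isDefEq.respectTransparency.types false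
open Groth.Agent.CommAlg4.AffPt Groth.Agent Groth.Agent.AGF12
universe u
open CategoryTheory MonoidalCategory CartesianMonoidalCategory MonObj GrpObj AlgebraicGeometry
open scoped TensorProduct
open AGF

namespace Groth.Agent.S11203

variable {k : Type u} [Field k]

theorem fg_iff {G H : Over (Spec (CommRingCat.of k))} [GrpObj G] [GrpObj H] (i : H ⟶ G)
    (R : letI := gAlg G; Subalgebra k Γ(G.left, ⊤)) (hR : ∀ f, f ∈ R ↔ AGF.IsRTransInv i f) :
    AGF.SubringFGOver k G (AGF.rTransInv i) ↔ (letI := gAlg G; Algebra.FiniteType k R) := by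
  letI := gAlg G
  constructor
  · rintro ⟨s, hs, hle⟩
    refine (Subalgebra.fg_iff_finiteType _).1 ⟨s, le_antisymm (Algebra.adjoin_le fun x hx => (hR x).2 (hs hx)) fun x hx => ?_⟩
    refine (Subring.closure_le (t := (Algebra.adjoin k (s : Set Γ(G.left, ⊤))).toSubring)).2 ?_ (hle ((hR x).1 hx))
    rintro z (⟨c, rfl⟩ | hz)
    · exact Subalgebra.algebraMap_mem _ c
    · exact Algebra.subset_adjoin hz
  · intro h
    obtain ⟨s, hs⟩ := (Subalgebra.fg_iff_finiteType _).2 h
    refine ⟨s, fun x hx => (hR x).1 (hs ▸ Algebra.subset_adjoin hx), fun x hx => ?_⟩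
    have hx' : x ∈ Algebra.adjoin k (s : Set Γ(G.left, ⊤)) := hs ▸ (hR x).2 hx
    exact Algebra.mem_adjoin_iff.1 hx'

variable [IsAlgClosed k] {G H H₀ : Over (Spec (CommRingCat.of k))} [GrpObj G] [GrpObj H] [GrpObj H₀]
  [IsAffine G.left] [Smooth G.hom] [Smooth H.hom] [Smooth H₀.hom]

/-- Passing between a group and its identity component. -/
theorem finiteType_iff_component [ConnectedSpace H₀.left] (i : H ⟶ G) [IsMonHom i] [IsClosedImmersion i.left] (j : H₀ ⟶ H) [IsMonHom j]
    [IsOpenImmersion j.left] :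
    AGF.SubringFGOver k G (AGF.rTransInv i) ↔ AGF.SubringFGOver k G (AGF.rTransInv (j ≫ i)) := by
  classical
  haveI : IsClosedImmersion j.left := S11194.isClosedImmersion_of_open j
  haveI : IsAffine H.left := isAffine_of_isAffineHom i.left
  haveI : IsAffine H₀.left := isAffine_of_isAffineHom j.left
  haveI : AlgebraicGeometry.IsReduced G.left := WeilLib.isReduced_of_smooth G.hom
  haveI := finite_cosets j
  haveI : Fintype ((VecGrp.pt k k ⟶ H) ⧸ ptsRange j) := Fintype.ofFinite _
  letI := gAlg G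
  obtain ⟨C, hC⟩ := S11207.exists_subalgebra i
  obtain ⟨Bsub, hB⟩ := S11207.exists_subalgebra (j ≫ i)
  rw [fg_iff i C hC, fg_iff (j ≫ i) Bsub hB]
  obtain ⟨uG, hu⟩ := exists_univ_pt G
  choose R hRs using fun g : VecGrp.pt k k ⟶ G =>
    exists_algHom (uG * (VecGrp.ptMap (Algebra.ofId k Γ(G.left, ⊤)) ≫ g))
  choose τ hτs using fun g : VecGrp.pt k k ⟶ G =>
    exists_algHom ((VecGrp.ptMap (Algebra.ofId k Γ(G.left, ⊤)) ≫ g) * uG)
  have hR : ∀ g t x, algPt t (R g x) = algPt (t * g) x := fun g t x => by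
    obtain ⟨φ, hφ⟩ := exists_algHom t
    rw [← hφ, hRs, ← algPt_ptMap φ, MonObj.comp_mul]
    refine congrArg (fun z => algPt z x) (congrArg₂ (fun a b => a * b) (pt_eq _ _ fun y => ?_) (pt_eq _ _ fun y => ?_))
    · rw [algPt_ptMap, hu, hφ]
    · rw [algPt_ptMap, algPt_ptMap]; exact φ.commutes _
  have hτ : ∀ g t x, algPt t (τ g x) = algPt (g * t) x := fun g t x => by
    obtain ⟨φ, hφ⟩ := exists_algHom t
    rw [← hφ, hτs, ← algPt_ptMap φ, MonObj.comp_mul]
    refine congrArg (fun z => algPt z x) (congrArg₂ (fun a b => a * b) (pt_eq _ _ fun y => ?_) (pt_eq _ _ fun y => ?_))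
    · rw [algPt_ptMap, algPt_ptMap]; exact φ.commutes _
    · rw [algPt_ptMap, hu, hφ]
  have hpt : ∀ x y : Γ(G.left, ⊤), (∀ t, algPt t x = algPt t y) → x = y := fun x y h =>
    sub_eq_zero.1 (S11188.eq_zero_of_pts G _ fun t => by rw [map_sub, h t, sub_self])
  have hBpt : ∀ x, x ∈ Bsub ↔ ∀ t (y : VecGrp.pt k k ⟶ H₀), algPt (t * ((y ≫ j) ≫ i)) x = algPt t x := fun x =>
    ⟨fun hx t y => by rw [Category.assoc]; exact S11234.algPt_mul_of_invariant (j ≫ i) x ((hB x).1 hx) t y,
      fun h => (hB x).2 (invariant_of_semi _ x (semi_of_pts fun t y => by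
        rw [map_one, _root_.mul_one, ← Category.assoc, h]))⟩
  have hCpt : ∀ x, x ∈ C ↔ ∀ t (y : VecGrp.pt k k ⟶ H), algPt (t * (y ≫ i)) x = algPt t x := fun x =>
    ⟨fun hx t y => S11234.algPt_mul_of_invariant i x ((hC x).1 hx) t y,
      fun h => (hC x).2 (invariant_of_semi _ x (semi_of_pts fun t y => by rw [map_one, _root_.mul_one, h]))⟩
  have hle : C ≤ Bsub := fun x hx => (hBpt x).2 fun t y => (hCpt x).1 hx t _
  have hRB : ∀ (h : VecGrp.pt k k ⟶ H) x, x ∈ Bsub → R (h ≫ i) x ∈ Bsub := fun h x hx => (hBpt _).2 fun t y => by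
    obtain ⟨y', hy'⟩ := conj_mem_ptsRange j h⁻¹ (⟨y, rfl⟩ : y ≫ j ∈ ptsRange j)
    have hy2 : y' ≫ j = h⁻¹ * (y ≫ j) * h := by rw [← _root_.inv_inv h]; rw [_root_.inv_inv (h)]; simpa using hy'
    rw [hR, hR, _root_.mul_assoc, ← MonObj.mul_comp, show (y ≫ j) * h = h * (y' ≫ j) by rw [hy2]; group, MonObj.mul_comp,
      ← _root_.mul_assoc, (hBpt x).1 hx]
  have hτB : ∀ s x, x ∈ Bsub → τ s x ∈ Bsub := fun s x hx => (hBpt _).2 fun t y => by
    rw [hτ, hτ, ← _root_.mul_assoc, (hBpt x).1 hx]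
  have hcoset : ∀ (h h' : VecGrp.pt k k ⟶ H), (QuotientGroup.mk h : (VecGrp.pt k k ⟶ H) ⧸ ptsRange j) = QuotientGroup.mk h' →
      ∀ x ∈ Bsub, R (h ≫ i) x = R (h' ≫ i) x := fun h h' heq x hx => hpt _ _ fun t => by
    obtain ⟨y, hy⟩ := QuotientGroup.eq.1 heq
    have hy' : h' = h * (y ≫ j) := by rw [show y ≫ j = h⁻¹ * h' from hy, mul_inv_cancel_left]
    rw [hR, hR, hy', MonObj.mul_comp, ← _root_.mul_assoc, (hBpt x).1 hx]
  have hRmul : ∀ (h h' : VecGrp.pt k k ⟶ H) x, R (h ≫ i) (R (h' ≫ i) x) = R ((h * h') ≫ i) x := fun h h' x =>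
    hpt _ _ fun t => by rw [hR, hR, hR, MonObj.mul_comp, _root_.mul_assoc]
  letI : Algebra C Bsub := (Subalgebra.inclusion hle).toRingHom.toAlgebra
  haveI : IsScalarTower k C Bsub := IsScalarTower.of_algebraMap_eq' rfl
  haveI : Algebra.FiniteType k Γ(G.left, ⊤) := by
    have h1 : G.hom.appTop.hom.FiniteType := HasRingHomProperty.appTop (P := @LocallyOfFiniteType) G.hom inferInstance
    exact h1.comp (RingHom.FiniteType.of_surjective _
      (ConcreteCategory.bijective_of_isIso (Scheme.ΓSpecIso (CommRingCat.of k)).inv).surjective)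
  constructor
  · intro hCft
    haveI := hCft
    haveI : IsNoetherianRing C := Algebra.FiniteType.isNoetherianRing k C
    -- the distinct functionals given by the cosets
    let ev : ((VecGrp.pt k k ⟶ H) ⧸ ptsRange j) → Bsub → k := fun q b => algPt (Quotient.out q ≫ i) (b : Γ(G.left, ⊤))
    let Φ := Finset.univ.image ev
    choose g hg using fun φ : Φ => Finset.mem_image.1 φ.2
    let gam : Φ → (VecGrp.pt k k ⟶ H) := fun φ => Quotient.out (g φ)
    have hgam : ∀ (φ : Φ) (b : Bsub), φ.1 b = algPt (gam φ ≫ i) (b : Γ(G.left, ⊤)) := fun φ b => by rw [← (hg φ).2]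
    have hΦ : ∀ h : VecGrp.pt k k ⟶ H, ∃ φ : Φ, ∀ x ∈ Bsub, R (gam φ ≫ i) x = R (h ≫ i) x := fun h => by
      let φ : Φ := ⟨ev (QuotientGroup.mk h), Finset.mem_image_of_mem _ (Finset.mem_univ _)⟩
      refine ⟨φ, fun x hx => ?_⟩
      rw [← hcoset (Quotient.out (QuotientGroup.mk h : (VecGrp.pt k k ⟶ H) ⧸ ptsRange j)) h (QuotientGroup.out_eq' _) x hx]
      refine hpt _ _ fun t => ?_
      have h1 := (hgam φ ⟨τ t x, hτB t x hx⟩).symm
      change algPt (gam φ ≫ i) (τ t x) = algPt (_ ≫ i) (τ t x) at h1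
      rw [hτ, hτ] at h1
      rw [hR, hR, h1]
    have hinjΦ : ∀ φ ψ : Φ, (∀ x ∈ Bsub, R (gam φ ≫ i) x = R (gam ψ ≫ i) x) → φ = ψ := fun φ ψ h => Subtype.ext <| funext fun b => by
      have h1 := congrArg (algPt (1 : VecGrp.pt k k ⟶ G)) (h b b.2)
      rw [hR, hR, _root_.one_mul, _root_.one_mul] at h1
      rw [hgam, hgam, h1]
    obtain ⟨e₀, he₀⟩ := hΦ 1
    let T : Bsub → Γ(G.left, ⊤) := fun b => ∑ φ : Φ, R (gam φ ≫ i) (b : Γ(G.left, ⊤))
    have hTC : ∀ b, T b ∈ C := fun b => (hCpt _).2 fun t h => by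
      choose π hπ using fun φ : Φ => hΦ (h * gam φ)
      have hπi : Function.Injective π := fun φ ψ hφψ => hinjΦ φ ψ fun x hx => by
        have h1 := hπ φ x hx
        rw [hφψ, hπ ψ x hx, ← hRmul, ← hRmul] at h1
        have h2 := congrArg (R (h⁻¹ ≫ i)) h1
        rw [hRmul, hRmul, hRmul, hRmul] at h2
        simpa using h2.symm
      rw [← hR (h ≫ i) t]
      refine congrArg (algPt t) ?_
      show R (h ≫ i) (∑ φ : Φ, _) = ∑ φ : Φ, _
      rw [map_sum]
      refine Fintype.sum_bijective π ⟨hπi, Finite.injective_iff_surjective.1 hπi⟩ _ _ fun φ => ?_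
      rw [hRmul, hπ φ _ b.2]
    -- dual elements
    let eΦ : Fin (Fintype.card Φ) ≃ Φ := (Fintype.equivFin Φ).symm
    obtain ⟨b₀, hb₀⟩ := S11219.exists_det_eval (fun p (b : Bsub) => (eΦ p).1 b) fun a ha => by
      let f : Fin (Fintype.card Φ) → (Bsub →* k) := fun p =>
        ((algPt (gam (eΦ p) ≫ i)).toMonoidHom.comp Bsub.val.toRingHom.toMonoidHom)
      have hf : Function.Injective f := fun p q hpq => eΦ.injective (Subtype.ext (funext fun b => by
        rw [hgam, hgam]; exact DFunLike.congr_fun hpq b))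
      refine funext fun p => Fintype.linearIndependent_iff.1 ((linearIndependent_monoidHom Bsub k).comp f hf) a ?_ p
      funext b
      rw [Finset.sum_apply, Pi.zero_apply, ← ha b]
      refine Finset.sum_congr rfl fun p _ => ?_
      show a p * f p b = a p * (eΦ p).1 b
      rw [hgam]
      rfl
    let D : Γ(G.left, ⊤) := (Matrix.of fun c p => R (gam (eΦ p) ≫ i) (b₀ c : Γ(G.left, ⊤))).det
    have hD : ∀ s, algPt s D = (Matrix.of fun c p => algPt (s * (gam (eΦ p) ≫ i)) (b₀ c : Γ(G.left, ⊤))).det := fun s => by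
      rw [RingHom.map_det]
      congr 1
      ext c p
      exact hR _ _ _
    have hD1 : algPt (1 : VecGrp.pt k k ⟶ G) D ≠ 0 := by
      rw [hD]
      convert hb₀ using 3
      funext c p
      rw [_root_.one_mul, hgam]
    have htop : Ideal.span (Set.range fun s => τ s D) = ⊤ := by
      by_contra hne
      obtain ⟨m, hm, hle'⟩ := Ideal.exists_le_maximal _ hne
      obtain ⟨χ, hχ⟩ := exists_algHom_of_isMaximal (k := k) m
      let t := VecGrp.ptMap χ ≫ uG
      have h1 : χ (τ t⁻¹ D) = 0 := (hχ _).2 (hle' (Ideal.subset_span ⟨t⁻¹, rfl⟩))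
      rw [← hu (τ t⁻¹ D), ← algPt_ptMap χ, hτ, inv_mul_cancel] at h1
      exact hD1 h1
    obtain ⟨S, hSsub, hS⟩ := Submodule.mem_span_finite_of_mem_span
      (show (1 : Γ(G.left, ⊤)) ∈ Ideal.span (Set.range fun s => τ s D) from htop ▸ Submodule.mem_top)
    choose gS hgS using fun a => show ∃ t, a ∈ S → τ t D = a from
      if ha : a ∈ S then (hSsub ha).imp fun t ht _ => ht else ⟨1, fun h => absurd h ha⟩
    let L : Bsub →ₗ[C] (S × Fin (Fintype.card Φ) → C) :=
      { toFun := fun b ac => ⟨T (b * ⟨τ (gS ac.1) (b₀ ac.2 : Γ(G.left, ⊤)), hτB _ _ (b₀ ac.2).2⟩), hTC _⟩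
        map_add' := fun b b' => funext fun ac => Subtype.ext (by
          simp only [T, add_mul, Subalgebra.coe_add, map_add, Finset.sum_add_distrib, Pi.add_apply])
        map_smul' := fun c b => funext fun ac => Subtype.ext (by
          simp only [RingHom.id_apply, Pi.smul_apply, Algebra.smul_def, Subalgebra.coe_mul]
          show T _ = (c : Γ(G.left, ⊤)) * T _
          simp only [T, Finset.mul_sum]
          refine Finset.sum_congr rfl fun φ _ => ?_
          simp only [Subalgebra.coe_mul, map_mul, _root_.mul_assoc]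
          congr 1
          exact hpt _ _ fun t => by rw [hR]; exact (hCpt _).1 c.2 t _) }
    have hLinj : Function.Injective L := (injective_iff_map_eq_zero L).2 fun b hb => Subtype.ext <| hpt _ _ fun t => by
      obtain ⟨a, ha, hat⟩ : ∃ a ∈ S, algPt t a ≠ 0 := by
        by_contra hc
        push_neg at hc
        have h2 : algPt t (1 : Γ(G.left, ⊤)) = 0 :=
          RingHom.mem_ker.1 ((Submodule.span_le.2 fun a ha => RingHom.mem_ker.2 (hc a ha) :
            Submodule.span Γ(G.left, ⊤) (S : Set Γ(G.left, ⊤)) ≤ RingHom.ker (algPt t)) hS)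
        rw [map_one] at h2
        exact one_ne_zero h2
      rw [← hgS a ha, hτ, hD] at hat
      let v : Fin (Fintype.card Φ) → k := fun p => algPt (t * (gam (eΦ p) ≫ i)) (b : Γ(G.left, ⊤))
      have hv : v = 0 := Matrix.eq_zero_of_mulVec_eq_zero hat <| funext fun c => by
        have h1 : T (b * ⟨τ (gS a) (b₀ c : Γ(G.left, ⊤)), hτB _ _ (b₀ c).2⟩) = 0 :=
          congrArg Subtype.val (congrFun hb (⟨a, ha⟩, c))
        have h2 := congrArg (algPt t) h1
        simp only [T, map_sum, hR, Subalgebra.coe_mul, map_mul, hτ, map_zero] at h2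
        rw [Pi.zero_apply, ← h2, Matrix.mulVec, dotProduct]
        refine Fintype.sum_equiv eΦ _ _ fun p => ?_
        simp only [v, Matrix.of_apply, _root_.mul_assoc]
        exact mul_comm _ _
      have h3 := congrFun hv (eΦ.symm e₀)
      simp only [v, Equiv.apply_symm_apply, Pi.zero_apply] at h3
      rw [← hR, he₀ _ b.2, hR, MonObj.one_comp, _root_.mul_one] at h3
      rw [h3]
      exact (map_zero _).symm
    haveI : Module.Finite C Bsub := Module.Finite.of_injective L hLinj
    exact Algebra.FiniteType.trans (R := k) (S := C) inferInstance inferInstance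
  · intro hBft
    haveI := hBft
    haveI : Algebra.FiniteType C Bsub := Algebra.FiniteType.of_restrictScalars_finiteType k C Bsub
    haveI : Nontrivial Γ(G.left, ⊤) := (exists_algHom (1 : VecGrp.pt k k ⟶ G)).choose.toRingHom.domain_nontrivial
    have hint : Algebra.IsIntegral C Bsub := ⟨fun b => by
      let z : ((VecGrp.pt k k ⟶ H) ⧸ ptsRange j) → Γ(G.left, ⊤) := fun q => R (Quotient.out q ≫ i) (b : Γ(G.left, ⊤))
      let P : Polynomial Γ(G.left, ⊤) := ∏ q, (Polynomial.X - Polynomial.C (z q))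
      have hPC : ∀ n, P.coeff n ∈ C := fun n => (hCpt _).2 fun t h => by
        rw [← hR]
        refine congrArg (algPt t) ?_
        have hmap : P.map (R (h ≫ i)).toRingHom = P := by
          rw [Polynomial.map_prod]
          refine Fintype.prod_bijective (fun q => h • q) (MulAction.bijective h) _ _ fun q => ?_
          rw [Polynomial.map_sub, Polynomial.map_X, Polynomial.map_C]
          congr 2
          show R (h ≫ i) (R _ _) = R _ _
          rw [hRmul]
          refine hcoset _ _ ?_ _ b.2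
          show _ = (QuotientGroup.mk (Quotient.out (h • q)) : _ ⧸ ptsRange j)
          rw [QuotientGroup.out_eq']
          conv_rhs => rw [← QuotientGroup.out_eq' q]
          rfl
        conv_rhs => rw [← hmap, Polynomial.coeff_map]
        rfl
      obtain ⟨Q, hQ, hQdeg, hQm⟩ := Polynomial.lifts_and_degree_eq_and_monic
        (f := algebraMap C Γ(G.left, ⊤)) (p := P)
        ((Polynomial.lifts_iff_coeff_lifts P).2 fun n => ⟨⟨P.coeff n, hPC n⟩, rfl⟩)
        (Polynomial.monic_prod_of_monic _ _ fun q _ => Polynomial.monic_X_sub_C _)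
      refine ⟨Q, hQm, Subtype.val_injective ?_⟩
      have h1 : Polynomial.eval (b : Γ(G.left, ⊤)) P = 0 := by
        rw [Polynomial.eval_prod]
        refine Finset.prod_eq_zero (Finset.mem_univ (QuotientGroup.mk 1)) ?_
        rw [Polynomial.eval_sub, Polynomial.eval_X, Polynomial.eval_C, sub_eq_zero]
        refine hpt _ _ fun t => ?_
        show _ = algPt t (R _ _)
        rw [hcoset _ 1 (QuotientGroup.out_eq' _) _ b.2, hR, MonObj.one_comp, _root_.mul_one]
      rw [← hQ, Polynomial.eval_map] at h1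
      show Bsub.val (Polynomial.eval₂ (algebraMap C Bsub) b Q) = 0
      exact (Polynomial.hom_eval₂ Q (algebraMap C Bsub) Bsub.val.toRingHom b).trans h1⟩
    haveI := hint
    haveI : Module.Finite C Bsub := Algebra.IsIntegral.finite
    exact ⟨fg_of_fg_of_fg k C Bsub Algebra.FiniteType.out Module.Finite.fg_top
      (Function.Injective.of_comp (f := Bsub.val) (g := algebraMap C Bsub) Subtype.val_injective)⟩

/-- Passing between invariants on a group and on its identity component. -/
theorem finiteType_iff_restrict {G₀ : Over (Spec (CommRingCat.of k))} [GrpObj G₀] (jG : G₀ ⟶ G) [IsMonHom jG]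
    [IsOpenImmersion jG.left] (κ : H₀ ⟶ G₀) [IsMonHom κ] [IsAffine H₀.left] :
    AGF.SubringFGOver k G (AGF.rTransInv (κ ≫ jG)) ↔ AGF.SubringFGOver k G₀ (AGF.rTransInv κ) := by
  classical
  haveI : IsClosedImmersion jG.left := S11194.isClosedImmersion_of_open jG
  haveI : IsAffine G₀.left := isAffine_of_isAffineHom jG.left
  haveI : Smooth G₀.hom := by rw [← Over.w jG]; infer_instance
  haveI : AlgebraicGeometry.IsReduced G.left := WeilLib.isReduced_of_smooth G.hom
  haveI : AlgebraicGeometry.IsReduced G₀.left := WeilLib.isReduced_of_smooth G₀.hom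
  haveI := finite_cosets jG
  haveI : Fintype ((VecGrp.pt k k ⟶ G) ⧸ ptsRange jG) := Fintype.ofFinite _
  obtain ⟨e, he, hje, he1, he0⟩ := exists_idem jG
  have hsurj : Function.Surjective jG.left.appTop := fun y => Scheme.Hom.app_surjective jG.left ⊤ (isAffineOpen_top _) y
  have hκ : ∀ y : VecGrp.pt k k ⟶ H₀, y ≫ κ ≫ jG ∈ ptsRange jG := fun y => ⟨y ≫ κ, (Category.assoc y κ jG :)⟩
  have hc : ∀ c : k, jG.left.appTop (G.hom.appTop ((Scheme.ΓSpecIso (CommRingCat.of k)).inv c)) =
      G₀.hom.appTop ((Scheme.ΓSpecIso (CommRingCat.of k)).inv c) := fun c => by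
    conv_rhs => rw [← Over.w jG, Scheme.Hom.comp_appTop]
    rfl
  have hres : ∀ x, AGF.IsRTransInv (κ ≫ jG) x → AGF.IsRTransInv κ (jG.left.appTop x) := fun x hx =>
    invariant_of_semi κ _ fun B _ _ t h => by
      rw [map_one, _root_.mul_one, ← algPt_comp, ← algPt_comp, MonObj.mul_comp, Category.assoc,
        S11234.algPt_mul_of_invariant (κ ≫ jG) x hx]
  have hext : ∀ y, AGF.IsRTransInv κ y → ∃ x, AGF.IsRTransInv (κ ≫ jG) x ∧ jG.left.appTop x = y ∧
      ∀ t, t ∉ ptsRange jG → algPt t x = 0 := fun y hy => by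
    obtain ⟨x, rfl⟩ := hsurj y
    refine ⟨e * x, invariant_of_semi _ _ (semi_of_pts fun t h => ?_), by rw [map_mul, hje, _root_.one_mul],
      fun t ht => by rw [map_mul, he0 t ht, zero_mul]⟩
    rw [map_one, _root_.mul_one, map_mul, map_mul]
    by_cases ht : t ∈ ptsRange jG
    · obtain ⟨t', rfl⟩ := ht
      rw [he1 _ ⟨t', rfl⟩, he1 _ (mul_mem ⟨t', rfl⟩ (hκ h))]
      congr 1
      show algPt ((t' ≫ jG) * (h ≫ κ ≫ jG)) x = algPt (t' ≫ jG) x
      rw [← Category.assoc, ← MonObj.mul_comp, algPt_comp, algPt_comp, S11234.algPt_mul_of_invariant κ _ hy]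
    · rw [he0 t ht, he0 _ (fun hm => ht (by simpa using mul_mem hm (inv_mem (hκ h)))), zero_mul, zero_mul]
  constructor
  · rintro ⟨s, hs, hle⟩
    refine ⟨s.image jG.left.appTop, fun y hy => ?_, fun y hy => ?_⟩
    · obtain ⟨x, hx, rfl⟩ := Finset.mem_image.1 hy
      exact hres x (hs hx)
    · obtain ⟨x, hx, rfl, -⟩ := hext y hy
      have h1 : jG.left.appTop x ∈ Subring.map jG.left.appTop.hom (Subring.closure
          (Set.range (fun c : k => G.hom.appTop ((Scheme.ΓSpecIso (CommRingCat.of k)).inv c)) ∪ ↑s)) :=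
        Subring.mem_map.2 ⟨x, hle hx, rfl⟩
      rw [RingHom.map_closure] at h1
      refine Subring.closure_mono ?_ h1
      rintro z ⟨w, (⟨c, rfl⟩ | hw), rfl⟩
      · exact Or.inl ⟨c, (hc c).symm⟩
      · exact Or.inr (Finset.mem_coe.2 (Finset.mem_image_of_mem _ hw))
  · rintro ⟨s, hs, hle⟩
    choose x hx hxj hx0 using fun y : s => hext y.1 (hs y.2)
    choose τ hτ using fun q : (VecGrp.pt k k ⟶ G) ⧸ ptsRange jG => exists_leftTranslate G (Quotient.out q)⁻¹
    choose σ hσ using fun q : (VecGrp.pt k k ⟶ G) ⧸ ptsRange jG => exists_leftTranslate G (Quotient.out q)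
    have hτk : ∀ q t z, algPt t (τ q z) = algPt ((Quotient.out q)⁻¹ * t) z := fun q t z => by
      rw [hτ q k t z, show VecGrp.ptMap (Algebra.ofId k k) ≫ (Quotient.out q)⁻¹ = (Quotient.out q)⁻¹ from
        pt_eq _ _ fun y => by rw [algPt_ptMap]; rfl]
    have hσk : ∀ q t z, algPt t (σ q z) = algPt (Quotient.out q * t) z := fun q t z => by
      rw [hσ q k t z, show VecGrp.ptMap (Algebra.ofId k k) ≫ Quotient.out q = Quotient.out q from
        pt_eq _ _ fun y => by rw [algPt_ptMap]; rfl]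
    have hinv : ∀ q z, AGF.IsRTransInv (κ ≫ jG) z → AGF.IsRTransInv (κ ≫ jG) (τ q z) := fun q z hz =>
      invariant_of_semi _ _ ((semi_of_invariant _ _ hz).translate (hτ q))
    have hein : AGF.IsRTransInv (κ ≫ jG) e := invariant_of_semi _ _ (semi_of_pts fun t h => by
      rw [map_one, _root_.mul_one]
      by_cases ht : t ∈ ptsRange jG
      · rw [he1 t ht, he1 _ (mul_mem ht (hκ h))]
      · rw [he0 t ht, he0 _ (fun hm => ht (by simpa using mul_mem hm (inv_mem (hκ h))))])
    let gens : Finset Γ(G.left, ⊤) := (Finset.univ.image fun q => τ q e) ∪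
      ((Finset.univ ×ˢ Finset.univ).image fun qy : ((VecGrp.pt k k ⟶ G) ⧸ ptsRange jG) × s => τ qy.1 (x qy.2))
    refine ⟨gens, fun z hz => ?_, fun f hf => ?_⟩
    · rcases Finset.mem_union.1 hz with h | h
      · obtain ⟨q, -, rfl⟩ := Finset.mem_image.1 h
        exact hinv q e hein
      · obtain ⟨qy, -, rfl⟩ := Finset.mem_image.1 h
        exact hinv _ _ (hx _)
    · let T := Subring.closure (Set.range (fun c : k => G.hom.appTop ((Scheme.ΓSpecIso (CommRingCat.of k)).inv c)) ∪ ↑gens)
      -- the piece of a function of the component on a coset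
      let P : ((VecGrp.pt k k ⟶ G) ⧸ ptsRange jG) → Γ(G₀.left, ⊤) → Γ(G.left, ⊤) → Prop := fun q y z => z ∈ T ∧
        ∀ t, ((Quotient.out q)⁻¹ * t ∉ ptsRange jG → algPt t z = 0) ∧
          ∀ t₀ : VecGrp.pt k k ⟶ G₀, t₀ ≫ jG = (Quotient.out q)⁻¹ * t → algPt t z = algPt t₀ y
      have heT : ∀ q, τ q e ∈ T := fun q => Subring.subset_closure (Or.inr (Finset.mem_union_left _
        (Finset.mem_image_of_mem _ (Finset.mem_univ _))))
      have he1P : ∀ q, P q 1 (τ q e) := fun q => ⟨heT q, fun t => ⟨fun ht => by rw [hτk, he0 _ ht],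
        fun t₀ h0 => by rw [hτk, he1 _ ⟨t₀, h0⟩, map_one]⟩⟩
      have key : ∀ y ∈ Subring.closure (Set.range (fun c : k => G₀.hom.appTop ((Scheme.ΓSpecIso (CommRingCat.of k)).inv c)) ∪ ↑s),
          ∀ q, ∃ z, P q y z := by
        intro y hy q
        induction hy using Subring.closure_induction with
        | mem y hy =>
          rcases hy with ⟨c, rfl⟩ | hy
          · refine ⟨G.hom.appTop ((Scheme.ΓSpecIso (CommRingCat.of k)).inv c) * τ q e, T.mul_mem
              (Subring.subset_closure (Or.inl ⟨c, rfl⟩)) (heT q), fun t => ⟨fun ht => ?_, fun t₀ h0 => ?_⟩⟩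
            · rw [map_mul, ((he1P q).2 t).1 ht, mul_zero]
            · rw [map_mul, ((he1P q).2 t).2 t₀ h0, map_one, _root_.mul_one, algPt_appTop_hom, algPt_appTop_hom]
          · refine ⟨τ q (x ⟨y, hy⟩), Subring.subset_closure (Or.inr (Finset.mem_union_right _ (Finset.mem_image.2
              ⟨(q, ⟨y, hy⟩), Finset.mem_product.2 ⟨Finset.mem_univ _, Finset.mem_univ _⟩, rfl⟩))), fun t => ⟨fun ht => ?_, fun t₀ h0 => ?_⟩⟩
            · rw [hτk, hx0 _ _ ht]
            · rw [hτk, ← h0, algPt_comp, hxj]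
        | zero => exact ⟨0, T.zero_mem, fun t => ⟨fun _ => map_zero _, fun t₀ _ => by rw [map_zero, map_zero]⟩⟩
        | one => exact ⟨_, he1P q⟩
        | add a b _ _ ha hb =>
          obtain ⟨za, hza, ha⟩ := ha; obtain ⟨zb, hzb, hb⟩ := hb
          exact ⟨za + zb, T.add_mem hza hzb, fun t => ⟨fun ht => by rw [map_add, (ha t).1 ht, (hb t).1 ht, add_zero],
            fun t₀ h0 => by rw [map_add, map_add, (ha t).2 t₀ h0, (hb t).2 t₀ h0]⟩⟩
        | neg a _ ha =>
          obtain ⟨za, hza, ha⟩ := ha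
          exact ⟨-za, T.neg_mem hza, fun t => ⟨fun ht => by rw [map_neg, (ha t).1 ht, neg_zero],
            fun t₀ h0 => by rw [map_neg, map_neg, (ha t).2 t₀ h0]⟩⟩
        | mul a b _ _ ha hb =>
          obtain ⟨za, hza, ha⟩ := ha; obtain ⟨zb, hzb, hb⟩ := hb
          exact ⟨za * zb, T.mul_mem hza hzb, fun t => ⟨fun ht => by rw [map_mul, (ha t).1 ht, zero_mul],
            fun t₀ h0 => by rw [map_mul, map_mul, (ha t).2 t₀ h0, (hb t).2 t₀ h0]⟩⟩
      choose z hz using fun q => key _ (hle (hres _ (invariant_of_semi _ _ ((semi_of_invariant _ _ hf).translate (hσ q))))) q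
      have hfsum : f = ∑ q, z q := sub_eq_zero.1 (S11188.eq_zero_of_pts G _ fun t => by
        rw [map_sub, map_sum, sub_eq_zero, Finset.sum_eq_single (QuotientGroup.mk t)]
        · have hm : (Quotient.out (QuotientGroup.mk t : (VecGrp.pt k k ⟶ G) ⧸ ptsRange jG))⁻¹ * t ∈ ptsRange jG :=
            QuotientGroup.eq.1 (QuotientGroup.out_eq' _)
          obtain ⟨t₀, h0⟩ := hm
          rw [((hz _).2 t).2 t₀ h0, ← algPt_comp, hσk, show t₀ ≫ jG = _ from h0, mul_inv_cancel_left]
        · intro q _ hq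
          refine ((hz q).2 t).1 fun hm => hq ?_
          rw [← QuotientGroup.out_eq' q]
          exact QuotientGroup.eq.2 hm
        · exact fun h => absurd (Finset.mem_univ _) h)
      rw [hfsum]
      exact T.sum_mem fun q _ => (hz q).1

end Groth.Agent.S11203

namespace Groth.Agent.S11203

/-- Let k be an algebraically closed field, G a linear algebraic group over k (an affine smooth group
scheme over k) and H a closed subgroup of G (a smooth closed subgroup scheme, i : H → G); let G₀ ⊆ G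
and H₀ ⊆ H be the identity components and i₀ : H₀ → G₀ the induced homomorphism. If one of the rings
k[G]^H (right-H-invariant global functions on G), k[G]^{H₀}, k[G₀]^{H₀} is finitely generated over
the constants, then all three are. (The published statement also lists the invariants of H ∩ G₀ on
G₀, omitted here.) -/
theorem result (k : Type u) [Field k] [IsAlgClosed k]
    (G : Over (Spec (CommRingCat.of k))) [GrpObj G] [IsAffine G.left] [Smooth G.hom]
    (H : Over (Spec (CommRingCat.of k))) [GrpObj H] [Smooth H.hom] (i : H ⟶ G) [IsMonHom i]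
    [IsClosedImmersion i.left]
    (G₀ : Over (Spec (CommRingCat.of k))) [GrpObj G₀] [ConnectedSpace G₀.left] (jG : G₀ ⟶ G) [IsMonHom jG]
    [IsOpenImmersion jG.left]
    (H₀ : Over (Spec (CommRingCat.of k))) [GrpObj H₀] [ConnectedSpace H₀.left] (jH : H₀ ⟶ H) [IsMonHom jH]
    [IsOpenImmersion jH.left] (i₀ : H₀ ⟶ G₀) [IsMonHom i₀] (hc : i₀ ≫ jG = jH ≫ i) :
    List.TFAE [AGF.SubringFGOver k G (AGF.rTransInv i), AGF.SubringFGOver k G (AGF.rTransInv (jH ≫ i)),
      AGF.SubringFGOver k G₀ (AGF.rTransInv i₀)] := by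
  haveI : IsClosedImmersion jH.left := Groth.Agent.S11194.isClosedImmersion_of_open jH
  haveI : Smooth H₀.hom := by rw [← Over.w jH]; infer_instance
  haveI : IsAffine H.left := isAffine_of_isAffineHom i.left
  haveI : IsAffine H₀.left := isAffine_of_isAffineHom jH.left
  tfae_have 1 ↔ 2 := finiteType_iff_component i jH
  tfae_have 2 ↔ 3 := by rw [← hc]; exact finiteType_iff_restrict jG i₀
  tfae_finish

end Groth.Agent.S11203
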