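import Groth.Statements.S11204
import Groth.Agent.AGF12.Restrict
import Groth.Agent.S11194
-- import your own Groth.Agent.* helpers here

set_option autoImplicit false
set_option backward.isDefEq.respectTransparency false
set_option backward.isDefEq.respectTransparency.types false
universe u
open CategoryTheory MonoidalCategory CartesianMonoidalCategory MonObj GrpObj AlgebraicGeometry
open scoped TensorProduct
open AGF

namespace Groth.Agent.S11204

/-- Let k be an algebraically closed field, G a linear algebraic group over k and K ⊆ H ⊆ G closed
subgroups (smooth closed subgroup schemes κ : K → H, i : H → G) with K and H observable in G. If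
k[G]^K is finitely generated over the constants (K is a Grosshans subgroup of G), then K is
observable in H and k[H]^K is finitely generated over the constants (K is a Grosshans subgroup of
H). -/
theorem result (k : Type u) [Field k] [IsAlgClosed k]
    (G : Over (Spec (CommRingCat.of k))) [GrpObj G] [IsAffine G.left] [Smooth G.hom]
    (H : Over (Spec (CommRingCat.of k))) [GrpObj H] [Smooth H.hom] (i : H ⟶ G) [IsMonHom i]
    [IsClosedImmersion i.left]
    (K : Over (Spec (CommRingCat.of k))) [GrpObj K] [Smooth K.hom] (κ : K ⟶ H) [IsMonHom κ] [IsClosedImmersion κ.left]
    (hK : AGF.IsObservableIn k (κ ≫ i)) (hH : AGF.IsObservableIn k i)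
    (hfg : AGF.SubringFGOver k G (AGF.rTransInv (κ ≫ i))) :
    AGF.IsObservableIn k κ ∧ AGF.SubringFGOver k H (AGF.rTransInv κ) := by
  haveI : IsAffine H.left := isAffine_of_isAffineHom i.left
  haveI : IsAffine K.left := isAffine_of_isAffineHom κ.left
  haveI : Mono i := (Over.forget _).mono_of_mono_map (show Mono i.left from inferInstance)
  exact ⟨Groth.Agent.S11194.isObservableIn_intermediate κ i hK, Groth.Agent.AGF12.subringFG_restrict i κ hH hfg⟩

end Groth.Agent.S11204
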