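import Groth.Statements.S11205
import Groth.Agent.H8Lim.BiratNormal
import Groth.Agent.CAlgMisc2.Normal
import Mathlib.AlgebraicGeometry.AlgClosed.Basic
import Mathlib.RingTheory.DiscreteValuationRing.TFAE
import Mathlib.RingTheory.Adjoin.Tower
-- import your own Groth.Agent.* helpers here

set_option autoImplicit false
set_option backward.isDefEq.respectTransparency false
set_option backward.isDefEq.respectTransparency.types false
universe u
open CategoryTheory MonoidalCategory CartesianMonoidalCategory MonObj GrpObj AlgebraicGeometry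
open scoped TensorProduct
open AGF

namespace Groth.Agent.S11205


/-- A bijective morphism of varieties over an algebraically closed field is universally injective. -/
theorem universallyInjective_of_injective {k : Type u} [Field k] [IsAlgClosed k]
    {Y X : Over (Spec (CommRingCat.of k))} [LocallyOfFiniteType X.hom] [LocallyOfFiniteType Y.hom] [IsSeparated Y.hom]
    (π : Y ⟶ X) (h : Function.Injective π.left.base) : UniversallyInjective π.left := by
  haveI : IsSeparated (π.left ≫ X.hom) := by rw [Over.w π]; infer_instance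
  haveI : IsSeparated π.left := IsSeparated.of_comp π.left X.hom
  haveI : LocallyOfFiniteType (π.left ≫ X.hom) := by rw [Over.w π]; infer_instance
  haveI : LocallyOfFiniteType π.left := locallyOfFiniteType_of_comp π.left X.hom
  rw [UniversallyInjective.iff_diagonal]
  haveI : IsClosedImmersion (Limits.pullback.diagonal π.left) := inferInstance
  let fP : Limits.pullback π.left π.left ⟶ Spec (CommRingCat.of k) := Limits.pullback.fst π.left π.left ≫ Y.hom
  haveI : LocallyOfFiniteType fP := inferInstance
  haveI : JacobsonSpace ↥(Limits.pullback π.left π.left) := LocallyOfFiniteType.jacobsonSpace fP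
  have hcl : IsClosed (Set.range (Limits.pullback.diagonal π.left)) :=
    (Limits.pullback.diagonal π.left).isClosedEmbedding.isClosed_range
  have hsub : closedPoints ↥(Limits.pullback π.left π.left) ⊆ Set.range (Limits.pullback.diagonal π.left) := by
    intro w hw
    let r := pointOfClosedPoint fP w hw
    have hra : (r ≫ Limits.pullback.fst π.left π.left) ≫ Y.hom = 𝟙 _ := by
      rw [Category.assoc]; exact pointOfClosedPoint_comp fP w hw
    have hab : (r ≫ Limits.pullback.fst π.left π.left) ≫ π.left =
        (r ≫ Limits.pullback.snd π.left π.left) ≫ π.left := by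
      rw [Category.assoc, Category.assoc, Limits.pullback.condition]
    have hrb : (r ≫ Limits.pullback.snd π.left π.left) ≫ Y.hom = 𝟙 _ := by
      rw [← Over.w π, ← Category.assoc, ← hab, Category.assoc, Over.w π]; exact hra
    have heq : r ≫ Limits.pullback.fst π.left π.left = r ≫ Limits.pullback.snd π.left π.left := by
      refine ext_of_apply_closedPoint_eq Y.hom hra hrb (h ?_)
      exact congrArg (fun ψ => ψ (IsLocalRing.closedPoint k)) hab
    have hr : r = (r ≫ Limits.pullback.fst π.left π.left) ≫ Limits.pullback.diagonal π.left := by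
      apply Limits.pullback.hom_ext
      · simp
      · simp [heq]
    refine ⟨(r ≫ Limits.pullback.fst π.left π.left) (IsLocalRing.closedPoint k), ?_⟩
    rw [← Scheme.Hom.comp_apply, ← hr]
    exact pointOfClosedPoint_apply fP w hw _
  exact ⟨fun w => by
    have := closure_minimal hsub hcl
    rw [closure_closedPoints] at this
    exact this (Set.mem_univ w)⟩

theorem residue_bijective {X : Scheme.{u}} (x : X) (hF : IsField (X.presheaf.stalk x)) :
    Function.Bijective (X.residue x) := by
  refine ⟨?_, IsLocalRing.residue_surjective⟩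
  letI := hF.toField
  exact RingHom.injective (X.residue x).hom

theorem valuationRing_atPrime {A : Type u} [CommRing A] [IsDomain A] [IsNoetherianRing A] [IsIntegrallyClosed A]
    (p : Ideal A) [p.IsPrime] (hp : p.height = 1) (S : Type u) [CommRing S] [Algebra A S]
    [IsLocalization.AtPrime S p] [IsDomain S] : ValuationRing S := by
  haveI : IsLocalRing S := IsLocalization.AtPrime.isLocalRing S p
  haveI : IsNoetherianRing S := IsLocalization.isNoetherianRing p.primeCompl S inferInstance
  haveI : IsIntegrallyClosed S := isIntegrallyClosed_of_isLocalization S p.primeCompl p.primeCompl_le_nonZeroDivisors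
  refine ((tfae_of_isNoetherianRing_of_isLocalRing_of_isDomain S).out 3 1 rfl rfl).1 ⟨inferInstance, fun P hP hPp => ?_⟩
  by_contra hne
  haveI := hPp
  have hPm : P < IsLocalRing.maximalIdeal S := lt_of_le_of_ne (IsLocalRing.le_maximalIdeal hPp.ne_top) hne
  haveI : (P.comap (algebraMap A S)).IsPrime := Ideal.comap_isPrime _ _
  have hlt : P.comap (algebraMap A S) < p := by
    rw [← IsLocalization.AtPrime.comap_maximalIdeal S p]
    refine lt_of_le_of_ne (Ideal.comap_mono hPm.le) fun he => hne ?_
    have h1 := congrArg (Ideal.map (algebraMap A S)) he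
    rwa [IsLocalization.map_comap p.primeCompl, IsLocalization.map_comap p.primeCompl] at h1
  have h0 : (P.comap (algebraMap A S)).height = 0 := by
    have := Ideal.height_strict_mono_of_isPrime_of_isPrime hlt
    rw [hp] at this
    exact ENat.lt_one_iff_eq_zero.1 this
  rw [Ideal.height_eq_zero_iff_eq_bot] at h0
  apply hP
  have h1 := IsLocalization.map_comap p.primeCompl S P
  simp only [Ideal.under_def] at h1
  rw [h0, Ideal.map_bot] at h1
  exact h1.symm

/-- Rational functions are quotients of functions on a nonempty affine open. -/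
theorem exists_div {X : Scheme.{u}} [IsIntegral X] {U : X.Opens} (hU : IsAffineOpen U)
    {z : X} (hz : z = genericPoint X) (hzU : z ∈ U) (g : X.presheaf.stalk z) :
    ∃ a b : Γ(X, U), X.presheaf.germ U z hzU b ≠ 0 ∧
      g * X.presheaf.germ U z hzU b = X.presheaf.germ U z hzU a := by
  subst hz
  haveI : Nonempty U := ⟨⟨_, hzU⟩⟩
  letI : Algebra Γ(X, U) (X.presheaf.stalk (genericPoint X)) := (X.presheaf.germ U _ hzU).hom.toAlgebra
  haveI : IsFractionRing Γ(X, U) (X.presheaf.stalk (genericPoint X)) :=
    functionField_isFractionRing_of_isAffineOpen X U hU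
  obtain ⟨⟨a, b⟩, hab⟩ := IsLocalization.surj (nonZeroDivisors Γ(X, U)) g
  exact ⟨a, b, (IsLocalization.map_units (X.presheaf.stalk (genericPoint X)) b).ne_zero, hab⟩

/-- Hartogs: a rational function regular at the height one primes of a normal affine open is regular on it. -/
theorem mem_range_germ_of_height_one {X : Scheme.{u}} [IsIntegral X] [IsLocallyNoetherian X]
    (hN : ∀ x : X, IsIntegrallyClosed (X.presheaf.stalk x)) {U : X.Opens} (hU : IsAffineOpen U)
    {z : X} (hz : z = genericPoint X) (hzU : z ∈ U) (g : X.presheaf.stalk z)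
    (h : ∀ (p : Ideal Γ(X, U)) [p.IsPrime], p.height = 1 → ∃ a s : Γ(X, U), s ∉ p ∧
      g * X.presheaf.germ U z hzU s = X.presheaf.germ U z hzU a) :
    ∃ a, X.presheaf.germ U z hzU a = g := by
  subst hz
  haveI : Nonempty U := ⟨⟨_, hzU⟩⟩
  haveI := Groth.Agent.H8Lim.isIntegrallyClosed_of_isAffineOpen hN hU
  haveI : IsNoetherianRing Γ(X, U) := IsLocallyNoetherian.component_noetherian ⟨U, hU⟩
  letI : Algebra Γ(X, U) (X.presheaf.stalk (genericPoint X)) := (X.presheaf.germ U _ hzU).hom.toAlgebra
  haveI : IsFractionRing Γ(X, U) (X.presheaf.stalk (genericPoint X)) :=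
    functionField_isFractionRing_of_isAffineOpen X U hU
  let e : FractionRing Γ(X, U) ≃ₐ[Γ(X, U)] X.presheaf.stalk (genericPoint X) :=
    IsLocalization.algEquiv (nonZeroDivisors Γ(X, U)) _ _
  obtain ⟨a, ha⟩ := Groth.Agent.CAlgMisc2.mem_range_of_forall_height_one (e.symm g) (fun p _ hp => by
    obtain ⟨a, s, hs, hr⟩ := h p hp
    refine ⟨a, s, hs, e.injective ?_⟩
    rw [map_mul, e.apply_symm_apply, e.commutes, e.commutes]
    exact hr)
  refine ⟨a, ?_⟩
  rw [← e.apply_symm_apply g, ← ha, e.commutes]
  rfl


end Groth.Agent.S11205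

namespace Groth.Agent.S11205

/-- Let k be an algebraically closed field and let X and Y be irreducible normal varieties over k
(integral separated schemes of finite type over k all of whose local rings are integrally closed),
and π : Y → X a k-morphism which is bijective on points. If the ring of global functions of Y is
finitely generated over k, then so is the ring of global functions of X. (The published statement
asks π bijective on rational points; this row asks bijectivity on all points, which for schemes of
finite type over an algebraically closed field is the same condition.) -/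
theorem result (k : Type u) [Field k] [IsAlgClosed k] (X Y : Over (Spec (CommRingCat.of k)))
    [IsIntegral X.left] [IsIntegral Y.left] [LocallyOfFiniteType X.hom] [QuasiCompact X.hom]
    [IsSeparated X.hom] [LocallyOfFiniteType Y.hom] [QuasiCompact Y.hom] [IsSeparated Y.hom]
    (hX : ∀ x : X.left, IsIntegrallyClosed ↑(X.left.presheaf.stalk x))
    (hY : ∀ y : Y.left, IsIntegrallyClosed ↑(Y.left.presheaf.stalk y))
    (π : Y ⟶ X) (hπ : Function.Bijective π.left.base)
    (hfg : ((Scheme.ΓSpecIso (CommRingCat.of k)).inv ≫ Y.hom.appTop).hom.FiniteType) :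
    ((Scheme.ΓSpecIso (CommRingCat.of k)).inv ≫ X.hom.appTop).hom.FiniteType := by
  haveI hUI : UniversallyInjective π.left := universallyInjective_of_injective π hπ.1
  haveI : IsLocallyNoetherian X.left := LocallyOfFiniteType.isLocallyNoetherian X.hom
  let y₀ : Y.left := genericPoint Y.left
  let z : X.left := π.left y₀
  have hz : z = genericPoint X.left := by
    refine IsGenericPoint.eq ?_ (genericPoint_spec X.left)
    rw [isGenericPoint_def, Set.eq_univ_iff_forall]
    intro x
    obtain ⟨y, rfl⟩ := hπ.2 x
    exact ((genericPoint_spec Y.left).specializes (Set.mem_univ y)).map π.left.continuous |>.mem_closure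
  have hzmem : ∀ U : X.left.Opens, (U : Set X.left).Nonempty → z ∈ U := fun U hU => by
    rw [hz]; exact ((genericPoint_spec X.left).mem_open_set_iff U.isOpen).2 (by simpa using hU)
  have hFz : IsField (X.left.presheaf.stalk z) := by rw [hz]; exact Field.toIsField X.left.functionField
  have hF0 : IsField (Y.left.presheaf.stalk y₀) := Field.toIsField Y.left.functionField
  let φ := (π.left.stalkMap y₀).hom
  have hφi : Function.Injective φ := by
    letI := hFz.toField
    exact φ.injective
  have hgi : ∀ (U : X.left.Opens) (hzU : z ∈ U), Function.Injective (X.left.presheaf.germ U z hzU) :=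
    fun U hzU => germ_injective_of_isIntegral X.left z hzU
  obtain ⟨p₀, _⟩ := ExpChar.exists (X.left.residueField z)
  -- every global function has a power coming from `X`
  have hpow : ∀ f : Γ(Y.left, ⊤), ∃ n : ℕ, 0 < n ∧ ∃ G : Γ(X.left, ⊤), π.left.appTop G = f ^ n := by
    intro f
    let fK := Y.left.presheaf.germ ⊤ y₀ trivial f
    have hrad : (π.left.residueFieldMap y₀).hom.IsPurelyInseparable :=
      (((tfae_universallyInjective π.left).out 0 2 rfl rfl).1 hUI).2 y₀
    obtain ⟨n, g, hg⟩ : ∃ n : ℕ, ∃ g, φ g = fK ^ p₀ ^ n := by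
      letI := (π.left.residueFieldMap y₀).hom.toAlgebra
      have h1 : IsPurelyInseparable (X.left.residueField z) (Y.left.residueField y₀) := hrad
      rw [isPurelyInseparable_iff_pow_mem (X.left.residueField z) p₀] at h1
      obtain ⟨n, g', hg'⟩ := h1 (Y.left.residue y₀ fK)
      obtain ⟨g, rfl⟩ := (residue_bijective z hFz).2 g'
      refine ⟨n, g, (residue_bijective y₀ hF0).1 ?_⟩
      rw [map_pow, ← hg']
      exact ((congrArg (fun ψ => ψ.hom g) (Scheme.residue_residueFieldMap π.left y₀))).symm
    have hq : 0 < p₀ ^ n := pow_pos (expChar_pos (X.left.residueField z) p₀) n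
    refine ⟨p₀ ^ n, hq, ?_⟩
    set q := p₀ ^ n with hqdef
    -- regularity on every affine open
    have hloc : ∀ (U : X.left.Opens), IsAffineOpen U → ∀ hzU : z ∈ U, ∃ a, X.left.presheaf.germ U z hzU a = g := by
      intro U hU hzU
      refine mem_range_germ_of_height_one hX hU hz hzU g fun p hpp hp1 => ?_
      haveI : Nonempty U := ⟨⟨_, hzU⟩⟩
      haveI := Groth.Agent.H8Lim.isIntegrallyClosed_of_isAffineOpen hX hU
      haveI : IsNoetherianRing Γ(X.left, U) := IsLocallyNoetherian.component_noetherian ⟨U, hU⟩
      obtain ⟨x', hx', hx'p⟩ : ∃ (x' : X.left) (hx' : x' ∈ U), hU.primeIdealOf ⟨x', hx'⟩ = ⟨p, hpp⟩ :=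
        ⟨hU.fromSpec ⟨p, hpp⟩, hU.range_fromSpec.le (Set.mem_range_self _),
          hU.fromSpec.isOpenEmbedding.injective (hU.fromSpec_primeIdealOf _)⟩
      obtain ⟨y', rfl⟩ := hπ.2 x'
      let S := X.left.presheaf.stalk (π.left y')
      letI : Algebra Γ(X.left, U) S := (X.left.presheaf.germ U _ hx').hom.toAlgebra
      have hS := hU.isLocalization_stalk ⟨π.left y', hx'⟩
      rw [hx'p] at hS
      haveI : IsLocalization.AtPrime S p := hS
      haveI := valuationRing_atPrime p hp1 S
      -- write `g = a / b`
      obtain ⟨a, b, hb, hgab⟩ : ∃ a b : Γ(X.left, U), X.left.presheaf.germ U z hzU b ≠ 0 ∧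
          g * X.left.presheaf.germ U z hzU b = X.left.presheaf.germ U z hzU a := by
        exact exists_div hU hz hzU g
      -- the relation on `π⁻¹ U`
      let V := π.left ⁻¹ᵁ U
      have hy0V : y₀ ∈ V := hzU
      have hy'V : y' ∈ V := hx'
      let fV : Γ(Y.left, V) := Y.left.presheaf.map (homOfLE (le_top : V ≤ ⊤)).op f
      have happ : ∀ c : Γ(X.left, U), φ (X.left.presheaf.germ U z hzU c) = Y.left.presheaf.germ V y₀ hy0V (π.left.app U c) :=
        fun c => π.left.germ_stalkMap_apply U y₀ hzU c
      have hrel : π.left.app U a = fV ^ q * π.left.app U b := by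
        apply germ_injective_of_isIntegral Y.left y₀ hy0V
        rw [map_mul, map_pow, ← happ, ← happ, ← hgab, map_mul, hg]
        congr 2
        exact (Y.left.presheaf.germ_res_apply (homOfLE (le_top : V ≤ ⊤)) y₀ hy0V f).symm
      let ψ := (π.left.stalkMap y').hom
      let F := Y.left.presheaf.germ V y' hy'V fV
      have happ' : ∀ c : Γ(X.left, U), ψ (X.left.presheaf.germ U (π.left y') hx' c) =
          Y.left.presheaf.germ V y' hy'V (π.left.app U c) :=
        fun c => π.left.germ_stalkMap_apply U y' hx' c
      have hψab : ψ (algebraMap Γ(X.left, U) S a) = F ^ q * ψ (algebraMap Γ(X.left, U) S b) := by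
        show ψ (X.left.presheaf.germ U _ hx' a) = F ^ q * ψ (X.left.presheaf.germ U _ hx' b)
        rw [happ', happ', hrel, map_mul, map_pow]
      have hψb : ψ (algebraMap Γ(X.left, U) S b) ≠ 0 := by
        show ψ (X.left.presheaf.germ U _ hx' b) ≠ 0
        rw [happ']
        intro h0
        have h1 : π.left.app U b = 0 := germ_injective_of_isIntegral Y.left y' hy'V (by rw [h0, map_zero])
        apply hb
        apply hφi
        rw [happ, h1, map_zero, map_zero]
      obtain ⟨c, hc⟩ : ∃ c : S, algebraMap Γ(X.left, U) S b * c = algebraMap Γ(X.left, U) S a := by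
        obtain ⟨c, hc | hc⟩ := ValuationRing.cond (algebraMap Γ(X.left, U) S a) (algebraMap Γ(X.left, U) S b)
        · have h2 := congrArg ψ hc
          rw [map_mul, hψab] at h2
          have h3 : ψ c * F ^ q = 1 := mul_left_cancel₀ hψb (by rw [_root_.mul_one]; linear_combination h2)
          have hcu : IsUnit c := (isUnit_map_iff ψ c).1 (IsUnit.of_mul_eq_one _ h3)
          obtain ⟨d, rfl⟩ := hcu
          exact ⟨↑d⁻¹, by rw [← hc, Units.mul_inv_cancel_right]⟩
        · exact ⟨c, hc⟩
      obtain ⟨⟨r, s⟩, hrs⟩ := IsLocalization.surj p.primeCompl c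
      refine ⟨r, s, s.2, mul_left_cancel₀ hb ?_⟩
      have h4 : a * (s : Γ(X.left, U)) = b * r := by
        apply germ_injective_of_isIntegral X.left (π.left y') hx'
        change algebraMap Γ(X.left, U) S (a * s) = algebraMap Γ(X.left, U) S (b * r)
        rw [map_mul, map_mul, ← hc]
        linear_combination (algebraMap Γ(X.left, U) S b) * hrs
      have h5 := congrArg (X.left.presheaf.germ U z hzU) h4
      rw [map_mul, map_mul] at h5
      linear_combination (norm := ring_nf) h5 + (X.left.presheaf.germ U z hzU (s : Γ(X.left, U))) * hgab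
    -- gluing
    let I := {U : X.left.Opens // IsAffineOpen U ∧ z ∈ U}
    have hcov : (⊤ : X.left.Opens) ≤ ⨆ i : I, (i.1 : X.left.Opens) := by
      intro x _
      obtain ⟨_, ⟨U, hU, rfl⟩, hxU, -⟩ := X.left.isBasis_affineOpens.exists_subset_of_mem_open (Set.mem_univ x) isOpen_univ
      exact TopologicalSpace.Opens.mem_iSup.2 ⟨⟨U, hU, hzmem U ⟨x, hxU⟩⟩, hxU⟩
    choose sec hsec using fun i : I => hloc i.1 i.2.1 i.2.2
    obtain ⟨G, hG, -⟩ := X.left.sheaf.existsUnique_gluing' (fun i : I => (i.1 : X.left.Opens)) ⊤
      (fun i => homOfLE le_top) hcov sec (fun i j => by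
        apply germ_injective_of_isIntegral X.left z (U := i.1 ⊓ j.1) ⟨i.2.2, j.2.2⟩
        erw [X.left.presheaf.germ_res_apply, X.left.presheaf.germ_res_apply, hsec i, hsec j])
    obtain ⟨i₀⟩ : Nonempty I := by
      obtain ⟨_, ⟨U, hU, rfl⟩, hxU, -⟩ := X.left.isBasis_affineOpens.exists_subset_of_mem_open (Set.mem_univ z) isOpen_univ
      exact ⟨⟨U, hU, hxU⟩⟩
    have hGg : X.left.presheaf.germ ⊤ z trivial G = g := by
      rw [← X.left.presheaf.germ_res_apply (homOfLE le_top : i₀.1 ⟶ ⊤) z i₀.2.2 G]
      refine Eq.trans ?_ (hsec i₀)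
      congr 1
      exact hG i₀
    refine ⟨G, germ_injective_of_isIntegral Y.left y₀ (U := ⊤) trivial ?_⟩
    rw [map_pow, ← hg, ← hGg]
    exact (π.left.germ_stalkMap_apply ⊤ y₀ trivial G).symm
  -- Artin–Tate
  have hinj : Function.Injective π.left.appTop := by
    intro a b hab
    apply hgi ⊤ trivial
    apply hφi
    show (π.left.stalkMap y₀) _ = (π.left.stalkMap y₀) _
    rw [π.left.germ_stalkMap_apply, π.left.germ_stalkMap_apply]
    exact congrArg _ hab
  let cX := ((Scheme.ΓSpecIso (CommRingCat.of k)).inv ≫ X.hom.appTop).hom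
  let cY := ((Scheme.ΓSpecIso (CommRingCat.of k)).inv ≫ Y.hom.appTop).hom
  have hcomp : cY = π.left.appTop.hom.comp cX := by
    change _ = ((((Scheme.ΓSpecIso (CommRingCat.of k)).inv ≫ X.hom.appTop)) ≫ π.left.appTop).hom
    rw [Category.assoc, ← Scheme.Hom.comp_appTop, Over.w π]
  letI := cX.toAlgebra
  letI := cY.toAlgebra
  letI := π.left.appTop.hom.toAlgebra
  haveI : IsScalarTower k Γ(X.left, ⊤) Γ(Y.left, ⊤) := IsScalarTower.of_algebraMap_eq' hcomp
  haveI hFT : Algebra.FiniteType k Γ(Y.left, ⊤) := hfg
  haveI : Algebra.IsIntegral Γ(X.left, ⊤) Γ(Y.left, ⊤) := ⟨fun f => by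
    obtain ⟨n, hn, G, hG⟩ := hpow f
    exact IsIntegral.of_pow hn (by rw [← hG]; exact isIntegral_algebraMap)⟩
  haveI : Algebra.FiniteType Γ(X.left, ⊤) Γ(Y.left, ⊤) := Algebra.FiniteType.of_restrictScalars_finiteType k _ _
  haveI : Module.Finite Γ(X.left, ⊤) Γ(Y.left, ⊤) := Algebra.IsIntegral.finite
  exact ⟨fg_of_fg_of_fg k Γ(X.left, ⊤) Γ(Y.left, ⊤) hFT.out Module.Finite.fg_top hinj⟩

end Groth.Agent.S11205
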