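import Groth.Statements.S1121
import Groth.Agent.DCat.TildeStalk

set_option autoImplicit false
set_option backward.isDefEq.respectTransparency false
set_option backward.defeqAttrib.useBackward true
universe u
open CategoryTheory CategoryTheory.Limits AlgebraicGeometry Opposite
attribute [local instance] HasDerivedCategory.standard
open Perf

namespace Groth.Agent.S1121

open MonoidalCategory in
/-- Let R be a ring and K a K-flat cochain complex of R-modules (tensoring with K preserves acyclic
complexes). Then the associated complex K~ of O_{Spec R}-modules is K-flat: for every acyclic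
complex L of O_{Spec R}-modules the total tensor complex L ⊗ K~ is acyclic. -/
theorem result (R : CommRingCat.{u}) (K : DRing.Cx R)
    (hK : ∀ L : DRing.Cx R, (∀ i : ℤ, IsZero (L.homology i)) → ∀ i : ℤ, IsZero (((tensorRight K).obj L).homology i)) :
    DCoh.IsKFlat (((tilde.functor R).mapHomologicalComplex (ComplexShape.up ℤ)).obj K) := by
  refine (DCat.isKFlat_iff_sheaf _).2 (DCat.isKFlat_tilde K ?_)
  exact (DCat.isKFlat_iff K).1 hK


end Groth.Agent.S1121
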