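import Groth.Statements.S11213
import Groth.Agent.AGF12.QuotQA
import Groth.Agent.S11212
import Groth.Agent.S11234
-- import your own Groth.Agent.* helpers here

set_option autoImplicit false
set_option backward.isDefEq.respectTransparency false
set_option backward.isDefEq.respectTransparency.types false
open Groth.Agent.CommAlg4.AffPt Groth.Agent Groth.Agent.AGF12
universe u
open CategoryTheory MonoidalCategory CartesianMonoidalCategory MonObj GrpObj AlgebraicGeometry
open scoped TensorProduct
open AGF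

namespace Groth.Agent.S11213

variable {k : Type u} [Field k] [IsAlgClosed k]

theorem hfix_iff {G H : Over (Spec (CommRingCat.of k))} [GrpObj G] [GrpObj H] [IsAffine G.left] [IsAffine H.left] [Smooth G.hom]
    [Smooth H.hom] (i : H ⟶ G) [IsMonHom i]
    (uG : letI := gAlg G; VecGrp.pt k Γ(G.left, ⊤) ⟶ G)
    (σ : letI := gAlg G; VecGrp.GMod H Γ(G.left, ⊤)) (hσ : letI := gAlg G; σ.IsMult) (hu : ∀ f, letI := gAlg G; algPt uG f = f)
    (hσf : letI := gAlg G; ∀ (B : Type u) [CommRing B] [Algebra k B] (h : VecGrp.pt k B ⟶ H) (f : Γ(G.left, ⊤)),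
        σ.ρ B h ((1 : B) ⊗ₜ[k] f) =
          algPt ((VecGrp.ptMap (Algebra.TensorProduct.includeRight : Γ(G.left, ⊤) →ₐ[k] B ⊗[k] Γ(G.left, ⊤)) ≫ uG) *
            (VecGrp.ptMap (Algebra.TensorProduct.includeLeft : B →ₐ[k] B ⊗[k] Γ(G.left, ⊤)) ≫ h ≫ i)) f)
    (f : Γ(G.left, ⊤)) : letI := gAlg G; f ∈ σ.fixedSubalgebra hσ (𝟙 H) ↔ AGF.IsRTransInv i f := by
  letI := gAlg G
  constructor
  · intro hf
    refine invariant_of_semi i _ fun B _ _ t x => ?_
    obtain ⟨φ, hφ⟩ := exists_algHom t
    let ψ : B ⊗[k] Γ(G.left, ⊤) →ₐ[k] B := Algebra.TensorProduct.productMap (AlgHom.id k B) φ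
    have h2 := congrArg ψ (hf B x)
    rw [hσf, Category.comp_id, ← algPt_ptMap ψ, MonObj.comp_mul] at h2
    rw [map_one, _root_.mul_one]
    refine Eq.trans (congrArg (fun w => algPt w f) (congrArg₂ (fun a b => a * b) ?_ ?_)) (h2.trans ?_)
    · exact (pt_eq _ _ fun y => by rw [algPt_ptMap, algPt_ptMap, hu, ← hφ]; simp [ψ]).symm
    · exact (pt_eq _ _ fun y => by simp only [algPt_ptMap, Category.assoc]; simp [ψ]).symm
    · simp [ψ, hφ]
  · intro hf B _ _ x
    rw [hσf, Category.comp_id, ← Category.assoc, S11234.algPt_mul_of_invariant i f hf, algPt_ptMap, hu]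
    rfl

end Groth.Agent.S11213

namespace Groth.Agent.S11213

/-- Let k be an algebraically closed field, G a linear algebraic group over k (an affine smooth group
scheme over k) and H a closed subgroup of G (a smooth closed subgroup scheme, i : H → G), with the
identity component of H reductive, and let X (with action a, base point o) be the quotient G/H.
Assume the following standard results of geometric invariant theory for groups with reductive
identity component, carried as hypotheses: finite generation of invariants on finitely generated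
algebras, and that the quotient map of an affine variety by such a group is surjective and separates
disjoint closed invariant subsets. Then k[G]^H is finitely generated over the constants (H is a
Grosshans subgroup of G) and X is affine. -/
theorem result (k : Type u) [Field k] [IsAlgClosed k]
    (G : Over (Spec (CommRingCat.of k))) [GrpObj G] [IsAffine G.left] [Smooth G.hom]
    (H : Over (Spec (CommRingCat.of k))) [GrpObj H] [Smooth H.hom] (i : H ⟶ G) [IsMonHom i]
    [IsClosedImmersion i.left]
    (hH : VecGrp.IsReductiveGrp k H) (thmA : VecGrp.ReductiveInvariantsFG k)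
    (thmAbi : AGF.ReductiveQuotSurj k) (thmAbiv : AGF.ReductiveQuotSeparates k)
    (X : Over (Spec (CommRingCat.of k))) (a : AlgGrp.Action G X) (o : 𝟙_ (Over (Spec (CommRingCat.of k))) ⟶ X) (hX : AGF.IsQuotient i X a o) :
    AGF.SubringFGOver k G (AGF.rTransInv i) ∧ IsAffine X.left := by
  classical
  haveI : IsAffine H.left := isAffine_of_isAffineHom i.left
  haveI : AlgebraicGeometry.IsReduced G.left := WeilLib.isReduced_of_smooth G.hom
  letI := gAlg G
  haveI : Algebra.FiniteType k Γ(G.left, ⊤) := by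
    have h1 : G.hom.appTop.hom.FiniteType := HasRingHomProperty.appTop (P := @LocallyOfFiniteType) G.hom inferInstance
    exact h1.comp (RingHom.FiniteType.of_surjective _
      (ConcreteCategory.bijective_of_isIso (Scheme.ΓSpecIso (CommRingCat.of k)).inv).surjective)
  obtain ⟨uG, σ, hσ, hu, hσf⟩ := Groth.Agent.S11212.exists_regular_mult i
  have hfix := hfix_iff i uG σ hσ hu hσf
  refine ⟨?_, ?_⟩
  · obtain ⟨s, hs1, hs2⟩ := thmA H hH Γ(G.left, ⊤) σ hσ ‹_›
    exact ⟨s, fun x hx => (hfix x).1 (hs1 hx), fun x hx => Algebra.mem_adjoin_iff.1 (hs2 ((hfix x).2 hx))⟩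
  have hobs := Groth.Agent.S11212.result k G H i hH thmA thmAbiv
  haveI : X.left.IsQuasiAffine := Quot.isQuasiAffine_of_observable hX hobs
  let C := σ.fixedSubalgebra hσ (𝟙 H)
  let incl := CommRingCat.ofHom C.val.toRingHom
  let φ : G.left ⟶ Spec (CommRingCat.of C) := G.left.toSpecΓ ≫ Spec.map incl
  have hφ : ((G ◁ i) ≫ μ[G]).left ≫ φ = (fst G H).left ≫ φ := by
    simp only [φ, ← Category.assoc, Scheme.toSpecΓ_naturality]
    rw [Category.assoc, Category.assoc, ← Spec.map_comp, ← Spec.map_comp]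
    congr 2
    ext c
    exact (hfix _).1 c.2
  obtain ⟨ψ, hψ⟩ := Quot.descend hX φ hφ
  let θ : Γ(X.left, ⊤) →+* C := (a.orbitMap o).left.appTop.hom.codRestrict C (fun c => (hfix _).2 (by
    have h1 := congrArg (fun z : G ⊗ H ⟶ X => z.left.appTop c) (Quot.comp_orbit hX)
    exact h1))
  let ψ' : C →+* Γ(X.left, ⊤) := ((Scheme.ΓSpecIso (CommRingCat.of C)).inv ≫ ψ.appTop).hom
  haveI := hX.2.1
  haveI := hX.2.2.1
  haveI : Epi (a.orbitMap o).left := Flat.epi_of_flat_of_surjective _
  have hfac : X.left.toSpecΓ = ψ ≫ Spec.map (CommRingCat.ofHom θ) := by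
    rw [← cancel_epi (a.orbitMap o).left, Scheme.toSpecΓ_naturality, ← Category.assoc, hψ]
    simp only [φ, Category.assoc, ← Spec.map_comp]
    rfl
  have h1 : CommRingCat.ofHom θ ≫ CommRingCat.ofHom ψ' = 𝟙 _ := by
    have e := congrArg Scheme.Hom.appTop hfac
    rw [Scheme.Hom.comp_appTop, Scheme.toSpecΓ_appTop] at e
    have e2 := congrArg ((Scheme.ΓSpecIso Γ(X.left, ⊤)).inv ≫ ·) e
    simp only [Iso.inv_hom_id, ← Scheme.ΓSpecIso_inv_naturality_assoc] at e2
    exact e2.symm
  have h2 : CommRingCat.ofHom ψ' ≫ CommRingCat.ofHom θ = 𝟙 _ := by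
    have e : (Scheme.ΓSpecIso (CommRingCat.of C)).inv ≫ φ.appTop = incl := by
      simp only [φ, Scheme.Hom.comp_appTop, Scheme.toSpecΓ_appTop, ← Scheme.ΓSpecIso_inv_naturality_assoc,
        Iso.inv_hom_id, Category.comp_id]
    rw [← hψ, Scheme.Hom.comp_appTop] at e
    ext c
    exact congrArg (fun z : CommRingCat.of C ⟶ Γ(G.left, ⊤) => z.hom c) e
  haveI : IsIso (CommRingCat.ofHom θ) := ⟨CommRingCat.ofHom ψ', h1, h2⟩
  haveI : Surjective φ := ⟨fun q => by
    obtain ⟨p, hp, hpq⟩ := thmAbi H hH Γ(G.left, ⊤) σ hσ ‹_› q.asIdeal q.isPrime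
    obtain ⟨z, hz⟩ := G.left.toSpecΓ.surjective ⟨p, hp⟩
    refine ⟨z, ?_⟩
    show (Spec.map incl).base (G.left.toSpecΓ.base z) = q
    rw [hz]
    exact PrimeSpectrum.ext hpq⟩
  haveI : Surjective X.left.toSpecΓ := by
    haveI : Surjective ((a.orbitMap o).left ≫ X.left.toSpecΓ) := by
      rw [hfac, ← Category.assoc, hψ]; infer_instance
    exact Surjective.of_comp (a.orbitMap o).left X.left.toSpecΓ
  haveI : IsIso X.left.toSpecΓ := IsOpenImmersion.isIso _
  exact IsAffine.of_isIso X.left.toSpecΓ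


end Groth.Agent.S11213
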