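import Groth.Statements.S11215
import Groth.Agent.S11213
import Groth.Agent.S11196
import Groth.Agent.AGF12.Matsushima.Reps
import Groth.Agent.AGF12.Matsushima.GR
import Groth.Agent.SGA3cLib.NeutralSmooth
import Groth.Agent.CAlgH3.GeomBridge
-- import your own Groth.Agent.* helpers here

set_option autoImplicit false
set_option backward.isDefEq.respectTransparency false
set_option backward.isDefEq.respectTransparency.types false
set_option backward.isDefEq.respectTransparency false
set_option backward.isDefEq.respectTransparency.types false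
open Groth.Agent.CommAlg4.AffPt Groth.Agent
universe u
open CategoryTheory MonoidalCategory CartesianMonoidalCategory MonObj GrpObj AlgebraicGeometry
open scoped TensorProduct
open AGF

namespace Groth.Agent.S11215

attribute [local instance] gAlg

variable {k : Type u} [Field k] [IsAlgClosed k]

omit [IsAlgClosed k] in
/-- Two restrictions of a polynomial to lines agreeing infinitely often agree. -/
theorem eval_line {m : Type u} (F : MvPolynomial m k) (p q p' q' : m → k) (S : Set k) (hS : S.Infinite)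
    (h : ∀ s ∈ S, MvPolynomial.eval (p + s • q) F = MvPolynomial.eval (p' + s • q') F) (s : k) :
    MvPolynomial.eval (p + s • q) F = MvPolynomial.eval (p' + s • q') F := by
  let P : (m → k) → (m → k) → Polynomial k := fun p q =>
    MvPolynomial.aeval (fun a => Polynomial.C (p a) + Polynomial.X * Polynomial.C (q a)) F
  have hP : ∀ p q t, Polynomial.eval t (P p q) = MvPolynomial.eval (p + t • q) F := fun p q t => by
    have e : (Polynomial.aeval t).comp (MvPolynomial.aeval fun a => Polynomial.C (p a) + Polynomial.X * Polynomial.C (q a)) =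
        MvPolynomial.aeval (R := k) (p + t • q) := MvPolynomial.algHom_ext fun a => by simp; ring
    simpa [P, MvPolynomial.aeval_eq_eval, Polynomial.coe_aeval_eq_eval] using AlgHom.congr_fun e F
  have heq : P p q = P p' q' := Polynomial.eq_of_infinite_eval_eq _ _ (hS.mono fun t ht => by
    show Polynomial.eval t _ = Polynomial.eval t _
    rw [hP, hP, h t ht])
  rw [← hP, heq, hP]

/-- A nonconstant function on a connected variety takes infinitely many values. -/
theorem infinite_range {U : Over (Spec (CommRingCat.of k))} [IsAffine U.left] [Smooth U.hom] [ConnectedSpace U.left]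
    (φ : Γ(U.left, ⊤)) (t₀ t₁ : VecGrp.pt k k ⟶ U) (h0 : algPt t₀ φ = (0 : k)) (h1 : algPt t₁ φ ≠ (0 : k)) :
    (Set.range fun t : VecGrp.pt k k ⟶ U => algPt t φ).Infinite := by
  classical
  intro hfin
  let S := hfin.toFinset.erase 0
  let e : Γ(U.left, ⊤) := ∏ s ∈ S, (1 - s⁻¹ • φ)
  have he : ∀ t : VecGrp.pt k k ⟶ U, algPt t e = if algPt t φ = (0 : k) then 1 else 0 := fun t => by
    simp only [e, map_prod, map_sub, map_one, AGF12.Matsushima.algPt_smul_const]
    split_ifs with ht
    · simp [ht]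
    · have hm : algPt t φ ∈ S := Finset.mem_erase.2 ⟨ht, hfin.mem_toFinset.2 ⟨t, rfl⟩⟩
      exact Finset.prod_eq_zero hm (by rw [inv_mul_cancel₀ ht, sub_self])
  have hid : IsIdempotentElem e := AGF12.Matsushima.ext_pts fun t => by
    rw [map_mul, he]
    split <;> simp
  haveI : ConnectedSpace (PrimeSpectrum Γ(U.left, ⊤)) :=
    Function.Surjective.connectedSpace U.left.isoSpec.hom.surjective U.left.isoSpec.hom.continuous
  rcases CAlgH3.GeomBridge.isIdempotentElem_trivial_of_connected _ hid with h | h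
  · have := he t₀
    rw [h, map_zero, if_pos h0] at this
    exact zero_ne_one this
  · have := he t₁
    rw [h, map_one, if_neg h1] at this
    exact one_ne_zero this

variable {G H H₀ X U : Over (Spec (CommRingCat.of k))} [GrpObj G] [GrpObj H] [GrpObj H₀] [GrpObj U]
  [IsAffine G.left] [Smooth G.hom] [IsAffine H.left] [Smooth H.hom] [IsAffine H₀.left] [Smooth H₀.hom]
  [ConnectedSpace H₀.left] [IsAffine X.left]

/-- No connected subgroup acts unipotently and nontrivially in a representation if the quotient is affine. -/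
theorem false_of_rep (hG : VecGrp.IsReductiveGrp k G) (thmAbiv : AGF.ReductiveQuotSeparates k) {i : H ⟶ G} [IsMonHom i]
    (j : H₀ ⟶ H) [IsMonHom j] [IsOpenImmersion j.left] {a : AlgGrp.Action G X}
    {o : 𝟙_ (Over (Spec (CommRingCat.of k))) ⟶ X} (hX : AGF.IsQuotient i X a o)
    [IsAffine U.left] [Smooth U.hom] [ConnectedSpace U.left] (κ : U ⟶ H₀) [IsMonHom κ]
    {n : Type u} [Fintype n] [DecidableEq n]
    (ρ : (VecGrp.pt k k ⟶ H₀) →* Matrix n n k) (F : n → n → Γ(H₀.left, ⊤)) (hF : ∀ y a b, algPt y (F a b) = ρ y a b)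
    (π a₀ : n → k) (hπ : ∀ y, Matrix.vecMul π (ρ y) = π) (ha₀ : π ⬝ᵥ a₀ = 1) (δ : n → Γ(U.left, ⊤))
    (hδ : ∀ (u : VecGrp.pt k k ⟶ U) c b, ρ (u ≫ κ) c b = (if c = b then 1 else 0) + algPt u (δ c) * π b)
    (u₁ : VecGrp.pt k k ⟶ U) (c₁ : n) (hne : algPt u₁ (δ c₁) ≠ (0 : k)) : False := by
  classical
  obtain ⟨x, hxe, hxπ⟩ := AGF12.Matsushima.exists_equivariant_section j hX ρ F hF π hπ a₀ ha₀
  let x' : n → Γ(G.left, ⊤) := fun c => (ι[G]).left.appTop (x c)
  have hx' : ∀ (t : VecGrp.pt k k ⟶ G) c, algPt t (x' c) = algPt t⁻¹ (x c) := fun t c => by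
    rw [← algPt_comp, ← Hom.inv_def]
  obtain ⟨V, hVfin, R, hxV, hR, hind, hreg⟩ := AGF12.Matsushima.exists_rightRep x'
  haveI := hVfin
  let b := (Module.finBasis k V).reindex Equiv.ulift.{u}.symm
  let P : Submodule k (n → Γ(G.left, ⊤)) :=
    { carrier := {w | (∀ (y : VecGrp.pt k k ⟶ H₀) (t : VecGrp.pt k k ⟶ G) c,
          ∑ d, ρ y c d * algPt ((y ≫ j ≫ i)⁻¹ * t) (w d) = algPt t (w c)) ∧
        ∀ t : VecGrp.pt k k ⟶ G, ∑ c, π c * algPt t (w c) = ∑ c, π c * algPt (1 : VecGrp.pt k k ⟶ G) (w c)}
      zero_mem' := ⟨fun _ _ _ => by simp, fun _ => by simp⟩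
      add_mem' := fun {v w} hv hw => ⟨fun y t c => by
        simp only [Pi.add_apply, map_add, mul_add, Finset.sum_add_distrib, hv.1, hw.1],
        fun t => by simp only [Pi.add_apply, map_add, mul_add, Finset.sum_add_distrib, hv.2 t, hw.2 t]⟩
      smul_mem' := fun r v hv => ⟨fun y t c => by
        simp only [Pi.smul_apply, AGF12.Matsushima.algPt_smul_const, mul_left_comm _ r, ← Finset.mul_sum, hv.1],
        fun t => by simp only [Pi.smul_apply, AGF12.Matsushima.algPt_smul_const, mul_left_comm _ r, ← Finset.mul_sum, hv.2 t]⟩ }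
  have hVP : V ≤ P := hind P fun g v hv => by
    refine ⟨fun y t c => ?_, fun t => ?_⟩
    · simp only [hv, hx', _root_.mul_inv_rev, _root_.inv_inv, ← _root_.mul_assoc]
      exact hxe y (g⁻¹ * t⁻¹) c
    · simp only [hv, hx', hxπ]
  let Λ : (n → k) → V →ₗ[k] k := fun φv =>
    { toFun := fun v => ∑ c, φv c * algPt (1 : VecGrp.pt k k ⟶ G) (v.1 c)
      map_add' := fun v w => by simp [mul_add, Finset.sum_add_distrib]
      map_smul' := fun r v => by
        simp only [Submodule.coe_smul, Pi.smul_apply, AGF12.Matsushima.algPt_smul_const, RingHom.id_apply, smul_eq_mul,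
          Finset.mul_sum, mul_left_comm r] }
  let ξ : (n → k) → _ → k := fun φv c => Λ φv (b c)
  choose M hM0 using fun c d => hreg (b d) (b.coord c)
  have hM : ∀ g c d, algPt g (M c d) = LinearMap.toMatrix b b (R g) c d := fun g c d => by
    rw [hM0, LinearMap.toMatrix_apply]; rfl
  have hΛR : ∀ g φv d, ∑ c, ξ φv c * algPt g (M c d) = Λ φv (R g (b d)) := fun g φv d => by
    conv_rhs => rw [← b.sum_repr (R g (b d))]
    rw [map_sum]
    refine Finset.sum_congr rfl fun c _ => ?_
    rw [hM, LinearMap.toMatrix_apply, map_smul, smul_eq_mul, mul_comm]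
  have hΛπ : ∀ (v : V) (t : VecGrp.pt k k ⟶ G), ∑ c, π c * algPt t (v.1 c) = Λ π v := fun v t => (hVP v.2).2 t
  have hl : ∀ (g : VecGrp.pt k k ⟶ G) d, ∑ c, ξ π c * algPt g (M c d) = ξ π d := fun g d => by
    rw [hΛR]
    show ∑ c, π c * algPt (1 : VecGrp.pt k k ⟶ G) ((R g (b d)).1 c) = _
    simp only [hR]
    exact hΛπ (b d) _
  have hl0 : ξ π ≠ 0 := fun h => by
    have h1 : Λ π ⟨x', hxV⟩ = 1 := by
      show ∑ c, π c * algPt (1 : VecGrp.pt k k ⟶ G) (x' c) = 1
      simp only [hx', hxπ]
    have h2 : Λ π = 0 := b.ext fun c => congrFun h c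
    rw [h2] at h1
    exact zero_ne_one h1
  obtain ⟨Fp, hFne, hFinv⟩ := AGF12.Matsushima.exists_invariant hG thmAbiv M
    (fun g g' c d => by simp only [hM, map_mul, LinearMap.toMatrix_mul, Matrix.mul_apply])
    (fun c d => by rw [hM, map_one, LinearMap.toMatrix_one, Matrix.one_apply]) (ξ π) hl hl0
  have hρinv : ∀ (y : VecGrp.pt k k ⟶ H₀) φv,
      MvPolynomial.eval (ξ (Matrix.vecMul φv (ρ y))) Fp = MvPolynomial.eval (ξ φv) Fp := fun y φv => by
    rw [← hFinv (y ≫ j ≫ i) (ξ φv)]
    refine congrArg (fun z => MvPolynomial.eval z Fp) (funext fun d => ?_)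
    rw [hΛR]
    show ∑ c, (∑ e, φv e * ρ y e c) * algPt (1 : VecGrp.pt k k ⟶ G) ((b d).1 c) =
      ∑ e, φv e * algPt (1 : VecGrp.pt k k ⟶ G) ((R (y ≫ j ≫ i) (b d)).1 e)
    simp only [hR, _root_.one_mul, Finset.sum_mul]
    rw [Finset.sum_comm]
    refine Finset.sum_congr rfl fun e _ => ?_
    rw [← (hVP (b d).2).1 y (y ≫ j ≫ i) e, Finset.mul_sum, inv_mul_cancel]
    simp only [_root_.mul_assoc]
  have hξ : ∀ (φv ν : n → k) (r : k), ξ (φv + r • ν) = ξ φv + r • ξ ν := fun φv ν r => funext fun d => by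
    show ∑ c, (φv + r • ν) c * _ = (∑ c, φv c * _) + r * ∑ c, ν c * _
    simp only [Pi.add_apply, Pi.smul_apply, smul_eq_mul, add_mul, Finset.sum_add_distrib, Finset.mul_sum, _root_.mul_assoc]
  have hξ0 : ξ 0 = 0 := funext fun d => by simp [ξ, Λ]
  have hu : ∀ (r : k) (u : VecGrp.pt k k ⟶ U), MvPolynomial.eval (r • ξ (Pi.single c₁ 1) + (r * algPt u (δ c₁)) • ξ π) Fp =
      MvPolynomial.eval (r • ξ (Pi.single c₁ 1)) Fp := fun r u => by
    have e : r • ξ (Pi.single c₁ 1) = ξ (r • Pi.single c₁ 1) := by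
      have h := hξ 0 (Pi.single c₁ 1) r
      rwa [hξ0, zero_add, zero_add, eq_comm] at h
    rw [e, ← hξ]
    have e2 : r • Pi.single c₁ 1 + (r * algPt u (δ c₁)) • π = Matrix.vecMul (r • Pi.single c₁ (1 : k)) (ρ (u ≫ κ)) := funext fun d => by
      rw [Matrix.smul_vecMul, Matrix.single_one_vecMul]
      simp [hδ, Pi.single_apply, eq_comm, mul_add, _root_.mul_assoc]
    rw [e2, hρinv]
  obtain ⟨d₀, hd₀⟩ : ∃ d, π d ≠ 0 := by
    by_contra hc
    push Not at hc
    simp [dotProduct, hc] at ha₀
  have hδ1 : algPt (1 : VecGrp.pt k k ⟶ U) (δ c₁) = (0 : k) := by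
    have h := hδ 1 c₁ d₀
    rw [MonObj.one_comp, map_one, Matrix.one_apply, left_eq_add, mul_eq_zero] at h
    exact h.resolve_right hd₀
  have hinf := infinite_range (δ c₁) 1 u₁ hδ1 hne
  have hline : ∀ r : k, r ≠ 0 → MvPolynomial.eval (ξ π + r • ξ (Pi.single c₁ 1)) Fp =
      MvPolynomial.eval (0 + r • ξ (Pi.single c₁ 1)) Fp := fun r hr => by
    have h := eval_line Fp (r • ξ (Pi.single c₁ 1)) (ξ π) (r • ξ (Pi.single c₁ 1)) 0 _
      (hinf.image (mul_right_injective₀ hr).injOn) (fun s hs => by
        obtain ⟨_, ⟨u, rfl⟩, rfl⟩ := hs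
        rw [smul_zero, add_zero]
        exact hu r u) 1
    rw [one_smul, smul_zero, add_zero, add_comm] at h
    rw [zero_add]
    exact h
  have h := eval_line Fp (ξ π) (ξ (Pi.single c₁ 1)) 0 (ξ (Pi.single c₁ 1)) {r : k | r ≠ 0}
    (Set.finite_singleton (0 : k)).infinite_compl (fun r hr => hline r hr) 0
  rw [zero_smul, add_zero, add_zero] at h
  exact hFne h

end Groth.Agent.S11215

namespace Groth.Agent.S11215

/-- Let k be an algebraically closed field, G a linear algebraic group over k whose identity component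
is reductive, H a closed subgroup of G, and X (with action a and base point o) the quotient G/H.
Assume the following standard results of geometric invariant theory for groups with reductive
identity component, carried as hypotheses: finite generation of invariants on finitely generated
algebras, and that the quotient map of an affine variety by such a group is surjective and separates
disjoint closed invariant subsets. Then X is affine if and only if the identity component of H is
reductive. -/
theorem result (k : Type u) [Field k] [IsAlgClosed k]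
    (G : Over (Spec (CommRingCat.of k))) [GrpObj G] [IsAffine G.left] [Smooth G.hom]
    (H : Over (Spec (CommRingCat.of k))) [GrpObj H] [Smooth H.hom] (i : H ⟶ G) [IsMonHom i]
    [IsClosedImmersion i.left]
    (hG : VecGrp.IsReductiveGrp k G) (thmA : VecGrp.ReductiveInvariantsFG k)
    (thmAbi : AGF.ReductiveQuotSurj k) (thmAbiv : AGF.ReductiveQuotSeparates k)
    (X : Over (Spec (CommRingCat.of k))) (a : AlgGrp.Action G X) (o : 𝟙_ (Over (Spec (CommRingCat.of k))) ⟶ X) (hX : AGF.IsQuotient i X a o) :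
    IsAffine X.left ↔ VecGrp.IsReductiveGrp k H := by
  classical
  haveI : IsAffine H.left := isAffine_of_isAffineHom i.left
  refine ⟨fun hA => ?_, fun hH => ?_⟩
  · haveI := hA
    haveI : Smooth ((⊤ : H.left.Opens).ι ≫ H.hom) := inferInstance
    obtain ⟨W, hW, hWs, -⟩ := SGA3cLib.NeutralSmooth.exists_neutralOpen (G := H) ⊤ (fun _ => trivial)
    obtain ⟨g₀, hg₀⟩ := SGA3cLib.NeutralSmooth.exists_openSubgroup (G := H) W hW
    let H₀ : Over (Spec (CommRingCat.of k)) := Over.mk (W.ι ≫ H.hom)
    let j : H₀ ⟶ H := Over.homMk W.ι rfl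
    letI : GrpObj H₀ := g₀
    haveI : IsMonHom j := hg₀
    haveI : IsOpenImmersion j.left := inferInstanceAs (IsOpenImmersion W.ι)
    haveI : Smooth H₀.hom := hWs
    haveI : IsClosedImmersion j.left := S11194.isClosedImmersion_of_open j
    haveI : IsAffine H₀.left := isAffine_of_isAffineHom j.left
    haveI : ConnectedSpace H₀.left := by
      refine S11196.connectedSpace_of_range j.left ?_
      haveI : Subsingleton ↥(Spec (CommRingCat.of k)) := inferInstanceAs (Subsingleton (PrimeSpectrum k))
      haveI : Subsingleton ↥(𝟙_ (Over (Spec (CommRingCat.of k)))).left := ‹_›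
      obtain ⟨p⟩ : Nonempty ↥(𝟙_ (Over (Spec (CommRingCat.of k)))).left := inferInstanceAs (Nonempty (PrimeSpectrum k))
      rw [show Set.range j.left = SGA3x.neutralSet H from (Scheme.Opens.range_ι W).trans hW,
        SGA3x.neutralSet]
      have e : ∀ q : ↥(𝟙_ (Over (Spec (CommRingCat.of k)))).left,
          connectedComponentIn (H.hom.base ⁻¹' {(𝟙_ (Over (Spec (CommRingCat.of k)))).hom.base q}) (η[H].left.base q) =
            connectedComponent (η[H].left.base p) := fun q => by
        rw [Subsingleton.elim q p, show H.hom.base ⁻¹' {(𝟙_ (Over (Spec (CommRingCat.of k)))).hom.base p} = Set.univ from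
          Set.eq_univ_of_forall fun x => Subsingleton.elim _ _, connectedComponentIn_univ]
      haveI : Nonempty ↥(𝟙_ (Over (Spec (CommRingCat.of k)))).left := ⟨p⟩
      simp only [e, Set.iUnion_const]
      exact isConnected_connectedComponent
    refine ⟨inferInstance, inferInstance, H₀, g₀, j, hg₀, inferInstance, inferInstance, inferInstance, inferInstance, ?_⟩
    intro U _ κ _ hcl hsm hcon hnorm hnt
    haveI := hcl
    haveI := hsm
    haveI := hcon
    haveI : IsAffine U.left := isAffine_of_isAffineHom κ.left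
    by_contra hnon
    obtain ⟨u₀, f, hf⟩ : ∃ (u₀ : VecGrp.pt k k ⟶ U) (f : Γ(H₀.left, ⊤)),
        algPt (u₀ ≫ κ) f ≠ algPt (1 : VecGrp.pt k k ⟶ H₀) f := by
      by_contra hc
      push Not at hc
      haveI : Mono κ := (Over.forget _).mono_of_mono_map (show Mono κ.left from inferInstance)
      have h1 : ∀ t : VecGrp.pt k k ⟶ U, t = 1 := fun t => (cancel_mono κ).1 (by
        rw [MonObj.one_comp]
        exact pt_eq _ _ (hc t))
      letI := gAlg U
      have hb : Function.Bijective (U.hom.appTop) := by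
        haveI : Nontrivial Γ(U.left, ⊤) := (algPt (1 : VecGrp.pt k k ⟶ U)).domain_nontrivial
        have h2 : Function.Bijective (algebraMap k Γ(U.left, ⊤)) := ⟨(algebraMap k Γ(U.left, ⊤)).injective, fun g =>
          ⟨algPt (1 : VecGrp.pt k k ⟶ U) g, AGF12.Matsushima.ext_pts fun t => by
            rw [h1 t]; exact AGF12.algPt_appTop_hom _ _⟩⟩
        have h3 : Function.Bijective (U.hom.appTop ∘ (Scheme.ΓSpecIso (CommRingCat.of k)).inv) := h2
        exact (Function.Bijective.of_comp_iff _ (ConcreteCategory.bijective_of_isIso (Scheme.ΓSpecIso (CommRingCat.of k)).inv)).1 h3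
      haveI : IsIso U.hom.appTop := (ConcreteCategory.isIso_iff_bijective _).2 hb
      apply hnon
      show IsIso U.hom
      rw [show U.hom = U.left.isoSpec.hom ≫ Spec.map U.hom.appTop ≫ (Spec (CommRingCat.of k)).isoSpec.inv by
        rw [Scheme.isoSpec_hom_naturality_assoc, Iso.hom_inv_id, Category.comp_id]]
      infer_instance
    obtain ⟨n, _, _, ρ, F, π, a₀, δ, hF, hπ, ha₀, hδ, u₁, c₁, hne⟩ :=
      AGF12.Matsushima.exists_matrix_rep hnt κ hnorm f u₀ hf
    exact false_of_rep hG thmAbiv j hX κ ρ F hF π a₀ hπ ha₀ δ hδ u₁ c₁ hne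
  · exact (Groth.Agent.S11213.result k G H i hH thmA thmAbi thmAbiv X a o hX).2

end Groth.Agent.S11215
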