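import Groth.Statements.S11216
import Groth.Agent.AGF12.Inverse
import Groth.Agent.S11219
import Groth.Agent.CommAlg4.GModStable
import Mathlib.RingTheory.Spectrum.Prime.Chevalley
import Mathlib.RingTheory.Ideal.KrullsHeightTheorem
import Mathlib.RingTheory.Jacobson.Ring
-- import your own Groth.Agent.* helpers here

set_option autoImplicit false
set_option backward.isDefEq.respectTransparency false
set_option backward.isDefEq.respectTransparency.types false
open Groth.Agent.CommAlg4.AffPt Groth.Agent Groth.Agent.AGF12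
universe u
open CategoryTheory MonoidalCategory CartesianMonoidalCategory MonObj GrpObj AlgebraicGeometry
open scoped TensorProduct
open AGF

namespace Groth.Agent.S11216

/-- Primes of height at most one lift, when a non-zero-divisor quotient of invariants is invariant. -/
theorem exists_lift_of_height_le {R S : Type u} [CommRing R] [CommRing S] [IsNoetherianRing R] [_root_.IsReduced R]
    (f : R →+* S) (hf : Function.Injective f)
    (hdiv : ∀ b : R, (∀ c, b * c = 0 → c = 0) → ∀ a : S, (∃ r, f b * a = f r) → ∃ r', a = f r')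
    (p : Ideal R) [hp : p.IsPrime] (hh : p.height < 2) : ∃ q : Ideal S, q.IsPrime ∧ q.comap f = p := by
  classical
  by_cases hmin : p ∈ minimalPrimes R
  · exact Ideal.exists_comap_eq_of_mem_minimalPrimes_of_injective hf p hmin
  have hfin : (minimalPrimes R).Finite := minimalPrimes.finite_of_isNoetherianRing R
  obtain ⟨b, hbp, hb⟩ : ∃ b ∈ p, ∀ Q ∈ minimalPrimes R, b ∉ Q := by
    by_contra hc
    push_neg at hc
    have hsub : (p : Set R) ⊆ ⋃ Q ∈ (↑hfin.toFinset : Set (Ideal R)), (Q : Set R) := fun x hx => by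
      obtain ⟨Q, hQ, hxQ⟩ := hc x hx
      exact Set.mem_biUnion (by simpa using hQ) hxQ
    obtain ⟨Q, hQ, hle⟩ := (Ideal.subset_union_prime (f := fun Q => Q) p p fun Q hQ _ _ =>
      (hfin.mem_toFinset.1 hQ).1.1).1 hsub
    have hQ' := hfin.mem_toFinset.1 hQ
    exact hmin ((le_antisymm hle (hQ'.2 ⟨hp, bot_le⟩ hle)).symm ▸ hQ')
  have hnzd : ∀ c, b * c = 0 → c = 0 := fun c hc => by
    have h1 : c ∈ sInf (⊥ : Ideal R).minimalPrimes := Ideal.mem_sInf.2 fun {Q} hQ =>
      (hQ.1.1.mem_or_mem (hc ▸ Q.zero_mem)).resolve_left (hb Q hQ)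
    rw [Ideal.sInf_minimalPrimes] at h1
    simpa [Ideal.mem_radical_iff] using h1
  let J := Ideal.span ({b} : Set R)
  have hpJ : p ∈ J.minimalPrimes := by
    refine ⟨⟨hp, (Ideal.span_singleton_le_iff_mem p).2 hbp⟩, fun Q hQ hle => ?_⟩
    by_contra hne
    haveI := hQ.1
    have hlt : Q < p := lt_of_le_of_ne hle fun h => hne h.ge
    haveI : p.FiniteHeight := p.finiteHeight_iff.mpr (Or.inr (hh.trans_le le_top).ne)
    have h1 : Q.height < 1 := by
      have := Ideal.height_strict_mono_of_isPrime_of_isPrime hlt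
      exact this.trans_le (by
        have h2 : p.height ≤ 1 := Order.le_of_lt_add_one (by simpa [one_add_one_eq_two] using hh)
        exact h2)
    exact hb Q (Ideal.height_eq_zero_iff.1 (ENat.lt_one_iff_eq_zero.1 h1)) (hQ.2 (Ideal.mem_span_singleton_self b))
  let others := (J.finite_minimalPrimes_of_isNoetherianRing).toFinset.erase p
  have hout : ∀ Q ∈ others, ∃ x ∈ Q, x ∉ p := fun Q hQ => by
    obtain ⟨hne, hQm⟩ := Finset.mem_erase.1 hQ
    rw [Set.Finite.mem_toFinset] at hQm
    exact SetLike.not_le_iff_exists.1 fun hle => hne (le_antisymm hle (hpJ.2 hQm.1 hle))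
  choose! g hgQ hgp using hout
  let s₁ := ∏ Q ∈ others, g Q
  have hs₁ : s₁ ∉ p := fun h => by
    obtain ⟨Q, hQ, hQ'⟩ := Ideal.IsPrime.prod_mem_iff.1 h
    exact hgp Q hQ hQ'
  have hrad : Ideal.span ({s₁} : Set R) * p ≤ J.radical := by
    rw [Ideal.span_singleton_mul_le_iff]
    intro x hx
    rw [← Ideal.sInf_minimalPrimes]
    refine Ideal.mem_sInf.2 fun {Q} hQ => ?_
    by_cases hQp : Q = p
    · rw [hQp]; exact p.mul_mem_left _ hx
    · have hQ' : Q ∈ others := Finset.mem_erase.2 ⟨hQp, (Set.Finite.mem_toFinset _).2 hQ⟩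
      exact Q.mul_mem_right _ (Ideal.prod_mem _ hQ' (hgQ Q hQ'))
  obtain ⟨n, hn⟩ := Ideal.exists_pow_le_of_le_radical_of_fg hrad (IsNoetherian.noetherian _)
  rw [← Ideal.comap_map_eq_self_iff_of_isPrime]
  refine le_antisymm (fun s hs => ?_) Ideal.le_comap_map
  by_contra hsp
  have hs' : f s ∈ p.map f := hs
  have h1 : f (s₁ ^ n * s ^ n) ∈ J.map f := by
    refine Ideal.map_mono hn ?_
    rw [mul_pow, Ideal.map_mul, map_mul, map_pow, map_pow, Ideal.map_pow, Ideal.map_pow]
    exact Ideal.mul_mem_mul (Ideal.pow_mem_pow (Ideal.mem_map_of_mem f (Ideal.mem_span_singleton_self s₁)) n)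
      (Ideal.pow_mem_pow hs' n)
  rw [Ideal.map_span, Set.image_singleton, Ideal.mem_span_singleton'] at h1
  obtain ⟨a, ha⟩ := h1
  obtain ⟨r, rfl⟩ := hdiv b hnzd a ⟨_, (mul_comm _ a).trans ha⟩
  have h2 : r * b = s₁ ^ n * s ^ n := hf (by rw [map_mul, ha])
  have h3 : s₁ ^ n * s ^ n ∈ p := h2 ▸ p.mul_mem_left r hbp
  rcases hp.mem_or_mem h3 with h | h
  · exact hs₁ (hp.mem_of_pow_mem n h)
  · exact hsp (hp.mem_of_pow_mem n h)

theorem invariant_iff_zero {k : Type u} [Field k] {G H : Over (Spec (CommRingCat.of k))} [GrpObj G] (i : H ⟶ G)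
    (a : Γ(G.left, ⊤)) : AGF.IsRTransInv i a ↔ ((G ◁ i) ≫ μ[G]).left.appTop a - (fst G H).left.appTop a = 0 :=
  sub_eq_zero.symm

theorem lid_regular_apply {k : Type u} [Field k] {G : Over (Spec (CommRingCat.of k))} [GrpObj G] [IsAffine G.left]
    (uG : letI := gAlg G; VecGrp.pt k Γ(G.left, ⊤) ⟶ G) (hu : letI := gAlg G; ∀ x, algPt uG x = x)
    (ρ : letI := gAlg G; VecGrp.GMod G Γ(G.left, ⊤))
    (hρ : letI := gAlg G; ∀ (B : Type u) [CommRing B] [Algebra k B] (t : VecGrp.pt k B ⟶ G) (f : Γ(G.left, ⊤)),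
        ρ.ρ B t ((1 : B) ⊗ₜ[k] f) =
          algPt ((VecGrp.ptMap (Algebra.TensorProduct.includeRight : Γ(G.left, ⊤) →ₐ[k] B ⊗[k] Γ(G.left, ⊤)) ≫ uG) *
            (VecGrp.ptMap (Algebra.TensorProduct.includeLeft : B →ₐ[k] B ⊗[k] Γ(G.left, ⊤)) ≫ t)) f)
    (g : VecGrp.pt k k ⟶ G) (x : Γ(G.left, ⊤)) (t : VecGrp.pt k k ⟶ G) :
    letI := gAlg G
    algPt t (TensorProduct.lid k Γ(G.left, ⊤) (ρ.ρ k g ((1 : k) ⊗ₜ[k] x))) = algPt (t * g) x := by
  letI := gAlg G
  obtain ⟨φ, hφ⟩ := exists_algHom t
  let ψ : k ⊗[k] Γ(G.left, ⊤) →ₐ[k] k := Algebra.TensorProduct.productMap (AlgHom.id k k) φ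
  have key : ∀ z : k ⊗[k] Γ(G.left, ⊤), ψ z = φ (TensorProduct.lid k Γ(G.left, ⊤) z) := fun z => by
    induction z using TensorProduct.induction_on with
    | zero => simp
    | tmul a y => simp [ψ]
    | add a b ha hb => rw [map_add, map_add, map_add, ha, hb]
  rw [← hφ, ← key, hρ, ← algPt_ptMap ψ, MonObj.comp_mul]
  refine congrArg (fun z => algPt z x) (congrArg₂ (fun a b => a * b) ?_ ?_)
  · exact pt_eq _ _ fun y => by rw [algPt_ptMap, algPt_ptMap, hu, ← hφ]; simp [ψ]
  · exact pt_eq _ _ fun y => by rw [algPt_ptMap, algPt_ptMap]; simp [ψ]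

end Groth.Agent.S11216

namespace Groth.Agent.S11216

/-- (b) ⇒ (i): let k be an algebraically closed field, G a linear algebraic group over k (an affine
smooth group scheme over k) and H a closed subgroup of G (a smooth closed subgroup scheme, i : H →
G), with H observable in G and k[G]^H finitely generated over the constants; let X = Spec k[G]^H and
φ : G → X the morphism given by the inclusion k[G]^H ⊆ k[G]. Then the image of φ (the orbit of the
base point) is open in X and every point of X outside the image has codimension at least 2 (its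
prime ideal has height ≥ 2). (The published statement also asserts that G/H maps isomorphically onto
the image, and that finite generation is equivalent to an orbit-closure condition in a
representation; neither is stated here.) -/
theorem result (k : Type u) [Field k] [IsAlgClosed k]
    (G : Over (Spec (CommRingCat.of k))) [GrpObj G] [IsAffine G.left] [Smooth G.hom]
    (H : Over (Spec (CommRingCat.of k))) [GrpObj H] [Smooth H.hom] (i : H ⟶ G) [IsMonHom i]
    [IsClosedImmersion i.left]
    (hobs : AGF.IsObservableIn k i) (hfg : AGF.SubringFGOver k G (AGF.rTransInv i)) :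
    IsOpen (Set.range ⇑(G.left.toSpecΓ ≫ Spec.map (CommRingCat.ofHom (AGF.rTransInv i).subtype)).base) ∧
      ∀ x : ↥(Spec (CommRingCat.of ↥(AGF.rTransInv i))),
        x ∉ Set.range ⇑(G.left.toSpecΓ ≫ Spec.map (CommRingCat.ofHom (AGF.rTransInv i).subtype)).base →
          (2 : ℕ∞) ≤ x.asIdeal.height := by
  classical
  haveI : IsAffine H.left := isAffine_of_isAffineHom i.left
  haveI : AlgebraicGeometry.IsReduced G.left := WeilLib.isReduced_of_smooth G.hom
  haveI : AlgebraicGeometry.IsReduced H.left := WeilLib.isReduced_of_smooth H.hom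
  letI := gAlg G
  haveI hSft : Algebra.FiniteType k Γ(G.left, ⊤) := by
    have h1 : G.hom.appTop.hom.FiniteType := HasRingHomProperty.appTop (P := @LocallyOfFiniteType) G.hom inferInstance
    exact h1.comp (RingHom.FiniteType.of_surjective _
      (ConcreteCategory.bijective_of_isIso (Scheme.ΓSpecIso (CommRingCat.of k)).inv).surjective)
  haveI : _root_.IsReduced Γ(G.left, ⊤) := inferInstance
  let R := AGF.rTransInv i
  have hmem : ∀ x, x ∈ R ↔ AGF.IsRTransInv i x := fun x => Iff.rfl
  let f : R →+* Γ(G.left, ⊤) := R.subtype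
  have hfinj : Function.Injective f := Subtype.val_injective
  have hconst : ∀ c : k, algebraMap k Γ(G.left, ⊤) c ∈ R := fun c => invariant_of_semi i _ fun B _ _ t h => by
    rw [map_one, _root_.mul_one]
    exact (algPt_appTop_hom _ _).trans (algPt_appTop_hom _ _).symm
  letI : Algebra k R := ((algebraMap k Γ(G.left, ⊤)).codRestrict R hconst).toAlgebra
  letI : Algebra R Γ(G.left, ⊤) := f.toAlgebra
  haveI : IsScalarTower k R Γ(G.left, ⊤) := IsScalarTower.of_algebraMap_eq' rfl
  haveI hRft : Algebra.FiniteType k R := by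
    obtain ⟨s, hs, hle⟩ := hfg
    refine ⟨⟨s.attach.image fun x => (⟨x.1, hs x.2⟩ : R), eq_top_iff.2 fun y _ => ?_⟩⟩
    let A' := Algebra.adjoin k ((s.attach.image fun x => (⟨x.1, hs x.2⟩ : R)) : Set R)
    have h1 : (y : Γ(G.left, ⊤)) ∈ A'.toSubring.map f := by
      refine (Subring.closure_le (t := A'.toSubring.map f)).2 ?_ (hle y.2)
      rintro z (⟨c, rfl⟩ | hz)
      · exact ⟨algebraMap k R c, A'.algebraMap_mem c, rfl⟩
      · refine ⟨⟨z, hs hz⟩, Algebra.subset_adjoin ?_, rfl⟩
        exact Finset.mem_image.2 ⟨⟨z, hz⟩, Finset.mem_attach _ _, rfl⟩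
    obtain ⟨z, hz, hzy⟩ := h1
    exact (hfinj hzy) ▸ hz
  haveI : IsNoetherianRing R := Algebra.FiniteType.isNoetherianRing k R
  haveI : _root_.IsReduced R := isReduced_of_injective f hfinj
  have hrange : Set.range ⇑(G.left.toSpecΓ ≫ Spec.map (CommRingCat.ofHom (AGF.rTransInv i).subtype)).base =
      Set.range (PrimeSpectrum.comap f) := by
    rw [Scheme.Hom.comp_base, TopCat.coe_comp, Set.range_comp]
    rw [show Set.range ⇑G.left.toSpecΓ.base = Set.univ from Set.range_eq_univ.2 G.left.toSpecΓ.surjective, Set.image_univ]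
    rfl
  refine ⟨?_, fun x hx => ?_⟩
  · rw [hrange]
    set C := Set.range (PrimeSpectrum.comap f) with hC
    change IsOpen (C : Set (PrimeSpectrum R))
    have hCc : Topology.IsConstructible C := by
      rw [hC, ← Set.image_univ]
      refine PrimeSpectrum.isConstructible_comap_image ?_ Topology.IsConstructible.univ
      haveI : Algebra.FiniteType R Γ(G.left, ⊤) := Algebra.FiniteType.of_restrictScalars_finiteType k R Γ(G.left, ⊤)
      exact RingHom.finitePresentation_algebraMap.2 (Algebra.FinitePresentation.of_finiteType.1 inferInstance)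
    have hdense : closure C = Set.univ :=
      (PrimeSpectrum.denseRange_comap_iff_ker_le_nilRadical (f := f)).2
        (((RingHom.injective_iff_ker_eq_bot f).1 hfinj).le.trans bot_le) |>.closure_range
    haveI : Nontrivial Γ(G.left, ⊤) :=
      (exists_algHom (1 : VecGrp.pt k k ⟶ G)).choose.toRingHom.domain_nontrivial
    obtain ⟨n, L, hL, hLC⟩ := H8Top.IsFinUnionLC.of_isConstructible hCc
    obtain ⟨U, hU, hUne, hUsub⟩ := AlgGrpLib.OrbitLC.exists_open_inter_closure_subset n L hL
      (hLC ▸ Set.range_nonempty (PrimeSpectrum.comap f))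
    rw [← hLC, hdense, Set.inter_univ] at hUne hUsub
    -- translations
    choose τ hτ using fun g : VecGrp.pt k k ⟶ G =>
      exists_algHom ((VecGrp.ptMap (Algebra.ofId k Γ(G.left, ⊤)) ≫ g) * (exists_univ_pt G).choose)
    have hu := (exists_univ_pt G).choose_spec
    have hτpt : ∀ g t x, algPt t (τ g x) = algPt (g * t) x := fun g t x => by
      obtain ⟨φ, hφ⟩ := exists_algHom t
      rw [← hφ, hτ, ← algPt_ptMap φ, MonObj.comp_mul]
      refine congrArg (fun z => algPt z x) (congrArg₂ (fun a b => a * b) (pt_eq _ _ fun y => ?_) (pt_eq _ _ fun y => ?_))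
      · rw [algPt_ptMap, algPt_ptMap]; exact φ.commutes _
      · rw [algPt_ptMap, hu, hφ]
    have hτR : ∀ g, ∀ x ∈ R, τ g x ∈ R := fun g x hx => invariant_of_semi i _ (semi_of_pts fun t h => by
      rw [map_one, _root_.mul_one, hτpt, hτpt, ← _root_.mul_assoc, S11234.algPt_mul_of_invariant i x hx])
    let lam : (VecGrp.pt k k ⟶ G) → (R →+* R) := fun g => (τ g).toRingHom.restrict R R (hτR g)
    have hlam : ∀ a b y, PrimeSpectrum.comap (lam a) (PrimeSpectrum.comap (lam b) y) = PrimeSpectrum.comap ((lam b).comp (lam a)) y :=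
      fun a b y => rfl
    have hlam1 : ∀ g, (lam g).comp (lam g⁻¹) = RingHom.id R := fun g => RingHom.ext fun x => Subtype.ext <| by
      refine sub_eq_zero.1 (S11188.eq_zero_of_pts G _ fun t => ?_)
      show algPt t (τ g (τ g⁻¹ (x : Γ(G.left, ⊤))) - (x : Γ(G.left, ⊤))) = 0
      rw [map_sub, hτpt, hτpt, inv_mul_cancel_left, sub_self]
    let W : Set (PrimeSpectrum R) := ⋃ g, PrimeSpectrum.comap (lam g) ⁻¹' U
    have hWopen : IsOpen W := isOpen_iUnion fun g => hU.preimage (PrimeSpectrum.continuous_comap _)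
    have hWC : W ⊆ C := fun y hy => by
      obtain ⟨g, hg⟩ := Set.mem_iUnion.1 hy
      obtain ⟨q, hq⟩ := hUsub hg
      refine ⟨PrimeSpectrum.comap (τ g⁻¹).toRingHom q, ?_⟩
      show PrimeSpectrum.comap (lam g⁻¹) (PrimeSpectrum.comap f q) = y
      rw [hq, hlam, hlam1]
      rfl
    suffices C ⊆ W by rw [Set.Subset.antisymm this hWC]; exact hWopen
    haveI : IsJacobsonRing R := isJacobsonRing_of_finiteType (A := k)
    have hpt : ∀ (S' : Set (PrimeSpectrum R)), Topology.IsConstructible S' → S' ⊆ C → S'.Nonempty →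
        ∃ (y : PrimeSpectrum R) (t : VecGrp.pt k k ⟶ G) (m : PrimeSpectrum Γ(G.left, ⊤)),
          y ∈ S' ∧ PrimeSpectrum.comap f m = y ∧ ∀ x, x ∈ m.asIdeal ↔ algPt t x = 0 := by
      intro S' hS' hsub hne
      obtain ⟨y, hy, hycl⟩ := exists_closedPoint_mem hS' hne
      obtain ⟨q, hq⟩ := hsub hy
      obtain ⟨m, hm, hle⟩ := Ideal.exists_le_maximal q.asIdeal q.isPrime.ne_top
      haveI := hm
      obtain ⟨χ, hχ⟩ := exists_algHom_of_isMaximal (k := k) m
      refine ⟨y, VecGrp.ptMap χ ≫ (exists_univ_pt G).choose, ⟨m, hm.isPrime⟩, hy, ?_, fun x => ?_⟩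
      · have hmax := (PrimeSpectrum.isClosed_singleton_iff_isMaximal y).1 hycl
        refine PrimeSpectrum.ext (hmax.eq_of_le (Ideal.comap_ne_top _ hm.ne_top) ?_).symm
        rw [← hq]
        exact Ideal.comap_mono hle
      · rw [algPt_ptMap, hu]
        exact (hχ x).symm
    obtain ⟨y₀, t₀, m₀, hy₀, hfy₀, hm₀⟩ := hpt U (H8Top.isConstructible_of_isOpen hU) hUsub hUne
    by_contra hnot
    obtain ⟨y, t, m, ⟨hyC, hyW⟩, hfy, hm⟩ := hpt (C \ W)
      (hCc.sdiff (H8Top.isConstructible_of_isOpen hWopen)) Set.diff_subset (Set.diff_nonempty.2 hnot)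
    refine hyW (Set.mem_iUnion.2 ⟨t₀ * t⁻¹, ?_⟩)
    show PrimeSpectrum.comap (lam (t₀ * t⁻¹)) y ∈ U
    have he : PrimeSpectrum.comap (τ (t₀ * t⁻¹)).toRingHom m = m₀ := PrimeSpectrum.ext (Ideal.ext fun x => by
      rw [hm₀]
      show τ (t₀ * t⁻¹) x ∈ m.asIdeal ↔ _
      rw [hm, hτpt, inv_mul_cancel_right])
    rw [← hfy, show PrimeSpectrum.comap (lam (t₀ * t⁻¹)) (PrimeSpectrum.comap f m) =
      PrimeSpectrum.comap f (PrimeSpectrum.comap (τ (t₀ * t⁻¹)).toRingHom m) from rfl, he, hfy₀]
    exact hy₀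
  · by_contra hh
    rw [not_le] at hh
    refine hx ?_
    rw [hrange]
    have hdiv : ∀ b : R, (∀ c, b * c = 0 → c = 0) → ∀ a : Γ(G.left, ⊤), (∃ r, f b * a = f r) → ∃ r', a = f r' := by
      intro b hb a ⟨r, hr⟩
      obtain ⟨uG, ρ, huG, hρ⟩ := S11234.exists_regular G
      have hbS : ∀ z : Γ(G.left, ⊤), f b * z = 0 → z = 0 := by
        intro z hz
        by_contra hz0
        obtain ⟨N, hzN, hN, hst⟩ := Groth.Agent.CommAlg4.GModStab.exists_stable_of_noetherian ρ
          (Submodule.span k {z}) (Submodule.fg_span (Set.finite_singleton z))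
        haveI : Module.Finite k N := Module.Finite.iff_fg.2 hN
        let I : Ideal Γ(G.left, ⊤) := Submodule.colon (⊥ : Ideal Γ(G.left, ⊤)) {f b}
        have hI : ∀ w, w ∈ I ↔ w * f b = 0 := fun w => by
          simp [I, Submodule.mem_colon]
        haveI : Module.Finite k ↥(N ⊓ I.restrictScalars k) :=
          Module.Finite.of_injective (Submodule.inclusion (inf_le_left : N ⊓ I.restrictScalars k ≤ N)) (Submodule.inclusion_injective _)
        obtain ⟨D, c, hDI, hD0, hD⟩ := Groth.Agent.S11219.exists_semi_det i (N ⊓ I.restrictScalars k) I (fun w hw => hw.2)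
          ⟨z, ⟨hzN (Submodule.subset_span rfl), (hI z).2 (by rw [mul_comm]; exact hz)⟩, hz0⟩ fun h w hw => by
            refine ⟨TensorProduct.lid k _ (ρ.ρ k (h ≫ i) ((1 : k) ⊗ₜ[k] w)), ⟨?_, (hI _).2 ?_⟩, ?_⟩
            · obtain ⟨v, hv⟩ := hst k (h ≫ i) w hw.1
              rw [← hv]
              clear hv
              induction v using TensorProduct.induction_on with
              | zero => simp
              | tmul p y => simpa using N.smul_mem p y.2
              | add p q hp hq => rw [map_add, map_add]; exact N.add_mem hp hq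
            rotate_left
            · exact fun t => lid_regular_apply uG huG ρ hρ (h ≫ i) w t
            · refine S11188.eq_zero_of_pts G _ fun t => ?_
              rw [map_mul, lid_regular_apply uG huG ρ hρ, ← S11234.algPt_mul_of_invariant i (f b) b.2 t h, ← map_mul,
                (hI w).1 hw.2, map_zero]
        obtain ⟨s, hs⟩ : ∃ s : VecGrp.pt k k ⟶ G, algPt s D ≠ 0 := by
          by_contra hc
          push_neg at hc
          exact hD0 (S11188.eq_zero_of_pts G D hc)
        obtain ⟨D₁, hD₁, hD₁1⟩ := hD.exists_normalised hD0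
        obtain ⟨f', c', hc', hf', hf'1⟩ := exists_inverse hobs hD₁ hD₁1
        obtain ⟨σ, hσ⟩ := exists_leftTranslate G s⁻¹
        have hinv : AGF.IsRTransInv i (D * σ f') := invariant_of_semi i _ (by
          have h := hD.mul (hf'.translate hσ)
          rwa [show c * c' = 1 by rw [mul_comm, hc']] at h)
        have h0 : (⟨D * σ f', hinv⟩ : R) = 0 := hb _ (hfinj (by
          rw [map_mul, map_zero]
          show f b * (D * σ f') = 0
          rw [← _root_.mul_assoc, mul_comm (f b), (hI D).1 hDI, zero_mul]))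
        have h1 := congrArg (fun w : R => algPt s (w : Γ(G.left, ⊤))) h0
        simp only [map_mul, ZeroMemClass.coe_zero, map_zero] at h1
        rw [hσ k s f', show VecGrp.ptMap (Algebra.ofId k k) ≫ s⁻¹ = s⁻¹ from pt_eq _ _ fun y => by rw [algPt_ptMap]; rfl,
          inv_mul_cancel, hf'1, _root_.mul_one] at h1
        exact hs h1
      have hainv : AGF.IsRTransInv i a := by
        have e1 : ((G ◁ i) ≫ μ[G]).left.appTop a = (fst G H).left.appTop a := by
          refine sub_eq_zero.1 ?_
          haveI : IsAffine (G ⊗ H).left := by rw [Over.tensorObj_left]; infer_instance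
          haveI : Smooth (G ⊗ H).hom := by
            rw [Over.tensorObj_hom]
            haveI : Smooth (Limits.pullback.fst G.hom H.hom) := MorphismProperty.pullback_fst (P := @Smooth) _ _ inferInstance
            infer_instance
          haveI : AlgebraicGeometry.IsReduced (G ⊗ H).left := WeilLib.isReduced_of_smooth (G ⊗ H).hom
          exact (invariant_iff_zero i a).1 (invariant_of_semi i a (semi_of_pts fun t h => by
            rw [map_one, _root_.mul_one]
            have key : algPt t (TensorProduct.lid k _ (ρ.ρ k (h ≫ i) ((1 : k) ⊗ₜ[k] a))) = algPt t a := by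
              refine congrArg (algPt t) (sub_eq_zero.1 (hbS _ (S11188.eq_zero_of_pts G _ fun s => ?_)))
              have h2 : algPt (s * (h ≫ i)) (f b * a) = algPt s (f b * a) := by
                rw [hr]; exact S11234.algPt_mul_of_invariant i (f r) r.2 s h
              rw [map_mul, map_mul, S11234.algPt_mul_of_invariant i (f b) b.2 s h] at h2
              rw [map_mul, map_sub, lid_regular_apply uG huG ρ hρ, mul_sub, h2, sub_self]
            rwa [lid_regular_apply uG huG ρ hρ] at key))
        exact e1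
      exact ⟨⟨a, hainv⟩, rfl⟩
    obtain ⟨q, hq, hqx⟩ := exists_lift_of_height_le f hfinj hdiv x.asIdeal hh
    exact ⟨⟨q, hq⟩, PrimeSpectrum.ext hqx⟩

end Groth.Agent.S11216
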