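import Groth.Statements.S11217
import Mathlib
-- import your own Groth.Agent.* helpers here

set_option autoImplicit false
universe u
open CategoryTheory MonoidalCategory CartesianMonoidalCategory MonObj GrpObj AlgebraicGeometry
open scoped TensorProduct
open AGF

namespace Groth.Agent.S11217

/-- Let k be a field of characteristic zero and m ≥ 2; in the polynomial ring k[x, y, z, s, t, u, v]
(variables 0, …, 6) let δ be the k-derivation with δ(x) = δ(y) = δ(z) = 0, δ(s) = x^(m+1), δ(t) =
y^(m+1), δ(u) = z^(m+1), δ(v) = (xyz)^m, and grade by total degree in s, t, u, v. If f is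
homogeneous of degree n ≥ 1 for this grading and δ(f) = 0, then every coefficient of f, as a
polynomial in s, t, u, v over k[x, y, z], lies in the ideal (x, y, z): every monomial of f has
positive degree in x, y, z. (The published statement allows n = 0, where the constant 1 is a
counterexample; this row assumes n ≥ 1. The published definition of the derivation gives δ(v) =
(xyz)^(m+1), for which the assertion fails: v − (yz)^(m+1)·s is killed by δ and has the monomial v
with coefficient 1; this row uses δ(v) = (xyz)^m, the exponent of the published action formula and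
of the published examples of invariants.) -/
theorem result (k : Type u) [Field k] [CharZero k] (m : ℕ) (hm : 2 ≤ m) (n : ℕ) (hn : 1 ≤ n)
    (f : MvPolynomial (Fin 7) k)
    (hf : MvPolynomial.IsWeightedHomogeneous (![0, 0, 0, 1, 1, 1, 1] : Fin 7 → ℕ) f n)
    (hδ : MvPolynomial.mkDerivation k
      (![0, 0, 0, MvPolynomial.X 0 ^ (m + 1), MvPolynomial.X 1 ^ (m + 1), MvPolynomial.X 2 ^ (m + 1),
        (MvPolynomial.X 0 * MvPolynomial.X 1 * MvPolynomial.X 2) ^ m] : Fin 7 → MvPolynomial (Fin 7) k) f = 0) :
    ∀ d ∈ f.support, 0 < d 0 + d 1 + d 2 := by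
  classical
  intro d hd
  by_contra h0
  have hc := MvPolynomial.mem_support_iff.1 hd
  let e : Fin 7 → (Fin 7 →₀ ℕ) := ![0, 0, 0, Finsupp.single 0 (m + 1), Finsupp.single 1 (m + 1),
    Finsupp.single 2 (m + 1), Finsupp.single 0 m + Finsupp.single 1 m + Finsupp.single 2 m]
  let gs : Fin 7 → MvPolynomial (Fin 7) k := ![0, 0, 0, MvPolynomial.X 0 ^ (m + 1), MvPolynomial.X 1 ^ (m + 1), MvPolynomial.X 2 ^ (m + 1),
        (MvPolynomial.X 0 * MvPolynomial.X 1 * MvPolynomial.X 2) ^ m]
  have hD : MvPolynomial.mkDerivation k gs = ∑ i, gs i • MvPolynomial.pderiv i := by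
    refine MvPolynomial.derivation_ext fun j => ?_
    rw [MvPolynomial.mkDerivation_X, ← Derivation.coeFnAddMonoidHom_apply, map_sum, Finset.sum_apply]
    rw [Finset.sum_eq_single j]
    · simp
    · intro b _ hb
      simp [MvPolynomial.pderiv_X, Pi.single_eq_of_ne hb.symm]
    · simp
  have happ : ∀ x, (∑ i, gs i • MvPolynomial.pderiv (R := k) i) x = ∑ i, gs i • MvPolynomial.pderiv (R := k) i x := by
    intro x
    rw [← Derivation.coeFnAddMonoidHom_apply, map_sum, Finset.sum_apply]
    rfl
  have hgs : ∀ i : Fin 7, 3 ≤ (i : ℕ) → gs i = MvPolynomial.monomial (e i) 1 := by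
    intro i hi
    fin_cases i <;> simp at hi <;>
      simp [gs, e, MvPolynomial.X_pow_eq_monomial, mul_pow, MvPolynomial.monomial_mul]
  have hw : Finsupp.weight (![0, 0, 0, 1, 1, 1, 1] : Fin 7 → ℕ) d = n := hf hc
  obtain ⟨i, hi, hdi⟩ : ∃ i : Fin 7, 3 ≤ (i : ℕ) ∧ 0 < d i := by
    by_contra h
    push Not at h
    rw [Finsupp.weight_apply, Finsupp.sum_fintype _ _ (fun _ => by simp)] at hw
    have h3 := h 3 (by simp); have h4 := h 4 (by simp); have h5 := h 5 (by simp); have h6 := h 6 (by simp)
    simp [Fin.sum_univ_succ] at hw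
    omega
  let t := d - Finsupp.single i 1 + e i
  have hti : d - Finsupp.single i 1 + Finsupp.single i 1 = d := by
    refine tsub_add_cancel_of_le ?_
    rw [Finsupp.single_le_iff]
    omega
  have := congrArg (MvPolynomial.coeff t) hδ
  rw [show MvPolynomial.mkDerivation k _ = _ from hD, happ, MvPolynomial.coeff_sum,
    MvPolynomial.coeff_zero, Finset.sum_eq_single i] at this
  · rw [smul_eq_mul, hgs i hi, show t = e i + (d - Finsupp.single i 1) from add_comm _ _, MvPolynomial.coeff_monomial_mul] at this
    simp only [MvPolynomial.coeff_pderiv, hti, one_mul] at this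
    have hne : (((d - Finsupp.single i 1 : Fin 7 →₀ ℕ) i + 1 : ℕ) : k) ≠ 0 := Nat.cast_ne_zero.2 (Nat.succ_ne_zero _)
    push_cast at hne
    rw [Finsupp.coe_tsub] at this
    simp only [mul_eq_zero, hc, false_or, or_false, hne, one_ne_zero] at this
  · intro j _ hj
    rw [smul_eq_mul]
    by_cases hj3 : 3 ≤ (j : ℕ)
    · rw [hgs j hj3, MvPolynomial.coeff_monomial_mul', if_neg]
      intro hle
      have l0 := hle 0; have l1 := hle 1; have l2 := hle 2
      simp only [t, Finsupp.add_apply, Finsupp.tsub_apply] at l0 l1 l2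
      fin_cases i <;> simp at hi <;> fin_cases j <;> simp at hj3 hj <;> simp [e, Finsupp.single_apply] at l0 l1 l2 <;> omega
    · have : gs j = 0 := by fin_cases j <;> simp at hj3 <;> simp [gs]
      simp [this]
  · simp

end Groth.Agent.S11217
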