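import Groth.Statements.S11218
import Groth.Agent.AlgGrpLib.OrbitLC
import Groth.Agent.AlgGrpLib.OpenOrbit
-- import your own Groth.Agent.* helpers here

set_option autoImplicit false
set_option backward.isDefEq.respectTransparency false
set_option backward.isDefEq.respectTransparency.types false
open Groth.Agent.SGA3cLib Groth.Agent.AlgGrpLib
universe u
open CategoryTheory MonoidalCategory CartesianMonoidalCategory MonObj GrpObj AlgebraicGeometry
open scoped TensorProduct
open AGF

namespace Groth.Agent.S11218


open Groth.Agent.SGA3cLib Groth.Agent.AlgGrpLib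

/-- Restriction of an action along a homomorphism. -/
noncomputable def resAction {S : Scheme.{u}} {G H X : Over S} [GrpObj G] [GrpObj H] (i : H ⟶ G) [IsMonHom i]
    (a : AlgGrp.Action G X) : AlgGrp.Action H X where
  act := (i ▷ X) ≫ a.act
  one_act := by
    rw [← comp_whiskerRight_assoc, IsMonHom.one_hom, a.one_act]
  mul_act := by
    rw [← comp_whiskerRight_assoc, IsMonHom.mul_hom, comp_whiskerRight_assoc, a.mul_act]
    rw [MonoidalCategory.tensorHom_def]
    simp only [comp_whiskerRight, Category.assoc, MonoidalCategory.whiskerLeft_comp,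
      associator_naturality_left_assoc, associator_naturality_middle_assoc, whisker_exchange_assoc]

theorem resAction_orbitMap {S : Scheme.{u}} {G H X : Over S} [GrpObj G] [GrpObj H] (i : H ⟶ G) [IsMonHom i]
    (a : AlgGrp.Action G X) (x : 𝟙_ (Over S) ⟶ X) : (resAction i a).orbitMap x = i ≫ a.orbitMap x := by
  unfold AlgGrp.Action.orbitMap resAction
  simp [comp_lift_assoc, lift_whiskerRight_assoc]


end Groth.Agent.S11218

namespace Groth.Agent.S11218

/-- Let k be an algebraically closed field, G a linear algebraic group over k (an affine smooth group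
scheme over k) and H a closed subgroup of G (a smooth closed subgroup scheme, i : H → G), such that
the quotient G/H (the scheme Y with action b and base point o′) is proper over k (complete). Let G
act on a variety X over k (separated, of finite type) and let x be a rational point of X; let Z ⊆ X
be the closure of the H-orbit of x. Then the closure of the G-orbit of x is G·Z, the image under the
action map of the preimage of Z in G × X. (The published statement takes X affine; the argument does
not use this, and this row drops it.) -/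
theorem result (k : Type u) [Field k] [IsAlgClosed k]
    (G : Over (Spec (CommRingCat.of k))) [GrpObj G] [IsAffine G.left] [Smooth G.hom]
    (H : Over (Spec (CommRingCat.of k))) [GrpObj H] [Smooth H.hom] (i : H ⟶ G) [IsMonHom i]
    [IsClosedImmersion i.left]
    (Y : Over (Spec (CommRingCat.of k))) (b : AlgGrp.Action G Y) (o' : 𝟙_ (Over (Spec (CommRingCat.of k))) ⟶ Y) (hY : AGF.IsQuotient i Y b o')
    [IsProper Y.hom]
    (X : Over (Spec (CommRingCat.of k))) [IsSeparated X.hom] [LocallyOfFiniteType X.hom] [QuasiCompact X.hom]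
    (a : AlgGrp.Action G X) (x : 𝟙_ (Over (Spec (CommRingCat.of k))) ⟶ X) :
    closure (Set.range ⇑(a.orbitMap x).left.base) =
      ⇑a.act.left.base '' (⇑(snd G X).left.base ⁻¹' closure (Set.range ⇑(i ≫ a.orbitMap x).left.base)) := by
  set aH := resAction i a with haH
  have hres := resAction_orbitMap i a x
  rw [← hres]
  set S := Set.range ⇑(aH.orbitMap x).left.base with hS
  set Z := closure S with hZdef
  have hSC : S ⊆ Set.range ⇑(a.orbitMap x).left.base := by
    rw [hS, hres, Over.comp_left]
    rintro _ ⟨t, rfl⟩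
    exact ⟨i.left.base t, rfl⟩
  refine subset_antisymm ?_ ?_
  swap
  · rintro _ ⟨p, hp, rfl⟩
    exact OrbitLC.act_mem_closure_orbit a x (closure_mono hSC hp)
  refine closure_minimal ?_ ?_
  · rintro _ ⟨g, rfl⟩
    let w : G ⟶ G ⊗ X := lift (𝟙 G) (toUnit G ≫ x)
    refine ⟨w.left.base g, ?_, rfl⟩
    have h1 : (snd G X).left.base (w.left.base g) = x.left.base ((toUnit G).left.base g) :=
      congrArg (fun φ => φ.left.base g) (lift_snd (𝟙 G) (toUnit G ≫ x))
    change (snd G X).left.base (w.left.base g) ∈ closure S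
    rw [h1]
    refine subset_closure ⟨(η[H]).left.base ((toUnit G).left.base g), ?_⟩
    have h2 : η[H] ≫ aH.orbitMap x = x := by
      rw [OrbitLC.orbitMap_eq_smulPt, comp_smulPt, Category.comp_id, comp_toUnit_assoc, toUnit_unique (toUnit _) (𝟙 _),
        Category.id_comp]
      have : (η[H] : 𝟙_ _ ⟶ H) = 1 := by
        rw [Hom.one_def, toUnit_unique (toUnit _) (𝟙 _), Category.id_comp]
      rw [this, one_smulPt]
    exact congrArg (fun φ => φ.left.base ((toUnit G).left.base g)) h2
  -- closedness
  let φ : G ⊗ X ⟶ X := smulPt a (fst G X)⁻¹ (snd G X)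
  let W : Set ↥(G ⊗ X).left := φ.left.base ⁻¹' Z
  have himg : a.act.left.base '' ((snd G X).left.base ⁻¹' Z) = (snd G X).left.base '' W := by
    have e1 : lift (fst G X) a.act ≫ φ = snd G X := by
      have h3 : a.act = smulPt a (fst G X) (snd G X) := by simp [smulPt]
      rw [comp_smulPt, GrpObj.comp_inv, lift_fst, lift_snd, h3, inv_smulPt]
    have e2 : lift (fst G X) φ ≫ a.act = snd G X := by
      change smulPt a (fst G X) (smulPt a (fst G X)⁻¹ (snd G X)) = _
      conv_lhs => arg 2; rw [← _root_.inv_inv (fst G X)]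
      rw [inv_smulPt]
    ext z
    constructor
    · rintro ⟨p, hp, rfl⟩
      refine ⟨(lift (fst G X) a.act).left.base p, ?_, ?_⟩
      · change (lift (fst G X) a.act ≫ φ).left.base p ∈ Z
        rw [e1]; exact hp
      · exact congrArg (fun ψ => ψ.left.base p) (lift_snd (fst G X) a.act)
    · rintro ⟨p, hp, rfl⟩
      refine ⟨(lift (fst G X) φ).left.base p, ?_, ?_⟩
      · change (lift (fst G X) φ ≫ snd G X).left.base p ∈ Z
        rw [lift_snd]; exact hp
      · exact congrArg (fun ψ => ψ.left.base p) e2
  rw [himg]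
  obtain ⟨hlft, hflat, hsurj, hpb⟩ := hY
  set q := b.orbitMap o' with hq
  haveI : IsLocallyNoetherian Y.left := LocallyOfFiniteType.isLocallyNoetherian Y.hom
  haveI : LocallyOfFiniteType (q.left ≫ Y.hom) := by rw [Over.w]; infer_instance
  haveI : LocallyOfFiniteType q.left := locallyOfFiniteType_of_comp q.left Y.hom
  haveI : LocallyOfFinitePresentation q.left := inferInstance
  haveI : UniversallyOpen q.left := inferInstance
  let Q : G ⊗ X ⟶ Y ⊗ X := q ▷ X
  have hQopen : IsOpenMap Q.left.base := by
    haveI : UniversallyOpen Q.left :=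
      MorphismProperty.of_isPullback (P := @UniversallyOpen) (OpenOrbit.isPullback_whiskerRight_left q X) inferInstance
    exact Q.left.isOpenMap
  have hQsurj : Function.Surjective Q.left.base := by
    haveI : Surjective Q.left :=
      MorphismProperty.of_isPullback (P := @Surjective) (OpenOrbit.isPullback_whiskerRight_left q X) hsurj
    exact Q.left.surjective
  have hsat : ∀ p1 p2, Q.left.base p1 = Q.left.base p2 → p1 ∈ W → p2 ∈ W := by
    intro p1 p2 h12 hp1
    obtain ⟨r, hr1, hr2⟩ := Scheme.Pullback.exists_preimage_pullback (f := Q.left) (g := Q.left) p1 p2 h12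
    let P : Over (Spec (CommRingCat.of k)) := Over.mk (Limits.pullback.fst Q.left Q.left ≫ (G ⊗ X).hom)
    let π₁ : P ⟶ G ⊗ X := Over.homMk (Limits.pullback.fst Q.left Q.left) rfl
    let π₂ : P ⟶ G ⊗ X := Over.homMk (Limits.pullback.snd Q.left Q.left) (by
      change Limits.pullback.snd Q.left Q.left ≫ (G ⊗ X).hom = Limits.pullback.fst Q.left Q.left ≫ (G ⊗ X).hom
      rw [← Over.w Q, Limits.pullback.condition_assoc])
    have hπ : π₁ ≫ Q = π₂ ≫ Q := Over.OverMorphism.ext Limits.pullback.condition
    have hf : (π₁ ≫ fst G X) ≫ q = (π₂ ≫ fst G X) ≫ q := by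
      simpa only [Q, Category.assoc, whiskerRight_fst] using congrArg (fun ψ => ψ ≫ fst Y X) hπ
    have hs : π₁ ≫ snd G X = π₂ ≫ snd G X := by
      simpa only [Q, Category.assoc, whiskerRight_snd] using congrArg (fun ψ => ψ ≫ snd Y X) hπ
    let e : P ⟶ G ⊗ H := hpb.lift (π₁ ≫ fst G X) (π₂ ≫ fst G X) hf
    let h : P ⟶ H := e ≫ snd G H
    have he1 : e ≫ fst G H = π₁ ≫ fst G X := hpb.lift_fst _ _ hf
    have he2 : e ≫ (G ◁ i) ≫ μ[G] = π₂ ≫ fst G X := hpb.lift_snd _ _ hf
    have hmul : π₂ ≫ fst G X = (π₁ ≫ fst G X) * (h ≫ i) := by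
      rw [← he2, Hom.mul_def, ← Category.assoc]
      congr 1
      apply CartesianMonoidalCategory.hom_ext
      · rw [Category.assoc, whiskerLeft_fst, lift_fst, he1]
      · rw [Category.assoc, whiskerLeft_snd, lift_snd, Category.assoc]
    let w : P ⟶ H ⊗ X := lift h⁻¹ (π₁ ≫ φ)
    have hw : π₂ ≫ φ = w ≫ aH.act := by
      have h4 : w ≫ aH.act = smulPt a (h⁻¹ ≫ i) (π₁ ≫ φ) := by
        change lift h⁻¹ (π₁ ≫ φ) ≫ (i ▷ X) ≫ a.act = _
        rw [lift_whiskerRight_assoc]
        rfl
      rw [h4, comp_smulPt, comp_smulPt, GrpObj.comp_inv, GrpObj.comp_inv, hmul, ← hs, _root_.mul_inv_rev,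
        mul_smulPt, GrpObj.inv_comp]
    have key := OrbitLC.act_mem_closure_orbit aH x (p := w.left.base r) (by
      have h5 : (snd H X).left.base (w.left.base r) = φ.left.base (π₁.left.base r) :=
        congrArg (fun ψ => ψ.left.base r) (lift_snd h⁻¹ (π₁ ≫ φ))
      rw [h5]
      change φ.left.base ((Limits.pullback.fst Q.left Q.left).base r) ∈ Z
      rw [show (Limits.pullback.fst Q.left Q.left).base r = p1 from hr1]
      exact hp1)
    have h6 : aH.act.left.base (w.left.base r) = φ.left.base (π₂.left.base r) :=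
      (congrArg (fun ψ => ψ.left.base r) hw).symm
    rw [h6] at key
    change φ.left.base p2 ∈ Z
    rw [← show (Limits.pullback.snd Q.left Q.left).base r = p2 from hr2]
    exact key
  have hWc : IsClosed W := isClosed_closure.preimage φ.left.continuous
  have hQW : Q.left.base '' W = (Q.left.base '' Wᶜ)ᶜ := by
    ext z
    constructor
    · rintro ⟨p1, hp1, rfl⟩ ⟨p2, hp2, h21⟩
      exact hp2 (hsat p1 p2 h21.symm hp1)
    · intro hz
      obtain ⟨p, rfl⟩ := hQsurj z
      exact ⟨p, by by_contra hn; exact hz ⟨p, hn, rfl⟩, rfl⟩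
  have hQWc : IsClosed (Q.left.base '' W) := by
    rw [hQW]; exact (hQopen _ hWc.isOpen_compl).isClosed_compl
  have hcomp : (snd G X).left.base '' W = (snd Y X).left.base '' (Q.left.base '' W) := by
    rw [Set.image_image]
    refine Set.image_congr' fun p => ?_
    exact (congrArg (fun ψ => ψ.left.base p) (whiskerRight_snd q X)).symm
  rw [hcomp]
  haveI : UniversallyClosed (snd Y X).left :=
    MorphismProperty.pullback_snd (P := @UniversallyClosed) (f := Y.hom) (g := X.hom)
      (show UniversallyClosed Y.hom from inferInstance)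
  exact (snd Y X).left.isClosedMap _ hQWc

end Groth.Agent.S11218
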