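import Groth.Statements.S11220
import Groth.Agent.AGF12.Inverse
-- import your own Groth.Agent.* helpers here

set_option autoImplicit false
set_option backward.isDefEq.respectTransparency false
set_option backward.isDefEq.respectTransparency.types false
open Groth.Agent.CommAlg4.AffPt Groth.Agent Groth.Agent.AGF12
universe u
open CategoryTheory MonoidalCategory CartesianMonoidalCategory MonObj GrpObj AlgebraicGeometry
open scoped TensorProduct
open AGF

namespace Groth.Agent.S11220

/-- Let k be an algebraically closed field, G a linear algebraic group over k (an affine smooth group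
scheme over k) and H a closed subgroup of G (a smooth closed subgroup scheme, i : H → G). Then H is
observable in G if and only if, for every character χ of H which occurs on a nonzero
H-semi-invariant vector of some finite-dimensional rational G-module (h·v = χ(h)v), the inverse
character χ⁻¹ also occurs on a nonzero H-semi-invariant vector of some finite-dimensional rational
G-module (every one-dimensional H-module found inside a finite-dimensional G-module has its dual
inside one too). -/
theorem result (k : Type u) [Field k] [IsAlgClosed k]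
    (G : Over (Spec (CommRingCat.of k))) [GrpObj G] [IsAffine G.left] [Smooth G.hom]
    (H : Over (Spec (CommRingCat.of k))) [GrpObj H] [Smooth H.hom] (i : H ⟶ G) [IsMonHom i]
    [IsClosedImmersion i.left] :
    AGF.IsObservableIn k i ↔
      ∀ (χ : H ⟶ Red.Gm (Spec (CommRingCat.of k))), IsMonHom χ →
        (∃ (V : Type u) (_ : AddCommGroup V) (_ : Module k V) (_ : Module.Finite k V) (ρ : VecGrp.GMod G V) (v : V), v ≠ 0 ∧
          ∀ (B : Type u) [CommRing B] [Algebra k B] (h : VecGrp.pt k B ⟶ H),
            ρ.ρ B (h ≫ i) ((1 : B) ⊗ₜ[k] v) = VecGrp.chiVal χ h • ((1 : B) ⊗ₜ[k] v)) →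
        (∃ (V : Type u) (_ : AddCommGroup V) (_ : Module k V) (_ : Module.Finite k V) (ρ : VecGrp.GMod G V) (v : V), v ≠ 0 ∧
          ∀ (B : Type u) [CommRing B] [Algebra k B] (h : VecGrp.pt k B ⟶ H),
            ρ.ρ B (h ≫ i) ((1 : B) ⊗ₜ[k] v) = VecGrp.chiVal χ⁻¹ h • ((1 : B) ⊗ₜ[k] v)) := by
  haveI : IsAffine H.left := isAffine_of_isAffineHom i.left
  have hinvχ : ∀ (χ : H ⟶ Red.Gm (Spec (CommRingCat.of k))) (c : Γ(H.left, ⊤)), c * Red.gmFn χ = 1 → c = Red.gmFn χ⁻¹ := by
    intro χ c hc
    exact (SGA3cLib.isUnit_gmFn χ).mul_left_injective (hc.trans (SGA3cLib.gmFn_inv_mul χ).symm)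
  constructor
  · intro hobs χ hχ hv
    obtain ⟨V, _, _, _, ρ, v, hv0, hv⟩ := hv
    obtain ⟨f, hf, hf1⟩ := exists_semi_of_vector ρ v hv0 (Red.gmFn χ) (fun B _ _ h => hv B h)
    obtain ⟨f', c', hc', hf', hf'1⟩ := exists_inverse hobs hf hf1
    obtain rfl := hinvχ χ c' hc'
    exact exists_vector_of_semi hf' (fun h => by rw [h, map_zero] at hf'1; exact zero_ne_one hf'1)
  · intro hyp
    refine isObservableIn_of_inverse fun f c hf hf1 => ?_
    obtain ⟨χ, hm, rfl⟩ := exists_character (hf.isUnit hf1) (fun B _ _ h h' => hf.mul_apply hf1 h h')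
    obtain ⟨V, _, _, _, ρ, v, hv0, hv⟩ := hyp χ hm (exists_vector_of_semi hf (fun h => by
      rw [h, map_zero] at hf1; exact zero_ne_one hf1))
    obtain ⟨f', hf', hf'1⟩ := exists_semi_of_vector ρ v hv0 (Red.gmFn χ⁻¹) (fun B _ _ h => hv B h)
    exact ⟨1, f', _, Nat.one_pos, by rw [pow_one, SGA3cLib.gmFn_inv_mul], hf', hf'1⟩

end Groth.Agent.S11220
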