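import Groth.Statements.S11221
import Mathlib
-- import your own Groth.Agent.* helpers here

set_option autoImplicit false
universe u
open CategoryTheory MonoidalCategory CartesianMonoidalCategory MonObj GrpObj AlgebraicGeometry
open scoped TensorProduct
open AGF

namespace Groth.Agent.S11221

/-- Let R be a Noetherian integrally closed domain with fraction field K and let p be a prime ideal of R
of height one. Then there is f ∈ K which is not in R but lies in the local ring R_q ⊆ K of every
height-one prime q ≠ p (f = a/b with b ∉ q): a rational function on Spec R with a pole along V(p)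
only. (The published statement is for the coordinate ring of a normal affine variety; this row is
for any Noetherian integrally closed domain, which is all the argument uses.) -/
theorem result (R : Type u) [CommRing R] [IsDomain R] [IsNoetherianRing R] [IsIntegrallyClosed R]
    (p : Ideal R) [p.IsPrime] (hp : p.height = 1) :
    ∃ f : FractionRing R, f ∉ Set.range ⇑(algebraMap R (FractionRing R)) ∧
      ∀ q : Ideal R, q.IsPrime → q.height = 1 → q ≠ p →
        ∃ a b : R, b ∉ q ∧ f * algebraMap R (FractionRing R) b = algebraMap R (FractionRing R) a := by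
  classical
  let K := FractionRing R
  have hp0 : p ≠ ⊥ := p.ne_bot_of_height_eq_one hp
  obtain ⟨d, hdp, hd0⟩ := Submodule.exists_mem_ne_zero_of_ne_bot hp0
  have hmin : ∀ q : Ideal R, q.IsPrime → q.height = 1 → d ∈ q → q ∈ (Ideal.span {d}).minimalPrimes := by
    intro q hq hq1 hdq
    refine ⟨⟨hq, (Ideal.span_singleton_le_iff_mem _).2 hdq⟩, fun P ⟨hP, hdP⟩ hPq => ?_⟩
    rw [Ideal.span_singleton_le_iff_mem] at hdP
    by_contra hne
    haveI := hP
    haveI := hq
    haveI : q.FiniteHeight := by simp [Ideal.finiteHeight_iff, hq1]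
    haveI : P.FiniteHeight := Ideal.finiteHeight_of_le hPq hq.ne_top
    have hlt : P < q := lt_of_le_of_ne hPq fun h => hne h.ge
    have h1 : P.height < q.height := Ideal.height_strict_mono_of_isPrime hlt
    rw [hq1, ENat.lt_one_iff_eq_zero, Ideal.height_eq_zero_iff_eq_bot] at h1
    exact hd0 (by simpa [show P = ⊥ from h1] using hdP)
  have hfin : {q : Ideal R | q ∈ (Ideal.span {d}).minimalPrimes ∧ ¬ q ≤ p}.Finite :=
    (Ideal.finite_minimalPrimes_of_isNoetherianRing R _).subset fun q hq => hq.1
  have hx : ∀ q ∈ hfin.toFinset, ∃ x : R, x ∈ q ∧ x ∉ p := fun q hq =>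
    SetLike.not_le_iff_exists.1 (hfin.mem_toFinset.1 hq).2
  choose x hx1 hx2 using hx
  let c := ∏ q ∈ hfin.toFinset.attach, x q.1 q.2
  have hcp : c ∉ p := fun h => by
    obtain ⟨q, -, hq⟩ := (Ideal.IsPrime.prod_mem_iff).1 h
    exact hx2 q.1 q.2 hq
  have key : ∀ q ∈ hfin.toFinset, ∃ n : ℕ, ∃ s : R, s ∉ q ∧ d ∣ s * c ^ n := by
    intro q hq
    obtain ⟨⟨⟨hqP, hdq⟩, hqmin⟩, -⟩ := hfin.mem_toFinset.1 hq
    have hcq : c ∈ q := by
      refine Ideal.mem_of_dvd _ (Finset.dvd_prod_of_mem _ (Finset.mem_attach _ ⟨q, hq⟩)) ?_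
      exact hx1 q hq
    by_contra hno
    push Not at hno
    haveI := hqP
    let S : Submonoid R := q.primeCompl ⊔ Submonoid.powers c
    have hdis : Disjoint (Ideal.span {d} : Set R) (S : Set R) := by
      rw [Set.disjoint_left]
      intro y hy hyS
      obtain ⟨s, hs, t, ⟨n, rfl⟩, rfl⟩ := Submonoid.mem_sup.1 hyS
      exact hno n s hs (Ideal.mem_span_singleton.1 hy)
    obtain ⟨P, hP, hdP, hPS⟩ := Ideal.exists_le_prime_disjoint _ S hdis
    have hPq : P ≤ q := fun y hy => by_contra fun hyq =>
      Set.disjoint_left.1 hPS hy (Submonoid.mem_sup_left hyq)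
    exact Set.disjoint_left.1 hPS (hqmin ⟨hP, hdP⟩ hPq hcq)
      (Submonoid.mem_sup_right ⟨1, pow_one c⟩)
  choose n s hs hdvd using key
  let N := hfin.toFinset.attach.sup fun q => n q.1 q.2
  have hdK : algebraMap R K d ≠ 0 := fun h => hd0 (IsFractionRing.injective R K (h.trans (map_zero _).symm))
  refine ⟨algebraMap R K (c ^ N) / algebraMap R K d, ?_, ?_⟩
  · rintro ⟨r, hr⟩
    rw [eq_div_iff hdK, ← map_mul] at hr
    have := IsFractionRing.injective R K hr
    exact hcp (Ideal.IsPrime.mem_of_pow_mem inferInstance N (this ▸ Ideal.mul_mem_left p r hdp))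
  · intro q hq hq1 hqp
    by_cases hdq : d ∈ q
    · have hmem : q ∈ hfin.toFinset := hfin.mem_toFinset.2 ⟨hmin q hq hq1 hdq, fun hle => by
        refine hqp (le_antisymm hle ?_)
        by_contra hne
        haveI := hq
        haveI : q.FiniteHeight := by simp [Ideal.finiteHeight_iff, hq1]
        have := Ideal.height_strict_mono_of_isPrime (lt_of_le_not_ge hle hne)
        rw [hq1, hp] at this
        exact lt_irrefl _ this⟩
      have hle : n q hmem ≤ N := Finset.le_sup (f := fun q => n q.1 q.2) (Finset.mem_attach _ ⟨q, hmem⟩)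
      obtain ⟨a, ha⟩ := (hdvd q hmem).trans (mul_dvd_mul_left (s q hmem) (pow_dvd_pow c hle))
      refine ⟨a, s q hmem, hs q hmem, ?_⟩
      rw [div_mul_eq_mul_div, div_eq_iff hdK, ← map_mul, ← map_mul, mul_comm (c ^ N), ha,
        mul_comm d]
    · exact ⟨c ^ N, d, hdq, div_mul_cancel₀ _ hdK⟩

end Groth.Agent.S11221
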