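import Groth.Statements.S11222
import Groth.Agent.AGF12.Restrict
import Groth.Agent.S11194
import Groth.Agent.S11195
import Groth.Agent.S11207
-- import your own Groth.Agent.* helpers here

set_option autoImplicit false
set_option backward.isDefEq.respectTransparency false
set_option backward.isDefEq.respectTransparency.types false
open Groth.Agent.CommAlg4.AffPt Groth.Agent Groth.Agent.AGF12
universe u
open CategoryTheory MonoidalCategory CartesianMonoidalCategory MonObj GrpObj AlgebraicGeometry
open scoped TensorProduct
open AGF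

namespace Groth.Agent.S11222

variable {k : Type u} [Field k] [IsAlgClosed k]

theorem subringFG_of_reductive {L G H : Over (Spec (CommRingCat.of k))} [GrpObj L] [GrpObj G] [GrpObj H]
    [IsAffine L.left] [Smooth L.hom] [Smooth G.hom] [Smooth H.hom] (jG : G ⟶ L) [IsMonHom jG] [IsAffine G.left]
    (i : H ⟶ G) [IsMonHom i] [IsClosedImmersion i.left]
    (hG : VecGrp.IsReductiveGrp k G) (thmA : VecGrp.ReductiveInvariantsFG k)
    (hfg : AGF.SubringFGOver k G (AGF.rTransInv i)) : AGF.SubringFGOver k L (AGF.rTransInv (i ≫ jG)) := by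
  classical
  haveI : IsAffine H.left := isAffine_of_isAffineHom i.left
  haveI : AlgebraicGeometry.IsReduced L.left := WeilLib.isReduced_of_smooth L.hom
  letI := gAlg L
  haveI : Algebra.FiniteType k Γ(L.left, ⊤) := by
    have h1 : L.hom.appTop.hom.FiniteType := HasRingHomProperty.appTop (P := @LocallyOfFiniteType) L.hom inferInstance
    exact h1.comp (RingHom.FiniteType.of_surjective _
      (ConcreteCategory.bijective_of_isIso (Scheme.ΓSpecIso (CommRingCat.of k)).inv).surjective)
  obtain ⟨uG, σ, hσ, hu, hσf⟩ := Groth.Agent.S11212.exists_regular_mult jG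
  have hfix : ∀ f, f ∈ σ.fixedSubalgebra hσ i ↔ AGF.IsRTransInv (i ≫ jG) f := by
    intro f
    constructor
    · intro hf
      refine invariant_of_semi (i ≫ jG) _ fun B _ _ t x => ?_
      obtain ⟨φ, hφ⟩ := exists_algHom t
      let ψ : B ⊗[k] Γ(L.left, ⊤) →ₐ[k] B := Algebra.TensorProduct.productMap (AlgHom.id k B) φ
      have h2 := congrArg ψ (hf B x)
      rw [hσf, ← algPt_ptMap ψ, MonObj.comp_mul] at h2
      rw [map_one, _root_.mul_one]
      refine Eq.trans (congrArg (fun w => algPt w f) (congrArg₂ (fun a b => a * b) ?_ ?_)) (h2.trans ?_)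
      · exact (pt_eq _ _ fun y => by rw [algPt_ptMap, algPt_ptMap, hu, ← hφ]; simp [ψ]).symm
      · exact (pt_eq _ _ fun y => by simp only [algPt_ptMap, Category.assoc]; simp [ψ]).symm
      · simp [ψ, hφ]
    · intro hf B _ _ x
      rw [hσf, Category.assoc, ← Category.assoc, S11234.algPt_mul_of_invariant (i ≫ jG) f hf, algPt_ptMap, hu]
      rfl
  obtain ⟨s, hs⟩ := (Subalgebra.fg_iff_finiteType _).2
    ((Groth.Agent.S11207.result k G H i hG thmA).1 hfg Γ(L.left, ⊤) σ hσ)
  refine ⟨s, fun x hx => (hfix x).1 (hs ▸ Algebra.subset_adjoin hx), fun x hx => ?_⟩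
  have hx' : x ∈ Algebra.adjoin k (s : Set Γ(L.left, ⊤)) := hs ▸ (hfix x).2 hx
  exact Algebra.mem_adjoin_iff.1 hx'

end Groth.Agent.S11222

namespace Groth.Agent.S11222

/-- Let k be an algebraically closed field, L a linear algebraic group over k, G a closed subgroup of L
whose identity component is reductive, H a closed subgroup of G which is observable in G with k[G]^H
finitely generated over the constants (a Grosshans subgroup of G), and G₁ a closed subgroup of L,
observable in L, containing H (i₁ : H → G₁ compatible with the inclusions into L). Assume the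
following standard results of geometric invariant theory for groups with reductive identity
component, carried as hypotheses: finite generation of invariants on finitely generated algebras,
and that the quotient map of an affine variety by such a group separates disjoint closed invariant
subsets. Then H is observable in G₁ and k[G₁]^H is finitely generated over the constants (H is a
Grosshans subgroup of G₁). -/
theorem result (k : Type u) [Field k] [IsAlgClosed k]
    (L : Over (Spec (CommRingCat.of k))) [GrpObj L] [IsAffine L.left] [Smooth L.hom]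
    (G : Over (Spec (CommRingCat.of k))) [GrpObj G] [Smooth G.hom] (jG : G ⟶ L) [IsMonHom jG] [IsClosedImmersion jG.left]
    (hG : VecGrp.IsReductiveGrp k G)
    (H : Over (Spec (CommRingCat.of k))) [GrpObj H] [Smooth H.hom] (i : H ⟶ G) [IsMonHom i]
    [IsClosedImmersion i.left]
    (hH : AGF.IsObservableIn k i) (hfg : AGF.SubringFGOver k G (AGF.rTransInv i))
    (G₁ : Over (Spec (CommRingCat.of k))) [GrpObj G₁] [Smooth G₁.hom] (j₁ : G₁ ⟶ L) [IsMonHom j₁] [IsClosedImmersion j₁.left]
    (hG₁ : AGF.IsObservableIn k j₁) (i₁ : H ⟶ G₁) [IsMonHom i₁] (hc : i₁ ≫ j₁ = i ≫ jG)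
    (thmA : VecGrp.ReductiveInvariantsFG k) (thmAbiv : AGF.ReductiveQuotSeparates k) :
    AGF.IsObservableIn k i₁ ∧ AGF.SubringFGOver k G₁ (AGF.rTransInv i₁) := by
  haveI : IsAffine G.left := isAffine_of_isAffineHom jG.left
  haveI : IsAffine G₁.left := isAffine_of_isAffineHom j₁.left
  haveI : IsAffine H.left := isAffine_of_isAffineHom i.left
  haveI : Mono j₁ := (Over.forget _).mono_of_mono_map (show Mono j₁.left from inferInstance)
  have h1 : AGF.IsObservableIn k (i ≫ jG) := Groth.Agent.S11195.result k L G jG H i hH
    (Groth.Agent.S11212.result k L G jG hG thmA thmAbiv)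
  have h2 := subringFG_of_reductive jG i hG thmA hfg
  rw [← hc] at h1 h2
  exact ⟨Groth.Agent.S11194.isObservableIn_intermediate i₁ j₁ h1, subringFG_restrict j₁ i₁ hG₁ h2⟩

end Groth.Agent.S11222
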