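import Groth.Statements.S11223
import Mathlib

set_option autoImplicit false
universe u
open CAlg

namespace Groth.Agent.S11223

/-- Let k be a field, let z_1, ..., z_m be homogeneous polynomials of positive degree in the polynomial
ring k[x_1, ..., x_n], and suppose the radical of the ideal (z_1, ..., z_m) is the ideal (x_1, ...,
x_n) generated by the variables. Then the polynomial ring is integral over the subalgebra generated
by z_1, ..., z_m. (The published statement is over an algebraically closed field; this row takes any
field, which its proof allows.) -/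
theorem result (k : Type u) [Field k] (n m : ℕ)
    (z : Fin m → MvPolynomial (Fin n) k) (d : Fin m → ℕ) (hd : ∀ i, 0 < d i)
    (hz : ∀ i, (z i).IsHomogeneous (d i))
    (hrad : (Ideal.span (Set.range z)).radical =
      Ideal.span (Set.range (MvPolynomial.X : Fin n → MvPolynomial (Fin n) k))) :
    Algebra.IsIntegral (Algebra.adjoin k (Set.range z)) (MvPolynomial (Fin n) k) := by
  classical
  let P := MvPolynomial (Fin n) k
  let A := Algebra.adjoin k (Set.range z)
  have hpow : ∀ j, ∃ N : ℕ, (MvPolynomial.X j : P) ^ N ∈ Ideal.span (Set.range z) := fun j => by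
    have : (MvPolynomial.X j : P) ∈ (Ideal.span (Set.range z)).radical :=
      hrad ▸ Ideal.subset_span ⟨j, rfl⟩
    exact this
  choose N hN using hpow
  let D := (∑ j, N j) + 1
  let B : Set P := (fun s => MvPolynomial.monomial s 1) '' {s : Fin n →₀ ℕ | s.degree < D}
  have hB : B.Finite := (Finsupp.finite_of_degree_le (D - 1) |>.subset fun s (hs : s.degree < D) =>
    (by show s.degree ≤ D - 1; omega)).image _
  let M : Submodule A P := Submodule.span A B
  have hmono : ∀ s : Fin n →₀ ℕ, D ≤ s.degree → ∀ c : k,
      MvPolynomial.monomial s c ∈ Ideal.span (Set.range z) := by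
    intro s hs c
    obtain ⟨j, hj⟩ : ∃ j, N j ≤ s j := by
      by_contra h
      push Not at h
      have : s.degree ≤ ∑ j, N j := by
        rw [Finsupp.degree_eq_sum]
        exact Finset.sum_le_sum fun j _ => (h j).le
      omega
    obtain ⟨t, rfl⟩ : ∃ t, s = t + Finsupp.single j (N j) :=
      ⟨s - Finsupp.single j (N j), (tsub_add_cancel_of_le (Finsupp.single_le_iff.2 hj)).symm⟩
    rw [← mul_one c, ← MvPolynomial.monomial_mul, ← MvPolynomial.X_pow_eq_monomial]
    exact Ideal.mul_mem_left _ _ (hN j)
  have key : ∀ E : ℕ, ∀ q : P, q.IsHomogeneous E → q ∈ M := by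
    intro E
    induction E using Nat.strong_induction_on with
    | _ E ih =>
      intro q hq
      by_cases hE : E < D
      · rw [q.as_sum]
        refine Submodule.sum_mem _ fun s hs => ?_
        have hdeg : s.degree = E := by
          have h := hq (MvPolynomial.mem_support_iff.1 hs)
          rwa [Finsupp.weight_apply, Finsupp.sum_fintype _ _ (fun _ => by simp),
            show (∑ i, s i • (1 : Fin n → ℕ) i) = s.degree by simp [Finsupp.degree_eq_sum]] at h
        have h1 : MvPolynomial.monomial s (q.coeff s) =
            (algebraMap k A (q.coeff s)) • MvPolynomial.monomial s (1 : k) := by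
          rw [algebraMap_smul, MvPolynomial.smul_monomial, smul_eq_mul, mul_one]
        rw [h1]
        exact Submodule.smul_mem _ _ (Submodule.subset_span ⟨s, (show s.degree < D by omega), rfl⟩)
      · have hmem : q ∈ Ideal.span (Set.range z) := by
          rw [q.as_sum]
          refine Submodule.sum_mem _ fun s hs => hmono s ?_ _
          have h := hq (MvPolynomial.mem_support_iff.1 hs)
          rw [Finsupp.weight_apply, Finsupp.sum_fintype _ _ (fun _ => by simp),
            show (∑ i, s i • (1 : Fin n → ℕ) i) = s.degree by simp [Finsupp.degree_eq_sum]] at h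
          omega
        obtain ⟨c, hc⟩ := Ideal.mem_span_range_iff_exists_fun.1 hmem
        have hqc : MvPolynomial.homogeneousComponent E q = q := by
          rw [MvPolynomial.homogeneousComponent_of_mem hq, if_pos rfl]
        rw [← hqc, ← hc, map_sum]
        refine Submodule.sum_mem _ fun i _ => ?_
        rw [← MvPolynomial.sum_homogeneousComponent (c i), Finset.sum_mul, map_sum]
        refine Submodule.sum_mem _ fun e _ => ?_
        have hmul : (MvPolynomial.homogeneousComponent e (c i) * z i).IsHomogeneous (e + d i) :=
          (MvPolynomial.homogeneousComponent_isHomogeneous e (c i)).mul (hz i)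
        rw [MvPolynomial.homogeneousComponent_of_mem hmul]
        split_ifs with he
        · rw [mul_comm]
          exact Submodule.smul_mem M (⟨z i, Algebra.subset_adjoin ⟨i, rfl⟩⟩ : A)
            (ih e (by have := hd i; omega) _ (MvPolynomial.homogeneousComponent_isHomogeneous e (c i)))
        · exact Submodule.zero_mem _
  have htop : M = ⊤ := by
    rw [eq_top_iff]
    intro q _
    rw [← MvPolynomial.sum_homogeneousComponent q]
    exact Submodule.sum_mem _ fun e _ => key e _ (MvPolynomial.homogeneousComponent_isHomogeneous e q)
  haveI : Module.Finite A P := ⟨htop ▸ Submodule.fg_span hB⟩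
  exact Algebra.IsIntegral.of_finite A P

end Groth.Agent.S11223
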