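import Groth.Statements.S11229
import Groth.Agent.S11241
import Groth.Agent.AGF12.TensorAct
import Groth.Agent.MaxTorus26.Basic
import Groth.Agent.S11188
-- import your own Groth.Agent.* helpers here

set_option autoImplicit false
set_option backward.isDefEq.respectTransparency false
set_option backward.isDefEq.respectTransparency.types false
open Groth.Agent.CommAlg4.AffPt Groth.Agent
universe u
open CategoryTheory MonoidalCategory CartesianMonoidalCategory MonObj GrpObj AlgebraicGeometry
open scoped TensorProduct
open AGF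

namespace Groth.Agent.S11229

variable {k : Type u} [Field k] [IsAlgClosed k]

theorem connected_and_noSubtorus {U : Over (Spec (CommRingCat.of k))} [GrpObj U]
    (h : ∀ s : Spec (CommRingCat.of k), ConnectedSpace (Red.geomFibre s U).left ∧
      Red.HasNoSubtorus (AlgebraicClosure ((Spec (CommRingCat.of k)).residueField s)) (Red.geomFibre s U)) :
    ConnectedSpace U.left ∧ Red.HasNoSubtorus k U := by
  obtain ⟨p⟩ : Nonempty (Spec (CommRingCat.of k)) := inferInstance
  haveI := MaxTorus26.isIso_geomPt p
  obtain ⟨hc, ht⟩ := h p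
  refine ⟨?_, fun T _ j _ _ hT => ?_⟩
  · haveI := hc
    let e : (Red.geomFibre p U).left ≅ U.left := asIso (Limits.pullback.fst U.hom (Red.geomPt p))
    exact Function.Surjective.connectedSpace e.hom.surjective e.hom.continuous
  · let F := Over.pullback (Red.geomPt p)
    haveI : F.IsRightAdjoint := (Over.mapPullbackAdj _).isRightAdjoint
    let j' : Red.geomFibre p T ⟶ Red.geomFibre p U := F.map j
    haveI : IsMonHom j' := inferInstanceAs (IsMonHom ((Over.pullback _).map j))
    haveI : Mono j' := inferInstanceAs (Mono (F.map j))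
    haveI : IsIso (Red.geomFibre p T).hom := ht _ j' (TorusAb27.isTorus_bc _ T hT)
    haveI : IsIso (Limits.pullback.snd T.hom (Red.geomPt p)) := ‹IsIso (Red.geomFibre p T).hom›
    have e : Limits.pullback.fst T.hom (Red.geomPt p) ≫ T.hom = Limits.pullback.snd T.hom (Red.geomPt p) ≫ Red.geomPt p :=
      Limits.pullback.condition
    haveI : IsIso (Limits.pullback.fst T.hom (Red.geomPt p) ≫ T.hom) := by rw [e]; infer_instance
    exact IsIso.of_isIso_comp_left (Limits.pullback.fst T.hom (Red.geomPt p)) T.hom

end Groth.Agent.S11229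

namespace Groth.Agent.S11229

/-- Let k an algebraically closed field, G a connected reductive linear algebraic group over k, B a
Borel subgroup of G with unipotent radical U (a maximal unipotent subgroup), and let A be a
commutative k-algebra with a rational action of G by algebra automorphisms. Then A has a nonzero
nilpotent element if and only if A^U does; equivalently A is reduced if and only if A^U is reduced. -/
theorem result (k : Type u) [Field k] [IsAlgClosed k]
    (G : Over (Spec (CommRingCat.of k))) [GrpObj G] (hG : Red.IsReductiveOver k G)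
    (Bo : Over (Spec (CommRingCat.of k))) [GrpObj Bo] (iB : Bo ⟶ G) (hB : Red.IsBorelOver k iB)
    (U : Over (Spec (CommRingCat.of k))) [GrpObj U] (u : U ⟶ Bo) (hU : Par.IsUnipotentRadical u)
    (A : Type u) [CommRing A] [Algebra k A] (ρ : VecGrp.GMod G A) (hρ : ρ.IsMult) :
    IsReduced A ↔ IsReduced ↥(ρ.fixedSubalgebra hρ (u ≫ iB)) := by
  classical
  obtain ⟨humon, hucl, -, hUs, -, hUf, -⟩ := hU
  haveI := hG.1
  haveI := hB.1
  haveI := hB.2.1
  haveI := humon
  haveI := hucl
  haveI := hUs
  haveI : IsAffine Bo.left := isAffine_of_isAffineHom iB.left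
  haveI : IsAffine U.left := isAffine_of_isAffineHom u.left
  obtain ⟨hconn, hnt⟩ := connected_and_noSubtorus hUf
  haveI := hconn
  haveI : AlgebraicGeometry.IsReduced U.left := WeilLib.isReduced_of_smooth U.hom
  constructor
  · intro h
    exact isReduced_of_injective (ρ.fixedSubalgebra hρ (u ≫ iB)).val Subtype.val_injective
  · intro h
    refine ⟨fun x hx => ?_⟩
    by_contra hx0
    obtain ⟨N, hxN, hN, hst⟩ := Groth.Agent.CommAlg4.GModStab.exists_stable_of_noetherian ρ
      (Submodule.span k {x}) (Submodule.fg_span (Set.finite_singleton x))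
    haveI : Module.Finite k N := Module.Finite.iff_fg.2 hN
    let W : Submodule k A := N ⊓ (nilradical A).restrictScalars k
    haveI : Module.Finite k W :=
      Module.Finite.of_injective (Submodule.inclusion (inf_le_left : W ≤ N)) (Submodule.inclusion_injective _)
    haveI : Nontrivial W := ⟨⟨⟨x, hxN (Submodule.subset_span rfl), hx⟩, 0, fun h => hx0 (congrArg Subtype.val h)⟩⟩
    let L₀ : (VecGrp.pt k k ⟶ U) → Module.End k A := fun g =>
      (TensorProduct.lid k A).toLinearMap ∘ₗ (ρ.ρ k (g ≫ u ≫ iB)).toLinearMap ∘ₗ (TensorProduct.lid k A).symm.toLinearMap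
    have hL₀ : ∀ g y, L₀ g y = TensorProduct.lid k A (ρ.ρ k (g ≫ u ≫ iB) ((1 : k) ⊗ₜ[k] y)) := fun g y => rfl
    have hW : ∀ g y, y ∈ W → L₀ g y ∈ W := fun g y hy => by
      refine ⟨?_, ?_⟩
      · obtain ⟨w, hw⟩ := hst k (g ≫ u ≫ iB) y hy.1
        rw [hL₀, ← hw]
        clear hw
        induction w using TensorProduct.induction_on with
        | zero => simp
        | tmul p z => simpa using N.smul_mem p z.2
        | add p q hp hq => rw [map_add, map_add]; exact N.add_mem hp hq
      · obtain ⟨φ, hφ⟩ := Groth.Agent.AGF12.exists_algHom_of_isMult ρ hρ k (g ≫ u ≫ iB)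
        show L₀ g y ∈ nilradical A
        rw [hL₀, ← hφ]
        have h1 : IsNilpotent y := hy.2
        exact ((h1.map (Algebra.TensorProduct.includeRight : A →ₐ[k] k ⊗[k] A)).map φ).map (Algebra.TensorProduct.lid k A)
    have hcomp : ∀ g g' y, L₀ (g * g') y = L₀ g (L₀ g' y) := fun g g' y => by
      rw [hL₀, hL₀, hL₀, MonObj.mul_comp, map_mul,
        show (1 : k) ⊗ₜ[k] TensorProduct.lid k A (ρ.ρ k (g' ≫ u ≫ iB) ((1 : k) ⊗ₜ[k] y)) = _ from
          (TensorProduct.lid k A).symm_apply_apply _]
      rfl
    let R : (VecGrp.pt k k ⟶ U) →* Module.End k W :=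
      { toFun := fun g => (L₀ g).restrict (hW g)
        map_one' := LinearMap.ext fun y => Subtype.ext <| by
          show L₀ 1 (y : A) = y
          rw [hL₀, MonObj.one_comp, map_one]
          exact (TensorProduct.lid_tmul _ _).trans (one_smul _ _)
        map_mul' := fun g g' => LinearMap.ext fun y => Subtype.ext (hcomp g g' y) }
    obtain ⟨v, hv, hvfix⟩ := Groth.Agent.S11241.exists_fixed_vector hnt R fun y l => by
      obtain ⟨l', hl'⟩ := l.exists_extend
      obtain ⟨F, hF⟩ := exists_coeff G A ρ (y : A)
      refine ⟨(u ≫ iB).left.appTop (F l'), fun t => ?_⟩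
      rw [← algPt_comp, hF k (t ≫ u ≫ iB) l']
      have key : ∀ z : k ⊗[k] A, TensorProduct.rid k k (l'.lTensor k z) = l' (TensorProduct.lid k A z) := fun z => by
        induction z using TensorProduct.induction_on with
        | zero => simp
        | tmul a y => simp [mul_comm]
        | add a b ha hb => simp only [map_add, ha, hb]
      rw [key, ← hl']
      rfl
    have hvmem : (v : A) ∈ ρ.fixedSubalgebra hρ (u ≫ iB) :=
      S11188.mem_fixedUnder_of_pts (u ≫ iB) ρ _ fun t => by
        have h1 : L₀ t (v : A) = v := congrArg Subtype.val (hvfix t)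
        rw [hL₀] at h1
        conv_rhs => rw [← h1]
        exact ((TensorProduct.lid k A).symm_apply_apply _).symm
    have hnil : IsNilpotent (v : A) := v.2.2
    obtain ⟨n, hn⟩ := hnil
    have h0 : (⟨(v : A), hvmem⟩ : ρ.fixedSubalgebra hρ (u ≫ iB)) = 0 := h.eq_zero _ ⟨n, Subtype.ext hn⟩
    exact hv (Subtype.ext (congrArg Subtype.val h0 : (v : A) = 0))

end Groth.Agent.S11229
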