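import Groth.Statements.S11230
import Groth.Agent.S11229
import Groth.Agent.S11188
import Groth.Agent.S11241
-- import your own Groth.Agent.* helpers here

set_option autoImplicit false
set_option backward.isDefEq.respectTransparency false
set_option backward.isDefEq.respectTransparency.types false
set_option synthInstance.maxHeartbeats 200000
open Groth.Agent.CommAlg4.AffPt Groth.Agent
universe u
open CategoryTheory MonoidalCategory CartesianMonoidalCategory MonObj GrpObj AlgebraicGeometry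
open scoped TensorProduct
open AGF

namespace Groth.Agent.S11230

variable {k : Type u} [Field k] [IsAlgClosed k]
variable {G : Over (Spec (CommRingCat.of k))} [GrpObj G]
variable {A : Type u} [CommRing A] [Algebra k A]

/-- The action of a rational point. -/
noncomputable def act (ρ : VecGrp.GMod G A) (hρ : ρ.IsMult) (g : VecGrp.pt k k ⟶ G) : A →ₐ[k] A :=
  AlgHom.ofLinearMap ((TensorProduct.lid k A).toLinearMap ∘ₗ (ρ.ρ k g).toLinearMap ∘ₗ (TensorProduct.lid k A).symm.toLinearMap)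
    (by
      show TensorProduct.lid k A (ρ.ρ k g ((1 : k) ⊗ₜ[k] (1 : A))) = 1
      rw [← Algebra.TensorProduct.one_def, (hρ k g).2, Algebra.TensorProduct.one_def]
      simp)
    (fun x y => by
      show TensorProduct.lid k A (ρ.ρ k g ((1 : k) ⊗ₜ[k] (x * y))) =
        TensorProduct.lid k A (ρ.ρ k g ((1 : k) ⊗ₜ[k] x)) * TensorProduct.lid k A (ρ.ρ k g ((1 : k) ⊗ₜ[k] y))
      rw [show (1 : k) ⊗ₜ[k] (x * y) = ((1 : k) ⊗ₜ[k] x) * ((1 : k) ⊗ₜ[k] y) by
        rw [Algebra.TensorProduct.tmul_mul_tmul, _root_.one_mul], (hρ k g).1]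
      exact map_mul (Algebra.TensorProduct.lid k A) _ _)

theorem act_apply (ρ : VecGrp.GMod G A) (hρ : ρ.IsMult) (g : VecGrp.pt k k ⟶ G) (y : A) :
    act ρ hρ g y = TensorProduct.lid k A (ρ.ρ k g ((1 : k) ⊗ₜ[k] y)) := rfl

theorem act_one (ρ : VecGrp.GMod G A) (hρ : ρ.IsMult) (y : A) : act ρ hρ 1 y = y := by
  rw [act_apply, map_one]
  exact (TensorProduct.lid_tmul _ _).trans (one_smul _ _)

theorem act_mul (ρ : VecGrp.GMod G A) (hρ : ρ.IsMult) (g g' : VecGrp.pt k k ⟶ G) (y : A) :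
    act ρ hρ (g * g') y = act ρ hρ g (act ρ hρ g' y) := by
  rw [act_apply, act_apply, act_apply, map_mul,
    show (1 : k) ⊗ₜ[k] TensorProduct.lid k A (ρ.ρ k g' ((1 : k) ⊗ₜ[k] y)) = _ from (TensorProduct.lid k A).symm_apply_apply _]
  rfl

theorem act_mem {ρ : VecGrp.GMod G A} {hρ : ρ.IsMult} {N : Submodule k A} (hst : ρ.IsStable (𝟙 G) N)
    (g : VecGrp.pt k k ⟶ G) {y : A} (hy : y ∈ N) : act ρ hρ g y ∈ N := by
  obtain ⟨w, hw⟩ := hst k g y hy
  rw [Category.comp_id] at hw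
  rw [act_apply, ← hw]
  clear hw
  induction w using TensorProduct.induction_on with
  | zero => simp
  | tmul p z => simpa using N.smul_mem p z.2
  | add p q hp hq => rw [map_add, map_add]; exact N.add_mem hp hq

theorem coeff_act [IsAffine G.left] (ρ : VecGrp.GMod G A) (hρ : ρ.IsMult) (y : A) (l : A →ₗ[k] k) :
    ∃ F : Γ(G.left, ⊤), ∀ t : VecGrp.pt k k ⟶ G, algPt t F = l (act ρ hρ t y) := by
  obtain ⟨F, hF⟩ := exists_coeff G A ρ y
  refine ⟨F l, fun t => ?_⟩
  rw [hF k t l, act_apply]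
  generalize ρ.ρ k t ((1 : k) ⊗ₜ[k] y) = z
  induction z using TensorProduct.induction_on with
  | zero => simp
  | tmul a y => simp [mul_comm]
  | add a b ha hb => simp only [map_add, ha, hb]

theorem minimalPrime_stable [IsAffine G.left] [Smooth G.hom] [ConnectedSpace G.left] (ρ : VecGrp.GMod G A) (hρ : ρ.IsMult)
    (A' : Subalgebra k A) [IsNoetherianRing A'] (hA' : ∀ (g : VecGrp.pt k k ⟶ G), ∀ y ∈ A', act ρ hρ g y ∈ A')
    (P : Ideal A') (hP : P ∈ minimalPrimes A') (t : VecGrp.pt k k ⟶ G) (y : A') (hy : y ∈ P) :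
    (⟨act ρ hρ t y, hA' t y y.2⟩ : A') ∈ P := by
  classical
  letI := gAlg G
  obtain ⟨uG, hu⟩ := exists_univ_pt G
  haveI : Algebra.FiniteType k Γ(G.left, ⊤) := by
    have h1 : G.hom.appTop.hom.FiniteType := HasRingHomProperty.appTop (P := @LocallyOfFiniteType) G.hom inferInstance
    exact h1.comp (RingHom.FiniteType.of_surjective _
      (ConcreteCategory.bijective_of_isIso (Scheme.ΓSpecIso (CommRingCat.of k)).inv).surjective)
  haveI : IsJacobsonRing Γ(G.left, ⊤) := isJacobsonRing_of_finiteType (A := k)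
  haveI : ConnectedSpace (PrimeSpectrum Γ(G.left, ⊤)) :=
    Function.Surjective.connectedSpace (asIso G.left.toSpecΓ).hom.surjective (asIso G.left.toSpecΓ).hom.continuous
  let σ : (VecGrp.pt k k ⟶ G) → (A' →+* A') := fun g =>
    (((act ρ hρ g).comp A'.val).codRestrict A' (fun z => hA' g z z.2)).toRingHom
  have hσ : ∀ g z, ((σ g z : A') : A) = act ρ hρ g z := fun g z => rfl
  have hσinv : ∀ g z, σ g⁻¹ (σ g z) = z := fun g z => Subtype.ext <| by
    rw [hσ, hσ, ← act_mul, inv_mul_cancel, act_one]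
  have hσinv' : ∀ g z, σ g (σ g⁻¹ z) = z := fun g z => by
    simpa using hσinv g⁻¹ z
  let M := {Q : Ideal A' // Q ∈ minimalPrimes A'}
  haveI : Finite M := (minimalPrimes.finite_of_isNoetherianRing A').to_subtype
  let S : M → Set Γ(G.left, ⊤) := fun Q => {F | ∃ x ∈ P, ∃ l : A →ₗ[k] k,
    (∀ q : A', q ∈ Q.1 → l q = 0) ∧ ∀ s, algPt s F = l (act ρ hρ s x)}
  have hS : ∀ (Q : M) (s : VecGrp.pt k k ⟶ G), (∀ F ∈ S Q, algPt s F = 0) ↔ ∀ x ∈ P, σ s x ∈ Q.1 := by
    intro Q s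
    constructor
    · intro h x hx
      by_contra hn
      let W : Submodule k A := (Q.1.restrictScalars k).map A'.val.toLinearMap
      have hW : ((σ s x : A') : A) ∉ W := fun hm => by
        obtain ⟨q, hq, hqe⟩ := hm
        exact hn (by rwa [show σ s x = q from Subtype.ext hqe.symm])
      obtain ⟨l, hl, hlW⟩ := Submodule.exists_dual_map_eq_bot_of_notMem hW (Module.Projective.of_free (R := k) (P := A ⧸ W))
      obtain ⟨F, hF⟩ := coeff_act ρ hρ (x : A) l
      apply hl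
      rw [hσ, ← hF]
      refine h F ⟨x, hx, l, fun q hq => ?_, hF⟩
      have : l q ∈ W.map l := ⟨q, ⟨q, hq, rfl⟩, rfl⟩
      rwa [hlW, Submodule.mem_bot] at this
    · rintro h F ⟨x, hx, l, hl, hF⟩
      rw [hF, ← hσ]
      exact hl _ (h x hx)
  have hdest : ∀ s : VecGrp.pt k k ⟶ G, ∃! Q : M, ∀ x ∈ P, σ s x ∈ Q.1 := by
    intro s
    haveI : P.IsPrime := hP.1.1
    let Q : Ideal A' := P.comap (σ s⁻¹)
    have hQ : Q ∈ minimalPrimes A' := by
      refine ⟨⟨Ideal.comap_isPrime _ _, bot_le⟩, fun R hR hRQ => ?_⟩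
      haveI : R.IsPrime := hR.1
      have h1 : R.comap (σ s) ≤ P := fun z hz => by
        have := hRQ hz
        rwa [Ideal.mem_comap, hσinv] at this
      have h2 := hP.2 ⟨Ideal.comap_isPrime (σ s) R, bot_le⟩ h1
      intro z hz
      have := h2 (Ideal.mem_comap.1 hz)
      rwa [Ideal.mem_comap, hσinv'] at this
    refine ⟨⟨Q, hQ⟩, fun x hx => by rw [Ideal.mem_comap, hσinv]; exact hx, fun R hR => Subtype.ext ?_⟩
    have h1 : Q ≤ R.1 := fun z hz => by
      have := hR _ (Ideal.mem_comap.1 hz)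
      rwa [hσinv'] at this
    exact le_antisymm (R.2.2 hQ.1 h1) h1
  have hpt : ∀ m : Ideal Γ(G.left, ⊤), m.IsMaximal → ∃ s : VecGrp.pt k k ⟶ G, ∀ F, F ∈ m ↔ algPt s F = 0 := by
    intro m hm
    letI : Field (Γ(G.left, ⊤) ⧸ m) := Ideal.Quotient.field m
    haveI : Module.Finite k (Γ(G.left, ⊤) ⧸ m) := finite_of_finite_type_of_isJacobsonRing k _
    let e : k ≃ₐ[k] (Γ(G.left, ⊤) ⧸ m) :=
      AlgEquiv.ofBijective (Algebra.ofId k _) (IsAlgClosed.algebraMap_bijective_of_isIntegral)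
    refine ⟨VecGrp.ptMap (e.symm.toAlgHom.comp (Ideal.Quotient.mkₐ k m)) ≫ uG, fun F => ?_⟩
    rw [algPt_ptMap, hu]
    show _ ↔ e.symm (Ideal.Quotient.mk m F) = 0
    rw [map_eq_zero_iff _ e.symm.injective, Ideal.Quotient.eq_zero_iff_mem]
  let Z : M → Set (PrimeSpectrum Γ(G.left, ⊤)) := fun Q => PrimeSpectrum.zeroLocus (S Q)
  have hcover : ∀ p, ∃ Q, p ∈ Z Q := by
    intro p
    by_contra hn
    simp only [not_exists, Z, PrimeSpectrum.mem_zeroLocus, Set.not_subset] at hn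
    choose F hF hFp using hn
    haveI := Fintype.ofFinite M
    have hprod : (∏ Q, F Q) ∉ p.asIdeal := fun h => by
      obtain ⟨Q, -, hQ⟩ := p.isPrime.prod_mem_iff.1 h
      exact hFp Q hQ
    haveI := p.isPrime
    have hj : p.asIdeal.jacobson = p.asIdeal := (isJacobsonRing_iff.1 inferInstance) p.asIdeal p.isPrime.isRadical
    rw [← hj, Ideal.jacobson, Submodule.mem_sInf] at hprod
    push_neg at hprod
    obtain ⟨m, ⟨-, hm⟩, hprod⟩ := hprod
    obtain ⟨s, hs⟩ := hpt m hm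
    obtain ⟨Q, hQ, -⟩ := hdest s
    exact hprod (Ideal.mem_of_dvd m (Finset.dvd_prod_of_mem F (Finset.mem_univ Q)) ((hs _).2 ((hS Q s).2 hQ _ (hF Q))))
  have hdisj : ∀ Q Q', Q ≠ Q' → Disjoint (Z Q) (Z Q') := by
    intro Q Q' hne
    rw [Set.disjoint_left]
    intro p hp hp'
    obtain ⟨m, hm, hpm⟩ := p.asIdeal.exists_le_maximal p.isPrime.ne_top
    obtain ⟨s, hs⟩ := hpt m hm
    exact hne ((hdest s).unique ((hS Q s).1 fun F hF => (hs F).1 (hpm (hp hF)))
      ((hS Q' s).1 fun F hF => (hs F).1 (hpm (hp' hF))))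
  have hclopen : IsClopen (Z ⟨P, hP⟩) := by
    refine ⟨PrimeSpectrum.isClosed_zeroLocus _, ?_⟩
    rw [← isClosed_compl_iff]
    have : (Z ⟨P, hP⟩)ᶜ = ⋃ Q ∈ {Q : M | Q ≠ ⟨P, hP⟩}, Z Q := by
      ext p
      simp only [Set.mem_compl_iff, Set.mem_iUnion, Set.mem_setOf_eq, exists_prop]
      constructor
      · intro hp
        obtain ⟨Q, hQ⟩ := hcover p
        exact ⟨Q, fun h => hp (h ▸ hQ), hQ⟩
      · rintro ⟨Q, hQ, hQp⟩ hp
        exact Set.disjoint_left.1 (hdisj Q _ hQ) hQp hp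
    rw [this]
    exact (Set.toFinite _).isClosed_biUnion fun Q _ => PrimeSpectrum.isClosed_zeroLocus _
  obtain ⟨φ₁, hφ₁⟩ := exists_algHom (1 : VecGrp.pt k k ⟶ G)
  have hmem : (⟨RingHom.ker φ₁.toRingHom, RingHom.ker_isPrime _⟩ : PrimeSpectrum Γ(G.left, ⊤)) ∈ Z ⟨P, hP⟩ := by
    intro F hF
    show φ₁ F = 0
    rw [hφ₁]
    exact (hS ⟨P, hP⟩ 1).2 (fun x hx => by
      rwa [show σ 1 x = x from Subtype.ext ((hσ 1 x).trans (act_one ρ hρ x))]) F hF
  have huniv := hclopen.eq_univ ⟨_, hmem⟩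
  obtain ⟨φ, hφ⟩ := exists_algHom t
  have h2 : (⟨RingHom.ker φ.toRingHom, RingHom.ker_isPrime _⟩ : PrimeSpectrum Γ(G.left, ⊤)) ∈ Z ⟨P, hP⟩ :=
    huniv ▸ Set.mem_univ _
  exact (hS ⟨P, hP⟩ t).1 (fun F hF => (hφ F).symm.trans (h2 hF)) y hy

theorem exists_fixed_mem {U : Over (Spec (CommRingCat.of k))} [GrpObj U] [IsAffine U.left] [Smooth U.hom] [ConnectedSpace U.left]
    (hnt : Red.HasNoSubtorus k U) [IsAffine G.left] (j : U ⟶ G) [IsMonHom j] (ρ : VecGrp.GMod G A) (hρ : ρ.IsMult)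
    (I : Submodule k A) (hI : ∀ (g : VecGrp.pt k k ⟶ G), ∀ y ∈ I, act ρ hρ g y ∈ I) {x : A} (hx : x ∈ I) (hx0 : x ≠ 0) :
    ∃ v ∈ I, v ≠ 0 ∧ v ∈ ρ.fixedSubalgebra hρ j := by
  haveI : AlgebraicGeometry.IsReduced U.left := WeilLib.isReduced_of_smooth U.hom
  obtain ⟨N, hxN, hN, hst⟩ := Groth.Agent.CommAlg4.GModStab.exists_stable_of_noetherian ρ
    (Submodule.span k {x}) (Submodule.fg_span (Set.finite_singleton x))
  haveI : Module.Finite k N := Module.Finite.iff_fg.2 hN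
  let W : Submodule k A := N ⊓ I
  haveI : Module.Finite k W :=
    Module.Finite.of_injective (Submodule.inclusion (inf_le_left : W ≤ N)) (Submodule.inclusion_injective _)
  haveI : Nontrivial W := ⟨⟨⟨x, hxN (Submodule.subset_span rfl), hx⟩, 0, fun h => hx0 (congrArg Subtype.val h)⟩⟩
  have hW : ∀ (g : VecGrp.pt k k ⟶ U), ∀ y ∈ W, (act ρ hρ (g ≫ j)).toLinearMap y ∈ W := fun g y hy =>
    ⟨act_mem (hρ := hρ) hst _ hy.1, hI _ y hy.2⟩
  let R : (VecGrp.pt k k ⟶ U) →* Module.End k W :=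
    { toFun := fun g => (act ρ hρ (g ≫ j)).toLinearMap.restrict (hW g)
      map_one' := LinearMap.ext fun y => Subtype.ext <| by
        show act ρ hρ ((1 : VecGrp.pt k k ⟶ U) ≫ j) (y : A) = y
        rw [MonObj.one_comp, act_one]
      map_mul' := fun g g' => LinearMap.ext fun y => Subtype.ext <| by
        show act ρ hρ ((g * g') ≫ j) (y : A) = act ρ hρ (g ≫ j) (act ρ hρ (g' ≫ j) y)
        rw [MonObj.mul_comp, act_mul] }
  obtain ⟨v, hv, hvfix⟩ := Groth.Agent.S11241.exists_fixed_vector hnt R fun y l => by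
    obtain ⟨l', hl'⟩ := l.exists_extend
    obtain ⟨F, hF⟩ := coeff_act ρ hρ (y : A) l'
    refine ⟨j.left.appTop F, fun t => ?_⟩
    rw [← algPt_comp, hF, ← hl']
    rfl
  refine ⟨v, v.2.2, fun h => hv (Subtype.ext h), S11188.mem_fixedUnder_of_pts j ρ _ fun t => ?_⟩
  have h1 : act ρ hρ (t ≫ j) (v : A) = v := congrArg Subtype.val (hvfix t)
  rw [act_apply] at h1
  conv_rhs => rw [← h1]
  exact ((TensorProduct.lid k A).symm_apply_apply _).symm


end Groth.Agent.S11230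

namespace Groth.Agent.S11230

/-- Let k an algebraically closed field, G a connected reductive linear algebraic group over k, B a
Borel subgroup of G with unipotent radical U (a maximal unipotent subgroup), and let A be a
commutative k-algebra with a rational action of G by algebra automorphisms. Then A has zero divisors
(two nonzero elements with product zero) if and only if the algebra of invariants A^U does. -/
theorem result (k : Type u) [Field k] [IsAlgClosed k]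
    (G : Over (Spec (CommRingCat.of k))) [GrpObj G] (hG : Red.IsReductiveOver k G)
    (Bo : Over (Spec (CommRingCat.of k))) [GrpObj Bo] (iB : Bo ⟶ G) (hB : Red.IsBorelOver k iB)
    (U : Over (Spec (CommRingCat.of k))) [GrpObj U] (u : U ⟶ Bo) (hU : Par.IsUnipotentRadical u)
    (A : Type u) [CommRing A] [Algebra k A] (ρ : VecGrp.GMod G A) (hρ : ρ.IsMult) :
    (∃ a b : A, a ≠ 0 ∧ b ≠ 0 ∧ a * b = 0) ↔
      ∃ a b : ↥(ρ.fixedSubalgebra hρ (u ≫ iB)), a ≠ 0 ∧ b ≠ 0 ∧ a * b = 0 := by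
  classical
  refine ⟨?_, fun ⟨a, b, ha, hb, hab⟩ => ⟨a, b, fun h => ha (Subtype.ext h), fun h => hb (Subtype.ext h), congrArg Subtype.val hab⟩⟩
  rintro ⟨a, b, ha, hb, hab⟩
  by_cases hAr : IsReduced ↥(ρ.fixedSubalgebra hρ (u ≫ iB))
  swap
  · obtain ⟨x, hx⟩ : ∃ x : ↥(ρ.fixedSubalgebra hρ (u ≫ iB)), IsNilpotent x ∧ x ≠ 0 := by
      by_contra h
      push_neg at h
      exact hAr ⟨h⟩
    obtain ⟨⟨n, hn⟩, hx0⟩ := hx
    have hex : ∃ m, x ^ (m + 1) = 0 := ⟨n, by rw [pow_succ, hn, zero_mul]⟩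
    let m := Nat.find hex
    have hm : x ^ (m + 1) = 0 := Nat.find_spec hex
    refine ⟨x ^ m, x, fun h0 => ?_, hx0, by rw [← pow_succ]; exact hm⟩
    rcases hm' : m with _ | m'
    · rw [hm', pow_zero] at h0; exact hx0 (eq_zero_of_zero_eq_one h0.symm x)
    · rw [hm'] at h0; exact Nat.find_min hex (show m' < Nat.find hex by show m' < m; omega) h0
  haveI : IsReduced A := (S11229.result k G hG Bo iB hB U u hU A ρ hρ).2 hAr
  obtain ⟨humon, hucl, -, hUs, -, hUf, -⟩ := hU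
  haveI := hG.1
  haveI := hG.2.1
  haveI := hG.2.2.1
  haveI := hB.1
  haveI := hB.2.1
  haveI := humon
  haveI := hucl
  haveI := hUs
  haveI : IsAffine Bo.left := isAffine_of_isAffineHom iB.left
  haveI : IsAffine U.left := isAffine_of_isAffineHom u.left
  obtain ⟨hconn, hnt⟩ := S11229.connected_and_noSubtorus hUf
  haveI := hconn
  obtain ⟨N, hN', hN, hst⟩ := Groth.Agent.CommAlg4.GModStab.exists_stable_of_noetherian ρ
    (Submodule.span k {a, b}) (Submodule.fg_span (Set.toFinite _))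
  obtain ⟨s, hs⟩ := hN
  let A' := Algebra.adjoin k (N : Set A)
  haveI : IsNoetherianRing A' := by
    have e : A' = Algebra.adjoin k (↑s : Set A) := by
      show Algebra.adjoin k (N : Set A) = _
      rw [← hs, Algebra.adjoin_span]
    have hfg : A'.FG := ⟨s, e.symm⟩
    haveI : Algebra.FiniteType k A' := (Subalgebra.fg_iff_finiteType _).1 hfg
    exact Algebra.FiniteType.isNoetherianRing k A'
  have hA' : ∀ (g : VecGrp.pt k k ⟶ G), ∀ y ∈ A', act ρ hρ g y ∈ A' := by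
    intro g y hy
    induction hy using Algebra.adjoin_induction with
    | mem y hy => exact Algebra.subset_adjoin (act_mem hst g hy)
    | algebraMap r => rw [AlgHom.commutes]; exact A'.algebraMap_mem r
    | add y z _ _ hy hz => rw [map_add]; exact A'.add_mem hy hz
    | mul y z _ _ hy hz => rw [map_mul]; exact A'.mul_mem hy hz
  let a' : A' := ⟨a, Algebra.subset_adjoin (hN' (Submodule.subset_span (Or.inl rfl)))⟩
  let b' : A' := ⟨b, Algebra.subset_adjoin (hN' (Submodule.subset_span (Or.inr rfl)))⟩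
  haveI : IsReduced A' := isReduced_of_injective A'.val Subtype.val_injective
  obtain ⟨P, hP, haP⟩ : ∃ P ∈ minimalPrimes A', a' ∉ P := by
    by_contra h
    push_neg at h
    have h2 : a' ∈ sInf (minimalPrimes A') := Submodule.mem_sInf.2 h
    rw [Ideal.sInf_minimalPrimes, Ideal.radical_bot_of_noZeroDivisors] at h2
    exact ha (congrArg Subtype.val (show a' = 0 from h2))
  have hbP : b' ∈ P := (hP.1.1.mem_or_mem (show a' * b' ∈ P by
    rw [show a' * b' = 0 from Subtype.ext hab]; exact P.zero_mem)).resolve_left haP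
  let J : Ideal A' := sInf (minimalPrimes A' \ {P})
  have hsInf : sInf (minimalPrimes A') = (⊥ : Ideal A') := by
    rw [show minimalPrimes A' = (⊥ : Ideal A').minimalPrimes from rfl, Ideal.sInf_minimalPrimes]
    exact (nilradical_eq_zero A')
  obtain ⟨c, hcJ, hcP⟩ : ∃ c ∈ J, c ∉ P := by
    by_contra h
    push_neg at h
    have hfin : (minimalPrimes A' \ {P}).Finite := (minimalPrimes.finite_of_isNoetherianRing A').subset Set.diff_subset
    have hle : (hfin.toFinset.inf id : Ideal A') ≤ P := fun z hz => h z (Submodule.mem_sInf.2 fun Q hQ =>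
      (Finset.inf_le (f := id) (hfin.mem_toFinset.2 hQ) : hfin.toFinset.inf id ≤ Q) hz)
    obtain ⟨Q, hQ, hQP⟩ := (Ideal.IsPrime.inf_le' hP.1.1).1 hle
    rw [hfin.mem_toFinset] at hQ
    exact hQ.2 (le_antisymm hQP (hP.2 hQ.1.1 hQP))
  let IP : Submodule k A := (P.restrictScalars k).map A'.val.toLinearMap
  let IJ : Submodule k A := (J.restrictScalars k).map A'.val.toLinearMap
  have hstP : ∀ (g : VecGrp.pt k k ⟶ G), ∀ y ∈ IP, act ρ hρ g y ∈ IP := by
    rintro g y ⟨z, hz, rfl⟩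
    exact ⟨_, minimalPrime_stable ρ hρ A' hA' P hP g z hz, rfl⟩
  have hstJ : ∀ (g : VecGrp.pt k k ⟶ G), ∀ y ∈ IJ, act ρ hρ g y ∈ IJ := by
    rintro g y ⟨z, hz, rfl⟩
    exact ⟨_, Submodule.mem_sInf.2 fun Q hQ => minimalPrime_stable ρ hρ A' hA' Q hQ.1 g z (Submodule.mem_sInf.1 hz Q hQ), rfl⟩
  obtain ⟨v, hvP, hv0, hvU⟩ := exists_fixed_mem hnt (u ≫ iB) ρ hρ IP hstP (x := b) ⟨b', hbP, rfl⟩ hb
  obtain ⟨w, hwJ, hw0, hwU⟩ := exists_fixed_mem hnt (u ≫ iB) ρ hρ IJ hstJ (x := (c : A)) ⟨c, hcJ, rfl⟩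
    (fun h => hcP (by rw [show c = 0 from Subtype.ext h]; exact P.zero_mem))
  refine ⟨⟨v, hvU⟩, ⟨w, hwU⟩, fun h => hv0 (congrArg Subtype.val h), fun h => hw0 (congrArg Subtype.val h), Subtype.ext ?_⟩
  obtain ⟨v', hv', rfl⟩ := hvP
  obtain ⟨w', hw', rfl⟩ := hwJ
  have : v' * w' ∈ sInf (minimalPrimes A') := Submodule.mem_sInf.2 fun Q hQ => by
    by_cases hQP : Q = P
    · subst hQP; exact Ideal.mul_mem_right _ Q hv'
    · exact Ideal.mul_mem_left Q _ (Submodule.mem_sInf.1 hw' Q ⟨hQ, hQP⟩)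
  rw [hsInf] at this
  show A'.val v' * A'.val w' = 0
  rw [← map_mul, show v' * w' = 0 from this, map_zero]


end Groth.Agent.S11230
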