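import Groth.Statements.S11231
-- import your own Groth.Agent.* helpers here

set_option autoImplicit false
set_option backward.isDefEq.respectTransparency false
set_option backward.isDefEq.respectTransparency.types false
universe u
open CategoryTheory MonoidalCategory CartesianMonoidalCategory MonObj GrpObj AlgebraicGeometry
open scoped TensorProduct
open AGF

namespace Groth.Agent.S11231

variable {k : Type u} [Field k]

theorem isIntegrallyClosed_fixed {G H : Over (Spec (CommRingCat.of k))} [GrpObj G] [GrpObj H] {A : Type u}
    [CommRing A] [IsDomain A] [Algebra k A] [IsIntegrallyClosed A] (ρ : VecGrp.GMod G A) (hρ : ρ.IsMult) (i : H ⟶ G) :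
    IsIntegrallyClosed ↥(ρ.fixedSubalgebra hρ i) := by
  let S := ρ.fixedSubalgebra hρ i
  let K := FractionRing A
  refine (isIntegrallyClosed_iff (FractionRing S)).2 fun {x} hx => ?_
  let g : S →+* K := (algebraMap A K).comp S.val.toRingHom
  have hg : Function.Injective g := (IsFractionRing.injective A K).comp Subtype.val_injective
  let φ : FractionRing S →+* K := IsFractionRing.lift hg
  have hφ : ∀ s : S, φ (algebraMap S (FractionRing S) s) = algebraMap A K (s : A) := fun s =>
    IsFractionRing.lift_algebraMap hg s
  have hint : IsIntegral A (φ x) := by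
    obtain ⟨p, hp, hp0⟩ := hx
    refine ⟨p.map S.val.toRingHom, hp.map _, ?_⟩
    rw [Polynomial.eval₂_map]
    have h1 := congrArg φ hp0
    rw [Polynomial.hom_eval₂, map_zero] at h1
    have e : (algebraMap A K).comp S.val.toRingHom = φ.comp (algebraMap S (FractionRing S)) :=
      RingHom.ext fun s => (hφ s).symm
    rw [e]; exact h1
  obtain ⟨y, hy⟩ := (isIntegrallyClosed_iff K).1 inferInstance hint
  obtain ⟨a, b, hb, hab⟩ := IsFractionRing.div_surjective (A := S) x
  have hb0 : (b : A) ≠ 0 := fun h => nonZeroDivisors.ne_zero hb (Subtype.ext h)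
  have hyb : y * (b : A) = (a : A) := by
    apply IsFractionRing.injective A K
    rw [map_mul, hy, ← hab, map_div₀, hφ, hφ, div_mul_cancel₀]
    exact (map_ne_zero_iff _ (IsFractionRing.injective A K)).2 hb0
  refine ⟨⟨y, fun B _ _ h => ?_⟩, ?_⟩
  · have hinj : Function.Injective ((LinearMap.mulRight k (b : A)).lTensor B) :=
      Module.Flat.lTensor_preserves_injective_linearMap _ fun p q hpq => mul_right_cancel₀ hb0 hpq
    have hmul : ∀ z : B ⊗[k] A, (LinearMap.mulRight k (b : A)).lTensor B z = z * ((1 : B) ⊗ₜ[k] (b : A)) := fun z => by
      induction z using TensorProduct.induction_on with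
      | zero => simp
      | tmul p q => simp [Algebra.TensorProduct.tmul_mul_tmul]
      | add p q hp hq => rw [map_add, hp, hq, add_mul]
    apply hinj
    rw [hmul, hmul]
    conv_lhs => rw [← b.2 B h]
    rw [← (hρ B (h ≫ i)).1]
    rw [Algebra.TensorProduct.tmul_mul_tmul, _root_.mul_one, hyb, a.2 B h]
  · apply φ.injective
    rw [hφ]; exact hy

end Groth.Agent.S11231

namespace Groth.Agent.S11231

/-- Let k an algebraically closed field, G a connected reductive linear algebraic group over k, B a
Borel subgroup of G with unipotent radical U (a maximal unipotent subgroup), and let A be a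
commutative k-algebra with a rational action of G by algebra automorphisms. If A is an integrally
closed domain then so is A^U. (The published statement is for A normal; its proof reduces to the
case of a domain, which is the case stated here.) -/
theorem result (k : Type u) [Field k] [IsAlgClosed k]
    (G : Over (Spec (CommRingCat.of k))) [GrpObj G] (hG : Red.IsReductiveOver k G)
    (Bo : Over (Spec (CommRingCat.of k))) [GrpObj Bo] (iB : Bo ⟶ G) (hB : Red.IsBorelOver k iB)
    (U : Over (Spec (CommRingCat.of k))) [GrpObj U] (u : U ⟶ Bo) (hU : Par.IsUnipotentRadical u)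
    (A : Type u) [CommRing A] [IsDomain A] [Algebra k A] [IsIntegrallyClosed A]
    (ρ : VecGrp.GMod G A) (hρ : ρ.IsMult) :
    IsIntegrallyClosed ↥(ρ.fixedSubalgebra hρ (u ≫ iB)) := isIntegrallyClosed_fixed ρ hρ (u ≫ iB)


end Groth.Agent.S11231
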