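import Groth.Statements.S11232
import Groth.Agent.AGF12.Minors
import Groth.Agent.AGF12.Inverse
import Groth.Agent.AGF12.Semi
import Groth.Agent.S11188
-- import your own Groth.Agent.* helpers here

set_option autoImplicit false
set_option backward.isDefEq.respectTransparency false
set_option backward.isDefEq.respectTransparency.types false
set_option synthInstance.maxHeartbeats 200000
open Groth.Agent.CommAlg4.AffPt Groth.Agent Groth.Agent.AGF12
universe u
open CategoryTheory MonoidalCategory CartesianMonoidalCategory MonObj GrpObj AlgebraicGeometry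
open scoped TensorProduct
open AGF

namespace Groth.Agent.S11232

variable {k : Type u} [Field k] [IsAlgClosed k]
variable {G : Over (Spec (CommRingCat.of k))} [GrpObj G]
variable {A : Type u} [CommRing A] [Algebra k A]

/-- The action of a rational point. -/
noncomputable def act (ρ : VecGrp.GMod G A) (hρ : ρ.IsMult) (g : VecGrp.pt k k ⟶ G) : A →ₐ[k] A :=
  AlgHom.ofLinearMap ((TensorProduct.lid k A).toLinearMap ∘ₗ (ρ.ρ k g).toLinearMap ∘ₗ (TensorProduct.lid k A).symm.toLinearMap)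
    (by
      show TensorProduct.lid k A (ρ.ρ k g ((1 : k) ⊗ₜ[k] (1 : A))) = 1
      rw [← Algebra.TensorProduct.one_def, (hρ k g).2, Algebra.TensorProduct.one_def]
      simp)
    (fun x y => by
      show TensorProduct.lid k A (ρ.ρ k g ((1 : k) ⊗ₜ[k] (x * y))) =
        TensorProduct.lid k A (ρ.ρ k g ((1 : k) ⊗ₜ[k] x)) * TensorProduct.lid k A (ρ.ρ k g ((1 : k) ⊗ₜ[k] y))
      rw [show (1 : k) ⊗ₜ[k] (x * y) = ((1 : k) ⊗ₜ[k] x) * ((1 : k) ⊗ₜ[k] y) by
        rw [Algebra.TensorProduct.tmul_mul_tmul, _root_.one_mul], (hρ k g).1]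
      exact map_mul (Algebra.TensorProduct.lid k A) _ _)

theorem act_apply (ρ : VecGrp.GMod G A) (hρ : ρ.IsMult) (g : VecGrp.pt k k ⟶ G) (y : A) :
    act ρ hρ g y = TensorProduct.lid k A (ρ.ρ k g ((1 : k) ⊗ₜ[k] y)) := rfl

theorem act_one (ρ : VecGrp.GMod G A) (hρ : ρ.IsMult) (y : A) : act ρ hρ 1 y = y := by
  rw [act_apply, map_one]
  exact (TensorProduct.lid_tmul _ _).trans (one_smul _ _)

theorem act_mul (ρ : VecGrp.GMod G A) (hρ : ρ.IsMult) (g g' : VecGrp.pt k k ⟶ G) (y : A) :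
    act ρ hρ (g * g') y = act ρ hρ g (act ρ hρ g' y) := by
  rw [act_apply, act_apply, act_apply, map_mul,
    show (1 : k) ⊗ₜ[k] TensorProduct.lid k A (ρ.ρ k g' ((1 : k) ⊗ₜ[k] y)) = _ from (TensorProduct.lid k A).symm_apply_apply _]
  rfl

theorem act_mem {ρ : VecGrp.GMod G A} {hρ : ρ.IsMult} {N : Submodule k A} (hst : ρ.IsStable (𝟙 G) N)
    (g : VecGrp.pt k k ⟶ G) {y : A} (hy : y ∈ N) : act ρ hρ g y ∈ N := by
  obtain ⟨w, hw⟩ := hst k g y hy
  rw [Category.comp_id] at hw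
  rw [act_apply, ← hw]
  clear hw
  induction w using TensorProduct.induction_on with
  | zero => simp
  | tmul p z => simpa using N.smul_mem p z.2
  | add p q hp hq => rw [map_add, map_add]; exact N.add_mem hp hq

theorem coeff_act [IsAffine G.left] (ρ : VecGrp.GMod G A) (hρ : ρ.IsMult) (y : A) (l : A →ₗ[k] k) :
    ∃ F : Γ(G.left, ⊤), ∀ t : VecGrp.pt k k ⟶ G, algPt t F = l (act ρ hρ t y) := by
  obtain ⟨F, hF⟩ := exists_coeff G A ρ y
  refine ⟨F l, fun t => ?_⟩
  rw [hF k t l, act_apply]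
  generalize ρ.ρ k t ((1 : k) ⊗ₜ[k] y) = z
  induction z using TensorProduct.induction_on with
  | zero => simp
  | tmul a y => simp [mul_comm]
  | add a b ha hb => simp only [map_add, ha, hb]

theorem ideal_stable [IsAffine G.left] [Smooth G.hom] [ConnectedSpace G.left] (ρ : VecGrp.GMod G A) (hρ : ρ.IsMult)
    (𝒮 : Set (Ideal A)) (h𝒮 : 𝒮.Finite) (P : Ideal A) (hP : P ∈ 𝒮)
    (hperm : ∀ g : VecGrp.pt k k ⟶ G, ∃! Q : Ideal A, Q ∈ 𝒮 ∧ ∀ x ∈ P, act ρ hρ g x ∈ Q)
    (t : VecGrp.pt k k ⟶ G) (y : A) (hy : y ∈ P) :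
    act ρ hρ t y ∈ P := by
  classical
  letI := gAlg G
  obtain ⟨uG, hu⟩ := exists_univ_pt G
  haveI : Algebra.FiniteType k Γ(G.left, ⊤) := by
    have h1 : G.hom.appTop.hom.FiniteType := HasRingHomProperty.appTop (P := @LocallyOfFiniteType) G.hom inferInstance
    exact h1.comp (RingHom.FiniteType.of_surjective _
      (ConcreteCategory.bijective_of_isIso (Scheme.ΓSpecIso (CommRingCat.of k)).inv).surjective)
  haveI : IsJacobsonRing Γ(G.left, ⊤) := isJacobsonRing_of_finiteType (A := k)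
  haveI : ConnectedSpace (PrimeSpectrum Γ(G.left, ⊤)) :=
    Function.Surjective.connectedSpace (asIso G.left.toSpecΓ).hom.surjective (asIso G.left.toSpecΓ).hom.continuous
  let σ : (VecGrp.pt k k ⟶ G) → (A →+* A) := fun g => (act ρ hρ g).toRingHom
  have hσ : ∀ g z, σ g z = act ρ hρ g z := fun g z => rfl
  let M := {Q : Ideal A // Q ∈ 𝒮}
  haveI : Finite M := h𝒮.to_subtype
  let S : M → Set Γ(G.left, ⊤) := fun Q => {F | ∃ x ∈ P, ∃ l : A →ₗ[k] k,
    (∀ q : A, q ∈ Q.1 → l q = 0) ∧ ∀ s, algPt s F = l (act ρ hρ s x)}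
  have hS : ∀ (Q : M) (s : VecGrp.pt k k ⟶ G), (∀ F ∈ S Q, algPt s F = 0) ↔ ∀ x ∈ P, σ s x ∈ Q.1 := by
    intro Q s
    constructor
    · intro h x hx
      by_contra hn
      let W : Submodule k A := Q.1.restrictScalars k
      have hW : σ s x ∉ W := hn
      obtain ⟨l, hl, hlW⟩ := Submodule.exists_dual_map_eq_bot_of_notMem hW (Module.Projective.of_free (R := k) (P := A ⧸ W))
      obtain ⟨F, hF⟩ := coeff_act ρ hρ x l
      apply hl
      rw [hσ, ← hF]
      refine h F ⟨x, hx, l, fun q hq => ?_, hF⟩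
      have : l q ∈ W.map l := ⟨q, hq, rfl⟩
      rwa [hlW, Submodule.mem_bot] at this
    · rintro h F ⟨x, hx, l, hl, hF⟩
      rw [hF, ← hσ]
      exact hl _ (h x hx)
  have hdest : ∀ s : VecGrp.pt k k ⟶ G, ∃! Q : M, ∀ x ∈ P, σ s x ∈ Q.1 := fun s => by
    obtain ⟨Q, hQ, huniq⟩ := hperm s
    exact ⟨⟨Q, hQ.1⟩, hQ.2, fun R hR => Subtype.ext (huniq R.1 ⟨R.2, hR⟩)⟩
  have hpt : ∀ m : Ideal Γ(G.left, ⊤), m.IsMaximal → ∃ s : VecGrp.pt k k ⟶ G, ∀ F, F ∈ m ↔ algPt s F = 0 := by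
    intro m hm
    letI : Field (Γ(G.left, ⊤) ⧸ m) := Ideal.Quotient.field m
    haveI : Module.Finite k (Γ(G.left, ⊤) ⧸ m) := finite_of_finite_type_of_isJacobsonRing k _
    let e : k ≃ₐ[k] (Γ(G.left, ⊤) ⧸ m) :=
      AlgEquiv.ofBijective (Algebra.ofId k _) (IsAlgClosed.algebraMap_bijective_of_isIntegral)
    refine ⟨VecGrp.ptMap (e.symm.toAlgHom.comp (Ideal.Quotient.mkₐ k m)) ≫ uG, fun F => ?_⟩
    rw [algPt_ptMap, hu]
    show _ ↔ e.symm (Ideal.Quotient.mk m F) = 0
    rw [map_eq_zero_iff _ e.symm.injective, Ideal.Quotient.eq_zero_iff_mem]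
  let Z : M → Set (PrimeSpectrum Γ(G.left, ⊤)) := fun Q => PrimeSpectrum.zeroLocus (S Q)
  have hcover : ∀ p, ∃ Q, p ∈ Z Q := by
    intro p
    by_contra hn
    simp only [not_exists, Z, PrimeSpectrum.mem_zeroLocus, Set.not_subset] at hn
    choose F hF hFp using hn
    haveI := Fintype.ofFinite M
    have hprod : (∏ Q, F Q) ∉ p.asIdeal := fun h => by
      obtain ⟨Q, -, hQ⟩ := p.isPrime.prod_mem_iff.1 h
      exact hFp Q hQ
    haveI := p.isPrime
    have hj : p.asIdeal.jacobson = p.asIdeal := (isJacobsonRing_iff.1 inferInstance) p.asIdeal p.isPrime.isRadical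
    rw [← hj, Ideal.jacobson, Submodule.mem_sInf] at hprod
    push_neg at hprod
    obtain ⟨m, ⟨-, hm⟩, hprod⟩ := hprod
    obtain ⟨s, hs⟩ := hpt m hm
    obtain ⟨Q, hQ, -⟩ := hdest s
    exact hprod (Ideal.mem_of_dvd m (Finset.dvd_prod_of_mem F (Finset.mem_univ Q)) ((hs _).2 ((hS Q s).2 hQ _ (hF Q))))
  have hdisj : ∀ Q Q', Q ≠ Q' → Disjoint (Z Q) (Z Q') := by
    intro Q Q' hne
    rw [Set.disjoint_left]
    intro p hp hp'
    obtain ⟨m, hm, hpm⟩ := p.asIdeal.exists_le_maximal p.isPrime.ne_top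
    obtain ⟨s, hs⟩ := hpt m hm
    exact hne ((hdest s).unique ((hS Q s).1 fun F hF => (hs F).1 (hpm (hp hF)))
      ((hS Q' s).1 fun F hF => (hs F).1 (hpm (hp' hF))))
  have hclopen : IsClopen (Z ⟨P, hP⟩) := by
    refine ⟨PrimeSpectrum.isClosed_zeroLocus _, ?_⟩
    rw [← isClosed_compl_iff]
    have : (Z ⟨P, hP⟩)ᶜ = ⋃ Q ∈ {Q : M | Q ≠ ⟨P, hP⟩}, Z Q := by
      ext p
      simp only [Set.mem_compl_iff, Set.mem_iUnion, Set.mem_setOf_eq, exists_prop]
      constructor
      · intro hp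
        obtain ⟨Q, hQ⟩ := hcover p
        exact ⟨Q, fun h => hp (h ▸ hQ), hQ⟩
      · rintro ⟨Q, hQ, hQp⟩ hp
        exact Set.disjoint_left.1 (hdisj Q _ hQ) hQp hp
    rw [this]
    exact (Set.toFinite _).isClosed_biUnion fun Q _ => PrimeSpectrum.isClosed_zeroLocus _
  obtain ⟨φ₁, hφ₁⟩ := exists_algHom (1 : VecGrp.pt k k ⟶ G)
  have hmem : (⟨RingHom.ker φ₁.toRingHom, RingHom.ker_isPrime _⟩ : PrimeSpectrum Γ(G.left, ⊤)) ∈ Z ⟨P, hP⟩ := by
    intro F hF
    show φ₁ F = 0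
    rw [hφ₁]
    exact (hS ⟨P, hP⟩ 1).2 (fun x hx => by
      rwa [show σ 1 x = x from (hσ 1 x).trans (act_one ρ hρ x)]) F hF
  have huniv := hclopen.eq_univ ⟨_, hmem⟩
  obtain ⟨φ, hφ⟩ := exists_algHom t
  have h2 : (⟨RingHom.ker φ.toRingHom, RingHom.ker_isPrime _⟩ : PrimeSpectrum Γ(G.left, ⊤)) ∈ Z ⟨P, hP⟩ :=
    huniv ▸ Set.mem_univ _
  exact (hS ⟨P, hP⟩ t).1 (fun F hF => (hφ F).symm.trans (h2 hF)) y hy


theorem act_fixed (ρ : VecGrp.GMod G A) (hρ : ρ.IsMult) {x : A} (hx : x ∈ ρ.fixedSubalgebra hρ (𝟙 G))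
    (g : VecGrp.pt k k ⟶ G) : act ρ hρ g x = x := by
  have h := hx k g
  rw [Category.comp_id] at h
  rw [act_apply, h, TensorProduct.lid_tmul, one_smul]

theorem cofactor_fixed [IsDomain A] (ρ : VecGrp.GMod G A) (hρ : ρ.IsMult) {q y c : A}
    (hq : q ∈ ρ.fixedSubalgebra hρ (𝟙 G)) (hy : y ∈ ρ.fixedSubalgebra hρ (𝟙 G)) (hq0 : q ≠ 0) (h : c * q = y) :
    c ∈ ρ.fixedSubalgebra hρ (𝟙 G) := fun B _ _ g => by
  have hinj : Function.Injective ((LinearMap.mulRight k q).lTensor B) :=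
    Module.Flat.lTensor_preserves_injective_linearMap _ fun a b hab => mul_right_cancel₀ hq0 hab
  have hmul : ∀ z : B ⊗[k] A, (LinearMap.mulRight k q).lTensor B z = z * ((1 : B) ⊗ₜ[k] q) := fun z => by
    induction z using TensorProduct.induction_on with
    | zero => simp
    | tmul p r => simp [Algebra.TensorProduct.tmul_mul_tmul]
    | add p r hp hr => rw [map_add, hp, hr, add_mul]
  apply hinj
  rw [hmul, hmul]
  conv_lhs => rw [← hq B g]
  rw [← (hρ B (g ≫ 𝟙 G)).1, Algebra.TensorProduct.tmul_mul_tmul, _root_.mul_one, h, hy B g]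

theorem factor_fixed [IsAffine G.left] [Smooth G.hom] [ConnectedSpace G.left]
    (hχ : ∀ χ : G ⟶ Red.Gm (Spec (CommRingCat.of k)), IsMonHom χ → χ = 1)
    [IsDomain A] [UniqueFactorizationMonoid A] (hunits : ∀ x : Aˣ, (x : A) ∈ Set.range (algebraMap k A))
    (ρ : VecGrp.GMod G A) (hρ : ρ.IsMult) {x : A} (hx : x ∈ ρ.fixedSubalgebra hρ (𝟙 G)) (hx0 : x ≠ 0)
    {p : A} (hp : p ∈ UniqueFactorizationMonoid.factors x) : p ∈ ρ.fixedSubalgebra hρ (𝟙 G) := by
  classical
  haveI : AlgebraicGeometry.IsReduced G.left := WeilLib.isReduced_of_smooth G.hom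
  have hpp := UniqueFactorizationMonoid.prime_of_factor p hp
  let 𝒮 : Set (Ideal A) := (fun q : A => Ideal.span {q}) '' {q | q ∈ UniqueFactorizationMonoid.factors x}
  have h𝒮 : 𝒮.Finite := ((UniqueFactorizationMonoid.factors x).toFinset.finite_toSet.subset
    (fun q hq => by simpa using hq)).image _
  have hdvd : ∀ g : VecGrp.pt k k ⟶ G, Prime (act ρ hρ g p) := fun g => by
    let e : A ≃ₐ[k] A := AlgEquiv.ofAlgHom (act ρ hρ g) (act ρ hρ g⁻¹)
      (AlgHom.ext fun z => by rw [AlgHom.comp_apply, ← act_mul, mul_inv_cancel, act_one]; rfl)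
      (AlgHom.ext fun z => by rw [AlgHom.comp_apply, ← act_mul, inv_mul_cancel, act_one]; rfl)
    exact (MulEquiv.prime_iff e.toMulEquiv).2 hpp
  have hperm : ∀ g : VecGrp.pt k k ⟶ G, ∃! Q : Ideal A, Q ∈ 𝒮 ∧ ∀ z ∈ Ideal.span {p}, act ρ hρ g z ∈ Q := by
    intro g
    have h1 : act ρ hρ g p ∣ x := by
      have := map_dvd (act ρ hρ g) (UniqueFactorizationMonoid.dvd_of_mem_factors hp)
      rwa [act_fixed ρ hρ hx] at this
    obtain ⟨q, hq, hqa⟩ := UniqueFactorizationMonoid.exists_mem_factors_of_dvd hx0 (hdvd g).irreducible h1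
    refine ⟨Ideal.span {q}, ⟨⟨q, hq, rfl⟩, fun z hz => ?_⟩, ?_⟩
    · obtain ⟨c, rfl⟩ := Ideal.mem_span_singleton'.1 hz
      rw [map_mul]
      exact Ideal.mul_mem_left _ _ (Ideal.mem_span_singleton.2 hqa.symm.dvd)
    · rintro R ⟨⟨r, hr, rfl⟩, hR⟩
      have h2 : r ∣ act ρ hρ g p := Ideal.mem_span_singleton.1 (hR p (Ideal.mem_span_singleton_self p))
      have h3 := (UniqueFactorizationMonoid.prime_of_factor r hr).irreducible.associated_of_dvd (hdvd g).irreducible h2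
      exact Ideal.span_singleton_eq_span_singleton.2 (h3.trans hqa)
  have hsc : ∀ g : VecGrp.pt k k ⟶ G, ∃ c : k, act ρ hρ g p = c • p := by
    intro g
    have h1 : p ∣ act ρ hρ g p := Ideal.mem_span_singleton.1
      (ideal_stable ρ hρ 𝒮 h𝒮 _ ⟨p, hp, rfl⟩ hperm g p (Ideal.mem_span_singleton_self p))
    obtain ⟨u, hu⟩ := hpp.irreducible.associated_of_dvd (hdvd g).irreducible h1
    obtain ⟨c, hc⟩ := hunits u
    exact ⟨c, by rw [← hu, ← hc, Algebra.smul_def, mul_comm]⟩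
  choose c hc using hsc
  obtain ⟨l, hl⟩ : ∃ l : A →ₗ[k] k, l p = 1 := by
    obtain ⟨l, hl⟩ := Module.Projective.exists_dual_ne_zero k hpp.ne_zero
    exact ⟨(l p)⁻¹ • l, inv_mul_cancel₀ hl⟩
  obtain ⟨F, hF⟩ := coeff_act ρ hρ p l
  have hFc : ∀ g, algPt g F = c g := fun g => by rw [hF, hc, map_smul, hl, smul_eq_mul, _root_.mul_one]
  have hcm : ∀ g g', c (g * g') = c g * c g' := fun g g' => by
    have h := act_mul ρ hρ g g' p
    rw [hc, hc, map_smul, hc, smul_smul] at h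
    exact (smul_left_injective k hpp.ne_zero h).trans (mul_comm _ _)
  have hc1 : c 1 = 1 := by
    have h := (hc 1).symm.trans (act_one ρ hρ p)
    exact smul_left_injective k hpp.ne_zero (h.trans (one_smul k p).symm)
  have hsemi : AGF12.Semi (𝟙 G) F F := semi_of_pts fun t h => by
    rw [Category.comp_id, hFc, hFc, hFc, hcm]
  have hF1 : algPt (1 : VecGrp.pt k k ⟶ G) F = 1 := (hFc 1).trans hc1
  obtain ⟨χ, hm, hχF⟩ := exists_character (hsemi.isUnit hF1) (fun B _ _ h h' => hsemi.mul_apply hF1 h h')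
  rw [hχ χ hm, SGA3cLib.gmFn_one] at hχF
  refine S11188.mem_fixedUnder_of_pts (𝟙 G) ρ _ fun t => ?_
  have h := hc t
  rw [← hFc, ← hχF, map_one, one_smul, act_apply] at h
  rw [Category.comp_id]
  conv_rhs => rw [← h]
  exact ((TensorProduct.lid k A).symm_apply_apply _).symm

end Groth.Agent.S11232

namespace Groth.Agent.S11232

/-- Let k be an algebraically closed field, G a connected linear algebraic group over k (affine, smooth,
connected) admitting no nontrivial character (every homomorphism to the multiplicative group is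
trivial), and A a commutative k-algebra which is a unique factorization domain whose group of units
consists of the nonzero scalars, carrying a rational action of G by algebra automorphisms. Then the
algebra of invariants A^G is a unique factorization domain. -/
theorem result (k : Type u) [Field k] [IsAlgClosed k]
    (G : Over (Spec (CommRingCat.of k))) [GrpObj G] [IsAffine G.left] [Smooth G.hom] [ConnectedSpace G.left]
    (hχ : ∀ χ : G ⟶ Red.Gm (Spec (CommRingCat.of k)), IsMonHom χ → χ = 1)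
    (A : Type u) [CommRing A] [IsDomain A] [Algebra k A] [UniqueFactorizationMonoid A]
    (hunits : ∀ x : Aˣ, (x : A) ∈ Set.range (algebraMap k A))
    (ρ : VecGrp.GMod G A) (hρ : ρ.IsMult) :
    UniqueFactorizationMonoid ↥(ρ.fixedSubalgebra hρ (𝟙 G)) := by
  classical
  let S := ρ.fixedSubalgebra hρ (𝟙 G)
  refine UniqueFactorizationMonoid.of_exists_prime_factors fun a ha => ?_
  have ha0 : (a : A) ≠ 0 := fun h => ha (Subtype.ext h)
  have hfix : ∀ p ∈ UniqueFactorizationMonoid.factors (a : A), p ∈ S := fun p hp =>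
    factor_fixed hχ hunits ρ hρ a.2 ha0 hp
  let f : Multiset S := (UniqueFactorizationMonoid.factors (a : A)).attach.map fun p => ⟨p.1, hfix p.1 p.2⟩
  refine ⟨f, fun b hb => ?_, ?_⟩
  · obtain ⟨⟨p, hp⟩, -, rfl⟩ := Multiset.mem_map.1 hb
    have hpp := UniqueFactorizationMonoid.prime_of_factor p hp
    refine ⟨fun h => hpp.ne_zero (congrArg Subtype.val h), fun h => hpp.not_unit (h.map S.val), fun y z hyz => ?_⟩
    have h1 : p ∣ (y : A) * (z : A) := map_dvd S.val hyz
    refine (hpp.dvd_or_dvd h1).imp (fun h => ?_) (fun h => ?_) <;>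
    · obtain ⟨c, hc⟩ := h
      exact ⟨⟨c, cofactor_fixed ρ hρ (hfix p hp) (Subtype.mem _) hpp.ne_zero (by rw [mul_comm]; exact hc.symm)⟩, Subtype.ext hc⟩
  · have hprod : (f.prod : A) = (UniqueFactorizationMonoid.factors (a : A)).prod := by
      show S.val f.prod = _
      rw [map_multiset_prod, Multiset.map_map]
      congr 1
      exact Multiset.attach_map_val _
    obtain ⟨u, hu⟩ := UniqueFactorizationMonoid.factors_prod ha0
    obtain ⟨c, hc⟩ := hunits u
    have hc0 : c ≠ 0 := fun h => by simp [h] at hc; exact u.ne_zero hc.symm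
    refine ⟨((Units.mk0 c hc0).map (algebraMap k S).toMonoidHom), Subtype.ext ?_⟩
    show (f.prod : A) * algebraMap k A c = (a : A)
    rw [hprod, hc, hu]


end Groth.Agent.S11232
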