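import Groth.Statements.S11233
import Mathlib

set_option autoImplicit false
universe u
open CAlg

namespace Groth.Agent.S11233

/-- Let k be an algebraically closed field, A an integral domain which is a k-algebra, T an m by m
matrix over A with invertible determinant, and let the additive group k^m act on the polynomial ring
A[y_1, ..., y_m] by the A-algebra maps y_s ↦ y_s + Σ_r h_r T_rs. Then the only invariant polynomials
are the constants: a polynomial fixed by all these substitutions lies in A. -/
theorem result (k : Type u) [Field k] [IsAlgClosed k]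
    (A : Type u) [CommRing A] [IsDomain A] [Algebra k A] (m : ℕ) (T : Matrix (Fin m) (Fin m) A)
    (hT : IsUnit T.det) (f : MvPolynomial (Fin m) A)
    (hf : ∀ h : Fin m → k, MvPolynomial.aeval
      (fun s : Fin m => MvPolynomial.X s + MvPolynomial.C (∑ r : Fin m, algebraMap k A (h r) * T r s)) f = f) :
    ∃ a : A, f = MvPolynomial.C a := by
  classical
  let g := MvPolynomial.aeval (fun s => ∑ r, MvPolynomial.C (T r s) * MvPolynomial.X r) f
  have heval : ∀ h : Fin m → k, MvPolynomial.eval (fun r => algebraMap k A (h r)) g = MvPolynomial.eval (fun _ => 0) f := by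
    intro h
    have h1 := congrArg (MvPolynomial.eval (fun _ : Fin m => (0 : A))) (hf h)
    rw [← h1]
    simp only [g]
    rw [← MvPolynomial.coe_aeval_eq_eval, ← MvPolynomial.coe_aeval_eq_eval]
    simp only [RingHom.coe_coe, ← AlgHom.comp_apply, MvPolynomial.comp_aeval]
    congr 1
    apply MvPolynomial.algHom_ext
    intro s
    simp [MvPolynomial.aeval_X, mul_comm]
  have hg : g = MvPolynomial.C (MvPolynomial.eval (fun _ => 0) f) := by
    refine MvPolynomial.funext_set (fun _ => Set.range (algebraMap k A))
      (fun _ => Set.infinite_range_of_injective (algebraMap k A).injective) fun x hx => ?_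
    choose h hh using fun r => hx r (Set.mem_univ r)
    rw [MvPolynomial.eval_C, ← heval h]
    congr 2
    funext r
    exact (hh r).symm
  refine ⟨MvPolynomial.eval (fun _ => 0) f, ?_⟩
  have h2 := congrArg (MvPolynomial.aeval (fun r => ∑ s, MvPolynomial.C (T⁻¹ s r) * MvPolynomial.X s : Fin m → MvPolynomial (Fin m) A)) hg
  rw [MvPolynomial.aeval_C, ← MvPolynomial.C_eq_algebraMap] at h2
  refine Eq.trans ?_ h2
  simp only [g, ← AlgHom.comp_apply, MvPolynomial.comp_aeval]
  conv_lhs => rw [← MvPolynomial.aeval_X_left_apply f]
  congr 1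
  apply MvPolynomial.algHom_ext
  intro s
  simp only [MvPolynomial.aeval_X, map_sum, map_mul, MvPolynomial.aeval_C, ← MvPolynomial.C_eq_algebraMap]
  simp only [Finset.mul_sum]
  rw [Finset.sum_comm]
  simp only [← mul_assoc, ← map_mul]
  simp only [mul_comm (T _ s), ← Finset.sum_mul, ← map_sum, ← Matrix.mul_apply, Matrix.nonsing_inv_mul T hT]
  rw [Finset.sum_eq_single s]
  · simp
  · intro b _ hb; simp [Matrix.one_apply_ne hb]
  · simp

end Groth.Agent.S11233
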