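import Groth.Statements.S11237
-- import your own Groth.Agent.* helpers here

set_option autoImplicit false
set_option backward.isDefEq.respectTransparency false
set_option backward.isDefEq.respectTransparency.types false
universe u
open CategoryTheory MonoidalCategory CartesianMonoidalCategory MonObj GrpObj AlgebraicGeometry
open scoped TensorProduct
open AGF

namespace Groth.Agent.S11237

variable {k : Type u} [Field k] {G : Over (Spec (CommRingCat.of k))} [GrpObj G]
  {A : Type u} [CommRing A] [Algebra k A] {M : Type u} [AddCommGroup M] [Module A M] [Module k M] [IsScalarTower k A M]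
  [Module Aᵐᵒᵖ M] [IsCentralScalar A M]

local notation "SZ" => TrivSqZeroExt A M

def f1 : SZ →ₗ[k] A where
  toFun x := x.fst
  map_add' _ _ := rfl
  map_smul' _ _ := rfl

def f2 : SZ →ₗ[k] M where
  toFun x := x.snd
  map_add' _ _ := rfl
  map_smul' _ _ := rfl

def i1 : A →ₗ[k] SZ where
  toFun a := TrivSqZeroExt.inl a
  map_add' a b := TrivSqZeroExt.inl_add M a b
  map_smul' c a := by ext <;> simp

def i2 : M →ₗ[k] SZ where
  toFun m := TrivSqZeroExt.inr m
  map_add' a b := TrivSqZeroExt.inr_add A a b
  map_smul' c a := TrivSqZeroExt.inr_smul A c a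

theorem wmap_baseChange {P Q : Type u} [AddCommGroup P] [Module k P] [AddCommGroup Q] [Module k Q] (f : P →ₗ[k] Q)
    {B B' : Type u} [CommRing B] [Algebra k B] [CommRing B'] [Algebra k B'] (φ : B →ₐ[k] B') (x : B ⊗[k] P) :
    VecGrp.Wmap φ (f.baseChange B x) = f.baseChange B' (VecGrp.Wmap φ x) := by
  induction x using TensorProduct.induction_on with
  | zero => simp
  | tmul p q => simp [VecGrp.Wmap]
  | add p q hp hq => simp only [map_add, hp, hq]

variable (B : Type u) [CommRing B] [Algebra k B]

noncomputable def split : (B ⊗[k] SZ) ≃ₗ[B] (B ⊗[k] A) × (B ⊗[k] M) :=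
  LinearEquiv.ofLinear ((f1.baseChange B).prod (f2.baseChange B)) ((i1.baseChange B).coprod (i2.baseChange B))
    (by
      apply LinearMap.prod_ext <;> (refine TensorProduct.AlgebraTensorModule.ext fun p q => ?_) <;>
        simp [f1, f2, i1, i2])
    (by
      refine TensorProduct.AlgebraTensorModule.ext fun p q => ?_
      show p ⊗ₜ[k] i1 (f1 q) + p ⊗ₜ[k] i2 (f2 q) = p ⊗ₜ[k] q
      rw [← TensorProduct.tmul_add]
      congr 1
      ext <;> simp [f1, f2, i1, i2])

theorem split_apply (z : B ⊗[k] SZ) : split B z = (f1.baseChange B z, f2.baseChange B z) := rfl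

theorem f1_mul (z w : B ⊗[k] SZ) : (f1 (k := k) (A := A) (M := M)).baseChange B (z * w) = f1.baseChange B z * f1.baseChange B w := by
  induction z using TensorProduct.induction_on with
  | zero => simp
  | add p q hp hq => simp only [add_mul, map_add, hp, hq]
  | tmul p q =>
    induction w using TensorProduct.induction_on with
    | zero => simp
    | tmul r s => simp [f1, Algebra.TensorProduct.tmul_mul_tmul]
    | add r s hr hs => simp only [mul_add, map_add, hr, hs]

theorem f2_mul (z w : B ⊗[k] SZ) : (f2 (k := k) (A := A) (M := M)).baseChange B (z * w) =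
    VecGrp.GMod.smulW k A M B (f1.baseChange B z) (f2.baseChange B w) + VecGrp.GMod.smulW k A M B (f1.baseChange B w) (f2.baseChange B z) := by
  induction z using TensorProduct.induction_on with
  | zero => simp
  | add p q hp hq => simp only [add_mul, map_add, LinearMap.add_apply, hp, hq]; abel
  | tmul p q =>
    induction w using TensorProduct.induction_on with
    | zero => simp
    | tmul r s =>
      simp [f1, f2, VecGrp.GMod.smulW, Algebra.TensorProduct.tmul_mul_tmul, op_smul_eq_smul, TensorProduct.tmul_add, mul_comm r p]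
    | add r s hr hs => simp only [mul_add, map_add, LinearMap.add_apply, hr, hs]; abel

variable {B}

noncomputable def szMod (ρA : VecGrp.GMod G A) (ρM : VecGrp.GMod G M) : VecGrp.GMod G SZ where
  ρ B _ _ := MonoidHom.mk' (fun g => (split B).trans (((ρA.ρ B g).prodCongr (ρM.ρ B g)).trans (split B).symm))
    (fun g g' => by
      apply LinearEquiv.ext
      intro z
      simp [LinearEquiv.mul_apply])
  naturality φ g x := by
    show VecGrp.Wmap φ (i1.baseChange _ (ρA.ρ _ g (f1.baseChange _ x)) + i2.baseChange _ (ρM.ρ _ g (f2.baseChange _ x))) =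
      i1.baseChange _ (ρA.ρ _ (VecGrp.ptMap φ ≫ g) (f1.baseChange _ (VecGrp.Wmap φ x))) +
        i2.baseChange _ (ρM.ρ _ (VecGrp.ptMap φ ≫ g) (f2.baseChange _ (VecGrp.Wmap φ x)))
    rw [map_add, wmap_baseChange, wmap_baseChange, ρA.naturality, ρM.naturality, wmap_baseChange, wmap_baseChange]

theorem split_szMod (ρA : VecGrp.GMod G A) (ρM : VecGrp.GMod G M) (g : VecGrp.pt k B ⟶ G) (z : B ⊗[k] SZ) :
    split B ((szMod ρA ρM).ρ B g z) = (ρA.ρ B g (f1.baseChange B z), ρM.ρ B g (f2.baseChange B z)) :=
  (split B).apply_symm_apply _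

theorem szMod_isMult {ρA : VecGrp.GMod G A} (hρ : ρA.IsMult) {ρM : VecGrp.GMod G M} (hc : VecGrp.GMod.IsCompat ρA ρM) :
    (szMod ρA ρM).IsMult := by
  intro B _ _ g
  have e1 : ∀ z, f1.baseChange B ((szMod ρA ρM).ρ B g z) = ρA.ρ B g (f1.baseChange B z) := fun z =>
    congrArg Prod.fst (split_szMod ρA ρM g z)
  have e2 : ∀ z, f2.baseChange B ((szMod ρA ρM).ρ B g z) = ρM.ρ B g (f2.baseChange B z) := fun z =>
    congrArg Prod.snd (split_szMod ρA ρM g z)
  refine ⟨fun z w => (split B).injective ?_, (split B).injective ?_⟩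
  · rw [split_szMod, split_apply]
    refine Prod.ext ?_ ?_
    · show ρA.ρ B g (f1.baseChange B (z * w)) = f1.baseChange B _
      rw [f1_mul, f1_mul, e1, e1, (hρ B g).1]
    · show ρM.ρ B g (f2.baseChange B (z * w)) = f2.baseChange B _
      rw [f2_mul, f2_mul, e1, e1, e2, e2, map_add, hc, hc]
  · rw [split_szMod, split_apply, Algebra.TensorProduct.one_def]
    refine Prod.ext ?_ ?_
    · show ρA.ρ B g (f1.baseChange B ((1 : B) ⊗ₜ[k] (1 : SZ))) = f1.baseChange B _
      simpa [f1, Algebra.TensorProduct.one_def] using (hρ B g).2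
    · show ρM.ρ B g (f2.baseChange B ((1 : B) ⊗ₜ[k] (1 : SZ))) = f2.baseChange B _
      simp [f2]

theorem finiteType_sz [Algebra.FiniteType k A] [Module.Finite A M] : Algebra.FiniteType k SZ := by
  haveI : IsScalarTower k A SZ := IsScalarTower.of_algebraMap_eq fun _ => rfl
  haveI : Module.Finite A SZ := inferInstanceAs (Module.Finite A (A × M))
  exact Algebra.FiniteType.trans (S := A) (inferInstance) (inferInstance)

theorem invariants_fg [Algebra.FiniteType k A] [Module.Finite A M] (hG : VecGrp.IsReductiveGrp k G)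
    (thmA : VecGrp.ReductiveInvariantsFG k) (ρA : VecGrp.GMod G A) (hρ : ρA.IsMult)
    (ρM : VecGrp.GMod G M) (hc : VecGrp.GMod.IsCompat ρA ρM) :
    ∃ s : Finset M, (↑s : Set M) ⊆ ρM.fixedUnder (𝟙 G) ∧
      ρM.fixedUnder (𝟙 G) ≤ (Submodule.span ↥(ρA.fixedSubalgebra hρ (𝟙 G)) (↑s : Set M)).restrictScalars k := by
  classical
  obtain ⟨s, hs1, hs2⟩ := thmA G hG SZ (szMod ρA ρM) (szMod_isMult hρ hc) finiteType_sz
  have h1 : ∀ x ∈ s, x.fst ∈ ρA.fixedSubalgebra hρ (𝟙 G) ∧ x.snd ∈ ρM.fixedUnder (𝟙 G) := fun x hx => by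
    have h := hs1 hx
    refine ⟨fun B _ _ g => ?_, fun B _ _ g => ?_⟩ <;>
      have e := (split_szMod ρA ρM (g ≫ 𝟙 G) ((1 : B) ⊗ₜ[k] x)).symm.trans (congrArg (split B) (h B g))
    · simpa [f1, split_apply] using congrArg Prod.fst e
    · simpa [f2, split_apply] using congrArg Prod.snd e
  refine ⟨s.image TrivSqZeroExt.snd, fun m hm => ?_, fun m hm => ?_⟩
  · obtain ⟨x, hx, rfl⟩ := Finset.mem_image.1 hm
    exact (h1 x hx).2
  · let S := ρA.fixedSubalgebra hρ (𝟙 G)
    let N := Submodule.span S (↑(s.image TrivSqZeroExt.snd) : Set M)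
    have key : ∀ x ∈ Algebra.adjoin k (↑s : Set SZ), x.fst ∈ S ∧ x.snd ∈ N := by
      intro x hx
      induction hx using Algebra.adjoin_induction with
      | mem x hx => exact ⟨(h1 x hx).1, Submodule.subset_span (Finset.mem_image_of_mem _ hx)⟩
      | algebraMap r => exact ⟨by simpa [TrivSqZeroExt.algebraMap_eq_inl'] using S.algebraMap_mem r,
          by simp [TrivSqZeroExt.algebraMap_eq_inl']⟩
      | add x y _ _ hx hy => exact ⟨S.add_mem hx.1 hy.1, N.add_mem hx.2 hy.2⟩
      | mul x y _ _ hx hy =>
        refine ⟨S.mul_mem hx.1 hy.1, ?_⟩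
        rw [TrivSqZeroExt.snd_mul, op_smul_eq_smul]
        exact N.add_mem (N.smul_mem ⟨_, hx.1⟩ hy.2) (N.smul_mem ⟨_, hy.1⟩ hx.2)
    have hmem : TrivSqZeroExt.inr m ∈ (szMod ρA ρM).fixedUnder (𝟙 G) := fun B _ _ g => by
      apply (split B).injective
      rw [split_szMod, split_apply]
      simpa [f1, f2] using hm B g
    have := (key _ (hs2 hmem)).2
    simpa [N, S] using this

end Groth.Agent.S11237

namespace Groth.Agent.S11237

/-- Let k be an algebraically closed field and G a linear algebraic group over k (affine, smooth) whose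
identity component is reductive. Assume finite generation of invariants of reductive groups over k
on finitely generated algebras (a true result which the published text assumes without proof,
carried here as a hypothesis). Let A be a finitely generated commutative k-algebra with a rational
action of G by algebra automorphisms and M a finitely generated A-module with a compatible rational
G-action. Then the invariants M^G form a finitely generated A^G-module (the A^G-span of finitely
many invariant elements). -/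
theorem result (k : Type u) [Field k] [IsAlgClosed k]
    (G : Over (Spec (CommRingCat.of k))) [GrpObj G] (hG : VecGrp.IsReductiveGrp k G)
    (thmA : VecGrp.ReductiveInvariantsFG k)
    (A : Type u) [CommRing A] [Algebra k A] [Algebra.FiniteType k A] (ρA : VecGrp.GMod G A) (hρ : ρA.IsMult)
    (M : Type u) [AddCommGroup M] [Module A M] [Module k M] [IsScalarTower k A M] [Module.Finite A M]
    (ρM : VecGrp.GMod G M) (hc : VecGrp.GMod.IsCompat ρA ρM) :
    ∃ s : Finset M, (↑s : Set M) ⊆ ρM.fixedUnder (𝟙 G) ∧
      ρM.fixedUnder (𝟙 G) ≤ (Submodule.span ↥(ρA.fixedSubalgebra hρ (𝟙 G)) (↑s : Set M)).restrictScalars k := by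
  letI : Module Aᵐᵒᵖ M := Module.compHom M ((RingHom.id A).fromOpposite fun _ _ => mul_comm _ _)
  haveI : IsCentralScalar A M := ⟨fun a m => rfl⟩
  exact invariants_fg hG thmA ρA hρ ρM hc


end Groth.Agent.S11237
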