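import Groth.Statements.S11238
import Mathlib

set_option autoImplicit false
universe u
open AGF

namespace Groth.Agent.S11238

/-- A homomorphism on a subalgebra of dimension one that keeps `x` transcendental is injective. -/
theorem injective_of_transcendental (k : Type u) [Field k] (K : Type u) [Field K] [Algebra k K] (x : K)
    (halg : Algebra.IsAlgebraic ↥(IntermediateField.adjoin k {x}) K) (R : Subalgebra k K) (xR : R)
    (hxR : (xR : K) = x) (F : Type u) [Field F] [Algebra k F] (ψ₀ : R →ₐ[k] F)
    (htr : Transcendental k (ψ₀ xR)) : Function.Injective ψ₀ := by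
  subst hxR
  have halgR : ∀ r : R, IsAlgebraic ↥(IntermediateField.adjoin k {(xR : K)}) (r : K) := fun r => halg.isAlgebraic _
  rw [injective_iff_map_eq_zero]
  intro r hr
  by_contra hr0
  have hrK : (r : K) ≠ 0 := fun h => hr0 (Subtype.ext h)
  let A := Algebra.adjoin k {xR}
  have hA : IsAlgebraic A r := by
    have h1 : IsAlgebraic (Algebra.adjoin k {(xR : K)}) (r : K) :=
      open scoped IntermediateField.algebraAdjoinAdjoin in
      (IsFractionRing.isAlgebraic_iff (Algebra.adjoin k {(xR : K)}) ↥(IntermediateField.adjoin k {(xR : K)}) K).mpr (halgR r)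
    obtain ⟨p, hp0, hp⟩ := h1
    have hmap : Algebra.adjoin k {(xR : K)} = A.map R.val := by
      rw [AlgHom.map_adjoin_singleton]; rfl
    let e : A ≃ₐ[k] Algebra.adjoin k {(xR : K)} :=
      (A.equivMapOfInjective R.val Subtype.val_injective).trans (Subalgebra.equivOfEq _ _ hmap.symm)
    refine ⟨p.map e.symm.toRingEquiv.toRingHom, fun h => hp0 ?_, ?_⟩
    · exact (Polynomial.map_eq_zero_iff e.symm.injective).1 h
    · apply Subtype.val_injective
      show R.val.toRingHom (Polynomial.eval₂ (algebraMap A R) r (p.map e.symm.toRingEquiv.toRingHom)) = 0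
      rw [Polynomial.hom_eval₂, Polynomial.eval₂_map]
      rw [Polynomial.aeval_def] at hp
      have hcomp : (R.val.toRingHom.comp (algebraMap A R)).comp e.symm.toRingEquiv.toRingHom =
          algebraMap (Algebra.adjoin k {(xR : K)}) K := RingHom.ext fun z => by
        have := congrArg Subtype.val (e.apply_symm_apply z)
        exact this
      rw [hcomp]
      exact hp
  obtain ⟨d, hd⟩ := hA
  obtain ⟨q, hq0, hqr⟩ : ∃ q : A, q ≠ 0 ∧ ψ₀ (q : R) = 0 := by
    obtain ⟨e, hed, he0⟩ := Polynomial.exists_eq_pow_rootMultiplicity_mul_and_not_dvd d hd.1 0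
    rw [map_zero, sub_zero] at hed he0
    refine ⟨e.coeff 0, fun h => he0 (Polynomial.X_dvd_iff.2 h), ?_⟩
    have h1 : Polynomial.aeval r e = 0 := by
      have := hd.2
      rw [hed, map_mul, map_pow, Polynomial.aeval_X] at this
      exact (mul_eq_zero.1 this).resolve_left (pow_ne_zero _ hr0)
    have h2 := congrArg ψ₀ h1
    rw [map_zero, Polynomial.aeval_def] at h2
    have h2' : ψ₀.toRingHom (Polynomial.eval₂ (algebraMap A R) r e) = 0 := h2
    rw [Polynomial.hom_eval₂, show ψ₀.toRingHom r = 0 from hr, Polynomial.eval₂_at_zero] at h2'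
    exact h2'
  have hq : (q : R) ∈ Algebra.adjoin k {xR} := q.2
  rw [Algebra.adjoin_singleton_eq_range_aeval] at hq
  obtain ⟨q₀, hq₀⟩ := hq
  have hq₁ : Polynomial.aeval (ψ₀ xR) q₀ = 0 := by
    rw [Polynomial.aeval_algHom_apply]; exact (congrArg ψ₀ hq₀).trans hqr
  rw [transcendental_iff.1 htr q₀ hq₁] at hq₀
  exact hq0 (Subtype.ext (hq₀.symm.trans (map_zero _)))

open MvPolynomial in
theorem exists_ratFunc_embedding (k : Type u) [Field k] [IsAlgClosed k]
    (K : Type u) [Field K] [Algebra k K] (hfg : (⊤ : IntermediateField k K).FG)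
    (x : K) (hx : Transcendental k x) (halg : Algebra.IsAlgebraic ↥(IntermediateField.adjoin k {x}) K)
    (n : ℕ) (φ : K →ₐ[k] FractionRing (MvPolynomial (Fin n) k)) :
    ∃ ψ : K →ₐ[k] RatFunc k, Transcendental k (ψ x) := by
  classical
  obtain ⟨s₀, hs₀, hgen₀⟩ := IntermediateField.fg_def.1 hfg
  let s : Finset K := insert x hs₀.toFinset
  have hxs : x ∈ s := Finset.mem_insert_self _ _
  have hgen : IntermediateField.adjoin k (s : Set K) = ⊤ := by
    refine top_le_iff.1 (hgen₀.ge.trans (IntermediateField.adjoin.mono _ _ _ ?_))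
    intro y hy
    simp [s, hy]
  -- fractions
  have hsurj : ∀ y : K, ∃ P Q : MvPolynomial (Fin n) k, Q ≠ 0 ∧
      φ y * algebraMap _ (FractionRing (MvPolynomial (Fin n) k)) Q = algebraMap _ _ P := fun y => by
    obtain ⟨⟨P, Q⟩, h⟩ := IsLocalization.surj (nonZeroDivisors (MvPolynomial (Fin n) k)) (φ y)
    exact ⟨P, Q, nonZeroDivisors.ne_zero Q.2, h⟩
  choose num den hden hfrac using hsurj
  let D : MvPolynomial (Fin n) k := ∏ y ∈ s, den y
  have hD : D ≠ 0 := Finset.prod_ne_zero_iff.2 fun y _ => hden y
  -- two points separating the values of `φ x`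
  have key : ∃ a b : Fin n → k, eval a D ≠ 0 ∧ eval b D ≠ 0 ∧
      eval a (num x) * eval b (den x) ≠ eval b (num x) * eval a (den x) := by
    obtain ⟨a, ha⟩ : ∃ a, eval a D ≠ 0 := by
      by_contra h
      push Not at h
      exact hD (MvPolynomial.funext fun v => by rw [h v, map_zero])
    have hda : eval a (den x) ≠ 0 := fun h0 => ha (by
      rw [map_prod]; exact Finset.prod_eq_zero hxs h0)
    by_contra h
    push Not at h
    have h2 : (C (eval a (num x)) * den x - C (eval a (den x)) * num x) * D = 0 := by
      refine MvPolynomial.funext fun v => ?_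
      rw [map_zero, map_mul]
      by_cases hv : eval v D = 0
      · rw [hv, mul_zero]
      · rw [map_sub, map_mul, map_mul, eval_C, eval_C, h a v ha hv]
        ring
    have h3 := sub_eq_zero.1 ((mul_eq_zero.1 h2).resolve_right hD)
    apply hx
    have h4 : φ (algebraMap k K (eval a (den x)) * x) = φ (algebraMap k K (eval a (num x))) := by
      have hne : algebraMap _ (FractionRing (MvPolynomial (Fin n) k)) (den x) ≠ 0 := by
        simpa using hden x
      refine mul_right_cancel₀ hne ?_
      rw [map_mul, φ.commutes, φ.commutes, mul_assoc, hfrac,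
        IsScalarTower.algebraMap_apply k (MvPolynomial (Fin n) k) (FractionRing _),
        IsScalarTower.algebraMap_apply k (MvPolynomial (Fin n) k) (FractionRing _), ← map_mul,
        ← map_mul, MvPolynomial.algebraMap_eq, h3]
    have h5 : x = algebraMap k K (eval a (num x) / eval a (den x)) := by
      rw [map_div₀, eq_div_iff (by simpa using hda), mul_comm]
      exact φ.injective h4
    rw [h5]
    exact isAlgebraic_algebraMap _
  obtain ⟨a, b, ha, hb, hab⟩ := key
  let line : MvPolynomial (Fin n) k →ₐ[k] Polynomial k :=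
    MvPolynomial.aeval fun i => Polynomial.C (a i) + Polynomial.X * Polynomial.C (b i - a i)
  have hline : ∀ (p : MvPolynomial (Fin n) k) (c : k),
      (line p).eval c = eval (fun i => a i + c * (b i - a i)) p := fun p c => by
    change Polynomial.aeval c (MvPolynomial.aeval _ p) = _
    rw [← AlgHom.comp_apply, MvPolynomial.comp_aeval]
    simp only [map_add, map_mul, Polynomial.aeval_C, Polynomial.aeval_X, Algebra.algebraMap_self, RingHom.id_apply]
    rfl
  have hline0 : ∀ p, (line p).eval 0 = eval a p := fun p => by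
    rw [hline]; simp
  have hline1 : ∀ p, (line p).eval 1 = eval b p := fun p => by
    rw [hline]; simp
  let ev : MvPolynomial (Fin n) k →ₐ[k] RatFunc k :=
    (IsScalarTower.toAlgHom k (Polynomial k) (RatFunc k)).comp line
  have hevD : ev D ≠ 0 := fun h0 => by
    have : line D = 0 := RatFunc.algebraMap_injective k (by simpa [ev] using h0)
    exact ha (by rw [← hline0, this, Polynomial.eval_zero])
  have hevden : ∀ y ∈ s, ev (den y) ≠ 0 := fun y hy h0 => hevD (by
    rw [map_prod]; exact Finset.prod_eq_zero hy h0)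
  -- factor through the localization
  let L := Localization.Away D
  have hu : ∀ g : Submonoid.powers D, IsUnit (ev g) := by
    rintro ⟨_, m, rfl⟩
    show IsUnit (ev (D ^ m))
    rw [map_pow]
    exact (Ne.isUnit hevD).pow m
  let evL : L →ₐ[k] RatFunc k := IsLocalization.liftAlgHom (M := Submonoid.powers D) (f := ev) hu
  have hu' : ∀ g : Submonoid.powers D,
      IsUnit ((IsScalarTower.toAlgHom k (MvPolynomial (Fin n) k) (FractionRing (MvPolynomial (Fin n) k))) g) := by
    rintro ⟨_, m, rfl⟩
    show IsUnit (algebraMap _ (FractionRing (MvPolynomial (Fin n) k)) (D ^ m))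
    rw [map_pow]
    exact (Ne.isUnit (by simpa using hD : (algebraMap _ (FractionRing (MvPolynomial (Fin n) k))) D ≠ 0)).pow m
  let incl : L →ₐ[k] FractionRing (MvPolynomial (Fin n) k) :=
    IsLocalization.liftAlgHom (M := Submonoid.powers D) hu'
  have hincl : Function.Injective incl := by
    rw [injective_iff_map_eq_zero]
    intro u hu0
    obtain ⟨z, m, rfl⟩ := IsLocalization.exists_mk'_eq (Submonoid.powers D) u
    have h1 := congrArg incl (IsLocalization.mk'_spec L z m)
    rw [map_mul, hu0, zero_mul] at h1
    have h2 : algebraMap _ (FractionRing (MvPolynomial (Fin n) k)) z = 0 := by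
      simpa [incl] using h1.symm
    rw [IsFractionRing.injective (MvPolynomial (Fin n) k) _ (h2.trans (map_zero _).symm), IsLocalization.mk'_zero]
  let R := Algebra.adjoin k (s : Set K)
  have hrange : R.map φ ≤ incl.range := by
    rw [AlgHom.map_adjoin, Algebra.adjoin_le_iff]
    rintro _ ⟨y, hy, rfl⟩
    obtain ⟨c, hc⟩ : den y ∣ D := Finset.dvd_prod_of_mem _ hy
    refine ⟨IsLocalization.mk' L (num y * c) ⟨D, Submonoid.mem_powers D⟩, ?_⟩
    have hne : algebraMap _ (FractionRing (MvPolynomial (Fin n) k)) D ≠ 0 := by simpa using hD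
    refine mul_right_cancel₀ hne ?_
    have hD' : incl (algebraMap _ L D) = algebraMap _ _ D := by simp [incl]
    show incl _ * _ = _
    rw [← hD', ← map_mul, IsLocalization.mk'_spec]
    simp [incl]
    rw [← map_mul, hc, map_mul, map_mul, ← mul_assoc, ← hfrac y]
  let eL : L ≃ₐ[k] incl.range := AlgEquiv.ofInjective incl hincl
  let toL : R →ₐ[k] L := eL.symm.toAlgHom.comp
    ((φ.comp R.val).codRestrict incl.range fun r => hrange ⟨r.1, r.2, rfl⟩)
  have htoL : ∀ r, incl (toL r) = φ r.1 := fun r => by
    have := congrArg Subtype.val (eL.apply_symm_apply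
      ⟨φ r.1, hrange ⟨r.1, r.2, rfl⟩⟩)
    exact this
  let ψ₀ : R →ₐ[k] RatFunc k := evL.comp toL
  let xR : R := ⟨x, Algebra.subset_adjoin hxs⟩
  have hψx : ψ₀ xR * ev (den x) = ev (num x) := by
    have h1 : toL xR * algebraMap _ L (den x) = algebraMap _ L (num x) := hincl (by
      rw [map_mul, htoL]; simpa [incl] using hfrac x)
    have h2 := congrArg evL h1
    rw [map_mul] at h2
    simpa [evL, ψ₀] using h2
  have htr : Transcendental k (ψ₀ xR) := by
    intro hal
    obtain ⟨c, hc⟩ : ∃ c : k, algebraMap k (RatFunc k) c = ψ₀ xR := by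
      have hint : IsIntegral k (ψ₀ xR) := hal.isIntegral
      have : (minpoly k (ψ₀ xR)).degree = 1 :=
        IsAlgClosed.degree_eq_one_of_irreducible k (minpoly.irreducible hint)
      exact (minpoly.degree_eq_one_iff.1 this)
    rw [← hc] at hψx
    have h3 : Polynomial.C c * line (den x) = line (num x) := RatFunc.algebraMap_injective k (by
      rw [map_mul]
      simpa [ev, IsScalarTower.algebraMap_apply k (Polynomial k) (RatFunc k)] using hψx)
    have h30 := congrArg (Polynomial.eval 0) h3
    have h31 := congrArg (Polynomial.eval 1) h3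
    rw [Polynomial.eval_mul, Polynomial.eval_C, hline0, hline0] at h30
    rw [Polynomial.eval_mul, Polynomial.eval_C, hline1, hline1] at h31
    exact hab (by rw [← h30, ← h31]; ring)
  have hinj : Function.Injective ψ₀ := injective_of_transcendental k K x halg R xR rfl _ ψ₀ htr
  have hfr : IsFractionRing R K := by
    refine .of_field R K fun z => ?_
    have hz : z ∈ IntermediateField.adjoin k (s : Set K) := hgen ▸ IntermediateField.mem_top
    obtain ⟨r₁, hr₁, r₂, hr₂, h⟩ := (IntermediateField.mem_adjoin_iff_div).1 hz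
    exact ⟨⟨r₁, hr₁⟩, ⟨r₂, hr₂⟩, h⟩
  refine ⟨IsFractionRing.liftAlgHom hinj, ?_⟩
  have : IsFractionRing.liftAlgHom (K := K) hinj x = ψ₀ xR :=
    IsFractionRing.lift_algebraMap hinj xR
  rwa [this]


/-- Over an algebraically closed field k, a unirational variety of dimension one is rational. Field
form: let K be a finitely generated field extension of k of transcendence degree one (K is algebraic
over k(x) for some x ∈ K transcendental over k) admitting a k-embedding into a purely transcendental
extension k(t_1, ..., t_n). Then K = k(t) for some t ∈ K transcendental over k. -/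
theorem result (k : Type u) [Field k] [IsAlgClosed k]
    (K : Type u) [Field K] [Algebra k K] (hfg : (⊤ : IntermediateField k K).FG)
    (x : K) (hx : Transcendental k x) (halg : Algebra.IsAlgebraic ↥(IntermediateField.adjoin k {x}) K)
    (n : ℕ) (φ : K →ₐ[k] FractionRing (MvPolynomial (Fin n) k)) :
    ∃ t : K, Transcendental k t ∧ IntermediateField.adjoin k {t} = ⊤ := by
  obtain ⟨ψ, hψ⟩ := exists_ratFunc_embedding k K hfg x hx halg n φ
  have hE : ψ.fieldRange ≠ ⊥ := fun h => hψ (by
    have hmem : ψ x ∈ ψ.fieldRange := ⟨x, rfl⟩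
    rw [h] at hmem
    obtain ⟨c, hc⟩ := IntermediateField.mem_bot.1 hmem
    rw [← hc]; exact isAlgebraic_algebraMap _)
  obtain ⟨t, ht⟩ : RatFunc.Luroth.generator ψ.fieldRange ∈ ψ.fieldRange := RatFunc.Luroth.generator_mem
  have hadj : IntermediateField.adjoin k {t} = ⊤ := by
    apply IntermediateField.map_injective ψ
    rw [IntermediateField.adjoin_map, Set.image_singleton, ← AlgHom.fieldRange_eq_map,
      show ψ t = _ from ht]
    exact RatFunc.Luroth.eq_adjoin_generator.symm
  refine ⟨t, fun h => hψ ?_, hadj⟩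
  have : Algebra.IsAlgebraic k (IntermediateField.adjoin k {t}) := IntermediateField.isAlgebraic_adjoin (by
    intro y hy
    rw [Set.mem_singleton_iff] at hy
    exact hy ▸ h.isIntegral)
  have hx' : IsAlgebraic k (⟨x, hadj ▸ IntermediateField.mem_top⟩ : IntermediateField.adjoin k {t}) :=
    Algebra.IsAlgebraic.isAlgebraic _
  exact (hx'.algHom (IntermediateField.adjoin k {t}).val).algHom ψ

end Groth.Agent.S11238
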