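import Groth.Statements.S11240
import Mathlib

set_option autoImplicit false
universe u
open AGF

namespace Groth.Agent.S11240

/-- For a single root subgroup: let k be an algebraically closed field and X = (x_ab) the generic n × m
matrix over the polynomial ring k[x_ab]. Let i ≠ j be row indices and let I (rows) and J (columns)
be strictly increasing sequences of length p. The minor of X with rows I and columns J is invariant
under replacing X by (1 + b·E_ij)·X for every b ∈ k (the one-parameter unipotent group adding b
times row j to row i) if and only if j occurs in I whenever i does. (The published statement gives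
the criterion for the group generated by several such root subgroups, which is the conjunction of
these.) -/
theorem result (k : Type u) [Field k] [IsAlgClosed k] (n m p : ℕ)
    (i j : Fin n) (hij : i ≠ j) (I : Fin p ↪o Fin n) (J : Fin p ↪o Fin m) :
    (∀ b : k, ((Matrix.transvection i j (MvPolynomial.C (σ := Fin n × Fin m) b) *
        (Matrix.of fun a c => (MvPolynomial.X (a, c) : MvPolynomial (Fin n × Fin m) k))).submatrix I J).det =
        ((Matrix.of fun a c => (MvPolynomial.X (a, c) : MvPolynomial (Fin n × Fin m) k)).submatrix I J).det) ↔
      (i ∈ Set.range I → j ∈ Set.range I) := by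
  classical
  set G : Matrix (Fin n) (Fin m) (MvPolynomial (Fin n × Fin m) k) := (Matrix.of fun a c => (MvPolynomial.X (a, c) : MvPolynomial (Fin n × Fin m) k)) with hG
  have happ : ∀ (b : k) (a : Fin n) (c : Fin m), (Matrix.transvection i j (MvPolynomial.C (σ := Fin n × Fin m) b) * G) a c =
      G a c + if a = i then MvPolynomial.C b * G j c else 0 := by
    intro b a c
    split_ifs with h
    · subst h; rw [Matrix.transvection_mul_apply_same]
    · rw [Matrix.transvection_mul_apply_of_ne _ _ _ _ h, add_zero]
  by_cases hi : i ∈ Set.range I
  · obtain ⟨r, hr⟩ := hi
    have key : ∀ b, ((Matrix.transvection i j (MvPolynomial.C (σ := Fin n × Fin m) b) * G : Matrix (Fin n) (Fin m) (MvPolynomial (Fin n × Fin m) k)).submatrix I J).det =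
        (G.submatrix I J).det + MvPolynomial.C b * ((G.submatrix I J).updateRow r (fun c => G j (J c))).det := by
      intro b
      have e : (Matrix.transvection i j (MvPolynomial.C (σ := Fin n × Fin m) b) * G : Matrix (Fin n) (Fin m) (MvPolynomial (Fin n × Fin m) k)).submatrix I J =
          (G.submatrix I J).updateRow r ((G.submatrix I J) r + MvPolynomial.C (σ := Fin n × Fin m) b • fun c => G j (J c)) := by
        ext a c
        rw [Matrix.submatrix_apply, happ, Matrix.updateRow_apply]
        by_cases h : a = r
        · subst h; rw [if_pos rfl, if_pos hr]; simp
        · rw [if_neg h, if_neg fun h' => h (I.injective (h'.trans hr.symm)), add_zero, Matrix.submatrix_apply]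
      rw [e, Matrix.det_updateRow_add, Matrix.updateRow_eq_self, Matrix.det_updateRow_smul]
    constructor
    · intro h _
      by_contra hj
      have h1 := h 1
      rw [key 1, map_one, one_mul, add_eq_left] at h1
      let I' : Fin p → Fin n := fun a => if a = r then j else I a
      have hI' : Function.Injective I' := by
        intro a a' h'
        simp only [I'] at h'
        split_ifs at h' with ha ha' ha'
        · exact ha.trans ha'.symm
        · exact absurd ⟨a', h'.symm⟩ hj
        · exact absurd ⟨a, h'⟩ hj
        · exact I.injective h'
      have e : (G.submatrix I J).updateRow r (fun c => G j (J c)) = G.submatrix I' J := by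
        ext a c
        rw [Matrix.updateRow_apply, Matrix.submatrix_apply, Matrix.submatrix_apply]
        simp only [I']
        by_cases ha : a = r <;> simp [ha]
      rw [e] at h1
      let v : Fin n × Fin m → k := fun q => if ∃ t, I' t = q.1 ∧ J t = q.2 then 1 else 0
      have h2 := congrArg (MvPolynomial.eval v) h1
      rw [RingHom.map_det, map_zero] at h2
      have hone : (MvPolynomial.eval v).mapMatrix (G.submatrix I' J) = 1 := by
        ext a c
        simp only [RingHom.mapMatrix_apply, Matrix.map_apply, Matrix.submatrix_apply, hG, Matrix.of_apply, MvPolynomial.eval_X, v, Matrix.one_apply]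
        refine if_congr ⟨?_, fun hac => ⟨a, rfl, hac ▸ rfl⟩⟩ rfl rfl
        rintro ⟨t, h3, h4⟩
        exact (hI' h3).symm.trans (J.injective h4)
      rw [hone, Matrix.det_one] at h2
      exact one_ne_zero h2
    · intro h b
      obtain ⟨s, hs⟩ := h ⟨r, hr⟩
      have hrs : r ≠ s := fun e => hij (hr.symm.trans ((congrArg I e).trans hs))
      have hz : ((G.submatrix I J).updateRow r (fun c => G j (J c))).det = 0 := by
        refine Matrix.det_zero_of_row_eq hrs (funext fun c => ?_)
        rw [Matrix.updateRow_self, Matrix.updateRow_ne hrs.symm, Matrix.submatrix_apply, hs]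
      rw [key, hz, mul_zero, add_zero]
  · refine ⟨fun _ h => absurd h hi, fun _ b => congrArg Matrix.det ?_⟩
    ext a c
    rw [Matrix.submatrix_apply, happ, if_neg fun e => hi ⟨a, e⟩, add_zero, Matrix.submatrix_apply]

end Groth.Agent.S11240
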