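import Groth.Statements.S5491
import Groth.Agent.RootDat.Length

set_option autoImplicit false
open RootD Groth.Agent.RootDat

namespace Groth.Agent.S5491

open Classical in
/-- With ρ^v the half-sum of the positive coroots, the order (height) of any root α relative to the
simple system equals (ρ^v, α); equivalently 2·height(α) = Σ_{β > 0} (β^v, α). -/
theorem result {ι M N : Type*} [AddCommGroup M] [AddCommGroup N]
    (P : RootPairing ι ℤ M N) [Finite ι] [Fintype ι] [P.IsReduced] (b : P.Base) (i : ι) :
    2 * b.height i = ∑ j, if b.IsPos j then P.pairing i j else 0 := by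
  classical
  have hD : RootD.IsSimpleSys P (↑b.support : Set ι) := ⟨b.linearIndepOn_root, b.root_mem_or_neg_mem⟩
  have hpos : ∀ k ∈ RootD.posOf P (↑b.support : Set ι), 0 < b.height k := fun k hk => by
    refine Simple.induction (p := fun k => 0 < b.height k) hD (fun a ha => ?_) ?_ hk
    · rw [b.height_one_of_mem_support ha]; omega
    · intro x y z _ _ hx hy he; rw [b.height_add he]; omega
  have hiff : ∀ k, b.IsPos k ↔ k ∈ RootD.posOf P (↑b.support : Set ι) := fun k => by
    refine ⟨fun h => (Simple.pos_cover hD k).resolve_right fun hn => ?_, hpos k⟩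
    have := hpos _ hn
    have h' : 0 < b.height k := h
    have e : b.height (P.reflectionPerm k k) = -b.height k := b.height_reflectionPerm_self k
    change 0 < b.height (P.reflectionPerm k k) at this
    omega
  set F : ι → ℤ := fun k => ∑ j, if b.IsPos j then P.pairing k j else 0 with hF
  suffices H : ∀ k ∈ RootD.posOf P (↑b.support : Set ι), 2 * b.height k = F k by
    rcases Simple.pos_cover hD i with h | h
    · exact H i h
    · have := H _ h
      have e : b.height (P.reflectionPerm i i) = -b.height i := b.height_reflectionPerm_self i
      simp only [hF, pairing_neg_left] at this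
      change 2 * b.height (P.reflectionPerm i i) = _ at this
      rw [e, show (∑ j, if b.IsPos j then -P.pairing i j else 0) =
        -∑ j, if b.IsPos j then P.pairing i j else 0 by
          rw [← Finset.sum_neg_distrib]; exact Finset.sum_congr rfl fun j _ => by split <;> simp] at this
      omega
  intro k hk
  refine Simple.induction (p := fun k => 2 * b.height k = F k) hD (fun a ha => ?_) ?_ hk
  · rw [b.height_one_of_mem_support ha]
    simp only [hF]
    rw [← Finset.sum_filter]
    have haS : a ∈ Finset.univ.filter b.IsPos :=
      Finset.mem_filter.mpr ⟨Finset.mem_univ _, (hiff a).mpr (Simple.pos_of_mem ha)⟩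
    rw [← Finset.add_sum_erase _ _ haS, P.pairing_same]
    set s := (Finset.univ.filter b.IsPos).erase a
    have hs : ∀ j ∈ s, P.reflectionPerm a j ∈ s := fun j hj => by
      simp only [s, Finset.mem_erase, Finset.mem_filter, Finset.mem_univ, true_and, hiff] at hj ⊢
      refine ⟨fun e => ?_, Simple.reflectionPerm_pos hD ha hj.2 (indiv_of_reduced P j) hj.1⟩
      have e2 : j = Groth.Agent.RootDat.neg P a := by
        have := congr_arg (P.reflectionPerm a) e
        rwa [P.reflectionPerm_self] at this
      exact Simple.pos_disjoint hD (Simple.pos_of_mem ha) (e2 ▸ hj.2)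
    have hsum : ∑ j ∈ s, P.pairing a j = -∑ j ∈ s, P.pairing a j := by
      rw [← Finset.sum_neg_distrib]
      refine Finset.sum_nbij' (P.reflectionPerm a) (P.reflectionPerm a) hs hs
        (fun j _ => P.reflectionPerm_self a j) (fun j _ => P.reflectionPerm_self a j) fun j _ => ?_
      have h := pairing_smul P (RootPairing.Equiv.reflection P a) a (P.reflectionPerm a j)
      rw [refl_smul_idx, refl_smul_idx, P.reflectionPerm_self] at h
      rw [← h, show P.reflectionPerm a a = Groth.Agent.RootDat.neg P a from rfl, pairing_neg_left,
        _root_.neg_neg]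
    omega
  · intro x y z _ _ hx hy he
    rw [b.height_add he, mul_add, hx, hy, hF, ← Finset.sum_add_distrib]
    refine Finset.sum_congr rfl fun j _ => ?_
    split
    · exact (P.pairing_eq_add_of_root_eq_add he).symm
    · simp

end Groth.Agent.S5491
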