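import Groth.Statements.S11243
import Groth.Agent.RootDat.Dominant
import Groth.Agent.S5491

set_option autoImplicit false
universe u v w
open RootD Groth.Agent.RootDat

namespace Groth.Agent.S11243

/-- (b), for a connected group, as a statement about its root datum: let P be a finite reduced
crystallographic root pairing over ℤ with weight lattice M, and b a base of P (simple roots,
determining the positive roots). Then there is an additive map h : M → ℤ which is positive on every
positive root (so that h strictly increases along the dominance order) and non-negative on every
dominant weight, i.e. on every ω ∈ M pairing non-negatively with all simple coroots. (Part (c),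
invariance under the component group of a disconnected group, is not stated.) -/
theorem result {ι : Type u} {M : Type v} {N : Type w}
    [Fintype ι] [AddCommGroup M] [AddCommGroup N]
    (P : RootPairing ι ℤ M N) [P.IsReduced] [P.IsCrystallographic] (b : P.Base) :
    ∃ h : M →+ ℤ, (∀ i : ι, b.IsPos i → 0 < h (P.root i)) ∧
      ∀ ω : M, (∀ j ∈ b.support, 0 ≤ P.toLinearMap ω (P.coroot j)) → 0 ≤ h ω := by
  classical
  let h : M →+ ℤ := ∑ j ∈ Finset.univ.filter b.IsPos, (P.coroot' j).toAddMonoidHom
  refine ⟨h, fun i hi => ?_, fun ω hω => ?_⟩
  · have e : h (P.root i) = 2 * b.height i := by
      rw [Groth.Agent.S5491.result P b i, ← Finset.sum_filter]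
      simp [h, coroot'_root]
    rw [e]
    exact mul_pos two_pos hi
  · have hD : RootD.IsSimpleSys P (↑b.support : Set ι) :=
      ⟨b.linearIndepOn_root, b.root_mem_or_neg_mem⟩
    simp only [h, AddMonoidHom.finset_sum_apply]
    refine Finset.sum_nonneg fun j hj => ?_
    refine dominant_of_simple hD ω hω ?_
    refine (Simple.pos_cover hD j).resolve_right fun hn => ?_
    have hjp : 0 < b.height j := (Finset.mem_filter.mp hj).2
    have hneg : ∀ k ∈ RootD.posOf P (↑b.support : Set ι), 0 < b.height k := fun k hk =>
      Simple.induction (p := fun k => 0 < b.height k) hD
        (fun a ha => by rw [RootPairing.Base.height_one_of_mem_support ha]; omega)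
        (fun x y z _ _ hx hy he => by rw [b.height_add he]; omega) hk
    have := hneg _ hn
    have e : b.height (P.reflectionPerm j j) = -b.height j := b.height_reflectionPerm_self j
    change 0 < b.height (P.reflectionPerm j j) at this
    omega

end Groth.Agent.S11243
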