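import Groth.Statements.S11244
import Groth.Agent.S16130
import Groth.Agent.FlatMorDim.LocalDim
import Groth.Agent.AlgSpLib.RelDimLocus
import Groth.Agent.DimLib.Sub
-- import your own Groth.Agent.* helpers here

set_option autoImplicit false
set_option backward.isDefEq.respectTransparency false
set_option backward.isDefEq.respectTransparency.types false
universe u
open CategoryTheory MonoidalCategory CartesianMonoidalCategory MonObj GrpObj AlgebraicGeometry
open scoped TensorProduct
open AGF

namespace Groth.Agent.S11244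


open CategoryTheory CategoryTheory.Limits MonoidalCategory CartesianMonoidalCategory MonObj GrpObj AlgebraicGeometry
open Groth.Agent Groth.Agent.SGA3cLib

variable {K : Type u} [Field K] {G X : Over (Spec (CommRingCat.of K))} [GrpObj G]

local notation "pt" => IsLocalRing.closedPoint K

/-- `(g, y) ↦ (g y, y)`. -/
noncomputable def psi (a : AlgGrp.Action G X) : G ⊗ X ⟶ X ⊗ X := lift a.act (snd G X)

theorem orbitMap_eq (a : AlgGrp.Action G X) (x : 𝟙_ (Over (Spec (CommRingCat.of K))) ⟶ X) :
    lift (𝟙 G) (toUnit G ≫ x) ≫ a.act = a.orbitMap x := rfl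

theorem isPullback_cart {C : Type*} [Category C] [CartesianMonoidalCategory C] {G X : C}
    (act : G ⊗ X ⟶ X) (x : 𝟙_ C ⟶ X) :
    IsPullback (lift (𝟙 G) (toUnit G ≫ x)) (lift (𝟙 G) (toUnit G ≫ x) ≫ act) (lift act (snd G X))
      (lift (𝟙 X) (toUnit X ≫ x)) := by
  refine ⟨⟨?_⟩, ⟨PullbackCone.isLimitAux' _ fun s => ⟨s.fst ≫ fst G X, ?_, ?_, ?_⟩⟩⟩
  · apply CartesianMonoidalCategory.hom_ext
    · simp
    · simp only [Category.assoc, lift_snd]
      rw [← Category.assoc act, toUnit_unique (act ≫ toUnit X) (toUnit _), ← Category.assoc,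
        toUnit_unique (lift (𝟙 G) (toUnit G ≫ x) ≫ toUnit _) (toUnit G)]
  · have h2 : s.fst ≫ snd G X = toUnit _ ≫ x := by
      have := congrArg (· ≫ snd X X) s.condition
      simp only [Category.assoc, lift_snd] at this
      rwa [← Category.assoc s.snd, toUnit_unique (s.snd ≫ toUnit X) (toUnit _)] at this
    apply CartesianMonoidalCategory.hom_ext
    · simp only [PullbackCone.mk_fst, Category.assoc, lift_fst]
      erw [Category.comp_id]
    · simp only [PullbackCone.mk_fst, Category.assoc, lift_snd]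
      rw [h2, ← Category.assoc, ← Category.assoc, toUnit_unique ((s.fst ≫ fst G X) ≫ toUnit G) (toUnit _)]
  · have h2 : s.fst ≫ snd G X = toUnit _ ≫ x := by
      have := congrArg (· ≫ snd X X) s.condition
      simp only [Category.assoc, lift_snd] at this
      rwa [← Category.assoc s.snd, toUnit_unique (s.snd ≫ toUnit X) (toUnit _)] at this
    have h1 := congrArg (· ≫ fst X X) s.condition
    simp only [Category.assoc, lift_fst, Category.comp_id] at h1
    simp only [PullbackCone.mk_snd]
    rw [← h1, ← Category.assoc]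
    congr 1
    apply CartesianMonoidalCategory.hom_ext
    · simp only [Category.assoc, lift_fst]
      erw [Category.comp_id]
    · simp only [Category.assoc, lift_snd]
      rw [h2, ← Category.assoc, ← Category.assoc, toUnit_unique ((s.fst ≫ fst G X) ≫ toUnit G) (toUnit _)]
  · intro m hm1 hm2
    simp only [PullbackCone.mk_fst] at hm1
    rw [← hm1]
    exact ((Category.assoc _ _ _).trans ((congrArg (fun t => (m : s.pt ⟶ G) ≫ t) (lift_fst _ _)).trans (Category.comp_id (m : s.pt ⟶ G)))).symm

theorem isPullback_psi (a : AlgGrp.Action G X) (x : 𝟙_ (Over (Spec (CommRingCat.of K))) ⟶ X) :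
    IsPullback (lift (𝟙 G) (toUnit G ≫ x)) (a.orbitMap x) (psi a) (lift (𝟙 X) (toUnit X ≫ x)) :=
  isPullback_cart a.act x

variable [LocallyOfFiniteType G.hom] [QuasiCompact G.hom] [LocallyOfFiniteType X.hom]

theorem rightTranslate_orbitMap (a : AlgGrp.Action G X) (x : 𝟙_ (Over (Spec (CommRingCat.of K))) ⟶ X)
    (q : 𝟙_ (Over (Spec (CommRingCat.of K))) ⟶ G) (hq : smulPt a q x = x) :
    (𝟙 G * (toUnit G ≫ q)) ≫ a.orbitMap x = a.orbitMap x := by
  rw [AlgGrpLib.OrbitLC.orbitMap_eq_smulPt, comp_smulPt, Category.comp_id, ← Category.assoc,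
    toUnit_unique (_ ≫ toUnit G) (toUnit G), mul_smulPt]
  congr 1
  conv_rhs => rw [← hq]
  rw [comp_smulPt]

theorem dimStab_le_iff [IsAlgClosed K] (a : AlgGrp.Action G X) (x : 𝟙_ (Over (Spec (CommRingCat.of K))) ⟶ X) (n : ℕ) :
    topologicalKrullDim ↥(pullback (a.orbitMap x).left x.left) ≤ (n : WithBot ℕ∞) ↔
      FlatMor.fibreDimAt (a.orbitMap x).left (η[G].left.base pt) ≤ (n : WithBot ℕ∞) := by
  haveI : IsReduced (Spec (CommRingCat.of K)) := inferInstance
  haveI : LocallyOfFiniteType ((a.orbitMap x).left ≫ X.hom) := by rw [Over.w]; infer_instance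
  haveI : LocallyOfFiniteType (a.orbitMap x).left := locallyOfFiniteType_of_comp _ X.hom
  haveI : IsPreimmersion x.left := by
    haveI : IsImmersion (x.left ≫ X.hom) := by
      rw [Over.w x]; exact inferInstanceAs (IsImmersion (𝟙 _))
    haveI := IsImmersion.of_comp x.left X.hom
    infer_instance
  set x₀ := x.left.base pt with hx₀
  have hxc : IsClosed ({x₀} : Set X.left) := ((pointEquivClosedPoint X.hom) ⟨x.left, Over.w x⟩).2
  set S : Set G.left := (a.orbitMap x).left.base ⁻¹' {x₀} with hS
  have hrange : Set.range (pullback.fst (a.orbitMap x).left x.left).base = S := by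
    rw [Scheme.Pullback.range_fst, hS]
    congr 1
    exact Set.ext fun z => ⟨fun ⟨t, ht⟩ => by
      rw [← ht, @Subsingleton.elim _ (inferInstanceAs (Subsingleton (PrimeSpectrum K))) t pt]; rfl,
      fun hz => ⟨pt, hz.symm⟩⟩
  have hdim : topologicalKrullDim ↥(pullback (a.orbitMap x).left x.left) = topologicalKrullDim ↥S := by
    rw [← hrange]
    exact (pullback.fst (a.orbitMap x).left x.left).isEmbedding.toHomeomorph.isHomeomorph.topologicalKrullDim_eq
  have hSlc : IsLocallyClosed S := (hxc.preimage (a.orbitMap x).left.continuous).isLocallyClosed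
  have he : η[G] ≫ a.orbitMap x = x := by
    rw [AlgGrpLib.OrbitLC.orbitMap_eq_smulPt, comp_smulPt, Category.comp_id, ← Category.assoc,
      toUnit_unique (_ ≫ toUnit G) (𝟙 _), Category.id_comp,
      ← show (1 : 𝟙_ (Over (Spec (CommRingCat.of K))) ⟶ G) = η[G] by
        rw [Hom.one_def, toUnit_unique (toUnit _) (𝟙 _), Category.id_comp], one_smulPt]
  have heS : η[G].left.base pt ∈ S := congrArg (fun r : 𝟙_ (Over (Spec (CommRingCat.of K))) ⟶ X => r.left.base pt) he
  have hpt : ∀ w ∈ S, DimLib.ptDim G.hom w = DimLib.trdegHom ((a.orbitMap x).left.residueFieldMap w).hom := by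
    intro w (hw : (a.orbitMap x).left.base w = x₀)
    have h := DimLib.ptDim_comp X.hom (a.orbitMap x).left w
    have hg : DimLib.ptDim ((a.orbitMap x).left ≫ X.hom) w = DimLib.ptDim G.hom w := by congr 1; exact Over.w _
    have h0 : DimLib.ptDim X.hom ((a.orbitMap x).left.base w) = 0 :=
      (congrArg (DimLib.ptDim X.hom) hw).trans ((DimLib.ptDim_eq_zero_iff X.hom x₀).2 hxc)
    rw [hg] at h
    exact h.trans (by rw [show DimLib.ptDim X.hom ((a.orbitMap x).left w) = 0 from h0, Nat.zero_add])
  rw [hdim, DimLib.topologicalKrullDim_locallyClosed_eq_iSup G.hom hSlc, iSup_le_iff,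
    FlatMorDim.fibreDimAt_le_iff]
  constructor
  · intro h w hw _
    have hwS : w ∈ S := hw.trans heS
    have := h ⟨w, hwS⟩
    rw [← hpt w hwS]
    exact_mod_cast this
  · rintro h ⟨w, hw⟩
    obtain ⟨q, hq⟩ := AlgGrpLib.OrbitDim.exists_ratPoint_mem (X := G) (S := closure {w})
      isClosed_closure.isLocallyClosed ⟨w, subset_closure rfl⟩
    have hwq : w ⤳ q.left.base pt := specializes_iff_mem_closure.2 (hq pt)
    have hqS : q.left.base pt ∈ S :=
      closure_minimal (Set.singleton_subset_iff.2 hw) (hxc.preimage (a.orbitMap x).left.continuous) (hq pt)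
    have hqx : smulPt a q x = x := by
      have : q ≫ a.orbitMap x = x :=
        Over.OverMorphism.ext (ext_of_apply_closedPoint_eq X.hom (Over.w _) (Over.w x) hqS)
      rw [AlgGrpLib.OrbitLC.orbitMap_eq_smulPt, comp_smulPt, Category.comp_id, ← Category.assoc,
        toUnit_unique (q ≫ toUnit G) (𝟙 _), Category.id_comp] at this
      exact this
    have hqx' : smulPt a q⁻¹ x = x := by
      conv_lhs => rw [← hqx]
      exact inv_smulPt a q x
    let R : G ≅ G :=
      { hom := 𝟙 G * (toUnit G ≫ q⁻¹)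
        inv := 𝟙 G * (toUnit G ≫ q)
        hom_inv_id := by simp [MonObj.comp_mul, GrpObj.comp_inv, toUnit_unique _ (toUnit G)]
        inv_hom_id := by simp [MonObj.comp_mul, GrpObj.comp_inv, toUnit_unique _ (toUnit G)] }
    have hRq : q ≫ R.hom = η[G] := by
      simp [R, MonObj.comp_mul, GrpObj.comp_inv, toUnit_unique _ (𝟙 (𝟙_ (Over (Spec (CommRingCat.of K))))), Hom.one_def]
    have hspec : R.hom.left.base w ⤳ η[G].left.base pt := by
      rw [← hRq]; exact hwq.map R.hom.left.continuous
    have hRS : (a.orbitMap x).left.base (R.hom.left.base w) = x₀ :=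
      (congrArg (fun r : G ⟶ X => r.left.base w) (rightTranslate_orbitMap a x q⁻¹ hqx')).trans hw
    have hle := h _ (hRS.trans heS.symm) hspec
    haveI : IsIso R.hom.left := ((Over.forget _).mapIso R).isIso_hom
    have e : DimLib.ptDim (R.hom.left ≫ G.hom) w = DimLib.ptDim G.hom (R.hom.left w) :=
      DimLib.ptDim_comp_preimmersion G.hom R.hom.left w
    have e2 : DimLib.ptDim (R.hom.left ≫ G.hom) w = DimLib.ptDim G.hom w := by congr 1; exact Over.w _
    exact_mod_cast (e2.symm.trans e).le.trans ((hpt _ hRS).le.trans hle)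

theorem dim_closure_orbit [IsAlgClosed K] [QuasiCompact X.hom] (a : AlgGrp.Action G X)
    (x : 𝟙_ (Over (Spec (CommRingCat.of K))) ⟶ X) :
    topologicalKrullDim ↥(closure (Set.range (a.orbitMap x).left.base)) =
      topologicalKrullDim ↥(Set.range (a.orbitMap x).left.base) := by
  haveI : CompactSpace ↥X.left := QuasiCompact.compactSpace_of_compactSpace X.hom
  set C := Set.range (a.orbitMap x).left.base
  have hC := AlgGrpLib.OrbitDim.isLocallyClosed_orbit a x
  have hlt := AlgGrpLib.OrbitDim.topologicalKrullDim_boundary_orbit_lt a x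
  have hB : IsLocallyClosed (closure C \ C) := by
    obtain ⟨U, Z, hU, hZ, hUZ⟩ := hC
    have : closure C \ C = closure C ∩ Uᶜ := by
      ext y
      refine ⟨fun h => ⟨h.1, fun hy => h.2 ?_⟩, fun h => ⟨h.1, fun hy => h.2 ?_⟩⟩
      · have hy2 : y ∈ U ∩ Z := ⟨hy, closure_minimal (hUZ.le.trans Set.inter_subset_right) hZ h.1⟩
        exact hUZ.ge hy2
      · exact (hUZ.le hy).1
    rw [this]
    exact (isClosed_closure.inter hU.isClosed_compl).isLocallyClosed
  rw [DimLib.topologicalKrullDim_locallyClosed_eq_iSup X.hom isClosed_closure.isLocallyClosed,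
    DimLib.topologicalKrullDim_locallyClosed_eq_iSup X.hom hC]
  apply le_antisymm
  · refine iSup_le fun z => ?_
    by_cases hz : z.1 ∈ C
    · exact le_iSup (fun c : C => (DimLib.ptDim X.hom c.1 : WithBot ℕ∞)) ⟨z.1, hz⟩
    · rw [DimLib.topologicalKrullDim_locallyClosed_eq_iSup X.hom hB,
        DimLib.topologicalKrullDim_locallyClosed_eq_iSup X.hom hC] at hlt
      exact (le_iSup (fun c : ↥(closure C \ C) => (DimLib.ptDim X.hom c.1 : WithBot ℕ∞)) ⟨z.1, z.2, hz⟩).trans hlt.le
  · exact iSup_le fun c => le_iSup (fun z : ↥(closure C) => (DimLib.ptDim X.hom z.1 : WithBot ℕ∞)) ⟨c.1, subset_closure c.2⟩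

theorem exists_nat {Z : Scheme.{u}} (p : Z ⟶ Spec (CommRingCat.of K)) [LocallyOfFiniteType p] [QuasiCompact p]
    {C : Set Z} (hC : IsLocallyClosed C) (hne : C.Nonempty) :
    ∃ d : ℕ, topologicalKrullDim ↥C = (d : WithBot ℕ∞) := by
  haveI : CompactSpace Z := QuasiCompact.compactSpace_of_compactSpace p
  obtain ⟨N, hN⟩ := AlgGrpLib.OrbitDim.exists_bound_ptDim p
  rw [DimLib.topologicalKrullDim_locallyClosed_eq_iSup p hC]
  obtain ⟨c, hc⟩ := hne
  have hle : ⨆ z : C, (DimLib.ptDim p z.1 : WithBot ℕ∞) ≤ (N : WithBot ℕ∞) :=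
    iSup_le fun z => by exact_mod_cast hN z.1
  generalize hv : ⨆ z : C, (DimLib.ptDim p z.1 : WithBot ℕ∞) = v at hle
  have h0 : (0 : WithBot ℕ∞) ≤ v := hv ▸ le_iSup_of_le ⟨c, hc⟩ (by exact_mod_cast Nat.zero_le _)
  match v, hle, h0 with
  | ⊥, _, h0 => simp at h0
  | (m : ℕ∞), hle, _ =>
    obtain ⟨d, rfl⟩ := ENat.ne_top_iff_exists.1 (ne_top_of_le_ne_top (ENat.coe_ne_top N) (WithBot.coe_le_coe.1 hle))
    exact ⟨d, rfl⟩

theorem main [IsAlgClosed K] [Smooth G.hom] [IsReduced X.left] [IsSeparated X.hom] [QuasiCompact X.hom]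
    (a : AlgGrp.Action G X) (r : ℕ) :
    ∃ Z : Set ↥X.left, IsClosed Z ∧
      ∀ x : 𝟙_ (Over (Spec (CommRingCat.of K))) ⟶ X,
        topologicalKrullDim ↥(closure (Set.range ⇑(a.orbitMap x).left.base)) ≤ (r : WithBot ℕ∞) ↔
          Set.range ⇑x.left.base ⊆ Z := by
  haveI : CompactSpace ↥G.left := QuasiCompact.compactSpace_of_compactSpace G.hom
  haveI : CompactSpace ↥X.left := QuasiCompact.compactSpace_of_compactSpace X.hom
  have hGne : (Set.univ : Set G.left).Nonempty := ⟨η[G].left.base pt, trivial⟩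
  obtain ⟨dG, hdG⟩ := exists_nat G.hom isOpen_univ.isLocallyClosed hGne
  rw [(Homeomorph.Set.univ G.left).isHomeomorph.topologicalKrullDim_eq] at hdG
  have key : ∀ x : 𝟙_ (Over (Spec (CommRingCat.of K))) ⟶ X,
      topologicalKrullDim ↥(closure (Set.range ⇑(a.orbitMap x).left.base)) ≤ (r : WithBot ℕ∞) ↔
        dG ≤ r ∨ ¬ FlatMor.fibreDimAt (a.orbitMap x).left (η[G].left.base pt) ≤ ((dG - r - 1 : ℕ) : WithBot ℕ∞) := by
    intro x
    have hsum := Groth.Agent.S16130.result K G X a x
    obtain ⟨dC, hdC⟩ := exists_nat X.hom (AlgGrpLib.OrbitDim.isLocallyClosed_orbit a x)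
      (AlgGrpLib.OrbitDim.orbit_nonempty a x)
    rw [hdG, hdC] at hsum
    rw [dim_closure_orbit, hdC, ← dimStab_le_iff a x]
    generalize topologicalKrullDim ↥(pullback (a.orbitMap x).left x.left) = s at hsum
    match s, hsum with
    | ⊥, hsum => simp at hsum
    | ((⊤ : ℕ∞) : WithBot ℕ∞), hsum =>
      rw [show ((dC : ℕ) : WithBot ℕ∞) = (((dC : ℕ∞)) : WithBot ℕ∞) from rfl, ← WithBot.coe_add, add_top] at hsum
      exact absurd (WithBot.coe_inj.1 hsum) (ENat.coe_ne_top dG)
    | (((dS : ℕ) : ℕ∞) : WithBot ℕ∞), hsum =>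
      have hd : dG = dC + dS := by exact_mod_cast hsum
      rw [show (((dS : ℕ) : ℕ∞) : WithBot ℕ∞) = ((dS : ℕ) : WithBot ℕ∞) from rfl, Nat.cast_le, Nat.cast_le]
      omega
  by_cases hr : dG ≤ r
  · exact ⟨Set.univ, isClosed_univ, fun x => iff_of_true ((key x).2 (Or.inl hr)) (Set.subset_univ _)⟩
  let s : X ⟶ G ⊗ X := lift (toUnit X ≫ η[G]) (𝟙 X)
  haveI : LocallyOfFiniteType (G ⊗ X).hom :=
    inferInstanceAs (LocallyOfFiniteType (pullback.fst G.hom X.hom ≫ G.hom))
  haveI : LocallyOfFiniteType (X ⊗ X).hom :=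
    inferInstanceAs (LocallyOfFiniteType (pullback.fst X.hom X.hom ≫ X.hom))
  haveI : LocallyOfFiniteType ((psi a).left ≫ (X ⊗ X).hom) := by rw [Over.w]; infer_instance
  haveI : LocallyOfFiniteType (psi a).left := locallyOfFiniteType_of_comp _ (X ⊗ X).hom
  refine ⟨s.left.base ⁻¹' {p | FlatMor.fibreDimAt (psi a).left p ≤ ((dG - r - 1 : ℕ) : WithBot ℕ∞)}ᶜ,
    (FlatMorDim.isOpen_fibreDimAt_le (psi a).left _).isClosed_compl.preimage s.left.continuous, fun x => ?_⟩
  have hpb : IsPullback (lift (𝟙 G) (toUnit G ≫ x)).left (a.orbitMap x).left (psi a).left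
      (lift (𝟙 X) (toUnit X ≫ x)).left := (isPullback_psi a x).map (Over.forget _)
  haveI : LocallyOfFiniteType ((a.orbitMap x).left ≫ X.hom) := by rw [Over.w]; infer_instance
  have heq := Groth.Agent.AlgSpLib.fibreDimAt_baseChange hpb (η[G].left.base pt)
  have hse : (lift (𝟙 G) (toUnit G ≫ x)).left.base (η[G].left.base pt) = s.left.base (x.left.base pt) := by
    have : η[G] ≫ lift (𝟙 G) (toUnit G ≫ x) = x ≫ s := by
      apply CartesianMonoidalCategory.hom_ext <;>
        simp only [s, Category.assoc, lift_fst, lift_snd, Category.comp_id] <;>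
        rw [← Category.assoc, toUnit_unique (_ ≫ toUnit _) (𝟙 _), Category.id_comp]
    exact congrArg (fun r => r.left.base pt) this
  rw [key x, heq, hse]
  constructor
  · rintro (h | h) _ ⟨t, rfl⟩
    · exact absurd h hr
    · rw [@Subsingleton.elim _ (inferInstanceAs (Subsingleton (PrimeSpectrum K))) t pt]
      exact h
  · intro h
    exact Or.inr (h ⟨pt, rfl⟩)

end Groth.Agent.S11244

namespace Groth.Agent.S11244

/-- Let k be an algebraically closed field, G a linear algebraic group over k (affine, smooth) acting on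
an irreducible variety X over k (reduced, separated, of finite type). For a rational point x of X
let dim G·x be the dimension of the closure of its orbit. Then for every r the set of rational
points x with dim G·x ≤ r is closed: there is a closed subset Z of X whose rational points are
exactly those x. (The second assertion, that the points of maximal orbit dimension form a dense open
subset, follows.) -/
theorem result (k : Type u) [Field k] [IsAlgClosed k]
    (G : Over (Spec (CommRingCat.of k))) [GrpObj G] [IsAffine G.left] [Smooth G.hom]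
    (X : Over (Spec (CommRingCat.of k))) [IrreducibleSpace ↥X.left] [IsReduced X.left]
    [IsSeparated X.hom] [LocallyOfFiniteType X.hom] [QuasiCompact X.hom]
    (a : AlgGrp.Action G X) (r : ℕ) :
    ∃ Z : Set ↥X.left, IsClosed Z ∧
      ∀ x : 𝟙_ (Over (Spec (CommRingCat.of k))) ⟶ X,
        topologicalKrullDim ↥(closure (Set.range ⇑(a.orbitMap x).left.base)) ≤ (r : WithBot ℕ∞) ↔
          Set.range ⇑x.left.base ⊆ Z := by
  haveI : LocallyOfFiniteType G.hom := inferInstance
  exact main a r


end Groth.Agent.S11244
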