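import Groth.Statements.S11246
import Groth.Agent.AGF12.Minors
import Groth.Agent.AGF12.Inverse
import Groth.Agent.AGF12.Semi
import Groth.Agent.S11188
import Groth.Agent.S11196
import Groth.Agent.S11229
import Groth.Agent.S11241
import Groth.Agent.S11234
-- import your own Groth.Agent.* helpers here

set_option autoImplicit false
set_option backward.isDefEq.respectTransparency false
set_option backward.isDefEq.respectTransparency.types false
set_option synthInstance.maxHeartbeats 200000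
open Groth.Agent.CommAlg4.AffPt Groth.Agent Groth.Agent.AGF12
universe u
open CategoryTheory MonoidalCategory CartesianMonoidalCategory MonObj GrpObj AlgebraicGeometry
open scoped TensorProduct
open AGF

namespace Groth.Agent.S11246

variable {k : Type u} [Field k] [IsAlgClosed k]
variable {G : Over (Spec (CommRingCat.of k))} [GrpObj G]
variable {A : Type u} [CommRing A] [Algebra k A]

/-- The action of a rational point. -/
noncomputable def act (ρ : VecGrp.GMod G A) (hρ : ρ.IsMult) (g : VecGrp.pt k k ⟶ G) : A →ₐ[k] A :=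
  AlgHom.ofLinearMap ((TensorProduct.lid k A).toLinearMap ∘ₗ (ρ.ρ k g).toLinearMap ∘ₗ (TensorProduct.lid k A).symm.toLinearMap)
    (by
      show TensorProduct.lid k A (ρ.ρ k g ((1 : k) ⊗ₜ[k] (1 : A))) = 1
      rw [← Algebra.TensorProduct.one_def, (hρ k g).2, Algebra.TensorProduct.one_def]
      simp)
    (fun x y => by
      show TensorProduct.lid k A (ρ.ρ k g ((1 : k) ⊗ₜ[k] (x * y))) =
        TensorProduct.lid k A (ρ.ρ k g ((1 : k) ⊗ₜ[k] x)) * TensorProduct.lid k A (ρ.ρ k g ((1 : k) ⊗ₜ[k] y))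
      rw [show (1 : k) ⊗ₜ[k] (x * y) = ((1 : k) ⊗ₜ[k] x) * ((1 : k) ⊗ₜ[k] y) by
        rw [Algebra.TensorProduct.tmul_mul_tmul, _root_.one_mul], (hρ k g).1]
      exact map_mul (Algebra.TensorProduct.lid k A) _ _)

theorem act_apply (ρ : VecGrp.GMod G A) (hρ : ρ.IsMult) (g : VecGrp.pt k k ⟶ G) (y : A) :
    act ρ hρ g y = TensorProduct.lid k A (ρ.ρ k g ((1 : k) ⊗ₜ[k] y)) := rfl

theorem act_one (ρ : VecGrp.GMod G A) (hρ : ρ.IsMult) (y : A) : act ρ hρ 1 y = y := by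
  rw [act_apply, map_one]
  exact (TensorProduct.lid_tmul _ _).trans (one_smul _ _)

theorem act_mul (ρ : VecGrp.GMod G A) (hρ : ρ.IsMult) (g g' : VecGrp.pt k k ⟶ G) (y : A) :
    act ρ hρ (g * g') y = act ρ hρ g (act ρ hρ g' y) := by
  rw [act_apply, act_apply, act_apply, map_mul,
    show (1 : k) ⊗ₜ[k] TensorProduct.lid k A (ρ.ρ k g' ((1 : k) ⊗ₜ[k] y)) = _ from (TensorProduct.lid k A).symm_apply_apply _]
  rfl

theorem act_mem {ρ : VecGrp.GMod G A} {hρ : ρ.IsMult} {N : Submodule k A} (hst : ρ.IsStable (𝟙 G) N)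
    (g : VecGrp.pt k k ⟶ G) {y : A} (hy : y ∈ N) : act ρ hρ g y ∈ N := by
  obtain ⟨w, hw⟩ := hst k g y hy
  rw [Category.comp_id] at hw
  rw [act_apply, ← hw]
  clear hw
  induction w using TensorProduct.induction_on with
  | zero => simp
  | tmul p z => simpa using N.smul_mem p z.2
  | add p q hp hq => rw [map_add, map_add]; exact N.add_mem hp hq

theorem coeff_act [IsAffine G.left] (ρ : VecGrp.GMod G A) (hρ : ρ.IsMult) (y : A) (l : A →ₗ[k] k) :
    ∃ F : Γ(G.left, ⊤), ∀ t : VecGrp.pt k k ⟶ G, algPt t F = l (act ρ hρ t y) := by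
  obtain ⟨F, hF⟩ := exists_coeff G A ρ y
  refine ⟨F l, fun t => ?_⟩
  rw [hF k t l, act_apply]
  generalize ρ.ρ k t ((1 : k) ⊗ₜ[k] y) = z
  induction z using TensorProduct.induction_on with
  | zero => simp
  | tmul a y => simp [mul_comm]
  | add a b ha hb => simp only [map_add, ha, hb]


theorem chiVal_mul {H : Over (Spec (CommRingCat.of k))} [GrpObj H] (χ : H ⟶ Red.Gm (Spec (CommRingCat.of k))) [IsMonHom χ]
    {B : Type u} [CommRing B] [Algebra k B] (g h : VecGrp.pt k B ⟶ H) :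
    VecGrp.chiVal χ (g * h) = VecGrp.chiVal χ g * VecGrp.chiVal χ h := by
  show (Scheme.ΓSpecIso (CommRingCat.of B)).hom (Red.gmFn ((g * h) ≫ χ)) = _
  rw [MonObj.mul_comp, SGA3cLib.gmFn_mul, map_mul]
  rfl

theorem chiVal_one {H : Over (Spec (CommRingCat.of k))} [GrpObj H] (χ : H ⟶ Red.Gm (Spec (CommRingCat.of k))) [IsMonHom χ]
    {B : Type u} [CommRing B] [Algebra k B] : VecGrp.chiVal χ (1 : VecGrp.pt k B ⟶ H) = 1 := by
  show (Scheme.ΓSpecIso (CommRingCat.of B)).hom (Red.gmFn ((1 : VecGrp.pt k B ⟶ H) ≫ χ)) = _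
  rw [MonObj.one_comp, SGA3cLib.gmFn_one, map_one]

/-- A connected unipotent group has no nontrivial multiplicative function. -/
theorem trivial_of_noSubtorus {U : Over (Spec (CommRingCat.of k))} [GrpObj U] [IsAffine U.left] [Smooth U.hom]
    [ConnectedSpace U.left] (hU : Red.HasNoSubtorus k U) (c : Γ(U.left, ⊤)) (h1 : algPt (1 : VecGrp.pt k k ⟶ U) c = 1)
    (hm : ∀ g h : VecGrp.pt k k ⟶ U, algPt (g * h) c = algPt g c * algPt h c) (g : VecGrp.pt k k ⟶ U) :
    algPt g c = 1 := by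
  haveI : AlgebraicGeometry.IsReduced U.left := WeilLib.isReduced_of_smooth U.hom
  letI := gAlg U
  let R : (VecGrp.pt k k ⟶ U) →* Module.End k k :=
    { toFun := fun g => algPt g c • (1 : Module.End k k)
      map_one' := by rw [h1, one_smul]
      map_mul' := fun g h => by
        apply LinearMap.ext
        intro x
        simp [hm, mul_comm, mul_left_comm] }
  obtain ⟨v, hv, hfix⟩ := Groth.Agent.S11241.exists_fixed_vector hU R fun x l =>
    ⟨algebraMap k Γ(U.left, ⊤) (l x) * c, fun t => by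
      rw [map_mul, show algPt t (algebraMap k Γ(U.left, ⊤) (l x)) = l x from algPt_appTop_hom t _]
      show l x * algPt t c = l (algPt t c • x)
      rw [map_smul, smul_eq_mul, mul_comm]⟩
  have h2 := hfix g
  simp only [R, MonoidHom.coe_mk, OneHom.coe_mk, LinearMap.smul_apply, Module.End.one_apply, smul_eq_mul] at h2
  exact mul_right_cancel₀ hv (by rw [h2, _root_.one_mul])

theorem denominators {H : Over (Spec (CommRingCat.of k))} [GrpObj H] [IsAffine H.left] [Smooth H.hom] [ConnectedSpace H.left]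
    (hsolv : Red.IsSolvableGrp H)
    (χ : H ⟶ Red.Gm (Spec (CommRingCat.of k))) [IsMonHom χ] [IsDomain A] (ρ : VecGrp.GMod H A) (hρ : ρ.IsMult)
    (a₀ b₀ : A) (hb₀ : b₀ ≠ 0)
    (hχ : ∀ (B : Type u) [CommRing B] [Algebra k B] (h : VecGrp.pt k B ⟶ H),
      ρ.ρ B h ((1 : B) ⊗ₜ[k] a₀) * ((1 : B) ⊗ₜ[k] b₀) =
        VecGrp.chiVal χ h • (((1 : B) ⊗ₜ[k] a₀) * ρ.ρ B h ((1 : B) ⊗ₜ[k] b₀))) :
    ∃ a b : A, b ≠ 0 ∧ a * b₀ = b * a₀ ∧ ∃ θ : H ⟶ Red.Gm (Spec (CommRingCat.of k)), IsMonHom θ ∧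
      (∀ (B : Type u) [CommRing B] [Algebra k B] (h : VecGrp.pt k B ⟶ H),
        ρ.ρ B h ((1 : B) ⊗ₜ[k] b) = VecGrp.chiVal θ h • ((1 : B) ⊗ₜ[k] b)) ∧
      (∀ (B : Type u) [CommRing B] [Algebra k B] (h : VecGrp.pt k B ⟶ H),
        ρ.ρ B h ((1 : B) ⊗ₜ[k] a) = (VecGrp.chiVal θ h * VecGrp.chiVal χ h) • ((1 : B) ⊗ₜ[k] a)) := by
  classical
  haveI : AlgebraicGeometry.IsReduced H.left := WeilLib.isReduced_of_smooth H.hom
  letI := gAlg H
  have hk : ∀ g : VecGrp.pt k k ⟶ H, act ρ hρ g a₀ * b₀ = VecGrp.chiVal χ g • (a₀ * act ρ hρ g b₀) := fun g => by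
    have h := congrArg (Algebra.TensorProduct.lid k A) (hχ k g)
    rw [map_mul, map_smul, map_mul] at h
    simp only [Algebra.TensorProduct.lid_tmul, one_smul] at h
    exact h
  have hne : ∀ g : VecGrp.pt k k ⟶ H, act ρ hρ g b₀ ≠ 0 := fun g h => hb₀ (by
    have := congrArg (act ρ hρ g⁻¹) h
    rwa [← act_mul, inv_mul_cancel, act_one, map_zero] at this)
  let D : Submodule k A :=
    { carrier := {b | ∃ a, a * b₀ = b * a₀}
      zero_mem' := ⟨0, by simp⟩
      add_mem' := fun {x y} ⟨a, ha⟩ ⟨b, hb⟩ => ⟨a + b, by rw [add_mul, add_mul, ha, hb]⟩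
      smul_mem' := fun c x ⟨a, ha⟩ => ⟨c • a, by rw [smul_mul_assoc, smul_mul_assoc, ha]⟩ }
  have hD : ∀ g : VecGrp.pt k k ⟶ H, ∀ y ∈ D, act ρ hρ g y ∈ D := by
    rintro g y ⟨a, ha⟩
    have h1 : VecGrp.chiVal χ g⁻¹ * VecGrp.chiVal χ g = 1 := by rw [← chiVal_mul, inv_mul_cancel, chiVal_one]
    refine ⟨VecGrp.chiVal χ g⁻¹ • act ρ hρ g a, mul_right_cancel₀ (hne g) ?_⟩
    have h2 : act ρ hρ g a * act ρ hρ g b₀ = act ρ hρ g y * act ρ hρ g a₀ := by rw [← map_mul, ha, map_mul]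
    calc VecGrp.chiVal χ g⁻¹ • act ρ hρ g a * b₀ * act ρ hρ g b₀
        = VecGrp.chiVal χ g⁻¹ • (act ρ hρ g y * (act ρ hρ g a₀ * b₀)) := by
          rw [smul_mul_assoc, smul_mul_assoc, mul_right_comm, h2, _root_.mul_assoc]
      _ = act ρ hρ g y * a₀ * act ρ hρ g b₀ := by
          rw [hk, mul_smul_comm, smul_smul, h1, one_smul, ← _root_.mul_assoc]
  obtain ⟨N, hxN, hN, hst⟩ := Groth.Agent.CommAlg4.GModStab.exists_stable_of_noetherian ρ
    (Submodule.span k {b₀}) (Submodule.fg_span (Set.finite_singleton b₀))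
  haveI : Module.Finite k N := Module.Finite.iff_fg.2 hN
  let W : Submodule k A := N ⊓ D
  haveI : Module.Finite k W :=
    Module.Finite.of_injective (Submodule.inclusion (inf_le_left : W ≤ N)) (Submodule.inclusion_injective _)
  haveI : Nontrivial W := ⟨⟨⟨b₀, hxN (Submodule.subset_span rfl), ⟨a₀, mul_comm _ _⟩⟩, 0, fun h => hb₀ (congrArg Subtype.val h)⟩⟩
  have hW : ∀ (g : VecGrp.pt k k ⟶ H), ∀ y ∈ W, (act ρ hρ g).toLinearMap y ∈ W := fun g y hy =>
    ⟨act_mem (hρ := hρ) hst _ hy.1, hD _ y hy.2⟩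
  let R : (VecGrp.pt k k ⟶ H) →* Module.End k W :=
    { toFun := fun g => (act ρ hρ g).toLinearMap.restrict (hW g)
      map_one' := LinearMap.ext fun y => Subtype.ext (act_one ρ hρ y)
      map_mul' := fun g g' => LinearMap.ext fun y => Subtype.ext (act_mul ρ hρ g g' y) }
  obtain ⟨v, hv, hvc⟩ := Groth.Agent.S11196.exists_common_eigen hsolv R fun y l => by
    obtain ⟨l', hl'⟩ := l.exists_extend
    obtain ⟨F, hF⟩ := coeff_act ρ hρ (y : A) l'
    exact ⟨F, fun t => by rw [hF, ← hl']; rfl⟩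
  let b : A := v
  have hb : b ≠ 0 := fun h => hv (Subtype.ext h)
  obtain ⟨a, hab⟩ := v.2.2
  choose e he using hvc
  have heb : ∀ g, act ρ hρ g b = e g • b := fun g => congrArg Subtype.val (he g)
  obtain ⟨l₀, hl₀⟩ : ∃ l : A →ₗ[k] k, l b = 1 := by
    obtain ⟨l, hl⟩ := Module.Projective.exists_dual_ne_zero k hb
    exact ⟨(l b)⁻¹ • l, inv_mul_cancel₀ hl⟩
  obtain ⟨F, hF⟩ := exists_coeff H A ρ b
  have hFe : ∀ (g : VecGrp.pt k k ⟶ H) (l : A →ₗ[k] k), algPt g (F l) = e g * l b := fun g l => by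
    rw [hF k g l, show ρ.ρ k g ((1 : k) ⊗ₜ[k] b) = (1 : k) ⊗ₜ[k] (act ρ hρ g b) from
      ((TensorProduct.lid k A).symm_apply_apply _).symm, heb]
    simp
  let c := F l₀
  have hc : ∀ g, algPt g c = e g := fun g => by rw [hFe, hl₀, _root_.mul_one]
  have hFl : ∀ l, F l = algebraMap k Γ(H.left, ⊤) (l b) * c := fun l => sub_eq_zero.1 <|
    S11188.eq_zero_of_pts H _ fun t => by
      rw [map_sub, map_mul, hc, hFe, show algPt t (algebraMap k Γ(H.left, ⊤) (l b)) = l b from algPt_appTop_hom t _, mul_comm,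
        sub_self]
  have hbB : ∀ (B : Type u) [CommRing B] [Algebra k B] (h : VecGrp.pt k B ⟶ H),
      ρ.ρ B h ((1 : B) ⊗ₜ[k] b) = algPt h c • ((1 : B) ⊗ₜ[k] b) := fun B _ _ h => by
    refine S11234.eq_of_dual _ _ fun l => ?_
    rw [← hF B h l, hFl, map_mul, show algPt h (algebraMap k Γ(H.left, ⊤) (l b)) = algebraMap k B (l b) from algPt_appTop_hom h _]
    rw [TensorProduct.smul_tmul', smul_eq_mul, _root_.mul_one, LinearMap.lTensor_tmul, TensorProduct.rid_tmul, Algebra.smul_def]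
  have hem : ∀ g g', e (g * g') = e g * e g' := fun g g' => by
    have h := act_mul ρ hρ g g' b
    rw [heb, heb, map_smul, heb, smul_smul] at h
    exact (smul_left_injective k hb h).trans (mul_comm _ _)
  have he1 : e 1 = 1 := smul_left_injective k hb ((heb 1).symm.trans ((act_one ρ hρ b).trans (one_smul k b).symm))
  have hsemi : AGF12.Semi (𝟙 H) c c := semi_of_pts fun t h => by rw [Category.comp_id, hc, hc, hc, hem]
  have hc1 : algPt (1 : VecGrp.pt k k ⟶ H) c = 1 := (hc 1).trans he1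
  obtain ⟨θ, hm, hθ⟩ := exists_character (hsemi.isUnit hc1) (fun B _ _ h h' => hsemi.mul_apply hc1 h h')
  have hbθ : ∀ (B : Type u) [CommRing B] [Algebra k B] (h : VecGrp.pt k B ⟶ H),
      ρ.ρ B h ((1 : B) ⊗ₜ[k] b) = VecGrp.chiVal θ h • ((1 : B) ⊗ₜ[k] b) := fun B _ _ h => by
    rw [gmFn_chiVal, hθ]; exact hbB B h
  refine ⟨a, b, hb, hab, θ, hm, hbθ, fun B _ _ h => ?_⟩
  have hinj : Function.Injective ((LinearMap.mulRight k b₀).lTensor B) :=
    Module.Flat.lTensor_preserves_injective_linearMap _ fun p q hpq => mul_right_cancel₀ hb₀ hpq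
  have hmul : ∀ z : B ⊗[k] A, (LinearMap.mulRight k b₀).lTensor B z = z * ((1 : B) ⊗ₜ[k] b₀) := fun z => by
    induction z using TensorProduct.induction_on with
    | zero => simp
    | tmul p r => simp [Algebra.TensorProduct.tmul_mul_tmul]
    | add p r hp hr => rw [map_add, hp, hr, add_mul]
  apply (ρ.ρ B h⁻¹).injective
  apply hinj
  rw [hmul, hmul]
  have hh : ρ.ρ B h⁻¹ (ρ.ρ B h ((1 : B) ⊗ₜ[k] b₀)) = (1 : B) ⊗ₜ[k] b₀ := by
    rw [← LinearEquiv.mul_apply, ← map_mul, inv_mul_cancel, map_one]; rfl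
  conv_lhs => rw [← hh, ← (hρ B h⁻¹).1]
  conv_rhs => rw [← hh, ← (hρ B h⁻¹).1]
  congr 1
  apply hinj
  rw [hmul, hmul, ← (hρ B h).1, Algebra.TensorProduct.tmul_mul_tmul, _root_.mul_one, hab,
    show ((1 : B) ⊗ₜ[k] (b * a₀)) = ((1 : B) ⊗ₜ[k] b) * ((1 : B) ⊗ₜ[k] a₀) by
      rw [Algebra.TensorProduct.tmul_mul_tmul, _root_.mul_one],
    (hρ B h).1, hbθ, _root_.mul_assoc, hχ, smul_mul_assoc, mul_smul_comm, smul_smul, smul_mul_assoc, smul_mul_assoc]
  congr 1
  have e1 : ((1 : B) ⊗ₜ[k] a) * ((1 : B) ⊗ₜ[k] b₀) = ((1 : B) ⊗ₜ[k] b) * ((1 : B) ⊗ₜ[k] a₀) := by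
    rw [Algebra.TensorProduct.tmul_mul_tmul, Algebra.TensorProduct.tmul_mul_tmul, hab]
  rw [← _root_.mul_assoc, ← e1, mul_right_comm]

end Groth.Agent.S11246

namespace Groth.Agent.S11246

/-- Let k be an algebraically closed field and H a connected solvable linear algebraic group over k
(affine, smooth, connected, solvable) with maximal torus T and unipotent radical U (so H = T·U),
acting rationally by algebra automorphisms on a commutative k-algebra A which is an integral domain.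
Let χ be a character of H and let a₀, b₀ ∈ A, b₀ ≠ 0, be such that H acts on the fraction a₀/b₀
through χ: (h·a₀)·b₀ = χ(h)·a₀·(h·b₀) for every point h of H. Then there are U-invariant elements a,
b ∈ A with b ≠ 0 and a·b₀ = b·a₀ (so a₀/b₀ = a/b), and a character θ of T such that b is a
T-semi-invariant of weight θ and a is a T-semi-invariant of weight θ + χ|_T. -/
theorem result (k : Type u) [Field k] [IsAlgClosed k]
    (H : Over (Spec (CommRingCat.of k))) [GrpObj H] [IsAffine H.left] [Smooth H.hom] [ConnectedSpace H.left]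
    (hsolv : Red.IsSolvableGrp H)
    (T : Over (Spec (CommRingCat.of k))) [GrpObj T] (iT : T ⟶ H) [IsMonHom iT] (hT : AGF.IsMaxTorus iT)
    (U : Over (Spec (CommRingCat.of k))) [GrpObj U] (uH : U ⟶ H) (hU : Par.IsUnipotentRadical uH)
    (χ : H ⟶ Red.Gm (Spec (CommRingCat.of k))) [IsMonHom χ]
    (A : Type u) [CommRing A] [IsDomain A] [Algebra k A] (ρ : VecGrp.GMod H A) (hρ : ρ.IsMult)
    (a₀ b₀ : A) (hb₀ : b₀ ≠ 0)
    (hχ : ∀ (B : Type u) [CommRing B] [Algebra k B] (h : VecGrp.pt k B ⟶ H),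
      ρ.ρ B h ((1 : B) ⊗ₜ[k] a₀) * ((1 : B) ⊗ₜ[k] b₀) =
        VecGrp.chiVal χ h • (((1 : B) ⊗ₜ[k] a₀) * ρ.ρ B h ((1 : B) ⊗ₜ[k] b₀))) :
    ∃ a b : A, a ∈ ρ.fixedUnder uH ∧ b ∈ ρ.fixedUnder uH ∧ b ≠ 0 ∧ a * b₀ = b * a₀ ∧
      ∃ θ : T ⟶ Red.Gm (Spec (CommRingCat.of k)), IsMonHom θ ∧
        (∀ (B : Type u) [CommRing B] [Algebra k B] (t : VecGrp.pt k B ⟶ T),
          ρ.ρ B (t ≫ iT) ((1 : B) ⊗ₜ[k] b) = VecGrp.chiVal θ t • ((1 : B) ⊗ₜ[k] b)) ∧
        (∀ (B : Type u) [CommRing B] [Algebra k B] (t : VecGrp.pt k B ⟶ T),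
          ρ.ρ B (t ≫ iT) ((1 : B) ⊗ₜ[k] a) =
            (VecGrp.chiVal θ t * VecGrp.chiVal χ (t ≫ iT)) • ((1 : B) ⊗ₜ[k] a)) := by
  classical
  obtain ⟨humon, hucl, -, hUs, -, hUf, -⟩ := hU
  haveI := humon
  haveI := hucl
  haveI := hUs
  haveI : IsAffine U.left := isAffine_of_isAffineHom uH.left
  obtain ⟨hconn, hnt⟩ := S11229.connected_and_noSubtorus hUf
  haveI := hconn
  haveI : AlgebraicGeometry.IsReduced U.left := WeilLib.isReduced_of_smooth U.hom
  obtain ⟨a, b, hb, hab, θ, hm, hbθ, haθ⟩ := denominators hsolv χ ρ hρ a₀ b₀ hb₀ hχ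
  haveI := hm
  have htriv : ∀ (φ : H ⟶ Red.Gm (Spec (CommRingCat.of k))), IsMonHom φ → ∀ g : VecGrp.pt k k ⟶ U,
      VecGrp.chiVal φ (g ≫ uH) = 1 := fun φ _ g => by
    rw [gmFn_chiVal, algPt_comp]
    refine trivial_of_noSubtorus hnt _ ?_ (fun g g' => ?_) g
    · rw [← algPt_comp, MonObj.one_comp, ← gmFn_chiVal, chiVal_one]
    · rw [← algPt_comp, ← algPt_comp, ← algPt_comp, MonObj.mul_comp, ← gmFn_chiVal, chiVal_mul]
      rfl
  refine ⟨a, b, S11188.mem_fixedUnder_of_pts uH ρ _ fun g => ?_, S11188.mem_fixedUnder_of_pts uH ρ _ fun g => ?_,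
    hb, hab, iT ≫ θ, inferInstance, fun B _ _ t => ?_, fun B _ _ t => ?_⟩
  · rw [haθ, htriv θ hm, htriv χ inferInstance, _root_.one_mul, one_smul]
  · rw [hbθ, htriv θ hm, one_smul]
  · rw [hbθ]
    simp only [VecGrp.chiVal, Category.assoc]
  · rw [haθ]
    simp only [VecGrp.chiVal, Category.assoc]


end Groth.Agent.S11246
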