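import Groth.Statements.S11280
import Groth.Agent.DeformSqZero.SmallExt
import Groth.Agent.CAlgH.FlatFormallySmooth

set_option autoImplicit false
universe u
open Deform

namespace Groth.Agent.S11280

/-- Let k be an algebraically closed field, A a local Artinian k-algebra with residue field k and t an
element of the maximal ideal of A annihilated by the maximal ideal, so that A is a small extension
of A/tA. Let B be a flat A-algebra whose closed fibre B/m_A B is a formally smooth k-algebra (an
infinitesimal deformation over A of a formally smooth k-algebra). Then every A-algebra automorphism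
of B/tB is induced by an A-algebra automorphism of B. (The published statement asks the automorphism
of B/tB to induce the identity on B/m_A B; this row does not. The published statement takes the
closed fibre smooth, that is formally smooth and essentially of finite type; this row asks the
closed fibre to be formally smooth over k in the sense of lifting along all square-zero surjections
of commutative k-algebras, with no finiteness condition.) -/
theorem result
    {k : Type u} [Field k] [IsAlgClosed k]
    {A : Type u} [CommRing A] [Algebra k A] [IsLocalRing A] [IsArtinianRing A]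
    (hres : ∀ a : A, ∃ c : k, a - algebraMap k A c ∈ IsLocalRing.maximalIdeal A)
    (t : A) (ht : t ∈ IsLocalRing.maximalIdeal A)
    (htm : ∀ a ∈ IsLocalRing.maximalIdeal A, a * t = 0)
    {B : Type u} [CommRing B] [Algebra A B] [Module.Flat A B] [Algebra k B] [IsScalarTower k A B]
    (hsm : Algebra.FormallySmooth k (B ⧸ (IsLocalRing.maximalIdeal A).map (algebraMap A B)))
    (σ : (B ⧸ Ideal.span {algebraMap A B t}) ≃ₐ[A] (B ⧸ Ideal.span {algebraMap A B t})) :
    ∃ τ : B ≃ₐ[A] B, ∀ b : B,
      Ideal.Quotient.mk (Ideal.span {algebraMap A B t}) (τ b) =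
        σ (Ideal.Quotient.mk (Ideal.span {algebraMap A B t}) b) := by
  classical
  let m := IsLocalRing.maximalIdeal A
  have hbij : Function.Bijective ((Ideal.Quotient.mk m).comp (algebraMap k A)) := by
    refine ⟨RingHom.injective _, fun x => ?_⟩
    obtain ⟨a, rfl⟩ := Ideal.Quotient.mk_surjective x
    obtain ⟨c, hc⟩ := hres a
    exact ⟨c, ((Ideal.Quotient.mk_eq_mk_iff_sub_mem _ _).2 hc).symm⟩
  let e := RingEquiv.ofBijective _ hbij
  let π : A →+* k := e.symm.toRingHom.comp (Ideal.Quotient.mk m)
  have hkerπ : RingHom.ker π = m := by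
    ext a
    simp [π, RingHom.mem_ker, Ideal.Quotient.eq_zero_iff_mem]
  have hπ : ∀ a, a - algebraMap k A (π a) ∈ m := fun a =>
    (Ideal.Quotient.mk_eq_mk_iff_sub_mem _ _).1 (e.apply_symm_apply (Ideal.Quotient.mk m a)).symm
  let I := m.map (algebraMap A B)
  haveI : Algebra.FormallySmooth A B := by
    refine CAlgH.formallySmooth_of_flat_of_nilpotent π (fun c => ⟨algebraMap k A c, ?_⟩) ?_
      (Ideal.Quotient.mk I) Ideal.Quotient.mk_surjective ?_ ?_
    · exact e.symm_apply_apply c
    · rw [hkerπ]; obtain ⟨n, hn⟩ := IsArtinianRing.isNilpotent_jacobson_bot (R := A)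
      exact ⟨n, le_bot_iff.1 ((pow_le_pow_left' (IsLocalRing.maximalIdeal_le_jacobson (R := A) ⊥) n).trans hn.le)⟩
    · ext a
      show Ideal.Quotient.mk I (algebraMap A B a) = Ideal.Quotient.mk I (algebraMap k B (π a))
      rw [Ideal.Quotient.mk_eq_mk_iff_sub_mem, IsScalarTower.algebraMap_apply k A B, ← map_sub]
      exact Ideal.mem_map_of_mem _ (hπ a)
    · rw [hkerπ, Ideal.mk_ker]
  let T := Ideal.span {algebraMap A B t}
  have ht2 : t * t = 0 := htm t ht
  have hT : IsNilpotent T := ⟨2, by
    rw [pow_two, Ideal.span_singleton_mul_span_singleton, ← map_mul, ht2, map_zero]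
    simp⟩
  obtain ⟨f, hf⟩ := Algebra.FormallySmooth.exists_lift T hT
    ((σ : (B ⧸ T) →ₐ[A] (B ⧸ T)).comp (Ideal.Quotient.mkₐ A T))
  obtain ⟨g, hg⟩ := Algebra.FormallySmooth.exists_lift T hT
    ((σ.symm : (B ⧸ T) →ₐ[A] (B ⧸ T)).comp (Ideal.Quotient.mkₐ A T))
  have hf' : ∀ b, Ideal.Quotient.mk T (f b) = σ (Ideal.Quotient.mk T b) := fun b => DFunLike.congr_fun hf b
  have hg' : ∀ b, Ideal.Quotient.mk T (g b) = σ.symm (Ideal.Quotient.mk T b) := fun b => DFunLike.congr_fun hg b
  have h1 : Function.Bijective (g.comp f) := DeformSqZero.bijective_of_sub_mem_span t ht2 _ fun b => by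
    rw [← Ideal.Quotient.mk_eq_mk_iff_sub_mem]
    show Ideal.Quotient.mk T (g (f b)) = Ideal.Quotient.mk T b
    rw [hg', hf', AlgEquiv.symm_apply_apply]
  have h2 : Function.Bijective (f.comp g) := DeformSqZero.bijective_of_sub_mem_span t ht2 _ fun b => by
    rw [← Ideal.Quotient.mk_eq_mk_iff_sub_mem]
    show Ideal.Quotient.mk T (f (g b)) = Ideal.Quotient.mk T b
    rw [hf', hg', AlgEquiv.apply_symm_apply]
  exact ⟨AlgEquiv.ofBijective f ⟨Function.Injective.of_comp (f := g) h1.1,
    Function.Surjective.of_comp (g := g) h2.2⟩, hf'⟩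

end Groth.Agent.S11280
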