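import Groth.Statements.S11281
import Mathlib
import Groth.Agent.Exal29.Truncation
import Groth.Agent.Exal29.Noetherian

set_option autoImplicit false
universe u
open Deform

namespace Groth.Agent.S11281

/-- Let k be an algebraically closed field, Λ a local Noetherian k-algebra with residue field k, and R a
local Noetherian Λ-algebra, with local structure map and residue field k. The following are
equivalent: (a) every Λ-extension of R by its residue field k is trivial, i.e. the relative
obstruction space o(R/Λ) = Ex_Λ(R, k) vanishes; (b) for every local Artinian Λ-algebra B with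
residue field k and every t in the maximal ideal of B annihilated by the maximal ideal, every
Λ-algebra map R → B/tB lifts to a Λ-algebra map R → B (formal smoothness of R over Λ tested on small
extensions of Artinian rings). The test algebras B range over the universe of R. -/
theorem result
    {k : Type u} [Field k] [IsAlgClosed k]
    {Λ : Type u} [CommRing Λ] [Algebra k Λ] [IsLocalRing Λ] [IsNoetherianRing Λ]
    (hΛ : ∀ a : Λ, ∃ c : k, a - algebraMap k Λ c ∈ IsLocalRing.maximalIdeal Λ)
    {R : Type u} [CommRing R] [Algebra Λ R] [IsLocalRing R] [IsNoetherianRing R]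
    [IsLocalHom (algebraMap Λ R)]
    (hR : ∀ r : R, ∃ c : k, r - algebraMap Λ R (algebraMap k Λ c) ∈ IsLocalRing.maximalIdeal R) :
    (∀ X : Exal.Ext Λ R (IsLocalRing.ResidueField R), X.IsTrivial) ↔
    (∀ (B : Type u) [CommRing B] [Algebra Λ B] [IsLocalRing B] [IsArtinianRing B],
      (∀ b : B, ∃ c : k, b - algebraMap Λ B (algebraMap k Λ c) ∈ IsLocalRing.maximalIdeal B) →
      ∀ t : B, t ∈ IsLocalRing.maximalIdeal B → (∀ b ∈ IsLocalRing.maximalIdeal B, b * t = 0) →
      ∀ φ : R →ₐ[Λ] B ⧸ Ideal.span {t},
        ∃ φ' : R →ₐ[Λ] B, (Ideal.Quotient.mkₐ Λ (Ideal.span {t})).comp φ' = φ) := by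
  classical
  let κ := IsLocalRing.ResidueField R
  let m := IsLocalRing.maximalIdeal R
  let cR : k →+* R := (algebraMap Λ R).comp (algebraMap k Λ)
  have hbij : Function.Bijective ((IsLocalRing.residue R).comp cR) := by
    refine ⟨RingHom.injective _, fun x => ?_⟩
    obtain ⟨r, rfl⟩ := IsLocalRing.residue_surjective x
    obtain ⟨c, hc⟩ := hR r
    refine ⟨c, ?_⟩
    rw [RingHom.comp_apply, eq_comm, ← sub_eq_zero, ← map_sub, IsLocalRing.residue_eq_zero_iff]
    exact hc
  let e := RingEquiv.ofBijective _ hbij
  have hkill : ∀ r ∈ m, ∀ z : κ, r • z = 0 := fun r hr z => by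
    rw [Algebra.smul_def, IsLocalRing.ResidueField.algebraMap_eq, (IsLocalRing.residue_eq_zero_iff r).2 hr, zero_mul]
  have : IsSimpleModule R κ := by
    have : IsSimpleModule R (R ⧸ m) := isSimpleModule_iff_isCoatom.2 (IsLocalRing.maximalIdeal.isMaximal R).out
    exact this
  constructor
  · intro htriv B _ _ _ _ hB t ht htB φ
    rcases eq_or_ne t 0 with rfl | ht0
    · have hb : Function.Bijective (Ideal.Quotient.mkₐ Λ (Ideal.span {(0 : B)})) := by
        refine ⟨fun x y hxy => ?_, Ideal.Quotient.mk_surjective⟩
        have h : x - y ∈ Ideal.span {(0 : B)} := Ideal.Quotient.eq.1 hxy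
        rw [Ideal.span_singleton_eq_bot.2 rfl, Ideal.mem_bot] at h
        exact sub_eq_zero.1 h
      let q := AlgEquiv.ofBijective _ hb
      exact ⟨q.symm.toAlgHom.comp φ, AlgHom.ext fun r => q.apply_symm_apply (φ r)⟩
    · let mB := IsLocalRing.maximalIdeal B
      let cB : k →+* B := (algebraMap Λ B).comp (algebraMap k Λ)
      have hspan : Ideal.span {t} ≤ mB := (Ideal.span_singleton_le_iff_mem _).2 ht
      haveI : Nontrivial (B ⧸ Ideal.span {t}) := Ideal.Quotient.nontrivial_iff.2 fun h =>
        (IsLocalRing.maximalIdeal.isMaximal B).ne_top (top_le_iff.1 (h ▸ hspan))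
      haveI : IsLocalHom (Ideal.Quotient.mk (Ideal.span {t})) := IsLocalHom.of_surjective _ Ideal.Quotient.mk_surjective
      have hcφ : ∀ c, φ (cR c) = Ideal.Quotient.mk _ (cB c) := fun c => φ.commutes (algebraMap k Λ c)
      have hφ : ∀ r ∈ m, ∀ b, Ideal.Quotient.mk _ b = φ r → b ∈ mB := by
        intro r hr b hb
        obtain ⟨c, hc⟩ := hB b
        by_cases h0 : c = 0
        · rw [h0, map_zero, map_zero, sub_zero] at hc
          exact hc
        · exfalso
          have hu : IsUnit (r - cR c) := by
            refine IsLocalRing.notMem_maximalIdeal.1 fun h => ?_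
            have h' := sub_mem hr h
            rw [sub_sub_cancel] at h'
            exact h' ((isUnit_iff_ne_zero.2 h0).map cR)
          have hu' := hu.map φ
          rw [map_sub, hcφ, ← hb, ← map_sub] at hu'
          exact hc (isUnit_of_map_unit (Ideal.Quotient.mk (Ideal.span {t})) _ hu')
      let S : Subalgebra Λ (B × R) := AlgHom.equalizer ((Ideal.Quotient.mkₐ Λ (Ideal.span {t})).comp (AlgHom.fst Λ B R))
        (φ.comp (AlgHom.snd Λ B R))
      have hS : ∀ x : S, Ideal.Quotient.mk (Ideal.span {t}) x.1.1 = φ x.1.2 := fun x => x.2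
      have hmem : ∀ c : k, ((cB c * t, 0) : B × R) ∈ S := fun c => by
        show Ideal.Quotient.mk (Ideal.span {t}) (cB c * t) = φ 0
        rw [map_zero, Ideal.Quotient.eq_zero_iff_mem]
        exact Ideal.mul_mem_left _ _ (Ideal.mem_span_singleton_self t)
      let ι : κ →+ S :=
        { toFun := fun z => ⟨(cB (e.symm z) * t, 0), hmem _⟩
          map_zero' := Subtype.ext (by simp)
          map_add' := fun x y => Subtype.ext (by simp [add_mul]) }
      let X : Exal.Ext Λ R κ :=
        { E := S
          proj := (AlgHom.snd Λ B R).comp S.val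
          incl := ι
          isExtension :=
            { proj_surjective := fun r => by
                obtain ⟨b, hb⟩ := Ideal.Quotient.mk_surjective (φ r)
                exact ⟨⟨(b, r), hb⟩, rfl⟩
              incl_injective := (injective_iff_map_eq_zero _).2 fun z hz => by
                have h1 : cB (e.symm z) * t = 0 := congrArg (fun x : S => x.1.1) hz
                by_contra hz0
                have hne : e.symm z ≠ 0 := fun h => hz0 ((map_eq_zero_iff _ e.symm.injective).1 h)
                exact ht0 (((isUnit_iff_ne_zero.2 hne).map cB).mul_right_eq_zero.1 h1)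
              exact := fun x => by
                constructor
                · intro hx
                  have hx0 : x.1.2 = 0 := hx
                  have h := hS x
                  rw [hx0, map_zero, Ideal.Quotient.eq_zero_iff_mem, Ideal.mem_span_singleton'] at h
                  obtain ⟨b, hb⟩ := h
                  obtain ⟨c, hc⟩ := hB b
                  refine ⟨e c, Subtype.ext (Prod.ext ?_ hx0.symm)⟩
                  show cB (e.symm (e c)) * t = x.1.1
                  rw [e.symm_apply_apply, ← hb, eq_comm, ← sub_eq_zero, ← sub_mul]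
                  exact htB _ hc
                · rintro ⟨z, rfl⟩
                  rfl
              mul_incl := fun x z => Subtype.ext (by
                obtain ⟨c, hc⟩ := hR x.1.2
                have hz : x.1.2 • z = e c * z := by
                  rw [Algebra.smul_def, IsLocalRing.ResidueField.algebraMap_eq]
                  congr 1
                  show IsLocalRing.residue R x.1.2 = IsLocalRing.residue R (cR c)
                  rw [← sub_eq_zero, ← map_sub, IsLocalRing.residue_eq_zero_iff]
                  exact hc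
                have hb : x.1.1 - cB c ∈ mB := hφ _ hc _ (by rw [map_sub, map_sub, hS, ← hcφ]; rfl)
                refine Prod.ext ?_ (mul_zero _)
                show x.1.1 * (cB (e.symm z) * t) = cB (e.symm (x.1.2 • z)) * t
                rw [hz, map_mul e.symm, e.symm_apply_apply, map_mul cB, ← sub_eq_zero,
                  show x.1.1 * (cB (e.symm z) * t) - cB c * cB (e.symm z) * t = cB (e.symm z) * ((x.1.1 - cB c) * t) by ring,
                  htB _ hb, mul_zero]) } }
      obtain ⟨s, hs⟩ := htriv X
      refine ⟨((AlgHom.fst Λ B R).comp S.val).comp (show R →ₐ[Λ] S from s), AlgHom.ext fun r => ?_⟩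
      show Ideal.Quotient.mk (Ideal.span {t}) (show S from s r).1.1 = φ r
      rw [hS]
      exact congrArg φ (hs r)
  · intro hlift X
    obtain ⟨n, hn⟩ := Groth.Agent.Exal29.exists_uniform (A := Λ) m hkill
    let M : Ideal X.E := Groth.Agent.Exal29.big X m
    let I : Ideal X.E := M ^ (n + 1)
    let B := X.E ⧸ I
    haveI : IsNoetherianRing X.E := Groth.Agent.Exal29.isNoetherianRing_ext X
    haveI : M.IsMaximal := Ideal.comap_isMaximal_of_surjective X.proj X.isExtension.proj_surjective
    have hIM : I ≤ M := Ideal.pow_le_self (Nat.succ_ne_zero n)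
    let mB : Ideal B := M.map (Ideal.Quotient.mk I)
    haveI hmax : mB.IsMaximal :=
      Ideal.IsMaximal.map_of_surjective_of_ker_le Ideal.Quotient.mk_surjective (by rw [Ideal.mk_ker]; exact hIM)
    have hpow : mB ^ (n + 1) = ⊥ := by rw [← Ideal.map_pow]; exact Ideal.map_quotient_self I
    haveI : IsLocalRing B := .of_unique_max_ideal ⟨mB, hmax, fun J hJ => (hmax.eq_of_le hJ.ne_top (by
      exact (hJ.isPrime.pow_le_iff (Nat.succ_ne_zero n)).1 (hpow.le.trans bot_le))).symm⟩
    have hmB : IsLocalRing.maximalIdeal B = mB := (IsLocalRing.eq_maximalIdeal hmax).symm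
    haveI : IsArtinianRing B := isArtinianRing_iff_isNilpotent_maximalIdeal _ |>.2 ⟨n + 1, by rw [hmB, hpow]; rfl⟩
    have hB : ∀ b : B, ∃ c : k, b - algebraMap Λ B (algebraMap k Λ c) ∈ IsLocalRing.maximalIdeal B := by
      intro b
      obtain ⟨x, rfl⟩ := Ideal.Quotient.mk_surjective b
      obtain ⟨c, hc⟩ := hR (X.proj x)
      refine ⟨c, ?_⟩
      rw [hmB, show Ideal.Quotient.mk I x - algebraMap Λ B (algebraMap k Λ c) =
        Ideal.Quotient.mk I (x - algebraMap Λ X.E (algebraMap k Λ c)) by rw [map_sub]; rfl]
      refine Ideal.mem_map_of_mem _ ?_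
      show X.proj _ ∈ m
      rw [map_sub, AlgHom.commutes]
      exact hc
    let t : B := Ideal.Quotient.mk I (X.incl 1)
    have htm : t ∈ IsLocalRing.maximalIdeal B := hmB ▸ Ideal.mem_map_of_mem _ (by
      show X.proj (X.incl 1) ∈ m
      rw [Groth.Agent.Exal29.proj_incl]; exact zero_mem _)
    have htB : ∀ b ∈ IsLocalRing.maximalIdeal B, b * t = 0 := by
      intro b hb
      rw [hmB] at hb
      obtain ⟨x, hx, rfl⟩ := (Ideal.mem_map_iff_of_surjective _ Ideal.Quotient.mk_surjective).1 hb
      rw [← map_mul, X.isExtension.mul_incl, hkill _ hx, map_zero, map_zero]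
    let T : Ideal B := Ideal.span {t}
    have hinclT : ∀ z, Ideal.Quotient.mk I (X.incl z) ∈ T := fun z => by
      obtain ⟨x, hx⟩ := X.isExtension.proj_surjective (cR (e.symm z))
      refine Ideal.mem_span_singleton'.2 ⟨Ideal.Quotient.mk I x, ?_⟩
      rw [← map_mul, X.isExtension.mul_incl, hx, Algebra.smul_def, mul_one, IsLocalRing.ResidueField.algebraMap_eq,
        show IsLocalRing.residue R (cR (e.symm z)) = z from e.apply_symm_apply z]
    let ψ : X.E →ₐ[Λ] B ⧸ T := (Ideal.Quotient.mkₐ Λ T).comp (Ideal.Quotient.mkₐ Λ I)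
    let qe := Ideal.quotientKerAlgEquivOfSurjective (f := X.proj) X.isExtension.proj_surjective
    let φ₀ := Ideal.Quotient.liftₐ (RingHom.ker X.proj) ψ fun x hx => by
      obtain ⟨z, rfl⟩ := (X.isExtension.exact x).1 hx
      exact Ideal.Quotient.eq_zero_iff_mem.2 (hinclT z)
    let φ : R →ₐ[Λ] B ⧸ T := φ₀.comp qe.symm.toAlgHom
    have hφ : ∀ x, φ (X.proj x) = ψ x := fun x => by
      show φ₀ (qe.symm (X.proj x)) = ψ x
      rw [show qe.symm (X.proj x) = Ideal.Quotient.mk _ x from qe.symm_apply_eq.2 rfl]
      rfl
    obtain ⟨φ', hφ'⟩ := hlift B hB t htm htB φ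
    have hsep : ∀ x y, X.proj x = X.proj y → Ideal.Quotient.mk I x = Ideal.Quotient.mk I y → x = y :=
      fun x y h1 h2 => sub_eq_zero.1 (hn X n le_rfl _ (Ideal.Quotient.eq.1 h2) (by rw [map_sub, h1, sub_self]))
    have hex : ∀ r, ∃ x, X.proj x = r ∧ Ideal.Quotient.mk I x = φ' r := by
      intro r
      obtain ⟨x, rfl⟩ := X.isExtension.proj_surjective r
      have h : φ' (X.proj x) - Ideal.Quotient.mk I x ∈ T := by
        refine Ideal.Quotient.eq.1 ?_
        exact (AlgHom.congr_fun hφ' (X.proj x)).trans (hφ x)
      obtain ⟨b, hb⟩ := Ideal.mem_span_singleton'.1 h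
      obtain ⟨y, rfl⟩ := Ideal.Quotient.mk_surjective b
      refine ⟨x + y * X.incl 1, ?_, ?_⟩
      · rw [map_add, map_mul, Groth.Agent.Exal29.proj_incl, mul_zero, add_zero]
      · rw [map_add, map_mul, hb, add_sub_cancel]
    choose s hs1 hs2 using hex
    refine ⟨{ toFun := s
              map_one' := hsep _ _ (by rw [hs1, map_one]) (by rw [hs2, map_one, map_one])
              map_mul' := fun a b => hsep _ _ (by rw [hs1, map_mul, hs1, hs1]) (by rw [hs2, map_mul, map_mul, hs2, hs2])
              map_zero' := hsep _ _ (by rw [hs1, map_zero]) (by rw [hs2, map_zero, map_zero])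
              map_add' := fun a b => hsep _ _ (by rw [hs1, map_add, hs1, hs1]) (by rw [hs2, map_add, map_add, hs2, hs2])
              commutes' := fun c => hsep _ _ (by rw [hs1, AlgHom.commutes]) (by rw [hs2, AlgHom.commutes]; rfl) },
      hs1⟩

end Groth.Agent.S11281
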