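import Groth.Statements.S11283
import Mathlib
import Groth.Agent.Exal29.PullbackInj
import Groth.Agent.FSchLib.Completion
import Groth.Agent.Matlis6.CompletionNoetherian

set_option autoImplicit false
universe u
open Deform

namespace Groth.Agent.S11283

/-- Let k be an algebraically closed field, Λ a complete local Noetherian k-algebra with residue field
k, R a local Noetherian Λ-algebra with local structure map and residue field k, and R̂ the
completion of R at its maximal ideal. Let L be a simple R-module (a one-dimensional k-vector space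
on which R acts through its residue field) carrying a compatible R̂-module structure. Then inverse
image of Λ-extensions along R → R̂ induces a bijection o(R̂/Λ) → o(R/Λ) on classes of Λ-extensions
by L: two Λ-extensions of R̂ by L whose inverse images over R are equivalent are equivalent, and
every Λ-extension of R by L is equivalent to the inverse image of one of R̂. -/
theorem result
    {k : Type u} [Field k] [IsAlgClosed k]
    {Λ : Type u} [CommRing Λ] [Algebra k Λ] [IsLocalRing Λ] [IsNoetherianRing Λ]
    [IsAdicComplete (IsLocalRing.maximalIdeal Λ) Λ]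
    (hΛ : ∀ a : Λ, ∃ c : k, a - algebraMap k Λ c ∈ IsLocalRing.maximalIdeal Λ)
    {R : Type u} [CommRing R] [Algebra Λ R] [IsLocalRing R] [IsNoetherianRing R]
    [IsLocalHom (algebraMap Λ R)]
    (hR : ∀ r : R, ∃ c : k, r - algebraMap Λ R (algebraMap k Λ c) ∈ IsLocalRing.maximalIdeal R)
    (L : Type u) [AddCommGroup L] [Module (AdicCompletion (IsLocalRing.maximalIdeal R) R) L] [Module R L]
    [IsScalarTower R (AdicCompletion (IsLocalRing.maximalIdeal R) R) L] [IsSimpleModule R L] :
    (∀ X X' : Exal.Ext Λ (AdicCompletion (IsLocalRing.maximalIdeal R) R) L,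
        Nonempty ((X.pullback R).Equiv (X'.pullback R)) → Nonempty (X.Equiv X')) ∧
    (∀ Y : Exal.Ext Λ R L, ∃ X : Exal.Ext Λ (AdicCompletion (IsLocalRing.maximalIdeal R) R) L,
        Nonempty ((X.pullback R).Equiv Y)) := by
  classical
  let m := IsLocalRing.maximalIdeal R
  let Rh := AdicCompletion m R
  let mh : Ideal Rh := m.map (algebraMap R Rh)
  have hfg : m.FG := IsNoetherian.noetherian m
  haveI : IsNoetherianRing Rh := Groth.Agent.Matlis6.isNoetherianRing_adicCompletion _
  have hann : ∀ r ∈ m, ∀ z : L, r • z = 0 := fun r hr z =>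
    Module.mem_annihilator.1 ((IsLocalRing.eq_maximalIdeal (IsSimpleModule.annihilator_isMaximal (R := R) (M := L))).symm ▸ hr) z
  have hannh : ∀ x ∈ mh, ∀ z : L, x • z = 0 := fun x hx => by
    induction hx using Submodule.span_induction with
    | mem x hx => obtain ⟨r, hr, rfl⟩ := hx; intro z; rw [algebraMap_smul]; exact hann r hr z
    | zero => simp
    | add x y _ _ hx hy => intro z; rw [add_smul, hx, hy, add_zero]
    | smul c x _ hx => intro z; rw [smul_eq_mul, mul_smul, hx, smul_zero]
  have hker : ∀ j (x : Rh), AdicCompletion.evalₐ m j x = 0 ↔ x ∈ mh ^ j := fun j x => by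
    rw [← Groth.Agent.FSchLib.ker_evalₐ m hfg j]
    rfl
  have hev : ∀ j (r : R), AdicCompletion.evalₐ m j (algebraMap R Rh r) = Ideal.Quotient.mk _ r :=
    fun j r => Groth.Agent.FSchLib.evalₐ_algebraMap m j r
  have hsurj : ∀ j (x : Rh), ∃ r, x - algebraMap R Rh r ∈ mh ^ j := fun j x => by
    obtain ⟨r, hr⟩ := Ideal.Quotient.mk_surjective (AdicCompletion.evalₐ m j x)
    exact ⟨r, (hker j _).1 (by rw [map_sub, hev, hr, sub_self])⟩
  constructor
  · intro X X' ⟨φ⟩
    obtain ⟨n, hn⟩ := Groth.Agent.Exal29.exists_uniform (A := Λ) mh hannh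
    refine Groth.Agent.Exal29.nonempty_equiv_of_pullback m n (hsurj (n + 1)) (fun r hr => ?_)
      (fun Z => hn Z n le_rfl) X X' φ
    rw [← Ideal.Quotient.eq_zero_iff_mem, ← hev, hker]
    exact hr
  · intro Y
    obtain ⟨n, hn⟩ := Groth.Agent.Exal29.exists_uniform (A := Λ) m hann
    let I : Ideal Y.E := (Groth.Agent.Exal29.big Y m) ^ (n + 1)
    let Q := R ⧸ m ^ (n + 1)
    let ρ : (Y.E ⧸ I) →ₐ[Λ] Q := Ideal.Quotient.liftₐ I ((Ideal.Quotient.mkₐ Λ (m ^ (n + 1))).comp Y.proj) fun y hy =>
      Ideal.Quotient.eq_zero_iff_mem.2 (by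
        rw [← Groth.Agent.Exal29.map_big_pow Y m (n + 1)]; exact Ideal.mem_map_of_mem _ hy)
    let ev : Rh →ₐ[Λ] Q := (AdicCompletion.evalₐ m (n + 1)).restrictScalars Λ
    let S : Subalgebra Λ ((Y.E ⧸ I) × Rh) :=
      AlgHom.equalizer (ρ.comp (AlgHom.fst Λ (Y.E ⧸ I) Rh)) (ev.comp (AlgHom.snd Λ (Y.E ⧸ I) Rh))
    have hS : ∀ x : S, ρ x.1.1 = ev x.1.2 := fun x => x.2
    have hρ : ∀ y, ρ (Ideal.Quotient.mk I y) = Ideal.Quotient.mk _ (Y.proj y) := fun y => rfl
    have hmem : ∀ y : Y.E, ((Ideal.Quotient.mk I y, algebraMap R Rh (Y.proj y)) : (Y.E ⧸ I) × Rh) ∈ S := fun y => by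
      show ρ (Ideal.Quotient.mk I y) = AdicCompletion.evalₐ m (n + 1) (algebraMap R Rh (Y.proj y))
      rw [hρ, hev]
    have hinj : ∀ z : L, Ideal.Quotient.mk I (Y.incl z) = 0 → z = 0 := fun z hz =>
      Y.isExtension.incl_injective ((hn Y n le_rfl _ (Ideal.Quotient.eq_zero_iff_mem.1 hz)
        (Groth.Agent.Exal29.proj_incl Y z)).trans (map_zero Y.incl).symm)
    let ι : L →+ S :=
      { toFun := fun z => ⟨(Ideal.Quotient.mk I (Y.incl z), 0), by
          have := hmem (Y.incl z)
          rwa [Groth.Agent.Exal29.proj_incl, map_zero] at this⟩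
        map_zero' := Subtype.ext (by simp)
        map_add' := fun a b => Subtype.ext (by simp) }
    let X : Exal.Ext Λ Rh L :=
      { E := S
        proj := (AlgHom.snd Λ (Y.E ⧸ I) Rh).comp S.val
        incl := ι
        isExtension :=
          { proj_surjective := fun s => by
              obtain ⟨r, hr⟩ := Ideal.Quotient.mk_surjective (ev s)
              obtain ⟨y, hy⟩ := Y.isExtension.proj_surjective r
              exact ⟨⟨(Ideal.Quotient.mk I y, s), by show ρ (Ideal.Quotient.mk I y) = ev s; rw [hρ, hy, hr]⟩, rfl⟩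
            incl_injective := (injective_iff_map_eq_zero _).2 fun z hz => hinj z (congrArg (fun x : S => x.1.1) hz)
            exact := fun x => by
              constructor
              · intro hx
                have hx0 : x.1.2 = 0 := hx
                obtain ⟨y, hy⟩ := Ideal.Quotient.mk_surjective x.1.1
                have h := hS x
                rw [hx0, map_zero, ← hy, hρ, Ideal.Quotient.eq_zero_iff_mem,
                  ← Groth.Agent.Exal29.map_big_pow Y m (n + 1)] at h
                obtain ⟨i, hi, hiy⟩ := (Ideal.mem_map_iff_of_surjective Y.proj Y.isExtension.proj_surjective).1 h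
                obtain ⟨z, hz⟩ := (Y.isExtension.exact (y - i)).1 (by rw [map_sub, hiy, sub_self])
                refine ⟨z, Subtype.ext (Prod.ext ?_ hx0.symm)⟩
                show Ideal.Quotient.mk I (Y.incl z) = x.1.1
                rw [← hy, hz, map_sub, Ideal.Quotient.eq_zero_iff_mem.2 hi, sub_zero]
              · rintro ⟨z, rfl⟩
                rfl
            mul_incl := fun x z => Subtype.ext (by
              obtain ⟨y, hy⟩ := Ideal.Quotient.mk_surjective x.1.1
              refine Prod.ext ?_ (mul_zero _)
              show x.1.1 * Ideal.Quotient.mk I (Y.incl z) = Ideal.Quotient.mk I (Y.incl (x.1.2 • z))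
              rw [← hy, ← map_mul, Y.isExtension.mul_incl]
              congr 2
              have h : x.1.2 - algebraMap R Rh (Y.proj y) ∈ mh ^ (n + 1) := (hker _ _).1 (by
                rw [map_sub, hev, show AdicCompletion.evalₐ m (n + 1) x.1.2 = ρ x.1.1 from (hS x).symm, ← hy, hρ, sub_self])
              have h0 := hannh _ (Ideal.pow_le_self (Nat.succ_ne_zero n) h) z
              rw [sub_smul, algebraMap_smul, sub_eq_zero] at h0
              exact h0.symm) } }
    let g : Y.E →ₐ[Λ] (X.pullback R).E :=
      { toFun := fun y => ⟨((⟨(Ideal.Quotient.mk I y, algebraMap R Rh (Y.proj y)), hmem y⟩ : S), Y.proj y), rfl⟩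
        map_one' := by
          refine Subtype.ext (Prod.ext (Subtype.ext (Prod.ext (map_one _) ?_)) (map_one _))
          show algebraMap R Rh (Y.proj 1) = 1
          rw [map_one, map_one]
        map_mul' := fun a b => by
          refine Subtype.ext (Prod.ext (Subtype.ext (Prod.ext (map_mul _ _ _) ?_)) (map_mul _ _ _))
          show algebraMap R Rh (Y.proj (a * b)) = algebraMap R Rh (Y.proj a) * algebraMap R Rh (Y.proj b)
          rw [map_mul, map_mul]
        map_zero' := by
          refine Subtype.ext (Prod.ext (Subtype.ext (Prod.ext (map_zero _) ?_)) (map_zero _))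
          show algebraMap R Rh (Y.proj 0) = 0
          rw [map_zero, map_zero]
        map_add' := fun a b => by
          refine Subtype.ext (Prod.ext (Subtype.ext (Prod.ext (map_add _ _ _) ?_)) (map_add _ _ _))
          show algebraMap R Rh (Y.proj (a + b)) = algebraMap R Rh (Y.proj a) + algebraMap R Rh (Y.proj b)
          rw [map_add, map_add]
        commutes' := fun c => by
          refine Subtype.ext (Prod.ext (Subtype.ext (Prod.ext rfl ?_)) (Y.proj.commutes c))
          show algebraMap R Rh (Y.proj (algebraMap Λ Y.E c)) = algebraMap Λ Rh c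
          rw [AlgHom.commutes, ← IsScalarTower.algebraMap_apply] }
    have hg : Function.Bijective g := by
      refine ⟨(injective_iff_map_eq_zero _).2 fun y hy => ?_, fun p => ?_⟩
      · have h1 : Ideal.Quotient.mk I y = 0 := congrArg (fun q : (X.pullback R).E => (q.1.1 : S).1.1) hy
        have h2 : Y.proj y = 0 := congrArg (fun q : (X.pullback R).E => q.1.2) hy
        exact hn Y n le_rfl y (Ideal.Quotient.eq_zero_iff_mem.1 h1) h2
      · obtain ⟨⟨x, r⟩, hp⟩ := p
        let x' : S := x
        have hxr : x'.1.2 = algebraMap R Rh r := hp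
        obtain ⟨y, hy⟩ := Ideal.Quotient.mk_surjective x'.1.1
        have h := hS x'
        rw [hxr, ← hy, hρ, show ev (algebraMap R Rh r) = Ideal.Quotient.mk _ r from hev _ r, Ideal.Quotient.eq,
          ← Groth.Agent.Exal29.map_big_pow Y m (n + 1)] at h
        obtain ⟨i, hi, hiy⟩ := (Ideal.mem_map_iff_of_surjective Y.proj Y.isExtension.proj_surjective).1 h
        have hr : Y.proj (y - i) = r := by rw [map_sub, hiy, sub_sub_cancel]
        refine ⟨y - i, Subtype.ext (Prod.ext (Subtype.ext (Prod.ext ?_ ?_)) hr)⟩
        · show Ideal.Quotient.mk I (y - i) = x'.1.1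
          rw [map_sub, Ideal.Quotient.eq_zero_iff_mem.2 hi, sub_zero, hy]
        · show algebraMap R Rh (Y.proj (y - i)) = x'.1.2
          rw [hr, hxr]
    let e : Exal.Ext.Equiv Y (X.pullback R) :=
      { toAlgEquiv := AlgEquiv.ofBijective g hg
        proj_apply := fun y => rfl
        apply_incl := fun z => by
          refine Subtype.ext (Prod.ext (Subtype.ext (Prod.ext rfl ?_)) ?_)
          · show algebraMap R Rh (Y.proj (Y.incl z)) = 0
            rw [Groth.Agent.Exal29.proj_incl, map_zero]
          · show Y.proj (Y.incl z) = 0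
            exact Groth.Agent.Exal29.proj_incl Y z }
    exact ⟨X, ⟨e.symm⟩⟩

end Groth.Agent.S11283
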