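import Groth.Statements.S11285
import Mathlib
import Groth.Agent.Exal29.ConormalInjective

set_option autoImplicit false
universe u
open Deform

namespace Groth.Agent.S11285

/-- Let k be an algebraically closed field and A → B a map of finitely generated k-algebras with B
reduced and smooth over A at every minimal prime of B (the morphism Spec B → Spec A is smooth on a
dense open subset). Let M be a finitely generated projective B-module and 0 → M → N → Ω_{B/A} → 0 an
exact sequence of B-modules (i injective, q surjective, image of i = kernel of q). Then there is an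
A-algebra extension E → B with square-zero kernel, together with a B-linear identification of its
kernel with M and a B-linear isomorphism of B ⊗_E Ω_{E/A} with N, carrying the conormal map of the
extension to i and q to the canonical map B ⊗_E Ω_{E/A} → Ω_{B/A}. Together with the injectivity
statement for such conormal sequences this is the surjectivity half of the identification of Ex_A(B,
M) with Ext^1_B(Ω_{B/A}, M); affine case of the statement for algebraic schemes. The module N ranges
over the universe of B. -/
theorem result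
    {k : Type u} [Field k] [IsAlgClosed k]
    {A B : Type u} [CommRing A] [CommRing B] [Algebra k A] [Algebra k B] [Algebra A B]
    [IsScalarTower k A B] [Algebra.FiniteType k A] [Algebra.FiniteType k B] [IsReduced B]
    (hsm : ∀ p : PrimeSpectrum B, p.asIdeal ∈ minimalPrimes B → Algebra.IsSmoothAt A p.asIdeal)
    (M N : Type u) [AddCommGroup M] [Module B M] [Module.Finite B M] [Module.Projective B M]
    [AddCommGroup N] [Module B N]
    (i : M →ₗ[B] N) (q : N →ₗ[B] Ω[B⁄A]) (hi : Function.Injective i) (hq : Function.Surjective q)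
    (hex : Function.Exact i q) :
    ∃ P : Algebra.Extension.{u} A B, P.ker ^ 2 = ⊥ ∧
      ∃ (e₁ : P.Cotangent ≃ₗ[B] M) (e₂ : P.CotangentSpace ≃ₗ[B] N),
        (∀ x, e₂ (P.cotangentComplex x) = i (e₁ x)) ∧ (∀ y, q (e₂ y) = P.toKaehler y) := by
  classical
  letI : Module Bᵐᵒᵖ N := Module.compHom N (RingEquiv.toOpposite B).symm.toRingHom
  haveI : IsCentralScalar B N := ⟨fun _ _ => rfl⟩
  let T := TrivSqZeroExt B N
  letI : Algebra A T := ((TrivSqZeroExt.inlHom B N).comp (algebraMap A B) : A →+* T).toAlgebra
  let D := KaehlerDifferential.D A B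
  let S : Subalgebra A T :=
    { carrier := {x | q x.snd = D x.fst}
      mul_mem' := fun {x y} hx hy => by
        show q (x * y).snd = D (x * y).fst
        rw [TrivSqZeroExt.snd_mul, TrivSqZeroExt.fst_mul, op_smul_eq_smul, map_add, map_smul, map_smul, D.leibniz,
          show q x.snd = D x.fst from hx, show q y.snd = D y.fst from hy]
      add_mem' := fun {x y} hx hy => by
        show q (x + y).snd = D (x + y).fst
        rw [TrivSqZeroExt.snd_add, TrivSqZeroExt.fst_add, map_add, map_add, show q x.snd = D x.fst from hx,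
          show q y.snd = D y.fst from hy]
      algebraMap_mem' := fun a => by
        show q (TrivSqZeroExt.inl (algebraMap A B a) : T).snd = D (TrivSqZeroExt.inl (algebraMap A B a) : T).fst
        rw [TrivSqZeroExt.snd_inl, TrivSqZeroExt.fst_inl, map_zero, D.map_algebraMap] }
  let g : S →ₐ[A] B :=
    { toFun := fun x => (x : T).fst
      map_one' := TrivSqZeroExt.fst_one
      map_mul' := fun x y => TrivSqZeroExt.fst_mul (x : T) (y : T)
      map_zero' := TrivSqZeroExt.fst_zero
      map_add' := fun x y => TrivSqZeroExt.fst_add (x : T) (y : T)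
      commutes' := fun a => rfl }
  have hg : Function.Surjective g := fun b => by
    obtain ⟨n, hn⟩ := hq (D b)
    refine ⟨⟨TrivSqZeroExt.inl b + TrivSqZeroExt.inr n, ?_⟩, ?_⟩
    · show q (TrivSqZeroExt.inl b + TrivSqZeroExt.inr n : T).snd = D (TrivSqZeroExt.inl b + TrivSqZeroExt.inr n : T).fst
      rw [TrivSqZeroExt.snd_add, TrivSqZeroExt.fst_add, TrivSqZeroExt.snd_inl, TrivSqZeroExt.snd_inr,
        TrivSqZeroExt.fst_inl, TrivSqZeroExt.fst_inr, zero_add, add_zero, hn]
    · show (TrivSqZeroExt.inl b + TrivSqZeroExt.inr n : T).fst = b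
      rw [TrivSqZeroExt.fst_add, TrivSqZeroExt.fst_inl, TrivSqZeroExt.fst_inr, add_zero]
  let P : Algebra.Extension.{u} A B := Algebra.Extension.ofSurjective g hg
  have hsq : P.ker ^ 2 = ⊥ := by
    rw [pow_two, eq_bot_iff]
    refine Ideal.mul_le.2 fun (x : S) hx (y : S) hy => Ideal.mem_bot.2 (Subtype.ext ?_)
    have hx' : (x : T).fst = 0 := hx
    have hy' : (y : T).fst = 0 := hy
    refine TrivSqZeroExt.ext ?_ ?_
    · show ((x : T) * (y : T)).fst = 0
      rw [TrivSqZeroExt.fst_mul, hx', zero_mul]
    · show ((x : T) * (y : T)).snd = 0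
      rw [TrivSqZeroExt.snd_mul, hx', hy', zero_smul, MulOpposite.op_zero, zero_smul, add_zero]
  let fs : P.Ring → T := fun x => ((show S from x) : T)
  have hmem : ∀ z : M, (TrivSqZeroExt.inr (i z) : T) ∈ S := fun z => by
    show q (TrivSqZeroExt.inr (i z) : T).snd = D (TrivSqZeroExt.inr (i z) : T).fst
    rw [TrivSqZeroExt.snd_inr, TrivSqZeroExt.fst_inr, hex.apply_apply_eq_zero, map_zero]
  let κ : M → P.ker := fun z => ⟨(⟨TrivSqZeroExt.inr (i z), hmem z⟩ : S), TrivSqZeroExt.fst_inr B (i z)⟩
  let Ψ : M →ₗ[B] P.Cotangent :=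
    { toFun := fun z => Algebra.Extension.Cotangent.mk (κ z)
      map_add' := fun y z => by
        rw [← map_add]
        refine congrArg _ (Subtype.ext (Subtype.ext ?_))
        show (TrivSqZeroExt.inr (i (y + z)) : T) = TrivSqZeroExt.inr (i y) + TrivSqZeroExt.inr (i z)
        rw [map_add, TrivSqZeroExt.inr_add]
      map_smul' := fun b z => by
        obtain ⟨e, rfl⟩ := P.algebraMap_surjective b
        show Algebra.Extension.Cotangent.mk (κ (algebraMap P.Ring B e • z)) = algebraMap P.Ring B e • Algebra.Extension.Cotangent.mk (κ z)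
        conv_rhs => rw [algebraMap_smul, ← map_smul]
        refine congrArg _ (Subtype.ext (Subtype.ext ?_))
        show (TrivSqZeroExt.inr (i (g e • z)) : T) = fs e * TrivSqZeroExt.inr (i z)
        refine TrivSqZeroExt.ext ?_ ?_
        · rw [TrivSqZeroExt.fst_mul, TrivSqZeroExt.fst_inr, TrivSqZeroExt.fst_inr, mul_zero]
        · rw [TrivSqZeroExt.snd_mul, TrivSqZeroExt.snd_inr, TrivSqZeroExt.snd_inr, TrivSqZeroExt.fst_inr,
            MulOpposite.op_zero, zero_smul, add_zero, map_smul]
          rfl }
  have hΨ : Function.Bijective Ψ := by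
    refine ⟨(injective_iff_map_eq_zero _).2 fun z hz => hi ?_, fun x => ?_⟩
    · have h := (Algebra.Extension.Cotangent.mk_eq_zero_iff (κ z)).1 hz
      rw [hsq, Ideal.mem_bot] at h
      have h' := congrArg (fun x : S => (x : T).snd) h
      rw [map_zero]
      exact (TrivSqZeroExt.snd_inr B (i z)).symm.trans (h'.trans TrivSqZeroExt.snd_zero)
    · obtain ⟨⟨(e : S), he⟩, rfl⟩ := Algebra.Extension.Cotangent.mk_surjective x
      have he' : (e : T).fst = 0 := he
      obtain ⟨z, hz⟩ := (hex (e : T).snd).1 (by rw [show q (e : T).snd = D (e : T).fst from e.2, he', map_zero])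
      refine ⟨z, congrArg Algebra.Extension.Cotangent.mk (Subtype.ext (Subtype.ext ?_))⟩
      exact TrivSqZeroExt.ext (by rw [he']; exact TrivSqZeroExt.fst_inr _ _) (by rw [← hz]; exact TrivSqZeroExt.snd_inr _ _)
  let e₁ := (LinearEquiv.ofBijective Ψ hΨ).symm
  have : Module.Projective B P.Cotangent := Module.Projective.of_equiv e₁.symm
  have inj := Groth.Agent.Exal29.injective_cotangentComplex hsm P hsq
  letI : Module P.Ring N := Module.compHom N (algebraMap P.Ring B)
  haveI : IsScalarTower P.Ring B N := .of_algebraMap_smul fun _ _ => rfl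
  letI : Module A N := Module.compHom N (algebraMap A B)
  let δ : Derivation A P.Ring N :=
    { toFun := fun x => (fs x).snd
      map_add' := fun x y => TrivSqZeroExt.snd_add (fs x) (fs y)
      map_smul' := fun a x => by
        show ((algebraMap A T a) * fs x).snd = algebraMap A B a • (fs x).snd
        rw [TrivSqZeroExt.snd_mul, show (algebraMap A T a).fst = algebraMap A B a from TrivSqZeroExt.fst_inl N _,
          show (algebraMap A T a).snd = 0 from TrivSqZeroExt.snd_inl N _, smul_zero, add_zero]
      map_one_eq_zero' := (TrivSqZeroExt.snd_one : (1 : T).snd = 0)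
      leibniz' := fun x y => by
        show (fs x * fs y).snd = _
        rw [TrivSqZeroExt.snd_mul, op_smul_eq_smul]
        rfl }
  haveI : IsScalarTower A P.Ring N := .of_algebraMap_smul fun a n => by
    show algebraMap P.Ring B (algebraMap A P.Ring a) • n = algebraMap A B a • n
    rw [← IsScalarTower.algebraMap_apply]
  let L : P.CotangentSpace →ₗ[B] N := LinearMap.liftBaseChange B δ.liftKaehlerDifferential
  have hL : ∀ x : P.Ring, L ((1 : B) ⊗ₜ[P.Ring] KaehlerDifferential.D A P.Ring x) = (fs x).snd := fun x => by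
    show LinearMap.liftBaseChange B δ.liftKaehlerDifferential ((1 : B) ⊗ₜ[P.Ring] KaehlerDifferential.D A P.Ring x) = _
    rw [LinearMap.liftBaseChange_tmul, one_smul, Derivation.liftKaehlerDifferential_comp_D]
    rfl
  have hLK : q ∘ₗ L = P.toKaehler := by
    refine TensorProduct.AlgebraTensorModule.ext fun b ω => ?_
    have hω : ω ∈ Submodule.span P.Ring (Set.range (KaehlerDifferential.D A P.Ring)) := by
      rw [KaehlerDifferential.span_range_derivation]; trivial
    rw [show (b ⊗ₜ ω : P.CotangentSpace) = b • ((1 : B) ⊗ₜ[P.Ring] ω) by rw [TensorProduct.smul_tmul', smul_eq_mul, mul_one],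
      map_smul, map_smul]
    congr 1
    induction hω using Submodule.span_induction with
    | mem w hw =>
      obtain ⟨x, rfl⟩ := hw
      rw [LinearMap.comp_apply, hL, show q (fs x).snd = D (algebraMap P.Ring B x) from (show S from x).2]
      exact ((KaehlerDifferential.mapBaseChange_tmul ..).trans (by rw [one_smul, KaehlerDifferential.map_D])).symm
    | zero => simp
    | add y z _ _ hy hz => rw [TensorProduct.tmul_add, map_add, map_add, hy, hz]
    | smul c z _ hz =>
      rw [show ((1 : B) ⊗ₜ[P.Ring] (c • z) : P.CotangentSpace) = algebraMap P.Ring B c • ((1 : B) ⊗ₜ[P.Ring] z) by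
        rw [algebraMap_smul, TensorProduct.tmul_smul], map_smul, map_smul, hz]
  have hLc : ∀ z, L (P.cotangentComplex (Ψ z)) = i z := fun z => by
    show L (P.cotangentComplex (Algebra.Extension.Cotangent.mk (κ z))) = i z
    rw [Algebra.Extension.cotangentComplex_mk]
    exact (hL _).trans (TrivSqZeroExt.snd_inr _ _)
  have hLbij : Function.Bijective L := by
    refine ⟨(injective_iff_map_eq_zero _).2 fun y hy => ?_, fun n => ?_⟩
    · obtain ⟨c, rfl⟩ := (P.exact_cotangentComplex_toKaehler y).1 (by rw [← hLK, LinearMap.comp_apply, hy, map_zero])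
      obtain ⟨z, rfl⟩ := hΨ.2 c
      rw [hLc] at hy
      rw [hi (hy.trans (map_zero i).symm), map_zero, map_zero]
    · obtain ⟨y, hy⟩ := P.toKaehler_surjective (q n)
      obtain ⟨z, hz⟩ := (hex (n - L y)).1 (by rw [map_sub, ← hy, ← hLK, LinearMap.comp_apply, sub_self])
      exact ⟨y + P.cotangentComplex (Ψ z), by rw [map_add, hLc, hz, add_sub_cancel]⟩
  refine ⟨P, hsq, e₁, LinearEquiv.ofBijective L hLbij, fun x => ?_, fun y => LinearMap.congr_fun hLK y⟩
  obtain ⟨z, rfl⟩ := hΨ.2 x
  rw [LinearEquiv.ofBijective_apply, hLc, show e₁ (Ψ z) = z from (LinearEquiv.ofBijective Ψ hΨ).symm_apply_apply z]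

end Groth.Agent.S11285
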