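import Groth.Statements.S11286
import Mathlib
import Groth.Agent.Exal29.ConormalInjective

set_option autoImplicit false
universe u
open Deform

namespace Groth.Agent.S11286

/-- Let k be an algebraically closed field and A → B a map of finitely generated k-algebras with B
reduced and smooth over A at every minimal prime of B (the morphism Spec B → Spec A is smooth on a
dense open subset). Let E → B and E' → B be two A-algebra extensions with square-zero kernels I, I',
where I is a finitely generated projective B-module, and suppose their relative conormal sequences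
are isomorphic as extensions of Ω_{B/A}: there are B-linear isomorphisms I ≅ I' and B ⊗_E Ω_{E/A} ≅
B ⊗_{E'} Ω_{E'/A} commuting with the conormal maps and with the canonical maps to Ω_{B/A}. Then
there is a homomorphism of extensions E → E' (a ring map over A and over B) which is bijective and
induces the given isomorphism I ≅ I'. This is the injectivity half of the identification of Ex_A(B,
M) with Ext^1_B(Ω_{B/A}, M); affine case of the statement for algebraic schemes. -/
theorem result
    {k : Type u} [Field k] [IsAlgClosed k]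
    {A B : Type u} [CommRing A] [CommRing B] [Algebra k A] [Algebra k B] [Algebra A B]
    [IsScalarTower k A B] [Algebra.FiniteType k A] [Algebra.FiniteType k B] [IsReduced B]
    (hsm : ∀ p : PrimeSpectrum B, p.asIdeal ∈ minimalPrimes B → Algebra.IsSmoothAt A p.asIdeal)
    (P P' : Algebra.Extension.{u} A B) (hsq : P.ker ^ 2 = ⊥) (hsq' : P'.ker ^ 2 = ⊥)
    [Module.Finite B P.Cotangent] [Module.Projective B P.Cotangent]
    (e₁ : P.Cotangent ≃ₗ[B] P'.Cotangent) (e₂ : P.CotangentSpace ≃ₗ[B] P'.CotangentSpace)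
    (h₁ : ∀ x, e₂ (P.cotangentComplex x) = P'.cotangentComplex (e₁ x))
    (h₂ : ∀ y, P'.toKaehler (e₂ y) = P.toKaehler y) :
    ∃ f : P.Hom P', Function.Bijective f.toRingHom ∧
      Algebra.Extension.Cotangent.map f = e₁.toLinearMap := by
  classical
  have : Module.Projective B P'.Cotangent := Module.Projective.of_equiv e₁
  have inj := Groth.Agent.Exal29.injective_cotangentComplex hsm P hsq
  have inj' := Groth.Agent.Exal29.injective_cotangentComplex hsm P' hsq'
  have sep : ∀ (Q : Algebra.Extension.{u} A B), Q.ker ^ 2 = ⊥ → Function.Injective Q.cotangentComplex →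
      ∀ x y : Q.Ring, algebraMap Q.Ring B x = algebraMap Q.Ring B y →
        (1 : B) ⊗ₜ[Q.Ring] KaehlerDifferential.D A Q.Ring x = 1 ⊗ₜ KaehlerDifferential.D A Q.Ring y → x = y := by
    intro Q hQ hi x y hxy hD
    have hk : x - y ∈ Q.ker := by rw [RingHom.mem_ker, map_sub, hxy, sub_self]
    have h0 : Algebra.Extension.Cotangent.mk (⟨x - y, hk⟩ : Q.ker) = 0 := hi (by
      rw [Algebra.Extension.cotangentComplex_mk, map_zero, map_sub, TensorProduct.tmul_sub, hD, sub_self])
    rw [Algebra.Extension.Cotangent.mk_eq_zero_iff, hQ, Ideal.mem_bot] at h0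
    exact sub_eq_zero.1 h0
  have hK : ∀ (Q : Algebra.Extension.{u} A B) (e : Q.Ring),
      Q.toKaehler ((1 : B) ⊗ₜ[Q.Ring] KaehlerDifferential.D A Q.Ring e) = KaehlerDifferential.D A B (algebraMap Q.Ring B e) :=
    fun Q e => (KaehlerDifferential.mapBaseChange_tmul ..).trans (by rw [one_smul, KaehlerDifferential.map_D])
  have hex : ∀ e : P.Ring, ∃ e' : P'.Ring, algebraMap P'.Ring B e' = algebraMap P.Ring B e ∧
      (1 : B) ⊗ₜ[P'.Ring] KaehlerDifferential.D A P'.Ring e' = e₂ (1 ⊗ₜ KaehlerDifferential.D A P.Ring e) := by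
    intro e
    obtain ⟨e', he'⟩ := P'.algebraMap_surjective (algebraMap P.Ring B e)
    obtain ⟨c, hc⟩ := (P'.exact_cotangentComplex_toKaehler
      (e₂ (1 ⊗ₜ KaehlerDifferential.D A P.Ring e) - 1 ⊗ₜ KaehlerDifferential.D A P'.Ring e')).1
      (by rw [map_sub, h₂, hK, hK, he', sub_self])
    obtain ⟨i, rfl⟩ := Algebra.Extension.Cotangent.mk_surjective c
    refine ⟨e' + i, by rw [map_add, he', show algebraMap P'.Ring B i = 0 from i.2, add_zero], ?_⟩
    rw [Algebra.Extension.cotangentComplex_mk, eq_sub_iff_add_eq] at hc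
    rw [map_add, TensorProduct.tmul_add, ← hc, add_comm]
  choose φ hφ1 hφ2 using hex
  have eqφ : ∀ e x, algebraMap P'.Ring B x = algebraMap P.Ring B e →
      (1 : B) ⊗ₜ[P'.Ring] KaehlerDifferential.D A P'.Ring x = e₂ (1 ⊗ₜ KaehlerDifferential.D A P.Ring e) → x = φ e :=
    fun e x h1 h2' => sep P' hsq' inj' _ _ (h1.trans (hφ1 e).symm) (h2'.trans (hφ2 e).symm)
  have hsm1 : ∀ (Q : Algebra.Extension.{u} A B) (a : Q.Ring) (ω : Ω[Q.Ring⁄A]),
      (1 : B) ⊗ₜ[Q.Ring] (a • ω) = algebraMap Q.Ring B a • ((1 : B) ⊗ₜ[Q.Ring] ω) := fun Q a ω => by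
    rw [algebraMap_smul, TensorProduct.tmul_smul]
  let F : P.Ring →+* P'.Ring :=
    { toFun := φ
      map_one' := (eqφ 1 1 (by simp) (by simp)).symm
      map_zero' := (eqφ 0 0 (by simp) (by simp)).symm
      map_add' := fun a b => (eqφ _ _ (by rw [map_add, hφ1, hφ1, map_add])
        (by rw [map_add, TensorProduct.tmul_add, hφ2, hφ2, ← map_add, ← TensorProduct.tmul_add, ← map_add])).symm
      map_mul' := fun a b => (eqφ _ _ (by rw [map_mul, hφ1, hφ1, map_mul]) (by
        rw [Derivation.leibniz, Derivation.leibniz, TensorProduct.tmul_add, TensorProduct.tmul_add, map_add,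
          hsm1, hsm1, hsm1, hsm1, hφ1, hφ1, hφ2, hφ2, map_smul, map_smul])).symm }
  let f : P.Hom P' :=
    { toRingHom := F
      toRingHom_algebraMap := fun a => (eqφ _ _
        (by simp [← IsScalarTower.algebraMap_apply]) (by simp)).symm
      algebraMap_toRingHom := hφ1 }
  refine ⟨f, ⟨fun a b hab => ?_, fun y => ?_⟩, LinearMap.ext fun x => ?_⟩
  · have h : φ a = φ b := hab
    exact sep P hsq inj a b (by rw [← hφ1 a, h, hφ1]) (e₂.injective (by rw [← hφ2, h, hφ2]))
  · obtain ⟨e, he⟩ := P.algebraMap_surjective (algebraMap P'.Ring B y)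
    obtain ⟨c, hc⟩ := (P.exact_cotangentComplex_toKaehler
      (e₂.symm (1 ⊗ₜ KaehlerDifferential.D A P'.Ring y) - 1 ⊗ₜ KaehlerDifferential.D A P.Ring e)).1
      (by rw [map_sub, ← h₂, e₂.apply_symm_apply, hK, hK, he, sub_self])
    obtain ⟨i, rfl⟩ := Algebra.Extension.Cotangent.mk_surjective c
    rw [Algebra.Extension.cotangentComplex_mk, eq_sub_iff_add_eq] at hc
    refine ⟨e + i, (eqφ _ _ ?_ ?_).symm⟩
    · rw [map_add, show algebraMap P.Ring B i = 0 from i.2, add_zero, he]
    · rw [map_add, TensorProduct.tmul_add, add_comm ((1 : B) ⊗ₜ[P.Ring] _), hc, e₂.apply_symm_apply]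
  · obtain ⟨i, rfl⟩ := Algebra.Extension.Cotangent.mk_surjective x
    refine inj' ?_
    rw [Algebra.Extension.Cotangent.map_mk, Algebra.Extension.cotangentComplex_mk]
    show (1 : B) ⊗ₜ[P'.Ring] KaehlerDifferential.D A P'.Ring (φ i) = _
    rw [hφ2, LinearEquiv.coe_toLinearMap, ← h₁, Algebra.Extension.cotangentComplex_mk]

end Groth.Agent.S11286
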