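import Groth.Statements.S11287
import Mathlib
import Groth.Agent.Exal29.PowerSeriesExt

set_option autoImplicit false
universe u
open Deform

namespace Groth.Agent.S11287

/-- Let k be an algebraically closed field, Λ a complete local Noetherian k-algebra with residue field
k, P = Λ[[X_1, …, X_d]] the power series ring, J an ideal of P contained in (X_1, …, X_d)^2, R =
P/J, and L a simple R-module (a copy of the residue field k). Then: (a) for every Λ-extension 0 → L
→ E → R → 0 the quotient map P → R lifts to a Λ-algebra map u : P → E; (b) for two such extensions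
E, E' with lifts u, u', the extensions are equivalent if and only if u and u' send every element of
J to the images of the same element of L (the restrictions J → L of the lifts agree); (c) every
P-linear map J → L is the restriction of a lift for some extension. Thus the classes of Λ-extensions
of R by L correspond bijectively to Hom_P(J, L), the dual of J/m_P J; this is the identification of
the obstruction space o(R/Λ) for a complete R (the general case reduces to it by passing to the
completion). -/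
theorem result
    {k : Type u} [Field k] [IsAlgClosed k]
    {Λ : Type u} [CommRing Λ] [Algebra k Λ] [IsLocalRing Λ] [IsNoetherianRing Λ]
    [IsAdicComplete (IsLocalRing.maximalIdeal Λ) Λ]
    (hΛ : ∀ a : Λ, ∃ c : k, a - algebraMap k Λ c ∈ IsLocalRing.maximalIdeal Λ)
    (d : ℕ) (J : Ideal (MvPowerSeries (Fin d) Λ))
    (hJ : J ≤ Ideal.span (Set.range (MvPowerSeries.X : Fin d → MvPowerSeries (Fin d) Λ)) ^ 2)
    (L : Type u) [AddCommGroup L] [Module (MvPowerSeries (Fin d) Λ ⧸ J) L] [Module (MvPowerSeries (Fin d) Λ) L]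
    [IsScalarTower (MvPowerSeries (Fin d) Λ) (MvPowerSeries (Fin d) Λ ⧸ J) L] [IsSimpleModule (MvPowerSeries (Fin d) Λ ⧸ J) L] :
    (∀ X : Exal.Ext Λ (MvPowerSeries (Fin d) Λ ⧸ J) L,
        ∃ u : MvPowerSeries (Fin d) Λ →ₐ[Λ] X.E, ∀ p, X.proj (u p) = Ideal.Quotient.mk J p) ∧
    (∀ (X X' : Exal.Ext Λ (MvPowerSeries (Fin d) Λ ⧸ J) L) (u : MvPowerSeries (Fin d) Λ →ₐ[Λ] X.E) (u' : MvPowerSeries (Fin d) Λ →ₐ[Λ] X'.E),
        (∀ p, X.proj (u p) = Ideal.Quotient.mk J p) → (∀ p, X'.proj (u' p) = Ideal.Quotient.mk J p) →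
        (Nonempty (X.Equiv X') ↔ ∀ j ∈ J, ∃ z : L, X.incl z = u j ∧ X'.incl z = u' j)) ∧
    (∀ δ : J →ₗ[MvPowerSeries (Fin d) Λ] L, ∃ (X : Exal.Ext Λ (MvPowerSeries (Fin d) Λ ⧸ J) L) (u : MvPowerSeries (Fin d) Λ →ₐ[Λ] X.E),
        (∀ p, X.proj (u p) = Ideal.Quotient.mk J p) ∧ ∀ j : J, X.incl (δ j) = u j) := by
  classical
  let P := MvPowerSeries (Fin d) Λ
  let R := P ⧸ J
  let I : Ideal P := Ideal.span (Set.range (MvPowerSeries.X : Fin d → P))
  have hIm : I ≤ IsLocalRing.maximalIdeal P := Ideal.span_le.2 (by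
    rintro _ ⟨i, rfl⟩ hu
    simpa using (MvPowerSeries.isUnit_iff_constantCoeff.1 hu))
  have hJI : J ≤ I := hJ.trans (Ideal.pow_le_self two_ne_zero)
  have : Nontrivial R := Ideal.Quotient.nontrivial_iff.2 fun h =>
    (IsLocalRing.maximalIdeal.isMaximal P).ne_top (top_le_iff.1 (h ▸ hJI.trans hIm))
  have : IsLocalRing R := .of_surjective' (Ideal.Quotient.mk J) Ideal.Quotient.mk_surjective
  let q : P →ₐ[Λ] R := Ideal.Quotient.mkₐ Λ J
  have htow : ∀ (p : P) (z : L), p • z = q p • z := fun p z => (algebraMap_smul R p z).symm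
  have hL : ∀ i (z : L), q (MvPowerSeries.X i) • z = 0 := by
    intro i z
    have hann : Module.annihilator R L = IsLocalRing.maximalIdeal R :=
      IsLocalRing.eq_maximalIdeal (IsSimpleModule.annihilator_isMaximal (R := R) (M := L))
    refine Module.mem_annihilator.1 (hann ▸ ?_) z
    intro hu
    obtain ⟨w, hw⟩ := isUnit_iff_exists_inv.1 hu
    obtain ⟨w, rfl⟩ := Ideal.Quotient.mk_surjective w
    have : MvPowerSeries.X i * w - 1 ∈ J := Ideal.Quotient.eq.1 (by rw [map_mul, map_one]; exact hw)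
    refine (IsLocalRing.maximalIdeal.isMaximal P).ne_top ((Ideal.eq_top_iff_one _).2 ?_)
    have h' := sub_mem (Ideal.mul_mem_right w _ (hIm (Ideal.subset_span ⟨i, rfl⟩))) (hIm (hJI this))
    rwa [sub_sub_cancel] at h'
  have hJL : ∀ j ∈ J, ∀ z : L, j • z = 0 := fun j hj z => by
    rw [htow, show q j = 0 from Ideal.Quotient.eq_zero_iff_mem.2 hj]
    exact zero_smul R z
  have huL : ∀ (X : Exal.Ext Λ R L) (u : P →ₐ[Λ] X.E), (∀ p, X.proj (u p) = q p) → ∀ p z,
      u p * X.incl z = X.incl (p • z) := fun X u hu p z => by rw [X.isExtension.mul_incl, hu, htow]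
  have hJu : ∀ (X : Exal.Ext Λ R L) (u : P →ₐ[Λ] X.E), (∀ p, X.proj (u p) = q p) → ∀ j ∈ J,
      ∃ z, X.incl z = u j := fun X u hu j hj =>
    (X.isExtension.exact _).1 ((hu j).trans (Ideal.Quotient.eq_zero_iff_mem.2 hj))
  have hsurj : ∀ (X : Exal.Ext Λ R L) (u : P →ₐ[Λ] X.E), (∀ p, X.proj (u p) = q p) → ∀ x : X.E,
      ∃ p z, u p + X.incl z = x := fun X u hu x => by
    obtain ⟨p, hp⟩ := Ideal.Quotient.mk_surjective (X.proj x)
    obtain ⟨z, hz⟩ := (X.isExtension.exact (x - u p)).1 (by rw [map_sub, hu, sub_eq_zero]; exact hp.symm)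
    exact ⟨p, z, by rw [hz, add_sub_cancel]⟩
  refine ⟨fun X => Groth.Agent.Exal29.exists_lift q hL X, fun X X' u u' hu hu' => ⟨?_, fun h => ?_⟩, fun δ => ?_⟩
  · rintro ⟨e⟩ j hj
    obtain ⟨z, hz⟩ := hJu X u hu j hj
    refine ⟨z, hz, ?_⟩
    rw [← e.apply_incl, hz]
    exact Groth.Agent.Exal29.lift_eq_on_sq q hL X' (e.toAlgEquiv.toAlgHom.comp u) u'
      (fun p => (e.proj_apply (u p)).trans (hu p)) hu' j (hJ hj)
  · have trans : ∀ (Y Y' : Exal.Ext Λ R L) (v : P →ₐ[Λ] Y.E) (v' : P →ₐ[Λ] Y'.E), (∀ p, Y.proj (v p) = q p) →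
        (∀ j ∈ J, ∃ z, Y.incl z = v j ∧ Y'.incl z = v' j) →
        ∀ p p' (z z' : L), v p + Y.incl z = v p' + Y.incl z' → v' p + Y'.incl z = v' p' + Y'.incl z' := by
      intro Y Y' v v' hv hz p p' z z' he
      have hpj : p - p' ∈ J := by
        refine Ideal.Quotient.eq.1 ?_
        have h1 := congrArg Y.proj he
        rwa [map_add, map_add, hv, hv, (Y.isExtension.exact _).2 ⟨z, rfl⟩, (Y.isExtension.exact _).2 ⟨z', rfl⟩,
          add_zero, add_zero] at h1
      obtain ⟨w, hw, hw'⟩ := hz _ hpj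
      have hzz : w = z' - z := Y.isExtension.incl_injective (by
        rw [hw, map_sub, map_sub]; linear_combination he)
      rw [hzz, map_sub, map_sub] at hw'
      linear_combination -hw'
    choose P1 Z1 hPZ using hsurj X u hu
    choose P2 Z2 hPZ' using hsurj X' u' hu'
    let f : X.E → X'.E := fun x => u' (P1 x) + X'.incl (Z1 x)
    have spec : ∀ p z, f (u p + X.incl z) = u' p + X'.incl z := fun p z =>
      trans X X' u u' hu h _ _ _ _ (hPZ _)
    let g : X'.E → X.E := fun x => u (P2 x) + X.incl (Z2 x)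
    have spec' : ∀ p z, g (u' p + X'.incl z) = u p + X.incl z := fun p z =>
      trans X' X u' u hu' (fun j hj => (h j hj).imp fun _ hz => hz.symm) _ _ _ _ (hPZ' _)
    have hmul : ∀ (Y : Exal.Ext Λ R L) (v : P →ₐ[Λ] Y.E), (∀ p, Y.proj (v p) = q p) → ∀ p p' z z',
        (v p + Y.incl z) * (v p' + Y.incl z') = v (p * p') + Y.incl (p • z' + p' • z) := by
      intro Y v hv p p' z z'
      rw [map_mul, map_add, ← huL Y v hv, ← huL Y v hv]
      linear_combination Groth.Agent.Exal29.incl_mul_incl Y z z'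
    refine ⟨{
      toAlgEquiv :=
        { toFun := f, invFun := g
          left_inv := fun x => by rw [← hPZ x, spec, spec']
          right_inv := fun x => by rw [← hPZ' x, spec', spec]
          map_mul' := fun x y => by
            rw [← hPZ x, ← hPZ y, hmul X u hu, spec, spec, spec, hmul X' u' hu']
          map_add' := fun x y => by
            rw [← hPZ x, ← hPZ y, add_add_add_comm, ← map_add, ← map_add, spec, spec, spec, map_add, map_add,
              add_add_add_comm]
          commutes' := fun c => by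
            have := spec (algebraMap Λ P c) 0
            rwa [map_zero, map_zero, add_zero, add_zero, AlgHom.commutes, AlgHom.commutes] at this }
      proj_apply := fun x => by
        show X'.proj (f x) = X.proj x
        rw [← hPZ x, spec, map_add, map_add, hu, hu', (X.isExtension.exact _).2 ⟨_, rfl⟩,
          (X'.isExtension.exact _).2 ⟨_, rfl⟩]
      apply_incl := fun z => by
        have := spec 0 z
        rwa [map_zero, map_zero, zero_add, zero_add] at this }⟩
  · letI : Module Pᵐᵒᵖ L := Exal.opModule P L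
    haveI : IsCentralScalar P L := Exal.isCentralScalar_opModule P L
    let T := TrivSqZeroExt P L
    let K : Ideal T :=
      { carrier := {x | ∃ hx : TrivSqZeroExt.fst x ∈ J, TrivSqZeroExt.snd x = -δ ⟨_, hx⟩}
        add_mem' := fun {x y} ⟨hx, hx'⟩ ⟨hy, hy'⟩ => ⟨add_mem hx hy, by
          rw [TrivSqZeroExt.snd_add, hx', hy', ← neg_add, ← map_add]; rfl⟩
        zero_mem' := ⟨zero_mem _, by rw [TrivSqZeroExt.snd_zero]; exact (neg_eq_zero.2 (map_zero δ)).symm⟩
        smul_mem' := fun x y ⟨hy, hy'⟩ => ⟨J.mul_mem_left _ hy, (TrivSqZeroExt.snd_mul x y).trans (by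
          rw [op_smul_eq_smul, hJL _ hy, add_zero, hy', smul_neg, ← map_smul]
          exact congrArg (fun j : J => -δ j) (Subtype.ext (TrivSqZeroExt.fst_mul x y).symm))⟩ }
    have hK : ∀ (x : T) (j : J), TrivSqZeroExt.fst x = j → TrivSqZeroExt.snd x = -δ j → x ∈ K := fun x j hj hs =>
      ⟨hj ▸ j.2, hs.trans (congrArg (fun j : J => -δ j) (Subtype.ext hj.symm))⟩
    let E := T ⧸ K
    letI : Algebra Λ T := ((TrivSqZeroExt.inlHom P L).comp (algebraMap Λ P) : Λ →+* T).toAlgebra
    let pr : E →ₐ[Λ] R := Ideal.Quotient.liftₐ K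
      { toFun := fun x => q (TrivSqZeroExt.fst x)
        map_one' := by simp
        map_mul' := fun x y => by rw [TrivSqZeroExt.fst_mul, map_mul]
        map_zero' := by simp
        map_add' := fun x y => by rw [TrivSqZeroExt.fst_add, map_add]
        commutes' := fun c => q.commutes c }
      fun x ⟨hx, _⟩ => Ideal.Quotient.eq_zero_iff_mem.2 hx
    let ι : L →+ E := (Ideal.Quotient.mk K).toAddMonoidHom.comp (TrivSqZeroExt.inrHom P L).toAddMonoidHom
    let X : Exal.Ext Λ R L :=
      { E := E
        proj := pr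
        incl := ι
        isExtension :=
          { proj_surjective := fun b => by
              obtain ⟨p, rfl⟩ := Ideal.Quotient.mk_surjective b
              exact ⟨Ideal.Quotient.mk K (TrivSqZeroExt.inl p), rfl⟩
            incl_injective := (injective_iff_map_eq_zero _).2 fun z hz => by
              obtain ⟨hx, hx'⟩ : (TrivSqZeroExt.inr z : T) ∈ K := Ideal.Quotient.eq_zero_iff_mem.1 hz
              rw [TrivSqZeroExt.snd_inr] at hx'
              rw [hx', show (⟨_, hx⟩ : J) = 0 from Subtype.ext (TrivSqZeroExt.fst_inr P z), map_zero, neg_zero]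
            exact := fun x => by
              constructor
              · obtain ⟨x, rfl⟩ := Ideal.Quotient.mk_surjective x
                intro hx
                have hj : TrivSqZeroExt.fst x ∈ J := Ideal.Quotient.eq_zero_iff_mem.1 hx
                refine ⟨TrivSqZeroExt.snd x + δ ⟨_, hj⟩, Ideal.Quotient.eq.2 (hK _ (-⟨_, hj⟩) ?_ ?_)⟩
                · show TrivSqZeroExt.fst ((TrivSqZeroExt.inr (TrivSqZeroExt.snd x + δ ⟨_, hj⟩) : T) - x) = -TrivSqZeroExt.fst x
                  rw [TrivSqZeroExt.fst_sub, TrivSqZeroExt.fst_inr, zero_sub]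
                · show TrivSqZeroExt.snd ((TrivSqZeroExt.inr (TrivSqZeroExt.snd x + δ ⟨_, hj⟩) : T) - x) = -δ (-⟨_, hj⟩)
                  rw [TrivSqZeroExt.snd_sub, TrivSqZeroExt.snd_inr, map_neg, neg_neg, add_sub_cancel_left]
              · rintro ⟨z, rfl⟩
                show q (TrivSqZeroExt.fst (TrivSqZeroExt.inr z : T)) = 0
                rw [TrivSqZeroExt.fst_inr, map_zero]
            mul_incl := fun x z => by
              obtain ⟨x, rfl⟩ := Ideal.Quotient.mk_surjective x
              show Ideal.Quotient.mk K x * Ideal.Quotient.mk K (TrivSqZeroExt.inr z) =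
                Ideal.Quotient.mk K (TrivSqZeroExt.inr (q (TrivSqZeroExt.fst x) • z))
              rw [← map_mul, ← htow]
              congr 1
              refine TrivSqZeroExt.ext ?_ ?_
              · rw [TrivSqZeroExt.fst_mul, TrivSqZeroExt.fst_inr, TrivSqZeroExt.fst_inr, mul_zero]
              · rw [TrivSqZeroExt.snd_mul, TrivSqZeroExt.snd_inr, TrivSqZeroExt.fst_inr, TrivSqZeroExt.snd_inr,
                  MulOpposite.op_zero, zero_smul, add_zero] } }
    let u : P →ₐ[Λ] E := (Ideal.Quotient.mkₐ Λ K).comp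
      { toRingHom := TrivSqZeroExt.inlHom P L, commutes' := fun c => rfl }
    refine ⟨X, u, fun p => rfl, fun j => ?_⟩
    show Ideal.Quotient.mk K (TrivSqZeroExt.inr (δ j) : T) = Ideal.Quotient.mk K (TrivSqZeroExt.inl (j : P))
    refine Ideal.Quotient.eq.2 (hK _ (-j) ?_ ?_)
    · rw [TrivSqZeroExt.fst_sub, TrivSqZeroExt.fst_inr, TrivSqZeroExt.fst_inl, zero_sub]
      rfl
    · rw [TrivSqZeroExt.snd_sub, TrivSqZeroExt.snd_inr, TrivSqZeroExt.snd_inl, sub_zero, map_neg, neg_neg]

end Groth.Agent.S11287
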