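import Groth.Statements.S11288
import Mathlib.RingTheory.Ideal.Quotient.Operations
import Mathlib.LinearAlgebra.Dual.Lemmas
import Mathlib.Tactic

set_option autoImplicit false
universe u
open Deform

namespace Groth.Agent.S11288

/-- Let K be a field, R' a local Artinian K-algebra with residue field K, and t a nonzero element of the
maximal ideal m' of R' with m' t = 0, so that R' → R = R'/(t) is a small extension of R. Then the
extension is trivial, i.e. the projection admits a section which is a K-algebra map, if and only if
t is not in m'^2; equivalently, iff the surjection m'/m'^2 → m_R/m_R^2 induced on cotangent spaces,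
whose kernel is spanned by the class of t, is not bijective. For instance K[t]/(t^(n+1)) →
K[t]/(t^n) is a non-trivial small extension for n ≥ 2. (The published example allows any local
K-algebra with residue field K; the row takes R' Artinian, the case in which the subalgebra
generated by lifts of a basis of the cotangent space maps onto R.) -/
theorem result
    {K : Type u} [Field K]
    {R' : Type u} [CommRing R'] [Algebra K R'] [IsLocalRing R'] [IsArtinianRing R']
    (hres : ∀ a : R', ∃ c : K, a - algebraMap K R' c ∈ IsLocalRing.maximalIdeal R')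
    (t : R') (ht : t ∈ IsLocalRing.maximalIdeal R') (ht0 : t ≠ 0)
    (htm : ∀ a ∈ IsLocalRing.maximalIdeal R', a * t = 0) :
    (∃ s : (R' ⧸ Ideal.span {t}) →ₐ[K] R', ∀ x, Ideal.Quotient.mk (Ideal.span {t}) (s x) = x) ↔
      t ∉ IsLocalRing.maximalIdeal R' ^ 2 := by
  set m := IsLocalRing.maximalIdeal R'
  let π := Ideal.Quotient.mk (Ideal.span {t})
  constructor
  · rintro ⟨s, hs⟩ htmem
    have hmul : ∀ a ∈ m, ∀ b ∈ m, s (π (a * b)) = a * b := by
      intro a ha b hb
      have hd : ∀ x, ∃ r, s (π x) = x + r * t := fun x => by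
        obtain ⟨r, hr⟩ := Ideal.mem_span_singleton'.1 (Ideal.Quotient.eq.1 (hs (π x)) : s (π x) - x ∈ _)
        exact ⟨r, by rw [hr]; ring⟩
      obtain ⟨ra, hra⟩ := hd a
      obtain ⟨rb, hrb⟩ := hd b
      rw [map_mul, map_mul, hra, hrb]
      linear_combination rb * htm a ha + ra * htm b hb + (ra * rb) * htm t ht
    have hall : ∀ x ∈ m ^ 2, s (π x) = x := by
      intro x hx
      rw [pow_two] at hx
      refine Submodule.mul_induction_on hx hmul fun y z hy hz => ?_
      rw [map_add, map_add, hy, hz]
    have h1 := hall t htmem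
    rw [show π t = 0 from Ideal.Quotient.eq_zero_iff_mem.2 (Ideal.mem_span_singleton_self t), map_zero] at h1
    exact ht0 h1.symm
  · intro htmem
    have hK : ∀ c : K, algebraMap K R' c ∈ m → c = 0 := fun c hc => by
      by_contra h
      exact (IsLocalRing.mem_maximalIdeal _).1 hc ((IsUnit.mk0 c h).map _)
    let W : Submodule K R' := (m ^ 2).restrictScalars K ⊔ Submodule.span K {1}
    have htW : t ∉ W := by
      intro h
      obtain ⟨u, hu, z, hz, huz⟩ := Submodule.mem_sup.1 h
      obtain ⟨c, rfl⟩ := Submodule.mem_span_singleton.1 hz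
      rw [← Algebra.algebraMap_eq_smul_one] at huz
      have hc : c = 0 := hK c (by
        rw [show algebraMap K R' c = t - u by rw [← huz]; ring]
        exact sub_mem ht (Ideal.pow_le_self two_ne_zero hu))
      rw [hc, map_zero, add_zero] at huz
      exact htmem (huz ▸ hu)
    obtain ⟨l₀, hl₀, hlW⟩ := Submodule.exists_le_ker_of_notMem htW
    let l : R' →ₗ[K] K := (l₀ t)⁻¹ • l₀
    have hlt : l t = 1 := inv_mul_cancel₀ hl₀
    have hlsq : ∀ x ∈ m ^ 2, l x = 0 := fun x hx => by
      have h : l₀ x = 0 := hlW (Submodule.mem_sup_left hx)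
      simp [l, h]
    have hl1 : l 1 = 0 := by
      have h : l₀ 1 = 0 := hlW (Submodule.mem_sup_right (Submodule.mem_span_singleton_self 1))
      simp [l, h]
    choose ρ hρ using hres
    have hrt : ∀ a, a * t = algebraMap K R' (ρ a) * t := fun a => by linear_combination htm _ (hρ a)
    have hl : ∀ a b, l (a * b) = ρ a * l b + ρ b * l a := by
      intro a b
      have h1 : l ((a - algebraMap K R' (ρ a)) * (b - algebraMap K R' (ρ b))) = 0 :=
        hlsq _ (by rw [pow_two]; exact Ideal.mul_mem_mul (hρ a) (hρ b))
      have h2 : (a - algebraMap K R' (ρ a)) * (b - algebraMap K R' (ρ b)) =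
          a * b - ρ a • b - ρ b • a + (ρ a * ρ b) • (1 : R') := by
        simp only [Algebra.smul_def, map_mul]; ring
      rw [h2] at h1
      simp only [map_add, map_sub, map_smul, smul_eq_mul, hl1, mul_zero, add_zero] at h1
      linear_combination h1
    let σ : R' →ₐ[K] R' := AlgHom.ofLinearMap (LinearMap.id - (LinearMap.id.smulRight t).comp l)
      (by simp [hl1])
      (fun a b => by
        simp only [LinearMap.sub_apply, LinearMap.comp_apply, LinearMap.smulRight_apply, LinearMap.id_apply,
          hl, Algebra.smul_def, map_add, map_mul]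
        linear_combination algebraMap K R' (l b) * hrt a + algebraMap K R' (l a) * hrt b -
          (algebraMap K R' (l a) * algebraMap K R' (l b)) * htm t ht)
    have hσ : ∀ a, σ a = a - algebraMap K R' (l a) * t := fun a => by simp [σ, Algebra.smul_def]
    refine ⟨Ideal.Quotient.liftₐ (Ideal.span {t}) σ fun x hx => ?_, fun x => ?_⟩
    · obtain ⟨r, rfl⟩ := Ideal.mem_span_singleton'.1 hx
      have h1 : l (r * t) = ρ r := by
        rw [hrt, ← Algebra.smul_def, map_smul, hlt, smul_eq_mul, mul_one]
      rw [hσ, h1, hrt, sub_self]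
    · obtain ⟨a, rfl⟩ := Ideal.Quotient.mk_surjective x
      show Ideal.Quotient.mk (Ideal.span {t}) (σ a) = _
      refine Ideal.Quotient.eq.2 ?_
      show σ a - a ∈ _
      rw [hσ, show a - algebraMap K R' (l a) * t - a = -(algebraMap K R' (l a)) * t by ring]
      exact Ideal.mem_span_singleton'.2 ⟨_, rfl⟩

end Groth.Agent.S11288
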