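import Groth.Statements.S11290
import Groth.Agent.LiftObs29.Step

set_option autoImplicit false
universe u
open CategoryTheory CategoryTheory.Limits AlgebraicGeometry
open Deform

namespace Groth.Agent.S11290

/-- Let k be an algebraically closed field and X a nonsingular variety over k (integral, separated,
quasi-compact and smooth over Spec k) with H^2(X, T_X) = 0, written as the vanishing of
Ext^2(Ω_{X/k}, O_X) in the category of O_X-modules. Then X is unobstructed: for every local Artinian
k-algebra A', every t in the maximal ideal of A' annihilated by the maximal ideal (so that A' → A =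
A'/(t) is a small extension), every k-algebra augmentation e : A → k and every infinitesimal
deformation of X over A — a scheme Y flat over Spec A with a morphism i : X → Y making X the fibre
over the point Spec k → Spec A given by e — there are a scheme Y' flat over Spec A' and a morphism Y
→ Y' making Y the base change of Y' along Spec A → Spec A' (a lifting of the deformation to A'). -/
theorem result
    {k : Type u} [Field k] [IsAlgClosed k]
    (X : Scheme.{u}) [X.Over (Spec (CommRingCat.of k))] [IsIntegral X]
    [Smooth (X ↘ Spec (CommRingCat.of k))] [IsSeparated (X ↘ Spec (CommRingCat.of k))]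
    [QuasiCompact (X ↘ Spec (CommRingCat.of k))] [HasExt.{u} X.Modules]
    (h2 : Subsingleton (Abelian.Ext.{u} (Omega.sheaf (X ↘ Spec (CommRingCat.of k))) (Coh.structureModule X) 2))
    (A' : Type u) [CommRing A'] [Algebra k A'] [IsLocalRing A'] [IsArtinianRing A']
    (t : A') (ht : t ∈ IsLocalRing.maximalIdeal A') (htm : ∀ a ∈ IsLocalRing.maximalIdeal A', a * t = 0)
    (e : (A' ⧸ Ideal.span {t}) →ₐ[k] k)
    (Y : Scheme.{u}) (f : Y ⟶ Spec (CommRingCat.of (A' ⧸ Ideal.span {t}))) (i : X ⟶ Y) (hf : Flat f)
    (hY : IsPullback i (X ↘ Spec (CommRingCat.of k)) f (Spec.map (CommRingCat.ofHom e.toRingHom))) :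
    ∃ (Y' : Scheme.{u}) (f' : Y' ⟶ Spec (CommRingCat.of A')) (j : Y ⟶ Y'), Flat f' ∧
      IsPullback j f f' (Spec.map (CommRingCat.ofHom (Ideal.Quotient.mk (Ideal.span {t})))) := by
  have hg : Function.Surjective e.toRingHom := fun c => ⟨algebraMap k _ c, e.commutes c⟩
  have hM : RingHom.ker (e.toRingHom.comp (Ideal.Quotient.mk (Ideal.span {t}))) = IsLocalRing.maximalIdeal A' := by
    haveI := RingHom.ker_isMaximal_of_surjective (e.toRingHom.comp (Ideal.Quotient.mk (Ideal.span {t})))
      (hg.comp Ideal.Quotient.mk_surjective)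
    exact IsLocalRing.eq_maximalIdeal inferInstance
  have hnil : IsNilpotent (IsLocalRing.maximalIdeal A') := by
    rw [← IsLocalRing.jacobson_eq_maximalIdeal ⊥ bot_ne_top]
    exact IsArtinianRing.isNilpotent_jacobson_bot
  have hsq : IsLocalRing.maximalIdeal A' * RingHom.ker (Ideal.Quotient.mk (Ideal.span {t})) = ⊥ := by
    rw [Ideal.mk_ker, eq_bot_iff, Ideal.mul_le]
    intro a ha b hb
    obtain ⟨c, rfl⟩ := Ideal.mem_span_singleton'.1 hb
    rw [Ideal.mem_bot, mul_left_comm, htm a ha, mul_zero]
  haveI := hf
  obtain ⟨Y', f', j, hs, hj⟩ := LiftObs29.exists_step (Ideal.Quotient.mk (Ideal.span {t})) e.toRingHom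
    Ideal.Quotient.mk_surjective hg hM hnil hsq (X ↘ Spec (CommRingCat.of k)) h2 f i hY
  exact ⟨Y', f', j, inferInstance, hj⟩

end Groth.Agent.S11290
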