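import Groth.Statements.S11291
import Mathlib

set_option autoImplicit false
universe u
open Deform

namespace Groth.Agent.S11291

/-- Let k be an algebraically closed field and A a local Artinian k-algebra with residue field k and
non-zero maximal ideal, i.e. A is not k. Then the obstruction space o(A) = Ex_k(A, k) is not zero:
there is a k-extension 0 → k → E → A → 0 of A by its residue field which is not trivial (admits no
k-algebra section). Equivalently, k is the only formally smooth object among local Artinian
k-algebras with residue field k. -/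
theorem result
    {k : Type u} [Field k] [IsAlgClosed k]
    {A : Type u} [CommRing A] [Algebra k A] [IsLocalRing A] [IsArtinianRing A]
    (hres : ∀ a : A, ∃ c : k, a - algebraMap k A c ∈ IsLocalRing.maximalIdeal A)
    (hA : IsLocalRing.maximalIdeal A ≠ ⊥) :
    ∃ X : Exal.Ext k A (IsLocalRing.ResidueField A), ¬ X.IsTrivial := by
  classical
  let m := IsLocalRing.maximalIdeal A
  obtain ⟨G, hcard, hG⟩ := (IsNoetherian.noetherian m).exists_span_finset_card_eq_spanFinrank
  let a : G → A := fun i => (i : A)
  have hrange : Set.range a = ↑G := Subtype.range_coe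
  have ha : Ideal.span (Set.range a) = m := hrange.symm ▸ hG
  let π : MvPolynomial G k →ₐ[k] A := MvPolynomial.aeval a
  let X : Ideal (MvPolynomial G k) := Ideal.span (Set.range MvPolynomial.X)
  have hX : ∀ p : MvPolynomial G k, p - MvPolynomial.C (MvPolynomial.constantCoeff p) ∈ X := fun p => by
    induction p using MvPolynomial.induction_on with
    | C c => rw [MvPolynomial.constantCoeff_C, sub_self]; exact zero_mem _
    | add p q hp hq => rw [map_add, map_add, add_sub_add_comm]; exact add_mem hp hq
    | mul_X p i _ =>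
      rw [map_mul, MvPolynomial.constantCoeff_X, mul_zero, map_zero, sub_zero]
      exact X.mul_mem_left _ (Ideal.subset_span ⟨i, rfl⟩)
  have hmap : X.map π = m := by
    rw [Ideal.map_span, ← Set.range_comp, ← ha]
    congr 2
    exact funext fun i => MvPolynomial.aeval_X _ i
  have hπC : ∀ c, π (MvPolynomial.C c) = algebraMap k A c := fun c => MvPolynomial.aeval_C _ _
  obtain ⟨N, hN⟩ : IsNilpotent m := by
    have := IsArtinianRing.isNilpotent_jacobson_bot (R := A)
    rwa [IsLocalRing.jacobson_eq_maximalIdeal _ bot_ne_top] at this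
  rw [Ideal.zero_eq_bot] at hN
  have step : ∀ (j : ℕ) (x : A), ∃ p, x - π p ∈ m ^ j := by
    intro j
    induction j with
    | zero => exact fun x => ⟨0, by simp⟩
    | succ j ih =>
      have key : ∀ y ∈ m ^ j, ∃ p, y - π p ∈ m ^ (j + 1) := by
        rw [← hmap, ← Ideal.map_pow, hmap, Ideal.map]
        intro y hy
        induction hy using Submodule.span_induction with
        | mem z hz => obtain ⟨p, -, rfl⟩ := hz; exact ⟨p, by simp⟩
        | zero => exact ⟨0, by simp⟩
        | add u v _ _ hu hv =>
          obtain ⟨p, hp⟩ := hu; obtain ⟨q, hq⟩ := hv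
          exact ⟨p + q, by rw [map_add, add_sub_add_comm]; exact add_mem hp hq⟩
        | smul b u hu ih =>
          obtain ⟨p, hp⟩ := ih
          obtain ⟨c, hc⟩ := hres b
          have hum : u ∈ m ^ j := by
            rw [← hmap, ← Ideal.map_pow]; exact hu
          refine ⟨MvPolynomial.C c * p, ?_⟩
          rw [map_mul, hπC, smul_eq_mul, show b * u - algebraMap k A c * π p =
            (b - algebraMap k A c) * u + algebraMap k A c * (u - π p) by ring, pow_succ']
          exact add_mem (Ideal.mul_mem_mul hc hum) (Ideal.mul_mem_left _ _ (pow_succ' m j ▸ hp))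
      intro x
      obtain ⟨p, hp⟩ := ih x
      obtain ⟨q, hq⟩ := key _ hp
      exact ⟨p + q, by rwa [map_add, ← sub_sub]⟩
  have hπ : Function.Surjective π := fun x => by
    obtain ⟨p, hp⟩ := step N x
    rw [hN, Ideal.mem_bot, sub_eq_zero] at hp
    exact ⟨p, hp.symm⟩
  let K : Ideal (MvPolynomial G k) := RingHom.ker π
  have hC : ∀ c : k, algebraMap k A c ∈ m → c = 0 := fun c hc => by
    by_contra h
    exact hc ((isUnit_iff_ne_zero.2 h).map (algebraMap k A))
  have hXm : ∀ p ∈ X, π p ∈ m := fun p hp => hmap ▸ Ideal.mem_map_of_mem π hp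
  have hK : K ≤ X ^ 2 := by
    intro p hp
    have h0 : MvPolynomial.constantCoeff p = 0 := hC _ (by
      have h := hXm _ (hX p)
      rw [map_sub, hπC, show π p = 0 from hp, zero_sub, neg_mem_iff] at h
      exact h)
    have hpX : p ∈ X := by simpa [h0] using hX p
    obtain ⟨r, hr⟩ := Ideal.mem_span_range_iff_exists_fun.1 hpX
    rw [← hr]
    refine Submodule.sum_mem _ fun s _ => ?_
    rw [pow_two]
    refine Ideal.mul_mem_mul ?_ (Ideal.subset_span ⟨s, rfl⟩)
    suffices h : MvPolynomial.constantCoeff (r s) = 0 by simpa [h] using hX (r s)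
    by_contra hne
    let O : Ideal A := Ideal.span ((G.erase s.1 : Finset A) : Set A)
    have hsum : ∑ i, π (r i) * a i = 0 := by
      rw [← show π p = 0 from hp, ← hr, map_sum]
      exact Finset.sum_congr rfl fun i _ => by rw [map_mul, MvPolynomial.aeval_X]
    have hu : IsUnit (π (r s)) := by
      refine IsLocalRing.notMem_maximalIdeal.1 fun h => hne (hC _ ?_)
      have h' := sub_mem h (hXm _ (hX (r s)))
      rwa [map_sub, hπC, sub_sub_cancel] at h'
    have hs : (s : A) ∈ O := by
      rw [← Finset.add_sum_erase _ _ (Finset.mem_univ s), add_eq_zero_iff_eq_neg] at hsum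
      refine (Ideal.unit_mul_mem_iff_mem _ hu).1 ?_
      rw [show π (r s) * (s : A) = π (r s) * a s from rfl, hsum]
      refine neg_mem (Submodule.sum_mem _ fun i hi => Ideal.mul_mem_left _ _ (Ideal.subset_span ?_))
      exact Finset.mem_erase.2 ⟨fun e => (Finset.mem_erase.1 hi).1 (Subtype.ext e), i.2⟩
    have hle : m = O := by
      refine le_antisymm ?_ ?_
      · rw [← ha, hrange]
        refine Ideal.span_le.2 fun x hx => ?_
        rcases eq_or_ne x s.1 with rfl | hx'
        · exact hs
        · exact Ideal.subset_span (Finset.mem_erase.2 ⟨hx', hx⟩)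
      · rw [← ha, hrange]
        exact Ideal.span_mono (Finset.coe_subset.2 (Finset.erase_subset _ _))
    have h1 := Submodule.spanFinrank_span_le_ncard_of_finite (R := A) (G.erase s.1).finite_toSet
    rw [Set.ncard_coe_finset, show Submodule.span A ((G.erase s.1 : Finset A) : Set A) = m from hle.symm] at h1
    have := Finset.card_erase_lt_of_mem s.2
    omega
  have hKX : K ≤ X := hK.trans (Ideal.pow_le_self two_ne_zero)
  have hKne : ¬ K ≤ X * K := by
    intro h
    have hj : ∀ j, K ≤ X ^ j := fun j => by
      induction j with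
      | zero => simp
      | succ j ih => exact h.trans ((Ideal.mul_mono_right ih).trans (pow_succ' X j).ge)
    have hXtop : X ≠ ⊤ := fun e => (IsLocalRing.maximalIdeal.isMaximal A).ne_top (by
      show m = ⊤
      rw [← hmap, e, Ideal.map_top])
    have hK0 : K = ⊥ := eq_bot_iff.2 ((le_iInf hj).trans (Ideal.iInf_pow_eq_bot_of_isDomain X hXtop).le)
    apply hA
    rw [eq_bot_iff]
    intro x hx
    obtain ⟨p, rfl⟩ := hπ x
    have hpN : p ^ N ∈ K := by
      show π (p ^ N) = 0
      rw [map_pow, ← Ideal.mem_bot, ← hN]
      exact Ideal.pow_mem_pow hx N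
    rw [hK0, Ideal.mem_bot] at hpN
    rw [Ideal.mem_bot, eq_zero_of_pow_eq_zero hpN, map_zero]
  obtain ⟨W, ⟨hXW, hWK, hWne⟩, hWmax⟩ := exists_maximal_of_wellFoundedGT
    (fun W => X * K ≤ W ∧ W ≤ K ∧ ¬ K ≤ W) ⟨X * K, le_rfl, Ideal.mul_le_right, hKne⟩
  obtain ⟨z, hzK, hzW⟩ := SetLike.not_le_iff_exists.1 hWne
  have hspan : K ≤ W ⊔ Ideal.span {z} := by
    by_contra h
    exact hzW (hWmax ⟨hXW.trans le_sup_left, sup_le hWK ((Ideal.span_singleton_le_iff_mem _).2 hzK), h⟩
      le_sup_left (Ideal.mem_sup_right (Ideal.mem_span_singleton_self z)))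
  have hCz : ∀ c : k, MvPolynomial.C c * z ∈ W → c = 0 := fun c hc => by
    by_contra h
    refine hzW ?_
    have := W.mul_mem_left (MvPolynomial.C c⁻¹) hc
    rwa [← mul_assoc, ← map_mul, inv_mul_cancel₀ h, map_one, one_mul] at this
  have hkill : ∀ p q, π p ∈ m → q ∈ K → p * q ∈ W := fun p q hp hq => by
    have h0 : MvPolynomial.constantCoeff p = 0 := hC _ (by
      have h := sub_mem hp (hXm _ (hX p))
      rwa [map_sub, hπC, sub_sub_cancel] at h)
    exact hXW (Ideal.mul_mem_mul (by simpa [h0] using hX p) hq)
  have hbij : Function.Bijective ((IsLocalRing.residue A).comp (algebraMap k A)) := by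
    refine ⟨RingHom.injective _, fun x => ?_⟩
    obtain ⟨b, rfl⟩ := IsLocalRing.residue_surjective x
    obtain ⟨c, hc⟩ := hres b
    refine ⟨c, ?_⟩
    rw [RingHom.comp_apply, eq_comm, ← sub_eq_zero, ← map_sub, IsLocalRing.residue_eq_zero_iff]
    exact hc
  let e := RingEquiv.ofBijective _ hbij
  let E := MvPolynomial G k ⧸ W
  let pr : E →ₐ[k] A := Ideal.Quotient.liftₐ W π fun p hp => hWK hp
  let ι : IsLocalRing.ResidueField A →+ E :=
    { toFun := fun c => Ideal.Quotient.mk W (MvPolynomial.C (e.symm c) * z)
      map_zero' := by simp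
      map_add' := fun c d => by rw [map_add, map_add, add_mul, map_add] }
  let Y : Exal.Ext k A (IsLocalRing.ResidueField A) :=
    { E := E
      proj := pr
      incl := ι
      isExtension :=
        { proj_surjective := fun b => by obtain ⟨p, rfl⟩ := hπ b; exact ⟨Ideal.Quotient.mk W p, rfl⟩
          incl_injective := fun c d h => by
            have h' := Ideal.Quotient.eq.1 h
            rw [← sub_mul, ← map_sub, ← map_sub] at h'
            have := hCz _ h'
            rwa [e.symm.map_eq_zero_iff, sub_eq_zero] at this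
          exact := fun x => by
            constructor
            · obtain ⟨p, rfl⟩ := Ideal.Quotient.mk_surjective x
              intro hp
              obtain ⟨w, hw, u, hu, rfl⟩ := Submodule.mem_sup.1 (hspan (show p ∈ K from hp))
              obtain ⟨r, rfl⟩ := Ideal.mem_span_singleton'.1 hu
              refine ⟨e (MvPolynomial.constantCoeff r), ?_⟩
              show Ideal.Quotient.mk W (MvPolynomial.C (e.symm (e (MvPolynomial.constantCoeff r))) * z) = _
              rw [e.symm_apply_apply, Ideal.Quotient.eq]
              rw [show MvPolynomial.C (MvPolynomial.constantCoeff r) * z - (w + r * z) =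
                -(w + (r - MvPolynomial.C (MvPolynomial.constantCoeff r)) * z) by ring]
              exact neg_mem (add_mem hw (hXW (Ideal.mul_mem_mul (hX r) hzK)))
            · rintro ⟨c, rfl⟩
              show π (MvPolynomial.C (e.symm c) * z) = 0
              rw [map_mul, show π z = 0 from hzK, mul_zero]
          mul_incl := fun x c => by
            obtain ⟨p, rfl⟩ := Ideal.Quotient.mk_surjective x
            obtain ⟨b, hb⟩ := hres (π p)
            show Ideal.Quotient.mk W p * Ideal.Quotient.mk W (MvPolynomial.C (e.symm c) * z) =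
              Ideal.Quotient.mk W (MvPolynomial.C (e.symm (π p • c)) * z)
            have hsm : π p • c = e b * c := by
              rw [Algebra.smul_def, show (e b : IsLocalRing.ResidueField A) = IsLocalRing.residue A (algebraMap k A b) from rfl]
              congr 1
              rw [IsLocalRing.ResidueField.algebraMap_eq, ← sub_eq_zero, ← map_sub, IsLocalRing.residue_eq_zero_iff]
              exact hb
            rw [hsm, map_mul e.symm, e.symm_apply_apply, ← map_mul (Ideal.Quotient.mk W), Ideal.Quotient.eq, map_mul MvPolynomial.C,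
              show p * (MvPolynomial.C (e.symm c) * z) - MvPolynomial.C b * MvPolynomial.C (e.symm c) * z =
                MvPolynomial.C (e.symm c) * ((p - MvPolynomial.C b) * z) by ring]
            exact W.mul_mem_left _ (hkill _ _ (by rw [map_sub, hπC]; exact hb) hzK) } }
  refine ⟨Y, ?_⟩
  rintro ⟨s, hs⟩
  refine hWne fun p hp => ?_
  let φ₁ : MvPolynomial G k →ₐ[k] E := Ideal.Quotient.mkₐ k W
  let φ₂ : MvPolynomial G k →ₐ[k] E := AlgHom.comp s π
  have hdiff : ∀ q, ∃ u ∈ K, φ₂ q - φ₁ q = Ideal.Quotient.mk W u := fun q => by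
    obtain ⟨u, hu⟩ := Ideal.Quotient.mk_surjective (I := W) (φ₂ q - φ₁ q)
    refine ⟨u, ?_, hu.symm⟩
    show π u = 0
    calc π u = pr (φ₂ q - φ₁ q) := by rw [← hu]; rfl
      _ = pr (φ₂ q) - π q := by rw [map_sub]; rfl
      _ = 0 := by rw [show pr (φ₂ q) = π q from hs (π q), sub_self]
  have heq : ∀ q ∈ X ^ 2, φ₂ q = φ₁ q := by
    rw [pow_two]
    intro q hq
    induction hq using Submodule.mul_induction_on' with
    | mem_mul_mem q hq r hr =>
      obtain ⟨u, huK, hu⟩ := hdiff q
      obtain ⟨v, hvK, hv⟩ := hdiff r
      rw [sub_eq_iff_eq_add] at hu hv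
      rw [map_mul, map_mul, hu, hv]
      show (Ideal.Quotient.mk W u + Ideal.Quotient.mk W q) * (Ideal.Quotient.mk W v + Ideal.Quotient.mk W r) =
        Ideal.Quotient.mk W q * Ideal.Quotient.mk W r
      rw [← map_add, ← map_add, ← map_mul, ← map_mul, Ideal.Quotient.eq,
        show (u + q) * (v + r) - q * r = u * v + r * u + q * v by ring]
      exact add_mem (add_mem (hkill _ _ (hXm _ (hKX huK)) hvK) (hkill _ _ (hXm _ hr) huK)) (hkill _ _ (hXm _ hq) hvK)
    | add q _ r _ hq hr => rw [map_add, map_add, hq, hr]
  refine Ideal.Quotient.eq_zero_iff_mem.1 ?_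
  show φ₁ p = 0
  rw [← heq p (hK hp)]
  show s (π p) = 0
  rw [show π p = 0 from hp, map_zero]

end Groth.Agent.S11291
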