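import Groth.Statements.S11292
import Mathlib

set_option autoImplicit false
universe u
open Deform

namespace Groth.Agent.S11292

/-- Let k be an algebraically closed field, Λ and R local Noetherian k-algebras with residue field k,
and Λ → R a local k-algebra homomorphism. Then the relative obstruction space vanishes — every
Λ-extension of R by its residue field k is trivial — if and only if (a) the tangent map t_R → t_Λ is
surjective: every k-derivation of Λ into k extends along Λ → R to a k-derivation of R into k, and
(b) the obstruction map o(R) → o(Λ) given by inverse image is injective on classes: two k-extensions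
of R by k whose inverse images over Λ are equivalent are equivalent (R is less obstructed than Λ).
Here k is the residue field of R, a module over R, Λ and k through the structure maps. -/
theorem result
    {k : Type u} [Field k] [IsAlgClosed k]
    {Λ : Type u} [CommRing Λ] [Algebra k Λ] [IsLocalRing Λ] [IsNoetherianRing Λ]
    (hΛ : ∀ a : Λ, ∃ c : k, a - algebraMap k Λ c ∈ IsLocalRing.maximalIdeal Λ)
    {R : Type u} [CommRing R] [Algebra Λ R] [Algebra k R] [IsScalarTower k Λ R]
    [IsLocalRing R] [IsNoetherianRing R] [IsLocalHom (algebraMap Λ R)]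
    (hR : ∀ r : R, ∃ c : k, r - algebraMap k R c ∈ IsLocalRing.maximalIdeal R) :
    (∀ X : Exal.Ext Λ R (IsLocalRing.ResidueField R), X.IsTrivial) ↔
    ((∀ D : Derivation k Λ (IsLocalRing.ResidueField R),
        ∃ D' : Derivation k R (IsLocalRing.ResidueField R), ∀ a : Λ, D' (algebraMap Λ R a) = D a) ∧
     (∀ Y Y' : Exal.Ext k R (IsLocalRing.ResidueField R),
        Nonempty ((Y.pullback Λ).Equiv (Y'.pullback Λ)) → Nonempty (Y.Equiv Y'))) := by
  classical
  let κ := IsLocalRing.ResidueField R
  letI : Module Rᵐᵒᵖ κ := Exal.opModule R κ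
  haveI : IsCentralScalar R κ := Exal.isCentralScalar_opModule R κ
  constructor
  · intro htriv
    constructor
    · intro D
      obtain ⟨s, hs⟩ := htriv (Exal.Ext.ofDerivation (C := R) D)
      let f : R → TrivSqZeroExt R κ := fun r => s r
      have hfst : ∀ r, (f r).fst = r := hs
      have hadd : ∀ a b, f (a + b) = f a + f b := map_add s
      have hmul : ∀ a b, f (a * b) = f a * f b := map_mul s
      have hone : f 1 = 1 := map_one s
      have halg : ∀ a : Λ, (f (algebraMap Λ R a)).snd = D a := fun a => by
        rw [show f (algebraMap Λ R a) = TrivSqZeroExt.inl (algebraMap Λ R a) + TrivSqZeroExt.inr (D a) from s.commutes a,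
          TrivSqZeroExt.snd_add, TrivSqZeroExt.snd_inl, TrivSqZeroExt.snd_inr, zero_add]
      have hk : ∀ c : k, (f (algebraMap k R c)).snd = 0 := fun c => by
        rw [IsScalarTower.algebraMap_apply k Λ R, halg, D.map_algebraMap]
      refine ⟨{ toFun := fun r => (f r).snd
                map_add' := fun a b => by rw [hadd, TrivSqZeroExt.snd_add]
                map_smul' := fun c a => by
                  rw [Algebra.smul_def, hmul, TrivSqZeroExt.snd_mul, op_smul_eq_smul, hfst, hfst, hk, smul_zero,
                    add_zero, RingHom.id_apply, algebraMap_smul]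
                map_one_eq_zero' := by
                  show (f 1).snd = 0
                  rw [hone, TrivSqZeroExt.snd_one]
                leibniz' := fun a b => by
                  show (f (a * b)).snd = a • (f b).snd + b • (f a).snd
                  rw [hmul, TrivSqZeroExt.snd_mul, op_smul_eq_smul, hfst, hfst] }, halg⟩
    · intro Y Y' ⟨φ⟩
      let S : Subalgebra k (Y.E × Y'.E) :=
        AlgHom.equalizer (Y.proj.comp (AlgHom.fst k Y.E Y'.E)) (Y'.proj.comp (AlgHom.snd k Y.E Y'.E))
      have hS : ∀ p : S, Y.proj p.1.1 = Y'.proj p.1.2 := fun p => p.2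
      let K : Ideal S :=
        { carrier := {p | ∃ z : κ, p.1.1 = Y.incl z ∧ p.1.2 = Y'.incl z}
          add_mem' := fun {p q} ⟨z, h1, h2⟩ ⟨w, h3, h4⟩ => ⟨z + w, by
            show p.1.1 + q.1.1 = _
            rw [h1, h3, map_add], by
            show p.1.2 + q.1.2 = _
            rw [h2, h4, map_add]⟩
          zero_mem' := ⟨0, (map_zero _).symm, (map_zero _).symm⟩
          smul_mem' := fun p q ⟨z, h1, h2⟩ => ⟨Y.proj p.1.1 • z, by
            show p.1.1 * q.1.1 = _
            rw [h1, Y.isExtension.mul_incl], by
            show p.1.2 * q.1.2 = _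
            rw [h2, Y'.isExtension.mul_incl, hS]⟩ }
      let E := S ⧸ K
      let mkS : ∀ (x : Y.E) (x' : Y'.E), Y.proj x = Y'.proj x' → E := fun x x' h => Ideal.Quotient.mk K ⟨(x, x'), h⟩
      choose ℓ hℓ using fun a : Λ => Y.isExtension.proj_surjective (algebraMap Λ R a)
      let pb : ∀ (x : Y.E) (a : Λ), Y.proj x = algebraMap Λ R a → (Y.pullback Λ).E := fun x a h => ⟨(x, a), h⟩
      let τ : (Y.pullback Λ).E → Y'.E := fun p => (φ.toAlgEquiv p).1.1
      have hτ : ∀ p : (Y.pullback Λ).E, Y'.proj (τ p) = Y.proj p.1.1 := fun p => by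
        rw [show Y'.proj (τ p) = algebraMap Λ R ((φ.toAlgEquiv p).1.2) from (φ.toAlgEquiv p).2,
          show (φ.toAlgEquiv p).1.2 = p.1.2 from φ.proj_apply p]
        exact p.2.symm
      let Θ : (Y.pullback Λ).E →+* E := (Ideal.Quotient.mk K).comp
        { toFun := fun p => ⟨(p.1.1, τ p), (hτ p).symm⟩
          map_one' := Subtype.ext (Prod.ext rfl (by show τ 1 = 1; simp only [τ, map_one]; rfl))
          map_mul' := fun p q => Subtype.ext (Prod.ext rfl (by show τ (p * q) = τ p * τ q; simp only [τ, map_mul]; rfl))
          map_zero' := Subtype.ext (Prod.ext rfl (by show τ 0 = 0; simp only [τ, map_zero]; rfl))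
          map_add' := fun p q => Subtype.ext (Prod.ext rfl (by show τ (p + q) = τ p + τ q; simp only [τ, map_add]; rfl)) }
      have hΘker : ∀ z, Θ ((Y.pullback Λ).incl z) = 0 := fun z => by
        refine Ideal.Quotient.eq_zero_iff_mem.2 ⟨z, rfl, ?_⟩
        show τ ((Y.pullback Λ).incl z) = Y'.incl z
        simp only [τ, φ.apply_incl]
        rfl
      let qΛ := Ideal.quotientKerAlgEquivOfSurjective (f := (Y.pullback Λ).proj) (Y.pullback Λ).isExtension.proj_surjective
      let θ := Ideal.Quotient.lift (RingHom.ker (Y.pullback Λ).proj) Θ fun p hp => by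
        obtain ⟨z, rfl⟩ := ((Y.pullback Λ).isExtension.exact p).1 hp
        exact hΘker z
      let lam : Λ →+* E := θ.comp qΛ.symm.toRingEquiv.toRingHom
      have hlam : ∀ p : (Y.pullback Λ).E, lam p.1.2 = Θ p := fun p => by
        show θ (qΛ.symm ((Y.pullback Λ).proj p)) = Θ p
        rw [show qΛ.symm ((Y.pullback Λ).proj p) = Ideal.Quotient.mk _ p from qΛ.symm_apply_eq.2 rfl]
        rfl
      letI : Algebra Λ E := lam.toAlgebra' fun c x => mul_comm (lam c) x
      let pr₀ : E →+* R := Ideal.Quotient.lift K
        { toFun := fun p : S => Y.proj p.1.1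
          map_one' := map_one Y.proj
          map_mul' := fun p q => map_mul Y.proj p.1.1 q.1.1
          map_zero' := map_zero Y.proj
          map_add' := fun p q => map_add Y.proj p.1.1 q.1.1 }
        fun p hp => by
          obtain ⟨z, h1, -⟩ := hp
          show Y.proj p.1.1 = 0
          rw [h1, (Y.isExtension.exact _).2 ⟨z, rfl⟩]
      have hι : ∀ z, Y.proj (Y.incl z) = Y'.proj 0 := fun z => by
        rw [map_zero, (Y.isExtension.exact _).2 ⟨z, rfl⟩]
      let ι : κ →+ E :=
        { toFun := fun z => mkS (Y.incl z) 0 (hι z)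
          map_zero' := by
            refine Ideal.Quotient.eq_zero_iff_mem.2 ⟨0, rfl, (map_zero _).symm⟩
          map_add' := fun z w => by
            rw [← map_add]
            exact congrArg (Ideal.Quotient.mk K) (Subtype.ext (Prod.ext (map_add _ _ _) (add_zero 0).symm)) }
      have hpr : ∀ a, pr₀ (lam a) = algebraMap Λ R a := fun a => by
        rw [show lam a = lam (pb (ℓ a) a (hℓ a)).1.2 from rfl, hlam]
        exact hℓ a
      let prA : E →ₐ[Λ] R := { pr₀ with commutes' := hpr }
      let W : Exal.Ext Λ R κ :=
        { E := E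
          proj := prA
          incl := ι
          isExtension :=
            { proj_surjective := fun r => by
                obtain ⟨x, hx⟩ := Y.isExtension.proj_surjective r
                obtain ⟨x', hx'⟩ := Y'.isExtension.proj_surjective r
                exact ⟨mkS x x' (hx.trans hx'.symm), hx⟩
              incl_injective := (injective_iff_map_eq_zero _).2 fun z hz => by
                obtain ⟨w, h1, h2⟩ := Ideal.Quotient.eq_zero_iff_mem.1 hz
                have : w = 0 := Y'.isExtension.incl_injective (h2.symm.trans (map_zero Y'.incl).symm)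
                exact Y.isExtension.incl_injective (h1.trans (by rw [this]))
              exact := fun x => by
                constructor
                · obtain ⟨p, rfl⟩ := Ideal.Quotient.mk_surjective x
                  intro hx
                  have hx0 : Y.proj p.1.1 = 0 := hx
                  obtain ⟨z, hz⟩ := (Y.isExtension.exact _).1 hx0
                  obtain ⟨w, hw⟩ := (Y'.isExtension.exact _).1 ((hS p).symm.trans hx0)
                  refine ⟨z - w, Ideal.Quotient.eq.2 ⟨-w, ?_, ?_⟩⟩
                  · show Y.incl (z - w) - p.1.1 = _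
                    rw [← hz, map_sub, map_neg]; abel
                  · show (0 : Y'.E) - p.1.2 = _
                    rw [← hw, map_neg, zero_sub]
                · rintro ⟨z, rfl⟩
                  exact (Y.isExtension.exact _).2 ⟨z, rfl⟩
              mul_incl := fun x z => by
                obtain ⟨p, rfl⟩ := Ideal.Quotient.mk_surjective x
                show Ideal.Quotient.mk K p * mkS (Y.incl z) 0 (hι z) = mkS (Y.incl (Y.proj p.1.1 • z)) 0 (hι _)
                simp only [mkS, ← map_mul]
                exact congrArg _ (Subtype.ext (Prod.ext (Y.isExtension.mul_incl _ _) (mul_zero _))) } }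
      obtain ⟨σ₀, hσ₀⟩ := htriv W
      let σ : R →ₐ[Λ] E := σ₀
      have hex : ∀ y : Y.E, ∃ y' : Y'.E, ∃ h : Y.proj y = Y'.proj y', mkS y y' h = σ (Y.proj y) := by
        intro y
        obtain ⟨p, hp⟩ := Ideal.Quotient.mk_surjective (σ (Y.proj y))
        have hp1 : Y.proj p.1.1 = Y.proj y :=
          (congrArg pr₀ hp).trans (show prA (σ (Y.proj y)) = Y.proj y from hσ₀ (Y.proj y))
        obtain ⟨z, hz⟩ := (Y.isExtension.exact (y - p.1.1)).1 (by rw [map_sub, hp1, sub_self])
        refine ⟨p.1.2 + Y'.incl z, by rw [map_add, (Y'.isExtension.exact _).2 ⟨z, rfl⟩, add_zero, ← hS p, hp1], ?_⟩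
        rw [← hp]
        refine Ideal.Quotient.eq.2 ⟨z, hz.symm, ?_⟩
        show p.1.2 + Y'.incl z - p.1.2 = Y'.incl z
        rw [add_sub_cancel_left]
      choose G hG1 hG2 using hex
      have spec : ∀ (y : Y.E) (y' : Y'.E) (h : Y.proj y = Y'.proj y') (r : R), Y.proj y = r →
          mkS y y' h = σ r → G y = y' := by
        intro y y' h r hr hy
        subst hr
        obtain ⟨z, h1, h2⟩ := Ideal.Quotient.eq.1 ((hG2 y).trans hy.symm)
        have hz : z = 0 := Y.isExtension.incl_injective (h1.symm.trans (by
          show y - y = Y.incl 0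
          rw [sub_self, map_zero]))
        rw [hz, map_zero] at h2
        exact sub_eq_zero.1 h2
      have hGincl : ∀ z, G (Y.incl z) = Y'.incl z := fun z => by
        refine spec _ _ (by rw [(Y.isExtension.exact _).2 ⟨z, rfl⟩, (Y'.isExtension.exact _).2 ⟨z, rfl⟩]) 0
          ((Y.isExtension.exact _).2 ⟨z, rfl⟩) ?_
        rw [map_zero]
        exact Ideal.Quotient.eq_zero_iff_mem.2 ⟨z, rfl, rfl⟩
      let Gh : Y.E →ₐ[k] Y'.E :=
        { toFun := G
          map_one' := spec 1 1 (by rw [map_one, map_one]) 1 (map_one _) σ.toRingHom.map_one.symm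
          map_mul' := fun a b => spec _ _ (by rw [map_mul, map_mul, hG1, hG1]) _ (map_mul _ a b)
            ((congrArg₂ (· * ·) (hG2 a) (hG2 b)).trans (σ.toRingHom.map_mul _ _).symm)
          map_zero' := spec 0 0 (by rw [map_zero, map_zero]) 0 (map_zero _) σ.toRingHom.map_zero.symm
          map_add' := fun a b => spec _ _ (by rw [map_add, map_add, hG1, hG1]) _ (map_add _ a b)
            ((congrArg₂ (· + ·) (hG2 a) (hG2 b)).trans (σ.toRingHom.map_add _ _).symm)
          commutes' := fun c => spec _ _ (by rw [AlgHom.commutes, AlgHom.commutes]) _ (AlgHom.commutes _ c) (by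
            conv_rhs => rw [IsScalarTower.algebraMap_apply k Λ R, AlgHom.commutes]
            show _ = lam (algebraMap k Λ c)
            rw [show algebraMap k Λ c = (algebraMap k (Y.pullback Λ).E c).1.2 from rfl, hlam]
            refine congrArg (Ideal.Quotient.mk K) (Subtype.ext (Prod.ext rfl ?_))
            show algebraMap k Y'.E c = τ (algebraMap k _ c)
            simp only [τ, AlgEquiv.commutes]
            rfl) }
      have hGb : Function.Bijective Gh := by
        refine ⟨(injective_iff_map_eq_zero _).2 fun y hy => ?_, fun y' => ?_⟩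
        · have h0 : Y.proj y = 0 := by rw [hG1, show G y = 0 from hy, map_zero]
          obtain ⟨z, rfl⟩ := (Y.isExtension.exact y).1 h0
          rw [Y'.isExtension.incl_injective ((hGincl z).symm.trans (hy.trans (map_zero Y'.incl).symm)), map_zero]
        · obtain ⟨y, hy⟩ := Y.isExtension.proj_surjective (Y'.proj y')
          obtain ⟨z, hz⟩ := (Y'.isExtension.exact (y' - G y)).1 (by rw [map_sub, ← hG1, hy, sub_self])
          refine ⟨y + Y.incl z, ?_⟩
          rw [map_add]
          show G y + G (Y.incl z) = y'
          rw [hGincl, hz, add_sub_cancel]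
      exact ⟨{ toAlgEquiv := AlgEquiv.ofBijective Gh hGb, proj_apply := fun y => (hG1 y).symm, apply_incl := hGincl }⟩
  · rintro ⟨hder, hinj⟩ X
    let Y : Exal.Ext k R κ := X.restrictBase k
    let T : Exal.Ext k R κ := Exal.Ext.trivial k R κ
    have hXi : ∀ z, X.proj (X.incl z) = 0 := fun z => (X.isExtension.exact _).2 ⟨z, rfl⟩
    have hmem : ∀ (z : κ) (a : Λ), X.proj (algebraMap Λ X.E a + X.incl z) = algebraMap Λ R a := fun z a => by
      rw [map_add, AlgHom.commutes, hXi, add_zero]
    have hfst : ∀ p : (T.pullback Λ).E, (show TrivSqZeroExt R κ from p.1.1).fst = algebraMap Λ R p.1.2 := fun p => p.2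
    let G : (T.pullback Λ).E → (Y.pullback Λ).E := fun p =>
      ⟨((algebraMap Λ X.E p.1.2 + X.incl (show TrivSqZeroExt R κ from p.1.1).snd : X.E), p.1.2), hmem _ _⟩
    have hGmul : ∀ p q, G (p * q) = G p * G q := fun p q => by
      refine Subtype.ext (Prod.ext ?_ rfl)
      show algebraMap Λ X.E (p.1.2 * q.1.2) + X.incl ((show TrivSqZeroExt R κ from p.1.1) * (show TrivSqZeroExt R κ from q.1.1)).snd =
        (algebraMap Λ X.E p.1.2 + X.incl (show TrivSqZeroExt R κ from p.1.1).snd) *
          (algebraMap Λ X.E q.1.2 + X.incl (show TrivSqZeroExt R κ from q.1.1).snd)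
      generalize hu : (show TrivSqZeroExt R κ from p.1.1) = u
      generalize hv : (show TrivSqZeroExt R κ from q.1.1) = v
      have hu' : u.fst = algebraMap Λ R p.1.2 := hu ▸ hfst p
      have hv' : v.fst = algebraMap Λ R q.1.2 := hv ▸ hfst q
      rw [TrivSqZeroExt.snd_mul, op_smul_eq_smul, hu', hv', map_add, map_mul, mul_add, add_mul, add_mul,
        X.isExtension.mul_incl, AlgHom.commutes, X.isExtension.mul_incl (X.incl u.snd) v.snd, hXi, zero_smul, map_zero,
        mul_comm (X.incl u.snd) (algebraMap Λ X.E q.1.2), X.isExtension.mul_incl (algebraMap Λ X.E q.1.2) u.snd,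
        AlgHom.commutes]
      abel
    have hGone : G 1 = 1 := Subtype.ext (Prod.ext (by
      show algebraMap Λ X.E 1 + X.incl (1 : TrivSqZeroExt R κ).snd = 1
      rw [map_one, TrivSqZeroExt.snd_one, map_zero, add_zero]) rfl)
    have hGadd : ∀ p q, G (p + q) = G p + G q := fun p q => by
      refine Subtype.ext (Prod.ext ?_ rfl)
      show algebraMap Λ X.E (p.1.2 + q.1.2) + X.incl ((show TrivSqZeroExt R κ from p.1.1) + (show TrivSqZeroExt R κ from q.1.1)).snd =
        (algebraMap Λ X.E p.1.2 + X.incl (show TrivSqZeroExt R κ from p.1.1).snd) +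
          (algebraMap Λ X.E q.1.2 + X.incl (show TrivSqZeroExt R κ from q.1.1).snd)
      rw [TrivSqZeroExt.snd_add, map_add, map_add]
      abel
    let Gh : (T.pullback Λ).E →ₐ[k] (Y.pullback Λ).E :=
      { toFun := G
        map_one' := hGone
        map_mul' := hGmul
        map_zero' := Subtype.ext (Prod.ext (by
          show algebraMap Λ X.E 0 + X.incl (0 : TrivSqZeroExt R κ).snd = 0
          rw [map_zero, TrivSqZeroExt.snd_zero, map_zero, add_zero]) rfl)
        map_add' := hGadd
        commutes' := fun c => Subtype.ext (Prod.ext (by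
          show algebraMap Λ X.E (algebraMap k Λ c) + X.incl (TrivSqZeroExt.inl (algebraMap k R c) : TrivSqZeroExt R κ).snd =
            algebraMap Λ X.E (algebraMap k Λ c)
          rw [TrivSqZeroExt.snd_inl, map_zero, add_zero]) rfl) }
    have hGb : Function.Bijective Gh := by
      refine ⟨fun p q hpq => ?_, fun p => ?_⟩
      · have h1 : p.1.2 = q.1.2 := congrArg (fun x : (Y.pullback Λ).E => x.1.2) hpq
        have h2 : algebraMap Λ X.E p.1.2 + X.incl (show TrivSqZeroExt R κ from p.1.1).snd =
            algebraMap Λ X.E q.1.2 + X.incl (show TrivSqZeroExt R κ from q.1.1).snd :=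
          congrArg (fun x : (Y.pullback Λ).E => x.1.1) hpq
        rw [h1] at h2
        refine Subtype.ext (Prod.ext (TrivSqZeroExt.ext ?_ (X.isExtension.incl_injective (add_left_cancel h2))) h1)
        exact (hfst p).trans ((congrArg (algebraMap Λ R) h1).trans (hfst q).symm)
      · obtain ⟨⟨x, a⟩, hp⟩ := p
        let x' : X.E := x
        have hx : X.proj x' = algebraMap Λ R a := hp
        obtain ⟨z, hz⟩ := (X.isExtension.exact (x' - algebraMap Λ X.E a)).1 (by
          rw [map_sub, AlgHom.commutes, hx, sub_self])
        refine ⟨⟨((TrivSqZeroExt.inl (algebraMap Λ R a) + TrivSqZeroExt.inr z : TrivSqZeroExt R κ), a), ?_⟩, ?_⟩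
        · show (TrivSqZeroExt.inl (algebraMap Λ R a) + TrivSqZeroExt.inr z : TrivSqZeroExt R κ).fst = algebraMap Λ R a
          simp
        · refine Subtype.ext (Prod.ext ?_ rfl)
          show algebraMap Λ X.E a + X.incl (TrivSqZeroExt.inl (algebraMap Λ R a) + TrivSqZeroExt.inr z : TrivSqZeroExt R κ).snd = x'
          rw [TrivSqZeroExt.snd_add, TrivSqZeroExt.snd_inl, TrivSqZeroExt.snd_inr, zero_add, hz, add_sub_cancel]
    obtain ⟨e⟩ := hinj T Y ⟨{
      toAlgEquiv := AlgEquiv.ofBijective Gh hGb
      proj_apply := fun p => rfl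
      apply_incl := fun z => Subtype.ext (Prod.ext (by
        show algebraMap Λ X.E 0 + X.incl (TrivSqZeroExt.inr z : TrivSqZeroExt R κ).snd = X.incl z
        rw [map_zero, TrivSqZeroExt.snd_inr, zero_add]) rfl) }⟩
    let s : R → X.E := fun r => e.toAlgEquiv (show T.E from (TrivSqZeroExt.inl r : TrivSqZeroExt R κ))
    have hs : ∀ r, X.proj (s r) = r := fun r => e.proj_apply _
    have hs1 : s 1 = 1 := by
      show e.toAlgEquiv (show T.E from (TrivSqZeroExt.inl 1 : TrivSqZeroExt R κ)) = _
      rw [TrivSqZeroExt.inl_one]; exact map_one e.toAlgEquiv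
    have hsm : ∀ a b, s (a * b) = s a * s b := fun a b => by
      show e.toAlgEquiv (show T.E from (TrivSqZeroExt.inl (a * b) : TrivSqZeroExt R κ)) = _
      rw [TrivSqZeroExt.inl_mul]; exact map_mul e.toAlgEquiv _ _
    have hsa : ∀ a b, s (a + b) = s a + s b := fun a b => by
      show e.toAlgEquiv (show T.E from (TrivSqZeroExt.inl (a + b) : TrivSqZeroExt R κ)) = _
      rw [TrivSqZeroExt.inl_add]; exact map_add e.toAlgEquiv _ _
    have hsk : ∀ c : k, s (algebraMap k R c) = algebraMap Λ X.E (algebraMap k Λ c) := fun c =>
      e.toAlgEquiv.commutes c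
    have hd : ∀ a : Λ, ∃ z, X.incl z = algebraMap Λ X.E a - s (algebraMap Λ R a) := fun a =>
      (X.isExtension.exact _).1 (by rw [map_sub, AlgHom.commutes, hs, sub_self])
    choose δ hδ using hd
    have hδadd : ∀ a b, δ (a + b) = δ a + δ b := fun a b => X.isExtension.incl_injective (by
      rw [map_add, hδ, hδ, hδ, map_add, map_add, hsa]; abel)
    have hδmul : ∀ a b : Λ, δ (a * b) = a • δ b + b • δ a := fun a b => X.isExtension.incl_injective (by
      rw [map_add, hδ, show a • δ b = X.proj (algebraMap Λ X.E a) • δ b by rw [AlgHom.commutes, algebraMap_smul],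
        show b • δ a = X.proj (s (algebraMap Λ R b)) • δ a by rw [hs, algebraMap_smul],
        ← X.isExtension.mul_incl, ← X.isExtension.mul_incl, hδ, hδ, map_mul, map_mul, hsm]
      ring)
    have hδk : ∀ c : k, δ (algebraMap k Λ c) = 0 := fun c => X.isExtension.incl_injective (by
      rw [hδ, map_zero, ← IsScalarTower.algebraMap_apply k Λ R, hsk, sub_self])
    let D : Derivation k Λ κ :=
      { toFun := δ
        map_add' := hδadd
        map_smul' := fun c a => by
          rw [Algebra.smul_def, hδmul, hδk, smul_zero, add_zero, RingHom.id_apply, algebraMap_smul]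
        map_one_eq_zero' := X.isExtension.incl_injective (by
          show X.incl (δ 1) = _
          rw [hδ, map_zero, map_one, map_one, hs1, sub_self])
        leibniz' := hδmul }
    obtain ⟨D', hD'⟩ := hder D
    refine ⟨{ toFun := fun r => s r + X.incl (D' r)
              map_one' := by rw [hs1, D'.map_one_eq_zero, map_zero, add_zero]
              map_mul' := fun a b => by
                rw [hsm, D'.leibniz, map_add, add_mul, mul_add, mul_add,
                  show a • D' b = X.proj (s a) • D' b by rw [hs], show b • D' a = X.proj (s b) • D' a by rw [hs],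
                  ← X.isExtension.mul_incl, ← X.isExtension.mul_incl, X.isExtension.mul_incl (X.incl (D' a)) (D' b),
                  hXi, zero_smul, map_zero]
                ring
              map_zero' := by
                rw [map_zero, map_zero, add_zero]
                have h := hsa 0 0
                rw [add_zero] at h
                exact left_eq_add.1 h
              map_add' := fun a b => by rw [hsa, map_add, map_add]; abel
              commutes' := fun a => by
                rw [hD' a, show D a = δ a from rfl, hδ, add_sub_cancel] },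
      fun r => by
        show X.proj (s r + X.incl (D' r)) = r
        rw [map_add, hXi, hs, add_zero]⟩

end Groth.Agent.S11292
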