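import Groth.Statements.S11294


set_option autoImplicit false
universe u
open Deform

namespace Groth.Agent.S11294

open TrivSqZeroExt in
/-- Let P be a commutative ring, J an ideal, and P[ε] the ring of dual numbers over P. First-order
embedded deformations of Spec(P/J) in Spec P, namely ideals J' of P[ε] lifting J (the image of J'
under ε ↦ 0 is J) with P[ε]/J' flat over the dual numbers — flatness being replaced by the condition
that every element of P[ε]/J' annihilated by ε is a multiple of ε (equivalent to flatness over k[ε]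
when P is an algebra over a field k) — are in canonical bijection with Hom_P(J, P/J) =
Hom_{P/J}(J/J^2, P/J), the normal module: to φ corresponds the ideal of all a + εb with a in J and b
reducing to φ(a) modulo J. The first clause says this rule defines exactly one ideal for each φ; the
second says an ideal J' is a flat lift of J precisely when its membership is given by this rule for
some φ. (The published statement is the global one, identifying first-order deformations of a closed
subscheme X of an algebraic scheme Y with H^0(X, N_{X/Y}); this row is the affine computation in its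
proof, valid for every commutative ring P.) -/
theorem result (P : Type u) [CommRing P] (J : Ideal P) :
    (∀ φ : J →ₗ[P] (P ⧸ J), ∃! J' : Ideal (DualNumber P),
        ∀ a b : P, (inl a + inr b : DualNumber P) ∈ J' ↔ ∃ h : a ∈ J, Ideal.Quotient.mk J b = φ ⟨a, h⟩) ∧
    (∀ J' : Ideal (DualNumber P),
      (J'.map (TrivSqZeroExt.fstHom P P P) = J ∧
        ∀ m : DualNumber P ⧸ J', Ideal.Quotient.mk J' DualNumber.eps * m = 0 →
          ∃ m' : DualNumber P ⧸ J', m = Ideal.Quotient.mk J' DualNumber.eps * m') ↔
      ∃ φ : J →ₗ[P] (P ⧸ J), ∀ a b : P,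
        (inl a + inr b : DualNumber P) ∈ J' ↔ ∃ h : a ∈ J, Ideal.Quotient.mk J b = φ ⟨a, h⟩) := by
  have hdec : ∀ z : DualNumber P, (inl z.fst + inr z.snd : DualNumber P) = z := fun z => by
    ext <;> simp
  constructor
  · intro φ
    refine ⟨{ carrier := {z | ∃ h : z.fst ∈ J, Ideal.Quotient.mk J z.snd = φ ⟨z.fst, h⟩}
              add_mem' := ?_, zero_mem' := ?_, smul_mem' := ?_ }, fun a b => ?_, ?_⟩
    · rintro z w ⟨h, hh⟩ ⟨h', hh'⟩
      refine ⟨by simpa using J.add_mem h h', ?_⟩
      rw [TrivSqZeroExt.snd_add, map_add, hh, hh', ← map_add]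
      exact congrArg φ (Subtype.ext (by simp))
    · exact ⟨by simp, by rw [TrivSqZeroExt.snd_zero, map_zero, eq_comm]; exact (congrArg φ (Subtype.ext (by simp))).trans (map_zero φ)⟩
    · rintro c z ⟨h, hh⟩
      refine ⟨by simpa using J.mul_mem_left c.fst h, ?_⟩
      have hz : Ideal.Quotient.mk J (c.snd * z.fst) = 0 :=
        Ideal.Quotient.eq_zero_iff_mem.2 (J.mul_mem_left _ h)
      show Ideal.Quotient.mk J (c * z).snd = _
      rw [TrivSqZeroExt.snd_mul]
      simp only [smul_eq_mul, op_smul_eq_mul, MulOpposite.smul_eq_mul_unop, MulOpposite.unop_op]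
      rw [map_add, hz, add_zero, map_mul, hh]
      refine (map_smul φ c.fst ⟨z.fst, h⟩).symm.trans ?_
      exact congrArg φ (Subtype.ext (TrivSqZeroExt.fst_mul c z).symm)
    · show (∃ h : _ ∈ J, _) ↔ _
      simp
    · intro J' hJ'
      ext z
      rw [← hdec z, hJ']
      show _ ↔ ∃ h : _ ∈ J, _
      simp
  · intro J'
    constructor
    · rintro ⟨h1, h2⟩
      have hJ : ∀ a ∈ J, ∃ b : P, (inl a + inr b : DualNumber P) ∈ J' := by
        intro a ha
        rw [← h1, Ideal.mem_map_iff_of_surjective _ (fun a => ⟨inl a, rfl⟩)] at ha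
        obtain ⟨z, hz, hz'⟩ := ha
        exact ⟨z.snd, by rw [show a = z.fst from hz'.symm, hdec]; exact hz⟩
      have hfst : ∀ z ∈ J', z.fst ∈ J := fun z hz => h1 ▸ Ideal.mem_map_of_mem _ hz
      have h0 : ∀ c : P, (inr c : DualNumber P) ∈ J' → c ∈ J := by
        intro c hc
        obtain ⟨m', hm'⟩ := h2 (Ideal.Quotient.mk J' (inl c)) (by
          rw [← map_mul, Ideal.Quotient.eq_zero_iff_mem]
          exact (show DualNumber.eps * inl c = (inr c : DualNumber P) by ext <;> simp) ▸ hc)
        obtain ⟨w, rfl⟩ := Ideal.Quotient.mk_surjective m'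
        rw [← map_mul, Ideal.Quotient.eq] at hm'
        simpa using hfst _ hm'
      have hinr : ∀ c ∈ J, (inr c : DualNumber P) ∈ J' := by
        intro c hc
        obtain ⟨b, hb⟩ := hJ c hc
        convert J'.mul_mem_left DualNumber.eps hb using 1
        ext <;> simp
      choose g hg using fun x : J => hJ x x.2
      have key : ∀ (x : J) (y : P), (inl (x : P) + inr y : DualNumber P) ∈ J' →
          Ideal.Quotient.mk J y = Ideal.Quotient.mk J (g x) := by
        intro x y hy
        refine Ideal.Quotient.eq.2 (h0 _ ?_)
        convert J'.sub_mem hy (hg x) using 1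
        ext <;> simp
      refine ⟨{ toFun := fun x => Ideal.Quotient.mk J (g x), map_add' := ?_, map_smul' := ?_ }, ?_⟩
      · intro x x'
        rw [← map_add]
        refine (key _ _ ?_).symm
        convert J'.add_mem (hg x) (hg x') using 1
        ext <;> simp
      · intro r x
        refine ((key (r • x) (r * g x) ?_).symm.trans ?_)
        · convert J'.mul_mem_left (inl r) (hg x) using 1
          ext <;> simp
        · simp [Algebra.smul_def]
          rfl
      · intro a b
        constructor
        · intro hab
          exact ⟨by simpa using hfst _ hab, key ⟨a, by simpa using hfst _ hab⟩ b hab⟩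
        · rintro ⟨h, hh⟩
          convert J'.add_mem (hg ⟨a, h⟩) (hinr _ (Ideal.Quotient.eq.1 hh)) using 1
          ext <;> simp
    · rintro ⟨φ, hφ⟩
      have hmem : ∀ z : DualNumber P, z ∈ J' ↔ ∃ h : z.fst ∈ J, Ideal.Quotient.mk J z.snd = φ ⟨z.fst, h⟩ := fun z => by
        conv_lhs => rw [← hdec z]
        exact hφ z.fst z.snd
      refine ⟨?_, ?_⟩
      · ext a
        rw [Ideal.mem_map_iff_of_surjective _ (fun a => ⟨inl a, rfl⟩)]
        constructor
        · rintro ⟨z, hz, rfl⟩
          exact ((hmem z).1 hz).1
        · intro ha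
          obtain ⟨b, hb⟩ := Ideal.Quotient.mk_surjective (φ ⟨a, ha⟩)
          exact ⟨inl a + inr b, (hφ a b).2 ⟨ha, hb⟩, by simp⟩
      · intro m hm
        obtain ⟨z, rfl⟩ := Ideal.Quotient.mk_surjective m
        rw [← map_mul, Ideal.Quotient.eq_zero_iff_mem,
          show DualNumber.eps * z = (inl 0 + inr z.fst : DualNumber P) by ext <;> simp, hφ] at hm
        obtain ⟨h, hh⟩ := hm
        have hz : z.fst ∈ J := by
          rw [← Ideal.Quotient.eq_zero_iff_mem, hh]
          exact map_zero φ
        obtain ⟨b, hb⟩ := Ideal.Quotient.mk_surjective (φ ⟨z.fst, hz⟩)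
        refine ⟨Ideal.Quotient.mk J' (inl (z.snd - b)), ?_⟩
        rw [← map_mul, Ideal.Quotient.eq]
        convert (hφ z.fst b).2 ⟨hz, hb⟩ using 1
        ext <;> simp

end Groth.Agent.S11294
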