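import Groth.Statements.S11296
import Groth.Agent.CAlgH3.PSheafH1
-- import your own Groth.Agent.* helpers here

set_option autoImplicit false
set_option backward.isDefEq.respectTransparency.types false
universe u
open CategoryTheory CategoryTheory.Limits AlgebraicGeometry
open Variety

namespace Groth.Agent.S11296

/-- Let k be an algebraically closed field, F a coherent module on P^n_k, and 0 → F(-1) → F → G → 0 an
exact sequence, G being the cokernel of a monomorphism ι : F ⊗ O(-1) → F; write F(j) = F ⊗ O(j) and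
h^1 for dim_k H^1. If G is m-regular then: (i) H^i(P^n, F(j)) = 0 for all i ≥ 2 and j ≥ m - i; (ii)
h^1(F(j)) ≤ h^1(F(j-1)) for all j ≥ m - 1; (iii) H^1(P^n, F(j)) = 0 for all j ≥ m - 1 + h^1(F(m-1));
in particular F is (m + h^1(F(m-1)))-regular. -/
theorem result (k : Type u) [Field k] [IsAlgClosed k] (n : ℕ)
    (F : (CohB1.ProjSpace n k).Modules) (hF : Coh.IsCoh F)
    (ι : CohB1.tensorMod F (Twist.twistProjSpace n k (-1)) ⟶ F) [Mono ι] (m : ℤ)
    (hG : Curv2.IsMRegular k n (cokernel ι) m) :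
    (∀ (i : ℕ) (j : ℤ), 2 ≤ i → m - i ≤ j →
        Subsingleton (Coh.HH (CohB1.ProjSpace n k) (CohB1.tensorMod F (Twist.twistProjSpace n k j)) i)) ∧
    (∀ j : ℤ, m - 1 ≤ j →
        Module.finrank k (Coh.HH (CohB1.ProjSpace n k) (CohB1.tensorMod F (Twist.twistProjSpace n k j)) 1) ≤
          Module.finrank k (Coh.HH (CohB1.ProjSpace n k) (CohB1.tensorMod F (Twist.twistProjSpace n k (j - 1))) 1)) ∧
    (∀ j : ℤ, m - 1 + (Module.finrank k (Coh.HH (CohB1.ProjSpace n k)
          (CohB1.tensorMod F (Twist.twistProjSpace n k (m - 1))) 1) : ℤ) ≤ j →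
        Subsingleton (Coh.HH (CohB1.ProjSpace n k) (CohB1.tensorMod F (Twist.twistProjSpace n k j)) 1)) ∧
    Curv2.IsMRegular k n F (m + Module.finrank k (Coh.HH (CohB1.ProjSpace n k)
        (CohB1.tensorMod F (Twist.twistProjSpace n k (m - 1))) 1)) := by
  have e : ∀ j : ℤ, Module.finrank k (Coh.HH (CohB1.ProjSpace n k)
      (CohB1.tensorMod F (Twist.twistProjSpace n k j)) 1) = Groth.Agent.CAlgH3.PSheafH1.h1 k n F j :=
    fun j => Groth.Agent.CAlgH3.PSheafH1.finrank_HH_eq k _ 1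
  simp only [e]
  refine ⟨fun i j hi hj => Groth.Agent.CAlgH3.PSheafH1.W_two hF ι hG i hi j hj,
    fun j hj => Groth.Agent.CAlgH3.PSheafH1.h1_le hF ι hG hj,
    fun j hj => Groth.Agent.CAlgH3.PSheafH1.W_one hF ι hG j hj, fun i hi hin => ?_⟩
  rcases eq_or_ne i 1 with rfl | hi1
  · exact Groth.Agent.CAlgH3.PSheafH1.W_one hF ι hG _ (by omega)
  · exact Groth.Agent.CAlgH3.PSheafH1.W_two hF ι hG i (by omega) _ (by omega)

end Groth.Agent.S11296
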