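import Groth.Statements.S11298

set_option autoImplicit false
universe u v
open LocCoh

namespace Groth.Agent.S11298

/-- Let X = Spec B be an affine Noetherian scheme, Z = V(I) a closed subscheme and G a coherent sheaf,
i.e. a finitely generated B-module M, with dual G^v = Hom_B(M, B). If depth_Z(O_X) ≥ 2 then
depth_Z(G^v) ≥ 2. Here the depth along I of a module N is the supremum of the lengths of N-regular
sequences contained in I (and is infinite when I N = N). (The published statement adds that sections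
of the dual over X and over X minus Z agree; this row omits that clause.) -/
theorem result (B : Type u) [CommRing B] [IsNoetherianRing B]
    (I : Ideal B) (M : Type v) [AddCommGroup M] [Module B M] [Module.Finite B M]
    (h : 2 ≤ LocCoh.idealDepth I B) : 2 ≤ LocCoh.idealDepth I (M →ₗ[B] B) := by
  classical
  unfold LocCoh.idealDepth at h ⊢
  split_ifs with hM
  · exact le_top
  split_ifs at h with hB
  · refine absurd ?_ hM
    rw [Ideal.smul_eq_mul, Ideal.mul_top] at hB
    rw [hB, Submodule.top_smul]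
  obtain ⟨rs, hrs⟩ : ∃ rs : List B, (RingTheory.Sequence.IsWeaklyRegular B rs ∧ ∀ r ∈ rs, r ∈ I) ∧ 2 ≤ rs.length := by
    by_contra hne
    push Not at hne
    have : (⨆ (rs : List B) (_ : RingTheory.Sequence.IsWeaklyRegular B rs ∧ ∀ r ∈ rs, r ∈ I),
        (rs.length : ℕ∞)) ≤ ((1 : ℕ) : ℕ∞) := iSup₂_le fun rs hrs => by
      exact_mod_cast Nat.lt_succ_iff.1 (hne rs hrs)
    exact absurd (h.trans this) (by norm_cast)
  obtain ⟨⟨hreg, hmem⟩, hlen⟩ := hrs
  obtain ⟨x, y, l, rfl⟩ : ∃ x y l, rs = x :: y :: l := by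
    match rs, hlen with
    | x :: y :: l, _ => exact ⟨x, y, l, rfl⟩
  rw [RingTheory.Sequence.isWeaklyRegular_cons_iff, RingTheory.Sequence.isWeaklyRegular_cons_iff] at hreg
  obtain ⟨hx, hy, -⟩ := hreg
  refine le_iSup₂_of_le [x, y] ⟨?_, ?_⟩ (by simp)
  · rw [RingTheory.Sequence.isWeaklyRegular_cons_iff, RingTheory.Sequence.isWeaklyRegular_cons_iff]
    refine ⟨fun φ ψ hφ => LinearMap.ext fun m => hx (LinearMap.congr_fun hφ m), ?_,
      RingTheory.Sequence.IsWeaklyRegular.nil _ _⟩
    refine isSMulRegular_iff_right_eq_zero_of_smul.2 fun q hq => ?_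
    obtain ⟨φ, rfl⟩ := Submodule.mkQ_surjective _ q
    rw [← map_smul, Submodule.mkQ_apply, Submodule.Quotient.mk_eq_zero] at hq
    obtain ⟨ψ, -, hψ⟩ := hq
    rw [Submodule.mkQ_apply, Submodule.Quotient.mk_eq_zero]
    have key : ∀ m, ∃ b : B, x * b = φ m := fun m => by
      have h1 : y • (Submodule.Quotient.mk (φ m) : QuotSMulTop x B) = 0 := by
        rw [← Submodule.Quotient.mk_smul, Submodule.Quotient.mk_eq_zero]
        exact ⟨ψ m, trivial, LinearMap.congr_fun hψ m⟩
      have h2 := isSMulRegular_iff_right_eq_zero_of_smul.1 hy _ h1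
      rw [Submodule.Quotient.mk_eq_zero] at h2
      obtain ⟨b, -, hb⟩ := h2
      exact ⟨b, hb⟩
    choose χ hχ using key
    refine ⟨{ toFun := χ, map_add' := fun a b => hx ?_, map_smul' := fun r a => hx ?_ }, trivial,
      LinearMap.ext fun m => hχ m⟩
    · show x * χ (a + b) = x * (χ a + χ b)
      rw [hχ, mul_add, hχ, hχ, map_add]
    · show x * χ (r • a) = x * (r • χ a)
      rw [hχ, map_smul, smul_eq_mul, smul_eq_mul, mul_left_comm, hχ]
  · intro r hr
    simp only [List.mem_cons, List.not_mem_nil, or_false] at hr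
    rcases hr with rfl | rfl <;> exact hmem _ (by simp)

end Groth.Agent.S11298
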