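import Groth.Statements.S11299
import Mathlib

set_option autoImplicit false
universe u
open CAlg

namespace Groth.Agent.S11299

/-- The second cotangent module does not depend on the presentation: let P be a commutative ring, J an
ideal and B = P/J. For a presentation of J, i.e. a finitely generated free P-module F with a
P-linear map j : F → P with image J, let R = ker j be the relation module and R^tr ⊆ R the span of
the trivial relations j(u) • v - j(v) • u; the module T^2 of the presentation is the quotient of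
Hom_B(R/R^tr, B), realised as the P-linear maps R → P/J vanishing on R^tr, by the restrictions to R
of the P-linear maps F → P/J (here: the image of that submodule in the quotient of Hom_P(R, P/J) by
the restrictions). Then for two presentations (F, j) and (F', j') of the same ideal J the two
modules T^2 are isomorphic as P-modules (existence of an isomorphism; the comparison maps depend on
expressing one system of generators through the other). (The published statement takes B essentially
of finite type over a field and P smooth; this row allows any commutative ring P and ideal J.) -/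
theorem result (P : Type u) [CommRing P] (J : Ideal P)
    (F : Type u) [AddCommGroup F] [Module P F] [Module.Free P F] [Module.Finite P F]
    (F' : Type u) [AddCommGroup F'] [Module P F'] [Module.Free P F'] [Module.Finite P F']
    (j : F →ₗ[P] P) (j' : F' →ₗ[P] P) (hj : LinearMap.range j = J) (hj' : LinearMap.range j' = J) :
    Nonempty (↥(Submodule.map
          (LinearMap.range (LinearMap.lcomp P (P ⧸ J) (LinearMap.ker j).subtype)).mkQ
          (LinearMap.ker (LinearMap.lcomp P (P ⧸ J)
            (Submodule.comap (LinearMap.ker j).subtype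
              (Submodule.span P {y : F | ∃ u v : F, y = j u • v - j v • u})).subtype))) ≃ₗ[P]
      ↥(Submodule.map
          (LinearMap.range (LinearMap.lcomp P (P ⧸ J) (LinearMap.ker j').subtype)).mkQ
          (LinearMap.ker (LinearMap.lcomp P (P ⧸ J)
            (Submodule.comap (LinearMap.ker j').subtype
              (Submodule.span P {y : F' | ∃ u v : F', y = j' u • v - j' v • u})).subtype)))) := by
  classical
  have hlift : ∀ {G G' : Type u} [AddCommGroup G] [Module P G] [Module.Free P G] [AddCommGroup G'] [Module P G']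
      (a : G →ₗ[P] P) (b : G' →ₗ[P] P), LinearMap.range a = J → LinearMap.range b = J → ∃ α : G →ₗ[P] G', b ∘ₗ α = a := by
    intro G G' _ _ _ _ _ a b ha hb
    obtain ⟨α, hα⟩ := Module.projective_lifting_property b.rangeRestrict
      (a.codRestrict (LinearMap.range b) fun x => hb.symm ▸ ha ▸ LinearMap.mem_range_self a x) b.surjective_rangeRestrict
    exact ⟨α, LinearMap.ext fun x => congrArg Subtype.val (LinearMap.congr_fun hα x)⟩
  obtain ⟨α, hα⟩ := hlift j j' hj hj'
  obtain ⟨β, hβ⟩ := hlift j' j hj' hj
  let aR : LinearMap.ker j →ₗ[P] LinearMap.ker j' := α.restrict (fun x hx => by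
    rw [LinearMap.mem_ker] at hx ⊢
    rw [← hx, ← hα]; rfl)
  let bR : LinearMap.ker j' →ₗ[P] LinearMap.ker j := β.restrict (fun x hx => by
    rw [LinearMap.mem_ker] at hx ⊢
    rw [← hx, ← hβ]; rfl)
  let W := LinearMap.range (LinearMap.lcomp P (P ⧸ J) (LinearMap.ker j).subtype)
  let W' := LinearMap.range (LinearMap.lcomp P (P ⧸ J) (LinearMap.ker j').subtype)
  let V := LinearMap.ker (LinearMap.lcomp P (P ⧸ J)
    (Submodule.comap (LinearMap.ker j).subtype (Submodule.span P {y : F | ∃ u v : F, y = j u • v - j v • u})).subtype)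
  let V' := LinearMap.ker (LinearMap.lcomp P (P ⧸ J)
    (Submodule.comap (LinearMap.ker j').subtype (Submodule.span P {y : F' | ∃ u v : F', y = j' u • v - j' v • u})).subtype)
  let A := W.mapQ W' (LinearMap.lcomp P (P ⧸ J) bR) (fun φ hφ => by
    obtain ⟨ψ, rfl⟩ := hφ
    exact ⟨ψ ∘ₗ β, rfl⟩)
  let B := W'.mapQ W (LinearMap.lcomp P (P ⧸ J) aR) (fun φ hφ => by
    obtain ⟨ψ, rfl⟩ := hφ
    exact ⟨ψ ∘ₗ α, rfl⟩)
  have hA : ∀ z ∈ Submodule.map W.mkQ V, A z ∈ Submodule.map W'.mkQ V' := by
    rintro _ ⟨φ, hφ, rfl⟩
    refine ⟨φ ∘ₗ bR, LinearMap.ext fun x => ?_, rfl⟩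
    refine LinearMap.congr_fun (LinearMap.mem_ker.1 hφ) ⟨bR x.1, ?_⟩
    have hle : Submodule.span P {y : F' | ∃ u v : F', y = j' u • v - j' v • u} ≤
        (Submodule.span P {y : F | ∃ u v : F, y = j u • v - j v • u}).comap β := by
      rw [Submodule.span_le]
      rintro _ ⟨u, v, rfl⟩
      refine Submodule.subset_span ⟨β u, β v, ?_⟩
      rw [map_sub, map_smul, map_smul, ← hβ]; rfl
    exact hle x.2
  have hB : ∀ z ∈ Submodule.map W'.mkQ V', B z ∈ Submodule.map W.mkQ V := by
    rintro _ ⟨φ, hφ, rfl⟩
    refine ⟨φ ∘ₗ aR, LinearMap.ext fun x => ?_, rfl⟩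
    refine LinearMap.congr_fun (LinearMap.mem_ker.1 hφ) ⟨aR x.1, ?_⟩
    have hle : Submodule.span P {y : F | ∃ u v : F, y = j u • v - j v • u} ≤
        (Submodule.span P {y : F' | ∃ u v : F', y = j' u • v - j' v • u}).comap α := by
      rw [Submodule.span_le]
      rintro _ ⟨u, v, rfl⟩
      refine Submodule.subset_span ⟨α u, α v, ?_⟩
      rw [map_sub, map_smul, map_smul, ← hα]; rfl
    exact hle x.2
  refine ⟨LinearEquiv.ofLinearMap (A.restrict hA) (B.restrict hB) ?_ ?_⟩
  · refine LinearMap.ext fun z => Subtype.ext ?_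
    obtain ⟨_, φ, -, rfl⟩ := z
    change A (B (W'.mkQ φ)) = W'.mkQ φ
    change W'.mkQ ((φ ∘ₗ aR) ∘ₗ bR) = W'.mkQ φ
    refine (Submodule.Quotient.eq W').2 ⟨φ ∘ₗ ((α ∘ₗ β - LinearMap.id).codRestrict (LinearMap.ker j') fun x => ?_), LinearMap.ext fun x => ?_⟩
    · change φ _ = φ (aR (bR x)) - φ x
      rw [← map_sub]; rfl
    · rw [LinearMap.mem_ker, LinearMap.sub_apply, map_sub, LinearMap.comp_apply, LinearMap.id_apply, ← LinearMap.comp_apply j' α, hα, ← LinearMap.comp_apply j β, hβ, sub_self]
  · refine LinearMap.ext fun z => Subtype.ext ?_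
    obtain ⟨_, φ, -, rfl⟩ := z
    change B (A (W.mkQ φ)) = W.mkQ φ
    change W.mkQ ((φ ∘ₗ bR) ∘ₗ aR) = W.mkQ φ
    refine (Submodule.Quotient.eq W).2 ⟨φ ∘ₗ ((β ∘ₗ α - LinearMap.id).codRestrict (LinearMap.ker j) fun x => ?_), LinearMap.ext fun x => ?_⟩
    · change φ _ = φ (bR (aR x)) - φ x
      rw [← map_sub]; rfl
    · rw [LinearMap.mem_ker, LinearMap.sub_apply, map_sub, LinearMap.comp_apply, LinearMap.id_apply, ← LinearMap.comp_apply j β, hβ, ← LinearMap.comp_apply j' α, hα, sub_self]

end Groth.Agent.S11299
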