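import Groth.Statements.S11302
import Mathlib
import Groth.Agent.CotTLib.Regular

set_option autoImplicit false
universe u
open Deform

namespace Groth.Agent.S11302

open MvPolynomial in
/-- T^1 of a complete intersection; the hypersurface case P/(f, ∂f/∂X_1, ..., ∂f/∂X_d) is n = 1: let k
be an algebraically closed field, P = k[X_1, ..., X_d], f_1, ..., f_n a regular sequence in P (each
f_i a non-zero-divisor modulo the preceding ones), J the ideal they generate and B = P/J. The first
cotangent module T^1_B — the cokernel of Der_k(P, B) → Hom_P(J, B), a derivation being restricted to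
J — is isomorphic, as a P-module, to B^n modulo the B-submodule generated by the d columns
(∂f_1/∂X_j, ..., ∂f_n/∂X_j), j = 1, ..., d, of the Jacobian matrix reduced modulo J, through the map
sending the class of φ : J → B to the class of (φ(f_1), ..., φ(f_n)). (The published formula allows
P to be a localisation of the polynomial ring; this row takes the polynomial ring.) -/
theorem result (k : Type u) [Field k] [IsAlgClosed k] (d n : ℕ)
    (f : Fin n → MvPolynomial (Fin d) k) (hreg : RingTheory.Sequence.IsWeaklyRegular (MvPolynomial (Fin d) k) (List.ofFn f)) :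
    ∃ e : ((↥(Ideal.span (Set.range f)) →ₗ[MvPolynomial (Fin d) k] (MvPolynomial (Fin d) k ⧸ Ideal.span (Set.range f))) ⧸
            Submodule.span (MvPolynomial (Fin d) k)
              {ψ : ↥(Ideal.span (Set.range f)) →ₗ[MvPolynomial (Fin d) k] (MvPolynomial (Fin d) k ⧸ Ideal.span (Set.range f)) |
                ∃ D : Derivation k (MvPolynomial (Fin d) k) (MvPolynomial (Fin d) k ⧸ Ideal.span (Set.range f)), ∀ a : ↥(Ideal.span (Set.range f)), ψ a = D (a : MvPolynomial (Fin d) k)}) ≃ₗ[MvPolynomial (Fin d) k]
          ((Fin n → MvPolynomial (Fin d) k ⧸ Ideal.span (Set.range f)) ⧸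
            Submodule.span (MvPolynomial (Fin d) k ⧸ Ideal.span (Set.range f))
              (Set.range fun j : Fin d => fun i : Fin n => Ideal.Quotient.mk (Ideal.span (Set.range f)) (pderiv j (f i)))),
      ∀ φ : ↥(Ideal.span (Set.range f)) →ₗ[MvPolynomial (Fin d) k] (MvPolynomial (Fin d) k ⧸ Ideal.span (Set.range f)),
        e (Submodule.Quotient.mk φ) =
          Submodule.Quotient.mk (fun i : Fin n => φ ⟨f i, Ideal.subset_span (Set.mem_range_self i)⟩) := by
  classical
  let P := MvPolynomial (Fin d) k
  let J : Ideal P := Ideal.span (Set.range f)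
  let B := P ⧸ J
  have hmem : ∀ i, f i ∈ J := fun i => Ideal.subset_span (Set.mem_range_self i)
  let Φ : (J →ₗ[P] B) →ₗ[P] (Fin n → B) := LinearMap.pi fun i => LinearMap.applyₗ (⟨f i, hmem i⟩ : J)
  let π : (Fin n → P) →ₗ[P] J := (Fintype.linearCombination P f).codRestrict J fun c =>
    (Fintype.linearCombination_apply P f c).symm ▸ Submodule.sum_mem _ fun i _ => J.smul_mem _ (hmem i)
  have hπ : Function.Surjective π := fun x => by
    obtain ⟨c, hc⟩ := Ideal.mem_span_range_iff_exists_fun.1 x.2
    exact ⟨c, Subtype.ext hc⟩
  have hπ1 : ∀ i, π (Pi.single i 1) = ⟨f i, hmem i⟩ := fun i => Subtype.ext (by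
    show Fintype.linearCombination P f (Pi.single i 1) = f i
    rw [Fintype.linearCombination_apply_single, one_smul])
  have hΦ : Function.Bijective Φ := by
    constructor
    · intro φ φ' h
      have h' : φ ∘ₗ π = φ' ∘ₗ π := (Pi.basisFun P (Fin n)).ext fun i => by
        rw [LinearMap.comp_apply, LinearMap.comp_apply, Pi.basisFun_apply, hπ1]
        exact congrFun h i
      exact LinearMap.ext fun x => by obtain ⟨c, rfl⟩ := hπ x; exact LinearMap.congr_fun h' c
    · intro g
      let ψ : (Fin n → P) →ₗ[P] B := Fintype.linearCombination P g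
      have hle : LinearMap.ker π ≤ LinearMap.ker ψ := by
        intro c hc
        have hc' : ∑ i, c i • f i = 0 := congrArg Subtype.val (LinearMap.mem_ker.1 hc)
        obtain ⟨e, he⟩ := Groth.Agent.CotTLib.exists_alternating f P hreg c
          ((Finset.sum_congr rfl fun i _ => by rw [smul_eq_mul, smul_eq_mul, mul_comm]).trans hc')
        rw [LinearMap.mem_ker]
        show ∑ i, c i • g i = 0
        refine Finset.sum_eq_zero fun i _ => ?_
        have hci : c i ∈ J := by
          rw [he i]
          exact Submodule.sum_mem _ fun j _ => J.mul_mem_right _ (hmem j)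
        show Ideal.Quotient.mk J (c i) * g i = 0
        rw [Ideal.Quotient.eq_zero_iff_mem.2 hci, zero_mul]
      let e := π.quotKerEquivOfSurjective hπ
      refine ⟨(LinearMap.ker π).liftQ ψ hle ∘ₗ e.symm.toLinearMap, funext fun i => ?_⟩
      show (LinearMap.ker π).liftQ ψ hle (e.symm ⟨f i, hmem i⟩) = g i
      rw [show e.symm ⟨f i, hmem i⟩ = Submodule.Quotient.mk (Pi.single i 1) from
        e.symm_apply_eq.2 (hπ1 i).symm, Submodule.liftQ_apply]
      show Fintype.linearCombination P g (Pi.single i 1) = g i
      rw [Fintype.linearCombination_apply_single, one_smul]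
  let E := LinearEquiv.ofBijective Φ hΦ
  let S : Set (J →ₗ[P] B) := {ψ | ∃ D : Derivation k P B, ∀ a : J, ψ a = D (a : P)}
  let col : Fin d → Fin n → B := fun j i => Ideal.Quotient.mk J (MvPolynomial.pderiv j (f i))
  have hD : ∀ (D : Derivation k P B) (p : P), D p = ∑ j, MvPolynomial.pderiv j p • D (MvPolynomial.X j) := by
    intro D p
    induction p using MvPolynomial.induction_on with
    | C a =>
      rw [← MvPolynomial.algebraMap_eq, Derivation.map_algebraMap]
      simp
    | add p q hp hq => simp only [map_add, hp, hq, add_smul, Finset.sum_add_distrib]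
    | mul_X p i hp =>
      rw [D.leibniz, hp, Finset.smul_sum]
      simp only [MvPolynomial.pderiv_mul, add_smul, Finset.sum_add_distrib, smul_smul, MvPolynomial.pderiv_X,
        Pi.single_apply, mul_ite, mul_one, mul_zero, ite_smul, zero_smul, Finset.sum_ite_eq, Finset.mem_univ,
        if_true, mul_comm (MvPolynomial.X i)]
      rw [add_comm]
  have hspan : (Submodule.span P S).map (E : (J →ₗ[P] B) →ₗ[P] (Fin n → B)) =
      (Submodule.span B (Set.range col)).restrictScalars P := by
    rw [Submodule.restrictScalars_span P B Ideal.Quotient.mk_surjective, Submodule.map_span]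
    refine le_antisymm (Submodule.span_le.2 ?_) (Submodule.span_le.2 ?_)
    · rintro _ ⟨ψ, ⟨D, hψ⟩, rfl⟩
      show Φ ψ ∈ Submodule.span P (Set.range col)
      have : Φ ψ = ∑ j, Quotient.out (D (MvPolynomial.X j)) • col j := funext fun i => by
        show ψ ⟨f i, hmem i⟩ = _
        rw [hψ, hD D (f i), Finset.sum_apply]
        refine Finset.sum_congr rfl fun j _ => ?_
        rw [Pi.smul_apply]
        generalize hx : D (MvPolynomial.X j) = x
        have hq : Ideal.Quotient.mk J (Quotient.out x) = x := Quotient.out_eq x
        show Ideal.Quotient.mk J (MvPolynomial.pderiv j (f i)) * x =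
          Ideal.Quotient.mk J (Quotient.out x) * Ideal.Quotient.mk J (MvPolynomial.pderiv j (f i))
        rw [hq, mul_comm]
      rw [this]
      exact Submodule.sum_mem _ fun j _ => Submodule.smul_mem _ _ (Submodule.subset_span ⟨j, rfl⟩)
    · rintro _ ⟨j, rfl⟩
      let D : Derivation k P B := ((Ideal.Quotient.mkₐ P J).toLinearMap).compDer (MvPolynomial.pderiv j)
      refine Submodule.subset_span ⟨D.toLinearMap.restrictScalars k |> fun _ =>
        ({ toFun := fun a => D (a : P)
           map_add' := fun a b => by rw [Submodule.coe_add, map_add]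
           map_smul' := fun r a => by
             rw [Submodule.coe_smul, smul_eq_mul, D.leibniz, RingHom.id_apply,
               show (a : P) • D r = Ideal.Quotient.mk J (a : P) * D r from Algebra.smul_def (a : P) (D r),
               Ideal.Quotient.eq_zero_iff_mem.2 a.2, zero_mul, add_zero] } : J →ₗ[P] B), ⟨D, fun a => rfl⟩, rfl⟩
  refine ⟨(Submodule.Quotient.equiv (Submodule.span P S) _ E hspan).trans
    (Submodule.Quotient.restrictScalarsEquiv P (Submodule.span B (Set.range col))), fun φ => rfl⟩

end Groth.Agent.S11302
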