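import Groth.Statements.S16491
import Mathlib
import Groth.Agent.RefHullLib.RankOne

set_option autoImplicit false
universe u
open CategoryTheory CategoryTheory.Limits AlgebraicGeometry TopologicalSpace
open VBPn

namespace Groth.Agent.S16491

/-- Let X be an integral locally Noetherian scheme all of whose local rings are regular, and F a
coherent O_X-module which is reflexive (the canonical map F → F^** is an isomorphism) and of rank 1
(F restricts to an invertible module on some dense open subset of X). Then F is invertible: every
point has an open neighbourhood on which F is isomorphic to the structure sheaf. The published
statement is for reflexive coherent analytic sheaves of rank 1 on a complex manifold; this row is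
its statement on a regular integral locally Noetherian scheme, whose local rings are factorial as
the argument requires. -/
theorem result (X : Scheme.{u}) [IsIntegral X] [IsLocallyNoetherian X]
    (hreg : ∀ x : X, IsRegularLocalRing (X.presheaf.stalk x)) (F : X.Modules) (hF : Coh.IsCoh F)
    (hrefl : RefHull.IsReflexive F) (hrk : RefHull.GenInvertible F) :
    PicF.IsInvertible F := by
  refine Groth.Agent.RefHullLib.isInvertible_of_isReflexive_of_genInvertible (fun x => ?_) hF
    ((Groth.Agent.RefHullLib.isReflexive_iff_stalks hF).1 hrefl) hrk
  haveI := hreg x
  exact Groth.Agent.CAlgH3.ufm_of_regular _
end Groth.Agent.S16491
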