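import Groth.Statements.S11303
import Groth.Agent.RefCh22.Bilinear
import Groth.Agent.EulerLib.StabBasic
import Groth.Agent.EulerLib.PartsEuler
import Groth.Agent.S4466
import Groth.Agent.S16491
import Groth.Agent.PicPn22.Main
import Groth.Agent.SerreDual.ProjRegular
import Groth.Agent.DimLib.ProjDim
import Groth.Agent.Et18.DimClosureLocal
import Groth.Agent.CAlgH3.PSheafSeq
import Groth.Agent.CAlgH3.PSheaf
import Groth.Agent.CurveRR24.Sky
import Groth.Agent.TFPush7.CFHR
import Groth.Agent.Coherent.CohBC.ClosedFibreMono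

set_option autoImplicit false
universe u
open CategoryTheory CategoryTheory.Limits AlgebraicGeometry
open FGA

set_option linter.style.haveILetI false
set_option backward.isDefEq.respectTransparency.types false

namespace Groth.Agent.S11303

open Groth.Agent Groth.Agent.Coherent Groth.Agent.EulerLib Groth.Agent.CAlgH3 Groth.Agent.CAlgH3.PSheaf Groth.Agent.CAlgH3.PSheafGen Groth.Agent.CAlgH3.PSheafSeq Groth.Agent.CAlgH3.PRing
open Groth.Agent.AmpleLib

section Aux

variable {k : Type u} [Field k] {r : ℕ}

local notation "XX" => CohB1.ProjSpace r k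
local notation "LL" => Twist.twistProjSpace r k 1

theorem isAmple_one : CohB1.IsAmple (LL) := by
  classical
  exact   TwistLib.G.isAmple_twist_one (𝒜 := CohB1.polyGrading r k) (Finset.univ.image MvPolynomial.X) (by
      intro g hg
      obtain ⟨j, -, rfl⟩ := Finset.mem_image.1 hg
      exact MvPolynomial.isHomogeneous_X _ j) (by
      classical
      rw [Finset.coe_image, Finset.coe_univ, Set.image_univ]
      refine le_antisymm (ProjLib.irrelevant_le_span_X r _) (Ideal.span_le.2 ?_)
      rintro _ ⟨j, rfl⟩
      exact HomogeneousIdeal.mem_irrelevant_of_mem (CohB1.polyGrading r _) Nat.one_pos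
        (MvPolynomial.isHomogeneous_X _ j))

theorem nonempty_pow_one (p : ℕ) :
    Nonempty (CohB1.tensorPow (LL) p ≅ Twist.twistProjSpace r k (p : ℤ)) := by
  induction p with
  | zero =>
    obtain ⟨e⟩ := TwistLib.G.nonempty_twist_pow_iso (𝒜 := CohB1.polyGrading r k) covers 0
    exact ⟨e.symm ≪≫ twistCompare (((0 : ℕ) : ℤ)) ≪≫ eqToIso (by simp)⟩
  | succ p ih =>
    obtain ⟨e⟩ := ih
    obtain ⟨e'⟩ := TwistLib.G.nonempty_tensor_twist_iso (𝒜 := CohB1.polyGrading r k) covers
      (show (p : ℤ) + 1 = ((p + 1 : ℕ) : ℤ) by push_cast; ring)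
    exact ⟨AmpleLib.tensorIso e (Iso.refl _) ≪≫ e'⟩

theorem euler_O (hr : 1 ≤ r) (n : ℤ) :
    Curv2.euler k (XX) (Twist.twistProjSpace r k n) = Ring.choose (n + r) r := by
  rw [euler_eq_sum k (XX) _ r fun q hq => subsingleton_HH_twist q (by omega) (by omega)]
  exact S4466.result k r hr n

/-- iterated differences of the binomial coefficient -/
theorem fwdDiff_choose (A : ℤ) : ∀ j i : ℕ,
    (fwdDiff 1)^[j] (fun m : ℕ => Ring.choose ((m : ℤ) + A) (i + j)) = fun m : ℕ => Ring.choose ((m : ℤ) + A) i
  | 0, i => rfl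
  | j + 1, i => by
    have h : fwdDiff 1 (fun m : ℕ => Ring.choose ((m : ℤ) + A) (i + (j + 1))) =
        fun m : ℕ => Ring.choose ((m : ℤ) + A) (i + j) := by
      funext m
      show Ring.choose (((m + 1 : ℕ) : ℤ) + A) (i + j + 1) - Ring.choose ((m : ℤ) + A) (i + j + 1) = _
      rw [show ((m + 1 : ℕ) : ℤ) + A = ((m : ℤ) + A) + 1 by push_cast; ring, Ring.choose_succ_succ]
      ring
    rw [Function.iterate_succ_apply, h, fwdDiff_choose A j i]

theorem fwdDiff_sub : ∀ (j : ℕ) (f g : ℕ → ℤ),
    (fwdDiff 1)^[j] (f - g) = (fwdDiff 1)^[j] f - (fwdDiff 1)^[j] g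
  | 0, f, g => rfl
  | j + 1, f, g => by
    have h : fwdDiff 1 (f - g) = fwdDiff 1 f - fwdDiff 1 g := by
      funext m; simp only [fwdDiff, Pi.sub_apply]; ring
    rw [Function.iterate_succ_apply, Function.iterate_succ_apply, Function.iterate_succ_apply, h,
      fwdDiff_sub j]

end Aux

end Groth.Agent.S11303

namespace Groth.Agent.S11303

/-- Closed subschemes with the Hilbert polynomial of a hypersurface: let k be an algebraically closed
field, r ≥ 1, d ≥ 1, and Y ⊆ P^r_k a closed subscheme (quasi-coherent ideal sheaf I) whose Hilbert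
polynomial is that of a hypersurface of degree d: χ(O_Y(t)) = C(t+r, r) - C(t+r-d, r) for every
integer t (binomial coefficients as polynomials in t). Then Y is a hypersurface of degree d: its
ideal sheaf, as an O-module, is isomorphic to O(-d) (existence of an isomorphism of O-modules;
equivalently I is an invertible ideal generated by one form of degree d). -/
theorem result (k : Type u) [Field k] [IsAlgClosed k] (r d : ℕ)
    (hr : 1 ≤ r) (hd : 1 ≤ d) (I : (CohB1.ProjSpace r k).IdealSheafData)
    (hP : ∀ t : ℤ, Curv2.euler k (CohB1.ProjSpace r k)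
        (CohB1.tensorMod (ClSub.quotMod I) (Twist.twistProjSpace r k t)) =
      Ring.choose (t + r) r - Ring.choose (t + r - d) r) :
    Nonempty (ClSub.idealMod I ≅ Twist.twistProjSpace r k (-(d : ℤ))) := by
  open Groth.Agent Groth.Agent.Coherent Groth.Agent.EulerLib Groth.Agent.AmpleLib in
  classical
  let X := CohB1.ProjSpace r k
  let L := Twist.twistProjSpace r k 1
  let O := Coh.structureModule X
  let J := ClSub.idealMod I
  let f := CohB1.ProjSpace.toSpec r k
  haveI : IsProper (X ↘ Spec (CommRingCat.of k)) := Groth.Agent.Coherent.isProper_projSpace_toSpec r k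
  haveI : IsProper f := Groth.Agent.Coherent.isProper_projSpace_toSpec r k
  haveI := isNoetherian_of_proper (X := X) k
  haveI : AlgebraicGeometry.IsIntegral X := CurveLib.isIntegral_projSpace (k := k) r
  have hreg : ∀ x : X, IsRegularLocalRing (X.presheaf.stalk x) :=
    fun x => SerreDual.isRegularLocalRing_stalk_projSpace r k x
  have hA : CohB1.IsAmple L := isAmple_one
  have hL := hA.1
  have hO : Coh.IsCoh O := Coherent.isCoh_structureModule X
  have hJ : Coh.IsCoh J := CurveRR24.isCoh_idealMod' I
  have hQu : Coh.IsCoh (ClSub.quotMod I) := CurveRR24.isCoh_quotMod I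
  -- Euler characteristic of the ideal
  have hχJ : ∀ m : ℕ, chiCl k J (InvCl.mk L hL ^ m) = Ring.choose ((m : ℤ) + ((r : ℤ) - d)) r := by
    intro m
    have h := congrFun (chiCl_additive k _ (CurveRR24.shortExact_ideal I) hJ hO hQu) (InvCl.mk L hL ^ m)
    obtain ⟨e⟩ := nonempty_pow_one (k := k) (r := r) m
    have e1 : chiCl k O (InvCl.mk L hL ^ m) = Ring.choose ((m : ℤ) + r) r := by
      rw [← euler_twist_eq k hL, ShStab.twist,
        euler_congr k X (unitTensorIso (CohB1.tensorPow L m) ≪≫ e)]
      exact euler_O hr _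
    have e2 : chiCl k (ClSub.quotMod I) (InvCl.mk L hL ^ m) =
        Ring.choose ((m : ℤ) + r) r - Ring.choose ((m : ℤ) + r - d) r := by
      rw [← euler_twist_eq k hL, ShStab.twist, euler_congr k X (AmpleLib.tensorIso (Iso.refl _) e)]
      exact hP _
    rw [Pi.add_apply, e1, e2] at h
    rw [show (m : ℤ) + ((r : ℤ) - d) = (m : ℤ) + r - d by ring]
    linarith
  -- stalks of the inclusion
  have hι : ∀ x, Function.Injective (RefHull.stalkMapₗ (ClSub.idealModι I) x) := fun x => by
    haveI := AmpleLib.mono_idealModι I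
    exact TFPush7.CFHR.stalk_injective_of_mono (ClSub.idealModι I) x
  have huq : ∀ x : X, ∃ q : O.presheaf.stalk x ≃ₗ[X.presheaf.stalk x] X.presheaf.stalk x, True := fun x =>
    ⟨(LinearEquiv.ofBijective (LinearMap.toSpanSingleton _ _ (AssSch12.unitOne x))
      (RefHullLib.bijective_smul_unitOne x)).symm, trivial⟩
  choose q hq using huq
  -- generic rank one
  let η := genericPoint X
  letI : Field (X.presheaf.stalk η) := (RefHullLib.isField_stalk_genericPoint (X := X)).toField
  have hne : ∃ v : J.presheaf.stalk η, v ≠ 0 := by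
    by_contra hall
    push Not at hall
    have hz : IsZero J := by
      refine isZero_of_support_eq_empty (Set.eq_empty_of_forall_notMem fun x hx => hx ?_)
      refine subsingleton_of_forall_eq 0 fun v => hι x ?_
      rw [map_zero]
      obtain ⟨U, hxU, s, rfl⟩ := J.presheaf.exists_germ_eq v
      rw [RefHull.stalkMapₗ_germ]
      have hηU : η ∈ U := (genericPoint_specializes x).mem_open U.isOpen hxU
      have h1 : O.presheaf.germ U η hηU ((ClSub.idealModι I).app U s) = 0 := by
        rw [← RefHull.stalkMapₗ_germ, hall (J.presheaf.germ U η hηU s), map_zero]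
      haveI : Nonempty U := ⟨⟨x, hxU⟩⟩
      have h2 : (ClSub.idealModι I).app U s = 0 :=
        AlgebraicGeometry.germ_injective_of_isIntegral X η hηU
          (show X.presheaf.germ U η hηU _ = X.presheaf.germ U η hηU 0 by
            rw [map_zero]
            refine (AssSch12.bijective_smul_unitOne η).1 ?_
            show _ • AssSch12.unitOne η = (0 : X.presheaf.stalk η) • AssSch12.unitOne η
            rw [zero_smul, ← AssSch12.germ_eq_smul_unitOne]
            exact h1)
      rw [h2, map_zero]
    have h := hχJ d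
    rw [← euler_twist_eq k hL, ShStab.twist, euler_of_isZero k X (isZero_tensorMod_left hz _),
      show (d : ℤ) + ((r : ℤ) - d) = ((r : ℕ) : ℤ) by ring, Ring.choose_natCast, Nat.choose_self] at h
    norm_num at h
  obtain ⟨v₀, hv₀⟩ := hne
  have hJg : RefHull.GenInvertible J := by
    refine RefHullLib.genInvertible_of_bijective_genericPoint hJ v₀ ⟨fun a b hab => ?_, fun w => ?_⟩
    · have h1 := congrArg (RefHull.stalkMapₗ (ClSub.idealModι I) η) hab
      simp only [map_smul] at h1
      exact smul_left_injective _ (fun h0 => hv₀ (hι η (h0.trans (map_zero _).symm))) h1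
    · let a : X.presheaf.stalk η := q η (RefHull.stalkMapₗ (ClSub.idealModι I) η v₀)
      let b : X.presheaf.stalk η := q η (RefHull.stalkMapₗ (ClSub.idealModι I) η w)
      have ha : a ≠ 0 := fun h0 => hv₀ (hι η ((q η).injective ((h0.trans (map_zero (q η)).symm).trans
        (congrArg (q η) (map_zero _).symm))))
      refine ⟨b * a⁻¹, hι η ((q η).injective ?_)⟩
      show q η (RefHull.stalkMapₗ (ClSub.idealModι I) η ((b * a⁻¹) • v₀)) = b
      rw [map_smul, map_smul, smul_eq_mul]
      show b * a⁻¹ * a = b
      rw [mul_assoc, inv_mul_cancel₀ ha, mul_one]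
  -- the reflexive hull
  let D := RefHull.ddual J
  let j : J ⟶ D := RefHull.bidualMap J
  have hD : Coh.IsCoh D := RefHullLib.isCoh_ddual hJ
  have hjinj : ∀ x, Function.Injective (RefHull.stalkMapₗ j x) := fun x => by
    haveI := AssSch12.finite_stalk hJ x
    rw [injective_iff_map_eq_zero]
    intro v hv
    have h1 : Module.Dual.eval (X.presheaf.stalk x) (J.presheaf.stalk x) v = 0 := by
      apply (RefHullLib.doubleDualEquiv hJ x).injective
      rw [map_zero, RefHullLib.doubleDualEquiv_eval hJ x v, ← RefHullLib.evalStalk_bidualMap]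
      show RefHull.evalStalk _ _ x (RefHull.stalkMapₗ j x v) = 0
      rw [hv, map_zero]
    refine hι x ((q x).injective ?_)
    rw [map_zero, map_zero]
    exact LinearMap.congr_fun h1 ((q x).toLinearMap.comp (RefHull.stalkMapₗ (ClSub.idealModι I) x))
  haveI : Mono j := Coherent.CohBC.mono_of_injective_stalks j hjinj
  have hDg : RefHull.GenInvertible D := by
    obtain ⟨hb, hs⟩ := RefHullLib.bijective_stalk_bidualMap_genericPoint hJ
    obtain ⟨t, ht⟩ : ∃ t : J.presheaf.stalk η,
        Function.Bijective fun a : X.presheaf.stalk η => a • t := by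
      obtain ⟨U, hU, s, hs'⟩ := RefHullLib.exists_gen_genericPoint hJg
      exact ⟨_, SDiv28.bijective_smul_germ_gen hs' hU⟩
    exact RefHullLib.genInvertible_of_bijective_genericPoint hD _
      (RefHullLib.bijective_smul_map (l := RefHull.stalkMapₗ j η) ⟨hb, hs⟩ ht)
  have hDi : PicF.IsInvertible D :=
    Groth.Agent.S16491.result X hreg D hD (RefHullLib.isReflexive_ddual hJ) hDg
  obtain ⟨e, ⟨φ⟩⟩ := PicPn22.exists_iso_twist r k D hDi
  -- the cokernel
  let Q := cokernel j
  have hQ : Coh.IsCoh Q := isCoh_cokernel j hJ.1 hD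
  have hχQ : ∀ m : ℕ, chiCl k Q (InvCl.mk L hL ^ m) =
      Ring.choose ((m : ℤ) + (e + r)) r - Ring.choose ((m : ℤ) + ((r : ℤ) - d)) r := by
    intro m
    have h := congrFun (chiCl_additive k _ (shortExact_cokernel j) hJ hD hQ) (InvCl.mk L hL ^ m)
    obtain ⟨ep⟩ := nonempty_pow_one (k := k) (r := r) m
    obtain ⟨et⟩ := TwistLib.G.nonempty_tensor_twist_iso (𝒜 := CohB1.polyGrading r k)
      CAlgH3.PSheafGen.covers (show e + (m : ℤ) = e + m from rfl)
    have e1 : chiCl k D (InvCl.mk L hL ^ m) = Ring.choose ((m : ℤ) + (e + r)) r := by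
      rw [← euler_twist_eq k hL, ShStab.twist, euler_congr k X (AmpleLib.tensorIso φ ep ≪≫ et),
        show (m : ℤ) + (e + r) = e + m + r by ring]
      exact euler_O hr _
    rw [Pi.add_apply, e1, hχJ] at h
    linarith
  -- the cokernel lives in codimension two
  let δ : X → ℕ := fun x => DimLib.ptDim f x
  have hδη : δ η = r := by
    have h1 := DimLib.topologicalKrullDim_eq_ptDim_genericPoint (f := f)
    rw [DimLib.PN.topologicalKrullDim_projSpace] at h1
    exact_mod_cast h1.symm
  have hsmall : ∀ x ∈ CohB1.support Q, δ x + 2 ≤ r := by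
    intro x hx
    by_contra hlt
    have hc : Cyc.DeltaCompat f (fun x => (δ x : ℤ)) (fun _ => 0) := CycLib28.deltaCompat_ptDim_base f
    have hdf : Cyc.IsDimFun X (fun x => (δ x : ℤ)) :=
      AlgSpLib.isDimFun_of_deltaCompat f (CycLib28.isSetup_specField k) hc
    have h := AlgSpLib.cod_eq_dimFun hdf (genericPoint_specializes x)
    rw [EGA43.DimFormula.dimAt_eq_cod_of_irreducible] at h
    have hle : EGA43.DimFormula.dimAt x ≤ 1 := by
      change ((EGA43.DimFormula.dimAt x : ℕ) : ℤ) = ((δ η : ℕ) : ℤ) - (δ x : ℤ) at h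
      omega
    have hdim : ringKrullDim (X.presheaf.stalk x) ≤ 1 := by
      rw [EGA43.DimFormula.ringKrullDim_eq_natDim]
      exact_mod_cast hle
    haveI := hreg x
    haveI := AssSch12.finite_stalk hJ x
    haveI : Module.IsTorsionFree (X.presheaf.stalk x) (J.presheaf.stalk x) :=
      Function.Injective.moduleIsTorsionFree (fun v => q x (RefHull.stalkMapₗ (ClSub.idealModι I) x v))
        ((q x).injective.comp (hι x)) (fun a v => by simp only [map_smul])
    haveI := RefHullLib.free_of_torsionFree_of_dim_le_one (M := J.presheaf.stalk x) hdim inferInstance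
    haveI : Module.IsReflexive (X.presheaf.stalk x) (J.presheaf.stalk x) := inferInstance
    have hbij := (RefHullLib.bijective_stalk_bidualMap_iff hJ x).2 (by assumption)
    exact hx (by
      haveI : Epi ((DerSch.stalkFunctor X x).map j) := (ModuleCat.epi_iff_surjective _).2 hbij.2
      exact ModuleCat.subsingleton_of_isZero (IsZero.of_iso (isZero_cokernel_of_epi ((DerSch.stalkFunctor X x).map j))
        (PreservesCokernel.iso (DerSch.stalkFunctor X x) j)))
  have hdimQ : topologicalKrullDim ↥(CohB1.support Q) < ((r - 1 : ℕ) : WithBot ℕ∞) := by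
    haveI : QuasiSober ↥(CohB1.support Q) :=
      (isClosed_support Q (locallyFinGen_of_isFT Q hQ.2)).isClosedEmbedding_subtypeVal.quasiSober
    have hch : ∀ (n : ℕ) (l : Fin (n + 1) → ↥(CohB1.support Q)),
        (∀ i j, i < j → l j ⤳ l i ∧ l i ≠ l j) → n + 2 ≤ r := by
      intro n l hl
      have hge : ∀ i : Fin (n + 1), (i : ℕ) ≤ δ (l i : X) := by
        intro i
        induction i using Fin.induction with
        | zero => exact Nat.zero_le _
        | succ i ih =>
          have h := hl i.castSucc i.succ i.castSucc_lt_succ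
          have h2 : δ (l i.castSucc : X) < δ (l i.succ : X) :=
            DimLib.ptDim_lt_of_specializes f (h.1.map continuous_subtype_val)
              (fun hh => h.2 (Subtype.ext hh.symm))
          simp only [Fin.val_castSucc] at ih
          simp only [Fin.val_succ]
          omega
      have := hsmall _ (l (Fin.last n)).2
      have := hge (Fin.last n)
      simp only [Fin.val_last] at this
      omega
    rcases Nat.lt_or_ge r 2 with h2 | h2
    · refine lt_of_le_of_lt (Et18.DimClosure.topologicalKrullDim_le_of_chains ⊥ fun n l hl => ?_) (WithBot.bot_lt_coe _)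
      exact absurd (hch n l hl) (by omega)
    · refine lt_of_le_of_lt (Et18.DimClosure.topologicalKrullDim_le_of_chains ((r - 2 : ℕ) : WithBot ℕ∞) fun n l hl => ?_)
        (by exact_mod_cast (show r - 2 < r - 1 by omega))
      have := hch n l hl
      exact_mod_cast (show n ≤ r - 2 by omega)
  -- degrees
  have hed : e = -(d : ℤ) := by
    have h0 := interDeg_eq_zero (fun _ : Fin (r - 1) => InvCl.mk L hL) (finDeg_chiCl k hQ hdimQ)
    rw [interDeg_const_eq,
      show (fun m : ℕ => chiCl k Q (InvCl.mk L hL ^ m)) =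
        (fun m : ℕ => Ring.choose ((m : ℤ) + (e + r)) (1 + (r - 1))) -
          (fun m : ℕ => Ring.choose ((m : ℤ) + ((r : ℤ) - d)) (1 + (r - 1))) from funext fun m => by
        rw [Pi.sub_apply, show 1 + (r - 1) = r by omega]; exact hχQ m,
      fwdDiff_sub, fwdDiff_choose, fwdDiff_choose, Pi.sub_apply, Ring.choose_one_right,
      Ring.choose_one_right] at h0
    omega
  have hQ0 : IsZero Q := (hilb_eq_zero_iff k hA hQ (P := 0) fun m => by
    rw [euler_twist_eq k hL, hχQ, hed, show -(d : ℤ) + r = (r : ℤ) - d by ring, sub_self, Int.cast_zero,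
      Polynomial.eval_zero]).1 rfl
  haveI : Epi j := Preadditive.epi_of_isZero_cokernel j hQ0
  haveI : IsIso j := isIso_of_mono_of_epi j
  exact ⟨asIso j ≪≫ φ ≪≫ eqToIso (by rw [hed])⟩

end Groth.Agent.S11303
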