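import Groth.Statements.S11306
import Groth.Agent.CAlgH3.ProjDim
import Mathlib.LinearAlgebra.Dimension.Free

set_option autoImplicit false
universe u
open TensorProduct
open CAlg

namespace Groth.Agent.S11306

/-- Take a Noetherian local domain A, with residue field k and fraction field K, and let M be a finitely
generated A-module. If k ⊗_A M and K ⊗_A M have the same dimension r (over k and over K
respectively), then M is a free A-module of rank r. -/
theorem result (A : Type u) [CommRing A] [IsDomain A]
    [IsNoetherianRing A] [IsLocalRing A] (M : Type u) [AddCommGroup M] [Module A M] [Module.Finite A M] (r : ℕ)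
    (hk : Module.finrank (IsLocalRing.ResidueField A) (IsLocalRing.ResidueField A ⊗[A] M) = r)
    (hK : Module.finrank (FractionRing A) (FractionRing A ⊗[A] M) = r) :
    Module.Free A M ∧ Module.finrank A M = r := by
  obtain ⟨n, f, hf, hker⟩ := CAlgH3.exists_minimal_presentation (R := A) (M := M)
  let k := IsLocalRing.ResidueField A
  let i := (LinearMap.ker f).subtype.baseChange k
  have hi : i = 0 := by
    have hz : ∀ z ∈ IsLocalRing.maximalIdeal A • (⊤ : Submodule A (Fin n → A)), (1 : k) ⊗ₜ[A] z = 0 := fun z hz => by
      refine Submodule.smul_induction_on hz (fun a ha w _ => ?_) fun w w' h h' => by rw [TensorProduct.tmul_add, h, h', add_zero]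
      rw [TensorProduct.tmul_smul, TensorProduct.smul_tmul', Algebra.smul_def, IsLocalRing.ResidueField.algebraMap_eq,
        (IsLocalRing.residue_eq_zero_iff a).2 ha, zero_mul, TensorProduct.zero_tmul]
    ext z
    change (1 : k) ⊗ₜ[A] (z : Fin n → A) = 0
    exact hz _ (hker z.2)
  have hex : Function.Exact i (f.baseChange k) := lTensor_exact k (LinearMap.exact_subtype_ker_map f) hf
  have hinj : Function.Injective (f.baseChange k) := (injective_iff_map_eq_zero _).2 fun z hz => by
    obtain ⟨w, rfl⟩ := (hex z).1 hz
    rw [hi, LinearMap.zero_apply]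
  have hn : n = r := by
    have := (LinearEquiv.ofBijective _ ⟨hinj, LinearMap.lTensor_surjective k hf⟩).finrank_eq
    rw [hk, Module.finrank_baseChange, Module.finrank_fin_fun] at this
    exact this
  subst hn
  have hbij : Function.Bijective (f.baseChange (FractionRing A)) :=
    OrzechProperty.bijective_of_surjective_of_finrank_le _ (LinearMap.lTensor_surjective _ hf)
      (by rw [hK, Module.finrank_baseChange, Module.finrank_fin_fun])
  have hfi : Function.Injective f := by
    rw [injective_iff_map_eq_zero]
    intro z hz
    have h1 : f.baseChange (FractionRing A) (1 ⊗ₜ[A] z) = 0 := by simp [hz]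
    have h2 : (1 : FractionRing A) ⊗ₜ[A] z = 0 := hbij.1 (by rw [h1, map_zero])
    have h3 : Function.Injective ((Algebra.linearMap A (FractionRing A)).rTensor (Fin n → A)) :=
      Module.Flat.rTensor_preserves_injective_linearMap _ (IsFractionRing.injective A (FractionRing A))
    have h4 : (1 : A) ⊗ₜ[A] z = 0 := h3 (by simp [h2])
    simpa using congrArg (TensorProduct.lid A (Fin n → A)) h4
  let e := LinearEquiv.ofBijective f ⟨hfi, hf⟩
  exact ⟨Module.Free.of_equiv e, by rw [← e.finrank_eq, Module.finrank_fin_fun]⟩

end Groth.Agent.S11306
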