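import Groth.Statements.S11308
import Groth.Agent.BlowUpKoszul.StalkApps
import Groth.Agent.S8855

set_option autoImplicit false
universe u
open CategoryTheory CategoryTheory.Limits AlgebraicGeometry
open NonsingVar

namespace Groth.Agent.S11308

/-- Let k be an algebraically closed field, X a nonsingular variety over k (an integral scheme,
separated and of finite type over k, all of whose local rings are regular), Y a nonsingular closed
subvariety of X (an integral closed subscheme all of whose local rings are regular) with ideal sheaf
I, and π : X~ → X a blowing-up of X with respect to I, characterised by its universal property. Then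
X~ is nonsingular: all of its local rings are regular. -/
theorem result (k : Type u) [Field k] [IsAlgClosed k]
    (X : Scheme.{u}) [X.Over (Spec (CommRingCat.of k))] [IsIntegral X] [IsSeparated (X ↘ (Spec (CommRingCat.of k)))]
    [LocallyOfFiniteType (X ↘ (Spec (CommRingCat.of k)))] [QuasiCompact (X ↘ (Spec (CommRingCat.of k)))]
    (hreg : ∀ x : ↥X, IsRegularLocalRing ↑(X.presheaf.stalk x))
    (Y : Scheme.{u}) (i : Y ⟶ X) [IsClosedImmersion i] [IsIntegral Y]
    (hregY : ∀ y : ↥Y, IsRegularLocalRing ↑(Y.presheaf.stalk y))
    (Xt : Scheme.{u}) (π : Xt ⟶ X) (hπ : BlowUp.IsBlowUp π i.ker) :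
    ∀ z : ↥Xt, IsRegularLocalRing ↑(Xt.presheaf.stalk z) := by
  have : IsLocallyNoetherian X := LocallyOfFiniteType.isLocallyNoetherian (X ↘ (Spec (CommRingCat.of k)))
  have : IsLocallyNoetherian Y := LocallyOfFiniteType.isLocallyNoetherian i
  have h := Groth.Agent.S8855.result i hreg hregY
  have hJ : RegImm.IsRegularIdeal RegImm.Kind.regular i.ker := by
    intro x hx
    have hx' : x ∈ Set.range i := by
      have h2 : (i.ker.support : Set X) = closure (Set.range i) := Scheme.Hom.support_ker i
      rw [i.isClosedEmbedding.isClosed_range.closure_eq] at h2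
      exact h2.le hx
    obtain ⟨y, rfl⟩ := hx'
    obtain ⟨U, hU, -, rs, hrs, hker⟩ := h.2 y
    exact ⟨U, hU, rs, hrs, (Scheme.Hom.ker_apply i U).trans hker⟩
  exact fun z => Groth.Agent.BlowUpKoszul.isRegularLocalRing_stalk_blowUp hreg
    (fun U => Groth.Agent.BlowUpKoszul.isRegularRing_quotient_of_closedImmersion i hregY U) hJ hπ z

end Groth.Agent.S11308
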