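import Groth.Statements.S1131
import Groth.Agent.Desc19b.ToDDFamFF

set_option autoImplicit false
open CategoryTheory CategoryTheory.Limits AlgebraicGeometry Opposite
universe u
open Desc

namespace Groth.Agent.S1131

/-- If p : X ⟶ S is surjective, flat and quasi-compact, then the functor sending a scheme over S to its
canonical descent datum relative to p is full. (Faithfulness, which needs no quasi-compactness, is a
companion statement.) (Descent data are taken in functor-of-points form, equivalent by the Yoneda
lemma to the usual form of an isomorphism over X ×_S X satisfying the cocycle condition.) -/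
theorem result {X S : Scheme.{u}} (p : X ⟶ S) [Surjective p] [Flat p] [QuasiCompact p] :
    (Desc.toDD p).Full := by
  have hf : Presieve.ofArrows (fun _ : PUnit.{u + 1} => X) (fun _ => p) ∈ Scheme.fpqcPrecoverage S := by
    rw [Presieve.ofArrows_pUnit]
    exact p.singleton_mem_fpqcPrecoverage
  haveI := Groth.Agent.Desc19b.toDDFam_full hf
  refine ⟨fun {U V} a => ?_⟩
  let b : (Desc.toDDFam (fun _ : PUnit.{u + 1} => p)).obj U ⟶ (Desc.toDDFam (fun _ : PUnit.{u + 1} => p)).obj V :=
    ⟨fun _ => a.hom, fun T i j x₀ x₁ h v w hw => a.comm x₀ x₁ h v w hw⟩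
  obtain ⟨g, hg⟩ := (Desc.toDDFam (fun _ : PUnit.{u + 1} => p)).map_surjective b
  refine ⟨g, Desc.SchDD.hom_ext ?_⟩
  exact congrArg (fun c => Desc.SchDDFam.Hom.hom c PUnit.unit) hg

end Groth.Agent.S1131
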