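import Groth.Statements.S11311
import Groth.Agent.CAlgH3.RationalPointSmooth

set_option autoImplicit false
universe u
open CAlg

namespace Groth.Agent.S11311

/-- Let k be a field and B a local ring containing k whose residue field is k (the composite k → B → B/m
is bijective), and which is a localization of a finitely generated k-algebra (essentially of finite
type over k); let d = dim B. If the module of differentials Ω_{B/k} is free of rank d then B is a
regular local ring. Conversely, if k is perfect and B is a regular local ring, then Ω_{B/k} is free
of rank d. (The published statement assumes k perfect as one of its hypotheses and asserts the
equivalence; its proof of the first implication does not use perfectness, so that hypothesis is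
placed on the converse only.) -/
theorem result (k B : Type u) [Field k] [CommRing B] [Algebra k B]
    [IsLocalRing B] [Algebra.EssFiniteType k B]
    (hres : Function.Bijective (algebraMap k (IsLocalRing.ResidueField B)))
    (d : ℕ) (hd : ringKrullDim B = (d : WithBot ℕ∞)) :
    ((Module.Free B (KaehlerDifferential k B) ∧ Module.finrank B (KaehlerDifferential k B) = d) →
        IsRegularLocalRing B) ∧
      (PerfectField k → IsRegularLocalRing B →
        Module.Free B (KaehlerDifferential k B) ∧ Module.finrank B (KaehlerDifferential k B) = d) := by
    have : IsNoetherianRing B := Algebra.EssFiniteType.isNoetherianRing k B
    have h := Groth.Agent.CAlgH3.regular_iff_kaehler_free k B hres d hd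
    exact ⟨h.2, fun _ hB => h.1 hB⟩

end Groth.Agent.S11311
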