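import Groth.Statements.S11316
import Groth.Agent.SerreDual.CMDual

set_option autoImplicit false
universe u
open CategoryTheory CategoryTheory.Limits AlgebraicGeometry
attribute [local instance] HasDerivedCategory.standard
open ProjDual

namespace Groth.Agent.S11316

/-- Let k be an algebraically closed field and X a closed subscheme of some P^N_k, of dimension n, which
is Cohen–Macaulay (every local ring of X is Cohen–Macaulay) and equidimensional (every irreducible
component of X has dimension n); let (ω, t) be a dualizing sheaf for X, i.e. ω is coherent, t :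
H^n(X, ω) → k is k-linear, and for every coherent F and every k-linear form ψ on H^n(X, F) there is
exactly one φ : F → ω with ψ = t ∘ H^n(φ). Then for every finite locally free O_X-module F for which
the internal Hom functor Hom_{O_X}(F, -) exists (right adjoint of F ⊗ -) and every i ≤ n, the k-dual
of H^i(X, F) is isomorphic to H^(n-i)(X, Hom_{O_X}(F, ω)). (Existence of a k-linear isomorphism
only; the published statement writes the second module as H^(n-i)(X, F^∨ ⊗ ω) and obtains the
isomorphism from the duality maps θ^i.) -/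
theorem result
    (k : Type u) [Field k] [IsAlgClosed k] (N n : ℕ) (X : Scheme.{u}) [X.Over (Spec (CommRingCat.of k))]
    (ι : X ⟶ CohB1.ProjSpace N k) [IsClosedImmersion ι] (hι : ι ≫ CohB1.ProjSpace.toSpec N k = X ↘ Spec (CommRingCat.of k))
    (hn : topologicalKrullDim ↥X = n)
    (hCM : ∀ x : X, LocCoh.IsCohenMacaulayLocalRing (X.presheaf.stalk x))
    (heq : ∀ Z : Set ↥X, Z ∈ irreducibleComponents ↥X → topologicalKrullDim ↥Z = (n : WithBot ℕ∞))
    (ω : X.Modules) (hω : Coh.IsCoh ω) (t : Coh.HH X ω n →ₗ[k] k)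
    (hdual : ∀ F : X.Modules, Coh.IsCoh F → ∀ ψ : Coh.HH X F n →ₗ[k] k,
        ∃! φ : F ⟶ ω, ∀ x : Coh.HH X F n,
          ψ x = t (Sheaf.H.map ((SheafOfModules.toSheaf X.ringCatSheaf).map φ) n x))
    (F : X.Modules) (hF : FlatMod.IsFinLocFree F) [DCoh.HasSheafHom F] (i : ℕ) (hi : i ≤ n) :
    Nonempty (Module.Dual k (Coh.HH X F i) ≃ₗ[k] Coh.HH X ((DCoh.sheafHom F).obj ω) (n - i)) := by
  obtain ⟨hp, L, hL⟩ := SerreDual.isProper_and_ample_of_closedImmersion ι hι
  haveI := hp
  have hrep : ∀ G : X.Modules, Coh.IsCoh G → SerreDual.Rep t G := fun G hG =>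
    (SerreDual.rep_iff t G).2 (hdual G hG)
  haveI := Groth.Agent.EulerLib.isNoetherian_of_proper (k := k) (X := X)
  haveI : HasExt.{u} X.Modules :=
    haveI : IsGrothendieckAbelian.{u} X.Modules := Groth.Agent.DCat.schemeModules_isGrothendieckAbelian X
    inferInstance
  have hdim : ∀ x : X, IsClosed ({x} : Set X) → ringKrullDim (X.presheaf.stalk x) = n := fun x hx => by
    obtain ⟨-, hc⟩ := FlatMor12.coheight_add_ptDim (X ↘ Spec (CommRingCat.of k)) n
      (fun η hη => by exact_mod_cast (DimLib.forall_components_iff (X ↘ Spec (CommRingCat.of k))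
        (fun s => s = (n : WithBot ℕ∞))).1 heq η hη) x
    rw [ringKrullDim_stalk_eq_coheight, hc, (DimLib.ptDim_eq_zero_iff _ x).2 hx, Nat.sub_zero]
    rfl
  obtain ⟨e⟩ := (SerreDual.duality_cm hL hn.le (fun x hx => ⟨hCM x, hdim x hx⟩) hω t hrep F
    (Groth.Agent.Coherent.CohBC.isCoh_of_isFinLocFree hF) (n - i)).1 i (Nat.sub_add_cancel hi)
  exact ⟨(e.symm.trans (SerreDual.extLocFreeEquiv k hF ω (n - i))).trans
    (SerreDual.hmapIso k ((Groth.Agent.Coherent.sheafHomIso F).app ω).symm (n - i))⟩

end Groth.Agent.S11316
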