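import Groth.Prelude.Def_CohTop
import Mathlib.Topology.NoetherianSpace
import Mathlib.CategoryTheory.Sites.Limits
import Mathlib.Algebra.Category.Grp.Colimits
import Groth.Agent.SerreDual.Colim
import Groth.Agent.EtCechLib.Colim

set_option autoImplicit false
universe u
namespace CategoryTheory
end CategoryTheory
namespace CategoryTheory.Limits
end CategoryTheory.Limits
open CategoryTheory CategoryTheory.Limits
namespace CohTop
end CohTop
open CohTop

namespace Groth.Agent.S11320

/-- On a Noetherian topological space X, the direct limit, in the category of abelian sheaves, of a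
directed system (F_i) of flasque abelian sheaves indexed by a nonempty directed preorder is flasque
(all its restriction maps are surjective). -/
theorem result {X : TopCat.{u}} [TopologicalSpace.NoetherianSpace X]
    (ι : Type u) [Preorder ι] [IsDirected ι (· ≤ ·)] [Nonempty ι]
    (D : ι ⥤ CohTop.Ab X) (hD : ∀ i : ι, TopCat.Sheaf.IsFlasque (D.obj i)) :
    TopCat.Sheaf.IsFlasque (colimit D : CohTop.Ab X) := by
  classical
  let 𝔅 : EtCechLib.Basis.{u} (Opens.grothendieckTopology X) :=
    { B := fun _ => True
      Cov := fun U κ Y => Finite κ ∧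
        Sieve.ofArrows (fun i => (Y i).left) (fun i => (Y i).hom) ∈ Opens.grothendieckTopology X U
      mem := fun U κ Y h => h.2
      inter := fun _ _ _ _ _ _ => trivial
      refine_ := fun U _ T hT => by
        obtain ⟨n, V, g, hg, hcov⟩ := SerreDual.isQCSite_opens (T := X) U T hT
        refine ⟨ULift.{u} (Fin n), fun k => Over.mk (g k.down), ⟨inferInstance,
          (Opens.grothendieckTopology X).superset_covering ?_ hcov⟩, fun k => hg k.down⟩
        rw [Sieve.ofArrows, Sieve.generate_le_iff]
        rintro W f ⟨k⟩
        exact Sieve.ofArrows_mk _ (fun i : ULift.{u} (Fin n) => g i.down) ⟨k⟩ }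
  refine ⟨fun {U V} i => (AddCommGrpCat.epi_iff_surjective _).2 fun s => ?_⟩
  obtain ⟨j, t, ht⟩ := EtCechLib.Basis.exists_stage 𝔅 (fun _ _ _ h => h.1) (colimit.cocone D) (colimit.isColimit D)
    (U := V.unop) trivial s
  have := hD j
  obtain ⟨t', ht'⟩ := (AddCommGrpCat.epi_iff_surjective _).1 ((hD j).epi i) t
  refine ⟨(colimit.ι D j).hom.app U t', ?_⟩
  rw [← ht, ← ht']
  exact (NatTrans.naturality_apply (colimit.ι D j).hom i t').symm

end Groth.Agent.S11320
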