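import Groth.Statements.S11321
import Groth.Agent.Desc19b.FlatClosure
import Groth.Agent.WeilLib.Cycles
import Groth.Agent.CAlgH3.RegularLocal
import Groth.Agent.CurvesLib24.Basic

set_option autoImplicit false
set_option backward.isDefEq.respectTransparency false
universe u
open CategoryTheory CategoryTheory.Limits AlgebraicGeometry
open FlatMor

namespace Groth.Agent.S11321

open CategoryTheory Limits AlgebraicGeometry in
/-- Flat extension of a closed subscheme of the preimage of a dense open. -/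
theorem exists_unique_aux {Y Q : Scheme.{u}} [IsIntegral Y] [IsLocallyNoetherian Y]
    (hP : ∀ y : Y, IsPrincipalIdealRing (Y.presheaf.stalk y)) (p : Q ⟶ Y) [LocallyOfFiniteType p]
    (U : Y.Opens) (hU : (U : Set Y).Nonempty) {X : Scheme.{u}} (i : X ⟶ ↑(p ⁻¹ᵁ U)) [IsClosedImmersion i]
    [Flat (i ≫ (p ⁻¹ᵁ U).ι ≫ p)] :
    ∃ (X' : Scheme.{u}) (i' : X' ⟶ Q) (j : X ⟶ X'), IsClosedImmersion i' ∧ Flat (i' ≫ p) ∧
      IsPullback j i i' (p ⁻¹ᵁ U).ι ∧
      ∀ (X'' : Scheme.{u}) (i'' : X'' ⟶ Q) (j'' : X ⟶ X''), IsClosedImmersion i'' → Flat (i'' ≫ p) →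
        IsPullback j'' i i'' (p ⁻¹ᵁ U).ι → ∃ e : X' ≅ X'', e.hom ≫ i'' = i' := by
  have : IsLocallyNoetherian Q := LocallyOfFiniteType.isLocallyNoetherian p
  let σ := i ≫ (p ⁻¹ᵁ U).ι
  have : QuasiCompact σ := inferInstanceAs (QuasiCompact (i ≫ (p ⁻¹ᵁ U).ι))
  have : Flat (σ ≫ p) := by rw [Category.assoc]; infer_instance
  have hfl := Desc19b.flat_imageι hP σ p
  let l : X ⟶ pullback σ.imageι (p ⁻¹ᵁ U).ι := pullback.lift σ.toImage i (Scheme.Hom.toImage_imageι σ)
  have hl : l ≫ pullback.snd σ.imageι (p ⁻¹ᵁ U).ι = i := pullback.lift_snd _ _ _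
  have sq : IsPullback (𝟙 X) i σ (p ⁻¹ᵁ U).ι := by
    refine IsPullback.of_isLimit' ⟨by rw [Category.id_comp]⟩ (PullbackCone.IsLimit.mk _ (fun s => s.fst)
      (fun s => by simp) (fun s => ?_) fun s r h1 _ => by simpa using h1)
    rw [← cancel_mono (p ⁻¹ᵁ U).ι, Category.assoc]
    exact s.condition
  have : IsIso l := IsClosedImmersion.isIso_of_ker_eq i (pullback.snd σ.imageι (p ⁻¹ᵁ U).ι) l hl (by
    rw [Desc19b.ker_pullback_snd_of_flat, Scheme.Hom.imageι, Scheme.IdealSheafData.ker_subschemeι,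
      ← Desc19b.ker_pullback_snd_of_flat σ (p ⁻¹ᵁ U).ι, ← sq.isoPullback_hom_snd, Scheme.Hom.ker_comp_of_isIso])
  refine ⟨σ.image, σ.imageι, σ.toImage, inferInstance, hfl,
    IsPullback.of_iso_pullback ⟨Scheme.Hom.toImage_imageι σ⟩ (asIso l) (pullback.lift_fst _ _ _) hl,
    fun X'' i'' j'' _ _ h'' => ?_⟩
  have hdom : IsSchemeTheoreticallyDominant U.ι := by
    have : IsDominant U.ι := ⟨by
      rw [DenseRange, Scheme.Opens.range_ι]; exact U.2.dense hU⟩
    exact .of_isDominant _
  have : IsSchemeTheoreticallyDominant j'' :=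
    IsSchemeTheoreticallyDominant.of_isPullback (f := U.ι) (g := i'' ≫ p)
      ((h''.paste_vert (isPullback_morphismRestrict p U).flip).flip)
  have hk : σ.imageι.ker = i''.ker := by
    rw [Scheme.Hom.imageι, Scheme.IdealSheafData.ker_subschemeι,
      show σ = j'' ≫ i'' from h''.w.symm, Scheme.Hom.ker_comp, j''.ker_eq_bot,
      Scheme.IdealSheafData.map_bot]
  have := IsClosedImmersion.isIso_lift i'' σ.imageι hk.symm
  exact ⟨asIso (IsClosedImmersion.lift i'' σ.imageι hk.symm.le), IsClosedImmersion.lift_fac _ _ _⟩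


/-- Flat limits over a curve: let Y be a locally Noetherian integral scheme of dimension one all of
whose local rings are regular local rings, P a closed point of Y with open complement U, V = P^n_U
the inverse image of U in P^n_Y, and X a closed subscheme of V (a closed immersion i : X → V) which
is flat over Y, equivalently over U. Then X extends to a closed subscheme X' of P^n_Y which is flat
over Y and whose restriction to V is X — there are a closed immersion i' : X' → P^n_Y with X' → Y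
flat and a morphism j : X → X' making X the fibre product of X' and V over P^n_Y — and such an
extension is unique: for any second one (X'', i'', j'') there is an isomorphism X' ≅ X'' over P^n_Y.
(The published statement does not say that Y is locally Noetherian; the printed argument, through
associated points and the scheme-theoretic closure, uses it, and this row assumes it.) -/
theorem result
    {Y : Scheme.{u}} [IsIntegral Y] [IsLocallyNoetherian Y] (hreg : ∀ y : Y, IsRegularLocalRing (Y.presheaf.stalk y))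
    (hY : topologicalKrullDim ↥Y = 1) (P : Y) (U : Y.Opens) (hU : (U : Set ↥Y) = {P}ᶜ) (n : ℕ)
    (X : Scheme.{u}) (i : X ⟶ ↑(CohB1.ProjSpaceOver.toBase n Y ⁻¹ᵁ U)) [IsClosedImmersion i]
    [Flat (i ≫ (CohB1.ProjSpaceOver.toBase n Y ⁻¹ᵁ U).ι ≫ CohB1.ProjSpaceOver.toBase n Y)] :
    ∃ (X' : Scheme.{u}) (i' : X' ⟶ CohB1.ProjSpaceOver n Y) (j : X ⟶ X'),
      IsClosedImmersion i' ∧ Flat (i' ≫ CohB1.ProjSpaceOver.toBase n Y) ∧
      IsPullback j i i' (CohB1.ProjSpaceOver.toBase n Y ⁻¹ᵁ U).ι ∧
      ∀ (X'' : Scheme.{u}) (i'' : X'' ⟶ CohB1.ProjSpaceOver n Y) (j'' : X ⟶ X''),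
        IsClosedImmersion i'' → Flat (i'' ≫ CohB1.ProjSpaceOver.toBase n Y) →
        IsPullback j'' i i'' (CohB1.ProjSpaceOver.toBase n Y ⁻¹ᵁ U).ι →
        ∃ e : X' ≅ X'', e.hom ≫ i'' = i' := by
  have : IsProper (CohB1.ProjSpaceOver.toBase n Y) := Groth.Agent.WeilLib.isProper_toBase n Y
  refine exists_unique_aux (fun y => ?_) (CohB1.ProjSpaceOver.toBase n Y) U ?_ i
  · have := hreg y
    have := Groth.Agent.CAlgH3.isDomain_of_isRegularLocalRing (Y.presheaf.stalk y)
    exact Groth.Agent.Desc19b.isPrincipalIdealRing_of_regular_dim_le_one _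
      ((Groth.Agent.CurvesLib24.stalk_dim_le_topologicalKrullDim y).trans hY.le)
  · rw [hU]
    by_contra hne
    rw [Set.not_nonempty_iff_eq_empty, Set.compl_empty_iff] at hne
    have : Subsingleton Y := ⟨fun a b => ((hne.ge (Set.mem_univ a) : a = P)).trans ((hne.ge (Set.mem_univ b) : b = P)).symm⟩
    have h0 := (topologicalKrullDim_zero_of_discreteTopology (X := Y))
    rw [hY] at h0
    exact absurd h0 (by decide)

end Groth.Agent.S11321
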