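import Groth.Statements.S11323
import Groth.Agent.ExtAff22.Transport
import Groth.Agent.SerreDual.ExtShRestrict
import Groth.Agent.SerreDual.ExtShStalk
import Groth.Agent.Coherent.FinMor
import Groth.Agent.RefHullLib.Restrict

set_option autoImplicit false
set_option linter.style.haveILetI false
set_option backward.isDefEq.respectTransparency.types false
universe u
open CategoryTheory AlgebraicGeometry TopologicalSpace
open Coherent

namespace Groth.Agent.S11323

/-- Let X be a Noetherian scheme, F a coherent O_X-module, G any O_X-module, x a point of X and i ≥ 0.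
Then the stalk at x of the Ext sheaf Ext^i(F, G) — the i-th right derived functor of the internal
Hom functor Hom(F, -) on O_X-modules (its existence and that of injective resolutions are the stated
instance hypotheses, both true), evaluated at G — is isomorphic, as a module over the local ring at
x, to Ext^i of the stalks F_x, G_x computed in the category of modules over that local ring. (Stalks
are taken as fibres at the point of the site of opens given by x; existence of an isomorphism only.) -/
theorem result (X : Scheme.{u}) [IsNoetherian X]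
    (F G : X.Modules) (hF : Coh.IsCoh F)
    [ModSite.HasSheafHom (O := X.sheaf) F] [HasInjectiveResolutions (ModSite.Mod X.sheaf)]
    (x : X) (i : ℕ) :
    Nonempty (ModSite.stalkMod (Opens.pointGrothendieckTopology x) ((ModSite.extSh (O := X.sheaf) F i).obj G)
      ≃ₗ[ModSite.stalkRing (Opens.pointGrothendieckTopology x) X.sheaf]
      Abelian.Ext (ModSite.stalkMod (O := X.sheaf) (Opens.pointGrothendieckTopology x) F)
        (ModSite.stalkMod (O := X.sheaf) (Opens.pointGrothendieckTopology x) G) i) := by
  haveI : HasInjectiveResolutions X.Modules := ‹HasInjectiveResolutions (ModSite.Mod X.sheaf)›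
  let I : InjectiveResolution G := injectiveResolution G
  obtain ⟨U, hU, hxU, -⟩ : ∃ U : X.Opens, IsAffineOpen U ∧ x ∈ U ∧ U ≤ ⊤ :=
    TopologicalSpace.Opens.isBasis_iff_nbhd.mp X.isBasis_affineOpens (TopologicalSpace.Opens.mem_top x)
  obtain ⟨y, rfl⟩ : ∃ y : U.toScheme, U.ι y = x := ⟨⟨x, hxU⟩, rfl⟩
  haveI : IsAffine U.toScheme := hU
  haveI := Groth.Agent.SerreDual.hasInjectiveResolutions_modules U.toScheme
  let J : InjectiveResolution (G.restrict U.ι) := injectiveResolution _
  obtain ⟨w⟩ := Groth.Agent.SerreDual.nonempty_homology_restrict U.ι (F := F) I J i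
  obtain ⟨eq⟩ := Groth.Agent.SerreDual.nonempty_stalk_homology_affine y J i (Groth.Agent.Coherent.isCoh_restrict U hF)
  let H : X.Modules := (Groth.Agent.SerreDual.homCx F I).homology i
  let t : (ModSite.extSh (O := X.sheaf) F i).obj G ≅ H := Groth.Agent.SerreDual.extShIso F I i
  let x := U.ι y
  let φ₀ := Groth.Agent.ExtAff22.siteRingEquiv x
  let φ₁ : X.presheaf.stalk x ≃+* U.toScheme.presheaf.stalk y :=
    RingEquiv.ofBijective (U.ι.stalkMap y).hom (ConcreteCategory.bijective_of_isIso (U.ι.stalkMap y))
  let φ := φ₀.trans φ₁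
  have hres : ∀ M : X.Modules, ∃ e : M.presheaf.stalk x ≃+ (M.restrict U.ι).presheaf.stalk y,
      ∀ (a : X.presheaf.stalk x) (v : M.presheaf.stalk x), e (a • v) = φ₁ a • e v := fun M => by
    obtain ⟨φ', e, he, hφ', -⟩ := Groth.Agent.RefHullLib.exists_semilinear_restrict U.ι M y
    refine ⟨e, fun a v => (he a v).trans ?_⟩
    rw [hφ' a]
    rfl
  have hsite : ∀ M : X.Modules,
      ∃ e : (ModSite.stalkMod (Opens.pointGrothendieckTopology x) (O := X.sheaf) M : Type u) ≃+
        (M.restrict U.ι).presheaf.stalk y,
      ∀ (r : ModSite.stalkRing (Opens.pointGrothendieckTopology x) X.sheaf)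
        (v : (ModSite.stalkMod (Opens.pointGrothendieckTopology x) (O := X.sheaf) M : Type u)),
        e (r • v) = φ r • e v := fun M => by
    obtain ⟨e, he⟩ := hres M
    refine ⟨(Groth.Agent.ExtAff22.siteModEquiv x M).trans e, fun r v => ?_⟩
    show e (Groth.Agent.ExtAff22.siteModEquiv x M (r • v)) = _
    rw [Groth.Agent.ExtAff22.siteModEquiv_smul, he]
    rfl
  obtain ⟨eF, hF'⟩ := hsite F
  obtain ⟨eG, hG'⟩ := hsite G
  obtain ⟨eH, hH'⟩ := hsite H
  let t' : (ModSite.stalkMod (Opens.pointGrothendieckTopology x) (O := X.sheaf)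
      ((ModSite.extSh (O := X.sheaf) F i).obj G) : Type u) ≃ₗ[ModSite.stalkRing (Opens.pointGrothendieckTopology x) X.sheaf]
      (ModSite.stalkMod (Opens.pointGrothendieckTopology x) (O := X.sheaf) H : Type u) :=
    ((Groth.Agent.HTop16.SiteStalk.stalkM (O := X.sheaf) (Opens.pointGrothendieckTopology x)).mapIso t).toLinearEquiv
  let σ := ((DerSch.stalkFunctor U.toScheme y).mapIso w).toLinearEquiv.trans eq
  obtain ⟨r⟩ := Groth.Agent.ExtAff22.nonempty_ext_transport φ
    (N := (DerSch.stalkFunctor U.toScheme y).obj (F.restrict U.ι))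
    (M := (DerSch.stalkFunctor U.toScheme y).obj (G.restrict U.ι))
    eF hF' eG hG' i (eH.trans σ.toAddEquiv) (fun r v => by
      show σ (eH (r • v)) = φ r • σ (eH v)
      rw [hH']
      exact σ.map_smul (φ r) (eH v))
  exact ⟨t'.trans r⟩

end Groth.Agent.S11323
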