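import Groth.Statements.S11324
import Groth.Agent.SerreDual.ExtShProj

set_option autoImplicit false
universe u
open CategoryTheory CategoryTheory.Limits AlgebraicGeometry
open ProjDual

namespace Groth.Agent.S11324

/-- Let k be a field, P = P^N_k, ι : X → P a closed immersion, r a natural number with dim X + r ≤ N (so
X has codimension at least r in P), and ω_P = O_P(-N-1). Then for every i < r the Ext sheaf
Ext^i_{O_P}(ι_* O_X, ω_P) — the i-th right derived functor of the internal Hom functor Hom(ι_* O_X,
-) on O_P-modules (its existence and that of injective resolutions are the stated instance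
hypotheses, both true), evaluated at ω_P — is zero. -/
theorem result (k : Type u) [Field k] (N : ℕ)
    {X : Scheme.{u}} (ι : X ⟶ CohB1.ProjSpace N k) [IsClosedImmersion ι] (r : ℕ)
    (hr : topologicalKrullDim ↥X + (r : WithBot ℕ∞) ≤ (N : WithBot ℕ∞))
    [ModSite.HasSheafHom (O := (CohB1.ProjSpace N k).sheaf) ((Scheme.Modules.pushforward ι).obj (Coh.structureModule X))]
    [HasInjectiveResolutions (ModSite.Mod (CohB1.ProjSpace N k).sheaf)] (i : ℕ) (hi : i < r) :
    IsZero ((ModSite.extSh (O := (CohB1.ProjSpace N k).sheaf)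
      ((Scheme.Modules.pushforward ι).obj (Coh.structureModule X)) i).obj
        (Twist.twistProjSpace N k (-((N : ℤ) + 1)))) := by
  letI : X.Over (Spec (CommRingCat.of k)) := ⟨ι ≫ CohB1.ProjSpace.toSpec N k⟩
  haveI hres : HasInjectiveResolutions (CohB1.ProjSpace N k).Modules :=
    SerreDual.hasInjectiveResolutions_modules _
  let I := injectiveResolution (Twist.twistProjSpace N k (-((N : ℤ) + 1)))
  haveI := (SerreDual.isProper_and_ample_of_closedImmersion ι (rfl : ι ≫ CohB1.ProjSpace.toSpec N k = X ↘ _)).1
  haveI := EulerLib.isNoetherian_of_proper (k := k) (X := X)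
  have hrN : r ≤ N ∧ topologicalKrullDim ↥X ≤ ((N - r : ℕ) : WithBot ℕ∞) ∨ IsEmpty X := by
    rcases isEmpty_or_nonempty X with hX | hX
    · exact Or.inr hX
    · have h0 := TopDim.dim_nonneg (X := X)
      have hle : (r : WithBot ℕ∞) ≤ (N : WithBot ℕ∞) :=
        le_trans (by simpa [add_comm] using add_le_add_right h0 (r : WithBot ℕ∞)) hr
      have hrN : r ≤ N := by exact_mod_cast hle
      refine Or.inl ⟨hrN, ?_⟩
      generalize topologicalKrullDim ↥X = D at hr h0
      induction D using WithBot.recBotCoe with
      | bot => exact bot_le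
      | coe D =>
        induction D using ENat.recTopCoe with
        | top =>
          exfalso
          rw [show ((⊤ : ℕ∞) : WithBot ℕ∞) + (r : WithBot ℕ∞) = ((⊤ : ℕ∞) : WithBot ℕ∞) by
            rw [← WithBot.coe_natCast, ← WithBot.coe_add, top_add]] at hr
          exact ENat.coe_ne_top N (top_le_iff.1 (WithBot.coe_le_coe.1 (hr.trans_eq (WithBot.coe_natCast N).symm)))
        | coe D =>
          have h' : D + r ≤ N := by exact_mod_cast hr
          exact WithBot.coe_le_coe.2 (ENat.coe_le_coe.2 (show D ≤ N - r by omega))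
  rw [(SerreDual.extShIso _ I i).isZero_iff]
  rcases le_or_gt i N with hiN | hiN
  · refine (SerreDual.isZero_homology_push_iff ι rfl I (Nat.sub_add_cancel hiN)).2 ⟨0, fun m _ => ?_⟩
    haveI : Coh.IsQCoh ((Scheme.Modules.pullback ι).obj (Twist.twistProjSpace N k (-(m : ℤ)))) :=
      (Coherent.CohBC.isCoh_of_isFinLocFree (SerreDual.isFinLocFree_of_invertible
        (PicLoc.isInvertible_pullback ι (SerreDual.isInvertible_twist N k (-(m : ℤ)))))).1
    haveI := EulerLib.isSeparated_of_proper (k := k) (X := X)
    rcases hrN with ⟨hrN, hdim⟩ | hX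
    · exact EulerLib.subsingleton_HH_of_dim _ hdim (by omega)
    · exact EulerLib.subsingleton_HH_of_isZero
        (ModStalk.isZero_of_stalks fun x => (hX.false x).elim) (N - i)
  · rcases hrN with ⟨hrN, hdim⟩ | hX
    · omega
    · have hF : IsZero ((Scheme.Modules.pushforward ι).obj (Coh.structureModule X)) :=
        (Scheme.Modules.pushforward ι).map_isZero (ModStalk.isZero_of_stalks fun x => (hX.false x).elim)
      refine ((SerreDual.homCx _ I).exactAt_iff_isZero_homology i).1
        (ShortComplex.exact_of_isZero_X₂ _ ((IsZero.iff_id_eq_zero _).2 ?_))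
      exact (SerreDual.precompApp_id _ _).symm.trans
        ((congrArg (SerreDual.precompApp · _) (hF.eq_of_src _ 0)).trans (SerreDual.precompApp_zero _ _ _))

end Groth.Agent.S11324
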