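import Groth.Statements.S11325
import Groth.Agent.FundLocal.LciRegular
import Groth.Agent.FundLocal.TopForms
import Groth.Agent.SerreDual.ExtShRep
import Groth.Agent.SerreDual.ExtShTensor
import Groth.Agent.Coherent.InternalHomAdj

set_option autoImplicit false
universe u
open CategoryTheory CategoryTheory.Limits AlgebraicGeometry
attribute [local instance] HasDerivedCategory.standard
open ProjDual

namespace Groth.Agent.S11325

/-- Let k be a field, P = P^N_k and ι : X → P a closed immersion which makes X a local complete
intersection of codimension r in P: every irreducible component of X has dimension N - r, and every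
point of X has an affine open neighbourhood U in P on which the ideal of X is generated by r
sections. Let C be an r-th exterior power of the conormal sheaf of X in P (a locally free O_X-module
of rank one; its internal Hom functor is assumed to exist, which it does) and put M = ι^* O_P(-N-1)
⊗ Hom_{O_X}(C, O_X), that is ω_P ⊗ (∧^r of the conormal sheaf)^∨. Then M is a dualizing sheaf for X:
with n = N - r there is a k-linear map t : H^n(X, M) → k such that for every coherent O_X-module F
and every k-linear form ψ on H^n(X, F) there is exactly one morphism φ : F → M with ψ = t ∘ H^n(φ).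
(The published statement says that the dualizing sheaf of X is isomorphic to M, and in particular is
invertible; by uniqueness of dualizing sheaves this is the same assertion.) -/
theorem result
    (k : Type u) [Field k] (N r : ℕ) (hr : r ≤ N) (X : Scheme.{u}) [X.Over (Spec (CommRingCat.of k))]
    (ι : X ⟶ CohB1.ProjSpace N k) [IsClosedImmersion ι] (hι : ι ≫ CohB1.ProjSpace.toSpec N k = X ↘ Spec (CommRingCat.of k))
    (heq : ∀ Z : Set ↥X, Z ∈ irreducibleComponents ↥X → topologicalKrullDim ↥Z = ((N - r : ℕ) : WithBot ℕ∞))
    (hgen : ∀ x : X, ∃ U : (CohB1.ProjSpace N k).affineOpens, ι.base x ∈ (U : (CohB1.ProjSpace N k).Opens) ∧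
      ∃ f : Fin r → Γ(CohB1.ProjSpace N k, (U : (CohB1.ProjSpace N k).Opens)), ι.ker.ideal U = Ideal.span (Set.range f))
    (C : X.Modules) (hC : ExtPow.IsExtPow r (Omega.conormal ι) C) [DCoh.HasSheafHom C] :
    ∃ t : Coh.HH X (CohB1.tensorMod ((Scheme.Modules.pullback ι).obj (Twist.twistProjSpace N k (-((N : ℤ) + 1))))
        ((DCoh.sheafHom C).obj (Coh.structureModule X))) (N - r) →ₗ[k] k,
      ∀ F : X.Modules, Coh.IsCoh F → ∀ ψ : Coh.HH X F (N - r) →ₗ[k] k,
        ∃! φ : F ⟶ (CohB1.tensorMod ((Scheme.Modules.pullback ι).obj (Twist.twistProjSpace N k (-((N : ℤ) + 1)))) ((DCoh.sheafHom C).obj (Coh.structureModule X))), ∀ x : Coh.HH X F (N - r),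
          ψ x = t (Sheaf.H.map ((SheafOfModules.toSheaf X.ringCatSheaf).map φ) (N - r) x) := by
  haveI hres : HasInjectiveResolutions (CohB1.ProjSpace N k).Modules :=
    Groth.Agent.SerreDual.hasInjectiveResolutions_modules _
  have hreg := Groth.Agent.FundLocal.isRegularImmersion_lci hr ι heq hgen
  have hCf := Groth.Agent.SerreDual.isFinLocFree_of_invertible
    (Groth.Agent.Canon15.isInvertible_of_isExtPow (Groth.Agent.FundLocal.isFinLocFreeOfRank_conormal ι hreg) hC)
  haveI := Groth.Agent.CAlgH3.LocFreeFactor.isQCoh_of_finLocFree (Groth.Agent.SerreDual.isFinLocFree_of_invertible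
    (Groth.Agent.SerreDual.isInvertible_twist N k (-((N : ℤ) + 1))))
  let I := injectiveResolution (Twist.twistProjSpace N k (-((N : ℤ) + 1)))
  obtain ⟨e⟩ := Groth.Agent.FundLocal.nonempty_homology_iso ι I hreg hC
  obtain ⟨v⟩ := Groth.Agent.SerreDual.nonempty_internalHom_eq_tensor hCf
    ((Scheme.Modules.pullback ι).obj (Twist.twistProjSpace N k (-((N : ℤ) + 1))))
  let w := Groth.Agent.AmpleLib.tensorIso
      (Iso.refl ((Scheme.Modules.pullback ι).obj (Twist.twistProjSpace N k (-((N : ℤ) + 1)))))
      ((Groth.Agent.Coherent.sheafHomIso C).app (Coh.structureModule X)) ≪≫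
    Groth.Agent.AmpleLib.tensorComm _ _ ≪≫ v.symm
  have hsub : N - (N - r) = r := by omega
  obtain ⟨t, ht⟩ := Groth.Agent.SerreDual.exists_trace_extSh ι hι I (Nat.sub_le N r)
    (Groth.Agent.SerreDual.dim_le_of_components fun Z hZ => (heq Z hZ).le)
    ((Scheme.Modules.pushforward ι).mapIso w ≪≫ e.symm ≪≫ eqToIso (by rw [hsub]))
  exact ⟨t, fun F hF => (Groth.Agent.SerreDual.rep_iff t F).1 (ht F hF)⟩

end Groth.Agent.S11325
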