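import Groth.Statements.S11330
import Groth.Agent.CurveRR24.AlgClosed

set_option autoImplicit false
universe u
open CategoryTheory CategoryTheory.Limits AlgebraicGeometry
open Curves

namespace Groth.Agent.S11330

/-- Let k be an algebraically closed field and X a curve over k (an integral scheme, proper over k, of
dimension one, with all local rings regular), and L an invertible O_X-module. Then L is generated by
its global sections (a quotient of a free O_X-module) if and only if for every closed point P of X,
with ideal sheaf I_P ⊆ O_X, dim_k H^0(X, L ⊗ I_P) = dim_k H^0(X, L) - 1. -/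
theorem result (k : Type u) [Field k] [IsAlgClosed k] (X : Scheme.{u}) [X.Over (Spec (CommRingCat.of k))]
    [IsIntegral X] [IsProper (X ↘ (Spec (CommRingCat.of k)))] (hdim : topologicalKrullDim X = 1)
    (hreg : ∀ x : X, IsRegularLocalRing (X.presheaf.stalk x)) (L : X.Modules) (hL : PicF.IsInvertible L) :
    Curv2.IsGloballyGenerated L ↔
      ∀ (P : X) (hP : IsClosed ({P} : Set X)),
        Module.finrank k (Coh.HH X (CohB1.tensorMod L (ClSub.idealMod (Scheme.IdealSheafData.vanishingIdeal ⟨{P}, hP⟩))) 0) + 1 = Module.finrank k (Coh.HH X L 0) := by
  open Groth.Agent.CurveRR24 in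
  constructor
  · intro hgg P hP
    obtain ⟨hle, hge⟩ := h0_tensor_ptIdeal k hP hL
    rw [finrank_resField k hP] at hge
    obtain ⟨s, hs⟩ := exists_mem_glocus_of_gg k hP hL hgg
    have hne := h0_ne_of_mem_glocus k hP hL hs
    simp only [ptIdeal] at hle hge hne
    omega
  · intro h
    refine globallyGenerated_of_closedPoints k hL fun P hP => exists_mem_glocus_of_h0_ne k hP hL ?_
    have := h P hP
    simp only [ptIdeal]
    omega

end Groth.Agent.S11330
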