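import Groth.Statements.S11333
import Groth.Agent.Hyper24.Constants
import Groth.Agent.FF.PurelyInsep
import Groth.Agent.FF.WeilRH
import Groth.Agent.CurveRR24.SmoothCompletion
-- import your own Groth.Agent.* helpers here

set_option autoImplicit false
universe u
open CategoryTheory CategoryTheory.Limits AlgebraicGeometry
open Curves

namespace Groth.Agent.S11333

set_option backward.isDefEq.respectTransparency.types false
set_option maxHeartbeats 1000000
open Groth.Agent
attribute [local instance] Curv2.stalkAlgebra

theorem iso_of_surjective_algHom (k : Type u) [Field k] {P Q : Scheme.{u}} [IsIntegral P] [IsIntegral Q]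
    [P.Over (Spec (CommRingCat.of k))] [Q.Over (Spec (CommRingCat.of k))]
    [IsProper (P ↘ Spec (CommRingCat.of k))] [Smooth (P ↘ Spec (CommRingCat.of k))]
    [IsProper (Q ↘ Spec (CommRingCat.of k))] [Smooth (Q ↘ Spec (CommRingCat.of k))]
    (hP : topologicalKrullDim P = 1) (hQ : topologicalKrullDim Q = 1)
    (φ : Q.functionField →ₐ[k] P.functionField) (hφ : Function.Surjective φ) : Nonempty (P ≅ Q) := by
  obtain ⟨σ, e, hσ, hφσ⟩ := Hyper24.exists_hom_of_algHom hP φ
  obtain ⟨τ, -, -⟩ := Hyper24.exists_iso_of_range_eq (k := k) hP hQ (𝟙 P) σ rfl e (Category.id_comp _) hσ fun z => by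
    constructor
    · intro _; obtain ⟨w, hw⟩ := hφ z; exact ⟨w, (hφσ w).trans hw⟩
    · intro _; exact ⟨z, (congrFun (congrArg DFunLike.coe (Hyper24.ffMap_self (𝟙 P) rfl)) z).trans (Hyper24.genMap_id_apply z)⟩
  exact ⟨τ⟩

theorem twisted_iso (k : Type u) [Field k] [IsAlgClosed k] (p : ℕ) [Fact p.Prime] [CharP k p] (r : ℕ)
    {P Q : Scheme.{u}} [IsIntegral P] [IsIntegral Q]
    [P.Over (Spec (CommRingCat.of k))] [Q.Over (Spec (CommRingCat.of k))]
    [IsProper (P ↘ Spec (CommRingCat.of k))] [Smooth (P ↘ Spec (CommRingCat.of k))]
    [IsProper (Q ↘ Spec (CommRingCat.of k))] [Smooth (Q ↘ Spec (CommRingCat.of k))]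
    (hP : topologicalKrullDim P = 1) (hQ : topologicalKrullDim Q = 1)
    (φ : P.functionField →+* Q.functionField) (hsurj : Function.Surjective φ)
    (hφ : ∀ c : k, φ (algebraMap k P.functionField c) = algebraMap k Q.functionField (c ^ p ^ r)) :
    Nonempty (Q ≅ P) := by
  let q := Q ↘ Spec (CommRingCat.of k)
  let F := CommRingCat.ofHom (iterateFrobenius k p r)
  haveI : ExpChar k p := ExpChar.prime (Fact.out)
  haveI hFiso : IsIso F := (ConcreteCategory.isIso_iff_bijective _).2 (bijective_iterateFrobenius k p r)
  have hkey : ∀ c : k, Q.presheaf.germ ((q ≫ Spec.map F) ⁻¹ᵁ ⊤) (genericPoint Q) trivial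
      ((q ≫ Spec.map F).app ⊤ ((Scheme.ΓSpecIso (CommRingCat.of k)).inv c)) = φ (algebraMap k P.functionField c) := fun c => by
    rw [hφ, Scheme.Hom.comp_app]
    have h1 : (Spec.map F).app ⊤ ((Scheme.ΓSpecIso (CommRingCat.of k)).inv c) =
        (Scheme.ΓSpecIso (CommRingCat.of k)).inv (c ^ p ^ r) := by
      have := ConcreteCategory.congr_hom (Scheme.ΓSpecIso_inv_naturality F) c
      exact this.symm.trans (congrArg (fun d => (Scheme.ΓSpecIso (CommRingCat.of k)).inv d) (iterateFrobenius_def p r c))
    exact congrArg (fun w => Q.presheaf.germ (q ⁻¹ᵁ ⊤) (genericPoint Q) trivial (q.app ⊤ w)) h1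
  letI inst' : Q.Over (Spec (CommRingCat.of k)) := ⟨q ≫ Spec.map F⟩
  haveI : IsProper (Q ↘ Spec (CommRingCat.of k)) := inferInstanceAs (IsProper (q ≫ Spec.map F))
  haveI : Smooth (Q ↘ Spec (CommRingCat.of k)) := inferInstanceAs (Smooth (q ≫ Spec.map F))
  let ψ : P.functionField →ₐ[k] Q.functionField := { φ with commutes' := fun c => (hkey c).symm }
  exact iso_of_surjective_algHom k hQ hP ψ hsurj

/-- Let f : X → Y be a finite morphism over k of curves over an algebraically closed field k (integral,
proper over k, of dimension one, all local rings regular), sending the generic point of X to that of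
Y, such that the function field extension K(X)/K(Y) is purely inseparable. Then X and Y are
isomorphic as schemes (the isomorphism need not be compatible with the k-structures; existence of an
isomorphism only). -/
theorem result (k : Type u) [Field k] [IsAlgClosed k] (X : Scheme.{u}) [X.Over (Spec (CommRingCat.of k))]
    [IsIntegral X] [IsProper (X ↘ (Spec (CommRingCat.of k)))] (hdimX : topologicalKrullDim X = 1)
    (hregX : ∀ x : X, IsRegularLocalRing (X.presheaf.stalk x))
    (Y : Scheme.{u}) [Y.Over (Spec (CommRingCat.of k))]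
    [IsIntegral Y] [IsProper (Y ↘ (Spec (CommRingCat.of k)))] (hdimY : topologicalKrullDim Y = 1)
    (hregY : ∀ x : Y, IsRegularLocalRing (Y.presheaf.stalk x))
    (f : X ⟶ Y) [IsFinite f] (hf : f ≫ (Y ↘ (Spec (CommRingCat.of k))) = X ↘ (Spec (CommRingCat.of k)))
    (e : f (genericPoint X) = genericPoint Y) :
    letI := ((Y.presheaf.stalkSpecializes (specializes_of_eq e) ≫ f.stalkMap (genericPoint X)).hom).toAlgebra
    IsPurelyInseparable Y.functionField X.functionField → Nonempty (X ≅ Y) := by
  letI := ((Y.presheaf.stalkSpecializes (specializes_of_eq e) ≫ f.stalkMap (genericPoint X)).hom).toAlgebra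
  intro hpi
  haveI := hpi
  haveI : JacobsonSpace X := LocallyOfFiniteType.jacobsonSpace (X ↘ Spec (CommRingCat.of k))
  haveI : JacobsonSpace Y := LocallyOfFiniteType.jacobsonSpace (Y ↘ Spec (CommRingCat.of k))
  haveI : Smooth (X ↘ Spec (CommRingCat.of k)) :=
    CurveRR24.smooth_of_regular_closedPoints (X ↘ Spec (CommRingCat.of k)) fun x _ => hregX x
  haveI : Smooth (Y ↘ Spec (CommRingCat.of k)) :=
    CurveRR24.smooth_of_regular_closedPoints (Y ↘ Spec (CommRingCat.of k)) fun x _ => hregY x
  haveI := FBaseLib.geometricallyIrreducible_of_isAlgClosed (X ↘ Spec (CommRingCat.of k))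
  have hK := Zeta24.isFunctionField (k := k) hdimX (hc := rfl)
  haveI : FiniteDimensional Y.functionField X.functionField := Hyper24.finiteDimensional_ffMap f e
  haveI : IsScalarTower k Y.functionField X.functionField :=
    IsScalarTower.of_algebraMap_eq fun c => (Hyper24.ffMap_algebraMap f e hf c).symm
  obtain ⟨t, -, -, hsep⟩ := FF.exists_separating hK
  obtain hk0 | ⟨p, hp, hpk⟩ := CharP.exists' k
  · haveI : CharZero Y.functionField := charZero_of_injective_algebraMap (algebraMap k Y.functionField).injective
    haveI : Algebra.IsSeparable Y.functionField X.functionField := Algebra.IsAlgebraic.isSeparable_of_perfectField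
    have hsurj := IsPurelyInseparable.surjective_algebraMap_of_isSeparable Y.functionField X.functionField
    exact iso_of_surjective_algHom k hdimX hdimY (IsScalarTower.toAlgHom k Y.functionField X.functionField) hsurj
  · haveI := hp
    haveI : ExpChar k p := ExpChar.prime hp.out
    haveI : CharP X.functionField p := charP_of_injective_algebraMap (algebraMap k X.functionField).injective p
    haveI : ExpChar X.functionField p := ExpChar.prime hp.out
    obtain ⟨r, -, hr⟩ := FF.exists_range_eq_adjoin_pow (k := k) (K := Y.functionField) (L := X.functionField) p (t := t)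
    set G := IntermediateField.adjoin k (Set.range fun z : X.functionField => z ^ p ^ r)
    choose φ hφ using fun z : X.functionField => (show z ^ p ^ r ∈ (IsScalarTower.toAlgHom k Y.functionField X.functionField).fieldRange
      from hr ▸ IntermediateField.subset_adjoin k _ ⟨z, rfl⟩)
    have hinj : Function.Injective (algebraMap Y.functionField X.functionField) := RingHom.injective _
    let φ' : X.functionField →+* Y.functionField :=
      { toFun := φ
        map_one' := hinj ((hφ 1).trans (by rw [one_pow, map_one]))
        map_mul' := fun a b => hinj ((hφ _).trans (by rw [mul_pow, map_mul]; exact (congrArg₂ (· * ·) (hφ a) (hφ b)).symm))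
        map_zero' := hinj ((hφ 0).trans (by rw [zero_pow (pow_ne_zero _ hp.out.ne_zero), map_zero]))
        map_add' := fun a b => hinj ((hφ _).trans (by
          rw [add_pow_expChar_pow, map_add]; exact (congrArg₂ (· + ·) (hφ a) (hφ b)).symm)) }
    refine (twisted_iso k p r hdimX hdimY φ' ?_ fun c => hinj ((hφ _).trans ?_)).map Iso.symm
    · let R : IntermediateField k X.functionField :=
        { (iterateFrobenius X.functionField p r).fieldRange with
          algebraMap_mem' := fun c => by
            obtain ⟨d, hd⟩ := (bijective_iterateFrobenius k p r).2 c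
            exact ⟨algebraMap k X.functionField d, by
              rw [iterateFrobenius_def, ← map_pow, ← iterateFrobenius_def, hd]⟩ }
      intro y
      have hy : algebraMap Y.functionField X.functionField y ∈ R := by
        refine IntermediateField.adjoin_le_iff.2 ?_ (show _ ∈ G from hr ▸ ⟨y, rfl⟩)
        rintro _ ⟨z, rfl⟩
        exact ⟨z, iterateFrobenius_def p r z⟩
      obtain ⟨z, hz⟩ := hy
      exact ⟨z, hinj ((hφ z).trans ((iterateFrobenius_def p r z).symm.trans hz))⟩
    · rw [← map_pow, ← IsScalarTower.algebraMap_apply]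

end Groth.Agent.S11333
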