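import Groth.Statements.S11335
import Groth.Agent.Clifford24.Canonical
import Groth.Agent.S11331

set_option autoImplicit false
universe u
open CategoryTheory CategoryTheory.Limits AlgebraicGeometry
open Curves

namespace Groth.Agent.S11335

/-- Let k be an algebraically closed field and X a curve over k (an integral scheme, proper over k, of
dimension one, with all local rings regular), of genus g ≥ 2. Then the canonical sheaf Ω_{X/k} is
very ample (isomorphic to the pullback of O(1) along a closed immersion into some P^n_k over k)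
exactly when X carries no g^1_2 (X is not hyperelliptic), a g^1_2 being an invertible module of
degree 2 together with two k-linearly independent global sections. -/
theorem result (k : Type u) [Field k] [IsAlgClosed k] (X : Scheme.{u}) [X.Over (Spec (CommRingCat.of k))]
    [IsIntegral X] [IsProper (X ↘ (Spec (CommRingCat.of k)))] (hdim : topologicalKrullDim X = 1)
    (hreg : ∀ x : X, IsRegularLocalRing (X.presheaf.stalk x)) (hg : 2 ≤ Curv2.genus k X) :
    (∃ (n : ℕ) (i : X ⟶ CohB1.ProjSpace n k), IsClosedImmersion i ∧ i ≫ CohB1.ProjSpace.toSpec n k = (X ↘ (Spec (CommRingCat.of k))) ∧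
        Nonempty ((Scheme.Modules.pullback i).obj (Twist.twistProjSpace n k 1) ≅ (Omega.sheaf (X ↘ (Spec (CommRingCat.of k)))))) ↔
      ¬ (∃ (M : X.Modules) (s : Fin 2 → LinSer.Sect X M), LinSer.IsLinSer k X M 2 1 s) := by
  obtain ⟨hsm, hgi⟩ := Groth.Agent.Clifford24.smooth_geomIntegral_of_regular k hreg
  have hΩ := Groth.Agent.OmegaDual24.isInvertible_omega (k := k) (X := X) hdim
  rw [Groth.Agent.S11331.result k X hdim hreg _ hΩ]
  refine (Groth.Agent.Clifford24.omega_drop_iff k hdim hg).trans (not_congr ⟨?_, ?_⟩)
  · rintro ⟨M, hM, hd, h2⟩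
    obtain ⟨s, hs⟩ := Groth.Agent.Clifford24.exists_linIndep_of_le k hM h2
    exact ⟨M, s, hM, hd, hs⟩
  · rintro ⟨M, s, hM, hd, hs⟩
    exact ⟨M, hM, hd, Groth.Agent.Clifford24.le_h0_of_linIndep k hM s hs⟩

end Groth.Agent.S11335
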