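import Groth.Statements.S11337
import Groth.Agent.Clifford24.EqualityMain

set_option autoImplicit false
universe u
open CategoryTheory CategoryTheory.Limits AlgebraicGeometry
open Curves

namespace Groth.Agent.S11337

/-- Let k be an algebraically closed field and X a curve over k (an integral scheme, proper over k, of
dimension one, with all local rings regular), and L an invertible O_X-module with an inverse M such
that H^0(X, L) ≠ 0, H^0(X, Ω_{X/k} ⊗ M) ≠ 0, L is isomorphic neither to O_X nor to Ω_{X/k}, and 2
(dim_k H^0(X, L) - 1) = deg L. Then X is hyperelliptic and L is a multiple of the g^1_2: there is an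
invertible module N of degree 2 with two k-linearly independent global sections (a g^1_2) such that
L ≅ N^{⊗ r} with r = dim_k H^0(X, L) - 1. (Only the implication from equality is stated here; the
converse, that on a hyperelliptic curve the effective special multiples of the g^1_2 attain
equality, is not part of this statement.) -/
theorem result (k : Type u) [Field k] [IsAlgClosed k] (X : Scheme.{u}) [X.Over (Spec (CommRingCat.of k))]
    [IsIntegral X] [IsProper (X ↘ (Spec (CommRingCat.of k)))] (hdim : topologicalKrullDim X = 1)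
    (hreg : ∀ x : X, IsRegularLocalRing (X.presheaf.stalk x))
    (L M : X.Modules) (hL : PicF.IsInvertible L) (hM : ClSub.IsInverseOf L M)
    (hs : Nontrivial (Coh.HH X L 0)) (hsp : Nontrivial (Coh.HH X (CohB1.tensorMod (Omega.sheaf (X ↘ (Spec (CommRingCat.of k)))) M) 0))
    (h0 : IsEmpty (L ≅ Coh.structureModule X)) (hK : IsEmpty (L ≅ (Omega.sheaf (X ↘ (Spec (CommRingCat.of k))))))
    (heq : 2 * (Module.finrank k (Coh.HH X L 0) : ℤ) = Curv2.deg k X L 1 + 2) :
    ∃ (N : X.Modules) (s : Fin 2 → LinSer.Sect X N), LinSer.IsLinSer k X N 2 1 s ∧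
      Nonempty (L ≅ CohB1.tensorPow N (Module.finrank k (Coh.HH X L 0) - 1)) := by
  obtain ⟨hsm, hgi⟩ := Groth.Agent.Clifford24.smooth_geomIntegral_of_regular k hreg
  have hMi := Groth.Agent.Clifford24.isInvertible_of_isInverseOf hL hM
  obtain ⟨e⟩ := hM
  obtain ⟨N, hN, hd, h2, hi⟩ := Groth.Agent.Clifford24.equality k hdim hL hMi e hs hsp h0 hK heq
  obtain ⟨s, hs'⟩ := Groth.Agent.Clifford24.exists_linIndep_of_le k hN h2
  exact ⟨N, s, ⟨hN, hd, hs'⟩, hi⟩

end Groth.Agent.S11337
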