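import Groth.Statements.S1134
import Groth.Agent.Desc19b.EffQuasiAffine

set_option autoImplicit false
open CategoryTheory CategoryTheory.Limits AlgebraicGeometry Opposite
universe u
open Desc

namespace Groth.Agent.S1134

/-- Let p : X → S be a surjective, flat and quasi-compact morphism of schemes. Every descent datum
relative to p whose underlying scheme is quasi-affine over X is effective: it is isomorphic to the
canonical descent datum of some scheme over S. Descent data are taken in functor-of-points form,
equivalent by the Yoneda lemma to the usual form of an isomorphism over X ×_S X satisfying the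
cocycle condition. -/
theorem result {X S : Scheme.{u}} (p : X ⟶ S) [Surjective p] [Flat p] [QuasiCompact p]
    (D : Desc.SchDD p) (hD : Mor2.IsQuasiAffine D.obj.hom) : ∃ U : Over S, Nonempty ((Desc.toDD p).obj U ≅ D) := by
  have hf : Presieve.ofArrows (fun _ : PUnit.{u + 1} => X) (fun _ => p) ∈ Scheme.fpqcPrecoverage S := by
    rw [Presieve.ofArrows_pUnit]; exact p.singleton_mem_fpqcPrecoverage
  obtain ⟨U, ⟨e⟩⟩ := Desc19b.isEffective_of_isQuasiAffine hf ((SchDDFam.ofSchDD p).obj D) (fun _ => hD)
  exact ⟨U, ⟨(SchDDFam.toSchDD p).mapIso e⟩⟩

end Groth.Agent.S1134
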