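import Groth.Statements.S11341
import Groth.Agent.Surf15.RRCor
import Groth.Agent.Surf15.IntPush
import Groth.Agent.Coherent.ProjSpaceFinite
-- import your own Groth.Agent.* helpers here

set_option autoImplicit false
universe u
open CategoryTheory CategoryTheory.Limits AlgebraicGeometry
open Surf

open TopologicalSpace
open Groth.Agent.Coherent Groth.Agent.PicLib Groth.Agent.AmpleLib Groth.Agent.EulerLib Groth.Agent.CurveRR24 Groth.Agent.DimLib Groth.Agent.Surf15
set_option linter.style.haveILetI false
set_option backward.isDefEq.respectTransparency.types false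

namespace Groth.Agent.S11341

/-- Let X be a surface over an algebraically closed field k (an integral scheme of dimension two with
all local rings regular, admitting a closed immersion into some P^n_k over k), let W be the
canonical sheaf of X (a second exterior power of the sheaf of differentials Ω_{X/k}), and let C be a
nonsingular curve of genus g on X: an integral closed subscheme of dimension one with all local
rings regular, with ideal sheaf I ⊆ O_X, g = dim_k H^1(C, O_C). Then 2g - 2 = C.(C + K). Writing
(L·M) for the intersection number χ(O_X) - χ(L) - χ(M) + χ(L ⊗ M) of two invertible modules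
(packaged as FGA.intNum), C.C = (I·I) and C.K = -(I·W), so the formula reads 2g - 2 = (I·I) - (I·W). -/
theorem result (k : Type u) [Field k] [IsAlgClosed k] (X : Scheme.{u}) [X.Over (Spec (CommRingCat.of k))]
    [IsIntegral X] (hdim : topologicalKrullDim X = 2) (hreg : ∀ x : X, IsRegularLocalRing (X.presheaf.stalk x))
    (hproj : ∃ (n : ℕ) (ι : X ⟶ CohB1.ProjSpace n k), IsClosedImmersion ι ∧ ι ≫ CohB1.ProjSpace.toSpec n k = (X ↘ (Spec (CommRingCat.of k))))
    (W : X.Modules) (hW : ExtPow.IsExtPow 2 (Omega.sheaf (X ↘ (Spec (CommRingCat.of k)))) W)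
    (C : Scheme.{u}) (i : C ⟶ X) [IsClosedImmersion i] [IsIntegral C] (hC : topologicalKrullDim C = 1)
    (hCreg : ∀ c : C, IsRegularLocalRing (C.presheaf.stalk c)) :
    letI : C.Over (Spec (CommRingCat.of k)) := ⟨i ≫ (X ↘ (Spec (CommRingCat.of k)))⟩
    2 * (Curv2.genus k C : ℤ) - 2 =
      FGA.intNum k X 2 ![ClSub.idealMod i.ker, ClSub.idealMod i.ker] (Coh.structureModule X) - FGA.intNum k X 2 ![ClSub.idealMod i.ker, W] (Coh.structureModule X) := by
  obtain ⟨n, ι, hι, hιe⟩ := hproj
  haveI : IsProper (CohB1.ProjSpace.toSpec n k) := Groth.Agent.Coherent.isProper_projSpace_toSpec n k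
  haveI : IsProper (X ↘ Spec (CommRingCat.of k)) := by rw [← hιe]; infer_instance
  haveI : Smooth (X ↘ Spec (CommRingCat.of k)) :=
    Groth.Agent.CurveRR24.smooth_of_regular_closedPoints _ fun x _ => hreg x
  have hX : topologicalKrullDim X = ((2 : ℕ) : WithBot ℕ∞) := by exact_mod_cast hdim
  letI : C.Over (Spec (CommRingCat.of k)) := ⟨i ≫ (X ↘ Spec (CommRingCat.of k))⟩
  haveI := isNoetherian_of_proper (X := X) k
  haveI := isSeparated_of_proper (X := X) k
  haveI : IsProper (C ↘ Spec (CommRingCat.of k)) := inferInstanceAs (IsProper (i ≫ (X ↘ Spec (CommRingCat.of k))))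
  haveI := isNoetherian_of_proper (X := C) k
  haveI := isSeparated_of_proper (X := C) k
  haveI : Coh.IsQCoh (Coh.structureModule C) := isQCoh_structureModule
  have hCr : IsCrv i.ker := isCrv_ker i hC
  have hD := hCr.isEffCartier k hX hreg
  have h := two_euler_quotMod k hX hW (isInvertible_canonical k hX hW) hD
  obtain ⟨e⟩ := nonempty_push_iso_quotMod i
  have hq : Curv2.euler k X (ClSub.quotMod i.ker) = Curv2.euler k C (Coh.structureModule C) :=
    (euler_congr k X e.symm).trans (Groth.Agent.AbCubeLib.euler_push k i rfl (Coh.structureModule C)).symm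
  haveI : GeometricallyIntegral (C ↘ Spec (CommRingCat.of k)) :=
    Groth.Agent.AbVarLib.geometricallyIntegral_of_isAlgClosed _
  have hg : Curv2.euler k C (Coh.structureModule C) = 1 - (Curv2.genus k C : ℤ) := by
    rw [euler_eq_h0_sub_h1 k hC.le (Coh.structureModule C) Groth.Agent.Coherent.isQCoh_structureModule,
      Groth.Agent.CurveRR24.h0_structure_of_geomIntegral k (X := C)]
    rfl
  rw [hq, hg] at h
  linarith

end Groth.Agent.S11341
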