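import Groth.Statements.S11349
import Groth.Agent.Hyper24.Fixed
import Groth.Agent.FF.InvolutionOrbits
import Groth.Agent.FF.Rational
import Groth.Agent.CurveRR24.SmoothCompletion

set_option autoImplicit false
universe u
open CategoryTheory CategoryTheory.Limits AlgebraicGeometry
open Curves

namespace Groth.Agent.S11349

set_option backward.isDefEq.respectTransparency.types false
set_option maxHeartbeats 1000000
open Groth.Agent

/-- Take an algebraically closed field k of characteristic different from 2 and an elliptic curve X over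
k — an integral scheme, proper over k, of dimension one, all local rings regular, of genus dim_k
H^1(X, O_X) = 1 — and let P, Q be closed points of X, possibly equal. Then there is an automorphism
σ of X over k with σ² = id and σ(P) = Q such that R + σ(R) is linearly equivalent to P + Q for every
closed point R; the last condition is written on ideal sheaves of points: I_R ⊗ I_{σ(R)} ≅ I_P ⊗
I_Q. -/
theorem result (k : Type u) [Field k] [IsAlgClosed k] (X : Scheme.{u}) [X.Over (Spec (CommRingCat.of k))]
    [IsIntegral X] [IsProper (X ↘ (Spec (CommRingCat.of k)))] (hdim : topologicalKrullDim X = 1)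
    (hreg : ∀ x : X, IsRegularLocalRing (X.presheaf.stalk x)) (hchar : ringChar k ≠ 2) (hg : Curv2.genus k X = 1)
    (P Q : X) (hP : IsClosed ({P} : Set X)) (hQ : IsClosed ({Q} : Set X)) :
    ∃ σ : X ≅ X, σ.hom ≫ (X ↘ (Spec (CommRingCat.of k))) = (X ↘ (Spec (CommRingCat.of k))) ∧ σ.hom ≫ σ.hom = 𝟙 X ∧ σ.hom P = Q ∧
      ∀ (R R' : X) (hR : IsClosed ({R} : Set X)) (hR' : IsClosed ({R'} : Set X)), σ.hom R = R' →
        Nonempty (CohB1.tensorMod (ClSub.idealMod (Scheme.IdealSheafData.vanishingIdeal ⟨{R}, hR⟩)) (ClSub.idealMod (Scheme.IdealSheafData.vanishingIdeal ⟨{R'}, hR'⟩)) ≅ CohB1.tensorMod (ClSub.idealMod (Scheme.IdealSheafData.vanishingIdeal ⟨{P}, hP⟩)) (ClSub.idealMod (Scheme.IdealSheafData.vanishingIdeal ⟨{Q}, hQ⟩))) := by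
  classical
  haveI : JacobsonSpace X := LocallyOfFiniteType.jacobsonSpace (X ↘ Spec (CommRingCat.of k))
  haveI : Smooth (X ↘ Spec (CommRingCat.of k)) :=
    CurveRR24.smooth_of_regular_closedPoints (X ↘ Spec (CommRingCat.of k)) fun x _ => hreg x
  letI := Curv2.stalkAlgebra k X (genericPoint X)
  haveI := FBaseLib.geometricallyIrreducible_of_isAlgClosed (X ↘ Spec (CommRingCat.of k))
  have hK := Zeta24.isFunctionField (k := k) hdim (hc := rfl)
  have h2 : (2 : k) ≠ 0 := Ring.two_ne_zero hchar
  have hgK : FunFld.genus k X.functionField = 1 := (Zeta24.finrank_h1 hdim rfl hK).symm.trans hg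
  let pl := Zeta24.placeOf hdim rfl hK
  set p := pl ⟨P, hP⟩
  set q := pl ⟨Q, hQ⟩
  let D : FunFld.Divisor k X.functionField := Finsupp.single p 1 + Finsupp.single q 1
  obtain ⟨C, hC⟩ := FF.exists_isCanonical hK
  have hRR := FF.riemann_roch' hK hC D
  have hDd : D.deg = 2 := by
    simp only [D, FF.deg_add, FF.deg_single, FF.deg_eq_one hK]; norm_num
  obtain ⟨t, htD, htc⟩ : ∃ t ∈ FunFld.L D, t ∉ Set.range (algebraMap k X.functionField) := by
    by_contra hc
    push Not at hc
    have hle : FunFld.L D ≤ Submodule.span k {(1 : X.functionField)} := fun x hx => by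
      obtain ⟨c, rfl⟩ := hc x hx
      exact Submodule.mem_span_singleton.mpr ⟨c, by rw [Algebra.smul_def, mul_one]⟩
    have hl : FunFld.ell D ≤ 1 := (Submodule.finrank_mono hle).trans (finrank_span_singleton one_ne_zero).le
    omega
  have htr : Transcendental k t := FF.transcendental_of_not_mem hK htc
  have ht0 : t ≠ 0 := fun e => htr (e ▸ isAlgebraic_zero)
  have hpd : FF.poles (k := k) t ≤ D := fun R => by
    have h := htD R
    rw [FF.val_le_exp_iff R ht0] at h
    rw [FF.poles_apply hK]
    have h0 : 0 ≤ D R := by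
      simp only [D, Finsupp.add_apply, Finsupp.single_apply]; split_ifs <;> norm_num
    omega
  have hdeg : (FF.poles (k := k) t).deg = 2 := by
    have h1 := FF.deg_mono hpd
    rw [hDd] at h1
    have h3 := FF.deg_poles hK htr
    have h4 : Module.finrank (IntermediateField.adjoin k ({t} : Set X.functionField)) X.functionField ≠ 1 := fun h => by
      obtain ⟨-, -, -, -, h5⟩ := FF.genus_zero_of_adjoin_eq_top hK
        (IntermediateField.finrank_eq_one_iff_eq_top.mp h) htr
      omega
    have h6 : Module.finrank (IntermediateField.adjoin k ({t} : Set X.functionField)) X.functionField ≠ 0 := fun h => by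
      obtain ⟨R, hR⟩ := FF.HyperGenus.exists_place_pole hK htr
      have h7 : Finsupp.single R (1 : ℤ) ≤ FF.poles (k := k) t := fun S => by
        rw [Finsupp.single_apply]; split_ifs with e
        · subst e
          rw [FF.poles_apply hK]
          have : ¬ 0 ≤ R.ord t := fun h8 => absurd hR (not_lt.2 ((FF.val_le_one_iff R ht0).2 h8))
          omega
        · exact FF.poles_nonneg t S
      have h8 := FF.deg_mono h7
      rw [h3, h, FF.deg_single, FF.deg_eq_one hK] at h8
      norm_num at h8
    omega
  have hfin : Module.finrank (IntermediateField.adjoin k ({t} : Set X.functionField)) X.functionField = 2 := by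
    have h3 := FF.deg_poles hK htr
    rw [hdeg] at h3
    exact_mod_cast h3.symm
  have hpolesD : FF.poles (k := k) t = D := by
    have hE : (0 : FunFld.Divisor k X.functionField) ≤ D - FF.poles (k := k) t := sub_nonneg.mpr hpd
    exact (sub_eq_zero.mp (FF.eq_zero_of_nonneg_of_deg_eq_zero hK hE (by rw [FF.deg_sub, hDd, hdeg, sub_self]))).symm
  obtain ⟨φ, hφF, hφφ, hφ1⟩ := FF.exists_involution h2 _ hfin
  have hφt : φ t = t := hφF t (IntermediateField.mem_adjoin_simple_self k t)
  have hone : ∀ {v : X.functionField} {R : FunFld.Place k X.functionField}, FF.poles (k := k) v R ≠ 0 → 1 < R.1 v := by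
    intro v R h
    rw [FF.poles_apply hK] at h
    by_contra hle
    rcases eq_or_ne v 0 with rfl | hv0
    · simp at h
    have := (FF.val_le_one_iff R hv0).1 (not_lt.1 hle)
    omega
  have hpt : 1 < p.1 t := hone (by
    rw [hpolesD]; simp only [D, Finsupp.add_apply, Finsupp.single_apply, if_pos]; split_ifs <;> norm_num)
  have horb := FF.poles_eq_orbit hK h2 φ hφφ hφ1 hφt hdeg hpt
  rw [hpolesD] at horb
  have hφp : FF.pullPlace φ p = q := by
    have h := add_left_cancel horb
    exact ((Finsupp.single_left_inj one_ne_zero).1 h).symm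
  obtain ⟨σ, e, hσp, hσφ⟩ := Hyper24.exists_hom_of_algEquiv (hdim := hdim) φ
  have e2 : (σ ≫ σ) (genericPoint X) = genericPoint X := by rw [Scheme.Hom.comp_apply, e, e]
  have hσσ : σ ≫ σ = 𝟙 X := Hyper24.hom_ext_genMap (k := k) _ _ (by rw [Category.assoc, hσp, hσp]) (Category.id_comp _) e2 rfl
    (RingHom.ext fun z => by rw [Hyper24.genMap_comp_apply σ σ e e e2, hσφ, hσφ, hφφ, Hyper24.genMap_id_apply])
  haveI := Hyper24.isProper_of_over (k := k) σ hσp
  have hcl : ∀ x : {x : X // IsClosed ({x} : Set X)}, IsClosed ({σ x.1} : Set X) := fun x => by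
    rw [← Set.image_singleton]; exact σ.isClosedMap _ x.2
  have hσpl : ∀ x : {x : X // IsClosed ({x} : Set X)}, FF.pullPlace φ (pl x) = pl ⟨σ x.1, hcl x⟩ := fun x =>
    Hyper24.pullPlace_placeOf (hdim := hdim) (hK := hK) σ e φ (fun z => (hσφ z).symm) x (hcl x)
  refine ⟨⟨σ, σ, hσσ, hσσ⟩, hσp, hσσ, ?_, fun R R' hR hR' hRR' => ?_⟩
  · exact congrArg Subtype.val ((Zeta24.placeOf_bijective hdim rfl hK).1 ((hσpl ⟨P, hP⟩).symm.trans hφp))
  · have hRR'' : σ R = R' := hRR'
    set r := pl ⟨R, hR⟩
    have hr' : FF.pullPlace φ r = pl ⟨R', hR'⟩ := (hσpl ⟨R, hR⟩).trans (congrArg pl (Subtype.ext hRR''))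
    have hcl2 : (QuotientAddGroup.mk (Finsupp.single r (1 : ℤ) + Finsupp.single (FF.pullPlace φ r) (1 : ℤ)) :
        FF.DivCl k X.functionField) = QuotientAddGroup.mk D := by
      by_cases hrt : 1 < r.1 t
      · rw [← FF.poles_eq_orbit hK h2 φ hφφ hφ1 hφt hdeg hrt, hpolesD]
      · obtain ⟨c, hc⟩ := FF.exists_const_near hK r (not_lt.1 hrt)
        set v := t - algebraMap k X.functionField c with hv
        have hvtr : Transcendental k v := fun h => htr (by simpa [hv] using h.add (isAlgebraic_algebraMap c))
        have hv0 : v ≠ 0 := fun h => hvtr (h ▸ isAlgebraic_zero)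
        have hadj : IntermediateField.adjoin k ({v⁻¹} : Set X.functionField) = IntermediateField.adjoin k ({t} : Set X.functionField) := by
          refine le_antisymm (IntermediateField.adjoin_simple_le_iff.mpr (inv_mem (sub_mem
            (IntermediateField.mem_adjoin_simple_self k t) (IntermediateField.algebraMap_mem _ c))))
            (IntermediateField.adjoin_simple_le_iff.mpr ?_)
          have := add_mem (inv_mem (IntermediateField.mem_adjoin_simple_self k v⁻¹))
            (IntermediateField.algebraMap_mem (IntermediateField.adjoin k ({v⁻¹} : Set X.functionField)) c)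
          simpa [hv] using this
        have hu : φ v⁻¹ = v⁻¹ := by rw [map_inv₀, hv, map_sub, hφt, AlgEquiv.commutes]
        have hud : (FF.poles (k := k) v⁻¹).deg = 2 := by
          rw [FF.deg_poles hK (fun h => hvtr (by simpa using h.inv)), hadj, hfin]; norm_num
        have hpv : FF.poles (k := k) v = FF.poles (k := k) t := Finsupp.ext fun S => by
          rw [FF.poles_apply hK, FF.poles_apply hK]
          have hsum : ∀ (a : X.functionField) (d : k), a ≠ 0 → a + algebraMap k X.functionField d ≠ 0 →
              max (-S.ord (a + algebraMap k X.functionField d)) 0 ≤ max (-S.ord a) 0 := fun a d ha had => by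
            refine max_le ?_ (le_max_right _ _)
            have h9 := (S.1.map_add a (algebraMap k X.functionField d))
            rw [FF.val_eq_exp_neg_ord S had, FF.val_eq_exp_neg_ord S ha] at h9
            rcases le_max_iff.1 h9 with h10 | h10
            · exact le_trans (WithZero.exp_le_exp.1 h10) (le_max_left _ _)
            · exact le_trans (WithZero.exp_le_exp.1 ((h10.trans (S.2.1 d)).trans_eq WithZero.exp_zero.symm)) (le_max_right _ _)
          have h10 := hsum t (-c) ht0 (by rw [map_neg, ← sub_eq_add_neg]; exact hv0)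
          rw [map_neg, ← sub_eq_add_neg] at h10
          have h11 := hsum v c hv0 (by rw [hv, sub_add_cancel]; exact ht0)
          rw [show v + algebraMap k X.functionField c = t from sub_add_cancel _ _] at h11
          exact le_antisymm h10 h11
        rw [← FF.poles_eq_orbit hK h2 φ hφφ hφ1 hu hud (Q := r) (by
          rw [map_inv₀]; exact (one_lt_inv₀ (zero_lt_iff.mpr ((_root_.map_ne_zero _).mpr hv0))).mpr hc), ← hpolesD, ← hpv]
        refine (FF.cl_eq_iff hK).2 ⟨v⁻¹, inv_ne_zero hv0, ?_⟩
        rw [FF.div_eq_poles_sub hK, inv_inv]; abel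
    rw [hr'] at hcl2
    haveI := CurveRR24.isLocallyNoetherian_of_proper k (X := X)
    have hI : ∀ (Z : X) (hZ : IsClosed ({Z} : Set X)), PicF.IsInvertible (ClSub.idealMod (CurveRR24.ptIdeal Z hZ)) :=
      fun Z hZ => haveI := Zeta24.isDVR_stalk k hdim hZ; CurveRR24.isInvertible_ptIdeal_of_dvr hZ
    have key : EulerLib.InvCl.mk _ (hI R hR) * EulerLib.InvCl.mk _ (hI R' hR') =
        EulerLib.InvCl.mk _ (hI P hP) * EulerLib.InvCl.mk _ (hI Q hQ) := by
      apply Zeta24.divCl_injective hdim rfl hK
      rw [Zeta24.divCl_mul, Zeta24.divCl_mul, Zeta24.divCl_ptIdeal hdim rfl hK ⟨R, hR⟩, Zeta24.divCl_ptIdeal hdim rfl hK ⟨R', hR'⟩,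
        Zeta24.divCl_ptIdeal hdim rfl hK ⟨P, hP⟩, Zeta24.divCl_ptIdeal hdim rfl hK ⟨Q, hQ⟩, ← neg_add, ← neg_add,
        ← QuotientAddGroup.mk_add, ← QuotientAddGroup.mk_add]
      exact congrArg Neg.neg hcl2
    rw [EulerLib.InvCl.mk_mul, EulerLib.InvCl.mk_mul] at key
    exact Quotient.exact key

end Groth.Agent.S11349
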