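import Groth.Statements.S11351
import Groth.Agent.Hyper24.Pencil
import Groth.Agent.FF.EllipticPencils
import Groth.Agent.P1Lib24.Basic
import Groth.Agent.CurveRR24.SmoothCompletion
-- import your own Groth.Agent.* helpers here

set_option autoImplicit false
universe u
open CategoryTheory CategoryTheory.Limits AlgebraicGeometry
open Curves

namespace Groth.Agent.S11351

set_option backward.isDefEq.respectTransparency.types false
set_option maxHeartbeats 1000000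
open Groth.Agent

/-- Take an algebraically closed field k of characteristic different from 2 and an elliptic curve X over
k (integral, proper over k, of dimension one, all local rings regular, of genus dim_k H^1(X, O_X) =
1), and let f₁, f₂ : X → P^1_k be two finite morphisms over k of degree 2 (the direct image of O_X
is locally free of rank 2). Then there are an automorphism σ of X over k and an automorphism τ of
P^1_k over k such that f₂ ∘ σ = τ ∘ f₁. -/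
theorem result (k : Type u) [Field k] [IsAlgClosed k] (X : Scheme.{u}) [X.Over (Spec (CommRingCat.of k))]
    [IsIntegral X] [IsProper (X ↘ (Spec (CommRingCat.of k)))] (hdim : topologicalKrullDim X = 1)
    (hreg : ∀ x : X, IsRegularLocalRing (X.presheaf.stalk x)) (hchar : ringChar k ≠ 2) (hg : Curv2.genus k X = 1)
    (f₁ f₂ : X ⟶ (CohB1.ProjSpace 1 k)) [IsFinite f₁] [IsFinite f₂]
    (hf₁ : f₁ ≫ CohB1.ProjSpace.toSpec 1 k = (X ↘ (Spec (CommRingCat.of k)))) (hf₂ : f₂ ≫ CohB1.ProjSpace.toSpec 1 k = (X ↘ (Spec (CommRingCat.of k))))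
    (hd₁ : FlatMod.IsFinLocFreeOfRank 2 ((Scheme.Modules.pushforward f₁).obj (Coh.structureModule X)))
    (hd₂ : FlatMod.IsFinLocFreeOfRank 2 ((Scheme.Modules.pushforward f₂).obj (Coh.structureModule X))) :
    ∃ (σ : X ≅ X) (τ : (CohB1.ProjSpace 1 k) ≅ (CohB1.ProjSpace 1 k)), σ.hom ≫ (X ↘ (Spec (CommRingCat.of k))) = (X ↘ (Spec (CommRingCat.of k))) ∧
      τ.hom ≫ CohB1.ProjSpace.toSpec 1 k = CohB1.ProjSpace.toSpec 1 k ∧ σ.hom ≫ f₂ = f₁ ≫ τ.hom := by
  classical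
  let p := X ↘ Spec (CommRingCat.of k)
  haveI : JacobsonSpace X := LocallyOfFiniteType.jacobsonSpace (X ↘ Spec (CommRingCat.of k))
  haveI : Smooth (X ↘ Spec (CommRingCat.of k)) :=
    CurveRR24.smooth_of_regular_closedPoints (X ↘ Spec (CommRingCat.of k)) fun x _ => hreg x
  letI := Curv2.stalkAlgebra k X (genericPoint X)
  haveI := FBaseLib.geometricallyIrreducible_of_isAlgClosed (X ↘ Spec (CommRingCat.of k))
  have hK := Zeta24.isFunctionField (k := k) hdim (hc := rfl)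
  have hgK : FunFld.genus k X.functionField = 1 := (Zeta24.finrank_h1 hdim rfl hK).symm.trans hg
  letI : (CohB1.ProjSpace 1 k).Over (Spec (CommRingCat.of k)) := ⟨CohB1.ProjSpace.toSpec 1 k⟩
  haveI := CurveLib.isIntegral_projSpace k 1
  haveI : IsProper (CohB1.ProjSpace.toSpec 1 k) := CurveLib.isProper_projSpace k 1
  haveI : IsProper ((CohB1.ProjSpace 1 k) ↘ Spec (CommRingCat.of k)) := ‹IsProper (CohB1.ProjSpace.toSpec 1 k)›
  haveI : Smooth ((CohB1.ProjSpace 1 k) ↘ Spec (CommRingCat.of k)) := P1Lib24.smooth_projLine k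
  haveI : IsLocallyNoetherian (CohB1.ProjSpace 1 k) := CurveRR24.isLocallyNoetherian_of_proper k
  have hdP := DimLib.PN.topologicalKrullDim_projSpace 1 k
  have hdP1 : topologicalKrullDim (CohB1.ProjSpace 1 k) = 1 := hdP
  have e₁ := CurveRR24.genericPoint_map_of_finite f₁ hdim hdP1.le
  have e₂ := CurveRR24.genericPoint_map_of_finite f₂ hdim hdP1.le
  obtain ⟨hfl₁, hr₁⟩ := Hyper24.finrank_of_push f₁ hd₁
  obtain ⟨hfl₂, hr₂⟩ := Hyper24.finrank_of_push f₂ hd₂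
  obtain ⟨t₁, htr₁, ht₁, hm₁⟩ := Hyper24.exists_coord hdim f₁ hf₁ two_pos hr₁ e₁
  obtain ⟨t₂, htr₂, ht₂, hm₂⟩ := Hyper24.exists_coord hdim f₂ hf₂ two_pos hr₂ e₂
  obtain ⟨ψ, hψψ, hψ⟩ := FF.exists_conj_pencils hK (Ring.two_ne_zero hchar) hgK htr₁ ht₁ htr₂ ht₂
  obtain ⟨σ, eσ, hσp, hσψ⟩ := Hyper24.exists_hom_of_algEquiv (hdim := hdim) ψ
  have e2 : (σ ≫ σ) (genericPoint X) = genericPoint X := by rw [Scheme.Hom.comp_apply, eσ, eσ]
  have hσσ : σ ≫ σ = 𝟙 X := Hyper24.hom_ext_genMap (k := k) _ _ (by rw [Category.assoc, hσp, hσp]) (Category.id_comp _) e2 rfl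
    (RingHom.ext fun z => by rw [Hyper24.genMap_comp_apply σ σ eσ eσ e2, hσψ, hσψ, hψψ, Hyper24.genMap_id_apply])
  have e3 : (σ ≫ f₂) (genericPoint X) = genericPoint (CohB1.ProjSpace 1 k) := by rw [Scheme.Hom.comp_apply, eσ, e₂]
  have hc : ∀ w, Hyper24.ffMap (σ ≫ f₂) e3 w = ψ (Hyper24.ffMap f₂ e₂ w) := fun w => by
    rw [Hyper24.ffMap_comp_apply σ f₂ eσ e₂ e3, Hyper24.ffMap_self, hσψ]
  have hrange : ∀ z, (∃ w, Hyper24.ffMap f₁ e₁ w = z) ↔ ∃ w, Hyper24.ffMap (σ ≫ f₂) e3 w = z := fun z => by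
    rw [← hm₁, hψ, hm₂]
    exact ⟨fun ⟨w, hw⟩ => ⟨w, by rw [hc, hw, hψψ]⟩, fun ⟨w, hw⟩ => ⟨w, by rw [← hw, hc, hψψ]⟩⟩
  obtain ⟨τ, hτp, hτ⟩ := Hyper24.exists_iso_of_range_eq (k := k) hdP1 hdP1 f₁ (σ ≫ f₂) e₁ e3 hf₁
    (by rw [Category.assoc]; exact (congrArg (σ ≫ ·) hf₂).trans hσp) hrange
  exact ⟨⟨σ, σ, hσσ, hσσ⟩, τ, hσp, hτp, hτ.symm⟩

end Groth.Agent.S11351
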