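import Groth.Statements.S11353
import Groth.Agent.Clifford24.Sub
import Groth.Agent.CurveRR24.DegOneApps

set_option autoImplicit false
universe u
open CategoryTheory CategoryTheory.Limits AlgebraicGeometry
open Curves

namespace Groth.Agent.S11353

/-- Let C be a curve over an algebraically closed field k (integral, proper over k, of dimension one,
all local rings regular) and E a decomposable locally free sheaf of rank 2 — E ≅ L₁ ⊕ L₂ with L₁, L₂
invertible — which is normalized: H^0(C, E) ≠ 0 while H^0(C, E ⊗ M) = 0 for every invertible M of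
negative degree. Then E ≅ O_C ⊕ L for an invertible L with deg L ≤ 0; in particular e = -deg E ≥ 0. -/
theorem result (k : Type u) [Field k] [IsAlgClosed k] (C : Scheme.{u}) [C.Over (Spec (CommRingCat.of k))]
    [IsIntegral C] [IsProper (C ↘ (Spec (CommRingCat.of k)))] (hdimC : topologicalKrullDim C = 1)
    (hregC : ∀ x : C, IsRegularLocalRing (C.presheaf.stalk x))
    (E L₁ L₂ : C.Modules) (hL₁ : PicF.IsInvertible L₁) (hL₂ : PicF.IsInvertible L₂) (hE : Nonempty (E ≅ L₁ ⊞ L₂))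
    (hn0 : Nontrivial (Coh.HH C E 0))
    (hneg : ∀ M : C.Modules, PicF.IsInvertible M → Curv2.deg k C M 1 < 0 → Subsingleton (Coh.HH C (CohB1.tensorMod E M) 0)) :
    ∃ L : C.Modules, PicF.IsInvertible L ∧ Curv2.deg k C L 1 ≤ 0 ∧ Nonempty (E ≅ Coh.structureModule C ⊞ L) := by
  obtain ⟨_, _⟩ := Groth.Agent.Clifford24.smooth_geomIntegral_of_regular k hregC
  haveI := Groth.Agent.EulerLib.isNoetherian_of_proper k (X := C)
  obtain ⟨e⟩ := hE
  have key : ∀ L : C.Modules, PicF.IsInvertible L → ∀ i : L ⟶ E, Mono i → Curv2.deg k C L 1 ≤ 0 := by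
    intro L hL i _
    by_contra hlt
    obtain ⟨N, hN, ⟨eN⟩⟩ := Groth.Agent.CurveRR24.exists_inverse k hL
    have hd := Groth.Agent.CurveRR24.deg_tensor k hdimC.le hL hN
    rw [Groth.Agent.CurveRR24.deg_congr k eN, Groth.Agent.CurveRR24.deg_structure] at hd
    haveI := hneg N hN (by omega)
    let z : Coh.structureModule C ⟶ CohB1.tensorMod E N :=
      eN.inv ≫ Groth.Agent.SerreDual.tensorRightHom k L E N i
    have hz : z = 0 := (Groth.Agent.SerreDual.homUnitHH k _).injective (Subsingleton.elim _ _)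
    have hi : i = 0 := by
      refine Groth.Agent.SerreDual.tensorRightHom_injective k L E hN ?_
      rw [map_zero, ← cancel_epi eN.inv, Limits.comp_zero]
      exact hz
    obtain ⟨U, hU, s, hs⟩ := Groth.Agent.PicLib.exists_isGen hL (Classical.arbitrary C)
    haveI : Nonempty U := ⟨⟨_, hU⟩⟩
    subst hi
    have hs0 : s = 0 := Groth.Agent.Coherent.app_injective_of_mono (0 : L ⟶ E) U (by simp)
    subst hs0
    exact one_ne_zero (α := Γ(C, U)) ((hs U le_rfl).1 (by simp))
  have h1 := key L₁ hL₁ (biprod.inl ≫ e.inv) inferInstance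
  have h2 := key L₂ hL₂ (biprod.inr ≫ e.inv) inferInstance
  obtain ⟨s, hs⟩ := Groth.Agent.CurveRR24.exists_ne_zero_of_nontrivial k hn0
  let φ := (Groth.Agent.SerreDual.homUnitEquiv k E).symm s
  have hφ : φ ≫ e.hom ≠ 0 := fun h0 => hs (by
    have : φ = 0 := by rw [← cancel_mono e.hom, h0, Limits.zero_comp]
    exact ((Groth.Agent.SerreDual.homUnitEquiv k E).apply_symm_apply s).symm.trans
      ((congrArg (Groth.Agent.SerreDual.homUnitEquiv k E) this).trans (map_zero _)))
  have triv : ∀ L : C.Modules, PicF.IsInvertible L → Curv2.deg k C L 1 ≤ 0 →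
      ∀ ψ : Coh.structureModule C ⟶ L, ψ ≠ 0 → Nonempty (L ≅ Coh.structureModule C) := by
    intro L hL hd ψ hψ
    have hnt : Nontrivial (Coh.HH C L 0) :=
      ⟨⟨Groth.Agent.SerreDual.homUnitHH k L ψ, 0, fun h =>
        hψ ((Groth.Agent.SerreDual.homUnitHH k L).map_eq_zero_iff.1 h)⟩⟩
    obtain ⟨h1, h2, -⟩ := Groth.Agent.CurveRR24.deg_nonneg_of_section k hdimC.le hL hnt
    exact h2 (le_antisymm hd h1)
  by_cases ha : φ ≫ e.hom ≫ biprod.fst = 0
  · have hb : φ ≫ e.hom ≫ biprod.snd ≠ 0 := fun hb => hφ (biprod.hom_ext _ _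
      (by rw [Category.assoc, ha, Limits.zero_comp]) (by rw [Category.assoc, hb, Limits.zero_comp]))
    obtain ⟨e₂⟩ := triv L₂ hL₂ h2 _ hb
    exact ⟨L₁, hL₁, h1, ⟨e ≪≫ biprod.braiding _ _ ≪≫ biprod.mapIso e₂ (Iso.refl _)⟩⟩
  · obtain ⟨e₁⟩ := triv L₁ hL₁ h1 _ ha
    exact ⟨L₂, hL₂, h2, ⟨e ≪≫ biprod.mapIso e₁ (Iso.refl _)⟩⟩

end Groth.Agent.S11353
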