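import Groth.Statements.S11357
import Groth.Agent.RamDiv8.Iso
import Groth.Agent.OmegaDual24.Generic
import Groth.Agent.CurveRR24.SmoothCompletion
-- import your own Groth.Agent.* helpers here

set_option autoImplicit false
set_option backward.isDefEq.respectTransparency.types false
universe u
open CategoryTheory CategoryTheory.Limits AlgebraicGeometry
open Curves

namespace Groth.Agent.S11357

/-- Let f : X → Y be a finite morphism over k of curves over an algebraically closed field k (integral,
proper over k, of dimension one, all local rings regular), sending the generic point to the generic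
point, with K(X)/K(Y) separable, and let R be the ramification divisor Σ_P length(Ω_{X/Y,P}) · P,
whose ideal sheaf I_R is the 0-th Fitting ideal of the torsion sheaf Ω_{X/Y} (at P it is m_P to the
power length(Ω_{X/Y,P})). Then K_X is linearly equivalent to f^* K_Y + R: Ω_{X/k} ⊗ I_R ≅ f^*
Ω_{Y/k} (existence of an isomorphism, i.e. equality of classes in Pic X). -/
theorem result (k : Type u) [Field k] [IsAlgClosed k] (X : Scheme.{u}) [X.Over (Spec (CommRingCat.of k))]
    [IsIntegral X] [IsProper (X ↘ (Spec (CommRingCat.of k)))] (hdimX : topologicalKrullDim X = 1)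
    (hregX : ∀ x : X, IsRegularLocalRing (X.presheaf.stalk x))
    (Y : Scheme.{u}) [Y.Over (Spec (CommRingCat.of k))]
    [IsIntegral Y] [IsProper (Y ↘ (Spec (CommRingCat.of k)))] (hdimY : topologicalKrullDim Y = 1)
    (hregY : ∀ x : Y, IsRegularLocalRing (Y.presheaf.stalk x))
    (f : X ⟶ Y) [IsFinite f] (hf : f ≫ (Y ↘ (Spec (CommRingCat.of k))) = X ↘ (Spec (CommRingCat.of k)))
    (e : f (genericPoint X) = genericPoint Y) :
    letI := ((Y.presheaf.stalkSpecializes (specializes_of_eq e) ≫ f.stalkMap (genericPoint X)).hom).toAlgebra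
    Algebra.IsSeparable Y.functionField X.functionField →
      Nonempty (CohB1.tensorMod (Omega.sheaf (X ↘ (Spec (CommRingCat.of k)))) (ClSub.idealMod (Fitt.sheafIdeal (Omega.sheaf f) 0)) ≅
        (Scheme.Modules.pullback f).obj (Omega.sheaf (Y ↘ (Spec (CommRingCat.of k))))) := by
  letI := ((Y.presheaf.stalkSpecializes (specializes_of_eq e) ≫ f.stalkMap (genericPoint X)).hom).toAlgebra
  intro hsep
  haveI : JacobsonSpace X := LocallyOfFiniteType.jacobsonSpace (X ↘ Spec (CommRingCat.of k))
  haveI : JacobsonSpace Y := LocallyOfFiniteType.jacobsonSpace (Y ↘ Spec (CommRingCat.of k))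
  haveI : Smooth (X ↘ Spec (CommRingCat.of k)) :=
    CurveRR24.smooth_of_regular_closedPoints (X ↘ Spec (CommRingCat.of k)) fun x _ => hregX x
  haveI : Smooth (Y ↘ Spec (CommRingCat.of k)) :=
    CurveRR24.smooth_of_regular_closedPoints (Y ↘ Spec (CommRingCat.of k)) fun x _ => hregY x
  exact RamDiv8.nonempty_iso f (Y ↘ Spec (CommRingCat.of k)) (X ↘ Spec (CommRingCat.of k)) hf
    (OmegaDual24.isInvertible_omega hdimX) (OmegaDual24.isInvertible_omega hdimY)
    (RamDiv8.subsingleton_omega_generic f e hsep)

end Groth.Agent.S11357
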