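import Groth.Statements.S11359
import Groth.Agent.InjHullLib.Socle
import Groth.Agent.Disc12.GorensteinFibre
import Groth.Agent.S2498

set_option autoImplicit false
universe u
open InjHull

namespace Groth.Agent.S11359

open Groth.Agent.InjHullLib

/-- For a flat homomorphism A → B of Noetherian local rings whose fibre ring B/m_A B is an Artinian
Gorenstein local ring, tensoring an injective hull of the residue field of A with B gives an
injective hull of the residue field of B. -/
theorem result (A : Type u) [CommRing A] [IsLocalRing A] [IsNoetherianRing A] (B : Type u) [CommRing B] [IsLocalRing B] [IsNoetherianRing B] [Algebra A B] [Module.Flat A B] (hG : LocCoh.IsGorensteinLocalRing (B ⧸ (IsLocalRing.maximalIdeal A).map (algebraMap A B))) (hArt : IsArtinianRing (B ⧸ (IsLocalRing.maximalIdeal A).map (algebraMap A B))) (E : Type u) [AddCommGroup E] [Module A E] (f : IsLocalRing.ResidueField A →ₗ[A] E) (hf : InjHull.IsInjectiveHull f) : ∃ g : IsLocalRing.ResidueField B →ₗ[B] TensorProduct A B E, InjHull.IsInjectiveHull g := by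
  classical
  have hE := Groth.Agent.Matlis6.of_isInjectiveHull_residueField hf
  obtain ⟨e, he, hme, hsocE⟩ := hE.eq_smul_of_killed
  set J : Ideal B := (IsLocalRing.maximalIdeal A).map (algebraMap A B) with hJ
  haveI : IsLocalRing (B ⧸ J) := hG.toIsLocalRing
  haveI := hArt
  have hJne : J ≠ ⊤ := fun h => not_subsingleton (B ⧸ J) (Ideal.Quotient.subsingleton_iff.2 h)
  have hJm : J ≤ IsLocalRing.maximalIdeal B := IsLocalRing.le_maximalIdeal hJne
  haveI : IsLocalHom (algebraMap A B) :=
    ((IsLocalRing.local_hom_TFAE (algebraMap A B)).out 2 0).1 hJm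
  haveI : Module.FaithfullyFlat A B := Module.FaithfullyFlat.of_flat_of_isLocalHom
  have hmap : (IsLocalRing.maximalIdeal B).map (Ideal.Quotient.mk J) = IsLocalRing.maximalIdeal (B ⧸ J) :=
    IsLocalRing.map_maximalIdeal_of_surjective _ Ideal.Quotient.mk_surjective
  obtain ⟨k, hk⟩ := IsArtinianRing.isNilpotent_jacobson_bot (R := B ⧸ J)
  rw [IsLocalRing.jacobson_eq_maximalIdeal _ bot_ne_top] at hk
  have hk' : IsLocalRing.maximalIdeal B ^ k ≤ J := by
    rw [← Ideal.mk_ker (I := J), ← Ideal.map_eq_bot_iff_le_ker, Ideal.map_pow, hmap]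
    exact hk
  have hkill : ∀ (n : ℕ) (b : B) (x : E), (∀ c ∈ IsLocalRing.maximalIdeal A ^ n, c • x = 0) →
      ∀ r ∈ J ^ n, r • (b ⊗ₜ[A] x : TensorProduct A B E) = 0 := by
    intro n b x hx
    suffices h : J ^ n ≤ LinearMap.ker (LinearMap.toSpanSingleton B (TensorProduct A B E) (b ⊗ₜ[A] x)) from
      fun r hr => h hr
    rw [hJ, ← Ideal.map_pow, Ideal.map_le_iff_le_comap]
    intro c hc
    show algebraMap A B c • (b ⊗ₜ[A] x) = 0
    rw [algebraMap_smul, ← TensorProduct.tmul_smul, hx c hc, TensorProduct.tmul_zero]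
  have ha : LocCoh.IsPowerTorsion (IsLocalRing.maximalIdeal B) (TensorProduct A B E) := by
    intro z
    induction z using TensorProduct.induction_on with
    | zero => exact ⟨0, fun _ _ => smul_zero _⟩
    | tmul b x =>
      obtain ⟨n, hn⟩ := hE.isPowerTorsion x
      exact ⟨k * n, fun r hr => hkill n b x hn r (Ideal.pow_right_mono hk' n (by rwa [← pow_mul]))⟩
    | add x y hx hy =>
      obtain ⟨p, hp⟩ := hx
      obtain ⟨q, hq⟩ := hy
      exact ⟨p + q, fun r hr => by
        rw [smul_add, hp r (Ideal.pow_le_pow_right (Nat.le_add_right _ _) hr),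
          hq r (Ideal.pow_le_pow_right (Nat.le_add_left _ _) hr), add_zero]⟩
  let ι₀ : (A ⧸ IsLocalRing.maximalIdeal A) →ₗ[A] E :=
    Submodule.liftQ (IsLocalRing.maximalIdeal A) (LinearMap.toSpanSingleton A E e) fun c hc => hme c hc
  have hι₀ : Function.Injective ι₀ := by
    rw [injective_iff_map_eq_zero]
    intro q
    induction q using Submodule.Quotient.induction_on with
    | _ r =>
      intro h
      rw [Submodule.Quotient.mk_eq_zero]
      by_contra hr
      obtain ⟨s, hs⟩ := Groth.Agent.Matlis6.exists_smul_eq_of_isMaximal hme hr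
      refine he ?_
      rw [← hs, show r • e = 0 from h, smul_zero]
  have hzero : ∀ b : B, b ⊗ₜ[A] e = 0 → b ∈ J := by
    intro b hb
    have h1 : b ⊗ₜ[A] (Ideal.Quotient.mk (IsLocalRing.maximalIdeal A) 1) = 0 :=
      Module.Flat.lTensor_preserves_injective_linearMap (M := B) ι₀ hι₀ (by
        rw [LinearMap.lTensor_tmul, map_zero]
        exact (congrArg (b ⊗ₜ[A] ·) (one_smul A e)).trans hb)
    have h2 := congrArg (TensorProduct.tensorQuotEquivQuotSMul B (IsLocalRing.maximalIdeal A)) h1
    rw [TensorProduct.tensorQuotEquivQuotSMul_tmul_mk, one_smul, map_zero, Submodule.Quotient.mk_eq_zero] at h2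
    rwa [hJ, ← Submodule.restrictScalars_mem A, ← Ideal.smul_top_eq_map]
  obtain ⟨G, hGspan⟩ := IsNoetherian.noetherian (IsLocalRing.maximalIdeal A)
  have hexist : ∀ z : TensorProduct A B E, (∀ r ∈ J, r • z = 0) → ∃ b : B, z = b ⊗ₜ[A] e := by
    intro z hz
    let Φ : E →ₗ[A] ((↥G : Type u) → E) := LinearMap.pi fun i => LinearMap.lsmul A E (i : A)
    have hex : Function.Exact ι₀ Φ := by
      intro x
      constructor
      · intro hx
        obtain ⟨c, hc⟩ := hsocE x fun a ha => by
          rw [← hGspan] at ha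
          induction ha using Submodule.span_induction with
          | mem g hg => exact congrFun hx ⟨g, hg⟩
          | zero => exact zero_smul A x
          | add p q _ _ hp hq => rw [add_smul, hp, hq, add_zero]
          | smul c p _ hp => rw [smul_eq_mul, mul_smul, hp, smul_zero]
        exact ⟨Submodule.Quotient.mk c, hc.symm⟩
      · rintro ⟨q, rfl⟩
        induction q using Submodule.Quotient.induction_on with
        | _ c =>
          funext i
          show (i : A) • c • e = 0
          rw [smul_comm, hme _ (hGspan ▸ Submodule.subset_span i.2), smul_zero]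
    have hpi : ∀ (w : TensorProduct A B E) (i : ↥G),
        TensorProduct.piRight A A B (fun _ : ↥G => E) (LinearMap.lTensor B Φ w) i = (i : A) • w := by
      intro w i
      induction w using TensorProduct.induction_on with
      | zero => rw [map_zero, map_zero, smul_zero]; rfl
      | tmul b x => rw [LinearMap.lTensor_tmul, TensorProduct.piRight_apply, TensorProduct.piRightHom_tmul]; exact TensorProduct.tmul_smul _ _ _
      | add p q hp hq => rw [map_add, map_add, Pi.add_apply, hp, hq, smul_add]
    have hz0 : LinearMap.lTensor B Φ z = 0 := by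
      refine (TensorProduct.piRight A A B (fun _ : ↥G => E)).injective ?_
      rw [map_zero]
      funext i
      rw [hpi, Pi.zero_apply, ← algebraMap_smul B]
      exact hz _ (Ideal.mem_map_of_mem _ (hGspan ▸ Submodule.subset_span i.2))
    obtain ⟨t, rfl⟩ := (Module.Flat.lTensor_exact B hex z).1 hz0
    induction t using TensorProduct.induction_on with
    | zero => exact ⟨0, by rw [map_zero, TensorProduct.zero_tmul]⟩
    | tmul b q =>
      obtain ⟨c, rfl⟩ := Submodule.Quotient.mk_surjective _ q
      refine ⟨c • b, ?_⟩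
      rw [LinearMap.lTensor_tmul, TensorProduct.smul_tmul]
      rfl
    | add p q hp hq =>
      have key : ∀ t, ∃ b : B, LinearMap.lTensor B ι₀ t = b ⊗ₜ[A] e := fun t => by
        induction t using TensorProduct.induction_on with
        | zero => exact ⟨0, by rw [map_zero, TensorProduct.zero_tmul]⟩
        | tmul b q =>
          obtain ⟨c, rfl⟩ := Submodule.Quotient.mk_surjective _ q
          exact ⟨c • b, by rw [LinearMap.lTensor_tmul, TensorProduct.smul_tmul]; rfl⟩
        | add p q hp hq =>
          obtain ⟨b, hb⟩ := hp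
          obtain ⟨b', hb'⟩ := hq
          exact ⟨b + b', by rw [map_add, hb, hb', TensorProduct.add_tmul]⟩
      exact key (p + q)
  obtain ⟨s, hs0, hsm, hsl⟩ := Groth.Agent.Disc12.gorenstein_iff_isSocleLine.1 hG
  obtain ⟨eF, rfl⟩ := Ideal.Quotient.mk_surjective s
  have hJ0 : ∀ r ∈ J, r • ((1 : B) ⊗ₜ[A] e) = 0 := fun r hr =>
    hkill 1 1 e (by simpa using hme) r (by rwa [pow_one])
  have hmul : ∀ (r b : B), r • (b ⊗ₜ[A] e : TensorProduct A B E) = (r * b) ⊗ₜ[A] e := fun r b => by
    rw [TensorProduct.smul_tmul', smul_eq_mul]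
  refine Groth.Agent.Matlis6.IsHullAt.exists_isInjectiveHull_residueField
    (isHullAt_of_length_le ha (e := eF ⊗ₜ[A] e) (fun h => hs0 ?_) ?_ ?_ (fun n => J ^ n) (fun n => ⟨k * n, ?_⟩)
      (fun N => ⟨N, Ideal.pow_right_mono hJm N⟩) fun n => ?_)
  · rw [Ideal.mem_bot, Ideal.Quotient.eq_zero_iff_mem]
    exact hzero eF h
  · intro r hr
    rw [hmul]
    have h1 : Ideal.Quotient.mk J (r * eF) = 0 := by
      rw [map_mul]; exact Ideal.mem_bot.1 (hsm _ (hmap ▸ Ideal.mem_map_of_mem _ hr))
    rw [← mul_one (r * eF), ← hmul]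
    exact hJ0 _ (Ideal.Quotient.eq_zero_iff_mem.1 h1)
  · intro z hz
    obtain ⟨b, rfl⟩ := hexist z fun r hr => hz r (hJm hr)
    have hb : Ideal.Quotient.mk J b ∈ (⊥ : Ideal (B ⧸ J)) ⊔ Ideal.span {Ideal.Quotient.mk J eF} := hsl _ fun a haa => by
      rw [← hmap, Ideal.mem_map_iff_of_surjective _ Ideal.Quotient.mk_surjective] at haa
      obtain ⟨r, hr, rfl⟩ := haa
      rw [Ideal.mem_bot, ← map_mul, Ideal.Quotient.eq_zero_iff_mem]
      exact hzero _ (by rw [← hmul]; exact hz r hr)
    rw [bot_sup_eq, Ideal.mem_span_singleton'] at hb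
    obtain ⟨c, hc⟩ := hb
    obtain ⟨c, rfl⟩ := Ideal.Quotient.mk_surjective c
    rw [← map_mul, eq_comm, Ideal.Quotient.eq] at hc
    refine ⟨c, ?_⟩
    rw [hmul, ← sub_eq_zero, ← TensorProduct.sub_tmul, ← mul_one (b - c * eF), ← hmul]
    exact hJ0 _ hc
  · rw [pow_mul]; exact Ideal.pow_right_mono hk' n
  · let T : Submodule A E := Submodule.torsionBySet A E ((IsLocalRing.maximalIdeal A ^ n : Ideal A) : Set A)
    have hlen : Module.length A ↥T = Module.length A (A ⧸ IsLocalRing.maximalIdeal A ^ n) := hE.isSocleAt.length_torsion n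
    have hmem : ∀ t : TensorProduct A B ↥T, ∀ r ∈ J ^ n, r • T.subtype.baseChange B t = 0 := by
      intro t r hr
      induction t using TensorProduct.induction_on with
      | zero => rw [map_zero, smul_zero]
      | tmul b x =>
        rw [LinearMap.baseChange_tmul]
        exact hkill n b x.1 (fun c hc => (Submodule.mem_torsionBySet_iff _ _).1 x.2 ⟨c, hc⟩) r hr
      | add p q hp hq => rw [map_add, smul_add, hp, hq, add_zero]
    let Ψ : TensorProduct A B ↥T →ₗ[B] ((B ⧸ J ^ n) →ₗ[B] TensorProduct A B E) :=
      { toFun := fun t => Submodule.liftQ (J ^ n) (LinearMap.toSpanSingleton B _ (T.subtype.baseChange B t))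
          (fun r hr => hmem t r hr)
        map_add' := fun p q => LinearMap.ext fun y => by
          obtain ⟨r, rfl⟩ := Submodule.Quotient.mk_surjective _ y
          show r • T.subtype.baseChange B (p + q) = r • T.subtype.baseChange B p + r • T.subtype.baseChange B q
          rw [map_add, smul_add]
        map_smul' := fun c p => LinearMap.ext fun y => by
          obtain ⟨r, rfl⟩ := Submodule.Quotient.mk_surjective _ y
          show r • T.subtype.baseChange B (c • p) = c • r • T.subtype.baseChange B p
          rw [map_smul, smul_comm] }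
    have hΨ : Function.Injective Ψ := fun p q h => by
      refine Module.Flat.lTensor_preserves_injective_linearMap (M := B) T.subtype Subtype.val_injective ?_
      have h1 := LinearMap.congr_fun h (Submodule.Quotient.mk 1)
      change (1 : B) • T.subtype.baseChange B p = (1 : B) • T.subtype.baseChange B q at h1
      rwa [one_smul, one_smul] at h1
    have hfl : IsFiniteLength B (B ⧸ ((IsLocalRing.maximalIdeal A).map (algebraMap A B) • (⊤ : Submodule B B))) := by
      rw [smul_eq_mul, Ideal.mul_top]
      exact isFiniteLength_of_le hk'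
    refine le_trans (le_of_eq ?_) (Module.length_le_of_injective Ψ hΨ)
    rw [Groth.Agent.S2498.result (↥T) B hfl, hlen, ← Groth.Agent.S2498.result (A ⧸ IsLocalRing.maximalIdeal A ^ n) B hfl]
    have h2 := (Algebra.TensorProduct.quotIdealMapEquivTensorQuot B (IsLocalRing.maximalIdeal A ^ n)).toLinearEquiv.length_eq
    rw [Ideal.map_pow, ← hJ] at h2
    exact h2

end Groth.Agent.S11359
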