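import Groth.Statements.S11361
import Groth.Agent.DualLib.OmegaExt
import Groth.Agent.CAlgH3.CMPolynomial

set_option autoImplicit false
universe u
open CategoryTheory
open scoped TensorProduct
open Dual

namespace Groth.Agent.S11361

set_option synthInstance.maxHeartbeats 100000
set_option linter.style.haveILetI false
attribute [local instance] HasDerivedCategory.standard
attribute [-instance] Int.instConditionallyCompleteLinearOrder

/-- Let A be a Noetherian ring, n ≤ N, P = A[t_1, …, t_N], I an ideal of P with B = P/I flat over A.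
Then all fibre rings B ⊗_A κ(p) are Cohen–Macaulay with every irreducible component of dimension n
(every minimal prime of the fibre ring has coheight n in its spectrum) if and only if Ext^j_P(B, P)
vanishes for j ≠ N − n and Ext^{N−n}_P(B, P) is A-flat. (The published statement is for a flat
morphism of locally Noetherian schemes factoring through a closed immersion into a separated smooth
scheme, with f^! of the structure sheaf in place of the Ext modules; this row is the affine case of
a closed subscheme of affine N-space, where the two agree up to a shift and a twist by the trivial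
canonical module.) -/
theorem result (A : Type u) [CommRing A] [IsNoetherianRing A] (N n : ℕ) (hnN : n ≤ N) (I : Ideal (MvPolynomial (Fin N) A)) [Module.Flat A (MvPolynomial (Fin N) A ⧸ I)] : (∀ p : PrimeSpectrum A, LocCoh.IsCohenMacaulayRing ((MvPolynomial (Fin N) A ⧸ I) ⊗[A] p.asIdeal.ResidueField) ∧ ∀ Q : PrimeSpectrum ((MvPolynomial (Fin N) A ⧸ I) ⊗[A] p.asIdeal.ResidueField), Q.asIdeal ∈ minimalPrimes ((MvPolynomial (Fin N) A ⧸ I) ⊗[A] p.asIdeal.ResidueField) → Order.coheight Q = (n : ℕ∞)) ↔ ((∀ j : ℕ, j ≠ N - n → Subsingleton (Abelian.Ext (ModuleCat.of (MvPolynomial (Fin N) A) (MvPolynomial (Fin N) A ⧸ I)) (ModuleCat.of (MvPolynomial (Fin N) A) (MvPolynomial (Fin N) A)) j)) ∧ Module.Flat A (RestrictScalars A (MvPolynomial (Fin N) A) (Abelian.Ext (ModuleCat.of (MvPolynomial (Fin N) A) (MvPolynomial (Fin N) A ⧸ I)) (ModuleCat.of (MvPolynomial (Fin N) A) (MvPolynomial (Fin N) A)) (N - n)))) := by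
  haveI : ∀ (U V : AlgebraicGeometry.Scheme.{u}) (j : U ⟶ V) [AlgebraicGeometry.IsOpenImmersion j],
      Limits.PreservesFiniteLimits (AlgebraicGeometry.Scheme.Modules.restrictFunctor j) := fun U V j _ =>
    Groth.Agent.DCat.PullPerf.preservesFiniteLimits_restrict j
  haveI : ∀ (S : CommRingCat.{u}), Limits.PreservesFiniteLimits (AlgebraicGeometry.tilde.functor S) :=
    Groth.Agent.AffSchLib.preservesFiniteLimits_tilde
  let P := MvPolynomial (Fin N) A
  let B := P ⧸ I
  let ψ : P →ₐ[A] B := Ideal.Quotient.mkₐ A I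
  have hψ : Function.Surjective ψ := Ideal.Quotient.mk_surjective
  have hI : RingHom.ker ψ.toRingHom = I := Ideal.mk_ker
  haveI : DRing.HasLBaseChange (algebraMap A P) := Groth.Agent.DCat.hasLBaseChange _
  obtain ⟨Rψ, ⟨adj⟩⟩ := Groth.Agent.DualLib.Shriek.exists_rightAdjoint ψ.toRingHom
  haveI : Algebra.FiniteType A B := Algebra.FiniteType.of_surjective ψ hψ
  let ω := Dual2.shriekVia N Rψ (Dual.inD A A)
  let cm : ∀ p : PrimeSpectrum A, p.asIdeal.ResidueField ⊗[A] B ≃+* B ⊗[A] p.asIdeal.ResidueField := fun p =>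
    (Algebra.TensorProduct.comm A p.asIdeal.ResidueField B).toRingEquiv
  constructor
  · intro h
    have hcm : ∀ r : PrimeSpectrum A, LocCoh.IsCohenMacaulayRing (r.asIdeal.ResidueField ⊗[A] B) := fun r => by
      haveI := (h r).1
      exact Groth.Agent.CAlgH3.isCohenMacaulayRing_of_ringEquiv (R := B ⊗[A] r.asIdeal.ResidueField) (S := r.asIdeal.ResidueField ⊗[A] B) (cm r).symm
    have hmin : ∀ (r : PrimeSpectrum A) (Q : PrimeSpectrum (r.asIdeal.ResidueField ⊗[A] B)), IsMin Q →
        Order.coheight Q = (n : ℕ∞) := fun r Q hQ => by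
      let o := PrimeSpectrum.comapEquiv (R := r.asIdeal.ResidueField ⊗[A] B) (S := B ⊗[A] r.asIdeal.ResidueField) (cm r)
      rw [← Order.coheight_orderIso o Q]
      exact (h r).2 (o Q) (PrimeSpectrum.isMin_iff.1 ((o.isMin_apply).2 hQ))
    have hv := fun i hi => Groth.Agent.DualLib.OmegaExt.subsingleton_of_cm_fibres ψ hψ adj n hcm hmin i hi
    refine ⟨fun j hj => ?_, ?_⟩
    · obtain ⟨Φ, -⟩ := Groth.Agent.DualLib.OmegaExt.exists_HD_ext ψ hψ adj ((j : ℤ) - N) j (by omega) I hI
      haveI := hv ((j : ℤ) - N) (by omega)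
      exact Φ.symm.toEquiv.subsingleton
    · have hamp := Groth.Agent.DualLib.ShriekCM.amp_top
        (Groth.Agent.DualLib.Shriek.hasTorAmplitudeIn_shriekVia ψ hψ adj n
          fun q => Groth.Agent.DualLib.OmegaExt.fibreDimAt_le_of_fibres n hmin q) (-(n : ℤ)) fun i hi => by
          haveI : Subsingleton ((ModuleCat.restrictScalars (algebraMap A B)).obj
              ((DerivedCategory.homologyFunctor (ModuleCat.{u} B) i).obj ω)) := hv i (by omega)
          exact (Groth.Agent.DRingLib.hfRestrictIso (algebraMap A B) ω i).toLinearEquiv.injective.subsingleton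
      haveI := (Groth.Agent.DualLib.ShriekFlatSheaf.flat_HD_of_amp (-(n : ℤ)) hamp).1
      obtain ⟨Φ, hΦ⟩ := Groth.Agent.DualLib.OmegaExt.exists_HD_ext ψ hψ adj (-(n : ℤ)) (N - n) (by omega) I hI
      let e : (ModuleCat.restrictScalars (algebraMap A B)).obj
          ((DerivedCategory.homologyFunctor (ModuleCat.{u} B) (-(n : ℤ))).obj ω) ≃ₗ[A]
          RestrictScalars A P (Abelian.Ext (ModuleCat.of P B) (ModuleCat.of P P) (N - n)) :=
        { Φ.trans (RestrictScalars.addEquiv A P _).symm with
          map_smul' := fun a m => by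
            show Φ (algebraMap A B a • m) = algebraMap A P a • Φ m
            rw [← ψ.commutes a]
            exact hΦ _ _ }
      exact Module.Flat.of_linearEquiv (e.symm ≪≫ₗ
        (Groth.Agent.DRingLib.hfRestrictIso (algebraMap A B) ω (-(n : ℤ))).toLinearEquiv.symm)
  · rintro ⟨hext, -⟩ p
    have hv : ∀ i : ℤ, i ≠ -(n : ℤ) → Subsingleton (Dual.HD B ω i) := fun i hi => by
      by_cases hneg : (N : ℤ) + i < 0
      · refine (Module.support_eq_empty_iff (R := B)).1 (Set.eq_empty_of_forall_notMem fun q hq => ?_)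
        have := Groth.Agent.DualLib.Shriek.neg_le_of_nontrivial ψ hψ adj q N
          (Groth.Agent.DualLib.Omega.fibreDimAt_le ψ hψ q) i (Module.mem_support_iff.1 hq)
        omega
      · obtain ⟨j, hj⟩ : ∃ j : ℕ, (N : ℤ) + i = j := ⟨((N : ℤ) + i).toNat, by omega⟩
        obtain ⟨Φ, -⟩ := Groth.Agent.DualLib.OmegaExt.exists_HD_ext ψ hψ adj i j hj I hI
        haveI := hext j (by omega)
        exact Φ.toEquiv.subsingleton
    obtain ⟨hC, hQ⟩ := Groth.Agent.DualLib.OmegaExt.cm_fibres_of_subsingleton ψ hψ adj n hv p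
    haveI := hC
    refine ⟨Groth.Agent.CAlgH3.isCohenMacaulayRing_of_ringEquiv (R := p.asIdeal.ResidueField ⊗[A] B) (S := B ⊗[A] p.asIdeal.ResidueField) (cm p), fun Q hQ' => ?_⟩
    let o := PrimeSpectrum.comapEquiv (R := B ⊗[A] p.asIdeal.ResidueField) (S := p.asIdeal.ResidueField ⊗[A] B) (cm p).symm
    rw [← Order.coheight_orderIso o Q]
    exact hQ (o Q) ((o.isMin_apply).2 (PrimeSpectrum.isMin_iff.2 hQ'))

end Groth.Agent.S11361
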