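import Groth.Statements.S11362
import Groth.Agent.DualLib.FibreExt
import Groth.Agent.CAlgH3.PdPolynomial
import Groth.Agent.S11361

set_option autoImplicit false
universe u
open CategoryTheory
open scoped TensorProduct
open Dual

namespace Groth.Agent.S11362

open Groth.Agent.DualLib.FibreExt
attribute [local instance] MvPolynomial.algebraMvPolynomial
set_option synthInstance.maxHeartbeats 100000

/-- Let A be any commutative ring, n ≤ N, P = A[t_1, …, t_N], I a finitely generated ideal of P and B =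
P/I, flat over A with every fibre ring B ⊗_A κ(p) Cohen–Macaulay and all its minimal primes of
coheight n (all irreducible components of dimension n). Then Ext^j_P(B, P) vanishes for j ≠ N − n,
and Ext^{N−n}_P(B, P) is A-flat and finitely presented over P. (The published statement is for a
closed subscheme of a smooth scheme of relative dimension N over an arbitrary base, with sheaf Ext
into the canonical module or the structure sheaf, and adds compatibility with base change; this row
is the affine-space case with the structure sheaf and does not restate the base-change assertion.) -/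
theorem result (A : Type u) [CommRing A] (N n : ℕ) (hnN : n ≤ N) (I : Ideal (MvPolynomial (Fin N) A)) (hI : I.FG) [Module.Flat A (MvPolynomial (Fin N) A ⧸ I)] (hCM : ∀ p : PrimeSpectrum A, LocCoh.IsCohenMacaulayRing ((MvPolynomial (Fin N) A ⧸ I) ⊗[A] p.asIdeal.ResidueField)) (hdim : ∀ p : PrimeSpectrum A, ∀ Q : PrimeSpectrum ((MvPolynomial (Fin N) A ⧸ I) ⊗[A] p.asIdeal.ResidueField), Q.asIdeal ∈ minimalPrimes ((MvPolynomial (Fin N) A ⧸ I) ⊗[A] p.asIdeal.ResidueField) → Order.coheight Q = (n : ℕ∞)) : (∀ j : ℕ, j ≠ N - n → Subsingleton (Abelian.Ext (ModuleCat.of (MvPolynomial (Fin N) A) (MvPolynomial (Fin N) A ⧸ I)) (ModuleCat.of (MvPolynomial (Fin N) A) (MvPolynomial (Fin N) A)) j)) ∧ Module.Flat A (RestrictScalars A (MvPolynomial (Fin N) A) (Abelian.Ext (ModuleCat.of (MvPolynomial (Fin N) A) (MvPolynomial (Fin N) A ⧸ I)) (ModuleCat.of (MvPolynomial (Fin N) A) (MvPolynomial (Fin N) A)) (N - n))) ∧ Module.FinitePresentation (MvPolynomial (Fin N) A) (Abelian.Ext (ModuleCat.of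 (MvPolynomial (Fin N) A) (MvPolynomial (Fin N) A ⧸ I)) (ModuleCat.of (MvPolynomial (Fin N) A) (MvPolynomial (Fin N) A)) (N - n)) := by
  let P := MvPolynomial (Fin N) A
  let C : PrimeSpectrum A → Type u := fun p => MvPolynomial (Fin N) p.asIdeal.ResidueField
  haveI hBfp : Module.FinitePresentation P (P ⧸ I) :=
    Module.finitePresentation_of_surjective I.mkQ I.mkQ_surjective (by rwa [Submodule.ker_mkQ])
  haveI : ∀ p : PrimeSpectrum A, IsScalarTower A P (C p) := fun p =>
    IsScalarTower.of_algebraMap_eq fun a => (MvPolynomial.map_C _ a).symm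
  -- on the fibre
  have hfib : ∀ p : PrimeSpectrum A,
      Groth.Agent.CommAlg6.PdLE (C p) (C p ⊗[P] (P ⧸ I)) (N - n) ∧ ∀ j, j ≠ N - n → Subsingleton
        (Abelian.Ext (ModuleCat.of (C p) (C p ⊗[P] (P ⧸ I))) (ModuleCat.of (C p) (C p)) j) := by
    intro p
    let κ := p.asIdeal.ResidueField
    let I' : Ideal (C p) := I.map (algebraMap P (C p))
    let e : (C p ⧸ I') ≃ₐ[C p] C p ⊗[P] (P ⧸ I) := Algebra.TensorProduct.quotIdealMapEquivTensorQuot (C p) I
    let f : (C p ⧸ I') ≃+* (P ⧸ I) ⊗[A] κ :=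
      (e.toRingEquiv.trans (Algebra.IsPushout.cancelBaseChangeAlg A κ P (C p) (P ⧸ I)).toRingEquiv).trans
        (Algebra.TensorProduct.comm A κ (P ⧸ I)).toRingEquiv
    haveI : Module.Flat κ (C p ⧸ I') := inferInstance
    haveI : LocCoh.IsCohenMacaulayRing ((P ⧸ I) ⊗[A] κ) := hCM p
    have h := (Groth.Agent.S11361.result κ N n hnN I').1 fun q => by
      haveI hq : q.asIdeal = ⊥ := (Ideal.eq_bot_or_top q.asIdeal).resolve_right q.2.ne_top
      let ε : κ ≃ₐ[κ] q.asIdeal.ResidueField := AlgEquiv.ofBijective (Algebra.ofId κ _)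
        ⟨(algebraMap κ q.asIdeal.ResidueField).injective, fun x => by
          obtain ⟨a, s, hs, rfl⟩ := IsFractionRing.div_surjective (A := κ ⧸ q.asIdeal) x
          obtain ⟨a, rfl⟩ := Ideal.Quotient.mk_surjective a
          obtain ⟨s, rfl⟩ := Ideal.Quotient.mk_surjective s
          exact ⟨a / s, by rw [map_div₀]; rfl⟩⟩
      let g1 := ((Algebra.TensorProduct.congr (AlgEquiv.refl : (C p ⧸ I') ≃ₐ[κ] (C p ⧸ I')) ε.symm).trans
        (Algebra.TensorProduct.rid κ κ (C p ⧸ I')))
      let g : (C p ⧸ I') ⊗[κ] q.asIdeal.ResidueField ≃+* (P ⧸ I) ⊗[A] κ := g1.toRingEquiv.trans f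
      refine ⟨Groth.Agent.CAlgH3.isCohenMacaulayRing_of_ringEquiv (R := (P ⧸ I) ⊗[A] κ) g.symm, fun Q hQ => ?_⟩
      let o := PrimeSpectrum.comapEquiv (R := (C p ⧸ I') ⊗[κ] q.asIdeal.ResidueField) (S := (P ⧸ I) ⊗[A] κ) g
      rw [← Order.coheight_orderIso o Q]
      exact hdim p (o Q) (PrimeSpectrum.isMin_iff.1 ((OrderIso.isMin_apply o).2 (PrimeSpectrum.isMin_iff.2 hQ)))
    let el : (C p ⧸ I') ≃ₗ[C p] C p ⊗[P] (P ⧸ I) := e.toLinearEquiv
    have hv : ∀ j, j ≠ N - n → Subsingleton
        (Abelian.Ext (ModuleCat.of (C p) (C p ⊗[P] (P ⧸ I))) (ModuleCat.of (C p) (C p)) j) := fun j hj => by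
      haveI := h.1 j hj
      refine ⟨fun x y => ?_⟩
      have key : ∀ z : Abelian.Ext (ModuleCat.of (C p) (C p ⊗[P] (P ⧸ I))) (ModuleCat.of (C p) (C p)) j,
          z = (Abelian.Ext.mk₀ el.toModuleIso.inv).comp ((Abelian.Ext.mk₀ el.toModuleIso.hom).comp z (zero_add j))
            (zero_add j) := fun z => by
        rw [← Abelian.Ext.comp_assoc_of_second_deg_zero, Abelian.Ext.mk₀_comp_mk₀, Iso.inv_hom_id,
          Abelian.Ext.mk₀_id_comp]
      rw [key x, key y]
      exact congrArg (fun w => (Abelian.Ext.mk₀ el.toModuleIso.inv).comp w (zero_add j)) (Subsingleton.elim _ _)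
    exact ⟨pdLE_of_ext_vanish (N - n) N _ (Groth.Agent.CAlgH3.PdPolynomial.pdLE_mvPolynomial κ N _)
      fun j hj => hv j (by omega), hv⟩
  have hpd : Groth.Agent.CommAlg6.PdLE P (P ⧸ I) (N - n) := by
    refine Groth.Agent.EGA43.PdFlat.pdLE_of_fibres (A := A) _ fun p => ?_
    let _ : Algebra p.asIdeal.ResidueField (P ⊗[A] p.asIdeal.ResidueField) :=
      Algebra.TensorProduct.rightAlgebra
    haveI : Algebra.IsPushout A P p.asIdeal.ResidueField (C p) := inferInstance
    let φ : C p ≃ₐ[P] P ⊗[A] p.asIdeal.ResidueField :=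
      (Algebra.IsPushout.equiv A P p.asIdeal.ResidueField (C p)).symm
    letI : Algebra (C p) (P ⊗[A] p.asIdeal.ResidueField) := φ.toAlgHom.toRingHom.toAlgebra
    haveI : IsScalarTower P (C p) (P ⊗[A] p.asIdeal.ResidueField) :=
      IsScalarTower.of_algebraMap_eq fun x => (φ.commutes x).symm
    haveI : Module.Flat (C p) (P ⊗[A] p.asIdeal.ResidueField) :=
      RingHom.Flat.of_bijective φ.bijective
    exact (Groth.Agent.CommAlg6.pdLE_congr (TensorProduct.AlgebraTensorModule.cancelBaseChange P (C p)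
      (P ⊗[A] p.asIdeal.ResidueField) (P ⊗[A] p.asIdeal.ResidueField) (P ⧸ I)) _).1
      (Groth.Agent.CommAlg6.pdLE_baseChange _ _ (hfib p).1)
  let u : PUnit.{u + 1} →ₗ[P] ((P ⧸ I) →ₗ[P] P) := 0
  haveI : IsScalarTower A P PUnit.{u + 1} := ⟨fun _ _ _ => rfl⟩
  haveI : ∀ p : PrimeSpectrum A, Subsingleton (C p ⊗[P] PUnit.{u + 1}) := fun p =>
    subsingleton_of_forall_eq 0 fun x => by
      induction x using TensorProduct.induction_on with
      | zero => rfl
      | tmul c m => rw [Subsingleton.elim m 0, TensorProduct.tmul_zero]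
      | add a b ha hb => rw [ha, hb, add_zero]
  obtain ⟨-, h2, h3, h4, h5⟩ := main C (N - n) (P ⧸ I) PUnit.{u + 1} u hpd
    (fun p => Function.injective_of_subsingleton _)
    (fun hc p ψ => ⟨0, by
      haveI := (hfib p).2 0 (by omega)
      exact (map_zero _).trans ((Groth.Agent.LocCoh.subsingleton_ext_zero_iff (C p)).1 ((hfib p).2 0 (by omega)) ψ).symm⟩)
    (fun p j h1 h2 => (hfib p).2 j (by omega))
  have hvan : ∀ j, j ≠ N - n → Subsingleton
      (Abelian.Ext (ModuleCat.of P (P ⧸ I)) (ModuleCat.of P P) j) := fun j hj => by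
    rcases Nat.eq_zero_or_pos j with rfl | hj0
    · rw [Groth.Agent.LocCoh.subsingleton_ext_zero_iff]
      intro φ
      obtain ⟨x, hx⟩ := h2 (by omega) φ
      rw [← hx]
      rfl
    · exact h5 j hj0 hj
  have hgood : Good A P (Abelian.Ext (ModuleCat.of P (P ⧸ I)) (ModuleCat.of P P) (N - n)) := by
    rcases Nat.eq_zero_or_pos (N - n) with hc | hc
    · rw [hc]
      exact (h3 hc).of_equiv (((LinearMap.range u).quotEquivOfEqBot (LinearMap.range_zero)).trans
        (Groth.Agent.CAlgH3.extZeroEquiv P).symm)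
    · exact h4 hc
  exact ⟨hvan, hgood.2, hgood.1⟩

end Groth.Agent.S11362
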