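import Groth.Statements.S11363
import Groth.Agent.DualLib.RelDualizingModule

set_option autoImplicit false
universe u
open CategoryTheory AlgebraicGeometry
open Dual

namespace Groth.Agent.S11363

/-- Let A be any commutative ring and X a scheme proper, flat and locally of finite presentation over
Spec A, Cohen–Macaulay at every point, with every irreducible component of every fibre of dimension
n. Then there are a quasi-coherent O_X-module ω and an A-linear map γ : H^n(X, ω) → A such that for
every quasi-coherent O_X-module F the assignment φ ↦ γ ∘ H^n(φ) is a bijection from Hom(F, ω) onto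
the A-linear maps H^n(X, F) → A. (The published statement is the isomorphism f_* Hom(F, ω_f ⊗ f^*G)
≅ Hom(R^n f_* F, G) for the relative dualizing module ω_f and its trace over an arbitrary base and
any quasi-coherent G; this row is the case G = O_Y over an affine base on global sections, phrased
as the existence of a pair (ω, γ) with the universal property, which determines the pair up to
unique isomorphism.) -/
theorem result (A : Type u) [CommRing A] (X : Scheme.{u}) [X.Over (Spec (CommRingCat.of A))] [IsProper (X ↘ Spec (CommRingCat.of A))] [Flat (X ↘ Spec (CommRingCat.of A))] [LocallyOfFinitePresentation (X ↘ Spec (CommRingCat.of A))] (hCM : ∀ x : X, MoreMor.IsCMAt (X ↘ Spec (CommRingCat.of A)) x) (n : ℕ) (hd : ∀ (y : ↥(Spec (CommRingCat.of A))) (Z : Set ↥((X ↘ Spec (CommRingCat.of A)).fiber y)), Z ∈ irreducibleComponents ↥((X ↘ Spec (CommRingCat.of A)).fiber y) → topologicalKrullDim ↥Z = (n : WithBot ℕ∞)) : ∃ (ω : X.Modules), Coh.IsQCoh ω ∧ ∃ γ : Coh.HH X ω n →ₗ[A] A, ∀ F : X.Modules, Coh.IsQCoh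 F → ((∀ φ ψ : F ⟶ ω, (∀ x : Coh.HH X F n, γ (Sheaf.H.map ((SheafOfModules.toSheaf X.ringCatSheaf).map φ) n x) = γ (Sheaf.H.map ((SheafOfModules.toSheaf X.ringCatSheaf).map ψ) n x)) → φ = ψ) ∧ (∀ g : Coh.HH X F n →ₗ[A] A, ∃ φ : F ⟶ ω, ∀ x : Coh.HH X F n, γ (Sheaf.H.map ((SheafOfModules.toSheaf X.ringCatSheaf).map φ) n x) = g x)) := by
  have hdim : ∀ y, topologicalKrullDim ↥((X ↘ Spec (CommRingCat.of A)).fiber y) ≤ n := fun y =>
    Groth.Agent.DualLib.RelMod.dim_le_of_components (n := n) rfl (hd y)
  obtain ⟨ω, γ, hω, h⟩ := Groth.Agent.DualLib.RelMod.exists_dualizing A hdim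
  refine ⟨ω, hω, γ, fun F hF => ⟨fun φ ψ hφψ => (h F hF).1 (LinearMap.ext fun x => ?_), fun g => ?_⟩⟩
  · show γ (Groth.Agent.DualLib.RelMod.hmap A φ n x) = γ (Groth.Agent.DualLib.RelMod.hmap A ψ n x)
    rw [Groth.Agent.DualLib.RelMod.hmap_eq, Groth.Agent.DualLib.RelMod.hmap_eq]
    exact hφψ x
  · obtain ⟨φ, hφ⟩ := (h F hF).2 g
    refine ⟨φ, fun x => ?_⟩
    rw [← Groth.Agent.DualLib.RelMod.hmap_eq A φ n x]
    exact LinearMap.congr_fun hφ x

end Groth.Agent.S11363
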