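import Groth.Statements.S11365
import Groth.Agent.DualLib.OmegaExtGor

set_option autoImplicit false
universe u
open CategoryTheory
open scoped TensorProduct
open Dual

namespace Groth.Agent.S11365

set_option synthInstance.maxHeartbeats 100000
set_option linter.style.haveILetI false
attribute [local instance] HasDerivedCategory.standard
attribute [-instance] Int.instConditionallyCompleteLinearOrder

/-- Let A be a Noetherian ring, n ≤ N, P = A[t_1, …, t_N], I an ideal of P with B = P/I flat over A, and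
suppose Ext^j_P(B, P) vanishes for j ≠ N − n while Ext^{N−n}_P(B, P) is A-flat. Then Ext^{N−n}_P(B,
P) is P-isomorphic to an invertible B-module if and only if all fibre rings B ⊗_A κ(p) are
Gorenstein. (The published statement is for the degree −n cohomology of f^! of the structure sheaf
of a CM morphism of locally Noetherian schemes with pure relative dimension n; this row is the
affine case of a closed subscheme of affine N-space.) -/
theorem result (A : Type u) [CommRing A] [IsNoetherianRing A] (N n : ℕ) (hnN : n ≤ N) (I : Ideal (MvPolynomial (Fin N) A)) [Module.Flat A (MvPolynomial (Fin N) A ⧸ I)] (hvan : ∀ j : ℕ, j ≠ N - n → Subsingleton (Abelian.Ext (ModuleCat.of (MvPolynomial (Fin N) A) (MvPolynomial (Fin N) A ⧸ I)) (ModuleCat.of (MvPolynomial (Fin N) A) (MvPolynomial (Fin N) A)) j)) (hflat : Module.Flat A (RestrictScalars A (MvPolynomial (Fin N) A) (Abelian.Ext (ModuleCat.of (MvPolynomial (Fin N) A) (MvPolynomial (Fin N) A ⧸ I)) (ModuleCat.of (MvPolynomial (Fin N) A) (MvPolynomial (Fin N)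 A)) (N - n)))) : (∃ (L : Type u) (_ : AddCommGroup L) (_ : Module (MvPolynomial (Fin N) A ⧸ I) L), Module.Invertible (MvPolynomial (Fin N) A ⧸ I) L ∧ Nonempty (RestrictScalars (MvPolynomial (Fin N) A) (MvPolynomial (Fin N) A ⧸ I) L ≃ₗ[(MvPolynomial (Fin N) A)] Abelian.Ext (ModuleCat.of (MvPolynomial (Fin N) A) (MvPolynomial (Fin N) A ⧸ I)) (ModuleCat.of (MvPolynomial (Fin N) A) (MvPolynomial (Fin N) A)) (N - n))) ↔ ∀ p : PrimeSpectrum A, LocCoh.IsGorensteinRing ((MvPolynomial (Fin N) A ⧸ I) ⊗[A] p.asIdeal.ResidueField) := by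
  haveI : ∀ (U V : AlgebraicGeometry.Scheme.{u}) (j : U ⟶ V) [AlgebraicGeometry.IsOpenImmersion j],
      Limits.PreservesFiniteLimits (AlgebraicGeometry.Scheme.Modules.restrictFunctor j) := fun U V j _ =>
    Groth.Agent.DCat.PullPerf.preservesFiniteLimits_restrict j
  haveI : ∀ (S : CommRingCat.{u}), Limits.PreservesFiniteLimits (AlgebraicGeometry.tilde.functor S) :=
    Groth.Agent.AffSchLib.preservesFiniteLimits_tilde
  let P := MvPolynomial (Fin N) A
  let B := P ⧸ I
  let ψ : P →ₐ[A] B := Ideal.Quotient.mkₐ A I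
  have hψ : Function.Surjective ψ := Ideal.Quotient.mk_surjective
  have hI : RingHom.ker ψ.toRingHom = I := Ideal.mk_ker
  haveI : DRing.HasLBaseChange (algebraMap A P) := Groth.Agent.DCat.hasLBaseChange _
  obtain ⟨Rψ, ⟨adj⟩⟩ := Groth.Agent.DualLib.Shriek.exists_rightAdjoint ψ.toRingHom
  haveI : Algebra.FiniteType A B := Algebra.FiniteType.of_surjective ψ hψ
  let ω := Dual2.shriekVia N Rψ (Dual.inD A A)
  have hv : ∀ i : ℤ, i ≠ -(n : ℤ) → Subsingleton (Dual.HD B ω i) := fun i hi => by
    by_cases hneg : (N : ℤ) + i < 0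
    · refine (Module.support_eq_empty_iff (R := B)).1 (Set.eq_empty_of_forall_notMem fun q hq => ?_)
      have := Groth.Agent.DualLib.Shriek.neg_le_of_nontrivial ψ hψ adj q N
        (Groth.Agent.DualLib.Omega.fibreDimAt_le ψ hψ q) i (Module.mem_support_iff.1 hq)
      omega
    · obtain ⟨j, hj⟩ : ∃ j : ℕ, (N : ℤ) + i = j := ⟨((N : ℤ) + i).toNat, by omega⟩
      obtain ⟨Φ, -⟩ := Groth.Agent.DualLib.OmegaExt.exists_HD_ext ψ hψ adj i j hj I hI
      haveI := hvan j (by omega)
      exact Φ.toEquiv.subsingleton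
  obtain ⟨Φ, hΦ⟩ := Groth.Agent.DualLib.OmegaExt.exists_HD_ext ψ hψ adj (-(n : ℤ)) (N - n) (by omega) I hI
  constructor
  · rintro ⟨L, _, _, hL, ⟨el⟩⟩
    let E := (RestrictScalars.addEquiv P B L).symm.trans (el.toAddEquiv.trans Φ.symm)
    let eL : L ≃ₗ[B] Dual.HD B ω (-(n : ℤ)) :=
      { E with
        map_smul' := fun b l => by
          obtain ⟨p, rfl⟩ := hψ b
          show Φ.symm (el ((RestrictScalars.addEquiv P B L).symm (ψ p • l))) = _
          apply Φ.injective
          rw [AddEquiv.apply_symm_apply]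
          show _ = Φ (ψ p • Φ.symm (el ((RestrictScalars.addEquiv P B L).symm l)))
          rw [hΦ, AddEquiv.apply_symm_apply]
          exact el.map_smul p _ }
    haveI := Module.Invertible.congr eL
    exact fun p => Groth.Agent.DualLib.OmegaExt.gorenstein_fibres ψ hψ adj n hv p
  · intro hg
    refine ⟨Dual.HD B ω (-(n : ℤ)), inferInstance, inferInstance,
      Groth.Agent.DualLib.OmegaExt.invertible_HD ψ hψ adj n hv hg, ⟨?_⟩⟩
    exact
      { (RestrictScalars.addEquiv P B (Dual.HD B ω (-(n : ℤ)))).trans Φ with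
        map_smul' := fun a m => hΦ a m }

end Groth.Agent.S11365
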