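import Groth.Statements.S11367
import Groth.Agent.DualLib.RelTop.TraceCore
import Groth.Agent.DualLib.RelTop.TraceModel
import Groth.Agent.DualLib.RelTop.TraceBC
import Groth.Agent.KLoc28.Restrict
import Groth.Agent.EGA43.InjFibre.Scheme
import Groth.Agent.Dual22Lib.AdjExists

set_option autoImplicit false
universe u
open CategoryTheory AlgebraicGeometry
open Dual

namespace Groth.Agent.S11367

open Limits

set_option backward.isDefEq.respectTransparency false
set_option linter.style.haveILetI false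
set_option synthInstance.maxHeartbeats 200000
set_option maxHeartbeats 1000000

attribute [local instance] HasDerivedCategory.standard


/-- Let A be any commutative ring and X a scheme proper, flat, locally of finite presentation and
surjective over Spec A, Cohen–Macaulay at every point, with every irreducible component of every
fibre of dimension n. If ω is a quasi-coherent O_X-module and γ : H^n(X, ω) → A an A-linear map such
that φ ↦ γ ∘ H^n(φ) is a bijection from Hom(F, ω) onto the A-linear maps H^n(X, F) → A for every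
quasi-coherent F, then γ is surjective. (The published assertion is that the trace γ_f : R^n
f_*(ω_f) → O_Y is always surjective for a proper Cohen–Macaulay f of pure relative dimension, with
no condition on the fibres being non-empty; over a point with empty fibre the source of γ_f vanishes
near that point and surjectivity fails, and the published proof computes on non-empty fibres, so f
is taken surjective here; (ω_f, γ_f) is characterised by its universal property over an affine
base.) -/
theorem result (A : Type u) [CommRing A] (X : Scheme.{u}) [X.Over (Spec (CommRingCat.of A))] [IsProper (X ↘ Spec (CommRingCat.of A))] [Flat (X ↘ Spec (CommRingCat.of A))] [LocallyOfFinitePresentation (X ↘ Spec (CommRingCat.of A))] [Surjective (X ↘ Spec (CommRingCat.of A))] (hCM : ∀ x : X, MoreMor.IsCMAt (X ↘ Spec (CommRingCat.of A)) x) (n : ℕ) (hd : ∀ (y : ↥(Spec (CommRingCat.of A))) (Z : Set ↥((X ↘ Spec (CommRingCat.of A)).fiber y)), Z ∈ irreducibleComponents ↥((X ↘ Spec (CommRingCat.of A)).fiber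 y) → topologicalKrullDim ↥Z = (n : WithBot ℕ∞)) (ω : X.Modules) (hω : Coh.IsQCoh ω) (γ : Coh.HH X ω n →ₗ[A] A) (huniv : (∀ F : X.Modules, Coh.IsQCoh F → ((∀ φ ψ : F ⟶ ω, (∀ x : Coh.HH X F n, γ (Sheaf.H.map ((SheafOfModules.toSheaf X.ringCatSheaf).map φ) n x) = γ (Sheaf.H.map ((SheafOfModules.toSheaf X.ringCatSheaf).map ψ) n x)) → φ = ψ) ∧ (∀ g : Coh.HH X F n →ₗ[A] A, ∃ φ : F ⟶ ω, ∀ x : Coh.HH X F n, γ (Sheaf.H.map ((SheafOfModules.toSheaf X.ringCatSheaf).map φ) n x) = g x)))) : Function.Surjective γ := by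
  classical
  by_contra hns
  let f := X ↘ Spec (CommRingCat.of A)
  let I : Ideal A := LinearMap.range γ
  have hI : I ≠ ⊤ := fun h => hns (LinearMap.range_eq_top.1 h)
  obtain ⟨m, hm, hle⟩ := Ideal.exists_le_maximal I hI
  let s : Spec (CommRingCat.of A) := ⟨m, hm.isPrime⟩
  obtain ⟨x, hx⟩ := f.surjective s
  have hdR : Cyc.HasRelDim f n := fun y T hT => hd y T hT
  obtain ⟨A₁, _, _, φ, X₁, f₁, g, hp, hCM₁, hd₁, hsq⟩ :=
    Groth.Agent.DualLib.RelTop.exists_cm_model f hCM n hdR
  letI : X₁.Over (Spec (CommRingCat.of A₁)) := ⟨f₁⟩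
  haveI : IsProper (X₁ ↘ Spec (CommRingCat.of A₁)) := hp
  haveI : IsNoetherianRing (CommRingCat.of A₁) := ‹IsNoetherianRing A₁›
  haveI : CompactSpace X₁ := QuasiCompact.compactSpace_of_compactSpace f₁
  haveI : QuasiSeparatedSpace X₁ := quasiSeparatedSpace_of_quasiSeparated f₁
  haveI : ∀ (U V : Scheme.{u}) (j : U ⟶ V) [IsOpenImmersion j],
      PreservesFiniteLimits (Scheme.Modules.restrictFunctor j) :=
    fun U V j _ => Groth.Agent.KLoc28.preservesFiniteLimits_restrict j
  let t : Spec (CommRingCat.of A₁) := Spec.map (CommRingCat.ofHom φ) s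
  have ht : (X₁ ↘ Spec (CommRingCat.of A₁)) (g x) = t := by
    show (g ≫ f₁) x = _
    rw [hsq.w]
    exact congrArg (Spec.map (CommRingCat.ofHom φ)) hx
  haveI := Groth.Agent.DCat.hasRpush (X₁ ↘ Spec (CommRingCat.of A₁))
  have h : DCoh.RpushPreservesQCoh (X₁ ↘ Spec (CommRingCat.of A₁)) := fun K hK =>
    Groth.Agent.DQCoh.isQCohD_Rpush _ K hK
  haveI : (DCoh.RpushQ (X₁ ↘ Spec (CommRingCat.of A₁)) h).IsLeftAdjoint :=
    Groth.Agent.Dual22Lib.AdjGeom.isLeftAdjoint_RpushQ _ h
  let O : DCoh.DQCoh (Spec (CommRingCat.of A₁)) :=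
    ⟨DCoh.inD _ (Coh.structureModule _), Groth.Agent.DCat.RelEquivBC.isQCohD_inD_structure _⟩
  obtain ⟨F, hF, hfl, γ₁, z, hz⟩ := Groth.Agent.DualLib.RelTop.exists_functional_not_mem A₁ X₁ n hCM₁ hd₁ h
    (DCoh.RpushQ (X₁ ↘ Spec (CommRingCat.of A₁)) h).rightAdjoint
    (Adjunction.ofIsLeftAdjoint _) O ⟨Iso.refl _⟩ (g x) t ht
  haveI := hF.1
  obtain ⟨γ', y, hy⟩ := Groth.Agent.DualLib.RelTop.exists_functional_baseChange φ g hsq n
    (fun z => Groth.Agent.DualLib.RelTop.fibre_dim_le f₁ n hd₁ z) F hF hfl γ₁ z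
  obtain ⟨-, hex⟩ := huniv _ (Groth.Agent.EGA43.InjFibre.isQCoh_pullback g F)
  obtain ⟨φ', hφ'⟩ := hex γ'
  refine hz (hle ⟨_, (hφ' y).trans hy⟩ : φ (γ₁ z) ∈ m)

end Groth.Agent.S11367
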