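import Groth.Statements.S11366
import Groth.Agent.DualLib.RelTop.CechBij
import Groth.Agent.S11367
import Groth.Agent.Coherent.SubFTApps
import Groth.Agent.Coherent.QcohOps

set_option autoImplicit false
universe u
open CategoryTheory AlgebraicGeometry
open Dual

namespace Groth.Agent.S11366

open Limits Opposite TopologicalSpace
open Groth.Agent.Coherent Groth.Agent.Coherent.CohBC
open Groth.Agent.DualLib.RelTop.CechPush Groth.Agent.DualLib.RelTop.CechTrace
open Groth.Agent.DualLib.RelTop.CechFibre Groth.Agent.DualLib.RelTop.CechBij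
open Groth.Agent.DualLib Groth.Agent.DualLib.RelTop

set_option backward.isDefEq.respectTransparency false
set_option linter.style.haveILetI false
set_option synthInstance.maxHeartbeats 200000
set_option maxHeartbeats 1000000

attribute [local instance] HasDerivedCategory.standard

theorem symm_map_smul {A B : Type u} [CommRing A] [CommRing B] (φ : A →+* B) {X' X : Scheme.{u}}
    [X'.Over (Spec (CommRingCat.of B))] [X.Over (Spec (CommRingCat.of A))] (g : X' ⟶ X)
    (h : IsPullback g (X' ↘ Spec (CommRingCat.of B)) (X ↘ Spec (CommRingCat.of A))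
      (Spec.map (CommRingCat.ofHom φ)))
    {ι : Type u} [Finite ι] (W : ι → X.Opens) (hcov : ⨆ i, W i = ⊤)
    (hW : ∀ (p : ℕ) (a : Fin (p + 1) → ι), IsAffineOpen (cinter W a)) (n : ℕ) (M : X'.Modules) [Coh.IsQCoh M]
    [Coh.IsQCoh ((Scheme.Modules.pushforward g).obj M)] (F : X.Modules) (ψ : F ⟶ (Scheme.Modules.pushforward g).obj M)
    (r : A) (u : Coh.HH X F n) :
    (CechPush.E φ g h W hcov hW n M).symm (Sheaf.H.map ((SheafOfModules.toSheaf X.ringCatSheaf).map ψ) n (r • u)) =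
      φ r • (CechPush.E φ g h W hcov hW n M).symm (Sheaf.H.map ((SheafOfModules.toSheaf X.ringCatSheaf).map ψ) n u) := by
  rw [← RelMod.hmap_eq A ψ n (r • u), ← RelMod.hmap_eq A ψ n u, AddEquiv.symm_apply_eq, CechPush.E_smul,
    AddEquiv.apply_symm_apply]
  exact map_smul (RelMod.hmap A ψ n) r u


/-- Let A be any commutative ring and X a scheme proper, flat and locally of finite presentation over
Spec A, Cohen–Macaulay at every point, with every irreducible component of every fibre of dimension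
n and with geometrically reduced and geometrically connected (hence non-empty) fibres. If ω is a
quasi-coherent O_X-module and γ : H^n(X, ω) → A an A-linear map such that φ ↦ γ ∘ H^n(φ) is a
bijection from Hom(F, ω) onto the A-linear maps H^n(X, F) → A for every quasi-coherent F, then γ is
bijective. (The published statement is that the trace γ_f : R^n f_*(ω_f) → O_Y of the relative
dualizing module is surjective in general and an isomorphism when the fibres are geometrically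
reduced and geometrically connected; this row characterises (ω_f, γ_f) by its universal property
over an affine base and keeps the isomorphism assertion; for an empty fibre the conclusion fails,
which the connectedness class used here excludes.) -/
theorem result (A : Type u) [CommRing A] (X : Scheme.{u}) [X.Over (Spec (CommRingCat.of A))] [IsProper (X ↘ Spec (CommRingCat.of A))] [Flat (X ↘ Spec (CommRingCat.of A))] [LocallyOfFinitePresentation (X ↘ Spec (CommRingCat.of A))] (hCM : ∀ x : X, MoreMor.IsCMAt (X ↘ Spec (CommRingCat.of A)) x) (n : ℕ) (hd : ∀ (y : ↥(Spec (CommRingCat.of A))) (Z : Set ↥((X ↘ Spec (CommRingCat.of A)).fiber y)), Z ∈ irreducibleComponents ↥((X ↘ Spec (CommRingCat.of A)).fiber y) → topologicalKrullDim ↥Z = (n : WithBot ℕ∞)) [GeometricallyReduced (X ↘ Spec (CommRingCat.of A))] [GeometricallyConnected (X ↘ Spec (CommRingCat.of A))] (ω : X.Modules) (hω : Coh.IsQCoh ω) (γ : Coh.HH X ω n →ₗ[A] A) (huniv : (∀ F : X.Modules,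 Coh.IsQCoh F → ((∀ φ ψ : F ⟶ ω, (∀ x : Coh.HH X F n, γ (Sheaf.H.map ((SheafOfModules.toSheaf X.ringCatSheaf).map φ) n x) = γ (Sheaf.H.map ((SheafOfModules.toSheaf X.ringCatSheaf).map ψ) n x)) → φ = ψ) ∧ (∀ g : Coh.HH X F n →ₗ[A] A, ∃ φ : F ⟶ ω, ∀ x : Coh.HH X F n, γ (Sheaf.H.map ((SheafOfModules.toSheaf X.ringCatSheaf).map φ) n x) = g x)))) : Function.Bijective γ := by
  classical
  refine ⟨(injective_iff_map_eq_zero γ).2 fun x hx => ?_, Groth.Agent.S11367.result A X hCM n hd ω hω γ huniv⟩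
  let f := X ↘ Spec (CommRingCat.of A)
  have hdR : Cyc.HasRelDim f n := fun y T hT => hd y T hT
  obtain ⟨A₁, _, _, φ, X₁, f₁, g, hp, hCM₁, hd₁, hsq⟩ :=
    Groth.Agent.DualLib.RelTop.exists_cm_model f hCM n hdR
  letI : X₁.Over (Spec (CommRingCat.of A₁)) := ⟨f₁⟩
  haveI : IsProper (X₁ ↘ Spec (CommRingCat.of A₁)) := hp
  haveI : IsNoetherianRing (CommRingCat.of A₁) := ‹IsNoetherianRing A₁›
  haveI : IsLocallyNoetherian X₁ := LocallyOfFiniteType.isLocallyNoetherian f₁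
  haveI : CompactSpace X₁ := QuasiCompact.compactSpace_of_compactSpace f₁
  haveI : QuasiSeparatedSpace X₁ := quasiSeparatedSpace_of_quasiSeparated f₁
  haveI : LocallyOfFinitePresentation f₁ := LocallyOfFinitePresentation.iff_locallyOfFiniteType.2 inferInstance
  haveI : Flat (X₁ ↘ Spec (CommRingCat.of A₁)) := Flat.of_stalkMap _ fun x => (hCM₁ x).1
  haveI : IsAffineHom g := MorphismProperty.IsStableUnderBaseChange.of_isPullback
    (P := @IsAffineHom) hsq.flip inferInstance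
  haveI := hω
  haveI : Coh.IsQCoh ((Scheme.Modules.pushforward g).obj ω) := isQCoh_pf g ω
  obtain ⟨ι, _, W, hcov, hW⟩ := exists_affine_cover A₁ X₁
  let Eg := CechPush.E φ g hsq W hcov hW n ω
  -- the class comes from a coherent submodule
  obtain ⟨c, hc⟩ := hcls_surjective A₁ W hcov hW n _ (Eg x)
  let N := (Scheme.Modules.pushforward g).obj ω
  have hQ : ∀ a : Fin (n + 1) → ι, ∃ Q : SubM N, Q.Good ⊤ ∧ ∀ _ : PUnit.{u + 1}, c.1 a ∈ Q.carrier (cinter W a) :=
    fun a => exists_good_containing_qcqs (F := N) (hW n a).isCompact (fun _ : PUnit.{u + 1} => c.1 a)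
  choose Q hQg hQm using hQ
  let G₀ : SubM N := SubM.sum Q
  have hG₀ : G₀.Good ⊤ := SubM.good_sum Q hQg
  have hF : Coh.IsCoh G₀.toMod := ⟨SubM.isQCoh hG₀, SubM.isFT hG₀⟩
  let F := G₀.toMod
  haveI : Coh.IsQCoh F := hF.1
  let ψ : F ⟶ N := G₀.toι
  have hlift : ∀ a : Fin (n + 1) → ι, ∃ s, ψ.app (cinter W a) s = c.1 a := fun a =>
    G₀.mem_range_toι.2 (SubM.le_sum Q a _ (hQm a ⟨⟩))
  choose c₀ hc₀ using hlift
  have hc₀' : (cxMapA A₁ W ψ).f n c₀ = c.1 := funext hc₀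
  have hmem : c₀ ∈ cocy A₁ W n F := by
    rw [LinearMap.mem_ker]
    funext a
    apply Groth.Agent.Coherent.app_injective_of_mono ψ (cinter W a)
    have h1 : (cxMapA A₁ W ψ).f (n + 1) ((cxA A₁ W F).d n (n + 1) c₀) = 0 := by
      rw [← CategoryTheory.comp_apply, ← (cxMapA A₁ W ψ).comm, CategoryTheory.comp_apply, hc₀']
      exact c.2
    exact (congrFun h1 a).trans (map_zero _).symm
  let y := hcls A₁ W hcov hW n F ⟨c₀, hmem⟩
  have hy : Sheaf.H.map ((SheafOfModules.toSheaf X₁.ringCatSheaf).map ψ) n y = Eg x := by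
    refine (hmap_hcls A₁ W hcov hW n ψ _).trans ((congrArg _ (Subtype.ext hc₀')).trans hc)
  -- a larger model containing the values
  haveI : Module.Finite A₁ (Coh.HH X₁ F n) := Coherent.finite_HH (A := A₁) hF n
  obtain ⟨r, ξ, hξ⟩ := Module.Finite.exists_fin (R := A₁) (M := Coh.HH X₁ F n)
  let L : Coh.HH X₁ F n → A := fun w =>
    γ (Eg.symm (Sheaf.H.map ((SheafOfModules.toSheaf X₁.ringCatSheaf).map ψ) n w))
  letI := φ.toAlgebra
  let S₂ : Subalgebra A₁ A := Algebra.adjoin A₁ (Set.range fun i => L (ξ i))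
  have hLmem : ∀ w, L w ∈ S₂ := fun w => by
    have hw : w ∈ Submodule.span A₁ (Set.range ξ) := hξ.ge trivial
    induction hw using Submodule.span_induction with
    | mem w hw => obtain ⟨i, rfl⟩ := hw; exact Algebra.subset_adjoin ⟨i, rfl⟩
    | zero => simp only [L, map_zero]; exact S₂.zero_mem
    | add u v _ _ hu hv => simp only [L, map_add] at hu hv ⊢; exact S₂.add_mem hu hv
    | smul q u _ hu =>
      have hs : L (q • u) = φ q * L u := by
        show γ (Eg.symm _) = φ q * γ (Eg.symm _)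
        rw [← smul_eq_mul, ← map_smul]
        exact congrArg γ (symm_map_smul φ g hsq W hcov hW n ω F ψ q u)
      rw [hs]
      exact S₂.smul_mem hu q
  let A₂ : Type u := S₂
  letI : CommRing A₂ := inferInstanceAs (CommRing S₂)
  haveI : IsNoetherianRing A₂ := isNoetherianRing_of_fg (Subalgebra.fg_def.2 ⟨_, Set.finite_range _, rfl⟩)
  haveI : IsNoetherianRing (CommRingCat.of A₂) := ‹IsNoetherianRing A₂›
  let φ₁ : A₁ →+* A₂ := algebraMap A₁ S₂
  let φ₂ : A₂ →+* A := S₂.val.toRingHom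
  have hφ₂ : Function.Injective φ₂ := Subtype.val_injective
  let q := Spec.map (CommRingCat.ofHom φ₁)
  let X₂ := pullback f₁ q
  letI : X₂.Over (Spec (CommRingCat.of A₂)) := ⟨pullback.snd f₁ q⟩
  let hh : X₂ ⟶ X₁ := pullback.fst f₁ q
  have hcomp : Spec.map (CommRingCat.ofHom φ₂) ≫ q = Spec.map (CommRingCat.ofHom φ) := by
    rw [← Spec.map_comp, ← CommRingCat.ofHom_comp]; rfl
  let g₂ : X ⟶ X₂ := pullback.lift g (f ≫ Spec.map (CommRingCat.ofHom φ₂)) (by
    rw [Category.assoc, hcomp]; exact hsq.w)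
  have h₁ : IsPullback hh (X₂ ↘ Spec (CommRingCat.of A₂)) (X₁ ↘ Spec (CommRingCat.of A₁)) q :=
    IsPullback.of_hasPullback f₁ q
  have h₂ : IsPullback g₂ f (X₂ ↘ Spec (CommRingCat.of A₂)) (Spec.map (CommRingCat.ofHom φ₂)) :=
    IsPullback.of_right (by rw [pullback.lift_fst, hcomp]; exact hsq) (pullback.lift_snd _ _ _) h₁
  haveI : IsProper (X₂ ↘ Spec (CommRingCat.of A₂)) := MorphismProperty.of_isPullback h₁ hp
  haveI : LocallyOfFinitePresentation (X₂ ↘ Spec (CommRingCat.of A₂)) :=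
    MorphismProperty.of_isPullback h₁ ‹LocallyOfFinitePresentation f₁›
  obtain ⟨hCM₂, hd₂⟩ := cm_baseChange h₁ hCM₁ n hd₁
  haveI : IsAffineHom hh := MorphismProperty.IsStableUnderBaseChange.of_isPullback
    (P := @IsAffineHom) h₁.flip inferInstance
  haveI : IsAffineHom g₂ := MorphismProperty.IsStableUnderBaseChange.of_isPullback
    (P := @IsAffineHom) h₂.flip inferInstance
  haveI : CompactSpace X₂ := QuasiCompact.compactSpace_of_compactSpace (X₂ ↘ Spec (CommRingCat.of A₂))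
  haveI : QuasiSeparatedSpace X₂ := quasiSeparatedSpace_of_quasiSeparated (X₂ ↘ Spec (CommRingCat.of A₂))
  let W₂ := fun i => hh ⁻¹ᵁ W i
  have hcov₂ := hcov' φ₁ hh h₁ W hcov
  have hW₂ := hW' φ₁ hh h₁ W hW
  let F₂ := (Scheme.Modules.pullback hh).obj F
  haveI : Coh.IsQCoh F₂ := Groth.Agent.EGA43.InjFibre.isQCoh_pullback hh F
  haveI : Coh.IsQCoh ((Scheme.Modules.pushforward hh).obj F₂) := isQCoh_pf hh F₂
  haveI : Coh.IsQCoh ((Scheme.Modules.pushforward g₂).obj ω) := isQCoh_pf g₂ ω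
  haveI : Coh.IsQCoh ((Scheme.Modules.pushforward hh).obj ((Scheme.Modules.pushforward g₂).obj ω)) := isQCoh_pf hh _
  obtain ⟨ψ₂, hψ₂⟩ := descend_hom φ φ₁ φ₂ g g₂ hh (pullback.lift_fst _ _ _) hsq h₁ h₂ W hcov hW n F ω ψ
  let E₂ := CechPush.E φ₂ g₂ h₂ W₂ hcov₂ hW₂ n ω
  -- the functional on the larger model
  have hE₂ : ∀ (q : A₂) (w : Coh.HH X₂ ((Scheme.Modules.pushforward g₂).obj ω) n),
      E₂.symm (q • w) = φ₂ q • E₂.symm w := fun q w =>
    (AddEquiv.symm_apply_eq _).2 (by rw [CechPush.E_smul, AddEquiv.apply_symm_apply])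
  let ℓ : Coh.HH X₂ F₂ n → A := fun w => γ (E₂.symm (RelMod.hmap A₂ ψ₂ n w))
  have hℓs : ∀ (q : A₂) w, ℓ (q • w) = φ₂ q * ℓ w := fun q w => by
    show γ (E₂.symm _) = φ₂ q * γ (E₂.symm _)
    rw [map_smul, hE₂, map_smul, smul_eq_mul]
  have hℓadd : ∀ u v, ℓ (u + v) = ℓ u + ℓ v := fun u v => by simp only [ℓ, map_add]
  have hdim₁ : ∀ y, topologicalKrullDim ↥(f₁.fiber y) ≤ (n : WithBot ℕ∞) := fun y =>
    Groth.Agent.DualLib.RelTop.fibre_dim_le f₁ n hd₁ y
  have hdim₂ : ∀ y, topologicalKrullDim ↥((X₂ ↘ Spec (CommRingCat.of A₂)).fiber y) ≤ (n : WithBot ℕ∞) := fun y =>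
    Groth.Agent.DualLib.RelTop.fibre_dim_le _ n hd₂ y
  have hℓmem : ∀ w, ℓ w ∈ S₂ := fun w => by
    have hw : w ∈ Submodule.span A₂ (Set.range (CechPush.β φ₁ hh h₁ W hcov hW n F)) :=
      (span_range_β φ₁ hh h₁ W hcov hW n hdim₁ F).ge trivial
    induction hw using Submodule.span_induction with
    | mem w hw =>
      obtain ⟨w', rfl⟩ := hw
      show γ (E₂.symm (RelMod.hmap A₂ ψ₂ n _)) ∈ S₂
      rw [RelMod.hmap_eq A₂ ψ₂ n, hψ₂ w']
      exact hLmem w'
    | zero => simp only [ℓ, map_zero]; exact S₂.zero_mem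
    | add u v _ _ hu hv => rw [hℓadd]; exact S₂.add_mem hu hv
    | smul q u _ hu => rw [hℓs]; exact S₂.mul_mem q.2 hu
  let ℓ₂ : Coh.HH X₂ F₂ n →ₗ[A₂] A₂ :=
    { toFun := fun w => ⟨ℓ w, hℓmem w⟩
      map_add' := fun u v => Subtype.ext (hℓadd u v)
      map_smul' := fun q w => Subtype.ext (hℓs q w) }
  obtain ⟨ω₂, hcoh₂, hfl₂, tr, hb⟩ := exists_dualizing_coh A₂ X₂ n hCM₂ hd₂
  haveI : Coh.IsQCoh ω₂ := hcoh₂.1
  obtain ⟨ψ₃, hψ₃⟩ := (hb.2 F₂ ‹_›).2 ℓ₂
  let y₂ : Coh.HH X₂ F₂ n := CechPush.β φ₁ hh h₁ W hcov hW n F y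
  let z : Coh.HH X₂ ω₂ n := RelMod.hmap A₂ ψ₃ n y₂
  have hval : ∀ w, tr (RelMod.hmap A₂ ψ₃ n w) = ℓ₂ w := fun w => by
    rw [RelMod.hmap_eq]
    exact LinearMap.congr_fun hψ₃ w
  have hx₂ : E₂.symm (Sheaf.H.map ((SheafOfModules.toSheaf X₂.ringCatSheaf).map ψ₂) n y₂) = x := by
    rw [hψ₂ y, hy, AddEquiv.symm_apply_apply]
  have hz : tr z = 0 := by
    rw [hval]
    refine Subtype.ext ?_
    show γ (E₂.symm (RelMod.hmap A₂ ψ₂ n y₂)) = 0
    rw [RelMod.hmap_eq A₂ ψ₂ n, hx₂, hx]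
  -- back to X
  let ω' := (Scheme.Modules.pullback g₂).obj ω₂
  haveI : Coh.IsQCoh ω' := Groth.Agent.EGA43.InjFibre.isQCoh_pullback g₂ ω₂
  haveI : Coh.IsQCoh ((Scheme.Modules.pushforward g₂).obj ω') := isQCoh_pf g₂ ω'
  obtain ⟨γ', hγ'⟩ := exists_extension φ₂ g₂ h₂ W₂ hcov₂ hW₂ n hdim₂ ω₂ hfl₂
    (φ₂.toAddMonoidHom.comp tr.toAddMonoidHom) fun q w => by
      show φ₂ (tr (q • w)) = φ₂ q * φ₂ (tr w)
      rw [map_smul, smul_eq_mul, map_mul]
  obtain ⟨θ, hθ⟩ := (huniv ω' ‹_›).2 γ'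
  let η₂ := CechPush.eta g₂ ω₂ ≫ (Scheme.Modules.pushforward g₂).map θ
  have hη : ∀ w, RelMod.hmap A θ n (CechPush.β φ₂ g₂ h₂ W₂ hcov₂ hW₂ n ω₂ w) =
      E₂.symm (Sheaf.H.map ((SheafOfModules.toSheaf X₂.ringCatSheaf).map η₂) n w) := fun w => by
    rw [RelMod.hmap_eq]
    exact (AddEquiv.eq_symm_apply _).2 (E_map_β φ₂ g₂ h₂ W₂ hcov₂ hW₂ n ω₂ θ w)
  let F' := (Scheme.Modules.pullback g₂).obj F₂
  haveI : Coh.IsQCoh F' := Groth.Agent.EGA43.InjFibre.isQCoh_pullback g₂ F₂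
  haveI : Coh.IsQCoh ((Scheme.Modules.pushforward g₂).obj F') := isQCoh_pf g₂ F'
  let adjH := (Scheme.Modules.pullbackPushforwardAdjunction g₂).homEquiv F₂ ω
  have hχ : ∀ (χ : F₂ ⟶ (Scheme.Modules.pushforward g₂).obj ω) w,
      Sheaf.H.map ((SheafOfModules.toSheaf X.ringCatSheaf).map (adjH.symm χ)) n
        (CechPush.β φ₂ g₂ h₂ W₂ hcov₂ hW₂ n F₂ w) =
      E₂.symm (Sheaf.H.map ((SheafOfModules.toSheaf X₂.ringCatSheaf).map χ) n w) := fun χ w => by
    refine (AddEquiv.eq_symm_apply _).2 ((E_map_β φ₂ g₂ h₂ W₂ hcov₂ hW₂ n F₂ _ w).trans ?_)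
    rw [show CechPush.eta g₂ F₂ ≫ (Scheme.Modules.pushforward g₂).map (adjH.symm χ) = χ from
      ((Scheme.Modules.pullbackPushforwardAdjunction g₂).homEquiv_unit _ _ _).symm.trans (adjH.apply_symm_apply χ)]
  have hψeq : ψ₂ = ψ₃ ≫ η₂ := by
    apply adjH.symm.injective
    refine (huniv F' ‹_›).1 _ _ fun w => ?_
    rw [← RelMod.hmap_eq A (adjH.symm ψ₂), ← RelMod.hmap_eq A (adjH.symm (ψ₃ ≫ η₂))]
    have hw : w ∈ Submodule.span A (Set.range (CechPush.β φ₂ g₂ h₂ W₂ hcov₂ hW₂ n F₂)) :=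
      (span_range_β φ₂ g₂ h₂ W₂ hcov₂ hW₂ n hdim₂ F₂).ge trivial
    induction hw using Submodule.span_induction with
    | mem w hw =>
      obtain ⟨w', rfl⟩ := hw
      rw [RelMod.hmap_eq A (adjH.symm ψ₂), RelMod.hmap_eq A (adjH.symm (ψ₃ ≫ η₂)), hχ, hχ,
        H_comp A₂ ψ₃ η₂ n w', ← hη]
      rw [RelMod.hmap_eq A θ, hθ, hγ']
      show γ (E₂.symm (Sheaf.H.map ((SheafOfModules.toSheaf X₂.ringCatSheaf).map ψ₂) n w')) = φ₂ (tr _)
      rw [← RelMod.hmap_eq A₂ ψ₃ n w', hval, ← RelMod.hmap_eq A₂ ψ₂ n w']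
      rfl
    | zero => simp only [map_zero]
    | add u v _ _ hu hv => rw [map_add, map_add, map_add, map_add, hu, hv]
    | smul q u _ hu => rw [map_smul, map_smul, map_smul, map_smul, hu]
  have hxz : x = RelMod.hmap A θ n (CechPush.β φ₂ g₂ h₂ W₂ hcov₂ hW₂ n ω₂ z) := by
    rw [hη, ← hx₂, hψeq, H_comp A₂ ψ₃ η₂ n y₂]
    congr 2
    exact (RelMod.hmap_eq A₂ ψ₃ n y₂).symm
  -- annihilation
  by_contra hne
  let J : Ideal A :=
    { carrier := {a | a • x = 0}
      zero_mem' := zero_smul A x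
      add_mem' := fun {a b} ha hb => by
        show (a + b) • x = 0
        rw [add_smul, show a • x = 0 from ha, show b • x = 0 from hb, add_zero]
      smul_mem' := fun a b hb => by
        show (a * b) • x = 0
        rw [mul_smul, show b • x = 0 from hb, smul_zero] }
  have hJ : J ≠ ⊤ := fun h => hne (by
    have h1 : (1 : A) • x = 0 := (Ideal.eq_top_iff_one J).1 h
    rwa [one_smul] at h1)
  obtain ⟨m, hm, hle⟩ := Ideal.exists_le_maximal J hJ
  let s : Spec (CommRingCat.of A) := ⟨m, hm.isPrime⟩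
  obtain ⟨xs, hxs⟩ := f.surjective s
  let t : Spec (CommRingCat.of A₂) := Spec.map (CommRingCat.ofHom φ₂) s
  have ht : (X₂ ↘ Spec (CommRingCat.of A₂)) (g₂ xs) = t := by
    show (g₂ ≫ (X₂ ↘ Spec (CommRingCat.of A₂))) xs = _
    rw [h₂.w]
    exact congrArg (Spec.map (CommRingCat.ofHom φ₂)) hxs
  have hΓ : Function.Bijective ((X₂ ↘ Spec (CommRingCat.of A₂)).fiberToSpecResidueField t).appTop := by
    haveI : IsProper ((X₂ ↘ Spec (CommRingCat.of A₂)).fiberToSpecResidueField t) :=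
      MorphismProperty.pullback_snd _ _ ‹IsProper (X₂ ↘ Spec (CommRingCat.of A₂))›
    haveI : IsProper (f.fiberToSpecResidueField s) := MorphismProperty.pullback_snd _ _ ‹IsProper f›
    haveI : GeometricallyConnected (f.fiberToSpecResidueField s) := MorphismProperty.pullback_snd _ _ ‹GeometricallyConnected f›
    haveI : GeometricallyReduced (f.fiberToSpecResidueField s) := MorphismProperty.pullback_snd _ _ ‹GeometricallyReduced f›
    let qs := (Spec.map (CommRingCat.ofHom φ₂)).residueFieldMap s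
    haveI : CompactSpace ↥((X₂ ↘ Spec (CommRingCat.of A₂)).fiber t) :=
      QuasiCompact.compactSpace_of_compactSpace ((X₂ ↘ Spec (CommRingCat.of A₂)).fiberToSpecResidueField t)
    haveI : QuasiSeparatedSpace ↥((X₂ ↘ Spec (CommRingCat.of A₂)).fiber t) :=
      quasiSeparatedSpace_of_quasiSeparated ((X₂ ↘ Spec (CommRingCat.of A₂)).fiberToSpecResidueField t)
    let k₀ : f.fiber s ⟶ (X₂ ↘ Spec (CommRingCat.of A₂)).fiber t :=
      pullback.lift (f.fiberι s ≫ g₂) (f.fiberToSpecResidueField s ≫ Spec.map qs) (by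
        rw [Category.assoc, h₂.w, Category.assoc, Scheme.Hom.SpecMap_residueFieldMap_fromSpecResidueField]
        simp only [← Category.assoc]
        exact congrArg (· ≫ Spec.map (CommRingCat.ofHom φ₂)) pullback.condition)
    have hk : IsPullback k₀ (f.fiberToSpecResidueField s)
        ((X₂ ↘ Spec (CommRingCat.of A₂)).fiberToSpecResidueField t) (Spec.map qs) := by
      refine IsPullback.of_right (h₁₂ := (X₂ ↘ Spec (CommRingCat.of A₂)).fiberι t)
        (h₂₂ := (Spec (CommRingCat.of A₂)).fromSpecResidueField t) ?_ (pullback.lift_snd _ _ _)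
        (IsPullback.of_hasPullback _ _)
      rw [show k₀ ≫ (X₂ ↘ Spec (CommRingCat.of A₂)).fiberι t = f.fiberι s ≫ g₂ from pullback.lift_fst _ _ _,
        Scheme.Hom.SpecMap_residueFieldMap_fromSpecResidueField]
      exact (IsPullback.of_hasPullback f ((Spec (CommRingCat.of A)).fromSpecResidueField s)).paste_horiz h₂
    exact bijective_appTop_descend k₀ (f.fiberToSpecResidueField s) _ qs (Field.toIsField _) hk
      (Groth.Agent.AbSchLib.bijective_appTop_of_field _ (f.fiberToSpecResidueField s))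
  obtain ⟨a, ha, haz⟩ := exists_killer A₂ X₂ n hCM₂ hd₂ ω₂ hcoh₂ tr hb t (g₂ xs) ht hΓ z hz
  refine ha (hle ?_ : φ₂ a ∈ m)
  show φ₂ a • x = 0
  rw [hxz, ← map_smul, ← CechPush.β_smul, haz]
  have h0 : CechPush.β φ₂ g₂ h₂ W₂ hcov₂ hW₂ n ω₂ 0 = 0 := by
    rw [CechPush.β, map_zero, map_zero]
  rw [h0, map_zero]

end Groth.Agent.S11366
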