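import Groth.Statements.S16710
import Groth.Agent.VarietyLib.NakaiCurves
import Groth.Agent.CurveRR24.GG
import Groth.Agent.AmpleLib.Generated
import Groth.Agent.S7749

set_option autoImplicit false
universe u
open CategoryTheory CategoryTheory.Limits AlgebraicGeometry TopologicalSpace
open Variety
open Groth.Agent

namespace Groth.Agent.S16710



/-- Let X be a proper scheme over a field k and L an invertible O_X-module. Then L is ample if and only
if (i) L is strictly nef, meaning χ(O_C ⊗ L) - χ(O_C) > 0 for every integral closed subscheme C ⊆ X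
of dimension one, and (ii) L is semiample, meaning some positive tensor power of L is generated by
its global sections (is a quotient of a free O_X-module). -/
theorem result (k : Type u) [Field k] (X : Scheme.{u})
    [X.Over (Spec (CommRingCat.of k))] [IsProper (X ↘ (Spec (CommRingCat.of k)))]
    (L : X.Modules) (hL : PicF.IsInvertible L) :
    CohB1.IsAmple L ↔
      ((∀ C : X.IdealSheafData, IsIntegral C.subscheme →
          topologicalKrullDim (C.support : Set X) = 1 →
            0 < Curv2.euler k X (CohB1.tensorMod (ClSub.quotMod C) L) - Curv2.euler k X (ClSub.quotMod C)) ∧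
        ∃ m : ℕ, Curv2.IsGloballyGenerated (CohB1.tensorPow L (m + 1))) := by
  haveI : IsNoetherian X := EulerLib.isNoetherian_of_proper (X := X) k
  constructor
  · intro hA
    refine ⟨fun C hC hCd => ?_, ?_⟩
    · haveI := hC
      have hs : topologicalKrullDim (CohB1.support (ClSub.quotMod C)) = ((1 : ℕ) : WithBot ℕ∞) := by
        rw [(CurveRR24.support_quotMod_subset C).antisymm fun x hx => S7749.mem_support_quotMod C hx, hCd]
        rfl
      rw [← VarietyLib.interDeg_one_eq k hL]
      exact EulerLib.interDeg_pos k 1 (fun _ => L) (fun _ => hA) _ (CurveRR24.isCoh_quotMod C) hs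
    · obtain ⟨N, hN⟩ := AmpleLib.eventually_globallyGenerated hA (Coh.structureModule X)
        (Coherent.isCoh_structureModule X)
      obtain ⟨ι, p, hp⟩ := hN (N + 1) N.le_succ
      haveI := hp
      exact ⟨N, ι, p ≫ (AmpleLib.unitTensorIso _).hom, inferInstance⟩
  · rintro ⟨hnef, m, hgg⟩
    refine VarietyLib.isAmple_of_posInt k hL (VarietyLib.posInt_of_effective k hL (fun z hz => ?_) fun z => ?_)
    · rw [VarietyLib.interDeg_one_eq k hL]
      exact hnef (AssSch12.clI z) (VarietyLib.isIntegral_clI z) (by rw [VarietyLib.support_clI, hz]; rfl)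
    · obtain ⟨P, hPz, hP⟩ := (isClosed_closure (s := ({z} : Set X))).exists_closed_singleton
        ⟨z, subset_closure rfl⟩
      obtain ⟨s, hs⟩ := CurveRR24.exists_mem_glocus_of_gg k hP (AmpleLib.isInvertible_tensorPow hL (m + 1)) hgg
      let g := (AssSch12.clI z).subschemeι
      obtain ⟨w, hw⟩ : ∃ w, g w = P := (Coherent.range_clι z).ge hPz
      obtain ⟨e, -⟩ := AmpleLib.exists_pullPowIso g hL (m + 1)
      refine ⟨m, e.hom.app ⊤ (PicLib.pullSec g s), VarietyLib.ne_zero_of_mem_glocus (x := w) ?_⟩
      rw [AmpleLib.glocus_map_iso, AmpleLib.glocus_pullSec g (AmpleLib.isInvertible_tensorPow hL (m + 1))]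
      show g w ∈ AmpleLib.glocus _ s
      rw [hw]
      exact hs

end Groth.Agent.S16710
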