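import Groth.Statements.S11369
import Groth.Agent.S16710
import Groth.Agent.S1530

set_option autoImplicit false
universe u
open CategoryTheory CategoryTheory.Limits AlgebraicGeometry TopologicalSpace
open Variety
open Groth.Agent

namespace Groth.Agent.S11369



/-- Let X be proper over an algebraically closed field k and L an invertible O_X-module generated by its
global sections. If for every integral closed subscheme C of X of dimension one the pullback of L to
C is ample, then L is ample. -/
theorem result (k : Type u) [Field k] [IsAlgClosed k] (X : Scheme.{u})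
    [X.Over (Spec (CommRingCat.of k))] [IsProper (X ↘ (Spec (CommRingCat.of k)))]
    (L : X.Modules) (hL : PicF.IsInvertible L) (hgen : Curv2.IsGloballyGenerated L)
    (hcurves : ∀ C : X.IdealSheafData, IsIntegral C.subscheme →
      topologicalKrullDim (C.support : Set X) = 1 →
        CohB1.IsAmple ((Scheme.Modules.pullback C.subschemeι).obj L)) :
    CohB1.IsAmple L := by
  haveI : IsNoetherian X := EulerLib.isNoetherian_of_proper (X := X) k
  refine (S16710.result k X L hL).2 ⟨fun C hC hCd => ?_, 0, ?_⟩
  · let g := C.subschemeι
    letI : C.subscheme.Over (Spec (CommRingCat.of k)) := ⟨g ≫ (X ↘ Spec (CommRingCat.of k))⟩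
    haveI : IsProper (C.subscheme ↘ Spec (CommRingCat.of k)) :=
      inferInstanceAs (IsProper (g ≫ (X ↘ Spec (CommRingCat.of k))))
    haveI : IsNoetherian C.subscheme := EulerLib.isNoetherian_of_proper (X := C.subscheme) k
    have hO : Coh.IsCoh (Coh.structureModule C.subscheme) := Coherent.isCoh_structureModule _
    have hdim : topologicalKrullDim C.subscheme = ((1 : ℕ) : WithBot ℕ∞) := by
      rw [g.isClosedEmbedding.isEmbedding.toHomeomorph.isHomeomorph.topologicalKrullDim_eq,
        show Set.range g = (C.support : Set X) from C.range_subschemeι, hCd]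
      rfl
    have hs : topologicalKrullDim (CohB1.support (Coh.structureModule C.subscheme)) = ((1 : ℕ) : WithBot ℕ∞) := by
      rw [S1530.support_structureModule_eq, (Homeomorph.Set.univ (C.subscheme : Type u)).isHomeomorph.topologicalKrullDim_eq, hdim]
    have hpos := EulerLib.interDeg_pos k 1 (fun _ => (Scheme.Modules.pullback g).obj L)
      (fun _ => hcurves C hC hCd) _ hO hs
    have e : (fun _ : Fin 1 => EulerLib.InvCl.mk ((Scheme.Modules.pullback g).obj L) (hcurves C hC hCd).1) =
        fun i => VarietyLib.pullHom g ((fun _ : Fin 1 => EulerLib.InvCl.mk L hL) i) := rfl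
    rw [e, VarietyLib.interDeg_monoidHom (VarietyLib.pullHom g) (fun _ : Fin 1 => EulerLib.InvCl.mk L hL),
      ← show EulerLib.chiCl k ((Coh.push g).obj (Coh.structureModule C.subscheme)) =
        fun x => EulerLib.chiCl k (Coh.structureModule C.subscheme) (VarietyLib.pullHom g x) from
        funext fun x => VarietyLib.chiCl_push k g rfl hO x, VarietyLib.interDeg_one_eq k hL] at hpos
    exact hpos
  · obtain ⟨ι, p, hp⟩ := hgen
    haveI := hp
    exact ⟨ι, p ≫ (AmpleLib.unitTensorIso L).inv, inferInstance⟩

end Groth.Agent.S11369
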