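import Groth.Statements.S1137
import Groth.Agent.Purity10.ComplFF
import Groth.Agent.CAlgH3.FEtClopenFF
import Groth.Agent.Matlis6.CompletionNoetherian
import Groth.Agent.Lef23.PuncturedDescendCompl

set_option linter.style.haveILetI false
-- import your own Groth.Agent.* helpers here

set_option autoImplicit false
universe u
open Pi1

namespace Groth.Agent.S1137

open AlgebraicGeometry CategoryTheory CategoryTheory.Limits in
/-- Let A be a Noetherian local ring, f an element of the maximal ideal with (A, (f)) a henselian pair,
and A' the adic completion of A. Let U and U₀ be the punctured spectra of A and of A/fA, and U', U'₀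
their base changes along Spec A' ⟶ Spec A. If restriction of finite etale covers from U' to U'₀ is
fully faithful, then restriction from U to U₀ is fully faithful. -/
theorem result (A : Type u) [CommRing A] [IsNoetherianRing A] [IsLocalRing A] (f : A) (hf : f ∈ IsLocalRing.maximalIdeal A) [HenselianRing A (Ideal.span {f})]
    (h : (FEt.restrict (pullback.fst (pullback.fst (FEt.puncturedSpec A).ι (Spec.map (CommRingCat.ofHom (algebraMap A (AdicCompletion (IsLocalRing.maximalIdeal A) A))))) (pullback.fst (FEt.puncturedSpec A).ι (Spec.map (CommRingCat.ofHom (Ideal.Quotient.mk (Ideal.span {f}))))))).Full ∧ (FEt.restrict (pullback.fst (pullback.fst (FEt.puncturedSpec A).ι (Spec.map (CommRingCat.ofHom (algebraMap A (AdicCompletion (IsLocalRing.maximalIdeal A) A))))) (pullback.fst (FEt.puncturedSpec A).ι (Spec.map (CommRingCat.ofHom (Ideal.Quotient.mk (Ideal.span {f}))))))).Faithful) :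
    (FEt.restrict (pullback.fst (FEt.puncturedSpec A).ι (Spec.map (CommRingCat.ofHom (Ideal.Quotient.mk (Ideal.span {f})))))).Full ∧ (FEt.restrict (pullback.fst (FEt.puncturedSpec A).ι (Spec.map (CommRingCat.ofHom (Ideal.Quotient.mk (Ideal.span {f})))))).Faithful := by
  let A' := AdicCompletion (IsLocalRing.maximalIdeal A) A
  haveI : IsNoetherianRing A' := Matlis6.isNoetherianRing_adicCompletion _
  haveI : Module.FaithfullyFlat A A' := Lef23.Descend.faithfullyFlat_completion A
  haveI : IsClosedImmersion (Spec.map (CommRingCat.ofHom (Ideal.Quotient.mk (Ideal.span ({f} : Set A))))) :=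
    IsClosedImmersion.spec_of_surjective _ Ideal.Quotient.mk_surjective
  let i := pullback.fst (FEt.puncturedSpec A).ι (Spec.map (CommRingCat.ofHom (Ideal.Quotient.mk (Ideal.span ({f} : Set A)))))
  haveI : IsClosedImmersion i := inferInstance
  have hi : Set.range i = {z | f ∈ ((FEt.puncturedSpec A).ι z).asIdeal} := by
    rw [Scheme.Pullback.range_fst]
    ext z
    have hq : Set.range (Spec.map (CommRingCat.ofHom (Ideal.Quotient.mk (Ideal.span ({f} : Set A))))) =
        PrimeSpectrum.zeroLocus (R := A) {f} := by
      refine (range_comap_of_surjective _ _ Ideal.Quotient.mk_surjective).trans ?_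
      rw [Ideal.mk_ker, PrimeSpectrum.zeroLocus_span]
    rw [Set.mem_preimage, hq]
    exact Set.singleton_subset_iff
  obtain ⟨hfull, hfaith⟩ := h
  haveI : (FEt.restrict (pullback.fst (pullback.fst (FEt.puncturedSpec A).ι (Lef23.Descend.gq A A')) i)).Full := hfull
  haveI : (FEt.restrict (pullback.fst (pullback.fst (FEt.puncturedSpec A).ι (Lef23.Descend.gq A A')) i)).Faithful := hfaith
  exact CAlgH3.FEtClopenFF.restrict_full_faithful_of_couple i fun Y g hg hg' V hV =>
    Purity10.Compl.existsUnique_clopen A A' (Lef23.Descend.dense_completion A) f i hi Y g hg hg' V hV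

end Groth.Agent.S1137
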