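import Groth.Statements.S11370
import Groth.Agent.VarietyLib.Kleiman
import Groth.Agent.VarietyLib.NakaiCurves
import Groth.Agent.VarietyLib.InterCoeff

set_option autoImplicit false
universe u
open CategoryTheory CategoryTheory.Limits AlgebraicGeometry TopologicalSpace
open Variety
open Groth.Agent

namespace Groth.Agent.S11370

/-- Let X be proper over an algebraically closed field k and L an invertible O_X-module such that (L ·
C) = χ(O_C ⊗ L) - χ(O_C) ≥ 0 for every integral closed subscheme C ⊆ X of dimension one. Then for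
every integral closed subscheme Z ⊆ X of dimension d > 0 the intersection number (L^d · Z) is ≥ 0;
here (L^d · Z) is the coefficient of n_1⋯n_d in any rational polynomial P with χ(X, O_Z ⊗ L^{⊗n_1} ⊗
⋯ ⊗ L^{⊗n_d}) = P(n_1, …, n_d) for all exponents in ℕ^d. (The published statement is phrased for a
Cartier divisor D; it depends on D only through L = O_X(D), and the printed reduction to integral X
covers every invertible L.) -/
theorem result (k : Type u) [Field k] [IsAlgClosed k] (X : Scheme.{u})
    [X.Over (Spec (CommRingCat.of k))] [IsProper (X ↘ (Spec (CommRingCat.of k)))]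
    (L : X.Modules) (hL : PicF.IsInvertible L)
    (hnef : ∀ C : X.IdealSheafData, IsIntegral C.subscheme →
      topologicalKrullDim (C.support : Set X) = 1 → 0 ≤ (Curv2.euler k X (CohB1.tensorMod (ClSub.quotMod C) L) - Curv2.euler k X (ClSub.quotMod C)))
    (Z : X.IdealSheafData) [IsIntegral Z.subscheme] (d : ℕ) (hd : 0 < d)
    (hZ : topologicalKrullDim (Z.support : Set X) = d)
    (P : MvPolynomial (Fin d) ℚ)
    (hP : ∀ n : Fin d → ℕ, (Curv2.euler k X (Curv2.tensorPows (ClSub.quotMod Z) d (fun _ => L) n) : ℚ) =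
      MvPolynomial.eval (fun i => (n i : ℚ)) P) :
    0 ≤ MvPolynomial.coeff (Finsupp.equivFunOnFinite.symm fun _ : Fin d => 1) P := by
  haveI : IsNoetherian X := EulerLib.isNoetherian_of_proper (X := X) k
  obtain ⟨z, rfl⟩ : ∃ z, Z = AssSch12.clI z := ⟨_, VarietyLib.eq_clI_of_isIntegral Z⟩
  rw [VarietyLib.support_clI] at hZ
  have hF : Coh.IsCoh (AssSch12.clM z) := Coherent.isCoh_clM z
  have hr : topologicalKrullDim (CohB1.support (AssSch12.clM z)) ≤ (d : WithBot ℕ∞) := by
    rw [EulerLib.support_clM, hZ]
  rw [VarietyLib.coeff_eq_interDeg k hF hr (fun _ => L) (fun _ => hL) P hP]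
  refine Int.cast_nonneg (VarietyLib.nef_interDeg_nonneg k (a := EulerLib.InvCl.mk L hL) (fun w hw => ?_) hF hr)
  rw [VarietyLib.interDeg_one_eq k hL]
  exact hnef (AssSch12.clI w) (VarietyLib.isIntegral_clI w) (by rw [VarietyLib.support_clI, hw]; rfl)

end Groth.Agent.S11370
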