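import Groth.Statements.S11371
import Groth.Agent.VarietyLib.NakaiCurves
import Groth.Agent.EulerLib.NumEquiv

set_option autoImplicit false
universe u
open CategoryTheory CategoryTheory.Limits AlgebraicGeometry TopologicalSpace
open Variety
open Groth.Agent

namespace Groth.Agent.S11371



/-- Let X be proper over an algebraically closed field k and L, L' invertible O_X-modules that are
numerically equivalent: (L · C) = (L' · C), i.e. χ(O_C ⊗ L) = χ(O_C ⊗ L'), for every integral closed
subscheme C ⊆ X of dimension one. If L is ample then L' is ample. (The published statement is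
phrased for Cartier divisors; it depends on them only through the associated invertible modules, and
the printed reduction to integral X covers every invertible module.) -/
theorem result (k : Type u) [Field k] [IsAlgClosed k] (X : Scheme.{u})
    [X.Over (Spec (CommRingCat.of k))] [IsProper (X ↘ (Spec (CommRingCat.of k)))]
    (L L' : X.Modules) (hL : PicF.IsInvertible L) (hL' : PicF.IsInvertible L')
    (hnum : ∀ C : X.IdealSheafData, IsIntegral C.subscheme →
      topologicalKrullDim (C.support : Set X) = 1 →
        Curv2.euler k X (CohB1.tensorMod (ClSub.quotMod C) L) =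
          Curv2.euler k X (CohB1.tensorMod (ClSub.quotMod C) L'))
    (hamp : CohB1.IsAmple L) : CohB1.IsAmple L' := by
  haveI : IsNoetherian X := EulerLib.isNoetherian_of_proper (X := X) k
  refine VarietyLib.isAmple_of_posInt k hL' fun z r hr0 hr => ?_
  have hd : topologicalKrullDim (CohB1.support (AssSch12.clM z)) = (r : WithBot ℕ∞) := by
    rw [EulerLib.support_clM, hr]
  have hsame : EulerLib.SameDeg k (EulerLib.InvCl.mk L hL) (EulerLib.InvCl.mk L' hL') := fun y hy => by
    rw [EulerLib.chiCl_mk, EulerLib.chiCl_mk]
    exact hnum (AssSch12.clI y) (VarietyLib.isIntegral_clI y) (by rw [VarietyLib.support_clI, hy])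
  rw [← EulerLib.interDeg_congr k (a := fun _ : Fin r => EulerLib.InvCl.mk L hL)
    (b := fun _ : Fin r => EulerLib.InvCl.mk L' hL') (fun _ => hsame) (Coherent.isCoh_clM z) hd.le]
  exact EulerLib.interDeg_pos k r (fun _ => L) (fun _ => hamp) _ (Coherent.isCoh_clM z) hd

end Groth.Agent.S11371
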