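import Groth.Statements.S11372
import Groth.Agent.MorProj.QuasiAff
import Groth.Agent.DimLib.Zero
import Groth.Agent.DimLib.Maximal
import Groth.Agent.VarietyLib.AmpleComponents
import Groth.Agent.Desc19b.AmpleFamily
-- import your own Groth.Agent.* helpers here

set_option autoImplicit false
set_option backward.isDefEq.respectTransparency.types false
universe u
open CategoryTheory CategoryTheory.Limits AlgebraicGeometry TopologicalSpace
open Variety

namespace Groth.Agent.S11372


section aux

variable {k : Type u} [Field k] {X : Scheme.{u}}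

open Topology in
/-- A closed subset without curves is finite. -/
theorem finite_or_exists_curve (p : X ⟶ Spec (.of k)) [LocallyOfFiniteType p] [QuasiCompact p] {Z : Set X}
    (hZ : IsClosed Z) : Z.Finite ∨ ∃ ξ ∈ Z, DimLib.ptDim p ξ = 1 := by
  by_cases hall : ∀ z ∈ Z, IsClosed ({z} : Set X)
  · left
    haveI : IsLocallyNoetherian X := LocallyOfFiniteType.isLocallyNoetherian p
    haveI := QuasiCompact.compactSpace_of_compactSpace p
    haveI : IsNoetherian X := {}
    obtain ⟨S, hSf, hScl, hSirr, hS⟩ := NoetherianSpace.exists_finite_set_isClosed_irreducible hZ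
    rw [hS]
    refine hSf.sUnion fun C hC => ?_
    have hg := (hSirr C hC).isGenericPoint_genericPoint (hScl C hC)
    have hη : (hSirr C hC).genericPoint ∈ Z := hS ▸ Set.subset_sUnion_of_mem hC hg.mem
    rw [← hg.def, (hall _ hη).closure_eq]
    exact Set.finite_singleton _
  · right
    push Not at hall
    obtain ⟨ξ, hξ, hnc⟩ := hall
    obtain ⟨y, hy, hyc⟩ := DimLib.exists_isClosed_singleton_mem p
      (S := closure ({ξ} : Set X)) ⟨ξ, subset_closure rfl⟩ isClosed_closure.isLocallyClosed
    obtain ⟨y', h1, -, h3⟩ := DimLib.exists_specializes_ptDim_succ p (specializes_iff_mem_closure.2 hy)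
      (fun e => hnc (e ▸ hyc))
    rw [(DimLib.ptDim_eq_zero_iff p y).2 hyc, zero_add] at h3
    exact ⟨y', h1.mem_closed hZ hξ, h3⟩

theorem isDiscrete_fibre_of_quasiFiniteAt {Y : Scheme.{u}} (f : X ⟶ Y) [LocallyOfFiniteType f]
    (h : ∀ x, f.QuasiFiniteAt x) (y : Y) : _root_.IsDiscrete (f ⁻¹' {y}) := by
  rw [isDiscrete_iff_forall_mem_exists_isOpen]
  intro z hz
  obtain rfl : f z = y := hz
  obtain ⟨u, hu, hue⟩ := (f.fiberι (f z)).isEmbedding.isInducing.isOpen_iff.1
    (Scheme.Hom.quasiFiniteAt_iff_isOpen_singleton_asFiber.1 (h z))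
  refine ⟨u, hu, ?_⟩
  ext w
  constructor
  · rintro ⟨hwu, hwz⟩
    obtain ⟨a, rfl⟩ : w ∈ Set.range (f.fiberι (f z)) := by rw [Scheme.Hom.range_fiberι]; exact hwz
    have ha : a ∈ f.fiberι (f z) ⁻¹' u := hwu
    rw [hue, Set.mem_singleton_iff] at ha
    rw [ha, Scheme.Hom.fiberι_asFiber]
    exact Set.mem_singleton _
  · intro hw
    obtain rfl : w = z := hw
    have ha : f.asFiber w ∈ f.fiberι (f w) ⁻¹' u := by rw [hue]; exact Set.mem_singleton _
    rw [Set.mem_preimage, Scheme.Hom.fiberι_asFiber] at ha
    exact ⟨ha, rfl⟩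

theorem quasiFiniteAt_of_finite_fibre {Y : Scheme.{u}} (f : X ⟶ Y) [LocallyOfFiniteType f] [QuasiCompact f] (x : X)
    (h : (f ⁻¹' {f x}).Finite) : f.QuasiFiniteAt x := by
  rw [Scheme.Hom.quasiFiniteAt_iff_isOpen_singleton_asFiber]
  haveI : Finite (f.fiber (f x)) := by
    rw [← Scheme.Hom.range_fiberι] at h
    haveI := h.to_subtype
    exact Finite.of_injective (Set.rangeFactorization (f.fiberι (f x))) fun a b hab =>
      (f.fiberι (f x)).isEmbedding.injective (congrArg Subtype.val hab)
  have h1 : LocallyOfFiniteType (f.fiberToSpecResidueField (f x)) :=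
    inferInstanceAs (LocallyOfFiniteType (Limits.pullback.snd f (Y.fromSpecResidueField (f x))))
  have h2 : QuasiCompact (f.fiberToSpecResidueField (f x)) :=
    inferInstanceAs (QuasiCompact (Limits.pullback.snd f (Y.fromSpecResidueField (f x))))
  haveI := @DimLib.discreteTopology_of_finite _ _ _ (f.fiberToSpecResidueField (f x)) h1 h2 inferInstance
  exact isOpen_discrete _

/-- The locus of a section of a globally generated invertible module is universally closed over its
affinization. -/
theorem universallyClosed_toSpecΓ_glocus {S : Scheme.{u}} [IsAffine S] (g : X ⟶ S) [UniversallyClosed g]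
    {L : X.Modules} (hgen : ∀ x : X, ∃ b : Γ(L, ⊤), x ∈ AmpleLib.glocus L b) (a : Γ(L, ⊤))
    [QuasiCompact (AmpleLib.glocus L a).toScheme.toSpecΓ] :
    UniversallyClosed (AmpleLib.glocus L a).toScheme.toSpecΓ := by
  let A := AmpleLib.glocus L a
  rw [UniversallyClosed.eq_valuativeCriterion]
  refine ⟨fun Sq => ?_, ‹_›⟩
  obtain ⟨φ, hφ⟩ := Spec.map_surjective Sq.i₂
  let q : A.toScheme ⟶ S := A.ι ≫ g
  let i₂' : Spec (CommRingCat.of Sq.R) ⟶ S := Sq.i₂ ≫ Spec.map q.appTop ≫ S.isoSpec.inv
  have hsq : (Sq.i₁ ≫ A.ι) ≫ g = Spec.map (CommRingCat.ofHom (algebraMap Sq.R Sq.K)) ≫ i₂' := by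
    simp only [i₂', ← reassoc_of% Sq.commSq.w, Category.assoc]
    congr 1
    rw [← cancel_mono S.toSpecΓ]
    simp only [Category.assoc, Scheme.isoSpec, asIso_inv, IsIso.inv_hom_id, Category.comp_id]
    exact (Category.assoc _ _ _).symm.trans (Scheme.toSpecΓ_naturality q)
  have hex : ValuativeCriterion.Existence g := by
    have h : UniversallyClosed g := inferInstance
    rw [UniversallyClosed.eq_valuativeCriterion] at h
    exact h.1
  obtain ⟨l, hl₁, -⟩ := (hex { R := Sq.R, K := Sq.K, commSq := ⟨hsq⟩, .. }).exists_lift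
  dsimp only at hl₁
  obtain ⟨b, hxb⟩ := hgen (l (IsLocalRing.closedPoint Sq.R))
  have hx : l (IsLocalRing.closedPoint Sq.R) ∈ A :=
    MorProj.mem_glocus_of_valuationRing a b l Sq.i₁ φ hl₁ (by rw [hφ]; exact Sq.commSq.w) hxb
  have hrange : Set.range l ⊆ Set.range A.ι := by
    rw [Scheme.Opens.range_ι]
    rintro _ ⟨z, rfl⟩
    exact ((IsLocalRing.specializes_closedPoint z).map l.continuous).mem_open A.2 hx
  have h1 : Spec.map (CommRingCat.ofHom (algebraMap Sq.R Sq.K)) ≫ IsOpenImmersion.lift A.ι l hrange = Sq.i₁ := by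
    rw [← cancel_mono A.ι, Category.assoc, IsOpenImmersion.lift_fac]
    exact hl₁
  refine CommSq.HasLift.mk' ⟨IsOpenImmersion.lift A.ι l hrange, h1, ?_⟩
  refine ValExtLib.hom_ext_of_generic (CommRingCat.ofHom (algebraMap Sq.R Sq.K))
    (IsFractionRing.injective Sq.R Sq.K) ?_
  rw [reassoc_of% h1]
  exact Sq.commSq.w

end aux

/-- Let X be proper and integral over an algebraically closed field k, L an invertible O_X-module
generated by its global sections, and s : O_X ⟶ L a global section, with U = X_s the open subset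
where s generates L (the complement of the support of the effective divisor of s). If U contains no
integral closed subscheme of X of dimension one, then U is an affine open of X. -/
theorem result (k : Type u) [Field k] [IsAlgClosed k] (X : Scheme.{u})
    [X.Over (Spec (CommRingCat.of k))] [IsProper (X ↘ (Spec (CommRingCat.of k)))] [IsIntegral X]
    (L : X.Modules) (hL : PicF.IsInvertible L) (hgen : Curv2.IsGloballyGenerated L)
    (s : Coh.structureModule X ⟶ L)
    (hcurves : ∀ C : X.IdealSheafData, IsIntegral C.subscheme →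
      topologicalKrullDim (C.support : Set X) = 1 →
        ¬ ((C.support : Set X) ⊆ (CohB1.genLocus L s : Set X))) :
    IsAffineOpen (CohB1.genLocus L s) := by
  let p := X ↘ Spec (CommRingCat.of k)
  rw [AmpleLib.genLocus_eq_glocus] at hcurves ⊢
  generalize hU : AmpleLib.glocus L _ = U at hcurves ⊢
  haveI : IsLocallyNoetherian X := LocallyOfFiniteType.isLocallyNoetherian p
  haveI := QuasiCompact.compactSpace_of_compactSpace p
  haveI : IsNoetherian X := {}
  let q := U.ι ≫ p
  let ψ := U.toScheme.toSpecΓ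
  haveI : CompactSpace U.toScheme :=
    isCompact_iff_compactSpace.1 (TopologicalSpace.NoetherianSpace.isCompact (U : Set X))
  haveI : QuasiCompact q := (HasAffineProperty.iff_of_isAffine (P := @QuasiCompact) (f := q)).2 inferInstance
  have hq : ψ ≫ Spec.map q.appTop ≫ (Spec (CommRingCat.of k)).isoSpec.inv = q := by
    rw [← cancel_mono (Spec (CommRingCat.of k)).toSpecΓ]
    simp only [Category.assoc, Scheme.isoSpec, asIso_inv, IsIso.inv_hom_id, Category.comp_id]
    exact (Scheme.toSpecΓ_naturality q).symm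
  haveI hlft : LocallyOfFiniteType ψ := by
    haveI : LocallyOfFiniteType (ψ ≫ Spec.map q.appTop ≫ (Spec (CommRingCat.of k)).isoSpec.inv) :=
      hq.symm ▸ (inferInstance : LocallyOfFiniteType q)
    exact locallyOfFiniteType_of_comp ψ (Spec.map q.appTop ≫ (Spec (CommRingCat.of k)).isoSpec.inv)
  haveI hsep : IsSeparated ψ := by
    haveI : IsSeparated (ψ ≫ Spec.map q.appTop ≫ (Spec (CommRingCat.of k)).isoSpec.inv) :=
      hq.symm ▸ (inferInstance : IsSeparated q)
    exact IsSeparated.of_comp ψ (Spec.map q.appTop ≫ (Spec (CommRingCat.of k)).isoSpec.inv)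
  haveI hqc : QuasiCompact ψ := (HasAffineProperty.iff_of_isAffine (P := @QuasiCompact) (f := ψ)).2 inferInstance
  haveI : UniversallyClosed ψ := by
    subst hU
    exact universallyClosed_toSpecΓ_glocus p (Desc19b.exists_mem_glocus_of_gg hL hgen) _
  haveI : IsProper ψ := {}
  -- closed points are quasi-finite
  have hcl : ∀ x : U.toScheme, IsClosed ({x} : Set U.toScheme) → ψ.QuasiFiniteAt x := by
    intro x hx
    refine quasiFiniteAt_of_finite_fibre ψ x ?_
    let I := Scheme.IdealSheafData.vanishingIdeal (⟨{x}, hx⟩ : Closeds U.toScheme)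
    have hI : Set.range I.subschemeι = ({x} : Set U.toScheme) := by
      rw [Scheme.IdealSheafData.range_subschemeι, Scheme.IdealSheafData.coe_support_vanishingIdeal]; rfl
    haveI : Finite I.subscheme := Finite.of_injective (fun _ => PUnit.unit.{1}) fun a b _ =>
      I.subschemeι.isClosedEmbedding.injective <| by
        have ha := hI.le ⟨a, rfl⟩
        have hb := hI.le ⟨b, rfl⟩
        rw [Set.mem_singleton_iff] at ha hb
        rw [ha, hb]
    haveI : IsFinite (I.subschemeι ≫ q) := DimLib.isFinite_of_finite _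
    let F := Limits.pullback ψ (I.subschemeι ≫ ψ)
    let j : F ⟶ X := Limits.pullback.fst ψ (I.subschemeι ≫ ψ) ≫ U.ι
    have hj : j ≫ p = Limits.pullback.snd ψ (I.subschemeι ≫ ψ) ≫ I.subschemeι ≫ q := by
      show (Limits.pullback.fst ψ (I.subschemeι ≫ ψ) ≫ U.ι) ≫ p = _
      rw [Category.assoc, show U.ι ≫ p = q from rfl, ← hq, Limits.pullback.condition_assoc]
      simp only [Category.assoc]
    haveI : UniversallyClosed (j ≫ p) := by rw [hj]; infer_instance
    haveI : UniversallyClosed j := .of_comp_of_isSeparated j p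
    have hclosed : IsClosed (Set.range j) := j.isClosedMap.isClosed_range
    have hrange : Set.range j = U.ι '' (ψ ⁻¹' {ψ x}) := by
      show Set.range (⇑U.ι ∘ ⇑(Limits.pullback.fst ψ (I.subschemeι ≫ ψ))) = _
      rw [Set.range_comp, Scheme.Pullback.range_fst]
      congr 2
      show Set.range (⇑ψ ∘ ⇑I.subschemeι) = _
      rw [Set.range_comp, hI, Set.image_singleton]
    rcases finite_or_exists_curve p hclosed with hf | ⟨ξ, hξ, hξ1⟩
    · rw [hrange] at hf
      exact hf.of_finite_image U.ι.isOpenEmbedding.injective.injOn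
    · exfalso
      have hsub : closure ({ξ} : Set X) ⊆ Set.range j := hclosed.closure_subset_iff.2 (Set.singleton_subset_iff.2 hξ)
      refine hcurves (Scheme.IdealSheafData.vanishingIdeal ⟨closure {ξ}, isClosed_closure⟩)
        (VarietyLib.isIntegral_vanishingIdeal _ isIrreducible_singleton.closure) ?_ ?_
      · rw [Scheme.IdealSheafData.coe_support_vanishingIdeal]
        show topologicalKrullDim (closure ({ξ} : Set X)) = 1
        rw [DimLib.topologicalKrullDim_eq_ptDim_of_isGenericPoint p isGenericPoint_closure, hξ1]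
        rfl
      · rw [Scheme.IdealSheafData.coe_support_vanishingIdeal]
        refine hsub.trans (hrange.le.trans ?_)
        rintro _ ⟨z, -, rfl⟩
        exact z.2
  have hall : ∀ x : U.toScheme, ψ.QuasiFiniteAt x := by
    by_contra h
    push Not at h
    obtain ⟨x, hxZ, hxc⟩ := DimLib.exists_isClosed_singleton_mem q (S := {x | ψ.QuasiFiniteAt x}ᶜ) h
      ψ.isOpen_quasiFiniteAt.isClosed_compl.isLocallyClosed
    exact hxZ (hcl x hxc)
  haveI : LocallyQuasiFinite ψ :=
    locallyQuasiFinite_iff_isDiscrete_preimage_singleton.2 (isDiscrete_fibre_of_quasiFiniteAt ψ hall)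
  haveI : IsFinite ψ := IsFinite.of_isProper_of_locallyQuasiFinite ψ
  show IsAffine U.toScheme
  exact isAffine_of_isAffineHom ψ

end Groth.Agent.S11372
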