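import Groth.Statements.S11377
-- import your own Groth.Agent.* helpers here
import Groth.Agent.Desc19b.ResProp
import Groth.Agent.Coherent.Vanishing
import Groth.Agent.Lef23.Neg
import Groth.Agent.Coherent.CohOps

set_option autoImplicit false
universe u
open CategoryTheory CategoryTheory.Limits AlgebraicGeometry TopologicalSpace
open CohDim

namespace Groth.Agent.S11377

/-- Let S be an integral scheme, separated and of finite type over an algebraically closed field k, with
all local rings regular, let L be an ample invertible O_S-module with tensor inverse M (so S is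
quasi-projective and M^{⊗m} plays the role of O_S(-m)), and let r ≥ 0. If there is m₀ such that
H^i(S, M^{⊗m}) = 0 for every i > r and every m ≥ m₀, then H^i(S, F) = 0 for every i > r and every
coherent O_S-module F. (The published statement takes O_S(1) from a quasi-projective embedding; the
printed proof uses only that F ⊗ O_S(m) is generated by finitely many global sections for m ≫ 0,
which holds for any ample L.) -/
theorem result (k : Type u) [Field k] [IsAlgClosed k] (S : Scheme.{u})
    [S.Over (Spec (CommRingCat.of k))] [IsSeparated (S ↘ (Spec (CommRingCat.of k)))]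
    [LocallyOfFiniteType (S ↘ (Spec (CommRingCat.of k)))] [QuasiCompact (S ↘ (Spec (CommRingCat.of k)))]
    [IsIntegral S] (hreg : ∀ x : S, IsRegularLocalRing (S.presheaf.stalk x))
    (L M : S.Modules) (hL : CohB1.IsAmple L) (hM : ClSub.IsInverseOf M L) (r : ℕ)
    (hneg : ∃ m₀ : ℕ, ∀ m : ℕ, m₀ ≤ m → ∀ i : ℕ, r < i → Subsingleton (Coh.HH S (CohB1.tensorPow M m) i))
    (F : S.Modules) (hF : Coh.IsCoh F) (i : ℕ) (hi : r < i) :
    Subsingleton (Coh.HH S F i) := by
  classical
  haveI : IsLocallyNoetherian S := LocallyOfFiniteType.isLocallyNoetherian (S ↘ Spec (CommRingCat.of k))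
  haveI : CompactSpace S := QuasiCompact.compactSpace_of_compactSpace (S ↘ Spec (CommRingCat.of k))
  haveI : QuasiSeparatedSpace S := inferInstance
  haveI := Groth.Agent.Coherent.hasFiniteBiproducts S
  obtain ⟨d, hd⟩ := Groth.Agent.Coherent.exists_bound_subsingleton_H'_top (X := S)
  obtain ⟨m₀, hm₀⟩ := hneg
  obtain ⟨hLi, hc, hx⟩ := Groth.Agent.AmpleLib.isAmple_iff_affGlocus.1 hL
  obtain ⟨u⟩ := hM
  have hM' : ClSub.IsInverseOf L M := ⟨Groth.Agent.AmpleLib.tensorComm L M ≪≫ u⟩
  have hMi := Groth.Agent.Lef23.isInvertible_inverse hLi hM'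
  have hαβ : Groth.Agent.EulerLib.InvCl.mk L hLi * Groth.Agent.EulerLib.InvCl.mk M hMi = 1 :=
    Groth.Agent.EulerLib.InvCl.mk_eq _ _ (Groth.Agent.AmpleLib.tensorComm L M ≪≫ u)
  have main : ∀ (t : ℕ) (G : S.Modules), Coh.IsCoh G → ∀ j : ℕ, r < j → d ≤ j + t →
      Subsingleton (Coh.HH S G j) := by
    intro t
    induction t with
    | zero =>
      intro G hG j _ hj
      haveI := hd G hG.1 j (by omega)
      exact (Groth.Agent.Coherent.HHTopEquiv G j).toEquiv.subsingleton
    | succ t ih =>
      intro G hG j hj hjt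
      obtain ⟨n, Nf, π, hπ, hN⟩ := Groth.Agent.Desc19b.exists_epi_negPow
        (fun P => ∃ e : ℕ, m₀ ≤ e ∧ Nonempty (P ≅ CohB1.tensorPow L e)) (fun x => by
          obtain ⟨m, hm, b, hxb, -, hb⟩ := hx x
          have hPi := Groth.Agent.AmpleLib.isInvertible_tensorPow hLi m
          obtain ⟨e', -⟩ := Groth.Agent.AmpleLib.exists_powPowIso hLi m (m₀ + 1)
          refine ⟨CohB1.tensorPow (CohB1.tensorPow L m) (m₀ + 1), Groth.Agent.AmpleLib.powSec b (m₀ + 1),
            ⟨m * (m₀ + 1), by nlinarith, ⟨e'⟩⟩, Groth.Agent.AmpleLib.isInvertible_tensorPow hPi _, ?_, ?_⟩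
          · rw [Groth.Agent.AmpleLib.glocus_powSec hPi]; exact hxb
          · rw [Groth.Agent.AmpleLib.glocus_powSec hPi]; exact hb) G hG
      haveI := hπ
      haveI := hG.1
      let T : ShortComplex S.Modules := ShortComplex.mk (kernel.ι π) π (kernel.condition π)
      have hT : T.ShortExact :=
        { exact := ShortComplex.exact_of_f_is_kernel _ (kernelIsKernel π), mono_f := inferInstance, epi_g := hπ }
      have hNc : Coh.IsCoh (⨁ Nf) := Groth.Agent.Coherent.isCoh_biproduct _ fun l =>
        Groth.Agent.PicLib.isCoh_of_isInvertible (hN l).1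
      refine Groth.Agent.Lef23.subsingleton_right hT j ?_
        (ih _ (Groth.Agent.Coherent.isCoh_kernel π hNc hG.1) (j + 1) (by omega) (by omega))
      refine Groth.Agent.Lef23.subsingleton_HH_of_total Nf (fun l => biproduct.π Nf l) (fun l => biproduct.ι Nf l)
        biproduct.total j fun l => ?_
      obtain ⟨hl, P, e, ⟨e₀, he₀, ⟨φ⟩⟩, he, ⟨ψ⟩⟩ := hN l
      obtain ⟨ρ, -⟩ := Groth.Agent.AmpleLib.exists_powPowIso hLi e₀ e
      have hLp := Groth.Agent.AmpleLib.isInvertible_tensorPow hLi (e₀ * e)
      have hMp := Groth.Agent.AmpleLib.isInvertible_tensorPow hMi (e₀ * e)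
      have h1 : CohB1.tensorMod (CohB1.tensorPow L (e₀ * e)) (Nf l) ≅ Coh.structureModule S :=
        Groth.Agent.AmpleLib.tensorComm _ _ ≪≫ Groth.Agent.AmpleLib.tensorIso (Iso.refl _)
          (ρ.symm ≪≫ (Groth.Agent.AmpleLib.powIsoOfIso φ e).symm) ≪≫ ψ
      have h2 : Groth.Agent.EulerLib.InvCl.mk _ hLp * Groth.Agent.EulerLib.InvCl.mk _ hMp = 1 := by
        rw [Groth.Agent.EulerLib.InvCl.mk_tensorPow hLi, Groth.Agent.EulerLib.InvCl.mk_tensorPow hMi, ← mul_pow, hαβ,
          one_pow]
      have h3 : Groth.Agent.EulerLib.InvCl.mk _ hMp = Groth.Agent.EulerLib.InvCl.mk _ hl :=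
        left_inv_eq_right_inv ((mul_comm _ _).trans h2)
          (Groth.Agent.EulerLib.InvCl.mk_eq (Groth.Agent.AmpleLib.isInvertible_tensorMod hLp hl)
            Groth.Agent.AmpleLib.isInvertible_structureModule h1)
      obtain ⟨θ⟩ := Quotient.exact h3
      exact Groth.Agent.Lef23.subsingleton_HH_iso θ j (hm₀ (e₀ * e) (le_trans he₀ (Nat.le_mul_of_pos_right _ he)) j hj)
  exact main d F hF i hi (by omega)

end Groth.Agent.S11377
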