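import Groth.Statements.S1753
import Groth.Agent.DualLib.Lichtenbaum

set_option autoImplicit false
universe u
open CategoryTheory AlgebraicGeometry
open Dual

namespace Groth.Agent.S1753

/-- Let U be a variety over a field k (integral, separated and of finite type over k) and F a coherent
O_U-module with H^d(U, F) ≠ 0. Then dim U ≥ d, and if dim U = d then U is proper over k. -/
theorem result (k : Type u) [Field k] (U : Scheme.{u}) (f : U ⟶ Spec (CommRingCat.of k)) [IsIntegral U] [IsSeparated f] [LocallyOfFiniteType f] [QuasiCompact f] (F : U.Modules) (hF : Coh.IsCoh F) (d : ℕ) (h : Nontrivial (Coh.HH U F d)) : (d : WithBot ℕ∞) ≤ topologicalKrullDim U ∧ (topologicalKrullDim U = d → IsProper f) := by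
  haveI : IsLocallyNoetherian U := LocallyOfFiniteType.isLocallyNoetherian f
  haveI : CompactSpace U := QuasiCompact.compactSpace_of_compactSpace f
  haveI : IsNoetherian U := { }
  haveI : U.IsSeparated := ⟨by
    rw [show Limits.terminal.from U = f ≫ Limits.terminal.from _ from Limits.terminal.hom_ext _ _]
    infer_instance⟩
  haveI : Coh.IsQCoh F := hF.1
  have hle : (d : WithBot ℕ∞) ≤ topologicalKrullDim U := by
    by_contra hlt
    haveI := Groth.Agent.EulerLib.subsingleton_HH_of_support ⊤ F hF.1 (Set.subset_univ _) d
      (lt_of_le_of_lt (Topology.IsInducing.subtypeVal.topologicalKrullDim_le) (not_le.1 hlt))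
    exact not_nontrivial _ h
  refine ⟨hle, fun hdim => ?_⟩
  by_contra hf
  haveI : Subsingleton (Coh.HH U F d) := by
    refine Groth.Agent.DualLib.Lichtenbaum.subsingleton_HH_of_no_proper f hdim.le (fun Z i _ _ hZ hp => ?_) F
    have hsurj : Set.range i = Set.univ := by
      by_contra hne
      have hnot : genericPoint U ∉ Set.range i := fun hη => hne (Set.univ_subset_iff.1 (by
        rw [← genericPoint_closure (U : Type u)]
        exact i.isClosedEmbedding.isClosed_range.closure_subset_iff.2 (Set.singleton_subset_iff.2 hη)))
      have hlt := Groth.Agent.EulerLib.dim_lt_of_notMem i.isClosedEmbedding.isClosed_range (Set.subset_univ _)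
        isClosed_univ (genericPoint_closure (U : Type u)) hnot
        (r := d) ((Topology.IsInducing.subtypeVal.topologicalKrullDim_le).trans hdim.le)
      rw [Groth.Agent.EGA43.DimFormula.topologicalKrullDim_eq_of_range i i.isEmbedding _ rfl, hZ] at hlt
      exact lt_irrefl _ hlt
    haveI : Surjective i := ⟨Set.range_eq_univ.1 hsurj⟩
    haveI := isIso_of_isClosedImmersion_of_surjective i
    exact hf ((MorphismProperty.cancel_left_of_respectsIso @IsProper i f).1 hp)
  exact not_nontrivial _ h

end Groth.Agent.S1753
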