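import Groth.Statements.S11378
import Groth.Agent.S0357
import Groth.Agent.S1753
import Groth.Agent.Coherent.SchemeCoh
import Groth.Agent.Coherent.Vanishing
import Groth.Agent.Coherent.FinMor

set_option autoImplicit false
set_option backward.isDefEq.respectTransparency false
set_option linter.style.haveILetI false
set_option linter.unusedVariables false
set_option synthInstance.maxHeartbeats 100000
universe u
open CategoryTheory CategoryTheory.Limits AlgebraicGeometry TopologicalSpace
open CohDim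
open TopologicalSpace Groth.Agent

namespace Groth.Agent.S11378

/-- Let X be proper and integral over an algebraically closed field k, of dimension n ≥ 2, with all
local rings regular, and let U ≠ X be an open subscheme whose cohomological dimension is at most n -
2: H^i(U, F) = 0 for every coherent O_U-module F and every i with n - 2 < i. Then Y = X ∖ U is
connected. -/
theorem result (k : Type u) [Field k] [IsAlgClosed k] (X : Scheme.{u})
    [X.Over (Spec (CommRingCat.of k))] [IsProper (X ↘ (Spec (CommRingCat.of k)))] [IsIntegral X]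
    (hreg : ∀ x : X, IsRegularLocalRing (X.presheaf.stalk x))
    (n : ℕ) (hn : 2 ≤ n) (hdim : topologicalKrullDim X = n)
    (U : X.Opens) (hUX : U ≠ ⊤)
    (hcd : ∀ F : (U : Scheme.{u}).Modules, Coh.IsCoh F → ∀ i : ℕ, n - 2 < i → Subsingleton (Coh.HH (U : Scheme.{u}) F i)) :
    _root_.IsConnected ((U : Set X)ᶜ) := by
  let f := X ↘ (Spec (CommRingCat.of k))
  haveI : IsLocallyNoetherian X := LocallyOfFiniteType.isLocallyNoetherian f
  haveI : CompactSpace X := QuasiCompact.compactSpace_of_compactSpace f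
  -- some coherent sheaf has cohomology in degree `n`
  obtain ⟨F, hF, hFn⟩ : ∃ F : X.Modules, Coh.IsCoh F ∧ ¬ Subsingleton (Coh.HH X F n) := by
    by_contra h
    push Not at h
    exact (S0357.result k X f n hdim).1 h X (𝟙 X) hdim (by rw [Category.id_comp]; infer_instance)
  have hne : ((U : Set X)ᶜ).Nonempty := Set.nonempty_compl.2 fun h => hUX (Opens.ext h)
  refine ⟨hne, ?_⟩
  rw [isPreconnected_iff_subset_of_fully_disjoint_closed U.isOpen.isClosed_compl]
  intro u v hu hv huv hdisj
  by_contra hnot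
  push Not at hnot
  obtain ⟨hnu, hnv⟩ := hnot
  obtain ⟨x, hxU, hxu⟩ := Set.not_subset.1 hnu
  obtain ⟨y, hyU, hyv⟩ := Set.not_subset.1 hnv
  have hxv : x ∈ v := (huv hxU).resolve_left hxu
  have hyu : y ∈ u := (huv hyU).resolve_right hyv
  let U₁ : X.Opens := ⟨((U : Set X)ᶜ ∩ u)ᶜ, (U.isOpen.isClosed_compl.inter hu).isOpen_compl⟩
  let U₂ : X.Opens := ⟨((U : Set X)ᶜ ∩ v)ᶜ, (U.isOpen.isClosed_compl.inter hv).isOpen_compl⟩
  have hsup : U₁ ⊔ U₂ = ⊤ := Opens.ext <| Set.eq_univ_of_forall fun z => by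
    by_cases hz : z ∈ u
    · exact Or.inr fun h => Set.disjoint_left.1 hdisj hz h.2
    · exact Or.inl fun h => hz h.2
  have hinf : U₁ ⊓ U₂ = U := Opens.ext <| Set.ext fun z => by
    constructor
    · intro h
      by_contra hz
      rcases huv hz with h' | h'
      · exact h.1 ⟨hz, h'⟩
      · exact h.2 ⟨hz, h'⟩
    · exact fun h => ⟨fun h' => h'.1 h, fun h' => h'.1 h⟩
  have hvanish : ∀ (V : X.Opens) (p q : X), p ∈ V → q ∉ V →
      Subsingleton (Sheaf.H' (Coh.toAb F) n V) := by
    intro V p q hp hq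
    by_contra hV
    rw [not_subsingleton_iff_nontrivial] at hV
    haveI : Nonempty (V : Scheme.{u}) := ⟨⟨p, hp⟩⟩
    haveI : IsIntegral (V : Scheme.{u}) := isIntegral_of_isOpenImmersion V.ι
    haveI : Nontrivial (Coh.HH (V : Scheme.{u}) (F.restrict V.ι) n) :=
      (Coherent.HHonEquiv F V n).toEquiv.nontrivial
    obtain ⟨h1, h2⟩ := S1753.result k (V : Scheme.{u}) (V.ι ≫ f) (F.restrict V.ι)
      (Coherent.isCoh_restrict V hF) n inferInstance
    haveI := h2 (le_antisymm (hdim ▸ V.ι.isOpenEmbedding.isInducing.topologicalKrullDim_le) h1)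
    haveI : IsProper V.ι := IsProper.of_comp V.ι f
    have hcl : IsClosed (V : Set X) := by
      have := V.ι.isClosedMap.isClosed_range
      rwa [Scheme.Opens.range_ι] at this
    exact hq (show q ∈ (V : Set X) by rw [IsClopen.eq_univ ⟨hcl, V.isOpen⟩ ⟨p, hp⟩]; trivial)
  obtain ⟨m, rfl⟩ := Nat.exists_eq_succ_of_ne_zero (show n ≠ 0 by omega)
  have h₁ := hvanish U₁ x y (fun h => hxu h.2) (fun h => h ⟨hyU, hyu⟩)
  have h₂ := hvanish U₂ y x (fun h => hyv h.2) (fun h => h ⟨hxU, hxv⟩)
  haveI : Subsingleton (Coh.HH (U : Scheme.{u}) (F.restrict U.ι) m) :=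
    hcd _ (Coherent.isCoh_restrict U hF) m (by omega)
  have h₃ : Subsingleton (Sheaf.H' (Coh.toAb F) m (U₁ ⊓ U₂)) := by
    rw [hinf]
    exact (Coherent.HHonEquiv F U m).symm.toEquiv.subsingleton
  have h₄ := Coherent.subsingleton_H'_sup_sch F m h₁ h₂ h₃
  rw [hsup] at h₄
  exact hFn (Coherent.HHTopEquiv F (m + 1)).toEquiv.subsingleton

end Groth.Agent.S11378
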