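import Groth.Statements.S11388
import Groth.Agent.SplitP.Apps

set_option autoImplicit false
universe u
open CategoryTheory CategoryTheory.Limits AlgebraicGeometry TopologicalSpace
open Variety

namespace Groth.Agent.S11388

/-- Let k be an algebraically closed field, n ≥ 1, P = P^n_k and E a coherent O_P-module. Then E is
isomorphic to a finite direct sum ⊕ O_P(m_i) of twisting modules if and only if (i) H^0(P, E(m)) = 0
for all sufficiently negative m and (ii) H^i(P, E(m)) = 0 for every integer m and every i with 0 < i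
< n; here E(m) = E ⊗ O_P(m). (The published statement sits in a setting of characteristic p > 0; its
proof does not use that assumption, so none is made here.) -/
theorem result
    (k : Type u) [Field k] [IsAlgClosed k] (n : ℕ) (hn : 1 ≤ n)
    (E : (CohB1.ProjSpace n k).Modules) (hE : Coh.IsCoh E) :
    (∃ (r : ℕ) (m : Fin r → ℤ), Nonempty (E ≅ ∐ fun i => Twist.twistProjSpace n k (m i))) ↔
      ((∃ m₀ : ℤ, ∀ m : ℤ, m ≤ m₀ →
          Subsingleton (Coh.HH (CohB1.ProjSpace n k) (CohB1.tensorMod E (Twist.twistProjSpace n k m)) 0)) ∧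
        ∀ (m : ℤ) (i : ℕ), 0 < i → i < n →
          Subsingleton (Coh.HH (CohB1.ProjSpace n k) (CohB1.tensorMod E (Twist.twistProjSpace n k m)) i)) := by
  haveI := Coherent.hasFiniteBiproducts (CohB1.ProjSpace n k)
  constructor
  · rintro ⟨r, a, ⟨e⟩⟩
    have key : ∀ (m : ℤ) (i : ℕ), (∀ j, Subsingleton (Coh.HH (CohB1.ProjSpace n k)
        (Twist.twistProjSpace n k (a j + m)) i)) → Subsingleton (Coh.HH (CohB1.ProjSpace n k)
        (CohB1.tensorMod E (Twist.twistProjSpace n k m)) i) := fun m i h =>
      SplitP.subsingleton_HH_tw_sum a (e ≪≫ (biproduct.isoCoproduct _).symm) m i h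
    refine ⟨⟨-(∑ j, |a j|) - 1, fun m hm => key m 0 fun j => ?_⟩, fun m i h1 h2 => key m i fun j => ?_⟩
    · have hj : |a j| ≤ ∑ j, |a j| := Finset.single_le_sum (fun j _ => abs_nonneg (a j)) (Finset.mem_univ j)
      have hj' := le_abs_self (a j)
      exact Coherent.subsingleton_HH_twist (n := n) (R := k) (d := a j + m) 0 (fun h => by omega) (fun h => by omega)
    · exact Coherent.subsingleton_HH_twist (n := n) (R := k) (d := a j + m) i (fun h => by omega) (fun h => by omega)
  · rintro ⟨⟨m₀, hlow⟩, hmid⟩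
    obtain ⟨r, a, ⟨e⟩⟩ := SplitP.exists_split hn m₀ _ E hE hlow (fun m i h1 h2 => hmid m i h1 h2) le_rfl
    exact ⟨r, a, ⟨e ≪≫ biproduct.isoCoproduct _⟩⟩

end Groth.Agent.S11388
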