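import Groth.Statements.S11389
import Groth.Agent.FinPush14.Generic
import Groth.Agent.S8127

set_option autoImplicit false
universe u
open CategoryTheory CategoryTheory.Limits AlgebraicGeometry TopologicalSpace
open Variety Groth.Agent.Coherent

set_option backward.isDefEq.respectTransparency false
set_option maxHeartbeats 1600000

namespace Groth.Agent.S11389

/-- Let k be an algebraically closed field, X and Y integral schemes separated and of finite type over
k, and f : X ⟶ Y a finite surjective k-morphism of degree m = [K(X) : K(Y)], computed as the rank of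
the stalk of f_*O_X at the generic point of Y over the function field K(Y). Then for every coherent
O_Y-module F there exist a coherent O_X-module G and a morphism u : f_*G ⟶ F^{⊕m} whose restriction
to some open neighbourhood of the generic point of Y is an isomorphism. -/
theorem result
    (k : Type u) [Field k] [IsAlgClosed k] (X Y : Scheme.{u})
    [X.Over (Spec (CommRingCat.of k))] [Y.Over (Spec (CommRingCat.of k))]
    [IsSeparated (X ↘ (Spec (CommRingCat.of k)))] [LocallyOfFiniteType (X ↘ (Spec (CommRingCat.of k)))]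
    [IsSeparated (Y ↘ (Spec (CommRingCat.of k)))] [LocallyOfFiniteType (Y ↘ (Spec (CommRingCat.of k)))]
    [QuasiCompact (Y ↘ (Spec (CommRingCat.of k)))]
    [IsIntegral X] [IsIntegral Y] (f : X ⟶ Y) [IsFinite f] [Surjective f]
    (hf : f ≫ (Y ↘ (Spec (CommRingCat.of k))) = X ↘ (Spec (CommRingCat.of k)))
    (F : Y.Modules) (hF : Coh.IsCoh F) :
    ∃ (G : X.Modules) (u : (Scheme.Modules.pushforward f).obj G ⟶
        ∐ fun _ : Fin (Module.finrank (Y.functionField)
            (((Scheme.Modules.pushforward f).obj (Coh.structureModule X)).presheaf.stalk (genericPoint Y))) => F),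
      Coh.IsCoh G ∧ ∃ V : Y.Opens, genericPoint Y ∈ V ∧
        IsIso ((Scheme.Modules.restrictFunctor V.ι).map u) := by
  haveI : IsLocallyNoetherian Y :=
    LocallyOfFiniteType.isLocallyNoetherian (Y ↘ (Spec (CommRingCat.of k)))
  haveI : CompactSpace Y := QuasiCompact.compactSpace_of_compactSpace (Y ↘ (Spec (CommRingCat.of k)))
  haveI : IsNoetherian Y := ⟨⟩
  haveI := hF.1
  haveI : IsLocallyNoetherian X := LocallyOfFiniteType.isLocallyNoetherian f
  haveI := Coherent.hasFiniteBiproducts X
  haveI := Coherent.hasFiniteBiproducts Y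
  let η := genericPoint Y
  have hE : Coh.IsCoh ((Coh.push f).obj (Coh.structureModule X)) :=
    isCoh_push_finite f (isCoh_structureModule X)
  obtain ⟨Ua, hUa, ⟨ea⟩⟩ := SDiv28.GenRank.exists_open_free _ hE.1 hE.2
  obtain ⟨Ub, hUb, ⟨eb⟩⟩ := SDiv28.GenRank.exists_open_free F hF.1 hF.2
  let r := Module.finrank (Y.presheaf.stalk η)
    (((Coh.push f).obj (Coh.structureModule X)).presheaf.stalk η)
  let n := Module.finrank (Y.presheaf.stalk η) (F.presheaf.stalk η)
  have hηa : η ∈ Ua := ((genericPoint_spec Y).mem_open_set_iff Ua.2).2 (by simpa using hUa)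
  have hηb : η ∈ Ub := ((genericPoint_spec Y).mem_open_set_iff Ub.2).2 (by simpa using hUb)
  let U := Ua ⊓ Ub
  have hηU : η ∈ U := ⟨hηa, hηb⟩
  obtain ⟨eE⟩ := FinPush14.nonempty_restrict_free_of_le (inf_le_left : U ≤ Ua) ea
  obtain ⟨eF⟩ := FinPush14.nonempty_restrict_free_of_le (inf_le_right : U ≤ Ub) eb
  let P := Coh.push f
  let R := Scheme.Modules.restrictFunctor U.ι
  haveI : PreservesColimitsOfSize.{0, 0} R :=
    (Scheme.Modules.restrictAdjunction U.ι).leftAdjoint_preservesColimits
  let G₀ := FlatMod.freeMod X n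
  let Fr : Y.Modules := ∐ fun _ : Fin r => F
  let O := Coh.structureModule U.toScheme
  let φ₀ : R.obj (P.obj G₀) ⟶ R.obj Fr :=
    (R.mapIso (PreservesCoproduct.iso P fun _ : Fin n => Coh.structureModule X) ≪≫
      PreservesCoproduct.iso R (fun _ : Fin n => P.obj (Coh.structureModule X)) ≪≫
      Limits.Sigma.mapIso (fun _ : Fin n => eE) ≪≫
      sigmaSigmaIso (fun _ : Fin n => Fin r) (fun _ _ => O) ≪≫
      Limits.Sigma.whiskerEquiv
        ((Equiv.sigmaEquivProd (Fin n) (Fin r)).trans
          ((Equiv.prodComm (Fin n) (Fin r)).trans (Equiv.sigmaEquivProd (Fin r) (Fin n)).symm))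
        (fun _ => Iso.refl O) ≪≫
      (sigmaSigmaIso (fun _ : Fin r => Fin n) (fun _ _ => O)).symm ≪≫
      Limits.Sigma.mapIso (fun _ : Fin r => eF.symm) ≪≫
      (PreservesCoproduct.iso R fun _ : Fin r => F).symm).hom
  haveI : IsIso φ₀ := inferInstanceAs (IsIso (Iso.hom _))
  have hG₀ : Coh.IsCoh G₀ := CohBC.isCoh_of_isFinLocFree (DCat.ProjPerf.isFinLocFree_freeMod n)
  have hPG₀ : Coh.IsCoh (P.obj G₀) := isCoh_push_finite f hG₀
  have hFr : Coh.IsCoh Fr := KZeroLib.isCoh_sigma_finite ⟨inferInstance⟩ _ fun _ => hF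
  obtain ⟨F', ι, φ', hι, hF', hιU, hφ'⟩ :=
    SubAvoid14.exists_hom_extension (P.obj G₀) Fr hPG₀ hFr U φ₀
  haveI := hι
  haveI := hιU
  haveI : IsIso (R.map φ') := by rw [hφ']; infer_instance
  have hQ : Coh.IsCoh (cokernel ι) := isCoh_cokernel ι hF'.1 hPG₀
  let J := annSheaf hQ.1 hQ.2
  have hJ : ∀ z ∈ U, z ∉ (J.support : Set Y) := fun z hz => by
    rw [support_annSheaf]
    exact fun h => SubAvoid14.support_cokernel_subset (T := (U : Set Y)ᶜ) ι (fun z hz =>
      (SubAvoid14.bijective_of_isIso_restrict ι U (not_not.1 hz)).2) h hz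
  obtain ⟨b, hb⟩ := SubAvoid14.exists_lift_idealMul J ι (killed_annSheaf hQ.1 hQ.2)
  haveI := hG₀.1
  obtain ⟨e, -⟩ := Groth.Agent.S9523.result f G₀ hG₀.1 J
  refine ⟨(Dual3.idealMul (J.comap f)).obj G₀, e.inv ≫ b ≫ φ', ?_, U, hηU, ?_⟩
  · refine isCoh_of_mono (Dual3.idealMulι (J.comap f) G₀) hG₀ ?_
    haveI := EGA43.InjFibre.isQCoh_pullback (J.comap f).subschemeι G₀
    haveI := Coherent.isQCoh_push (J.comap f).subschemeι ((Scheme.Modules.pullback (J.comap f).subschemeι).obj G₀)
    haveI : Coh.IsQCoh ((𝟭 X.Modules).obj G₀) := hG₀.1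
    haveI : Coh.IsQCoh ((Scheme.Modules.pullback (J.comap f).subschemeι ⋙ Scheme.Modules.pushforward (J.comap f).subschemeι).obj G₀) :=
      ‹Coh.IsQCoh ((Coh.push (J.comap f).subschemeι).obj ((Scheme.Modules.pullback (J.comap f).subschemeι).obj G₀))›
    exact isQCoh_kernel _
  · haveI : IsIso (R.map (b ≫ ι)) := by
      rw [hb]
      exact S8127.isIso_restrict_of_stalks U _ fun z hz =>
        SubAvoid14.bijective_stalk_idealMulι J _ (hJ z hz)
    haveI : IsIso (R.map b) := by
      have : IsIso (R.map b ≫ R.map ι) := by rw [← Functor.map_comp]; infer_instance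
      exact IsIso.of_isIso_comp_right (R.map b) (R.map ι)
    show IsIso (R.map (e.inv ≫ b ≫ φ'))
    rw [Functor.map_comp, Functor.map_comp]
    infer_instance

end Groth.Agent.S11389
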