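import Groth.Statements.S11392
import Groth.Agent.CohDim22.DeligneExt
import Groth.Agent.Mod22.CMDual
import Groth.Agent.ExtLF.Basic
import Groth.Agent.Coherent.Existence.HomAffine
import Groth.Agent.Coherent.ClosedEquiv
import Groth.Agent.GrpdField.Equidim
import Groth.Agent.DimLib.Components
import Groth.Agent.CAlgH3.RegularCore
import Groth.Agent.DQCoh.PerfPlus17
import Groth.Agent.AmpleLib.CounitEpi

set_option autoImplicit false
universe u
open CategoryTheory CategoryTheory.Limits AlgebraicGeometry TopologicalSpace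
open CohDim

namespace Groth.Agent.S11392

set_option linter.style.haveILetI false
set_option backward.isDefEq.respectTransparency false

/-- `Ext` out of a finite locally free module vanishes with the cohomology of the internal Hom. -/
theorem subsingleton_ext {Y : Scheme.{u}} [HasExt.{u} Y.Modules] (E : Y.Modules)
    (hE : FlatMod.IsFinLocFree E) (B : Y.Modules) (p : ℕ)
    (h : Subsingleton (Coh.HH Y (Coherent.internalHom E B) p)) : Subsingleton (Abelian.Ext.{u} E B p) := by
  haveI := Coherent.hasSheafHom E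
  obtain ⟨a⟩ := ExtLF.nonempty_ext_HH E hE B p
  haveI := h
  haveI : Subsingleton (Abelian.Ext ((Coherent.freeModOn Y).obj ⊤) ((DCoh.sheafHom E).obj B) p) :=
    ((ExtLF.extCongrRight ((Coherent.sheafHomIso E).app B) _ p).trans
      (SerreDual.extHH (Coherent.internalHom E B) p)).injective.subsingleton
  haveI : Subsingleton (Coh.HH Y ((DCoh.sheafHom E).obj B) p) :=
    (SerreDual.extHH ((DCoh.sheafHom E).obj B) p).symm.injective.subsingleton
  exact a.injective.subsingleton

set_option maxHeartbeats 1000000 in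
/-- Let X be proper and integral over an algebraically closed field k, of dimension n, with all local
rings regular; let 𝓘 be a quasi-coherent ideal with closed subscheme Y, ι_m : Y_m ⟶ X the closed
subscheme of 𝓘^{m+1}, U = X ∖ Y, and r ≥ 0 such that H^i(U, G) = 0 for every coherent O_U-module G
and every i > r. Then for every finite locally free O_X-module F and every i with i + r + 1 ≤ n, an
element of H^i(X, F) whose image in H^i(X, ι_{m*} ι_m^* F) under the unit map F ⟶ ι_{m*} ι_m^* F
vanishes for every m is zero; that is, the canonical map from H^i(X, F) to the cohomology of the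
formal completion of F along Y is injective. (The published statement is an equivalence and also
asserts surjectivity onto the limit for i + r + 2 ≤ n.) -/
theorem result (k : Type u) [Field k] [IsAlgClosed k] (X : Scheme.{u})
    [X.Over (Spec (CommRingCat.of k))] [IsProper (X ↘ (Spec (CommRingCat.of k)))] [IsIntegral X]
    (hreg : ∀ x : X, IsRegularLocalRing (X.presheaf.stalk x))
    (n : ℕ) (hdim : topologicalKrullDim X = n)
    (𝓘 : X.IdealSheafData) (U : X.Opens) (hU : (U : Set X) = (𝓘.support : Set X)ᶜ) (r : ℕ)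
    (hcd : ∀ G : (U : Scheme.{u}).Modules, Coh.IsCoh G → ∀ i : ℕ, r < i →
      Subsingleton (Coh.HH (U : Scheme.{u}) G i))
    (F : X.Modules) (hF : FlatMod.IsFinLocFree F) (i : ℕ) (hi : i + r + 1 ≤ n)
    (x : Coh.HH X F i)
    (hx : ∀ m : ℕ, Sheaf.H.map ((SheafOfModules.toSheaf X.ringCatSheaf).map
      ((Scheme.Modules.pullbackPushforwardAdjunction (𝓘 ^ (m + 1)).subschemeι).unit.app F)) i x = 0) :
    x = 0 := by
  classical
  let f := X ↘ Spec (CommRingCat.of k)
  haveI := EulerLib.isNoetherian_of_proper (k := k) (X := X)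
  haveI : X.IsSeparated := EulerLib.isSeparated_of_proper (X := X) k
  haveI : ∀ (V W : Scheme.{u}) (j : V ⟶ W) [IsOpenImmersion j],
      PreservesFiniteLimits (Scheme.Modules.restrictFunctor j) := fun V W j _ =>
    DCat.PullPerf.preservesFiniteLimits_restrict j
  haveI : ∀ (S : CommRingCat.{u}), PreservesFiniteLimits (tilde.functor S) :=
    AffSchLib.preservesFiniteLimits_tilde
  haveI := DCat.hasRpush f
  have hf : DCoh.RpushPreservesQCoh f := fun K hK => DQCoh.isQCohD_Rpush f K hK
  haveI : DCoh.HasShriek f hf := Dual22Lib.AdjGeom.isLeftAdjoint_RpushQ f hf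
  let OY : DCoh.DQCoh (Spec (CommRingCat.of k)) :=
    ⟨DCoh.inD (Spec (CommRingCat.of k)) (Coh.structureModule (Spec (CommRingCat.of k))),
      haveI : Coh.IsQCoh (Coh.structureModule (Spec (CommRingCat.of k))) := Coherent.isQCoh_structureModule
      FlatBC14.isQCohD_inD _⟩
  obtain ⟨ω, hω, t, ht⟩ : ∃ ω : X.Modules, Coh.IsCoh ω ∧ ∃ t : Coh.HH X ω n →ₗ[k] k,
      ∀ G : X.Modules, Coh.IsQCoh G → SerreDual.Rep t G :=
    ⟨_, DualMod3.isCoh k X hf OY ⟨Iso.refl _⟩ n, DualMod3.exists_rep k X hf OY ⟨Iso.refl _⟩ (d := n) hdim.le⟩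
  haveI := hω.1
  haveI : IsGrothendieckAbelian.{u} X.Modules := DCat.schemeModules_isGrothendieckAbelian X
  haveI : IsGrothendieckAbelian.{u} (U : Scheme.{u}).Modules :=
    DCat.schemeModules_isGrothendieckAbelian (U : Scheme.{u})
  haveI : HasExt.{u} X.Modules := inferInstance
  haveI : HasExt.{u} (U : Scheme.{u}).Modules := inferInstance
  have hCM : ∀ y : X, LocCoh.IsCohenMacaulayLocalRing (X.presheaf.stalk y) := fun y =>
    haveI := hreg y
    CAlgH3.isCohenMacaulayLocalRing_of_regular _
  have heq : ∀ y : X, IsClosed ({y} : Set X) → ringKrullDim (X.presheaf.stalk y) = n := fun y hy => by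
    rw [GrpdField.ringKrullDim_stalk_of_equidim f (fun z hz => ?_) y hy, hdim]
    have hzg : z = genericPoint X := hz _ (genericPoint_specializes z)
    subst hzg
    exact (DimLib.topologicalKrullDim_eq_ptDim_of_isGenericPoint f (genericPoint_spec X)).symm.trans
      (IsHomeomorph.topologicalKrullDim_eq _ (Homeomorph.Set.univ X).isHomeomorph)
  obtain ⟨Φ, hΦ, hΦn⟩ := Mod22.CMDual.exists_extDuality k X n hdim hCM heq t ht (n - i) i (by omega)
  haveI hFq : Coh.IsQCoh F := (Coherent.CohBC.isCoh_of_isFinLocFree hF).1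
  have hFc : Coh.IsCoh F := Coherent.CohBC.isCoh_of_isFinLocFree hF
  by_contra hx0
  obtain ⟨Λ, hΛ⟩ : ∃ Λ : Coh.HH X F i →ₗ[k] k, Λ x ≠ 0 := by
    by_contra h
    exact hx0 ((Module.forall_dual_apply_eq_zero_iff k x).1 fun Λ => not_not.1 fun h' => h ⟨Λ, h'⟩)
  obtain ⟨ζ, hζ⟩ := (hΦ F hFq).2 Λ
  -- `ζ` vanishes on `U`
  haveI : IsLocallyNoetherian (U : Scheme.{u}) := isLocallyNoetherian_of_isOpenImmersion U.ι
  have hsub : Subsingleton (Abelian.Ext.{u} ((Scheme.Modules.restrictFunctor U.ι).obj F)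
      ((Scheme.Modules.restrictFunctor U.ι).obj ω) (n - i)) := by
    have hFU : FlatMod.IsFinLocFree ((Scheme.Modules.restrictFunctor U.ι).obj F) :=
      DQCoh.PerfPlus17.isFinLocFree_restrict U.ι hF
    have hωU : Coh.IsCoh ((Scheme.Modules.restrictFunctor U.ι).obj ω) :=
      AmpleLib.isCoh_restrict U.ι ω hω
    exact subsingleton_ext _ hFU _ (n - i)
      (hcd _ (Coherent.Existence.isCoh_internalHom (Coherent.CohBC.isCoh_of_isFinLocFree hFU) hωU) (n - i) (by omega))
  obtain ⟨m, hm, hkill⟩ := CohDim22.kill_ext U.ι 𝓘 (by rw [Scheme.Opens.range_ι, hU]; rfl) hFc (n - i) ω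
    inferInstance ζ (Subsingleton.elim _ _)
  -- `x` comes from `I^m F`
  let η := (Scheme.Modules.pullbackPushforwardAdjunction (𝓘 ^ m).subschemeι).unit.app F
  haveI : Epi η := Coherent.epi_clUnit (𝓘 ^ m).subschemeι
  let S : ShortComplex X.Modules := ShortComplex.mk (Dual3.idealMulι (𝓘 ^ m) F) η (kernel.condition η)
  have hS : S.ShortExact :=
    { exact := ShortComplex.exact_of_f_is_kernel _ (kernelIsKernel η)
      mono_f := inferInstanceAs (Mono (Dual3.idealMulι (𝓘 ^ m) F)), epi_g := ‹Epi η› }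
  obtain ⟨m', rfl⟩ : ∃ m', m = m' + 1 := ⟨m - 1, by omega⟩
  obtain ⟨y, hy⟩ := (SerreDual.exact_hmap k hS i x).1 (by rw [SerreDual.hmap_eq]; exact hx m')
  have hI0 : Φ ((Dual3.idealMul (𝓘 ^ (m' + 1))).obj F) 0 = 0 := by
    have h := hΦn (0 : (Dual3.idealMul (𝓘 ^ (m' + 1))).obj F ⟶ F) ζ
    rw [SerreDual.hmap_zero, LinearMap.comp_zero, Abelian.Ext.mk₀_zero, Abelian.Ext.zero_comp] at h
    exact h
  refine hΛ ?_
  rw [← hζ, ← hy]
  have h := LinearMap.congr_fun (hΦn (Dual3.idealMulι (𝓘 ^ (m' + 1)) F) ζ) y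
  rw [hkill, hI0] at h
  exact h.symm

end Groth.Agent.S11392
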