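import Groth.Statements.S11390
import Groth.Agent.CohDim22.DeligneExt
import Groth.Agent.S11392
import Groth.Agent.RelPerfH3.ExtSupp
import Groth.Agent.Lef23.ProZeroX
import Groth.Agent.CurveRR24.RR

set_option autoImplicit false
universe u
open CategoryTheory CategoryTheory.Limits AlgebraicGeometry TopologicalSpace
open CohDim

namespace Groth.Agent.S11390

set_option linter.style.haveILetI false
set_option backward.isDefEq.respectTransparency false

open Groth.Agent.Coherent

/-- Morphisms agreeing on affine opens are equal. -/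
theorem hom_ext_aff {Y : Scheme.{u}} {M N : Y.Modules} (a b : M ⟶ N)
    (h : ∀ (U : Y.Opens), IsAffineOpen U → ∀ x : Γ(M, U), a.app U x = b.app U x) : a = b := by
  refine Scheme.Modules.hom_ext _ _ fun V => ConcreteCategory.hom_ext _ _ fun x => ?_
  refine AmpleLib.sec_ext N _ _ fun y hy => ?_
  obtain ⟨A, hA, hyA, hAV⟩ := Opens.isBasis_iff_nbhd.1 Y.isBasis_affineOpens hy
  refine ⟨A, hAV, hyA, ?_⟩
  rw [← app_resM, ← app_resM]
  exact h A hA _

/-- A module killed by `I` receives only zero from `I` through `O`. -/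
theorem idealModι_comp_eq_zero {Y : Scheme.{u}} (I : Y.IdealSheafData) {Q : Y.Modules}
    (hk : ClSub.KilledByIdeal I Q) (h : Coh.structureModule Y ⟶ Q) : ClSub.idealModι I ≫ h = 0 := by
  refine hom_ext_aff _ _ fun W hW x => ?_
  let g : Γ(Y, W) := (ClSub.idealModι I).app W x
  have hg : g ∈ I.ideal ⟨W, hW⟩ := by
    have h0 := (AmpleLib.mem_range_idealModι I W g).1 ⟨x, rfl⟩
    rw [← Scheme.IdealSheafData.ker_subschemeι_app I ⟨W, hW⟩]
    exact h0
  show h.app W ((ClSub.idealModι I).app W x) = (0 : _ ⟶ Q).app W x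
  rw [show ((ClSub.idealModι I).app W x) = g • (show Γ(Coh.structureModule Y, W) from (1 : Γ(Y, W))) from
    (mul_one g).symm, Scheme.Modules.Hom.app_smul]
  exact (hk ⟨W, hW⟩ g hg _).trans (by simp)

/-- Powers of an ideal cut out nothing new. -/
theorem support_pow_subset {Y : Scheme.{u}} (I : Y.IdealSheafData) (a : ℕ) :
    ((I ^ a).support : Set Y) ⊆ (I.support : Set Y) := by
  intro z hc
  obtain ⟨V, hV, hzV, -⟩ := TopologicalSpace.Opens.isBasis_iff_nbhd.mp Y.isBasis_affineOpens (TopologicalSpace.Opens.mem_top z)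
  show z ∈ I.supportSet
  rw [Scheme.IdealSheafData.mem_supportSet_iff_of_mem (U := ⟨V, hV⟩) hzV]
  have h1 : z ∈ (I ^ a).supportSet := hc
  rw [Scheme.IdealSheafData.mem_supportSet_iff_of_mem (U := ⟨V, hV⟩) hzV, Scheme.mem_zeroLocus_iff] at h1
  rw [Scheme.mem_zeroLocus_iff]
  intro f hf hzf
  rcases Nat.eq_zero_or_pos a with hn | hn
  · refine h1 1 (by subst hn; simp) ?_
    rw [Scheme.basicOpen_of_isUnit _ isUnit_one]
    exact hzV
  · refine h1 (f ^ a) (by
      rw [Scheme.IdealSheafData.ideal_pow, Pi.pow_apply]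
      exact Ideal.pow_mem_pow hf a) ?_
    rw [Y.basicOpen_pow f hn]
    exact hzf

/-- Tail of the argument. -/
theorem exists_step {Y : Scheme.{u}} [IsNoetherian Y] [HasExt.{u} Y.Modules] {W : Scheme.{u}} (j : W ⟶ Y)
    [IsOpenImmersion j] [HasExt.{u} W.Modules] [PreservesFiniteLimits (Scheme.Modules.restrictFunctor j)]
    [PreservesFiniteColimits (Scheme.Modules.restrictFunctor j)]
    (I J : Y.IdealSheafData) (hI : I.supportSetᶜ = Set.range j)
    (hJI : (J.support : Set Y) ⊆ (I.support : Set Y)) {ω : Y.Modules} [Coh.IsQCoh ω] (q : ℕ)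
    (η : Abelian.Ext.{u} (ClSub.idealMod J) ω q)
    (hη : (η.mapExactFunctor (Scheme.Modules.restrictFunctor j) : Abelian.Ext.{u} _ _ q) = 0) :
    ∃ (b : ℕ) (t : ClSub.idealMod (I ^ (b + 1)) ⟶ ClSub.idealMod J),
      t ≫ ClSub.idealModι J = ClSub.idealModι (I ^ (b + 1)) ∧
      (Abelian.Ext.mk₀ t).comp η (zero_add q) = 0 := by
  have hJc : Coh.IsCoh (ClSub.idealMod J) := CurveRR24.isCoh_idealMod' J
  haveI := hJc.1
  obtain ⟨a, -, ha⟩ := CohDim22.kill_ext j I hI hJc q ω inferInstance η hη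
  haveI := SubAvoid14.isQCoh_idealMul (I ^ a) (ClSub.idealMod J)
  haveI := AmpleLib.mono_idealModι J
  let a' := Dual3.idealMulι (I ^ a) (ClSub.idealMod J) ≫ ClSub.idealModι J
  haveI : Mono a' := mono_comp _ _
  have hO : Coh.IsCoh (Coh.structureModule Y) := Coherent.isCoh_structureModule Y
  have hQ : Coh.IsCoh (cokernel a') := Coherent.isCoh_cokernel a' inferInstance hO
  obtain ⟨b, hb⟩ := SubAvoid14.exists_killed_pow I hQ (SubAvoid14.support_cokernel_subset a' fun z hz => by
    have hzJ : z ∉ (J.support : Set Y) := fun h => hz (hJI h)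
    have hza : z ∉ ((I ^ a).support : Set Y) := fun hc => hz (support_pow_subset I a hc)
    intro v
    obtain ⟨w, rfl⟩ : ∃ w, (DerSch.stalkFunctor Y z).map (ClSub.idealModι J) w = v :=
      ((ShortComplex.ShortExact.moduleCat_exact_iff_function_exact _).1
        ((ShortComplex.exact_kernel (ClSub.toSubscheme J)).map (DerSch.stalkFunctor Y z)) v).1
        ((not_not.1 fun hn => hzJ (J.range_subschemeι ▸ Coherent.support_push_subset J.subschemeι _ hn) :
          Subsingleton ((DerSch.stalkFunctor Y z).obj (ClSub.quotMod J))).elim _ _)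
    obtain ⟨u, rfl⟩ := (SubAvoid14.bijective_stalk_idealMulι (I ^ a) (ClSub.idealMod J) hza).2 w
    exact ⟨u, Coherent.stalk_comp_apply (Dual3.idealMulι (I ^ a) (ClSub.idealMod J)) (ClSub.idealModι J) u |>.symm⟩)
  have h0 : ClSub.idealModι (I ^ (b + 1)) ≫ cokernel.π a' = 0 := idealModι_comp_eq_zero _ hb _
  refine ⟨b, Abelian.monoLift a' _ h0 ≫ Dual3.idealMulι (I ^ a) (ClSub.idealMod J), ?_, ?_⟩
  · rw [Category.assoc]
    exact Abelian.monoLift_comp a' _ h0
  · rw [← Abelian.Ext.mk₀_comp_mk₀, Abelian.Ext.comp_assoc_of_second_deg_zero, ha, Abelian.Ext.comp_zero]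

set_option maxHeartbeats 1000000 in
/-- Let X be proper and integral over an algebraically closed field k, of dimension n, with all local
rings regular; let 𝓘 be a quasi-coherent ideal with closed subscheme Y, U = X ∖ Y, and r ≥ 0 such
that H^i(U, F) = 0 for every coherent O_U-module F and every i > r. Then for every i with i + r + 2
≤ n, every family of classes in the H^i(X, O_X/𝓘^{m+1}) compatible under the reduction maps
O_X/𝓘^{m+2} ⟶ O_X/𝓘^{m+1} comes from a class in H^i(X, O_X); together with the injectivity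
statement, the canonical map α_i : H^i(X, O_X) → lim_m H^i(X, O_X/𝓘^{m+1}) is bijective. (The
published statement treats every locally free O_X-module and is an equivalence; the surjectivity
clause is written here for O_X only.) -/
theorem result (k : Type u) [Field k] [IsAlgClosed k] (X : Scheme.{u})
    [X.Over (Spec (CommRingCat.of k))] [IsProper (X ↘ (Spec (CommRingCat.of k)))] [IsIntegral X]
    (hreg : ∀ x : X, IsRegularLocalRing (X.presheaf.stalk x))
    (n : ℕ) (hdim : topologicalKrullDim X = n)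
    (𝓘 : X.IdealSheafData) (U : X.Opens) (hU : (U : Set X) = (𝓘.support : Set X)ᶜ) (r : ℕ)
    (hcd : ∀ F : (U : Scheme.{u}).Modules, Coh.IsCoh F → ∀ i : ℕ, r < i →
      Subsingleton (Coh.HH (U : Scheme.{u}) F i)) (i : ℕ) (hi : i + r + 2 ≤ n)
    (y : ∀ m : ℕ, Coh.HH X (ClSub.quotMod (𝓘 ^ (m + 1))) i)
    (hy : ∀ m : ℕ, Sheaf.H.map ((SheafOfModules.toSheaf X.ringCatSheaf).map
      (Lef.quotMap (Lef.pow_succ_le 𝓘 m))) i (y (m + 1)) = y m) :
    ∃ x : Coh.HH X (Coh.structureModule X) i, ∀ m : ℕ,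
      Sheaf.H.map ((SheafOfModules.toSheaf X.ringCatSheaf).map
        (ClSub.toSubscheme (𝓘 ^ (m + 1)))) i x = y m := by
  classical
  let f := X ↘ Spec (CommRingCat.of k)
  haveI := EulerLib.isNoetherian_of_proper (k := k) (X := X)
  haveI : X.IsSeparated := EulerLib.isSeparated_of_proper (X := X) k
  haveI : ∀ (V W : Scheme.{u}) (j : V ⟶ W) [IsOpenImmersion j],
      PreservesFiniteLimits (Scheme.Modules.restrictFunctor j) := fun V W j _ =>
    DCat.PullPerf.preservesFiniteLimits_restrict j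
  haveI : ∀ (S : CommRingCat.{u}), PreservesFiniteLimits (tilde.functor S) :=
    AffSchLib.preservesFiniteLimits_tilde
  haveI := DCat.hasRpush f
  have hf : DCoh.RpushPreservesQCoh f := fun K hK => DQCoh.isQCohD_Rpush f K hK
  haveI : DCoh.HasShriek f hf := Dual22Lib.AdjGeom.isLeftAdjoint_RpushQ f hf
  let OY : DCoh.DQCoh (Spec (CommRingCat.of k)) :=
    ⟨DCoh.inD (Spec (CommRingCat.of k)) (Coh.structureModule (Spec (CommRingCat.of k))),
      haveI : Coh.IsQCoh (Coh.structureModule (Spec (CommRingCat.of k))) := Coherent.isQCoh_structureModule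
      FlatBC14.isQCohD_inD _⟩
  obtain ⟨ω, hω, t, ht⟩ : ∃ ω : X.Modules, Coh.IsCoh ω ∧ ∃ t : Coh.HH X ω n →ₗ[k] k,
      ∀ G : X.Modules, Coh.IsQCoh G → SerreDual.Rep t G :=
    ⟨_, DualMod3.isCoh k X hf OY ⟨Iso.refl _⟩ n, DualMod3.exists_rep k X hf OY ⟨Iso.refl _⟩ (d := n) hdim.le⟩
  haveI := hω.1
  haveI : IsGrothendieckAbelian.{u} X.Modules := DCat.schemeModules_isGrothendieckAbelian X
  haveI : IsGrothendieckAbelian.{u} (U : Scheme.{u}).Modules :=
    DCat.schemeModules_isGrothendieckAbelian (U : Scheme.{u})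
  haveI : HasExt.{u} X.Modules := inferInstance
  haveI : HasExt.{u} (U : Scheme.{u}).Modules := inferInstance
  have hCM : ∀ y : X, LocCoh.IsCohenMacaulayLocalRing (X.presheaf.stalk y) := fun y =>
    haveI := hreg y
    CAlgH3.isCohenMacaulayLocalRing_of_regular _
  have heq : ∀ y : X, IsClosed ({y} : Set X) → ringKrullDim (X.presheaf.stalk y) = n := fun y hy => by
    rw [GrpdField.ringKrullDim_stalk_of_equidim f (fun z hz => ?_) y hy, hdim]
    have hzg : z = genericPoint X := hz _ (genericPoint_specializes z)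
    subst hzg
    exact (DimLib.topologicalKrullDim_eq_ptDim_of_isGenericPoint f (genericPoint_spec X)).symm.trans
      (IsHomeomorph.topologicalKrullDim_eq _ (Homeomorph.Set.univ X).isHomeomorph)
  obtain ⟨Φ, hΦ, hΦn⟩ := Mod22.CMDual.exists_extDuality k X n hdim hCM heq t ht (n - i) i (by omega)
  haveI : PreservesFiniteColimits (Scheme.Modules.restrictFunctor U.ι) :=
    haveI : (Scheme.Modules.restrictFunctor U.ι).IsLeftAdjoint :=
      (Scheme.Modules.restrictAdjunction U.ι).isLeftAdjoint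
    inferInstance
  haveI : IsLocallyNoetherian (U : Scheme.{u}) := isLocallyNoetherian_of_isOpenImmersion U.ι
  have hO : Coh.IsCoh (Coh.structureModule X) := Coherent.isCoh_structureModule X
  obtain ⟨q, hq⟩ : ∃ q, n - i = 1 + q ∧ r < q := ⟨n - i - 1, by omega, by omega⟩
  let S : ℕ → ShortComplex X.Modules := fun m =>
    ShortComplex.mk (ClSub.idealModι (𝓘 ^ (m + 1))) (ClSub.toSubscheme (𝓘 ^ (m + 1)))
      (kernel.condition (ClSub.toSubscheme (𝓘 ^ (m + 1))))
  have hS : ∀ m, (S m).ShortExact := fun m => CurveRR24.shortExact_ideal _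
  have hle : ∀ m M : ℕ, m ≤ M → 𝓘 ^ (M + 1) ≤ 𝓘 ^ (m + 1) := fun m M h => by
    intro V
    rw [Scheme.IdealSheafData.ideal_pow, Scheme.IdealSheafData.ideal_pow, Pi.pow_apply, Pi.pow_apply]
    exact Ideal.pow_le_pow_right (by omega)
  have hqm : ∀ (m M : ℕ) (h : m ≤ M) (h' : 𝓘 ^ (M + 1) ≤ 𝓘 ^ (m + 1)),
      SerreDual.hmap k (Lef.quotMap h') i (y M) = y m := by
    intro m M h
    induction M, h using Nat.le_induction with
    | base =>
      intro h'
      have e : Lef.quotMap h' = 𝟙 _ := by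
        haveI := CurveRR24.epi_toSubscheme (𝓘 ^ (m + 1))
        rw [← cancel_epi (ClSub.toSubscheme (𝓘 ^ (m + 1))), Lef23.toSubscheme_quotMap, Category.comp_id]
      rw [e, SerreDual.hmap_id]
      rfl
    | succ M hM ih =>
      intro h'
      have e : Lef.quotMap h' = Lef.quotMap (Lef.pow_succ_le 𝓘 M) ≫ Lef.quotMap (hle m M hM) := by
        haveI := CurveRR24.epi_toSubscheme (𝓘 ^ (M + 1 + 1))
        rw [← cancel_epi (ClSub.toSubscheme (𝓘 ^ (M + 1 + 1))), Lef23.toSubscheme_quotMap,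
          ← Category.assoc]
        exact ((congrArg (· ≫ Lef.quotMap (hle m M hM))
          (Lef23.toSubscheme_quotMap (Lef.pow_succ_le 𝓘 M))).trans (Lef23.toSubscheme_quotMap _)).symm
      rw [e, SerreDual.hmap_comp, LinearMap.comp_apply]
      have e2 : SerreDual.hmap k (Lef.quotMap (Lef.pow_succ_le 𝓘 M)) i (y (M + 1)) = y M := by
        rw [SerreDual.hmap_eq]; exact hy M
      rw [e2]
      exact ih _
  let π : ∀ m, Coh.HH X (Coh.structureModule X) i →ₗ[k] Coh.HH X (ClSub.quotMod (𝓘 ^ (m + 1))) i :=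
    fun m => SerreDual.hmap k (ClSub.toSubscheme (𝓘 ^ (m + 1))) i
  have hπ : ∀ (m M : ℕ) (h : m ≤ M) (x : Coh.HH X (Coh.structureModule X) i),
      SerreDual.hmap k (Lef.quotMap (hle m M h)) i (π M x) = π m x := fun m M h x => by
    have := congrArg (fun φ => SerreDual.hmap k φ i x) (Lef23.toSubscheme_quotMap (hle m M h))
    rw [SerreDual.hmap_comp] at this
    exact this
  -- each `y m` comes from `H^i(X, O)`
  have hex : ∀ m, ∃ x, π m x = y m := by
    intro m
    by_contra hne
    have hnm : y m ∉ LinearMap.range (π m) := fun ⟨x, hx⟩ => hne ⟨x, hx⟩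
    obtain ⟨μ, hμ0, hμ⟩ := Submodule.exists_le_ker_of_notMem hnm
    haveI hQq : Coh.IsQCoh (ClSub.quotMod (𝓘 ^ (m + 1))) := (CurveRR24.isCoh_quotMod _).1
    obtain ⟨ξ, hξ⟩ := (hΦ _ hQq).2 μ
    have hzero : ∀ G : X.Modules, Φ G 0 = 0 := fun G => by
      have h := hΦn (0 : G ⟶ ClSub.quotMod (𝓘 ^ (m + 1))) ξ
      rw [SerreDual.hmap_zero, LinearMap.comp_zero, Abelian.Ext.mk₀_zero, Abelian.Ext.zero_comp] at h
      exact h
    have h1 : (Abelian.Ext.mk₀ (S m).g).comp ξ (zero_add (n - i)) = 0 := by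
      refine (hΦ _ hO.1).1 ?_
      rw [hzero]
      refine (hΦn (ClSub.toSubscheme (𝓘 ^ (m + 1))) ξ).trans ?_
      rw [hξ]
      exact LinearMap.ext fun x => hμ ⟨x, rfl⟩
    obtain ⟨η, hη⟩ := Abelian.Ext.contravariant_sequence_exact₃ (hS m) ω ξ h1 hq.1.symm
    have hsupp : ∀ c : ℕ, ((𝓘 ^ (c + 1)).support : Set X) ⊆ (𝓘.support : Set X) := fun c =>
      support_pow_subset 𝓘 (c + 1)
    have hsub : Subsingleton (Abelian.Ext.{u} ((Scheme.Modules.restrictFunctor U.ι).obj (ClSub.idealMod (𝓘 ^ (m + 1))))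
        ((Scheme.Modules.restrictFunctor U.ι).obj ω) q) := by
      have hSR := (hS m).map_of_exact (Scheme.Modules.restrictFunctor U.ι)
      have hz : IsZero ((Scheme.Modules.restrictFunctor U.ι).obj (ClSub.quotMod (𝓘 ^ (m + 1)))) :=
        RelPerfH3.ExtSupp.isZero_restrict_push _ _ _ (by
          rw [Scheme.IdealSheafData.range_subschemeι, hU, Set.disjoint_compl_left_iff_subset]
          exact hsupp m)
      haveI : IsIso ((S m).map (Scheme.Modules.restrictFunctor U.ι)).f :=
        haveI := hSR.mono_f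
        haveI : Epi ((S m).map (Scheme.Modules.restrictFunctor U.ι)).f := hSR.exact.epi_f (hz.eq_of_tgt _ _)
        isIso_of_mono_of_epi _
      have hFU : FlatMod.IsFinLocFree ((Scheme.Modules.restrictFunctor U.ι).obj (Coh.structureModule X)) :=
        DQCoh.PerfPlus17.isFinLocFree_restrict U.ι (Coherent.CohBC.isFinLocFree_structureModule X)
      have hωU : Coh.IsCoh ((Scheme.Modules.restrictFunctor U.ι).obj ω) :=
        AmpleLib.isCoh_restrict U.ι ω hω
      haveI : Subsingleton (Abelian.Ext.{u} ((S m).map (Scheme.Modules.restrictFunctor U.ι)).X₂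
          ((Scheme.Modules.restrictFunctor U.ι).obj ω) q) := S11392.subsingleton_ext _ hFU _ q
        (hcd _ (Coherent.Existence.isCoh_internalHom (Coherent.CohBC.isCoh_of_isFinLocFree hFU) hωU) q hq.2)
      exact (ExtLF.extCongrLeft (asIso ((S m).map (Scheme.Modules.restrictFunctor U.ι)).f) _ q).injective.subsingleton
    obtain ⟨b, τ, hτ, hτη⟩ := exists_step U.ι 𝓘 (𝓘 ^ (m + 1))
      (by rw [Scheme.Opens.range_ι, hU]; rfl) (hsupp m) q η (Subsingleton.elim _ _)
    -- a common level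
    have hM1 : m ≤ m + b := by omega
    let σ : ClSub.idealMod (𝓘 ^ (m + b + 1)) ⟶ ClSub.idealMod (𝓘 ^ (b + 1)) :=
      Lef23.idealIncl (hle b (m + b) (by omega))
    let θ : S (m + b) ⟶ S m :=
      { τ₁ := σ ≫ τ
        τ₂ := 𝟙 _
        τ₃ := Lef.quotMap (hle m (m + b) hM1)
        comm₁₂ := by
          show (σ ≫ τ) ≫ ClSub.idealModι _ = ClSub.idealModι _ ≫ 𝟙 _
          rw [Category.assoc, hτ, Lef23.idealIncl_ι, Category.comp_id]
        comm₂₃ := by
          show 𝟙 _ ≫ ClSub.toSubscheme _ = ClSub.toSubscheme _ ≫ _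
          rw [Category.id_comp, Lef23.toSubscheme_quotMap] }
    have h2 : (Abelian.Ext.mk₀ θ.τ₃).comp ξ (zero_add (n - i)) = 0 := by
      rw [← hη, ← Abelian.Ext.comp_assoc _ _ _ (zero_add 1) hq.1.symm (by omega),
        ← ShortComplex.ShortExact.extClass_naturality (hS (m + b)) (hS m) θ,
        Abelian.Ext.comp_assoc _ _ _ (add_zero 1) (zero_add q) (by omega)]
      have : (Abelian.Ext.mk₀ θ.τ₁).comp η (zero_add q) = 0 := by
        show (Abelian.Ext.mk₀ (σ ≫ τ)).comp η (zero_add q) = 0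
        rw [← Abelian.Ext.mk₀_comp_mk₀, Abelian.Ext.comp_assoc_of_second_deg_zero, hτη, Abelian.Ext.comp_zero]
      rw [this, Abelian.Ext.comp_zero]
    refine hμ0 ?_
    rw [← hξ, ← hqm m (m + b) hM1 (hle m (m + b) hM1)]
    have h3 := LinearMap.congr_fun (hΦn (Lef.quotMap (hle m (m + b) hM1)) ξ) (y (m + b))
    rw [show (Abelian.Ext.mk₀ (Lef.quotMap (hle m (m + b) hM1))).comp ξ (zero_add (n - i)) = 0 from h2,
      hzero] at h3
    exact h3.symm
  choose x hx using hex
  haveI : Module.Finite k (Coh.HH X (Coh.structureModule X) i) := CurveRR24.finite_HH_of_isCoh k hO i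
  have hanti : ∀ {m M : ℕ}, m ≤ M → LinearMap.ker (π M) ≤ LinearMap.ker (π m) := fun {m M} h z hz => by
    rw [LinearMap.mem_ker] at hz ⊢
    rw [← hπ m M h z, hz, map_zero]
  obtain ⟨M, hM⟩ := IsArtinian.monotone_stabilizes
    (R := k) (M := Coh.HH X (Coh.structureModule X) i) ⟨fun m => OrderDual.toDual (LinearMap.ker (π m)), fun _ _ h => hanti h⟩
  have hfin : ∀ m, π m (x M) = y m := by
    intro m
    by_cases hm : m ≤ M
    · rw [← hπ m M hm, hx, hqm m M hm]
    · have hm' : M ≤ m := by omega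
      have h1 : x m - x M ∈ LinearMap.ker (π M) := by
        rw [LinearMap.mem_ker, map_sub, hx, ← hπ M m hm', hx, hqm M m hm', sub_self]
      have h2 : LinearMap.ker (π M) = LinearMap.ker (π m) := OrderDual.toDual.injective (hM m hm')
      rw [h2, LinearMap.mem_ker, map_sub, hx, sub_eq_zero] at h1
      exact h1.symm
  exact ⟨x M, fun m => (SerreDual.hmap_eq k _ i _).symm.trans (hfin m)⟩

end Groth.Agent.S11390
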