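import Groth.Statements.S11391
import Groth.Agent.CohDim22.GorInvDim
import Groth.Agent.CohDim22.ExtendExt
import Groth.Agent.S11392
import Groth.Agent.S0342
import Groth.Agent.GVan16.SchemeSupp
import Groth.Agent.KLoc28.Restrict
import Groth.Agent.ExtFilt28.LocFree
import Groth.Agent.SerreDual.ExtLocFree
import Groth.Agent.CurveRR24.RR
import Groth.Agent.VarietyLib.Dual
import Groth.Agent.RelPerfH3.ExtSupp
import Groth.Agent.EGA43.InjFibre.Scheme
import Groth.Agent.EulerLib.Degree
import Groth.Agent.ParaF29.Basic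
import Groth.Agent.FlatMorAdm.LocFreeApps
import Groth.Agent.Lef23.Neg
import Groth.Agent.DualLib.RelTop.TwistTools

set_option autoImplicit false
universe u
open CategoryTheory CategoryTheory.Limits AlgebraicGeometry TopologicalSpace
open CohDim

namespace Groth.Agent.S11391

set_option linter.style.haveILetI false
set_option backward.isDefEq.respectTransparency false

open Groth.Agent.Coherent

/-- Powers of an ideal cut out nothing new. -/
theorem support_pow_subset {Y : Scheme.{u}} (I : Y.IdealSheafData) (a : ℕ) :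
    ((I ^ a).support : Set Y) ⊆ (I.support : Set Y) := by
  intro z hc
  obtain ⟨V, hV, hzV, -⟩ := TopologicalSpace.Opens.isBasis_iff_nbhd.mp Y.isBasis_affineOpens (TopologicalSpace.Opens.mem_top z)
  show z ∈ I.supportSet
  rw [Scheme.IdealSheafData.mem_supportSet_iff_of_mem (U := ⟨V, hV⟩) hzV]
  have h1 : z ∈ (I ^ a).supportSet := hc
  rw [Scheme.IdealSheafData.mem_supportSet_iff_of_mem (U := ⟨V, hV⟩) hzV, Scheme.mem_zeroLocus_iff] at h1
  rw [Scheme.mem_zeroLocus_iff]
  intro f hf hzf
  rcases Nat.eq_zero_or_pos a with hn | hn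
  · refine h1 1 (by subst hn; simp) ?_
    rw [Scheme.basicOpen_of_isUnit _ isUnit_one]
    exact hzV
  · refine h1 (f ^ a) (by
      rw [Scheme.IdealSheafData.ideal_pow, Pi.pow_apply]
      exact Ideal.pow_mem_pow hf a) ?_
    rw [Y.basicOpen_pow f hn]
    exact hzf

set_option maxHeartbeats 1000000 in
/-- Let X be proper and integral over an algebraically closed field k, of dimension n, with all local
rings regular, and let U ⊆ X be an open subscheme whose closed complement Y = X ∖ U has dimension at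
most s (every irreducible component of Y has dimension ≤ s). Then H^i(U, F) is finite-dimensional
over k for every finite locally free O_U-module F and every i < n - s - 1, i.e. p(U) ≥ n - s - 1. -/
theorem result (k : Type u) [Field k] [IsAlgClosed k] (X : Scheme.{u})
    [X.Over (Spec (CommRingCat.of k))] [IsProper (X ↘ (Spec (CommRingCat.of k)))] [IsIntegral X]
    (hreg : ∀ x : X, IsRegularLocalRing (X.presheaf.stalk x))
    (n : ℕ) (hdim : topologicalKrullDim X = n) (U : X.Opens) (s : ℕ)
    (hY : topologicalKrullDim ((U : Set X)ᶜ : Set X) ≤ (s : WithBot ℕ∞))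
    (F : (U : Scheme.{u}).Modules) (hF : FlatMod.IsFinLocFree F) (i : ℕ) (hi : i + s + 1 < n) :
    Module.Finite k (Coh.HH (U : Scheme.{u}) F i) := by
  classical
  let f := X ↘ Spec (CommRingCat.of k)
  haveI := EulerLib.isNoetherian_of_proper (k := k) (X := X)
  haveI : X.IsSeparated := EulerLib.isSeparated_of_proper (X := X) k
  haveI : ∀ (V W : Scheme.{u}) (j : V ⟶ W) [IsOpenImmersion j],
      PreservesFiniteLimits (Scheme.Modules.restrictFunctor j) := fun V W j _ =>
    DCat.PullPerf.preservesFiniteLimits_restrict j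
  haveI : ∀ (S : CommRingCat.{u}), PreservesFiniteLimits (tilde.functor S) :=
    AffSchLib.preservesFiniteLimits_tilde
  haveI := DCat.hasRpush f
  have hf : DCoh.RpushPreservesQCoh f := fun K hK => DQCoh.isQCohD_Rpush f K hK
  haveI : DCoh.HasShriek f hf := Dual22Lib.AdjGeom.isLeftAdjoint_RpushQ f hf
  let OY : DCoh.DQCoh (Spec (CommRingCat.of k)) :=
    ⟨DCoh.inD (Spec (CommRingCat.of k)) (Coh.structureModule (Spec (CommRingCat.of k))),
      haveI : Coh.IsQCoh (Coh.structureModule (Spec (CommRingCat.of k))) := Coherent.isQCoh_structureModule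
      FlatBC14.isQCohD_inD _⟩
  have hgor : ∀ y : X, LocCoh.IsGorensteinLocalRing (X.presheaf.stalk y) := fun y =>
    haveI := hreg y
    S0342.result _
  have hequi : ∀ Z ∈ irreducibleComponents (X : Type u), topologicalKrullDim Z = n := fun Z hZ => by
    rw [irreducibleComponents_eq_singleton] at hZ
    rw [Set.mem_singleton_iff.1 hZ, ← hdim]
    exact IsHomeomorph.topologicalKrullDim_eq _ (Homeomorph.Set.univ X).isHomeomorph
  obtain ⟨ω, hω, hωi, t, ht⟩ : ∃ ω : X.Modules, Coh.IsCoh ω ∧ PicF.IsInvertible ω ∧ ∃ t : Coh.HH X ω n →ₗ[k] k,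
      ∀ G : X.Modules, Coh.IsQCoh G → SerreDual.Rep t G :=
    ⟨_, DualMod3.isCoh k X hf OY ⟨Iso.refl _⟩ n,
      CohDim22.isInvertible_dualizingMod_dim n k X hequi hgor hf OY ⟨Iso.refl _⟩,
      DualMod3.exists_rep k X hf OY ⟨Iso.refl _⟩ (d := n) hdim.le⟩
  haveI := hω.1
  haveI : IsGrothendieckAbelian.{u} X.Modules := DCat.schemeModules_isGrothendieckAbelian X
  haveI : IsGrothendieckAbelian.{u} (U : Scheme.{u}).Modules :=
    DCat.schemeModules_isGrothendieckAbelian (U : Scheme.{u})
  haveI : HasExt.{u} X.Modules := inferInstance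
  haveI : HasExt.{u} (U : Scheme.{u}).Modules := inferInstance
  have hCM : ∀ y : X, LocCoh.IsCohenMacaulayLocalRing (X.presheaf.stalk y) := fun y =>
    haveI := hreg y
    CAlgH3.isCohenMacaulayLocalRing_of_regular _
  have heq : ∀ y : X, IsClosed ({y} : Set X) → ringKrullDim (X.presheaf.stalk y) = n := fun y hy => by
    rw [GrpdField.ringKrullDim_stalk_of_equidim f (fun z hz => ?_) y hy, hdim]
    have hzg : z = genericPoint X := hz _ (genericPoint_specializes z)
    subst hzg
    exact (DimLib.topologicalKrullDim_eq_ptDim_of_isGenericPoint f (genericPoint_spec X)).symm.trans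
      (IsHomeomorph.topologicalKrullDim_eq _ (Homeomorph.Set.univ X).isHomeomorph)
  let R := Scheme.Modules.restrictFunctor U.ι
  haveI : PreservesFiniteColimits R :=
    haveI : R.IsLeftAdjoint := (Scheme.Modules.restrictAdjunction U.ι).isLeftAdjoint
    inferInstance
  haveI : IsLocallyNoetherian (U : Scheme.{u}) := isLocallyNoetherian_of_isOpenImmersion U.ι
  haveI : R.Linear k := CohDim22.linear_restrict U k
  -- the coherent extension
  have hLi : PicF.IsInvertible (R.obj ω) := ParaF29.isInvertible_restrict U.ι hωi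
  obtain ⟨D, hD⟩ := VarietyLib.exists_isInverseOf hLi
  have hLf : FlatMod.IsFinLocFree (R.obj ω) := SerreDual.isFinLocFree_of_invertible hLi
  have hO := Coherent.CohBC.isFinLocFree_structureModule (U : Scheme.{u})
  let E := CohB1.tensorMod F D
  have hE : FlatMod.IsFinLocFree E :=
    ExtFilt28.isFinLocFree_tensor hF (SerreDual.isFinLocFree_of_invertible (Lef23.isInvertible_inverse hLi hD))
  let E' := internalHom E (Coh.structureModule (U : Scheme.{u}))
  have hE' : FlatMod.IsFinLocFree E' := Coherent.CohBC.isFinLocFree_internalHom hE hO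
  obtain ⟨G, hG, ⟨eG⟩⟩ := KLoc28.exists_ext (X := X) (U := U) E' (Coherent.CohBC.isCoh_of_isFinLocFree hE')
  have hGU : FlatMod.IsFinLocFree (R.obj G) := FlatMorAdm.isFinLocFree_of_iso eG.symm hE'
  haveI := hG.1
  -- `Hom(G|U, ω|U) ≅ F`
  obtain ⟨u⟩ := hD
  obtain ⟨w₁⟩ := DualLib.RelTop.nonempty_internalHom_congr eG (R.obj ω)
  obtain ⟨w₂⟩ := EulerLib.exists_assocIso' F (Lef23.isInvertible_inverse hLi ⟨u⟩) hLi
  haveI := Coherent.isIso_contract hE (R.obj ω)
  let eF : internalHom (R.obj G) (R.obj ω) ≅ F :=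
    w₁ ≪≫ (asIso (contractBilin E (R.obj ω)).desc).symm ≪≫
      w₂ ≪≫ AmpleLib.tensorIso (Iso.refl F) (AmpleLib.tensorComm D (R.obj ω) ≪≫ u) ≪≫
      AmpleLib.tensorComm F _ ≪≫ AmpleLib.unitTensorIso F
  -- finiteness of `Ext^i(G, ω)`
  obtain ⟨Φ, hΦ, hΦn⟩ := Mod22.CMDual.exists_extDuality k X n hdim hCM heq t ht i (n - i) (by omega)
  haveI : Module.Finite k (Abelian.Ext.{u} G ω i) := CohDim22.finite_ext k Φ hΦ hΦn G hG
    (CurveRR24.finite_HH_of_isCoh k hG (n - i))
  obtain ⟨Ψ, hΨ, hΨn⟩ := Mod22.CMDual.exists_extDuality k X n hdim hCM heq t ht (i + 1) (n - (i + 1)) (by omega)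
  let I : X.IdealSheafData := Scheme.IdealSheafData.vanishingIdeal ⟨(U : Set X)ᶜ, U.2.isClosed_compl⟩
  have hIU : (U : Set X) = (I.support : Set X)ᶜ := by simp [I]
  have hsurj : Function.Surjective (R.mapExtLinearMap k G ω i) := by
    intro ξ
    obtain ⟨m, ζ, hζ⟩ := CohDim22.extend_ext U I hIU hG i ω inferInstance ξ
    let η := (Scheme.Modules.pullbackPushforwardAdjunction (I ^ m).subschemeι).unit.app G
    haveI : Epi η := Coherent.epi_clUnit (I ^ m).subschemeι
    let S : ShortComplex X.Modules := ShortComplex.mk (Dual3.idealMulι (I ^ m) G) η (kernel.condition η)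
    have hS : S.ShortExact :=
      { exact := ShortComplex.exact_of_f_is_kernel _ (kernelIsKernel η)
        mono_f := inferInstanceAs (Mono (Dual3.idealMulι (I ^ m) G)), epi_g := ‹Epi η› }
    have hdisj : Disjoint (U : Set X) (Set.range (I ^ m).subschemeι.base) := by
      rw [Scheme.IdealSheafData.range_subschemeι, hIU, Set.disjoint_compl_left_iff_subset]
      exact support_pow_subset I m
    haveI := Groth.Agent.EGA43.InjFibre.isQCoh_pullback (I ^ m).subschemeι G
    haveI hQ : Coh.IsQCoh S.X₃ := Coherent.isQCoh_push (I ^ m).subschemeι ((Scheme.Modules.pullback (I ^ m).subschemeι).obj G)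
    have hsub : Subsingleton (Coh.HH X S.X₃ (n - (i + 1))) := by
      refine GVan16.subsingleton_HH_of_support S.X₃ s (fun y hy => ?_) _ (by omega)
      have hys : y ∈ ((U : Set X)ᶜ : Set X) := by
        have h1 := support_pow_subset I m ((I ^ m).range_subschemeι.subset
          (Coherent.support_push_subset (I ^ m).subschemeι _ hy))
        rw [hIU, compl_compl]
        exact h1
      exact le_trans (Topology.IsInducing.topologicalKrullDim_le
        (Topology.IsEmbedding.inclusion (U.2.isClosed_compl.closure_subset_iff.2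
          (Set.singleton_subset_iff.2 hys))).isInducing) hY
    haveI : Subsingleton (Coh.HH X S.X₃ (n - (i + 1)) →ₗ[k] k) :=
      ⟨fun a b => LinearMap.ext fun z => by rw [hsub.elim z 0, map_zero, map_zero]⟩
    haveI : Subsingleton (Abelian.Ext.{u} S.X₃ ω (i + 1)) := (hΨ S.X₃ hQ).1.subsingleton
    obtain ⟨ζ₀, hζ₀⟩ := Abelian.Ext.contravariant_sequence_exact₁ hS ω ζ (Nat.add_comm 1 i)
      (Subsingleton.elim _ _)
    refine ⟨ζ₀, ?_⟩
    have hSR := hS.map_of_exact R
    have hz : IsZero (R.obj S.X₃) := RelPerfH3.ExtSupp.isZero_restrict_push _ _ _ hdisj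
    haveI : IsIso (S.map R).f :=
      haveI := hSR.mono_f
      haveI : Epi (S.map R).f := hSR.exact.epi_f (hz.eq_of_tgt _ _)
      isIso_of_mono_of_epi _
    haveI : IsIso (R.map S.f) := ‹IsIso (S.map R).f›
    have h1 : (Abelian.Ext.mk₀ (R.map S.f)).comp (ζ₀.mapExactFunctor R) (zero_add i) =
        (Abelian.Ext.mk₀ (R.map S.f)).comp ξ (zero_add i) := by
      rw [← Abelian.Ext.mapExactFunctor_mk₀ R S.f, ← Abelian.Ext.mapExactFunctor_comp, hζ₀, hζ,
        Abelian.Ext.mapExactFunctor_mk₀]
    exact (ExtLF.extCongrLeft (asIso (R.map S.f)).symm _ i).injective h1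
  haveI : Module.Finite k (Abelian.Ext.{u} (R.obj G) (R.obj ω) i) := Module.Finite.of_surjective _ hsurj
  haveI : Module.Finite k (Coh.HH (U : Scheme.{u}) (internalHom (R.obj G) (R.obj ω)) i) :=
    Module.Finite.equiv (SerreDual.extLocFreeEquiv k hGU (R.obj ω) i)
  exact Module.Finite.equiv (LinearEquiv.ofLinear (SerreDual.hmap k eF.hom i) (SerreDual.hmap k eF.inv i)
    (by rw [← SerreDual.hmap_comp, eF.inv_hom_id, SerreDual.hmap_id])
    (by rw [← SerreDual.hmap_comp, eF.hom_inv_id, SerreDual.hmap_id]))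

end Groth.Agent.S11391
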