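import Groth.Statements.S11394
import Groth.Agent.CohDer1.Blanchard.Const
-- import your own Groth.Agent.* helpers here

set_option autoImplicit false
universe u
open CategoryTheory MonoidalCategory CartesianMonoidalCategory MonObj GrpObj AlgebraicGeometry CategoryTheory.Limits
open AlgGrp

namespace Groth.Agent.S11394

/-- Over an algebraically closed field k, let f : X → Y be a proper morphism of k-schemes of finite type
such that the induced map from sections of O_Y to sections of O_X is bijective over every open
subset of Y, and let G be a connected k-group scheme of finite type acting on X. Then there is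
exactly one action of G on Y for which f is G-equivariant. -/
theorem result (k : Type u) [Field k] [IsAlgClosed k]
    (G X Y : Over (Spec (CommRingCat.of k))) [GrpObj G] [LocallyOfFiniteType G.hom] [QuasiCompact G.hom]
    [ConnectedSpace ↥G.left] [LocallyOfFiniteType X.hom] [QuasiCompact X.hom]
    [LocallyOfFiniteType Y.hom] [QuasiCompact Y.hom]
    (f : X ⟶ Y) [IsProper f.left] (hf : ∀ U : Y.left.Opens, IsIso (f.left.app U))
    (a : AlgGrp.Action G X) :
    ∃! b : AlgGrp.Action G Y, (G ◁ f) ≫ b.act = a.act ≫ f := by
  have hf' : ∀ U : Y.left.Opens, Function.Bijective (f.left.app U) := fun U => by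
    haveI := hf U
    exact ConcreteCategory.bijective_of_isIso _
  obtain ⟨b, hb⟩ := Groth.Agent.CohDer1.Blanchard.exists_action f a hf'
    (Groth.Agent.CohDer1.Blanchard.const_of_connected a f hf')
  exact ⟨b, hb, fun b' hb' => Groth.Agent.CohDer1.Blanchard.unique_action f a hf' b' b hb' hb⟩

end Groth.Agent.S11394
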