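import Groth.Statements.S11398
import Groth.Agent.AlgGrpLib.LargestNormal
import Groth.Agent.AlgGrpLib.AffineToProper

set_option autoImplicit false
universe u
open CategoryTheory MonoidalCategory CartesianMonoidalCategory MonObj GrpObj AlgebraicGeometry CategoryTheory.Limits
open AlgGrp

namespace Groth.Agent.S11398

/-- Over an algebraically closed field k, every algebraic group G (a smooth k-group scheme of finite
type) has a largest connected affine normal algebraic subgroup G_aff: a homomorphism and closed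
immersion i : N → G from a smooth, connected, affine k-group scheme, normal in G, through which
every other such subgroup factors. Moreover the quotient G/G_aff has trivial G_aff: for every flat
surjective homomorphism q : G → Q of k-group schemes of finite type with kernel i, every smooth
connected affine normal closed subgroup of Q is the trivial group. -/
theorem result (k : Type u) [Field k] [IsAlgClosed k]
    (G : Over (Spec (CommRingCat.of k))) [GrpObj G] [Smooth G.hom] [QuasiCompact G.hom] :
    ∃ (N : Over (Spec (CommRingCat.of k))) (_ : GrpObj N) (i : N ⟶ G), (IsMonHom i ∧ IsClosedImmersion i.left ∧ Smooth N.hom ∧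
      ConnectedSpace ↥N.left ∧ IsAffine N.left ∧ AlgGrp.IsNormalHom i) ∧
      (∀ (N' : Over (Spec (CommRingCat.of k))) [GrpObj N'] (i' : N' ⟶ G) [IsMonHom i'] [IsClosedImmersion i'.left]
        [Smooth N'.hom] [ConnectedSpace ↥N'.left] [IsAffine N'.left], AlgGrp.IsNormalHom i' → ∃ f : N' ⟶ N, f ≫ i = i') ∧
      (∀ (Q : Over (Spec (CommRingCat.of k))) [GrpObj Q] [LocallyOfFiniteType Q.hom] [QuasiCompact Q.hom] (q : G ⟶ Q) [IsMonHom q]
        [Surjective q.left] [Flat q.left], AlgGrp.IsKernel i q →
        ∀ (N'' : Over (Spec (CommRingCat.of k))) [GrpObj N''] (i'' : N'' ⟶ Q) [IsMonHom i''] [IsClosedImmersion i''.left]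
          [Smooth N''.hom] [ConnectedSpace ↥N''.left] [IsAffine N''.left], AlgGrp.IsNormalHom i'' → IsIso N''.hom) := by
  open Groth.Agent.AlgGrpLib.LargestNormal in
  let P : GrpProp k := fun E _ => IsAffine E.left
  have hPa : Groth.Agent.AlgGrpLib.LargestNormal.ExtStable P := fun N E Q _ _ _ _ _ _ _ _ _ i q _ _ _ _ hk hN hQ =>
    (Groth.Agent.S7982.result k N E Q i q hk).1 hN hQ
  have hPb : Groth.Agent.AlgGrpLib.LargestNormal.QuotStable P := fun E Q _ _ _ _ _ _ q _ _ _ hE => by
    haveI : IsAffine E.left := hE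
    exact Groth.Agent.AlgGrpLib.AffineToProper.isAffine_of_flat_surjective q
  have h0 : Nonempty (Groth.Agent.AlgGrpLib.LargestNormal.Good P G) := by
    haveI : IsAffine (𝟙_ (Over (Spec (CommRingCat.of k)))).left :=
      inferInstanceAs (IsAffine (Spec (CommRingCat.of k)))
    refine ⟨⟨𝟙_ _, inferInstance, η[G], inferInstance, ?_, inferInstanceAs (Smooth (𝟙 (Spec (CommRingCat.of k)))),
      inferInstanceAs (ConnectedSpace (PrimeSpectrum k)), ?_, ‹_›⟩⟩
    · exact Groth.Agent.SGA3xLib.isClosedImmersion_of_section G.hom η[G].left (Over.w η[G])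
    · intro T g n
      refine ⟨n, ?_⟩
      rw [MonObj.one_eq_one, MonObj.comp_one]
      simp
  obtain ⟨⟨N, hNg, i, a1, a2, a3, a4, a5, a6⟩, hmax⟩ := Groth.Agent.AlgGrpLib.LargestNormal.exists_largest hPa hPb h0
  refine ⟨N, hNg, i, ⟨a1, a2, a3, a4, a6, a5⟩, fun N' _ i' hi' c1 c2 c3 c4 c5 => ?_, ?_⟩
  · exact hmax ⟨N', inferInstance, i', hi', c1, c2, c3, c5, c4⟩
  · intro Q _ _ _ q _ _ _ hk N'' _ i'' hi'' c1 c2 c3 c4 c5
    have h := Groth.Agent.AlgGrpLib.LargestNormal.isIso_unit_of_quotient hPa ⟨N, hNg, i, a1, a2, a3, a4, a5, a6⟩ hmax Q q hk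
      ⟨N'', inferInstance, i'', hi'', c1, c2, c3, c5, c4⟩
    haveI : IsIso η[N''] := h
    haveI : IsIso η[N''].left := inferInstanceAs (IsIso ((Over.forget _).map η[N'']))
    haveI : IsIso (η[N''].left ≫ N''.hom) := by rw [Over.w]; exact inferInstanceAs (IsIso (𝟙 _))
    exact IsIso.of_isIso_comp_left η[N''].left N''.hom

end Groth.Agent.S11398
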