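import Groth.Statements.S11412
import Groth.Agent.GrpQLib.SubgroupThick
import Groth.Agent.AlgGrpLib.AntiAffineSections
import Groth.Agent.AlgGrpLib.AntiAffine
import Groth.Agent.AlgGrpLib.SubGrpMono
import Groth.Agent.S11936
import Groth.Agent.S2535
import Mathlib.AlgebraicGeometry.Group.Smooth
import Groth.Agent.GrpdLib.SmoothOverField
import Groth.Agent.SGA3cLib.DiagPoints
import Groth.Agent.AlgGrpLib.MultTypeAction2
set_option backward.isDefEq.respectTransparency.types false

set_option autoImplicit false
universe u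
open CategoryTheory MonoidalCategory CartesianMonoidalCategory MonObj GrpObj AlgebraicGeometry CategoryTheory.Limits
open AlgGrp

namespace Groth.Agent.S11412

/-- Over an algebraically closed field k, let G be a k-group scheme of finite type whose only global
functions are the constants. Then G is reduced, i.e. smooth over k, and for every closed subgroup
scheme H of G and every quotient G/H (a k-scheme X of locally finite type with a G-action and a
rational point o whose orbit map is flat and surjective and identifies G × H with G ×_X G), the only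
global functions on X are the constants. (The published statement also records that G is connected
and commutative.) -/
theorem result (k : Type u) [Field k] [IsAlgClosed k]
    (G : Over (Spec (CommRingCat.of k))) [GrpObj G] [LocallyOfFiniteType G.hom] [QuasiCompact G.hom]
    (hG : Function.Bijective ((Scheme.ΓSpecIso (CommRingCat.of k)).inv ≫ G.hom.appTop).hom) :
    Smooth G.hom ∧
      ∀ (H : Over (Spec (CommRingCat.of k))) [GrpObj H] (h : H ⟶ G) [IsMonHom h] [IsClosedImmersion h.left]
        (X : Over (Spec (CommRingCat.of k))) (a : AlgGrp.Action G X) (o : 𝟙_ (Over (Spec (CommRingCat.of k))) ⟶ X), AGF.IsQuotient h X a o →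
        Function.Bijective ((Scheme.ΓSpecIso (CommRingCat.of k)).inv ≫ X.hom.appTop).hom := by
  have hG' := Groth.Agent.AlgGrpLib.bijective_appTop_of_const hG
  haveI : CompactSpace G.left := QuasiCompact.compactSpace_of_compactSpace G.hom
  haveI : IsLocallyNoetherian G.left := LocallyOfFiniteType.isLocallyNoetherian G.hom
  haveI : LocallyOfFinitePresentation G.hom := inferInstance
  haveI := Groth.Agent.AlgGrpLib.nonempty_of_bijective hG'
  let I := Scheme.IdealSheafData.vanishingIdeal (⊤ : TopologicalSpace.Closeds G.left)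
  haveI : IsReduced I.subscheme := Props12.isReduced_subscheme_vanishingIdeal _
  let F : Over (Spec (CommRingCat.of k)) := Over.mk (I.subschemeι ≫ G.hom)
  haveI : IsReduced F.left := inferInstanceAs (IsReduced I.subscheme)
  let j : F ⟶ G := Over.homMk I.subschemeι rfl
  haveI : IsClosedImmersion j.left := inferInstanceAs (IsClosedImmersion I.subschemeι)
  haveI hjs : Surjective j.left := ⟨fun x => by
    have h : x ∈ Set.range I.subschemeι := by
      rw [Scheme.IdealSheafData.range_subschemeι, Scheme.IdealSheafData.coe_support_vanishingIdeal]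
      exact Set.mem_univ x
    exact h⟩
  haveI : Mono j := Over.mono_of_mono_left _
  obtain ⟨⟨m, hm⟩, ⟨v, hv⟩, ⟨e, he⟩⟩ := Groth.Agent.S11936.result k G F j
  obtain ⟨gF, hj⟩ := Groth.Agent.AlgGrpLib.exists_grpObj_of_mono j ⟨e, he.trans (MonObj.one_eq_one G)⟩
    ⟨m, by rw [hm, Hom.mul_def]; congr 1⟩ ⟨v, by rw [hv, Hom.inv_def]⟩
  haveI : Nonempty F.left := ⟨(hjs.surj (Classical.arbitrary G.left)).choose⟩
  haveI : Flat F.hom := GrpdLib.flat_to_field F.hom k (Iso.refl _)
  haveI : Surjective F.hom := ⟨fun s => ⟨Classical.arbitrary F.left,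
    ((inferInstance : Subsingleton (PrimeSpectrum k))).elim _ _⟩⟩
  haveI : LocallyOfFiniteType F.hom := inferInstanceAs (LocallyOfFiniteType (I.subschemeι ≫ G.hom))
  haveI : LocallyOfFinitePresentation F.hom := inferInstance
  obtain ⟨Y, p, hps, hpf, -, sq⟩ := Groth.Agent.GrpQLib.exists_quotient_subgroup_thickening j
  have hkey : ∀ x y : G.left, p x = p y := fun x y => by
    obtain ⟨z, hz1, hz2⟩ := Scheme.Pullback.exists_preimage_pullback (f := G.hom) (g := G.hom) x y
      (((inferInstance : Subsingleton (PrimeSpectrum k))).elim _ _)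
    let sh : G ⊗ G ⟶ G ⊗ G := lift (fst G G * snd G G) (fst G G)
    haveI : IsIso sh := ⟨lift (snd G G) ((snd G G)⁻¹ * fst G G),
      CartesianMonoidalCategory.hom_ext _ _ (by simp [sh, MonObj.comp_mul, GrpObj.comp_inv])
        (by simp [sh, MonObj.comp_mul, GrpObj.comp_inv]),
      CartesianMonoidalCategory.hom_ext _ _ (by simp [sh, MonObj.comp_mul, GrpObj.comp_inv])
        (by simp [sh, MonObj.comp_mul, GrpObj.comp_inv])⟩
    haveI : Surjective (G ◁ j).left := MorphismProperty.pullbackMap (P := @Surjective.{u})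
      (inferInstanceAs (Surjective (𝟙 G.left))) hjs (Category.id_comp G.hom).symm (Over.w j).symm
    haveI : IsIso sh.left := inferInstanceAs (IsIso ((Over.forget _).map sh))
    haveI : Surjective ((G ◁ j) ≫ sh).left := ⟨fun z => by
      obtain ⟨z', hz'⟩ := sh.left.surjective z
      obtain ⟨w, hw⟩ := (G ◁ j).left.surjective z'
      exact ⟨w, by rw [Over.comp_left, Scheme.Hom.comp_apply, hw, hz']⟩⟩
    obtain ⟨w, hw⟩ := ((G ◁ j) ≫ sh).left.surjective z
    have e1 : ((G ◁ j) ≫ sh) ≫ fst G G = Groth.Agent.GrpQLib.rightAct j := by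
      simp [sh, MonObj.comp_mul]
    have e2 : ((G ◁ j) ≫ sh) ≫ snd G G = fst G F := by simp [sh]
    have a1 : (Groth.Agent.GrpQLib.rightAct j).left w = x := by
      rw [← e1, Over.comp_left, Scheme.Hom.comp_apply, hw]; exact hz1
    have a2 : (fst G F).left w = y := by
      rw [← e2, Over.comp_left, Scheme.Hom.comp_apply, hw]; exact hz2
    rw [← a1, ← a2, ← Scheme.Hom.comp_apply, ← Scheme.Hom.comp_apply, sq.w]
  have hYsub : Subsingleton Y := ⟨fun a b => by
    obtain ⟨x, rfl⟩ := p.surjective a
    obtain ⟨y, rfl⟩ := p.surjective b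
    exact hkey x y⟩
  haveI : IsAffine Y := by
    obtain ⟨_, ⟨U, hU, rfl⟩, hyU, -⟩ := Y.isBasis_affineOpens.exists_subset_of_mem_open
      (Set.mem_univ (p (Classical.arbitrary G.left))) isOpen_univ
    have htop : U = ⊤ := top_le_iff.1 fun y _ => hYsub.elim (p (Classical.arbitrary G.left)) y ▸ hyU
    subst htop
    haveI : IsAffine ((⊤ : Y.Opens) : Scheme) := hU
    exact IsAffine.of_isIso Y.topIso.inv
  haveI : IsIso G.hom.appTop := (ConcreteCategory.isIso_iff_bijective _).2 hG'
  have hp : p = G.hom ≫ (Spec (CommRingCat.of k)).toSpecΓ ≫ Spec.map (p.appTop ≫ inv G.hom.appTop) ≫ Y.isoSpec.inv := by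
    rw [← cancel_mono Y.isoSpec.hom]
    simp only [Category.assoc, Iso.inv_hom_id, Category.comp_id]
    rw [Scheme.toSpecΓ_naturality_assoc, ← Spec.map_comp, Category.assoc, IsIso.inv_hom_id, Category.comp_id,
      ← Scheme.toSpecΓ_naturality]
    rfl
  have hsplit : ∃ r : G ⟶ F, r ≫ j = 𝟙 G := by
    have h : (𝟙 G : G ⟶ G).left ≫ p = (toUnit G ≫ η[G]).left ≫ p := by
      rw [hp, ← Category.assoc, ← Category.assoc (toUnit G ≫ η[G]).left]
      congr 1
      rw [Over.w (𝟙 G), Over.w (toUnit G ≫ η[G])]
    obtain ⟨r, hr1, hr2⟩ := sq.exists_lift (𝟙 G : G ⟶ G).left (toUnit G ≫ η[G]).left h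
    let r' : G ⟶ G ⊗ F := Over.homMk r (by
      refine (congrArg (r ≫ ·) (Over.w (fst G F)).symm).trans ?_
      exact (Category.assoc _ _ _).symm.trans ((congrArg (· ≫ G.hom) hr2).trans (Over.w (toUnit G ≫ η[G]))))
    have h1 : r' ≫ Groth.Agent.GrpQLib.rightAct j = 𝟙 G := Over.OverMorphism.ext hr1
    have h2 : r' ≫ fst G F = 1 := by rw [Hom.one_def]; exact Over.OverMorphism.ext hr2
    refine ⟨r' ≫ snd G F, ?_⟩
    rw [Groth.Agent.GrpQLib.comp_rightAct, h2, _root_.one_mul] at h1
    exact h1
  obtain ⟨r, hr⟩ := hsplit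
  haveI : IsIso j := ⟨r, by rw [← cancel_mono j, Category.assoc, hr, Category.id_comp, Category.comp_id], hr⟩
  haveI : IsIso (inv j).left := inferInstanceAs (IsIso ((Over.forget _).map (inv j)))
  haveI : IsReduced G.left := isReduced_of_isOpenImmersion (inv j).left
  refine ⟨?_, fun H _ h _ _ X a o hq => ?_⟩
  · haveI : IsIso (Spec.map (CommRingCat.ofHom (algebraMap k k))) := by
      rw [Algebra.algebraMap_self, CommRingCat.ofHom_id, Spec.map_id]; infer_instance
    haveI : IsIso (pullback.fst G.hom (Spec.map (CommRingCat.ofHom (algebraMap k k)))) :=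
      pullback_fst_iso_of_right_iso _ _
    haveI : IsOpenImmersion (pullback.fst G.hom (Spec.map (CommRingCat.ofHom (algebraMap k k)))) :=
      IsOpenImmersion.of_isIso _
    have hred : AlgebraicGeometry.IsReduced (pullback G.hom (Spec.map (CommRingCat.ofHom (algebraMap k k)))) :=
      isReduced_of_isOpenImmersion (pullback.fst G.hom (Spec.map (CommRingCat.ofHom (algebraMap k k))))
    haveI : AlgebraicGeometry.IsReduced (FBase.bc G.hom k) := hred
    haveI := Groth.Agent.S2535.result (k := k) (Ω := k) G.hom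
    letI : GrpObj (Over.mk G.hom) := ‹GrpObj G›
    exact smooth_of_grpObj G.hom
  · obtain ⟨hl, hf, hs, -⟩ := hq
    let f := (a.orbitMap o).left
    haveI : Nonempty X.left := ⟨f (Classical.arbitrary G.left)⟩
    haveI := hf
    haveI := hs
    haveI : Epi f := Flat.epi_of_flat_of_surjective f
    have hinj : Function.Injective f.appTop := fun x y exy => by
      obtain ⟨s, hs'⟩ := SGA3cLib.exists_gaFn (S := Spec (CommRingCat.of k)) x
      obtain ⟨t, ht'⟩ := SGA3cLib.exists_gaFn (S := Spec (CommRingCat.of k)) y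
      haveI : Epi (a.orbitMap o) := Over.epi_of_epi_left _
      rw [← hs', ← ht']
      exact congrArg Red.gaFn ((cancel_epi (a.orbitMap o)).1 (SGA3cLib.gaFn_injective (by
        rw [SGA3cLib.gaFn_comp, SGA3cLib.gaFn_comp, hs', ht']; exact exy)))
    have h4 : G.hom.appTop = X.hom.appTop ≫ f.appTop := by
      rw [← Scheme.Hom.comp_appTop, Over.w (a.orbitMap o)]
    replace hG' : Function.Bijective (fun c => f.appTop (X.hom.appTop c)) := by
      rw [h4] at hG'; exact hG'
    have hX : Function.Bijective X.hom.appTop :=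
      ⟨hG'.1.of_comp, fun x => by
        obtain ⟨c, hc⟩ := hG'.2 (f.appTop x)
        exact ⟨c, hinj hc⟩⟩
    exact hX.comp (ConcreteCategory.bijective_of_isIso (Scheme.ΓSpecIso (CommRingCat.of k)).inv)

end Groth.Agent.S11412
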