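import Groth.Statements.S11401
import Groth.Agent.AlgGrpLib.CentreSolvable
import Groth.Agent.AlgGrpLib.SolvableSpecial
import Groth.Agent.AlgGrpLib.AntiAffineMul
import Groth.Agent.AlgGrpLib.ImageSubgroup
import Groth.Agent.AlgGrpLib.SubgroupCalc
import Groth.Agent.AlgGrpLib.BorelFixed
import Groth.Agent.HopfOneDim.Comm
import Groth.Agent.S7996
import Groth.Agent.S11412

set_option autoImplicit false
set_option backward.isDefEq.respectTransparency.types false
set_option maxHeartbeats 800000
universe u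
open CategoryTheory MonoidalCategory CartesianMonoidalCategory MonObj GrpObj AlgebraicGeometry CategoryTheory.Limits
open AlgGrp WithConv Groth.Agent.HopfQuot

namespace Groth.Agent.S11401

/-- Over an algebraically closed field k, let G be a connected algebraic group (smooth k-group scheme of
finite type), let i : N → G be its largest connected affine normal algebraic subgroup G_aff (a
homomorphism and closed immersion from a smooth, connected, affine k-group scheme, normal in G,
through which every other such subgroup factors), and let α : G → A be a flat surjective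
homomorphism with kernel i onto a proper smooth k-group scheme A (so A = G/G_aff). Then α is a
Zariski-locally trivial principal bundle: every point of A has an open neighbourhood over which α
admits a section. -/
theorem result (k : Type u) [Field k] [IsAlgClosed k]
    (G : Over (Spec (CommRingCat.of k))) [GrpObj G] [Smooth G.hom] [QuasiCompact G.hom] [ConnectedSpace ↥G.left]
    (N : Over (Spec (CommRingCat.of k))) [GrpObj N] (i : N ⟶ G) [IsMonHom i] [IsClosedImmersion i.left]
    [Smooth N.hom] [ConnectedSpace ↥N.left] [IsAffine N.left] (hN : AlgGrp.IsNormalHom i)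
    (hNmax : ∀ (N' : Over (Spec (CommRingCat.of k))) [GrpObj N'] (i' : N' ⟶ G) [IsMonHom i'] [IsClosedImmersion i'.left]
      [Smooth N'.hom] [ConnectedSpace ↥N'.left] [IsAffine N'.left], AlgGrp.IsNormalHom i' → ∃ f : N' ⟶ N, f ≫ i = i')
    (A : Over (Spec (CommRingCat.of k))) [GrpObj A] [IsProper A.hom] [Smooth A.hom] (α : G ⟶ A) [IsMonHom α]
    [Surjective α.left] [Flat α.left] (hker : AlgGrp.IsKernel i α) (y : ↥A.left) :
    ∃ U : A.left.Opens, y ∈ U ∧ ∃ s : ↑U ⟶ G.left, s ≫ α.left = U.ι := by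
  classical
  haveI : LocallyOfFiniteType G.hom := inferInstance
  haveI : LocallyOfFiniteType A.hom := inferInstance
  haveI : CompactSpace G.left := QuasiCompact.compactSpace_of_compactSpace G.hom
  haveI : IsLocallyNoetherian G.left := LocallyOfFiniteType.isLocallyNoetherian G.hom
  haveI : IsReduced G.left := AbSchLib.isReduced_of_smooth G.hom
  haveI : ConnectedSpace A.left := α.left.surjective.connectedSpace α.left.continuous
  haveI : Mono i := Over.mono_of_mono_left i
  haveI : LocallyOfFiniteType N.hom := inferInstance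
  haveI : QuasiCompact α.left := by
    haveI : QuasiCompact (α.left ≫ A.hom) := by rw [Over.w]; infer_instance
    exact QuasiCompact.of_comp α.left A.hom
  -- the anti-affine part
  obtain ⟨gT, hρ, M, gM, j, hj, hjc, hMl, hMq, hMb, hTl, hTf, hTs, hkerM⟩ :=
    AlgGrpLib.AffineHull.exists_antiAffine_kernel G
  letI := gM
  haveI := hj; haveI := hjc; haveI := hMl; haveI := hMq
  have hMb' : Function.Bijective ((Scheme.ΓSpecIso (CommRingCat.of k)).inv ≫ M.hom.appTop).hom :=
    hMb.comp (ConcreteCategory.bijective_of_isIso (Scheme.ΓSpecIso (CommRingCat.of k)).inv)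
  haveI : Smooth M.hom := (Groth.Agent.S11412.result k M hMb').1
  haveI : IsAffine (AlgGrpLib.affOf G).left := inferInstanceAs (IsAffine (Spec _))
  have hcentral : ∀ {X : Over (Spec (CommRingCat.of k))} (h : X ⟶ M) (g : X ⟶ G), (h ≫ j) * g = g * (h ≫ j) := by
    intro X h g
    have := Groth.Agent.S7996.result k M G hMb' j X h X (𝟙 X) g
    rwa [Category.id_comp] at this
  have hgen : Surjective ((i ⊗ₘ j) ≫ μ[G]).left := AlgGrpLib.AffineHull.surjective_mul G i hN α hker j
    fun M₁ _ _ _ j₁ _ _ hb => AlgGrpLib.exists_lift_kernel hkerM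
      (AlgGrpLib.AffineHull.eq_one_of_isAffine hb (j₁ ≫ AlgGrpLib.toAffOf G))
  have hiα : i ≫ α = 1 := AlgGrpLib.kernel_comp hker
  -- a solvable subgroup of `N` containing its centre
  obtain ⟨C, _, _, e, heiso, hemon⟩ := HopfQuot.exists_spec (k := k) N
  haveI := heiso; haveI := hemon
  haveI : IsIso e.left := inferInstanceAs (IsIso ((Over.forget _).map e))
  haveI : IsReduced N.left := AbSchLib.isReduced_of_smooth N.hom
  haveI : ConnectedSpace (HopfQuot.spec (k := k) C).left :=
    (inv e.left).homeomorph.surjective.connectedSpace (inv e.left).homeomorph.continuous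
  haveI : IsReduced (HopfQuot.spec (k := k) C).left := isReduced_of_isOpenImmersion e.left
  haveI : _root_.IsReduced C := (affine_isReduced_iff (CommRingCat.of C)).1 ‹IsReduced (HopfQuot.spec (k := k) C).left›
  haveI : ConnectedSpace (PrimeSpectrum C) := ‹ConnectedSpace (HopfQuot.spec (k := k) C).left›
  haveI : LocallyOfFiniteType (HopfQuot.spec (k := k) C).hom := by rw [← Over.w e]; infer_instance
  haveI : Algebra.FiniteType k C := RingHom.finiteType_algebraMap.1
    ((HasRingHomProperty.Spec_iff (P := @LocallyOfFiniteType) (φ := CommRingCat.ofHom (algebraMap k C))).1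
      ‹LocallyOfFiniteType (HopfQuot.spec (k := k) C).hom›)
  haveI : IsDomain C := HopfOneDim.isDomain k AlgGrpLib.BorelFixed.isUnit_or_isNilpotent_of_idem
  obtain ⟨D, _, _, ρ, hρs, hD, hsol, hcen⟩ := AlgGrpLib.CentreSolvable.exists_solvable_containing_centre (k := k) (A := C)
  haveI := hD
  let H := HopfQuot.spec (k := k) D
  let iH : H ⟶ N := HopfQuot.specHom ρ ≫ e
  haveI : IsClosedImmersion (HopfQuot.specHom ρ).left := by
    rw [HopfQuot.specHom_left]
    exact IsClosedImmersion.spec_of_surjective _ hρs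
  haveI : IsClosedImmersion iH.left := by rw [Over.comp_left]; infer_instance
  haveI : Mono iH := Over.mono_of_mono_left iH
  haveI : IsAffine H.left := inferInstanceAs (IsAffine (Spec (CommRingCat.of D)))
  haveI : IsReduced H.left := inferInstanceAs (IsReduced (Spec (CommRingCat.of D)))
  haveI : ConnectedSpace H.left := inferInstanceAs (ConnectedSpace (PrimeSpectrum D))
  haveI : LocallyOfFiniteType H.hom := by rw [← Over.w iH]; infer_instance
  haveI : Smooth H.hom := UnipStruct.smooth_of_isReduced H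
  haveI : CompactSpace H.left := inferInstanceAs (CompactSpace ↥(Spec (CommRingCat.of D)))
  haveI : QuasiCompact H.hom := (quasiCompact_iff_compactSpace H.hom).2 inferInstance
  have hsolH : Group.IsSolvable (𝟙_ (Over (Spec (CommRingCat.of k))) ⟶ H) := by
    let f : (𝟙_ (Over (Spec (CommRingCat.of k))) ⟶ H) →*
        (((Spec (CommRingCat.of k)).asOver (Spec (CommRingCat.of k))) ⟶ H) :=
      MonoidHom.mk' (fun g => AlgGrpLib.SolvableSpecial.ptIso.hom ≫ g) fun g h => MonObj.comp_mul _ _ _
    refine solvable_of_solvable_injective (f := (HopfQuot.ptSpec (k := k) (A := D) (T := k)).symm.toMonoidHom.comp f)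
      ((HopfQuot.ptSpec (k := k) (A := D) (T := k)).symm.injective.comp fun g h e' => ?_)
    exact (cancel_epi AlgGrpLib.SolvableSpecial.ptIso.hom).1 e'
  obtain ⟨n, hn⟩ := hsolH.solvable
  have hspecial := AlgGrpLib.SolvableSpecial.special_of_derivedSeries n H hn
  -- the common part of `N` and the anti-affine part lies in `H`
  let K := pullback i j
  let κ : K ⟶ N := pullback.fst i j
  haveI : IsClosedImmersion κ.left :=
    MorphismProperty.of_isPullback (P := @IsClosedImmersion) ((IsPullback.of_hasPullback i j).map (Over.forget _)).flip hjc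
  haveI : IsAffine K.left := isAffine_of_isAffineHom κ.left
  obtain ⟨R, _, _, ⟨eK⟩⟩ := Misc15.AffinePoints.exists_sp K
  obtain ⟨g, hg⟩ := (HopfQuot.ptSpec (k := k) (A := C) (T := R)).surjective (eK.hom ≫ κ ≫ inv e)
  have hgc : AlgGrpLib.CentreSolvable.IsCentralPt g := by
    intro R' _ _ φ h
    let x : ((Spec (CommRingCat.of R')).asOver (Spec (CommRingCat.of k))) ⟶
        ((Spec (CommRingCat.of R)).asOver (Spec (CommRingCat.of k))) :=
      Over.homMk (Spec.map (CommRingCat.ofHom φ.toRingHom)) (by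
        show Spec.map _ ≫ Spec.map _ = Spec.map _
        rw [← Spec.map_comp, ← CommRingCat.ofHom_comp]
        exact congrArg (fun r => Spec.map (CommRingCat.ofHom r)) φ.comp_algebraMap)
    let g' : Pt k C R' := HopfQuot.push φ g
    have hx : HopfQuot.ptSpec (k := k) (A := C) (T := R') g' = x ≫ HopfQuot.ptSpec g := by
      refine Over.OverMorphism.ext ?_
      show Spec.map _ = Spec.map _ ≫ Spec.map _
      rw [← Spec.map_comp]
      rfl
    refine (HopfQuot.ptSpec (k := k) (A := C) (T := R')).injective ?_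
    show HopfQuot.ptSpec (g' * h) = HopfQuot.ptSpec (h * g')
    refine ((HopfQuot.ptSpec (k := k) (A := C) (T := R')).map_mul g' h).trans (Eq.trans ?_
      ((HopfQuot.ptSpec (k := k) (A := C) (T := R')).map_mul h g').symm)
    rw [hx, hg, ← cancel_mono (e ≫ i), MonObj.mul_comp, MonObj.mul_comp,
      show (x ≫ eK.hom ≫ κ ≫ inv e) ≫ e ≫ i = (x ≫ eK.hom ≫ pullback.snd i j) ≫ j by
        simp [κ, pullback.condition]]
    exact hcentral _ _
  obtain ⟨kap, hkap⟩ : ∃ kap : K ⟶ H, kap ≫ iH = κ := by
    have hker' : RingHom.ker (ρ : C →ₐ[k] D).toRingHom ≤ RingHom.ker g.ofConv.toRingHom := fun a ha => hcen R g hgc a ha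
    refine ⟨eK.inv ≫ HopfQuot.ptSpec (toConv (AlgHom.liftOfSurjective (ρ : C →ₐ[k] D) hρs g.ofConv hker')), ?_⟩
    have h1 : HopfQuot.ptSpec (toConv (AlgHom.liftOfSurjective (ρ : C →ₐ[k] D) hρs g.ofConv hker')) ≫
        HopfQuot.specHom ρ = eK.hom ≫ κ ≫ inv e := by
      rw [HopfQuot.ptSpec_comp, ← hg]
      exact congrArg _ (congrArg toConv (AlgHom.ext fun a => AlgHom.liftOfSurjective_apply (ρ : C →ₐ[k] D) hρs g.ofConv hker' a))
    refine Eq.trans (Category.assoc _ _ _) ?_
    refine (congrArg (eK.inv ≫ ·) (((Category.assoc _ _ _).symm).trans (congrArg (· ≫ e) h1))).trans ?_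
    simp
  -- the subgroup generated by `H` and the anti-affine part
  haveI : IsMonHom iH := inferInstance
  let f : H ⊗ M ⟶ G := lift (fst H M ≫ iH ≫ i) (snd H M ≫ j) ≫ μ[G]
  have hf : f = (fst H M ≫ iH ≫ i) * (snd H M ≫ j) := (Hom.mul_def _ _).symm
  haveI : Smooth (H ⊗ M).hom := by
    show Smooth (pullback.fst H.hom M.hom ≫ H.hom)
    haveI : Smooth (pullback.fst H.hom M.hom) := MorphismProperty.pullback_fst (P := @Smooth) _ _ inferInstance
    infer_instance
  haveI : QuasiCompact (H ⊗ M).hom := by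
    show QuasiCompact (pullback.fst H.hom M.hom ≫ H.hom)
    haveI : QuasiCompact (pullback.fst H.hom M.hom) := MorphismProperty.pullback_fst (P := @QuasiCompact) _ _ inferInstance
    infer_instance
  haveI : IsMonHom f := AlgGrpLib.MultTypeAct.isMonHom_of_map_mul f fun {T} x y => by
    have hfst : (x * y) ≫ fst H M = (x ≫ fst H M) * (y ≫ fst H M) := MonObj.mul_comp _ _ _
    have hsnd : (x * y) ≫ snd H M = (x ≫ snd H M) * (y ≫ snd H M) := MonObj.mul_comp _ _ _
    simp only [hf, MonObj.comp_mul, ← Category.assoc, hfst, hsnd]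
    simp only [MonObj.mul_comp]
    refine Commute.mul_mul_mul_comm ?_ _ _
    exact (hcentral _ _).symm
  obtain ⟨P, gP, iP, g₀, hiP, hg₀, hiPc, hg₀i, hg₀s, hg₀f, hPs, hPl, hPq⟩ := AlgGrpLib.ImageSubgroup.exists_image f
  letI := gP
  haveI := hiP; haveI := hg₀; haveI := hiPc; haveI := hg₀s; haveI := hg₀f; haveI := hPs; haveI := hPl; haveI := hPq
  haveI : Mono iP := Over.mono_of_mono_left iP
  haveI : IsSeparated G.hom := Groth.Agent.SGA3xLib.isSeparated_of_grpObj G
  haveI : IsSeparated P.hom := by rw [← Over.w iP]; infer_instance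
  let β : P ⟶ A := iP ≫ α
  haveI : Surjective (j ≫ α).left := by
    have h : ((i ⊗ₘ j) ≫ μ[G]) ≫ α = snd N M ≫ j ≫ α := by
      have h0 : (i ⊗ₘ j) ≫ μ[G] = (fst N M ≫ i) * (snd N M ≫ j) := by
        rw [Hom.mul_def]
        congr 1
      rw [h0, MonObj.mul_comp]
      simp [hiα]
    refine ⟨fun a => ?_⟩
    obtain ⟨z, rfl⟩ := α.left.surjective a
    obtain ⟨w, rfl⟩ := hgen.surj z
    exact ⟨(snd N M).left w, (congrArg (fun φ => φ.left.base w) h).symm⟩
  haveI : Surjective β.left := by
    refine ⟨fun a => ?_⟩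
    obtain ⟨m, rfl⟩ := (j ≫ α).left.surjective a
    refine ⟨((lift (1 : M ⟶ H) (𝟙 M)) ≫ g₀).left m, ?_⟩
    have h : (lift (1 : M ⟶ H) (𝟙 M) ≫ g₀) ≫ β = j ≫ α := by
      simp only [β, Category.assoc, reassoc_of% hg₀i]
      rw [← Category.assoc, hf, MonObj.comp_mul, lift_fst_assoc, lift_snd_assoc, Category.id_comp, MonObj.one_comp,
        _root_.one_mul]
    exact congrArg (fun φ => φ.left.base m) h
  haveI : GeometricallyReduced A.hom := AbSchLib.geometricallyReduced_of_smooth _
  haveI : Flat β.left := AlgGrpLib.flat_hom_of_surjective β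
  haveI : QuasiCompact β.left := by
    haveI : QuasiCompact (β.left ≫ A.hom) := by rw [Over.w]; infer_instance
    exact QuasiCompact.of_comp β.left A.hom
  haveI : QuasiCompact g₀.left := by
    haveI : QuasiCompact (g₀.left ≫ P.hom) := by rw [Over.w]; infer_instance
    exact QuasiCompact.of_comp g₀.left P.hom
  let s : H ⟶ P := lift (𝟙 H) 1 ≫ g₀
  have hsi : s ≫ iP = iH ≫ i := by
    simp only [s, Category.assoc, hg₀i]
    rw [hf, MonObj.comp_mul, lift_fst_assoc, lift_snd_assoc, Category.id_comp, MonObj.one_comp, _root_.mul_one]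
  have hsβ : s ≫ β = 1 := by
    simp only [β, reassoc_of% hsi, hiα, MonObj.comp_one]
  haveI : Mono s := mono_of_mono_fac hsi
  have hlift : ∀ (T : Over (Spec (CommRingCat.of k))) (p : T ⟶ P), p ≫ β = 1 → ∃ u : T ⟶ H, u ≫ s = p := by
    intro T p hp
    obtain ⟨T', c, w, hcs, hcf, hcq, hw⟩ := AlgGrpLib.exists_lift_cover g₀ p
    haveI := hcs; haveI := hcf; haveI := hcq
    have e1 : c ≫ p ≫ iP = (w ≫ fst H M ≫ iH ≫ i) * (w ≫ snd H M ≫ j) := by
      rw [← reassoc_of% hw, hg₀i, hf, MonObj.comp_mul]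
    have e2 : (w ≫ snd H M ≫ j) ≫ α = 1 := by
      have h := congrArg (· ≫ α) e1
      simp only [MonObj.mul_comp, Category.assoc, hiα, MonObj.comp_one, _root_.one_mul] at h
      rw [show p ≫ iP ≫ α = 1 from hp, MonObj.comp_one] at h
      simp only [Category.assoc]
      exact h.symm
    obtain ⟨y₁, hy₁⟩ := AlgGrpLib.exists_lift_kernel hker e2
    let z : T' ⟶ H := pullback.lift y₁ (w ≫ snd H M) (by rw [hy₁, Category.assoc]) ≫ kap
    have hz : z ≫ iH ≫ i = w ≫ snd H M ≫ j := by
      simp only [z, Category.assoc, reassoc_of% hkap, κ, pullback.lift_fst_assoc, hy₁]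
    obtain ⟨u, hu⟩ := AlgGrpLib.exists_factor_of_cover c (iH ≫ i) (p ≫ iP) ((w ≫ fst H M) * z) (by
      rw [MonObj.mul_comp, hz, e1]
      simp)
    refine ⟨u, ?_⟩
    rw [← cancel_mono iP, Category.assoc, hsi, hu]
  haveI : IsMonHom s := AlgGrpLib.MultTypeAct.isMonHom_of_map_mul s fun {T} x y => by
    have e : ∀ z : T ⟶ H, (z ≫ s) ≫ iP = z ≫ iH ≫ i := fun z => (Category.assoc _ _ _).trans (congrArg (z ≫ ·) hsi)
    rw [← cancel_mono iP, MonObj.mul_comp _ _ iP, e, e, e, MonObj.mul_comp]
  let b : AlgGrp.Action H P :=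
    { act := (s ▷ P) ≫ μ[P]
      one_act := by
        rw [← Category.assoc, ← comp_whiskerRight, IsMonHom.one_hom, MonObj.one_mul]
      mul_act := by
        have hm : (s ▷ P) ≫ μ[P] = (fst H P ≫ s) * snd H P := by
          rw [Hom.mul_def]
          congr 1
        rw [hm]
        simp only [MonObj.comp_mul, whiskerRight_fst_assoc, whiskerRight_snd, whiskerLeft_fst_assoc,
          whiskerLeft_snd, associator_hom_fst_assoc, associator_hom_snd_fst_assoc, Category.assoc]
        rw [MonObj.mul_eq_mul]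
        simp only [MonObj.mul_comp, MonObj.comp_mul, Category.assoc, _root_.mul_assoc, associator_hom_fst_assoc,
          associator_hom_snd_fst_assoc, associator_hom_snd_snd] }
  have hact : ∀ {T : Over (Spec (CommRingCat.of k))} (h : T ⟶ H) (x : T ⟶ P), lift h x ≫ b.act = (h ≫ s) * x := by
    intro T h x
    show lift h x ≫ (s ▷ P) ≫ μ[P] = _
    rw [lift_whiskerRight_assoc, Hom.mul_def]
  have hbact : b.act = (fst H P ≫ s) * snd H P := by
    rw [← hact, lift_fst_snd, Category.id_comp]
  have hcart : IsPullback b.act (snd H P) β β := by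
    have hw : b.act ≫ β = snd H P ≫ β := by
      rw [hbact, MonObj.mul_comp, Category.assoc, hsβ, MonObj.comp_one, _root_.one_mul]
    have hex : ∀ c : PullbackCone β β, ∃ u : c.pt ⟶ H, u ≫ s = c.fst * c.snd⁻¹ := fun c => hlift _ _ (by
      rw [MonObj.mul_comp, GrpObj.inv_comp, c.condition, mul_inv_cancel])
    choose u hu using hex
    refine IsPullback.of_isLimit' ⟨hw⟩ (PullbackCone.IsLimit.mk _ (fun c => lift (u c) c.snd) (fun c => ?_)
      (fun c => lift_snd _ _) fun c m h1 h2 => ?_)
    · rw [hact, hu, inv_mul_cancel_right]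
    · apply CartesianMonoidalCategory.hom_ext
      · rw [lift_fst, ← cancel_mono s, hu, Category.assoc]
        rw [← h1, ← h2, hbact, MonObj.comp_mul, mul_inv_cancel_right]
      · rw [lift_snd, h2]
  have hloc : NonAbH1.IsLocallyTrivialFor Scheme.fpqcPrecoverage (Over.mk β.left : Over A.left) := by
    refine ⟨_, β.left.singleton_mem_fpqcPrecoverage, fun S' f' hf' => ?_⟩
    cases hf'
    exact ⟨𝟙 _, Category.id_comp _⟩
  obtain ⟨Rc, hRc, hsec⟩ := hspecial P A b β hcart hloc
  obtain ⟨I₀, Z₀, g₁, rfl⟩ := Rc.exists_eq_ofArrows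
  let 𝒰 : Scheme.Cover Scheme.zariskiPrecoverage A.left := ⟨⟨I₀, Z₀, g₁⟩, hRc⟩
  haveI : ∀ a, IsOpenImmersion (g₁ a) := fun a => 𝒰.map_prop a
  obtain ⟨a, z, hz⟩ := 𝒰.exists_eq y
  obtain ⟨σ, hσ⟩ := hsec (g₁ a) ⟨a⟩
  refine ⟨(g₁ a).opensRange, ⟨z, hz⟩, (g₁ a).isoOpensRange.inv ≫ σ ≫ iP.left, ?_⟩
  have hσ' : σ ≫ β.left = g₁ a := hσ
  rw [Category.assoc, Category.assoc, show iP.left ≫ α.left = β.left from rfl, hσ', Scheme.Hom.isoOpensRange_inv_comp]

end Groth.Agent.S11401
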