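import Groth.Statements.S11402
import Groth.Agent.AlgGrpLib.AffineToProper
import Groth.Agent.AbVarLib.GeomIntegralSmooth
import Groth.Agent.SGA3xLib.SepFibre
import Groth.Agent.AbSchLib.SmoothReduced
import Groth.Agent.S11994

set_option backward.isDefEq.respectTransparency.types false

set_option autoImplicit false
universe u
open CategoryTheory MonoidalCategory CartesianMonoidalCategory MonObj GrpObj AlgebraicGeometry CategoryTheory.Limits
open AlgGrp

namespace Groth.Agent.S11402

/-- Over an algebraically closed field k, let G be a connected algebraic group (smooth k-group scheme of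
finite type), let i : N → G be its largest connected affine normal algebraic subgroup G_aff (a
homomorphism and closed immersion from a smooth, connected, affine k-group scheme, normal in G,
through which every other such subgroup factors), and let α : G → A be a flat surjective
homomorphism with kernel i onto a proper smooth k-group scheme A (so A = G/G_aff is an abelian
variety). Then α is the Albanese morphism of G: every k-morphism (not necessarily a homomorphism)
from G to an abelian variety B (a proper, smooth, connected k-group scheme) factors uniquely through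
α. -/
theorem result (k : Type u) [Field k] [IsAlgClosed k]
    (G : Over (Spec (CommRingCat.of k))) [GrpObj G] [Smooth G.hom] [QuasiCompact G.hom] [ConnectedSpace ↥G.left]
    (N : Over (Spec (CommRingCat.of k))) [GrpObj N] (i : N ⟶ G) [IsMonHom i] [IsClosedImmersion i.left]
    [Smooth N.hom] [ConnectedSpace ↥N.left] [IsAffine N.left] (hN : AlgGrp.IsNormalHom i)
    (hNmax : ∀ (N' : Over (Spec (CommRingCat.of k))) [GrpObj N'] (i' : N' ⟶ G) [IsMonHom i'] [IsClosedImmersion i'.left]
      [Smooth N'.hom] [ConnectedSpace ↥N'.left] [IsAffine N'.left], AlgGrp.IsNormalHom i' → ∃ f : N' ⟶ N, f ≫ i = i')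
    (A : Over (Spec (CommRingCat.of k))) [GrpObj A] [IsProper A.hom] [Smooth A.hom] (α : G ⟶ A) [IsMonHom α]
    [Surjective α.left] [Flat α.left] (hker : AlgGrp.IsKernel i α)
    (B : Over (Spec (CommRingCat.of k))) [GrpObj B] [IsProper B.hom] [Smooth B.hom] [ConnectedSpace ↥B.left] (f : G ⟶ B) :
    ∃! g : A ⟶ B, α ≫ g = f := by
  haveI : GeometricallyConnected G.hom := by
    have := Groth.Agent.SGA3cLib.geometricallyConnected_of_rational_point k G.hom (𝟙 G.left) η[G].left
      (Over.w η[G]) (by simp)
    rwa [Category.id_comp] at this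
  haveI : GeometricallyConnected B.hom := by
    have := Groth.Agent.SGA3cLib.geometricallyConnected_of_rational_point k B.hom (𝟙 B.left) η[B].left
      (Over.w η[B]) (by simp)
    rwa [Category.id_comp] at this
  haveI := Groth.Agent.AbVarLib.geometricallyIntegral_of_smooth G.hom
  haveI := Groth.Agent.AbVarLib.geometricallyIntegral_of_smooth B.hom
  haveI : IsSeparated G.hom := Groth.Agent.SGA3xLib.isSeparated_of_grpObj G
  let c : 𝟙_ (Over (Spec (CommRingCat.of k))) ⟶ B := η[G] ≫ f
  let f' : G ⟶ B := f * (toUnit G ≫ c)⁻¹
  haveI : IsMonHom f' := Groth.Agent.S11994.result k G B f' (by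
    show η[G] ≫ (f * (toUnit G ≫ c)⁻¹) = η[B]
    rw [MonObj.comp_mul, GrpObj.comp_inv, ← Category.assoc, toUnit_unique (η[G] ≫ toUnit G) (𝟙 _), Category.id_comp,
      mul_inv_cancel, Groth.Agent.AlgGrpLib.one_unit])
  haveI : IsReduced N.left := Groth.Agent.AbSchLib.isReduced_of_smooth N.hom
  have hkill : i ≫ f' = 1 := Groth.Agent.AlgGrpLib.AffineToProper.eq_one_of_affine_to_proper _
  haveI : LocallyOfFiniteType A.hom := inferInstance
  haveI : QuasiCompact α.left := Groth.Agent.AlgGrpLib.quasiCompact_left α
  obtain ⟨g, hg⟩ := Groth.Agent.AlgGrpLib.ExactSeqBasics.exists_desc α hker f' hkill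
  haveI : Epi α.left := Flat.epi_of_flat_of_surjective _
  haveI : Epi α := Over.epi_of_epi_left _
  refine ⟨g * (toUnit A ≫ c), ?_, fun g' hg' => ?_⟩
  · show α ≫ (g * (toUnit A ≫ c)) = f
    rw [MonObj.comp_mul, hg, ← Category.assoc, toUnit_unique (α ≫ toUnit A) (toUnit G), inv_mul_cancel_right]
  · rw [← cancel_epi α, hg', MonObj.comp_mul, hg, ← Category.assoc, toUnit_unique (α ≫ toUnit A) (toUnit G),
      inv_mul_cancel_right]

end Groth.Agent.S11402
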