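import Groth.Statements.S11404
import Groth.Agent.AlgGrpLib.AntiAffine
import Groth.Agent.AbSchLib.GlobalSections
import Groth.Agent.AbVarLib.GeomIntegralSmooth
import Groth.Agent.SGA3cLib.GeomConn

set_option autoImplicit false
universe u
open CategoryTheory MonoidalCategory CartesianMonoidalCategory MonObj GrpObj AlgebraicGeometry CategoryTheory.Limits
open AlgGrp

namespace Groth.Agent.S11404

/-- Over an algebraically closed field k, let A be an abelian variety (a proper, smooth, connected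
k-group scheme) and S a connected k-scheme of finite type. For every automorphism f of A × S over S
there are a unique k-morphism g : S → A and a unique group automorphism h of A with f(a, s) = (g(s)
· h(a), s) on points. (This is the functor-of-points form, over a connected base, of the
identification of the automorphism group scheme of A with the semidirect product of A, acting by
translations, and the constant group of group automorphisms; in particular the neutral component is
A.) -/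
theorem result (k : Type u) [Field k] [IsAlgClosed k]
    (A S : Over (Spec (CommRingCat.of k))) [GrpObj A] [IsProper A.hom] [Smooth A.hom] [ConnectedSpace ↥A.left]
    [LocallyOfFiniteType S.hom] [QuasiCompact S.hom] [ConnectedSpace ↥S.left]
    (f : A ⊗ S ≅ A ⊗ S) (hf : f.hom ≫ snd A S = snd A S) :
    ∃ (g : S ⟶ A) (h : A ⟶ A), IsMonHom h ∧ IsIso h ∧
      f.hom ≫ fst A S = (snd A S ≫ g) * (fst A S ≫ h) ∧
      ∀ (g' : S ⟶ A) (h' : A ⟶ A), IsMonHom h' →
        f.hom ≫ fst A S = (snd A S ≫ g') * (fst A S ≫ h') → g' = g ∧ h' = h := by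
  have hconn : GeometricallyConnected A.hom := by
    have := SGA3cLib.geometricallyConnected_of_rational_point k A.hom (𝟙 A.left) η[A].left (Over.w η[A]) (by simp)
    rwa [Category.id_comp] at this
  haveI := AbVarLib.geometricallyIntegral_of_smooth A.hom
  have hA : Function.Bijective A.hom.appTop := AbSchLib.bijective_appTop_of_field k A.hom
  haveI : CompactSpace A.left := QuasiCompact.compactSpace_of_compactSpace A.hom
  haveI : IsLocallyNoetherian A.left := LocallyOfFiniteType.isLocallyNoetherian A.hom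
  haveI : IsLocallyNoetherian S.left := LocallyOfFiniteType.isLocallyNoetherian S.hom
  obtain ⟨s₀⟩ := AlgGrpLib.exists_rationalPoint S
  let σ : A ⟶ A ⊗ S := lift (𝟙 A) (toUnit A ≫ s₀)
  let φ : A ⊗ S ⟶ A := f.hom ≫ fst A S
  let φ' : A ⊗ S ⟶ A := f.inv ≫ fst A S
  have hf' : f.inv ≫ snd A S = snd A S := by rw [Iso.inv_comp_eq, hf]
  let g : S ⟶ A := lift (toUnit S ≫ η[A]) (𝟙 S) ≫ φ
  let c : A ⟶ A := toUnit A ≫ (s₀ ≫ g)⁻¹
  let h : A ⟶ A := c * (σ ≫ φ)
  have hiso : ∀ (e : A ⊗ S ⟶ A ⊗ S) (e' : A ⊗ S ⟶ A ⊗ S), e ≫ e' = 𝟙 _ → e ≫ snd A S = snd A S →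
      (σ ≫ e ≫ fst A S) ≫ (σ ≫ e' ≫ fst A S) = 𝟙 A := by
    intro e e' he hes
    have h1 : σ ≫ e = lift (σ ≫ e ≫ fst A S) (toUnit A ≫ s₀) :=
      CartesianMonoidalCategory.hom_ext _ _ (by simp) (by rw [Category.assoc, hes]; simp [σ])
    have h2 : (σ ≫ e ≫ fst A S) ≫ σ = σ ≫ e := by
      rw [h1, comp_lift, Category.comp_id, ← Category.assoc (σ ≫ e ≫ fst A S), comp_toUnit]
    rw [← Category.assoc, h2, Category.assoc, reassoc_of% he]
    simp [σ]
  haveI : IsIso (σ ≫ φ) := ⟨σ ≫ φ', hiso _ _ f.hom_inv_id hf, hiso _ _ f.inv_hom_id hf'⟩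
  haveI : IsIso (c * 𝟙 A) := ⟨c⁻¹ * 𝟙 A, by
    rw [MonObj.comp_mul, GrpObj.comp_inv, Category.comp_id,
      show (c * 𝟙 A) ≫ c = c from by simp only [c, ← Category.assoc, comp_toUnit], inv_mul_cancel_left], by
    rw [MonObj.comp_mul, Category.comp_id,
      show (c⁻¹ * 𝟙 A) ≫ c = c from by simp only [c, ← Category.assoc, comp_toUnit], mul_inv_cancel_left]⟩
  have hh : h = (σ ≫ φ) ≫ (c * 𝟙 A) := by
    rw [MonObj.comp_mul, Category.comp_id]
    simp only [h, c, ← Category.assoc, comp_toUnit]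
  have he : η[A] ≫ h = η[A] := by
    show η[A] ≫ (toUnit A ≫ (s₀ ≫ g)⁻¹ * (σ ≫ φ)) = η[A]
    rw [MonObj.comp_mul, ← Category.assoc η[A] (toUnit A), toUnit_unique (η[A] ≫ toUnit A) (𝟙 _), Category.id_comp,
      ← Category.assoc η[A] σ]
    have : η[A] ≫ σ = s₀ ≫ lift (toUnit S ≫ η[A]) (𝟙 S) := by
      apply CartesianMonoidalCategory.hom_ext
      · simp only [σ, Category.assoc, lift_fst, Category.comp_id, ← Category.assoc s₀ (toUnit S),
          toUnit_unique (s₀ ≫ toUnit S) (𝟙 _), Category.id_comp]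
      · simp only [σ, Category.assoc, lift_snd, Category.comp_id, ← Category.assoc η[A] (toUnit A),
          toUnit_unique (η[A] ≫ toUnit A) (𝟙 _), Category.id_comp]
    rw [this, Category.assoc, show s₀ ≫ lift (toUnit S ≫ η[A]) (𝟙 S) ≫ φ = s₀ ≫ g from rfl, inv_mul_cancel,
      MonObj.one_eq_one]
  refine ⟨g, h, AlgGrpLib.isMonHom_of_antiAffine hA h he, by rw [hh]; infer_instance, ?_, fun g' h' hh' hd => ?_⟩
  · have hF : ((snd A S ≫ g) * (fst A S ≫ h))⁻¹ * φ = 1 := by
      refine AlgGrpLib.slice_eq_one hA η[A] s₀ _ ?_ ?_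
      · have e1 : (A ◁ s₀) = fst A (𝟙_ _) ≫ σ := by
          apply CartesianMonoidalCategory.hom_ext
          · simp [σ]
          · simp only [σ, whiskerLeft_snd, Category.assoc, lift_snd]
            rw [← Category.assoc (fst A _), comp_toUnit, toUnit_unique (snd A _) (toUnit _)]
        rw [MonObj.comp_mul, GrpObj.comp_inv, MonObj.comp_mul, whiskerLeft_snd_assoc, whiskerLeft_fst_assoc,
          e1, Category.assoc (fst A (𝟙_ _)) σ φ]
        show ((snd A _ ≫ s₀ ≫ g) * (fst A _ ≫ (c * (σ ≫ φ))))⁻¹ * (fst A _ ≫ σ ≫ φ) = 1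
        rw [MonObj.comp_mul, show fst A (𝟙_ _) ≫ c = (snd A _ ≫ s₀ ≫ g)⁻¹ from by
          rw [← GrpObj.comp_inv, ← Category.assoc, comp_toUnit, toUnit_unique (snd A _) (toUnit _)],
          mul_inv_cancel_left, inv_mul_cancel]
      · rw [MonObj.comp_mul, GrpObj.comp_inv, MonObj.comp_mul, lift_fst_assoc, lift_snd_assoc, Category.id_comp,
          Category.assoc (toUnit S) η[A] h, he, show lift (toUnit S ≫ η[A]) (𝟙 S) ≫ φ = g from rfl,
          MonObj.one_eq_one, MonObj.comp_one, _root_.mul_one, inv_mul_cancel]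
    exact (inv_mul_eq_one.1 hF).symm
  · have hg : g' = g := by
      have := congrArg (lift (toUnit S ≫ η[A]) (𝟙 S) ≫ ·) hd
      simp only [MonObj.comp_mul, lift_fst_assoc, lift_snd_assoc, Category.id_comp, Category.assoc,
        IsMonHom.one_hom h', MonObj.one_eq_one, MonObj.comp_one, _root_.mul_one] at this
      simpa only [g, φ, MonObj.one_eq_one, MonObj.comp_one, MonObj.one_comp, _root_.mul_one] using this.symm
    refine ⟨hg, ?_⟩
    have h2 := congrArg (σ ≫ ·) hd
    simp only [MonObj.comp_mul, σ, lift_fst_assoc, lift_snd_assoc, Category.id_comp, Category.assoc, hg] at h2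
    show h' = toUnit A ≫ (s₀ ≫ g)⁻¹ * (σ ≫ φ)
    rw [GrpObj.comp_inv, show σ ≫ φ = lift (𝟙 A) (toUnit A ≫ s₀) ≫ f.hom ≫ fst A S from rfl, h2, inv_mul_cancel_left]

end Groth.Agent.S11404
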