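import Groth.Statements.S18096
import Groth.Agent.AlgGrpLib.GLnPoints
import Groth.Agent.AlgGrpLib.AffineHullMain
import Groth.Agent.S16480

set_option backward.isDefEq.respectTransparency.types false
open Groth.Agent.AlgGrpLib Groth.Agent.AlgGrpLib.GLnPoints Groth.Agent.HopfQuot
attribute [local instance] Classical.propDecidable

set_option autoImplicit false
universe u
open CategoryTheory MonoidalCategory CartesianMonoidalCategory MonObj GrpObj AlgebraicGeometry CategoryTheory.Limits
open AlgGrp

namespace Groth.Agent.S18096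

/-- Let k be a field and G a k-group scheme of finite type. Then G is anti-affine, i.e. O(G) = k, if and
only if every finite-dimensional linear representation of G is trivial, i.e. for every n every
homomorphism G → GL_{n,k} is trivial. -/
theorem result (k : Type u) [Field k]
    (G : Over (Spec (CommRingCat.of k))) [GrpObj G] [LocallyOfFiniteType G.hom] [QuasiCompact G.hom] :
    Function.Bijective ((Scheme.ΓSpecIso (CommRingCat.of k)).inv ≫ G.hom.appTop).hom ↔
      ∀ (n : ℕ) (ρ : G ⟶ FrB.GLn n (Spec (CommRingCat.of k))), IsMonHom ρ → ρ = 1 := by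
  set c : k →+* Γ(G.left, ⊤) := ((Scheme.ΓSpecIso (CommRingCat.of k)).inv ≫ G.hom.appTop).hom with hc
  constructor
  · intro hG n ρ hρ
    have h1 : ∀ a : Γ(G.left, ⊤), (toUnit G ≫ η[G]).left.appTop a = a := fun a => by
      obtain ⟨r, rfl⟩ := hG.2 a
      have hw := congrArg (fun φ : G.left ⟶ Spec (CommRingCat.of k) => φ.appTop ((Scheme.ΓSpecIso (CommRingCat.of k)).inv r))
        (Over.w (toUnit G ≫ η[G]))
      simp only [Scheme.Hom.comp_appTop] at hw
      exact hw
    have h2 : ρ = toUnit G ≫ η[G] ≫ ρ := matOf_injective (by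
      ext i j
      rw [← Category.assoc, matOf_comp]
      exact (h1 (matOf ρ i j)).symm)
    rw [h2, IsMonHom.one_hom, ← Hom.one_def]
  · intro hall
    obtain ⟨g, hρ, hsurj, hflat, hlft⟩ := AffineHull.affinization G
    obtain ⟨A, _, _, e, _, _⟩ := exists_spec (k := k) (affOf G)
    haveI : IsIso e.left := inferInstanceAs (IsIso ((Over.forget _).map e))
    haveI : IsIso (CategoryTheory.inv e).left := inferInstanceAs (IsIso ((Over.forget _).map (CategoryTheory.inv e)))
    haveI : IsMonHom (CategoryTheory.inv e) := inferInstanceAs (IsMonHom (asIso e).inv)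
    haveI : LocallyOfFiniteType (spec (k := k) A).hom := by rw [← Over.w e]; infer_instance
    haveI hAft : Algebra.FiniteType k A := RingHom.finiteType_algebraMap.1
      ((HasRingHomProperty.Spec_iff (P := @LocallyOfFiniteType) (φ := CommRingCat.ofHom (algebraMap k A))).1
        ‹LocallyOfFiniteType (spec (k := k) A).hom›)
    let r : G ⟶ spec (k := k) A := toAffOf G ≫ CategoryTheory.inv e
    have hr : Function.Bijective r.left.appTop := by
      rw [show r.left = (toAffOf G).left ≫ (CategoryTheory.inv e).left from rfl, Scheme.Hom.comp_appTop]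
      haveI : CompactSpace G.left := QuasiCompact.compactSpace_of_compactSpace G.hom
      haveI : IsIso (CategoryTheory.inv e).left.appTop :=
        inferInstanceAs (IsIso (Scheme.Γ.map (CategoryTheory.inv e).left.op))
      exact (AffineHull.bijective_appTop_toAffOf G).comp (ConcreteCategory.bijective_of_isIso _)
    obtain ⟨n, π, hπ⟩ := Groth.Agent.S16480.result k A
    let M : Matrix (Fin n) (Fin n) A := fun i j => π (CoordGrp.GLn.X i j)
    have hdet : M.det = π CoordGrp.GLn.det := by
      rw [det_eq]
      exact ((π : CoordGrp.GLn n k →ₐ[k] A).map_det _).symm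
    have hdinv : π CoordGrp.GLn.det * π CoordGrp.GLn.Dinv = 1 := by
      rw [← map_mul, CoordGrp.GLn.det_mul_Dinv, map_one]
    have hunit : IsUnit M.det := by rw [hdet]; exact IsUnit.of_mul_eq_one _ hdinv
    obtain ⟨ψ, hψ, hψm⟩ := exists_hom_of_matrix (k := k) M hunit (fun i j => by
      show CoalgebraStruct.comul (π (CoordGrp.GLn.X i j)) = _
      rw [← CoalgHomClass.map_comp_comul_apply π, comul_X, map_sum]
      exact Finset.sum_congr rfl fun l _ => TensorProduct.map_tmul _ _ _ _)
    have h1 := hall n (r ≫ ψ) inferInstance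
    have hM : M = 1 := by
      have h2 := congrArg matOf h1
      rw [matOf_comp, hψm, matOf_one] at h2
      refine Matrix.ext fun i j => hr.1.comp (ConcreteCategory.bijective_of_isIso (Scheme.ΓSpecIso (CommRingCat.of A)).inv).1 ?_
      refine (congrFun (congrFun h2 i) j).trans ?_
      rw [Matrix.one_apply, Matrix.one_apply]
      split_ifs
      · exact ((congrArg r.left.appTop.hom (map_one _)).trans (map_one _)).symm
      · exact ((congrArg r.left.appTop.hom (map_zero _)).trans (map_zero _)).symm
    have hA : ∀ a : A, ∃ s : k, algebraMap k A s = a := by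
      intro a
      obtain ⟨x, rfl⟩ := hπ a
      obtain ⟨p, rfl⟩ : ∃ p, CoordGrp.GLn.mk n k p = x := Ideal.Quotient.mk_surjective x
      have hcomp : ((π : CoordGrp.GLn n k →ₐ[k] A).comp (CoordGrp.GLn.mk n k)) =
          (Algebra.ofId k A).comp (CoordGrp.GLb.aeval n k (1 : Matrix (Fin n) (Fin n) k) 1) := by
        refine CoordGrp.GLb.algHom_ext (fun i j => ?_) ?_
        · refine (congrFun (congrFun hM i) j).trans ?_
          rw [AlgHom.comp_apply, CoordGrp.GLb.aeval_X]
          rw [Matrix.one_apply, Matrix.one_apply]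
          split_ifs <;> simp
        · show π CoordGrp.GLn.Dinv = _
          rw [hdet.symm, hM, Matrix.det_one, _root_.one_mul] at hdinv
          rw [AlgHom.comp_apply, CoordGrp.GLb.aeval_D, map_one, hdinv]
      exact ⟨_, (DFunLike.congr_fun hcomp p).symm⟩
    haveI : Nontrivial Γ(G.left, ⊤) := by
      haveI : Nonempty G.left := ⟨η[G].left.base (IsLocalRing.closedPoint k)⟩
      haveI : Nonempty (⊤ : G.left.Opens) := ⟨⟨η[G].left.base (IsLocalRing.closedPoint k), trivial⟩⟩
      exact Scheme.component_nontrivial G.left ⊤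
    refine ⟨c.injective, fun y => ?_⟩
    obtain ⟨z, rfl⟩ := hr.2 y
    obtain ⟨a, rfl⟩ := (ConcreteCategory.bijective_of_isIso (Scheme.ΓSpecIso (CommRingCat.of A)).inv).2 z
    obtain ⟨s, rfl⟩ := hA a
    refine ⟨s, ?_⟩
    have hw := congrArg (fun φ : G.left ⟶ Spec (CommRingCat.of k) => φ.appTop ((Scheme.ΓSpecIso (CommRingCat.of k)).inv s)) (Over.w r)
    simp only [Scheme.Hom.comp_appTop] at hw
    refine hw.symm.trans (congrArg r.left.appTop ?_)
    exact (congrArg (fun f => f.hom s) (Scheme.ΓSpecIso_inv_naturality (CommRingCat.ofHom (algebraMap k A)))).symm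

end Groth.Agent.S18096
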