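import Groth.Statements.S11405
import Groth.Agent.AlgGrpLib.RepOfHom
import Groth.Agent.S18096
import Groth.Agent.GrassLib.OverPoints
import Groth.Agent.AlgGrpLib.AntiAffine
import Groth.Agent.AlgGrpLib.AntiAffinePoints

set_option backward.isDefEq.respectTransparency.types false
open Groth.Agent.AlgGrpLib Groth.Agent.AlgGrpLib.GLnPoints Groth.Agent.AlgGrpLib.RepOfHom
open scoped TensorProduct

set_option autoImplicit false
universe u
open CategoryTheory MonoidalCategory CartesianMonoidalCategory MonObj GrpObj AlgebraicGeometry CategoryTheory.Limits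
open AlgGrp

namespace Groth.Agent.S11405

/-- Over an algebraically closed field k, the following are equivalent for an algebraic group G (a
smooth k-group scheme of finite type): (i) the only global functions on G are the constants; (ii)
every finite-dimensional linear representation of G is trivial (every point of G with values in a
k-algebra B acts as the identity on B ⊗ M, for every G-module structure on a finite-dimensional
k-vector space M); (iii) every action of G on a variety (integral, separated k-scheme of finite
type) with a fixed rational point is the trivial action. Stated as (i) ⇔ (ii) and (i) ⇔ (iii). -/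
theorem result (k : Type u) [Field k] [IsAlgClosed k]
    (G : Over (Spec (CommRingCat.of k))) [GrpObj G] [Smooth G.hom] [QuasiCompact G.hom] :
    (Function.Bijective ((Scheme.ΓSpecIso (CommRingCat.of k)).inv ≫ G.hom.appTop).hom ↔
      ∀ (M : Type u) [AddCommGroup M] [Module k M] [Module.Finite k M] (m : VecGrp.GMod G M)
        (B : Type u) [CommRing B] [Algebra k B] (g : VecGrp.pt k B ⟶ G), m.ρ B g = 1) ∧
    (Function.Bijective ((Scheme.ΓSpecIso (CommRingCat.of k)).inv ≫ G.hom.appTop).hom ↔
      ∀ (X : Over (Spec (CommRingCat.of k))) [LocallyOfFiniteType X.hom] [QuasiCompact X.hom] [IsSeparated X.hom]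
        [IsIntegral X.left] (a : AlgGrp.Action G X) (x : 𝟙_ (Over (Spec (CommRingCat.of k))) ⟶ X), a.IsFixedPt x → a.act = snd G X) := by
  haveI : LocallyOfFiniteType G.hom := inferInstance
  haveI : CompactSpace G.left := QuasiCompact.compactSpace_of_compactSpace G.hom
  haveI : IsLocallyNoetherian G.left := LocallyOfFiniteType.isLocallyNoetherian G.hom
  haveI : QuasiSeparatedSpace G.left := inferInstance
  have hbij : Function.Bijective ((Scheme.ΓSpecIso (CommRingCat.of k)).inv ≫ G.hom.appTop).hom →
      Function.Bijective G.hom.appTop := fun h =>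
    (Function.Bijective.of_comp_iff G.hom.appTop
      (ConcreteCategory.bijective_of_isIso (Scheme.ΓSpecIso (CommRingCat.of k)).inv)).1 h
  -- trivial representations
  have hfwd2 : Function.Bijective ((Scheme.ΓSpecIso (CommRingCat.of k)).inv ≫ G.hom.appTop).hom →
      ∀ (M : Type u) [AddCommGroup M] [Module k M] [Module.Finite k M] (m : VecGrp.GMod G M)
        (B : Type u) [CommRing B] [Algebra k B] (g : VecGrp.pt k B ⟶ G), m.ρ B g = 1 := by
    intro hG M _ _ _ m B _ _ g
    refine LinearEquiv.toLinearMap_injective (TensorProduct.AlgebraTensorModule.ext fun b v => ?_)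
    have key : ∀ (l : M →ₗ[k] k), TensorProduct.rid k B (l.baseChange B (m.ρ B g (1 ⊗ₜ v))) =
        TensorProduct.rid k B (l.baseChange B (m.ρ B 1 (1 ⊗ₜ v))) := by
      intro l
      let Φ : ∀ A : CommAlgCat.{u} k, (Groth.Agent.GrassLib.pt A ⟶ G) →
          (Groth.Agent.GrassLib.pt A ⟶ VecGrp.pt k (Polynomial k)) := fun A p =>
        VecGrp.ptMap (Polynomial.aeval (TensorProduct.rid k A (l.baseChange A (m.ρ A p ((1 : A) ⊗ₜ v)))))
      obtain ⟨F, hF⟩ := Groth.Agent.GrassLib.exists_hom (X := G) (Y := VecGrp.pt k (Polynomial k)) Φ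
        (fun A C φ p p' hp => by
          have hp2 : p' = VecGrp.ptMap φ.hom ≫ (p : VecGrp.pt k A ⟶ G) := by
            refine Over.OverMorphism.ext ?_
            show p'.left = Spec.map (CommRingCat.ofHom φ.hom.toRingHom) ≫ p.left
            exact hp
          simp only [Φ, VecGrp.ptMap_left, ← Spec.map_comp, ← CommRingCat.ofHom_comp]
          congr 2
          refine Polynomial.ringHom_ext (fun a => by simp) ?_
          simp only [AlgHom.toRingHom_eq_coe, RingHom.coe_coe, RingHom.comp_apply, Polynomial.aeval_X]
          have hn := m.naturality φ.hom (p : VecGrp.pt k A ⟶ G) ((1 : A) ⊗ₜ[k] v)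
          rw [VecGrp.Wmap_tmul, map_one, ← hp2] at hn
          have hb := VecGrp.baseChange_natural (N := k) l φ.hom (m.ρ A p ((1 : A) ⊗ₜ[k] v))
          rw [hn] at hb
          refine (congrArg (TensorProduct.rid k C) hb).symm.trans ?_
          generalize l.baseChange A (m.ρ A p ((1 : A) ⊗ₜ[k] v)) = z
          induction z using TensorProduct.induction_on with
          | zero => simp
          | tmul a r => simp
          | add a b ha hb => simp only [map_add, ha, hb])
      haveI : IsAffine (VecGrp.pt k (Polynomial k)).left := inferInstanceAs (IsAffine (Spec _))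
      have hc := eq_const_of_affine (hbij hG) η[G] F
      have h1 : g ≫ F = (1 : VecGrp.pt k B ⟶ G) ≫ F := by
        rw [hc, ← Category.assoc g, comp_toUnit, ← Category.assoc (1 : VecGrp.pt k B ⟶ G), comp_toUnit]
      rw [show g ≫ F = Φ (CommAlgCat.of k B) g from hF (CommAlgCat.of k B) g,
        show (1 : VecGrp.pt k B ⟶ G) ≫ F = Φ (CommAlgCat.of k B) (1 : VecGrp.pt k B ⟶ G) from
          hF (CommAlgCat.of k B) (1 : VecGrp.pt k B ⟶ G)] at h1
      have h2 := Spec.map_injective (congrArg CommaMorphism.left h1)
      have h3 := congr($h2 Polynomial.X)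
      simpa using h3
    let β := Algebra.TensorProduct.basis B (Module.Free.chooseBasis k M)
    have key2 : m.ρ B g (1 ⊗ₜ v) = 1 ⊗ₜ v := β.ext_elem fun i => by
      have hco : ∀ x : B ⊗[k] M, β.repr x i =
          TensorProduct.rid k B (((Module.Free.chooseBasis k M).coord i).baseChange B x) := fun x => by
        induction x using TensorProduct.induction_on with
        | zero => simp
        | add p q hp hq => simp only [map_add, Finsupp.add_apply, hp, hq]
        | tmul c w => simp [β, Algebra.smul_def, mul_comm]
      rw [hco, hco, key, map_one]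
      rfl
    show m.ρ B g (b ⊗ₜ v) = b ⊗ₜ v
    rw [show (b ⊗ₜ[k] v : VecGrp.W k M B) = b • ((1 : B) ⊗ₜ v) by rw [TensorProduct.smul_tmul', smul_eq_mul, _root_.mul_one],
      LinearEquiv.map_smul, key2]
  refine ⟨⟨hfwd2, fun h => ?_⟩, ⟨fun hG X _ _ _ _ a x hx => ?_, fun h => ?_⟩⟩
  · rw [Groth.Agent.S18096.result k G]
    intro n ρ hρ
    obtain ⟨m, hm⟩ := exists_gmod ρ
    refine Over.OverMorphism.ext (G.left.affineCover.hom_ext _ _ fun i => ?_)
    let j : Spec Γ(G.left.affineCover.X i, ⊤) ⟶ G.left := (G.left.affineCover.X i).isoSpec.inv ≫ G.left.affineCover.f i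
    let ψ := Spec.preimage (j ≫ G.hom)
    let : Algebra k Γ(G.left.affineCover.X i, ⊤) := ψ.hom.toAlgebra
    let g : VecGrp.pt k Γ(G.left.affineCover.X i, ⊤) ⟶ G := Over.homMk j (Spec.map_preimage _).symm
    have h1 := hm _ g (h (Fin n → k) m _ g)
    have h2 : g ≫ ρ = g ≫ 1 := matOf_injective (by
      rw [MonObj.comp_one, matOf_one]
      refine Matrix.map_injective (ConcreteCategory.bijective_of_isIso (Scheme.ΓSpecIso (CommRingCat.of Γ(G.left.affineCover.X i, ⊤))).hom).1
        (h1.trans (Matrix.map_one _ (map_zero _) (map_one _)).symm))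
    have h3 : j ≫ ρ.left = j ≫ (1 : G ⟶ FrB.GLn n _).left := congrArg CommaMorphism.left h2
    simpa [j] using h3
  · haveI : IsLocallyNoetherian X.left := LocallyOfFiniteType.isLocallyNoetherian X.hom
    have key := eq_snd_of_antiAffine (hbij hG) η[G] x a.act (by
      have e1 : G ◁ x = lift (fst G _) (toUnit (G ⊗ 𝟙_ _) ≫ x) := by
        refine CartesianMonoidalCategory.hom_ext _ _ (by simp) ?_
        rw [whiskerLeft_snd, lift_snd, toUnit_unique (toUnit _) (snd G _)]
      have h2 := hx (𝟙_ _) η[G]
      rw [toUnit_unique (toUnit (𝟙_ _)) (𝟙 _), Category.id_comp] at h2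
      rw [e1, hx, h2])
    rw [key]
    have h3 : lift (toUnit X ≫ η[G]) (𝟙 X) = (λ_ X).inv ≫ (η[G] ▷ X) := by ext <;> simp
    rw [h3, Category.assoc, a.one_act, Iso.inv_hom_id, Category.comp_id]
  · rw [Groth.Agent.S18096.result k G]
    intro n ρ hρ
    obtain ⟨a, o, ho, htriv⟩ := exists_linear_action ρ
    haveI : IsAffine (affSp k n).left := inferInstanceAs (IsAffine (Spec _))
    haveI : IsAffineHom (affSp k n).hom := inferInstanceAs (IsAffineHom (Spec.map _))
    haveI : IsSeparated (affSp k n).hom := inferInstance
    haveI : LocallyOfFiniteType (affSp k n).hom :=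
      (HasRingHomProperty.Spec_iff (P := @LocallyOfFiniteType)
        (φ := CommRingCat.ofHom (algebraMap k (MvPolynomial (Fin n) k)))).2
        (RingHom.finiteType_algebraMap.2 inferInstance)
    haveI : IsIntegral (affSp k n).left := inferInstanceAs (IsIntegral (Spec (CommRingCat.of (MvPolynomial (Fin n) k))))
    exact htriv (h (affSp k n) a o ho)

end Groth.Agent.S11405
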