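import Groth.Statements.S19702
import Groth.Agent.AlgGrpLib.AffineCriterion

set_option autoImplicit false
universe u
open CategoryTheory MonoidalCategory CartesianMonoidalCategory MonObj GrpObj AlgebraicGeometry CategoryTheory.Limits
open AlgGrp

namespace Groth.Agent.S19702

/-- Let k be a field, K a field extension of k and G a k-group scheme of finite type. Then G is
anti-affine, i.e. O(G) = k, if and only if the base change G_K is anti-affine, i.e. O(G_K) = K. -/
theorem result (k : Type u) [Field k] (K : Type u) [Field K] [Algebra k K]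
    (G : Over (Spec (CommRingCat.of k))) [GrpObj G] [LocallyOfFiniteType G.hom] [QuasiCompact G.hom] :
    Function.Bijective ((Scheme.ΓSpecIso (CommRingCat.of k)).inv ≫ G.hom.appTop).hom ↔
      Function.Bijective ((Scheme.ΓSpecIso (CommRingCat.of K)).inv ≫ (Red.bc (Spec.map (CommRingCat.ofHom (algebraMap k K))) G).hom.appTop).hom := by
  haveI : CompactSpace G.left := QuasiCompact.compactSpace_of_compactSpace G.hom
  haveI : IsLocallyNoetherian G.left := LocallyOfFiniteType.isLocallyNoetherian G.hom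
  haveI : QuasiSeparatedSpace G.left := inferInstance
  let b := Spec.map (CommRingCat.ofHom (algebraMap k K))
  haveI : Flat b := (HasRingHomProperty.Spec_iff (P := @Flat)).2
    (RingHom.flat_algebraMap_iff.2 (inferInstanceAs (Module.Flat k K)))
  have hconv : ∀ {F : Type u} [Field F] {Y : Over (Spec (CommRingCat.of F))},
      Function.Bijective ((Scheme.ΓSpecIso (CommRingCat.of F)).inv ≫ Y.hom.appTop).hom ↔
        Function.Bijective Y.hom.appTop :=
    fun {F _ Y} => Function.Bijective.of_comp_iff _ (ConcreteCategory.bijective_of_isIso (Scheme.ΓSpecIso (CommRingCat.of F)).inv)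
  rw [hconv, hconv]
  refine ⟨fun hG => ?_, fun hK => ?_⟩
  · exact Groth.Agent.PicLib.bijective_appTop_of_isPullback (pullback.fst G.hom b) (pullback.snd G.hom b) G.hom b
      (IsPullback.of_hasPullback _ _) hG
  let Y : Over (Spec (CommRingCat.of k)) := Over.mk b
  let ρ := Groth.Agent.AlgGrpLib.toAffOf G
  haveI : IsAffine Y.left := inferInstanceAs (IsAffine (Spec _))
  have h1 : Groth.Agent.AlgGrpLib.AffineHull.IsAffEpi (snd G Y) :=
    Groth.Agent.AlgGrpLib.AffineHull.isAffEpi_of_bijective _ hK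
  have h2 := Groth.Agent.AlgGrpLib.AffineHull.isAffEpi_whisker_affine G Y
  haveI hA : IsAffine (Groth.Agent.AlgGrpLib.affOf G ⊗ Y).left :=
    inferInstanceAs (IsAffine (pullback (Groth.Agent.AlgGrpLib.affOf G).hom b))
  obtain ⟨s, hs⟩ := (h1 _ hA).2 (ρ ▷ Y)
  have e1 : s ≫ snd _ Y = 𝟙 Y := (h1 Y inferInstance).1 (by
    show snd G Y ≫ s ≫ snd _ Y = snd G Y ≫ 𝟙 Y
    rw [reassoc_of% hs, whiskerRight_snd, Category.comp_id])
  have e2 : snd (Groth.Agent.AlgGrpLib.affOf G) Y ≫ s = 𝟙 _ := (h2 _ hA).1 (by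
    show (ρ ▷ Y) ≫ snd _ Y ≫ s = (ρ ▷ Y) ≫ 𝟙 _
    rw [whiskerRight_snd_assoc, Category.comp_id]
    exact hs)
  have hiso : IsIso (pullback.snd (Groth.Agent.AlgGrpLib.affOf G).hom b) :=
    ⟨s.left, congrArg CommaMorphism.left e2, congrArg CommaMorphism.left e1⟩
  haveI : IsIso (Groth.Agent.AlgGrpLib.affOf G).hom := by
    refine MorphismProperty.of_pullback_snd_of_descendsAlong (P := MorphismProperty.isomorphisms Scheme)
      (Q := @Surjective ⊓ @Flat ⊓ @QuasiCompact) (g := b) ?_ hiso
    exact ⟨⟨⟨fun z => ⟨Classical.arbitrary (PrimeSpectrum K), Subsingleton.elim _ _⟩⟩, inferInstance⟩, inferInstance⟩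
  have h3 := Groth.Agent.AlgGrpLib.AffineHull.bijective_appTop_toAffOf G
  have h4 : G.hom.appTop = (Groth.Agent.AlgGrpLib.affOf G).hom.appTop ≫ ρ.left.appTop := by
    rw [← Scheme.Hom.comp_appTop, Over.w ρ]
  rw [h4]
  exact h3.comp (ConcreteCategory.bijective_of_isIso
    (Scheme.Γ.mapIso (asIso (Groth.Agent.AlgGrpLib.affOf G).hom).op).hom)

end Groth.Agent.S19702
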