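import Groth.Statements.S18067
import Groth.Agent.SGA7Aut29.AntiPow
import Groth.Agent.S19702
-- import your own Groth.Agent.* helpers here

set_option autoImplicit false
set_option linter.style.haveILetI false
set_option backward.isDefEq.respectTransparency.types false
universe u
open CategoryTheory MonoidalCategory CartesianMonoidalCategory MonObj GrpObj AlgebraicGeometry CategoryTheory.Limits
open AlgGrp

namespace Groth.Agent.S18067

/-- Let k be a field and G an anti-affine algebraic group over k, i.e. a smooth k-group scheme of finite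
type with O(G) = k (hence connected and commutative). Then for every non-zero integer n the n-th
power map G → G, x ↦ x^n, is an isogeny: surjective and finite. -/
theorem result (k : Type u) [Field k]
    (G : Over (Spec (CommRingCat.of k))) [GrpObj G] [Smooth G.hom] [QuasiCompact G.hom]
    (hG : Function.Bijective ((Scheme.ΓSpecIso (CommRingCat.of k)).inv ≫ G.hom.appTop).hom) (n : ℤ) (hn : n ≠ 0) :
    Surjective ((𝟙 G) ^ n).left ∧ IsFinite ((𝟙 G) ^ n).left := by
  obtain ⟨hconn, hcomm⟩ := Groth.Agent.S3293.result k G hG
  haveI := hconn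
  haveI := hcomm
  have hK := (Groth.Agent.S19702.result k (AlgebraicClosure k) G).1 hG
  have hK' : Function.Bijective
      (Red.bc (Spec.map (CommRingCat.ofHom (algebraMap k (AlgebraicClosure k)))) G).hom.appTop :=
    (Function.Bijective.of_comp_iff _
      ((ConcreteCategory.isIso_iff_bijective (Scheme.ΓSpecIso (CommRingCat.of (AlgebraicClosure k))).inv).1 inferInstance)).1 hK
  have key : ∀ m : ℕ, 0 < m → Surjective ((𝟙 G : G ⟶ G) ^ m).left ∧ IsFinite ((𝟙 G : G ⟶ G) ^ m).left := fun m hm => by
    haveI := Groth.Agent.SGA7Aut29.surjective_pow_of_antiAffine_field G hK' hm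
    haveI := Groth.Agent.SGA7Aut29.isMonHom_pow (G := G) m
    exact ⟨inferInstance, Groth.Agent.SGA7Aut29.isFinite_of_surjective G _⟩
  obtain ⟨m, rfl | rfl⟩ := n.eq_nat_or_neg
  · rw [zpow_natCast]
    exact key m (by omega)
  · rw [zpow_neg, zpow_natCast]
    obtain ⟨h1, h2⟩ := key m (by omega)
    haveI := h1
    haveI := h2
    haveI : IsIso (ι[G]).left := inferInstanceAs (IsIso ((Over.forget _).map ι[G]))
    rw [Hom.inv_def, Over.comp_left]
    exact ⟨inferInstance, inferInstance⟩

end Groth.Agent.S18067
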