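import Groth.Statements.S11407
import Groth.Agent.AlgGrpLib.SemiabExt
import Groth.Agent.AlgGrpLib.AntiAffineParts
import Groth.Agent.UnipStruct.Unip
import Groth.Agent.S18067

set_option autoImplicit false
set_option backward.isDefEq.respectTransparency.types false
universe u
open CategoryTheory MonoidalCategory CartesianMonoidalCategory MonObj GrpObj AlgebraicGeometry CategoryTheory.Limits
open AlgGrp

namespace Groth.Agent.S11407

/-- Over an algebraically closed field k of characteristic p > 0, let G be a connected commutative
algebraic group (smooth k-group scheme of finite type) which is an extension of an abelian variety A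
(a proper, smooth, connected k-group scheme) by a connected unipotent algebraic group U: i : U → G
is a homomorphism and closed immersion from a smooth, connected, affine k-group scheme containing no
non-trivial subtorus (for smooth connected affine groups over an algebraically closed field this is
unipotency), and α : G → A is a flat surjective homomorphism with kernel i. Then the only global
functions on G are the constants if and only if U is the trivial group. -/
theorem result (k : Type u) [Field k] [IsAlgClosed k]
    (p : ℕ) [Fact p.Prime] [CharP k p]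
    (G : Over (Spec (CommRingCat.of k))) [GrpObj G] [Smooth G.hom] [QuasiCompact G.hom] [ConnectedSpace ↥G.left] [IsCommMonObj G]
    (U : Over (Spec (CommRingCat.of k))) [GrpObj U] (i : U ⟶ G) [IsMonHom i] [IsClosedImmersion i.left]
    [Smooth U.hom] [ConnectedSpace ↥U.left] [IsAffine U.left] (hU : Red.HasNoSubtorus k U)
    (A : Over (Spec (CommRingCat.of k))) [GrpObj A] [IsProper A.hom] [Smooth A.hom] [ConnectedSpace ↥A.left]
    (α : G ⟶ A) [IsMonHom α] [Surjective α.left] [Flat α.left] (hker : AlgGrp.IsKernel i α) :
    Function.Bijective ((Scheme.ΓSpecIso (CommRingCat.of k)).inv ≫ G.hom.appTop).hom ↔ IsIso U.hom := by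
  haveI : IsSeparated G.hom := Groth.Agent.SGA3xLib.isSeparated_of_grpObj G
  haveI : Mono i := Over.mono_of_mono_left i
  haveI : QuasiCompact α.left := Groth.Agent.AlgGrpLib.quasiCompact_left α
  constructor
  · intro h
    haveI : IsCommMonObj U := Groth.Agent.AlgGrpLib.LinearInduction.isCommMonObj_of_mono i
    obtain ⟨N, hN⟩ := Groth.Agent.UnipStruct.killed_iff.1 (Groth.Agent.UnipStruct.killed_of_hasNoSubtorus (p := p) hU)
    have hpos : (((p ^ N : ℕ) : ℤ)) ≠ 0 := by exact_mod_cast pow_ne_zero N (Fact.out : p.Prime).ne_zero
    obtain ⟨hsur, -⟩ := Groth.Agent.S18067.result k G h (p ^ N : ℕ) hpos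
    rw [zpow_natCast] at hsur
    haveI := hsur
    haveI : IsMonHom ((𝟙 G) ^ (p ^ N)) := Groth.Agent.SGA3cLib.BCPoints.isMonHom_of_mul _ fun X x y => by
      simp only [MonObj.comp_pow, Category.comp_id, mul_pow]
    obtain ⟨g, hg⟩ := Groth.Agent.AlgGrpLib.ExactSeqBasics.exists_desc α hker ((𝟙 G) ^ (p ^ N)) (by
      rw [MonObj.comp_pow, Category.comp_id, ← Category.id_comp i, ← MonObj.pow_comp, hN, MonObj.one_comp])
    haveI : Surjective (α.left ≫ g.left) := by rw [← Over.comp_left, hg]; infer_instance
    haveI : Surjective g.left := Surjective.of_comp α.left g.left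
    haveI : UniversallyClosed (g.left ≫ G.hom) := by rw [Over.w g]; infer_instance
    haveI : UniversallyClosed G.hom := UniversallyClosed.of_comp_surjective g.left G.hom
    haveI : IsProper G.hom := ⟨⟩
    haveI : IsProper U.hom := by rw [← Over.w i]; infer_instance
    haveI : IsAffineHom U.hom := isAffineHom_of_isAffine _
    haveI : IsFinite U.hom := (IsFinite.iff_isProper_and_isAffineHom).2 ⟨inferInstance, inferInstance⟩
    haveI : IsReduced U.left := Groth.Agent.AbSchLib.isReduced_of_smooth U.hom
    haveI := Groth.Agent.AlgGrpLib.AffineToProper.isIso_unit (Q := U)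
    haveI : IsIso η[U].left := inferInstanceAs (IsIso ((Over.forget _).map η[U]))
    haveI : IsIso (η[U].left ≫ U.hom) := by rw [Over.w η[U]]; exact inferInstanceAs (IsIso (𝟙 _))
    exact IsIso.of_isIso_comp_left η[U].left U.hom
  · intro h
    haveI := h
    haveI : Mono α := ⟨fun a b hab => by
      obtain ⟨c, hc⟩ := Groth.Agent.AlgGrpLib.exists_lift_kernel hker (g := a * b⁻¹) (by
        rw [MonObj.mul_comp, GrpObj.inv_comp, hab, mul_inv_cancel])
      have hc1 : c = 1 := Over.OverMorphism.ext (by rw [← cancel_mono U.hom, Over.w, Over.w])
      rw [hc1, MonObj.one_comp] at hc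
      exact mul_inv_eq_one.1 hc.symm⟩
    haveI : IsIso α.left := by
      haveI : Mono ((Over.forget _).map α) := inferInstance
      haveI : Mono α.left := ‹_›
      haveI : IsLocallyNoetherian A.left := LocallyOfFiniteType.isLocallyNoetherian A.hom
      haveI : LocallyOfFiniteType α.left := by
        haveI : LocallyOfFiniteType (α.left ≫ A.hom) := by rw [Over.w α]; infer_instance
        exact locallyOfFiniteType_of_comp α.left A.hom
      haveI : LocallyOfFinitePresentation α.left := inferInstance
      haveI : IsOpenImmersion α.left := IsOpenImmersion.of_flat_of_mono _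
      exact IsOpenImmersion.isIso _
    haveI : IsProper G.hom := by rw [← Over.w α]; infer_instance
    haveI := Groth.Agent.AlgGrpLib.AbelianSubvariety.geometricallyConnected_of_connected G
    haveI : GeometricallyIntegral G.hom := Groth.Agent.AbVarLib.geometricallyIntegral_of_smooth G.hom
    haveI := Groth.Agent.AbSchLib.geometricallyReduced_of_smooth G.hom
    have hb := Groth.Agent.AbSchLib.bijective_appTop_of_field k G.hom
    rw [CommRingCat.hom_comp, RingHom.coe_comp]
    exact Function.Bijective.comp hb (ConcreteCategory.bijective_of_isIso (Scheme.ΓSpecIso (CommRingCat.of k)).inv)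

end Groth.Agent.S11407
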