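import Groth.Statements.S14575
import Groth.Agent.AlgGrpLib.AffineCriterion
import Groth.Agent.AlgGrpLib.MultTypeAction2

set_option autoImplicit false
universe u
open CategoryTheory MonoidalCategory CartesianMonoidalCategory MonObj GrpObj AlgebraicGeometry CategoryTheory.Limits
open AlgGrp

namespace Groth.Agent.S14575

/-- Let k be a field, G a connected k-group scheme of finite type, j : Z → G its scheme-theoretic centre
and q : G → Q a flat surjective homomorphism of k-group schemes of finite type with kernel j, so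
that Q = G/Z. Then Q is affine. Neither smoothness of G nor any hypothesis on k is assumed;
connectedness of G cannot be dropped. -/
theorem result (k : Type u) [Field k]
    (G : Over (Spec (CommRingCat.of k))) [GrpObj G] [LocallyOfFiniteType G.hom] [QuasiCompact G.hom] [ConnectedSpace ↥G.left]
    (Z : Over (Spec (CommRingCat.of k))) [GrpObj Z] (j : Z ⟶ G) (hZ : Red.IsCentre j)
    (Q : Over (Spec (CommRingCat.of k))) [GrpObj Q] [LocallyOfFiniteType Q.hom] [QuasiCompact Q.hom]
    (q : G ⟶ Q) [IsMonHom q] [Surjective q.left] [Flat q.left] (hker : AlgGrp.IsKernel j q) :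
    IsAffine Q.left := by
  haveI : CompactSpace G.left := QuasiCompact.compactSpace_of_compactSpace G.hom
  haveI : IsLocallyNoetherian G.left := LocallyOfFiniteType.isLocallyNoetherian G.hom
  haveI : IsLocallyNoetherian Q.left := LocallyOfFiniteType.isLocallyNoetherian Q.hom
  haveI := Groth.Agent.SGA3xLib.isSeparated_of_grpObj G
  haveI : LocallyOfFiniteType q.left := by
    have h : LocallyOfFiniteType (q.left ≫ Q.hom) := by rw [Over.w]; infer_instance
    exact locallyOfFiniteType_of_comp q.left Q.hom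
  haveI : LocallyOfFinitePresentation q.left := inferInstance
  haveI : Epi q.left := Flat.epi_of_flat_of_surjective q.left
  haveI : Epi q := Over.epi_of_epi_left _
  have hz : ∀ {W : Over (Spec (CommRingCat.of k))} (z : W ⟶ Z) (x : W ⟶ G), (z ≫ j) * x = x * (z ≫ j) := by
    intro W z x
    simpa using (hZ.2.2 W (z ≫ j)).1 ⟨z, rfl⟩ W (𝟙 W) x
  have hF : ∀ {W : Over (Spec (CommRingCat.of k))} (x g : W ⟶ G),
      lift x g ≫ (snd G G * fst G G * (snd G G)⁻¹) = g * x * g⁻¹ := fun x g => by
    rw [MonObj.comp_mul, MonObj.comp_mul, GrpObj.comp_inv, lift_fst, lift_snd]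
  obtain ⟨f, hf⟩ := Groth.Agent.AlgGrpLib.MultTypeAct.desc_whisker q j hker
    (snd G G * fst G G * (snd G G)⁻¹) (fun x g z => by
      rw [hF, hF, _root_.mul_assoc g, hz z x, _root_.mul_inv_rev]
      group)
  refine Groth.Agent.AlgGrpLib.AffineHull.isAffine_of_antiAffine_trivial Q fun N _ _ _ i _ _ hN => ?_
  haveI : CompactSpace N.left := QuasiCompact.compactSpace_of_compactSpace N.hom
  haveI : IsLocallyNoetherian N.left := LocallyOfFiniteType.isLocallyNoetherian N.hom
  let φ : N ⊗ G ⟶ G := lift (snd N G) (fst N G ≫ i) ≫ f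
  have hone : lift (toUnit Q ≫ η[G]) (𝟙 Q) ≫ f = 1 := by
    rw [← cancel_epi q, MonObj.comp_one, ← Category.assoc, comp_lift, Category.comp_id, ← Category.assoc,
      comp_toUnit, ← Hom.one_def]
    have h := hf (1 : G ⟶ G) (𝟙 G)
    rw [Category.id_comp, hF] at h
    rw [h, _root_.mul_one, _root_.mul_inv_cancel]
  have hone' : ∀ {W : Over (Spec (CommRingCat.of k))} (y : W ⟶ Q), lift (1 : W ⟶ G) y ≫ f = 1 := fun y => by
    have h := congrArg (y ≫ ·) hone
    simp only [MonObj.comp_one, ← Category.assoc, comp_lift, comp_toUnit, Category.comp_id, ← Hom.one_def] at h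
    exact h
  have hφ : ∀ {W : Over (Spec (CommRingCat.of k))} (n : W ⟶ N) (x : W ⟶ G),
      lift n x ≫ φ = lift x (n ≫ i) ≫ f := fun n x => by
    rw [← Category.assoc, comp_lift, lift_snd, lift_fst_assoc]
  have h0 : (N ◁ η[G]) ≫ φ = toUnit _ ≫ lift η[N] η[G] ≫ φ := by
    have e1 : N ◁ η[G] = lift (fst N _) (1 : N ⊗ 𝟙_ _ ⟶ G) := by
      refine CartesianMonoidalCategory.hom_ext _ _ (by simp) ?_
      rw [whiskerLeft_snd, lift_snd, Hom.one_def, toUnit_unique (toUnit _) (snd N _)]
    rw [e1, hφ, hφ, hone', show (η[G] : 𝟙_ _ ⟶ G) = 1 from MonObj.one_eq_one G, hone', MonObj.comp_one]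
  have key := Groth.Agent.AlgGrpLib.eq_snd_of_antiAffine hN η[N] η[G] φ h0
  have key' : ∀ {W : Over (Spec (CommRingCat.of k))} (n : W ⟶ N) (x : W ⟶ G),
      lift x (n ≫ i) ≫ f = x := fun n x => by
    have h := congrArg (lift n x ≫ ·) key
    simp only [hφ, lift_snd_assoc, Category.id_comp, ← Hom.one_def, IsMonHom.one_hom, MonObj.one_comp] at h
    have h2 := hf x (1 : _ ⟶ G)
    rw [MonObj.one_comp, hF, _root_.one_mul, _root_.inv_one, _root_.mul_one] at h2
    rw [h, ← Category.assoc, comp_lift, MonObj.comp_one, Category.comp_id, h2]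
  let g0 := pullback.snd i q
  let p0 := pullback.fst i q
  have hc : ∀ (X' : Over (Spec (CommRingCat.of k))) (t : X' ⟶ pullback i q) (x : X' ⟶ G),
      (t ≫ g0) * (x ≫ 𝟙 G) = (x ≫ 𝟙 G) * (t ≫ g0) := fun X' t x => by
    rw [Category.comp_id]
    have h := hf x (t ≫ g0)
    rw [hF, Category.assoc, ← pullback.condition, ← Category.assoc, key'] at h
    exact (mul_inv_eq_iff_eq_mul.1 h.symm)
  obtain ⟨z, hzj⟩ := (hZ.2.2 _ g0).2 hc
  have hgq : g0 ≫ q = 1 := by
    rw [← hzj, Category.assoc, Groth.Agent.AlgGrpLib.kernel_comp hker, MonObj.comp_one]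
  haveI : Surjective p0.left ∧ Flat p0.left := by
    have h := (IsPullback.of_hasPullback i q).map (Over.forget _)
    exact ⟨MorphismProperty.of_isPullback (P := @Surjective) h.flip ‹_›,
      MorphismProperty.of_isPullback (P := @Flat) h.flip ‹_›⟩
  obtain ⟨_, _⟩ := this
  haveI : Epi p0.left := Flat.epi_of_flat_of_surjective p0.left
  haveI : Epi p0 := Over.epi_of_epi_left _
  rw [← cancel_epi p0, MonObj.comp_one, pullback.condition]
  exact hgq

end Groth.Agent.S14575
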