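import Groth.Statements.S11410
import Groth.Agent.AlgGrpLib.AffineCriterion
import Groth.Agent.AlgGrpLib.ActionShear

set_option autoImplicit false
universe u
open CategoryTheory MonoidalCategory CartesianMonoidalCategory MonObj GrpObj AlgebraicGeometry CategoryTheory.Limits
open AlgGrp

namespace Groth.Agent.S11410

/-- Over an algebraically closed field k, let G be an algebraic group (a smooth k-group scheme of finite
type) acting on a variety X (an integral, separated k-scheme of finite type), faithfully in the
sense that every rational point of G acting as the identity of X is the identity element. Then for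
every rational point x of X, the isotropy subgroup scheme of x (a closed subgroup scheme of G whose
points are exactly the points of G fixing x) is affine. -/
theorem result (k : Type u) [Field k] [IsAlgClosed k]
    (G X : Over (Spec (CommRingCat.of k))) [GrpObj G] [Smooth G.hom] [QuasiCompact G.hom]
    [LocallyOfFiniteType X.hom] [QuasiCompact X.hom] [IsSeparated X.hom] [IsIntegral X.left]
    (a : AlgGrp.Action G X)
    (hfaith : ∀ g : 𝟙_ (Over (Spec (CommRingCat.of k))) ⟶ G, lift (toUnit X ≫ g) (𝟙 X) ≫ a.act = 𝟙 X → g = η[G])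
    (x : 𝟙_ (Over (Spec (CommRingCat.of k))) ⟶ X) (St : Over (Spec (CommRingCat.of k))) [GrpObj St] (s : St ⟶ G) [IsMonHom s] [IsClosedImmersion s.left]
    (hs : ∀ (T : Over (Spec (CommRingCat.of k))) (g : T ⟶ G), (∃ t : T ⟶ St, t ≫ s = g) ↔ lift g (toUnit T ≫ x) ≫ a.act = toUnit T ≫ x) :
    IsAffine St.left := by
  haveI : LocallyOfFiniteType G.hom := inferInstance
  haveI : LocallyOfFiniteType St.hom := by rw [← Over.w s]; infer_instance
  haveI : QuasiCompact St.hom := by rw [← Over.w s]; infer_instance
  haveI : IsLocallyNoetherian X.left := LocallyOfFiniteType.isLocallyNoetherian X.hom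
  refine Groth.Agent.AlgGrpLib.AffineHull.isAffine_of_antiAffine_trivial St fun N _ _ _ i _ _ hN => ?_
  haveI : CompactSpace N.left := QuasiCompact.compactSpace_of_compactSpace N.hom
  haveI : IsLocallyNoetherian N.left := LocallyOfFiniteType.isLocallyNoetherian N.hom
  let φ : N ⊗ X ⟶ X := ((i ≫ s) ▷ X) ≫ a.act
  have hφ : ∀ {W : Over (Spec (CommRingCat.of k))} (m : W ⟶ N) (y : W ⟶ X),
      lift m y ≫ φ = lift (m ≫ i ≫ s) y ≫ a.act := fun m y => by
    rw [← Category.assoc, lift_whiskerRight]
  have hfx : ∀ {W : Over (Spec (CommRingCat.of k))} (m : W ⟶ N),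
      lift (m ≫ i ≫ s) (toUnit W ≫ x) ≫ a.act = toUnit W ≫ x := fun m =>
    (hs _ _).1 ⟨m ≫ i, Category.assoc _ _ _⟩
  have h0 : (N ◁ x) ≫ φ = toUnit _ ≫ lift η[N] x ≫ φ := by
    have e1 : N ◁ x = lift (fst N _) (toUnit (N ⊗ 𝟙_ _) ≫ x) := by
      refine CartesianMonoidalCategory.hom_ext _ _ (by simp) ?_
      rw [whiskerLeft_snd, lift_snd, toUnit_unique (toUnit _) (snd N _)]
    have e2 : lift (η[N] ≫ i ≫ s) x ≫ a.act = x := by
      have h := hfx η[N]
      rwa [toUnit_unique (toUnit (𝟙_ _)) (𝟙 _), Category.id_comp] at h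
    rw [e1, hφ, hφ, hfx, e2]
  have key := Groth.Agent.AlgGrpLib.eq_snd_of_antiAffine hN η[N] x φ h0
  have hpts : ∀ p : 𝟙_ (Over (Spec (CommRingCat.of k))) ⟶ N, p = η[N] := fun p => by
    have h := congrArg (lift (toUnit X ≫ p) (𝟙 X) ≫ ·) key
    simp only [hφ, lift_snd_assoc, Category.id_comp, ← Hom.one_def, MonObj.one_comp,
      Groth.Agent.AlgGrpLib.one_act', Category.assoc] at h
    have h1 := hfaith (p ≫ i ≫ s) h
    haveI : Mono (i ≫ s) := by
      haveI : Mono i := Over.mono_of_mono_left _
      haveI : Mono s := Over.mono_of_mono_left _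
      exact mono_comp _ _
    rw [← cancel_mono (i ≫ s), h1, IsMonHom.one_hom]
  haveI : JacobsonSpace N.left := LocallyOfFiniteType.jacobsonSpace N.hom
  have hclosed : ∀ y ∈ closedPoints N.left, y = η[N].left (IsLocalRing.closedPoint k) := fun y hy => by
    have h := hpts (Over.homMk (pointOfClosedPoint N.hom y hy) (pointOfClosedPoint_comp N.hom y hy))
    rw [← h]
    exact (pointOfClosedPoint_apply N.hom y hy _).symm
  have hall : ∀ y : N.left, y = η[N].left (IsLocalRing.closedPoint k) := fun y => by
    haveI := Groth.Agent.SGA3xLib.isSeparated_of_grpObj N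
    have hc : IsClosed ({η[N].left (IsLocalRing.closedPoint k)} : Set N.left) := by
      have h1 : IsClosedImmersion η[N].left := inferInstance
      have h2 := h1.base_closed.isClosed_range
      have h3 : Set.range η[N].left = {η[N].left (IsLocalRing.closedPoint k)} := by
        ext z; constructor
        · rintro ⟨w, rfl⟩; exact congrArg η[N].left (((inferInstance : Subsingleton (PrimeSpectrum k))).elim w (IsLocalRing.closedPoint k))
        · rintro rfl; exact ⟨_, rfl⟩
      rwa [h3] at h2
    by_contra hne
    obtain ⟨z, hz, hz'⟩ := nonempty_inter_closedPoints (X := N.left) (Z := ({η[N].left (IsLocalRing.closedPoint k)} : Set N.left)ᶜ)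
      ⟨y, hne⟩ hc.isOpen_compl.isLocallyClosed
    exact hz (hclosed z hz')
  haveI : IsAffine N.left := by
    obtain ⟨_, ⟨U, hU, rfl⟩, hyU, -⟩ := N.left.isBasis_affineOpens.exists_subset_of_mem_open
      (Set.mem_univ (η[N].left (IsLocalRing.closedPoint k))) isOpen_univ
    have htop : U = ⊤ := top_le_iff.1 fun y _ => hall y ▸ hyU
    subst htop
    haveI : IsAffine ((⊤ : N.left.Opens) : Scheme) := hU
    exact IsAffine.of_isIso N.left.topIso.inv
  have h1 := Groth.Agent.AlgGrpLib.AffineHull.eq_one_of_isAffine hN (𝟙 N)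
  rw [← Category.id_comp i, h1, MonObj.one_comp]

end Groth.Agent.S11410
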