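import Groth.Statements.S11411
import Groth.Agent.AlgGrpLib.AffineCriterion

set_option autoImplicit false
universe u
open CategoryTheory MonoidalCategory CartesianMonoidalCategory MonObj GrpObj AlgebraicGeometry CategoryTheory.Limits
open AlgGrp

namespace Groth.Agent.S11411

/-- Over an algebraically closed field k, let G be an algebraic group (a smooth k-group scheme of finite
type) and N the kernel of the canonical morphism ρ : G → Spec O(G), i.e. the fibre of ρ over the
image of the unit. Then N is the smallest normal subgroup scheme of G with affine quotient: for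
every closed normal subgroup scheme H of G with a flat surjective homomorphism G → Q of k-group
schemes of finite type with kernel H and Q affine, the inclusion of N factors through H. And N is
the largest anti-affine subgroup scheme: every homomorphism and closed immersion into G from a
k-group scheme whose only global functions are the constants factors through N. (The published
statement also asserts O(N) = k, that N is a connected algebraic group central in G⁰, and O(G/N) =
O(G) finitely generated; those parts are not restated here.) -/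
theorem result (k : Type u) [Field k] [IsAlgClosed k]
    (G : Over (Spec (CommRingCat.of k))) [GrpObj G] [Smooth G.hom] [QuasiCompact G.hom] :
    (∀ (H Q : Over (Spec (CommRingCat.of k))) [GrpObj H] [GrpObj Q] (h : H ⟶ G) [IsMonHom h] [IsClosedImmersion h.left]
        [LocallyOfFiniteType Q.hom] [QuasiCompact Q.hom] (q : G ⟶ Q) [IsMonHom q] [Surjective q.left] [Flat q.left],
        AlgGrp.IsKernel h q → IsAffine Q.left →
        ∃ f : pullback G.left.toSpecΓ (η[G].left ≫ G.left.toSpecΓ) ⟶ H.left, f ≫ h.left = pullback.fst G.left.toSpecΓ (η[G].left ≫ G.left.toSpecΓ)) ∧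
    (∀ (M : Over (Spec (CommRingCat.of k))) [GrpObj M] (j : M ⟶ G) [IsMonHom j] [IsClosedImmersion j.left],
        Function.Bijective ((Scheme.ΓSpecIso (CommRingCat.of k)).inv ≫ M.hom.appTop).hom →
        ∃ f : M.left ⟶ pullback G.left.toSpecΓ (η[G].left ≫ G.left.toSpecΓ), f ≫ pullback.fst G.left.toSpecΓ (η[G].left ≫ G.left.toSpecΓ) = j.left) := by
  haveI : CompactSpace G.left := QuasiCompact.compactSpace_of_compactSpace G.hom
  haveI : IsLocallyNoetherian G.left := LocallyOfFiniteType.isLocallyNoetherian G.hom
  obtain ⟨g, hρ, -, hf, -⟩ := Groth.Agent.AlgGrpLib.AffineHull.affinization G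
  let ρ := Groth.Agent.AlgGrpLib.toAffOf G
  have hη : η[G].left ≫ G.left.toSpecΓ = η[Groth.Agent.AlgGrpLib.affOf G].left := by
    have h := congrArg (fun m => CommaMorphism.left m) (IsMonHom.one_hom ρ)
    exact h
  let e : 𝟙_ (Over (Spec (CommRingCat.of k))) ⟶ Groth.Agent.AlgGrpLib.affOf G := η[_]
  have hk : AlgGrp.IsKernel (pullback.fst ρ e) ρ := by
    have h := IsPullback.of_hasPullback ρ e
    rw [toUnit_unique (pullback.snd ρ e) (toUnit _)] at h
    exact h
  let P := pullback G.left.toSpecΓ (η[G].left ≫ G.left.toSpecΓ)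
  let p : P ⟶ G.left := pullback.fst _ _
  let Nv : Over (Spec (CommRingCat.of k)) := Over.mk (p ≫ G.hom)
  let nv : Nv ⟶ G := Over.homMk p
  refine ⟨fun H Q _ _ h _ _ _ _ q _ _ _ hhq hQ => ?_, fun M _ j _ _ hM => ?_⟩
  · haveI := hQ
    obtain ⟨N, _, i, _, _, _, _, hN, hNk⟩ : ∃ (N : Over (Spec (CommRingCat.of k))) (_ : GrpObj N) (i : N ⟶ G),
        IsMonHom i ∧ IsClosedImmersion i.left ∧ LocallyOfFiniteType N.hom ∧ QuasiCompact N.hom ∧
          Function.Bijective N.hom.appTop ∧ AlgGrp.IsKernel i ρ := by
      obtain ⟨_, hmon⟩ := Groth.Agent.AlgGrpLib.exists_grpObj_kernel ρ _ hk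
      haveI : IsClosedImmersion e.left := inferInstanceAs (IsClosedImmersion (η[_] : 𝟙_ _ ⟶ Groth.Agent.AlgGrpLib.affOf G).left)
      haveI hci : IsClosedImmersion (pullback.fst ρ e).left :=
        MorphismProperty.of_isPullback (P := @IsClosedImmersion) (hk.map (Over.forget _)).flip ‹_›
      exact ⟨_, _, _, hmon, hci, by rw [← Over.w (pullback.fst ρ e)]; infer_instance,
        by rw [← Over.w (pullback.fst ρ e)]; infer_instance,
        Groth.Agent.AlgGrpLib.AffineHull.bijective_appTop_kernel G _ hk, hk⟩
    have hiq : i ≫ q = 1 := Groth.Agent.AlgGrpLib.AffineHull.eq_one_of_isAffine hN (i ≫ q)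
    obtain ⟨f₀, hf₀⟩ := Groth.Agent.AlgGrpLib.exists_lift_kernel hhq hiq
    have hnv : nv ≫ ρ = 1 := by
      rw [Hom.one_def]
      refine Over.OverMorphism.ext ?_
      rw [Over.comp_left, Over.comp_left, ← hη]
      refine (pullback.condition).trans ?_
      congr 1
      have h1 : p ≫ G.hom = pullback.snd G.left.toSpecΓ (η[G].left ≫ G.left.toSpecΓ) := by
        have h2 := congrArg (· ≫ (Groth.Agent.AlgGrpLib.affOf G).hom)
          (pullback.condition (f := G.left.toSpecΓ) (g := η[G].left ≫ G.left.toSpecΓ))
        rw [← Over.w ρ]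
        exact h2.trans ((Category.assoc _ _ _).trans ((congrArg (_ ≫ ·) (Over.w (η[G] ≫ ρ))).trans (Category.comp_id _)))
      exact h1.symm
    obtain ⟨c, hc⟩ := Groth.Agent.AlgGrpLib.exists_lift_kernel hNk hnv
    refine ⟨(c ≫ f₀).left, ?_⟩
    rw [← Over.comp_left, Category.assoc, hf₀, hc]
    rfl
  · haveI : LocallyOfFiniteType M.hom := by rw [← Over.w j]; infer_instance
    haveI : QuasiCompact M.hom := by rw [← Over.w j]; infer_instance
    have hM' := Groth.Agent.AlgGrpLib.bijective_appTop_of_const hM
    have h1 : j ≫ ρ = 1 := Groth.Agent.AlgGrpLib.AffineHull.eq_one_of_isAffine hM' (j ≫ ρ)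
    have h2 := congrArg (fun m => CommaMorphism.left m) h1
    simp only [Hom.one_def, Over.comp_left] at h2
    refine ⟨pullback.lift j.left M.hom ?_, pullback.lift_fst _ _ _⟩
    rw [hη]
    exact h2

end Groth.Agent.S11411
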