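import Groth.Statements.S11416
import Groth.Agent.AlgGrpLib.AntiAffinePoints
import Groth.Agent.GrassLib.OverPoints

set_option autoImplicit false
universe u
open CategoryTheory MonoidalCategory CartesianMonoidalCategory MonObj GrpObj AlgebraicGeometry CategoryTheory.Limits
open AlgGrp

namespace Groth.Agent.S11416

/-- Over an algebraically closed field k, let G be an algebraic group (a smooth k-group scheme of finite
type) and M a rational G-module, not necessarily finite-dimensional: a k-vector space with a
G-module structure (points of G with values in a k-algebra B act B-linearly on B ⊗ M, naturally in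
B) such that every vector lies in a finite-dimensional subspace N with B ⊗ N stable under all
B-points of G. If the representation is faithful, in the sense that every rational point of G acting
as the identity on M is the identity element, then G is affine. -/
theorem result (k : Type u) [Field k] [IsAlgClosed k]
    (G : Over (Spec (CommRingCat.of k))) [GrpObj G] [Smooth G.hom] [QuasiCompact G.hom]
    (M : Type u) [AddCommGroup M] [Module k M] (m : VecGrp.GMod G M)
    (hlf : ∀ v : M, ∃ N : Submodule k M, v ∈ N ∧ Module.Finite k ↥N ∧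
      ∀ (B : Type u) [CommRing B] [Algebra k B] (g : VecGrp.pt k B ⟶ G) (x : VecGrp.W k M B),
        x ∈ Submodule.baseChange B N → m.ρ B g x ∈ Submodule.baseChange B N)
    (hfaith : ∀ g : VecGrp.pt k k ⟶ G, m.ρ k g = 1 → g = 1) :
    IsAffine G.left := by
  haveI : LocallyOfFiniteType G.hom := inferInstance
  refine Groth.Agent.AlgGrpLib.AffineHull.isAffine_of_antiAffine_trivial G fun N _ _ _ i _ _ hN => ?_
  haveI : CompactSpace N.left := QuasiCompact.compactSpace_of_compactSpace N.hom
  haveI : IsLocallyNoetherian N.left := LocallyOfFiniteType.isLocallyNoetherian N.hom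
  have hconst : ∀ (g : VecGrp.pt k k ⟶ N) (v : M) (l : M →ₗ[k] k),
      TensorProduct.rid k k (l.baseChange k (m.ρ k (g ≫ i) (1 ⊗ₜ v))) =
        TensorProduct.rid k k (l.baseChange k (m.ρ k 1 (1 ⊗ₜ v))) := by
    intro g v l
    let Φ : ∀ A : CommAlgCat.{u} k, (Groth.Agent.GrassLib.pt A ⟶ N) →
        (Groth.Agent.GrassLib.pt A ⟶ VecGrp.pt k (Polynomial k)) := fun A p =>
      VecGrp.ptMap (Polynomial.aeval (TensorProduct.rid k A (l.baseChange A (m.ρ A (p ≫ i) ((1 : A) ⊗ₜ v)))))
    obtain ⟨F, hF⟩ := Groth.Agent.GrassLib.exists_hom (X := N) (Y := VecGrp.pt k (Polynomial k)) Φ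
      (fun A B φ p p' hp => by
        have hp2 : p' ≫ i = VecGrp.ptMap φ.hom ≫ (p ≫ i : VecGrp.pt k A ⟶ G) := by
          refine Over.OverMorphism.ext ?_
          show p'.left ≫ i.left = Spec.map (CommRingCat.ofHom φ.hom.toRingHom) ≫ p.left ≫ i.left
          rw [hp, Category.assoc]
        simp only [Φ, VecGrp.ptMap_left, ← Spec.map_comp, ← CommRingCat.ofHom_comp]
        congr 2
        refine Polynomial.ringHom_ext (fun a => by simp) ?_
        simp only [AlgHom.toRingHom_eq_coe, RingHom.coe_coe, RingHom.comp_apply, Polynomial.aeval_X]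
        have hn := m.naturality φ.hom (p ≫ i : VecGrp.pt k A ⟶ G) ((1 : A) ⊗ₜ[k] v)
        rw [VecGrp.Wmap_tmul, map_one, ← hp2] at hn
        have hb := VecGrp.baseChange_natural (N := k) l φ.hom (m.ρ A (p ≫ i) ((1 : A) ⊗ₜ[k] v))
        rw [hn] at hb
        refine (congrArg (TensorProduct.rid k B) hb).symm.trans ?_
        generalize l.baseChange A (m.ρ A (p ≫ i) ((1 : A) ⊗ₜ[k] v)) = z
        induction z using TensorProduct.induction_on with
        | zero => simp
        | tmul a r => simp
        | add a b ha hb => simp only [map_add, ha, hb])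
    haveI : IsAffine (VecGrp.pt k (Polynomial k)).left := inferInstanceAs (IsAffine (Spec _))
    have hc := Groth.Agent.AlgGrpLib.eq_const_of_affine hN η[N] F
    have h1 : g ≫ F = (1 : VecGrp.pt k k ⟶ N) ≫ F := by
      rw [hc, ← Category.assoc g, comp_toUnit, ← Category.assoc (1 : VecGrp.pt k k ⟶ N), comp_toUnit]
    have hg : g ≫ F = Φ (CommAlgCat.of k k) g := hF (CommAlgCat.of k k) g
    have he : (1 : VecGrp.pt k k ⟶ N) ≫ F = Φ (CommAlgCat.of k k) (1 : VecGrp.pt k k ⟶ N) :=
      hF (CommAlgCat.of k k) (1 : VecGrp.pt k k ⟶ N)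
    rw [hg, he] at h1
    have h2 := Spec.map_injective (congrArg CommaMorphism.left h1)
    have h3 := congr($h2 Polynomial.X)
    simpa [MonObj.one_comp] using h3
  have htriv : ∀ g : VecGrp.pt k k ⟶ N, g ≫ i = 1 := fun g => by
    refine hfaith _ (LinearEquiv.toLinearMap_injective (TensorProduct.AlgebraTensorModule.ext fun a v => ?_))
    have key : m.ρ k (g ≫ i) ((1 : k) ⊗ₜ v) = (1 : k) ⊗ₜ v := by
      apply (TensorProduct.lid k M).injective
      rw [← sub_eq_zero, ← Module.forall_dual_apply_eq_zero_iff k]
      intro l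
      have e : ∀ x : VecGrp.W k M k, l (TensorProduct.lid k M x) = TensorProduct.rid k k (LinearMap.baseChange k l x) := fun x => by
        induction x using TensorProduct.induction_on with
        | zero => simp
        | tmul a r => simp [mul_comm]
        | add a b ha hb => simp only [map_add, ha, hb]
      rw [map_sub, e, e, hconst g v l, map_one, sub_eq_zero]
      rfl
    show m.ρ k (g ≫ i) (a ⊗ₜ v) = a ⊗ₜ v
    rw [show (a ⊗ₜ[k] v : VecGrp.W k M k) = a • ((1 : k) ⊗ₜ v) by rw [TensorProduct.smul_tmul', smul_eq_mul, _root_.mul_one],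
      LinearEquiv.map_smul, key]
  refine Groth.Agent.AlgGrpLib.AffineHull.eq_one_of_points hN i fun p => ?_
  haveI : Mono i := Over.mono_of_mono_left _
  let e : VecGrp.pt k k ≅ 𝟙_ (Over (Spec (CommRingCat.of k))) := Over.isoMk (Iso.refl _) (by
    show 𝟙 _ ≫ 𝟙 _ = Spec.map (CommRingCat.ofHom (algebraMap k k))
    rw [Algebra.algebraMap_self, CommRingCat.ofHom_id, Spec.map_id, Category.comp_id])
  have h := htriv (e.hom ≫ p)
  rw [← cancel_mono i, ← cancel_epi e.hom, ← Category.assoc, h, IsMonHom.one_hom,
    show (η[G] : 𝟙_ _ ⟶ G) = 1 from MonObj.one_eq_one G, MonObj.comp_one]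

end Groth.Agent.S11416
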