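import Groth.Statements.S11418
import Mathlib.CategoryTheory.Monoidal.Cartesian.Over

set_option autoImplicit false
universe u
open CategoryTheory MonoidalCategory CartesianMonoidalCategory MonObj GrpObj AlgebraicGeometry CategoryTheory.Limits
open AlgGrp

namespace Groth.Agent.S11418

/-- Over an algebraically closed field k, let G be an affine algebraic group (smooth affine k-group
scheme of finite type) and π : X → Y a principal G-bundle of k-schemes of finite type: G acts on X,
π is G-invariant, faithfully flat, and the square formed by the action, the second projection G × X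
→ X and π is cartesian. Then the map θ sending a G-equivariant morphism f : X → G (for the
conjugation action on G, i.e. f(g·x) = g f(x) g⁻¹ on points) to the automorphism x ↦ f(x)·x is a
bijection onto the bundle automorphisms: every G-equivariant automorphism φ of X with π ∘ φ = π
equals θ(f) for exactly one such f. -/
theorem result (k : Type u) [Field k] [IsAlgClosed k]
    (G X Y : Over (Spec (CommRingCat.of k))) [GrpObj G] [Smooth G.hom] [QuasiCompact G.hom] [IsAffine G.left]
    [LocallyOfFiniteType X.hom] [QuasiCompact X.hom] [LocallyOfFiniteType Y.hom] [QuasiCompact Y.hom]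
    (a : AlgGrp.Action G X) (π : X ⟶ Y) (hinv : a.act ≫ π = snd G X ≫ π) [Flat π.left] [Surjective π.left]
    (hcart : IsPullback (snd G X) a.act π π)
    (φ : X ≅ X) (hφ : φ.hom ≫ π = π) (hφeq : (G ◁ φ.hom) ≫ a.act = a.act ≫ φ.hom) :
    ∃! f : X ⟶ G, (∀ (S : Over (Spec (CommRingCat.of k))) (g : S ⟶ G) (x : S ⟶ X),
        lift g x ≫ a.act ≫ f = g * (x ≫ f) * g⁻¹) ∧ φ.hom = lift f (𝟙 X) ≫ a.act := by
  have hmul : ∀ {T : Over (Spec (CommRingCat.of k))} (g h : T ⟶ G) (x : T ⟶ X),
      lift (g * h) x ≫ a.act = lift g (lift h x ≫ a.act) ≫ a.act := fun g h x => by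
    rw [Hom.mul_def, ← lift_whiskerRight, Category.assoc, a.mul_act]
    simp
  have hone : ∀ {T : Over (Spec (CommRingCat.of k))} (x : T ⟶ X), lift 1 x ≫ a.act = x := fun x => by
    rw [Hom.one_def, ← lift_whiskerRight, Category.assoc, a.one_act, lift_leftUnitor_hom]
  obtain ⟨w, hw1, hw2⟩ := hcart.exists_lift (𝟙 X) φ.hom (by rw [hφ, Category.id_comp])
  let f : X ⟶ G := w ≫ fst G X
  have hw : w = lift f (𝟙 X) := CartesianMonoidalCategory.hom_ext _ _ (by simp [f]) (by simp [hw1])
  have hφf : φ.hom = lift f (𝟙 X) ≫ a.act := by rw [← hw, hw2]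
  have hpt : ∀ {T : Over (Spec (CommRingCat.of k))} (x : T ⟶ X), x ≫ φ.hom = lift (x ≫ f) x ≫ a.act := fun x => by
    rw [hφf, ← Category.assoc, comp_lift, Category.comp_id]
  refine ⟨f, ⟨fun T g x => ?_, hφf⟩, fun f' hf' => ?_⟩
  · have e1 : lift g x ≫ (G ◁ φ.hom) ≫ a.act = lift g x ≫ a.act ≫ φ.hom := congrArg (lift g x ≫ ·) hφeq
    rw [lift_whiskerLeft_assoc, hpt x, ← hmul, ← Category.assoc (lift g x) a.act, hpt (lift g x ≫ a.act), ← hmul] at e1
    have e2 : lift ((lift g x ≫ a.act) ≫ f * g) x = lift (g * (x ≫ f)) x :=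
      hcart.hom_ext (by simp) e1.symm
    have e3 := congrArg (· ≫ fst G X) e2
    simp only [lift_fst] at e3
    rw [← Category.assoc, eq_mul_inv_iff_mul_eq]
    exact e3
  · have e : lift f' (𝟙 X) = lift f (𝟙 X) := hcart.hom_ext (by simp) (by rw [← hf'.2, ← hφf])
    simpa using congrArg (· ≫ fst G X) e

end Groth.Agent.S11418
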