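import Groth.Statements.S11420
import Groth.Agent.AlgGrpLib.AntiAffine
import Groth.Agent.AbSchLib.GlobalSections
import Groth.Agent.SGA3cLib.GeomConn

set_option autoImplicit false
universe u
open CategoryTheory MonoidalCategory CartesianMonoidalCategory MonObj GrpObj AlgebraicGeometry CategoryTheory.Limits
open AlgGrp

namespace Groth.Agent.S11420

set_option backward.isDefEq.respectTransparency.types false

variable {k : Type u} [Field k]

/-- A proper integral scheme over an algebraically closed field has only constant functions. -/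
theorem bijective_appTop [IsAlgClosed k] (Y : Over (Spec (CommRingCat.of k))) [IsProper Y.hom] [IsIntegral Y.left] :
    Function.Bijective Y.hom.appTop := by
  refine AlgGrpLib.bijective_appTop_of_const ⟨?_, ?_⟩
  · haveI : Nonempty (⊤ : Y.left.Opens) := ⟨⟨(inferInstance : Nonempty Y.left).some, trivial⟩⟩
    exact RingHom.injective _
  · intro y
    obtain ⟨x, hx⟩ := AbSchLib.surjective_appTop_of_isAlgClosed k Y.hom y
    refine ⟨(Scheme.ΓSpecIso (CommRingCat.of k)).hom x, ?_⟩
    show Y.hom.appTop ((Scheme.ΓSpecIso (CommRingCat.of k)).inv ((Scheme.ΓSpecIso (CommRingCat.of k)).hom x)) = y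
    rw [← CommRingCat.comp_apply (Scheme.ΓSpecIso (CommRingCat.of k)).hom, Iso.hom_inv_id]
    exact hx

theorem hom_ext_of_epi {G X : Over (Spec (CommRingCat.of k))} [GrpObj G] {a b : AlgGrp.Action G X} (h : a.act = b.act) :
    a = b := by
  cases a; cases b; congr

/-- An action on a product descends to a factor when the other factor is anti-affine. -/
theorem exists_factor [IsAlgClosed k] (G X Y : Over (Spec (CommRingCat.of k))) [GrpObj G]
    [LocallyOfFiniteType G.hom] [ConnectedSpace G.left]
    [LocallyOfFiniteType X.hom] [ConnectedSpace X.left] [IsSeparated X.hom] [LocallyOfFiniteType Y.hom]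
    [QuasiCompact Y.hom] (hY : Function.Bijective Y.hom.appTop) (x₀ : 𝟙_ (Over (Spec (CommRingCat.of k))) ⟶ X)
    (y₀ : 𝟙_ (Over (Spec (CommRingCat.of k))) ⟶ Y)
    (act : G ⊗ (X ⊗ Y) ⟶ X) (hact : ∀ (T : Over (Spec (CommRingCat.of k))) (x : T ⟶ X) (y : T ⟶ Y),
      lift (toUnit T ≫ η[G]) (lift x y) ≫ act = x) :
    ∃ b : G ⊗ X ⟶ X, ∀ (T : Over (Spec (CommRingCat.of k))) (g : T ⟶ G) (x : T ⟶ X) (y : T ⟶ Y),
      lift g (lift x y) ≫ act = lift g x ≫ b := by
  haveI : CompactSpace Y.left := QuasiCompact.compactSpace_of_compactSpace Y.hom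
  haveI : IsLocallyNoetherian Y.left := LocallyOfFiniteType.isLocallyNoetherian Y.hom
  have hgc : GeometricallyConnected G.hom := by
    have := SGA3cLib.geometricallyConnected_of_rational_point k G.hom (𝟙 G.left) η[G].left (Over.w η[G]) (by simp)
    rwa [Category.id_comp] at this
  haveI : ConnectedSpace (G ⊗ X).left := inferInstanceAs (ConnectedSpace ↥(pullback G.hom X.hom))
  haveI : LocallyOfFiniteType (G ⊗ X).hom :=
    inferInstanceAs (LocallyOfFiniteType (pullback.fst G.hom X.hom ≫ G.hom))
  haveI : IsLocallyNoetherian (G ⊗ X).left := LocallyOfFiniteType.isLocallyNoetherian (G ⊗ X).hom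
  let f : Y ⊗ (G ⊗ X) ⟶ X := lift (snd _ _ ≫ fst G X) (lift (snd _ _ ≫ snd G X) (fst _ _)) ≫ act
  let z₀ : 𝟙_ (Over (Spec (CommRingCat.of k))) ⟶ G ⊗ X := lift η[G] x₀
  have key := AlgGrpLib.eq_snd_of_antiAffine hY y₀ z₀ f (by
    have h1 : (Y ◁ z₀) ≫ f = toUnit _ ≫ x₀ := by
      have e : (Y ◁ z₀) ≫ lift (snd _ _ ≫ fst G X) (lift (snd _ _ ≫ snd G X) (fst _ _)) =
          lift (toUnit _ ≫ η[G]) (lift (toUnit _ ≫ x₀) (fst Y _)) := by
        apply CartesianMonoidalCategory.hom_ext
        · simp [z₀, toUnit_unique (snd Y _) (toUnit _)]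
        · apply CartesianMonoidalCategory.hom_ext <;> simp [z₀, toUnit_unique (snd Y _) (toUnit _)]
      rw [← Category.assoc, e, hact]
    have h2 : lift y₀ z₀ ≫ f = x₀ := by
      have e : lift y₀ z₀ = lift y₀ (𝟙 _) ≫ (Y ◁ z₀) := by rw [lift_whiskerLeft, Category.id_comp]
      rw [e, Category.assoc, h1, ← Category.assoc, toUnit_unique (lift y₀ (𝟙 _) ≫ toUnit _) (𝟙 _), Category.id_comp]
    rw [h1, h2])
  refine ⟨lift (toUnit (G ⊗ X) ≫ y₀) (𝟙 (G ⊗ X)) ≫ f, fun T g x y => ?_⟩
  have e : lift g (lift x y) = lift y (lift g x) ≫ lift (snd _ _ ≫ fst G X) (lift (snd _ _ ≫ snd G X) (fst _ _)) := by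
    apply CartesianMonoidalCategory.hom_ext
    · simp
    · apply CartesianMonoidalCategory.hom_ext <;> simp
  rw [e, Category.assoc]
  show lift y (lift g x) ≫ f = _
  exact (congrArg (lift y (lift g x) ≫ ·) key).trans (lift_snd_assoc _ _ _)


/-- Over an algebraically closed field k, let X and Y be complete varieties (proper, integral, separated
k-schemes of finite type) and let a connected k-group scheme of finite type G act on X × Y. Then
there are unique actions of G on X and on Y such that the given action is the product action g·(x,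
y) = (g·x, g·y). (This is the form, for actions of connected group schemes, of the identification of
the neutral component of the automorphism group scheme of X × Y with the product of those of X and
Y; the representability of these group schemes is not asserted here.) -/
theorem result (k : Type u) [Field k] [IsAlgClosed k]
    (G X Y : Over (Spec (CommRingCat.of k))) [GrpObj G] [LocallyOfFiniteType G.hom] [QuasiCompact G.hom] [ConnectedSpace ↥G.left]
    [IsProper X.hom] [IsIntegral X.left]
    [IsProper Y.hom] [IsIntegral Y.left]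
    (a : AlgGrp.Action G (X ⊗ Y)) :
    ∃ (b : AlgGrp.Action G X) (c : AlgGrp.Action G Y),
      a.act = lift ((G ◁ fst X Y) ≫ b.act) ((G ◁ snd X Y) ≫ c.act) ∧
      ∀ (b' : AlgGrp.Action G X) (c' : AlgGrp.Action G Y),
        a.act = lift ((G ◁ fst X Y) ≫ b'.act) ((G ◁ snd X Y) ≫ c'.act) → b' = b ∧ c' = c := by
  haveI : IsLocallyNoetherian X.left := LocallyOfFiniteType.isLocallyNoetherian X.hom
  haveI : IsLocallyNoetherian Y.left := LocallyOfFiniteType.isLocallyNoetherian Y.hom
  obtain ⟨x₀⟩ := AlgGrpLib.exists_rationalPoint X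
  obtain ⟨y₀⟩ := AlgGrpLib.exists_rationalPoint Y
  have hmul : ∀ {T : Over (Spec (CommRingCat.of k))} (g h : T ⟶ G) (p : T ⟶ X ⊗ Y),
      lift (g * h) p ≫ a.act = lift g (lift h p ≫ a.act) ≫ a.act := fun g h p => by
    rw [Hom.mul_def, ← lift_whiskerRight, Category.assoc, a.mul_act]
    simp
  have hone : ∀ {T : Over (Spec (CommRingCat.of k))} (p : T ⟶ X ⊗ Y), lift (toUnit T ≫ η[G]) p ≫ a.act = p :=
    fun p => by rw [← lift_whiskerRight, Category.assoc, a.one_act, lift_leftUnitor_hom]
  obtain ⟨b, hb⟩ := exists_factor G X Y (bijective_appTop Y) x₀ y₀ (a.act ≫ fst X Y)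
    (fun T x y => by rw [← Category.assoc, hone, lift_fst])
  obtain ⟨c, hc⟩ := exists_factor G Y X (bijective_appTop X) y₀ x₀
    (lift (fst G (Y ⊗ X)) (lift (snd _ _ ≫ snd Y X) (snd _ _ ≫ fst Y X)) ≫ a.act ≫ snd X Y)
    (fun T y x => by
      rw [← Category.assoc,
        show lift (toUnit T ≫ η[G]) (lift y x) ≫ lift (fst G (Y ⊗ X)) (lift (snd _ _ ≫ snd Y X) (snd _ _ ≫ fst Y X)) =
          lift (toUnit T ≫ η[G]) (lift x y) from by
            apply CartesianMonoidalCategory.hom_ext
            · simp
            · apply CartesianMonoidalCategory.hom_ext <;> simp,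
        ← Category.assoc, hone, lift_snd])
  have hfst : ∀ {T : Over (Spec (CommRingCat.of k))} (g : T ⟶ G) (x : T ⟶ X) (y : T ⟶ Y),
      lift g (lift x y) ≫ a.act ≫ fst X Y = lift g x ≫ b := fun g x y => hb _ g x y
  have hsnd : ∀ {T : Over (Spec (CommRingCat.of k))} (g : T ⟶ G) (x : T ⟶ X) (y : T ⟶ Y),
      lift g (lift x y) ≫ a.act ≫ snd X Y = lift g y ≫ c := fun {T} g x y => by
    rw [← hc T g y x, ← Category.assoc (lift g (lift y x))]
    congr 1
    apply CartesianMonoidalCategory.hom_ext
    · simp
    · apply CartesianMonoidalCategory.hom_ext <;> simp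
  have hab : ∀ {T : Over (Spec (CommRingCat.of k))} (g : T ⟶ G) (x : T ⟶ X) (y : T ⟶ Y),
      lift g (lift x y) ≫ a.act = lift (lift g x ≫ b) (lift g y ≫ c) := fun g x y => by
    apply CartesianMonoidalCategory.hom_ext
    · rw [Category.assoc, hfst, lift_fst]
    · rw [Category.assoc, hsnd, lift_snd]
  let B : AlgGrp.Action G X :=
    { act := b
      one_act := by
        rw [leftUnitor_hom,
          show η[G] ▷ X = lift (toUnit _ ≫ η[G]) (snd (𝟙_ _) X) from by
            apply CartesianMonoidalCategory.hom_ext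
            · simp [toUnit_unique (fst (𝟙_ _) X) (toUnit _)]
            · simp,
          ← hfst _ _ (toUnit _ ≫ y₀), ← Category.assoc, hone, lift_fst]
      mul_act := by
        rw [show μ[G] ▷ X = lift ((fst _ _ ≫ fst G G) * (fst _ _ ≫ snd G G)) (snd (G ⊗ G) X) from by
            rw [Hom.mul_def, ← comp_lift, lift_fst_snd, Category.comp_id]
            apply CartesianMonoidalCategory.hom_ext <;> simp,
          ← hfst _ _ (toUnit _ ≫ y₀), ← Category.assoc, hmul, hab, Category.assoc, hfst]
        rw [show (α_ G G X).hom ≫ (G ◁ b) ≫ b =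
          lift (fst _ _ ≫ fst G G) (lift (fst _ _ ≫ snd G G) (snd (G ⊗ G) X) ≫ b) ≫ b from by
            rw [← Category.assoc (α_ G G X).hom]
            congr 1
            apply CartesianMonoidalCategory.hom_ext
            · simp
            · rw [Category.assoc, whiskerLeft_snd, lift_snd, ← Category.assoc]
              congr 1
              apply CartesianMonoidalCategory.hom_ext <;>
                simp only [Category.assoc, lift_fst, lift_snd, associator_hom_snd_fst, associator_hom_snd_snd]] }
  let C : AlgGrp.Action G Y :=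
    { act := c
      one_act := by
        rw [leftUnitor_hom,
          show η[G] ▷ Y = lift (toUnit _ ≫ η[G]) (snd (𝟙_ _) Y) from by
            apply CartesianMonoidalCategory.hom_ext
            · simp [toUnit_unique (fst (𝟙_ _) Y) (toUnit _)]
            · simp,
          ← hsnd _ (toUnit _ ≫ x₀), ← Category.assoc, hone, lift_snd]
      mul_act := by
        rw [show μ[G] ▷ Y = lift ((fst _ _ ≫ fst G G) * (fst _ _ ≫ snd G G)) (snd (G ⊗ G) Y) from by
            rw [Hom.mul_def, ← comp_lift, lift_fst_snd, Category.comp_id]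
            apply CartesianMonoidalCategory.hom_ext <;> simp,
          ← hsnd _ (toUnit _ ≫ x₀), ← Category.assoc, hmul, hab, Category.assoc, hsnd]
        rw [show (α_ G G Y).hom ≫ (G ◁ c) ≫ c =
          lift (fst _ _ ≫ fst G G) (lift (fst _ _ ≫ snd G G) (snd (G ⊗ G) Y) ≫ c) ≫ c from by
            rw [← Category.assoc (α_ G G Y).hom]
            congr 1
            apply CartesianMonoidalCategory.hom_ext
            · simp
            · rw [Category.assoc, whiskerLeft_snd, lift_snd, ← Category.assoc]
              congr 1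
              apply CartesianMonoidalCategory.hom_ext <;>
                simp only [Category.assoc, lift_fst, lift_snd, associator_hom_snd_fst, associator_hom_snd_snd]] }
  refine ⟨B, C, ?_, fun b' c' h => ⟨hom_ext_of_epi ?_, hom_ext_of_epi ?_⟩⟩
  · have e := hab (fst G (X ⊗ Y)) (snd _ _ ≫ fst X Y) (snd _ _ ≫ snd X Y)
    rw [show lift (fst G (X ⊗ Y)) (lift (snd _ _ ≫ fst X Y) (snd _ _ ≫ snd X Y)) = 𝟙 _ from by
      rw [← comp_lift, lift_fst_snd, Category.comp_id, lift_fst_snd], Category.id_comp] at e
    rw [e]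
    congr 1 <;> congr 1 <;> apply CartesianMonoidalCategory.hom_ext <;> simp
  · show b'.act = b
    have h1 := hfst (fst G X) (snd G X) (toUnit _ ≫ y₀)
    rw [h, lift_fst_snd, Category.id_comp, lift_fst, lift_whiskerLeft_assoc, lift_fst, lift_fst_snd,
      Category.id_comp] at h1
    exact h1
  · show c'.act = c
    have h1 := hsnd (fst G Y) (toUnit _ ≫ x₀) (snd G Y)
    rw [h, lift_fst_snd, Category.id_comp, lift_snd, lift_whiskerLeft_assoc, lift_snd, lift_fst_snd,
      Category.id_comp] at h1
    exact h1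

end Groth.Agent.S11420
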