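import Groth.Statements.S11421
import Groth.Agent.AlgGrpLib.AntiAffine

set_option autoImplicit false
universe u
open CategoryTheory MonoidalCategory CartesianMonoidalCategory MonObj GrpObj AlgebraicGeometry CategoryTheory.Limits
open AlgGrp

namespace Groth.Agent.S11421

/-- Over an algebraically closed field k, let G be an algebraic group (smooth k-group scheme of finite
type) whose only global functions are the constants, H a connected algebraic group, S a connected
k-scheme of finite type and f : G × S → H a morphism of k-schemes. Then there are a unique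
k-morphism φ : S → H and a unique homomorphism ψ : G → H with f(g, s) = φ(s) · ψ(g) on points. (This
is the decomposition, over a connected base, behind the identification of the functor of morphisms
from G to H with H × Hom_gp(G, H); the published statement is the equivalence of representability of
that functor with anti-affineness of G, whose converse direction is not stated here.) -/
theorem result (k : Type u) [Field k] [IsAlgClosed k]
    (G H S : Over (Spec (CommRingCat.of k))) [GrpObj G] [Smooth G.hom] [QuasiCompact G.hom]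
    (hG : Function.Bijective ((Scheme.ΓSpecIso (CommRingCat.of k)).inv ≫ G.hom.appTop).hom)
    [GrpObj H] [Smooth H.hom] [QuasiCompact H.hom] [ConnectedSpace ↥H.left]
    [LocallyOfFiniteType S.hom] [QuasiCompact S.hom] [ConnectedSpace ↥S.left]
    (f : G ⊗ S ⟶ H) :
    ∃ (φ : S ⟶ H) (ψ : G ⟶ H), IsMonHom ψ ∧ f = (snd G S ≫ φ) * (fst G S ≫ ψ) ∧
      ∀ (φ' : S ⟶ H) (ψ' : G ⟶ H), IsMonHom ψ' → f = (snd G S ≫ φ') * (fst G S ≫ ψ') → φ' = φ ∧ ψ' = ψ := by
  haveI : CompactSpace G.left := QuasiCompact.compactSpace_of_compactSpace G.hom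
  haveI : IsLocallyNoetherian G.left := LocallyOfFiniteType.isLocallyNoetherian G.hom
  haveI : IsLocallyNoetherian S.left := LocallyOfFiniteType.isLocallyNoetherian S.hom
  have hG' := AlgGrpLib.bijective_appTop_of_const hG
  obtain ⟨s₀⟩ := AlgGrpLib.exists_rationalPoint S
  let φ : S ⟶ H := lift (toUnit S ≫ η[G]) (𝟙 S) ≫ f
  let ψ : G ⟶ H := (toUnit G ≫ s₀ ≫ φ)⁻¹ * (lift (𝟙 G) (toUnit G ≫ s₀) ≫ f)
  have hψ1 : η[G] ≫ ψ = η[H] := by
    have e : s₀ ≫ lift (toUnit S ≫ η[G]) (𝟙 S) = lift η[G] s₀ := by
      rw [comp_lift, ← Category.assoc, comp_toUnit, Category.comp_id, toUnit_unique (toUnit (𝟙_ _)) (𝟙 _), Category.id_comp]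
    have e2 : η[G] ≫ lift (𝟙 G) (toUnit G ≫ s₀) = lift η[G] s₀ := by
      rw [comp_lift, ← Category.assoc, comp_toUnit, Category.comp_id, toUnit_unique (toUnit (𝟙_ _)) (𝟙 _), Category.id_comp]
    simp only [ψ, φ, MonObj.comp_mul, GrpObj.comp_inv]
    rw [← Category.assoc η[G] (toUnit G), comp_toUnit, toUnit_unique (toUnit (𝟙_ _)) (𝟙 _), Category.id_comp,
      reassoc_of% e, reassoc_of% e2, inv_mul_cancel]
    exact (MonObj.one_eq_one H).symm
  haveI := AlgGrpLib.isMonHom_of_antiAffine hG' ψ hψ1
  let F : G ⊗ S ⟶ H := f * ((snd G S ≫ φ) * (fst G S ≫ ψ))⁻¹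
  have hF : F = 1 := by
    refine AlgGrpLib.slice_eq_one hG' η[G] s₀ F ?_ ?_
    · simp only [F, ψ, MonObj.comp_mul, GrpObj.comp_inv, whiskerLeft_fst_assoc, whiskerLeft_snd_assoc,
        ← Category.assoc (fst G (𝟙_ _)) (toUnit G), comp_toUnit, toUnit_unique (snd G (𝟙_ _)) (toUnit _),
        mul_inv_cancel_left]
      have e : fst G (𝟙_ (Over (Spec (CommRingCat.of k)))) ≫ lift (𝟙 G) (toUnit G ≫ s₀) = G ◁ s₀ := by
        apply CartesianMonoidalCategory.hom_ext
        · simp
        · rw [Category.assoc, lift_snd, ← Category.assoc, comp_toUnit, whiskerLeft_snd,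
            toUnit_unique (snd G (𝟙_ _)) (toUnit _)]
      rw [reassoc_of% e, mul_inv_cancel]
    · simp only [F, MonObj.comp_mul, GrpObj.comp_inv, lift_fst_assoc, lift_snd_assoc, Category.id_comp,
        Category.assoc, hψ1]
      rw [show toUnit S ≫ η[H] = 1 from Hom.one_def.symm, _root_.mul_one]
      exact mul_inv_cancel φ
  refine ⟨φ, ψ, inferInstance, mul_inv_eq_one.1 hF, fun φ' ψ' hψ' h => ?_⟩
  have h2 := mul_inv_eq_one.1 hF
  have hφ : φ' = φ := by
    have := congrArg (lift (toUnit S ≫ η[G]) (𝟙 S) ≫ ·) h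
    simp only [MonObj.comp_mul, lift_fst_assoc, lift_snd_assoc, Category.id_comp, Category.assoc,
      IsMonHom.one_hom ψ'] at this
    rw [show toUnit S ≫ η[H] = 1 from Hom.one_def.symm, _root_.mul_one] at this
    exact this.symm
  subst hφ
  have h3 := mul_left_cancel (h.symm.trans h2)
  have h4 := congrArg (lift (𝟙 G) (toUnit G ≫ s₀) ≫ ·) h3
  simp only [lift_fst_assoc, Category.id_comp] at h4
  exact ⟨rfl, h4⟩

end Groth.Agent.S11421
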