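import Groth.Statements.S11423
import Groth.Agent.AlgGrpLib.AntiAffineSections
import Groth.Agent.AlgGrpLib.GeomPoints
import Groth.Agent.S3293
import Mathlib.AlgebraicGeometry.Sites.Fpqc

set_option autoImplicit false
set_option maxHeartbeats 800000
set_option backward.isDefEq.respectTransparency.types false
universe u
open CategoryTheory MonoidalCategory CartesianMonoidalCategory MonObj GrpObj AlgebraicGeometry CategoryTheory.Limits
open AlgGrp

namespace Groth.Agent.S11423

/-- Over an algebraically closed field k, let G be a connected affine algebraic group (smooth, affine,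
connected k-group scheme of finite type), A an abelian variety (proper, smooth, connected k-group
scheme) and π : X → A a principal G-bundle of k-schemes of finite type (G acts on X, π is
G-invariant and faithfully flat, and the square formed by the action, the second projection and π is
cartesian). Suppose π is trivialized by an anti-affine extension of A: there are an algebraic group
𝒢 whose only global functions are the constants, a flat surjective homomorphism φ : 𝒢 → A with
affine kernel, and a morphism σ : 𝒢 → X with π ∘ σ = φ (a section of the pulled-back bundle). Then π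
is homogeneous: for every rational point a of A there is a G-equivariant automorphism of X over the
translation of A by a. (The published statement is the equivalence; only this direction is stated
here.) -/
theorem result (k : Type u) [Field k] [IsAlgClosed k]
    (G X A : Over (Spec (CommRingCat.of k))) [GrpObj G] [Smooth G.hom] [QuasiCompact G.hom] [IsAffine G.left] [ConnectedSpace ↥G.left]
    [LocallyOfFiniteType X.hom] [QuasiCompact X.hom]
    [GrpObj A] [IsProper A.hom] [Smooth A.hom] [ConnectedSpace ↥A.left]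
    (a : AlgGrp.Action G X) (π : X ⟶ A) (hinv : a.act ≫ π = snd G X ≫ π) [Flat π.left] [Surjective π.left]
    (hcart : IsPullback (snd G X) a.act π π)
    (E : Over (Spec (CommRingCat.of k))) [GrpObj E] [Smooth E.hom] [QuasiCompact E.hom]
    (hE : Function.Bijective ((Scheme.ΓSpecIso (CommRingCat.of k)).inv ≫ E.hom.appTop).hom)
    (φ : E ⟶ A) [IsMonHom φ] [Flat φ.left] [Surjective φ.left]
    (Hk : Over (Spec (CommRingCat.of k))) [GrpObj Hk] (h : Hk ⟶ E) [IsMonHom h] (hk : AlgGrp.IsKernel h φ) [IsAffine Hk.left]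
    (σ : E ⟶ X) (hσ : σ ≫ π = φ)
    (t : 𝟙_ (Over (Spec (CommRingCat.of k))) ⟶ A) :
    ∃ ψ : X ≅ X, (G ◁ ψ.hom) ≫ a.act = a.act ≫ ψ.hom ∧
      ψ.hom ≫ π = π ≫ (lift (𝟙 A) (toUnit A ≫ t) ≫ μ[A]) := by
  obtain ⟨-, hEc⟩ := Groth.Agent.S3293.result k E hE
  -- a point of `E` over `t`
  obtain ⟨e₀, he₀⟩ : ∃ e₀ : 𝟙_ (Over (Spec (CommRingCat.of k))) ⟶ E, e₀ ≫ φ = t := by
    let P : Over (Spec (CommRingCat.of k)) := Over.mk (Spec.map (CommRingCat.ofHom (algebraMap k k)))
    have hid : Spec.map (CommRingCat.ofHom (algebraMap k k)) = 𝟙 _ := by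
      rw [Algebra.algebraMap_self, CommRingCat.ofHom_id, Spec.map_id]
    let u : P ⟶ 𝟙_ (Over (Spec (CommRingCat.of k))) := Over.homMk (𝟙 _) (by exact (Category.id_comp _).trans hid.symm)
    let v : 𝟙_ (Over (Spec (CommRingCat.of k))) ⟶ P := Over.homMk (𝟙 _) (by exact (Category.id_comp _).trans hid)
    obtain ⟨q, hq⟩ := Groth.Agent.AlgGrpLib.GeomPoints.exists_lift_point (K := k) φ (u ≫ t)
    refine ⟨v ≫ q, ?_⟩
    rw [Category.assoc, hq, ← Category.assoc,
      show v ≫ u = 𝟙 _ from Over.OverMorphism.ext (Category.id_comp _), Category.id_comp]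
  -- the action on points
  have hmul : ∀ {T : Over (Spec (CommRingCat.of k))} (g g' : T ⟶ G) (x : T ⟶ X),
      lift (g * g') x ≫ a.act = lift g (lift g' x ≫ a.act) ≫ a.act := fun g g' x => by
    have := congrArg (lift (lift g g') x ≫ ·) a.mul_act
    simpa [Hom.mul_def] using this
  have hcan : ∀ {T : Over (Spec (CommRingCat.of k))} (g g' : T ⟶ G) (x : T ⟶ X),
      lift g x ≫ a.act = lift g' x ≫ a.act → g = g' := fun g g' x h => by
    have := hcart.hom_ext (k := lift g x) (l := lift g' x) (by simp) h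
    simpa using congrArg (· ≫ fst G X) this
  have hπact : ∀ {T : Over (Spec (CommRingCat.of k))} (g : T ⟶ G) (x : T ⟶ X),
      (lift g x ≫ a.act) ≫ π = x ≫ π := fun g x => by
    rw [Category.assoc, hinv, lift_snd_assoc]
  have hhφ : h ≫ φ = toUnit Hk ≫ η[A] := hk.w
  -- the character `c` of the kernel
  have hcw : (fst E Hk ≫ σ) ≫ π = ((fst E Hk * (snd E Hk ≫ h)) ≫ σ) ≫ π := by
    rw [Category.assoc, hσ, Category.assoc, hσ, MonObj.mul_comp, Category.assoc (snd E Hk), hhφ,
      toUnit_unique (toUnit Hk) (toUnit Hk)]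
    rw [← Category.assoc (snd E Hk), toUnit_unique (snd E Hk ≫ toUnit Hk) (toUnit _), ← Hom.one_def, _root_.mul_one]
  let c : E ⊗ Hk ⟶ G := hcart.lift (fst E Hk ≫ σ) ((fst E Hk * (snd E Hk ≫ h)) ≫ σ) hcw ≫ fst G X
  have hc : lift c (fst E Hk ≫ σ) ≫ a.act = (fst E Hk * (snd E Hk ≫ h)) ≫ σ := by
    have e : hcart.lift (fst E Hk ≫ σ) ((fst E Hk * (snd E Hk ≫ h)) ≫ σ) hcw = lift c (fst E Hk ≫ σ) := by
      refine CartesianMonoidalCategory.hom_ext _ _ ?_ ?_
      · simp [c]
      · simp
    rw [← e, hcart.lift_snd]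
  have : CompactSpace E.left := QuasiCompact.compactSpace_of_compactSpace E.hom
  have : IsLocallyNoetherian E.left := LocallyOfFiniteType.isLocallyNoetherian E.hom
  have : QuasiSeparatedSpace E.left := inferInstance
  have hEa : Function.Bijective E.hom.appTop := by
    have h2 : Function.Bijective ((Scheme.ΓSpecIso (CommRingCat.of k)).hom).hom :=
      (Scheme.ΓSpecIso (CommRingCat.of k)).commRingCatIsoToRingEquiv.bijective
    have := hE.comp h2
    convert this using 1
    ext z
    simp
  have hc0 : c = snd E Hk ≫ lift (toUnit Hk ≫ η[E]) (𝟙 Hk) ≫ c :=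
    Groth.Agent.AlgGrpLib.eq_snd_of_affine hEa η[E] c
  let c₀ : Hk ⟶ G := lift (toUnit Hk ≫ η[E]) (𝟙 Hk) ≫ c
  have hσh : ∀ {T : Over (Spec (CommRingCat.of k))} (e : T ⟶ E) (n : T ⟶ Hk),
      (e * (n ≫ h)) ≫ σ = lift (n ≫ c₀) (e ≫ σ) ≫ a.act := fun e n => by
    have e1 : lift e n ≫ (fst E Hk * (snd E Hk ≫ h)) = e * (n ≫ h) := by
      rw [MonObj.comp_mul, lift_fst, lift_snd_assoc]
    have := congrArg (lift e n ≫ ·) hc
    simp only [comp_lift_assoc, lift_fst_assoc] at this
    rw [← Category.assoc _ _ σ, e1] at this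
    rw [← this]
    conv_lhs => rw [hc0]
    simp [c₀]
  -- the cover `G × E → X`
  have sqσ : IsPullback (snd G E) (G ◁ σ) σ (snd G X) := by
    refine ⟨⟨by simp⟩, ⟨PullbackCone.IsLimit.mk _ (fun s => lift (s.snd ≫ fst G X) s.fst)
      (fun s => by simp) (fun s => ?_) (fun s m h1 h2 => ?_)⟩⟩
    · refine CartesianMonoidalCategory.hom_ext _ _ (by simp) ?_
      simpa using s.condition
    · refine CartesianMonoidalCategory.hom_ext _ _ ?_ (by simpa using h1)
      have := congrArg (· ≫ fst G X) h2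
      simpa using this
  have sq := sqσ.paste_vert hcart
  rw [hσ] at sq
  let q : G ⊗ E ⟶ X := (G ◁ σ) ≫ a.act
  have sql : IsPullback (snd G E).left q.left φ.left π.left := sq.map (Over.forget _)
  have : QuasiCompact φ.left := by
    have : QuasiCompact (φ.left ≫ A.hom) := by rw [Over.w φ]; infer_instance
    exact QuasiCompact.of_comp φ.left A.hom
  have : Flat q.left := MorphismProperty.of_isPullback (P := @Flat) sql ‹Flat φ.left›
  have : Surjective q.left := MorphismProperty.of_isPullback (P := @Surjective) sql ‹Surjective φ.left›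
  have : QuasiCompact q.left := MorphismProperty.of_isPullback (P := @QuasiCompact) sql ‹QuasiCompact φ.left›
  have hq : ∀ {T : Over (Spec (CommRingCat.of k))} (g : T ⟶ G) (e : T ⟶ E), lift g e ≫ q = lift g (e ≫ σ) ≫ a.act :=
    fun g e => by simp [q]
  have hker : ∀ {T : Over (Spec (CommRingCat.of k))} (e e' : T ⟶ E), e ≫ φ = e' ≫ φ →
      ∃ n : T ⟶ Hk, n ≫ h = e⁻¹ * e' := fun e e' he => by
    refine ⟨hk.lift (e⁻¹ * e') (toUnit _) ?_, hk.lift_fst _ _ _⟩
    rw [MonObj.mul_comp, GrpObj.inv_comp, he, inv_mul_cancel, Hom.one_def]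
  -- descent of translations
  have desc : ∀ e₁ : 𝟙_ (Over (Spec (CommRingCat.of k))) ⟶ E, ∃ ψ : X ⟶ X,
      ∀ {T : Over (Spec (CommRingCat.of k))} (g : T ⟶ G) (e : T ⟶ E),
        (lift g (e ≫ σ) ≫ a.act) ≫ ψ = lift g ((e * (toUnit T ≫ e₁)) ≫ σ) ≫ a.act := by
    intro e₁
    let f : G ⊗ E ⟶ X := lift (fst G E) ((snd G E * (toUnit _ ≫ e₁)) ≫ σ) ≫ a.act
    have key : ∀ {T : Over (Spec (CommRingCat.of k))} (u v : T ⟶ G ⊗ E), u ≫ q = v ≫ q → u ≫ f = v ≫ f := by
      intro T u v huv
      obtain ⟨g, e, rfl⟩ : ∃ g e, lift g e = u := ⟨u ≫ fst _ _, u ≫ snd _ _, by simp⟩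
      obtain ⟨g', e', rfl⟩ : ∃ g e, lift g e = v := ⟨v ≫ fst _ _, v ≫ snd _ _, by simp⟩
      rw [hq, hq] at huv
      obtain ⟨n, hn⟩ := hker e e' (by
        have := congrArg (· ≫ π) huv
        simp only [hπact] at this
        simpa [hσ] using this)
      have he' : e' = e * (n ≫ h) := by rw [hn, mul_inv_cancel_left]
      have hg : g = g' * (n ≫ c₀) := by
        refine hcan _ _ (e ≫ σ) ?_
        rw [huv, he', hσh, hmul]
      have ef : ∀ (g : T ⟶ G) (e : T ⟶ E), lift g e ≫ f = lift g ((e * (toUnit T ≫ e₁)) ≫ σ) ≫ a.act := fun g e => by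
        simp only [f, comp_lift_assoc, lift_fst]
        rw [← Category.assoc (lift g e), MonObj.comp_mul, lift_snd, ← Category.assoc (lift g e),
          toUnit_unique (lift g e ≫ toUnit _) (toUnit T)]
      rw [ef, ef, he', mul_right_comm, hσh, hg, hmul]
    have hl : ∀ {Z : Scheme.{u}} (u v : Z ⟶ (G ⊗ E).left), u ≫ q.left = v ≫ q.left → u ≫ f.left = v ≫ f.left := by
      intro Z u v huv
      have hw : v ≫ (G ⊗ E).hom = u ≫ (G ⊗ E).hom := by
        rw [← Over.w q, ← Category.assoc, ← huv, Category.assoc]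
      let T : Over (Spec (CommRingCat.of k)) := Over.mk (u ≫ (G ⊗ E).hom)
      exact congrArg CommaMorphism.left
        (key (T := T) (Over.homMk u rfl) (Over.homMk v hw) (Over.OverMorphism.ext huv))
    let ψl : X.left ⟶ X.left := EffectiveEpi.desc q.left f.left hl
    have hψl : q.left ≫ ψl = f.left := EffectiveEpi.fac q.left f.left hl
    refine ⟨Over.homMk ψl (by
      rw [← cancel_epi q.left, ← Category.assoc, hψl, Over.w f, Over.w q]), fun {T} g e => ?_⟩
    rw [← hq, Category.assoc]
    have : q ≫ Over.homMk ψl (by rw [← cancel_epi q.left, ← Category.assoc, hψl, Over.w f, Over.w q]) = f :=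
      Over.OverMorphism.ext hψl
    rw [this]
    simp only [f, comp_lift_assoc, lift_fst]
    rw [← Category.assoc (lift g e), MonObj.comp_mul, lift_snd, ← Category.assoc (lift g e),
      toUnit_unique (lift g e ≫ toUnit _) (toUnit T)]
  obtain ⟨ψ, hψ⟩ := desc e₀
  obtain ⟨ψ', hψ'⟩ := desc e₀⁻¹
  have heq : q = lift (fst G E) (snd G E ≫ σ) ≫ a.act := by
    rw [← hq]; simp
  have : Epi q := by
    constructor
    intro Z u v huv
    exact Over.OverMorphism.ext ((cancel_epi q.left).1 (congrArg CommaMorphism.left huv))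
  have hinv' : ∀ e₁ : 𝟙_ (Over (Spec (CommRingCat.of k))) ⟶ E, toUnit (G ⊗ E) ≫ e₁⁻¹ = (toUnit (G ⊗ E) ≫ e₁)⁻¹ :=
    fun e₁ => by simp [GrpObj.comp_inv]
  refine ⟨⟨ψ, ψ', ?_, ?_⟩, ?_, ?_⟩
  · rw [← cancel_epi q, heq, ← Category.assoc, hψ, hψ', Category.comp_id, hinv', _root_.mul_assoc, mul_inv_cancel, _root_.mul_one]
  · rw [← cancel_epi q, heq, ← Category.assoc, hψ', hψ, Category.comp_id, hinv', _root_.mul_assoc, inv_mul_cancel, _root_.mul_one]
  · have : Epi (G ◁ q) := by
      constructor
      intro Z u v huv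
      have sqG : IsPullback (snd G (G ⊗ E)) (G ◁ q) q (snd G X) := by
        refine ⟨⟨by simp⟩, ⟨PullbackCone.IsLimit.mk _ (fun s => lift (s.snd ≫ fst G X) s.fst)
          (fun s => by simp) (fun s => ?_) (fun s m h1 h2 => ?_)⟩⟩
        · refine CartesianMonoidalCategory.hom_ext _ _ (by simp) ?_
          simpa using s.condition
        · refine CartesianMonoidalCategory.hom_ext _ _ ?_ (by simpa using h1)
          have := congrArg (· ≫ fst G X) h2
          simpa using this
      have sl : IsPullback (snd G (G ⊗ E)).left (G ◁ q).left q.left (snd G X).left := sqG.map (Over.forget _)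
      have : Flat (G ◁ q).left := MorphismProperty.of_isPullback (P := @Flat) sl ‹Flat q.left›
      have : Surjective (G ◁ q).left := MorphismProperty.of_isPullback (P := @Surjective) sl ‹Surjective q.left›
      have : QuasiCompact (G ◁ q).left := MorphismProperty.of_isPullback (P := @QuasiCompact) sl ‹QuasiCompact q.left›
      exact Over.OverMorphism.ext ((cancel_epi (G ◁ q).left).1 (congrArg CommaMorphism.left huv))
    show (G ◁ ψ) ≫ a.act = a.act ≫ ψ
    rw [← cancel_epi (G ◁ q)]
    have e1 : (G ◁ q) = lift (fst G (G ⊗ E)) (lift (snd _ _ ≫ fst _ _) (snd _ _ ≫ snd G E ≫ σ) ≫ a.act) := by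
      refine CartesianMonoidalCategory.hom_ext _ _ (by simp) ?_
      rw [whiskerLeft_snd, lift_snd, heq, comp_lift_assoc]
    rw [e1, ← Category.assoc, lift_whiskerLeft, ← Category.assoc]
    rw [hψ,
      ← hmul, ← Category.assoc, ← hmul, hψ]
  · show ψ ≫ π = _
    have hfac : lift (𝟙 A) (toUnit A ≫ t) ≫ μ[A] = 𝟙 A * (toUnit A ≫ t) := rfl
    rw [hfac, ← cancel_epi q, heq, ← Category.assoc, hψ, hπact, ← Category.assoc, Category.assoc _ σ π, hσ,
      MonObj.mul_comp, Category.assoc (toUnit _), he₀]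
    simp [MonObj.comp_mul, hinv, hσ]

end Groth.Agent.S11423
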