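import Groth.Statements.S11428
import Groth.Prelude.Def_W4bk4git07Quot
import Mathlib.AlgebraicGeometry.Morphisms.Immersion
set_option backward.isDefEq.respectTransparency.types false

set_option autoImplicit false
universe u
open CategoryTheory MonoidalCategory CartesianMonoidalCategory MonObj GrpObj AlgebraicGeometry Topology
open GIT

namespace Groth.Agent.S11428

/-- If (Y, φ) is a geometric quotient of X by G over S, then Y is separated over S exactly when the
action is separated, i.e. the image of (σ, p₂) : G ×_S X → X ×_S X is closed. -/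
theorem result (S : Scheme.{u}) (G X Y : Over S) [GrpObj G]
    (a : AlgGrp.Action G X) (φ : X ⟶ Y) (h : GIT.IsGeomQuot a φ) :
    IsSeparated Y.hom ↔ IsClosed (Set.range (GIT.psi a (𝟙 X)).left.base) := by
  let q : (X ⊗ X).left ⟶ (Y ⊗ Y).left := (φ ⊗ₘ φ).left
  haveI : (AlgebraicGeometry.topologically @Topology.IsQuotientMap).IsStableUnderComposition :=
    ⟨fun f g hf hg => show Topology.IsQuotientMap ⇑(f ≫ g) by
      exact hg.comp hf⟩
  have hu : MorphismProperty.universally (AlgebraicGeometry.topologically @Topology.IsQuotientMap) q :=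
    MorphismProperty.pullbackMap (P := MorphismProperty.universally (AlgebraicGeometry.topologically @Topology.IsQuotientMap))
      h.subm h.subm (Over.w φ).symm (Over.w φ).symm
  have hq : Topology.IsQuotientMap q := MorphismProperty.universally_le _ _ hu
  let Δ : Y.left ⟶ (Y ⊗ Y).left := (lift (𝟙 Y) (𝟙 Y)).left
  have hrange : Set.range (GIT.psi a (𝟙 X)).left = q ⁻¹' Set.range Δ := by
    ext z
    constructor
    · rintro ⟨p, rfl⟩
      have e : GIT.psi a (𝟙 X) ≫ (φ ⊗ₘ φ) = (snd G X ≫ φ) ≫ lift (𝟙 Y) (𝟙 Y) := by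
        refine CartesianMonoidalCategory.hom_ext _ _ ?_ ?_
        · simp only [GIT.psi, Category.assoc, tensorHom_fst, lift_fst_assoc, MonoidalCategory.whiskerLeft_id,
            Category.id_comp, lift_fst, Category.comp_id]
          exact h.inv
        · simp only [GIT.psi, Category.assoc, tensorHom_snd, lift_snd_assoc, lift_snd, Category.comp_id]
      refine ⟨((snd G X ≫ φ).left) p, ?_⟩
      have e' := congr($(congrArg CommaMorphism.left e) p)
      simp only [Over.comp_left, Scheme.Hom.comp_apply] at e' ⊢
      exact e'.symm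
    · rintro ⟨y, hy⟩
      obtain ⟨w, hw, -⟩ := Scheme.Pullback.exists_preimage_pullback (f := q) (g := Δ) z y hy.symm
      let R₁ := Limits.pullback.fst q Δ
      let T : Over S := Over.mk (R₁ ≫ (X ⊗ X).hom)
      let m : T ⟶ X ⊗ X := Over.homMk R₁ rfl
      let m₂ : T ⟶ Y := Over.homMk (Limits.pullback.snd q Δ) (by
        show Limits.pullback.snd q Δ ≫ Y.hom = R₁ ≫ (X ⊗ X).hom
        refine (congrArg (_ ≫ ·) (Over.w (lift (𝟙 Y) (𝟙 Y))).symm).trans ?_
        refine (Category.assoc _ _ _).symm.trans ((congrArg (· ≫ (Y ⊗ Y).hom) Limits.pullback.condition.symm).trans ?_)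
        exact (Category.assoc _ _ _).trans (congrArg (R₁ ≫ ·) (Over.w (φ ⊗ₘ φ))))
      have hm : m ≫ (φ ⊗ₘ φ) = m₂ ≫ lift (𝟙 Y) (𝟙 Y) := Over.OverMorphism.ext Limits.pullback.condition
      have h12 : (m ≫ fst X X) ≫ φ = (m ≫ snd X X) ≫ φ := by
        have e1 := congrArg (· ≫ fst Y Y) hm
        have e2 := congrArg (· ≫ snd Y Y) hm
        simp only [Category.assoc, tensorHom_fst, tensorHom_snd, lift_fst, lift_snd, Category.comp_id] at e1 e2 ⊢
        exact e1.trans e2.symm
      let t : T.left ⟶ Limits.pullback φ.left φ.left :=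
        Limits.pullback.lift (m ≫ fst X X).left (m ≫ snd X X).left (congrArg CommaMorphism.left h12)
      obtain ⟨p, hp⟩ := h.orbit (t w)
      let ιP : Limits.pullback φ.left φ.left ⟶ (X ⊗ X).left :=
        Limits.pullback.lift (Limits.pullback.fst φ.left φ.left) (Limits.pullback.snd φ.left φ.left) (by
          rw [← Over.w φ, Limits.pullback.condition_assoc])
      have hψ : GIT.PsiY a φ h.inv ≫ ιP = (GIT.psi a (𝟙 X)).left := by
        apply Limits.pullback.hom_ext
        · rw [Category.assoc, Limits.pullback.lift_fst, GIT.PsiY, Limits.pullback.lift_fst]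
          exact congrArg CommaMorphism.left (show a.act = GIT.psi a (𝟙 X) ≫ fst X X by simp [GIT.psi])
        · rw [Category.assoc, Limits.pullback.lift_snd, GIT.PsiY, Limits.pullback.lift_snd]
          exact congrArg CommaMorphism.left (show snd G X = GIT.psi a (𝟙 X) ≫ snd X X by simp [GIT.psi])
      have ht : t ≫ ιP = R₁ := by
        apply Limits.pullback.hom_ext
        · rw [Category.assoc, Limits.pullback.lift_fst, Limits.pullback.lift_fst]; rfl
        · rw [Category.assoc, Limits.pullback.lift_snd, Limits.pullback.lift_snd]; rfl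
      refine ⟨p, ?_⟩
      rw [← hψ, Scheme.Hom.comp_apply]
      refine (congrArg ιP hp).trans ?_
      rw [← Scheme.Hom.comp_apply, ht]
      exact hw
  have hdiag : Δ = Limits.pullback.diagonal Y.hom := by
    apply Limits.pullback.hom_ext
    · rw [Limits.pullback.diagonal_fst]; exact congrArg CommaMorphism.left (lift_fst (𝟙 Y) (𝟙 Y))
    · rw [Limits.pullback.diagonal_snd]; exact congrArg CommaMorphism.left (lift_snd (𝟙 Y) (𝟙 Y))
  show _ ↔ IsClosed (Set.range (GIT.psi a (𝟙 X)).left)
  rw [hrange, hq.isClosed_preimage, hdiag]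
  exact ⟨fun hs => hs.isClosedImmersion_diagonal.base_closed.isClosed_range,
    fun hc => ⟨IsClosedImmersion.of_isPreimmersion _ hc⟩⟩

end Groth.Agent.S11428
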