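import Groth.Statements.S1143
import Groth.Agent.Purity10.StrictNormal
import Groth.Agent.Lef23.PuncturedDescendScheme

set_option linter.style.haveILetI false
-- import your own Groth.Agent.* helpers here

set_option autoImplicit false
universe u
open Pi1

namespace Groth.Agent.S1143

open scoped TensorProduct in
set_option backward.isDefEq.respectTransparency false in
set_option maxHeartbeats 2000000 in
open AlgebraicGeometry CategoryTheory CategoryTheory.Limits in
/-- A finite etale K-scheme that splits over L comes from a finite etale A-scheme (this is the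
essential-image part of exactness of the sequence π₁(Spec L) → π₁(Spec K) → π₁(Spec A) → 1; the
surjectivity and composition parts of the exact sequence are separate facts). Let A be a normal
local domain with fraction field K, let R be a strict henselization of A (with A → R local) and L a
fraction field of R, with compatible algebra structures (A → K → L and A → R → L agree). If V is
finite etale over Spec K and its base change to Spec L is split (a finite disjoint union of copies
of Spec L), then V is isomorphic to the restriction to Spec K of a finite etale cover Y of Spec A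
(only the existence of such Y and of an isomorphism is asserted). -/
theorem result (A : Type u) [CommRing A] [IsDomain A]
    [IsLocalRing A] [IsIntegrallyClosed A] (R : Type u) [CommRing R] [IsLocalRing R] [Algebra A R] [IsLocalHom (algebraMap A R)] [Hensel.IsStrictHenselization A R]
    (K L : Type u) [Field K] [Field L] [Algebra A K] [IsFractionRing A K] [Algebra R L] [IsFractionRing R L]
    [Algebra K L] [Algebra A L] [IsScalarTower A K L] [IsScalarTower A R L]
    (V : FEt.Cat (Spec (CommRingCat.of K)))
    (hV : Pi1.IsSplit ((FEt.restrict (Spec.map (CommRingCat.ofHom (algebraMap K L)))).obj V)) :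
    ∃ Y : FEt.Cat (Spec (CommRingCat.of A)),
      Nonempty ((FEt.restrict (Spec.map (CommRingCat.ofHom (algebraMap A K)))).obj Y ≅ V) := by
  classical
  haveI := Purity10.StrictNormal.weaklyEtale A R
  haveI := Purity10.StrictNormal.faithfullyFlat A R
  haveI hdom : IsDomain R := (HenselLib.normalDomain_of_weaklyEtale A R).1
  haveI hnor : IsIntegrallyClosed R := (HenselLib.normalDomain_of_weaklyEtale A R).2
  let vh : V.left ⟶ Spec (CommRingCat.of K) := V.hom
  haveI : IsFinite vh := V.prop.1
  haveI : Etale vh := V.prop.2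
  haveI : IsAffine V.left := isAffine_of_isAffineHom vh
  let C := Γ(V.left, ⊤)
  let α : CommRingCat.of K ⟶ C := (Scheme.ΓSpecIso (CommRingCat.of K)).inv ≫ vh.appTop
  letI : Algebra K C := α.hom.toAlgebra
  letI : Algebra A C := (α.hom.comp (algebraMap A K)).toAlgebra
  haveI : IsScalarTower A K C := .of_algebraMap_eq' rfl
  let eK := (Scheme.ΓSpecIso (CommRingCat.of K)).symm.commRingCatIsoToRingEquiv
  haveI : Module.Finite K C := (RingHom.finite_respectsIso.2 _ eK (IsFinite.finite_app vh ⊤ (isAffineOpen_top _)))
  have hVC : V.left.isoSpec.hom ≫ Spec.map (CommRingCat.ofHom (algebraMap K C)) = vh := by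
    rw [Scheme.isoSpec_hom]
    exact Lef23.Descend.toSpecΓ_comp_map vh
  let g := Spec.map (CommRingCat.ofHom (algebraMap K L))
  let incR := CommRingCat.ofHom (Algebra.TensorProduct.includeRight (R := K) (A := L) (B := C)).toRingHom
  let incL := CommRingCat.ofHom (algebraMap L (L ⊗[K] C))
  have HP : IsPullback (Spec.map incR ≫ V.left.isoSpec.inv) (Spec.map incL) vh g := by
    refine ((isPullback_SpecMap_of_isPushout _ _ _ _ (CommRingCat.isPushout_tensorProduct K L C)).flip).of_iso
      (Iso.refl _) V.left.isoSpec.symm (Iso.refl _) (Iso.refl _) ?_ ?_ ?_ ?_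
    · simp [incR]
    · simp [incL]
      rfl
    · rw [Iso.refl_hom, Category.comp_id, Iso.symm_hom, ← hVC, Iso.inv_hom_id_assoc]
    · simp [g]
  obtain ⟨ι, hι, e, he⟩ := hV
  haveI := hι
  let ψ := (IsPullback.of_hasPullback vh g).isoIsPullback V.left (Spec (CommRingCat.of L)) HP
  let sec : ι → (Spec (CommRingCat.of L) ⟶ Spec (CommRingCat.of (L ⊗[K] C))) := fun i =>
    Sigma.ι (fun _ : ι => Spec (CommRingCat.of L)) i ≫ e.inv ≫ ψ.hom
  let φ : ∀ i, L ⊗[K] C →ₐ[L] L := fun i =>
    { (Spec.preimage (sec i)).hom with
      commutes' := fun l => by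
        have h : incL ≫ Spec.preimage (sec i) = 𝟙 _ := Spec.map_injective (by
          rw [Spec.map_comp, Spec.map_preimage, Spec.map_id]
          simp only [sec, Category.assoc]
          rw [show ψ.hom ≫ Spec.map incL = pullback.snd vh g from
            (IsPullback.of_hasPullback vh g).isoIsPullback_hom_snd _ _ HP]
          exact he i)
        exact congrArg (fun k : CommRingCat.of L ⟶ CommRingCat.of L => k.hom l) h }
  let Φ : L ⊗[K] C →ₐ[L] (ι → L) := Pi.algHom L (fun _ : ι => L) φ
  have hΦ : Function.Bijective Φ := by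
    let Φc : CommRingCat.of (L ⊗[K] C) ⟶ CommRingCat.of (ι → L) := CommRingCat.ofHom Φ.toRingHom
    have h1 : sigmaSpec (fun _ : ι => CommRingCat.of L) ≫ Spec.map Φc = e.inv ≫ ψ.hom := by
      refine Sigma.hom_ext _ _ fun i => ?_
      rw [ι_sigmaSpec_assoc, ← Spec.map_comp]
      rw [show Φc ≫ CommRingCat.ofHom (Pi.evalRingHom (fun _ : ι => (CommRingCat.of L : Type u)) i) = Spec.preimage (sec i) from
          CommRingCat.hom_ext (RingHom.ext fun _ => rfl), Spec.map_preimage]
    haveI hi : IsIso (e.inv ≫ ψ.hom) := inferInstance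
    haveI : IsIso (Spec.map Φc) := by
      rw [← h1] at hi
      exact IsIso.of_isIso_comp_left (sigmaSpec (fun _ : ι => CommRingCat.of L)) (Spec.map Φc)
    haveI : IsIso Φc := by
      have : Φc = (Scheme.ΓSpecIso _).inv ≫ (Spec.map Φc).appTop ≫ (Scheme.ΓSpecIso _).hom := by
        rw [Scheme.ΓSpecIso_naturality, Iso.inv_hom_id_assoc]
      rw [this]
      infer_instance
    exact ConcreteCategory.bijective_of_isIso Φc
  haveI : SMulCommClass K R L := ⟨fun k r l => by simp only [Algebra.smul_def]; ring⟩
  let Ψ : R ⊗[A] C →ₐ[R] L ⊗[K] C := Algebra.TensorProduct.lift (Algebra.ofId R _)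
    ((Algebra.TensorProduct.includeRight (R := K) (A := L) (B := C)).restrictScalars A) (fun _ _ => Commute.all _ _)
  have hΨt : ∀ (r : R) (c : C), Ψ (r ⊗ₜ c) = algebraMap R L r ⊗ₜ[K] c := fun r c => by
    simp [Ψ, Algebra.TensorProduct.lift_tmul, Algebra.ofId_apply]
  have htF := Purity10.StrictNormal.toFrac_bijective A R K L
  have hΨs : Function.Surjective Ψ := by
    intro w
    induction w with
    | zero => exact ⟨0, map_zero _⟩
    | add a b ha hb =>
      obtain ⟨a', rfl⟩ := ha
      obtain ⟨b', rfl⟩ := hb
      exact ⟨a' + b', map_add _ _ _⟩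
    | tmul l c =>
      obtain ⟨t, rfl⟩ := htF.2 l
      induction t with
      | zero => exact ⟨0, by simp⟩
      | tmul r k =>
        refine ⟨r ⊗ₜ (k • c), ?_⟩
        rw [hΨt, ← TensorProduct.smul_tmul]
        congr 1
        simp [Purity10.StrictNormal.toFrac, Algebra.smul_def, mul_comm]
      | add a b ha hb =>
        obtain ⟨a', ha⟩ := ha
        obtain ⟨b', hb⟩ := hb
        exact ⟨a' + b', by rw [map_add, map_add, ha, hb, TensorProduct.add_tmul]⟩
  have hΨi : Function.Injective Ψ := by
    let b := Module.Free.chooseBasis K C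
    let co : ∀ i, C →ₗ[A] K := fun i => (b.coord i).restrictScalars A
    let sm : ∀ i, K →ₗ[A] C := fun i => (LinearMap.toSpanSingleton K C (b i)).restrictScalars A
    have hid : (LinearMap.id : C →ₗ[A] C) = ∑ i, sm i ∘ₗ co i := LinearMap.ext fun c => by
      simp [sm, co, LinearMap.sum_apply, b.sum_repr c]
    have hco : ∀ i (z : R ⊗[A] C), Purity10.StrictNormal.toFrac A R K L ((co i).lTensor R z) =
        TensorProduct.rid K L ((b.coord i).lTensor L (Ψ z)) := fun i z => by
      induction z with
      | zero => simp
      | tmul r c =>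
        rw [hΨt]
        simp [co, Purity10.StrictNormal.toFrac, Algebra.smul_def, mul_comm]
      | add x y hx hy => simp [map_add, hx, hy]
    refine (injective_iff_map_eq_zero _).2 fun z hz => ?_
    have h0 : ∀ i, (co i).lTensor R z = 0 := fun i => htF.1 (by rw [hco, hz, map_zero, map_zero, map_zero])
    have : z = (LinearMap.id : C →ₗ[A] C).lTensor R z := by simp
    rw [this, hid]
    rw [← LinearMap.coe_lTensorHom, map_sum, LinearMap.sum_apply]
    refine Finset.sum_eq_zero fun i _ => ?_
    show (sm i ∘ₗ co i).lTensor R z = 0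
    rw [LinearMap.lTensor_comp_apply, h0, map_zero]
  let B := integralClosure A C
  let χ : R ⊗[A] B →ₐ[R] R ⊗[A] C := Algebra.TensorProduct.map (AlgHom.id R R) B.val
  have hχ : Function.Injective χ :=
    Module.Flat.lTensor_preserves_injective_linearMap (M := R) B.val.toLinearMap Subtype.val_injective
  let G : R ⊗[A] B →ₐ[R] (ι → L) := (Φ.restrictScalars R).comp (Ψ.comp χ)
  let D : (ι → R) →ₐ[R] (ι → L) := Pi.algHom R (fun _ : ι => L) fun i => (Algebra.ofId R L).comp (Pi.evalAlgHom R (fun _ => R) i)
  have hG : Function.Injective G := hΦ.1.comp (hΨi.comp hχ)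
  have hD : Function.Injective D := fun x y h => funext fun i => IsFractionRing.injective R L (by exact congrFun h i)
  haveI : Algebra.IsIntegral A B := integralClosure.AlgebraIsIntegral
  have hrange : G.range = D.range := by
    refine le_antisymm ?_ ?_
    · rintro _ ⟨t, rfl⟩
      have hint : ∀ i, IsIntegral R (G t i) := fun i =>
        ((Algebra.IsIntegral.isIntegral (R := R) t).map G).map (Pi.evalAlgHom R (fun _ => L) i)
      choose r hr using fun i => IsIntegrallyClosed.isIntegral_iff.1 (hint i)
      exact ⟨r, funext fun i => by exact hr i⟩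
    · rintro _ ⟨x, rfl⟩
      obtain ⟨w, hw⟩ := hΦ.2 (D x)
      obtain ⟨z, rfl⟩ := hΨs w
      have hz : IsIntegral R z := by
        refine (isIntegral_algHom_iff ((Φ.restrictScalars R).comp Ψ) (hΦ.1.comp hΨi)).1 ?_
        show IsIntegral R (Φ (Ψ z))
        rw [hw]
        exact (Algebra.IsIntegral.isIntegral x).map D
      obtain ⟨β, hβ⟩ := Purity10.StrictNormal.mem_range A R C z hz
      refine ⟨β, ?_⟩
      show Φ (Ψ (χ β)) = D x
      rw [← hw]
      congr 2
  let eT : R ⊗[A] B ≃ₐ[R] (ι → R) :=
    (AlgEquiv.ofInjective G hG).trans ((Subalgebra.equivOfEq _ _ hrange).trans (AlgEquiv.ofInjective D hD).symm)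
  haveI : Module.Finite R (R ⊗[A] B) := Module.Finite.equiv eT.symm.toLinearEquiv
  haveI : Algebra.Etale R (R ⊗[A] B) := Algebra.Etale.of_equiv eT.symm
  haveI : Module.Finite A B := Module.Finite.of_finite_tensorProduct_of_faithfullyFlat R
  haveI : Algebra.Etale A B := Algebra.Etale.of_etale_tensorProduct_of_faithfullyFlat R
  let y := Spec.map (CommRingCat.ofHom (algebraMap A B))
  have hy : FEt.prop y := ⟨(IsFinite.SpecMap_iff _).2 (RingHom.finite_algebraMap.2 inferInstance),
    (HasRingHomProperty.Spec_iff (P := @Etale)).2 (RingHom.etale_algebraMap.2 inferInstance)⟩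
  letI : Algebra B C := B.val.toRingHom.toAlgebra
  haveI : IsScalarTower A B C := .of_algebraMap_eq' rfl
  haveI : IsLocalization (Algebra.algebraMapSubmonoid B (nonZeroDivisors A)) C := by
    have hu : ∀ s : nonZeroDivisors A, IsUnit (algebraMap A C s) := fun s => by
      rw [IsScalarTower.algebraMap_apply A K C]
      exact (IsLocalization.map_units K s).map _
    refine (isLocalization_iff _ _).2 ⟨?_, ?_, ?_⟩
    · rintro ⟨_, a, ha, rfl⟩
      exact hu ⟨a, ha⟩
    · intro c
      obtain ⟨⟨s, hs⟩, hc⟩ := IsIntegral.exists_multiple_integral_of_isLocalization (nonZeroDivisors A) (Rₘ := K) c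
        (Algebra.IsIntegral.isIntegral c)
      refine ⟨(⟨_, hc⟩, ⟨algebraMap A B s, s, hs, rfl⟩), ?_⟩
      show c * algebraMap A C s = s • c
      rw [Algebra.smul_def, mul_comm]
    · intro b b' h
      exact ⟨1, by rw [show b = b' from Subtype.ext h]⟩
  haveI : Algebra.IsPushout A K B C := (Algebra.isPushout_of_isLocalization (nonZeroDivisors A) K B C).symm
  have HY : IsPullback (Spec.map (CommRingCat.ofHom (algebraMap B C))) (Spec.map (CommRingCat.ofHom (algebraMap K C)))
      y (Spec.map (CommRingCat.ofHom (algebraMap A K))) :=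
    (isPullback_SpecMap_of_isPushout _ _ _ _ (CommRingCat.isPushout_iff_isPushout.mpr (inferInstance : Algebra.IsPushout A K B C))).flip
  refine ⟨MorphismProperty.Over.mk ⊤ y hy, ⟨MorphismProperty.Over.isoMk (HY.isoPullback.symm ≪≫ V.left.isoSpec.symm) ?_⟩⟩
  show (HY.isoPullback.inv ≫ V.left.isoSpec.inv) ≫ vh = pullback.snd y _
  rw [Category.assoc, ← hVC, Iso.inv_hom_id_assoc, HY.isoPullback_inv_snd]

end Groth.Agent.S1143
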