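import Groth.Statements.S11434
import Groth.Agent.AlgGrpLib.RigidityH0

set_option autoImplicit false
set_option backward.isDefEq.respectTransparency.types false

universe u
open CategoryTheory MonoidalCategory CartesianMonoidalCategory MonObj GrpObj AlgebraicGeometry Topology
open GIT

namespace Groth.Agent.S11434
open Groth.Agent.AlgGrpLib.RigidityH0

/-- Let S, X, Y be locally Noetherian, p : X → S flat, q : Y → S separated, f : X → Y over S, with S
connected and κ(s) → H⁰(X_s, O_{X_s}) bijective for every point s of S; assume either that p is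
proper, or that p is a closed map and has a section. If f collapses one fibre p⁻¹(s) to a single
point, then f = t ∘ p for a section t of q. (The published statement assumes all schemes separated;
this row assumes only that q is separated, which is what the proof uses.) -/
theorem result (S X Y : Scheme.{u}) [IsLocallyNoetherian S] [IsLocallyNoetherian X]
    [IsLocallyNoetherian Y] (p : X ⟶ S) (q : Y ⟶ S) (f : X ⟶ Y) (hf : f ≫ q = p) [Flat p] [IsSeparated q]
    [ConnectedSpace S]
    (h0 : ∀ s : S, Function.Bijective (Limits.pullback.snd p (S.fromSpecResidueField s)).appTop)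
    (hp : IsProper p ∨ (IsClosedMap p.base ∧ ∃ e : S ⟶ X, e ≫ p = 𝟙 S))
    (s : S) (hs : ∀ x x' : X, p.base x = s → p.base x' = s → f.base x = f.base x') :
    ∃ t : S ⟶ Y, t ≫ q = 𝟙 S ∧ f = p ≫ t := by
  have hsub : (f '' (p ⁻¹' {s})).Subsingleton := by
    rintro _ ⟨x, hx, rfl⟩ _ ⟨x', hx', rfl⟩
    exact hs x x' hx hx'
  rcases hp with hp | ⟨hcl, e, he⟩
  · haveI := hp
    exact exists_section_factor_of_proper p h0 f q hf s hsub
  · refine ⟨e ≫ f, by rw [Category.assoc, hf, he], ?_⟩
    refine eq_comp_section_of_collapse p hcl (fun t => (h0 t).2) e he f q ?_ s hsub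
    rw [Category.assoc, Category.assoc, hf, he, Category.comp_id]

end Groth.Agent.S11434
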