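import Groth.Statements.S11435
import Groth.Agent.AlgGrpLib.OrbitProper

set_option autoImplicit false
set_option backward.isDefEq.respectTransparency.types false
universe u
open CategoryTheory MonoidalCategory CartesianMonoidalCategory MonObj GrpObj AlgebraicGeometry Topology
open GIT

namespace Groth.Agent.S11435

/-- Over an algebraically closed field k, let a group scheme G of finite type act on a scheme X of
finite type and let x be a k-rational point of X. Then the orbit morphism ψ_x : G × Spec k → X ×
Spec k, g ↦ (g · x, pt), is proper if and only if the orbit of x (the image of ψ_x) is closed and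
the stabilizer of x (the fibre of ψ_x over (x, pt)) is proper over k. -/
theorem result (k : Type u) [Field k] [IsAlgClosed k]
    (G X : Over (Spec (CommRingCat.of k))) [GrpObj G] [LocallyOfFiniteType G.hom] [QuasiCompact G.hom]
    [LocallyOfFiniteType X.hom] [QuasiCompact X.hom] (a : AlgGrp.Action G X)
    (x : 𝟙_ (Over (Spec (CommRingCat.of k))) ⟶ X) :
    IsProper (GIT.psi a x).left ↔
      IsClosed (Set.range (GIT.psi a x).left.base) ∧
        IsProper (Limits.pullback.snd (GIT.psi a x).left (lift x (𝟙 (𝟙_ (Over (Spec (CommRingCat.of k)))))).left ≫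
          (𝟙_ (Over (Spec (CommRingCat.of k)))).hom) := by
  let e₁ : G ⊗ 𝟙_ (Over (Spec (CommRingCat.of k))) ≅ G :=
    ⟨fst _ _, lift (𝟙 G) (toUnit G), by
      apply CartesianMonoidalCategory.hom_ext
      · simp
      · exact toUnit_unique _ _, lift_fst _ _⟩
  let e₂ : X ≅ X ⊗ 𝟙_ (Over (Spec (CommRingCat.of k))) :=
    ⟨lift (𝟙 X) (toUnit X), fst _ _, lift_fst _ _, by
      apply CartesianMonoidalCategory.hom_ext
      · simp
      · exact toUnit_unique _ _⟩
  have hpsi : GIT.psi a x = e₁.hom ≫ a.orbitMap x ≫ e₂.hom := by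
    apply CartesianMonoidalCategory.hom_ext
    · simp [GIT.psi, e₁, e₂, AlgGrp.Action.orbitMap]
      rw [← Category.assoc]
      congr 1
      apply CartesianMonoidalCategory.hom_ext
      · simp
      · simp only [Category.assoc, whiskerLeft_snd, lift_snd]
        rw [← Category.assoc]
        congr 1
        exact toUnit_unique _ _
    · exact toUnit_unique _ _
  have hx : lift x (𝟙 _) = x ≫ e₂.hom := by
    apply CartesianMonoidalCategory.hom_ext
    · simp [e₂]
    · exact toUnit_unique _ _
  haveI h1 : IsIso e₁.hom.left := ((Over.forget _).mapIso e₁).isIso_hom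
  haveI h2 : IsIso e₂.hom.left := ((Over.forget _).mapIso e₂).isIso_hom
  have hP : IsProper (GIT.psi a x).left ↔ IsProper (a.orbitMap x).left := by
    rw [hpsi, Over.comp_left, Over.comp_left, MorphismProperty.cancel_left_of_respectsIso (P := @IsProper),
      MorphismProperty.cancel_right_of_respectsIso (P := @IsProper)]
  have hR : Set.range (GIT.psi a x).left.base = e₂.hom.left.base '' Set.range (a.orbitMap x).left.base := by
    rw [hpsi, Over.comp_left, Over.comp_left]
    ext y
    constructor
    · rintro ⟨g, rfl⟩
      exact ⟨_, ⟨e₁.hom.left.base g, rfl⟩, rfl⟩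
    · rintro ⟨_, ⟨g, rfl⟩, rfl⟩
      obtain ⟨g', rfl⟩ := e₁.hom.left.surjective g
      exact ⟨g', rfl⟩
  have hC : IsClosed (Set.range (GIT.psi a x).left.base) ↔ IsClosed (Set.range (a.orbitMap x).left.base) := by
    rw [hR]
    exact ((TopCat.homeoOfIso (asIso e₂.hom.left.base))).isClosed_image
  have hSt : IsProper (Limits.pullback.snd (GIT.psi a x).left (lift x (𝟙 (𝟙_ (Over (Spec (CommRingCat.of k)))))).left ≫
      (𝟙_ (Over (Spec (CommRingCat.of k)))).hom) ↔ IsProper (Limits.pullback.snd (a.orbitMap x).left x.left) := by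
    rw [hx, hpsi]
    haveI : IsIso (𝟙_ (Over (Spec (CommRingCat.of k)))).hom := inferInstanceAs (IsIso (𝟙 (Spec (CommRingCat.of k))))
    rw [MorphismProperty.cancel_right_of_respectsIso (P := @IsProper)]
    let c := Limits.pullback.map (e₁.hom ≫ a.orbitMap x ≫ e₂.hom).left (x ≫ e₂.hom).left (a.orbitMap x).left x.left
      e₁.hom.left (𝟙 _) (inv e₂.hom.left) (by simp) (by simp)
    haveI : IsIso c := inferInstance
    have e : c ≫ Limits.pullback.snd (a.orbitMap x).left x.left = Limits.pullback.snd _ _ :=
      (Limits.pullback.lift_snd _ _ _).trans (Category.comp_id _)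
    rw [← e, MorphismProperty.cancel_left_of_respectsIso (P := @IsProper)]
  rw [hP, hC, hSt]
  exact Groth.Agent.AlgGrpLib.OrbitProper.isProper_orbitMap_iff a x

end Groth.Agent.S11435
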