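import Groth.Statements.S11438
import Groth.Agent.AlgGrpLib.RigidityH0

set_option autoImplicit false
set_option backward.isDefEq.respectTransparency.types false

universe u
open CategoryTheory MonoidalCategory CartesianMonoidalCategory MonObj GrpObj AlgebraicGeometry Topology
open GIT

namespace Groth.Agent.S11438
open Groth.Agent.AlgGrpLib.RigidityH0

/-- Let S be connected and locally Noetherian, G a locally Noetherian group scheme separated over S, X →
S proper and flat with κ(s) → H⁰(X_s, O_{X_s}) bijective for every s, and f, g : X → G morphisms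
over S which agree on one fibre X_s. Then there is a section t of G over S with f = (t ∘ p) · g, the
product taken in the group of X-valued points of G. -/
theorem result (S : Scheme.{u}) [IsLocallyNoetherian S] [ConnectedSpace S]
    (X G : Over S) [GrpObj G] [IsLocallyNoetherian G.left] [IsSeparated G.hom] [IsProper X.hom] [Flat X.hom]
    (h0 : ∀ s : S, Function.Bijective (Limits.pullback.snd X.hom (S.fromSpecResidueField s)).appTop)
    (f g : X ⟶ G) (s : S)
    (hs : Limits.pullback.fst X.hom (S.fromSpecResidueField s) ≫ f.left =
      Limits.pullback.fst X.hom (S.fromSpecResidueField s) ≫ g.left) :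
    ∃ t : 𝟙_ (Over S) ⟶ G, f = (toUnit X ≫ t) * g := by
  haveI : IsLocallyNoetherian X.left := LocallyOfFiniteType.isLocallyNoetherian X.hom
  let d : X ⟶ G := f * g⁻¹
  let W : Over S := Over.mk (Limits.pullback.fst X.hom (S.fromSpecResidueField s) ≫ X.hom)
  let w : W ⟶ X := Over.homMk (Limits.pullback.fst X.hom (S.fromSpecResidueField s)) rfl
  have hw : w ≫ d = toUnit W ≫ η[G] := by
    have e : w ≫ f = w ≫ g := Over.OverMorphism.ext hs
    simp only [d, MonObj.comp_mul, GrpObj.comp_inv, e, mul_inv_cancel]
    rw [Hom.one_def]
  have hw' := congrArg CommaMorphism.left hw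
  have hsub : (d.left '' (X.hom ⁻¹' {s})).Subsingleton := by
    refine collapse_of_factor X.hom d.left s (S.fromSpecResidueField s ≫ η[G].left) ?_
    refine hw'.trans ?_
    rw [← Category.assoc, ← Limits.pullback.condition]
    rfl
  obtain ⟨t, ht, hd⟩ := exists_section_factor_of_proper X.hom h0 d.left G.hom (Over.w d) s hsub
  refine ⟨Over.homMk t (by simpa using ht), ?_⟩
  have e : toUnit X ≫ (Over.homMk t (by simpa using ht) : 𝟙_ (Over S) ⟶ G) = d := Over.OverMorphism.ext (by simpa using hd.symm)
  rw [e]
  simp [d]

end Groth.Agent.S11438
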