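import Groth.Statements.S11439
import Groth.Agent.AlgGrpLib.RigidityH0

set_option autoImplicit false
set_option backward.isDefEq.respectTransparency.types false

universe u
open CategoryTheory MonoidalCategory CartesianMonoidalCategory MonObj GrpObj AlgebraicGeometry Topology
open GIT

namespace Groth.Agent.S11439
open Groth.Agent.AlgGrpLib.RigidityH0

/-- Let S be locally Noetherian, G a locally Noetherian group scheme separated over S, X → S proper and
flat with κ(s) → H⁰(X_s, O_{X_s}) bijective for every s, and Y connected, locally Noetherian,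
separated over S with a section over S. Then every morphism f : X ×_S Y → G over S factors as f = (g
∘ p₁) · (h ∘ p₂) with g : X → G and h : Y → G. -/
theorem result (S : Scheme.{u}) [IsLocallyNoetherian S]
    (X Y G : Over S) [GrpObj G] [IsLocallyNoetherian G.left] [IsSeparated G.hom] [IsProper X.hom] [Flat X.hom]
    (h0 : ∀ s : S, Function.Bijective (Limits.pullback.snd X.hom (S.fromSpecResidueField s)).appTop)
    [IsLocallyNoetherian Y.left] [IsSeparated Y.hom] [ConnectedSpace Y.left] (e : 𝟙_ (Over S) ⟶ Y)
    (f : X ⊗ Y ⟶ G) :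
    ∃ (g : X ⟶ G) (h : Y ⟶ G), f = (fst X Y ≫ g) * (snd X Y ≫ h) := by
  haveI : IsLocallyNoetherian X.left := LocallyOfFiniteType.isLocallyNoetherian X.hom
  haveI : IsProper (snd X Y).left := MorphismProperty.pullback_snd (P := @IsProper) X.hom Y.hom inferInstance
  haveI : Flat (snd X Y).left := MorphismProperty.pullback_snd (P := @Flat) X.hom Y.hom inferInstance
  haveI : IsSeparated (snd G Y).left := MorphismProperty.pullback_snd (P := @IsSeparated) G.hom Y.hom inferInstance
  haveI : IsLocallyNoetherian (X ⊗ Y).left := LocallyOfFiniteType.isLocallyNoetherian (snd X Y).left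
  have h0' : ∀ y : Y.left, Function.Bijective
      (Limits.pullback.snd (snd X Y).left (Y.left.fromSpecResidueField y)).appTop := fun y =>
    bijective_appTop_fibre_baseChange X.hom Y.hom y (h0 (Y.hom y))
  let g : X ⟶ G := lift (𝟙 X) (toUnit X ≫ e) ≫ f
  let d : X ⊗ Y ⟶ G := (fst X Y ≫ g)⁻¹ * f
  obtain ⟨s0⟩ : Nonempty S := ⟨Y.hom (Classical.arbitrary Y.left)⟩
  let y0 : Y.left := e.left.base s0
  have hy0 : Y.hom y0 = s0 := by
    have h := congrArg (fun m => m.base s0) (Over.w e)
    exact h
  -- the residue field point at `y0` factors through the section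
  have hc : Y.left.fromSpecResidueField y0 ≫ Y.hom ≫ e.left = Y.left.fromSpecResidueField y0 := by
    have key : ∀ {Z : Scheme.{u}} (e' : S ⟶ Z) (q : Z ⟶ S), e' ≫ q = 𝟙 S →
        Z.fromSpecResidueField (e' s0) ≫ q ≫ e' = Z.fromSpecResidueField (e' s0) := by
      intro Z e' q he
      haveI : IsIso (e'.residueFieldMap s0) := by
        refine (ConcreteCategory.isIso_iff_bijective _).2 ⟨(e'.residueFieldMap s0).hom.injective, fun a => ?_⟩
        have hb' : ∀ (m : S ⟶ S), m = 𝟙 S → Function.Surjective (m.residueFieldMap s0) := by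
          rintro m rfl b
          exact ⟨b, by rw [Scheme.residueFieldMap_id]; rfl⟩
        obtain ⟨b, hb⟩ := hb' _ he a
        rw [Scheme.residueFieldMap_comp] at hb
        exact ⟨q.residueFieldMap (e' s0) b, hb⟩
      rw [← cancel_epi (Spec.map (e'.residueFieldMap s0)), Scheme.Hom.SpecMap_residueFieldMap_fromSpecResidueField_assoc,
        Scheme.Hom.SpecMap_residueFieldMap_fromSpecResidueField, reassoc_of% he]
    exact key e.left Y.hom (Over.w e)
  let T0 : Over S := Over.mk (Limits.pullback.fst (snd X Y).left (Y.left.fromSpecResidueField y0) ≫ (X ⊗ Y).hom)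
  let w : T0 ⟶ X ⊗ Y := Over.homMk (Limits.pullback.fst (snd X Y).left (Y.left.fromSpecResidueField y0)) rfl
  have hw2 : w ≫ snd X Y = toUnit T0 ≫ e := Over.OverMorphism.ext (by
    change Limits.pullback.fst _ _ ≫ (snd X Y).left = (toUnit T0).left ≫ e.left
    rw [Limits.pullback.condition]
    refine (congrArg (Limits.pullback.snd _ _ ≫ ·) hc.symm).trans ?_
    rw [← Category.assoc, ← Category.assoc, ← Limits.pullback.condition, Category.assoc _ _ Y.hom, Over.w (snd X Y)]
    rfl)
  have hwd : w ≫ lift d (snd X Y) = toUnit T0 ≫ lift η[G] e := by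
    apply CartesianMonoidalCategory.hom_ext
    · simp only [Category.assoc, lift_fst, d, MonObj.comp_mul, GrpObj.comp_inv]
      have : w ≫ fst X Y ≫ g = w ≫ f := by
        simp only [g, ← Category.assoc]
        congr 1
        apply CartesianMonoidalCategory.hom_ext
        · simp
        · simp only [Category.assoc, lift_snd, hw2]
          simp
      rw [this, inv_mul_cancel, Hom.one_def]
    · simp only [Category.assoc, lift_snd]
      exact hw2
  have hsub : ((lift d (snd X Y)).left '' ((snd X Y).left ⁻¹' {y0})).Subsingleton := by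
    refine collapse_of_factor (snd X Y).left (lift d (snd X Y)).left y0
      (Y.left.fromSpecResidueField y0 ≫ Y.hom ≫ (lift η[G] e).left) ?_
    refine (congrArg CommaMorphism.left hwd).trans ?_
    rw [← Category.assoc, ← Limits.pullback.condition, ← Category.assoc, Category.assoc _ _ Y.hom, Over.w (snd X Y)]
    rfl
  obtain ⟨t, ht, hd⟩ := exists_section_factor_of_proper (snd X Y).left h0' (lift d (snd X Y)).left (snd G Y).left
    (by rw [← Over.comp_left, lift_snd]) y0 hsub
  let t' : Y ⟶ G ⊗ Y := Over.homMk t (by
    rw [← Over.w (snd G Y), ← Category.assoc, ht]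
    simp)
  have hd' : lift d (snd X Y) = snd X Y ≫ t' := Over.OverMorphism.ext (by simpa [t'] using hd)
  refine ⟨g, t' ≫ fst G Y, ?_⟩
  have : d = snd X Y ≫ t' ≫ fst G Y := by
    rw [← reassoc_of% hd', lift_fst]
  rw [← this]
  simp [d]

end Groth.Agent.S11439
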