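import Groth.Statements.S1144
import Groth.Agent.Purity10.SplitExtend
import Groth.Agent.Purity10.SplitDescent
import Groth.Agent.Purity10.StrictNormal
import Groth.Agent.SchMor12.WeaklyEtale
import Groth.Agent.HenselLib.HensBase
import Groth.Agent.SGA1Quot.GeomTransitive

set_option linter.style.haveILetI false
-- import your own Groth.Agent.* helpers here

set_option autoImplicit false
set_option linter.style.haveILetI false
set_option backward.isDefEq.respectTransparency.types false
set_option backward.isDefEq.respectTransparency false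
universe u
open Pi1

namespace Groth.Agent.S1144

open AlgebraicGeometry CategoryTheory CategoryTheory.Limits in
/-- Let A be a local ring whose punctured spectrum U is quasi-compact, R a strict henselization of A
(with A → R a local homomorphism), and U' the base change of U to Spec R (the punctured spectrum of
R); assume U' is connected. If V is a finite etale cover of U whose base change to U' is split, then
V is the restriction of a finite etale cover of Spec A (only the existence of such a cover Y
together with an isomorphism between its restriction to U and V is asserted). -/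
theorem result (A : Type u) [CommRing A] [IsLocalRing A] (R : Type u) [CommRing R] [IsLocalRing R] [Algebra A R] [IsLocalHom (algebraMap A R)] [Hensel.IsStrictHenselization A R]
    [CompactSpace (FEt.puncturedSpec A : Scheme.{u})]
    (hc : ConnectedSpace ↑(pullback (FEt.puncturedSpec A).ι (Spec.map (CommRingCat.ofHom (algebraMap A R)))))
    (V : FEt.Cat (FEt.puncturedSpec A : Scheme.{u}))
    (hV : Pi1.IsSplit ((FEt.restrict (pullback.fst (FEt.puncturedSpec A).ι (Spec.map (CommRingCat.ofHom (algebraMap A R))))).obj V)) :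
    ∃ Y : FEt.Cat (Spec (CommRingCat.of A)), Nonempty ((FEt.restrict (FEt.puncturedSpec A).ι).obj Y ≅ V) := by
  have hSH := (inferInstance : Hensel.IsStrictHenselization A R)
  haveI := hSH.henselian
  haveI := hSH.isSepClosure
  haveI : IsSepClosed (IsLocalRing.ResidueField R) := IsSepClosure.sep_closed (IsLocalRing.ResidueField A)
  haveI := Purity10.StrictNormal.weaklyEtale (A := A) (R := R)
  haveI := Purity10.StrictNormal.faithfullyFlat (A := A) (R := R)
  let j := (FEt.puncturedSpec A).ι
  let f : Spec (CommRingCat.of R) ⟶ Spec (CommRingCat.of A) := Spec.map (CommRingCat.ofHom (algebraMap A R))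
  haveI : WeaklyEtale f := (SchMor12.weaklyEtale_SpecMap_iff A R).2 inferInstance
  haveI : Surjective f := ⟨PrimeSpectrum.comap_surjective_of_faithfullyFlat⟩
  have hfib : f ⁻¹' Set.range j = ({IsLocalRing.closedPoint R}ᶜ : Set (PrimeSpectrum R)) := by
    rw [Scheme.Opens.range_ι]
    ext P
    change ¬ (PrimeSpectrum.comap (algebraMap A R) P = IsLocalRing.closedPoint A) ↔
      ¬ P = IsLocalRing.closedPoint R
    refine not_congr ⟨fun h => ?_, fun h => ?_⟩
    · refine PrimeSpectrum.ext (((IsLocalRing.maximalIdeal.isMaximal R).eq_of_le P.isPrime.ne_top ?_).symm)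
      rw [← HenselLib.HensBase.map_maximalIdeal_of_isStrictHenselization A R, Ideal.map_le_iff_le_comap]
      exact (congrArg PrimeSpectrum.asIdeal h).ge
    · subst h
      exact IsLocalRing.comap_closedPoint (algebraMap A R)
  have hconn : _root_.IsConnected ({IsLocalRing.closedPoint R}ᶜ : Set (PrimeSpectrum R)) := by
    rw [← hfib, ← Scheme.Pullback.range_snd]
    haveI := hc
    exact isConnected_range (pullback.snd j f).continuous
  obtain ⟨ι, hι, e₀, he₀⟩ := hV
  let a := Purity10.SplitExtend.triv ι (Spec (CommRingCat.of R))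
  haveI : IsFinite a := SGA1Quot.GeomTrans.isFinite_sigmaDesc _ fun _ => inferInstance
  haveI : Etale a := IsZariskiLocalAtSource.sigmaDesc (P := @Etale) fun _ => inferInstance
  haveI : IsFinite V.hom := V.prop.1
  haveI : Etale V.hom := V.prop.2
  -- the base change of the trivial cover
  let U' := pullback j f
  let S : ι → Scheme.{u} := fun _ => Spec (CommRingCat.of R)
  let φ : ∀ _ : ι, U' ⟶ pullback (a ≫ f) j := fun i =>
    pullback.lift (pullback.snd j f ≫ Sigma.ι S i) (pullback.fst j f) (by
      rw [Category.assoc, ← Category.assoc (Sigma.ι S i), Sigma.ι_desc, Category.id_comp]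
      exact pullback.condition.symm)
  have hφ : ∀ i, IsPullback (φ i) (pullback.snd j f) (pullback.fst (a ≫ f) j) (Sigma.ι S i) := fun i => by
    refine IsPullback.of_right ?_ (pullback.lift_fst _ _ _) (IsPullback.of_hasPullback (a ≫ f) j).flip
    rw [pullback.lift_snd]
    simpa [a, S] using IsPullback.of_hasPullback j f
  haveI : ∀ i, IsOpenImmersion (φ i) := fun i =>
    MorphismProperty.of_isPullback (P := @IsOpenImmersion) (hφ i).flip inferInstance
  have hrange : ∀ i, Set.range (φ i) = (pullback.fst (a ≫ f) j) ⁻¹' Set.range (Sigma.ι S i) := fun i => by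
    rw [← Scheme.Pullback.range_fst, ← (hφ i).isoPullback_hom_fst]
    ext z
    constructor
    · rintro ⟨x, rfl⟩; exact ⟨(hφ i).isoPullback.hom x, (Scheme.Hom.comp_apply _ _ _).symm⟩
    · rintro ⟨x, rfl⟩
      exact ⟨(hφ i).isoPullback.inv x, by rw [← Scheme.Hom.comp_apply, Iso.inv_hom_id_assoc]⟩
  obtain ⟨hcol⟩ := nonempty_isColimit_cofanMk_of φ
    (by
      ext z
      simp only [TopologicalSpace.Opens.coe_iSup, Set.mem_iUnion, TopologicalSpace.Opens.coe_top,
        Set.mem_univ, iff_true]
      obtain ⟨⟨i, x⟩, hx⟩ := (sigmaMk S).surjective ((pullback.fst (a ≫ f) j) z)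
      rw [AlgebraicGeometry.sigmaMk_mk] at hx
      exact ⟨i, by show z ∈ Set.range (φ i); rw [hrange]; exact ⟨x, hx⟩⟩)
    (fun i k hik => by
      simp only [Function.onFun]
      rw [← TopologicalSpace.Opens.coe_disjoint, Scheme.Hom.coe_opensRange, Scheme.Hom.coe_opensRange,
        hrange, hrange]
      exact (TopologicalSpace.Opens.coe_disjoint.2 (disjoint_opensRange_sigmaι S i k hik)).preimage _)
  let E' := pullback V.hom (pullback.fst j f)
  let ψ : pullback (a ≫ f) j ⟶ E' := Cofan.IsColimit.desc hcol fun i => Sigma.ι (fun _ : ι => U') i ≫ e₀.inv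
  have hψ : ∀ i, φ i ≫ ψ = Sigma.ι (fun _ : ι => U') i ≫ e₀.inv := fun i => Cofan.IsColimit.fac hcol _ i
  let ψ' : E' ⟶ pullback (a ≫ f) j := e₀.hom ≫ Sigma.desc φ
  haveI : IsIso ψ := ⟨ψ', Cofan.IsColimit.hom_ext hcol _ _ fun i => by
      show φ i ≫ ψ ≫ ψ' = φ i ≫ 𝟙 _
      rw [← Category.assoc, hψ, Category.assoc, Category.comp_id]
      simp [ψ']
      exact Sigma.ι_desc _ _,
    by
      rw [← cancel_epi e₀.inv]
      refine Sigma.hom_ext _ _ fun i => ?_
      simp [ψ', hψ]
      exact congrArg _ (Category.comp_id _).symm⟩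
  have hψ₂ : ψ ≫ pullback.snd V.hom (pullback.fst j f) ≫ pullback.snd j f =
      pullback.fst (a ≫ f) j ≫ a := Cofan.IsColimit.hom_ext hcol _ _ fun i => by
    show φ i ≫ _ = φ i ≫ _
    have h1 : Sigma.ι (fun _ : ι => U') i ≫ e₀.inv ≫ pullback.snd V.hom (pullback.fst j f) = 𝟙 _ := he₀ i
    rw [← Category.assoc, hψ, Category.assoc, reassoc_of% h1, ← Category.assoc, pullback.lift_fst,
      Category.assoc, Sigma.ι_desc, Category.comp_id]
  let w : pullback (a ≫ f) j ⟶ V.left := ψ ≫ pullback.fst _ _
  have Hw : IsPullback (pullback.fst (a ≫ f) j ≫ a) w f (V.hom ≫ j) := by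
    refine ((((IsPullback.of_hasPullback V.hom (pullback.fst j f)).paste_vert
      (IsPullback.of_hasPullback j f).flip.flip.flip.flip).flip).of_iso (asIso ψ).symm (Iso.refl _)
      (Iso.refl _) (Iso.refl _) ?_ ?_ ?_ ?_) <;> simp [w, hψ₂]
  obtain ⟨Y, v, hv₁, hv₂, i, hi⟩ := Purity10.SplitDescent.exists_extension j f V.hom a w Hw
    (fun {Z} h m _ hm b b' hb hb' e => Purity10.SplitExtend.hom_ext m (pullback.fst h j)
      (by rw [Scheme.Pullback.range_fst, ← hm, ← hfib]; rfl) hconn a b b' hb hb' e)
    (fun {Z} h m _ hm c hcm => Purity10.SplitExtend.exists_hom m (pullback.fst h j)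
      (by rw [Scheme.Pullback.range_fst, ← hm, ← hfib]; rfl) hconn c hcm)
  exact ⟨MorphismProperty.Over.mk ⊤ v ⟨hv₁, hv₂⟩, ⟨MorphismProperty.Over.isoMk i hi⟩⟩

end Groth.Agent.S1144
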