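import Groth.Statements.S11440
import Groth.Agent.AlgGrpLib.RigidityNoeth
import Groth.Agent.AbSchLib.ConnectedFibres
import Groth.Agent.AbSchLib.SmoothReduced

set_option autoImplicit false
universe u
open CategoryTheory MonoidalCategory CartesianMonoidalCategory MonObj GrpObj AlgebraicGeometry Topology
open GIT

namespace Groth.Agent.S11440

/-- Let S be Noetherian, X an abelian scheme over S (smooth proper group scheme with connected geometric
fibres), G any locally Noetherian group scheme separated over S, and f : X → G a morphism over S
carrying the unit of X to the unit of G. Then f is a homomorphism. -/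
theorem result (S : Scheme.{u}) [IsNoetherian S]
    (X G : Over S) [GrpObj X] [GrpObj G] [Smooth X.hom] [IsProper X.hom]
    (hc : ∀ s : S, ConnectedSpace (Red.geomFibre s X).left)
    [IsLocallyNoetherian G.left] [IsSeparated G.hom] (f : X ⟶ G) (hf : η[X] ≫ f = η[G]) :
    IsMonHom f := by
  have hfib : ∀ s : S, ConnectedSpace ↥(X.hom.fiber s) := by
    intro s
    let σ := Spec.map (CommRingCat.ofHom (algebraMap (S.residueField s) (AlgebraicClosure (S.residueField s))))
    haveI : Surjective σ := inferInstance
    let e := Limits.pullbackLeftPullbackSndIso X.hom (S.fromSpecResidueField s) σ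
    haveI : ConnectedSpace ↥(Limits.pullback X.hom (σ ≫ S.fromSpecResidueField s)) := hc s
    haveI : ConnectedSpace ↥(Limits.pullback (Limits.pullback.snd X.hom (S.fromSpecResidueField s)) σ) :=
      e.inv.homeomorph.surjective.connectedSpace e.inv.continuous
    exact (Limits.pullback.fst (Limits.pullback.snd X.hom (S.fromSpecResidueField s)) σ).surjective.connectedSpace
      (Limits.pullback.fst (Limits.pullback.snd X.hom (S.fromSpecResidueField s)) σ).continuous
  have hη : η[X].left ≫ X.hom = 𝟙 S := Over.w η[X]
  haveI := Groth.Agent.AbSchLib.geometricallyConnected_of_section X.hom η[X].left hη hfib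
  haveI := Groth.Agent.AbSchLib.geometricallyReduced_of_smooth X.hom
  haveI : IsLocallyNoetherian X.left := LocallyOfFiniteType.isLocallyNoetherian X.hom
  exact Groth.Agent.AlgGrpLib.isMonHom_of_one_noeth X G f hf

end Groth.Agent.S11440
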