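import Groth.Statements.S11441
import Mathlib.AlgebraicGeometry.Morphisms.Separated
import Mathlib.AlgebraicGeometry.PullbackCarrier

set_option autoImplicit false
universe u
open CategoryTheory MonoidalCategory CartesianMonoidalCategory MonObj GrpObj AlgebraicGeometry Topology
open GIT

open CategoryTheory.Limits

namespace Groth.Agent.S11441

/-- A section of a scheme over a one point base spectrum of a field has closed range. -/
theorem isClosed_range_section {K : Type u} [Field K] {Q : Scheme.{u}} (q : Q ⟶ Spec (CommRingCat.of K))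
    (s : Spec (CommRingCat.of K) ⟶ Q) (hs : s ≫ q = 𝟙 _) : IsClosed (Set.range s.base) := by
  rw [← closure_subset_iff_isClosed]
  intro z hz
  obtain ⟨U, hU, hzU, -⟩ := exists_isAffineOpen_mem_and_subset (U := ⊤) (x := z) trivial
  obtain ⟨y, hyU, p', hp'⟩ := mem_closure_iff.1 hz _ U.2 hzU
  have hr : Set.range s.base ⊆ Set.range U.ι.base := by
    rintro _ ⟨p, rfl⟩
    rw [Subsingleton.elim p p', hp', Scheme.Opens.range_ι]
    exact hyU
  let s' : Spec (CommRingCat.of K) ⟶ U.toScheme := IsOpenImmersion.lift U.ι s hr
  have hs' : s' ≫ U.ι = s := IsOpenImmersion.lift_fac _ _ _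
  haveI : IsAffine U.toScheme := hU
  haveI : IsClosedImmersion (s' ≫ U.ι ≫ q) := by
    rw [← Category.assoc, hs', hs]; infer_instance
  have hci : IsClosedImmersion s' := IsClosedImmersion.of_comp s' (U.ι ≫ q)
  have hcl : IsClosed (Set.range s'.base) := s'.isClosedEmbedding.isClosed_range
  have hpre : U.ι.base ⁻¹' Set.range s.base = Set.range s'.base := by
    conv_lhs => rw [← hs', Scheme.Hom.comp_base, TopCat.coe_comp, Set.range_comp]
    exact Set.preimage_image_eq _ U.ι.isOpenEmbedding.injective
  obtain ⟨zU, rfl⟩ : z ∈ Set.range U.ι.base := by rw [Scheme.Opens.range_ι]; exact hzU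
  have h1 : zU ∈ closure (U.ι.base ⁻¹' Set.range s.base) := by
    rw [← U.ι.isOpenEmbedding.isOpenMap.preimage_closure_eq_closure_preimage U.ι.continuous]
    exact hz
  rw [hpre, hcl.closure_eq, ← hpre] at h1
  exact h1

/-- If a geometric quotient of X by G over S exists, then the action of G on X is closed (orbits of
geometric points are closed in the geometric fibres). -/
theorem result (S : Scheme.{u}) (G X Y : Over S) [GrpObj G]
    (a : AlgGrp.Action G X) (φ : X ⟶ Y) (h : GIT.IsGeomQuot a φ) : GIT.IsClosedAction a := by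
  intro Ω _ _ T e f
  let φf : T.left ⟶ Y.left := f.left ≫ φ.left
  let P := pullback φ.left φf
  let m : P ⟶ pullback φ.left φ.left :=
    pullback.lift (pullback.fst φ.left φf) (pullback.snd φ.left φf ≫ f.left) (by
      rw [pullback.condition, Category.assoc])
  let κ : (G ⊗ T).left ⟶ P := pullback.lift ((G ◁ f) ≫ a.act).left (snd G T).left (by
    show ((G ◁ f) ≫ a.act).left ≫ φ.left = (snd G T).left ≫ f.left ≫ φ.left
    rw [← Over.comp_left, ← Over.comp_left, ← Over.comp_left, Category.assoc, h.inv, ← Category.assoc, whiskerLeft_snd,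
      Category.assoc])
  have hleft : κ ≫ m = (G ◁ f).left ≫ GIT.PsiY a φ h.inv := by
    apply pullback.hom_ext
    · refine (Category.assoc _ _ _).trans ((congrArg (κ ≫ ·) (pullback.lift_fst _ _ _)).trans ?_)
      refine (pullback.lift_fst _ _ _).trans ?_
      exact ((Category.assoc _ _ _).trans (congrArg ((G ◁ f).left ≫ ·) (pullback.lift_fst _ _ _))).symm
    · refine (Category.assoc _ _ _).trans ((congrArg (κ ≫ ·) (pullback.lift_snd _ _ _)).trans ?_)
      refine ((Category.assoc _ _ _).symm.trans (congrArg (· ≫ f.left) (pullback.lift_snd _ _ _))).trans ?_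
      refine Eq.trans ?_ ((Category.assoc _ _ _).trans (congrArg ((G ◁ f).left ≫ ·) (pullback.lift_snd _ _ _))).symm
      rw [← Over.comp_left, ← Over.comp_left, whiskerLeft_snd]
  have hpb : IsPullback κ (G ◁ f).left m (GIT.PsiY a φ h.inv) := by
    have hGT : IsPullback (fst G T).left (snd G T).left G.hom T.hom := IsPullback.of_hasPullback G.hom T.hom
    have hGX : IsPullback (fst G X).left (snd G X).left G.hom X.hom := IsPullback.of_hasPullback G.hom X.hom
    have hsnd : IsPullback (G ◁ f).left (snd G T).left (snd G X).left f.left := by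
      refine IsPullback.of_right (h₁₂ := (fst G X).left) (v₁₃ := G.hom) (h₂₂ := X.hom) ?_ ?_ hGX
      · rw [← Over.comp_left, whiskerLeft_fst, Over.w f]; exact hGT
      · rw [← Over.comp_left, ← Over.comp_left, whiskerLeft_snd]
    have hbot : IsPullback m (pullback.snd φ.left φf) (pullback.snd φ.left φ.left) f.left := by
      refine IsPullback.of_right (h₁₂ := pullback.fst φ.left φ.left) (v₁₃ := φ.left) (h₂₂ := φ.left) ?_ ?_
        (IsPullback.of_hasPullback φ.left φ.left)
      · rw [pullback.lift_fst]; exact IsPullback.of_hasPullback φ.left φf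
      · exact pullback.lift_snd _ _ _
    refine (IsPullback.of_bot ?_ hleft.symm hbot).flip
    rw [show κ ≫ pullback.snd φ.left φf = (snd G T).left from pullback.lift_snd _ _ _,
      show GIT.PsiY a φ h.inv ≫ pullback.snd φ.left φ.left = (snd G X).left from pullback.lift_snd _ _ _]
    exact hsnd
  haveI : Surjective (GIT.PsiY a φ h.inv) := ⟨h.orbit⟩
  haveI : Surjective κ := MorphismProperty.of_isPullback hpb.flip inferInstance
  let j : P ⟶ (X ⊗ T).left := pullback.lift (pullback.fst φ.left φf) (pullback.snd φ.left φf) (by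
    rw [← Over.w φ, ← Category.assoc, pullback.condition, Category.assoc, Category.assoc, Over.w φ, Over.w f])
  have hκ : κ ≫ j = (GIT.psi a f).left := by
    apply pullback.hom_ext
    · rw [Category.assoc, pullback.lift_fst, pullback.lift_fst]
      show _ = (GIT.psi a f).left ≫ (fst X T).left
      rw [← Over.comp_left, GIT.psi, lift_fst]
    · rw [Category.assoc, pullback.lift_snd, pullback.lift_snd]
      show _ = (GIT.psi a f).left ≫ (snd X T).left
      rw [← Over.comp_left, GIT.psi, lift_snd]
  rw [← hκ, Scheme.Hom.comp_base, TopCat.coe_comp, Set.range_comp, κ.surjective.range_eq, Set.image_univ]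
  -- the range of `j` is the fibre over a rational point
  let s : T.left ⟶ pullback Y.hom T.hom := pullback.lift φf (𝟙 _) (by
    show (f.left ≫ φ.left) ≫ Y.hom = _
    rw [Category.assoc, Over.w φ, Over.w f, Category.id_comp])
  let φT : (X ⊗ T).left ⟶ pullback Y.hom T.hom := (φ ▷ T).left
  have hXT : IsPullback (fst X T).left (snd X T).left X.hom T.hom := IsPullback.of_hasPullback X.hom T.hom
  have hYT : IsPullback (fst Y T).left (snd Y T).left Y.hom T.hom := IsPullback.of_hasPullback Y.hom T.hom
  have hφT : IsPullback (fst X T).left φT φ.left (fst Y T).left := by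
    refine IsPullback.of_bot (v₂₁ := (snd Y T).left) (v₂₂ := Y.hom) (h₃₁ := T.hom) ?_ ?_ hYT
    · rw [Over.w φ]
      show IsPullback _ ((φ ▷ T).left ≫ (snd Y T).left) _ _
      rw [← Over.comp_left, whiskerRight_snd]; exact hXT
    · show (fst X T).left ≫ φ.left = (φ ▷ T).left ≫ (fst Y T).left
      rw [← Over.comp_left, ← Over.comp_left, whiskerRight_fst]
  have hj : IsPullback j (pullback.snd φ.left φf) φT s := by
    refine IsPullback.of_right (h₁₂ := (fst X T).left) (v₁₃ := φ.left) (h₂₂ := (fst Y T).left) ?_ ?_ hφT
    · rw [show j ≫ (fst X T).left = pullback.fst φ.left φf from pullback.lift_fst _ _ _,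
        show s ≫ (fst Y T).left = φf from pullback.lift_fst _ _ _]
      exact IsPullback.of_hasPullback φ.left φf
    · apply pullback.hom_ext
      · show (j ≫ φT) ≫ (fst Y T).left = (pullback.snd φ.left φf ≫ s) ≫ pullback.fst Y.hom T.hom
        rw [Category.assoc, ← hφT.w, ← Category.assoc,
          show j ≫ (fst X T).left = pullback.fst φ.left φf from pullback.lift_fst _ _ _, Category.assoc,
          pullback.lift_fst, pullback.condition]
      · show (j ≫ (φ ▷ T).left) ≫ (snd Y T).left = (pullback.snd φ.left φf ≫ s) ≫ pullback.snd Y.hom T.hom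
        rw [Category.assoc, ← Over.comp_left, whiskerRight_snd, Category.assoc, pullback.lift_snd, Category.comp_id]
        exact pullback.lift_snd _ _ _
  rw [← IsPullback.isoPullback_hom_fst hj, Scheme.Hom.comp_base, TopCat.coe_comp, Set.range_comp,
    hj.isoPullback.hom.surjective.range_eq, Set.image_univ, Scheme.Pullback.range_fst]
  refine IsClosed.preimage φT.continuous ?_
  have h1 : (e.inv ≫ s) ≫ (pullback.snd Y.hom T.hom ≫ e.hom) = 𝟙 _ := by
    rw [Category.assoc, ← Category.assoc s, show s ≫ pullback.snd Y.hom T.hom = 𝟙 _ from pullback.lift_snd _ _ _,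
      Category.id_comp, Iso.inv_hom_id]
  have h2 := isClosed_range_section _ _ h1
  rwa [Scheme.Hom.comp_base, TopCat.coe_comp, Set.range_comp, e.inv.surjective.range_eq, Set.image_univ] at h2

end Groth.Agent.S11441
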