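import Groth.Statements.S11443
import Groth.Agent.AlgGrpLib.OrbitQuot

set_option autoImplicit false
set_option backward.isDefEq.respectTransparency.types false
universe u
open CategoryTheory MonoidalCategory CartesianMonoidalCategory MonObj GrpObj AlgebraicGeometry Topology
open GIT

namespace Groth.Agent.S11443

/-- Let S be Noetherian and normal, G a group scheme of finite type and universally open over S acting
on X, X and Y irreducible normal Noetherian schemes of finite type over S, and φ : X → Y a dominant
invariant morphism over S of finite type, such that the function field of Y has characteristic zero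
and every geometric fibre of φ contains at most one orbit. Then φ is universally open, and when φ is
surjective (Y, φ) is a geometric quotient of X by G. (The published statement concludes that (φ(X),
φ) is a geometric quotient, φ(X) being open; this row states the case φ(X) = Y and assumes S, X, Y
Noetherian, S normal and X, Y of finite type over S, hypotheses the published argument uses
throughout.) -/
theorem result (S : Scheme.{u}) [IsNoetherian S]
    (hS : ∀ U : S.affineOpens, IsIntegrallyClosed Γ(S, U))
    (G X Y : Over S) [GrpObj G] [LocallyOfFiniteType G.hom] [QuasiCompact G.hom] [UniversallyOpen G.hom]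
    [IsIntegral X.left] [IsNoetherian X.left] (hX : ∀ U : X.left.affineOpens, IsIntegrallyClosed Γ(X.left, U))
    [IsIntegral Y.left] [IsNoetherian Y.left] (hY : ∀ U : Y.left.affineOpens, IsIntegrallyClosed Γ(Y.left, U))
    [LocallyOfFiniteType X.hom] [LocallyOfFiniteType Y.hom] [CharZero Y.left.functionField]
    (a : AlgGrp.Action G X) (φ : X ⟶ Y) [IsDominant φ.left] [LocallyOfFiniteType φ.left]
    (hi : GIT.IsInvariant a φ)
    (hii : ∀ (Ω : Type u) [Field Ω] [IsAlgClosed Ω] (T : Over S) (_ : T.left ≅ Spec (CommRingCat.of Ω))
      (x₁ x₂ : T ⟶ X), x₁ ≫ φ = x₂ ≫ φ → ∃ g : T ⟶ G, lift g x₂ ≫ a.act = x₁) :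
    UniversallyOpen φ.left ∧ (Surjective φ.left → GIT.IsGeomQuot a φ) := by
  exact Groth.Agent.AlgGrpLib.OrbitQuot.main a φ hii hY hi

end Groth.Agent.S11443
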