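import Groth.Statements.S11444
import Groth.Agent.GITLib.TorDimSmooth

set_option autoImplicit false
universe u
open CategoryTheory MonoidalCategory CartesianMonoidalCategory MonObj GrpObj AlgebraicGeometry Topology
open GIT

namespace Groth.Agent.S11444

/-- Let X → Y → S be morphisms of finite type of Noetherian schemes with Y → S smooth with all fibres of
dimension n and X → S flat. Then X → Y has Tor-dimension at most n. -/
theorem result (S X Y : Scheme.{u}) [IsNoetherian S] [IsNoetherian X] [IsNoetherian Y]
    (p : X ⟶ S) (q : Y ⟶ S) (f : X ⟶ Y) (hf : f ≫ q = p) [LocallyOfFiniteType f] (n : ℕ)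
    [SmoothOfRelativeDimension n q] [Flat p] : DerSch.HasTorDimLE f n := by
  subst hf
  exact GITLib.TorDimSmooth.hasTorDimLE q n f

end Groth.Agent.S11444
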