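import Groth.Statements.S11445
import Groth.Agent.GITQuot.Geom

set_option autoImplicit false
universe u
open CategoryTheory MonoidalCategory CartesianMonoidalCategory MonObj GrpObj AlgebraicGeometry Topology
open GIT

namespace Groth.Agent.S11445

/-- Let G act on X over S and let φ : X → Y over S satisfy (i) φ ∘ σ = φ ∘ p₂, (ii) O_Y is the sheaf of
invariant functions (each Γ(U, O_Y) → Γ(φ⁻¹U, O_X) injective with image the invariant sections),
(iii) the image of every closed invariant subset of X is closed and φ(⋂ W_i) = ⋂ φ(W_i) for every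
family of closed invariant subsets. Then (Y, φ) is a categorical quotient of X by G, and φ is
submersive. -/
theorem result (S : Scheme.{u}) (G X Y : Over S) [GrpObj G]
    (a : AlgGrp.Action G X) (φ : X ⟶ Y) (hi : GIT.IsInvariant a φ)
    (hii : ∀ U : Y.left.Opens,
      Function.Injective (φ.left.app U) ∧ Set.range (φ.left.app U) = {f | GIT.IsInvSection a φ U f})
    (hiii : ∀ W : Set X.left, IsClosed W → a.act.left.base '' ((snd G X).left.base ⁻¹' W) ⊆ W →
      IsClosed (φ.left.base '' W))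
    (hiii' : ∀ (J : Type u) (W : J → Set X.left),
      (∀ i, IsClosed (W i) ∧ a.act.left.base '' ((snd G X).left.base ⁻¹' W i) ⊆ W i) →
      φ.left.base '' (⋂ i, W i) = ⋂ i, φ.left.base '' W i) :
    GIT.IsCatQuot a φ ∧ IsQuotientMap φ.left.base := by
  have hsurj : Function.Surjective φ.left.base := fun y => by
    have h := hiii' PEmpty PEmpty.elim (fun i => i.elim)
    rw [Set.iInter_of_empty, Set.iInter_of_empty] at h
    obtain ⟨x, -, hx⟩ := h.symm ▸ Set.mem_univ y
    exact ⟨x, hx⟩
  have hinv : ∀ {Z : Over S} (ψ : X ⟶ Z), GIT.IsInvariant a ψ → ∀ C : Set Z.left,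
      a.act.left.base '' ((snd G X).left.base ⁻¹' (ψ.left.base ⁻¹' C)) ⊆ ψ.left.base ⁻¹' C := by
    rintro Z ψ hψ C _ ⟨p, hp, rfl⟩
    have h := congrArg (fun m : (G ⊗ X).left ⟶ Z.left => m.base p) hψ.left
    simp only [Scheme.Hom.comp_apply] at h
    show ψ.left.base (a.act.left.base p) ∈ C
    rw [h]
    exact hp
  refine ⟨⟨hi, fun Z ψ hψ => ?_⟩, Topology.isQuotientMap_iff_isClosed.2 ⟨hsurj, fun U => ⟨fun hU => hU.preimage φ.left.continuous,
    fun hU => ?_⟩⟩⟩
  · let C : Z.left.affineOpens → Set X.left := fun W => ψ.left.base ⁻¹' ((W : Z.left.Opens) : Set Z.left)ᶜ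
    have hC : ∀ W, IsClosed (C W) ∧ a.act.left.base '' ((snd G X).left.base ⁻¹' C W) ⊆ C W :=
      fun W => ⟨W.1.2.isClosed_compl.preimage ψ.left.continuous, hinv ψ hψ _⟩
    refine Groth.Agent.GITQuot.existsUnique_desc_of_cover hsurj hii Z ψ hψ
      (fun W => ⟨(φ.left.base '' C W)ᶜ, (hiii _ (hC W).1 (hC W).2).isOpen_compl⟩) (fun W x hx => ?_)
      (eq_top_iff.2 fun y _ => ?_)
    · by_contra hne
      exact hx ⟨x, hne, rfl⟩
    · rw [TopologicalSpace.Opens.mem_iSup]
      by_contra hc
      push Not at hc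
      have hy : y ∈ φ.left.base '' ⋂ W, C W := by
        rw [hiii' _ C hC]
        exact Set.mem_iInter.2 fun W => not_not.1 (hc W)
      obtain ⟨x, hx, -⟩ := hy
      obtain ⟨W, hW, hxW, -⟩ := exists_isAffineOpen_mem_and_subset (U := ⊤) (x := ψ.left.base x) trivial
      exact Set.mem_iInter.1 hx ⟨W, hW⟩ hxW
  · have h := hiii _ hU (hinv φ hi _)
    rwa [Set.image_preimage_eq _ hsurj] at h

end Groth.Agent.S11445
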