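import Groth.Statements.S1145
import Groth.Agent.FEtStein.ConnFibreFF
import Groth.Agent.CdDev9.Fibre
import Groth.Agent.Et18.Specialization
import Groth.Agent.Et18.NeronSections
import Groth.Agent.VarietyLib.AffineNhd
import Groth.Agent.EssEt6.Strict
import Groth.Agent.Props12.Stalks
import Mathlib.AlgebraicGeometry.Morphisms.FlatRank

set_option linter.all false
set_option backward.isDefEq.respectTransparency.types false
set_option backward.isDefEq.respectTransparency false
set_option synthInstance.maxHeartbeats 400000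
set_option maxHeartbeats 1000000

set_option autoImplicit false
universe u
open Pi1

namespace Groth.Agent.S1145

open AlgebraicGeometry CategoryTheory CategoryTheory.Limits
open Groth.Agent

theorem restrict_map_fst {X X' : Scheme.{u}} (i : X' ⟶ X) {Y Z : FEt.Cat X} (f : Y ⟶ Z) :
    ((FEt.restrict i).map f).left ≫ pullback.fst Z.hom i = pullback.fst Y.hom i ≫ f.left := by
  simp [FEt.restrict, MorphismProperty.Over.pullback]

theorem exists_gen {W : Scheme.{u}} (O : W.Opens) [QuasiCompact O.ι] (D : Set W) (hD : IsOpen D)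
    (hDO : D ⊆ O) (hC : IsOpen ((O : Set W) \ D)) {w : W} (hw : w ∈ closure D) : ∃ a ∈ D, a ⤳ w := by
  obtain ⟨A, hA, hwA, -⟩ := exists_isAffineOpen_mem_and_subset (X := W) (x := w) (U := ⊤) trivial
  haveI : IsAffine A.toScheme := hA
  have hAO : IsCompact ((A : Set W) ∩ O) := by
    have h := (O.ι.isCompact_preimage (U := A) hA.isCompact).image O.ι.continuous
    have e : O.ι '' ((O.ι ⁻¹ᵁ A : O.toScheme.Opens) : Set O.toScheme) = (A : Set W) ∩ O := by
      show O.ι '' (O.ι ⁻¹' A) = _
      rw [Set.image_preimage_eq_inter_range, Scheme.Opens.range_ι]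
    rwa [e] at h
  have hK : IsCompact ((A : Set W) ∩ D) := by
    have h := hAO.diff hC
    have e : ((A : Set W) ∩ O) \ ((O : Set W) \ D) = (A : Set W) ∩ D := by
      ext z
      exact ⟨fun hz => ⟨hz.1.1, Classical.by_contradiction fun hzD => hz.2 ⟨hz.1.2, hzD⟩⟩,
        fun hz => ⟨⟨hz.1, hDO hz.2⟩, fun h' => h'.2 hz.2⟩⟩
    rwa [e] at h
  let P : A.toScheme.Opens := A.ι ⁻¹ᵁ ⟨D, hD⟩
  haveI : CompactSpace P.toScheme := by
    refine isCompact_iff_compactSpace.1 ?_
    refine A.ι.isEmbedding.isCompact_iff.2 ?_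
    have e : A.ι '' (P : Set A.toScheme) = (A : Set W) ∩ D := by
      show A.ι '' (A.ι ⁻¹' D) = _
      rw [Set.image_preimage_eq_inter_range, Scheme.Opens.range_ι, Set.inter_comm]
    rw [e]
    exact hK
  have hw' : (⟨w, hwA⟩ : A.toScheme) ∈ closure (Set.range P.ι) := by
    rw [Scheme.Opens.range_ι]
    show (⟨w, hwA⟩ : A.toScheme) ∈ closure (A.ι ⁻¹' D)
    rw [← A.ι.isOpenEmbedding.isOpenMap.preimage_closure_eq_closure_preimage A.ι.continuous]
    exact hw
  obtain ⟨p, hp⟩ := VarietyLib.exists_specializes_of_mem_closure_range (X := A.toScheme) P.ι hw'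
  exact ⟨A.ι (P.ι p), p.2, hp.map A.ι.continuous⟩

/-- Generisations in the open of a point over the complement form a connected set. -/
theorem gen_connected {X W : Scheme.{u}} (U : X.Opens) (π : W ⟶ X) [IsFinite π] [Etale π]
    (hcl : ∀ x : X, x ∉ U → IsClosed ({x} : Set X))
    (hsh : ∀ x : X, x ∉ U → ∀ (R : Type u) [CommRing R] [IsLocalRing R] [Algebra (X.presheaf.stalk x) R]
      [IsLocalHom (algebraMap (X.presheaf.stalk x) R)] [Hensel.IsStrictHenselization (X.presheaf.stalk x) R],
      ConnectedSpace (FEt.puncturedSpec R : Scheme.{u}))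
    (w : W) (hw : π w ∉ U) :
    (∃ a, a ⤳ w ∧ π a ∈ U) ∧ ∀ (D : Set W), IsOpen D → IsOpen ((π ⁻¹' (U : Set X)) \ D) →
      ∀ a b : W, a ⤳ w → b ⤳ w → π a ∈ U → π b ∈ U → a ∈ D → b ∈ D := by
  let A := X.presheaf.stalk (π w)
  let R := HenselLib.LocalSH A
  haveI := HenselLib.isStrictHenselization_localSH (R := A)
  haveI : IsSepClosed (IsLocalRing.ResidueField R) :=
    (‹Hensel.IsStrictHenselization A R›).isSepClosure.sep_closed
  haveI : HenselianLocalRing R := (‹Hensel.IsStrictHenselization A R›).henselian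
  haveI := CdDev9.weaklyEtale_strict A R
  let σ := Hens2.specOf X (π w) R
  haveI : Flat σ := by
    haveI : Flat (Spec.map (CommRingCat.ofHom (algebraMap A R))) :=
      Flat.SpecMap_iff.2 (RingHom.flat_algebraMap_iff.2 (EssEt6.flat_strict (A := A) R))
    haveI := Props12.flat_fromSpecStalk (π w)
    exact inferInstanceAs (Flat (Spec.map (CommRingCat.ofHom (algebraMap A R)) ≫ X.fromSpecStalk (π w)))
  have hσ : σ (IsLocalRing.closedPoint R) = π w := Et18.Specialization.specOf_closedPoint R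
  have hpunct : ∀ P : Spec (CommRingCat.of R), P ≠ IsLocalRing.closedPoint R → σ P ∈ U := fun P hP => by
    by_contra hPU
    have hsp : σ P ⤳ π w := (((PrimeSpectrum.le_iff_specializes P (IsLocalRing.closedPoint R)).1
      (IsLocalRing.le_maximalIdeal P.2.ne_top)).map σ.continuous).trans (specializes_of_eq hσ)
    have hσP : σ P = π w := by
      have hmem : π w ∈ ({σ P} : Set X) := hsp.mem_closed (hcl _ hPU) rfl
      exact hmem.symm
    refine hP (PrimeSpectrum.ext (HenselLib.WEt.eq_of_le_of_comap_eq (A := A)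
      (IsLocalRing.le_maximalIdeal P.2.ne_top) ?_))
    exact congrArg PrimeSpectrum.asIdeal ((X.fromSpecStalk (π w)).isEmbedding.injective (hσP.trans hσ.symm))
  let q : pullback π σ ⟶ W := pullback.fst π σ
  let g : pullback π σ ⟶ Spec (CommRingCat.of R) := pullback.snd π σ
  haveI : IsFinite g := MorphismProperty.pullback_snd _ _ ‹IsFinite π›
  haveI : Etale g := MorphismProperty.pullback_snd _ _ ‹Etale π›
  haveI : Flat q := MorphismProperty.pullback_fst _ _ ‹Flat σ›
  obtain ⟨z, hz1, hz2⟩ := Scheme.Pullback.exists_preimage_pullback (f := π) (g := σ) w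
    (IsLocalRing.closedPoint R) hσ.symm
  let F : Set ↥(pullback π σ) := g ⁻¹' {IsLocalRing.closedPoint R}
  have hF : IsClosed F := (IsLocalRing.isClosed_singleton_closedPoint R).preimage g.continuous
  haveI : DiscreteTopology F := isDiscrete_iff_discreteTopology.mp (g.isDiscrete_preimage_singleton _)
  have hO' : IsClosed (F \ {z}) := by
    have h := hF.isClosedMap_subtype_val _ (isClosed_discrete ({p : F | (p : ↥(pullback π σ)) ≠ z}))
    have e : F \ {z} = Subtype.val '' {p : F | (p : ↥(pullback π σ)) ≠ z} :=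
      Set.ext fun p => ⟨fun h => ⟨⟨p, h.1⟩, h.2, rfl⟩, fun ⟨p', hp', e⟩ => e ▸ ⟨p'.2, hp'⟩⟩
    rw [e]
    exact h
  let O : (pullback π σ).Opens := ⟨(F \ {z})ᶜ, hO'.isOpen_compl⟩
  obtain ⟨s, hs, hsO⟩ := Et18.NeronSections.exists_section_mem g O z (fun h => h.2 rfl) hz2
  have hsz : s (IsLocalRing.closedPoint R) = z := by
    by_contra hne
    refine hsO ⟨?_, hne⟩
    show g (s _) = IsLocalRing.closedPoint R
    rw [← Scheme.Hom.comp_apply, hs]
    rfl
  haveI : IsSplitMono s := IsSplitMono.mk' ⟨g, hs⟩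
  haveI : Etale (s ≫ g) := by rw [hs]; infer_instance
  haveI : Etale s := Etale.of_comp s g
  haveI : IsOpenImmersion s := IsOpenImmersion.of_flat_of_mono s
  let ψ : Spec (CommRingCat.of R) ⟶ W := s ≫ q
  have hψ : ∀ P, π (ψ P) = σ P := fun P => by
    show (ψ ≫ π) P = σ P
    rw [Category.assoc, pullback.condition, ← Category.assoc, hs, Category.id_comp]
  have hψw : ψ (IsLocalRing.closedPoint R) = w := by
    show (s ≫ q) _ = w
    rw [Scheme.Hom.comp_apply, hsz]
    exact hz1
  have hlift : ∀ a, a ⤳ w → π a ∈ U → ∃ P : (FEt.puncturedSpec R : Scheme.{u}),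
      ψ ((FEt.puncturedSpec R).ι P) = a := fun a ha haU => by
    obtain ⟨z', hz'z, hz'a⟩ := Flat.generalizingMap q (show a ⤳ q z from hz1.symm ▸ ha)
    obtain ⟨P, hP⟩ : z' ∈ Set.range s := hz'z.mem_open s.isOpenEmbedding.isOpen_range ⟨_, hsz⟩
    have hP' : ψ P = a := by
      show (s ≫ q) P = a
      rw [Scheme.Hom.comp_apply, hP, hz'a]
    refine ⟨⟨P, fun h => hw ?_⟩, hP'⟩
    rw [← hψw, ← (Set.mem_singleton_iff.1 h : P = IsLocalRing.closedPoint R), hP']
    exact haU
  haveI := hsh (π w) hw R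
  have hinU : ∀ P : (FEt.puncturedSpec R : Scheme.{u}), π (ψ ((FEt.puncturedSpec R).ι P)) ∈ U := fun P => by
    rw [hψ]
    exact hpunct _ P.2
  refine ⟨?_, fun D hD hC a b ha hb haU hbU haD => ?_⟩
  · obtain ⟨P⟩ := (inferInstance : Nonempty (FEt.puncturedSpec R : Scheme.{u}))
    refine ⟨_, ?_, hinU P⟩
    exact (((PrimeSpectrum.le_iff_specializes P.1 (IsLocalRing.closedPoint R)).1
      (IsLocalRing.le_maximalIdeal P.1.2.ne_top)).map ψ.continuous).trans (specializes_of_eq hψw)
  · obtain ⟨P, rfl⟩ := hlift a ha haU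
    obtain ⟨Q, rfl⟩ := hlift b hb hbU
    let c : ↥(FEt.puncturedSpec R).toScheme → W := fun P => ψ ((FEt.puncturedSpec R).ι P)
    have hc : Continuous c := ψ.continuous.comp (FEt.puncturedSpec R).ι.continuous
    have hclo : IsClopen (c ⁻¹' D) := by
      refine ⟨isOpen_compl_iff.1 ?_, hD.preimage hc⟩
      have e : (c ⁻¹' D)ᶜ = c ⁻¹' ((π ⁻¹' (U : Set X)) \ D) := Set.ext fun P => ⟨fun h => ⟨hinU P, h⟩, fun h => h.2⟩
      rw [e]
      exact hC.preimage hc
    have huniv : c ⁻¹' D = Set.univ := hclo.eq_univ ⟨P, haD⟩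
    exact (Set.eq_univ_iff_forall.1 huniv Q)

theorem exists_iso_of_graph {X : Scheme.{u}} (U : X.Opens) [QuasiCompact U.ι]
    (hcl : ∀ x : X, x ∉ U → IsClosed ({x} : Set X))
    (hsh : ∀ x : X, x ∉ U → ∀ (R : Type u) [CommRing R] [IsLocalRing R] [Algebra (X.presheaf.stalk x) R]
      [IsLocalHom (algebraMap (X.presheaf.stalk x) R)] [Hensel.IsStrictHenselization (X.presheaf.stalk x) R],
      ConnectedSpace (FEt.puncturedSpec R : Scheme.{u}))
    {Y W : Scheme.{u}} (a : Y ⟶ X) [IsFinite a] [Etale a] (pY : W ⟶ Y) [IsFinite pY] [Etale pY]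
    (γ : pullback a U.ι ⟶ W) [IsOpenImmersion γ]
    (hγ : γ ≫ pY = pullback.fst a U.ι)
    (hγC : IsOpen (((pY ≫ a) ⁻¹' (U : Set X)) \ Set.range γ)) :
    ∃ (V : W.Opens) (_ : IsIso (V.ι ≫ pY)), Set.range γ ⊆ (V : Set W) := by
  let π := pY ≫ a
  haveI : IsFinite π := inferInstanceAs (IsFinite (pY ≫ a))
  haveI : Etale π := inferInstanceAs (Etale (pY ≫ a))
  let O : W.Opens := π ⁻¹ᵁ U
  haveI : QuasiCompact O.ι := by
    haveI : QuasiCompact (pullback.fst π U.ι) := MorphismProperty.pullback_fst _ _ ‹QuasiCompact U.ι›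
    have e := (isPullback_morphismRestrict π U).flip.isoPullback_inv_fst
    have e' : (isPullback_morphismRestrict π U).flip.isoPullback.hom ≫ pullback.fst π U.ι = O.ι :=
      (isPullback_morphismRestrict π U).flip.isoPullback_hom_fst
    rw [← e']
    infer_instance
  let D₀ : Set W := Set.range γ
  have hD₀ : IsOpen D₀ := γ.isOpenEmbedding.isOpen_range
  have hD₀O : D₀ ⊆ O := by
    rintro _ ⟨y, rfl⟩
    show π (γ y) ∈ U
    rw [← Scheme.Hom.comp_apply, ← Category.assoc, hγ, pullback.condition]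
    exact (pullback.snd a U.ι y).2
  have hC₀ : IsOpen ((O : Set W) \ D₀) := hγC
  have hCC₀ : IsOpen ((O : Set W) \ ((O : Set W) \ D₀)) := by
    have e : (O : Set W) \ ((O : Set W) \ D₀) = D₀ := Set.diff_diff_cancel_left hD₀O
    rw [e]
    exact hD₀
  have hcover : ∀ w : W, w ∈ closure D₀ ∨ w ∈ closure ((O : Set W) \ D₀) := fun w => by
    by_cases hw : w ∈ O
    · by_cases hd : w ∈ D₀
      · exact Or.inl (subset_closure hd)
      · exact Or.inr (subset_closure ⟨hw, hd⟩)
    obtain ⟨⟨b, hbw, hbU⟩, -⟩ := gen_connected U π hcl hsh w hw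
    by_cases hd : b ∈ D₀
    · exact Or.inl (hbw.mem_closed isClosed_closure (subset_closure hd))
    · exact Or.inr (hbw.mem_closed isClosed_closure (subset_closure ⟨hbU, hd⟩))
  have hdisj : ∀ w : W, w ∈ closure D₀ → w ∉ closure ((O : Set W) \ D₀) := fun w h1 h2 => by
    obtain ⟨a₁, ha₁, ha₁w⟩ := exists_gen O D₀ hD₀ hD₀O hC₀ h1
    obtain ⟨a₂, ha₂, ha₂w⟩ := exists_gen O _ hC₀ Set.diff_subset hCC₀ h2
    by_cases hw : w ∈ O
    · by_cases hd : w ∈ D₀
      · obtain ⟨v, hv, hv'⟩ := mem_closure_iff.1 h2 D₀ hD₀ hd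
        exact hv'.2 hv
      · obtain ⟨v, hv, hv'⟩ := mem_closure_iff.1 h1 _ hC₀ ⟨hw, hd⟩
        exact hv.2 hv'
    exact ha₂.2 ((gen_connected U π hcl hsh w hw).2 D₀ hD₀ hC₀ a₁ a₂ ha₁w ha₂w (hD₀O ha₁) ha₂.1 ha₁)
  have hV : IsOpen (closure D₀) := by
    have e : closure D₀ = (closure ((O : Set W) \ D₀))ᶜ :=
      Set.ext fun w => ⟨hdisj w, fun h => (hcover w).resolve_right h⟩
    rw [e]
    exact isClosed_closure.isOpen_compl
  let V : W.Opens := ⟨closure D₀, hV⟩
  haveI : IsClosedImmersion V.ι := IsClosedImmersion.of_isPreimmersion _ (by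
    rw [Scheme.Opens.range_ι]; exact isClosed_closure)
  let c := V.ι ≫ pY
  haveI : IsFinite c := inferInstanceAs (IsFinite (V.ι ≫ pY))
  haveI : Etale c := inferInstanceAs (Etale (V.ι ≫ pY))
  refine ⟨V, ?_, subset_closure⟩
  rw [Scheme.Hom.isIso_iff_finrank_eq]
  have honU : ∀ y : Y, a y ∈ U → c.finrank y = 1 := fun y hy => by
    obtain ⟨p, hp1, -⟩ := Scheme.Pullback.exists_preimage_pullback (f := a) (g := U.ι) y ⟨a y, hy⟩ rfl
    subst hp1
    let j := pullback.fst a U.ι
    let γ' : pullback a U.ι ⟶ V := IsOpenImmersion.lift V.ι γ (by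
      rw [Scheme.Opens.range_ι]; exact subset_closure)
    have hγ' : γ' ≫ V.ι = γ := IsOpenImmersion.lift_fac _ _ _
    have hsq : IsPullback γ' (𝟙 _) c j := by
      refine IsPullback.mk ⟨by rw [← Category.assoc, hγ', hγ, Category.id_comp]⟩ ⟨PullbackCone.IsLimit.mk _
        (fun s => s.snd) (fun s => ?_) (fun s => Category.comp_id _) (fun s m _ h2 => by simpa using h2)⟩
      have hrange : Set.range (s.fst ≫ V.ι) ⊆ Set.range γ := by
        rintro _ ⟨t, rfl⟩
        have hmem : (s.fst ≫ V.ι) t ∈ closure D₀ := (s.fst t).2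
        have hO : (s.fst ≫ V.ι) t ∈ O := by
          show π ((s.fst ≫ V.ι) t) ∈ U
          rw [← Scheme.Hom.comp_apply]
          have e : (s.fst ≫ V.ι) ≫ π = s.snd ≫ pullback.snd a U.ι ≫ U.ι := by
            rw [← pullback.condition, ← Category.assoc s.snd]
            have h := s.condition
            show (s.fst ≫ V.ι) ≫ pY ≫ a = _
            rw [← h]
            simp [c, Category.assoc]
          rw [e]
          exact (pullback.snd a U.ι (s.snd t)).2
        by_contra hn
        exact hdisj _ hmem (subset_closure ⟨hO, hn⟩)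
      let l := IsOpenImmersion.lift γ (s.fst ≫ V.ι) hrange
      have hl : l ≫ γ = s.fst ≫ V.ι := IsOpenImmersion.lift_fac _ _ _
      have hl2 : l = s.snd := by
        rw [← cancel_mono (pullback.fst a U.ι), ← hγ, ← Category.assoc, hl, Category.assoc, hγ]
        exact s.condition
      rw [← cancel_mono V.ι, Category.assoc, hγ', ← hl2, hl]
    rw [← Scheme.Hom.finrank_of_isPullback γ' (𝟙 _) c j hsq p, Scheme.Hom.finrank_eq_one_of_isIso]
    rfl
  funext y
  by_cases hy : a y ∈ U
  · exact honU y hy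
  · obtain ⟨⟨b, hby, hbU⟩, -⟩ := gen_connected U a hcl hsh y hy
    have hloc := c.isLocallyConstant_finrank
    obtain ⟨N, hN, hyN, hN'⟩ := (IsLocallyConstant.iff_exists_open _).1 hloc y
    rw [← hN' b (hby.mem_open hN hyN)]
    exact honU b hbU

open AlgebraicGeometry CategoryTheory CategoryTheory.Limits in
/-- Let X be a scheme and U a dense open subscheme with quasi-compact inclusion such that every point of
the complement of U is closed and, for every such point x and every strict henselization R of the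
local ring at x, the punctured spectrum of R is connected. Then restriction of finite etale covers
from X to U is fully faithful. -/
theorem result {X : Scheme.{u}} (U : X.Opens)
    (hU : Dense (U : Set X)) [QuasiCompact U.ι] (hcl : ∀ x : X, x ∉ U → IsClosed ({x} : Set X))
    (hsh : ∀ x : X, x ∉ U → ∀ (R : Type u) [CommRing R] [IsLocalRing R] [Algebra (X.presheaf.stalk x) R]
      [IsLocalHom (algebraMap (X.presheaf.stalk x) R)] [Hensel.IsStrictHenselization (X.presheaf.stalk x) R],
      ConnectedSpace (FEt.puncturedSpec R : Scheme.{u})) :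
    (FEt.restrict U.ι).Full ∧ (FEt.restrict U.ι).Faithful := by
  have hgen : ∀ {P : Scheme.{u}} (a : P ⟶ X) [IsFinite a] [Etale a] (p : P), ∃ b : P, b ⤳ p ∧ a b ∈ U := by
    intro P a _ _ p
    by_cases hp : a p ∈ U
    · exact ⟨p, specializes_rfl, hp⟩
    · exact (gen_connected U a hcl hsh p hp).1
  refine ⟨⟨fun {Y Z} φ => ?_⟩, ⟨fun {Y Z} f f' h => ?_⟩⟩
  · haveI : IsFinite Y.hom := Y.prop.1
    haveI : Etale Y.hom := Y.prop.2
    haveI : IsFinite Z.hom := Z.prop.1
    haveI : Etale Z.hom := Z.prop.2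
    let pY := pullback.fst Y.hom Z.hom
    let pZ := pullback.snd Y.hom Z.hom
    haveI : IsFinite pY := MorphismProperty.pullback_fst _ _ ‹IsFinite Z.hom›
    haveI : Etale pY := MorphismProperty.pullback_fst _ _ ‹Etale Z.hom›
    let fY := pullback.fst Y.hom U.ι
    let p := pullback.fst (pY ≫ Y.hom) U.ι
    have hφ : φ.left ≫ pullback.snd Z.hom U.ι = pullback.snd Y.hom U.ι := MorphismProperty.Over.w φ
    let γ₁ : pullback Y.hom U.ι ⟶ pullback Y.hom Z.hom :=
      pullback.lift fY (φ.left ≫ pullback.fst Z.hom U.ι) (by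
        show fY ≫ Y.hom = (φ.left ≫ pullback.fst Z.hom U.ι) ≫ Z.hom
        rw [pullback.condition, Category.assoc, pullback.condition]
        exact (congrArg (· ≫ U.ι) hφ).symm.trans (Category.assoc _ _ _))
    have hγ₁ : γ₁ ≫ pY = fY := pullback.lift_fst _ _ _
    let q₀ : pullback (pY ≫ Y.hom) U.ι ⟶ pullback Y.hom U.ι :=
      pullback.lift (p ≫ pY) (pullback.snd _ _) (by rw [Category.assoc]; exact pullback.condition)
    have hq : IsPullback p q₀ pY fY := by
      refine IsPullback.of_bot ?_ (pullback.lift_fst _ _ _).symm (IsPullback.of_hasPullback Y.hom U.ι)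
      simpa [q₀] using IsPullback.of_hasPullback (pY ≫ Y.hom) U.ι
    haveI : IsFinite q₀ := MorphismProperty.of_isPullback hq ‹IsFinite pY›
    haveI : Etale q₀ := MorphismProperty.of_isPullback hq ‹Etale pY›
    let γ : pullback Y.hom U.ι ⟶ pullback (pY ≫ Y.hom) U.ι :=
      pullback.lift γ₁ (pullback.snd Y.hom U.ι) (by rw [← Category.assoc, hγ₁]; exact pullback.condition)
    have hγ : γ ≫ q₀ = 𝟙 _ := pullback.hom_ext
      (by simp only [γ, q₀, p, Category.assoc, pullback.lift_fst, pullback.lift_fst_assoc, hγ₁, Category.id_comp]; rfl)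
      (by simp [γ, q₀])
    haveI : IsClosedImmersion (γ ≫ q₀) := by rw [hγ]; infer_instance
    haveI : IsClosedImmersion γ := IsClosedImmersion.of_comp γ q₀
    haveI : Etale (γ ≫ q₀) := by rw [hγ]; infer_instance
    haveI : Etale γ := Etale.of_comp γ q₀
    haveI : IsOpenImmersion γ := IsOpenImmersion.of_flat_of_mono γ
    have hγp : γ ≫ p = γ₁ := pullback.lift_fst _ _ _
    haveI : IsOpenImmersion γ₁ := by rw [← hγp]; infer_instance
    have hC : IsOpen (((pY ≫ Y.hom) ⁻¹' (U : Set X)) \ Set.range γ₁) := by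
      have e : ((pY ≫ Y.hom) ⁻¹' (U : Set X)) \ Set.range γ₁ = p '' (Set.range γ)ᶜ := by
        have hr : Set.range p = (pY ≫ Y.hom) ⁻¹' (U : Set X) := by
          show Set.range (pullback.fst (pY ≫ Y.hom) U.ι) = _
          rw [Scheme.Pullback.range_fst, Scheme.Opens.range_ι]
        have hr' : Set.range γ₁ = p '' Set.range γ := by
          rw [← hγp, ← Set.range_comp]
          rfl
        rw [← hr, hr', Set.image_compl_eq_range_diff_image p.isOpenEmbedding.injective]
      rw [e]
      exact p.isOpenEmbedding.isOpenMap _ γ.isClosedEmbedding.isClosed_range.isOpen_compl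
    obtain ⟨V, hV, hγV⟩ := exists_iso_of_graph U hcl hsh Y.hom pY γ₁ hγ₁ hC
    refine ⟨MorphismProperty.Over.homMk (inv (V.ι ≫ pY) ≫ V.ι ≫ pZ) ?_, ?_⟩
    · show (inv (V.ι ≫ pY) ≫ V.ι ≫ pZ) ≫ Z.hom = Y.hom
      rw [Category.assoc, Category.assoc, IsIso.inv_comp_eq, Category.assoc, ← pullback.condition]
    · apply MorphismProperty.Over.Hom.ext
      apply pullback.hom_ext
      · rw [restrict_map_fst]
        show fY ≫ inv (V.ι ≫ pY) ≫ V.ι ≫ pZ = _
        let l := IsOpenImmersion.lift V.ι γ₁ (by rw [Scheme.Opens.range_ι]; exact hγV)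
        have hl : l ≫ V.ι = γ₁ := IsOpenImmersion.lift_fac _ _ _
        have h3 : fY ≫ inv (V.ι ≫ pY) = l := by
          rw [IsIso.comp_inv_eq, ← Category.assoc, hl, hγ₁]
        rw [← Category.assoc, h3, ← Category.assoc, hl]
        exact pullback.lift_snd _ _ _
      · rw [hφ]
        exact MorphismProperty.Over.w _
  · apply MorphismProperty.Over.Hom.ext
    haveI : IsFinite Y.hom := Y.prop.1
    haveI : Etale Y.hom := Y.prop.2
    haveI : IsFinite Z.hom := Z.prop.1
    haveI : Etale Z.hom := Z.prop.2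
    let d : Y.left ⟶ pullback Z.hom Z.hom := pullback.lift f.left f'.left
      ((MorphismProperty.Over.w f).trans (MorphismProperty.Over.w f').symm)
    let e := pullback.fst d (pullback.diagonal Z.hom)
    haveI : IsClosedImmersion e := MorphismProperty.pullback_fst _ _ inferInstance
    haveI : IsOpenImmersion e := MorphismProperty.pullback_fst _ _ inferInstance
    have hU' : (Y.hom ⁻¹' (U : Set X)) ⊆ Set.range e := by
      intro y hy
      obtain ⟨y', hy1, -⟩ := Scheme.Pullback.exists_preimage_pullback (f := Y.hom) (g := U.ι) y ⟨_, hy⟩ rfl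
      have h1 : pullback.fst Y.hom U.ι ≫ f.left = pullback.fst Y.hom U.ι ≫ f'.left := by
        rw [← restrict_map_fst U.ι f, ← restrict_map_fst U.ι f', h]
      have h2 : pullback.fst Y.hom U.ι ≫ d = (pullback.fst Y.hom U.ι ≫ f.left) ≫ pullback.diagonal Z.hom := by
        apply pullback.hom_ext
        · simp [d]
        · simp [d, h1]
      refine ⟨pullback.lift _ _ h2 y', ?_⟩
      rw [← Scheme.Hom.comp_apply, pullback.lift_fst]
      exact hy1
    haveI : Surjective e := ⟨fun y => by
      obtain ⟨b, hby, hbU⟩ := hgen Y.hom y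
      exact hby.mem_closed e.isClosedEmbedding.isClosed_range (hU' hbU)⟩
    haveI : Epi e.base := (TopCat.epi_iff_surjective _).2 (fun y => e.surjective y)
    haveI : IsIso e := IsOpenImmersion.isIso e
    have hd : d = (inv e ≫ pullback.snd d (pullback.diagonal Z.hom)) ≫ pullback.diagonal Z.hom := by
      rw [Category.assoc, ← pullback.condition, IsIso.inv_hom_id_assoc]
    calc f.left = d ≫ pullback.fst _ _ := (pullback.lift_fst _ _ _).symm
      _ = d ≫ pullback.snd _ _ := by rw [hd]; simp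
      _ = f'.left := pullback.lift_snd _ _ _

end Groth.Agent.S1145
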