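import Groth.Statements.S11450
import Groth.Agent.CAlgH3.TorBridge
import Mathlib.RingTheory.Flat.Tensor
import Mathlib.RingTheory.Ideal.AssociatedPrime.Finiteness

set_option autoImplicit false
universe u
open CategoryTheory
open DefT

namespace Groth.Agent.S11450

open TensorProduct

/-- A module M over a Noetherian commutative ring A is flat if and only if Tor_1^A(M, A/p) vanishes for
every prime ideal p of A. -/
theorem result (A : Type u) [CommRing A]
    [IsNoetherianRing A] (M : Type u) [AddCommGroup M] [Module A M] :
    Module.Flat A M ↔ ∀ p : Ideal A, p.IsPrime →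
      Limits.IsZero (((CategoryTheory.Tor (ModuleCat.{u} A) 1).obj (ModuleCat.of A M)).obj (ModuleCat.of A (A ⧸ p))) := by
  classical
  letI : AddCommGroup (M →₀ A) := Finsupp.instAddCommGroup
  let q : (M →₀ A) →ₗ[A] M := Finsupp.linearCombination A id
  have hq : Function.Surjective q := fun m => ⟨Finsupp.single m 1, by simp [q]⟩
  let j : ↥(LinearMap.ker q) →ₗ[A] (M →₀ A) := (LinearMap.ker q).subtype
  have hjq : Function.Exact j q := LinearMap.exact_subtype_ker_map q
  constructor
  · intro hflat p hp
    rw [Groth.Agent.CAlgH3.isZero_tor_one_iff]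
    intro A' B' _ _ _ _ i π hiπ hπ hi
    have hpA : Function.Exact (Submodule.subtype p) (Submodule.mkQ p) := LinearMap.exact_subtype_mkQ p
    exact Groth.Agent.CAlgH3.rTensor_injective_of_lTensor_injective hiπ hπ hpA (Submodule.mkQ_surjective p)
      (Module.Flat.rTensor_preserves_injective_linearMap i hi) (Module.Flat.lTensor_preserves_injective_linearMap _ (Submodule.injective_subtype p))
  · intro h
    have hall : ∀ (N : Type u) [AddCommGroup N] [Module A N] [Module.Finite A N], Function.Injective (j.rTensor N) := by
      intro N _ _ hN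
      refine IsNoetherianRing.induction_on_isQuotientEquivQuotientPrime A (M := N) hN
        (motive := fun N _ _ _ => Function.Injective (j.rTensor N)) ?_ ?_ ?_
      · intro N _ _ _ _
        haveI : Subsingleton (LinearMap.ker q ⊗[A] N) := inferInstance
        exact Function.injective_of_subsingleton _
      · intro N _ _ _ p e
        have h1 : Function.Injective (j.rTensor (A ⧸ p.1)) :=
          (Groth.Agent.CAlgH3.isZero_tor_one_iff M (A ⧸ p.1)).1 (h p.1 p.2) (A := ↥(LinearMap.ker q)) (B := M →₀ A)
            j q hjq hq (Submodule.injective_subtype _)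
        intro a b hab
        apply (LinearEquiv.lTensor (LinearMap.ker q) e).injective
        apply h1
        show j.rTensor (A ⧸ p.1) (e.toLinearMap.lTensor _ a) = j.rTensor (A ⧸ p.1) (e.toLinearMap.lTensor _ b)
        rw [← LinearMap.comp_apply, ← LinearMap.comp_apply, LinearMap.rTensor_comp_lTensor, ← LinearMap.lTensor_comp_rTensor,
          LinearMap.comp_apply, LinearMap.comp_apply, hab]
      · intro N₁ _ _ _ N₂ _ _ _ N₃ _ _ _ f g hf hg hfg h₁ h₃
        rw [injective_iff_map_eq_zero]
        intro z hz
        have h4 : g.lTensor (LinearMap.ker q) z = 0 := by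
          apply h₃
          rw [map_zero, ← LinearMap.comp_apply, LinearMap.rTensor_comp_lTensor, ← LinearMap.lTensor_comp_rTensor,
            LinearMap.comp_apply, hz, map_zero]
        obtain ⟨w, rfl⟩ := (lTensor_exact (LinearMap.ker q) hfg hg z).1 h4
        rw [← LinearMap.comp_apply, LinearMap.rTensor_comp_lTensor, ← LinearMap.lTensor_comp_rTensor,
          LinearMap.comp_apply] at hz
        have hF := Module.Flat.lTensor_preserves_injective_linearMap (M := (M →₀ A)) f hf
        rw [← map_zero (f.lTensor (M →₀ A))] at hz
        have h5 := hF hz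
        rw [← map_zero (j.rTensor N₁)] at h5
        rw [h₁ h5, map_zero]
    rw [Module.Flat.iff_rTensor_injective']
    intro I
    refine Groth.Agent.CAlgH3.rTensor_injective_of_lTensor_injective (LinearMap.exact_subtype_mkQ I) (Submodule.mkQ_surjective I)
      hjq hq (Module.Flat.rTensor_preserves_injective_linearMap _ (Submodule.injective_subtype I)) ?_
    exact (LinearMap.lTensor_inj_iff_rTensor_inj (A ⧸ I) j).2 (hall (A ⧸ I))

end Groth.Agent.S11450
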