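import Groth.Statements.S11453
import Groth.Agent.SplitPoint15.Basic
-- import your own Groth.Agent.* helpers here

set_option autoImplicit false
universe u
open scoped Polynomial
open DefT

namespace Groth.Agent.S11453

open Groth.Agent.SplitPoint15

/-- Let k be an algebraically closed field, A = k[x, y], and 𝔞 ⊆ A an ideal of finite colength n ≥ 2
with radical (x, y), i.e. Spec(A/𝔞) is supported at the origin. Then there is an ideal 𝔞' ⊆ A[t]
defining a family finite and flat over k[t] (A[t]/𝔞' is a finitely generated flat k[t]-module, hence
locally free of rank n) whose fibre at t = 0 is 𝔞 and whose fibre ideal 𝔞_c at every c ≠ 0 is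
contained in the maximal ideal of the origin and in the maximal ideal of some other k-point p ≠ (0,
0); so for t ≠ 0 the fibre is supported at two or more distinct points. (The published statement
allows colength 1 and puts the second point at (0, t); for colength 1 every finite flat family has
one-point fibres, and the family constructed in the published proof has its second piece at the
roots of f(x, t) on the line y = t after a linear change of the coordinates x, y, which need not lie
at x = 0; this row states what that construction yields. The published statement asks the family to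
be flat over k[t]; this row asks it to be finite and flat, as the constructed family is — f is monic
in x and (y − t)·y^N lies in the ideal for some N — and as the published proof's count of the
constant fibre length n presupposes; with flatness alone the fibre conditions here could be met by
adjoining a component that never meets t = 0.) -/
theorem result (k : Type u) [Field k] [IsAlgClosed k]
    (𝔞 : Ideal (MvPolynomial (Fin 2) k)) [Module.Finite k (MvPolynomial (Fin 2) k ⧸ 𝔞)]
    (hn : 2 ≤ Module.finrank k (MvPolynomial (Fin 2) k ⧸ 𝔞))
    (hsupp : 𝔞.radical = Ideal.span {MvPolynomial.X 0, MvPolynomial.X 1}) :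
    ∃ 𝔞' : Ideal (MvPolynomial (Fin 2) k)[X],
      RingHom.Flat (R := k[X]) (S := (MvPolynomial (Fin 2) k)[X] ⧸ 𝔞')
        ((Ideal.Quotient.mk 𝔞').comp (Polynomial.mapRingHom (algebraMap k (MvPolynomial (Fin 2) k)))) ∧
      RingHom.Finite (A := k[X]) (B := (MvPolynomial (Fin 2) k)[X] ⧸ 𝔞')
        ((Ideal.Quotient.mk 𝔞').comp (Polynomial.mapRingHom (algebraMap k (MvPolynomial (Fin 2) k)))) ∧
      Ideal.map (Polynomial.evalRingHom (0 : MvPolynomial (Fin 2) k)) 𝔞' = 𝔞 ∧
      ∀ c : k, c ≠ 0 →
        Ideal.map (Polynomial.evalRingHom (MvPolynomial.C c)) 𝔞' ≤ Ideal.span {MvPolynomial.X 0, MvPolynomial.X 1} ∧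
        ∃ p : Fin 2 → k, p ≠ 0 ∧
          Ideal.map (Polynomial.evalRingHom (MvPolynomial.C c)) 𝔞' ≤
            Ideal.span (Set.range (fun i : Fin 2 => MvPolynomial.X i - MvPolynomial.C (p i))) := by
  classical
  have hne : 𝔞 ≠ ⊤ := by
    rintro rfl
    haveI : Subsingleton (MvPolynomial (Fin 2) k ⧸ (⊤ : Ideal (MvPolynomial (Fin 2) k))) :=
      Ideal.Quotient.subsingleton_iff.2 rfl
    rw [Module.finrank_zero_of_subsingleton] at hn
    omega
  have hX : ∀ l : Fin 2, ∃ N, (MvPolynomial.X l : MvPolynomial (Fin 2) k) ^ N ∈ 𝔞 := fun l => by
    show MvPolynomial.X l ∈ 𝔞.radical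
    rw [hsupp]
    fin_cases l
    · exact Ideal.subset_span (Or.inl rfl)
    · exact Ideal.subset_span (Or.inr rfl)
  choose N hN using hX
  have hN' : ∀ l, (MvPolynomial.X l : MvPolynomial (Fin 2) k) ^ (N 0 + N 1) ∈ 𝔞 := fun l => by
    refine 𝔞.pow_mem_of_pow_mem (hN l) ?_
    fin_cases l <;> simp
  by_cases h0 : MvPolynomial.X 0 ∈ 𝔞
  · refine exists_family 0 1 (by decide) 𝔞 hne _ hN' fun h1 => ?_
    have hsurj : Function.Surjective
        (Algebra.linearMap k (MvPolynomial (Fin 2) k ⧸ 𝔞)) := by
      intro z
      obtain ⟨g, rfl⟩ := Ideal.Quotient.mk_surjective z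
      induction g using MvPolynomial.induction_on with
      | C a => exact ⟨a, rfl⟩
      | add a b ha hb =>
        obtain ⟨x, hx⟩ := ha
        obtain ⟨y, hy⟩ := hb
        exact ⟨x + y, by rw [map_add, hx, hy, map_add]⟩
      | mul_X a l ha =>
        refine ⟨0, ?_⟩
        rw [map_zero]
        symm
        rw [Ideal.Quotient.eq_zero_iff_mem]
        refine 𝔞.mul_mem_left a ?_
        fin_cases l
        · exact h0
        · exact h1
    have := LinearMap.finrank_le_finrank_of_surjective hsurj
    rw [Module.finrank_self] at this
    omega
  · exact exists_family 1 0 (by decide) 𝔞 hne _ hN' h0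

end Groth.Agent.S11453
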