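import Groth.Statements.S11454
import Groth.Agent.CAlgH3.ArtinRegular
import Mathlib.Tactic

set_option autoImplicit false
universe u
open DefT

namespace Groth.Agent.S11454

/-- Let C' be a local Artin ring, J ⊊ C' a proper ideal annihilated by the maximal ideal, C = C'/J, A' a
flat C'-algebra whose reduction modulo the maximal ideal of C' is a Cohen–Macaulay local ring, and A
= A'/JA'. If a'_1, …, a'_r ∈ A' have images in A forming a regular sequence with A/(a_1, …, a_r)
flat over C, then a'_1, …, a'_r is a regular sequence on A' and A'/(a'_1, …, a'_r) is flat over C'.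
(Regular sequences stand in for the exactness of the Koszul complexes in the published statement;
over a Noetherian local ring with the elements in the maximal ideal the two are equivalent.) -/
theorem result (C' : Type u) [CommRing C'] [IsLocalRing C'] [IsArtinianRing C'] (J : Ideal C')
    (hJ : IsLocalRing.maximalIdeal C' * J = ⊥) (hJne : J ≠ ⊤) (A' : Type u) [CommRing A'] [Algebra C' A'] [Module.Flat C' A']
    [LocCoh.IsCohenMacaulayLocalRing (A' ⧸ (IsLocalRing.maximalIdeal C').map (algebraMap C' A'))]
    (r : ℕ) (a' : Fin r → A')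
    (hreg : RingTheory.Sequence.IsRegular (A' ⧸ J.map (algebraMap C' A'))
      (List.ofFn (fun i => Ideal.Quotient.mk (J.map (algebraMap C' A')) (a' i))))
    [Module.Flat (C' ⧸ J) ((A' ⧸ J.map (algebraMap C' A')) ⧸
      Ideal.span (Set.range (fun i => Ideal.Quotient.mk (J.map (algebraMap C' A')) (a' i))))] :
    RingTheory.Sequence.IsRegular A' (List.ofFn a') ∧ Module.Flat C' (A' ⧸ Ideal.span (Set.range a')) := by
  classical
  have hw := hreg.toIsWeaklyRegular
  set JA := J.map (algebraMap C' A') with hJA
  have hmap : List.ofFn (fun i => Ideal.Quotient.mk JA (a' i)) = (List.ofFn a').map (algebraMap A' (A' ⧸ JA)) := by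
    rw [List.map_ofFn]; rfl
  rw [hmap, RingTheory.Sequence.isWeaklyRegular_map_algebraMap_iff] at hw
  have e : (J.map (algebraMap C' A') • ⊤ : Submodule A' A') = JA := by rw [smul_eq_mul, Ideal.mul_top]
  have hA : RingTheory.Sequence.IsWeaklyRegular A' (List.ofFn a') :=
    (Groth.Agent.CAlgH3.weaklyRegular_iff_mod hJne (List.ofFn a') A').2
      ((LinearEquiv.isWeaklyRegular_congr (Submodule.quotEquivOfEq _ _ e) _).2 hw)
  have hspan : (Ideal.ofList (List.ofFn a') • ⊤ : Submodule A' A') = Ideal.span (Set.range a') := by
    rw [smul_eq_mul, Ideal.mul_top, Ideal.ofList]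
    congr 1
    ext y
    simp [List.mem_ofFn]
  have hne : Ideal.span (Set.range a') ≠ ⊤ := by
    intro h
    refine hreg.top_ne_smul ?_
    rw [smul_eq_mul, Ideal.mul_top, hmap]
    have h1 := (Groth.Agent.CAlgH3.span_eq_top_iff_map (S := A') hJne _).1 h
    rw [Ideal.map_span, ← Set.range_comp] at h1
    rw [← hmap, Ideal.ofList, eq_comm]
    refine (congrArg Ideal.span ?_).trans h1
    ext y
    simp [List.mem_ofFn]
    rfl
  refine ⟨⟨hA, by rw [hspan]; exact fun h => hne h.symm⟩, ?_⟩
  have h := Groth.Agent.CAlgH3.flat_quotient_of_weaklyRegular (A := C') (List.ofFn a') A' hA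
  exact Module.Flat.of_linearEquiv ((Submodule.quotEquivOfEq _ _ hspan).restrictScalars C').symm

end Groth.Agent.S11454
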