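import Groth.Statements.S11455
import Groth.Agent.DeformSqZero.Torsor

set_option autoImplicit false
universe u
open DefT

namespace Groth.Agent.S11455

/-- Let C' be a local Artin ring, J ⊊ C' a proper ideal annihilated by the maximal ideal, C = C'/J, A' a
flat C'-algebra whose reduction modulo the maximal ideal of C' is a Cohen–Macaulay local ring, A =
A'/JA', and a_1, …, a_r a regular sequence on A with A/(a_1, …, a_r) flat over C. Then every ideal
I' of A' with A'/I' flat over C' and with image (a_1, …, a_r) in A is generated by some lifts a'_1,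
…, a'_r of the a_i. -/
theorem result (C' : Type u) [CommRing C'] [IsLocalRing C'] [IsArtinianRing C'] (J : Ideal C')
    (hJ : IsLocalRing.maximalIdeal C' * J = ⊥) (hJne : J ≠ ⊤) (A' : Type u) [CommRing A'] [Algebra C' A'] [Module.Flat C' A']
    [LocCoh.IsCohenMacaulayLocalRing (A' ⧸ (IsLocalRing.maximalIdeal C').map (algebraMap C' A'))]
    (r : ℕ) (a : Fin r → A' ⧸ J.map (algebraMap C' A'))
    (hreg : RingTheory.Sequence.IsRegular (A' ⧸ J.map (algebraMap C' A')) (List.ofFn a))
    [Module.Flat (C' ⧸ J) ((A' ⧸ J.map (algebraMap C' A')) ⧸ Ideal.span (Set.range a))]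
    (I' : Ideal A') [Module.Flat C' (A' ⧸ I')]
    (hI' : I'.map (Ideal.Quotient.mk (J.map (algebraMap C' A'))) = Ideal.span (Set.range a)) :
    ∃ a' : Fin r → A', (∀ i, Ideal.Quotient.mk (J.map (algebraMap C' A')) (a' i) = a i) ∧
      I' = Ideal.span (Set.range a') := by
  classical
  let q := Ideal.Quotient.mk (J.map (algebraMap C' A'))
  have hJJ : J * J = ⊥ := le_bot_iff.1 ((Ideal.mul_mono_left (IsLocalRing.le_maximalIdeal hJne)).trans hJ.le)
  choose a' ha' hq using fun i => (Ideal.mem_map_iff_of_surjective q Ideal.Quotient.mk_surjective).1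
    (hI' ▸ Ideal.subset_span ⟨i, rfl⟩ : a i ∈ I'.map q)
  refine ⟨a', hq, ?_⟩
  set S := Ideal.span (Set.range a')
  have hS : S ≤ I' := Ideal.span_le.2 (Set.range_subset_iff.2 ha')
  have hmapS : S.map q = I'.map q := by
    rw [Ideal.map_span, ← Set.range_comp, hI']
    congr 1
    exact congrArg Set.range (funext hq)
  have hinf : ∀ y ∈ I', y ∈ J.map (algebraMap C' A') → y ∈ I' * J.map (algebraMap C' A') := by
    intro y hy hyJ
    obtain ⟨z, rfl⟩ := Groth.Agent.DeformSqZero.range_mulMap J A' y hyJ
    have h1 : LinearMap.rTensor ↥J (Ideal.Quotient.mkₐ C' I').toLinearMap z = 0 := by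
      apply Module.Flat.lTensor_preserves_injective_linearMap (M := A' ⧸ I') _ (Submodule.injective_subtype J)
      apply (TensorProduct.rid C' (A' ⧸ I')).injective
      rw [Groth.Agent.DeformSqZero.mk_mulMap_eq, map_zero, map_zero, Ideal.Quotient.eq_zero_iff_mem.2 hy]
    have hexa : Function.Exact ((I'.restrictScalars C').subtype) (Ideal.Quotient.mkₐ C' I').toLinearMap := fun x => by
      simp [Ideal.Quotient.eq_zero_iff_mem]
    obtain ⟨w, rfl⟩ := (rTensor_exact ↥J hexa (Ideal.Quotient.mkₐ_surjective C' I') z).1 h1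
    clear hy hyJ h1
    induction w using TensorProduct.induction_on with
    | zero => simp
    | add u v hu hv => rw [map_add, map_add]; exact add_mem hu hv
    | tmul u j =>
      rw [LinearMap.rTensor_tmul, Groth.Agent.DeformSqZero.mulMap_tmul]
      exact Ideal.mul_mem_mul_rev (show (u : A') ∈ I' from u.2) (Ideal.mem_map_of_mem _ j.2)
  have hle : I' ≤ S ⊔ I' * J.map (algebraMap C' A') := by
    intro y hy
    obtain ⟨s, hs, e⟩ := (Ideal.mem_map_iff_of_surjective q Ideal.Quotient.mk_surjective).1
      (hmapS ▸ Ideal.mem_map_of_mem q hy : q y ∈ S.map q)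
    rw [show y = s + (y - s) by ring]
    exact Submodule.add_mem_sup hs (hinf _ (sub_mem hy (hS hs)) (Ideal.Quotient.eq.1 e.symm))
  refine le_antisymm ?_ hS
  refine hle.trans (sup_le le_rfl ?_)
  refine (Ideal.mul_mono_left hle).trans ?_
  rw [Ideal.sup_mul, mul_assoc, ← Ideal.map_mul, hJJ, Ideal.map_bot, Ideal.mul_bot, sup_bot_eq]
  exact Ideal.mul_le_left

end Groth.Agent.S11455
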