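import Groth.Statements.S11456
import Groth.Agent.DeformSqZero.Torsor
import Groth.Agent.CAlgH3.ArtinRegular
import Mathlib.RingTheory.HopkinsLevitzki
import Mathlib.Tactic

set_option autoImplicit false
universe u
open DefT

namespace Groth.Agent.S11456

/-- Let C be a local Artin ring with maximal ideal m, A a flat C-algebra such that A₀ = A/mA is a
Cohen–Macaulay local ring, and I ⊆ A an ideal with A/I flat over C whose image in A₀ is generated by
a regular sequence b_1, …, b_r on A₀. Then I is generated by r elements a_1, …, a_r forming a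
regular sequence on A (so the Koszul complex on the a_i resolves A/I). -/
theorem result (C : Type u) [CommRing C]
    [IsLocalRing C] [IsArtinianRing C] (A : Type u) [CommRing A] [Algebra C A] [Module.Flat C A]
    [LocCoh.IsCohenMacaulayLocalRing (A ⧸ (IsLocalRing.maximalIdeal C).map (algebraMap C A))]
    (I : Ideal A) [Module.Flat C (A ⧸ I)] (r : ℕ)
    (b : Fin r → A ⧸ (IsLocalRing.maximalIdeal C).map (algebraMap C A))
    (hb : RingTheory.Sequence.IsRegular (A ⧸ (IsLocalRing.maximalIdeal C).map (algebraMap C A)) (List.ofFn b))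
    (hI : I.map (Ideal.Quotient.mk ((IsLocalRing.maximalIdeal C).map (algebraMap C A))) = Ideal.span (Set.range b)) :
    ∃ a : Fin r → A, RingTheory.Sequence.IsRegular A (List.ofFn a) ∧ I = Ideal.span (Set.range a) := by
  classical
  have hne : (IsLocalRing.maximalIdeal C) ≠ ⊤ := (IsLocalRing.maximalIdeal.isMaximal C).ne_top
  let q := Ideal.Quotient.mk ((IsLocalRing.maximalIdeal C).map (algebraMap C A))
  choose a ha hq using fun i => (Ideal.mem_map_iff_of_surjective q Ideal.Quotient.mk_surjective).1
    (show b i ∈ I.map q by rw [hI]; exact Ideal.subset_span ⟨i, rfl⟩)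
  set S := Ideal.span (Set.range a)
  have hS : S ≤ I := Ideal.span_le.2 (Set.range_subset_iff.2 ha)
  have hmapS : S.map q = I.map q := by
    rw [Ideal.map_span, ← Set.range_comp, hI]
    congr 1
    exact congrArg Set.range (funext hq)
  have hinf : ∀ y ∈ I, y ∈ (IsLocalRing.maximalIdeal C).map (algebraMap C A) → y ∈ I * (IsLocalRing.maximalIdeal C).map (algebraMap C A) := by
    intro y hy hyJ
    obtain ⟨z, rfl⟩ := Groth.Agent.DeformSqZero.range_mulMap (IsLocalRing.maximalIdeal C) A y hyJ
    have h1 : LinearMap.rTensor ↥(IsLocalRing.maximalIdeal C) (Ideal.Quotient.mkₐ C I).toLinearMap z = 0 := by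
      apply Module.Flat.lTensor_preserves_injective_linearMap (M := A ⧸ I) _ (Submodule.injective_subtype (IsLocalRing.maximalIdeal C))
      apply (TensorProduct.rid C (A ⧸ I)).injective
      rw [Groth.Agent.DeformSqZero.mk_mulMap_eq, map_zero, map_zero, Ideal.Quotient.eq_zero_iff_mem.2 hy]
    have hexa : Function.Exact ((I.restrictScalars C).subtype) (Ideal.Quotient.mkₐ C I).toLinearMap := fun x => by
      simp [Ideal.Quotient.eq_zero_iff_mem]
    obtain ⟨w, rfl⟩ := (rTensor_exact ↥(IsLocalRing.maximalIdeal C) hexa (Ideal.Quotient.mkₐ_surjective C I) z).1 h1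
    clear hy hyJ h1
    induction w using TensorProduct.induction_on with
    | zero => simp
    | add u v hu hv => rw [map_add, map_add]; exact add_mem hu hv
    | tmul u j =>
      rw [LinearMap.rTensor_tmul, Groth.Agent.DeformSqZero.mulMap_tmul]
      exact Ideal.mul_mem_mul_rev (show (u : A) ∈ I from u.2) (Ideal.mem_map_of_mem _ j.2)
  have hle : I ≤ S ⊔ I * (IsLocalRing.maximalIdeal C).map (algebraMap C A) := by
    intro y hy
    obtain ⟨s, hs, e⟩ := (Ideal.mem_map_iff_of_surjective q Ideal.Quotient.mk_surjective).1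
      (hmapS ▸ Ideal.mem_map_of_mem q hy : q y ∈ S.map q)
    rw [show y = s + (y - s) by ring]
    exact Submodule.add_mem_sup hs (hinf _ (sub_mem hy (hS hs)) (Ideal.Quotient.eq.1 e.symm))
  have hiter : ∀ n, I ≤ S ⊔ I * ((IsLocalRing.maximalIdeal C).map (algebraMap C A)) ^ n := by
    intro n
    induction n with
    | zero => simp
    | succ n ih =>
      refine ih.trans (sup_le le_sup_left ?_)
      refine (Ideal.mul_mono_left hle).trans ?_
      rw [Ideal.sup_mul, mul_assoc, ← pow_succ']
      exact sup_le (Ideal.mul_le_left.trans le_sup_left) le_sup_right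
  obtain ⟨n, hn⟩ := IsArtinianRing.isNilpotent_jacobson_bot (R := C)
  rw [IsLocalRing.jacobson_eq_maximalIdeal ⊥ bot_ne_top] at hn
  have hIS : I = S := le_antisymm ((hiter n).trans (by
    rw [← Ideal.map_pow, hn, Ideal.zero_eq_bot, Ideal.map_bot, Ideal.mul_bot, sup_bot_eq])) hS
  refine ⟨a, ?_, hIS⟩
  have hw := hb.toIsWeaklyRegular
  have hmap : List.ofFn b = (List.ofFn a).map (algebraMap A (A ⧸ (IsLocalRing.maximalIdeal C).map (algebraMap C A))) := by
    rw [List.map_ofFn]; exact congrArg List.ofFn (funext fun i => (hq i).symm)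
  rw [hmap, RingTheory.Sequence.isWeaklyRegular_map_algebraMap_iff] at hw
  have e : ((IsLocalRing.maximalIdeal C).map (algebraMap C A) • ⊤ : Submodule A A) = (IsLocalRing.maximalIdeal C).map (algebraMap C A) := by rw [smul_eq_mul, Ideal.mul_top]
  refine ⟨(Groth.Agent.CAlgH3.weaklyRegular_iff_mod hne (List.ofFn a) A).2
    ((LinearEquiv.isWeaklyRegular_congr (Submodule.quotEquivOfEq _ _ e) _).2 hw), ?_⟩
  have hspan : ∀ {R : Type u} [CommRing R] (c : Fin r → R), (Ideal.ofList (List.ofFn c) • ⊤ : Submodule R R) = Ideal.span (Set.range c) := by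
    intro R _ c
    rw [smul_eq_mul, Ideal.mul_top, Ideal.ofList]
    congr 1
    ext y
    simp [List.mem_ofFn]
  rw [hspan]
  intro h
  refine hb.top_ne_smul ?_
  rw [hspan, ← hI, hIS]
  exact ((congrArg (Ideal.map q) h.symm).trans (Ideal.map_top q)).symm

end Groth.Agent.S11456
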