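import Groth.Statements.S1146
import Groth.Agent.AlgSpLib.FibreDimChart
import Groth.Agent.AlgSpLib.Diag

set_option autoImplicit false
open CategoryTheory CategoryTheory.Limits AlgebraicGeometry Opposite
universe u
open Desc

set_option backward.isDefEq.respectTransparency.types false
set_option backward.isDefEq.respectTransparency false

namespace Groth.Agent.S1146


/-- Let f : U ⟶ V be an etale morphism of schemes and u a point of U. Then the local dimension of U at u
(the infimum of the Krull dimensions of open neighbourhoods) equals the local dimension of V at
f(u). -/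
theorem result {U V : Scheme.{u}} (f : U ⟶ V) [Etale f] (u : U) :
    FlatMor.localDim U u = FlatMor.localDim V (f.base u) := by
  have hgen : GeneralizingMap f := Flat.generalizingMap f
  refine AlgSpLib.localDim_eq_of_map f.continuous f.isOpenMap hgen (fun a a' h e => ?_) u
  haveI := AlgSpLib.locallyQuasiFinite_of_etale f
  haveI : DiscreteTopology (f ⁻¹' {f a'} : Set U) := (f.isDiscrete_preimage_singleton (f a')).to_subtype
  have h' : (⟨a, e⟩ : (f ⁻¹' {f a'} : Set U)) ⤳ ⟨a', rfl⟩ := (subtype_specializes_iff _ _).2 h
  exact congrArg Subtype.val h'.eq

end Groth.Agent.S1146
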