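import Groth.Statements.S11461
import Groth.Agent.CAlgH3.ProjDim
import Mathlib.RingTheory.Ideal.AssociatedPrime.Finiteness
import Mathlib.RingTheory.Nakayama
import Mathlib.RingTheory.Finiteness.Nakayama
import Mathlib.Tactic

set_option autoImplicit false
universe u
open CategoryTheory
open DefT

namespace Groth.Agent.S11461

/-- Let B be a Noetherian ring and F an additive, B-linear endofunctor of B-modules which preserves
finite generation and is semi-exact on short exact sequences of finitely generated modules (the
image sequence is exact in the middle). If F kills B/m for every maximal ideal m, then F kills every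
finitely generated B-module. (The published statement assumes F only additive; this row assumes F
B-linear, and takes the functor on all B-modules with the hypotheses and the conclusion on the
finitely generated ones.) -/
theorem result (B : Type u) [CommRing B]
    [IsNoetherianRing B] (F : ModuleCat.{u} B ⥤ ModuleCat.{u} B) [F.Additive] [F.Linear B]
    (hfg : ∀ M : ModuleCat.{u} B, Module.Finite B M → Module.Finite B (F.obj M))
    (hex : ∀ S : ShortComplex (ModuleCat.{u} B), S.ShortExact → Module.Finite B S.X₂ → (S.map F).Exact)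
    (h0 : ∀ m : Ideal B, m.IsMaximal → Limits.IsZero (F.obj (ModuleCat.of B (B ⧸ m))))
    (M : ModuleCat.{u} B) (hM : Module.Finite B M) : Limits.IsZero (F.obj M) := by
  classical
  have hiso : ∀ {X Y : Type u} [AddCommGroup X] [AddCommGroup Y] [Module B X] [Module B Y], (X ≃ₗ[B] Y) →
      Limits.IsZero (F.obj (ModuleCat.of B Y)) → Limits.IsZero (F.obj (ModuleCat.of B X)) :=
    fun e hY => hY.of_iso (F.mapIso e.toModuleIso)
  have hext : ∀ {X Y Z : Type u} [AddCommGroup X] [AddCommGroup Y] [AddCommGroup Z] [Module B X] [Module B Y] [Module B Z]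
      [Module.Finite B Y] (f : X →ₗ[B] Y) (g : Y →ₗ[B] Z), Function.Injective f → Function.Surjective g → Function.Exact f g →
      Limits.IsZero (F.obj (ModuleCat.of B X)) → Limits.IsZero (F.obj (ModuleCat.of B Z)) →
      Limits.IsZero (F.obj (ModuleCat.of B Y)) := by
    intro X Y Z _ _ _ _ _ _ _ f g hf hg hfg hX hZ
    have hS := LocCoh.shortExact_of hf hg hfg
    exact (hex _ hS (show Module.Finite B Y from inferInstance)).isZero_of_both_zeros (hX.eq_of_src _ _) (hZ.eq_of_tgt _ _)
  have hsub : ∀ {X : Type u} [AddCommGroup X] [Module B X] [Subsingleton X], Limits.IsZero (F.obj (ModuleCat.of B X)) :=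
    fun {X} _ _ _ => Functor.map_isZero F (ModuleCat.isZero_of_subsingleton _)
  have key : ∀ I : Ideal B, Limits.IsZero (F.obj (ModuleCat.of B (B ⧸ I))) := by
    intro I
    induction I using WellFoundedGT.induction with
    | _ I ih =>
    by_cases htop : I = ⊤
    · haveI : Subsingleton (B ⧸ I) := Ideal.Quotient.subsingleton_iff.2 htop
      exact hsub
    by_cases hprime : I.IsPrime
    · haveI : Module.Finite B (F.obj (ModuleCat.of B (B ⧸ I))) := hfg _ (show Module.Finite B (B ⧸ I) from inferInstance)
      refine ModuleCat.isZero_iff_subsingleton.2 ((Module.annihilator_eq_top_iff (R := B)).1 ?_)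
      by_contra hann
      obtain ⟨m, hm, hle⟩ := Ideal.exists_le_maximal _ hann
      have hIann : I ≤ Module.annihilator B (F.obj (ModuleCat.of B (B ⧸ I))) := by
        intro a ha
        rw [Module.mem_annihilator]
        intro v
        have h1 : a • 𝟙 (ModuleCat.of B (B ⧸ I)) = 0 := by
          ext x
          show a • (Submodule.Quotient.mk 1 : B ⧸ I) = 0
          rw [← Submodule.Quotient.mk_smul, smul_eq_mul, mul_one, Submodule.Quotient.mk_eq_zero]
          exact ha
        have h2 := congrArg F.map h1
        rw [Functor.map_smul, F.map_id, Functor.map_zero] at h2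
        exact LinearMap.congr_fun (congrArg ModuleCat.Hom.hom h2) v
      obtain rfl | hlt := (hIann.trans hle).eq_or_lt
      · exact hann (Module.annihilator_eq_top_iff.2 (ModuleCat.isZero_iff_subsingleton.1 (h0 I hm)))
      obtain ⟨x, hxm, hxI⟩ := SetLike.exists_of_lt hlt
      let μ : (B ⧸ I) →ₗ[B] (B ⧸ I) := x • LinearMap.id
      have hμ : Function.Injective μ := by
        rw [injective_iff_map_eq_zero]
        intro z hz
        obtain ⟨y, rfl⟩ := Submodule.Quotient.mk_surjective _ z
        change x • (Submodule.Quotient.mk y : B ⧸ I) = 0 at hz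
        rw [← Submodule.Quotient.mk_smul, Submodule.Quotient.mk_eq_zero, smul_eq_mul] at hz
        exact (Submodule.Quotient.mk_eq_zero _).2 ((hprime.mem_or_mem hz).resolve_left hxI)
      let π : (B ⧸ I) →ₗ[B] B ⧸ (I ⊔ Ideal.span {x}) := Submodule.factor le_sup_left
      have hπ : Function.Surjective π := Submodule.factor_surjective le_sup_left
      have hex' : Function.Exact μ π := by
        intro z
        obtain ⟨y, rfl⟩ := Submodule.Quotient.mk_surjective _ z
        constructor
        · intro hz
          change (Submodule.Quotient.mk y : B ⧸ (I ⊔ Ideal.span {x})) = 0 at hz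
          obtain ⟨a, ha, b, hb, hab⟩ := Submodule.mem_sup.1 ((Submodule.Quotient.mk_eq_zero _).1 hz)
          obtain ⟨c, rfl⟩ := Ideal.mem_span_singleton'.1 hb
          refine ⟨Submodule.Quotient.mk c, ?_⟩
          change x • (Submodule.Quotient.mk c : B ⧸ I) = _
          rw [← Submodule.Quotient.mk_smul, Submodule.Quotient.eq, ← hab, smul_eq_mul,
            show x * c - (a + c * x) = -a by ring]
          exact neg_mem ha
        · rintro ⟨w, hw⟩
          rw [← hw]
          obtain ⟨c, rfl⟩ := Submodule.Quotient.mk_surjective _ w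
          change (Submodule.Quotient.mk (x • c) : B ⧸ (I ⊔ Ideal.span {x})) = 0
          exact (Submodule.Quotient.mk_eq_zero _).2 (Submodule.mem_sup_right (Ideal.mul_mem_right _ _ (Ideal.mem_span_singleton_self x)))
      have hS := LocCoh.shortExact_of hμ hπ hex'
      have hz' : Limits.IsZero (F.obj (ModuleCat.of B (B ⧸ (I ⊔ Ideal.span {x})))) :=
        ih _ (lt_of_le_of_ne le_sup_left fun e => hxI (e ▸ Submodule.mem_sup_right (Ideal.mem_span_singleton_self x)))
      have hE := hex _ hS (show Module.Finite B (B ⧸ I) from inferInstance)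
      have hsurj : Function.Surjective (F.map (ModuleCat.ofHom μ)).hom :=
        (ModuleCat.epi_iff_surjective _).1 (hE.epi_f (hz'.eq_of_tgt _ _))
      have hsm : ∀ v, (F.map (ModuleCat.ofHom μ)).hom v = x • v := fun v => by
        rw [show ModuleCat.ofHom μ = x • 𝟙 (ModuleCat.of B (B ⧸ I)) from rfl, Functor.map_smul, F.map_id]
        rfl
      obtain ⟨r, hr, hr'⟩ := Submodule.exists_sub_one_mem_and_smul_eq_zero_of_fg_of_le_smul (Ideal.span {x})
        (⊤ : Submodule B (F.obj (ModuleCat.of B (B ⧸ I)))) Module.Finite.fg_top fun v _ => by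
          obtain ⟨w, hw⟩ := hsurj v
          rw [hsm] at hw
          exact hw ▸ Submodule.smul_mem_smul (Ideal.mem_span_singleton_self x) Submodule.mem_top
      have hrm : r ∈ m := hle (Module.mem_annihilator.2 fun v => hr' v Submodule.mem_top)
      refine hm.ne_top ((Ideal.eq_top_iff_one _).2 ?_)
      have h6 := sub_mem hrm (((Ideal.span_singleton_le_iff_mem _).2 hxm) hr)
      rwa [sub_sub_cancel] at h6
    · rw [Ideal.isPrime_iff] at hprime
      push Not at hprime
      obtain ⟨a, b, hab, ha, hb⟩ := hprime htop
      let K : Ideal B := I.colon {a}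
      have hK : ∀ c, c ∈ K ↔ c * a ∈ I := fun c => Submodule.mem_colon_singleton
      let f₀ : (B ⧸ K) →ₗ[B] (B ⧸ I) := Submodule.mapQ _ _ (LinearMap.mulRight B a) fun c hc => (hK c).1 hc
      have hf₀ : Function.Injective f₀ := by
        rw [injective_iff_map_eq_zero]
        intro z hz
        obtain ⟨c, rfl⟩ := Submodule.Quotient.mk_surjective _ z
        exact (Submodule.Quotient.mk_eq_zero _).2 ((hK c).2 ((Submodule.Quotient.mk_eq_zero _).1 hz))
      let π : (B ⧸ I) →ₗ[B] B ⧸ (I ⊔ Ideal.span {a}) := Submodule.factor le_sup_left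
      have hπ : Function.Surjective π := Submodule.factor_surjective le_sup_left
      have hex' : Function.Exact f₀ π := by
        intro z
        obtain ⟨y, rfl⟩ := Submodule.Quotient.mk_surjective _ z
        constructor
        · intro hz
          obtain ⟨u, hu, w, hw, huw⟩ := Submodule.mem_sup.1 ((Submodule.Quotient.mk_eq_zero _).1 hz)
          obtain ⟨c, rfl⟩ := Ideal.mem_span_singleton'.1 hw
          refine ⟨Submodule.Quotient.mk c, (Submodule.Quotient.eq _).2 ?_⟩
          rw [LinearMap.id_apply] at huw
          rw [LinearMap.mulRight_apply, ← huw, show c * a - (u + c * a) = -u by ring]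
          exact neg_mem hu
        · rintro ⟨w, hw⟩
          rw [← hw]
          obtain ⟨c, rfl⟩ := Submodule.Quotient.mk_surjective _ w
          exact (Submodule.Quotient.mk_eq_zero _).2 (Submodule.mem_sup_right (Ideal.mul_mem_left _ _ (Ideal.mem_span_singleton_self a)))
      refine hext f₀ π hf₀ hπ hex' (ih K (lt_of_le_of_ne (fun c hc => (hK c).2 (I.mul_mem_right a hc)) fun e => hb ?_))
        (ih _ (lt_of_le_of_ne le_sup_left fun e => ha (e ▸ Submodule.mem_sup_right (Ideal.mem_span_singleton_self a))))
      rw [e, hK, mul_comm]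
      exact hab
  exact IsNoetherianRing.induction_on_isQuotientEquivQuotientPrime B (M := M) hM
    (motive := fun N _ _ _ => Limits.IsZero (F.obj (ModuleCat.of B N)))
    (fun N _ _ _ _ => hsub) (fun N _ _ _ p e => hiso e (key p.1))
    (fun N₁ _ _ _ N₂ _ _ _ N₃ _ _ _ f g hf hg hfg h₁ h₃ => hext f g hf hg hfg h₁ h₃)

end Groth.Agent.S11461
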