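import Groth.Statements.S11462
import Groth.Agent.ArtGlobal29.Hartogs

set_option autoImplicit false
universe u
open CategoryTheory AlgebraicGeometry Opposite
open DefT

namespace Groth.Agent.S11462

/-- Let C be a local Artin ring with maximal ideal m, A a Noetherian C-algebra flat over C such that
Spec(A/mA) is a normal scheme, and U ⊆ X = Spec A an open subset whose closed complement has
codimension ≥ 2, i.e. every prime of A not in U has height at least 2. Then the restriction map Γ(X,
O_X) → Γ(U, O_X) is bijective. (The published statement assumes only that A is flat over C with
normal special fibre; this row also assumes A Noetherian: for a valuation ring of rank two over a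
field, which is normal and flat, the functions on the complement of the closed point are not all
global.) -/
theorem result (C : Type u) [CommRing C]
    [IsLocalRing C] [IsArtinianRing C] (A : Type u) [CommRing A] [IsNoetherianRing A] [Algebra C A]
    [Module.Flat C A]
    (hnorm : Pi1.IsNormalScheme (Spec (CommRingCat.of (A ⧸ (IsLocalRing.maximalIdeal C).map (algebraMap C A)))))
    (U : (Spec (CommRingCat.of A)).Opens)
    (hU : ∀ p : ↥(Spec (CommRingCat.of A)), p ∉ U → (2 : ℕ∞) ≤ p.asIdeal.height) :
    Function.Bijective ((Spec (CommRingCat.of A)).presheaf.map (homOfLE (le_top : U ≤ ⊤)).op) := by
  exact Groth.Agent.ArtGlobal29.restrict_bijective hnorm U hU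

end Groth.Agent.S11462
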