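import Groth.Statements.S17367
import Groth.Agent.DeformSqZero.Torsor

set_option autoImplicit false
universe u
open scoped TensorProduct
open Deform

namespace Groth.Agent.S17367

/-- The affine computation, for a square-zero extension of Noetherian rings. Let A' be a Noetherian
ring, J an ideal with J·J = 0 and A = A'/J; let B' be a flat A'-algebra, B = B'/JB', I an ideal of B
with B/I flat over A, and I', I'' two ideals of B' with A'-flat quotients whose images in B are both
I (two deformations over A' of the closed subscheme V(I) of Spec B inside Spec B'). Then there is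
exactly one B'-linear map φ from I to (B/I) ⊗_{A'} J (that is, Hom_B(I, (B/I) ⊗_A J)) such that for
every x in I, all lifts x' in I' and x'' in I'' of x, and every z in B' ⊗_{A'} J whose image under
multiplication is x'' - x', the image of z in (B/I) ⊗_{A'} J equals φ(x). (The published statement
is global (X' a separated scheme over A') and does not assume X' flat over A'; this row is the
affine case X' = Spec B' and assumes B' flat over A'.) -/
theorem result (A' : Type u) [CommRing A'] [IsNoetherianRing A']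
    (J : Ideal A') (hJ : J * J = ⊥) (B' : Type u) [CommRing B'] [Algebra A' B'] [Module.Flat A' B']
    (I : Ideal (B' ⧸ J.map (algebraMap A' B')))
    [Module.Flat (A' ⧸ J) ((B' ⧸ J.map (algebraMap A' B')) ⧸ I)]
    (I' I'' : Ideal B') [Module.Flat A' (B' ⧸ I')] [Module.Flat A' (B' ⧸ I'')]
    (hI' : I'.map (Ideal.Quotient.mk (J.map (algebraMap A' B'))) = I)
    (hI'' : I''.map (Ideal.Quotient.mk (J.map (algebraMap A' B'))) = I) :
    ∃! φ : ↥I →ₗ[B'] (((B' ⧸ J.map (algebraMap A' B')) ⧸ I) ⊗[A'] ↥J),
      (∀ (x : (B' ⧸ J.map (algebraMap A' B'))) (hx : x ∈ I) (x' x'' : B'), x' ∈ I' → x'' ∈ I'' →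
          Ideal.Quotient.mk (J.map (algebraMap A' B')) x' = x → Ideal.Quotient.mk (J.map (algebraMap A' B')) x'' = x →
          ∀ z : B' ⊗[A'] ↥J, TensorProduct.rid A' B' (LinearMap.lTensor B' (Submodule.subtype J) z) = x'' - x' →
            LinearMap.rTensor ↥J (IsScalarTower.toAlgHom A' B' ((B' ⧸ J.map (algebraMap A' B')) ⧸ I)).toLinearMap z = φ ⟨x, hx⟩) := by
  classical
  have hp : ∀ z : B' ⊗[A'] ↥J, LinearMap.rTensor ↥J
      (IsScalarTower.toAlgHom A' B' ((B' ⧸ J.map (algebraMap A' B')) ⧸ I)).toLinearMap z = Groth.Agent.DeformSqZero.proj I z :=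
    fun z => (Groth.Agent.DeformSqZero.proj_eq I z).symm
  let q := Ideal.Quotient.mk (J.map (algebraMap A' B'))
  have hex : ∀ x : ↥I, ∃ x' ∈ I', ∃ x'' ∈ I'', q x' = x ∧ q x'' = x ∧
      ∃ z, Groth.Agent.DeformSqZero.mulMap J B' z = x'' - x' := by
    intro x
    obtain ⟨x', h', e'⟩ := Groth.Agent.DeformSqZero.exists_lift I hI' x.2
    obtain ⟨x'', h'', e''⟩ := Groth.Agent.DeformSqZero.exists_lift I hI'' x.2
    exact ⟨x', h', x'', h'', e', e'', Groth.Agent.DeformSqZero.range_mulMap J B' _ (Ideal.Quotient.eq.1 (e''.trans e'.symm))⟩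
  choose x' hx' x'' hx'' e' e'' z hz using hex
  have key : ∀ (x : ↥I) (u v : B'), u ∈ I' → v ∈ I'' → q u = x → q v = x → ∀ w,
      Groth.Agent.DeformSqZero.mulMap J B' w = v - u → Groth.Agent.DeformSqZero.proj I w = Groth.Agent.DeformSqZero.proj I (z x) := by
    intro x u v hu hv eu ev w hw
    obtain ⟨a, ha⟩ := Groth.Agent.DeformSqZero.range_mulMap J B' (v - x'' x) (Ideal.Quotient.eq.1 (ev.trans (e'' x).symm))
    have ha0 := Groth.Agent.DeformSqZero.proj_eq_zero_of_mem I hI'' hJ (z := a) (by rw [ha]; exact sub_mem hv (hx'' x))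
    have hb0 := Groth.Agent.DeformSqZero.proj_eq_zero_of_mem I hI' hJ (z := a + z x - w)
      (by rw [map_sub, map_add, ha, hz, hw, show v - x'' x + (x'' x - x' x) - (v - u) = u - x' x by ring]; exact sub_mem hu (hx' x))
    rw [map_sub, map_add, ha0, zero_add, sub_eq_zero] at hb0
    exact hb0.symm
  let φ : ↥I →ₗ[B'] (((B' ⧸ J.map (algebraMap A' B')) ⧸ I) ⊗[A'] ↥J) :=
    { toFun := fun x => Groth.Agent.DeformSqZero.proj I (z x)
      map_add' := fun x y => by
        rw [← map_add]
        exact (key (x + y) (x' x + x' y) (x'' x + x'' y) (add_mem (hx' x) (hx' y)) (add_mem (hx'' x) (hx'' y))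
          (by rw [map_add, e', e']; rfl) (by rw [map_add, e'', e'']; rfl) (z x + z y)
          (by rw [map_add, hz, hz]; ring)).symm
      map_smul' := fun c x => by
        rw [RingHom.id_apply, ← map_smul]
        exact (key (c • x) (c * x' x) (c * x'' x) (I'.mul_mem_left _ (hx' x)) (I''.mul_mem_left _ (hx'' x))
          (by rw [map_mul, e']; rfl) (by rw [map_mul, e'']; rfl) (c • z x)
          (by rw [map_smul, hz, smul_eq_mul, mul_sub])).symm }
  refine ⟨φ, fun x hx u v hu hv eu ev w hw => ?_, fun ψ hψ => LinearMap.ext fun x => ?_⟩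
  · rw [hp]
    exact key ⟨x, hx⟩ u v hu hv eu ev w hw
  · exact (hψ x x.2 (x' x) (x'' x) (hx' x) (hx'' x) (e' x) (e'' x) (z x) (hz x)).symm.trans (hp _)

end Groth.Agent.S17367
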