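import Groth.Statements.S17368
import Groth.Agent.DeformSqZero.Torsor

set_option autoImplicit false
universe u
open scoped TensorProduct
open Deform

namespace Groth.Agent.S17368

/-- The affine computation, for a square-zero extension of Noetherian rings. Let A' be a Noetherian
ring, J an ideal with J·J = 0 and A = A'/J; let B' be a flat A'-algebra, B = B'/JB', I an ideal of B
with B/I flat over A, I' an ideal of B' with A'-flat quotient whose image in B is I, and φ a
B'-linear map from I to (B/I) ⊗_{A'} J. Then there is exactly one ideal I'' of B' with A'-flat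
quotient and image I in B whose difference from I' is φ: for every x in I, all lifts x' in I' and
x'' in I'' of x, and every z in B' ⊗_{A'} J whose image under multiplication is x'' - x', the image
of z in (B/I) ⊗_{A'} J equals φ(x). Together with the uniqueness of the difference this makes the
set of such ideals, when non-empty, a torsor under Hom_B(I, (B/I) ⊗_A J). (The published statement
is global (X' a separated scheme over A') and does not assume X' flat over A'; this row is the
affine case X' = Spec B' and assumes B' flat over A'.) -/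
theorem result (A' : Type u) [CommRing A'] [IsNoetherianRing A']
    (J : Ideal A') (hJ : J * J = ⊥) (B' : Type u) [CommRing B'] [Algebra A' B'] [Module.Flat A' B']
    (I : Ideal (B' ⧸ J.map (algebraMap A' B')))
    [Module.Flat (A' ⧸ J) ((B' ⧸ J.map (algebraMap A' B')) ⧸ I)]
    (I' : Ideal B') [Module.Flat A' (B' ⧸ I')]
    (hI' : I'.map (Ideal.Quotient.mk (J.map (algebraMap A' B'))) = I)
    (φ : ↥I →ₗ[B'] (((B' ⧸ J.map (algebraMap A' B')) ⧸ I) ⊗[A'] ↥J)) :
    ∃! I'' : Ideal B', Module.Flat A' (B' ⧸ I'') ∧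
      I''.map (Ideal.Quotient.mk (J.map (algebraMap A' B'))) = I ∧
      (∀ (x : (B' ⧸ J.map (algebraMap A' B'))) (hx : x ∈ I) (x' x'' : B'), x' ∈ I' → x'' ∈ I'' →
          Ideal.Quotient.mk (J.map (algebraMap A' B')) x' = x → Ideal.Quotient.mk (J.map (algebraMap A' B')) x'' = x →
          ∀ z : B' ⊗[A'] ↥J, TensorProduct.rid A' B' (LinearMap.lTensor B' (Submodule.subtype J) z) = x'' - x' →
            LinearMap.rTensor ↥J (IsScalarTower.toAlgHom A' B' ((B' ⧸ J.map (algebraMap A' B')) ⧸ I)).toLinearMap z = φ ⟨x, hx⟩) := by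
  classical
  have hp : ∀ z : B' ⊗[A'] ↥J, LinearMap.rTensor ↥J
      (IsScalarTower.toAlgHom A' B' ((B' ⧸ J.map (algebraMap A' B')) ⧸ I)).toLinearMap z = Groth.Agent.DeformSqZero.proj I z :=
    fun z => (Groth.Agent.DeformSqZero.proj_eq I z).symm
  let q := Ideal.Quotient.mk (J.map (algebraMap A' B'))
  let L := Groth.Agent.DeformSqZero.translate I φ I'
  have hmemI : ∀ x ∈ I', q x ∈ I := fun x hx => hI' ▸ Ideal.mem_map_of_mem _ hx
  have hindep : ∀ {x x₂ : B'}, x ∈ I' → x₂ ∈ I' → ∀ {w}, Groth.Agent.DeformSqZero.mulMap J B' w = x - x₂ →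
      Groth.Agent.DeformSqZero.proj I w = 0 := fun hx hx₂ w hw =>
    Groth.Agent.DeformSqZero.proj_eq_zero_of_mem I hI' hJ (hw ▸ sub_mem hx hx₂)
  have hqy : ∀ {y x z}, Groth.Agent.DeformSqZero.mulMap J B' z = y - x → q y = q x := fun {y x z} h => by
    rw [← sub_eq_zero, ← map_sub, ← h]; exact Groth.Agent.DeformSqZero.mk_mulMap z
  have hLmap : L.map q = I := by
    refine le_antisymm (Ideal.map_le_iff_le_comap.2 ?_) fun x hx => ?_
    · rintro y ⟨x, hx, z, h, hz, -⟩
      rw [Ideal.mem_comap, hqy hz]; exact h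
    · obtain ⟨x', hx', e⟩ := Groth.Agent.DeformSqZero.exists_lift I hI' hx
      obtain ⟨z, hz⟩ := Groth.Agent.DeformSqZero.proj_surjective I (φ ⟨x, hx⟩)
      have hy : x' + Groth.Agent.DeformSqZero.mulMap J B' z ∈ L :=
        ⟨x', hx', z, e ▸ hx, by ring, hz.trans (congrArg φ (Subtype.ext e.symm))⟩
      have h2 := Ideal.mem_map_of_mem q hy
      rwa [map_add, show q (Groth.Agent.DeformSqZero.mulMap J B' z) = 0 from Groth.Agent.DeformSqZero.mk_mulMap z,
        add_zero, e] at h2
  have hLz : ∀ z, Groth.Agent.DeformSqZero.mulMap J B' z ∈ L → Groth.Agent.DeformSqZero.proj I z = 0 := by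
    rintro z ⟨x, hx, z₀, h, hz₀, hφ⟩
    have hx0 : q x = 0 := by rw [← hqy hz₀]; exact Groth.Agent.DeformSqZero.mk_mulMap z
    have h1 := hindep hx I'.zero_mem (w := z - z₀) (by rw [map_sub, hz₀]; ring)
    rw [map_sub, hφ, (congrArg φ (Subtype.ext hx0 : (⟨_, h⟩ : ↥I) = 0)).trans (map_zero φ), sub_zero] at h1
    exact h1
  have hflat : Module.Flat A' (B' ⧸ L) := by
    refine Groth.Agent.FlatCrit.flat_of_isNilpotent (I := J) ?_ ?_ ⟨2, by rw [pow_two, hJ]; rfl⟩
    · rw [injective_iff_map_eq_zero]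
      intro w hw
      obtain ⟨z, rfl⟩ : ∃ z, TensorProduct.comm A' (B' ⧸ L) ↥J (LinearMap.rTensor ↥J (Ideal.Quotient.mkₐ A' L).toLinearMap z) = w := by
        obtain ⟨z, hz⟩ := LinearMap.rTensor_surjective ↥J (g := (Ideal.Quotient.mkₐ A' L).toLinearMap)
          (Ideal.Quotient.mkₐ_surjective A' L) ((TensorProduct.comm A' (B' ⧸ L) ↥J).symm w)
        exact ⟨z, by rw [hz, LinearEquiv.apply_symm_apply]⟩
      have e : ∀ v, TensorProduct.lid A' (B' ⧸ L) (LinearMap.rTensor (B' ⧸ L) J.subtype (TensorProduct.comm A' (B' ⧸ L) ↥J v)) =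
          TensorProduct.rid A' (B' ⧸ L) (LinearMap.lTensor (B' ⧸ L) J.subtype v) := by
        intro v
        induction v using TensorProduct.induction_on with
        | zero => simp
        | add a b ha hb => simp [ha, hb]
        | tmul a b => simp
      have h1 := e (LinearMap.rTensor ↥J (Ideal.Quotient.mkₐ A' L).toLinearMap z)
      rw [hw, map_zero, Groth.Agent.DeformSqZero.mk_mulMap_eq, eq_comm, Ideal.Quotient.eq_zero_iff_mem] at h1
      rw [(Groth.Agent.DeformSqZero.proj_eq_zero_iff I hLmap hJ z).1 (hLz z h1), map_zero]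
    · intro N₁ N₂ _ _ _ _ i hN₂ hi
      have hN₁ : ∀ r ∈ J, ∀ b : N₁, r • b = 0 := fun r hr b => hi (by rw [map_smul, hN₂ r hr, map_zero])
      have hBI : Function.Injective (i.rTensor ((B' ⧸ J.map (algebraMap A' B')) ⧸ I)) := by
        intro a b hab
        obtain ⟨a, rfl⟩ := LinearMap.lTensor_surjective N₁ (Groth.Agent.DeformSqZero.quotMap_surjective I hI') a
        obtain ⟨b, rfl⟩ := LinearMap.lTensor_surjective N₁ (Groth.Agent.DeformSqZero.quotMap_surjective I hI') b
        simp only [← LinearMap.comp_apply, LinearMap.rTensor_comp_lTensor, ← LinearMap.lTensor_comp_rTensor] at hab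
        exact congrArg _ (Module.Flat.rTensor_preserves_injective_linearMap i hi
          (Groth.Agent.DeformSqZero.lTensor_quotMap_injective I hI' hN₂ hab))
      intro a b hab
      apply Groth.Agent.DeformSqZero.lTensor_quotMap_injective I hLmap hN₁
      apply hBI
      simp only [← LinearMap.comp_apply, LinearMap.rTensor_comp_lTensor, ← LinearMap.lTensor_comp_rTensor]
      simp only [LinearMap.comp_apply, hab]
  refine ⟨L, ⟨hflat, hLmap, fun x hx u v hu hv eu ev w hw => ?_⟩, fun L' hL' => ?_⟩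
  · rw [hp]
    obtain ⟨x₁, hx₁, z, h, hz, hφ⟩ := hv
    obtain ⟨a, ha⟩ := Groth.Agent.DeformSqZero.range_mulMap J B' (x₁ - u)
      (Ideal.Quotient.eq.1 ((hqy hz).symm.trans (ev.trans eu.symm)))
    have hi : Groth.Agent.DeformSqZero.mulMap J B' w = Groth.Agent.DeformSqZero.mulMap J B' (z + a) := by
      rw [map_add, hz, ha, Groth.Agent.DeformSqZero.mulMap_eq, hw]; ring
    rw [Groth.Agent.DeformSqZero.mulMap_injective J B' hi, map_add, hindep hx₁ hu ha, add_zero, hφ]
    exact congrArg φ (Subtype.ext ((hqy hz).symm.trans ev))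
  · obtain ⟨hfl, hmap, hdiff⟩ := hL'
    haveI := hfl
    have hsub : L' ≤ L := by
      intro y hy
      have hyI : q y ∈ I := hmap ▸ Ideal.mem_map_of_mem _ hy
      obtain ⟨x, hx, e⟩ := Groth.Agent.DeformSqZero.exists_lift I hI' hyI
      obtain ⟨z, hz⟩ := Groth.Agent.DeformSqZero.range_mulMap J B' (y - x) (Ideal.Quotient.eq.1 e.symm)
      exact ⟨x, hx, z, e ▸ hyI, hz, (hp z).symm.trans ((hdiff _ hyI x y hx hy e rfl z hz).trans (congrArg φ (Subtype.ext e.symm)))⟩
    refine le_antisymm hsub fun y hy => ?_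
    have hyI : q y ∈ I := hLmap ▸ Ideal.mem_map_of_mem _ hy
    obtain ⟨y', hy', e⟩ := Groth.Agent.DeformSqZero.exists_lift I hmap hyI
    obtain ⟨w, hw⟩ := Groth.Agent.DeformSqZero.range_mulMap J B' (y - y') (Ideal.Quotient.eq.1 e.symm)
    have h0 := hLz w (hw ▸ sub_mem hy (hsub hy'))
    have h1 := Groth.Agent.DeformSqZero.mem_of_proj_eq_zero I hmap hJ h0
    rw [hw] at h1
    have h2 := add_mem h1 hy'
    rwa [sub_add_cancel] at h2

end Groth.Agent.S17368
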