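import Groth.Statements.S11467
import Groth.Agent.DeformSqZero.ObsTheory

set_option autoImplicit false
universe u
open DefT

namespace Groth.Agent.S11467

/-- Let P be a regular local k-algebra with residue field k, I ⊆ m_P² an ideal (so that dim P is the
embedding dimension of A = P/I), and suppose A has an obstruction theory whose obstruction space is
a finite-dimensional k-vector space V (obstructions in V ⊗ J attached to k-algebra maps A → C'/J for
small extensions of local Artinian k-algebras with residue field k, vanishing exactly when the map
lifts, functorial in quotients of C'). Then dim A ≥ dim P − dim_k V; and if equality holds, I is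
generated by dim P − dim A elements, so A is a local complete intersection in P. -/
theorem result (k : Type u) [Field k]
    (P : Type u) [CommRing P] [IsRegularLocalRing P] [Algebra k P]
    (hres : Function.Surjective (algebraMap k (IsLocalRing.ResidueField P)))
    (I : Ideal P) (hI : I ≤ IsLocalRing.maximalIdeal P ^ 2)
    (V : Type u) [AddCommGroup V] [Module k V] [Module.Finite k V]
    (T : W4bk4hartshdef114.ObsTheory k (P ⧸ I) V) :
    ringKrullDim P ≤ ringKrullDim (P ⧸ I) + (Module.finrank k V : WithBot ℕ∞) ∧
      (ringKrullDim (P ⧸ I) + (Module.finrank k V : WithBot ℕ∞) = ringKrullDim P →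
        ∃ s : Finset P, Ideal.span (s : Set P) = I ∧
          ringKrullDim (P ⧸ I) + (s.card : WithBot ℕ∞) = ringKrullDim P) := by
  obtain ⟨s, hs, hcard⟩ := DeformSqZero.exists_generators_of_obsTheory k P hres I hI V T
  have hle : ringKrullDim P ≤ ringKrullDim (P ⧸ I) + (s.card : WithBot ℕ∞) := by
    rw [← hs]
    refine ringKrullDim_le_ringKrullDim_quotient_add_card s fun x hx => ?_
    rw [SetLike.mem_coe, ← Ideal.jacobson_bot]
    refine IsLocalRing.maximalIdeal_le_jacobson (⊥ : Ideal P) (Ideal.pow_le_self two_ne_zero (hI ?_))
    rw [← hs]
    exact Ideal.subset_span hx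
  have hmono : ringKrullDim (P ⧸ I) + (s.card : WithBot ℕ∞) ≤
      ringKrullDim (P ⧸ I) + (Module.finrank k V : WithBot ℕ∞) := by
    gcongr
  exact ⟨hle.trans hmono, fun heq => ⟨s, hs, le_antisymm (hmono.trans heq.le) hle⟩⟩

end Groth.Agent.S11467
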