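import Groth.Statements.S11469
import Mathlib.LinearAlgebra.TensorProduct.RightExactness
import Mathlib.RingTheory.Flat.Basic
import Mathlib.RingTheory.TensorProduct.Basic
import Mathlib.Tactic

set_option autoImplicit false
universe u
open scoped TensorProduct
open DefT

namespace Groth.Agent.S11469

/-- Let C' be a local Artin ring with maximal ideal m, J ⊊ C' a proper ideal with mJ = 0, A' a
C'-algebra, M' an A'-module flat over C', and M₀ = M'/mM'. Then (1) every A'-linear endomorphism σ
of M' that is the identity modulo JM' is bijective, and there is exactly one A'-linear τ : M₀ → M₀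
⊗_{C'} J such that, for all x ∈ M' and all z ∈ M' ⊗_{C'} J mapping to σ(x) − x in M', the image of z
in M₀ ⊗_{C'} J is τ applied to the class of x; and (2) every A'-linear τ : M₀ → M₀ ⊗_{C'} J comes in
this way from some such σ. Thus the automorphisms of the extension M' inducing the identity on
M'/JM' correspond to Hom(M₀, M₀ ⊗ J). -/
theorem result (C' : Type u) [CommRing C'] [IsLocalRing C']
    [IsArtinianRing C'] (J : Ideal C') (hJ : IsLocalRing.maximalIdeal C' * J = ⊥) (hJne : J ≠ ⊤)
    (A' : Type u) [CommRing A'] [Algebra C' A'] (M' : Type u) [AddCommGroup M'] [Module A' M'] [Module C' M']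
    [IsScalarTower C' A' M'] [Module.Flat C' M'] :
    (∀ σ : M' →ₗ[A'] M', (∀ x : M', σ x - x ∈ (J.map (algebraMap C' A')) • (⊤ : Submodule A' M')) →
      Function.Bijective σ ∧
        ∃! τ : (M' ⧸ ((IsLocalRing.maximalIdeal C').map (algebraMap C' A')) • (⊤ : Submodule A' M')) →ₗ[A'] ((M' ⧸ ((IsLocalRing.maximalIdeal C').map (algebraMap C' A')) • (⊤ : Submodule A' M')) ⊗[C'] ↥J),
          (∀ (x : M') (z : M' ⊗[C'] ↥J), TensorProduct.rid C' M' (LinearMap.lTensor M' (Submodule.subtype J) z) = σ x - x →
            LinearMap.rTensor ↥J ((Submodule.mkQ (((IsLocalRing.maximalIdeal C').map (algebraMap C' A')) • (⊤ : Submodule A' M'))).restrictScalars C') z =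
              τ (Submodule.mkQ _ x))) ∧
    (∀ τ : (M' ⧸ ((IsLocalRing.maximalIdeal C').map (algebraMap C' A')) • (⊤ : Submodule A' M')) →ₗ[A'] ((M' ⧸ ((IsLocalRing.maximalIdeal C').map (algebraMap C' A')) • (⊤ : Submodule A' M')) ⊗[C'] ↥J),
      ∃ σ : M' →ₗ[A'] M', (∀ x : M', σ x - x ∈ (J.map (algebraMap C' A')) • (⊤ : Submodule A' M')) ∧
          (∀ (x : M') (z : M' ⊗[C'] ↥J), TensorProduct.rid C' M' (LinearMap.lTensor M' (Submodule.subtype J) z) = σ x - x →
            LinearMap.rTensor ↥J ((Submodule.mkQ (((IsLocalRing.maximalIdeal C').map (algebraMap C' A')) • (⊤ : Submodule A' M'))).restrictScalars C') z =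
              τ (Submodule.mkQ _ x))) := by
  set 𝔪 := (IsLocalRing.maximalIdeal C').map (algebraMap C' A') with h𝔪
  set N := 𝔪 • (⊤ : Submodule A' M') with hN
  let ι : M' ⊗[C'] ↥J →ₗ[A'] M' :=
    (TensorProduct.AlgebraTensorModule.rid C' A' M').toLinearMap ∘ₗ
      TensorProduct.AlgebraTensorModule.lTensor A' M' (Submodule.subtype J)
  have hι : ∀ z, TensorProduct.rid C' M' (LinearMap.lTensor M' (Submodule.subtype J) z) = ι z := fun z => rfl
  have hιt : ∀ y (j : J), ι (y ⊗ₜ j) = (j : C') • y := fun y j => TensorProduct.rid_tmul _ _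
  have hιinj : Function.Injective ι := by
    intro x y h
    rw [← hι, ← hι] at h
    exact Module.Flat.lTensor_preserves_injective_linearMap _ Subtype.val_injective ((TensorProduct.rid C' M').injective h)
  have hιrange : LinearMap.range ι = (J.map (algebraMap C' A')) • (⊤ : Submodule A' M') := by
    refine le_antisymm ?_ ?_
    · rintro _ ⟨z, rfl⟩
      induction z using TensorProduct.induction_on with
      | zero => rw [map_zero]; exact zero_mem _
      | add a b ha hb => rw [map_add]; exact add_mem ha hb
      | tmul y j =>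
        rw [hιt, ← algebraMap_smul A' (j : C') y]
        exact Submodule.smul_mem_smul (Ideal.mem_map_of_mem _ j.2) Submodule.mem_top
    · rw [Submodule.smul_le]
      intro a ha y _
      refine Submodule.span_induction (p := fun a _ => ∀ y : M', a • y ∈ LinearMap.range ι) ?_ ?_ ?_ ?_ ha y
      · rintro _ ⟨c, hc, rfl⟩ y
        exact ⟨y ⊗ₜ ⟨c, hc⟩, by rw [hιt, algebraMap_smul]⟩
      · intro y; rw [zero_smul]; exact zero_mem _
      · intro a b _ _ ha hb y; rw [add_smul]; exact add_mem (ha y) (hb y)
      · intro r a _ ha y; rw [smul_assoc]; exact Submodule.smul_mem _ r (ha y)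
  let q : M' ⊗[C'] ↥J →ₗ[A'] (M' ⧸ N) ⊗[C'] ↥J := TensorProduct.AlgebraTensorModule.rTensor C' J N.mkQ
  have hqz : ∀ z, LinearMap.rTensor ↥J (N.mkQ.restrictScalars C') z = q z := by
    intro z
    induction z using TensorProduct.induction_on with
    | zero => simp
    | add a b ha hb => simp [ha, hb]
    | tmul y j => rfl
  have hkill : ∀ y ∈ N, ∀ j : J, y ⊗ₜ[C'] j = 0 := by
    intro y hy j
    apply hιinj
    rw [map_zero, hιt]
    refine Submodule.smul_induction_on hy (fun a ha y _ => ?_) (fun a b ha hb => by rw [smul_add, ha, hb, add_zero])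
    refine Submodule.span_induction (p := fun a _ => ∀ y : M', (j : C') • a • y = 0) ?_ ?_ ?_ ?_ ha y
    · rintro _ ⟨c, hc, rfl⟩ y
      have h : c * (j : C') = 0 := by
        have := Ideal.mul_mem_mul hc j.2; rwa [hJ] at this
      rw [algebraMap_smul, smul_smul, mul_comm, h, zero_smul]
    · intro y; rw [zero_smul, smul_zero]
    · intro a b _ _ ha hb y; rw [add_smul, smul_add, ha, hb, add_zero]
    · intro r a _ ha y; rw [smul_assoc, smul_comm, ha, smul_zero]
  have hqsurj : Function.Surjective q := fun z => by
    obtain ⟨w, hw⟩ := LinearMap.rTensor_surjective ↥J (g := N.mkQ.restrictScalars C') (Submodule.mkQ_surjective N) z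
    exact ⟨w, by rw [← hqz, hw]⟩
  have hqinj : Function.Injective q := by
    rw [injective_iff_map_eq_zero]
    intro z hz
    rw [← hqz] at hz
    have hexa : Function.Exact (N.subtype.restrictScalars C') (N.mkQ.restrictScalars C') := fun x => by
      simp [Submodule.Quotient.mk_eq_zero]
    obtain ⟨w, rfl⟩ := (rTensor_exact ↥J hexa (Submodule.mkQ_surjective N) z).1 hz
    clear hz
    induction w using TensorProduct.induction_on with
    | zero => simp
    | add a b ha hb => simp [ha, hb]
    | tmul y j => exact hkill y y.2 j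
  let Q : M' ⊗[C'] ↥J ≃ₗ[A'] (M' ⧸ N) ⊗[C'] ↥J := LinearEquiv.ofBijective q ⟨hqinj, hqsurj⟩
  constructor
  · intro σ hσ
    have hmem : ∀ x, σ x - x ∈ LinearMap.range ι := fun x => hιrange ▸ hσ x
    have hkj : ∀ (j : J) (x : M'), (j : C') • (σ x - x) = 0 := by
      intro j x
      obtain ⟨z, hz⟩ := hmem x
      rw [← hz]
      clear hz
      induction z using TensorProduct.induction_on with
      | zero => simp
      | add a b ha hb => rw [map_add, smul_add, ha, hb, add_zero]
      | tmul y j' =>
        have hj' : (j : C') * (j' : C') = 0 := by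
          have := Ideal.mul_mem_mul (IsLocalRing.le_maximalIdeal hJne j.2) j'.2; rwa [hJ] at this
        rw [hιt, smul_smul, hj', zero_smul]
    have hsq : ∀ x, σ (σ x - x) = σ x - x := by
      intro x
      obtain ⟨z, hz⟩ := hmem x
      rw [← hz]
      clear hz
      induction z using TensorProduct.induction_on with
      | zero => simp
      | add a b ha hb => rw [map_add, map_add, ha, hb]
      | tmul y j =>
        rw [hιt, LinearMap.map_smul_of_tower, ← sub_eq_zero, ← smul_sub, hkj]
    refine ⟨⟨fun a b h => ?_, fun y => ⟨y - (σ y - y), ?_⟩⟩, ?_⟩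
    · have h1 := hsq (a - b)
      rw [map_sub σ a b, h, sub_self, zero_sub, map_neg, map_sub, h, sub_self, neg_zero, eq_comm, neg_eq_zero] at h1
      exact sub_eq_zero.1 h1
    · rw [map_sub, hsq]; abel
    · choose z hz using hmem
      have hzu : ∀ x w, ι w = σ x - x → w = z x := fun x w h => hιinj (h.trans (hz x).symm)
      let t : M' →ₗ[A'] (M' ⧸ N) ⊗[C'] ↥J :=
        { toFun := fun x => q (z x)
          map_add' := fun x y => by
            rw [← map_add, ← hzu (x + y) (z x + z y) (by rw [map_add, hz, hz, map_add]; abel)]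
          map_smul' := fun a x => by
            rw [RingHom.id_apply, ← map_smul, ← hzu (a • x) (a • z x) (by rw [map_smul, hz, map_smul, smul_sub])] }
      have hle : N ≤ LinearMap.ker t := by
        refine Submodule.smul_le.2 ?_
        intro a ha y _
        rw [LinearMap.mem_ker, map_smul]
        change a • q (z y) = 0
        rw [← map_smul]
        generalize z y = w
        induction w using TensorProduct.induction_on with
        | zero => simp
        | add u v hu hv => rw [smul_add, map_add, hu, hv, add_zero]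
        | tmul u j =>
          rw [TensorProduct.smul_tmul', hkill _ (Submodule.smul_mem_smul ha Submodule.mem_top) j, map_zero]
      refine ⟨Submodule.liftQ _ t hle, fun x w hw => ?_, fun τ hτ => ?_⟩
      · rw [hι] at hw
        rw [hqz, hzu x w hw]
        rfl
      · refine Submodule.linearMap_qext _ (LinearMap.ext fun x => ?_)
        have h := hτ x (z x) (by rw [hι, hz])
        rw [hqz] at h
        exact h.symm
  · intro τ
    let δ : M' →ₗ[A'] M' := ι ∘ₗ Q.symm.toLinearMap ∘ₗ τ ∘ₗ N.mkQ
    refine ⟨LinearMap.id + δ, fun x => ?_, fun x w hw => ?_⟩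
    · rw [LinearMap.add_apply, LinearMap.id_apply, add_sub_cancel_left, ← hιrange]
      exact ⟨_, rfl⟩
    · rw [hι, LinearMap.add_apply, LinearMap.id_apply, add_sub_cancel_left] at hw
      rw [hqz, hιinj hw]
      exact Q.apply_symm_apply _

end Groth.Agent.S11469
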