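import Groth.Statements.S1147
import Groth.Agent.S1375

set_option autoImplicit false
universe u
open Desc

set_option backward.isDefEq.respectTransparency false
set_option backward.isDefEq.respectTransparency.types false

open AlgebraicGeometry CategoryTheory

namespace Groth.Agent.S1147

/-- Let A → B be a faithfully flat ring map of finite presentation. If B is a Jacobson ring then so is
A. (This is the affine descent direction of the statement that the Jacobson property is fppf local.) -/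
theorem result (A B : Type u) [CommRing A] [CommRing B] [Algebra A B]
    [Module.FaithfullyFlat A B] [Algebra.FinitePresentation A B] [IsJacobsonRing B] : IsJacobsonRing A := by
  by_contra hA
  rw [isJacobsonRing_iff_prime_eq] at hA
  push Not at hA
  obtain ⟨p, hp, hpj⟩ := hA
  obtain ⟨f, hfj, hfp⟩ := SetLike.exists_of_lt (lt_of_le_of_ne Ideal.le_jacobson (Ne.symm hpj))
  -- a prime `p'` above `p`, maximal among those avoiding `f`
  obtain ⟨p', hp', hpp', hfp', hmax⟩ : ∃ p' : Ideal A, p'.IsPrime ∧ p ≤ p' ∧ f ∉ p' ∧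
      ∀ q : Ideal A, q.IsPrime → p' ≤ q → f ∉ q → q = p' := by
    have hdisj : Disjoint (p : Set A) (Submonoid.powers f : Set A) := by
      rw [Set.disjoint_left]
      rintro x hx ⟨n, rfl⟩
      exact hfp (hp.mem_of_pow_mem n hx)
    obtain ⟨p', hpp', hp'd, hp'max⟩ : ∃ p' : Ideal A, p ≤ p' ∧
        Disjoint (p' : Set A) (Submonoid.powers f : Set A) ∧
        ∀ q : Ideal A, p' ≤ q → Disjoint (q : Set A) (Submonoid.powers f : Set A) → q = p' := by
      have hub : ∀ c ⊆ {I : Ideal A | Disjoint (I : Set A) (Submonoid.powers f : Set A)},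
          IsChain (· ≤ ·) c → ∀ y ∈ c,
            ∃ ub ∈ {I : Ideal A | Disjoint (I : Set A) (Submonoid.powers f : Set A)}, ∀ z ∈ c, z ≤ ub := by
        intro c hc hchain y hy
        refine ⟨sSup c, ?_, fun z hz => le_sSup hz⟩
        rw [Set.mem_setOf_eq, Set.disjoint_left]
        intro x hx
        obtain ⟨I, hI, hxI⟩ := (Submodule.mem_sSup_of_directed ⟨y, hy⟩ hchain.directedOn).1 hx
        exact Set.disjoint_left.1 (hc hI) hxI
      obtain ⟨p', hle, hm⟩ := zorn_le_nonempty₀ _ hub p hdisj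
      exact ⟨p', hle, hm.1, fun q hq hd => le_antisymm (hm.2 hd hq) hq⟩
    have hp' : p'.IsPrime := Ideal.isPrime_of_maximally_disjoint p' (Submonoid.powers f) hp'd
      fun q hq hd => hq.ne (hp'max q hq.le hd).symm
    refine ⟨p', hp', hpp', fun h => Set.disjoint_left.1 hp'd h ⟨1, pow_one f⟩, fun q hq hle hfq => ?_⟩
    refine hp'max q hle (Set.disjoint_left.2 ?_)
    rintro x hx ⟨n, rfl⟩
    exact hfq (hq.mem_of_pow_mem n hx)
  have hp'nm : ¬ p'.IsMaximal := fun h => hfp' (Ideal.mem_sInf.1 hfj ⟨hpp', h⟩)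
  obtain ⟨m, hm, hp'm⟩ := Ideal.exists_le_maximal p' hp'.ne_top
  have hp'lt : p' < m := lt_of_le_of_ne hp'm fun h => hp'nm (h ▸ hm)
  -- a quasi-finite flat algebra over `A`, of finite type over `B`, with a prime over `m`
  let g := Spec.map (CommRingCat.ofHom (algebraMap A B))
  haveI : Flat g := (HasRingHomProperty.Spec_iff (P := @Flat)).2
    (RingHom.flat_algebraMap_iff.2 inferInstance)
  haveI : LocallyOfFinitePresentation g :=
    (HasRingHomProperty.Spec_iff (P := @LocallyOfFinitePresentation)).2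
      (RingHom.finitePresentation_algebraMap.2 inferInstance)
  haveI : Surjective g := ⟨PrimeSpectrum.comap_surjective_of_faithfullyFlat⟩
  obtain ⟨T, h, hfl, hlfp, hlqf, hsur, hloc⟩ := S1375.result g
  obtain ⟨t, ht⟩ := hsur.surj ⟨m, hm.isPrime⟩
  obtain ⟨V, r, htV, hr⟩ := hloc t
  obtain ⟨U, hU, htU, hUV⟩ := TopologicalSpace.Opens.isBasis_iff_nbhd.mp T.isBasis_affineOpens htV
  let φ : CommRingCat.of A ⟶ Γ(T, U) := Spec.preimage (hU.fromSpec ≫ h)
  have hφ : Spec.map φ = hU.fromSpec ≫ h := Spec.map_preimage _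
  haveI : Flat (hU.fromSpec ≫ h) := inferInstance
  haveI : LocallyOfFinitePresentation (hU.fromSpec ≫ h) := inferInstance
  haveI : LocallyQuasiFinite (hU.fromSpec ≫ h) := inferInstance
  have h1 : φ.hom.Flat := (HasRingHomProperty.Spec_iff (P := @Flat)).1 (hφ ▸ inferInstance)
  have h2 : φ.hom.FinitePresentation :=
    (HasRingHomProperty.Spec_iff (P := @LocallyOfFinitePresentation)).1 (hφ ▸ inferInstance)
  have h3 : φ.hom.QuasiFinite :=
    (HasRingHomProperty.Spec_iff (P := @LocallyQuasiFinite)).1 (hφ ▸ inferInstance)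
  let ψ : CommRingCat.of B ⟶ Γ(T, U) :=
    Spec.preimage (hU.isoSpec.inv ≫ T.homOfLE hUV ≫ r)
  have hψ : CommRingCat.ofHom (algebraMap A B) ≫ ψ = φ := by
    apply Spec.map_injective
    rw [Spec.map_comp, hφ, Spec.map_preimage]
    simp only [Category.assoc]
    rw [hr, Scheme.homOfLE_ι_assoc]
    rfl
  haveI : IsJacobsonRing Γ(T, U) := by
    have h4 : ψ.hom.FiniteType := by
      refine RingHom.FiniteType.of_comp_finiteType (f := algebraMap A B) ?_
      have := RingHom.FiniteType.of_finitePresentation h2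
      rw [← hψ] at this
      exact this
    letI := ψ.hom.toAlgebra
    haveI : Algebra.FiniteType B Γ(T, U) := h4
    exact isJacobsonRing_of_finiteType (A := B)
  letI : Algebra A Γ(T, U) := φ.hom.toAlgebra
  haveI : Module.Flat A Γ(T, U) := h1
  haveI : Algebra.QuasiFinite A Γ(T, U) := h3
  -- the prime over `m`
  obtain ⟨q1, hq1, hq1m⟩ : ∃ q1 : Ideal Γ(T, U), q1.IsPrime ∧ q1.under A = m := by
    have htr : t ∈ Set.range hU.fromSpec := by rw [hU.range_fromSpec]; exact htU
    obtain ⟨z, hz⟩ := htr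
    refine ⟨z.asIdeal, z.isPrime, ?_⟩
    have : Spec.map φ z = (⟨m, hm.isPrime⟩ : PrimeSpectrum A) := by
      rw [hφ, Scheme.Hom.comp_apply, hz, ht]
    exact congrArg PrimeSpectrum.asIdeal this
  haveI := hq1
  haveI : q1.LiesOver m := ⟨hq1m.symm⟩
  obtain ⟨q0, hq01, hq0, hq0p⟩ := Ideal.exists_ideal_le_liesOver_of_le q1 hp'lt.le
  have hfin := Algebra.QuasiFinite.finite_primesOver (S := Γ(T, U)) p'
  classical
  have hne : ∀ q ∈ hfin.toFinset.erase q0, ∃ x ∈ q, x ∉ q0 := by
    intro q hq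
    obtain ⟨hqne, hq'⟩ := Finset.mem_erase.1 hq
    rw [Set.Finite.mem_toFinset] at hq'
    by_contra hc
    push Not at hc
    haveI := hq'.1
    exact hqne (Algebra.QuasiFinite.eq_of_le_of_under_eq (R := A) q q0 hc
      (hq'.2.over.symm.trans hq0p.over))
  choose x hx hx0 using hne
  let H := algebraMap A Γ(T, U) f * ∏ q ∈ (hfin.toFinset.erase q0).attach, x q.1 q.2
  have hH : H ∉ q0 := by
    intro hmem
    rcases hq0.mem_or_mem hmem with h' | h'
    · have : f ∈ q0.under A := h'
      rw [← hq0p.over] at this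
      exact hfp' this
    · obtain ⟨q, -, hq⟩ := (Ideal.IsPrime.prod_mem_iff (hp := hq0)).1 h'
      exact hx0 _ _ hq
  have hj : q0.jacobson = q0 := isJacobsonRing_iff_prime_eq.1 inferInstance q0 hq0
  obtain ⟨M, hM0, hM, hHM⟩ : ∃ M, q0 ≤ M ∧ M.IsMaximal ∧ H ∉ M := by
    by_contra hc
    push Not at hc
    apply hH
    rw [← hj]
    exact Ideal.mem_sInf.2 fun M hM => hc M hM.1 hM.2
  haveI := hM.isPrime
  have hMp : M.under A = p' := by
    refine hmax _ inferInstance ?_ ?_
    · rw [hq0p.over]; exact Ideal.comap_mono hM0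
    · intro hfM
      exact hHM (Ideal.mul_mem_right _ _ hfM)
  have hMq : M = q0 := by
    by_contra hMne
    have hmem : M ∈ hfin.toFinset.erase q0 :=
      Finset.mem_erase.2 ⟨hMne, by rw [Set.Finite.mem_toFinset]; exact ⟨inferInstance, ⟨hMp.symm⟩⟩⟩
    refine hHM (Ideal.mul_mem_left _ _ ?_)
    exact (Ideal.IsPrime.prod_mem_iff (hp := hM.isPrime)).2 ⟨⟨M, hmem⟩, Finset.mem_attach _ _, hx M hmem⟩
  subst hMq
  have : M = q1 := hM.eq_of_le hq1.ne_top hq01
  exact hp'lt.ne (hMp.symm.trans (this ▸ hq1m))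

end Groth.Agent.S1147
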