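import Groth.Statements.S11470
import Mathlib
import Groth.Prelude

set_option linter.all false

set_option autoImplicit false
universe u
open Curves

open Polynomial

namespace Groth.Agent.S11470

section
variable {k : Type*} [Field k]

local notation "𝕏" => (RatFunc.X : RatFunc k)
local notation "↟" => algebraMap k[X] (RatFunc k)

lemma up_eq_aeval (P : k[X]) : ↟ P = aeval 𝕏 P := by
  induction P using Polynomial.induction_on' with
  | add p q hp hq => rw [map_add, map_add, hp, hq]
  | monomial n a =>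
    rw [← C_mul_X_pow_eq_monomial, map_mul, map_pow, map_mul, map_pow, aeval_C, aeval_X,
      RatFunc.algebraMap_X, RatFunc.algebraMap_C, RatFunc.algebraMap_eq_C]

lemma hom_up (f : RatFunc k ≃ₐ[k] RatFunc k) (P : k[X]) : f (↟ P) = aeval (f 𝕏) P := by
  rw [up_eq_aeval, aeval_algHom_apply f]

lemma X_ne : 𝕏 ≠ 0 := RatFunc.X_ne_zero

lemma X_sub_one_ne : 𝕏 - 1 ≠ 0 := by
  have : 𝕏 - 1 = ↟ (X - C 1) := by simp
  rw [this]
  exact RatFunc.algebraMap_ne_zero (X_sub_C_ne_zero 1)

lemma exists_num {b : RatFunc k} (h : b ∈ Algebra.adjoin k ({𝕏, 𝕏⁻¹, (𝕏 - 1)⁻¹} : Set (RatFunc k))) :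
    ∃ (n : ℕ) (P : k[X]), b * (𝕏 * (𝕏 - 1)) ^ n = ↟ P := by
  induction h using Algebra.adjoin_induction with
  | mem x hx =>
    rcases hx with rfl | rfl | rfl
    · exact ⟨0, X, by simp⟩
    · exact ⟨1, X - 1, by field_simp [X_ne]; simp⟩
    · exact ⟨1, X, by field_simp [X_sub_one_ne]; simp⟩
  | algebraMap r => exact ⟨0, C r, by simp [RatFunc.algebraMap_eq_C]⟩
  | add x y _ _ hx hy =>
    obtain ⟨n, P, hP⟩ := hx
    obtain ⟨m, Q, hQ⟩ := hy
    refine ⟨n + m, P * (X * (X - 1)) ^ m + Q * (X * (X - 1)) ^ n, ?_⟩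
    simp only [map_add, map_mul, map_pow, map_sub, map_one, RatFunc.algebraMap_X, ← hP, ← hQ]
    ring
  | mul x y _ _ hx hy =>
    obtain ⟨n, P, hP⟩ := hx
    obtain ⟨m, Q, hQ⟩ := hy
    refine ⟨n + m, P * Q, ?_⟩
    rw [map_mul, ← hP, ← hQ]
    ring

/-- the invariant -/
noncomputable def J : RatFunc k :=
  256 * (𝕏 ^ 2 - 𝕏 + 1) ^ 3 / (𝕏 ^ 2 * (𝕏 - 1) ^ 2)

variable (σ τ : RatFunc k ≃ₐ[k] RatFunc k) (hσ : σ RatFunc.X = (RatFunc.X : RatFunc k)⁻¹) (hτ : τ RatFunc.X = 1 - (RatFunc.X : RatFunc k))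

include hσ in
lemma sigma_J : σ (J : RatFunc k) = J := by
  have := X_ne (k := k); have := X_sub_one_ne (k := k)
  have h1 : (1 : RatFunc k) - 𝕏 ≠ 0 := by rwa [sub_ne_zero, ne_comm, ← sub_ne_zero]
  simp only [J, map_div₀, map_mul, map_pow, map_add, map_sub, map_one, hσ, map_ofNat]
  field_simp
  ring

include hτ in
lemma tau_J : τ (J : RatFunc k) = J := by
  simp only [J, map_div₀, map_mul, map_pow, map_add, map_sub, map_one, hτ, map_ofNat]
  congr 1 <;> ring

include hσ hτ in
lemma descent (h2 : (2 : k) ≠ 0) : ∀ (n : ℕ) (P : k[X]) (b : RatFunc k),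
    b * (𝕏 * (𝕏 - 1)) ^ n = ↟ P → σ b = b → τ b = b →
    b ∈ Algebra.adjoin k ({J} : Set (RatFunc k)) := by
  intro n
  induction n with
  | zero =>
    intro P b hb hsb _
    rw [pow_zero, mul_one] at hb
    subst hb
    rw [hom_up, hσ] at hsb
    haveI := invertibleOfNonzero (X_ne (k := k))
    have h := eval₂_reflect_mul_pow (algebraMap k (RatFunc k)) 𝕏 P.natDegree P le_rfl
    rw [invOf_eq_inv, ← aeval_def, ← aeval_def] at h
    have hr : ∀ Q : k[X], aeval 𝕏⁻¹ Q = σ (↟ Q) := fun Q => by rw [hom_up, hσ]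
    rw [← up_eq_aeval, hr] at h
    have hP : ↟ (reflect P.natDegree P) = ↟ (P * X ^ P.natDegree) := by
      have := congr_arg σ h
      rw [map_mul, map_pow, hσ] at this
      have hss : σ (σ (↟ (reflect P.natDegree P))) = ↟ (reflect P.natDegree P) := by
        rw [hom_up, hσ, ← aeval_algHom_apply σ, map_inv₀, hσ, inv_inv, ← up_eq_aeval]
      rw [hss, hom_up σ P, hσ, hsb] at this
      rw [map_mul, map_pow, RatFunc.algebraMap_X, ← this, inv_pow,
        inv_mul_cancel_right₀ (pow_ne_zero _ (X_ne (k := k)))]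
    have hP' : reflect P.natDegree P = P * X ^ P.natDegree := RatFunc.algebraMap_injective k hP
    have hd : P.natDegree = 0 := by
      by_contra hd
      have hc := congr_arg (fun Q : k[X] => Q.coeff 0) hP'
      simp [coeff_reflect, revAt_le, coeff_mul_X_pow', hd] at hc
      rw [if_neg (Ne.symm hd), leadingCoeff_eq_zero] at hc
      exact hd (by rw [hc, natDegree_zero])
    rw [eq_C_of_natDegree_eq_zero hd, RatFunc.algebraMap_C, ← RatFunc.algebraMap_eq_C]
    exact Subalgebra.algebraMap_mem _ _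
  | succ n ih =>
    intro P b hb hsb htb
    have hX := X_ne (k := k)
    have hX1 := X_sub_one_ne (k := k)
    -- symmetry under X ↦ 1 - X
    have hτP : P.comp (1 - X) = P := by
      apply RatFunc.algebraMap_injective k
      have e : ↟ (P.comp (1 - X)) = τ (↟ P) := by
        rw [hom_up, hτ, up_eq_aeval, aeval_comp]
        simp
      rw [e, ← hb, map_mul, map_pow, map_mul, map_sub, map_one, htb, hτ]
      ring
    by_cases h0 : P.coeff 0 = 0
    · obtain ⟨P1, hP1⟩ := X_dvd_iff.2 h0
      have he : P.eval 1 = 0 := by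
        rw [← hτP, eval_comp]; simp [eval_sub, ← coeff_zero_eq_eval_zero, h0]
      have he1 : P1.eval 1 = 0 := by simpa [hP1] using he
      obtain ⟨P2, hP2⟩ := dvd_iff_isRoot.2 (IsRoot.def.2 he1)
      refine ih P2 b ?_ hsb htb
      apply mul_right_cancel₀ (mul_ne_zero hX hX1)
      rw [mul_assoc, ← pow_succ, hb, hP1, hP2]
      simp only [map_mul, map_sub, RatFunc.algebraMap_X, map_one]
      ring
    · -- the top pole order is even
      haveI := invertibleOfNonzero hX
      have hr : ∀ Q : k[X], aeval 𝕏⁻¹ Q = σ (↟ Q) := fun Q => by rw [hom_up, hσ]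
      have hσP : σ (↟ P) * 𝕏 ^ (3 * (n + 1)) = (-1) ^ (n + 1) * ↟ P := by
        rw [← hb, map_mul, map_pow, map_mul, map_sub, map_one, hsb, hσ]
        have hf : 𝕏⁻¹ * (𝕏⁻¹ - 1) * (𝕏 * 𝕏 * 𝕏) = -1 * (𝕏 * (𝕏 - 1)) := by field_simp; ring
        have e : ∀ N : ℕ, (𝕏⁻¹ * (𝕏⁻¹ - 1)) ^ N * 𝕏 ^ (3 * N) = (-1) ^ N * (𝕏 * (𝕏 - 1)) ^ N := by
          intro N
          rw [pow_mul, ← mul_pow, ← mul_pow, ← hf]
          ring
        rw [mul_assoc, e]
        ring
      have hdeg : P.natDegree = 3 * (n + 1) := by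
        set N := max P.natDegree (3 * (n + 1)) with hN
        have hPN : P.natDegree ≤ N := le_max_left _ _
        have h := eval₂_reflect_mul_pow (algebraMap k (RatFunc k)) 𝕏 N P hPN
        rw [invOf_eq_inv, ← aeval_def, ← aeval_def, ← up_eq_aeval, hr] at h
        have h' := congr_arg σ h
        have hss : σ (σ (↟ (reflect N P))) = ↟ (reflect N P) := by
          rw [hom_up, hσ, ← aeval_algHom_apply σ, map_inv₀, hσ, inv_inv, ← up_eq_aeval]
        rw [map_mul, map_pow, hσ, hss] at h'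
        have hP : ↟ (reflect N P) = ↟ (C ((-1) ^ (n + 1)) * P * X ^ (N - 3 * (n + 1))) := by
          have e : 𝕏 ^ N = 𝕏 ^ (3 * (n + 1)) * 𝕏 ^ (N - 3 * (n + 1)) := by
            rw [← pow_add, Nat.add_sub_cancel' (le_max_right _ _)]
          simp only [map_mul, map_pow, map_neg, map_one, RatFunc.algebraMap_X]
          rw [← hσP, ← h', inv_pow, mul_assoc (_ * _) _ _, mul_assoc, ← e,
            inv_mul_cancel₀ (pow_ne_zero _ hX), mul_one]
        have hP' := RatFunc.algebraMap_injective k hP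
        have hc := congr_arg (fun Q : k[X] => Q.coeff 0) hP'
        rw [coeff_reflect, revAt_le (Nat.zero_le _), Nat.sub_zero, mul_assoc, coeff_C_mul,
          coeff_mul_X_pow'] at hc
        rcases lt_trichotomy P.natDegree (3 * (n + 1)) with h | h | h
        · have hN' : N = 3 * (n + 1) := max_eq_right h.le
          rw [hN', Nat.sub_self, if_pos le_rfl, coeff_eq_zero_of_natDegree_lt h] at hc
          exact absurd hc.symm (mul_ne_zero (pow_ne_zero _ (neg_ne_zero.2 one_ne_zero)) h0)
        · exact h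
        · have hN' : N = P.natDegree := max_eq_left h.le
          rw [hN', if_neg (by omega), mul_zero, coeff_natDegree, leadingCoeff_eq_zero] at hc
          exact absurd (by simp [hc]) h0
      have hP0 : P ≠ 0 := fun h => h0 (by simp [h])
      have heven : Even (n + 1) := by
        have hq : (1 - X : k[X]).natDegree = 1 := by
          rw [show (1 - X : k[X]) = -(X - C 1) by simp, natDegree_neg, natDegree_X_sub_C]
        have hl := leadingCoeff_comp (p := P) (q := 1 - X) (by omega)
        rw [hτP, show (1 - X : k[X]) = -(X - C 1) by simp, leadingCoeff_neg, leadingCoeff_X_sub_C,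
          hdeg] at hl
        by_contra ho
        rw [Nat.not_even_iff_odd] at ho
        have ho3 : Odd (3 * (n + 1)) := (by decide : Odd 3).mul ho
        rw [ho3.neg_one_pow, mul_neg, mul_one, eq_neg_iff_add_eq_zero, ← two_mul] at hl
        exact leadingCoeff_ne_zero.2 hP0 ((mul_eq_zero.1 hl).resolve_left h2)
      obtain ⟨m, hm⟩ := heven
      have h256 : (256 : k) ≠ 0 := by
        rw [show (256 : k) = 2 ^ 8 by norm_num]; exact pow_ne_zero _ h2
      set r : k := P.coeff 0 / 256 ^ m with hr'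
      set P' : k[X] := P - C (P.coeff 0) * (X ^ 2 - X + 1) ^ (3 * m) with hP'
      have hb' : (b - algebraMap k (RatFunc k) r * J ^ m) * (𝕏 * (𝕏 - 1)) ^ (n + 1) = ↟ P' := by
        rw [sub_mul, hb, hP', map_sub]
        congr 1
        have h256' : (256 : RatFunc k) ^ m = algebraMap k (RatFunc k) (256 ^ m) := by
          rw [map_pow, map_ofNat]
        rw [J, div_pow, mul_pow (256 : RatFunc k), h256', hm, hr', map_div₀]
        have : algebraMap k (RatFunc k) (256 ^ m) ≠ 0 :=
          (_root_.map_ne_zero _).2 (pow_ne_zero _ h256)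
        simp only [map_mul, map_pow, map_add, map_sub, map_one, RatFunc.algebraMap_X,
          RatFunc.algebraMap_C, ← RatFunc.algebraMap_eq_C, pow_mul]
        have hm2 : (𝕏 * (𝕏 - 1)) ^ (m + m) = (𝕏 ^ 2 * (𝕏 - 1) ^ 2) ^ m := by
          rw [← two_mul, pow_mul, mul_pow]
        rw [hm2]
        have := pow_ne_zero m (mul_ne_zero (pow_ne_zero 2 hX) (pow_ne_zero 2 hX1))
        field_simp
        rw [← map_pow] at *
        field_simp
      have h00 : P'.coeff 0 = 0 := by
        simp [hP', coeff_zero_eq_eval_zero, eval_sub, eval_pow, eval_mul, eval_add]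
      obtain ⟨P1, hP1⟩ := X_dvd_iff.2 h00
      have he : P'.eval 1 = 0 := by
        have : P.eval 1 = P.coeff 0 := by
          conv_lhs => rw [← hτP, eval_comp]
          simp [coeff_zero_eq_eval_zero]
        simp [hP', eval_sub, eval_pow, eval_mul, eval_add, this]
      have he1 : P1.eval 1 = 0 := by simpa [hP1] using he
      obtain ⟨P2, hP2⟩ := dvd_iff_isRoot.2 (IsRoot.def.2 he1)
      have hmem := ih P2 (b - algebraMap k (RatFunc k) r * J ^ m) ?_ ?_ ?_
      · have := (Algebra.adjoin k ({J} : Set (RatFunc k))).add_mem hmem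
          ((Algebra.adjoin k ({J} : Set (RatFunc k))).mul_mem (Subalgebra.algebraMap_mem _ r)
            (pow_mem (Algebra.subset_adjoin (Set.mem_singleton J)) m))
        simpa using this
      · apply mul_right_cancel₀ (mul_ne_zero hX hX1)
        rw [mul_assoc, ← pow_succ, hb', hP1, hP2]
        simp only [map_mul, map_sub, RatFunc.algebraMap_X, map_one]
        ring
      · rw [map_sub, map_mul, map_pow, hsb, sigma_J σ hσ, σ.commutes]
      · rw [map_sub, map_mul, map_pow, htb, tau_J τ hτ, τ.commutes]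

end

/-- The algebraic step of its proof: Fix an algebraically closed field k whose characteristic is neither
2 nor 3, let B ⊆ k(λ) be the k-subalgebra generated by λ, λ⁻¹ and (λ - 1)⁻¹ (the coordinate ring of
the λ-line with 0 and 1 removed), and let σ and τ be the k-algebra automorphisms of k(λ) determined
by σ(λ) = λ⁻¹ and τ(λ) = 1 - λ (they generate the group of order six permuting λ, 1/λ, 1-λ, 1/(1-λ),
λ/(λ-1), (λ-1)/λ). Then the elements of B fixed by σ and τ are exactly the elements of the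
k-subalgebra generated by j = 256 (λ² - λ + 1)³ / (λ² (λ - 1)²); in other words the ring of
invariants of B is the polynomial ring k[j]. -/
theorem result (k : Type u) [Field k] [IsAlgClosed k]
    (h2 : (2 : k) ≠ 0) (h3 : (3 : k) ≠ 0)
    (σ τ : RatFunc k ≃ₐ[k] RatFunc k) (hσ : σ RatFunc.X = (RatFunc.X : RatFunc k)⁻¹)
    (hτ : τ RatFunc.X = 1 - (RatFunc.X : RatFunc k)) (b : RatFunc k) :
    (b ∈ Algebra.adjoin k ({RatFunc.X, (RatFunc.X : RatFunc k)⁻¹, ((RatFunc.X : RatFunc k) - 1)⁻¹} : Set (RatFunc k)) ∧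
        σ b = b ∧ τ b = b) ↔
      b ∈ Algebra.adjoin k ({(256 : RatFunc k) * ((RatFunc.X : RatFunc k) ^ 2 - RatFunc.X + 1) ^ 3 /
        ((RatFunc.X : RatFunc k) ^ 2 * ((RatFunc.X : RatFunc k) - 1) ^ 2)} : Set (RatFunc k)) := by
  change _ ↔ b ∈ Algebra.adjoin k ({J} : Set (RatFunc k))
  constructor
  · rintro ⟨hb, hsb, htb⟩
    obtain ⟨n, P, hP⟩ := exists_num hb
    exact descent σ τ hσ hτ h2 n P b hP hsb htb
  · intro hb
    induction hb using Algebra.adjoin_induction with
    | mem x hx =>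
      rw [Set.mem_singleton_iff] at hx
      subst hx
      refine ⟨?_, sigma_J σ hσ, tau_J τ hτ⟩
      set B := Algebra.adjoin k ({RatFunc.X, (RatFunc.X : RatFunc k)⁻¹, ((RatFunc.X : RatFunc k) - 1)⁻¹} : Set (RatFunc k))
      have hX : (RatFunc.X : RatFunc k) ∈ B := Algebra.subset_adjoin (by simp)
      have hXi : (RatFunc.X : RatFunc k)⁻¹ ∈ B := Algebra.subset_adjoin (by simp)
      have hX1i : ((RatFunc.X : RatFunc k) - 1)⁻¹ ∈ B := Algebra.subset_adjoin (by simp)
      have h256 : (256 : RatFunc k) ∈ B := by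
        rw [← map_ofNat (algebraMap k (RatFunc k)) 256]; exact B.algebraMap_mem _
      rw [J, div_eq_mul_inv, mul_inv, ← inv_pow, ← inv_pow]
      exact mul_mem (mul_mem h256 (pow_mem (add_mem (sub_mem (pow_mem hX 2) hX) (one_mem _)) 3))
        (mul_mem (pow_mem hXi 2) (pow_mem hX1i 2))
    | algebraMap r => exact ⟨Subalgebra.algebraMap_mem _ r, σ.commutes r, τ.commutes r⟩
    | add x y _ _ hx hy =>
      exact ⟨add_mem hx.1 hy.1, by rw [map_add, hx.2.1, hy.2.1], by rw [map_add, hx.2.2, hy.2.2]⟩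
    | mul x y _ _ hx hy =>
      exact ⟨mul_mem hx.1 hy.1, by rw [map_mul, hx.2.1, hy.2.1], by rw [map_mul, hx.2.2, hy.2.2]⟩

end Groth.Agent.S11470
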