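import Groth.Statements.S11473
import Groth.Agent.GenusZero5.Examples
import Groth.Agent.HenselLib.SectionsLift
import Groth.Agent.CAlgH.AdicSmooth
import Groth.Agent.H8Coh.NthPower
-- import your own Groth.Agent.* helpers here

set_option autoImplicit false
set_option backward.isDefEq.respectTransparency.types false
universe u
open CategoryTheory CategoryTheory.Limits AlgebraicGeometry
open Curves

namespace Groth.Agent.S11473

/-- Let C be an Artinian local ring whose residue field k is algebraically closed, and let f : X → Spec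
C be a family of curves of genus zero: f is smooth and proper and its closed fibre X ×_C k is an
integral k-scheme of dimension one with H¹(O) = 0 (over the algebraically closed field k this is the
condition on the one geometric fibre). Then the family is trivial: X is C-isomorphic to P¹_C. -/
theorem result (C : Type u) [CommRing C] [IsArtinianRing C] [IsLocalRing C]
    [IsAlgClosed (IsLocalRing.ResidueField C)] {X : Scheme.{u}} (f : X ⟶ Spec (CommRingCat.of C)) [Smooth f] [IsProper f]
    (hint : IsIntegral (pullback f (Spec.map (CommRingCat.ofHom (IsLocalRing.residue C)))))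
    (hdim : topologicalKrullDim ↥(pullback f (Spec.map (CommRingCat.ofHom (IsLocalRing.residue C)))) = 1)
    (hg : @Curv2.genus (IsLocalRing.ResidueField C) _ (pullback f (Spec.map (CommRingCat.ofHom (IsLocalRing.residue C))))
        ⟨pullback.snd f (Spec.map (CommRingCat.ofHom (IsLocalRing.residue C)))⟩ = 0) :
    ∃ e : X ≅ CohB1.ProjSpace 1 C, e.hom ≫ CohB1.ProjSpace.toSpec 1 C = f := by
  let k := IsLocalRing.ResidueField C
  let b₀ : Spec (CommRingCat.of k) ⟶ Spec (CommRingCat.of C) := Spec.map (CommRingCat.ofHom (IsLocalRing.residue C))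
  haveI : Subsingleton ↥(Spec (CommRingCat.of C)) := ⟨fun x y => by
    have h : ∀ z : PrimeSpectrum C, z.asIdeal = IsLocalRing.maximalIdeal C := fun z =>
      IsLocalRing.eq_maximalIdeal (IsArtinianRing.isMaximal_of_isPrime z.asIdeal)
    exact PrimeSpectrum.ext ((h x).trans (h y).symm)⟩
  have h0 : Groth.Agent.GenusZero5.GeomZero f := fun s =>
    ⟨k, inferInstance, b₀, Subsingleton.elim _ _, (haveI := hint; inferInstance), hg⟩
  haveI := Groth.Agent.GenusZero5.connected_fibre f h0 (IsLocalRing.closedPoint C)
  haveI := hint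
  obtain ⟨t₀, ht₀⟩ := Groth.Agent.H8Coh.NthPower.exists_point (k := k) (pullback.snd f b₀)
  haveI : IsAdicComplete (IsLocalRing.maximalIdeal C) C := by
    obtain ⟨m, hm⟩ := IsArtinianRing.isNilpotent_jacobson_bot (R := C)
    rw [IsLocalRing.jacobson_eq_maximalIdeal ⊥ bot_ne_top, Ideal.zero_eq_bot] at hm
    exact Groth.Agent.CAlgH.AdicSmooth.isAdicComplete_of_pow_eq_bot hm
  haveI : HenselianLocalRing C := Groth.Agent.HenselLib.henselianLocalRing_of_henselianRing C
  obtain ⟨σ, hσ, -⟩ := Groth.Agent.HenselLib.SectionsLift.exists_section f (t₀ ≫ pullback.fst f b₀)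
    (by rw [Category.assoc, pullback.condition, ← Category.assoc, ht₀, Category.id_comp])
  haveI := Groth.Agent.GenusZero5.geometricallyConnected f h0 σ hσ
  haveI : SmoothOfRelativeDimension 1 f := Groth.Agent.EllGrp5.smoothRD_of_fibre_dim f fun t => by
    rw [Subsingleton.elim t (b₀ (IsLocalRing.closedPoint k))]
    exact (Groth.Agent.GenusZero5.fibre_dim_eq f b₀).trans hdim
  obtain ⟨N, hN, -, -, hE, hP⟩ := Groth.Agent.GenusZero5.exists_projBundle f h0 σ hσ
  haveI := Groth.Agent.CycLib28.PB.isQCoh_of_rank hE
  obtain ⟨U, hU, hsU, h⟩ := Groth.Agent.GenusZero5.exists_trivialisation f hP hE (IsLocalRing.closedPoint C)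
  obtain ⟨e, he⟩ := h C inferInstance (𝟙 _) fun y _ => by rw [Subsingleton.elim y (IsLocalRing.closedPoint C)]; exact hsU
  haveI : IsIso (pullback.fst f (𝟙 (Spec (CommRingCat.of C)))) := inferInstance
  refine ⟨(asIso (pullback.fst f (𝟙 _))).symm ≪≫ e, ?_⟩
  rw [Iso.trans_hom, Category.assoc, he, Iso.symm_hom, asIso_inv, IsIso.inv_comp_eq]
  rw [pullback.condition, Category.comp_id]

end Groth.Agent.S11473
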