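import Groth.Statements.S11475
import Groth.Agent.LciLift29.FlatStep
import Groth.Agent.BddFibLib29.Basic
import Groth.Agent.S0040
import Groth.Agent.Quot8.FlatQuotient
import Groth.Agent.Coherent.ProjSpaceFlat
import Groth.Agent.S11762
-- import your own Groth.Agent.* helpers here

set_option autoImplicit false
set_option backward.isDefEq.respectTransparency.types false
set_option backward.isDefEq.respectTransparency false
set_option linter.style.haveILetI false
set_option maxHeartbeats 1000000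
universe u
open CategoryTheory CategoryTheory.Limits AlgebraicGeometry
open Lift

namespace Groth.Agent.S11475

open CategoryTheory.Limits in
/-- Transport of the splitting hypothesis to the kernel ideal of the immersion. -/
theorem qSplits_ideal {X₀ P : Scheme.{u}} (ι₀ : X₀ ⟶ P) [IsClosedImmersion ι₀] [HasExt.{u} X₀.Modules]
    (hN : Subsingleton (Abelian.Ext.{u} (Omega.conormal ι₀) (Coh.structureModule X₀) 1)) :
    LciLift29.QSplits (ClSub.quotMod ι₀.ker) (ClSub.idealMod ι₀.ker) := by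
  let e := inv ι₀.toImage
  have he : e ≫ ι₀ = ι₀.ker.subschemeι := (IsIso.inv_comp_eq _).2 ι₀.toImage_imageι.symm
  exact LciLift29.QSplits.push ι₀.ker.subschemeι
    (((LciLift29.qSplits_of_ext (K := Omega.conormal ι₀) hN).pullback_iso e).of_iso (PicLoc.pullbackStructureIso e)
      ((Scheme.Modules.pullbackComp e ι₀).app _ ≪≫ (Scheme.Modules.pullbackCongr he).app _))

/-- Let R be a complete discrete valuation ring of characteristic zero whose residue field k is perfect
of characteristic p > 0; write Pʳ_k for the closed fibre Pʳ_R ×_R k. Let ι₀ : X₀ → Pʳ_k be a regular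
closed immersion (X₀ is a local complete intersection in Pʳ_k) with H¹(X₀, N) = 0 for the normal
sheaf N = Hom(I/I², O_{X₀}), written as Ext¹(I/I², O_{X₀}) = 0 for the conormal sheaf I/I² (the same
group, I/I² being locally free). Then X₀ lifts to R as a subscheme of Pʳ: there is a closed
subscheme X of Pʳ_R, flat over R, with X ×_{Pʳ_R} Pʳ_k = X₀. (The published statement allows any
locally unobstructed X₀, for instance locally Cohen–Macaulay of codimension two; this row states the
local complete intersection case.) -/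
theorem result (R : Type u) [CommRing R] [IsDomain R]
    [IsDiscreteValuationRing R] [IsAdicComplete (IsLocalRing.maximalIdeal R) R] [CharZero R]
    [PerfectField (IsLocalRing.ResidueField R)] (p : ℕ) [Fact p.Prime] [CharP (IsLocalRing.ResidueField R) p]
    (r : ℕ) (X₀ : Scheme.{u})
    (ι₀ : X₀ ⟶ pullback (CohB1.ProjSpace.toSpec r R) (Spec.map (CommRingCat.ofHom (IsLocalRing.residue R))))
    (hι₀ : Mor2.IsRegularClosedImmersion ι₀) [HasExt.{u} X₀.Modules]
    (hN : Subsingleton (Abelian.Ext.{u} (Omega.conormal ι₀) (Coh.structureModule X₀) 1)) :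
    ∃ (X : Scheme.{u}) (j : X ⟶ CohB1.ProjSpace r R) (i : X₀ ⟶ X), IsClosedImmersion j ∧
      Flat (j ≫ CohB1.ProjSpace.toSpec r R) ∧
      IsPullback i ι₀ j (pullback.fst (CohB1.ProjSpace.toSpec r R)
        (Spec.map (CommRingCat.ofHom (IsLocalRing.residue R)))) := by
  haveI := hι₀.1
  let k := IsLocalRing.ResidueField R
  let 𝔪 := IsLocalRing.maximalIdeal R
  let f := CohB1.ProjSpace.toSpec r R
  haveI : IsProper f := Coherent.isProper_projSpace_toSpec r R
  haveI : Flat f := Coherent.flat_toSpec r R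
  let res := Spec.map (CommRingCat.ofHom (IsLocalRing.residue R))
  let Pk := pullback f res
  haveI : LocallyOfFiniteType f := inferInstance
  haveI : IsLocallyNoetherian Pk := LocallyOfFiniteType.isLocallyNoetherian (pullback.snd f res)
  haveI : ∀ n, IsLocallyNoetherian (CohB1.thick f 𝔪 n) := fun n =>
    LocallyOfFiniteType.isLocallyNoetherian (pullback.snd f (CohB1.specQuot 𝔪 n))
  have hfl : ∀ n, Flat (CohB1.thickToBase f 𝔪 n) := fun n => inferInstanceAs (Flat (pullback.snd f _))
  let I₀ : Pk.IdealSheafData := ι₀.ker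
  let ψ : ∀ n, R ⧸ 𝔪 ^ (n + 1) →+* k := fun n => Ideal.Quotient.lift (𝔪 ^ (n + 1)) (IsLocalRing.residue R)
    fun a ha => by
      rw [← RingHom.mem_ker, IsLocalRing.ker_residue]
      exact Ideal.pow_le_self (Nat.succ_ne_zero n) ha
  have hψs : ∀ n, Function.Surjective (ψ n) := fun n c => by
    obtain ⟨a, rfl⟩ := IsLocalRing.residue_surjective c
    exact ⟨Ideal.Quotient.mk _ a, rfl⟩
  have hψk : ∀ n, RingHom.ker (ψ n) = 𝔪.map (Ideal.Quotient.mk (𝔪 ^ (n + 1))) := fun n =>
    (Ideal.ker_quotient_lift _ _).trans (congrArg (Ideal.map _) IsLocalRing.ker_residue)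
  have hres : ∀ n, Spec.map (CommRingCat.ofHom (ψ n)) ≫ CohB1.specQuot 𝔪 n = res := fun n => by
    rw [CohB1.specQuot, ← Spec.map_comp, ← CommRingCat.ofHom_comp]
    rfl
  let u : ∀ n, Pk ⟶ CohB1.thick f 𝔪 n := fun n =>
    pullback.lift (pullback.fst f res) (pullback.snd f res ≫ Spec.map (CommRingCat.ofHom (ψ n)))
      (by rw [Category.assoc, hres, pullback.condition])
  have hu : ∀ n, IsPullback (u n) (pullback.snd f res) (CohB1.thickToBase f 𝔪 n) (Spec.map (CommRingCat.ofHom (ψ n))) :=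
    fun n => by
      refine IsPullback.of_right ?_ (pullback.lift_snd _ _ _) (IsPullback.of_hasPullback f (CohB1.specQuot 𝔪 n))
      rw [pullback.lift_fst, hres]
      exact IsPullback.of_hasPullback f res
  have hutr : ∀ n, u n ≫ CohB1.thickTrans f 𝔪 n = u (n + 1) := fun n => by
    apply pullback.hom_ext
    · simp [u, CohB1.thickTrans]
    · simp only [u, CohB1.thickTrans, Category.assoc, pullback.lift_snd, pullback.lift_snd_assoc]
      rw [CohB1.specQuotTrans, ← Spec.map_comp, ← CommRingCat.ofHom_comp]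
      congr 3
      exact Ideal.Quotient.ringHom_ext (RingHom.ext fun a => rfl)
  have hreg : ∀ θ : Coh.structureModule Pk ≅ Coh.structureModule Pk, LciLift29.GoodQuot (Quot8.qI θ I₀) := fun θ => by
    refine LciLift29.GoodQuot.of_lci (LciLift29.lciQuot_push I₀.subschemeι ?_ θ (Quot8.qI θ I₀))
    have he : inv ι₀.toImage ≫ ι₀ = I₀.subschemeι := (IsIso.inv_comp_eq _).2 ι₀.toImage_imageι.symm
    rw [← he]
    exact (LciLift29.stkReg_of_regular hι₀).precomp_iso _
  let Φ : ℕ → Type u := fun n => { I : (CohB1.thick f 𝔪 n).IdealSheafData //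
    Flat (I.subschemeι ≫ CohB1.thickToBase f 𝔪 n) ∧ I.comap (u n) = I₀ }
  have hzero : Nonempty (Φ 0) := by
    haveI : IsIso (Spec.map (CommRingCat.ofHom (ψ 0))) := by
      haveI : IsIso (CommRingCat.ofHom (ψ 0)) := by
        refine (ConcreteCategory.isIso_iff_bijective _).2 ⟨(RingHom.injective_iff_ker_eq_bot _).2 ?_, hψs 0⟩
        show RingHom.ker (ψ 0) = ⊥
        rw [hψk, Ideal.map_eq_bot_iff_le_ker, Ideal.mk_ker, zero_add, pow_one]
      infer_instance
    haveI : IsIso (u 0) := (hu 0).isIso_fst_of_isIso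
    refine ⟨⟨I₀.comap (inv (u 0)), ?_, ?_⟩⟩
    · let ρ := Spec.map (CommRingCat.ofHom (ψ 0))
      rw [← Category.comp_id (CohB1.thickToBase f 𝔪 0), ← IsIso.inv_hom_id ρ, ← Category.assoc, ← Category.assoc]
      haveI := BddFibLib29.flat_toSpecField k (((I₀.comap (inv (u 0))).subschemeι ≫ CohB1.thickToBase f 𝔪 0) ≫ inv ρ)
      infer_instance
    · rw [← Scheme.IdealSheafData.comap_comp, IsIso.hom_inv_id, Scheme.IdealSheafData.comap_id]
  have hstep : ∀ n, ∀ I : Φ n, ∃ J : Φ (n + 1), J.1.comap (CohB1.thickTrans f 𝔪 n) = I.1 := fun n I => by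
    obtain ⟨ϖ, hϖ⟩ := IsDiscreteValuationRing.exists_irreducible R
    have hm : 𝔪 = Ideal.span {ϖ} := hϖ.maximalIdeal_eq
    let Q := R ⧸ 𝔪 ^ (n + 1 + 1)
    let mk : R →+* Q := Ideal.Quotient.mk _
    let φ : Q →+* R ⧸ 𝔪 ^ (n + 1) := Ideal.Quotient.factor (Ideal.pow_le_pow_right (Nat.le_succ (n + 1)))
    have hloc : ∀ m, IsLocalRing (R ⧸ 𝔪 ^ (m + 1)) ∧ IsArtinianRing (R ⧸ 𝔪 ^ (m + 1)) := fun m => by
      haveI : Nontrivial (R ⧸ 𝔪 ^ (m + 1)) := Ideal.Quotient.nontrivial_iff.2 fun h =>
        (IsLocalRing.maximalIdeal.isMaximal R).ne_top (top_le_iff.1 (h ▸ Ideal.pow_le_self (Nat.succ_ne_zero _)))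
      haveI := IsLocalRing.of_surjective' (Ideal.Quotient.mk (𝔪 ^ (m + 1))) Ideal.Quotient.mk_surjective
      refine ⟨inferInstance, (isArtinianRing_iff_isNilpotent_maximalIdeal _).2 ⟨m + 1, ?_⟩⟩
      rw [← IsLocalRing.map_maximalIdeal_of_surjective _ (Ideal.Quotient.mk_surjective (I := 𝔪 ^ (m + 1))),
        ← Ideal.map_pow, Ideal.map_quotient_self]
      rfl
    haveI := (hloc n).1
    haveI := (hloc n).2
    haveI := (hloc (n + 1)).1
    haveI := (hloc (n + 1)).2
    have hmax : IsLocalRing.maximalIdeal Q = 𝔪.map mk :=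
      (IsLocalRing.map_maximalIdeal_of_surjective _ Ideal.Quotient.mk_surjective).symm
    let t : Q := mk (ϖ ^ (n + 1))
    have ht : RingHom.ker φ = Ideal.span {t} := by
      rw [Ideal.Quotient.factor_ker]
      refine (congrArg (Ideal.map (Ideal.Quotient.mk (𝔪 ^ (n + 1 + 1)))) (?_ : 𝔪 ^ (n + 1) = Ideal.span {ϖ ^ (n + 1)})).trans ?_
      · rw [hm, Ideal.span_singleton_pow]
      · rw [Ideal.map_span, Set.image_singleton]
    have ht0 : t ≠ 0 := fun h => by
      have h1 : ϖ ^ (n + 1) ∈ 𝔪 ^ (n + 1 + 1) := Ideal.Quotient.eq_zero_iff_mem.1 h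
      rw [hm, Ideal.span_singleton_pow, Ideal.mem_span_singleton] at h1
      have h2 := (pow_dvd_pow_iff hϖ.ne_zero hϖ.not_isUnit).1 h1
      omega
    have htm : t ∈ IsLocalRing.maximalIdeal Q := by
      rw [hmax]
      exact Ideal.mem_map_of_mem _ (by rw [hm, Ideal.mem_span_singleton]; exact dvd_pow_self ϖ (Nat.succ_ne_zero n))
    have hmt : ∀ a ∈ IsLocalRing.maximalIdeal Q, a * t = 0 := fun a ha => by
      rw [hmax, Ideal.mem_map_iff_of_surjective _ Ideal.Quotient.mk_surjective] at ha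
      obtain ⟨b, hb, rfl⟩ := ha
      show mk b * mk (ϖ ^ (n + 1)) = 0
      rw [← map_mul, Ideal.Quotient.eq_zero_iff_mem, pow_succ' 𝔪]
      exact Ideal.mul_mem_mul hb (Ideal.pow_mem_pow (by rw [hm]; exact Ideal.mem_span_singleton_self ϖ) _)
    have hker : RingHom.ker ((ψ n).comp φ) = IsLocalRing.maximalIdeal Q := by
      rw [hmax, ← hψk (n + 1)]
      congr 1
      exact Ideal.Quotient.ringHom_ext (RingHom.ext fun a => rfl)
    haveI := hfl (n + 1)
    haveI := I.2.1
    obtain ⟨J, hJ, hJf⟩ := LciLift29.exists_flat_extension (φ := φ) (ψ₁ := ψ n) (CohB1.thickToBase f 𝔪 (n + 1))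
      (Ideal.Quotient.factor_surjective _) (hψs n) hker ht0 htm hmt ht
      (Coherent.Existence.isPullback_thickTrans f 𝔪 n) (hu n) I.1 I₀ I.2.2 hreg (qSplits_ideal ι₀ hN)
    exact ⟨⟨J, hJf, by rw [← hutr, Scheme.IdealSheafData.comap_comp, hJ, I.2.2]⟩, hJ⟩
  choose next hnext using hstep
  let I : ∀ n, Φ n := fun n => Nat.rec (motive := Φ) hzero.some next n
  choose t ht using fun n => Quot8.isPullback_of_ker_eq_comap (CohB1.thickTrans f 𝔪 n) (I (n + 1)).1
    (I n).1.subschemeι ((hnext n (I n)).trans (Scheme.IdealSheafData.ker_subschemeι _).symm)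
  haveI : IsProper (CohB1.thickToBase f 𝔪 0) := inferInstanceAs (IsProper (pullback.snd f _))
  obtain ⟨W, j, w, hj, hjf, -, hw⟩ := S0040.result R 𝔪 f (fun n => (I n).1.subscheme) (fun n => (I n).1.subschemeι) t
    (fun n => inferInstance) ht inferInstance
  haveI := hj
  haveI := hjf
  haveI : Flat (j ≫ f) := S11762.result R (j ≫ f) fun n => by
    have h := (hw n).paste_vert (IsPullback.of_hasPullback f (CohB1.specQuot 𝔪 n))
    haveI := (I n).2.1
    have h2 := h.isoPullback_inv_snd
    change _ = pullback.snd (j ≫ f) (CohB1.specQuot 𝔪 n) at h2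
    show Flat (pullback.snd (j ≫ f) (CohB1.specQuot 𝔪 n))
    rw [← h2]
    infer_instance
  obtain ⟨v, hv⟩ := Quot8.isPullback_of_ker_eq_comap (u 0) (I 0).1 ι₀ (I 0).2.2
  refine ⟨W, j, v ≫ w 0, hj, inferInstance, ?_⟩
  have h := hv.paste_horiz (hw 0)
  rwa [show u 0 ≫ CohB1.thickι f 𝔪 0 = pullback.fst f res from pullback.lift_fst _ _ _] at h

end Groth.Agent.S11475
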