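import Groth.Statements.S11479
import Groth.Agent.Clifford24.SubSheaf
import Groth.Agent.SGA3cLib.CentralDescent
import Groth.Agent.AbVarLib.GeomIntegralSmooth
import Groth.Agent.Clifford24.StableFamily

set_option autoImplicit false
universe u
open CategoryTheory CategoryTheory.Limits AlgebraicGeometry
open Curves

namespace Groth.Agent.S11479

/-- Let X be a nonsingular projective curve over an algebraically closed field k (smooth, proper,
integral, of dimension one), T a nonsingular integral curve over k and t₀ a k-point of T. Let E and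
E' be locally free sheaves of rank r on X ×_k T, and for a k-point t of T write E_t for the pullback
of E along the fibre inclusion X → X ×_k T at t. Suppose E_t ≅ E'_t for every k-point t ≠ t₀, and
that E_{t₀} and E'_{t₀} are both stable: every locally free subsheaf G of rank s, 0 < s < r,
satisfies deg G / s < deg / r (written cross-multiplied, degrees computed as χ(G) − s·χ(O_X)). Then
E_{t₀} ≅ E'_{t₀} (existence of an isomorphism). -/
theorem result (k : Type u) [Field k] [IsAlgClosed k] (X : Scheme.{u})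
    [X.Over (Spec (CommRingCat.of k))] (hX : Curve.IsSmoothProperCurve k X (X ↘ Spec (CommRingCat.of k)))
    (T : Scheme.{u}) [T.Over (Spec (CommRingCat.of k))] [IsIntegral T] [Smooth (T ↘ Spec (CommRingCat.of k))]
    (hT : topologicalKrullDim T = 1) (t₀ : Spec (CommRingCat.of k) ⟶ T) (ht₀ : t₀ ≫ (T ↘ Spec (CommRingCat.of k)) = 𝟙 _)
    (r : ℕ) (E E' : (pullback (X ↘ Spec (CommRingCat.of k)) (T ↘ Spec (CommRingCat.of k))).Modules)
    (hE : FlatMod.IsFinLocFreeOfRank r E) (hE' : FlatMod.IsFinLocFreeOfRank r E')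
    (hiso : ∀ (t : Spec (CommRingCat.of k) ⟶ T) (j : X ⟶ pullback (X ↘ Spec (CommRingCat.of k)) (T ↘ Spec (CommRingCat.of k))),
      t ≫ (T ↘ Spec (CommRingCat.of k)) = 𝟙 _ → t ≠ t₀ → j ≫ pullback.fst _ _ = 𝟙 X →
      j ≫ pullback.snd _ _ = (X ↘ Spec (CommRingCat.of k)) ≫ t →
      Nonempty ((Scheme.Modules.pullback j).obj E ≅ (Scheme.Modules.pullback j).obj E'))
    (j₀ : X ⟶ pullback (X ↘ Spec (CommRingCat.of k)) (T ↘ Spec (CommRingCat.of k)))
    (hj₀ : j₀ ≫ pullback.fst _ _ = 𝟙 X) (hj₀' : j₀ ≫ pullback.snd _ _ = (X ↘ Spec (CommRingCat.of k)) ≫ t₀)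
    (hst : (∀ (G : X.Modules) (s : ℕ) (ι : G ⟶ ((Scheme.Modules.pullback j₀).obj E)), Mono ι →
        FlatMod.IsFinLocFreeOfRank s G → 0 < s → s < r → Curv2.deg k X G s * (r : ℤ) < Curv2.deg k X ((Scheme.Modules.pullback j₀).obj E) r * (s : ℤ)))
    (hst' : (∀ (G : X.Modules) (s : ℕ) (ι : G ⟶ ((Scheme.Modules.pullback j₀).obj E')), Mono ι →
        FlatMod.IsFinLocFreeOfRank s G → 0 < s → s < r → Curv2.deg k X G s * (r : ℤ) < Curv2.deg k X ((Scheme.Modules.pullback j₀).obj E') r * (s : ℤ))) :
    Nonempty ((Scheme.Modules.pullback j₀).obj E ≅ (Scheme.Modules.pullback j₀).obj E') := by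
  haveI := hX.1
  haveI := hX.2.1
  haveI := hX.2.2.1
  haveI : IsLocallyNoetherian X := Groth.Agent.CurveRR24.isLocallyNoetherian_of_proper k (X := X)
  haveI : GeometricallyConnected (X ↘ Spec (CommRingCat.of k)) :=
    Groth.Agent.SGA3cLib.CentralDescent.geometricallyConnected_of_isAlgClosed _
  haveI : GeometricallyIntegral (X ↘ Spec (CommRingCat.of k)) :=
    Groth.Agent.AbVarLib.geometricallyIntegral_of_smooth _
  let q := T ↘ Spec (CommRingCat.of k)
  have e0 : Pic13.sliceAt k X q t₀ ht₀ = j₀ := by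
    refine pullback.hom_ext ?_ ?_
    · exact (pullback.lift_fst _ _ _).trans hj₀.symm
    · exact (pullback.lift_snd _ _ _).trans hj₀'.symm
  subst e0
  exact Groth.Agent.Clifford24.nonempty_iso_of_stable_family k q hX.2.2.2
    (Groth.Agent.Clifford24.isIntegrallyClosed_stalk_of_smooth k (X := X)) hT t₀ ht₀ r E E' hE hE'
    (fun t ht hne => hiso t _ ht hne (pullback.lift_fst _ _ _) (pullback.lift_snd _ _ _)) hst hst'

end Groth.Agent.S11479
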