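import Groth.Statements.S1148
import Mathlib.RingTheory.Ideal.GoingDown
import Mathlib.RingTheory.Spectrum.Prime.Topology
import Mathlib.RingTheory.Spectrum.Prime.Noetherian
import Mathlib.RingTheory.LocalRing.ResidueField.Fiber
import Mathlib.RingTheory.FiniteStability

set_option autoImplicit false
universe u
open Desc

namespace Groth.Agent.S1148

/-- Affine form (finiteness of irreducible components of quasi-compact opens is fppf local; this is the
ascent direction for a morphism of affine schemes). Let A → B be a flat ring map of finite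
presentation. If Spec A has finitely many irreducible components, then so does Spec B. -/
theorem result (A B : Type u) [CommRing A] [CommRing B] [Algebra A B]
    [Module.Flat A B] [Algebra.FinitePresentation A B] (h : (irreducibleComponents (PrimeSpectrum A)).Finite) :
    (irreducibleComponents (PrimeSpectrum B)).Finite := by
  rw [← Set.finite_coe_iff] at h
  haveI : Algebra.HasGoingDown A B := Algebra.HasGoingDown.of_flat
  have key : (minimalPrimes B).Finite := by
    have hA : (minimalPrimes A).Finite := by
      have := (PrimeSpectrum.zeroLocus_minimalPrimes A).symm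
      exact Set.finite_coe_iff.1 (Finite.of_equiv _ (minimalPrimes.equivIrreducibleComponents A).toEquiv.symm)
    have hsub : minimalPrimes B ⊆ ⋃ p ∈ minimalPrimes A, (p.map (algebraMap A B)).minimalPrimes := fun q hq => by
      haveI : q.IsPrime := hq.1.1
      refine Set.mem_biUnion (x := q.comap (algebraMap A B)) ⟨⟨inferInstance, bot_le⟩, fun p hp hle => ?_⟩ ⟨⟨inferInstance, Ideal.map_comap_le⟩, fun r hr hle => hq.2 ⟨hr.1, bot_le⟩ hle⟩
      haveI := hp.1
      haveI : q.LiesOver (q.comap (algebraMap A B)) := ⟨rfl⟩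
      obtain ⟨Q, hQq, hQ, hQp⟩ := Ideal.exists_ideal_le_liesOver_of_le q (p := p) (q := q.comap (algebraMap A B)) hle
      haveI := hQ
      have e : q ≤ Q := hq.2 ⟨hQ, bot_le⟩ hQq
      rw [hQp.over]
      exact Ideal.comap_mono e
    refine (hA.biUnion fun p hp => ?_).subset hsub
    haveI := hp.1.1
    let F := TensorProduct A p.ResidueField B
    haveI : IsNoetherianRing F := Algebra.FiniteType.isNoetherianRing p.ResidueField F
    let φ : B →+* F := (Algebra.TensorProduct.includeRight : B →ₐ[A] F).toRingHom
    refine ((minimalPrimes.finite_of_isNoetherianRing F).image (Ideal.comap φ)).subset fun q hq => ?_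
    haveI : q.IsPrime := hq.1.1
    have hqp : q.comap (algebraMap A B) = p := by
      refine le_antisymm ?_ (Ideal.map_le_iff_le_comap.1 hq.1.2)
      haveI : q.LiesOver (q.comap (algebraMap A B)) := ⟨rfl⟩
      obtain ⟨Q, hQq, hQ, hQp⟩ := Ideal.exists_ideal_le_liesOver_of_le q (p := p) (q := q.comap (algebraMap A B)) (Ideal.map_le_iff_le_comap.1 hq.1.2)
      have e : q ≤ Q := hq.2 ⟨hQ, Ideal.map_le_iff_le_comap.2 hQp.over.le⟩ hQq
      rw [hQp.over]
      exact Ideal.comap_mono e
    let i := PrimeSpectrum.preimageEquivFiber A B ⟨p, inferInstance⟩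
    obtain ⟨Q', hQ'⟩ : ∃ Q' : PrimeSpectrum F, Q'.asIdeal.comap φ = q :=
      ⟨i ⟨⟨q, inferInstance⟩, PrimeSpectrum.ext hqp⟩, congrArg (fun z => PrimeSpectrum.asIdeal z.1) (i.symm_apply_apply _)⟩
    obtain ⟨m, hm, hmle⟩ := Ideal.exists_minimalPrimes_le (bot_le : (⊥ : Ideal F) ≤ Q'.asIdeal)
    haveI := hm.1.1
    refine ⟨m, hm, le_antisymm ((Ideal.comap_mono hmle).trans hQ'.le) (hq.2 ⟨inferInstance, ?_⟩ ((Ideal.comap_mono hmle).trans hQ'.le))⟩
    rw [Ideal.map_le_iff_le_comap]
    intro a ha
    have e : φ (algebraMap A B a) = 0 := by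
      show (Algebra.TensorProduct.includeRight : B →ₐ[A] F) (algebraMap A B a) = 0
      rw [AlgHom.commutes, Algebra.TensorProduct.algebraMap_apply, Ideal.algebraMap_residueField_eq_zero.2 ha, TensorProduct.zero_tmul]
    show φ (algebraMap A B a) ∈ m
    rw [e]; exact zero_mem m
  rw [← Set.finite_coe_iff]
  haveI := key.to_subtype
  exact Finite.of_equiv _ (minimalPrimes.equivIrreducibleComponents B).toEquiv

end Groth.Agent.S1148
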