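import Groth.Statements.S11482
import Groth.Agent.Clifford24.RankTwoSub
import Groth.Agent.SGA3cLib.CentralDescent
import Groth.Agent.AbVarLib.GeomIntegralSmooth

set_option autoImplicit false
universe u
open CategoryTheory CategoryTheory.Limits AlgebraicGeometry
open Curves

namespace Groth.Agent.S11482

/-- Fix an algebraically closed field k and a nonsingular projective curve X over k of genus g (smooth,
proper, integral, of dimension one, g = dim H¹(X, O_X)) and E a locally free sheaf of rank 2 and
degree d (degree = χ(E) − 2χ(O_X)) that is indecomposable: in any decomposition E ≅ E₁ ⊕ E₂ one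
summand is zero. Then (a) every invertible subsheaf L ⊆ E has 2·deg L ≤ d + 2g − 2, and (b) there is
an invertible subsheaf L ⊆ E with d − 2g ≤ 2·deg L. (The published statement is that indecomposable
bundles of fixed rank and degree form a bounded family; this row states, in rank two, the degree
bounds for invertible subsheaves on which its proof rests.) -/
theorem result (k : Type u) [Field k] [IsAlgClosed k]
    (X : Scheme.{u}) [X.Over (Spec (CommRingCat.of k))] (hX : Curve.IsSmoothProperCurve k X (X ↘ Spec (CommRingCat.of k)))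
    (E : X.Modules) (hE : FlatMod.IsFinLocFreeOfRank 2 E)
    (hind : ∀ (E₁ E₂ : X.Modules), Nonempty (E ≅ E₁ ⊞ E₂) → IsZero E₁ ∨ IsZero E₂) :
    (∀ (L : X.Modules) (ι : L ⟶ E), PicF.IsInvertible L → Mono ι →
        2 * Curv2.deg k X L 1 ≤ Curv2.deg k X E 2 + 2 * (Curv2.genus k X : ℤ) - 2) ∧
      ∃ (L : X.Modules) (ι : L ⟶ E), PicF.IsInvertible L ∧ Mono ι ∧
        Curv2.deg k X E 2 - 2 * (Curv2.genus k X : ℤ) ≤ 2 * Curv2.deg k X L 1 := by
  classical
  obtain ⟨hp, hs, hint, hdim⟩ := hX
  haveI : GeometricallyConnected (X ↘ Spec (CommRingCat.of k)) :=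
    Groth.Agent.SGA3cLib.CentralDescent.geometricallyConnected_of_isAlgClosed _
  haveI : GeometricallyIntegral (X ↘ Spec (CommRingCat.of k)) :=
    Groth.Agent.AbVarLib.geometricallyIntegral_of_smooth _
  haveI := Groth.Agent.EulerLib.isNoetherian_of_proper k (X := X)
  obtain ⟨m, hmax, ⟨L₀, f₀, hL₀, hmono, hd₀⟩, h1, h2⟩ :=
    Groth.Agent.Clifford24.sub_line_bounds k hdim hE fun L₁ L₂ h₁ h₂ => ⟨fun i =>
      (hind L₁ L₂ ⟨i⟩).elim (Groth.Agent.Clifford24.not_isZero_of_isInvertible h₁)
        (Groth.Agent.Clifford24.not_isZero_of_isInvertible h₂)⟩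
  refine ⟨fun L ι hL hι => ?_, L₀, f₀, hL₀, hmono, by omega⟩
  have hne : ι ≠ 0 := fun h => Groth.Agent.Clifford24.not_isZero_of_isInvertible hL (IsZero.of_mono_eq_zero ι h)
  have := hmax L ι hL hne
  omega

end Groth.Agent.S11482
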