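import Groth.Statements.S11486
import Groth.Agent.SplitP.Apps

set_option autoImplicit false
universe u
open VBPn

namespace Groth.Agent.S11486

open CategoryTheory CategoryTheory.Limits AlgebraicGeometry in
/-- Let k be a characteristic-zero algebraically closed field and E a finite locally free O-module of
rank r on P^n_k. Then E splits as a direct sum of twisting sheaves O(a_1) ⊕ ⋯ ⊕ O(a_r) if and only
if H^i(P^n_k, E ⊗ O(d)) = 0 for every 0 < i < n and every integer d. -/
theorem result (k : Type u) [Field k] [IsAlgClosed k] [CharZero k]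
    (n r : ℕ) (E : (CohB1.ProjSpace n k).Modules) (hE : FlatMod.IsFinLocFreeOfRank r E) :
    (∃ a : Fin r → ℤ, Nonempty (E ≅ ∐ fun j : Fin r => Twist.twistProjSpace n k (a j))) ↔
      ∀ (i : ℕ) (d : ℤ), 0 < i → i < n →
        Subsingleton (Coh.HH (CohB1.ProjSpace n k) (CohB1.tensorMod E (Twist.twistProjSpace n k d)) i) := by
  haveI := Coherent.hasFiniteBiproducts (CohB1.ProjSpace n k)
  haveI := CurveLib.isIntegral_projSpace k n
  constructor
  · rintro ⟨a, ⟨e⟩⟩ i m h1 h2
    exact SplitP.subsingleton_HH_tw_sum a (e ≪≫ (biproduct.isoCoproduct _).symm) m i fun j =>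
      Coherent.subsingleton_HH_twist (n := n) (R := k) (d := a j + m) i (fun h => by omega) (fun h => by omega)
  · intro hmid
    rcases Nat.eq_zero_or_pos n with rfl | hn
    · exact ⟨fun _ => 0, SplitP.split_zero hE⟩
    haveI : IsLocallyNoetherian (CohB1.ProjSpace n k) :=
      haveI := Coherent.isProper_projSpace_toSpec n k
      LocallyOfFiniteType.isLocallyNoetherian (CohB1.ProjSpace.toSpec n k)
    have hC := SplitP1.isCoh_of_rank hE
    obtain ⟨m₀, hlow⟩ := SplitP.exists_vanishing_zero hn hC (VarietyLib.isFinLocFree_of_rank hE)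
    obtain ⟨s, a, ⟨e⟩⟩ := SplitP.exists_split hn m₀ _ E hC hlow (fun m i h1 h2 => hmid i m h1 h2) le_rfl
    obtain rfl := SplitP.card_eq_rank hE a e (genericPoint _)
    exact ⟨a, ⟨e ≪≫ biproduct.isoCoproduct _⟩⟩

end Groth.Agent.S11486
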