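import Groth.Statements.S11489
import Groth.Agent.DetTriv22.Basic
import Groth.Agent.CurveLib.ProjLine
import Groth.Agent.SerreDual.Projective

set_option autoImplicit false
set_option linter.style.haveILetI false
universe u
open VBPn

namespace Groth.Agent.S11489

open CategoryTheory CategoryTheory.Limits AlgebraicGeometry in
/-- Let k be a characteristic-zero algebraically closed field and E a finite locally free O-module of
rank r on P^n_k. If E is globally generated (there is an epimorphism O^N → E for some N) and its
first Chern class vanishes, in the sense that an r-th exterior power det E of E is isomorphic to O,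
then E ≅ O^r. -/
theorem result (k : Type u) [Field k] [IsAlgClosed k] [CharZero k]
    (n r : ℕ) (E : (CohB1.ProjSpace n k).Modules) (hE : FlatMod.IsFinLocFreeOfRank r E)
    (hgen : ∃ (N : ℕ) (φ : FlatMod.freeMod (CohB1.ProjSpace n k) N ⟶ E), Epi φ)
    (hdet : ∃ L : (CohB1.ProjSpace n k).Modules, ExtPow.IsExtPow r E L ∧
      Nonempty (L ≅ Coh.structureModule (CohB1.ProjSpace n k))) :
    Nonempty (E ≅ FlatMod.freeMod (CohB1.ProjSpace n k) r) := by
  haveI := CurveLib.isIntegral_projSpace k n
  haveI : IsProper ((CohB1.ProjSpace n k) ↘ Spec (CommRingCat.of k)) := Coherent.isProper_projSpace_toSpec n k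
  obtain ⟨L, ⟨φ, hφ⟩, ⟨eL⟩⟩ := hdet
  obtain ⟨N, ψ, hψ⟩ := hgen
  exact DetTriv22.nonempty_iso_free φ hφ hE
    (isField_of_universallyClosed (K := k) ((CohB1.ProjSpace n k) ↘ Spec (CommRingCat.of k))) ψ eL

end Groth.Agent.S11489
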