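import Groth.Statements.S1149
import Groth.Agent.FEtHom10.Internal

set_option linter.style.haveILetI false
-- import your own Groth.Agent.* helpers here

set_option autoImplicit false
universe u
open Pi1
set_option backward.isDefEq.respectTransparency.types false

namespace Groth.Agent.S1149

open CategoryTheory MonoidalCategory CartesianMonoidalCategory in
open AlgebraicGeometry CategoryTheory CategoryTheory.Limits in
/-- Let U and V be finite etale over a scheme X. Then some W finite etale over X has the following
property: for every morphism g : T ⟶ X the X-morphisms T ⟶ W are in bijection with the T-morphisms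
U_T ⟶ V_T between the base changes. (The source's identification is moreover compatible with base
change; only the bijections are asserted here.) -/
theorem result {X : Scheme.{u}} (U V : FEt.Cat X) :
    ∃ W : FEt.Cat X, ∀ (T : Scheme.{u}) (g : T ⟶ X),
      Nonempty ({s : T ⟶ W.left // s ≫ W.hom = g} ≃ ((FEt.restrict g).obj U ⟶ (FEt.restrict g).obj V)) := by
  haveI : IsFinite U.toComma.hom := U.prop.1
  haveI : Etale U.toComma.hom := U.prop.2
  haveI : IsFinite V.toComma.hom := V.prop.1
  haveI : Etale V.toComma.hom := V.prop.2
  obtain ⟨M, ev, hMf, hMe, huniv⟩ := FEtHom10.exists_internalHom U.toComma V.toComma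
  refine ⟨MorphismProperty.Over.mk ⊤ M.hom ⟨hMf, hMe⟩, fun T g => ⟨?_⟩⟩
  let U₁ : Over X := U.toComma
  let V₁ : Over X := V.toComma
  let A : Over X := Over.mk g
  let e1 : {s : T ⟶ M.left // s ≫ M.hom = g} ≃ (A ⟶ M) :=
    { toFun := fun s => Over.homMk s.1 s.2
      invFun := fun v => ⟨v.left, Over.w v⟩
      left_inv := fun _ => rfl
      right_inv := fun _ => Over.OverMorphism.ext rfl }
  let e2 : (A ⟶ M) ≃ (U₁ ⊗ A ⟶ V₁) :=
    Equiv.ofBijective (fun v => (U₁ ◁ v) ≫ ev)
      ⟨fun v v' h => (huniv A _).unique rfl h.symm, fun φ => ⟨_, (huniv A φ).exists.choose_spec⟩⟩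
  let e3 : (U₁ ⊗ A ⟶ V₁) ≃ ((FEt.restrict g).obj U ⟶ (FEt.restrict g).obj V) :=
    { toFun := fun φ => MorphismProperty.Over.homMk
        (pullback.lift φ.left (pullback.snd U.hom g)
          ((Over.w φ).trans pullback.condition)) (pullback.lift_snd _ _ _)
      invFun := fun ψ => Over.homMk (ψ.left ≫ pullback.fst V.hom g) (by
        show (ψ.left ≫ _) ≫ V.hom = pullback.fst U.hom g ≫ U.hom
        exact ((Category.assoc _ _ _).trans ((congrArg (ψ.left ≫ ·)
          (pullback.condition (f := V.hom) (g := g))).trans (Category.assoc _ _ _).symm)).trans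
            ((congrArg (· ≫ g) (Over.w ψ.hom)).trans (pullback.condition (f := U.hom) (g := g)).symm))
      left_inv := fun φ => Over.OverMorphism.ext (pullback.lift_fst _ _ _)
      right_inv := fun ψ => by
        ext
        apply pullback.hom_ext
        · exact pullback.lift_fst _ _ _
        · exact (pullback.lift_snd _ _ _).trans (Over.w ψ.hom).symm }
  exact e1.trans (e2.trans e3)

end Groth.Agent.S1149
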