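import Groth.Statements.S11493
import Groth.Agent.VBPnLib.ExtRing

set_option autoImplicit false
universe u
open CategoryTheory
open VBPn

namespace Groth.Agent.S11493

/-- Let A be a Noetherian local ring and I an ideal with a free resolution of length 1, 0 → A^p → A^q →
I → 0 (equivalently: a surjection A^q → I with free kernel). Let 0 → A → M → I → 0 be an extension
with class e ∈ Ext^1(I, A). Then M is free if and only if e generates the A-module Ext^1(I, A); the
A-module structure being through End(A) = A, this says every element of Ext^1(I, A) is the composite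
of e with an endomorphism of A. -/
theorem result (A : Type u) [CommRing A] [IsNoetherianRing A] [IsLocalRing A]
    (I : Ideal A)
    (hres : ∃ (q : ℕ) (φ : (Fin q → A) →ₗ[A] ↥I), Function.Surjective φ ∧ Module.Free A ↥(LinearMap.ker φ))
    (S : ShortComplex (ModuleCat.{u} A)) (hS : S.ShortExact)
    (h₁ : Nonempty (S.X₁ ≅ ModuleCat.of A A)) (h₃ : Nonempty (S.X₃ ≅ ModuleCat.of A ↥I)) :
    Module.Free A S.X₂ ↔
      ∀ x : Abelian.Ext S.X₃ S.X₁ 1, ∃ f : S.X₁ ⟶ S.X₁, hS.extClass.comp (Abelian.Ext.mk₀ f) (add_zero 1) = x := by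
  obtain ⟨e₁⟩ := h₁
  obtain ⟨e₃⟩ := h₃
  haveI : Module.Projective A S.X₁ := Module.Projective.of_equiv e₁.toLinearEquiv.symm
  haveI hP₁ : Projective S.X₁ := (IsProjective.iff_projective (R := A) ↑S.X₁).1 inferInstance
  constructor
  · intro hfree x
    haveI : Projective S.X₂ := (IsProjective.iff_projective (R := A) ↑S.X₂).1 inferInstance
    obtain ⟨y, hy⟩ := Abelian.Ext.contravariant_sequence_exact₃ hS S.X₁ x
      (Abelian.Ext.eq_zero_of_projective _) (show 1 + 0 = 1 from rfl)
    obtain ⟨f, rfl⟩ := (Abelian.Ext.mk₀_bijective _ _).2 y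
    exact ⟨f, hy⟩
  · intro hgen
    have hext : ∀ y : Abelian.Ext S.X₂ S.X₁ 1, y = 0 := fun y => by
      obtain ⟨z, rfl⟩ := Abelian.Ext.contravariant_sequence_exact₂ hS S.X₁ y (Abelian.Ext.eq_zero_of_projective _)
      obtain ⟨f, rfl⟩ := hgen z
      rw [← Abelian.Ext.comp_assoc _ _ _ (zero_add 1) (add_zero 1) (show 0 + 1 + 0 = 1 from rfl),
        hS.comp_extClass, Abelian.Ext.zero_comp]
    have hext' : Subsingleton (Abelian.Ext (ModuleCat.of A S.X₂) (ModuleCat.of A A) (0 + 1)) := by
      refine subsingleton_of_forall_eq 0 fun y => ?_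
      have := hext (y.comp (Abelian.Ext.mk₀ e₁.inv) (add_zero 1))
      apply_fun (fun w => w.comp (Abelian.Ext.mk₀ e₁.hom) (add_zero 1)) at this
      simpa using this
    obtain ⟨q, φ, hφ, hker⟩ := hres
    have hI : CAlgH3.PD A 2 ↥I := (CAlgH3.pd_ker_iff hφ 0).2 (CAlgH3.pd_one_iff.2 inferInstance)
    have h3 : CAlgH3.PD A 2 S.X₃ := (CAlgH3.pd_congr e₃.toLinearEquiv).2 hI
    have h1 : CAlgH3.PD A 2 S.X₁ := CAlgH3.pd_mono one_le_two (CAlgH3.pd_one_iff.2 inferInstance)
    have h2 : CAlgH3.PD A 2 S.X₂ := hS.hasProjectiveDimensionLT_X₂ 2 h1 h3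
    haveI : Module.Finite A S.X₁ := Module.Finite.equiv e₁.toLinearEquiv.symm
    haveI : Module.Finite A S.X₃ := Module.Finite.equiv e₃.toLinearEquiv.symm
    haveI : Module.Finite A S.X₂ := Module.Finite.of_exact (LinearMap.exact_iff.2 hS.exact.moduleCat_range_eq_ker.symm) hS.moduleCat_surjective_g
    haveI : Module.Projective A S.X₂ := CAlgH3.pd_one_iff.1 (VBPnLib.pd_step 0 S.X₂ h2 hext')
    exact Module.free_of_flat_of_isLocalRing

end Groth.Agent.S11493
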