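import Groth.Statements.S11497
import Mathlib.Algebra.Homology.DerivedCategory.Ext.ExactSequences
import Mathlib.Algebra.Homology.ShortComplex.ShortExact

set_option autoImplicit false
universe w v u
open CategoryTheory
open VBPn

namespace Groth.Agent.S11497

/-- In an abelian category, let M : A → B → C and M' : A' → B' → C' be monads, i.e. short complexes
whose first map is a monomorphism and whose second map is an epimorphism, with cohomology (homology)
objects E and E'. Suppose Hom(B, A') = 0, Hom(C, B') = 0 and Ext^1(C, A') = Ext^1(B, A') = Ext^1(C,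
B') = Ext^2(C, A') = 0. Then the map sending a morphism of monads M → M' to the induced morphism E →
E' is bijective. The published statement is for monads of vector bundles on a complex manifold X,
with Ext^i(C, A') written H^i(X, C^* ⊗ A'); this row is stated in any abelian category. -/
theorem result {C : Type u} [Category.{v} C] [Abelian C] [HasExt.{w} C]
    (M M' : ShortComplex C) [Mono M.f] [Epi M.g] [Mono M'.f] [Epi M'.g]
    (hBA : ∀ f : M.X₂ ⟶ M'.X₁, f = 0) (hCB : ∀ f : M.X₃ ⟶ M'.X₂, f = 0)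
    (hCA₁ : Subsingleton (Abelian.Ext M.X₃ M'.X₁ 1)) (hBA₁ : Subsingleton (Abelian.Ext M.X₂ M'.X₁ 1))
    (hCB₁ : Subsingleton (Abelian.Ext M.X₃ M'.X₂ 1)) (hCA₂ : Subsingleton (Abelian.Ext M.X₃ M'.X₁ 2)) :
    Function.Bijective (fun φ : M ⟶ M' => ShortComplex.homologyMap φ) := by
  classical
  -- lifting and extension from the vanishing of `Ext¹`
  have lift₁ : ∀ {S : ShortComplex C} (hS : S.ShortExact) {X : C}, Subsingleton (Abelian.Ext X S.X₁ 1) →
      ∀ f : X ⟶ S.X₃, ∃ g : X ⟶ S.X₂, g ≫ S.g = f := by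
    intro S hS X _ f
    obtain ⟨x₂, hx₂⟩ := Abelian.Ext.covariant_sequence_exact₃ X hS (Abelian.Ext.mk₀ f) (zero_add 1) (Subsingleton.elim _ _)
    obtain ⟨g, rfl⟩ := (Abelian.Ext.mk₀_bijective X S.X₂).2 x₂
    rw [Abelian.Ext.mk₀_comp_mk₀] at hx₂
    exact ⟨g, (Abelian.Ext.mk₀_bijective X S.X₃).1 hx₂⟩
  have ext₁ : ∀ {S : ShortComplex C} (hS : S.ShortExact) {Y : C}, Subsingleton (Abelian.Ext S.X₃ Y 1) →
      ∀ f : S.X₁ ⟶ Y, ∃ g : S.X₂ ⟶ Y, S.f ≫ g = f := by
    intro S hS Y _ f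
    obtain ⟨x₂, hx₂⟩ := Abelian.Ext.contravariant_sequence_exact₁ hS Y (Abelian.Ext.mk₀ f) (add_zero 1) (Subsingleton.elim _ _)
    obtain ⟨g, rfl⟩ := (Abelian.Ext.mk₀_bijective S.X₂ Y).2 x₂
    rw [Abelian.Ext.mk₀_comp_mk₀] at hx₂
    exact ⟨g, (Abelian.Ext.mk₀_bijective S.X₁ Y).1 hx₂⟩
  -- the short exact sequences
  let S1 := ShortComplex.mk M.iCycles M.g M.iCycles_g
  have hS1 : S1.ShortExact :=
    { exact := ShortComplex.exact_of_f_is_kernel _ M.cyclesIsKernel
      mono_f := show Mono M.iCycles from inferInstance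
      epi_g := show Epi M.g from inferInstance }
  haveI : Mono M'.toCycles := mono_of_mono_fac M'.toCycles_i
  let S2 := ShortComplex.mk M'.toCycles M'.homologyπ M'.toCycles_comp_homologyπ
  have hS2 : S2.ShortExact :=
    { exact := ShortComplex.exact_of_g_is_cokernel _ M'.homologyIsCokernel
      mono_f := show Mono M'.toCycles from inferInstance
      epi_g := show Epi M'.homologyπ from inferInstance }
  have hKA₁ : Subsingleton (Abelian.Ext M.cycles M'.X₁ 1) := ⟨fun a b => by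
    rw [← sub_eq_zero]
    obtain ⟨x₂, hx₂⟩ := Abelian.Ext.contravariant_sequence_exact₁ hS1 M'.X₁ (a - b) (rfl : 1 + 1 = 2)
      (Subsingleton.elim (α := Abelian.Ext M.X₃ M'.X₁ 2) _ _)
    rw [← hx₂, Subsingleton.elim (α := Abelian.Ext M.X₂ M'.X₁ 1) x₂ 0, Abelian.Ext.comp_zero]⟩
  have hKA₀ : ∀ h : M.cycles ⟶ M'.X₁, h = 0 := fun h => by
    obtain ⟨g, hg⟩ := ext₁ hS1 hCA₁ h
    rw [← hg, hBA g, Limits.comp_zero]
  constructor
  · intro φ φ' he
    rw [← sub_eq_zero]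
    have hz : ShortComplex.homologyMap (φ - φ') = 0 := by
      rw [ShortComplex.homologyMap_sub]; exact sub_eq_zero.2 he
    generalize φ - φ' = ψ at hz
    have h1 : ShortComplex.cyclesMap ψ ≫ S2.g = 0 := by
      show ShortComplex.cyclesMap ψ ≫ M'.homologyπ = 0
      rw [← ShortComplex.homologyπ_naturality, hz, Limits.comp_zero]
    haveI := hS2.mono_f
    obtain ⟨h, hh⟩ := hS2.exact.lift' _ h1
    rw [hKA₀ h, Limits.zero_comp] at hh
    have h2 : M.iCycles ≫ ψ.τ₂ = 0 := by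
      rw [← ShortComplex.cyclesMap_i, ← hh, Limits.zero_comp]
    haveI := hS1.epi_g
    obtain ⟨c, hc⟩ := hS1.exact.desc' ψ.τ₂ h2
    have hc' : c = 0 := hCB c
    have hτ₂ : ψ.τ₂ = 0 := by rw [← hc, hc']; exact Limits.comp_zero
    refine ShortComplex.hom_ext _ _ ?_ hτ₂ ?_
    · rw [← cancel_mono M'.f, ψ.comm₁₂, hτ₂]
      exact Limits.comp_zero.trans Limits.zero_comp.symm
    · rw [← cancel_epi M.g, ← ψ.comm₂₃, hτ₂]
      exact Limits.zero_comp.trans Limits.comp_zero.symm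
  · intro ψ
    obtain ⟨k, hk⟩ := lift₁ hS2 (X := M.cycles) hKA₁ (M.homologyπ ≫ ψ)
    obtain ⟨φ₂, hφ₂⟩ := ext₁ hS1 hCB₁ (k ≫ M'.iCycles)
    change M.iCycles ≫ φ₂ = k ≫ M'.iCycles at hφ₂
    change k ≫ M'.homologyπ = M.homologyπ ≫ ψ at hk
    haveI := hS1.epi_g
    obtain ⟨φ₃, hφ₃⟩ := hS1.exact.desc' (φ₂ ≫ M'.g) (show M.iCycles ≫ φ₂ ≫ M'.g = 0 by
      rw [← Category.assoc, hφ₂, Category.assoc, ShortComplex.iCycles_g, Limits.comp_zero])
    haveI := hS2.mono_f
    obtain ⟨φ₁, hφ₁⟩ := hS2.exact.lift' (M.toCycles ≫ k) (show (M.toCycles ≫ k) ≫ M'.homologyπ = 0 by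
      rw [Category.assoc, hk, ← Category.assoc, ShortComplex.toCycles_comp_homologyπ, Limits.zero_comp])
    change φ₁ ≫ M'.toCycles = M.toCycles ≫ k at hφ₁
    change M.g ≫ φ₃ = φ₂ ≫ M'.g at hφ₃
    let Φ : M ⟶ M' := ShortComplex.Hom.mk φ₁ φ₂ φ₃ (by
      rw [← M'.toCycles_i, ← Category.assoc, hφ₁, Category.assoc, ← hφ₂, ← Category.assoc, ShortComplex.toCycles_i]) hφ₃.symm
    refine ⟨Φ, ?_⟩
    show ShortComplex.homologyMap Φ = ψ
    have hcyc : ShortComplex.cyclesMap Φ = k := by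
      rw [← cancel_mono M'.iCycles, ShortComplex.cyclesMap_i]; exact hφ₂
    rw [← cancel_epi M.homologyπ, ShortComplex.homologyπ_naturality, hcyc, hk]

end Groth.Agent.S11497
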