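import Groth.Statements.S11499
import Mathlib.RingTheory.Localization.BaseChange
import Mathlib.RingTheory.Localization.Integer
import Mathlib.LinearAlgebra.Dimension.Finrank
import Mathlib.Tactic

set_option autoImplicit false
universe u
open TensorProduct
open VBPn

namespace Groth.Agent.S11499

/-- Let A be an integral domain with fraction field K and M a finitely generated torsion-free A-module
of rank r (K ⊗_A M is r-dimensional over K). Then there is an injective A-linear map M → A^r. The
published statement is for torsion-free coherent sheaves on a complex manifold, locally near a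
point; this row is its statement for one stalk, over any domain. -/
theorem result (A : Type u) [CommRing A] [IsDomain A]
    (M : Type u) [AddCommGroup M] [Module A M] [Module.Finite A M] [NoZeroSMulDivisors A M] (r : ℕ)
    (hr : Module.finrank (FractionRing A) (FractionRing A ⊗[A] M) = r) :
    ∃ f : M →ₗ[A] (Fin r → A), Function.Injective f := by
  classical
  let K := FractionRing A
  let V := K ⊗[A] M
  let ι : M →ₗ[A] V := TensorProduct.mk A K M 1
  haveI : Module.IsTorsionFree A M := inferInstance
  have hι : Function.Injective ι := by
    rw [injective_iff_map_eq_zero]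
    intro x hx
    have hloc : IsLocalizedModule (nonZeroDivisors A) ι :=
      (isLocalizedModule_iff_isBaseChange (nonZeroDivisors A) K ι).2 (TensorProduct.isBaseChange A M K)
    obtain ⟨s, hs⟩ := (IsLocalizedModule.eq_zero_iff (nonZeroDivisors A) ι).1 hx
    exact (smul_eq_zero.1 hs).resolve_left (nonZeroDivisors.ne_zero s.2)
  let bK : Module.Basis (Fin r) K V := (Module.finBasis K V).reindex (finCongr hr)
  obtain ⟨s, hs⟩ := Module.Finite.fg_top (R := A) (M := M)
  obtain ⟨c, hc⟩ := IsLocalization.exist_integer_multiples (nonZeroDivisors A) (s ×ˢ (Finset.univ : Finset (Fin r)))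
    (fun p => bK.repr (ι p.1) p.2)
  let lin : M →ₗ[A] (Fin r → K) :=
    ((c : A) • (bK.equivFun.toLinearMap.restrictScalars A)).comp ι
  have hint : ∀ x i, lin x i ∈ (IsScalarTower.toAlgHom A A K).range := by
    intro x
    induction (hs ▸ Submodule.mem_top : x ∈ Submodule.span A (s : Set M)) using Submodule.span_induction with
    | mem y hy => intro i; obtain ⟨a, ha⟩ := hc (y, i) (Finset.mem_product.2 ⟨hy, Finset.mem_univ i⟩); exact ⟨a, ha⟩
    | zero => intro i; simp
    | add y z _ _ hy hz => intro i; rw [map_add, Pi.add_apply]; exact add_mem (hy i) (hz i)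
    | smul a y _ hy => intro i; rw [map_smul, Pi.smul_apply]; exact Subalgebra.smul_mem _ (hy i) a
  choose g hg using hint
  have hg' : ∀ x i, algebraMap A K (g x i) = lin x i := hg
  have hcK : (algebraMap A K c) ≠ 0 := IsFractionRing.to_map_ne_zero_of_mem_nonZeroDivisors c.2
  refine ⟨{ toFun := g, map_add' := fun x y => funext fun i => IsFractionRing.injective A K ?_,
            map_smul' := fun a x => funext fun i => IsFractionRing.injective A K ?_ }, fun x y hxy => hι ?_⟩
  · rw [Pi.add_apply, map_add, hg', hg', hg', map_add, Pi.add_apply]
  · rw [Pi.smul_apply, smul_eq_mul, map_mul, RingHom.id_apply, hg', hg', map_smul, Pi.smul_apply, Algebra.smul_def]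
  · apply bK.equivFun.injective
    funext i
    have h1 := congrArg (fun f => algebraMap A K (f i)) hxy
    simp only [LinearMap.coe_mk, AddHom.coe_mk, hg'] at h1
    simp only [lin, LinearMap.comp_apply, LinearMap.smul_apply, LinearMap.restrictScalars_apply,
      LinearEquiv.coe_coe, Pi.smul_apply, Algebra.smul_def] at h1
    exact mul_left_cancel₀ hcK h1

end Groth.Agent.S11499
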