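import Groth.Statements.S1150
import Groth.Agent.CAlgH3.ClopenSection
import Groth.Agent.CAlgH3.FEtClopenFF
import Groth.Agent.CAlgH3.FlatDepth
import Groth.Agent.CommAlg4.ComplAffineIrred
import Groth.Agent.MorProj.QuasiAff
import Groth.Agent.HodgeQ27.Restrict
import Groth.Agent.LocImm12.ZMT
import Groth.Agent.AlgSpLib.DimBasic
import Groth.Agent.CommAlg6.DimMaps
import Mathlib.AlgebraicGeometry.AlgClosed.Basic

set_option autoImplicit false
universe u
open Pi1

namespace Groth.Agent.S1150

section helpers

open AlgebraicGeometry CategoryTheory CategoryTheory.Limits TopologicalSpace Groth.Agent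

variable {k : Type u} [Field k] {X : Scheme.{u}} (f : X ⟶ Spec (CommRingCat.of k)) [IsProper f]
  {A : X.Opens} (hA : IsAffineOpen A)

include f hA in
theorem meets (x : X) (hx : ¬ IsClosed ({x} : Set X)) : ∃ y, x ⤳ y ∧ y ∉ A := by
  let Z : Closeds X := ⟨closure {x}, isClosed_closure⟩
  let I := Scheme.IdealSheafData.vanishingIdeal Z
  let q := I.subschemeι
  have hr : Set.range q = closure {x} := by
    rw [Scheme.IdealSheafData.range_subschemeι]; rfl
  haveI : IsProper (q ≫ f) := inferInstance
  have hdim : 0 < topologicalKrullDim I.subscheme := by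
    rw [DimLib.topologicalKrullDim_eq_krullDim, Order.krullDim_pos_iff]
    obtain ⟨w, hw, hwx⟩ : ∃ w, w ∈ closure ({x} : Set X) ∧ w ≠ x := by
      by_contra h
      push_neg at h
      exact hx (closure_subset_iff_isClosed.1 h)
    obtain ⟨a, ha⟩ := hr.ge (subset_closure rfl : x ∈ closure ({x} : Set X))
    obtain ⟨b, hb⟩ := hr.ge hw
    have hab : a ⤳ b := q.isClosedEmbedding.isInducing.specializes_iff.1
      (by rw [ha, hb]; exact specializes_iff_mem_closure.2 hw)
    have hne : a ≠ b := fun h => hwx (by rw [← hb, ← h, ha])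
    exact ⟨b, a, lt_of_le_not_ge (show b ≤ a from hab) (fun h => hne (Specializes.antisymm hab h).eq)⟩
  obtain ⟨p, hp⟩ := CommAlg4.compl_affine_nonempty (q ≫ f) (hA.preimage q) hdim
  exact ⟨q p, specializes_iff_mem_closure.2 (hr.le ⟨p, rfl⟩), hp⟩

variable {V : X.Opens}

theorem minimal_of_minimal {Z : Scheme.{u}} (g : Z ⟶ V.toScheme) [Flat g] {η : Z} (hη : ∀ a, a ⤳ η → a = η) :
    ∀ y : X, y ⤳ (g η).1 → y = (g η).1 := by
  intro y hy
  have hyV : y ∈ V := hy.mem_open V.isOpen (g η).2
  obtain ⟨a, ha, hga⟩ := Flat.generalizingMap g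
    (show (⟨y, hyV⟩ : V.toScheme) ⤳ g η from Topology.IsInducing.subtypeVal.specializes_iff.1 hy)
  rw [hη a ha] at hga
  exact (congrArg Subtype.val hga).symm

theorem depth_eq_zero_of_minimal [IsLocallyNoetherian X] {x : X} (hx : ∀ y, y ⤳ x → y = x) :
    LocCoh.depth (X.presheaf.stalk x) (X.presheaf.stalk x) = 0 := by
  haveI : Subsingleton (PrimeSpectrum (X.presheaf.stalk x)) := ⟨fun p q =>
    (X.fromSpecStalk x).isEmbedding.injective ((hx _ (Scheme.range_fromSpecStalk.le ⟨p, rfl⟩)).trans
      (hx _ (Scheme.range_fromSpecStalk.le ⟨q, rfl⟩)).symm)⟩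
  have h0 : ringKrullDim (X.presheaf.stalk x) ≤ 0 := Order.krullDim_nonpos_of_subsingleton
  have h1 := CAlgH3.depth_le_supportDim (R := X.presheaf.stalk x) (M := X.presheaf.stalk x)
  rw [Module.supportDim_self_eq_ringKrullDim] at h1
  have h2 := h1.trans h0
  exact le_antisymm (WithBot.coe_le_coe.1 h2) bot_le

variable (hd : ∀ x : X, x ∈ A → (1 : WithBot ℕ∞) <
  (LocCoh.depth (X.presheaf.stalk x) (X.presheaf.stalk x) : WithBot ℕ∞) + topologicalKrullDim (closure ({x} : Set X)))
  (hAV : ∀ x, x ∉ A → x ∈ V)

include f hA hd hAV in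
theorem existsUnique_clopen {P : Scheme.{u}} (i : P ⟶ V.toScheme) [IsClosedImmersion i]
    (hi : Set.range i = {v : V.toScheme | v.1 ∉ A}) {Z : Scheme.{u}} (g : Z ⟶ V.toScheme) [IsFinite g] [Etale g]
    (W : Set ↥(pullback g i)) (hW : IsClopen W) :
    ∃! W' : Set ↥Z, IsClopen W' ∧ (pullback.fst g i).base ⁻¹' W' = W := by
  haveI : IsLocallyNoetherian X := LocallyOfFiniteType.isLocallyNoetherian f
  haveI : CompactSpace X := QuasiCompact.compactSpace_of_compactSpace f
  haveI : IsNoetherian X := {}
  haveI : IsLocallyNoetherian Z := LocallyOfFiniteType.isLocallyNoetherian (g ≫ V.ι)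
  haveI : CompactSpace Z := QuasiCompact.compactSpace_of_compactSpace (g ≫ V.ι)
  haveI : IsNoetherian Z := {}
  haveI : JacobsonSpace X := LocallyOfFiniteType.jacobsonSpace f
  haveI : IsClosedImmersion (pullback.fst g i) := MorphismProperty.pullback_fst _ _ ‹IsClosedImmersion i›
  have hr : Set.range (pullback.fst g i) = {z : Z | (g z).1 ∉ A} := by
    rw [Scheme.Pullback.range_fst, hi]; rfl
  refine CAlgH3.ClopenSection.existsUnique_clopen _ ?_ ?_ ?_ W hW
  · intro C hC
    have hg := hC.1.isGenericPoint_genericPoint (isClosed_of_mem_irreducibleComponents C hC)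
    by_cases hη : hC.1.genericPoint ∈ Set.range (pullback.fst g i)
    · have : C ⊆ Set.range (pullback.fst g i) := fun z hz =>
        (hg.specializes hz).mem_closed (pullback.fst g i).isClosedEmbedding.isClosed_range hη
      rw [Set.inter_eq_left.2 this]
      exact hC.1.isConnected
    let η := hC.1.genericPoint
    let x : X := (g η).1
    have hxA : x ∈ A := by
      by_contra h
      exact hη (hr.ge h)
    have hηmin : ∀ a, a ⤳ η → a = η := fun a ha => by
      have h1 : C ⊆ closure {a} := hg.def ▸ closure_minimal (Set.singleton_subset_iff.2 ha.mem_closure) isClosed_closure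
      have h2 : closure {a} = C := Set.Subset.antisymm (hC.2 isIrreducible_singleton.closure h1) h1
      exact (show IsGenericPoint a C from h2).eq hg
    have hx2 : (2 : WithBot ℕ∞) ≤ topologicalKrullDim (closure ({x} : Set X)) := by
      have h := hd x hxA
      rw [depth_eq_zero_of_minimal (minimal_of_minimal g hηmin)] at h
      generalize topologicalKrullDim ↥(closure ({x} : Set X)) = D at h ⊢
      rw [WithBot.coe_zero, zero_add] at h
      induction D using WithBot.recBotCoe with
      | bot => exact absurd h not_lt_bot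
      | coe D =>
        have h' : (1 : ℕ∞) < D := by exact_mod_cast h
        have h5 : (2 : ℕ∞) ≤ D := by simpa [one_add_one_eq_two] using Order.add_one_le_of_lt h'
        show ((2 : ℕ∞) : WithBot ℕ∞) ≤ (D : WithBot ℕ∞)
        exact WithBot.coe_le_coe.2 h5
    obtain ⟨T, jT, π, hj, -, hπ, hjπ⟩ := LocImm12.exists_openImmersion_finite (g ≫ V.ι)
    haveI := hj
    haveI := hπ
    let Cb : Closeds T := ⟨closure {jT η}, isClosed_closure⟩
    let I := Scheme.IdealSheafData.vanishingIdeal Cb
    let q := I.subschemeι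
    have hqr : Set.range q = closure {jT η} := by
      rw [Scheme.IdealSheafData.range_subschemeι]; rfl
    haveI : IsProper (q ≫ π ≫ f) := inferInstance
    haveI : IrreducibleSpace I.subscheme := by
      obtain ⟨a, ha⟩ := hqr.ge (subset_closure rfl : jT η ∈ closure {jT η})
      exact
        { isPreirreducible_univ := by
            have h : IsIrreducible (Set.range q) := hqr ▸ isIrreducible_singleton.closure
            rw [← Set.image_univ] at h
            rintro u v hu hv ⟨a', -, hau⟩ ⟨b', -, hbv⟩
            refine ⟨a, trivial, ?_, ?_⟩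
            · exact (q.isClosedEmbedding.isInducing.specializes_iff.1 (show q a ⤳ q a' by
                rw [ha]; exact specializes_iff_mem_closure.2 (hqr.le ⟨a', rfl⟩))).mem_open hu hau
            · exact (q.isClosedEmbedding.isInducing.specializes_iff.1 (show q a ⤳ q b' by
                rw [ha]; exact specializes_iff_mem_closure.2 (hqr.le ⟨b', rfl⟩))).mem_open hv hbv
          toNonempty := ⟨a⟩ }
    have hπη : π (jT η) = x := by
      rw [← Scheme.Hom.comp_apply, hjπ]; rfl
    have hdimQ : (2 : WithBot ℕ∞) ≤ topologicalKrullDim I.subscheme := by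
      refine hx2.trans ?_
      have hmem : ∀ a, (q ≫ π) a ∈ closure ({x} : Set X) := fun a =>
        hπη ▸ specializes_iff_mem_closure.1 ((specializes_iff_mem_closure.2 (hqr.le ⟨a, rfl⟩)).map π.continuous)
      let φ : I.subscheme → closure ({x} : Set X) := fun a => ⟨(q ≫ π) a, hmem a⟩
      have hcl : ∀ s : Set I.subscheme, IsClosed s → IsClosed ((q ≫ π) '' s) := fun s hs =>
        (q ≫ π).isClosedMap _ hs
      haveI : T0Space (closure ({x} : Set X)) := inferInstance
      haveI : QuasiSober (closure ({x} : Set X)) := isClosed_closure.isClosedEmbedding_subtypeVal.quasiSober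
      refine CommAlg6.topologicalKrullDim_le_of_specializingMap (f := φ) (fun y => ?_) (fun a b hb => ?_)
      · obtain ⟨a, ha⟩ := hqr.ge (subset_closure rfl : jT η ∈ closure {jT η})
        have : y.1 ∈ (q ≫ π) '' Set.univ := by
          have hax : x ∈ (q ≫ π) '' Set.univ := ⟨a, trivial, by rw [Scheme.Hom.comp_apply, ha, hπη]⟩
          exact (closure_minimal (Set.singleton_subset_iff.2 hax) (hcl _ isClosed_univ)) y.2
        obtain ⟨b, -, hb⟩ := this
        exact ⟨b, Subtype.ext hb⟩
      · have hab : (φ a).1 ∈ (q ≫ π) '' closure {a} := ⟨a, subset_closure rfl, rfl⟩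
        have : b.1 ∈ (q ≫ π) '' closure {a} := (closure_minimal
          (Set.singleton_subset_iff.2 hab) (hcl _ isClosed_closure))
          (specializes_iff_mem_closure.1 ((Topology.IsInducing.subtypeVal.specializes_iff).2 hb))
        obtain ⟨c, hc, hcb⟩ := this
        exact ⟨c, specializes_iff_mem_closure.2 hc, Subtype.ext hcb⟩
    have hne : (((q ≫ π) ⁻¹ᵁ A : I.subscheme.Opens) : Set I.subscheme).Nonempty := by
      obtain ⟨a, ha⟩ := hqr.ge (subset_closure rfl : jT η ∈ closure {jT η})
      refine ⟨a, ?_⟩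
      show (q ≫ π) a ∈ A
      rw [Scheme.Hom.comp_apply, ha, hπη]; exact hxA
    have hcon := (CommAlg4.isConnected_compl_affine (q ≫ π ≫ f) (hA.preimage (q ≫ π)) hne hdimQ).image q
      q.continuous.continuousOn
    let l : Z ⟶ (π ⁻¹ᵁ V).toScheme := IsOpenImmersion.lift (π ⁻¹ᵁ V).ι jT (by
      rintro _ ⟨z, rfl⟩
      rw [Scheme.Opens.range_ι]
      show π (jT z) ∈ V
      rw [← Scheme.Hom.comp_apply, hjπ]
      exact (g z).2)
    have hl : l ≫ (π ⁻¹ᵁ V).ι = jT := IsOpenImmersion.lift_fac _ _ _
    have hlg : l ≫ (π ∣_ V) = g := by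
      rw [← cancel_mono V.ι, Category.assoc, morphismRestrict_ι, ← Category.assoc, hl, hjπ]
    haveI : IsFinite (l ≫ (π ∣_ V)) := by rw [hlg]; infer_instance
    haveI : IsFinite l := IsFinite.of_comp l (π ∣_ V)
    have himg : q '' ((((q ≫ π) ⁻¹ᵁ A : I.subscheme.Opens) : Set I.subscheme)ᶜ) =
        jT '' (C ∩ Set.range (pullback.fst g i)) := by
      ext t
      constructor
      · rintro ⟨a, ha, rfl⟩
        have hπA : π (q a) ∉ A := ha
        have hsp : jT η ⤳ q a := specializes_iff_mem_closure.2 (hqr.le ⟨a, rfl⟩)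
        let w : (π ⁻¹ᵁ V).toScheme := ⟨q a, hAV _ hπA⟩
        have hlη : (l η).1 = jT η := by
          show (π ⁻¹ᵁ V).ι (l η) = _
          rw [← Scheme.Hom.comp_apply, hl]
        have hw : w ∈ l '' C := by
          refine (closure_minimal (Set.singleton_subset_iff.2 (Set.mem_image_of_mem l hg.mem))
            (l.isClosedMap _ (isClosed_of_mem_irreducibleComponents C hC))) ?_
          exact specializes_iff_mem_closure.1 (Topology.IsInducing.subtypeVal.specializes_iff.1 (hlη ▸ hsp))
        obtain ⟨z, hz, hzw⟩ := hw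
        have hz' : jT z = q a := by
          rw [← hl, Scheme.Hom.comp_apply, hzw]; rfl
        refine ⟨z, ⟨hz, hr.ge ?_⟩, hz'⟩
        show (g z).1 ∉ A
        rw [show (g z).1 = π (jT z) by rw [← Scheme.Hom.comp_apply, hjπ]; rfl, hz']
        exact hπA
      · rintro ⟨z, ⟨hz, hzr⟩, rfl⟩
        obtain ⟨a, ha⟩ := hqr.ge (specializes_iff_mem_closure.1 ((hg.specializes hz).map jT.continuous))
        refine ⟨a, ?_, ha⟩
        show ¬ (q ≫ π) a ∈ A
        rw [Scheme.Hom.comp_apply, ha, ← Scheme.Hom.comp_apply, hjπ]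
        exact hr.le hzr
    rw [himg] at hcon
    exact ⟨hcon.nonempty.of_image, (jT.isOpenEmbedding.isInducing.isPreconnected_image).1 hcon.2⟩
  · intro z hz hzc
    have hx : ¬ IsClosed ({(g z).1} : Set X) := by
      intro hcl
      apply hzc
      rw [← closure_subset_iff_isClosed]
      intro w hw
      by_contra hne
      have h1 : z ⤳ w := specializes_iff_mem_closure.2 hw
      have h2 : (g w) < (g z) := AlgSpLib.strictMono_of_isIntegralHom g
        (lt_of_le_not_ge (show w ≤ z from h1) (fun h => hne (Specializes.antisymm h1 h).eq.symm))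
      have h3 : (g w).1 = (g z).1 := hcl.closure_eq.le
        (specializes_iff_mem_closure.1 (Topology.IsInducing.subtypeVal.specializes_iff.2 h2.le))
      exact h2.ne (Subtype.ext h3)
    obtain ⟨y, hy, hyA⟩ := meets f hA (g z).1 hx
    obtain ⟨w, hw, hwy⟩ : (⟨y, hAV y hyA⟩ : V.toScheme) ∈ g '' closure {z} :=
      closure_minimal (Set.singleton_subset_iff.2 (Set.mem_image_of_mem g (subset_closure (Set.mem_singleton z)))) (g.isClosedMap _ isClosed_closure)
        (specializes_iff_mem_closure.1 (Topology.IsInducing.subtypeVal.specializes_iff.1 hy))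
    refine ⟨w, hw, hr.ge ?_⟩
    show (g w).1 ∉ A
    rw [hwy]; exact hyA
  · intro z hz hzc
    let x : X := (g z).1
    have hxA : x ∈ A := by
      by_contra h
      exact hz (hr.ge h)
    have hxc : IsClosed ({x} : Set X) := by
      refine isClosed_singleton_of_isLocallyClosed_singleton ?_
      have h1 : IsClosed ({g z} : Set V.toScheme) := by
        simpa using g.isClosedMap _ hzc
      have h2 := h1.isLocallyClosed.image Topology.IsInducing.subtypeVal
        (V.isOpen.isOpenEmbedding_subtypeVal.isOpen_range.isLocallyClosed)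
      simpa using h2
    have h := hd x hxA
    haveI : Subsingleton (closure ({x} : Set X)) := by
      rw [hxc.closure_eq]; infer_instance
    haveI : Subsingleton (IrreducibleCloseds (closure ({x} : Set X))) := ⟨fun a b => IrreducibleCloseds.ext
      ((Subsingleton.eq_univ_of_nonempty a.isIrreducible.nonempty).trans
        (Subsingleton.eq_univ_of_nonempty b.isIrreducible.nonempty).symm)⟩
    have h0 : topologicalKrullDim (closure ({x} : Set X)) ≤ 0 := Order.krullDim_nonpos_of_subsingleton
    have h2 : (2 : ℕ∞) ≤ LocCoh.depth (X.presheaf.stalk x) (X.presheaf.stalk x) := by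
      have h3 := h.trans_le ((add_le_add le_rfl h0).trans_eq (add_zero _))
      have h4 : (1 : ℕ∞) < LocCoh.depth (X.presheaf.stalk x) (X.presheaf.stalk x) := WithBot.coe_lt_coe.1 h3
      simpa [one_add_one_eq_two] using Order.add_one_le_of_lt h4
    replace h2 : (2 : ℕ∞) ≤ LocCoh.depth (V.toScheme.presheaf.stalk (g z)) (V.toScheme.presheaf.stalk (g z)) :=
      h2.trans_eq (CAlgH3.depth_ringEquiv (V.stalkIso (g z)).commRingCatIsoToRingEquiv).symm
    refine h2.trans ?_
    letI := (g.stalkMap z).hom.toAlgebra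
    haveI : IsLocalHom (algebraMap (V.toScheme.presheaf.stalk (g z)) (Z.presheaf.stalk z)) :=
      inferInstanceAs (IsLocalHom (g.stalkMap z).hom)
    haveI : Module.Flat (V.toScheme.presheaf.stalk (g z)) (Z.presheaf.stalk z) := Flat.stalkMap g z
    exact le_add_of_nonneg_right bot_le |>.trans CAlgH3.depth_add_depth_fibre_le_self

end helpers

open AlgebraicGeometry CategoryTheory CategoryTheory.Limits in
/-- Let X be a proper scheme over a field k, L an ample invertible O_X-module, s a global section of L
and Y = Z(s) its zero scheme. Assume depth(O_{X,x}) + dim(closure of x) > 1 for every point x of X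
not in Y. Then for every open subscheme V of X containing Y, restriction of finite etale covers from
V to Y (realised as Y ×_X V ⟶ V) is fully faithful; V = X is allowed. -/
theorem result (k : Type u) [Field k] (X : Scheme.{u})
    (f : X ⟶ Spec (CommRingCat.of k)) [IsProper f] (L : X.Modules) (hL : CohB1.IsAmple L)
    (s : Coh.structureModule X ⟶ L)
    (hd : ∀ x : X, x ∉ (PicF2.zeroScheme L s).support →
      (1 : WithBot ℕ∞) < (LocCoh.depth (X.presheaf.stalk x) (X.presheaf.stalk x) : WithBot ℕ∞) +
        topologicalKrullDim (closure ({x} : Set X)))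
    (V : X.Opens) (hV : ((PicF2.zeroScheme L s).support : Set X) ⊆ V) :
    (FEt.restrict (pullback.snd (PicF2.zeroScheme L s).subschemeι V.ι)).Full ∧
    (FEt.restrict (pullback.snd (PicF2.zeroScheme L s).subschemeι V.ι)).Faithful := by
  let A := Groth.Agent.AmpleLib.glocus L (Groth.Agent.Coherent.unitVal s ⊤)
  have hA : IsAffineOpen A := Groth.Agent.MorProj.isAffineOpen_glocus_of_universallyClosed f hL _
  have hsupp : ∀ x, x ∈ (PicF2.zeroScheme L s).support ↔ x ∉ A :=
    fun x => Groth.Agent.HodgeQ27.mem_support_zeroScheme_iff hL.1 s x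
  haveI : IsClosedImmersion (pullback.snd (PicF2.zeroScheme L s).subschemeι V.ι) :=
    MorphismProperty.pullback_snd _ _ inferInstance
  have hi : Set.range (pullback.snd (PicF2.zeroScheme L s).subschemeι V.ι) = {v : V.toScheme | v.1 ∉ A} := by
    rw [Scheme.Pullback.range_snd, Scheme.IdealSheafData.range_subschemeι]
    ext v
    exact hsupp v.1
  exact Groth.Agent.CAlgH3.FEtClopenFF.restrict_full_faithful_of_couple _
    (fun Z g hg hg' W hW => haveI := hg; haveI := hg'; existsUnique_clopen f hA
      (fun x hx => hd x (fun h => (hsupp x).1 h hx)) (fun x hx => hV ((hsupp x).2 hx)) _ hi g W hW)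

end Groth.Agent.S1150
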