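import Groth.Statements.S11503
import Groth.Agent.SplitP1.Split
import Groth.Agent.CurveLib.ProjLine
import Groth.Agent.ModStalk.Exact
import Groth.Agent.PicLib.FiniteSetTriv
import Groth.Agent.SerreDual.Projective

set_option autoImplicit false
set_option linter.style.haveILetI false
set_option backward.isDefEq.respectTransparency.types false
universe u
open VBPn

namespace Groth.Agent.S11503

open CategoryTheory CategoryTheory.Limits AlgebraicGeometry in
/-- Let k be a characteristic-zero algebraically closed field and E a finite locally free O-module of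
rank r > 1 on P^n_k. If E has a nonzero section (a nonzero morphism O → E) and its dual has a
nonzero section (a nonzero morphism E → O), then E is not simple: there is an endomorphism of E
which is not a homothety, i.e. whose underlying map of abelian sheaves is not multiplication by any
scalar c ∈ k. -/
theorem result (k : Type u) [Field k] [IsAlgClosed k] [CharZero k]
    (n r : ℕ) (hr : 1 < r) (E : (CohB1.ProjSpace n k).Modules) (hE : FlatMod.IsFinLocFreeOfRank r E)
    (s : Coh.structureModule (CohB1.ProjSpace n k) ⟶ E) (hs : s ≠ 0)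
    (t : E ⟶ Coh.structureModule (CohB1.ProjSpace n k)) (ht : t ≠ 0) :
    ∃ φ : E ⟶ E, ∀ c : k, (SheafOfModules.toSheaf (CohB1.ProjSpace n k).ringCatSheaf).map φ ≠
      Coh.smulAb E (Coh.toGlobal (CohB1.ProjSpace.toSpec n k) c) := by
  haveI := CurveLib.isIntegral_projSpace k n
  haveI : IsProper ((CohB1.ProjSpace n k) ↘ Spec (CommRingCat.of k)) := Coherent.isProper_projSpace_toSpec n k
  haveI : IsLocallyNoetherian (CohB1.ProjSpace n k) :=
    LocallyOfFiniteType.isLocallyNoetherian ((CohB1.ProjSpace n k) ↘ Spec (CommRingCat.of k))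
  have hfree : ∀ x, Module.Free ((CohB1.ProjSpace n k).presheaf.stalk x) (E.presheaf.stalk x) := fun x =>
    Module.Free.of_basis (SplitP1.nonempty_basis_stalk hE x).some
  haveI : Mono s := SplitP1.mono_of_ne_zero' (SplitP1.isCoh_of_rank hE) hfree
    AmpleLib.isInvertible_structureModule s hs
  refine ⟨t ≫ s, fun c hc => ?_⟩
  set ρ := Coh.toGlobal (CohB1.ProjSpace.toSpec n k) with hρ_def
  by_cases h0 : c = 0
  · subst h0
    refine ht ((cancel_mono s).1 (Eq.trans ?_ zero_comp.symm))
    refine (SheafOfModules.toSheaf (CohB1.ProjSpace n k).ringCatSheaf).map_injective (hc.trans ?_)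
    rw [map_zero]
    refine Eq.trans ?_ (CategoryTheory.Functor.map_zero (SheafOfModules.toSheaf (CohB1.ProjSpace n k).ringCatSheaf) _ _).symm
    ext U m
    rw [Coh.smulAb_app, map_zero, zero_smul]
    rfl
  haveI : IsIso (Coh.smulAb E (ρ c)) := ⟨Coh.smulAb E (ρ c⁻¹),
    by rw [← Coh.smulAb_mul, ← map_mul, inv_mul_cancel₀ h0, map_one, Coh.smulAb_one],
    by rw [← Coh.smulAb_mul, ← map_mul, mul_inv_cancel₀ h0, map_one, Coh.smulAb_one]⟩
  haveI : IsIso ((SheafOfModules.toSheaf (CohB1.ProjSpace n k).ringCatSheaf).map (t ≫ s)) := hc ▸ inferInstance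
  haveI : Mono (t ≫ s) := (SheafOfModules.toSheaf (CohB1.ProjSpace n k).ringCatSheaf).mono_of_mono_map inferInstance
  haveI : Mono t := mono_of_mono t s
  let x := genericPoint (CohB1.ProjSpace n k)
  let F := DerSch.stalkFunctor (CohB1.ProjSpace n k) x
  have hinj : Function.Injective (F.map t).hom := (ModuleCat.mono_iff_injective _).1 inferInstance
  obtain ⟨bE⟩ := SplitP1.nonempty_basis_stalk hE x
  obtain ⟨bO⟩ := SplitP1.nonempty_basis_stalk
    (PicLib.isFinLocFreeOfRank_one (AmpleLib.isInvertible_structureModule (X := CohB1.ProjSpace n k))) x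
  have h := card_le_of_injective ((CohB1.ProjSpace n k).presheaf.stalk x)
    (bO.equivFun.toLinearMap ∘ₗ (F.map t).hom ∘ₗ bE.equivFun.symm.toLinearMap)
    (bO.equivFun.injective.comp (hinj.comp bE.equivFun.symm.injective))
  simp only [Fintype.card_fin] at h
  omega

end Groth.Agent.S11503
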