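import Groth.Statements.S11508
import Groth.Agent.EulerPn5.SimpleNull

set_option autoImplicit false
universe u
open VBPn

namespace Groth.Agent.S11508

open CategoryTheory CategoryTheory.Limits AlgebraicGeometry in
/-- Let k be an algebraically closed field of characteristic zero and u : O(−1) → Ω^1 ⊗ O(1) a
monomorphism of O-modules on P^n_k whose cokernel M is finite locally free of rank n − 1, so that M
is the dual of a null-correlation bundle N = ker(T(−1) → O(1)). Then every endomorphism of M is a
homothety (its underlying map of abelian sheaves is multiplication by a scalar in k); equivalently N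
is simple. The published argument is for N itself; this row is its dual form. -/
theorem result (k : Type u) [Field k] [IsAlgClosed k] [CharZero k] (n : ℕ)
    (u : Twist.twistProjSpace n k (-1) ⟶
      CohB1.tensorMod (Omega.sheaf (CohB1.ProjSpace.toSpec n k)) (Twist.twistProjSpace n k 1))
    [Mono u] (hM : FlatMod.IsFinLocFreeOfRank (n - 1) (cokernel u)) (φ : cokernel u ⟶ cokernel u) :
    ∃ c : k, (SheafOfModules.toSheaf (CohB1.ProjSpace n k).ringCatSheaf).map φ =
      Coh.smulAb (cokernel u) (Coh.toGlobal (CohB1.ProjSpace.toSpec n k) c) := by
  obtain ⟨c, rfl⟩ := Groth.Agent.EulerPn5.cokernel_simple n u hM φ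
  refine ⟨c, ?_⟩
  rw [KLin.smul_def, Category.comp_id]
  rfl

end Groth.Agent.S11508
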