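import Groth.Statements.S11509
import Groth.Agent.EulerPn5.Dim

set_option autoImplicit false
universe u
open VBPn

namespace Groth.Agent.S11509

open CategoryTheory CategoryTheory.Limits AlgebraicGeometry in
/-- Let k be an algebraically closed field of characteristic zero and u : O(−1) → Ω^1 ⊗ O(1) a
monomorphism of O-modules on P^3_k whose cokernel M is finite locally free of rank 2 (M is the dual
N^* of a null-correlation bundle N, and N ≅ N^* as c_1(N) = 0). Then H^0(P^3_k, M) = 0. The
published statement says that the null-correlation bundle N is stable; this row states H^0(N^*) = 0,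
which is equivalent since N ≅ N^* and c_1(N) = 0. -/
theorem result (k : Type u) [Field k] [IsAlgClosed k] [CharZero k]
    (u : Twist.twistProjSpace 3 k (-1) ⟶
      CohB1.tensorMod (Omega.sheaf (CohB1.ProjSpace.toSpec 3 k)) (Twist.twistProjSpace 3 k 1))
    [Mono u] (hM : FlatMod.IsFinLocFreeOfRank 2 (cokernel u)) :
    Subsingleton (Coh.HH (CohB1.ProjSpace 3 k) (cokernel u) 0) := by
  open Groth.Agent Groth.Agent.CAlgH3 Groth.Agent.Coherent Groth.Agent.EulerLib in
  haveI : IsProper ((CohB1.ProjSpace 3 k) ↘ Spec (CommRingCat.of k)) := Coherent.isProper_projSpace_toSpec 3 k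
  let M := CohB1.tensorMod (Omega.sheaf (CohB1.ProjSpace.toSpec 3 k)) (Twist.twistProjSpace 3 k 1)
  have hMf : FlatMod.IsFinLocFree M :=
    ExtFilt28.isFinLocFree_tensor EulerPn5.isFinLocFree_omega (EulerPn5.isFinLocFree_twist 1)
  have h0 : ModCohSeq.V M 0 := by
    haveI := finCoh_of_isProper ((CohB1.ProjSpace 3 k) ↘ Spec (CommRingCat.of k)) M (CohBC.isCoh_of_isFinLocFree hMf) 0
    haveI := Module.Finite.equiv (HHBaseEquiv k M 0).symm
    refine Module.finrank_zero_iff (R := k).1 ?_
    exact EulerPn5.finrank_zero (n := 3) 1 1 (by omega) one_pos (KvbLam28.isExtPow_one _)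
  let S : ShortComplex (CohB1.ProjSpace 3 k).Modules := ShortComplex.mk u (cokernel.π u) (cokernel.condition u)
  have hS : S.ShortExact :=
    { exact := ShortComplex.exact_of_g_is_cokernel _ (cokernelIsCokernel u)
      mono_f := inferInstanceAs (Mono u)
      epi_g := inferInstanceAs (Epi (cokernel.π u)) }
  exact ModCohSeq.V_right hS h0 (EulerPn5.V_twist (by omega) (by omega))

end Groth.Agent.S11509
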