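import Groth.Statements.S11510
import Groth.Agent.EulerPn5.SplitPull
import Groth.Agent.EulerPn5.Dim

set_option autoImplicit false
universe u
open VBPn

namespace Groth.Agent.S11510

open CategoryTheory CategoryTheory.Limits AlgebraicGeometry in
/-- Let k be an algebraically closed field of characteristic zero, u : O(−1) → Ω^1 ⊗ O(1) a monomorphism
of O-modules on P^3_k with cokernel M finite locally free of rank 2 (the dual of a null-correlation
bundle N; N|H ≅ M|H as c_1 = 0), and i : P^2_k → P^3_k a closed immersion of k-schemes along which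
O(1) pulls back to O(1), the embedding of a plane H. Then H^0(P^2_k, i^*M ⊗ O(−1)) = 0 while
H^0(P^2_k, i^*M) ≠ 0. The published statement says N|H is semistable but not stable; for rank 2 with
c_1 = 0 this is the pair of conditions stated here. -/
theorem result (k : Type u) [Field k] [IsAlgClosed k] [CharZero k]
    (u : Twist.twistProjSpace 3 k (-1) ⟶
      CohB1.tensorMod (Omega.sheaf (CohB1.ProjSpace.toSpec 3 k)) (Twist.twistProjSpace 3 k 1))
    [Mono u] (hM : FlatMod.IsFinLocFreeOfRank 2 (cokernel u))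
    (i : CohB1.ProjSpace 2 k ⟶ CohB1.ProjSpace 3 k) [IsClosedImmersion i]
    (hi : i ≫ CohB1.ProjSpace.toSpec 3 k = CohB1.ProjSpace.toSpec 2 k)
    (hO : Nonempty ((Scheme.Modules.pullback i).obj (Twist.twistProjSpace 3 k 1) ≅ Twist.twistProjSpace 2 k 1)) :
    Subsingleton (Coh.HH (CohB1.ProjSpace 2 k)
        (CohB1.tensorMod ((Scheme.Modules.pullback i).obj (cokernel u)) (Twist.twistProjSpace 2 k (-1))) 0) ∧
      Nontrivial (Coh.HH (CohB1.ProjSpace 2 k) ((Scheme.Modules.pullback i).obj (cokernel u)) 0) := by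
  have hP : IsProper ((CohB1.ProjSpace 2 k) ↘ Spec (CommRingCat.of k)) := Groth.Agent.Coherent.isProper_projSpace_toSpec 2 k
  obtain ⟨r, hr, ⟨eΩ⟩⟩ := Groth.Agent.EulerPn5.exists_restrict_split i hO
  obtain rfl : r = 1 := by omega
  obtain ⟨a1⟩ := Groth.Agent.EulerPn5.nonempty_mpow_one (Twist.twistProjSpace 2 k (-1))
  obtain ⟨eN⟩ := Groth.Agent.EulerPn5.nonempty_pullback_twist_neg i hO
  obtain ⟨eO⟩ := hO
  let N : (CohB1.ProjSpace 2 k).Modules := Twist.twistProjSpace 2 k (-1)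
  let L : (CohB1.ProjSpace 2 k).Modules := Twist.twistProjSpace 2 k 1
  let P := (Scheme.Modules.pullback i).obj (Omega.sheaf (CohB1.ProjSpace.toSpec 3 k))
  let e : P ≅ Omega.sheaf (CohB1.ProjSpace.toSpec 2 k) ⊞ N := eΩ.trans (biprod.mapIso (Iso.refl _) a1)
  let W : ShortComplex (CohB1.ProjSpace 2 k).Modules :=
    ShortComplex.mk (biprod.inl ≫ e.inv) (e.hom ≫ (biprod.snd : Omega.sheaf (CohB1.ProjSpace.toSpec 2 k) ⊞ N ⟶ N))
      (by simp)
  have hW : W.ShortExact := ShortComplex.shortExact_of_iso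
    (ShortComplex.isoMk (S₁ := ShortComplex.mk (biprod.inl : _ ⟶ Omega.sheaf (CohB1.ProjSpace.toSpec 2 k) ⊞ N) biprod.snd biprod.inl_snd)
      (S₂ := W) (Iso.refl _) e.symm (Iso.refl _) (by simp [W]) (by simp [W]))
    (ShortComplex.Splitting.ofHasBinaryBiproduct (Omega.sheaf (CohB1.ProjSpace.toSpec 2 k)) N).shortExact
  have hLf : FlatMod.IsFinLocFree L := Groth.Agent.EulerPn5.isFinLocFree_twist 1
  have hNf : FlatMod.IsFinLocFree N := Groth.Agent.EulerPn5.isFinLocFree_twist (-1)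
  haveI := Groth.Agent.CAlgH3.LocFreeFactor.isQCoh_of_finLocFree hLf
  haveI := Groth.Agent.CAlgH3.LocFreeFactor.isQCoh_of_finLocFree hNf
  let S₀ := ShortComplex.mk u (cokernel.π u) (cokernel.condition u)
  have hS₀ : S₀.ShortExact :=
    { exact := ShortComplex.exact_of_g_is_cokernel _ (cokernelIsCokernel u)
      mono_f := inferInstanceAs (Mono u)
      epi_g := inferInstanceAs (Epi (cokernel.π u)) }
  have hS := Groth.Agent.KPull28.shortExact_pullback i hS₀ (Groth.Agent.LocFreeLib.isFinLocFree_of_rank hM)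
  let X := CohB1.tensorMod P L
  obtain ⟨eX⟩ := Groth.Agent.EulerPn5.nonempty_pullback_tensor i (Omega.sheaf (CohB1.ProjSpace.toSpec 3 k))
    (Twist.twistProjSpace 3 k 1) (Iso.refl P) eO
  refine ⟨?_, ?_⟩
  · obtain ⟨U, hU, e₁, e₂, e₃⟩ := Groth.Agent.VarietyLib.exists_tensorSeq hS N fun x => by
      haveI := Groth.Agent.Props12.free_stalk_of_isFinLocFree N hNf x
      infer_instance
    obtain ⟨a⟩ := Groth.Agent.EulerPn5.nonempty_tt (n := 2) (A := k) (show (-1 : ℤ) + -1 = -2 by norm_num)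
    obtain ⟨c⟩ := Groth.Agent.EulerPn5.nonempty_tt (n := 2) (A := k) (show (1 : ℤ) + -1 = 0 by norm_num)
    obtain ⟨as⟩ := Groth.Agent.EulerPn5.nonempty_assoc P L N
    obtain ⟨d⟩ := Groth.Agent.EulerPn5.nonempty_tensor_twist0 P
    obtain ⟨d'⟩ := Groth.Agent.EulerPn5.nonempty_tensor_twist0 (Omega.sheaf (CohB1.ProjSpace.toSpec 2 k))
    have h₁ : Groth.Agent.CAlgH3.ModCohSeq.V U.X₁ 1 := Groth.Agent.CAlgH3.ModCohSeq.V_of_iso
      ((eqToIso e₁).trans ((Groth.Agent.AmpleLib.tensorIso eN (Iso.refl N)).trans a)).symm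
      (Groth.Agent.EulerPn5.V_twist (by omega) (by omega))
    have hP0 : Groth.Agent.CAlgH3.ModCohSeq.V P 0 := Groth.Agent.CAlgH3.ModCohSeq.V_mid hW
      (Groth.Agent.CAlgH3.ModCohSeq.V_of_iso d' (Groth.Agent.EulerPn5.V_zero 1 (Groth.Agent.KvbLam28.isExtPow_one _) 0 (by omega)))
      (Groth.Agent.EulerPn5.V_twist (by omega) (by omega))
    have h₂ : Groth.Agent.CAlgH3.ModCohSeq.V U.X₂ 0 := Groth.Agent.CAlgH3.ModCohSeq.V_of_iso
      ((eqToIso e₂).trans ((Groth.Agent.AmpleLib.tensorIso eX (Iso.refl N)).trans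
        (as.trans
          ((Groth.Agent.AmpleLib.tensorIso (Iso.refl P) c).trans d)))).symm hP0
    exact Groth.Agent.CAlgH3.ModCohSeq.V_of_iso (eqToIso e₃) (Groth.Agent.CAlgH3.ModCohSeq.V_right hU h₂ h₁)
  · by_contra hnt
    rw [not_nontrivial_iff_subsingleton] at hnt
    have h₁ : Groth.Agent.CAlgH3.ModCohSeq.V ((Scheme.Modules.pullback i).obj (Twist.twistProjSpace 3 k (-1))) 0 :=
      Groth.Agent.CAlgH3.ModCohSeq.V_of_iso eN.symm (Groth.Agent.EulerPn5.V_twist (by omega) (by omega))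
    have hX : Groth.Agent.CAlgH3.ModCohSeq.V X 0 := Groth.Agent.CAlgH3.ModCohSeq.V_of_iso eX (Groth.Agent.CAlgH3.ModCohSeq.V_mid hS h₁ hnt)
    obtain ⟨U, hU, e₁, e₂, e₃⟩ := Groth.Agent.VarietyLib.exists_tensorSeq hW L fun x => by
      haveI := Groth.Agent.Props12.free_stalk_of_isFinLocFree L hLf x
      infer_instance
    obtain ⟨c⟩ := Groth.Agent.EulerPn5.nonempty_tt (n := 2) (A := k) (show (-1 : ℤ) + 1 = 0 by norm_num)
    have h₃ : Groth.Agent.CAlgH3.ModCohSeq.V (Twist.twistProjSpace 2 k 0) 0 := Groth.Agent.CAlgH3.ModCohSeq.V_of_iso ((eqToIso e₃).trans c)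
      (Groth.Agent.CAlgH3.ModCohSeq.V_right hU (Groth.Agent.CAlgH3.ModCohSeq.V_of_iso (eqToIso e₂).symm hX)
        (Groth.Agent.CAlgH3.ModCohSeq.V_of_iso (eqToIso e₁).symm
          (Groth.Agent.EulerPn5.V_pos one_pos 3 1 (by omega) (Groth.Agent.KvbLam28.isExtPow_one _) (0 + 1) Nat.one_pos)))
    haveI : Subsingleton (Coh.HH (CohB1.ProjSpace 2 k) (Twist.twistProjSpace 2 k 0) 0) := h₃
    have h := Groth.Agent.EulerPn5.finrank_twist (n := 2) (k := k) 0 (Or.inr le_rfl)
    rw [Module.finrank_zero_of_subsingleton] at h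
    simp at h

end Groth.Agent.S11510
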