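import Groth.Statements.S11517
import Groth.Agent.EulerPn5.SplitPull
import Groth.Agent.PnCanon5.Main

set_option autoImplicit false
universe u
open VBPn

namespace Groth.Agent.S11517

open CategoryTheory CategoryTheory.Limits AlgebraicGeometry in
/-- Let k be an algebraically closed field of characteristic zero, n ≥ 1, and i : P^1_k → P^n_k a closed
immersion of k-schemes along which O(1) pulls back to O(1), the embedding of a line L. Then
i^*Ω^1_{P^n_k} ≅ O(−2) ⊕ O(−1)^{⊕(n−1)} (Ω^1 the sheaf of differentials over k); dually T_{P^n}|L ≅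
O(2) ⊕ O(1)^{⊕(n−1)} on every line, i.e. the tangent bundle of P^n_k is uniform of splitting type
(2, 1, …, 1). -/
theorem result (k : Type u) [Field k] [IsAlgClosed k] [CharZero k]
    (n : ℕ) (hn : 1 ≤ n) (i : CohB1.ProjSpace 1 k ⟶ CohB1.ProjSpace n k) [IsClosedImmersion i]
    (hi : i ≫ CohB1.ProjSpace.toSpec n k = CohB1.ProjSpace.toSpec 1 k)
    (hO : Nonempty ((Scheme.Modules.pullback i).obj (Twist.twistProjSpace n k 1) ≅ Twist.twistProjSpace 1 k 1)) :
    Nonempty ((Scheme.Modules.pullback i).obj (Omega.sheaf (CohB1.ProjSpace.toSpec n k)) ≅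
      Twist.twistProjSpace 1 k (-2) ⊞ ∐ fun _ : Fin (n - 1) => Twist.twistProjSpace 1 k (-1)) := by
  obtain ⟨r, hr, ⟨e⟩⟩ := Groth.Agent.EulerPn5.exists_restrict_split i hO
  obtain rfl : r = n - 1 := by omega
  obtain ⟨a⟩ := Groth.Agent.EulerPn5.nonempty_mpow_fin (Twist.twistProjSpace 1 k (-1)) (n - 1)
  obtain ⟨b⟩ := Groth.Agent.PnCanon5.nonempty_topDiff_twist (k := k) (n := 1)
    (Groth.Agent.KvbLam28.isExtPow_one (Omega.sheaf (CohB1.ProjSpace.toSpec 1 k)))
  exact ⟨e.trans (biprod.mapIso b a)⟩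

end Groth.Agent.S11517
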