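import Groth.Statements.S11518
import Groth.Agent.EulerPn5.Tango

set_option autoImplicit false
universe u
open VBPn

namespace Groth.Agent.S11518

open CategoryTheory CategoryTheory.Limits AlgebraicGeometry in
/-- Let k be an algebraically closed field of characteristic zero. For every n there is a finite locally
free O-module F of rank n − 1 on P^n_k which is simple, i.e. every endomorphism of F is a homothety
(its underlying map of abelian sheaves is multiplication by a scalar in k); in particular F is
indecomposable. (For n ≤ 2 the assertion is trivial. The published statement also gives the total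
Chern class (1 − 2h)/(1 − h)^{n+1}; this row does not state it.) -/
theorem result (k : Type u) [Field k] [IsAlgClosed k] [CharZero k] (n : ℕ) :
    ∃ F : (CohB1.ProjSpace n k).Modules, FlatMod.IsFinLocFreeOfRank (n - 1) F ∧
      ∀ φ : F ⟶ F, ∃ c : k, (SheafOfModules.toSheaf (CohB1.ProjSpace n k).ringCatSheaf).map φ =
        Coh.smulAb F (Coh.toGlobal (CohB1.ProjSpace.toSpec n k) c) := by
  by_cases hn : 2 ≤ n
  · obtain ⟨F, hF, hs⟩ := EulerPn5.Tango.exists_simple n k hn
    refine ⟨F, hF, fun φ => ?_⟩
    obtain ⟨c, hc⟩ := hs φ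
    exact ⟨c, (EulerPn5.scalar_iff φ c).1 hc⟩
  · open ZeroObject in
    refine ⟨0, ?_, fun φ => ⟨0, (EulerPn5.scalar_iff φ (0 : k)).1 ((isZero_zero _).eq_of_src _ _)⟩⟩
    intro x
    rw [show n - 1 = 0 by omega]
    exact ⟨⊤, trivial, ⟨(((Scheme.Modules.restrictFunctor (⊤ : (CohB1.ProjSpace n k).Opens).ι).map_isZero (isZero_zero _))).iso
      ((IsZero.iff_id_eq_zero _).2 (Limits.Sigma.hom_ext _ _ fun j => j.elim0))⟩⟩

end Groth.Agent.S11518
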