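import Groth.Statements.S11519
import Groth.Agent.EulerPn5.SimpleNull
import Groth.Agent.VarietyLib.DegBasic
import Groth.Agent.FundLocal.TopForms

set_option autoImplicit false
universe u
open VBPn

namespace Groth.Agent.S11519

open CategoryTheory CategoryTheory.Limits AlgebraicGeometry in
/-- Let k be an algebraically closed field of characteristic zero and a, a' : O(−1) → Ω^1 ⊗ O(1) two
bundle monomorphisms of O-modules on P^3_k, i.e. monomorphisms whose cokernels E, E' are finite
locally free of rank 2 (null-correlation bundles up to duality). Then E ≅ E' if and only if a' = c·a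
for a nonzero constant c ∈ k: the underlying map of abelian sheaves of a' equals that of a followed
by multiplication by c on Ω^1 ⊗ O(1). -/
theorem result (k : Type u) [Field k] [IsAlgClosed k] [CharZero k]
    (a a' : Twist.twistProjSpace 3 k (-1) ⟶
      CohB1.tensorMod (Omega.sheaf (CohB1.ProjSpace.toSpec 3 k)) (Twist.twistProjSpace 3 k 1))
    [Mono a] [Mono a'] (hE : FlatMod.IsFinLocFreeOfRank 2 (cokernel a)) (hE' : FlatMod.IsFinLocFreeOfRank 2 (cokernel a')) :
    Nonempty (cokernel a ≅ cokernel a') ↔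
      ∃ c : k, c ≠ 0 ∧ (SheafOfModules.toSheaf (CohB1.ProjSpace 3 k).ringCatSheaf).map a' =
        (SheafOfModules.toSheaf (CohB1.ProjSpace 3 k).ringCatSheaf).map a ≫
          Coh.smulAb (CohB1.tensorMod (Omega.sheaf (CohB1.ProjSpace.toSpec 3 k)) (Twist.twistProjSpace 3 k 1))
            (Coh.toGlobal (CohB1.ProjSpace.toSpec 3 k) c) := by
  open Groth.Agent in
  have hne : ¬ IsZero (cokernel a) := fun hz => by
    have h0 : FlatMod.IsFinLocFreeOfRank 0 (cokernel a) := fun _ => ⟨⊤, trivial,
      ⟨(((Scheme.Modules.restrictFunctor (⊤ : (CohB1.ProjSpace 3 k).Opens).ι).map_isZero hz)).iso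
        ((IsZero.iff_id_eq_zero _).2 (Limits.Sigma.hom_ext _ _ fun j => j.elim0))⟩⟩
    obtain ⟨x⟩ : Nonempty ↥(CohB1.ProjSpace 3 k) := by
      by_contra h
      haveI := not_nonempty_iff.1 h
      refine EulerPn5.not_isZero_twist (k := k) (n := 3) (d := 0) ?_
      exact FundLocal.isZero_of_isEmpty _
    have := VarietyLib.finrank_stalk_of_rank hE x
    rw [VarietyLib.finrank_stalk_of_rank h0 x] at this
    omega
  rw [EulerPn5.nonempty_iso_cokernel_iff 3 (by omega) a a' hne]
  refine exists_congr fun c => and_congr_right fun _ => ?_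
  have key : (SheafOfModules.toSheaf (CohB1.ProjSpace 3 k).ringCatSheaf).map (c • a) =
      (SheafOfModules.toSheaf (CohB1.ProjSpace 3 k).ringCatSheaf).map a ≫
        Coh.smulAb (CohB1.tensorMod (Omega.sheaf (CohB1.ProjSpace.toSpec 3 k)) (Twist.twistProjSpace 3 k 1))
          (Coh.toGlobal (CohB1.ProjSpace.toSpec 3 k) c) := by
    rw [show c • a = a ≫ (c • 𝟙 (CohB1.tensorMod (Omega.sheaf (CohB1.ProjSpace.toSpec 3 k)) (Twist.twistProjSpace 3 k 1))) by
      rw [Linear.comp_smul, Category.comp_id]]
    refine ((SheafOfModules.toSheaf (CohB1.ProjSpace 3 k).ringCatSheaf).map_comp _ _).trans ?_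
    congr 1
  rw [← key]
  exact ⟨fun h => h ▸ rfl, fun h => (SheafOfModules.toSheaf (CohB1.ProjSpace 3 k).ringCatSheaf).map_injective h⟩

end Groth.Agent.S11519
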