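import Groth.Statements.S11520
import Mathlib
import Groth.Prelude

set_option linter.all false

set_option autoImplicit false
universe v u v' u'
open CategoryTheory CategoryTheory.Limits CategoryTheory.Pretriangulated CategoryTheory.Triangulated
open PervT

open CategoryTheory CategoryTheory.Limits CategoryTheory.Pretriangulated CategoryTheory.Triangulated ZeroObject

set_option backward.isDefEq.respectTransparency false

namespace Groth.Agent.S11520

section
variable {C : Type u} [Category.{v} C] [Preadditive C] [HasZeroObject C] [HasShift C ℤ]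
  [∀ n : ℤ, (shiftFunctor C n).Additive] [Pretriangulated C] (t : TStructure C)
  {H : Type u'} [Category.{v'} H] [Preadditive H] [t.Heart H]

theorem exists_heart_iso (X : C) (h₁ : t.IsLE X 0) (h₂ : t.IsGE X 0) :
    ∃ K : H, Nonempty ((t.ιHeart (H := H)).obj K ≅ X) := by
  have : (t.ιHeart (H := H)).essImage X := by
    rw [t.essImage_ιHeart, t.mem_heart_iff]; exact ⟨h₁, h₂⟩
  exact this

theorem heart_hι ⦃X Y : H⦄ ⦃n : ℤ⦄ (f : (t.ιHeart (H := H)).obj X ⟶ ((t.ιHeart (H := H)).obj Y)⟦n⟧) (hn : n < 0) :
    f = 0 := by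
  haveI : t.IsGE (((t.ιHeart (H := H)).obj Y)⟦n⟧) (-n) := t.isGE_shift _ 0 n (-n) (by lia)
  exact t.zero f 0 (-n) (by lia)

theorem heart_admissible [IsTriangulated C] :
    AbelianSubcategory.admissibleMorphism (t.ιHeart (H := H)) = ⊤ := by
  refine eq_top_iff.2 fun X₁ X₂ f₁ _ X₃ f₂ f₃ hT => ?_
  haveI : t.IsLE X₃ 0 := by
    have h : t.IsLE (((t.ιHeart (H := H)).obj X₁)⟦(1 : ℤ)⟧) 0 := by
      haveI := t.isLE_shift ((t.ιHeart (H := H)).obj X₁) 0 1 (-1) (by lia)
      exact t.isLE_of_le _ (-1) 0
    exact t.isLE₂ _ (rot_of_distTriang _ hT) 0 (inferInstanceAs (t.IsLE ((t.ιHeart (H := H)).obj X₂) 0)) h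
  haveI : t.IsGE X₃ (-1) := by
    exact t.isGE₂ _ (rot_of_distTriang _ hT) (-1) (t.isGE_of_ge ((t.ιHeart (H := H)).obj X₂) (-1) 0)
      (t.isGE_shift ((t.ιHeart (H := H)).obj X₁) 0 1 (-1) (by lia))
  set A := (t.truncLT 0).obj X₃
  have hA₁ : t.IsLE A (-1) := t.isLE_truncLT_obj X₃ 0 (-1)
  have hA₂ : t.IsGE A (-1) := inferInstance
  have hB₁ : t.IsLE ((t.truncGE 0).obj X₃) 0 := inferInstance
  have hB₂ : t.IsGE ((t.truncGE 0).obj X₃) 0 := inferInstance
  obtain ⟨K, ⟨e⟩⟩ := exists_heart_iso t (H := H) (A⟦(-1 : ℤ)⟧) (t.isLE_shift A (-1) (-1) 0 (by lia))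
    (t.isGE_shift A (-1) (-1) 0 (by lia))
  obtain ⟨Q, ⟨e'⟩⟩ := exists_heart_iso t (H := H) _ hB₁ hB₂
  let eA : ((t.ιHeart (H := H)).obj K)⟦(1 : ℤ)⟧ ≅ A :=
    (shiftFunctor C (1 : ℤ)).mapIso e ≪≫ (shiftFunctorCompIsoId C (-1 : ℤ) 1 (by lia)).app A
  refine ⟨K, Q, eA.hom ≫ (t.truncLTι 0).app X₃, (t.truncGEπ 0).app X₃ ≫ e'.inv,
    e'.hom ≫ (t.truncGEδLT 0).app X₃ ≫ eA.inv⟦(1 : ℤ)⟧', ?_⟩
  refine isomorphic_distinguished _ (t.triangleLTGE_distinguished 0 X₃) _ ?_
  exact Triangle.isoMk _ _ eA (Iso.refl _) e' (by simp [TStructure.triangleLTGE, Triangle.functorMk]) (by simp [TStructure.triangleLTGE, Triangle.functorMk])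
    (by simp [TStructure.triangleLTGE, Triangle.functorMk, ← Functor.map_comp])

include t in
theorem heart_hasFiniteProducts [IsTriangulated C] : HasFiniteProducts H := by
  haveI : HasZeroObject H := by
    obtain ⟨Z, ⟨e⟩⟩ := exists_heart_iso t (H := H) (0 : C) inferInstance inferInstance
    refine ⟨Z, (IsZero.iff_id_eq_zero Z).2 ((t.ιHeart (H := H)).map_injective ?_)⟩
    exact ((isZero_zero C).of_iso e).eq_of_src _ _
  haveI : HasBinaryBiproducts H := ⟨fun X Y => by
    let ι := t.ιHeart (H := H)
    haveI : HasBinaryBiproducts C := inferInstance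
    have hT := binaryBiproductTriangle_distinguished (ι.obj X) (ι.obj Y)
    obtain ⟨P, ⟨e⟩⟩ := exists_heart_iso t (H := H) (ι.obj X ⊞ ι.obj Y)
      (t.isLE₂ _ hT 0 (inferInstanceAs (t.IsLE (ι.obj X) 0)) (inferInstanceAs (t.IsLE (ι.obj Y) 0)))
      (t.isGE₂ _ hT 0 (inferInstanceAs (t.IsGE (ι.obj X) 0)) (inferInstanceAs (t.IsGE (ι.obj Y) 0)))
    exact HasBinaryBiproduct.mk
      { bicone :=
          { pt := P
            fst := ι.preimage (e.hom ≫ biprod.fst)
            snd := ι.preimage (e.hom ≫ biprod.snd)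
            inl := ι.preimage (biprod.inl ≫ e.inv)
            inr := ι.preimage (biprod.inr ≫ e.inv)
            inl_fst := ι.map_injective (by simp)
            inl_snd := ι.map_injective (by simp)
            inr_fst := ι.map_injective (by simp)
            inr_snd := ι.map_injective (by simp) }
        isBilimit := isBinaryBilimitOfTotal _ (ι.map_injective (by
          simp only [ι.map_add, Functor.map_comp, Functor.map_preimage, Functor.map_id, Category.assoc]
          rw [← Preadditive.comp_add, ← Category.assoc, ← Category.assoc biprod.snd, ← Preadditive.add_comp,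
            biprod.total]
          simp)) }⟩
  haveI : HasTerminal H := inferInstance
  exact hasFiniteProducts_of_has_binary_and_terminal
end

/-- Let `C` be a triangulated category (octahedron axiom included) with a t-structure `t`, and let `H`
be an additive category identified with the heart of `t` (the objects that are both `≤ 0` and `≥ 0`)
through a fully faithful additive functor whose essential image is the heart. Then `H` is an abelian
category: there is an abelian category structure on `H` whose underlying additive structure is the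
given one. -/
theorem result {C : Type u} [Category.{v} C] [Preadditive C] [HasZeroObject C] [HasShift C ℤ] [∀ n : ℤ, (shiftFunctor C n).Additive] [Pretriangulated C] [IsTriangulated C] (t : TStructure C) {H : Type u'} [Category.{v'} H] [inst : Preadditive H] [t.Heart H] :
    ∃ a : Abelian H, @Abelian.toPreadditive H _ a = inst := by
  haveI := heart_hasFiniteProducts t (H := H)
  exact ⟨AbelianSubcategory.abelian (t.ιHeart (H := H)) (heart_hι t) (heart_admissible t), rfl⟩

end Groth.Agent.S11520
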