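import Groth.Statements.S11521
import Mathlib
import Groth.Prelude

set_option linter.all false

set_option autoImplicit false
universe v u v' u'
open CategoryTheory CategoryTheory.Limits CategoryTheory.Pretriangulated CategoryTheory.Triangulated
open PervT

open CategoryTheory CategoryTheory.Limits CategoryTheory.Pretriangulated CategoryTheory.Triangulated

set_option backward.isDefEq.respectTransparency false
set_option backward.defeqAttrib.useBackward true

namespace Groth.Agent.S11521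

section
variable {C : Type u} [Category.{v} C] [Preadditive C] [HasZeroObject C] [HasShift C ℤ]
  [∀ n : ℤ, (shiftFunctor C n).Additive] [Pretriangulated C] (t : TStructure C)
  {H : Type u'} [Category.{v'} H] [Abelian H] [t.Heart H]

theorem heart_orth : ∀ ⦃X Y : H⦄ ⦃n : ℤ⦄ (f : t.ιHeart.obj X ⟶ (t.ιHeart.obj Y)⟦n⟧), n < 0 → f = 0 := by
  intro X Y n f hn
  have := t.isGE_shift (t.ιHeart.obj Y) 0 n (-n)
  exact t.zero f 0 (-n) (by lia)

theorem exists_of_heart {A : C} (h₁ : t.IsLE A 0) (h₂ : t.IsGE A 0) : ∃ K : H, Nonempty (t.ιHeart.obj K ≅ A) := by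
  have h : (t.ιHeart (H := H)).essImage A := by
    rw [t.essImage_ιHeart H, TStructure.mem_heart_iff]
    exact ⟨h₁, h₂⟩
  exact h

theorem admissible {X Y : H} (u : X ⟶ Y) {Z' : C} (f₂ : t.ιHeart.obj Y ⟶ Z') (f₃ : Z' ⟶ (t.ιHeart.obj X)⟦(1 : ℤ)⟧)
    (hT : Triangle.mk (t.ιHeart.map u) f₂ f₃ ∈ distTriang C) :
    ∃ (K Q : H) (α : (t.ιHeart.obj K)⟦(1 : ℤ)⟧ ⟶ Z') (β : Z' ⟶ t.ιHeart.obj Q)
      (γ : t.ιHeart.obj Q ⟶ (t.ιHeart.obj K)⟦(1 : ℤ)⟧⟦(1 : ℤ)⟧), Triangle.mk α β γ ∈ distTriang C := by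
  have hr := rot_of_distTriang _ hT
  have hX1 := t.isLE_shift (t.ιHeart.obj X) 0 1 (-1)
  have hX1' := t.isGE_shift (t.ιHeart.obj X) 0 1 (-1)
  have hZle : t.IsLE Z' 0 := t.isLE₂ _ hr 0 (inferInstanceAs (t.IsLE (t.ιHeart.obj Y) 0))
    (t.isLE_of_le ((t.ιHeart.obj X)⟦(1 : ℤ)⟧) (-1) 0)
  have hZge : t.IsGE Z' (-1) := t.isGE₂ _ hr (-1) (t.isGE_of_ge (t.ιHeart.obj Y) (-1) 0) hX1'
  obtain ⟨A, B, hA, hB, a, b, c, hAB⟩ := t.exists_triangle Z' (-1) 0 (by lia)
  haveI hA' : t.IsLE A (-1) := ⟨hA⟩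
  haveI hB' : t.IsGE B 0 := ⟨hB⟩
  have hB1 := t.isGE_shift B 0 (-1) 1
  have hAge : t.IsGE A (-1) := t.isGE₂ _ (inv_rot_of_distTriang _ hAB) (-1)
    (t.isGE_of_ge (B⟦(-1 : ℤ)⟧) (-1) 1) hZge
  have hA2 := t.isLE_shift A (-1) 1 (-2)
  have hBle : t.IsLE B 0 := t.isLE₂ _ (rot_of_distTriang _ hAB) 0 hZle (t.isLE_of_le (A⟦(1 : ℤ)⟧) (-2) 0)
  obtain ⟨Q, ⟨eQ⟩⟩ := exists_of_heart t (H := H) hBle hB'
  obtain ⟨K, ⟨eK⟩⟩ := exists_of_heart t (H := H) (A := A⟦(-1 : ℤ)⟧) (t.isLE_shift A (-1) (-1) 0) (t.isGE_shift A (-1) (-1) 0)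
  let e : (t.ιHeart.obj K)⟦(1 : ℤ)⟧ ≅ A := (shiftFunctor C (1 : ℤ)).mapIso eK ≪≫ (shiftEquiv C (1 : ℤ)).counitIso.app A
  refine ⟨K, Q, e.hom ≫ a, b ≫ eQ.inv, eQ.hom ≫ c ≫ e.inv⟦(1 : ℤ)⟧', ?_⟩
  refine isomorphic_distinguished _ hAB _ (Triangle.isoMk _ _ e (Iso.refl _) eQ ?_ ?_ ?_)
  · simp
  · simp
  · simp [← Functor.map_comp]

end

/-- Let `C` be a triangulated category (octahedron axiom included) with a t-structure `t`, and let `H`
be an abelian category identified with the heart of `t` through a fully faithful additive functor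
`ι` whose essential image is the heart. For morphisms `u : X ⟶ Y` and `v : Y ⟶ Z` in `H`, the
sequence `0 ⟶ X ⟶ Y ⟶ Z ⟶ 0` is a complex and is short exact if and only if there is a morphism `w :
ι Z ⟶ (ι X)⟦1⟧` such that `(ι u, ι v, w)` is a distinguished triangle of `C`. -/
theorem result {C : Type u} [Category.{v} C] [Preadditive C] [HasZeroObject C] [HasShift C ℤ] [∀ n : ℤ, (shiftFunctor C n).Additive] [Pretriangulated C] [IsTriangulated C] (t : TStructure C) {H : Type u'} [Category.{v'} H] [Abelian H] [t.Heart H] {X Y Z : H} (u : X ⟶ Y) (v : Y ⟶ Z) :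
    (∃ huv : u ≫ v = 0, (ShortComplex.mk u v huv).ShortExact) ↔
      ∃ (w : t.ιHeart.obj Z ⟶ (t.ιHeart.obj X)⟦(1 : ℤ)⟧),
        Triangle.mk (t.ιHeart.map u) (t.ιHeart.map v) w ∈ distTriang C := by
  constructor
  · rintro ⟨huv, hS⟩
    haveI := hS.mono_f
    haveI := hS.epi_g
    obtain ⟨Z', f₂, f₃, hT⟩ := distinguished_cocone_triangle (t.ιHeart.map u)
    obtain ⟨K, Q, α, β, γ, hT'⟩ := admissible t u f₂ f₃ hT
    haveI := AbelianSubcategory.mono_ιK (heart_orth t) hT hT'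
    have hK : 𝟙 K = 0 := by
      rw [← cancel_mono (AbelianSubcategory.ιK f₃ α), ← cancel_mono u]
      simp [AbelianSubcategory.ιK_mor₁ hT α]
    haveI : IsIso β := (Triangle.isZero₁_iff_isIso₂ _ hT').1
      ((shiftFunctor C (1 : ℤ)).map_isZero (t.ιHeart.map_isZero ((IsZero.iff_id_eq_zero K).2 hK)))
    let θ : Q ≅ Z := IsColimit.coconePointUniqueUpToIso
      (AbelianSubcategory.isColimitCokernelCofork (heart_orth t) hT hT') hS.gIsCokernel
    have hθ : AbelianSubcategory.πQ f₂ β ≫ θ.hom = v :=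
      IsColimit.comp_coconePointUniqueUpToIso_hom
        (AbelianSubcategory.isColimitCokernelCofork (heart_orth t) hT hT') hS.gIsCokernel WalkingParallelPair.one
    let φ : Z' ≅ t.ιHeart.obj Z := asIso β ≪≫ t.ιHeart.mapIso θ
    refine ⟨φ.inv ≫ f₃, isomorphic_distinguished _ hT _ (Triangle.isoMk _ _ (Iso.refl _) (Iso.refl _) φ.symm ?_ ?_ ?_)⟩
    · simp
    · dsimp
      rw [← hθ, Functor.map_comp, AbelianSubcategory.ι_map_πQ, Category.id_comp]
      simp [φ]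
    · simp
  · rintro ⟨w, hT⟩
    have h1 := AbelianSubcategory.isLimitKernelForkOfDistTriang (heart_orth t) u v w hT
    have h2 := AbelianSubcategory.isColimitCokernelCoforkOfDistTriang (heart_orth t) u v w hT
    have huv : u ≫ v = 0 := t.ιHeart.map_injective (by
      have := comp_distTriang_mor_zero₁₂ _ hT
      dsimp at this
      simp [this])
    refine ⟨huv, ShortComplex.ShortExact.mk' (ShortComplex.exact_of_f_is_kernel (ShortComplex.mk u v huv) h1)
      (Fork.IsLimit.mono h1) (Cofork.IsColimit.epi h2)⟩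

end Groth.Agent.S11521
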