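import Mathlib.CategoryTheory.Triangulated.TStructure.Heart
import Mathlib.CategoryTheory.Triangulated.TStructure.TruncLEGT
import Mathlib.CategoryTheory.Triangulated.Triangulated
import Mathlib.CategoryTheory.Abelian.Basic
import Mathlib.CategoryTheory.Triangulated.HomologicalFunctor
import Mathlib.CategoryTheory.Triangulated.TStructure.TruncLEGT
import Mathlib.CategoryTheory.Triangulated.TStructure.Heart
import Mathlib.CategoryTheory.Triangulated.HomologicalFunctor
import Mathlib.Algebra.Homology.ShortComplex.Abelian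

set_option autoImplicit false
set_option backward.isDefEq.respectTransparency false
set_option backward.defeqAttrib.useBackward true
universe v u v' u'
namespace CategoryTheory
end CategoryTheory
namespace CategoryTheory.Limits
end CategoryTheory.Limits
namespace CategoryTheory.Pretriangulated
end CategoryTheory.Pretriangulated
namespace CategoryTheory.Triangulated
end CategoryTheory.Triangulated
open CategoryTheory CategoryTheory.Limits CategoryTheory.Pretriangulated CategoryTheory.Triangulated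
namespace PervT
end PervT
open PervT

namespace Groth.Agent.S11522

open Pretriangulated Triangulated

section
variable {C : Type u} [Category.{v} C] [Preadditive C] [HasZeroObject C] [HasShift C ℤ]
  [∀ n : ℤ, (shiftFunctor C n).Additive] [Pretriangulated C] [IsTriangulated C] (t : TStructure C)

/-- In a triangle `W ⟶ U ⟶ Z` with `W ≥ 1`, maps from objects `≤ 0` to `τ≥0 U` are detected in `τ≥0 Z`. -/
theorem hom_truncGE_eq_zero {W U Z : C} {a : W ⟶ U} {g : U ⟶ Z} {c : Z ⟶ W⟦(1 : ℤ)⟧}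
    (hT : Triangle.mk a g c ∈ distTriang C) (hW : t.IsGE W 1) {A : C} [t.IsLE A 0]
    (f : A ⟶ (t.truncGE 0).obj U) (hf : f ≫ (t.truncGE 0).map g = 0) : f = 0 := by
  obtain ⟨V, vV, wV, hV⟩ := distinguished_cocone_triangle ((t.truncLTι 0).app U ≫ g)
  have h12 : Triangle.mk ((t.truncLTι 0).app U : _ ⟶ U) ((t.truncGEπ 0).app U : U ⟶ _)
      ((t.truncGEδLT 0).app U) ∈ distTriang C := t.triangleLTGE_distinguished 0 U
  have h23 : Triangle.mk g c (-a⟦(1 : ℤ)⟧') ∈ distTriang C := rot_of_distTriang _ hT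
  let O := someOctahedron rfl h12 h23 hV
  haveI : t.IsGE V 0 := by
    refine t.isGE₂ _ O.mem 0 ?_ ?_
    · exact (inferInstance : t.IsGE ((t.truncGE 0).obj U) 0)
    · exact t.isGE_shift W 1 1 0 (by lia)
  have hm : O.m₁ = (t.truncGE 0).map g ≫ t.descTruncGE vV 0 := by
    refine t.from_truncGE_obj_ext ?_
    erw [← (t.truncGEπ 0).naturality_assoc, t.π_descTruncGE]
    exact O.comm₁
  have h1 : f ≫ O.m₁ = 0 := by rw [hm, reassoc_of% hf, zero_comp]
  obtain ⟨h, hh⟩ := Triangle.coyoneda_exact₂ _ (inv_rot_of_distTriang _ O.mem) f h1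
  have h0 : h = 0 := t.zero_of_isLE_of_isGE h 0 1 (by lia) inferInstance (by
    haveI := t.isGE_shift W 1 1 0 (by lia)
    exact t.isGE_shift (W⟦(1 : ℤ)⟧) 0 (-1) 1 (by lia))
  rw [hh, h0, zero_comp]

/-- In a triangle `X ⟶ Y ⟶ U` with `X ≤ 0`, a map from `τ≤0 Y` to an object `≥ 0` killing `τ≤0 X`
factors through `τ≤0 U`. -/
theorem exists_truncLE_factor {X Y U : C} {f : X ⟶ Y} {g : Y ⟶ U} {c : U ⟶ X⟦(1 : ℤ)⟧}
    (hT : Triangle.mk f g c ∈ distTriang C) [t.IsLE X 0] {K : C}
    (b : (t.truncLE 0).obj Y ⟶ K) (hb : (t.truncLE 0).map f ≫ b = 0) :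
    ∃ b' : (t.truncLE 0).obj U ⟶ K, (t.truncLE 0).map g ≫ b' = b := by
  set f' := t.liftTruncLE f 0 with hf'
  have hff : f' ≫ (t.truncLEι 0).app Y = f := t.liftTruncLE_ι f 0
  have hfb : f' ≫ b = 0 := by
    have h : (t.truncLE 0).map f = (t.truncLEι 0).app X ≫ f' :=
      t.to_truncLE_obj_ext (by simp only [Category.assoc, hff]; exact (t.truncLEι 0).naturality f)
    rw [← cancel_epi ((t.truncLEι 0).app X), comp_zero, ← hb, h, Category.assoc]
  obtain ⟨V, vV, wV, hV⟩ := distinguished_cocone_triangle f'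
  have h23 : Triangle.mk ((t.truncLEι 0).app Y : _ ⟶ Y) ((t.truncGTπ 0).app Y : Y ⟶ _)
      ((t.truncGTδLE 0).app Y) ∈ distTriang C := t.triangleLEGT_distinguished 0 Y
  let O := someOctahedron hff hV h23 hT
  haveI : t.IsLE V 0 := by
    refine t.isLE₂ _ (rot_of_distTriang _ hV) 0 ?_ ?_
    · exact (inferInstance : t.IsLE ((t.truncLE 0).obj Y) 0)
    · haveI := t.isLE_shift X 0 1 (-1) (by lia)
      exact t.isLE_of_le (X⟦(1 : ℤ)⟧) (-1) 0
  haveI : IsIso ((t.truncLE 0).map O.m₁) :=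
    t.isIso₁_truncLE_map_of_isGE _ O.mem 0 1 rfl (inferInstanceAs (t.IsGE ((t.truncGT 0).obj Y) (0 + 1)))
  obtain ⟨b₀, hb₀⟩ := Triangle.yoneda_exact₂ _ hV b hfb
  refine ⟨inv ((t.truncLE 0).map O.m₁) ≫ (t.truncLEι 0).app V ≫ b₀, ?_⟩
  have key : (t.truncLE 0).map g = vV ≫ inv ((t.truncLEι 0).app V) ≫ (t.truncLE 0).map O.m₁ := by
    refine t.to_truncLE_obj_ext ?_
    simp only [Category.assoc, NatTrans.naturality, Functor.id_map, IsIso.inv_hom_id_assoc]
    exact O.comm₁.symm
  rw [key, hb₀]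
  simp only [Category.assoc, IsIso.hom_inv_id_assoc, IsIso.inv_hom_id_assoc]
  rfl

end

/-- Let `C` be a triangulated category (octahedron axiom included) with a t-structure `t`, and let `H`
be an abelian category identified with the heart of `t` through a fully faithful additive functor
`ι` whose essential image is the heart. Let `H0 : C ⥤ H` be any functor whose composite with `ι` is
isomorphic to `τ≤0 ∘ τ≥0`, the degree-zero cohomology functor of `t`. Then `H0` is a homological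
functor: for every distinguished triangle `X ⟶ Y ⟶ Z ⟶ X⟦1⟧` the sequence `H0 X ⟶ H0 Y ⟶ H0 Z` is
exact, so that by rotation one gets the long exact cohomology sequence of the triangle in `H`. -/
theorem result {C : Type u} [Category.{v} C] [Preadditive C] [HasZeroObject C] [HasShift C ℤ] [∀ n : ℤ, (shiftFunctor C n).Additive] [Pretriangulated C] [IsTriangulated C] (t : TStructure C) {H : Type u'} [Category.{v'} H] [Abelian H] [t.Heart H] (H0 : C ⥤ H)
    (e : H0 ⋙ t.ιHeart ≅ t.truncGE 0 ⋙ t.truncLE 0) : H0.IsHomological := by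
  set ι : H ⥤ C := t.ιHeart with hι
  let G : C ⥤ C := t.truncLE 0 ⋙ t.truncGE 0
  let e' : H0 ⋙ ι ≅ G := e ≪≫ (t.truncGELEIsoLEGE 0 0).symm
  haveI : H0.PreservesZeroMorphisms := ⟨fun X Y => ι.map_injective (by
    rw [ι.map_zero, ← cancel_mono (e.hom.app Y), zero_comp]
    exact (e.hom.naturality (0 : X ⟶ Y)).trans (by simp))⟩
  refine ⟨fun T hT => ?_⟩
  obtain ⟨U, vU, wU, hU⟩ := distinguished_cocone_triangle ((t.truncLEι 0).app T.obj₁ ≫ T.mor₁)
  have h12 : Triangle.mk ((t.truncLEι 0).app T.obj₁ : _ ⟶ T.obj₁) ((t.truncGTπ 0).app T.obj₁ : T.obj₁ ⟶ _)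
      ((t.truncGTδLE 0).app T.obj₁) ∈ distTriang C := t.triangleLEGT_distinguished 0 T.obj₁
  have h23 : Triangle.mk T.mor₁ T.mor₂ T.mor₃ ∈ distTriang C := hT
  let O := someOctahedron rfl h12 h23 hU
  rw [ShortComplex.exact_iff_kernel_ι_comp_cokernel_π_zero]
  set S := (shortComplexOfDistTriangle T hT).map H0
  set k : kernel S.g ⟶ H0.obj T.obj₂ := kernel.ι S.g with hk
  set q : H0.obj T.obj₂ ⟶ cokernel S.f := cokernel.π S.f with hq
  have hkg : k ≫ H0.map T.mor₂ = 0 := kernel.condition S.g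
  have hfq : H0.map T.mor₁ ≫ q = 0 := cokernel.condition S.f
  have h1 : k ≫ H0.map vU = 0 := by
    have hkm : (k ≫ H0.map vU) ≫ H0.map O.m₃ = 0 := by
      rw [Category.assoc, ← H0.map_comp, O.comm₃, hkg]
    refine ι.map_injective ((cancel_mono (e.hom.app U)).1 ?_)
    rw [ι.map_zero, zero_comp]
    refine t.to_truncLE_obj_ext ?_
    rw [zero_comp]
    refine hom_truncGE_eq_zero t O.mem (inferInstanceAs (t.IsGE ((t.truncGT 0).obj T.obj₁) (0 + 1))) _ ?_
    · erw [Category.assoc, Category.assoc, ← (t.truncLEι 0).naturality, ← e.hom.naturality_assoc,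
        ← Category.assoc, ← ι.map_comp, hkm, ι.map_zero, zero_comp]
  have h2 : H0.map ((t.truncLEι 0).app T.obj₁ ≫ T.mor₁) ≫ q = 0 := by
    rw [H0.map_comp, Category.assoc, hfq, comp_zero]
  set b : (t.truncLE 0).obj T.obj₂ ⟶ ι.obj (cokernel S.f) :=
    ((t.truncGEπ 0).app ((t.truncLE 0).obj T.obj₂) :
      (t.truncLE 0).obj T.obj₂ ⟶ G.obj T.obj₂) ≫ e'.inv.app T.obj₂ ≫ ι.map q with hb
  haveI : t.IsGE (ι.obj (cokernel S.f)) 0 := inferInstance
  obtain ⟨b', hb'⟩ := exists_truncLE_factor t hU b (by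
    rw [hb, ← Category.assoc]
    erw [(t.truncGEπ 0).naturality ((t.truncLE 0).map ((t.truncLEι 0).app T.obj₁ ≫ T.mor₁))]
    rw [Category.assoc]
    erw [e'.inv.naturality_assoc]
    rw [Functor.comp_map, ← ι.map_comp, h2, ι.map_zero, comp_zero, comp_zero])
  let q' : H0.obj U ⟶ cokernel S.f := ι.preimage (e'.hom.app U ≫ t.descTruncGE b' 0)
  have hqq : H0.map vU ≫ q' = q := by
    refine ι.map_injective ?_
    rw [ι.map_comp, ι.map_preimage, ← cancel_epi (e'.inv.app T.obj₂)]
    refine t.from_truncGE_obj_ext (Y := ι.obj (cokernel S.f)) ?_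
    erw [e'.hom.naturality_assoc, Iso.inv_hom_id_app_assoc, ← (t.truncGEπ 0).naturality_assoc,
      t.π_descTruncGE]
    exact hb'
  rw [← hqq, reassoc_of% h1, zero_comp]

end Groth.Agent.S11522
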