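import Groth.Statements.S11523
import Mathlib
import Groth.Prelude

set_option linter.all false

set_option autoImplicit false
universe v u v' u'
open CategoryTheory CategoryTheory.Limits
open PervT

open CategoryTheory CategoryTheory.Limits

namespace Groth.Agent.S11523

/-- Let `u : A ⥤ B` be a fully faithful exact functor of abelian categories admitting a left adjoint and
a right adjoint `uStar`. Suppose every object of `A` has finite length (it is both an artinian and a
noetherian object) and that `u` sends simple objects to simple objects. Then for every object `Y` of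
`B` the counit `u (uStar Y) ⟶ Y` of the adjunction `u ⊣ uStar` is a monomorphism. (The published
statement also lists two further conditions equivalent to this one: that for every object `Y` of `B`
the unit `Y ⟶ u (L Y)` of the adjunction `L ⊣ u` of the left adjoint `L` is an epimorphism, and that
the essential image of `u` is stable under subobjects and quotients; this row states only the counit
condition.) -/
theorem result {A : Type u} [Category.{v} A] [Abelian A] {B : Type u'} [Category.{v'} B] [Abelian B]
    (u : A ⥤ B) [u.Full] [u.Faithful] [PreservesFiniteLimits u] [PreservesFiniteColimits u] [u.IsRightAdjoint]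
    (uStar : B ⥤ A) (adj : u ⊣ uStar)
    (hlen : ∀ X : A, IsArtinianObject X ∧ IsNoetherianObject X)
    (hsimple : ∀ X : A, Simple X → Simple (u.obj X)) (Y : B) :
    Mono (adj.counit.app Y) := by
  classical
  haveI : u.Additive := Functor.additive_of_preserves_binary_products u
  let X := uStar.obj Y
  let ε := adj.counit.app Y
  haveI := (hlen X).2
  have hinj : ∀ {S : A} (f : S ⟶ X), u.map f ≫ ε = 0 → f = 0 := by
    intro S f hf
    apply (adj.homEquiv S Y).symm.injective
    simp [Adjunction.homEquiv_counit, ε, X] at hf ⊢
    exact hf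
  let Q : Subobject X → Prop := fun N => ∀ ⦃T : B⦄ (z : T ⟶ u.obj (N : A)), z ≫ u.map N.arrow ≫ ε = 0 → z = 0
  have hbot : Q ⊥ := fun T z _ => by
    have h : IsZero ((⊥ : Subobject X) : A) := (isZero_zero A).of_iso Subobject.botCoeIsoZero
    exact (u.map_isZero h).eq_of_tgt _ _
  obtain ⟨N, hN, hmax⟩ := wellFounded_gt.has_min {N : Subobject X | Q N} ⟨⊥, hbot⟩
  let π := cokernel.π N.arrow
  by_cases hz : IsZero (cokernel N.arrow)
  · haveI : Epi N.arrow := Abelian.epi_of_cokernel_π_eq_zero _ (hz.eq_of_tgt _ _)
    haveI : IsIso N.arrow := isIso_of_mono_of_epi _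
    rw [Preadditive.mono_iff_cancel_zero]
    intro T z hzε
    have := hN (z ≫ u.map (inv N.arrow)) (by
      rw [Category.assoc, ← u.map_comp_assoc, IsIso.inv_hom_id, u.map_id, Category.id_comp]; exact hzε)
    exact (cancel_mono (u.map (inv N.arrow))).1 (this.trans zero_comp.symm)
  · exfalso
    haveI := (hlen (cokernel N.arrow)).1
    let ι := simpleSubobjectArrow hz
    let m' := pullback.fst π ι
    let p := pullback.snd π ι
    haveI : Epi p := inferInstance
    have hle : N ≤ Subobject.mk m' := by
      refine Subobject.le_mk_of_comm (pullback.lift N.arrow 0 (by simp [π])) ?_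
      exact pullback.lift_fst _ _ _
    have hlt : N < Subobject.mk m' := by
      refine lt_of_le_of_ne hle fun heq => ?_
      obtain ⟨w, hw⟩ : ∃ w, w ≫ N.arrow = m' := ⟨Subobject.ofMkLE m' N heq.ge, Subobject.ofMkLE_arrow _⟩
      have h1 : p ≫ ι = 0 := by
        rw [← pullback.condition, show pullback.fst π ι = w ≫ N.arrow from hw.symm, Category.assoc]
        simp [π]
      have h2 : ι = 0 := (cancel_epi p).1 (h1.trans comp_zero.symm)
      have : 𝟙 (simpleSubobject hz) = 0 := (cancel_mono ι).1 (by simp [h2])
      exact id_nonzero (simpleSubobject hz) this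
    refine hmax (Subobject.mk m') ?_ hlt
    -- it suffices to treat the pullback itself
    suffices hQ : ∀ ⦃T : B⦄ (z : T ⟶ u.obj (pullback π ι)), z ≫ u.map m' ≫ ε = 0 → z = 0 by
      intro T z hz'
      have := hQ (z ≫ u.map (Subobject.underlyingIso m').hom) (by
        rw [Category.assoc, ← u.map_comp_assoc, Subobject.underlyingIso_hom_comp_eq_mk]
        exact hz')
      exact (cancel_mono (u.map (Subobject.underlyingIso m').hom)).1 (this.trans zero_comp.symm)
    -- morphisms killed by the projection to the simple object lift to `N`
    have key : ∀ ⦃T : B⦄ (z : T ⟶ u.obj (pullback π ι)), z ≫ u.map p = 0 → z ≫ u.map m' ≫ ε = 0 → z = 0 := by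
      intro T z hp hzε
      have h0 : (z ≫ u.map m') ≫ u.map π = 0 := by
        rw [Category.assoc, ← u.map_comp, show m' ≫ π = p ≫ ι from pullback.condition, u.map_comp, reassoc_of% hp, zero_comp]
      have hex : (ShortComplex.mk N.arrow π (cokernel.condition _)).Exact := ShortComplex.exact_cokernel _
      haveI : Mono (u.map N.arrow) := inferInstance
      have hex' := hex.map u
      haveI : Mono ((ShortComplex.mk N.arrow π (cokernel.condition _)).map u).f := inferInstanceAs (Mono (u.map N.arrow))
      obtain ⟨w, hw⟩ : ∃ w : T ⟶ u.obj (N : A), w ≫ u.map N.arrow = z ≫ u.map m' := ⟨hex'.lift _ h0, hex'.lift_f _ h0⟩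
      have := hN w (by rw [← Category.assoc, hw, Category.assoc]; exact hzε)
      rw [this, zero_comp] at hw
      exact (cancel_mono (u.map m')).1 (hw.symm.trans zero_comp.symm)
    intro T z hzε
    by_contra hne
    have hg : z ≫ u.map p ≠ 0 := fun h => hne (key z h hzε)
    haveI : Simple (u.obj (simpleSubobject hz)) := hsimple _ inferInstance
    haveI : Epi (z ≫ u.map p) := epi_of_nonzero_to_simple hg
    have hk : kernel.ι (z ≫ u.map p) ≫ z = 0 :=
      key _ (by rw [Category.assoc, kernel.condition]) (by rw [Category.assoc, hzε, comp_zero])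
    let f' := Abelian.epiDesc (z ≫ u.map p) z hk
    have hf' : (z ≫ u.map p) ≫ f' = z := Abelian.comp_epiDesc _ _ _
    obtain ⟨f, hf⟩ := u.map_surjective f'
    have h1 : u.map (f ≫ m') ≫ ε = 0 := by
      rw [← cancel_epi (z ≫ u.map p), comp_zero, u.map_comp, hf, Category.assoc f', ← Category.assoc (z ≫ u.map p) f', hf']
      exact hzε
    have h2 : f = 0 := (cancel_mono m').1 ((hinj _ h1).trans zero_comp.symm)
    exact hne (by rw [← hf', ← hf, h2, u.map_zero, comp_zero])

end Groth.Agent.S11523
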