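import Groth.Agent.Et18.ProperOver
import Groth.Agent.Et18.Descent
import Groth.Statements.S1153
-- Template for statement S1153 (row 1153; see the milestone table for weights).
-- Copy to Groth/Agent/S1153.lean and replace the sorry. The statement below is byte-identical to the frozen
-- statement Desc.GrothFrozen.S1153 (Groth/Statements/S1153.lean; the theorem Desc.isProperOver_of_baseChange);
-- the grader kernel-checks Groth.Agent.S1153.result against that frozen type. Keep the theorem IN THIS FILE
-- (a `result` declared elsewhere and merely imported here is not credited); helpers may live anywhere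
-- under Groth/Agent/.
-- import your own Groth.Agent.* helpers here

set_option autoImplicit false
open CategoryTheory CategoryTheory.Limits AlgebraicGeometry Opposite
universe u
open Desc

namespace Groth.Agent.S1153

/-- Let f : X ⟶ Y be locally of finite type, Z a closed subset of X and g : Y' ⟶ Y quasi-compact, flat
and surjective. If the preimage of Z in X ×_Y Y' is proper over Y', then Z is proper over Y. -/
theorem result {X Y Y' : Scheme.{u}} (f : X ⟶ Y) [LocallyOfFiniteType f] (Z : Set X) (hZ : IsClosed Z)
    (g : Y' ⟶ Y) [QuasiCompact g] [Flat g] [Surjective g]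
    (h : ClSub.IsProperOver (pullback.snd f g) ((pullback.fst f g).base ⁻¹' Z)) :
    ClSub.IsProperOver f Z := by
  obtain ⟨hc, hp⟩ := h
  refine ⟨hZ, ?_⟩
  change IsProper ((Et18.redSub Z hZ).subschemeι ≫ f)
  let ι := (Et18.redSub Z hZ).subschemeι
  let i := pullback.fst (pullback.fst f g) ι
  let q := i ≫ pullback.snd f g
  have H : IsPullback (pullback.snd (pullback.fst f g) ι) q (ι ≫ f) g :=
    (IsPullback.of_hasPullback (pullback.fst f g) ι).flip.paste_vert (IsPullback.of_hasPullback f g)
  let J := Et18.redSub _ hc
  have hi : Set.range i = Set.range J.subschemeι := by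
    rw [Scheme.Pullback.range_fst, Et18.range_redSub, Et18.range_redSub]
  have hle : i.ker ≤ J :=
    Scheme.IdealSheafData.le_support_iff_le_vanishingIdeal.mp (fun x hx => i.range_subset_ker_support (hi ▸ (Et18.range_redSub _ hc).symm ▸ hx))
  haveI : IsIso i.toImage := inferInstance
  let a := Scheme.IdealSheafData.inclusion hle ≫ inv i.toImage
  have ha : a ≫ i = J.subschemeι := by
    have : inv i.toImage ≫ i = i.imageι := (IsIso.inv_comp_eq _).mpr i.toImage_imageι.symm
    rw [Category.assoc, this]
    exact Scheme.IdealSheafData.inclusion_subschemeι hle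
  haveI : IsClosedImmersion (a ≫ i) := by rw [ha]; infer_instance
  haveI : IsClosedImmersion a := IsClosedImmersion.of_comp a i
  have hsur : Set.range a = Set.univ := Set.eq_univ_iff_forall.2 fun x => by
    obtain ⟨y, hy⟩ : i x ∈ Set.range J.subschemeι := hi ▸ Set.mem_range_self x
    exact ⟨y, i.isClosedEmbedding.injective (by rw [← Scheme.Hom.comp_apply, ha]; exact hy)⟩
  haveI : Surjective a := ⟨Set.range_eq_univ.1 hsur⟩
  haveI : IsProper (a ≫ q) := by
    show IsProper (a ≫ i ≫ pullback.snd f g)
    rw [reassoc_of% ha]; exact hp
  haveI : UniversallyClosed q := UniversallyClosed.of_comp_surjective a q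
  haveI : IsSeparated q := Et18.isSeparated_of_covers a a q (by rw [Set.union_self, hsur])
  haveI : IsProper q := {}
  haveI := Et18.descends_isProper.{u}
  exact MorphismProperty.of_isPullback_of_descendsAlong (P := @IsProper) (Q := Et18.FPQC) H.flip ⟨⟨‹Surjective g›, ‹Flat g›⟩, ‹QuasiCompact g›⟩ ‹IsProper q›

end Groth.Agent.S1153
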