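import Groth.Statements.S11531
import Groth.Agent.ValTate.FlatTrunc
import Groth.Agent.ValTate.TopFiniteType

set_option autoImplicit false
universe u
open scoped TensorProduct
open AdicRing

namespace Groth.Agent.S11531

/-- Let R be a base ring of class (N) or (V) for the ideal I, A → B a morphism of R-algebras
topologically of finite type and M a finite B-module. Then M is flat over A if and only if, for
every n, writing A_n = A/I^(n+1)A, the module A_n ⊗_A M is flat over A_n. -/
theorem result
    (R : Type u) [CommRing R] (I : Ideal R) (hR : AdicRing.IsBase R I)
    (A : Type u) [CommRing A] [Algebra R A] (hA : AdicRing.TopFiniteType R I A)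
    (B : Type u) [CommRing B] [Algebra R B] [Algebra A B] [IsScalarTower R A B]
    (hB : AdicRing.TopFiniteType R I B)
    (M : Type u) [AddCommGroup M] [Module B M] [Module A M] [IsScalarTower A B M]
    [Module.Finite B M] :
    Module.Flat A M ↔
      ∀ n : ℕ, Module.Flat (AdicRing.trunc A I n) ((AdicRing.trunc A I n) ⊗[A] M) := by
    have hflat : (∀ n : ℕ, Module.Flat (AdicRing.trunc A I n) ((AdicRing.trunc A I n) ⊗[A] M)) →
        Module.Flat A M := by
      intro h
      have hA' := Groth.Agent.ValTate.tame_of_topFiniteType I hR hA
      have hB' := Groth.Agent.ValTate.tame_of_topFiniteType I hR hB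
      have := Groth.Agent.ValTate.isAdicComplete_topFiniteType I hR hB
      refine Groth.Agent.ValTate.flat_of_forall_flat_quotient (B := B) (I.map (algebraMap R A))
        (fun a => hA'.exists_artinRees a) (fun P _ _ _ => ?_) fun k => ?_
      · rw [Ideal.map_map, ← IsScalarTower.algebraMap_eq]
        exact (hB'.isAdicComplete (M := P)).toIsHausdorff
      · rcases k with _ | k
        · have : Subsingleton (A ⧸ I.map (algebraMap R A) ^ 0) :=
            Ideal.Quotient.subsingleton_iff.2 (by rw [pow_zero, Ideal.one_eq_top])
          infer_instance
        · rw [← Ideal.map_pow]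
          exact h k
    exact ⟨fun h n => inferInstance, hflat⟩

end Groth.Agent.S11531
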