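import Groth.Statements.S11533
import Groth.Agent.ValTate.Base
import Mathlib.RingTheory.Flat.Equalizer

set_option autoImplicit false
universe u
open AdicRing

namespace Groth.Agent.S11533

/-- Let R be a base ring of class (N) or (V) for the ideal I, A an R-algebra topologically of finite
type and f_1, ..., f_r elements of A generating the unit ideal. Then every complete localization
A⟨f_i⁻¹⟩ is flat over A, and the product of the A⟨f_i⁻¹⟩ is faithfully flat over A. -/
theorem result
    (R : Type u) [CommRing R] (I : Ideal R) (hR : AdicRing.IsBase R I)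
    (A : Type u) [CommRing A] [Algebra R A] (hA : AdicRing.TopFiniteType R I A)
    (r : ℕ) (f : Fin r → A) (hf : Ideal.span (Set.range f) = ⊤) :
    (∀ i, Module.Flat A (AdicRing.CLoc I (f i))) ∧
      Module.FaithfullyFlat A (∀ i, AdicRing.CLoc I (f i)) := by
  classical
  have hfl : ∀ i, Module.Flat A (AdicRing.CLoc I (f i)) := fun i => by
    haveI : Algebra.FiniteType A (Localization.Away (f i)) := IsLocalization.finiteType_of_monoid_fg (Submonoid.powers (f i)) _
    haveI : Module.Flat A (Localization.Away (f i)) := IsLocalization.flat _ (Submonoid.powers (f i))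
    haveI : Module.Flat (Localization.Away (f i)) (AdicRing.CLoc I (f i)) :=
      (Groth.Agent.ValTate.tame_of_finiteType I hR hA (Localization.Away (f i))).flat_adicCompletion
    exact Module.Flat.trans A (Localization.Away (f i)) _
  haveI := hfl
  refine ⟨hfl, ?_⟩
  haveI : Module.Flat A (∀ i, AdicRing.CLoc I (f i)) :=
    Module.Flat.of_linearEquiv
      (DirectSum.linearEquivFunOnFintype A (Fin r) (fun i => AdicRing.CLoc I (f i))).symm
  refine ⟨fun {m} hm htop => ?_⟩
  have hIm : I.map (algebraMap R A) ≤ m := by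
    haveI := Groth.Agent.ValTate.isAdicComplete_topFiniteType I hR hA
    exact (IsAdicComplete.le_jacobson_bot _).trans (sInf_le ⟨bot_le, hm⟩)
  obtain ⟨i, hi⟩ : ∃ i, f i ∉ m := by
    by_contra! h
    exact hm.ne_top (top_le_iff.1 (hf ▸ Ideal.span_le.2 (Set.range_subset_iff.2 h)))
  letI : Field (A ⧸ m) := Ideal.Quotient.field m
  let μ : A →+* A ⧸ m := Ideal.Quotient.mk m
  have hu : IsUnit (μ (f i)) := isUnit_iff_ne_zero.2 (fun h => hi (Ideal.Quotient.eq_zero_iff_mem.1 h))
  let ν : Localization.Away (f i) →+* A ⧸ m := IsLocalization.Away.lift (f i) hu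
  have hν : ∀ a, ν (algebraMap A _ a) = μ a := IsLocalization.Away.lift_eq (f i) hu
  let K : Ideal (Localization.Away (f i)) := I.map (algebraMap R (Localization.Away (f i)))
  have hK : K ^ 1 ≤ RingHom.ker ν := by
    rw [pow_one]
    refine Ideal.map_le_iff_le_comap.2 fun x hx => ?_
    change ν (algebraMap R _ x) = 0
    rw [IsScalarTower.algebraMap_apply R A, hν]
    exact Ideal.Quotient.eq_zero_iff_mem.2 (hIm (Ideal.mem_map_of_mem _ hx))
  let θ : AdicRing.CLoc I (f i) →+* A ⧸ m :=
    (Ideal.Quotient.lift (K ^ 1) ν hK).comp (AdicCompletion.evalₐ K 1).toRingHom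
  have hθ : ∀ a, θ (algebraMap A _ a) = μ a := fun a => by
    rw [IsScalarTower.algebraMap_apply A (Localization.Away (f i))]
    change Ideal.Quotient.lift (K ^ 1) ν hK (AdicCompletion.evalₐ K 1 (algebraMap (Localization.Away (f i)) (AdicCompletion K (Localization.Away (f i))) (algebraMap A (Localization.Away (f i)) a))) = _
    rw [Groth.Agent.FSchLib.evalₐ_algebraMap]
    exact hν a
  have h1 : Function.update (0 : ∀ j, AdicRing.CLoc I (f j)) i 1 ∈
      (m • ⊤ : Submodule A (∀ j, AdicRing.CLoc I (f j))) := by rw [htop]; exact Submodule.mem_top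
  have h2 : ∀ x ∈ (m • ⊤ : Submodule A (∀ j, AdicRing.CLoc I (f j))), θ (x i) = 0 := fun x hx => by
    refine Submodule.smul_induction_on hx (fun a ha y _ => ?_) (fun x y hx hy => ?_)
    · rw [Pi.smul_apply, Algebra.smul_def, map_mul, hθ]
      rw [show μ a = 0 from Ideal.Quotient.eq_zero_iff_mem.2 ha, zero_mul]
    · rw [Pi.add_apply, map_add, hx, hy, add_zero]
  have h3 := h2 _ h1
  rw [Function.update_self, map_one] at h3
  exact one_ne_zero h3

end Groth.Agent.S11533
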