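import Groth.Statements.S1154
import Groth.Agent.PicPI27.Descent
-- import your own Groth.Agent.* helpers here

set_option autoImplicit false
set_option linter.style.haveILetI false
set_option backward.isDefEq.respectTransparency.types false
open CategoryTheory CategoryTheory.Limits AlgebraicGeometry Opposite
universe u
open PicF

namespace Groth.Agent.S1154

open CategoryTheory CategoryTheory.Limits MonObj AlgebraicGeometry in
open Groth.Agent in
/-- Let k have characteristic p > 0, let X be quasi-compact and quasi-separated over k whose ring of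
global functions is k itself (the structure morphism induces an isomorphism on global sections), let
n be prime to p and k'/k purely inseparable. Then every isomorphism class of invertible modules M on
X_{k'} with M^n trivial is the pullback of such a class on X (injectivity of this pullback on
classes being a separate fact). -/
theorem result (k : Type u) [Field k] (p : ℕ) [Fact p.Prime] [CharP k p]
    (X : Scheme.{u}) (f : X ⟶ Spec (CommRingCat.of k)) [CompactSpace X] [QuasiSeparatedSpace X]
    (hH0 : IsIso f.appTop) (n : ℕ) (hn : ¬ p ∣ n) (k' : Type u) [Field k'] [Algebra k k'] [IsPurelyInseparable k k'] :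
    ∀ d : PicF.Cl (pullback f (Spec.map (CommRingCat.ofHom (algebraMap k k')))), (PicF.IsInvertibleCl d ∧ ∃ M : ((pullback f (Spec.map (CommRingCat.ofHom (algebraMap k k'))))).Modules, PicF.cl M = d ∧ Nonempty (CohB1.tensorPow M n ≅ Coh.structureModule ((pullback f (Spec.map (CommRingCat.ofHom (algebraMap k k'))))))) →
      ∃ c : PicF.Cl X, (PicF.IsInvertibleCl c ∧ ∃ M : (X).Modules, PicF.cl M = c ∧ Nonempty (CohB1.tensorPow M n ≅ Coh.structureModule (X))) ∧ PicF.pullCl (pullback.fst f (Spec.map (CommRingCat.ofHom (algebraMap k k')))) c = d := by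
  rintro d ⟨⟨L₀, hL₀, hinv⟩, M, rfl, hMn⟩
  have hM : PicF.IsInvertible M := fun y => by
    obtain ⟨e⟩ := (PicGrp.cl_eq_cl_iff _ _).1 hL₀
    obtain ⟨U, hy, ⟨i⟩⟩ := hinv y
    exact ⟨U, hy, ⟨(Scheme.Modules.restrictFunctor U.ι).mapIso e.symm ≪≫ i⟩⟩
  obtain ⟨L, hL, hLn, hLM⟩ := PicPI27.exists_descent (p := p) k' hn hM hMn
  exact ⟨PicF.cl L, ⟨⟨L, rfl, hL⟩, L, rfl, hLn⟩, (PicGrp.cl_eq_cl_iff _ _).2 hLM⟩

end Groth.Agent.S1154
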