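import Groth.Statements.S11541
import Groth.Agent.ValTate.Rigid
import Groth.Agent.S11525

set_option autoImplicit false
universe u
open AdicRing

namespace Groth.Agent.S11541

/-- Let R be a complete valuation ring of height one with t a nonzero element generating an ideal of
definition, and B an admissible R-algebra which is a local integral domain of Krull dimension one.
Then B is a finite R-module whose integral closure inside its fraction field is a valuation ring. -/
theorem result
    (R : Type u) [CommRing R] [IsDomain R] [ValuationRing R] [Ring.KrullDimLE 1 R]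
    (t : R) (ht : t ≠ 0) [IsAdicComplete (Ideal.span {t}) R]
    (B : Type u) [CommRing B] [Algebra R B] [IsDomain B] [IsLocalRing B]
    (hB : AdicRing.Admissible R (Ideal.span {t}) B) (hdim : ringKrullDim B = 1) :
    Module.Finite R B ∧ ValuationRing (integralClosure B (FractionRing B)) := by
  have htB : algebraMap R B t ≠ 0 := Groth.Agent.ValTate.algebraMap_ne_zero_of_noPowTorsion t hB.2
  obtain ⟨⟨n, φ, hφ, -⟩, -⟩ := hB
  haveI hfin : Module.Finite R B := Groth.Agent.ValTate.finite_of_ringKrullDim_one t ht ⟨n, φ, hφ⟩ htB hdim
  refine ⟨hfin, ?_⟩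
  let L := FractionRing B
  have hinj := Groth.Agent.ValTate.injective_algebraMap_of_ne_zero t ht htB
  haveI : FaithfulSMul R B := (faithfulSMul_iff_algebraMap_injective R B).2 hinj
  haveI : FaithfulSMul R L := (faithfulSMul_iff_algebraMap_injective R L).2
    ((IsScalarTower.algebraMap_eq R B L) ▸ (IsFractionRing.injective B L).comp hinj)
  haveI : Algebra.IsAlgebraic B L := IsLocalization.isAlgebraic L (nonZeroDivisors B)
  haveI : Algebra.IsAlgebraic R L := Algebra.IsAlgebraic.trans R B L
  have hV : ValuationRing (integralClosure R L) := Groth.Agent.ValTate.valuationRing_integralClosure t ht L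
  refine ValuationRing.iff_dvd_total.2 ⟨fun a b => ?_⟩
  haveI : Algebra.IsIntegral R B := inferInstance
  have hR : ∀ x : integralClosure B L, (x : L) ∈ integralClosure R L := fun x => isIntegral_trans (x : L) x.2
  obtain ⟨c, h⟩ := hV.toPreValuationRing.cond ⟨(a : L), hR a⟩ ⟨(b : L), hR b⟩
  rcases h with h | h
  · exact Or.inl ⟨⟨(c : L), IsIntegral.tower_top c.2⟩, Subtype.ext (congrArg Subtype.val h).symm⟩
  · exact Or.inr ⟨⟨(c : L), IsIntegral.tower_top c.2⟩, Subtype.ext (congrArg Subtype.val h).symm⟩

end Groth.Agent.S11541
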