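import Groth.Statements.S11542
import Groth.Agent.ValTate.Rigid
import Groth.Agent.S11525

set_option autoImplicit false
universe u
open AdicRing

namespace Groth.Agent.S11542

/-- Let R be a complete valuation ring of height one with t a nonzero element generating an ideal of
definition, A and B admissible R-algebras with B a local integral domain of Krull dimension one, f
an element of A and u a surjective R-algebra homomorphism from the complete localization A⟨f⁻¹⟩ onto
B. Then the composite of u with the canonical map A → A⟨f⁻¹⟩ is surjective. -/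
theorem result
    (R : Type u) [CommRing R] [IsDomain R] [ValuationRing R] [Ring.KrullDimLE 1 R]
    (t : R) (ht : t ≠ 0) [IsAdicComplete (Ideal.span {t}) R]
    (A : Type u) [CommRing A] [Algebra R A] (hA : AdicRing.Admissible R (Ideal.span {t}) A) (f : A)
    (B : Type u) [CommRing B] [Algebra R B] [IsDomain B] [IsLocalRing B]
    (hB : AdicRing.Admissible R (Ideal.span {t}) B) (hdim : ringKrullDim B = 1)
    (u : AdicRing.CLoc (Ideal.span {t}) f →ₐ[R] B) (hu : Function.Surjective u) :
    Function.Surjective
      (u.toRingHom.comp (algebraMap A (AdicRing.CLoc (Ideal.span {t}) f))) := by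
  obtain ⟨⟨nA, φA, hφA, -⟩, -⟩ := hA
  have htB : algebraMap R B t ≠ 0 := Groth.Agent.ValTate.algebraMap_ne_zero_of_noPowTorsion t hB.2
  obtain ⟨⟨n, φ, hφ, -⟩, -⟩ := hB
  haveI hfin : Module.Finite R B := Groth.Agent.ValTate.finite_of_ringKrullDim_one t ht ⟨n, φ, hφ⟩ htB hdim
  let S := Localization.Away f
  let K : Ideal S := (Ideal.span {t}).map (algebraMap R S)
  let CL := AdicRing.CLoc (Ideal.span {t}) f
  let w : A →ₐ[R] B := u.comp (IsScalarTower.toAlgHom R A CL)
  suffices h : LinearMap.range w.toLinearMap = ⊤ by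
    intro b
    obtain ⟨a, ha⟩ := LinearMap.range_eq_top.1 h b
    exact ⟨a, ha⟩
  letI : Algebra A B := w.toRingHom.toAlgebra
  haveI : IsScalarTower R A B := IsScalarTower.of_algebraMap_eq fun r => (w.commutes r).symm
  haveI : Algebra.IsIntegral A B := Algebra.IsIntegral.tower_top R
  let D := w.toRingHom.range
  haveI : Algebra.IsIntegral D B := ⟨fun b => by
    obtain ⟨p, hp, hpb⟩ := Algebra.IsIntegral.isIntegral (R := R) b
    let e : R →+* D := (w.toRingHom.rangeRestrict).comp (algebraMap R A)
    refine ⟨p.map e, hp.map e, ?_⟩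
    rw [Polynomial.eval₂_map]
    have : (algebraMap D B).comp e = algebraMap R B := RingHom.ext fun r => w.commutes r
    rw [this]
    exact hpb⟩
  -- the image of f is invertible inside the range
  have hfu : IsUnit (w f) := by
    change IsUnit (u (algebraMap A CL f))
    rw [IsScalarTower.algebraMap_apply A S CL]
    exact ((IsLocalization.Away.algebraMap_isUnit (S := S) f).map _).map u
  obtain ⟨g, hg⟩ : ∃ g : A, w f * w g = 1 := by
    have h1 : IsUnit (w.toRingHom.rangeRestrict f) := isUnit_of_map_unit (algebraMap D B) _ hfu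
    obtain ⟨⟨_, g, rfl⟩, hd⟩ := isUnit_iff_exists_inv.1 h1
    exact ⟨g, congrArg Subtype.val hd⟩
  refine top_le_iff.1 (Submodule.le_of_le_smul_of_le_jacobson_bot Module.Finite.fg_top
    (IsAdicComplete.le_jacobson_bot (Ideal.span {t})) fun b _ => ?_)
  obtain ⟨x, rfl⟩ := hu b
  obtain ⟨s, hs⟩ := Groth.Agent.AdicRing.surjective_mk_algebraMap_completion K
    (Ideal.FG.map (Submodule.fg_span_singleton t) _) (Ideal.Quotient.mk _ x)
  have h1 := Ideal.Quotient.eq.1 hs.symm
  obtain ⟨⟨a, ⟨_, j, rfl⟩⟩, ha⟩ := IsLocalization.surj (Submonoid.powers f) s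
  have hus : u (algebraMap S CL s) = w (a * g ^ j) := by
    have h2 := congrArg (fun z => u (algebraMap S CL z)) ha
    simp only [map_mul, map_pow, ← IsScalarTower.algebraMap_apply A S CL] at h2
    change u (algebraMap S CL s) * w f ^ j = w a at h2
    rw [map_mul, map_pow, ← h2, mul_assoc, ← mul_pow, hg, one_pow, mul_one]
  rw [← sub_add_cancel x (algebraMap S CL s), map_add, hus, add_comm]
  refine Submodule.add_mem_sup ⟨_, rfl⟩ ?_
  have h3 := Ideal.mem_map_of_mem u.toRingHom h1
  rw [Ideal.map_map, Ideal.map_map, Ideal.map_span, Set.image_singleton, Ideal.mem_span_singleton'] at h3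
  obtain ⟨z, hz⟩ := h3
  change z * u.toRingHom (algebraMap S CL (algebraMap R S t)) = u (x - algebraMap S CL s) at hz
  rw [← hz]
  change z * u (algebraMap S CL (algebraMap R S t)) ∈ _
  rw [← IsScalarTower.algebraMap_apply, u.commutes, mul_comm, ← Algebra.smul_def]
  exact Submodule.smul_mem_smul (Ideal.mem_span_singleton_self t) Submodule.mem_top

end Groth.Agent.S11542
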