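import Groth.Statements.S11543
import Groth.Agent.ValTate.Rigid
open scoped TensorProduct

set_option autoImplicit false
universe u
open scoped TensorProduct
open AdicRing

namespace Groth.Agent.S11543

set_option maxHeartbeats 1000000

/-- Let R be a complete valuation ring of height one with t a nonzero element generating an ideal of
definition and K its field of fractions, and let A be an admissible R-algebra. Then the non-open
prime ideals p of A (those not containing t) with A/p of Krull dimension one correspond bijectively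
to the maximal ideals of A ⊗_R K: the extension of such a p along A → A ⊗_R K is maximal and
contracts back to p, and every maximal ideal of A ⊗_R K contracts to such a prime and is the
extension of its contraction. -/
theorem result
    (R : Type u) [CommRing R] [IsDomain R] [ValuationRing R] [Ring.KrullDimLE 1 R]
    (t : R) (ht : t ≠ 0) [IsAdicComplete (Ideal.span {t}) R]
    (A : Type u) [CommRing A] [Algebra R A] (hA : AdicRing.Admissible R (Ideal.span {t}) A) :
    (∀ p : Ideal A, p.IsPrime → algebraMap R A t ∉ p → ringKrullDim (A ⧸ p) = 1 →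
        (p.map (Algebra.TensorProduct.includeLeftRingHom :
          A →+* A ⊗[R] FractionRing R)).IsMaximal ∧
        (p.map (Algebra.TensorProduct.includeLeftRingHom :
          A →+* A ⊗[R] FractionRing R)).comap (Algebra.TensorProduct.includeLeftRingHom :
          A →+* A ⊗[R] FractionRing R) = p) ∧
      (∀ m : Ideal (A ⊗[R] FractionRing R), m.IsMaximal →
        algebraMap R A t ∉ m.comap (Algebra.TensorProduct.includeLeftRingHom :
            A →+* A ⊗[R] FractionRing R) ∧
          ringKrullDim (A ⧸ m.comap (Algebra.TensorProduct.includeLeftRingHom :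
            A →+* A ⊗[R] FractionRing R)) = 1 ∧
          (m.comap (Algebra.TensorProduct.includeLeftRingHom :
            A →+* A ⊗[R] FractionRing R)).map (Algebra.TensorProduct.includeLeftRingHom :
            A →+* A ⊗[R] FractionRing R) = m) := by
  classical
  obtain ⟨⟨n, φ, hφ, -⟩, htor⟩ := hA
  let K := FractionRing R
  let P := A ⊗[R] K
  let i : A →+* P := Algebra.TensorProduct.includeLeftRingHom
  have htm := Groth.Agent.ValTate.mem_maximalIdeal_of_complete t
  have hiR : ∀ r : R, i (algebraMap R A r) = (1 : A) ⊗ₜ[R] algebraMap R K r := fun r => by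
    change algebraMap R A r ⊗ₜ[R] (1 : K) = _
    rw [Algebra.algebraMap_eq_smul_one, TensorProduct.smul_tmul, Algebra.algebraMap_eq_smul_one]
  have hu : IsUnit (i (algebraMap R A t)) := by
    rw [hiR]
    exact (IsUnit.mk0 _ (fun h => ht (IsFractionRing.injective R K (h.trans (map_zero _).symm)))).map
      (Algebra.TensorProduct.includeRight : K →ₐ[R] P)
  have hclear : ∀ z : P, ∃ (a : A) (k : ℕ), z * i (algebraMap R A t) ^ k = i a := by
    intro z
    induction z using TensorProduct.induction_on with
    | zero => exact ⟨0, 0, by rw [zero_mul, map_zero]⟩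
    | tmul a x =>
      obtain ⟨⟨r, s⟩, hrs⟩ := IsLocalization.surj (nonZeroDivisors R) x
      obtain ⟨k, d, hd⟩ := Groth.Agent.ValTate.exists_dvd_pow (nonZeroDivisors.coe_ne_zero s) htm
      refine ⟨a * algebraMap R A (r * d), k, ?_⟩
      have hx : x * algebraMap R K (t ^ k) = algebraMap R K (r * d) := by
        rw [hd, map_mul, map_mul, ← mul_assoc]
        exact congrArg (· * algebraMap R K d) hrs
      rw [← map_pow, ← map_pow, hiR, map_mul, hiR, Algebra.TensorProduct.tmul_mul_tmul, mul_one, hx]
      change _ = (a ⊗ₜ[R] (1 : K)) * _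
      rw [Algebra.TensorProduct.tmul_mul_tmul, mul_one, one_mul]
    | add u v hu hv =>
      obtain ⟨a, k, ha⟩ := hu
      obtain ⟨b, l, hb⟩ := hv
      refine ⟨a * algebraMap R A t ^ l + b * algebraMap R A t ^ k, k + l, ?_⟩
      rw [map_add, map_mul, map_mul, map_pow, map_pow, ← ha, ← hb, pow_add]
      ring
  refine ⟨fun p hp htp hdim => ?_, fun m hm => ?_⟩
  · haveI := hp
    let B := A ⧸ p
    have hB : AdicRing.TopFiniteType R (Ideal.span {t}) B :=
      ⟨n, (Ideal.Quotient.mkₐ R p).comp φ, Ideal.Quotient.mk_surjective.comp hφ⟩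
    have htB : algebraMap R B t ≠ 0 := fun h => htp (Ideal.Quotient.eq_zero_iff_mem.1 h)
    haveI : Module.Finite R B := Groth.Agent.ValTate.finite_of_ringKrullDim_one t ht hB htB hdim
    have hinj := Groth.Agent.ValTate.injective_algebraMap_of_ne_zero t ht htB
    let E := FractionRing B
    let ιA : A →ₐ[R] E := (IsScalarTower.toAlgHom R B E).comp (Ideal.Quotient.mkₐ R p)
    have hRE : Function.Injective (algebraMap R E) :=
      (IsScalarTower.algebraMap_eq R B E) ▸ (IsFractionRing.injective B E).comp hinj
    let ιK : K →ₐ[R] E := IsFractionRing.liftAlgHom (g := Algebra.ofId R E) hRE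
    let ψ : P →ₐ[R] E := Algebra.TensorProduct.lift ιA ιK fun _ _ => Commute.all _ _
    have hψi : ∀ a, ψ (i a) = algebraMap B E (Ideal.Quotient.mk p a) := fun a => by
      refine (Algebra.TensorProduct.lift_tmul _ _ _ _ _).trans ?_
      rw [map_one, mul_one]
      rfl
    have hker : RingHom.ker ψ.toRingHom = p.map i := by
      refine le_antisymm (fun z hz => ?_) (Ideal.map_le_iff_le_comap.2 fun a ha => ?_)
      · obtain ⟨a, k, ha⟩ := hclear z
        have h1 : ψ (i a) = 0 := by rw [← ha, map_mul, show ψ z = 0 from hz, zero_mul]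
        rw [hψi, map_eq_zero_iff _ (IsFractionRing.injective B E), Ideal.Quotient.eq_zero_iff_mem] at h1
        exact (Ideal.mul_unit_mem_iff_mem _ (hu.pow k)).1 (ha ▸ Ideal.mem_map_of_mem i h1)
      · change ψ (i a) = 0
        rw [hψi, Ideal.Quotient.eq_zero_iff_mem.2 ha, map_zero]
    have hsurj : Function.Surjective ψ := fun e => by
      obtain ⟨⟨b, s⟩, hbs⟩ := IsLocalization.surj (nonZeroDivisors B) e
      obtain ⟨b', hb'⟩ := Ideal.Quotient.mk_surjective b
      obtain ⟨s', hs'⟩ := Ideal.Quotient.mk_surjective (s : B)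
      let c : P := i s'
      letI : Algebra K E := ιK.toRingHom.toAlgebra
      haveI : IsScalarTower R K E := IsScalarTower.of_algebraMap_eq fun r => (ιK.commutes r).symm
      let ψK : Subalgebra K E :=
        { ψ.range.toSubsemiring with
          algebraMap_mem' := fun x => ⟨(1 : A) ⊗ₜ x, by
            refine (Algebra.TensorProduct.lift_tmul _ _ _ _ _).trans ?_
            rw [map_one, one_mul]
            rfl⟩ }
      have hs0 : algebraMap B E s ≠ 0 :=
        (map_ne_zero_iff _ (IsFractionRing.injective B E)).2 (nonZeroDivisors.coe_ne_zero s)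
      have hmem : algebraMap B E s ∈ ψK := ⟨c, (hψi s').trans (congrArg _ hs')⟩
      have halg : IsAlgebraic K (algebraMap B E s) :=
        (((Algebra.IsIntegral.isIntegral (R := R) (s : B)).map (IsScalarTower.toAlgHom R B E)).tower_top).isAlgebraic
      obtain ⟨z, hz⟩ := ψK.inv_mem_of_algebraic (x := ⟨_, hmem⟩) halg
      refine ⟨i b' * z, ?_⟩
      change ψ (i b' * z) = e
      rw [map_mul, hψi, hb', show ψ z = (algebraMap B E s)⁻¹ from hz, ← hbs, mul_assoc, mul_inv_cancel₀ hs0, mul_one]
    refine ⟨hker ▸ RingHom.ker_isMaximal_of_surjective ψ.toRingHom hsurj, ?_⟩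
    rw [← hker]
    ext a
    rw [Ideal.mem_comap, RingHom.mem_ker]
    change ψ (i a) = 0 ↔ _
    rw [hψi, map_eq_zero_iff _ (IsFractionRing.injective B E), Ideal.Quotient.eq_zero_iff_mem]
  · haveI := hm
    let p : Ideal A := m.comap i
    haveI : p.IsPrime := Ideal.IsPrime.comap i
    have htp : algebraMap R A t ∉ p := fun h => hm.ne_top (Ideal.eq_top_of_isUnit_mem _ h hu)
    have hmap : p.map i = m := by
      refine le_antisymm Ideal.map_comap_le fun z hz => ?_
      obtain ⟨a, k, ha⟩ := hclear z
      exact (Ideal.mul_unit_mem_iff_mem _ (hu.pow k)).1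
        (ha ▸ Ideal.mem_map_of_mem i (show a ∈ p from Ideal.mem_comap.2 (ha ▸ m.mul_mem_right _ hz)))
    refine ⟨htp, ?_, hmap⟩
    let B := A ⧸ p
    have hB : AdicRing.TopFiniteType R (Ideal.span {t}) B :=
      ⟨n, (Ideal.Quotient.mkₐ R p).comp φ, Ideal.Quotient.mk_surjective.comp hφ⟩
    have htB : algebraMap R B t ≠ 0 := fun h => htp (Ideal.Quotient.eq_zero_iff_mem.1 h)
    haveI : Module.Finite R B := by
      refine Groth.Agent.ValTate.finite_of_forall_prime_mem t ht hB htB fun Q hQ hQ0 => ?_
      by_contra htQ
      let Q' := Q.comap (Ideal.Quotient.mk p)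
      haveI : Q'.IsPrime := Ideal.IsPrime.comap _
      have hpQ : p ≤ Q' := fun a ha => by
        rw [Ideal.mem_comap, Ideal.Quotient.eq_zero_iff_mem.2 ha]
        exact Q.zero_mem
      have htQ' : algebraMap R A t ∉ Q' := htQ
      by_cases htop : Q'.map i = ⊤
      · have hcl : ∀ z ∈ Q'.map i, ∃ a ∈ Q', ∃ k : ℕ, z * i (algebraMap R A t) ^ k = i a := by
          intro z hz
          induction hz using Submodule.span_induction with
          | mem z hz =>
            obtain ⟨a, ha, rfl⟩ := hz
            exact ⟨a, ha, 0, by rw [pow_zero, mul_one]⟩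
          | zero => exact ⟨0, Q'.zero_mem, 0, by rw [zero_mul, map_zero]⟩
          | add u v _ _ hu hv =>
            obtain ⟨a, haQ, k, ha⟩ := hu
            obtain ⟨b, hbQ, l, hb⟩ := hv
            refine ⟨a * algebraMap R A t ^ l + b * algebraMap R A t ^ k,
              Q'.add_mem (Q'.mul_mem_right _ haQ) (Q'.mul_mem_right _ hbQ), k + l, ?_⟩
            rw [map_add, map_mul, map_mul, map_pow, map_pow, ← ha, ← hb, pow_add]
            ring
          | smul c u _ hu =>
            obtain ⟨a, haQ, k, ha⟩ := hu
            obtain ⟨b, l, hb⟩ := hclear c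
            refine ⟨b * a, Q'.mul_mem_left _ haQ, l + k, ?_⟩
            rw [smul_eq_mul, map_mul, ← ha, ← hb, pow_add]
            ring
        obtain ⟨a, haQ, k, ha⟩ := hcl 1 (htop ▸ Submodule.mem_top)
        have h1 : algebraMap R A t ^ k - a ∈ p := by
          rw [Ideal.mem_comap, map_sub, map_pow, ← ha, one_mul, sub_self]
          exact m.zero_mem
        have h2 := Q'.add_mem (hpQ h1) haQ
        rw [sub_add_cancel] at h2
        exact htQ' (Ideal.IsPrime.mem_of_pow_mem inferInstance k h2)
      · have heq : m = Q'.map i := hm.eq_of_le htop (hmap ▸ Ideal.map_mono hpQ)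
        have hQp : Q' ≤ p := fun a ha => by
          rw [Ideal.mem_comap, heq]
          exact Ideal.mem_map_of_mem i ha
        refine hQ0 (le_bot_iff.1 fun b hb => ?_)
        obtain ⟨a, rfl⟩ := Ideal.Quotient.mk_surjective b
        exact Ideal.Quotient.eq_zero_iff_mem.2 (hQp hb)
    exact Groth.Agent.ValTate.ringKrullDim_of_finite t ht htB

end Groth.Agent.S11543
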