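import Groth.Statements.S11544
import Groth.Agent.ValTate.Rigid
import Mathlib.Algebra.GCDMonoid.IntegrallyClosed
import Mathlib.RingTheory.Norm.Transitivity
import Mathlib.FieldTheory.Minpoly.IsIntegrallyClosed

set_option autoImplicit false
universe u
open AdicRing

namespace Groth.Agent.S11544

/-- Let R be a complete valuation ring of height one with t a nonzero element generating an ideal of
definition, K its field of fractions, L an algebraic extension field of K and α an element of L.
Then α is integral over R if and only if the norm of α from K(α) down to K lies in R. -/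
theorem result
    (R : Type u) [CommRing R] [IsDomain R] [ValuationRing R] [Ring.KrullDimLE 1 R]
    (t : R) (ht : t ≠ 0) [IsAdicComplete (Ideal.span {t}) R]
    (L : Type u) [Field L] [Algebra R L] [Algebra (FractionRing R) L]
    [IsScalarTower R (FractionRing R) L] [Algebra.IsAlgebraic (FractionRing R) L] (α : L) :
    IsIntegral R α ↔
      Algebra.norm (FractionRing R) (IntermediateField.AdjoinSimple.gen (FractionRing R) α) ∈
        (algebraMap R (FractionRing R)).range := by
  classical
  let K := FractionRing R
  let F := IntermediateField.adjoin K ({α} : Set L)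
  let g : F := IntermediateField.AdjoinSimple.gen K α
  haveI : FaithfulSMul R F := (faithfulSMul_iff_algebraMap_injective R F).2
    ((IsScalarTower.algebraMap_eq R K F) ▸ (algebraMap K F).injective.comp (IsFractionRing.injective R K))
  haveI : FiniteDimensional K F :=
    IntermediateField.adjoin.finiteDimensional (Algebra.IsIntegral.isIntegral α)
  have hgα : IsIntegral R α ↔ IsIntegral R g :=
    (isIntegral_algHom_iff (F.val.restrictScalars R) Subtype.val_injective (x := g))
  constructor
  · intro h
    exact IsIntegrallyClosed.isIntegral_iff.1 (Algebra.isIntegral_norm K (hgα.1 h))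
  · rintro ⟨N, hN⟩
    refine hgα.2 ?_
    haveI : Algebra.IsAlgebraic R K := IsLocalization.isAlgebraic K (nonZeroDivisors R)
    haveI : Algebra.IsAlgebraic R F := Algebra.IsAlgebraic.trans R K F
    have hV : ValuationRing (integralClosure R F) :=
      Groth.Agent.ValTate.valuationRing_integralClosure t ht F
    haveI : IsFractionRing (integralClosure R F) F := integralClosure.isFractionRing_of_finite_extension K F
    rcases ValuationRing.isInteger_or_isInteger (integralClosure R F) g with ⟨x, hx⟩ | ⟨x, hx⟩
    · exact hx ▸ x.2
    by_cases hg0 : g = 0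
    · exact hg0 ▸ isIntegral_zero
    have hxg : (x : F) * g = 1 := by
      rw [show (x : F) = g⁻¹ from hx, inv_mul_cancel₀ hg0]
    have hxint : IsIntegral R (x : F) := x.2
    obtain ⟨M, hM⟩ := IsIntegrallyClosed.isIntegral_iff.1 (Algebra.isIntegral_norm K hxint)
    have hMN : M * N = 1 := IsFractionRing.injective R K (by
      rw [map_mul, hM, hN, map_one, ← map_mul, hxg, map_one])
    let p := minpoly R (x : F)
    have hpK : minpoly K (x : F) = p.map (algebraMap R K) := minpoly.isIntegrallyClosed_eq_field_fractions' K hxint
    let P := IntermediateField.adjoin.powerBasis (hxint.tower_top (A := K))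
    obtain ⟨r, hr, hnorm⟩ : ∃ r : ℕ, r ≠ 0 ∧ M = ((-1) ^ P.dim * p.coeff 0) ^ r := by
      refine ⟨_, (Module.finrank_pos (R := IntermediateField.adjoin K ({(x : F)} : Set F)) (M := F)).ne',
        IsFractionRing.injective R K ?_⟩
      rw [hM, Algebra.norm_eq_norm_adjoin K (x : F), map_pow, map_mul, map_pow, map_neg, map_one]
      congr 1
      refine (Algebra.PowerBasis.norm_gen_eq_coeff_zero_minpoly P).trans ?_
      rw [IntermediateField.adjoin.powerBasis_gen, IntermediateField.minpoly_gen, hpK, Polynomial.coeff_map]
    have hc : IsUnit (p.coeff 0) := by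
      have h1 : IsUnit M := IsUnit.of_mul_eq_one N hMN
      rw [hnorm, isUnit_pow_iff hr] at h1
      exact (IsUnit.mul_iff.1 h1).2
    have hxu : IsUnit x := by
      have h0 : (Polynomial.aeval x) p = 0 := Subtype.ext (by
        rw [← Subalgebra.coe_val, ← Polynomial.aeval_algHom_apply]
        exact minpoly.aeval R (x : F))
      obtain ⟨q, hq⟩ := Polynomial.X_dvd_iff.2 (show (p - Polynomial.C (p.coeff 0)).coeff 0 = 0 by simp)
      have h1 := congrArg (Polynomial.aeval x) hq
      rw [map_sub, map_mul, h0, Polynomial.aeval_X, Polynomial.aeval_C, zero_sub] at h1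
      have h2 : IsUnit (x * Polynomial.aeval x q) := h1 ▸ (hc.map _).neg
      exact isUnit_of_mul_isUnit_left h2
    obtain ⟨y, hy⟩ := isUnit_iff_exists_inv.1 hxu
    have : g = (y : F) := by
      have h2 := congrArg Subtype.val hy
      calc g = g * ((x : F) * (y : F)) := by rw [show (x : F) * (y : F) = 1 from h2, mul_one]
        _ = (y : F) := by rw [← mul_assoc, mul_comm g, hxg, one_mul]
    rw [this]
    exact y.2

end Groth.Agent.S11544
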