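import Groth.Statements.S11545
import Groth.Agent.AdicRing.ComplHom

set_option autoImplicit false
universe u
open AdicRing

namespace Groth.Agent.S11545

/-- Let R be a base ring of class (N) or (V) for the ideal I, A an admissible R-algebra, f_0, ..., f_r
elements generating an open ideal 𝔞 of A, and A_i = C_i/(f_i-power torsion) the i-th chart algebra
of the formal blowing-up of 𝔞. Let B be an R-algebra complete and separated for the I-adic topology
and φ : A → B an R-algebra homomorphism such that the ideal 𝔞B is generated by φ(f_i), a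
non-zero-divisor of B. Then there is exactly one R-algebra homomorphism A_i → B whose composite with
A → A_i is φ. -/
theorem result
    (R : Type u) [CommRing R] (I : Ideal R) (hR : AdicRing.IsBase R I)
    (A : Type u) [CommRing A] [Algebra R A] (hA : AdicRing.Admissible R I A)
    (r : ℕ) (f : Fin (r + 1) → A) (k : ℕ)
    (hopen : (I ^ k).map (algebraMap R A) ≤ Ideal.span (Set.range f)) (i : Fin (r + 1))
    (B : Type u) [CommRing B] [Algebra R B] [IsAdicComplete (I.map (algebraMap R B)) B]
    (φ : A →ₐ[R] B) (hnzd : φ (f i) ∈ nonZeroDivisors B)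
    (hgen : (Ideal.span (Set.range f)).map φ = Ideal.span {φ (f i)}) :
    ∃! ψ : AdicRing.chartAdm I f i →ₐ[R] B,
      ψ.comp (IsScalarTower.toAlgHom R A (AdicRing.chartAdm I f i)) = φ := by
  classical
  have hIfg : I.FG := by
    rcases hR.2 with ⟨h, -⟩ | ⟨-, -, -, t, -, rfl⟩
    · exact IsNoetherian.noetherian I
    · exact Submodule.fg_span_singleton t
  have hb : ∀ j : Fin (r + 1), ∃ b : B, φ (f j) = b * φ (f i) := fun j => by
    have h1 : φ (f j) ∈ Ideal.span {φ (f i)} :=
      hgen ▸ Ideal.mem_map_of_mem φ (Ideal.subset_span ⟨j, rfl⟩)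
    obtain ⟨b, hb⟩ := Ideal.mem_span_singleton'.1 h1
    exact ⟨b, hb.symm⟩
  choose b hb using hb
  let P := MvPolynomial {j : Fin (r + 1) // j ≠ i} A
  let S := AdicRing.chartAlg f i
  let C := AdicRing.chartCompl I f i
  let K : Ideal S := I.map (algebraMap R S)
  have hK : K.FG := Ideal.FG.map hIfg _
  let g : P →+* B := MvPolynomial.eval₂Hom φ.toRingHom fun j => b j.1
  have gC : ∀ a : A, g (MvPolynomial.C a) = φ a := fun a => MvPolynomial.eval₂Hom_C _ _ a
  have gX : ∀ j, g (MvPolynomial.X j) = b j.1 := fun j => MvPolynomial.eval₂Hom_X' _ _ j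
  let g' : S →+* B := Ideal.Quotient.lift _ g fun p hp => by
    refine (Ideal.span_le.2 ?_ : _ ≤ RingHom.ker g) hp
    rintro _ ⟨j, rfl⟩
    change g (MvPolynomial.C (f i) * MvPolynomial.X j - MvPolynomial.C (f j.1)) = 0
    rw [map_sub, map_mul, gC, gC, gX]
    rw [hb j.1, mul_comm, sub_self]
  have hg'R : ∀ x : R, g' (algebraMap R S x) = algebraMap R B x := fun x => by
    change g (MvPolynomial.C (algebraMap R A x)) = _
    rw [gC]
    exact φ.commutes x
  have hg'A : ∀ a : A, g' (algebraMap A S a) = φ a := fun a => by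
    change g (MvPolynomial.C a) = _
    exact gC a
  obtain ⟨χ, hχ⟩ := Groth.Agent.AdicRing.exists_completion_hom K g' (I.map (algebraMap R B))
    (by rw [Ideal.map_map, show g'.comp (algebraMap R S) = algebraMap R B from RingHom.ext hg'R])
  have hχA : ∀ a : A, χ (algebraMap A C a) = φ a := fun a => by
    rw [IsScalarTower.algebraMap_apply A S C, hχ, hg'A]
  let ψ0 : AdicRing.chartAdm I f i →+* B := Ideal.Quotient.lift _ χ fun x hx => by
    refine (iSup_le fun n => ?_ : _ ≤ RingHom.ker χ) hx
    intro y hy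
    have h0 : (algebraMap A C (f i)) ^ n * y = 0 := hy
    have h1 := congrArg χ h0
    rw [map_mul, map_pow, hχA, map_zero] at h1
    exact (mul_left_mem_nonZeroDivisors_eq_zero_iff (pow_mem hnzd n)).1 h1
  have hψR : ∀ x : R, χ (algebraMap R C x) = algebraMap R B x := fun x => by
    rw [IsScalarTower.algebraMap_apply R S C, hχ, hg'R]
  let ψ : AdicRing.chartAdm I f i →ₐ[R] B := { ψ0 with commutes' := hψR }
  refine ⟨ψ, AlgHom.ext hχA, fun ψ' hψ' => ?_⟩
  let π : C →+* AdicRing.chartAdm I f i := Ideal.Quotient.mk _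
  have h2 : ∀ a : A, ψ' (π (algebraMap A C a)) = φ a := fun a => DFunLike.congr_fun hψ' a
  have h3 : (ψ'.toRingHom.comp π).comp (algebraMap S C) = g' := by
    refine Ideal.Quotient.ringHom_ext (MvPolynomial.ringHom_ext (fun a => ?_) fun j => ?_)
    · exact (h2 a).trans (hg'A a).symm
    · refine (mul_cancel_left_mem_nonZeroDivisors hnzd).1 ?_
      let y : S := Ideal.Quotient.mk _ (MvPolynomial.X j)
      change φ (f i) * ψ' (π (algebraMap S C y)) = φ (f i) * g (MvPolynomial.X j)
      have hS : algebraMap A S (f i) * y = algebraMap A S (f j.1) :=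
        (map_mul (Ideal.Quotient.mk _) (MvPolynomial.C (f i) : P) (MvPolynomial.X j)).symm.trans
          (Ideal.Quotient.eq.2 (Ideal.subset_span ⟨j, rfl⟩))
      have h4 := congrArg (fun z => ψ' (π (algebraMap S C z))) hS
      simp only [map_mul, ← IsScalarTower.algebraMap_apply A S C, h2] at h4
      rw [gX, h4, hb j.1, mul_comm]
  refine AlgHom.coe_ringHom_injective (Ideal.Quotient.ringHom_ext
    (Groth.Agent.AdicRing.completion_hom_ext K hK (I.map (algebraMap R B)) (fun s => ?_) fun s hs => ?_))
  · exact (RingHom.congr_fun h3 s).trans (hχ s).symm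
  · have h4 : ψ'.toRingHom (π (algebraMap S C s)) = g' s := RingHom.congr_fun h3 s
    exact (congrArg (· ∈ I.map (algebraMap R B)) h4).mpr
      ((congrArg (fun θ => g' s ∈ Ideal.map θ I) (RingHom.ext hg'R)).mp
        (Ideal.map_map (algebraMap R S) g' ▸ Ideal.mem_map_of_mem g' hs))

end Groth.Agent.S11545
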