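import Groth.Statements.S11547
import Groth.Agent.ValTate.Rigid
import Groth.Agent.S11525

set_option autoImplicit false
universe u
open AdicRing

namespace Groth.Agent.S11547

/-- Let R be a complete valuation ring of height one with t a nonzero element generating an ideal of
definition, φ : A → A' a homomorphism of admissible R-algebras, and u' : A' → B' a surjective
R-algebra homomorphism onto an admissible R-algebra B' which is a local integral domain of Krull
dimension one. Then the image of A in B' is an admissible R-algebra and a local integral domain of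
Krull dimension one. -/
theorem result
    (R : Type u) [CommRing R] [IsDomain R] [ValuationRing R] [Ring.KrullDimLE 1 R]
    (t : R) (ht : t ≠ 0) [IsAdicComplete (Ideal.span {t}) R]
    (A : Type u) [CommRing A] [Algebra R A] (hA : AdicRing.Admissible R (Ideal.span {t}) A)
    (A' : Type u) [CommRing A'] [Algebra R A'] (hA' : AdicRing.Admissible R (Ideal.span {t}) A')
    (φ : A →ₐ[R] A')
    (B' : Type u) [CommRing B'] [Algebra R B'] [IsDomain B'] [IsLocalRing B']
    (hB' : AdicRing.Admissible R (Ideal.span {t}) B') (hdim : ringKrullDim B' = 1)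
    (u' : A' →ₐ[R] B') (hu' : Function.Surjective u') :
    AdicRing.Admissible R (Ideal.span {t}) ((u'.comp φ).range) ∧
      IsLocalRing ((u'.comp φ).range) ∧ ringKrullDim ((u'.comp φ).range) = 1 := by
  obtain ⟨⟨nA, φA, hφA, -⟩, -⟩ := hA
  have htB : algebraMap R B' t ≠ 0 := Groth.Agent.ValTate.algebraMap_ne_zero_of_noPowTorsion t hB'.2
  obtain ⟨⟨n, ψ, hψ, -⟩, htor⟩ := hB'
  haveI hfin : Module.Finite R B' := Groth.Agent.ValTate.finite_of_ringKrullDim_one t ht ⟨n, ψ, hψ⟩ htB hdim
  let D : Subalgebra R B' := (u'.comp φ).range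
  haveI : Algebra.IsIntegral R D := ⟨fun x => (isIntegral_algHom_iff D.val Subtype.val_injective).1
    (Algebra.IsIntegral.isIntegral (R := R) (x : B'))⟩
  have hDt : algebraMap R D t ≠ 0 := fun h => htB (congrArg Subtype.val h)
  have htorD : AdicRing.NoPowTorsion (Ideal.span {t}) D := fun x k hx =>
    Subtype.ext (htor (x : B') k fun a ha => congrArg Subtype.val (hx a ha))
  have htft : AdicRing.TopFiniteType R (Ideal.span {t}) D :=
    ⟨nA, (u'.comp φ).rangeRestrict.comp φA, (AlgHom.rangeRestrict_surjective _).comp hφA⟩
  refine ⟨⟨Groth.Agent.S11525.result R (Ideal.span {t}) (Groth.Agent.ValTate.isBase_of_valuationRing t ht) D htft htorD,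
    htorD⟩, Groth.Agent.ValTate.isLocalRing_of_isIntegral_domain t ht, ?_⟩
  rw [← Groth.Agent.DimLib.ringKrullDim_eq_of_isIntegral
    (Groth.Agent.ValTate.injective_algebraMap_of_ne_zero t ht hDt)]
  exact Groth.Agent.ValTate.ringKrullDim_eq_one t ht

end Groth.Agent.S11547
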