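import Groth.Statements.S11548
import Groth.Agent.ValTate.Rigid
import Groth.Agent.S11525
import Mathlib.FieldTheory.IsAlgClosed.AlgebraicClosure
import Mathlib.RingTheory.Jacobson.Ring

set_option autoImplicit false
universe u
open AdicRing

namespace Groth.Agent.S11548

/-- Let R be a complete valuation ring of height one with t a nonzero element generating an ideal of
definition, and m a maximal ideal of R⟨ζ_1, ..., ζ_n⟩ containing t (a closed point of the special
fibre). Then there is a prime ideal p contained in m and not containing t such that R⟨ζ_1, ...,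
ζ_n⟩/p has Krull dimension one. (This is the affine content of the surjectivity of the
specialization map onto closed points, for the formal affine space.) -/
theorem result
    (R : Type u) [CommRing R] [IsDomain R] [ValuationRing R] [Ring.KrullDimLE 1 R]
    (t : R) (ht : t ≠ 0) [IsAdicComplete (Ideal.span {t}) R]
    (n : ℕ) (m : Ideal (AdicRing.RPow R (Ideal.span {t}) n)) [m.IsMaximal]
    (hm : algebraMap R (AdicRing.RPow R (Ideal.span {t}) n) t ∈ m) :
    ∃ p : Ideal (AdicRing.RPow R (Ideal.span {t}) n), p.IsPrime ∧ p ≤ m ∧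
      algebraMap R (AdicRing.RPow R (Ideal.span {t}) n) t ∉ p ∧
      ringKrullDim (AdicRing.RPow R (Ideal.span {t}) n ⧸ p) = 1 := by
  classical
  let T := AdicRing.RPow R (Ideal.span {t}) n
  let K := FractionRing R
  let L := AlgebraicClosure K
  let O := integralClosure R L
  haveI : FaithfulSMul R L := (faithfulSMul_iff_algebraMap_injective R L).2
    ((IsScalarTower.algebraMap_eq R K L) ▸ (algebraMap K L).injective.comp (IsFractionRing.injective R K))
  haveI : IsLocalRing O := Groth.Agent.ValTate.isLocalRing_of_isIntegral_domain t ht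
  have htR := Groth.Agent.ValTate.mem_maximalIdeal_of_complete t
  let k := IsLocalRing.ResidueField R
  let kO := IsLocalRing.ResidueField O
  haveI : IsLocalHom (algebraMap R O) := by
    haveI : FaithfulSMul R O := (faithfulSMul_iff_algebraMap_injective R O).2 fun x y h =>
      FaithfulSMul.algebraMap_injective R L (congrArg Subtype.val h)
    infer_instance
  -- the residue field of the integral closure is algebraically closed
  haveI : IsAlgClosed kO := by
    refine IsAlgClosed.of_exists_root _ fun p hp hirr => ?_
    obtain ⟨q, hqmap, hqdeg, hqm⟩ := Polynomial.lifts_and_degree_eq_and_monic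
      ((Polynomial.mem_lifts p).2 (Polynomial.map_surjective _ IsLocalRing.residue_surjective p)) hp
    have hdeg : (q.map (algebraMap O L)).degree ≠ 0 := by
      rw [hqm.degree_map, hqdeg]
      exact (Polynomial.degree_pos_of_irreducible hirr).ne'
    obtain ⟨z, hz⟩ := IsAlgClosed.exists_root (q.map (algebraMap O L)) hdeg
    have hzO : IsIntegral R z := isIntegral_trans (A := O) z ⟨q, hqm, by
      rw [← Polynomial.eval_map]; exact hz⟩
    refine ⟨IsLocalRing.residue O ⟨z, hzO⟩, ?_⟩
    have hq0 : q.eval ⟨z, hzO⟩ = 0 := Subtype.ext (by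
      have h1 : algebraMap O L (q.eval ⟨z, hzO⟩) = (q.map (algebraMap O L)).eval z := by
        rw [Polynomial.eval_map, ← Polynomial.eval₂_at_apply]
        rfl
      exact h1.trans hz)
    rw [← hqmap, Polynomial.eval_map, Polynomial.eval₂_at_apply, hq0, map_zero]
  -- the residue field at m embeds
  let κ := T ⧸ m
  letI : Field κ := Ideal.Quotient.field m
  haveI : IsAdicComplete (Ideal.span {algebraMap R T t}) T :=
    Groth.Agent.ValTate.isAdicComplete_span_of_topFiniteType t ht (Groth.Agent.ValTate.topFiniteType_rPow _ n)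
  have hmR : ∀ r ∈ IsLocalRing.maximalIdeal R, algebraMap R T r ∈ m := fun r hr => by
    obtain ⟨j, hj⟩ := Groth.Agent.ValTate.exists_pow_mem_span t ht (Ideal.mem_map_of_mem (algebraMap R T) hr)
    exact (inferInstance : m.IsMaximal).isPrime.mem_of_pow_mem j ((Ideal.span_singleton_le_iff_mem _).2 hm hj)
  letI : Algebra k κ := (Ideal.Quotient.lift (IsLocalRing.maximalIdeal R) (algebraMap R κ) fun r hr =>
    Ideal.Quotient.eq_zero_iff_mem.2 (hmR r hr)).toAlgebra
  haveI : IsScalarTower R k κ := IsScalarTower.of_algebraMap_eq fun r => rfl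
  haveI : Algebra.FiniteType R κ :=
    Groth.Agent.ValTate.finiteType_quotient t (Groth.Agent.ValTate.topFiniteType_rPow _ n) m hm
  haveI : Algebra.FiniteType k κ := Algebra.FiniteType.of_restrictScalars_finiteType (R := R) (S := k) (A := κ)
  haveI : Module.Finite k κ := finite_of_finite_type_of_isJacobsonRing k κ
  let ι : κ →ₐ[k] kO := IsAlgClosed.lift
  have hιR : ∀ r : R, ι (algebraMap R κ r) = IsLocalRing.residue O (algebraMap R O r) := fun r => by
    rw [IsScalarTower.algebraMap_apply R k κ, ι.commutes]
    exact IsLocalRing.ResidueField.map_residue (algebraMap R O) r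
  choose a ha using fun i : Fin n => IsLocalRing.residue_surjective
    (ι (Ideal.Quotient.mk m (algebraMap (MvPolynomial (Fin n) R) T (MvPolynomial.X i))))
  -- evaluation in a finite subalgebra
  let D : Subalgebra R O := Algebra.adjoin R (Set.range a)
  haveI : Module.Finite R D :=
    Module.Finite.iff_fg.2 (fg_adjoin_of_finite (Set.finite_range a) fun x _ => Algebra.IsIntegral.isIntegral x)
  haveI : IsAdicComplete ((Ideal.span {t}).map (algebraMap R D)) D :=
    (IsAdicComplete.map_algebraMap_iff (S := D) _ D).2 (Groth.Agent.ValTate.isAdicComplete_of_finite_module t ht D)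
  let g : MvPolynomial (Fin n) R →ₐ[R] D :=
    MvPolynomial.aeval fun i => ⟨a i, Algebra.subset_adjoin ⟨i, rfl⟩⟩
  obtain ⟨θ, hθ⟩ := Groth.Agent.AdicRing.exists_completion_hom
    ((Ideal.span {t}).map (MvPolynomial.C : R →+* MvPolynomial (Fin n) R)) g.toRingHom
    ((Ideal.span {t}).map (algebraMap R D))
    (le_of_eq (by rw [Ideal.map_map]; exact congrArg (fun φ : R →+* D => Ideal.map φ (Ideal.span {t})) g.comp_algebraMap))
  have hθR : ∀ r, θ (algebraMap R T r) = algebraMap R D r := fun r => (hθ _).trans (g.commutes r)
  let ev : T →+* O := (D.val.toRingHom).comp θ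
  have hcomp : ((IsLocalRing.residue O).comp ev).comp (algebraMap (MvPolynomial (Fin n) R) T) =
      (ι.toRingHom.comp (Ideal.Quotient.mk m)).comp (algebraMap (MvPolynomial (Fin n) R) T) := by
    refine MvPolynomial.ringHom_ext (fun r => ?_) fun i => ?_
    · change IsLocalRing.residue O (D.val (θ (algebraMap R T r))) = ι (algebraMap R κ r)
      rw [hθR, hιR]
      rfl
    · change IsLocalRing.residue O (D.val (θ (algebraMap (MvPolynomial (Fin n) R) T (MvPolynomial.X i)))) =
        ι (Ideal.Quotient.mk m (algebraMap (MvPolynomial (Fin n) R) T (MvPolynomial.X i)))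
      rw [hθ, ← ha]
      change IsLocalRing.residue O ((g (MvPolynomial.X i) : D) : O) = _
      rw [show g (MvPolynomial.X i) = ⟨a i, Algebra.subset_adjoin ⟨i, rfl⟩⟩ from MvPolynomial.aeval_X _ i]
  have hall : ∀ x : T, IsLocalRing.residue O (ev x) = ι (Ideal.Quotient.mk m x) := fun x => by
    obtain ⟨p, hp⟩ := Groth.Agent.ValTate.exists_poly_sub_mem t n x
    obtain ⟨z, hz⟩ := Ideal.mem_span_singleton'.1 hp
    rw [show x = z * algebraMap R T t + algebraMap (MvPolynomial (Fin n) R) T p by rw [hz, sub_add_cancel],
      map_add, map_add, map_add, map_add]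
    congr 1
    · have h2 : IsLocalRing.residue O (ev (algebraMap R T t)) = 0 := by
        change IsLocalRing.residue O (D.val (θ (algebraMap R T t))) = 0
        rw [hθR, IsLocalRing.residue_eq_zero_iff]
        exact fun h => htR (isUnit_of_map_unit (algebraMap R O) t h)
      rw [map_mul, map_mul, h2, mul_zero, map_mul, Ideal.Quotient.eq_zero_iff_mem.2 hm, mul_zero, map_zero]
    · exact RingHom.congr_fun hcomp p
  let p : Ideal T := RingHom.ker ev
  haveI hp : p.IsPrime := RingHom.ker_isPrime ev
  have htp : algebraMap R T t ∉ p := fun h => ht (FaithfulSMul.algebraMap_injective R L (by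
    have h1 : ev (algebraMap R T t) = 0 := h
    change D.val (θ (algebraMap R T t)) = 0 at h1
    rw [hθR] at h1
    rw [map_zero]
    exact congrArg Subtype.val h1))
  refine ⟨p, hp, fun x hx => ?_, htp, ?_⟩
  · refine Ideal.Quotient.eq_zero_iff_mem.1 (ι.toRingHom.injective ?_)
    change ι (Ideal.Quotient.mk m x) = ι.toRingHom 0
    rw [map_zero, ← hall, show ev x = 0 from hx, map_zero]
  · haveI : Algebra.IsIntegral R (T ⧸ p) := by
      let e : (T ⧸ p) →ₐ[R] O :=
        { RingHom.kerLift ev with commutes' := fun r => congrArg D.val (hθR r) }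
      exact ⟨fun x => (isIntegral_algHom_iff e (RingHom.kerLift_injective ev)).1 (Algebra.IsIntegral.isIntegral (R := R) (e x))⟩
    have htp' : algebraMap R (T ⧸ p) t ≠ 0 := fun h => htp (Ideal.Quotient.eq_zero_iff_mem.1 h)
    rw [← Groth.Agent.DimLib.ringKrullDim_eq_of_isIntegral
      (Groth.Agent.ValTate.injective_algebraMap_of_ne_zero t ht htp')]
    exact Groth.Agent.ValTate.ringKrullDim_eq_one t ht

end Groth.Agent.S11548
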