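import Groth.Statements.S12218
import Groth.Agent.Multicross24.Wedge
import Groth.Agent.Multicross24.Completion
-- import your own Groth.Agent.* helpers here

set_option autoImplicit false
universe u
open Curves
open Groth.Agent

set_option backward.isDefEq.respectTransparency.types false
namespace Groth.Agent.S12218

/-- Let k be a separably closed field and A a one-dimensional reduced Nagata local k-algebra with
residue field k, having n branches (n a natural number). If the δ-invariant of A equals n − 1, then
the completion of A with respect to its maximal ideal is the multicross ring with n branches: there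
is an injective ring map from the completion to (k[[t]])^n, compatible with the structure maps from
k, whose range is the subring of n-tuples of power series with a common constant term. (The
inequality δ ≥ n − 1 itself is the companion statement on geometric branches.) -/
theorem result (k : Type u) [Field k] [IsSepClosed k]
    (A : Type u) [CommRing A] [IsLocalRing A] [Algebra k A] [IsReduced A]
    (hdim : ringKrullDim A = 1) (hN : CAlg.IsNagata A)
    (hres : Function.Bijective (algebraMap k (IsLocalRing.ResidueField A)))
    (n : ℕ) (hn : Brnch.numBranches A = n) (hδ : Curv2.deltaInv A + 1 = n) :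
    ∃ φ : AdicCompletion (IsLocalRing.maximalIdeal A) A →+* (Fin n → PowerSeries k),
      Function.Injective φ ∧
      (∀ c : k, φ (algebraMap A (AdicCompletion (IsLocalRing.maximalIdeal A) A) (algebraMap k A c)) =
        fun _ => algebraMap k (PowerSeries k) c) ∧
      Set.range φ = {f : Fin n → PowerSeries k | ∀ i j : Fin n, PowerSeries.constantCoeff (f i) = PowerSeries.constantCoeff (f j)} := by
  haveI : IsNoetherianRing A := hN.1
  obtain ⟨hcard, hdvr, hsurj, hrange⟩ := Multicross24.wedge A hN hdim (hδ.trans hn.symm)
  haveI : Module.Finite A ↥(integralClosure A (FractionRing A)) := (S7652.result A hN hdim).1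
  rw [hn] at hcard
  haveI : Finite (MaximalSpectrum ↥(integralClosure A (FractionRing A))) :=
    ENat.card_lt_top.1 (hcard ▸ ENat.natCast_lt_top n)
  have hN' : Nat.card (MaximalSpectrum ↥(integralClosure A (FractionRing A))) = n := by
    rw [ENat.card_eq_coe_natCard] at hcard
    exact_mod_cast hcard.symm
  have hn0 : 0 < n := by
    by_contra h
    rw [Nat.eq_zero_of_not_pos h] at hδ
    simp at hδ
  letI : Algebra k ↥(integralClosure A (FractionRing A)) :=
    ((algebraMap A ↥(integralClosure A (FractionRing A))).comp (algebraMap k A)).toAlgebra
  haveI : IsScalarTower k A ↥(integralClosure A (FractionRing A)) := IsScalarTower.of_algebraMap_eq fun _ => rfl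
  exact Multicross24.multicross k A ↥(integralClosure A (FractionRing A)) hres
    (fun a b h => IsFractionRing.injective A (FractionRing A) (congrArg Subtype.val h)) n
    ((finCongr hN'.symm).trans (Finite.equivFin _).symm) hn0 hdvr hsurj (fun b hb => hrange b hb)

end Groth.Agent.S12218
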