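import Groth.Statements.S5022
import Groth.Agent.OmegaLib.LocFree
import Groth.Agent.Unram17Lib.FiberKaehler

set_option autoImplicit false
set_option backward.isDefEq.respectTransparency false
set_option backward.isDefEq.respectTransparency.types false
universe u
open CategoryTheory CategoryTheory.Limits AlgebraicGeometry TopologicalSpace
open Unram17

namespace Groth.Agent.S5022

/-- Let f : X ⟶ Y be locally of finite presentation, (Ω', d) a sheaf of differentials of X over Y (d
universal) and x a point of X. Then f is smooth at x if and only if the stalk map at x is flat and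
there are an open neighbourhood U of x and an integer n with Ω' free of rank n on U and n equal to
the local dimension at x of the fibre of f through x. -/
theorem result {X Y : Scheme.{u}} (f : X ⟶ Y)
    [LocallyOfFinitePresentation f] (Ω' : X.Modules) (d : OmegaSh.Der f Ω') (hd : OmegaSh.IsUniversal d) (x : ↥X) :
    x ∈ f.smoothLocus ↔
      (f.stalkMap x).hom.Flat ∧
        ∃ (U : X.Opens) (n : ℕ), x ∈ U ∧ Nonempty (Ω'.restrict U.ι ≅ FlatMod.freeMod (↑U) n) ∧
          FlatMor.fibreDimAt f x = (n : WithBot ℕ∞) := by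
  constructor
  · intro hx
    refine ⟨Groth.Agent.SmoothLib.flat_of_formallySmooth_stalkMap f hx, ?_⟩
    obtain ⟨U₀, hxU₀, hsm⟩ := (Groth.Agent.SmoothLib.smooth_nhd_iff f x).mpr hx
    obtain ⟨W, hW, V', hV', hxV', e, h⟩ := Smooth.exists_isStandardSmooth (U₀.ι ≫ f) ⟨x, hxU₀⟩
    refine Groth.Agent.OmegaLib.exists_free_rank_fibreDimAt_of_isStandardSmooth hd hW
      (hV'.image_of_isOpenImmersion U₀.ι) ?_ ⟨⟨x, hxU₀⟩, hxV', rfl⟩ ?_
    · rintro _ ⟨z, hz, rfl⟩
      exact e hz
    · rw [← Scheme.Hom.appLE_comp_appLE _ _ W (U₀.ι ''ᵁ V') V' (by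
        rintro _ ⟨z, hz, rfl⟩; exact e hz) (U₀.ι.preimage_image_eq V').ge] at h
      haveI : IsIso (U₀.ι.appLE (U₀.ι ''ᵁ V') V' (U₀.ι.preimage_image_eq V').ge) := by
        rw [← Scheme.Hom.appIso_hom']; infer_instance
      rw [CommRingCat.hom_comp] at h
      exact (RingHom.isStandardSmooth_respectsIso.cancel_right_isIso _ _).1 h
  · rintro ⟨hflat, U, n, hxU, ⟨φ⟩, hn⟩
    obtain ⟨W, V, hW, hV, hxV, hVU, e⟩ := Groth.Agent.OmegaLib.exists_affine_pair f hxU
    obtain ⟨b⟩ := Groth.Agent.Props12.exists_basis_sections φ hVU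
    refine Groth.Agent.Unram17Lib.formallySmooth_stalkMap_of_flat_of_basis f hW hV e hxV hflat
      (n := n) ?_ hn.ge
    obtain ⟨ψ, -⟩ := Groth.Agent.OmegaLib.exists_sections_equiv hd e hW hV
    exact ⟨b.map ψ.symm⟩

end Groth.Agent.S5022
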