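import Groth.Statements.S1159
import Groth.Agent.Purity10.PowerSeriesDepth
import Groth.Agent.Lef23.GrFree
import Groth.Agent.Lef23.FEtFF
import Groth.Agent.Lef23.NhdApply
import Groth.Agent.FEtFF.Generic

set_option linter.style.haveILetI false
-- import your own Groth.Agent.* helpers here

set_option autoImplicit false
universe u
open Pi1

namespace Groth.Agent.S1159

open AlgebraicGeometry CategoryTheory CategoryTheory.Limits in
/-- Let A be a Noetherian local ring of depth at least 2, d ≥ 1, B = A[[x_1, ..., x_d]] (assumed local,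
as it is), Y = Spec B and Y₀ = V(x_1, ..., x_d), identified with Spec A via the quotient map. Let V
be an open subscheme of Y whose intersection with Y₀ is Y₀ minus the closed point. Then restriction
of finite etale covers from V to V ×_Y Y₀ is fully faithful. -/
theorem result (A : Type u) [CommRing A] [IsNoetherianRing A] [IsLocalRing A]
    (hA : (2 : ℕ∞) ≤ LocCoh.depth A A) (d : ℕ) (hd : 1 ≤ d)
    [IsLocalRing (MvPowerSeries (Fin d) A)]
    (V : (Spec (CommRingCat.of (MvPowerSeries (Fin d) A))).Opens)
    (hV : ∀ y : Spec (CommRingCat.of (MvPowerSeries (Fin d) A)),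
      (∀ i : Fin d, MvPowerSeries.X i ∈ (y : PrimeSpectrum (MvPowerSeries (Fin d) A)).asIdeal) →
      (y ∈ V ↔ y ≠ IsLocalRing.closedPoint (MvPowerSeries (Fin d) A))) :
    (FEt.restrict (pullback.fst V.ι (Spec.map (CommRingCat.ofHom
      (MvPowerSeries.constantCoeff : MvPowerSeries (Fin d) A →+* A))))).Full ∧
    (FEt.restrict (pullback.fst V.ι (Spec.map (CommRingCat.ofHom
      (MvPowerSeries.constantCoeff : MvPowerSeries (Fin d) A →+* A))))).Faithful := by
  classical
  let B := MvPowerSeries (Fin d) A
  let σ : B →+* A := MvPowerSeries.constantCoeff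
  let J : Ideal B := RingHom.ker σ
  haveI : IsAdicComplete J B := Purity10.PSDepth.isAdicComplete_ker
  haveI : IsNoetherianRing B := inferInstance
  have hσ : Function.Surjective σ := fun r => ⟨MvPowerSeries.C r, MvPowerSeries.constantCoeff_C r⟩
  haveI : IsClosedImmersion (Spec.map (CommRingCat.ofHom σ)) := IsClosedImmersion.spec_of_surjective _ hσ
  haveI : IsNoetherian (Spec (CommRingCat.of B)) := inferInstance
  haveI : IsLocallyNoetherian (↑V : Scheme.{u}) := LocallyOfFiniteType.isLocallyNoetherian V.ι
  haveI : CompactSpace (↑V : Scheme.{u}) := isCompact_iff_compactSpace.mp (TopologicalSpace.NoetherianSpace.isCompact _)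
  haveI : AlgebraicGeometry.IsNoetherian (↑V : Scheme.{u}) := ⟨⟩
  haveI : (↑V : Scheme.{u}).IsQuasiAffine := Scheme.IsQuasiAffine.of_isImmersion V.ι
  let R : CommRingCat.{u} := CommRingCat.of B
  haveI : IsNoetherianRing R := ‹IsNoetherianRing B›
  let 𝔞 : Ideal B := PrimeSpectrum.vanishingIdeal ((SetLike.coe V : Set (Spec R))ᶜ : Set (PrimeSpectrum B))
  have hV' : V = LocCoh.puncturedOpen R 𝔞 := Lef23.NhdApply.eq_puncturedOpen V
  have hmem : ∀ p : PrimeSpectrum B, ((p : Spec (CommRingCat.of B)) ∈ V) ↔ ¬ 𝔞 ≤ p.asIdeal := fun p => by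
    conv_lhs => rw [hV']
    rfl
  have hrad : (𝔞.map σ).radical = IsLocalRing.maximalIdeal A := by
    have hloc : IsLocalHom σ := ⟨fun x hx => MvPowerSeries.isUnit_iff_constantCoeff.2 hx⟩
    refine le_antisymm ?_ ?_
    · refine (Ideal.IsMaximal.isPrime inferInstance).radical_le_iff.2 ?_
      rw [Ideal.map_le_iff_le_comap]
      have hc : (IsLocalRing.maximalIdeal A).comap σ = IsLocalRing.maximalIdeal B :=
        ((IsLocalRing.local_hom_TFAE σ).out 0 4).1 hloc
      rw [hc]
      by_contra hle
      exact ((hV (IsLocalRing.closedPoint B) fun i =>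
        (IsLocalRing.mem_maximalIdeal _).2 fun h => by
          have h' := MvPowerSeries.isUnit_iff_constantCoeff.1 h
          rw [MvPowerSeries.constantCoeff_X] at h'
          exact not_isUnit_zero h').1 ((hmem (IsLocalRing.closedPoint B)).2 hle)) rfl
    · rw [Ideal.radical_eq_sInf]
      refine le_sInf fun q hq => ?_
      haveI := hq.2
      let p : PrimeSpectrum B := ⟨q.comap σ, inferInstance⟩
      have hX : ∀ i : Fin d, MvPowerSeries.X i ∈ p.asIdeal := fun i => by
        show MvPowerSeries.constantCoeff (MvPowerSeries.X i) ∈ q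
        rw [MvPowerSeries.constantCoeff_X]
        exact q.zero_mem
      have hp : ¬ (p : Spec (CommRingCat.of B)) ∈ V := fun h => (hmem p).1 h (Ideal.map_le_iff_le_comap.1 hq.1)
      have hp' : q.comap σ = IsLocalRing.maximalIdeal B := by
        by_contra hne
        exact hp ((hV p hX).2 fun e => hne (congrArg PrimeSpectrum.asIdeal e))
      intro x hx
      obtain ⟨y, rfl⟩ := hσ x
      have : y ∈ IsLocalRing.maximalIdeal B := by
        rw [IsLocalRing.mem_maximalIdeal, mem_nonunits_iff]
        exact fun h => (IsLocalRing.mem_maximalIdeal _).1 hx (h.map σ)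
      rw [← hp'] at this
      exact this
  obtain ⟨h0, hn⟩ := Purity10.PSDepth.depth_bounds hA 𝔞 hrad
  let K := (Spec.map (CommRingCat.ofHom σ)).ker.comap V.ι
  have hJ : K = (FSch.idealSpec B J).comap V.ι := by
    show (Spec.map (CommRingCat.ofHom σ)).ker.comap V.ι = (Spec.map (CommRingCat.ofHom (Ideal.Quotient.mk J))).ker.comap V.ι
    let e := RingHom.quotientKerEquivOfSurjective hσ
    have hfac : CommRingCat.ofHom σ = CommRingCat.ofHom (Ideal.Quotient.mk J) ≫ e.toCommRingCatIso.hom :=
      CommRingCat.hom_ext (RingHom.ext fun x => (RingHom.quotientKerEquivOfSurjective_apply_mk hσ x).symm)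
    rw [hfac, Spec.map_comp, Scheme.Hom.ker_comp_of_isIso]
  obtain ⟨hfull, hfaith⟩ := Lef23.restrict_full_faithful_of_formal K fun D hD =>
    Lef23.formal_of_quasiAffine K (Lef23.formalBijective_of_toHHlim J K hJ
      (Lef23.GrFree.toHHlim_of_open (R := R) 𝔞 J V hV' h0 hn)) D hD
  let g := pullback.fst V.ι (Spec.map (CommRingCat.ofHom σ))
  haveI : IsClosedImmersion g := inferInstance
  have hk : g.ker = K := Scheme.IdealSheafData.ker_fst_of_isClosedImmersion _ _
  rw [← hk] at hfull hfaith
  haveI := hfull
  haveI := hfaith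
  obtain ⟨hi, hif⟩ := FEtFF.restrict_iso_full_faithful g.toImage
  haveI := hi
  haveI := hif
  let e : FEt.restrict g ≅ FEt.restrict g.imageι ⋙ FEt.restrict g.toImage :=
    MorphismProperty.Over.pullbackComp (P := FEt.prop) (Q := ⊤) g.toImage g.imageι g g.toImage_imageι.symm
  exact ⟨Functor.Full.of_iso e.symm, Functor.Faithful.of_iso e.symm⟩

end Groth.Agent.S1159
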