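import Groth.Statements.S17761
import Groth.Agent.LocCoh.NonVanishing
import Groth.Agent.LocCoh.IdealTransform

set_option autoImplicit false
universe u
open LocCoh

namespace Groth.Agent.S17761

theorem not_finite {R : Type u} [CommRing R] [IsNoetherianRing R] [IsLocalRing R] (M : Type u)
    [AddCommGroup M] [Module R M] [Module.Finite R M] (n : ℕ) (hn0 : 0 < n)
    (hn : Module.supportDim R M = n) :
    ¬ Module.Finite R (_root_.LocCoh.H (IsLocalRing.maximalIdeal R) n M) := by
  intro hfin
  haveI hne := Groth.Agent.LocCoh.nontrivial_H_supportDim M n hn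
  obtain ⟨x, hxm, hxmin⟩ : ∃ x ∈ IsLocalRing.maximalIdeal R,
      ∀ p ∈ (Module.annihilator R M).minimalPrimes, x ∉ p := by
    by_contra hcon
    push Not at hcon
    have hsub : (IsLocalRing.maximalIdeal R : Set R) ⊆
        ⋃ p ∈ (Module.annihilator R M).minimalPrimes, (p : Set R) := fun x hx => by
      obtain ⟨p, hp, hxp⟩ := hcon x hx
      exact Set.mem_biUnion hp hxp
    obtain ⟨p, hp, hle⟩ := (Ideal.subset_union_prime_finite
      (Ideal.finite_minimalPrimes_of_isNoetherianRing R _) ⊤ ⊤ fun q hq _ _ => hq.1.1).1 hsub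
    haveI := hp.1.1
    haveI hM : Nontrivial M := not_subsingleton_iff_nontrivial.1 fun hs => by
      rw [(Module.supportDim_eq_bot_iff_subsingleton R M).2 hs] at hn
      exact WithBot.bot_ne_coe hn
    obtain ⟨q, hq, hqd⟩ := Groth.Agent.LocCoh.exists_prime_ringKrullDim_eq_supportDim (R := R) M
    rw [Module.support_eq_zeroLocus] at hq
    have h1 : p = IsLocalRing.maximalIdeal R :=
      ((IsLocalRing.maximalIdeal.isMaximal R).eq_of_le hp.1.1.ne_top hle).symm
    have h2 : q.asIdeal = IsLocalRing.maximalIdeal R :=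
      le_antisymm (IsLocalRing.le_maximalIdeal q.2.ne_top)
        (h1.symm.le.trans (hp.2 ⟨q.2, hq⟩ (h1 ▸ IsLocalRing.le_maximalIdeal q.2.ne_top)))
    have h3 : ringKrullDim (R ⧸ q.asIdeal) = 0 := by
      rw [h2]
      exact ringKrullDim_eq_zero_of_field (IsLocalRing.ResidueField R)
    rw [hqd, hn] at h3
    have h4 : n = 0 := by exact_mod_cast h3
    omega
  have hdim : Module.supportDim R (QuotSMulTop x M) < (n : WithBot ℕ∞) := by
    refine Groth.Agent.LocCoh.lt_of_add_one_le hn.le ?_
    exact Module.supportDim_quotSMulTop_succ_le_of_notMem_minimalPrimes hxmin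
  have hsurj := Groth.Agent.LocCoh.smul_H_surjective (I := IsLocalRing.maximalIdeal R) (M := M) x hn.le hdim
  obtain ⟨k, hk⟩ := Groth.Agent.LocCoh.exists_pow_smul_eq_zero (I := IsLocalRing.maximalIdeal R)
    (hfin.fg_top) (fun z _ => Groth.Agent.LocCoh.isPowerTorsion_H n z)
  have hall : ∀ j : ℕ, Function.Surjective
      (fun a : _root_.LocCoh.H (IsLocalRing.maximalIdeal R) n M => x ^ j • a) := by
    intro j
    induction j with
    | zero => exact fun a => ⟨a, by simp⟩
    | succ j ih =>
      intro a
      obtain ⟨b, hb⟩ := hsurj a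
      obtain ⟨c, hc⟩ := ih b
      exact ⟨c, by simp only at hb hc ⊢; rw [pow_succ', mul_smul, hc, hb]⟩
  obtain ⟨a, ha⟩ := exists_ne (0 : _root_.LocCoh.H (IsLocalRing.maximalIdeal R) n M)
  obtain ⟨b, hb⟩ := hall k a
  exact ha (hb.symm.trans (hk _ (Ideal.pow_mem_pow hxm k) b trivial))



/-- Let R be a Noetherian local ring with maximal ideal m and M a finitely generated R-module whose
support has positive dimension n. Then the local cohomology module H^n_m(M) is not a finitely
generated R-module. -/
theorem result (R : Type u) [CommRing R] [IsNoetherianRing R] [IsLocalRing R] (M : Type u) [AddCommGroup M] [Module R M] [Module.Finite R M] (n : ℕ) (hn0 : 0 < n) (hn : Module.supportDim R M = n) : ¬ Module.Finite R (LocCoh.H (IsLocalRing.maximalIdeal R) n M) := by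
  exact not_finite M n hn0 hn

end Groth.Agent.S17761
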