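import Groth.Statements.S1162
import Mathlib.AlgebraicGeometry.Morphisms.UniversallyInjective
import Groth.Agent.DimLib.Maximal

set_option autoImplicit false
open CategoryTheory CategoryTheory.Limits AlgebraicGeometry Opposite
universe u
open Desc

set_option backward.isDefEq.respectTransparency.types false
set_option backward.isDefEq.respectTransparency false

namespace Groth.Agent.S1162


/-- Let f : X ⟶ Y be flat and separated. Write X⁰ for the generic points of the irreducible components
of X. If for every ξ in X⁰ the residue field extension κ(f ξ) ⊆ κ(ξ) is trivial and f is injective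
on X⁰, then f is universally injective. -/
theorem result {X Y : Scheme.{u}} (f : X ⟶ Y) [Flat f] [IsSeparated f]
    (h2 : ∀ ξ : X, closure ({ξ} : Set X) ∈ irreducibleComponents (X : Type u) →
      Function.Surjective (f.residueFieldMap ξ).hom)
    (h3 : Set.InjOn f.base {ξ : X | closure ({ξ} : Set X) ∈ irreducibleComponents (X : Type u)}) :
    UniversallyInjective f := by
  rw [UniversallyInjective.iff_diagonal]
  haveI : IsClosedImmersion (Limits.pullback.diagonal f) := IsSeparated.isClosedImmersion_diagonal
  have hcl : IsClosed (Set.range (Limits.pullback.diagonal f)) :=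
    (Limits.pullback.diagonal f).isClosedEmbedding.isClosed_range
  refine ⟨fun w => ?_⟩
  let Z := irreducibleComponent w
  have hZ := irreducibleComponent_mem_irreducibleComponents w
  obtain ⟨z, hz⟩ := QuasiSober.sober hZ.1 (isClosed_of_mem_irreducibleComponents _ hZ)
  have hzmax : ∀ v, v ⤳ z → z ⤳ v := fun v hv => hz.specializes
    (hZ.2 isIrreducible_singleton.closure (hz.def ▸ hv.closure_subset) (subset_closure rfl))
  suffices h : z ∈ Set.range (Limits.pullback.diagonal f) from
    (hz.specializes mem_irreducibleComponent).mem_closed hcl h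
  have hmax : ∀ p : Limits.pullback f f ⟶ X, Flat p → closure ({p z} : Set X) ∈ irreducibleComponents (X : Type u) :=
    fun p hp => DimLib.closure_mem_components fun v hv =>
      DimLib.isMax_apply_of_flat p (fun w hw => ((hzmax w hw).antisymm hw).eq) v hv
  have hm1 := hmax (Limits.pullback.fst f f) inferInstance
  have hm2 := hmax (Limits.pullback.snd f f) inferInstance
  have heq : Limits.pullback.fst f f z = Limits.pullback.snd f f z := by
    refine h3 hm1 hm2 ?_
    show (Limits.pullback.fst f f ≫ f) z = (Limits.pullback.snd f f ≫ f) z
    rw [Limits.pullback.condition]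
  let ξ := Limits.pullback.fst f f z
  let c := (Limits.pullback f f).fromSpecResidueField z
  let φ₁ := (Limits.pullback.fst f f).residueFieldMap z
  let φ₂ := (X.residueFieldCongr heq).hom ≫ (Limits.pullback.snd f f).residueFieldMap z
  have e1 : Spec.map φ₁ ≫ X.fromSpecResidueField ξ = c ≫ Limits.pullback.fst f f :=
    Scheme.Hom.SpecMap_residueFieldMap_fromSpecResidueField _ z
  have e2 : Spec.map φ₂ ≫ X.fromSpecResidueField ξ = c ≫ Limits.pullback.snd f f := by
    rw [Spec.map_comp, Category.assoc, Scheme.residueFieldCongr_fromSpecResidueField heq]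
    exact Scheme.Hom.SpecMap_residueFieldMap_fromSpecResidueField _ z
  haveI : Epi (f.residueFieldMap ξ) := ConcreteCategory.epi_of_surjective _ (h2 ξ hm1)
  have e : φ₁ = φ₂ := by
    rw [← cancel_epi (f.residueFieldMap ξ)]
    apply Spec.map_injective
    rw [Spec.map_comp, Spec.map_comp, ← cancel_mono (Y.fromSpecResidueField (f ξ)), Category.assoc, Category.assoc,
      Scheme.Hom.SpecMap_residueFieldMap_fromSpecResidueField, reassoc_of% e1, reassoc_of% e2,
      Limits.pullback.condition]
  have hc : c = (c ≫ Limits.pullback.fst f f) ≫ Limits.pullback.diagonal f := by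
    apply Limits.pullback.hom_ext
    · simp
    · rw [← e2, ← e, e1]
      simp
  refine ⟨(c ≫ Limits.pullback.fst f f) (IsLocalRing.closedPoint _), ?_⟩
  rw [← Scheme.Hom.comp_apply, ← hc]
  exact Scheme.fromSpecResidueField_apply z _

end Groth.Agent.S1162
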