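import Groth.Statements.S1168
import Groth.Agent.HilbSh8.Locus
-- import your own Groth.Agent.* helpers here

set_option autoImplicit false
set_option backward.isDefEq.respectTransparency.types false
open CategoryTheory CategoryTheory.Limits AlgebraicGeometry
universe u
open HilbD

namespace Groth.Agent.S1168

/-- Let i : X ⟶ Y be a closed immersion of schemes over S (structure morphisms i ≫ g and g) and suppose
(H, Z) represents the degree-d Hilbert functor of points of Y over S. Then the degree-d Hilbert
functor of points of X over S is representable, and for any representing pair (H', Z') the unique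
S-morphism H' ⟶ H classifying the image of Z' in Y ×_S H' is a closed immersion. -/
theorem result {X Y S : Scheme.{u}} (i : X ⟶ Y) [IsClosedImmersion i] (g : Y ⟶ S)
    (d : ℕ) (H : Over S) (Z : HilbD.Obj g d H) (hZ : HilbD.IsUniversal g d H Z) :
    HilbD.Representable (i ≫ g) d ∧
    ∀ (H' : Over S) (Z' : HilbD.Obj (i ≫ g) d H') (_ : HilbD.IsUniversal (i ≫ g) d H' Z') (m : H' ⟶ H),
      HilbD.pull g m Z.1 = HilbD.push i g H' Z'.1 → IsClosedImmersion m.left := by
  exact Groth.Agent.HilbSh8.representable_comp_closedImmersion i g H Z hZ

end Groth.Agent.S1168
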