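import Groth.Statements.S1178
import Groth.Agent.EGA43.FPKernel
import Groth.Agent.EGA43.QcohFP
import Groth.Agent.Coherent.FinitePres
import Mathlib.RingTheory.Finiteness.ModuleFinitePresentation

set_option autoImplicit false
open CategoryTheory CategoryTheory.Limits AlgebraicGeometry Opposite
universe u
open Desc

set_option backward.isDefEq.respectTransparency.types false
set_option backward.isDefEq.respectTransparency false

namespace Groth.Agent.S1178
theorem finitePresentation_of_restrictScalars (A B M : Type*) [CommRing A]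
    [CommRing B] [Algebra A B] [Module.Finite A B] [AddCommGroup M] [Module A M] [Module B M]
    [IsScalarTower A B M] [Module.FinitePresentation A M] : Module.FinitePresentation B M := by
  have : Module.Finite B M := Module.Finite.of_restrictScalars_finite A B M
  obtain ⟨n, g, hg⟩ := Module.Finite.exists_fin' B M
  refine Module.finitePresentation_of_surjective g hg ?_
  have h := Module.FinitePresentation.fg_ker (g.restrictScalars A) hg
  rw [LinearMap.ker_restrictScalars] at h
  apply Submodule.FG.of_restrictScalars A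
  exact h


/-- Let f : X ⟶ Y be finite and locally of finite presentation and F a quasi-coherent O_X-module. Then F
is finitely presented exactly when its pushforward f_*F is a finitely presented O_Y-module. -/
theorem result {X Y : Scheme.{u}} (f : X ⟶ Y) [IsFinite f] [LocallyOfFinitePresentation f]
    (F : X.Modules) [F.IsQuasicoherent] :
    CohB1.IsFP F ↔ CohB1.IsFP ((Scheme.Modules.pushforward f).obj F) := by
  have hAB : ∀ V : Y.Opens, IsAffineOpen V → letI := (f.app V).hom.toAlgebra
      Module.Finite Γ(Y, V) Γ(X, f ⁻¹ᵁ V) ∧ Module.FinitePresentation Γ(Y, V) Γ(X, f ⁻¹ᵁ V) := by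
    intro V hV
    let := (f.app V).hom.toAlgebra
    have h1 : Module.Finite Γ(Y, V) Γ(X, f ⁻¹ᵁ V) := IsFinite.finite_app f V hV
    have h2 : Algebra.FinitePresentation Γ(Y, V) Γ(X, f ⁻¹ᵁ V) := by
      have h3 := f.finitePresentation_appLE hV (hV.preimage f) le_rfl
      rw [← Scheme.Hom.app_eq_appLE] at h3
      exact h3
    exact ⟨h1, Module.FinitePresentation.of_finite_of_finitePresentation _ _⟩
  have hq : Coh.IsQCoh ((Scheme.Modules.pushforward f).obj F) := Groth.Agent.Coherent.isQCoh_push f F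
  constructor
  · intro hF
    refine Groth.Agent.EGA43.FPKernel.isFP_of_forall_exists_affine _ fun y => ?_
    obtain ⟨V, hV, hy, -⟩ := exists_isAffineOpen_mem_and_subset (x := y) (U := ⊤) trivial
    refine ⟨V, hV, hy, ?_⟩
    let := (f.app V).hom.toAlgebra
    obtain ⟨-, hB⟩ := hAB V hV
    have := Groth.Agent.EGA43.QcohFP.finitePresentation_sections F hF (hV.preimage f)
    let := Module.compHom Γ(F, f ⁻¹ᵁ V) (f.app V).hom
    have : IsScalarTower Γ(Y, V) Γ(X, f ⁻¹ᵁ V) Γ(F, f ⁻¹ᵁ V) :=
      IsScalarTower.of_algebraMap_smul fun _ _ => rfl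
    exact (Module.FinitePresentation.trans Γ(Y, V) Γ(F, f ⁻¹ᵁ V) Γ(X, f ⁻¹ᵁ V) :
      Module.FinitePresentation Γ(Y, V) Γ(F, f ⁻¹ᵁ V))
  · intro hP
    refine Groth.Agent.EGA43.FPKernel.isFP_of_forall_exists_affine _ fun x => ?_
    obtain ⟨V, hV, hy, -⟩ := exists_isAffineOpen_mem_and_subset (x := f x) (U := ⊤) trivial
    refine ⟨f ⁻¹ᵁ V, hV.preimage f, hy, ?_⟩
    have hM := Groth.Agent.EGA43.QcohFP.finitePresentation_sections _ hP hV
    let := (f.app V).hom.toAlgebra
    obtain ⟨hBf, -⟩ := hAB V hV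
    let := Module.compHom Γ(F, f ⁻¹ᵁ V) (f.app V).hom
    have : IsScalarTower Γ(Y, V) Γ(X, f ⁻¹ᵁ V) Γ(F, f ⁻¹ᵁ V) :=
      IsScalarTower.of_algebraMap_smul fun _ _ => rfl
    have hM' : Module.FinitePresentation Γ(Y, V) Γ(F, f ⁻¹ᵁ V) := hM
    exact finitePresentation_of_restrictScalars Γ(Y, V) Γ(X, f ⁻¹ᵁ V) Γ(F, f ⁻¹ᵁ V)

end Groth.Agent.S1178
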