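import Groth.Statements.S7337
import Groth.Agent.S7299
import Groth.Agent.S7297
import Groth.Agent.S1650
import Groth.Agent.CAlgH3.BlowUpCd
import Groth.Agent.CAlgH3.Serre
import Groth.Agent.Resolve13.ModBase
import Groth.Agent.Coherent.QcohLocal
import Groth.Agent.Coherent.RpushStalk
import Groth.Agent.InjMod14.Local
import Groth.Agent.Resolve13.SncSupport
import Groth.Agent.BlowUpLib.Proper
import Groth.Agent.Lef23.Formal
import Groth.Agent.EulerLib.Twist
import Groth.Agent.Clifford24.Lipman.GG
import Groth.Agent.Coherent.CohBC.Global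
import Groth.Agent.Coherent.TensorA
import Groth.Agent.Resolve13.Modification
import Groth.Agent.Resolve13.CurveBlowUp
import Groth.Agent.SDiv28.StalkCartier
import Groth.Agent.CAlgH3.CMRing
-- import your own Groth.Agent.* helpers here

set_option autoImplicit false
set_option backward.isDefEq.respectTransparency.types false
universe u
open CategoryTheory CategoryTheory.Limits AlgebraicGeometry
open Resolve

namespace Groth.Agent.S7337

open Groth.Agent.Coherent Groth.Agent.AmpleLib Groth.Agent.InjMod14.Kosz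
open scoped Groth.Agent.Coherent.CohBC

/-- An injective linear map between powers of the maximal ideal with cokernel killed by it is onto the next power. -/
theorem range_eq_pow_succ {A : Type u} [CommRing A] [IsDomain A] [IsLocalRing A] [IsNoetherianRing A]
    [IsIntegrallyClosed A] (hdim : ringKrullDim A = 2) (n : ℕ)
    (β : ↥(IsLocalRing.maximalIdeal A ^ (n + 1)) →ₗ[A] ↥(IsLocalRing.maximalIdeal A ^ n))
    (hβ : Function.Injective β)
    (hkill : ∀ c ∈ IsLocalRing.maximalIdeal A, ∀ z : ↥(IsLocalRing.maximalIdeal A ^ n), c • z ∈ LinearMap.range β) :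
    LinearMap.range β = Submodule.comap (IsLocalRing.maximalIdeal A ^ n).subtype (IsLocalRing.maximalIdeal A ^ (n + 1)) := by
  let m := IsLocalRing.maximalIdeal A
  let K := FractionRing A
  have hm : m ≠ ⊥ := fun h => by
    have hfld : IsField A := IsLocalRing.isField_iff_maximalIdeal_eq.2 h
    rw [ringKrullDim_eq_zero_of_isField hfld] at hdim
    exact absurd hdim (by decide)
  obtain ⟨a0, ha0, hne⟩ := Submodule.exists_mem_ne_zero_of_ne_bot (p := m ^ (n + 1)) (pow_ne_zero _ hm)
  let b0 : A := (β ⟨a0, ha0⟩ : A)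
  have hcomm : ∀ w : ↥(m ^ (n + 1)), (β w : A) * a0 = (w : A) * b0 := fun w => by
    have h : a0 • β w = (w : A) • β ⟨a0, ha0⟩ := by
      rw [← map_smul, ← map_smul]
      exact congrArg β (Subtype.ext (mul_comm _ _))
    exact ((mul_comm _ _).trans (congrArg Subtype.val h))
  have hb0 : b0 ≠ 0 := fun h => hne (congrArg Subtype.val (hβ ((Subtype.ext h).trans (map_zero β).symm)))
  have hrange : ∀ v ∈ m ^ (n + 1), ∃ w : ↥(m ^ (n + 1)), (β w : A) = v := by
    intro v hv
    rw [pow_succ'] at hv
    refine Submodule.mul_induction_on hv (fun c hc z hz => ?_) (fun x y hx hy => ?_)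
    · obtain ⟨w, hw⟩ := hkill c hc ⟨z, hz⟩
      exact ⟨w, congrArg Subtype.val hw⟩
    · obtain ⟨w, hw⟩ := hx
      obtain ⟨w', hw'⟩ := hy
      exact ⟨w + w', by rw [map_add, Submodule.coe_add, hw, hw']⟩
  obtain ⟨r, hr⟩ : ∃ r, r * b0 = a0 := by
    have hint : IsIntegral A (algebraMap A K a0 / algebraMap A K b0) := by
      refine isIntegral_of_smul_mem_submodule (Submodule.map (Algebra.linearMap A K) (m ^ (n + 1))) ?_
        ((IsNoetherian.noetherian _).map _) _ ?_
      · exact fun h => hne (IsFractionRing.injective A K (((Submodule.mem_bot A).1 (h.le ⟨a0, ha0, rfl⟩)).trans (map_zero _).symm))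
      · rintro _ ⟨v, hv, rfl⟩
        obtain ⟨w, hw⟩ := hrange v hv
        refine ⟨(w : A), w.2, ?_⟩
        show algebraMap A K (w : A) = algebraMap A K a0 / algebraMap A K b0 * algebraMap A K v
        rw [div_mul_eq_mul_div, eq_div_iff (fun h => hb0 (IsFractionRing.injective A K (h.trans (map_zero _).symm))),
          ← map_mul, ← map_mul, ← hw, ← hcomm, mul_comm]
    obtain ⟨r, hr⟩ := IsIntegrallyClosed.isIntegral_iff.mp hint
    refine ⟨r, IsFractionRing.injective A K ?_⟩
    rw [map_mul, hr, div_mul_cancel₀]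
    exact fun h => hb0 (IsFractionRing.injective A K (h.trans (map_zero _).symm))
  have hβr : ∀ w : ↥(m ^ (n + 1)), (β w : A) * r = (w : A) := fun w =>
    mul_right_cancel₀ hb0 (by rw [mul_assoc, hr, hcomm])
  have hru : IsUnit r := by
    by_contra hru
    have hrm : r ∈ m := hru
    have hr0 : r ≠ 0 := fun h => hne (by rw [← hr, h, zero_mul])
    have hle : m ≤ (Ideal.span {r}).radical := fun c hc =>
      ⟨n + 1, Ideal.mem_span_singleton'.2 ⟨_, hβr ⟨_, Ideal.pow_mem_pow hc (n + 1)⟩⟩⟩
    have hmin : m ∈ (Ideal.span {r}).minimalPrimes := ⟨⟨inferInstance, (Ideal.span_singleton_le_iff_mem _).2 hrm⟩,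
      fun q ⟨hq, hrq⟩ _ => hle.trans (hq.radical_le_iff.2 hrq)⟩
    have h1 := Ideal.height_le_one_of_isPrincipal_of_mem_minimalPrimes (Ideal.span {r}) m hmin
    have h2 := IsLocalRing.maximalIdeal_height_eq_ringKrullDim (R := A)
    rw [hdim] at h2
    have h3 : (m.height : WithBot ℕ∞) ≤ 1 := by exact_mod_cast h1
    rw [show m = IsLocalRing.maximalIdeal A from rfl, h2] at h3
    exact absurd h3 (by decide)
  ext z
  constructor
  · rintro ⟨w, rfl⟩
    obtain ⟨s, hs⟩ := hru.exists_right_inv
    show (β w : A) ∈ m ^ (n + 1)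
    have : (β w : A) = (w : A) * s := by rw [← hβr w, mul_assoc, hs, mul_one]
    rw [this]
    exact Ideal.mul_mem_right _ _ w.2
  · intro hz
    obtain ⟨w, hw⟩ := hrange _ hz
    exact ⟨w, Subtype.ext hw⟩

/-- A normal local ring of dimension at most two is Cohen–Macaulay. -/
theorem cm_of_normal {R : Type u} [CommRing R] [IsLocalRing R] [IsNoetherianRing R] [IsDomain R] [IsIntegrallyClosed R]
    (hd' : ringKrullDim R ≤ 2) : LocCoh.IsCohenMacaulayLocalRing R := by
  by_cases h1 : ringKrullDim (R) ≤ 1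
  · have := Groth.Agent.CAlgH3.isRegularLocalRing_of_normal_dim_le_one h1
    exact Groth.Agent.CAlgH3.isCohenMacaulayLocalRing_of_regular _
  · have h2 : 2 ≤ ringKrullDim (R) := by
      generalize ringKrullDim (R) = d at h1
      induction d using WithBot.recBotCoe with
      | bot => exact absurd bot_le h1
      | coe n =>
        have h1' : (1 : ℕ∞) < n := by simpa using h1
        exact WithBot.coe_le_coe.2 (show (2 : ℕ∞) ≤ n by
          simpa [one_add_one_eq_two] using Order.add_one_le_of_lt h1')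
    have hdepth : (2 : WithBot ℕ∞) ≤ ((LocCoh.depth (R) (R) : ℕ∞) : WithBot ℕ∞) :=
      WithBot.coe_le_coe.2 (Groth.Agent.CAlgH3.two_le_depth_of_normal h2)
    have hle := Groth.Agent.CAlgH3.depth_le_supportDim (R := R) (M := R)
    rw [Module.supportDim_self_eq_ringKrullDim] at hle
    rw [Groth.Agent.CAlgH3.isCohenMacaulayLocalRing_iff_depth]
    exact le_antisymm (hd'.trans hdepth) hle


theorem mem_support_maximal (A : Type u) [CommRing A] [IsLocalRing A] (y : Spec (CommRingCat.of A)) :
    y ∈ (Curv2.idealSheaf A (IsLocalRing.maximalIdeal A)).support ↔ y = IsLocalRing.closedPoint A := by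
  have h := Set.ext_iff.1 (CAlgH3.BlowUpCd.support_idealSheaf (IsLocalRing.maximalIdeal A)) y
  refine h.trans ⟨fun hy => ?_, fun hy => hy ▸ (le_refl (IsLocalRing.maximalIdeal A) : _)⟩
  exact PrimeSpectrum.ext (IsLocalRing.maximalIdeal.isMaximal A |>.eq_of_le y.2.ne_top hy).symm

/-- Let (A, m, κ) be a local normal Nagata domain of dimension two defining a rational singularity, let
X → Spec A (the structure morphism of X over Spec A) be the blowing up in m, and let E ⊂ X be the
exceptional divisor with ideal sheaf I = O_X(1), so that O_E(n) pushed forward to X is I^{⊗ n} ⊗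
O_X/I. Then E is Cohen–Macaulay of dimension one; H^1(E, O_E(n)) = 0 for n ≥ 0; and H^0(E, O_E(n)) ≅
m^n/m^{n+1} for n ≥ 0. (The published statement also asserts that E is proper over κ, that O_E(1) is
very ample, and that deg O_E(1) ≥ 1 with equality only for A regular; this row does not restate
those, and states the description of H^0(E, O_E(n)) as an equality of A-lengths.) -/
theorem result (A : Type u) [CommRing A] [IsDomain A] [IsLocalRing A] [IsNoetherianRing A]
    [IsIntegrallyClosed A] (hN : CAlg.IsNagata A) (hdim : ringKrullDim A = 2) (hA : Curv2.IsRationalSing A)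
    (X : Scheme.{u}) [X.Over (Spec (CommRingCat.of A))]
    (hb : BlowUp.IsBlowUp (X ↘ Spec (CommRingCat.of A)) (Curv2.idealSheaf A (IsLocalRing.maximalIdeal A))) (n : ℕ) :
    (∀ e : ↥(BlowUp.exceptional (X ↘ Spec (CommRingCat.of A)) (Curv2.idealSheaf A (IsLocalRing.maximalIdeal A))).subscheme,
        LocCoh.IsCohenMacaulayLocalRing
          ((BlowUp.exceptional (X ↘ Spec (CommRingCat.of A)) (Curv2.idealSheaf A (IsLocalRing.maximalIdeal A))).subscheme.presheaf.stalk e)) ∧
      topologicalKrullDim ↥(BlowUp.exceptional (X ↘ Spec (CommRingCat.of A)) (Curv2.idealSheaf A (IsLocalRing.maximalIdeal A))).subscheme = 1 ∧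
      Subsingleton (Coh.HH X (CohB1.tensorMod
        (CohB1.tensorPow (ClSub.idealMod (BlowUp.exceptional (X ↘ Spec (CommRingCat.of A)) (Curv2.idealSheaf A (IsLocalRing.maximalIdeal A)))) n)
        (ClSub.quotMod (BlowUp.exceptional (X ↘ Spec (CommRingCat.of A)) (Curv2.idealSheaf A (IsLocalRing.maximalIdeal A))))) 1) ∧
      Module.length A (Coh.HH X (CohB1.tensorMod
        (CohB1.tensorPow (ClSub.idealMod (BlowUp.exceptional (X ↘ Spec (CommRingCat.of A)) (Curv2.idealSheaf A (IsLocalRing.maximalIdeal A)))) n)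
        (ClSub.quotMod (BlowUp.exceptional (X ↘ Spec (CommRingCat.of A)) (Curv2.idealSheaf A (IsLocalRing.maximalIdeal A))))) 0) =
        Module.length A (↥(IsLocalRing.maximalIdeal A ^ n) ⧸
          (Submodule.comap (IsLocalRing.maximalIdeal A ^ n).subtype (IsLocalRing.maximalIdeal A ^ (n + 1)))) := by
  classical
  let m := IsLocalRing.maximalIdeal A
  let S := Spec (CommRingCat.of A)
  let f : X ⟶ S := X ↘ Spec (CommRingCat.of A)
  let J : S.IdealSheafData := Curv2.idealSheaf A m
  let T : S.affineOpens := ⟨⊤, isAffineOpen_top _⟩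
  let iso := (Scheme.ΓSpecIso (CommRingCat.of A)).inv.hom
  have hJT : J.ideal T = m.map iso := by
    show (m.map iso).map ((Spec (CommRingCat.of A)).presheaf.map (homOfLE le_top).op).hom = _
    rw [show (homOfLE (le_top : (⊤ : (Spec (CommRingCat.of A)).Opens) ≤ ⊤)).op = 𝟙 _ from rfl,
      CategoryTheory.Functor.map_id]
    exact Ideal.map_id _
  have hft : BlowUp.IsFiniteTypeIdeal J := fun U => by
    haveI : IsNoetherianRing Γ(S, U.1) := IsLocallyNoetherian.component_noetherian U
    exact IsNoetherian.noetherian _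
  have hne : J ≠ ⊥ := fun h => by
    have h1 : m.map iso = ⊥ := by rw [← hJT, h]; rfl
    rw [Ideal.map_eq_bot_iff_of_injective
      (ConcreteCategory.bijective_of_isIso (Scheme.ΓSpecIso (CommRingCat.of A)).inv).1] at h1
    have hfld : IsField A := IsLocalRing.isField_iff_maximalIdeal_eq.2 h1
    rw [ringKrullDim_eq_zero_of_isField hfld] at hdim
    exact absurd hdim (by decide)
  have hη : genericPoint S ∈ J.support.compl := Resolve13.genericPoint_notMem_support J hne
  haveI : IsIntegral X := Resolve13.isIntegral_blowUp hb hη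
  haveI : IsProper f := BlowUpLib.isProper_of_isBlowUp hb hft
  haveI : IsLocallyNoetherian X := LocallyOfFiniteType.isLocallyNoetherian f
  haveI hisoff := SDiv28.isIso_off_center hb
  have hbir : ∃ U : S.Opens, (U : Set S).Nonempty ∧ IsIso (f ∣_ U) := ⟨J.support.compl, ⟨_, hη⟩, hisoff⟩
  obtain ⟨hξ, hb'⟩ := Coherent.birational_of_isIso_morphismRestrict f J.support.compl ⟨_, hη⟩
  have hXn := Groth.Agent.S1650.result A hN hdim hA X f hb
  let I := BlowUp.exceptional f J
  have hI : BlowUp.IsEffCartierIdeal I := hb.1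
  have hS9 : ∀ j, Subsingleton (Coh.HH X (ClSub.idealMod (I ^ j)) 1) ∧ ∀ a : A, (∀ U : X.affineOpens,
      Coh.resTop X (Opposite.op U.1) (Coh.toGlobal f a) ∈ (I ^ j).ideal U) ↔ a ∈ m ^ j :=
    fun j => Groth.Agent.S7299.result A hN hdim hA X f hXn hbir hI j
  haveI hisotop : IsIso (f.app ⊤) := Coherent.isIso_app_of_birational f
    (CommAlg4.Cone.isNormalScheme_spec (CommRingCat.of A)) hξ ((ConcreteCategory.isIso_iff_bijective _).2 hb') ⊤
  have hglob : Function.Bijective (Coh.toGlobal f) :=
    (ConcreteCategory.bijective_of_isIso (f.app ⊤)).comp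
      (ConcreteCategory.bijective_of_isIso (Scheme.ΓSpecIso (CommRingCat.of A)).inv)
  have htoΓ : ∀ (a : A) (V : X.Opens), CohBC.toΓ A V a = ModPairLib.res (le_top : V ≤ ⊤) (Coh.toGlobal f a) :=
    fun a V => rfl
  have htoΓtop : ∀ a : A, CohBC.toΓ A (⊤ : X.Opens) a = Coh.toGlobal f a := fun a =>
    ConcreteCategory.congr_hom (X.presheaf.map_id (Opposite.op (⊤ : X.Opens))) _
  -- sections of the powers
  have hsec : ∀ j, ∃ e : Γ(ClSub.idealMod (I ^ j), (⊤ : X.Opens)) ≃ₗ[A] ↥(m ^ j), True := by
    intro j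
    let e0 : Γ(ClSub.idealMod (I ^ j), (⊤ : X.Opens)) → A := fun z =>
      (Equiv.ofBijective _ hglob).symm (ival (I ^ j) ⊤ z)
    have he0 : ∀ z, Coh.toGlobal f (e0 z) = ival (I ^ j) ⊤ z := fun z => Equiv.apply_symm_apply (Equiv.ofBijective _ hglob) _
    have hmem : ∀ z, e0 z ∈ m ^ j := fun z => ((hS9 j).2 _).1 fun U => by
      rw [he0]
      have h := ival_mem (I ^ j) U (resM _ le_top z)
      rw [Resolve13.IdealPow.ival_resM] at h
      exact h
    let l : Γ(ClSub.idealMod (I ^ j), (⊤ : X.Opens)) →ₗ[A] ↥(m ^ j) :=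
      { toFun := fun z => ⟨e0 z, hmem z⟩
        map_add' := fun z w => Subtype.ext (hglob.1 (by
          show Coh.toGlobal f (e0 (z + w)) = Coh.toGlobal f (e0 z + e0 w)
          rw [map_add, he0, he0, he0]
          exact map_add ((ClSub.idealModι (I ^ j)).app ⊤).hom z w))
        map_smul' := fun a z => Subtype.ext (hglob.1 (by
          show Coh.toGlobal f (e0 (a • z)) = Coh.toGlobal f (a * e0 z)
          rw [map_mul, he0, he0, ← htoΓtop]
          exact Resolve13.IdealPow.ival_smul (I ^ j) ⊤ _ z)) }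
    refine ⟨LinearEquiv.ofBijective l ⟨fun z w h => ?_, fun a => ?_⟩, trivial⟩
    · refine Resolve13.IdealPow.ival_inj (I ^ j) ⊤ ?_
      rw [← he0, ← he0]
      exact congrArg (fun t => Coh.toGlobal f (Subtype.val t)) h
    · obtain ⟨z, hz⟩ := Resolve13.IdealPow.exists_top (I ^ j) (Coh.toGlobal f a.1) (((hS9 j).2 _).2 a.2)
      exact ⟨z, Subtype.ext (hglob.1 ((he0 z).trans hz))⟩
  -- the sequence
  let M := ClSub.idealMod I
  let L := CohB1.tensorPow M n
  have hM : PicF.IsInvertible M := FlatMor12.IdealModGen.isInvertible_idealMod I hI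
  have hL : PicF.IsInvertible L := AmpleLib.isInvertible_tensorPow hM n
  let Q0 := CohB1.tensorMod (ClSub.quotMod I) L
  let Sq := ShortComplex.mk (ClSub.idealModι I) (ClSub.toSubscheme I) (kernel.condition (ClSub.toSubscheme I))
  have hSq : (EulerLib.twistSeq Sq L).ShortExact :=
    EulerLib.twistSeq_shortExact hL (CurveRR24.shortExact_ideal I)
  obtain ⟨p1⟩ := Lef23.nonempty_idealMod_pow I hI (n + 1)
  obtain ⟨p0⟩ := Lef23.nonempty_idealMod_pow I hI n
  let e1 : ClSub.idealMod (I ^ (n + 1)) ≅ (EulerLib.twistSeq Sq L).X₁ := p1 ≪≫ AmpleLib.tensorComm L M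
  let e0 : ClSub.idealMod (I ^ n) ≅ (EulerLib.twistSeq Sq L).X₂ := p0 ≪≫ (AmpleLib.unitTensorIso (M := L)).symm
  let u : ClSub.idealMod (I ^ (n + 1)) ⟶ ClSub.idealMod (I ^ n) := e1.hom ≫ (EulerLib.twistSeq Sq L).f ≫ e0.inv
  let v : ClSub.idealMod (I ^ n) ⟶ Q0 := e0.hom ≫ (EulerLib.twistSeq Sq L).g
  have w : u ≫ v = 0 := by
    simp only [u, v, Category.assoc, Iso.inv_hom_id_assoc]
    exact (congrArg (e1.hom ≫ ·) (EulerLib.twistSeq Sq L).zero).trans comp_zero
  let S' := ShortComplex.mk u v w
  have hS' : S'.ShortExact := ShortComplex.shortExact_of_iso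
    (ShortComplex.isoMk e1.symm e0.symm (Iso.refl _) (by simp [S', u]) (by simp [S', v]; rfl)) hSq
  have hQ2 : Subsingleton (Coh.HH X (ClSub.idealMod (I ^ (n + 1))) 2) :=
    Groth.Agent.S7297.result A hN hdim hA X f hXn hbir _ (AmpleLib.isQCoh_of_isInvertible
      (KLLib.isInvertible_of_iso p1.symm (AmpleLib.isInvertible_tensorPow hM (n + 1)))) 2 le_rfl
  -- comparison with the statement's module
  let c : CohB1.tensorMod L (ClSub.quotMod I) ≅ Q0 := AmpleLib.tensorComm L (ClSub.quotMod I)
  have hH1 : Subsingleton (Coh.HH X Q0 1) := Lipman24.subsingleton_HH_X₃ hS' 1 (hS9 n).1 hQ2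
  have hsurj : Function.Surjective (v.app ⊤) := Lipman24.surjective_app_top hS' (hS9 (n + 1)).1
  -- `m` kills the sections of `Q0`
  have hkillQ : ∀ a ∈ m, ∀ z : Γ(Q0, (⊤ : X.Opens)), a • z = 0 := by
    intro a ha z
    refine AmpleLib.sec_ext _ _ _ fun y _ => ?_
    obtain ⟨W0, hyW0, g, hg⟩ := PicLib.exists_isGen hL y
    obtain ⟨W, hW, hyW, hWW0⟩ := exists_isAffineOpen_mem_and_subset (x := y) (U := W0) hyW0
    refine ⟨W, le_top, hyW, ?_⟩
    rw [CohBC.resM_smulA, map_zero]
    obtain ⟨q, hq⟩ := (AmpleLib.bijective_tmul_gen (M := ClSub.quotMod I) hg W hWW0).2 (resM Q0 le_top z)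
    rw [← hq]
    show CohBC.toΓ A W a • tmul q (resM L hWW0 g) = 0
    rw [← AmpleLib.tmul_smul_left]
    have h0 : CohBC.toΓ A W a • q = (0 : Γ(ClSub.quotMod I, W)) := by
      have h2 : CohBC.toΓ A W a ∈ I.ideal ⟨W, hW⟩ := by
        have := ((hS9 1).2 a).2 (by rwa [pow_one]) ⟨W, hW⟩
        rw [pow_one] at this
        exact this
      have h3 : (I.subschemeι.app W).hom (CohBC.toΓ A W a) = 0 :=
        RingHom.mem_ker.1 ((I.ker_subschemeι_app ⟨W, hW⟩).symm ▸ h2)
      change (I.subschemeι.app W).hom (CohBC.toΓ A W a) * (show Γ(I.subscheme, I.subschemeι ⁻¹ᵁ W) from q) = 0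
      rw [h3]
      exact zero_mul _
    rw [h0, AmpleLib.tmul_zero_left]
  refine ⟨?_, ?_, ?_, ?_⟩
  · -- Cohen–Macaulay
    intro e
    let x := I.subschemeι e
    obtain ⟨g, hg, hker⟩ := SDiv28.StalkCartier.exists_ker_stalkMap hI e
    have := (hXn x).1
    have := (hXn x).2
    have hCM := cm_of_normal ((Resolve13.Modification.ringKrullDim_stalk_le f hξ hb' x).trans
      (Resolve13.ringKrullDim_stalk_spec_le hdim.le (f x)))
    haveI : Nontrivial (X.presheaf.stalk x ⧸ Ideal.span {g}) :=
      Ideal.Quotient.nontrivial_iff.2 (hker ▸ RingHom.ker_ne_top _)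
    haveI : IsLocalRing (X.presheaf.stalk x ⧸ Ideal.span {g}) :=
      IsLocalRing.of_surjective' _ Ideal.Quotient.mk_surjective
    have hgm : g ∈ IsLocalRing.maximalIdeal (X.presheaf.stalk x) :=
      IsLocalRing.le_maximalIdeal (RingHom.ker_ne_top _) (hker ▸ Ideal.mem_span_singleton_self g)
    have hCMq := (CAlgH3.isCohenMacaulayLocalRing_quotient_span_iff hgm
      (fun a b hab => (mul_cancel_left_mem_nonZeroDivisors hg).1 hab)).2 hCM
    haveI := hCMq
    exact CAlgH3.isCohenMacaulayLocalRing_of_ringEquiv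
      ((Ideal.quotEquivOfEq hker.symm).trans (RingHom.quotientKerEquivOfSurjective (I.subschemeι.stalkMap_surjective e)))
  · -- dimension one
    have hrange : Set.range I.subschemeι = f.base ⁻¹' {IsLocalRing.closedPoint A} := by
      rw [I.range_subschemeι]
      show ((J.comap f).support : Set X) = _
      rw [Scheme.IdealSheafData.support_comap]
      ext y
      show f y ∈ J.support ↔ f y = IsLocalRing.closedPoint A
      exact mem_support_maximal A (f y)
    let hom : ↥I.subscheme ≃ₜ ↥(f.fiber (IsLocalRing.closedPoint A)) :=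
      (I.subschemeι.isEmbedding.toHomeomorph).trans ((Homeomorph.setCongr (hrange.trans
        (f.range_fiberι _).symm)).trans (Scheme.Hom.fiberι f _).isEmbedding.toHomeomorph.symm)
    rw [hom.isHomeomorph.topologicalKrullDim_eq]
    refine le_antisymm (Resolve13.Modification.fiber_dim_le_one f hξ hb' (fun y =>
      Resolve13.ringKrullDim_stalk_spec_le hdim.le y)
      ((ringKrullDim_eq_zero_of_field S.functionField).le.trans zero_le_one) _) ?_
    by_contra hlt
    have hd0 : topologicalKrullDim ↥(f.fiber (IsLocalRing.closedPoint A)) ≤ 0 := by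
      exact Order.le_of_lt_succ (lt_of_lt_of_le (not_le.1 hlt) (le_refl _)) 
    haveI : IsNoetherian (f.fiber (IsLocalRing.closedPoint A)) := by
      haveI : LocallyOfFiniteType (f.fiberToSpecResidueField (IsLocalRing.closedPoint A)) :=
        (inferInstance : LocallyOfFiniteType (Limits.pullback.snd f (S.fromSpecResidueField _)))
      haveI := LocallyOfFiniteType.isLocallyNoetherian (f.fiberToSpecResidueField (IsLocalRing.closedPoint A))
      exact { }
    have hfinset : (f ⁻¹' {IsLocalRing.closedPoint A}).Finite := by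
      have h := ((CommAlg4.finite_and_isClosed_singleton_of_dim_le_zero isClosed_univ
        (by rwa [(Homeomorph.Set.univ _).isHomeomorph.topologicalKrullDim_eq])).1).image (f.fiberι (IsLocalRing.closedPoint A))
      rwa [Set.image_univ, f.range_fiberι] at h
    obtain ⟨W, hyW, hW⟩ := exists_isFinite_morphismRestrict_of_finite_preimage_singleton f _ hfinset
    have hWtop : W = ⊤ := InjMod14.eq_top_of_closedPoint_mem hyW
    haveI : IsFinite f := by
      subst hWtop
      exact (MorphismProperty.arrow_mk_iso_iff @IsFinite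
        (Arrow.isoMk X.topIso S.topIso (morphismRestrict_ι f ⊤).symm : Arrow.mk (f ∣_ ⊤) ≅ Arrow.mk f)).1 hW
    haveI : IsAffine X := isAffine_of_isAffineHom f
    let TX : X.affineOpens := ⟨⊤, isAffineOpen_top _⟩
    haveI : IsIso f := by
      haveI : IsIso f.appTop := hisotop
      have h := Scheme.isoSpec_hom_naturality f
      haveI : IsIso (Spec.map f.appTop) := inferInstance
      have h2 : f = X.isoSpec.hom ≫ Spec.map f.appTop ≫ (Scheme.isoSpec _).inv := by
        rw [← Category.assoc, h, Category.assoc, Iso.hom_inv_id, Category.comp_id]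
      rw [h2]; infer_instance
    obtain ⟨U, hU, g, hg, hUg⟩ := hI ((inv f) (IsLocalRing.closedPoint A))
    have hUtop : U.1 = ⊤ := by
      have h1 : (inv f) ⁻¹ᵁ U.1 = ⊤ := InjMod14.eq_top_of_closedPoint_mem hU
      refine top_le_iff.1 fun y _ => ?_
      have h2 : f y ∈ (inv f) ⁻¹ᵁ U.1 := h1 ▸ trivial
      have h3 : (f ≫ inv f) y ∈ U.1 := h2
      rwa [IsIso.hom_inv_id] at h3
    obtain rfl : U = TX := Subtype.ext hUtop
    have hcomap : I.ideal TX = m.map (Coh.toGlobal f) := by
      rw [show I.ideal TX = _ from Groth.Agent.S7299.ideal_comap_eq f m TX]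
      congr 1
      exact RingHom.ext fun a => ConcreteCategory.congr_hom (X.presheaf.map_id (Opposite.op (⊤ : X.Opens))) _
    obtain ⟨r, hr⟩ := hglob.2 g
    have hmr : m = Ideal.span {r} := by
      have h0 : m.map (Coh.toGlobal f) = (Ideal.span {r}).map (Coh.toGlobal f) :=
        hcomap.symm.trans (hUg.trans (((Ideal.map_span _ _).trans (by rw [Set.image_singleton]; exact congrArg (fun z => Ideal.span {z}) hr)).symm))
      have h1 := congrArg (Ideal.comap (Coh.toGlobal f)) h0
      rw [Ideal.comap_map_of_bijective _ hglob, Ideal.comap_map_of_bijective _ hglob] at h1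
      exact h1
    have hmin : m ∈ (Ideal.span {r}).minimalPrimes := ⟨⟨inferInstance, hmr.ge⟩, fun q ⟨_, hq⟩ _ => hmr.le.trans hq⟩
    have h1 := Ideal.height_le_one_of_isPrincipal_of_mem_minimalPrimes (Ideal.span {r}) m hmin
    have h2 := IsLocalRing.maximalIdeal_height_eq_ringKrullDim (R := A)
    rw [hdim] at h2
    have h3 : (m.height : WithBot ℕ∞) ≤ 1 := by exact_mod_cast h1
    rw [show m = IsLocalRing.maximalIdeal A from rfl, h2] at h3
    exact absurd h3 (by decide)
  · exact (Coherent.HHCongr A c 1).toEquiv.subsingleton_congr.2 hH1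
  · obtain ⟨E1, -⟩ := hsec (n + 1)
    obtain ⟨E0, -⟩ := hsec n
    let lu : Γ(ClSub.idealMod (I ^ (n + 1)), (⊤ : X.Opens)) →ₗ[A] Γ(ClSub.idealMod (I ^ n), (⊤ : X.Opens)) :=
      { toFun := fun z => u.app ⊤ z, map_add' := map_add _, map_smul' := fun a z => CohBC.app_smulA u ⊤ a z }
    let lv : Γ(ClSub.idealMod (I ^ n), (⊤ : X.Opens)) →ₗ[A] Γ(Q0, (⊤ : X.Opens)) :=
      { toFun := fun z => v.app ⊤ z, map_add' := map_add _, map_smul' := fun a z => CohBC.app_smulA v ⊤ a z }
    have hexact : ∀ z, lv z = 0 ↔ ∃ y, lu y = z := by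
      intro z
      constructor
      · intro hz
        exact Coherent.sections_exact hS' z hz
      · rintro ⟨y, rfl⟩
        exact congr(($(S'.zero)).app ⊤ y)
    have huinj : Function.Injective lu := by
      haveI := hS'.mono_f
      exact app_injective_of_mono u ⊤
    let β : ↥(m ^ (n + 1)) →ₗ[A] ↥(m ^ n) := E0.toLinearMap ∘ₗ lu ∘ₗ E1.symm.toLinearMap
    have hβ : LinearMap.range β = Submodule.comap (m ^ n).subtype (m ^ (n + 1)) := by
      refine range_eq_pow_succ hdim n β (E0.injective.comp (huinj.comp E1.symm.injective)) fun a ha z => ?_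
      obtain ⟨y, hy⟩ := (hexact (a • E0.symm z)).1 (by rw [map_smul]; exact hkillQ a ha _)
      refine ⟨E1 y, ?_⟩
      show E0 (lu (E1.symm (E1 y))) = a • z
      rw [LinearEquiv.symm_apply_apply, hy, map_smul, LinearEquiv.apply_symm_apply]
    let π : ↥(m ^ n) →ₗ[A] Γ(Q0, (⊤ : X.Opens)) := lv ∘ₗ E0.symm.toLinearMap
    have hπs : Function.Surjective π := hsurj.comp E0.symm.surjective
    have hker : LinearMap.ker π = Submodule.comap (m ^ n).subtype (m ^ (n + 1)) := by
      rw [← hβ]
      ext z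
      rw [LinearMap.mem_ker]
      show lv (E0.symm z) = 0 ↔ _
      rw [hexact]
      constructor
      · rintro ⟨y, hy⟩
        exact ⟨E1 y, by show E0 (lu (E1.symm (E1 y))) = z; rw [LinearEquiv.symm_apply_apply, hy, LinearEquiv.apply_symm_apply]⟩
      · rintro ⟨y, rfl⟩
        exact ⟨E1.symm y, (E0.symm_apply_apply _).symm⟩
    let eQ : Coh.HH X (CohB1.tensorMod L (ClSub.quotMod I)) 0 ≃ₗ[A] Γ(Q0, (⊤ : X.Opens)) :=
      ({ CohBC.globalEquivA A (CohB1.tensorMod L (ClSub.quotMod I)) with
        map_smul' := fun a x => by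
          refine (CohBC.globalEquiv_smul (CohB1.tensorMod L (ClSub.quotMod I)) a x).trans ?_
          refine congrArg (fun r : Γ(X, ⊤) => r • (show Γ(CohB1.tensorMod L (ClSub.quotMod I), (⊤ : X.Opens)) from
            CohBC.globalEquiv A (CohB1.tensorMod L (ClSub.quotMod I)) x)) ?_
          exact (htoΓtop a).symm } :
          Coh.HH X (CohB1.tensorMod L (ClSub.quotMod I)) 0 ≃ₗ[A] Γ(CohB1.tensorMod L (ClSub.quotMod I), (⊤ : X.Opens))).trans
        { toFun := fun z => c.hom.app ⊤ z
          invFun := fun z => c.inv.app ⊤ z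
          map_add' := map_add _
          map_smul' := fun a z => CohBC.app_smulA c.hom ⊤ a z
          left_inv := fun z => congr(($(c.hom_inv_id)).app ⊤ z)
          right_inv := fun z => congr(($(c.inv_hom_id)).app ⊤ z) }
    exact (eQ.trans ((Submodule.quotEquivOfEq _ _ hker.symm).trans
      (π.quotKerEquivOfSurjective hπs)).symm).length_eq


end Groth.Agent.S7337
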