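import Groth.Statements.S1183
import Groth.Agent.CAlgH.RegularSmooth
import Groth.Agent.CommAlg6.FieldExtSerre

set_option autoImplicit false
universe u
open Desc

set_option backward.isDefEq.respectTransparency.types false
set_option backward.isDefEq.respectTransparency false

namespace Groth.Agent.S1183


/-- Let A → B be a smooth ring map of Noetherian rings and k a natural number. If A satisfies (R_k) then
so does B; and if moreover A → B is faithfully flat and B satisfies (R_k), then A does. -/
theorem result (A B : Type u) [CommRing A] [CommRing B] [IsNoetherianRing A] [IsNoetherianRing B]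
    [Algebra A B] [Algebra.Smooth A B] (k : ℕ) :
    (LocCoh.HasRk k A → LocCoh.HasRk k B) ∧
    (Module.FaithfullyFlat A B → LocCoh.HasRk k B → LocCoh.HasRk k A) := by
  have : ∀ (p : Ideal A) [p.IsPrime], IsRegularRing (p.Fiber B) := fun p _ =>
    Groth.Agent.CAlgH.isRegularRing_of_smooth p.ResidueField (p.Fiber B)
  exact ⟨Groth.Agent.CommAlg6.hasRk_of_regular_fibres this k, fun h hB =>
    haveI := h; Groth.Agent.CommAlg6.hasRk_descend (A := A) (B := B) k hB⟩

end Groth.Agent.S1183
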