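import Groth.Statements.S1184
import Groth.Agent.DivCurve29.Relative

set_option autoImplicit false
open CategoryTheory CategoryTheory.Limits AlgebraicGeometry
universe u
open HilbD

namespace Groth.Agent.S1184

/-- Let f : X ⟶ S be smooth of relative dimension 1 and D the closed subscheme of X defined by a
quasi-coherent ideal sheaf I. Then I is the ideal of an effective Cartier divisor with D flat over S
if and only if the projection from D to S is flat, locally quasi-finite and locally finitely
presented; and both hold as soon as D is finite locally free over S. -/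
theorem result {X S : Scheme.{u}} (f : X ⟶ S) [SmoothOfRelativeDimension 1 f]
    (I : X.IdealSheafData) :
    ((BlowUp.IsEffCartierIdeal I ∧ Flat (I.subschemeι ≫ f)) ↔
      (LocallyQuasiFinite (I.subschemeι ≫ f) ∧ Flat (I.subschemeι ≫ f) ∧ LocallyOfFinitePresentation (I.subschemeι ≫ f))) ∧
    (Mor2.IsFinLocFree (I.subschemeι ≫ f) → BlowUp.IsEffCartierIdeal I ∧ Flat (I.subschemeι ≫ f)) := by
  have : Smooth f := SmoothOfRelativeDimension.smooth 1 f
  refine ⟨⟨fun ⟨hI, hF⟩ => ⟨DivCurve29.locallyQuasiFinite f I hI, hF, DivCurve29.lfp_of_isEffCartier f I hI⟩,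
    fun ⟨hq, hF, hP⟩ => ⟨DivCurve29.isEffCartier_of_lqf f I, hF⟩⟩, fun h => ?_⟩
  obtain ⟨hfin, hF, hP⟩ := h
  have : LocallyQuasiFinite (I.subschemeι ≫ f) := inferInstance
  exact ⟨DivCurve29.isEffCartier_of_lqf f I, hF⟩

end Groth.Agent.S1184
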