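import Groth.Statements.S1185
import Groth.Agent.FEtFF.PushforwardDepth
import Groth.Agent.FEtFF.Punctured
import Groth.Agent.CAlgH3.Serre

set_option autoImplicit false
set_option backward.isDefEq.respectTransparency.types false
universe u
open Pi1

namespace Groth.Agent.S1185

open AlgebraicGeometry CategoryTheory CategoryTheory.Limits in
/-- Finiteness of the sections and the extension criterion; the normality of the sections and the
equivalence of categories are not asserted: Let A be a normal Noetherian local domain of Krull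
dimension at least 2 with punctured spectrum U, and V a finite etale cover of U. Then the ring of
global sections of V is finite over A (through the map induced by V ⟶ U ⟶ Spec A), and V is the
restriction of a finite etale cover of Spec A if and only if that ring is etale over A. -/
theorem result (A : Type u) [CommRing A] [IsDomain A] [IsNoetherianRing A]
    [IsLocalRing A] [IsIntegrallyClosed A] (hdim : (2 : WithBot ℕ∞) ≤ ringKrullDim A)
    (V : FEt.Cat (FEt.puncturedSpec A : Scheme.{u})) :
    (((V.hom ≫ (FEt.puncturedSpec A).ι).appTop).hom.comp (Scheme.ΓSpecIso (CommRingCat.of A)).inv.hom).Finite ∧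
    ((∃ Y : FEt.Cat (Spec (CommRingCat.of A)), Nonempty ((FEt.restrict (FEt.puncturedSpec A).ι).obj Y ≅ V)) ↔
      (((V.hom ≫ (FEt.puncturedSpec A).ι).appTop).hom.comp (Scheme.ΓSpecIso (CommRingCat.of A)).inv.hom).Etale) := by
  haveI : IsFinite V.hom := V.prop.1
  haveI : Etale V.hom := V.prop.2
  have hA := Groth.Agent.CAlgH3.two_le_depth_of_normal hdim
  have hU := Groth.Agent.FEtFF.Hartogs.two_le_depth_stalk hA
  let S := Spec (CommRingCat.of A)
  let f := (FEt.puncturedSpec A).ι
  haveI : IsLocallyNoetherian S := inferInstance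
  have hfin : (V.hom ≫ f).appTop.hom.Finite :=
    Groth.Agent.FEtFF.Pushforward.finite_app V.hom hU (isAffineOpen_top S)
  let eS := (Scheme.ΓSpecIso (CommRingCat.of A)).symm.commRingCatIsoToRingEquiv
  refine ⟨RingHom.finite_respectsIso.2 _ eS hfin, ⟨?_, ?_⟩⟩
  · rintro ⟨Y, ⟨e⟩⟩
    have hb : Function.Bijective ((pullback.fst Y.hom f).app (Y.hom ⁻¹ᵁ ⊤)) :=
      Groth.Agent.FEtFF.bijective_app f Y.hom (IsPullback.of_hasPullback Y.hom f) (isAffineOpen_top S)
        (Groth.Agent.FEtFF.Hartogs.bijective_ι_app _ hU (isAffineOpen_top S))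
    haveI : IsIso (pullback.fst Y.hom f).appTop := (ConcreteCategory.isIso_iff_bijective _).mpr hb
    haveI : IsIso e.inv.left := (inferInstance : IsIso (((MorphismProperty.Over.forget _ _ _).mapIso e.symm).hom).left)
    let θ := e.inv.left ≫ pullback.fst Y.hom f
    haveI hi : IsIso e.inv.left.appTop := by
      refine ⟨(CategoryTheory.inv e.inv.left).appTop, ?_, ?_⟩ <;> rw [← Scheme.Hom.comp_appTop]
      · rw [IsIso.inv_hom_id]; rfl
      · rw [IsIso.hom_inv_id]; rfl
    haveI : IsIso θ.appTop := by rw [Scheme.Hom.comp_appTop]; exact IsIso.comp_isIso' ‹_› hi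
    have he : V.hom ≫ f = θ ≫ Y.hom := by
      have h1 : e.inv.left ≫ pullback.snd Y.hom f = V.hom := Groth.Agent.FEtQuot.hom_w e.inv
      have h2 : θ ≫ Y.hom = e.inv.left ≫ pullback.snd Y.hom f ≫ f := by
        simp only [θ, Category.assoc]; exact congrArg (e.inv.left ≫ ·) pullback.condition
      rw [h2, ← h1]; exact Category.assoc _ _ _
    rw [he, Scheme.Hom.comp_appTop]
    haveI : Etale Y.hom := Y.prop.2
    have h2 : Y.hom.appTop.hom.Etale := by
      have := Y.hom.etale_appLE (isAffineOpen_top S) ((isAffineOpen_top S).preimage Y.hom) le_rfl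
      rwa [← Scheme.Hom.app_eq_appLE] at this
    exact RingHom.Etale.respectsIso.2 _ eS (RingHom.Etale.respectsIso.1 _ (asIso θ.appTop).commRingCatIsoToRingEquiv h2)
  · intro het
    haveI hπ := Groth.Agent.FEtFF.Pushforward.isFinite_fromNormalization V.hom hU
    have het' : (V.hom ≫ f).appTop.hom.Etale := by
      have := RingHom.Etale.respectsIso.2 _ eS.symm het
      convert this using 1
      exact RingHom.ext fun x => congrArg _ (eS.apply_symm_apply x).symm
    have key : ((V.hom ≫ f).fromNormalization.app ⊤).hom.Etale := by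
      exact Groth.Agent.FEtFF.Pushforward.etale_fromNormalization_app _ (isAffineOpen_top S) hfin het'
    haveI : IsAffine S := inferInstance
    haveI : IsAffine (V.hom ≫ f).normalization := isAffine_of_isAffineHom (V.hom ≫ f).fromNormalization
    have hY : Etale (V.hom ≫ f).fromNormalization :=
      (HasRingHomProperty.iff_of_isAffine (P := @Etale)).mpr key
    obtain ⟨e, he⟩ := Groth.Agent.FEtFF.Pushforward.exists_pullback_iso (U := FEt.puncturedSpec A) V.hom
    exact ⟨MorphismProperty.Over.mk ⊤ (V.hom ≫ f).fromNormalization ⟨hπ, hY⟩, ⟨MorphismProperty.Over.isoMk e he⟩⟩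

end Groth.Agent.S1185
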