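import Groth.Statements.S1186
import Groth.Agent.FlatMorPush.FiniteEtale

set_option autoImplicit false
universe u
open Pi1

namespace Groth.Agent.S1186

open AlgebraicGeometry CategoryTheory CategoryTheory.Limits in
/-- Let i : Z ⟶ X be a closed immersion and j : Z ⟶ Y an integral morphism such that every fibre of j
lies in the preimage under i of some affine open of X, and let a : X ⟶ W, b : Y ⟶ W exhibit W as the
pushout of i and j in the category of schemes. If U is finite étale over X and V is finite étale
over Y with U ×_X Z ≅ V ×_Y Z over Z, then there is a finite étale cover T of W whose restrictions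
to X and to Y are isomorphic to U and to V respectively. (This is the essential-surjectivity part of
an equivalence between finite étale covers of W and the 2-fibre product of the categories of finite
étale covers of X and of Y over that of Z; only the gluing of objects is asserted, and the
compatibility of the two identifications over Z is not asserted.) -/
theorem result {Z X Y W : Scheme.{u}} (i : Z ⟶ X) [IsClosedImmersion i] (j : Z ⟶ Y) [IsIntegralHom j]
    (h3 : ∀ y : Y, ∃ U : X.Opens, IsAffineOpen U ∧ ∀ z : Z, j.base z = y → i.base z ∈ U)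
    (a : X ⟶ W) (b : Y ⟶ W) (hpo : IsPushout i j a b)
    (U : FEt.Cat X) (V : FEt.Cat Y) (e : (FEt.restrict i).obj U ≅ (FEt.restrict j).obj V) :
    ∃ T : FEt.Cat W, Nonempty ((FEt.restrict a).obj T ≅ U) ∧ Nonempty ((FEt.restrict b).obj T ≅ V) := by
  have h3' : ∀ y : Y, ∃ O : X.Opens, IsAffineOpen O ∧ ⇑j ⁻¹' {y} ⊆ (i ⁻¹ᵁ O : Set Z) := fun y => by
    obtain ⟨O, hO, hz⟩ := h3 y
    exact ⟨O, hO, fun z h => hz z h⟩
  have := FlatMorPush.hasPairs_of_integral i j h3'
  have : IsFinite U.hom := U.prop.1
  have : Etale U.hom := U.prop.2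
  have : IsFinite V.hom := V.prop.1
  have : Etale V.hom := V.prop.2
  let i' : pullback U.hom i ⟶ U.left := pullback.fst U.hom i
  let el : pullback U.hom i ⟶ pullback V.hom j := e.hom.left
  let el' : pullback V.hom j ⟶ pullback U.hom i := e.inv.left
  have hel : el ≫ pullback.snd V.hom j = pullback.snd U.hom i := Over.w e.hom.hom
  let j' : pullback U.hom i ⟶ V.left := el ≫ pullback.fst V.hom j
  have : IsIso el := ⟨el',
    congrArg (fun t => t.left) e.hom_inv_id, congrArg (fun t => t.left) e.inv_hom_id⟩
  have hX : IsPullback (pullback.snd U.hom i) i' i U.hom := (IsPullback.of_hasPullback U.hom i).flip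
  have hY : IsPullback (pullback.snd U.hom i) j' j V.hom :=
    (IsPullback.of_hasPullback V.hom j).flip.of_iso (asIso el).symm (Iso.refl _) (Iso.refl _) (Iso.refl _)
      (by simp [← hel]) (by simp [j']) (by simp) (by simp)
  have : IsClosedImmersion i' := MorphismProperty.of_isPullback hX ‹IsClosedImmersion i›
  have : IsIntegralHom j' := MorphismProperty.of_isPullback hY ‹IsIntegralHom j›
  have := FlatMorPush.hasPairs_of_finite hX hY
  let p := (FlatMorPush.isPushout i j).isoIsPushout _ _ hpo
  have hpa : FlatMorPush.inl i j ≫ p.hom = a := (FlatMorPush.isPushout i j).inl_isoIsPushout_hom _ _ hpo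
  have hpb : FlatMorPush.inr i j ≫ p.hom = b := (FlatMorPush.isPushout i j).inr_isoIsPushout_hom _ _ hpo
  obtain ⟨hfin, het⟩ := FlatMorPush.finite_etale_poMap hX hY
  let T : FEt.Cat W := MorphismProperty.Over.mk ⊤ (FlatMorPush.poMap hX hY ≫ p.hom)
    ⟨inferInstanceAs (IsFinite (FlatMorPush.poMap hX hY ≫ p.hom)),
      inferInstanceAs (Etale (FlatMorPush.poMap hX hY ≫ p.hom))⟩
  have hU : IsPullback (FlatMorPush.inl i' j') U.hom (FlatMorPush.poMap hX hY ≫ p.hom) a :=
    (FlatMorPush.isPullback_inl_poMap hX hY).flip.of_iso (Iso.refl _) (Iso.refl _) (Iso.refl _) p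
      (by simp) (by simp) (by simp) (by simpa using hpa)
  have hV : IsPullback (FlatMorPush.inr i' j') V.hom (FlatMorPush.poMap hX hY ≫ p.hom) b :=
    (FlatMorPush.isPullback_inr_poMap hX hY).flip.of_iso (Iso.refl _) (Iso.refl _) (Iso.refl _) p
      (by simp) (by simp) (by simp) (by simpa using hpb)
  exact ⟨T, ⟨MorphismProperty.Over.isoMk hU.isoPullback.symm hU.isoPullback_inv_snd⟩,
    ⟨MorphismProperty.Over.isoMk hV.isoPullback.symm hV.isoPullback_inv_snd⟩⟩

end Groth.Agent.S1186
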