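import Groth.Prelude.Def_HTor
import Groth.Prelude.Def_FlatMod2
import Mathlib.AlgebraicGeometry.Pullbacks
import Mathlib.AlgebraicGeometry.Morphisms.Separated
import Mathlib.LinearAlgebra.FreeModule.Basic
import Groth.Agent.HTor16.RGammaQcoh
import Groth.Agent.HTor16.AcyclicRes
import Groth.Agent.HTor16.FreeRes

set_option autoImplicit false
universe u
attribute [local instance] HasDerivedCategory.standard
namespace HTor
end HTor
open HTor

namespace Groth.Agent.S3528

attribute [-instance] Int.instConditionallyCompleteLinearOrder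

open CategoryTheory CategoryTheory.Limits AlgebraicGeometry in
/-- (Derived form.) Let X be a quasi-compact separated scheme over Spec A covered by N + 1 affine opens,
and P a complex of quasi-coherent O_X-modules with P^k = 0 for k > b. Then RΓ(X, P) ∈ D(A) (derived
global sections as A-modules) is represented by a complex L of free A-modules with L^k = 0 for k > b
+ N. (Consequently the hypercohomology modules H^k(X, P) vanish for k > b + N; this consequence is
not restated in the conclusion.) (The published statement gives a canonical isomorphism; here only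
the existence of an isomorphism in D(A) is asserted.) -/
theorem result (A : Type u) [CommRing A] (X : Scheme.{u})
    (f : X ⟶ Spec (CommRingCat.of A)) [QuasiCompact f] [IsSeparated f] [HTor.HasRΓA f]
    (N : ℕ) (U : Fin (N + 1) → X.Opens) (hU : ∀ i, IsAffineOpen (U i)) (hcov : ⨆ i, U i = ⊤)
    (P : CochainComplex X.Modules ℤ) (hq : ∀ i : ℤ, Coh.IsQCoh (P.X i)) (b : ℤ)
    (hb : ∀ i : ℤ, b < i → IsZero (P.X i)) :
    ∃ L : DRing.Cx A, (∀ i : ℤ, Module.Free A (L.X i)) ∧ DRing.VanishesAbove L (b + N) ∧
      HTor.Computes f L (DCoh.toD X P) := by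
  haveI := Groth.Agent.Coherent.hasInjectiveResolutions_modules X
  obtain ⟨C, hC, hz, ⟨eC⟩⟩ := Groth.Agent.HTor16.exists_acyclic_resolution (f := f) P hq N U hU hcov
  obtain ⟨e₁⟩ := Groth.Agent.HTor16.nonempty_rΓA_acyclic f C (fun n => (hC n).qcoh) fun n i hi => (hC n).acy i hi
  obtain ⟨L, w, hL, hLb, hw⟩ := Groth.Agent.HTor16.exists_free_res
    (((HTor.globalSectionsA f).mapHomologicalComplex (ComplexShape.up ℤ)).obj C) (b + N)
    fun n hn => (HTor.globalSectionsA f).map_isZero (hz n fun j h1 _ => hb j (by omega))
  haveI := hw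
  exact ⟨L, hL, hLb, ⟨asIso (DerivedCategory.Q.map w) ≪≫ e₁.symm ≪≫ (HTor.RΓA f).mapIso eC.symm⟩⟩

end Groth.Agent.S3528
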