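import Groth.Prelude.Def_HTor
import Groth.Prelude.Def_FlatMod2
import Mathlib.AlgebraicGeometry.Pullbacks
import Mathlib.AlgebraicGeometry.Morphisms.Separated
import Mathlib.LinearAlgebra.FreeModule.Basic
import Groth.Agent.HTor16.ExtTensor
import Groth.Agent.DQCoh.RHomTilde
import Groth.Agent.HTor16.TildeTensor

set_option autoImplicit false
universe u
attribute [local instance] HasDerivedCategory.standard
namespace HTor
end HTor
open HTor

namespace Groth.Agent.S3529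

attribute [-instance] Int.instConditionallyCompleteLinearOrder
set_option maxHeartbeats 2000000
open Groth.Agent.DCat

open CategoryTheory CategoryTheory.Limits AlgebraicGeometry in
/-- Let A be a ring, X₁, X₂ quasi-compact separated schemes over Spec A and P₁, P₂ complexes of
quasi-coherent modules on them vanishing in large degrees, every term of P₁ being flat over Spec A.
If L₁, L₂ are complexes of projective A-modules vanishing in large degrees that compute RΓ(X₁, P₁)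
and RΓ(X₂, P₂) in D(A), then L₁ ⊗_A L₂ computes RΓ(X₁ ×_A X₂, pr₁^*P₁ ⊗ pr₂^*P₂): the global
hypertor of P₁ and P₂ over Spec A is the hypercohomology of their external tensor product. (The
published statement, over a general base and pair of base schemes, gives a canonical isomorphism;
here the base is affine and equal to both, and only the existence of an isomorphism in D(A) is
asserted.) -/
theorem result (A : Type u) [CommRing A] (X₁ X₂ : Scheme.{u})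
    (f₁ : X₁ ⟶ Spec (CommRingCat.of A)) (f₂ : X₂ ⟶ Spec (CommRingCat.of A))
    [QuasiCompact f₁] [IsSeparated f₁] [QuasiCompact f₂] [IsSeparated f₂]
    [HTor.HasRΓA f₁] [HTor.HasRΓA f₂] [HTor.HasRΓA (pullback.fst f₁ f₂ ≫ f₁)]
    (P₁ : CochainComplex X₁.Modules ℤ) (P₂ : CochainComplex X₂.Modules ℤ)
    (hq₁ : ∀ i : ℤ, Coh.IsQCoh (P₁.X i)) (hq₂ : ∀ i : ℤ, Coh.IsQCoh (P₂.X i))
    (b₁ : ∃ b : ℤ, ∀ i : ℤ, b < i → IsZero (P₁.X i)) (b₂ : ∃ b : ℤ, ∀ i : ℤ, b < i → IsZero (P₂.X i))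
    (hfl : ∀ i : ℤ, FlatMod.IsFlatOver f₁ (P₁.X i))
    (L₁ L₂ : DRing.Cx A) (hL₁ : ∀ i : ℤ, Projective (L₁.X i)) (hL₂ : ∀ i : ℤ, Projective (L₂.X i))
    (c₁ : ∃ c : ℤ, DRing.VanishesAbove L₁ c) (c₂ : ∃ c : ℤ, DRing.VanishesAbove L₂ c)
    (e₁ : HTor.Computes f₁ L₁ (DCoh.toD X₁ P₁)) (e₂ : HTor.Computes f₂ L₂ (DCoh.toD X₂ P₂)) :
    HTor.Computes (pullback.fst f₁ f₂ ≫ f₁) (HTor.tensorCx L₁ L₂)
      (DCoh.toD (pullback f₁ f₂) (HTor.extTensorCx f₁ f₂ P₁ P₂)) := by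
  obtain ⟨b₁', hb₁⟩ := b₁
  obtain ⟨b₂', hb₂⟩ := b₂
  obtain ⟨d₁, hd₁⟩ := c₁
  obtain ⟨d₂, hd₂⟩ := c₂
  obtain ⟨eL₁⟩ := e₁
  obtain ⟨eL₂⟩ := e₂
  let p := pullback.fst f₁ f₂ ≫ f₁
  haveI : QuasiCompact p := inferInstance
  haveI : IsSeparated p := inferInstance
  haveI := hasRpush f₁
  haveI := hasRpush f₂
  haveI := hasRpush p
  haveI := hasLTen A
  haveI := Groth.Agent.HTor16.preservesFiniteLimits_tilde' (CommRingCat.of A)
  have hL₁k : IsKFlatFor (modT A) L₁ := isKFlatFor_of_flat L₁ d₁ hd₁ fun i => by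
    haveI : Module.Projective A (L₁.X i) := (IsProjective.iff_projective _).2 (hL₁ i)
    infer_instance
  have hb : ∀ {U : Scheme.{u}} (P : CochainComplex U.Modules ℤ) (b : ℤ), (∀ i, b < i → IsZero (P.X i)) →
      ∀ i, b < i → IsZero (DCoh.HD (DCoh.toD U P) i) := fun P b h i hi =>
    (ShortComplex.isZero_homology_of_isZero_X₂ _ (h i hi)).of_iso
      ((DerivedCategory.homologyFunctorFactors _ i).app P)
  obtain ⟨v₁⟩ := Groth.Agent.HTor16.nonempty_tildeD_rΓA f₁ _ (Groth.Agent.DQCoh.isQCohD_Q P₁ hq₁) b₁' (hb P₁ _ hb₁)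
  obtain ⟨v₂⟩ := Groth.Agent.HTor16.nonempty_tildeD_rΓA f₂ _ (Groth.Agent.DQCoh.isQCohD_Q P₂ hq₂) b₂' (hb P₂ _ hb₂)
  obtain ⟨q₁⟩ := Groth.Agent.HTor16.nonempty_Q_tildeCx L₁
  obtain ⟨q₂⟩ := Groth.Agent.HTor16.nonempty_Q_tildeCx L₂
  obtain ⟨hEq, ⟨u⟩⟩ := Groth.Agent.HTor16.exists_rpush_extTensor' f₁ f₂ p pullback.condition.symm
    P₁ P₂ hq₁ hq₂ b₁' b₂' hb₁ hb₂ hfl
    ((Groth.Agent.HTor16.tildeCx A).obj L₁) ((Groth.Agent.HTor16.tildeCx A).obj L₂)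
    (Groth.Agent.HTor16.isKFlat_tildeCx L₁ hL₁k)
    (v₁.symm ≪≫ (DCoh.tildeD (CommRingCat.of A)).mapIso eL₁.symm ≪≫ q₁)
    (v₂.symm ≪≫ (DCoh.tildeD (CommRingCat.of A)).mapIso eL₂.symm ≪≫ q₂)
  obtain ⟨v⟩ := Groth.Agent.HTor16.nonempty_tildeD_rΓA p _ hEq (b₁' + b₂') (hb _ _ fun i hi =>
    Groth.Agent.HTor16.isZero_tot_of_bounds _ _ b₁' b₂'
      (fun n hn => (Scheme.Modules.pullback _).map_isZero (hb₁ n hn))
      (fun n hn => (Scheme.Modules.pullback _).map_isZero (hb₂ n hn)) i hi)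
  obtain ⟨t⟩ := Groth.Agent.HTor16.nonempty_Q_tot_tildeCx L₂ L₁ hL₁k
  obtain ⟨a⟩ := Groth.Agent.HTor16.nonempty_iso_of_tildeD (R := CommRingCat.of A) (v ≪≫ u ≪≫ t)
  exact ⟨DerivedCategory.Q.mapIso (totSymm L₁ L₂) ≪≫ a.symm⟩

end Groth.Agent.S3529
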