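import Groth.Statements.S1191
import Groth.Agent.FlatMorDevissage.FlatAssFibre

set_option autoImplicit false
universe u
open FlatMor

namespace Groth.Agent.S1191

open TensorProduct in
/-- For a finitely presented algebra S over R, a finitely presented S-module N and a prime q of S over
p, some element of S outside q maps into every associated prime of the fibre module of N over p that
is not contained in the extension of q to the fibre ring. -/
theorem result {R S : Type u} [CommRing R] [CommRing S] [Algebra R S] [Algebra.FinitePresentation R S]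
    (N : Type u) [AddCommGroup N] [Module S N] [Module R N] [IsScalarTower R S N] [Module.FinitePresentation S N]
    (p : Ideal R) [p.IsPrime] (q : Ideal S) [q.IsPrime] [q.LiesOver p] :
    ∃ g : S, g ∉ q ∧ ∀ r ∈ associatedPrimes (p.Fiber S) (FlatCA.fiberMod p S N),
      ¬ r ≤ FlatCA.fiberIdeal p q → (1 : p.ResidueField) ⊗ₜ[R] g ∈ r := by
  classical
  let _ := Algebra.TensorProduct.rightAlgebra (R := R) (A := p.ResidueField) (B := S)
  have : IsNoetherianRing (p.Fiber S) := Algebra.FiniteType.isNoetherianRing p.ResidueField _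
  have : Module.Finite (p.Fiber S) (FlatCA.fiberMod p S N) :=
    inferInstanceAs (Module.Finite (p.Fiber S) (TensorProduct S (p.Fiber S) N))
  let W := (associatedPrimes.finite (p.Fiber S) (FlatCA.fiberMod p S N)).toFinset.filter
    (fun r => ¬ r ≤ FlatCA.fiberIdeal p q)
  let ι : S →+* p.Fiber S :=
    (Algebra.TensorProduct.includeRight (R := R) (A := p.ResidueField) (B := S)).toRingHom
  have hW : ∀ r ∈ W, ∃ g ∈ r.comap ι, g ∉ q := by
    intro r hr
    obtain ⟨hra, hrn⟩ := Finset.mem_filter.1 hr
    by_contra! hcon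
    have := ((associatedPrimes.finite _ _).mem_toFinset.1 hra).isPrime
    obtain ⟨-, heq⟩ := Groth.Agent.FlatMorDevissage.fiberPrime_spec p r
    exact hrn (heq.ge.trans (Ideal.map_mono hcon))
  choose g hg hgq using hW
  refine ⟨∏ r ∈ W.attach, g r.1 r.2, fun h => ?_, fun r hr hrn => ?_⟩
  · obtain ⟨r, -, hr⟩ := Ideal.IsPrime.prod_mem_iff.1 h
    exact hgq r.1 r.2 hr
  · have hrW : r ∈ W := Finset.mem_filter.2 ⟨(associatedPrimes.finite _ _).mem_toFinset.2 hr, hrn⟩
    have h1 : (∏ r ∈ W.attach, g r.1 r.2) ∈ r.comap ι :=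
      Ideal.mem_of_dvd _ (Finset.dvd_prod_of_mem (fun r : W => g r.1 r.2) (Finset.mem_attach W ⟨r, hrW⟩))
        (hg r hrW)
    exact h1

end Groth.Agent.S1191
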