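import Groth.Statements.S1193
import Mathlib
-- import your own Groth.Agent.* helpers here

set_option autoImplicit false
universe u
open FlatMor

namespace Groth.Agent.S1193

open IsLocalRing in
/-- Let R be a local ring, S an R-algebra whose closed fibre ring is Noetherian and N an S-module whose
closed fibre module N/𝔪N is finite. Let Σ be the set of elements of S acting injectively on N/𝔪N.
Then a prime of S is disjoint from Σ exactly when it lies inside an associated prime of N/𝔪N (the
primes of the localization at Σ), the localization of S at Σ has finitely many maximal ideals, and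
an ideal of that localization is maximal exactly when it is prime and contracts to a maximal member
of the set of associated primes of N/𝔪N. -/
theorem result {R S : Type u} [CommRing R] [IsLocalRing R] [CommRing S] [Algebra R S]
    (N : Type u) [AddCommGroup N] [Module S N] [Module R N] [IsScalarTower R S N]
    [IsNoetherianRing ((maximalIdeal R).Fiber S)]
    [Module.Finite ((maximalIdeal R).Fiber S) (FlatCA.fiberMod (maximalIdeal R) S N)] :
    (∀ (q : Ideal S) [q.IsPrime], Disjoint (q : Set S) (FlatCA.nzdFiber R S N) ↔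
        ∃ q' ∈ associatedPrimes S (FlatCA.fiberMod (maximalIdeal R) S N), q ≤ q') ∧
    {Q : Ideal (Localization (FlatCA.nzdFiber R S N)) | Q.IsMaximal}.Finite ∧
    (∀ Q : Ideal (Localization (FlatCA.nzdFiber R S N)), Q.IsMaximal ↔ (Q.IsPrime ∧
        Maximal (fun r => r ∈ associatedPrimes S (FlatCA.fiberMod (maximalIdeal R) S N))
          (Q.comap (algebraMap S (Localization (FlatCA.nzdFiber R S N)))))) := by
  let := Algebra.TensorProduct.rightAlgebra (R := R) (A := (maximalIdeal R).ResidueField) (B := S)
  let F := (maximalIdeal R).Fiber S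
  let M := FlatCA.fiberMod (maximalIdeal R) S N
  let φ : S →+* F := algebraMap S F
  have hφ : Function.Surjective φ := by
    have hκ : Function.Surjective (algebraMap R (maximalIdeal R).ResidueField) :=
      (Ideal.bijective_algebraMap_quotient_residueField (maximalIdeal R)).surjective.comp Ideal.Quotient.mk_surjective
    intro c
    induction c using TensorProduct.induction_on with
    | zero => exact ⟨0, map_zero _⟩
    | add x y hx hy =>
      obtain ⟨a, ha⟩ := hx
      obtain ⟨b, hb⟩ := hy
      exact ⟨a + b, by rw [map_add, ha, hb]⟩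
    | tmul a s =>
      obtain ⟨r, rfl⟩ := hκ a
      refine ⟨r • s, ?_⟩
      show TensorProduct.tmul R (1 : (maximalIdeal R).ResidueField) (r • s) = _
      rw [Algebra.algebraMap_eq_smul_one, TensorProduct.smul_tmul]
  have hsmul : ∀ (s : S) (z : M), φ s • z = s • z := fun s z =>
    algebraMap_smul (R := S) F s (show TensorProduct S F N from z)
  have hcolon : ∀ z : M, (⊥ : Submodule S M).colon {z} = ((⊥ : Submodule F M).colon {z}).comap φ := fun z => by
    ext s
    rw [Ideal.mem_comap, Submodule.mem_colon_singleton, Submodule.mem_colon_singleton, Submodule.mem_bot,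
      Submodule.mem_bot, hsmul]
  have hass : associatedPrimes S M = Ideal.comap φ '' associatedPrimes F M := by
    ext q
    constructor
    · rintro ⟨hq, z, hz⟩
      rw [hcolon, ← Ideal.comap_radical] at hz
      refine ⟨_, ⟨?_, z, rfl⟩, hz.symm⟩
      rw [← Ideal.map_comap_of_surjective φ hφ (((⊥ : Submodule F M).colon {z}).radical), ← hz]
      exact Ideal.map_isPrime_of_surjective hφ (by rw [hz, RingHom.ker_eq_comap_bot]; exact Ideal.comap_mono bot_le)
    · rintro ⟨Q, ⟨hQ, z, hz⟩, rfl⟩
      exact ⟨Ideal.comap_isPrime φ Q, z, by rw [hcolon, ← Ideal.comap_radical, hz]⟩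
  have hfin : (associatedPrimes S M).Finite := hass ▸ (associatedPrimes.finite F M).image _
  have hnzd : ∀ s : S, s ∉ FlatCA.nzdFiber R S N ↔ ∃ q' ∈ associatedPrimes S M, s ∈ q' := by
    intro s
    have h1 : s ∉ FlatCA.nzdFiber R S N ↔ φ s ∈ {r : F | ∃ x : M, x ≠ 0 ∧ r • x = 0} := by
      show ¬ (∀ m : M, s • m = 0 → m = 0) ↔ ∃ x : M, x ≠ 0 ∧ φ s • x = 0
      push Not
      exact exists_congr fun m => by rw [hsmul, and_comm]
    rw [h1, ← biUnion_associatedPrimes_eq_zero_divisors, hass]
    simp only [Set.mem_iUnion, SetLike.mem_coe, Set.exists_mem_image, Ideal.mem_comap, exists_prop]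
  have hdisj : ∀ (q : Ideal S) [q.IsPrime], Disjoint (q : Set S) (FlatCA.nzdFiber R S N) ↔
      ∃ q' ∈ associatedPrimes S M, q ≤ q' := by
    intro q _
    constructor
    · intro h
      refine (Ideal.subset_union_prime_finite (f := id) hfin 0 0 fun _ hp _ _ => hp.isPrime).1 fun x hx => ?_
      obtain ⟨q', hq', hxq⟩ := (hnzd x).1 (Set.disjoint_left.1 h hx)
      exact Set.mem_iUnion₂.2 ⟨q', hq', hxq⟩
    · rintro ⟨q', hq', hle⟩
      exact Set.disjoint_left.2 fun x hx => (hnzd x).2 ⟨q', hq', hle hx⟩
  let L := Localization (FlatCA.nzdFiber R S N)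
  have hmax : ∀ Q : Ideal L, Q.IsMaximal ↔ (Q.IsPrime ∧
      Maximal (fun r => r ∈ associatedPrimes S M) (Q.comap (algebraMap S L))) := by
    intro Q
    have key : ∀ (P : Ideal L), P.IsPrime → ∃ r ∈ associatedPrimes S M, P.comap (algebraMap S L) ≤ r := by
      intro P hP
      obtain ⟨hp, hd⟩ := (IsLocalization.isPrime_iff_isPrime_disjoint (FlatCA.nzdFiber R S N) L P).1 hP
      exact (hdisj _).1 hd.symm
    have hext : ∀ r ∈ associatedPrimes S M, (r.map (algebraMap S L)).IsPrime ∧
        (r.map (algebraMap S L)).comap (algebraMap S L) = r := fun r hr => by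
      have : r.IsPrime := hr.1
      have hd : Disjoint (FlatCA.nzdFiber R S N : Set S) (r : Set S) := ((hdisj r).2 ⟨r, hr, le_rfl⟩).symm
      exact ⟨IsLocalization.isPrime_of_isPrime_disjoint _ L r this hd,
        IsLocalization.comap_map_of_isPrime_disjoint _ L this hd⟩
    constructor
    · intro hQ
      obtain ⟨r, hr, hle⟩ := key Q hQ.isPrime
      have h1 : ∀ r' ∈ associatedPrimes S M, Q.comap (algebraMap S L) ≤ r' →
          r' = Q.comap (algebraMap S L) := fun r' hr' h => by
        have h2 : Q ≤ r'.map (algebraMap S L) := by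
          rw [← IsLocalization.map_comap (FlatCA.nzdFiber R S N) L Q]
          exact Ideal.map_mono h
        rw [hQ.eq_of_le (hext r' hr').1.ne_top h2, (hext r' hr').2]
      exact ⟨hQ.isPrime, h1 r hr hle ▸ hr, fun r' hr' h => (h1 r' hr' h).le⟩
    · rintro ⟨hQ, hQass, hQmax⟩
      obtain ⟨P, hP, hle⟩ := Ideal.exists_le_maximal Q hQ.ne_top
      obtain ⟨r, hr, hPr⟩ := key P hP.isPrime
      have h1 : P.comap (algebraMap S L) ≤ Q.comap (algebraMap S L) :=
        hPr.trans (hQmax hr ((Ideal.comap_mono hle).trans hPr))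
      have h2 : P = Q := by
        refine le_antisymm ?_ hle
        rw [← IsLocalization.map_comap (FlatCA.nzdFiber R S N) L P,
          ← IsLocalization.map_comap (FlatCA.nzdFiber R S N) L Q]
        exact Ideal.map_mono h1
      exact h2 ▸ hP
  refine ⟨fun q _ => hdisj q, ?_, hmax⟩
  refine Set.Finite.of_finite_image (f := Ideal.comap (algebraMap S L)) (hfin.subset ?_) fun P _ P' _ h => ?_
  · rintro _ ⟨Q, hQ, rfl⟩
    exact ((hmax Q).1 hQ).2.1
  · exact (IsLocalization.map_comap (FlatCA.nzdFiber R S N) L P).symm.trans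
      ((congrArg (Ideal.map (algebraMap S L)) h).trans (IsLocalization.map_comap (FlatCA.nzdFiber R S N) L P'))

end Groth.Agent.S1193
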