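import Groth.Statements.S1194
import Groth.Agent.FlatMorDevissage.LocalUniv

set_option autoImplicit false
universe u
open FlatMor

namespace Groth.Agent.S1194

open IsLocalRing in
/-- Let R → S be a local homomorphism of local rings which is essentially of finite presentation, and N
a finitely presented S-module flat over R. Then multiplication by any element of S acting
injectively on N/𝔪_R N is a universally injective map of R-modules on N, and the localization map
from N to its localization at all such elements is universally injective over R. -/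
theorem result {R S : Type u} [CommRing R] [IsLocalRing R] [CommRing S] [IsLocalRing S] [Algebra R S]
    [IsLocalHom (algebraMap R S)] (hS : FlatCA.EssFinitePresentation R S)
    (N : Type u) [AddCommGroup N] [Module S N] [Module R N] [IsScalarTower R S N] [Module.FinitePresentation S N] [Module.Flat R N] :
    (∀ s ∈ FlatCA.nzdFiber R S N, FlatCA.UnivInj R ((LinearMap.lsmul S N s).restrictScalars R)) ∧
    FlatCA.UnivInj R ((LocalizedModule.mkLinearMap (FlatCA.nzdFiber R S N) N).restrictScalars R) := by
  have key : ∀ s ∈ FlatCA.nzdFiber R S N,
      FlatCA.UnivInj R ((LinearMap.lsmul S N s).restrictScalars R) := by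
    obtain ⟨S₀, _, _, _, _, M₀, _, _⟩ := hS
    intro s hs
    refine Groth.Agent.FlatMorDevissage.univInj_lsmul_of_local M₀ s fun x hx => ?_
    have h1 : s • FlatCA.toFiberMod (maximalIdeal R) S N x = 0 := by
      rw [← map_smul]
      exact Groth.Agent.CAlgH3.FiberMod.toFiberMod_mk_eq_zero (maximalIdeal R) hx
    obtain ⟨r, hr, hrx⟩ :=
      (Groth.Agent.CAlgH3.FiberMod.toFiberMod_eq_zero_iff N (maximalIdeal R) x).1 (hs _ h1)
    rwa [Submodule.smul_mem_iff_of_isUnit _ ((IsLocalRing.notMem_maximalIdeal.1 hr).map _)] at hrx
  refine ⟨key, fun Q _ _ => ?_⟩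
  let g := LocalizedModule.mkLinearMap (FlatCA.nzdFiber R S N) N
  have hloc : IsLocalizedModule (FlatCA.nzdFiber R S N) (TensorProduct.AlgebraTensorModule.rTensor R Q g) := inferInstance
  have hr : Function.Injective (TensorProduct.AlgebraTensorModule.rTensor R Q g) := by
    rw [injective_iff_map_eq_zero]
    intro x hx
    obtain ⟨⟨s, hs⟩, hsx⟩ := (IsLocalizedModule.eq_zero_iff (FlatCA.nzdFiber R S N)
      (TensorProduct.AlgebraTensorModule.rTensor R Q g)).1 hx
    have hsx' : s • x = 0 := hsx
    have h1 : ((LinearMap.lsmul S N s).restrictScalars R).rTensor Q x = s • x := by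
      clear hsx hsx' hx
      induction x using TensorProduct.induction_on with
      | zero => simp
      | tmul a b => rw [LinearMap.rTensor_tmul, TensorProduct.smul_tmul']; rfl
      | add a b ha hb => rw [map_add, ha, hb, smul_add]
    exact (LinearMap.lTensor_inj_iff_rTensor_inj Q ((LinearMap.lsmul S N s).restrictScalars R)).1 (key s hs Q)
      ((h1.trans hsx').trans (map_zero _).symm)
  exact (LinearMap.lTensor_inj_iff_rTensor_inj Q (g.restrictScalars R)).2 hr

end Groth.Agent.S1194
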