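import Groth.Statements.S1195
import Groth.Agent.FlatMorDevissage.AssCover

set_option autoImplicit false
universe u
open FlatMor

namespace Groth.Agent.S1195

open TensorProduct in
/-- Let S be a finitely presented R-algebra, N a finitely presented S-module flat over R, and S' a flat
S-algebra such that every prime q of S (over p in R) whose extension to the fibre ring over p is an
associated prime of the fibre module of N is the contraction of a prime of S'. Then the base change
map N → S' ⊗_S N is universally injective as a map of R-modules. -/
theorem result {R S S' : Type u} [CommRing R] [CommRing S] [CommRing S'] [Algebra R S] [Algebra S S'] [Algebra R S'] [IsScalarTower R S S']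
    [Algebra.FinitePresentation R S] [Module.Flat S S']
    (N : Type u) [AddCommGroup N] [Module S N] [Module R N] [IsScalarTower R S N] [Module.FinitePresentation S N] [Module.Flat R N]
    (h : ∀ (p : Ideal R) (q : Ideal S) [p.IsPrime] [q.IsPrime] [q.LiesOver p],
      FlatCA.fiberIdeal p q ∈ associatedPrimes (p.Fiber S) (FlatCA.fiberMod p S N) →
      ∃ q' : Ideal S', q'.IsPrime ∧ q'.comap (algebraMap S S') = q) :
    FlatCA.UnivInj R ((TensorProduct.mk S S' N 1).restrictScalars R) := by
  have : Module.Flat R (S' ⊗[S] N) := Groth.Agent.FlatMorDevissage.flat_tensor_flat S' N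
  have : IsLocalizedModule (⊥ : Submonoid S) (LinearMap.id : N →ₗ[S] N) :=
    ⟨fun x => by rw [Submonoid.mem_bot.1 x.2, map_one]; exact isUnit_one,
      fun y => ⟨(y, 1), one_smul _ _⟩, fun h => ⟨1, by simpa using h⟩⟩
  exact Groth.Agent.FlatMorDevissage.univInj_of_fibres N (⊥ : Submonoid S) LinearMap.id _
    fun p _ => Groth.Agent.FlatMorDevissage.injective_lTensor_mk_of_cover p fun q _ _ hq => h p q hq

end Groth.Agent.S1195
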