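import Groth.Statements.S1196
import Groth.Agent.FlatMorDevissage.AssSpec

set_option autoImplicit false
universe u
open FlatMor

namespace Groth.Agent.S1196

open TensorProduct IsLocalRing in
/-- Let R → S be a local homomorphism of local rings, essentially of finite presentation, N a finitely
presented S-module flat over R, and S' a flat S-algebra such that every prime of S which is an
associated prime of N/𝔪_R N is the contraction of a prime of S'. Then N → S' ⊗_S N is universally
injective as a map of R-modules. -/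
theorem result {R S S' : Type u} [CommRing R] [IsLocalRing R] [CommRing S] [IsLocalRing S] [CommRing S'] [Algebra R S] [IsLocalHom (algebraMap R S)] [Algebra S S'] [Algebra R S'] [IsScalarTower R S S']
    (hS : FlatCA.EssFinitePresentation R S) [Module.Flat S S']
    (N : Type u) [AddCommGroup N] [Module S N] [Module R N] [IsScalarTower R S N] [Module.FinitePresentation S N] [Module.Flat R N]
    (h : ∀ q ∈ associatedPrimes S (FlatCA.fiberMod (maximalIdeal R) S N),
      ∃ q' : Ideal S', q'.IsPrime ∧ q'.comap (algebraMap S S') = q) :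
    FlatCA.UnivInj R ((TensorProduct.mk S S' N 1).restrictScalars R) := by
  obtain ⟨S₀, _, _, _, _, M₀, _, _⟩ := hS
  let _ : Module S₀ N := Module.compHom N (algebraMap S₀ S)
  have : IsScalarTower S₀ S N := .of_algebraMap_smul fun _ _ => rfl
  have : IsScalarTower R S₀ N := .of_algebraMap_smul fun r n => by
    rw [← algebraMap_smul S (algebraMap R S₀ r), ← IsScalarTower.algebraMap_apply, algebraMap_smul]
  obtain ⟨N₀, _, _, φ, _, hloc⟩ :=
    Groth.Agent.EGA43.Cons.exists_fp_model_module (C := S₀) (S' := S) (M := N) M₀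
  let _ : Module R N₀ := Module.compHom N₀ (algebraMap R S₀)
  have : IsScalarTower R S₀ N₀ := .of_algebraMap_smul fun _ _ => rfl
  let q₀ : PrimeSpectrum S₀ := ⟨(maximalIdeal S).comap (algebraMap S₀ S), inferInstance⟩
  have hq₀m : q₀.asIdeal.comap (algebraMap R S₀) = maximalIdeal R := by
    rw [Ideal.comap_comap, ← IsScalarTower.algebraMap_eq]
    exact ((local_hom_TFAE (algebraMap R S)).out 0 4).1 ‹IsLocalHom (algebraMap R S)›
  have hM₀ : ∀ c ∈ M₀, c ∉ q₀.asIdeal := fun c hc hcq =>
    (mem_maximalIdeal _).1 hcq (IsLocalization.map_units S ⟨c, hc⟩)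
  have hflat : ∀ (P : Ideal S₀) [P.IsPrime], P ≤ q₀.asIdeal → FlatCA.FlatAt R P N₀ := by
    have : Module.Flat R (LocalizedModule M₀ N₀) :=
      Module.Flat.of_linearEquiv ((IsLocalizedModule.iso M₀ φ).restrictScalars R)
    exact fun P _ hP => (Groth.Agent.FlatMorDevissage.flat_localized_iff M₀).1 this P
      (Set.disjoint_left.2 fun c hc hcP => hM₀ c hc (hP hcP))
  intro Q _ _
  rw [LinearMap.lTensor_inj_iff_rTensor_inj, injective_iff_map_eq_zero]
  intro z hz
  let φQ : N₀ ⊗[R] Q →ₗ[S₀] N ⊗[R] Q := AlgebraTensorModule.rTensor R Q φ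
  have : IsLocalizedModule M₀ φQ := inferInstance
  have hz1 : (1 : S') ⊗ₜ[S] z = 0 := by
    refine (TensorProduct.AlgebraTensorModule.assoc R S S S' N Q).symm.injective ?_
    rw [map_zero, ← hz]
    clear hz
    induction z using TensorProduct.induction_on with
    | zero => simp
    | tmul n a => rfl
    | add a b ha hb => simp only [TensorProduct.tmul_add, map_add, ha, hb]
  obtain ⟨⟨z₀, t₀⟩, hz₀⟩ := IsLocalizedModule.surj M₀ φQ z
  by_contra hz0
  have hle : Groth.Agent.CAlgH3.annEl S₀ z₀ ≤ q₀.asIdeal := fun c hc => by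
    by_contra hcq
    refine hz0 ?_
    have h0 : c • (t₀ : S₀) • z = 0 := by
      rw [show (t₀ : S₀) • z = φQ z₀ from hz₀, ← map_smul, Groth.Agent.CAlgH3.mem_annEl.1 hc, map_zero]
    rw [← algebraMap_smul S c, ← algebraMap_smul S (t₀ : S₀)] at h0
    exact (IsLocalization.map_units S t₀).smul_eq_zero.1
      ((of_not_not fun hu => hcq ((mem_maximalIdeal _).2 hu) : IsUnit (algebraMap S₀ S c)).smul_eq_zero.1 h0)
  obtain ⟨P, hP, hPq₀⟩ := Ideal.exists_minimalPrimes_le hle
  have := hP.1.1
  have hPann := hP.1.2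
  let p' := P.comap (algebraMap R S₀)
  have : P.LiesOver p' := ⟨rfl⟩
  have hass := Groth.Agent.FlatMorDevissage.fiberIdeal_mem_of_minimal z₀ P hP p' (hflat P hPq₀)
  obtain ⟨q, hq, hPq, hqq₀, hqm, hqass⟩ :=
    Groth.Agent.FlatMorDevissage.exists_assFibre_specialization (maximalIdeal R) p' P hass q₀ hq₀m
      hPq₀ (hflat q₀.asIdeal le_rfl)
  have hdisj : ∀ (J : Ideal S₀), J ≤ q₀.asIdeal → Disjoint (M₀ : Set S₀) (J : Set S₀) := fun J hJ =>
    Set.disjoint_left.2 fun c hc hcJ => hM₀ c hc (hJ hcJ)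
  let qS : Ideal S := q.map (algebraMap S₀ S)
  have hqS : qS.IsPrime := IsLocalization.isPrime_of_isPrime_disjoint M₀ S q hq (hdisj q hqq₀)
  have hqSq : qS.comap (algebraMap S₀ S) = q :=
    IsLocalization.comap_map_of_isPrime_disjoint M₀ S hq (hdisj q hqq₀)
  have hmemS : qS ∈ associatedPrimes S (FlatCA.fiberMod (maximalIdeal R) S N) := by
    obtain ⟨w, hw⟩ := hqass.2
    obtain ⟨n, hn⟩ := Groth.Agent.CAlgH3.FiberMod.exists_annEl_eq_toFiberMod (S := S₀) (maximalIdeal R) w
    have hqn : q = (Groth.Agent.CAlgH3.annEl S₀ (FlatCA.toFiberMod (maximalIdeal R) S₀ N₀ n)).radical := by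
      rw [hn, Groth.Agent.CAlgH3.FiberMod.annEl_fiber, ← Ideal.comap_radical,
        ← Groth.Agent.CAlgH3.colon_bot_singleton, ← hw]
      exact (Groth.Agent.FlatMorDevissage.comap_fiberIdeal (maximalIdeal R) q).symm
    refine ⟨hqS, FlatCA.toFiberMod (maximalIdeal R) S N (φ n), ?_⟩
    rw [Groth.Agent.CAlgH3.colon_bot_singleton]
    have hJ : ((maximalIdeal R).map (algebraMap R S₀)).map (algebraMap S₀ S) =
        (maximalIdeal R).map (algebraMap R S) := by
      rw [Ideal.map_map, ← IsScalarTower.algebraMap_eq]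
    have key : (Groth.Agent.CAlgH3.annEl S₀ (FlatCA.toFiberMod (maximalIdeal R) S₀ N₀ n)).map (algebraMap S₀ S) =
        Groth.Agent.CAlgH3.annEl S (FlatCA.toFiberMod (maximalIdeal R) S N (φ n)) := by
      refine le_antisymm (Ideal.map_le_iff_le_comap.2 fun a ha => ?_) fun s hs => ?_
      · rw [Ideal.mem_comap, Groth.Agent.CAlgH3.mem_annEl, ← map_smul, algebraMap_smul]
        rw [Groth.Agent.CAlgH3.mem_annEl, ← map_smul,
          Groth.Agent.CAlgH3.FiberMod.toFiberMod_eq_zero_iff] at ha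
        obtain ⟨r, hr, hra⟩ := ha
        refine (Groth.Agent.CAlgH3.FiberMod.toFiberMod_eq_zero_iff N (maximalIdeal R) _).2 ⟨r, hr, ?_⟩
        have h2 := Groth.Agent.FlatMorDevissage.map_mem_smul_top φ _ hra
        rw [map_smul, map_smul, ← algebraMap_smul S (algebraMap R S₀ r),
          ← IsScalarTower.algebraMap_apply] at h2
        rw [← hJ]
        exact (Groth.Agent.FlatMorDevissage.smul_top_restrict (B := S) _ _).1 h2
      · obtain ⟨⟨a, t⟩, hat⟩ := IsLocalization.surj M₀ s
        rw [Groth.Agent.CAlgH3.mem_annEl, ← map_smul,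
          Groth.Agent.CAlgH3.FiberMod.toFiberMod_eq_zero_iff] at hs
        obtain ⟨r, hr, hrs⟩ := hs
        have h2 : φ (algebraMap R S₀ r • a • n) ∈
            (maximalIdeal R).map (algebraMap R S₀) • (⊤ : Submodule S₀ N) := by
          rw [Groth.Agent.FlatMorDevissage.smul_top_restrict (B := S), hJ, map_smul, map_smul,
            ← algebraMap_smul S a, ← algebraMap_smul S (algebraMap R S₀ r),
            ← IsScalarTower.algebraMap_apply, ← hat, mul_comm, mul_smul, smul_comm]
          exact Submodule.smul_mem _ _ hrs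
        obtain ⟨t', ht'⟩ := Groth.Agent.FlatMorDevissage.exists_smul_mem_of_map_mem M₀ φ _ _ h2
        have hmem : (t' : S₀) * a ∈ Groth.Agent.CAlgH3.annEl S₀ (FlatCA.toFiberMod (maximalIdeal R) S₀ N₀ n) := by
          rw [Groth.Agent.CAlgH3.mem_annEl, ← map_smul, Groth.Agent.CAlgH3.FiberMod.toFiberMod_eq_zero_iff]
          exact ⟨r, hr, by rwa [mul_smul, smul_comm]⟩
        refine (Ideal.mul_unit_mem_iff_mem _ (IsLocalization.map_units S t)).1 ?_
        rw [hat]
        refine (Ideal.unit_mul_mem_iff_mem _ (IsLocalization.map_units S t')).1 ?_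
        rw [← map_mul]
        exact Ideal.mem_map_of_mem _ hmem
    rw [← key, ← IsLocalization.map_radical M₀, ← hqn]
  obtain ⟨q', hq', hq'q⟩ := h qS hmemS
  let PS : Ideal S := P.map (algebraMap S₀ S)
  have hPS : PS.IsPrime := IsLocalization.isPrime_of_isPrime_disjoint M₀ S P inferInstance (hdisj P hPq₀)
  have hle' : PS ≤ qS := Ideal.map_mono hPq
  have : q'.LiesOver qS := ⟨hq'q.symm⟩
  obtain ⟨P', -, hP', hP'over⟩ := Ideal.exists_ideal_le_liesOver_of_le q' hle'
  refine Groth.Agent.FlatMorDevissage.not_annEl_le_comap z hz1 P' ?_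
  intro s hs
  have h1 : s ∈ PS := by
    obtain ⟨⟨a, t⟩, hat⟩ := IsLocalization.surj M₀ s
    have h3 : φQ (a • z₀) = 0 := by
      rw [map_smul, ← show (t₀ : S₀) • z = φQ z₀ from hz₀, smul_comm, ← algebraMap_smul S a, ← hat,
        mul_comm, mul_smul, Groth.Agent.CAlgH3.mem_annEl.1 hs, smul_zero, smul_zero]
    obtain ⟨c, hc⟩ := (IsLocalizedModule.eq_zero_iff M₀ φQ).1 h3
    have h4 : (c : S₀) * a ∈ P := hPann (Groth.Agent.CAlgH3.mem_annEl.2 (by rw [mul_smul]; exact hc))
    refine (Ideal.mul_unit_mem_iff_mem _ (IsLocalization.map_units S t)).1 ?_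
    rw [hat]
    exact Ideal.mem_map_of_mem _ ((Ideal.IsPrime.mem_or_mem ‹P.IsPrime› h4).resolve_left
      fun hcP => hM₀ c c.2 (hPq₀ hcP))
  rw [← Ideal.under_def, ← hP'over.over]
  exact h1

end Groth.Agent.S1196
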