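import Groth.Statements.S1204
import Groth.Agent.FlatMorDevissage.FibreBasis
import Groth.Agent.FlatMorDevissage.Local

set_option autoImplicit false
universe u
open FlatMor

namespace Groth.Agent.S1204

open TensorProduct IsLocalRing Groth.Agent.FlatMorDevissage in
/-- Let R be a local ring and S a finitely presented flat R-algebra with geometrically integral fibres,
so that 𝔭 = 𝔪_R S is a prime of S; let q be a prime of S over 𝔪_R and N a finite S-module. Then
there is an S-linear map α from a finite free module S^r to N inducing a bijection after base change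
to κ(𝔭); and for any such α the following are equivalent: N_q is flat over R; α is universally
injective over R and the cokernel of α is flat over R at q; α is injective and the cokernel is flat
at q; α localized at 𝔭 is bijective and the cokernel is flat at q; α localized at q is injective and
the cokernel is flat at q. -/
theorem result {R S : Type u} [CommRing R] [IsLocalRing R] [CommRing S] [Algebra R S] [Algebra.FinitePresentation R S] [Module.Flat R S]
    (hgi : FlatCA.GeomIntegralFibres R S) [((maximalIdeal R).map (algebraMap R S)).IsPrime]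
    (q : Ideal S) [q.IsPrime] [q.LiesOver (maximalIdeal R)]
    (N : Type u) [AddCommGroup N] [Module S N] [Module R N] [IsScalarTower R S N] [Module.Finite S N] :
    (∃ (r : ℕ) (α : (Fin r → S) →ₗ[S] N), Function.Bijective (α.baseChange ((maximalIdeal R).map (algebraMap R S)).ResidueField)) ∧
    ∀ (r : ℕ) (α : (Fin r → S) →ₗ[S] N), Function.Bijective (α.baseChange ((maximalIdeal R).map (algebraMap R S)).ResidueField) →
      [FlatCA.FlatAt R q N,
       FlatCA.UnivInj R (α.restrictScalars R) ∧ FlatCA.FlatAt R q (N ⧸ LinearMap.range α),
       Function.Injective α ∧ FlatCA.FlatAt R q (N ⧸ LinearMap.range α),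
       Function.Bijective (LocalizedModule.map ((maximalIdeal R).map (algebraMap R S)).primeCompl α) ∧ FlatCA.FlatAt R q (N ⧸ LinearMap.range α),
       Function.Injective (LocalizedModule.map q.primeCompl α) ∧ FlatCA.FlatAt R q (N ⧸ LinearMap.range α)].TFAE := by
  classical
  have hdom := fibresDomain_of_geomIntegral hgi
  have : Module.Projective R S := projective_of_fibresDomain hdom
  set P := (maximalIdeal R).map (algebraMap R S) with hP
  have hy : P ≤ q := Ideal.map_le_iff_le_comap.2 (q.over_def (maximalIdeal R)).le
  refine ⟨?_, fun r α hα => ?_⟩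
  · by_cases hN : Module.annihilator S N ≤ P
    · obtain ⟨r, α, -, hα, -⟩ := exists_alpha P hN
      exact ⟨r, α, hα⟩
    · obtain ⟨c, hc, hcP⟩ := SetLike.not_le_iff_exists.1 hN
      have h1 : Subsingleton (P.ResidueField ⊗[S] N) := subsingleton_tensor_of_isUnit hc
        (isUnit_iff_ne_zero.2 (Ideal.algebraMap_residueField_eq_zero.not.2 hcP))
      have h0 : ∀ z : P.ResidueField ⊗[S] (Fin 0 → S), z = 0 := fun z => by
        induction z using TensorProduct.induction_on with
        | zero => rfl
        | tmul a x => rw [Subsingleton.elim x 0, tmul_zero]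
        | add x y hx hy => rw [hx, hy, add_zero]
      exact ⟨0, 0, fun x y _ => (h0 x).trans (h0 y).symm, fun z => ⟨0, Subsingleton.elim _ _⟩⟩
  · tfae_have 1 → 2 := fun h => ⟨(key_projective q hy α hα.injective h).2.1,
      (key_projective q hy α hα.injective h).2.2⟩
    tfae_have 2 → 3 := fun h => ⟨fun a b hab => by
      have h1 : (1 : R) ⊗ₜ[R] a = (1 : R) ⊗ₜ[R] b := h.1 R (by
        rw [LinearMap.lTensor_tmul, LinearMap.lTensor_tmul]
        exact congrArg ((1 : R) ⊗ₜ[R] ·) hab)
      simpa using congrArg (TensorProduct.lid R (Fin r → S)) h1, h.2⟩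
    tfae_have 3 → 5 := fun h => ⟨LocalizedModule.map_injective _ α h.1, h.2⟩
    tfae_have 5 → 1 := fun h => flatAt_of_injective_of_flat_coker q α h.1 h.2
    tfae_have 3 → 4 := fun h => ⟨⟨LocalizedModule.map_injective _ α h.1,
      surjective_localized_of_residue P α hα.surjective⟩, h.2⟩
    tfae_have 4 → 3 := fun h => ⟨(injective_iff_map_eq_zero _).2 fun x hx => by
      have h1 : LocalizedModule.mkLinearMap P.primeCompl (Fin r → S) x = 0 := h.1.injective (by
        rw [map_zero, LocalizedModule.mkLinearMap_apply, LocalizedModule.map_mk, hx]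
        exact LocalizedModule.zero_mk _)
      obtain ⟨c, hc⟩ := (IsLocalizedModule.eq_zero_iff P.primeCompl _).1 h1
      exact eq_zero_of_smul_fibre c.2 hc, h.2⟩
    tfae_finish

end Groth.Agent.S1204
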