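import Groth.Statements.S1205
import Groth.Agent.FlatMorDevissage.FibreBasisGlobal
import Groth.Agent.FlatMorDevissage.Local
import Groth.Agent.EGA43.FlatDescent.Global

set_option autoImplicit false
universe u
open FlatMor

namespace Groth.Agent.S1205

open TensorProduct Groth.Agent Groth.Agent.FlatMorDevissage in
/-- Let S be a finitely presented flat R-algebra with geometrically integral fibres, q a prime of S over
the prime 𝔯 of R, so that 𝔭 = 𝔯S is a prime of S, and N a finitely presented S-module. Then there is
an S-linear map α from a finite free module S^r to N inducing a bijection after base change to κ(𝔭);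
and for any such α the following are equivalent: N_q is flat over R; for some f ∈ R outside 𝔯 the
localization α_f is universally injective over R and for some g ∈ S outside q the localization of
the cokernel at g is flat over R; α localized at (the image of) 𝔯 is universally injective over R
and the cokernel is flat over R at q; α localized at 𝔯 is injective and the cokernel is flat at q; α
localized at 𝔭 is bijective and the cokernel is flat at q; α localized at q is injective and the
cokernel is flat at q. (Universal injectivity over R_f or R_𝔯 of a map of modules over these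
localizations is the same as over R, which is how it is written.) -/
theorem result {R S : Type u} [CommRing R] [CommRing S] [Algebra R S] [Algebra.FinitePresentation R S] [Module.Flat R S]
    (hgi : FlatCA.GeomIntegralFibres R S) (rr : Ideal R) [rr.IsPrime] [(rr.map (algebraMap R S)).IsPrime]
    (q : Ideal S) [q.IsPrime] [q.LiesOver rr]
    (N : Type u) [AddCommGroup N] [Module S N] [Module R N] [IsScalarTower R S N] [Module.FinitePresentation S N] :
    (∃ (r : ℕ) (α : (Fin r → S) →ₗ[S] N), Function.Bijective (α.baseChange (rr.map (algebraMap R S)).ResidueField)) ∧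
    ∀ (r : ℕ) (α : (Fin r → S) →ₗ[S] N), Function.Bijective (α.baseChange (rr.map (algebraMap R S)).ResidueField) →
      [FlatCA.FlatAt R q N,
       (∃ f : R, f ∉ rr ∧ FlatCA.UnivInj R ((LocalizedModule.map (Submonoid.powers (algebraMap R S f)) α).restrictScalars R)) ∧
         (∃ g : S, g ∉ q ∧ Module.Flat R (LocalizedModule (Submonoid.powers g) (N ⧸ LinearMap.range α))),
       FlatCA.UnivInj R ((LocalizedModule.map (Algebra.algebraMapSubmonoid S rr.primeCompl) α).restrictScalars R) ∧ FlatCA.FlatAt R q (N ⧸ LinearMap.range α),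
       Function.Injective (LocalizedModule.map (Algebra.algebraMapSubmonoid S rr.primeCompl) α) ∧ FlatCA.FlatAt R q (N ⧸ LinearMap.range α),
       Function.Bijective (LocalizedModule.map (rr.map (algebraMap R S)).primeCompl α) ∧ FlatCA.FlatAt R q (N ⧸ LinearMap.range α),
       Function.Injective (LocalizedModule.map q.primeCompl α) ∧ FlatCA.FlatAt R q (N ⧸ LinearMap.range α)].TFAE := by
  classical
  have hdom := fibresDomain_of_geomIntegral hgi
  set P := rr.map (algebraMap R S) with hP
  have hy : P ≤ q := Ideal.map_le_iff_le_comap.2 (q.over_def rr).le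
  have hsubP : Algebra.algebraMapSubmonoid S rr.primeCompl ≤ P.primeCompl := by
    rintro _ ⟨t, ht, rfl⟩ hmem
    exact ht ((Ideal.mem_of_liesOver q rr t).2 (hy hmem))
  have hsubq : Algebra.algebraMapSubmonoid S rr.primeCompl ≤ q.primeCompl := by
    rintro _ ⟨t, ht, rfl⟩ hmem
    exact ht ((Ideal.mem_of_liesOver q rr t).2 hmem)
  refine ⟨?_, fun r α hα => ?_⟩
  · by_cases hN : Module.annihilator S N ≤ P
    · obtain ⟨r, α, -, hα, -⟩ := exists_alpha P hN
      exact ⟨r, α, hα⟩
    · obtain ⟨c, hc, hcP⟩ := SetLike.not_le_iff_exists.1 hN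
      have h1 : Subsingleton (P.ResidueField ⊗[S] N) := subsingleton_tensor_of_isUnit hc
        (isUnit_iff_ne_zero.2 (Ideal.algebraMap_residueField_eq_zero.not.2 hcP))
      have h0 : ∀ z : P.ResidueField ⊗[S] (Fin 0 → S), z = 0 := fun z => by
        induction z using TensorProduct.induction_on with
        | zero => rfl
        | tmul a x => rw [Subsingleton.elim x 0, tmul_zero]
        | add x y hx hy => rw [hx, hy, add_zero]
      exact ⟨0, 0, fun x y _ => (h0 x).trans (h0 y).symm, fun z => ⟨0, Subsingleton.elim _ _⟩⟩
  · tfae_have 1 → 6 := fun h => injective_localized_of_flatAt rr q α hα.injective h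
    tfae_have 6 → 1 := fun h => flatAt_of_injective_of_flat_coker q α h.1 h.2
    tfae_have 6 → 5 := fun h => ⟨⟨injective_map_mono (T := q.primeCompl) (T' := P.primeCompl) α (fun c hc hcP => hc (hy hcP)) h.1,
      surjective_localized_of_residue P α hα.surjective⟩, h.2⟩
    tfae_have 5 → 2 := fun h => by
      obtain ⟨f, hf, hK⟩ := exists_killsKer_powers hdom rr q α h.1
      refine ⟨⟨f, hf, univInj_map_of_killsKer α _ hK⟩, ?_⟩
      have : Module.FinitePresentation S (N ⧸ LinearMap.range α) :=
        Module.finitePresentation_of_surjective (LinearMap.range α).mkQ (Submodule.mkQ_surjective _)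
          (by rw [Submodule.ker_mkQ, LinearMap.range_eq_map]
              exact Module.Finite.fg_top.map α)
      obtain ⟨_, ⟨g, rfl⟩, hgq, hsub⟩ :=
        PrimeSpectrum.isTopologicalBasis_basic_opens.exists_subset_of_mem_open
          (show (⟨q, inferInstance⟩ : PrimeSpectrum S) ∈
            {Q : PrimeSpectrum S | Module.Flat R (LocalizedModule Q.asIdeal.primeCompl (N ⧸ LinearMap.range α))}
            from h.2) EGA43.FlatDescent.isOpen_setOf_flat
      exact ⟨g, hgq, (flat_away_iff g).2 fun Q hQ hgQ =>
        hsub (show (⟨Q, hQ⟩ : PrimeSpectrum S) ∈ PrimeSpectrum.basicOpen g from hgQ)⟩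
    tfae_have 2 → 3 := fun ⟨⟨f, hf, hu⟩, g, hg, hflat⟩ => by
      refine ⟨univInj_map_of_killsKer α _ fun Q _ _ z hz => ?_, (flat_away_iff g).1 hflat q hg⟩
      obtain ⟨_, ⟨k, rfl⟩, hcz⟩ := killsKer_of_univInj_map α _ hu z hz
      exact ⟨_, ⟨f ^ k, fun h => hf (Ideal.IsPrime.mem_of_pow_mem ‹rr.IsPrime› k h), map_pow _ f k⟩, hcz⟩
    tfae_have 3 → 4 := fun h => ⟨fun a b hab => by
      have h1 : (1 : R) ⊗ₜ[R] a = (1 : R) ⊗ₜ[R] b := h.1 R (by
        rw [LinearMap.lTensor_tmul, LinearMap.lTensor_tmul]
        exact congrArg ((1 : R) ⊗ₜ[R] ·) hab)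
      simpa using congrArg (TensorProduct.lid R _) h1, h.2⟩
    tfae_have 4 → 6 := fun h => ⟨injective_map_mono α hsubq h.1, h.2⟩
    tfae_finish

end Groth.Agent.S1205
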