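import Groth.Statements.S12056
import Groth.Agent.RootDat.Weyl

set_option autoImplicit false
open Red

namespace Groth.Agent.S12056

/-- In formal-power-series form, let R be a commutative ring and F ∈ R⟦X⟧ with constant term 1 whose
linear coefficient a is a unit of R. Suppose that in R⟦X₀, X₁⟧ one has F(X₀ + X₁ · F(X₀)) = F(X₀) ·
F(X₁) (the functional equation F(x + y F(x)) = F(x) F(y)). Then F = 1 + a X. (The published
statement concerns a morphism to the multiplicative group from an open neighbourhood of the zero
section in the additive group over a base scheme, the identity holding on an open neighbourhood of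
the origin of the plane on which all terms are defined, with a the derivative at 0; this row states
it for formal power series over a ring.) -/
theorem result (R : Type) [CommRing R] (F : PowerSeries R)
    (h0 : PowerSeries.constantCoeff F = 1) (ha : IsUnit (PowerSeries.coeff 1 F))
    (hFE : PowerSeries.subst
        (MvPowerSeries.X (0 : Fin 2) + MvPowerSeries.X 1 * PowerSeries.subst (MvPowerSeries.X (0 : Fin 2)) F :
          MvPowerSeries (Fin 2) R) F =
      PowerSeries.subst (MvPowerSeries.X (0 : Fin 2)) F * PowerSeries.subst (MvPowerSeries.X (1 : Fin 2)) F) :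
    F = 1 + PowerSeries.C (PowerSeries.coeff 1 F) * PowerSeries.X := by
  classical
  set a : Fin 2 → MvPowerSeries (Fin 2) R := ![MvPowerSeries.X 1, MvPowerSeries.X 0] with ha_def
  have hsa : MvPowerSeries.HasSubst a :=
    MvPowerSeries.hasSubst_of_constantCoeff_zero (S := R) (a := a) (fun s => by fin_cases s <;> simp [a])
  set u : MvPowerSeries (Fin 2) R := MvPowerSeries.X (0 : Fin 2) +
    MvPowerSeries.X 1 * PowerSeries.subst (MvPowerSeries.X (0 : Fin 2)) F with hu_def
  set v : MvPowerSeries (Fin 2) R := MvPowerSeries.X (1 : Fin 2) +
    MvPowerSeries.X 0 * PowerSeries.subst (MvPowerSeries.X (1 : Fin 2)) F with hv_def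
  have hu : PowerSeries.HasSubst u := PowerSeries.HasSubst.of_constantCoeff_zero (by simp [u])
  have hv : PowerSeries.HasSubst v := PowerSeries.HasSubst.of_constantCoeff_zero (by simp [v])
  have key : ∀ (w : MvPowerSeries (Fin 2) R), PowerSeries.HasSubst w →
      MvPowerSeries.subst a (PowerSeries.subst w F) = PowerSeries.subst (MvPowerSeries.subst a w) F :=
    fun w hw => MvPowerSeries.subst_comp_subst_apply (R := R) (a := fun _ : Unit => w) (b := a) hw.const hsa F
  have hsw : ∀ i : Fin 2, MvPowerSeries.subst a (PowerSeries.subst (MvPowerSeries.X (R := R) i) F) =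
      PowerSeries.subst (a i) F := by
    intro i
    rw [key _ (PowerSeries.HasSubst.X i), MvPowerSeries.subst_X hsa]
  have huv : MvPowerSeries.subst a u = v := by
    rw [hu_def, MvPowerSeries.subst_add hsa, MvPowerSeries.subst_mul hsa, MvPowerSeries.subst_X hsa,
      MvPowerSeries.subst_X hsa, hsw]
    rfl
  have hFv : PowerSeries.subst v F = PowerSeries.subst u F := by
    rw [hFE]
    have := congrArg (MvPowerSeries.subst a) hFE
    rw [key u hu, huv, MvPowerSeries.subst_mul hsa, hsw, hsw] at this
    rw [this]
    exact mul_comm _ _
  set P : PowerSeries R := F - 1 with hP_def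
  have hP0 : PowerSeries.constantCoeff P = 0 := by simp [P, h0]
  have hP1 : IsUnit (PowerSeries.coeff 1 P) := by simpa [P, PowerSeries.coeff_one] using ha
  have hPuv : PowerSeries.subst v P = PowerSeries.subst u P := by
    rw [hP_def, PowerSeries.subst_sub hv, PowerSeries.subst_sub hu, hFv,
      ← map_one (PowerSeries.C (R := R)), PowerSeries.subst_C, PowerSeries.subst_C]
  have hPs : PowerSeries.HasSubst P := PowerSeries.HasSubst.of_constantCoeff_zero' hP0
  have hinj : ∀ w : MvPowerSeries (Fin 2) R, PowerSeries.HasSubst w →
      w = PowerSeries.subst (PowerSeries.subst w P) (P.substInvOfIsUnit hP1) := by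
    intro w hw
    rw [← PowerSeries.subst_comp_subst_apply hPs hw, PowerSeries.subst_substInvOfIsUnit_left P hP0 hP1,
      PowerSeries.subst_X hw]
  have huveq : u = v := by rw [hinj u hu, hinj v hv, hPuv]
  ext n
  match n with
  | 0 => simp [h0]
  | 1 => simp
  | n + 2 =>
    set e : Fin 2 →₀ ℕ := Finsupp.single 0 (n + 2) + Finsupp.single 1 1 with he
    have h := congrArg (MvPowerSeries.coeff e) huveq
    have e0 : e 0 = n + 2 := by simp [e]
    have e1 : e 1 = 1 := by simp [e]
    rw [hu_def, hv_def, map_add, map_add, MvPowerSeries.X_def, MvPowerSeries.X_def,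
      MvPowerSeries.coeff_monomial_mul, MvPowerSeries.coeff_monomial_mul,
      MvPowerSeries.coeff_monomial, MvPowerSeries.coeff_monomial,
      if_neg (show ¬ e = Finsupp.single (0 : Fin 2) 1 from fun hh => by
        have := DFunLike.congr_fun hh 1; rw [e1] at this; simp at this),
      if_neg (show ¬ e = Finsupp.single (1 : Fin 2) 1 from fun hh => by
        have := DFunLike.congr_fun hh 0; rw [e0] at this; simp at this),
      zero_add, zero_add, if_pos (by rw [Finsupp.single_le_iff, e1]),
      if_pos (by rw [Finsupp.single_le_iff, e0]; omega), one_mul, one_mul,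
      ← MvPowerSeries.X_def, ← MvPowerSeries.X_def, PowerSeries.coeff_subst_single,
      PowerSeries.coeff_subst_single] at h
    rw [if_pos (by ext i; fin_cases i <;> simp [e]),
      if_neg (fun hh => by have := DFunLike.congr_fun hh 0; simp [e] at this)] at h
    simpa [e, PowerSeries.coeff_X] using h

end Groth.Agent.S12056
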