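import Groth.Statements.S12058
import Mathlib.Algebra.Homology.DerivedCategory.Ext.ExactSequences
import Mathlib.CategoryTheory.Abelian.Refinements

set_option autoImplicit false
universe w v u
open CategoryTheory CategoryTheory.Limits CategoryTheory.Abelian
open SGA3

namespace Groth.Agent.S12058

/-- In an abelian category, let 0 → A' → A → A'' → 0 be a short exact sequence, φ : A' ⟶ Q a morphism
and π : A'' ⟶ P an epimorphism with kernel C. Consider the quadruples (B, f, g, h) with 0 → Q → B →
P → 0 short exact (maps f, g) and h : A ⟶ B such that the squares commute: (A' → A → B) = (A' → Q →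
B) and (A → B → P) = (A → A'' → P). Such a quadruple exists if and only if the image in Ext¹(C, Q)
of the class of the given extension in Ext¹(A'', A') (push forward along φ, pull back along the
inclusion C → A'') is zero. -/
theorem result {C : Type u} [Category.{v} C] [Abelian C]
    [HasExt.{w} C] {S : ShortComplex C} (hS : S.ShortExact) {Q P : C} (φ : S.X₁ ⟶ Q) (π : S.X₃ ⟶ P) [Epi π] :
    (∃ (B : C) (f : Q ⟶ B) (g : B ⟶ P) (h : S.X₂ ⟶ B) (w : f ≫ g = 0),
        (ShortComplex.mk f g w).ShortExact ∧ S.f ≫ h = φ ≫ f ∧ h ≫ g = S.g ≫ π) ↔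
      (Ext.mk₀ (kernel.ι π)).comp (hS.extClass.comp (Ext.mk₀ φ) (add_zero 1)) (zero_add 1) = 0 := by
  constructor
  · rintro ⟨B, f, g, h, w, hB, h₁, h₂⟩
    let m : S ⟶ ShortComplex.mk f g w :=
      { τ₁ := φ, τ₂ := h, τ₃ := π, comm₁₂ := h₁.symm, comm₂₃ := h₂ }
    have := ShortComplex.ShortExact.extClass_naturality hS hB m
    rw [show hS.extClass.comp (Ext.mk₀ φ) (add_zero 1) = _ from this, Ext.mk₀_comp_mk₀_assoc, kernel.condition,
      Ext.mk₀_zero, Ext.zero_comp]
  · intro hz
    let fE : Q ⟶ pushout φ S.f := pushout.inl φ S.f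
    let hE : S.X₂ ⟶ pushout φ S.f := pushout.inr φ S.f
    have hcond : φ ≫ fE = S.f ≫ hE := pushout.condition
    let gE : pushout φ S.f ⟶ S.X₃ := pushout.desc 0 S.g (by rw [Limits.comp_zero, S.zero])
    have w : fE ≫ gE = 0 := pushout.inl_desc _ _ _
    have hgE : hE ≫ gE = S.g := pushout.inr_desc _ _ _
    have := hS.mono_f
    have := hS.epi_g
    have : Mono fE := inferInstanceAs (Mono (pushout.inl φ S.f))
    have : Epi gE := by
      have : Epi (hE ≫ gE) := hgE ▸ inferInstance
      exact epi_of_epi hE gE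
    let E : ShortComplex C := ShortComplex.mk fE gE w
    have hEex : E.ShortExact :=
      { exact := E.exact_of_g_is_cokernel (CokernelCofork.IsColimit.ofπ gE w
          (fun {W} k hk => hS.gIsCokernel.desc (CokernelCofork.ofπ (hE ≫ k) (by
            rw [← Category.assoc, ← hcond, Category.assoc, hk, Limits.comp_zero])))
          (fun {W} k hk => by
            apply pushout.hom_ext
            · change fE ≫ gE ≫ _ = fE ≫ k
              rw [← Category.assoc, w, Limits.zero_comp, hk]
            · change hE ≫ gE ≫ _ = hE ≫ k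
              rw [← Category.assoc, hgE]
              exact Cofork.IsColimit.π_desc hS.gIsCokernel)
          (fun {W} k hk m hm => by
            rw [← cancel_epi S.g]
            exact ((congrArg (· ≫ m) hgE.symm).trans ((Category.assoc _ _ _).trans (congrArg (hE ≫ ·) hm))).trans
              (Cofork.IsColimit.π_desc (s := CokernelCofork.ofπ S.g S.zero) (t := CokernelCofork.ofπ (hE ≫ k) _) hS.gIsCokernel).symm)) }
    let m : S ⟶ E := { τ₁ := φ, τ₂ := hE, τ₃ := 𝟙 _, comm₁₂ := hcond, comm₂₃ := by simp [E, hgE] }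
    have hnat := ShortComplex.ShortExact.extClass_naturality hS hEex m
    have hE0 : (Ext.mk₀ (kernel.ι π)).comp hEex.extClass (zero_add 1) = 0 := by
      rw [← hz, show hS.extClass.comp (Ext.mk₀ φ) (add_zero 1) = _ from hnat]
      rw [show m.τ₃ = 𝟙 _ from rfl, Ext.mk₀_id_comp]
    obtain ⟨x, hx⟩ := Ext.covariant_sequence_exact₃ (kernel π) hEex (Ext.mk₀ (kernel.ι π)) (zero_add 1) hE0
    obtain ⟨s, rfl⟩ := (Ext.mk₀_bijective _ _).surjective x
    rw [Ext.mk₀_comp_mk₀] at hx
    have hs : s ≫ gE = kernel.ι π := (Ext.mk₀_bijective _ _).injective hx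
    let p := cokernel.π s
    let gB : cokernel s ⟶ P := cokernel.desc s (gE ≫ π) (by rw [← Category.assoc, hs, kernel.condition])
    have hgB : p ≫ gB = gE ≫ π := cokernel.π_desc _ _ _
    have : Mono s := by
      have : Mono (s ≫ gE) := hs ▸ inferInstance
      exact mono_of_mono s gE
    have : Mono (fE ≫ p) := by
      refine Preadditive.mono_of_cancel_zero _ fun {W} a ha => ?_
      rw [← Category.assoc] at ha
      let b := Abelian.monoLift s (a ≫ fE) ha
      have hb : b ≫ s = a ≫ fE := Abelian.monoLift_comp _ _ _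
      have hb0 : b = 0 := by
        rw [← cancel_mono (kernel.ι π), ← hs, ← Category.assoc, hb, Category.assoc, w, Limits.comp_zero,
          Limits.zero_comp]
      rw [← cancel_mono fE, ← hb, hb0, Limits.zero_comp, Limits.zero_comp]
    have : Epi gB := by
      have : Epi (p ≫ gB) := by rw [hgB]; infer_instance
      exact epi_of_epi p gB
    have wB : (fE ≫ p) ≫ gB = 0 := by rw [Category.assoc, hgB, ← Category.assoc, w, Limits.zero_comp]
    refine ⟨cokernel s, fE ≫ p, gB, hE ≫ p, wB, { exact := ?_ }, ?_, ?_⟩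
    · refine ShortComplex.exact_of_g_is_cokernel _ (CokernelCofork.IsColimit.ofπ' gB wB fun {W} k hk => ?_)
      have hk' : fE ≫ (p ≫ k) = 0 := by rw [← Category.assoc]; exact hk
      let l := hEex.gIsCokernel.desc (CokernelCofork.ofπ (p ≫ k) hk')
      have hl : gE ≫ l = p ≫ k := Cofork.IsColimit.π_desc hEex.gIsCokernel
      have hl0 : kernel.ι π ≫ l = 0 := by
        rw [← hs, Category.assoc, hl, ← Category.assoc, cokernel.condition, Limits.zero_comp]
      refine ⟨Abelian.epiDesc π l hl0, ?_⟩
      rw [← cancel_epi p, ← Category.assoc, hgB, Category.assoc, Abelian.comp_epiDesc, hl]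
    · rw [← Category.assoc, ← hcond, Category.assoc]
    · rw [Category.assoc, hgB, ← Category.assoc, hgE]

end Groth.Agent.S12058
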