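import Groth.Statements.S12059
import Groth.Agent.SGA1Quot.AffineQuot

set_option autoImplicit false
set_option backward.isDefEq.respectTransparency.types false
universe u
open CategoryTheory CategoryTheory.Limits AlgebraicGeometry
open SGA1

namespace Groth.Agent.S12059

/-- Let a finite group G act on a commutative ring A by ring automorphisms σ_g, and let B → A be
injective, G-equivariant for the trivial action on B, with image containing all G-invariants (so B
is the ring of invariants A^G). Let ρ be an action of G on Spec A by scheme automorphisms whose
automorphisms are exactly the maps Spec(σ_g). Then Spec A ⟶ Spec B is a quotient of Spec A by G, and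
the structure sheaf of Spec B is the sheaf of G-invariants of the direct image of the structure
sheaf of Spec A: the map is affine and G-invariant, and for every open U of Spec B the sections of
the structure sheaf of Spec B over U map injectively onto the G-invariant sections of the structure
sheaf of Spec A over the inverse image of U. -/
theorem result (G : Type u) [Group G] [Finite G] (A B : Type u) [CommRing A] [CommRing B]
    [Algebra B A] [MulSemiringAction G A] [SMulCommClass G B A] [Algebra.IsInvariant B A G] [FaithfulSMul B A]
    (ρ : G →* Aut (Spec (CommRingCat.of A)))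
    (hρ : Set.range (fun g : G => (ρ g).hom) =
      Set.range (fun g : G => Spec.map (CommRingCat.ofHom (MulSemiringAction.toRingHom G A g)))) :
    SGA1.IsQuot ρ (Spec.map (CommRingCat.ofHom (algebraMap B A))) := by
  let p := Spec.map (CommRingCat.ofHom (algebraMap B A))
  have hinv : ∀ g : G, (ρ g).hom ≫ p = p := fun g => by
    obtain ⟨g', hg'⟩ : (ρ g).hom ∈ Set.range (fun g : G => Spec.map (CommRingCat.ofHom (MulSemiringAction.toRingHom G A g))) := by
      rw [← hρ]; exact ⟨g, rfl⟩
    simp only at hg'
    rw [← hg', ← Spec.map_comp]
    congr 1
    ext b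
    exact smul_algebraMap g' b
  let eA := Scheme.ΓSpecIso (CommRingCat.of A)
  let eB := Scheme.ΓSpecIso (CommRingCat.of B)
  have happ : ∀ z, eA.hom (p.appTop z) = algebraMap B A (eB.hom z) := fun z =>
    ConcreteCategory.congr_hom (Scheme.ΓSpecIso_naturality (CommRingCat.ofHom (algebraMap B A))) z
  have hbij : Function.Bijective eA.hom := ConcreteCategory.bijective_of_isIso eA.hom
  refine Groth.Agent.SGA1Quot.isQuot_of_affine ρ p hinv ?_ fun s hs => ?_
  · intro a b hab
    apply (ConcreteCategory.bijective_of_isIso eB.hom).1
    apply FaithfulSMul.algebraMap_injective B A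
    rw [← happ, ← happ]
    exact congrArg eA.hom hab
  · let s' : Γ(Spec (CommRingCat.of A), ⊤) := s
    obtain ⟨b, hb⟩ := Algebra.IsInvariant.isInvariant (A := B) (G := G) (eA.hom s') fun g => by
      obtain ⟨g', hg'⟩ : Spec.map (CommRingCat.ofHom (MulSemiringAction.toRingHom G A g)) ∈ Set.range (fun g : G => (ρ g).hom) := by
        rw [hρ]; exact ⟨g, rfl⟩
      simp only at hg'
      have h1 := ConcreteCategory.congr_hom (Scheme.ΓSpecIso_naturality (CommRingCat.ofHom (MulSemiringAction.toRingHom G A g))) s'
      have h2 : (Spec.map (CommRingCat.ofHom (MulSemiringAction.toRingHom G A g))).appTop s' = s' := by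
        rw [← hg']
        have h3 := hs g'⁻¹
        simp only [Groth.Agent.FEtQuot.act, inv_inv] at h3
        rw [Scheme.Hom.appTop, Scheme.Hom.app_eq_appLE]
        exact h3
      exact (h1.symm.trans (congrArg eA.hom h2))
    obtain ⟨z, rfl⟩ := (ConcreteCategory.bijective_of_isIso eB.hom).2 b
    exact ⟨z, hbij.1 ((happ z).trans hb)⟩

end Groth.Agent.S12059
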