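import Groth.Statements.S1206
import Groth.Agent.FlatMorVal.PrimeWitness

set_option autoImplicit false
universe u
open FlatMor

namespace Groth.Agent.S1206

/-- Let A be a local domain which is not a field and 𝒮 a set of finitely generated ideals of A, closed
under products, such that the union of the closed sets V(I), I ∈ 𝒮, is exactly the set of nonzero
primes (every nonzero prime contains a member of 𝒮 and no member is zero). Then the intersection of
all members of 𝒮 is zero. -/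
theorem result (A : Type u) [CommRing A] [IsDomain A] [IsLocalRing A] (hA : ¬ IsField A)
    (𝒮 : Set (Ideal A)) (hfg : ∀ I ∈ 𝒮, I.FG) (hmul : ∀ I ∈ 𝒮, ∀ J ∈ 𝒮, I * J ∈ 𝒮)
    (hne : ∀ I ∈ 𝒮, I ≠ ⊥) (hcov : ∀ (p : Ideal A), p.IsPrime → p ≠ ⊥ → ∃ I ∈ 𝒮, I ≤ p) :
    sInf 𝒮 = ⊥ := by
  rw [eq_bot_iff]
  intro x hx
  by_contra hx0
  have hx' : ∀ I ∈ 𝒮, x ∈ I := fun I hI => Submodule.mem_sInf.mp hx I hI
  have hm : IsLocalRing.maximalIdeal A ≠ ⊥ := fun h => hA (IsLocalRing.isField_iff_maximalIdeal_eq.mpr h)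
  obtain ⟨I, hI, hIm⟩ := hcov _ inferInstance hm
  obtain ⟨q, hq, -, hq0, hq'⟩ := FlatMorVal.exists_prime_mem_forall_fg_exists_notMem_pow A x
    (fun h => hx0 (by simp [h])) (hIm (hx' I hI))
  obtain ⟨J, hJ, hJq⟩ := hcov q hq hq0
  obtain ⟨n, hn, hxn⟩ := hq' J (hfg J hJ) hJq
  have hpow : ∀ k : ℕ, J ^ (k + 1) ∈ 𝒮 := by
    intro k
    induction k with
    | zero => simpa using hJ
    | succ k ih => rw [pow_succ]; exact hmul _ ih _ hJ
  obtain ⟨k, rfl⟩ := Nat.exists_eq_add_of_le' hn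
  exact hxn (hx' _ (hpow k))

end Groth.Agent.S1206
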