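import Groth.Statements.S12065
import Groth.Agent.CentImg12.Basic
import Groth.Agent.AGFImage11.Isogeny
import Groth.Agent.AGFImage11.CommTorus
-- import your own Groth.Agent.* helpers here

set_option autoImplicit false
set_option backward.isDefEq.respectTransparency false
set_option backward.isDefEq.respectTransparency.types false
open CategoryTheory.Limits
open Groth.Agent.AlgGrpLib (ptOf)
open Groth.Agent.AGFQuot23 (cj comp_cj cst)
set_option maxHeartbeats 1600000
universe u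
open CategoryTheory MonoidalCategory CartesianMonoidalCategory MonObj GrpObj AlgebraicGeometry
open SGA3x

namespace Groth.Agent.S12065



variable {k : Type u} [Field k] [IsAlgClosed k]

/-- The maximal torus property restricts to subgroups containing the torus. -/
theorem isMaximalTorus_of_factor {S : Scheme.{u}} {T P G : Over S} [GrpObj T] [GrpObj P] [GrpObj G] (p : P ⟶ G)
    [IsMonHom p] [Mono p] (t : T ⟶ P) {i : T ⟶ G} (ht : t ≫ p = i) (hi : Red.IsMaximalTorus i) :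
    Red.IsMaximalTorus t := by
  haveI := hi.2.1; haveI := hi.1
  haveI : Mono (t ≫ p) := by rw [ht]; infer_instance
  haveI : Mono t := mono_of_mono t p
  haveI : IsMonHom t := SGA3cLib.BCPoints.isMonHom_of_mul t fun X x y => by
    rw [← cancel_mono p]
    simp only [MonObj.mul_comp, Category.assoc, ht]
  refine ⟨inferInstance, inferInstance, hi.2.2.1, fun s T' _ j _ _ f hT' hfj => ?_⟩
  haveI : (Over.pullback (Red.geomPt s)).IsRightAdjoint := (Over.mapPullbackAdj _).isRightAdjoint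
  let e : Red.geomFibre s P ⟶ Red.geomFibre s G := (Over.pullback (Red.geomPt s)).map p
  haveI : IsMonHom e := inferInstanceAs (IsMonHom ((Over.pullback (Red.geomPt s)).map p))
  haveI : Mono e := inferInstanceAs (Mono ((Over.pullback (Red.geomPt s)).map p))
  exact hi.2.2.2 s T' (j ≫ e) f hT' (by rw [← Category.assoc, hfj, ← Functor.map_comp, ht])

end Groth.Agent.S12065

namespace Groth.Agent.S12065

/-- Let G and H be smooth connected algebraic groups (not necessarily affine) over an algebraically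
closed field k and v : G → H a surjective homomorphism. Let T be a maximal torus of G and C its
centralizer, and let T′ = v(T), C′ = v(C) be their images: subgroup schemes t′ : T′ → H, c′ : C′ → H
together with flat surjective homomorphisms T → T′ and C → C′ over v. Then C′ is the centralizer of
T′ in H. -/
theorem result (k : Type u) [Field k] [IsAlgClosed k]
    (G H : Over (Spec (CommRingCat.of k))) [GrpObj G] [GrpObj H]
    [Smooth G.hom] [QuasiCompact G.hom] [ConnectedSpace ↥G.left]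
    [Smooth H.hom] [QuasiCompact H.hom] [ConnectedSpace ↥H.left]
    (v : G ⟶ H) [IsMonHom v] [Surjective v.left]
    (T : Over (Spec (CommRingCat.of k))) [GrpObj T] (i : T ⟶ G) (hT : Red.IsMaximalTorus i)
    (C : Over (Spec (CommRingCat.of k))) [GrpObj C] (c : C ⟶ G) (hC : Red.IsCentralizerOf i c)
    (T' : Over (Spec (CommRingCat.of k))) [GrpObj T'] (t' : T' ⟶ H) [IsMonHom t'] [Mono t']
    (wT : T ⟶ T') [IsMonHom wT] [Flat wT.left] [Surjective wT.left] (hwT : wT ≫ t' = i ≫ v)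
    (C' : Over (Spec (CommRingCat.of k))) [GrpObj C'] (c' : C' ⟶ H) [IsMonHom c'] [Mono c']
    (wC : C ⟶ C') [IsMonHom wC] [Flat wC.left] [Surjective wC.left] (hwC : wC ≫ c' = c ≫ v) :
    Red.IsCentralizerOf t' c' := by
  classical
  haveI := hT.1; haveI := hT.2.1
  haveI hTt := hT.2.2.1
  haveI : IsSeparated G.hom := SGA3xLib.isSeparated_of_grpObj G
  haveI : IsSeparated H.hom := SGA3xLib.isSeparated_of_grpObj H
  haveI : IsSeparated T'.hom := SGA3xLib.isSeparated_of_grpObj T'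
  haveI : IsSeparated C'.hom := SGA3xLib.isSeparated_of_grpObj C'
  haveI : IsAffineHom T.hom := IsoTriv.SchemeBridge.isAffineHom_of_multTypeFT T (MultExt26.isMultTypeFT_of_torus T hTt)
  haveI : Smooth T.hom := AlgGrpLib.AxesTorus.smooth_of_isTorus hTt
  haveI : IsReduced T.left := AbSchLib.isReduced_of_smooth T.hom
  haveI := hC.1; haveI := hC.2.1
  obtain ⟨hCs, hCcl⟩ := CentConn12.smooth_closed hTt i hC
  haveI := hCs; haveI := hCcl
  haveI : QuasiCompact C.hom := by rw [← Over.w c]; infer_instance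
  haveI : ConnectedSpace C.left := CentConn12.connected_centralizer hTt i hC
  haveI : QuasiCompact wT.left := by
    haveI : QuasiCompact (wT.left ≫ T'.hom) := by rw [Over.w]; infer_instance
    exact QuasiCompact.of_comp _ T'.hom
  haveI : QuasiCompact wC.left := by
    haveI : QuasiCompact (wC.left ≫ C'.hom) := by rw [Over.w]; infer_instance
    exact QuasiCompact.of_comp _ C'.hom
  -- the image of the torus
  obtain ⟨MT, _, iT, gT, hiT, hgT, hiTc, hgTe, hgTs, hgTf, hMTs, -, hMTq⟩ := AlgGrpLib.ImageSubgroup.exists_image (i ≫ v)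
  haveI := hiT; haveI := hgT; haveI := hiTc; haveI := hgTs; haveI := hgTf; haveI := hMTs; haveI := hMTq
  haveI : Mono iT := Over.mono_of_mono_left iT
  haveI : QuasiCompact gT.left := AlgGrpLib.quasiCompact_left gT
  have hMT : Red.IsTorus MT := by
    haveI : IsSeparated MT.hom := SGA3xLib.isSeparated_of_grpObj MT
    exact AGFImage11.isTorus_of_surjective hTt gT
  obtain ⟨eT, -, heT⟩ := CentImg12.exists_iso wT gT t' iT (hwT.trans hgTe.symm)
  haveI : IsMonHom eT.hom := SGA3cLib.BCPoints.isMonHom_of_mul eT.hom fun X x y => by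
    rw [← cancel_mono iT]
    simp only [MonObj.mul_comp, Category.assoc, heT]
  have hT'tor : Red.IsTorus T' := AGFImage11.isTorus_of_iso eT.hom hMT
  haveI : IsIso eT.hom.left := inferInstanceAs (IsIso ((Over.forget _).map eT.hom))
  haveI : IsClosedImmersion t'.left := by rw [← heT, Over.comp_left]; infer_instance
  haveI : Smooth T'.hom := AlgGrpLib.AxesTorus.smooth_of_isTorus hT'tor
  haveI : QuasiCompact T'.hom := by rw [← Over.w t']; infer_instance
  haveI : LocallyOfFiniteType T'.hom := inferInstance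
  -- the centralizer of the image
  obtain ⟨Z, _, z, hz, hzcl, hZs⟩ := SGA3cLib.MTTransporter.exists_centralizer t'
    (SGA3cLib.CentralFib.locally_of_multTypeFT (MultExt26.isMultTypeFT_of_torus T' hT'tor))
  haveI := hz.1; haveI := hz.2.1; haveI := hzcl; haveI := hZs
  haveI : ConnectedSpace Z.left := CentConn12.connected_centralizer hT'tor t' hz
  haveI : IrreducibleSpace Z.left := SGA3cLib.irreducibleSpace_of_connected Z
  haveI : IsReduced Z.left := AbSchLib.isReduced_of_smooth Z.hom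
  -- the image of the centralizer
  obtain ⟨M, _, iM, gM, hiM, hgM, hiMc, hgMe, hgMs, hgMf, hMs, -, hMq⟩ := AlgGrpLib.ImageSubgroup.exists_image (c ≫ v)
  haveI := hiM; haveI := hgM; haveI := hiMc; haveI := hgMs; haveI := hgMf; haveI := hMs; haveI := hMq
  haveI : IsReduced M.left := AbSchLib.isReduced_of_smooth M.hom
  haveI : Mono iM := Over.mono_of_mono_left iM
  haveI : QuasiCompact gM.left := AlgGrpLib.quasiCompact_left gM
  haveI : Smooth (M ⊗ T').hom := inferInstanceAs (Smooth (pullback.fst M.hom T'.hom ≫ M.hom))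
  haveI : IsReduced (M ⊗ T').left := AbSchLib.isReduced_of_smooth (M ⊗ T').hom
  have hCcomm : ∀ (y : 𝟙_ _ ⟶ C) (t : 𝟙_ _ ⟶ T), (y ≫ c) * (t ≫ i) = (t ≫ i) * (y ≫ c) := fun y t => by
    have h := (hC.2.2 C c).1 ⟨𝟙 C, Category.id_comp c⟩ _ y t
    exact h
  have hpair : (fst M T' ≫ iM) * (snd M T' ≫ t') = (snd M T' ≫ t') * (fst M T' ≫ iM) := by
    refine AGFQuot23.hom_ext_of_points _ _ fun x => ?_
    simp only [MonObj.comp_mul, ← Category.assoc]
    obtain ⟨y, hy⟩ := AGFQuot23.exists_ratPoint_lift gM (x ≫ fst M T')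
    obtain ⟨t, ht⟩ := AGFQuot23.exists_ratPoint_lift wT (x ≫ snd M T')
    rw [← hy, ← ht, Category.assoc, hgMe, Category.assoc, hwT, ← Category.assoc, ← Category.assoc,
      ← MonObj.mul_comp, ← MonObj.mul_comp, hCcomm]
  obtain ⟨mM, hmM⟩ := (hz.2.2 M iM).2 fun X' x h => by
    have h1 := congrArg (fun f => lift x h ≫ f) hpair
    simpa only [MonObj.comp_mul, lift_fst_assoc, lift_snd_assoc] using h1
  -- representatives of the normalizer
  haveI : QuasiCompact T.hom := inferInstance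
  obtain ⟨R, hRfin, hR⟩ := CentImg12.exists_reps hTt i
  have hTC : ∀ t : 𝟙_ _ ⟶ T, ∃ y : 𝟙_ _ ⟶ C, y ≫ c = t ≫ i := fun t => (hC.2.2 _ (t ≫ i)).2 fun X' x h => by
    rw [← Category.assoc, ← MonObj.mul_comp, ← MonObj.mul_comp, SGA3cLib.torus_mul_comm hTt]
  have hCpt : ∀ g : 𝟙_ (Over (Spec (CommRingCat.of k))) ⟶ G, CentImg12.Comm i g → ∃ y : 𝟙_ _ ⟶ C, y ≫ c = g := by
    intro g hg
    have h0 : (toUnit T ≫ g) * i = i * (toUnit T ≫ g) := by
      refine AGFQuot23.hom_ext_of_points _ _ fun t => ?_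
      simp only [MonObj.comp_mul, ← Category.assoc, toUnit_unique (t ≫ toUnit T) (𝟙 _), Category.id_comp]
      exact hg t
    refine (hC.2.2 _ g).2 fun X' x h => ?_
    have h1 := congrArg (fun f => h ≫ f) h0
    simp only [MonObj.comp_mul, ← Category.assoc] at h1
    rw [toUnit_unique (h ≫ toUnit T) x] at h1
    exact h1
  have hMmem : ∀ g : 𝟙_ (Over (Spec (CommRingCat.of k))) ⟶ G, (∃ y : 𝟙_ _ ⟶ C, y ≫ c = g) → ∃ m : 𝟙_ _ ⟶ M, m ≫ iM = g ≫ v := by
    rintro g ⟨y, rfl⟩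
    exact ⟨y ≫ gM, by rw [Category.assoc, hgMe, Category.assoc]⟩
  have key : ∀ y : 𝟙_ (Over (Spec (CommRingCat.of k))) ⟶ Z,
      ∃ r ∈ R, ∃ m : 𝟙_ _ ⟶ M, m ≫ iM = (r ≫ v)⁻¹ * (y ≫ z) := by
    intro y
    obtain ⟨g, hg⟩ := AGFQuot23.exists_ratPoint_lift v (y ≫ z)
    have hgc : ∀ t : 𝟙_ _ ⟶ T', (g ≫ v) * (t ≫ t') = (t ≫ t') * (g ≫ v) := fun t => by
      rw [hg]
      exact (hz.2.2 Z z).1 ⟨𝟙 Z, Category.id_comp z⟩ _ y t
    -- the reduced preimage of the image torus
    let φ : (𝟙_ (Over (Spec (CommRingCat.of k))) ⟶ G) →* (𝟙_ (Over (Spec (CommRingCat.of k))) ⟶ H) :=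
      MonoidHom.mk' (fun x => x ≫ v) fun a b => MonObj.mul_comp a b v
    let ψ : (𝟙_ (Over (Spec (CommRingCat.of k))) ⟶ T') →* (𝟙_ (Over (Spec (CommRingCat.of k))) ⟶ H) :=
      MonoidHom.mk' (fun x => x ≫ t') fun a b => MonObj.mul_comp a b t'
    let S := ψ.range.comap φ
    obtain ⟨P, _, ιP, hιP, hιPc, hPr, hrange, -⟩ := AlgGrpLib.exists_closure_subgroup G S
    haveI := hιP; haveI := hιPc; haveI := hPr
    haveI : Mono ιP := Over.mono_of_mono_left ιP
    haveI : LocallyOfFiniteType P.hom := by rw [← Over.w ιP]; infer_instance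
    haveI : QuasiCompact P.hom := by rw [← Over.w ιP]; infer_instance
    haveI : Smooth P.hom := AbVarLib.smooth_of_geometricallyReduced P
    have hlift : ∀ f : T ⟶ G, (∀ t : 𝟙_ _ ⟶ T, t ≫ f ∈ S) → ∃ f' : T ⟶ P, f' ≫ ιP = f := fun f hf => by
      refine CentImg12.exists_lift f ιP (Set.range_subset_iff.2 fun x => ?_)
      refine (AGFQuot23.subset_of_forall_point (Z := T) isClosed_univ.isLocallyClosed
        (ιP.left.isClosedEmbedding.isClosed_range.preimage f.left.continuous) (fun t _ => ?_)) (Set.mem_univ x)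
      show f.left (ptOf t) ∈ Set.range ιP.left
      rw [hrange]
      exact subset_closure ⟨t ≫ f, hf t, rfl⟩
    have hS1 : ∀ t : 𝟙_ _ ⟶ T, t ≫ i ∈ S := fun t => ⟨t ≫ wT, by
      show (t ≫ wT) ≫ t' = (t ≫ i) ≫ v
      rw [Category.assoc, hwT, Category.assoc]⟩
    obtain ⟨t₁, ht₁⟩ := hlift i hS1
    obtain ⟨t₂, ht₂⟩ := hlift (i ≫ cj g) fun t => ⟨t ≫ wT, by
      show (t ≫ wT) ≫ t' = (t ≫ i ≫ cj g) ≫ v
      rw [← Category.assoc t i, comp_cj, cst, toUnit_unique (toUnit _) (𝟙 _), Category.id_comp, MonObj.mul_comp,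
        MonObj.mul_comp, GrpObj.inv_comp, Category.assoc t i, ← hwT, ← Category.assoc t wT, _root_.mul_assoc, ← hgc,
        inv_mul_cancel_left]⟩
    obtain ⟨x, φ', hφ'⟩ := ConjConst26.maxTorus_conj' t₁ t₂ (isMaximalTorus_of_factor ιP t₁ ht₁ hT)
      (isMaximalTorus_of_factor ιP t₂ ht₂ (ConjConst26.isMaximalTorus_comp_aut hT _))
    have hconj : ∀ t : 𝟙_ _ ⟶ T, (g * (x ≫ ιP)) * (t ≫ i) * (g * (x ≫ ιP))⁻¹ = (t ≫ φ'.hom) ≫ i := by
      intro t
      have h1 := congrArg (fun f => (t ≫ f) ≫ ιP) hφ'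
      simp only [MonObj.comp_mul, GrpObj.comp_inv, MonObj.mul_comp, GrpObj.inv_comp] at h1
      rw [← Category.assoc t (toUnit T), toUnit_unique (t ≫ toUnit T) (𝟙 _), Category.id_comp, Category.assoc t,
        ht₁, Category.assoc t, Category.assoc φ'.hom, ht₂, ← Category.assoc φ'.hom, ← Category.assoc t, comp_cj,
        cst, toUnit_unique (toUnit _) (𝟙 _), Category.id_comp] at h1
      rw [_root_.mul_inv_rev]
      calc g * (x ≫ ιP) * (t ≫ i) * ((x ≫ ιP)⁻¹ * g⁻¹)
          = g * ((x ≫ ιP) * (t ≫ i) * (x ≫ ιP)⁻¹) * g⁻¹ := by group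
        _ = g * (g⁻¹ * (t ≫ φ'.hom ≫ i) * g) * g⁻¹ := by rw [h1]
        _ = (t ≫ φ'.hom) ≫ i := by rw [Category.assoc]; group
    obtain ⟨r, hr, hrg⟩ := hR (g * (x ≫ ιP)) fun t => ⟨_, hconj t⟩
    obtain ⟨m₁, hm₁⟩ := hMmem _ (hCpt _ hrg)
    have hxv : ∃ t : 𝟙_ _ ⟶ T', t ≫ t' = (x ≫ ιP) ≫ v := by
      refine AGFQuot23.exists_point_of_mem t' _ ?_
      have hcl : closure (ptOf '' (S : Set _)) ⊆ v.left ⁻¹' Set.range t'.left := by
        refine closure_minimal ?_ (t'.left.isClosedEmbedding.isClosed_range.preimage v.left.continuous)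
        rintro _ ⟨s, ⟨a, ha⟩, rfl⟩
        refine ⟨ptOf a, ?_⟩
        exact congrArg (fun f : _ ⟶ H => ptOf f) (show a ≫ t' = s ≫ v from ha)
      exact hcl (hrange.le ⟨ptOf x, rfl⟩)
    obtain ⟨a, ha⟩ := hxv
    obtain ⟨t₀, ht₀⟩ := AGFQuot23.exists_ratPoint_lift wT a
    obtain ⟨m₂, hm₂⟩ := hMmem _ (hTC t₀)
    refine ⟨r, hr, m₁ * m₂⁻¹, ?_⟩
    rw [MonObj.mul_comp, GrpObj.inv_comp, hm₁, hm₂, Category.assoc t₀, ← hwT, ← Category.assoc t₀, ht₀, ha,
      ← hg, MonObj.mul_comp, MonObj.mul_comp, GrpObj.inv_comp]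
    group
  -- the image fills the centralizer
  have hsurj : Set.range z.left ⊆ Set.range iM.left := by
    let L : (𝟙_ (Over (Spec (CommRingCat.of k))) ⟶ G) → Set Z.left := fun r =>
      ((toUnit Z ≫ (r ≫ v)⁻¹) * z).left ⁻¹' Set.range iM.left
    have hLc : ∀ r, IsClosed (L r) := fun r =>
      iM.left.isClosedEmbedding.isClosed_range.preimage ((toUnit Z ≫ (r ≫ v)⁻¹) * z).left.continuous
    have hLmem : ∀ r (y : 𝟙_ _ ⟶ Z), ptOf y ∈ L r ↔ ∃ m : 𝟙_ _ ⟶ M, m ≫ iM = (r ≫ v)⁻¹ * (y ≫ z) := by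
      intro r y
      have e : y ≫ ((toUnit Z ≫ (r ≫ v)⁻¹) * z) = (r ≫ v)⁻¹ * (y ≫ z) := by
        rw [MonObj.comp_mul, ← Category.assoc, toUnit_unique (y ≫ toUnit Z) (𝟙 _), Category.id_comp]
      refine ⟨fun h => AGFQuot23.exists_point_of_mem iM _ (by rw [← e]; exact h), fun ⟨m, hm⟩ => ⟨ptOf m, ?_⟩⟩
      have h2 := congrArg (fun f : _ ⟶ H => ptOf f) (hm.trans e.symm)
      exact h2
    have hcov : (Set.univ : Set Z.left) ⊆ ⋃₀ (L '' R) := by
      refine AGFQuot23.subset_of_forall_point (Z := Z) isClosed_univ.isLocallyClosed ?_ fun y _ => ?_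
      · exact (Set.sUnion_eq_biUnion ▸ (hRfin.image L).isClosed_biUnion (by rintro _ ⟨r, -, rfl⟩; exact hLc r))
      · obtain ⟨r, hr, hm⟩ := key y
        exact ⟨L r, ⟨r, hr, rfl⟩, (hLmem r y).2 hm⟩
    obtain ⟨_, hr₀, hr₁⟩ := (isIrreducible_iff_sUnion_isClosed.1 (IrreducibleSpace.isIrreducible_univ Z.left))
      (hRfin.image L).toFinset (fun s hs => by
        obtain ⟨r, -, rfl⟩ := (Set.Finite.mem_toFinset _).1 hs
        exact hLc r) (by rwa [Set.Finite.coe_toFinset])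
    obtain ⟨r, -, rfl⟩ := (Set.Finite.mem_toFinset _).1 hr₀
    obtain ⟨m₀, hm₀⟩ := (hLmem r 1).1 (hr₁ (Set.mem_univ _))
    rw [MonObj.one_comp, _root_.mul_one] at hm₀
    rintro _ ⟨p, rfl⟩
    refine (AGFQuot23.subset_of_forall_point (Z := Z) isClosed_univ.isLocallyClosed
      (iM.left.isClosedEmbedding.isClosed_range.preimage z.left.continuous) (fun y _ => ?_)) (Set.mem_univ p)
    obtain ⟨m, hm⟩ := (hLmem r y).1 (hr₁ (Set.mem_univ _))
    have h3 : (m₀⁻¹ * m) ≫ iM = y ≫ z := by rw [MonObj.mul_comp, GrpObj.inv_comp, hm₀, hm]; group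
    exact ⟨ptOf (m₀⁻¹ * m), congrArg (fun f : _ ⟶ H => ptOf f) h3⟩
  obtain ⟨n, hn⟩ := CentImg12.exists_lift z iM hsurj
  obtain ⟨e, -, he⟩ := CentImg12.exists_iso gM wC iM c' (hgMe.trans hwC.symm)
  refine ⟨inferInstance, inferInstance, fun X g => ⟨fun ⟨a, ha⟩ => ?_, fun h => ?_⟩⟩
  · exact (hz.2.2 X g).1 ⟨a ≫ e.inv ≫ mM, by rw [Category.assoc, Category.assoc, hmM, ← he, Iso.inv_hom_id_assoc, ha]⟩
  · obtain ⟨a, ha⟩ := (hz.2.2 X g).2 h
    exact ⟨a ≫ n ≫ e.hom, by rw [Category.assoc, Category.assoc, he, hn, ha]⟩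

end Groth.Agent.S12065
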