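import Groth.Statements.S12067
import Groth.Agent.HopfLib.ComodFlag

set_option backward.isDefEq.respectTransparency.types false

set_option autoImplicit false
universe u
open TensorProduct
open SGA3t2b
open scoped TensorProduct

namespace Groth.Agent.S12067

/-- In Hopf-algebra form, let k be a field and A a finitely generated commutative Hopf algebra over k
(an affine algebraic group G) which is unipotent: every nonzero finite-dimensional comodule has a
nonzero fixed vector. Then every finite-dimensional comodule V (a finite-dimensional representation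
of G), of dimension n, has a flag of subcomodules 0 = V_0 ⊂ V_1 ⊂ ⋯ ⊂ V_n = V with one-dimensional
successive quotients on which G acts trivially: for v ∈ V_(i+1) the coaction of v is congruent to v
⊗ 1 modulo V_i ⊗ A. -/
theorem result (k : Type u) [Field k] (A : Type u) [CommRing A]
    [HopfAlgebra k A] [Algebra.FiniteType k A] (hU : HopfRep.IsUnipotent k A)
    (V : Type u) [AddCommGroup V] [Module k V] [HopfRep.Comod k A V] [Module.Finite k V] :
    ∃ F : Fin (Module.finrank k V + 1) → Submodule k V,
      F 0 = ⊥ ∧ F (Fin.last _) = ⊤ ∧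
      (∀ i : Fin (Module.finrank k V + 1), HopfRep.IsSubcomod (k := k) (A := A) (F i)) ∧
      ∀ i : Fin (Module.finrank k V), F i.castSucc ≤ F i.succ ∧
        Module.finrank k ↥(F i.succ) = Module.finrank k ↥(F i.castSucc) + 1 ∧
        ∀ v ∈ F i.succ, HopfRep.Comod.coact (k := k) (A := A) v - v ⊗ₜ[k] (1 : A) ∈
          LinearMap.range ((F i.castSucc).subtype.rTensor A) := by
  classical
  open Groth.Agent.HopfLib HopfRep in
  exact (fun ⟨F, hF, h0, hs, hP⟩ => by
    have hdim : ∀ i, i ≤ Module.finrank k V → Module.finrank k (F i) = i := by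
      intro i
      induction i with
      | zero => intro _; rw [h0, finrank_bot]
      | succ i ih => intro hi; rw [(hP i).1, ih (by omega)]; omega
    refine ⟨fun i => F i, h0, Submodule.eq_top_of_finrank_eq ?_, fun i => hs _, fun i => ⟨hF (Nat.le_succ _), ?_, (hP i).2⟩⟩
    · simpa using hdim _ le_rfl
    · show Module.finrank k (F (i + 1 : ℕ)) = Module.finrank k (F (i : ℕ)) + 1
      rw [hdim _ i.2, hdim _ i.2.le])
    (exists_flag (k := k) (A := A) (V := V)
      (fun S T => Module.finrank k T = min (Module.finrank k S + 1) (Module.finrank k V) ∧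
        ∀ v ∈ T, Comod.coact (k := k) (A := A) v - v ⊗ₜ[k] (1 : A) ∈ LinearMap.range (S.subtype.rTensor A))
      ⟨by simp, fun v _ => mem_range_rTensor_subtype_iff.2 fun _ => trivial⟩
      (fun S hS hne => by
        obtain ⟨T', hlt, -, hT'⟩ := exists_succ_unipotent hU hS hne
        obtain ⟨v, hv, hvS⟩ := SetLike.exists_of_lt hlt
        let T : Submodule k V := S ⊔ Submodule.span k {v}
        have hTT' : T ≤ T' := sup_le hlt.le ((Submodule.span_singleton_le_iff_mem _ _).2 hv)
        refine ⟨T, le_sup_left, fun w hw => ?_, ?_, fun w hw => hT' w (hTT' hw)⟩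
        · rw [← sub_add_cancel (Comod.coact (k := k) (A := A) w) (w ⊗ₜ[k] (1 : A))]
          refine add_mem ?_ ⟨(⟨w, hw⟩ : T) ⊗ₜ[k] (1 : A), rfl⟩
          exact mem_range_rTensor_subtype_iff.2 fun g =>
            (le_sup_left : S ≤ T) (mem_range_rTensor_subtype_iff.1 (hT' w (hTT' hw)) g)
        · have h1 : S < T := lt_of_le_of_ne le_sup_left fun h => hvS (h ▸ (le_sup_right : _ ≤ T) (Submodule.mem_span_singleton_self v))
          have h2 := Submodule.finrank_lt_finrank_of_lt h1
          have h3 : Module.finrank k T + _ = _ := Submodule.finrank_sup_add_finrank_inf_eq S (Submodule.span k {v})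
          have h4 : Module.finrank k (Submodule.span k {v}) ≤ 1 := by
            simpa using finrank_span_le_card ({v} : Set V) (R := k)
          have h5 := Submodule.finrank_le T
          change Module.finrank k T = _
          omega))

end Groth.Agent.S12067
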