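import Groth.Statements.S1207
import Groth.Agent.FlatMorVal.PrimeWitness

set_option autoImplicit false
universe u
open FlatMor

namespace Groth.Agent.S1207

/-- Let A be a local ring and I, J ideals of A with J finitely generated, J ≠ A, and I ⊆ J^n for all n ≥
1. Then every prime p not containing J which is maximal among the primes not containing J (a closed
point of Spec A ∖ V(J)) contains I. (The published statement leaves the hypothesis J ≠ A implicit;
for J = A the assertion fails.) -/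
theorem result (A : Type u) [CommRing A] [IsLocalRing A] (I J : Ideal A) (hJ : J.FG) (hJ1 : J ≠ ⊤)
    (hI : ∀ n : ℕ, 1 ≤ n → I ≤ J ^ n) (p : Ideal A) [p.IsPrime] (hp : ¬ J ≤ p)
    (hmax : ∀ (p' : Ideal A), p'.IsPrime → p ≤ p' → ¬ J ≤ p' → p' = p) : I ≤ p := by
  intro x hx
  by_contra hxp
  let φ := Ideal.Quotient.mk p
  have hφ : Function.Surjective φ := Ideal.Quotient.mk_surjective
  haveI : IsLocalRing (A ⧸ p) :=
    IsLocalRing.of_surjective' φ hφ
  have hpow : ∀ n : ℕ, 1 ≤ n → φ x ∈ (J.map φ) ^ n := fun n hn => by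
    rw [← Ideal.map_pow]; exact Ideal.mem_map_of_mem φ (hI n hn hx)
  have hxm : φ x ∈ IsLocalRing.maximalIdeal (A ⧸ p) := by
    have hxJ : x ∈ J := by simpa using hI 1 le_rfl hx
    have hxA : x ∈ IsLocalRing.maximalIdeal A := IsLocalRing.le_maximalIdeal hJ1 hxJ
    rw [IsLocalRing.mem_maximalIdeal, mem_nonunits_iff] at hxA ⊢
    intro hu
    obtain ⟨y, hy⟩ := hu.exists_right_inv
    obtain ⟨z, rfl⟩ := hφ y
    rw [← map_mul, ← map_one φ, Ideal.Quotient.eq] at hy
    have h1 : x * z ∈ IsLocalRing.maximalIdeal A :=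
      Ideal.mul_mem_right _ _ ((IsLocalRing.mem_maximalIdeal _).mpr hxA)
    have hp1 : x * z - 1 ∈ IsLocalRing.maximalIdeal A :=
      IsLocalRing.le_maximalIdeal (Ideal.IsPrime.ne_top inferInstance) hy
    exact (IsLocalRing.maximalIdeal.isMaximal A).ne_top
      ((Ideal.eq_top_iff_one _).mpr (by simpa using sub_mem h1 hp1))
  obtain ⟨q, hq, hxq, -, hq'⟩ := FlatMorVal.exists_prime_mem_forall_fg_exists_notMem_pow (A ⧸ p) (φ x)
    (fun h => hxp (Ideal.Quotient.eq_zero_iff_mem.mp h)) hxm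
  have hJq : J.map φ ≤ q := by
    rw [Ideal.map_le_iff_le_comap]
    by_contra hJ'
    have hle : p ≤ q.comap φ := fun a ha => by
      simp [φ, Ideal.Quotient.eq_zero_iff_mem.mpr ha]
    have := hmax _ (hq.comap φ) hle hJ'
    exact hxp (this ▸ (Ideal.mem_comap.mpr hxq))
  obtain ⟨n, hn, hxn⟩ := hq' _ (hJ.map φ) hJq
  exact hxn (hpow n hn)

end Groth.Agent.S1207
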