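import Groth.Statements.S12070
import Groth.Agent.Lef23.PureExtend
import Groth.Agent.Lef23.FrameLeff
import Groth.Agent.Lef23.Disjoint
import Groth.Agent.Lef23.RegularSection

set_option autoImplicit false
set_option linter.style.haveILetI false
universe u
open Pi1

namespace Groth.Agent.S12070

open AlgebraicGeometry CategoryTheory CategoryTheory.Limits in
/-- Let X be a proper scheme over a field k, L an ample O_X-module, t a global section of L which is
regular (the map O_X → L it defines is a monomorphism) and X_0 = Z(t) its zero scheme. Assume that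
the local ring of X at every closed point has depth ≥ 2, that it has depth ≥ 3 at every closed point
of X_0, and that purity holds for the local ring of X at every closed point not in X_0 (for instance
a regular local ring or a complete intersection). Then restriction of finite étale covers from X to
X_0 is an equivalence of categories; in particular, for a geometric base point on X_0, π_1(X_0) →
π_1(X) is an isomorphism. (The published statement is phrased with π_0 and π_1; this row states the
equivalence of the categories of finite étale covers that underlies it.) -/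
theorem result (k : Type u) [Field k] (X : Scheme.{u})
    (f : X ⟶ Spec (CommRingCat.of k)) [IsProper f] (L : X.Modules) (hL : CohB1.IsAmple L)
    (s : Coh.structureModule X ⟶ L) [Mono s]
    (hd2 : ∀ x : X, IsClosed ({x} : Set X) → (2 : ℕ∞) ≤ LocCoh.depth (X.presheaf.stalk x) (X.presheaf.stalk x))
    (hd3 : ∀ x : X, IsClosed ({x} : Set X) → x ∈ (PicF2.zeroScheme L s).support →
      (3 : ℕ∞) ≤ LocCoh.depth (X.presheaf.stalk x) (X.presheaf.stalk x))
    (hp : ∀ x : X, IsClosed ({x} : Set X) → x ∉ (PicF2.zeroScheme L s).support →
      FEt.PurityHolds (X.presheaf.stalk x)) :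
    (FEt.restrict (PicF2.zeroScheme L s).subschemeι).IsEquivalence := by
  letI : X.Over (Spec (CommRingCat.of k)) := ⟨f⟩
  haveI : IsProper (X ↘ Spec (CommRingCat.of k)) := ‹IsProper f›
  haveI : Subsingleton ↥(Spec (CommRingCat.of k)) := inferInstanceAs (Subsingleton (PrimeSpectrum k))
  haveI : Flat (X ↘ Spec (CommRingCat.of k)) := inferInstance
  haveI : IsLocallyNoetherian X := LocallyOfFiniteType.isLocallyNoetherian f
  let 𝓘 := PicF2.zeroScheme L s
  haveI : Flat (𝓘.subschemeι ≫ (X ↘ Spec (CommRingCat.of k))) := inferInstance
  have hinv : ClSub.IsInverseOf L (ClSub.idealMod 𝓘) := Groth.Agent.Lef23.isInverseOf_zeroScheme hL.1 s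
  have hleff : LefX.LeffCond X 𝓘 := by
    refine Groth.Agent.Lef23.leffCond_of_ample k 𝓘 hinv hL (fun y hy => ?_) (fun x hx => ?_)
    · rw [Groth.Agent.Lef23.depth_fiberStalk_of_field]
      have hc := Groth.Agent.Lef23.isClosed_singleton_of_fibre _ y hy
      have hcx : IsClosed ({𝓘.subschemeι y} : Set X) := by
        rw [← Set.image_singleton]
        exact 𝓘.subschemeι.isClosedEmbedding.isClosedMap _ hc
      have hmem : 𝓘.subschemeι y ∈ (𝓘.support : Set X) := 𝓘.range_subschemeι.subset ⟨y, rfl⟩
      have h3 := hd3 _ hcx hmem
      rw [← Groth.Agent.Lef23.depth_zeroScheme_add_one hL.1 s y, show (3 : ℕ∞) = 2 + 1 from rfl] at h3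
      exact (ENat.add_le_add_iff_right ENat.one_ne_top).1 h3
    · rw [Groth.Agent.Lef23.depth_fiberStalk_of_field]
      exact hd2 x (Groth.Agent.Lef23.isClosed_singleton_of_fibre _ x hx)
  refine Groth.Agent.Lef23.restrict_isEquivalence_of_leff_good 𝓘 hleff fun U hU x hx => ?_
  have hdisj : Disjoint ((U : Set X)ᶜ) (𝓘.support : Set X) := Set.disjoint_compl_left_iff_subset.2 hU
  have hxc : IsClosed ({x} : Set X) := Groth.Agent.Lef23.isClosed_singleton_of_fibre _ x
    (Groth.Agent.Lef23.isClosed_fibre_of_disjoint (A := k) 𝓘 hinv hL U.isOpen.isClosed_compl hdisj hx)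
  exact ⟨hd2 x hxc, hp x hxc fun h => hx (hU h)⟩

end Groth.Agent.S12070
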