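import Groth.Statements.S12071
import Mathlib

set_option autoImplicit false
open RootD

namespace Groth.Agent.S12071

/-- Let G be the group generated by two elements x, y subject to x² = y² = 1 (the infinite dihedral
group; here Mathlib's DihedralGroup 0 with x = sr 0 and y = sr 1, so that x y = r 1). Then every
normal subgroup of G containing neither x nor y is generated by an element (x y)^n with n > 0; such
a subgroup is cyclic, generated by r n. (The published statement does not exclude the trivial
subgroup, for which no n > 0 works; this row assumes the subgroup nontrivial.) -/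
theorem result (N : Subgroup (DihedralGroup 0)) [N.Normal]
    (hN : N ≠ ⊥) (hx : DihedralGroup.sr (0 : ZMod 0) ∉ N) (hy : DihedralGroup.sr (1 : ZMod 0) ∉ N) :
    ∃ n : ℕ, 0 < n ∧ N = Subgroup.zpowers (DihedralGroup.r (n : ZMod 0)) := by
  let f : ℤ →+ Additive (DihedralGroup 0) :=
    { toFun := fun z => Additive.ofMul (DihedralGroup.r (z : ZMod 0))
      map_zero' := rfl
      map_add' := fun x y => rfl }
  have hsr : ∀ j : ZMod 0, DihedralGroup.sr j ∉ N := by
    intro j hj
    obtain ⟨k, hk | hk⟩ := Int.even_or_odd' (show ℤ from j)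
    · refine hx ?_
      have := ‹N.Normal›.conj_mem _ hj (DihedralGroup.r (k : ZMod 0))
      change DihedralGroup.sr (show ZMod 0 from (show ℤ from j) - k + -k) ∈ N at this
      convert this using 2
      change (0 : ℤ) = (show ℤ from j) - k + -k
      omega
    · refine hy ?_
      have := ‹N.Normal›.conj_mem _ hj (DihedralGroup.r (k : ZMod 0))
      change DihedralGroup.sr (show ZMod 0 from (show ℤ from j) - k + -k) ∈ N at this
      convert this using 2
      change (1 : ℤ) = (show ℤ from j) - k + -k
      omega
  let H : AddSubgroup ℤ := (Subgroup.toAddSubgroup N).comap f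
  obtain ⟨n₀, hn₀⟩ := Int.subgroup_cyclic H
  have hmem : ∀ z : ℤ, DihedralGroup.r (z : ZMod 0) ∈ N ↔ z ∈ H := fun z => Iff.rfl
  have hn : ∀ z : ℤ, DihedralGroup.r (z : ZMod 0) ∈ N ↔ (n₀.natAbs : ℤ) ∣ z := fun z => by
    rw [hmem, hn₀, ← AddSubgroup.zmultiples_eq_closure, Int.mem_zmultiples_iff, Int.natAbs_dvd]
  have hne : n₀.natAbs ≠ 0 := fun h0 => hN (by
    refine (Subgroup.eq_bot_iff_forall N).mpr fun g hg => ?_
    rcases g with j | j
    · have := (hn j).mp hg
      obtain ⟨c, hc⟩ := this
      simp only [h0] at hc
      replace this : (show ℤ from j) = 0 := by simpa using hc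
      change DihedralGroup.r j = DihedralGroup.r 0
      exact congr_arg _ this
    · exact absurd hg (hsr j))
  refine ⟨n₀.natAbs, Nat.pos_of_ne_zero hne, le_antisymm (fun g hg => ?_) ?_⟩
  · rcases g with j | j
    · obtain ⟨c, hc⟩ := (hn j).mp hg
      rw [Subgroup.mem_zpowers_iff]
      exact ⟨c, by rw [DihedralGroup.r_zpow]; exact congr_arg _ hc.symm⟩
    · exact absurd hg (hsr j)
  · rw [Subgroup.zpowers_le]
    exact (hn _).mpr dvd_rfl

end Groth.Agent.S12071
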