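import Groth.Statements.S12073
import Groth.Agent.FEtQuot.FieldLimit
import Groth.Agent.H8Lim.HomDescent
-- import your own Groth.Agent.* helpers here

set_option autoImplicit false
universe u
open CategoryTheory CategoryTheory.Limits AlgebraicGeometry
open Pi1

set_option backward.isDefEq.respectTransparency.types false
set_option backward.isDefEq.respectTransparency false
set_option linter.style.haveILetI false

namespace Groth.Agent.S12073

/-- Let X = lim X_i be the limit of a cofiltered system of quasi-compact quasi-separated schemes with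
affine transition morphisms, given by a limit cone. Then: (1) every finite étale cover of X is
isomorphic, over X, to the base change of a finite étale cover of some X_i; (2) if two morphisms
between finite étale covers of some X_i have the same base change to X, then they have the same base
change to some X_j with j → i. (Fullness — every morphism over X between base changes comes from
some stage — is part of the published statement and is not stated here; nor is the consequence on
fundamental groups.) -/
theorem result {I : Type u} [SmallCategory I] [IsCofiltered I]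
    (D : I ⥤ Scheme.{u}) (c : Limits.Cone D) (hc : Limits.IsLimit c)
    [∀ (i j : I) (f : i ⟶ j), IsAffineHom (D.map f)] [∀ i, CompactSpace (D.obj i)]
    [∀ i, QuasiSeparatedSpace (D.obj i)] :
    (∀ V : FEt.Cat c.pt, ∃ (i : I) (Vi : FEt.Cat (D.obj i)), Nonempty ((FEt.restrict (c.π.app i)).obj Vi ≅ V)) ∧
    (∀ (i : I) (Vi Wi : FEt.Cat (D.obj i)) (φ ψ : Vi ⟶ Wi),
      (FEt.restrict (c.π.app i)).map φ = (FEt.restrict (c.π.app i)).map ψ →
      ∃ (j : I) (a : j ⟶ i), (FEt.restrict (D.map a)).map φ = (FEt.restrict (D.map a)).map ψ) := by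
  haveI : ∀ {i j : I} (f : i ⟶ j), IsAffineHom (D.map f) := fun f => inferInstance
  refine ⟨fun V => ?_, fun i Vi Wi φ ψ h => ?_⟩
  · haveI : IsFinite (show V.left ⟶ c.pt from V.hom) := V.prop.1
    haveI : Etale (show V.left ⟶ c.pt from V.hom) := V.prop.2
    obtain ⟨l, W₀, w₀, q, h₁, h₂, sq⟩ := Groth.Agent.FEtQuot.FieldLimit.exists_stage_finEt hc (show V.left ⟶ c.pt from V.hom)
    refine ⟨l, MorphismProperty.Over.mk _ w₀ ⟨h₁, h₂⟩, ⟨(MorphismProperty.Over.isoMk sq.isoPullback ?_).symm⟩⟩
    exact sq.isoPullback_hom_snd
  · haveI : IsFinite Vi.hom := Vi.prop.1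
    haveI : IsFinite Wi.hom := Wi.prop.1
    haveI : CompactSpace ↥((𝟭 Scheme).obj Vi.left) :=
      QuasiCompact.compactSpace_of_compactSpace (show Vi.left ⟶ D.obj i from Vi.hom)
    haveI : QuasiSeparatedSpace ↥((𝟭 Scheme).obj Vi.left) :=
      AlgebraicGeometry.quasiSeparatedSpace_of_quasiSeparated (show Vi.left ⟶ D.obj i from Vi.hom)
    have key : ∀ {S : Scheme.{u}} (g : S ⟶ D.obj i) (a : Vi ⟶ Wi),
        ((FEt.restrict g).map a).left ≫ Limits.pullback.fst Wi.hom g = Limits.pullback.fst Vi.hom g ≫ a.left :=
      fun g a => by simp [FEt.restrict, MorphismProperty.Over.pullback]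
    have hq : Limits.pullback.fst Vi.hom (c.π.app i) ≫ φ.left = Limits.pullback.fst Vi.hom (c.π.app i) ≫ ψ.left := by
      rw [← key, ← key, h]
    obtain ⟨j, a, e⟩ := Groth.Agent.H8Lim.exists_stage_eq hc (IsPullback.of_hasPullback Vi.hom (c.π.app i))
      φ.left ψ.left (MorphismProperty.Over.w φ) (MorphismProperty.Over.w ψ) hq
    refine ⟨j, a, MorphismProperty.Over.Hom.ext (Limits.pullback.hom_ext ?_ ?_)⟩
    · rw [key, key, e]
    · exact (MorphismProperty.Over.w ((FEt.restrict (D.map a)).map φ)).trans
        (MorphismProperty.Over.w ((FEt.restrict (D.map a)).map ψ)).symm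

end Groth.Agent.S12073
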