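import Groth.Statements.S12076
import Groth.Agent.RootDat.BaseR
import Mathlib.Algebra.Order.Group.PiLex
import Mathlib.Algebra.Order.Monoid.Prod

set_option autoImplicit false
open RootD Groth.Agent.RootDat

namespace Groth.Agent.S12076

/-- Let Δ be a system of simple roots (a base b of a root pairing P over ℤ) and Γ₀ the subgroup
generated by the roots. Then Γ₀ has a structure of totally ordered group for which the roots > 0 are
exactly the positive roots defined by Δ and for which the height (the additive function with value 1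
on each simple root) is monotone. The order is given here by its positive cone C ⊆ Γ₀: 0 ∉ C, C + C
⊆ C, and for every x ≠ 0 exactly one of x, −x lies in C (x < y meaning y − x ∈ C). -/
theorem result {ι M N : Type*} [AddCommGroup M] [AddCommGroup N]
    (P : RootPairing ι ℤ M N) [Finite ι] (b : P.Base) :
    ∃ C : Set ↥(Submodule.span ℤ (Set.range P.root)),
      0 ∉ C ∧ (∀ x ∈ C, ∀ y ∈ C, x + y ∈ C) ∧ (∀ x, x ≠ 0 → (x ∈ C ∨ -x ∈ C)) ∧ (∀ x ∈ C, -x ∉ C) ∧
      (∀ i : ι, (⟨P.root i, Submodule.subset_span (Set.mem_range_self i)⟩ : ↥(Submodule.span ℤ (Set.range P.root))) ∈ C ↔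
        b.IsPos i) ∧
      ∀ φ : ↥(Submodule.span ℤ (Set.range P.root)) →+ ℤ,
        (∀ j ∈ b.support, φ ⟨P.root j, Submodule.subset_span (Set.mem_range_self j)⟩ = 1) →
        ∀ x y : ↥(Submodule.span ℤ (Set.range P.root)), y - x ∈ C → φ x ≤ φ y := by
  classical
  let Γ := Submodule.span ℤ (Set.range P.root)
  let n := Fintype.card ↥b.support
  let eD := Fintype.equivFin ↥b.support
  let B : Module.Basis ↥b.support ℤ Γ := b.toWeightBasisInt
  let ht : Γ →ₗ[ℤ] ℤ := B.constr ℤ fun _ => (1 : ℤ)
  let crd : Γ → Fin n → ℤ := fun x i => B.repr x (eD.symm i)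
  let e : Γ →+ Lex (ℤ × Lex (Fin n → ℤ)) :=
    { toFun := fun x => toLex (ht x, toLex (crd x))
      map_zero' := by simp [crd]; rfl
      map_add' := fun x y => by
        rw [map_add]
        apply congr_arg toLex
        refine Prod.ext rfl ?_
        show toLex (crd (x + y)) = toLex (crd x + crd y)
        congr 1; funext i; simp [crd] }
  have einj : ∀ x, e x = 0 → x = 0 := fun x hx => by
    have h1 := congr_arg (fun p => ofLex (ofLex p).2) hx
    apply B.repr.injective
    rw [map_zero]
    ext j
    have := congr_fun h1 (eD j)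
    simp [e, crd] at this ⊢
    exact this
  have epos : ∀ x, 0 < ht x → 0 < e x := fun x hx => Prod.Lex.toLex_lt_toLex.mpr (Or.inl hx)
  have hle : ∀ x, 0 < e x → 0 ≤ ht x := fun x hx => by
    rcases Prod.Lex.toLex_lt_toLex.mp (show toLex ((0 : ℤ), (0 : Lex (Fin n → ℤ))) < e x from hx) with h | h
    · exact h.le
    · exact h.1.le
  have hroot : ∀ i : ι, ht ⟨P.root i, Submodule.subset_span (Set.mem_range_self i)⟩ = b.height i := by
    intro i
    obtain ⟨f, -, -, hf⟩ := b.exists_root_eq_sum_int i
    rw [RootPairing.Base.height_eq_sum hf]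
    have : (⟨P.root i, Submodule.subset_span (Set.mem_range_self i)⟩ : Γ) =
        ∑ j : ↥b.support, f j • B j := by
      apply Subtype.ext
      simp only [AddSubmonoidClass.coe_finsetSum, SetLike.val_smul, hf]
      rw [← Finset.sum_coe_sort b.support]
      exact Finset.sum_congr rfl fun j _ => congr_arg _ (b.coe_toWeightBasisInt_apply j).symm
    rw [this, map_sum, ← Finset.sum_coe_sort b.support]
    exact Finset.sum_congr rfl fun j _ => by
      rw [map_zsmul, Module.Basis.constr_basis, smul_eq_mul, mul_one]
  refine ⟨{x | 0 < e x}, by simp, fun x hx y hy => ?_, fun x hx => ?_, fun x hx hnx => ?_,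
    fun i => ?_, fun φ hφ x y hxy => ?_⟩
  · show 0 < e (x + y); rw [map_add]; exact add_pos hx hy
  · rcases lt_trichotomy (e x) 0 with h | h | h
    · exact Or.inr (show 0 < e (-x) by rw [map_neg]; exact neg_pos.mpr h)
    · exact absurd (einj x h) hx
    · exact Or.inl h
  · exact lt_asymm (show 0 < e x from hx) (neg_pos.mp (map_neg e x ▸ hnx))
  · rw [RootPairing.Base.isPos_iff, ← hroot]
    refine ⟨fun h => lt_of_le_of_ne (hle _ h) ?_, epos _⟩
    intro h0
    exact b.height_ne_zero i (by rw [← hroot, ← h0])
  · have hφht : ∀ z, φ z = ht z := fun z => by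
      have : φ.toIntLinearMap = ht := B.ext fun j => by
        show φ (B j) = ht (B j)
        rw [show ht (B j) = 1 by simp [ht], ← hφ (j : ι) j.2]
        congr 1
        exact Subtype.ext (b.coe_toWeightBasisInt_apply j)
      exact LinearMap.congr_fun this z
    have := hle _ hxy
    rw [map_sub] at this
    rw [hφht, hφht]
    omega

end Groth.Agent.S12076
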