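import Groth.Statements.S12078
import Mathlib.RingTheory.Bezout
import Mathlib.LinearAlgebra.Matrix.NonsingularInverse
import Mathlib.LinearAlgebra.Matrix.Notation
import Mathlib.Tactic.LinearCombination
import Mathlib.Tactic.Ring

set_option autoImplicit false
universe u
open CAlg

namespace Groth.Agent.S12078

/-- An elementary divisor domain is Bézout. Here `R` is a domain such that for all `n, m ≥ 1` and every
`n × m` matrix `A` there are invertible matrices `U` (`n × n`) and `V` (`m × m`) with `U * A * V`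
zero off the diagonal and with diagonal entries `f 0 ∣ f 1 ∣ f 2 ∣ …`; the conclusion is that every
finitely generated ideal of `R` is principal. -/
theorem result (R : Type u) [CommRing R] [IsDomain R]
    (hR : ∀ n m : ℕ, 1 ≤ n → 1 ≤ m → ∀ A : Matrix (Fin n) (Fin m) R,
      ∃ (U : (Matrix (Fin n) (Fin n) R)ˣ) (V : (Matrix (Fin m) (Fin m) R)ˣ) (f : ℕ → R),
        (∀ k : ℕ, f k ∣ f (k + 1)) ∧
        ∀ (i : Fin n) (j : Fin m), ((U : Matrix (Fin n) (Fin n) R) * A * (V : Matrix (Fin m) (Fin m) R)) i j =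
          if (i : ℕ) = (j : ℕ) then f i else 0) :
    IsBezout R := by
  rw [IsBezout.iff_span_pair_isPrincipal]
  intro x y
  obtain ⟨U, V, f, -, hf⟩ := hR 1 2 le_rfl (by omega) (Matrix.of fun (_ : Fin 1) (j : Fin 2) => ![x, y] j)
  set u := (U : Matrix (Fin 1) (Fin 1) R) 0 0
  have hu : IsUnit u := by
    have := (Matrix.isUnit_iff_isUnit_det _).1 U.isUnit
    rwa [Matrix.det_fin_one] at this
  set W := ((V⁻¹ : (Matrix (Fin 2) (Fin 2) R)ˣ) : Matrix (Fin 2) (Fin 2) R)
  set A := (Matrix.of fun (_ : Fin 1) (j : Fin 2) => ![x, y] j)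
  have h0 : u * (x * (V : Matrix (Fin 2) (Fin 2) R) 0 0 + y * (V : Matrix (Fin 2) (Fin 2) R) 1 0) = f 0 := by
    have := hf 0 0
    simp [Matrix.mul_apply, Fin.sum_univ_succ, A] at this
    linear_combination this
  have hM : ∀ j : Fin 2, ((U : Matrix (Fin 1) (Fin 1) R) * A) 0 j = f 0 * W 0 j := by
    intro j
    have e : (U : Matrix (Fin 1) (Fin 1) R) * A = ((U : Matrix (Fin 1) (Fin 1) R) * A * (V : Matrix (Fin 2) (Fin 2) R)) * W := by
      rw [Matrix.mul_assoc _ (V : Matrix (Fin 2) (Fin 2) R) W, show (V : Matrix (Fin 2) (Fin 2) R) * W = 1 from Units.mul_inv V, Matrix.mul_one]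
    rw [e, Matrix.mul_apply, Fin.sum_univ_succ]
    simp [hf]
  have hxy : ∀ j : Fin 2, f 0 ∣ ![x, y] j := by
    intro j
    have h := hM j
    simp [Matrix.mul_apply, A] at h
    exact hu.dvd_mul_left.1 ⟨W 0 j, h⟩
  refine ⟨f 0, ?_⟩
  rw [← Ideal.span]
  apply le_antisymm
  · rw [Ideal.span_le, Set.insert_subset_iff, Set.singleton_subset_iff]
    exact ⟨Ideal.mem_span_singleton.2 (hxy 0), Ideal.mem_span_singleton.2 (hxy 1)⟩
  · rw [Ideal.span_le, Set.singleton_subset_iff, ← h0]
    exact Ideal.mul_mem_left _ _ (add_mem (Ideal.mul_mem_right _ _ (Ideal.subset_span (by simp)))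
      (Ideal.mul_mem_right _ _ (Ideal.subset_span (by simp))))

end Groth.Agent.S12078
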