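import Groth.Statements.S12080
import Mathlib.RingTheory.LocalProperties.FinitePresentation
import Mathlib.RingTheory.LocalProperties.Submodule
import Mathlib.RingTheory.PicardGroup

set_option autoImplicit false
universe u
open TensorProduct
open CAlg

namespace Groth.Agent.S12080

/-- (1) ⇒ (2): let `M` be a finite locally free `R`-module of rank `1`, i.e. there is a set `s ⊆ R`
generating the unit ideal with `M_f ≅ R_f` as `R_f`-modules for every `f ∈ s`. Then the evaluation
map `Hom_R(M, R) ⊗_R M → R` is bijective, so `M` is invertible with inverse its dual. -/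
theorem result (R : Type u) [CommRing R] (M : Type u) [AddCommGroup M]
    [Module R M] (s : Set R) (hs : Ideal.span s = ⊤)
    (hfree : ∀ f ∈ s, Nonempty (LocalizedModule.Away f M ≃ₗ[Localization.Away f] Localization.Away f)) :
    Module.Invertible R M := by
  classical
  have : Module.FinitePresentation R M := Module.FinitePresentation.of_localizationSpan s hs fun g => by
    obtain ⟨e⟩ := hfree g.1 g.2
    have : Module.Free (Localization.Away g.1) (LocalizedModule.Away g.1 M) := Module.Free.of_equiv e.symm
    have : Module.Finite (Localization.Away g.1) (LocalizedModule.Away g.1 M) := Module.Finite.equiv e.symm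
    exact Module.finitePresentation_of_projective _ _
  have key : ∀ (φ : Module.Dual R M) (x y : M), φ x • y = φ y • x := by
    intro φ x y
    refine Module.eq_of_isLocalized_span s hs (fun g : s => LocalizedModule.Away g.1 M)
      (fun g => LocalizedModule.mkLinearMap _ M) _ _ fun g => ?_
    obtain ⟨e⟩ := hfree g.1 g.2
    let ι := LocalizedModule.mkLinearMap (Submonoid.powers g.1) M
    let u := e.symm 1
    have hu : ∀ z : LocalizedModule.Away g.1 M, z = e z • u := fun z => by
      apply e.injective; simp [u]
    let ψ : LocalizedModule.Away g.1 M →ₗ[Localization.Away g.1] Localization.Away g.1 :=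
      IsLocalizedModule.mapExtendScalars (Submonoid.powers g.1) ι (Algebra.linearMap R (Localization.Away g.1))
        (Localization.Away g.1) φ
    change ι (φ x • y) = ι (φ y • x)
    rw [map_smul, map_smul, ← algebraMap_smul (Localization.Away g.1) (φ x), ← algebraMap_smul (Localization.Away g.1) (φ y)]
    have hc : ∀ z : M, algebraMap R (Localization.Away g.1) (φ z) = ψ u * e (ι z) := fun z => by
      have h2 : ψ (ι z) = algebraMap R (Localization.Away g.1) (φ z) := by
        simp [ψ, IsLocalizedModule.map_apply]
      rw [← h2]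
      conv_lhs => rw [hu (ι z)]
      rw [map_smul, smul_eq_mul, mul_comm]
    rw [hc x, hc y]
    conv_lhs => rw [hu (ι y), smul_smul]
    conv_rhs => rw [hu (ι x), smul_smul]
    ring_nf
  have hsurj : Function.Surjective (contractLeft R M) := by
    let J : Ideal R := LinearMap.range (contractLeft R M)
    rw [← LinearMap.range_eq_top]
    change J = ⊤
    by_contra hne
    obtain ⟨g, hg, disj⟩ := Ideal.exists_disjoint_powers_of_span_eq_top s hs J hne
    obtain ⟨e⟩ := hfree g hg
    obtain ⟨h, t, ht⟩ := Module.FinitePresentation.exists_lift_of_isLocalizedModule (Submonoid.powers g)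
      (Algebra.linearMap R (Localization.Away g)) ((e.restrictScalars R).toLinearMap ∘ₗ LocalizedModule.mkLinearMap (Submonoid.powers g) M)
    obtain ⟨⟨m, w⟩, hm⟩ := IsLocalizedModule.surj (Submonoid.powers g) (LocalizedModule.mkLinearMap (Submonoid.powers g) M) (e.symm 1)
    have h1 := LinearMap.congr_fun ht m
    simp only [LinearMap.comp_apply, LinearMap.smul_apply, LinearEquiv.coe_coe, LinearEquiv.restrictScalars_apply, Algebra.linearMap_apply] at h1
    simp only at hm
    rw [← hm, Submonoid.smul_def, Submonoid.smul_def, ← algebraMap_smul (Localization.Away g) (w : R), map_smul,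
      LinearEquiv.apply_symm_apply, smul_eq_mul, mul_one, Algebra.smul_def, ← map_mul] at h1
    obtain ⟨⟨_, n, rfl⟩, hn⟩ := (IsLocalization.eq_iff_exists (Submonoid.powers g) _).1 h1
    simp only at hn
    obtain ⟨a, ha⟩ := t.2
    obtain ⟨b, hb⟩ := w.2
    have : g ^ (n + a + b) = g ^ n * h m := by
      simp only at ha hb
      rw [hn, ← ha, ← hb]; ring
    have hmem : g ^ (n + a + b) ∈ J := by
      rw [this]
      exact J.mul_mem_left _ ⟨h ⊗ₜ m, by simp⟩
    exact Set.disjoint_left.1 disj hmem ⟨n + a + b, rfl⟩
  refine ⟨⟨?_, hsurj⟩⟩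
  rw [injective_iff_map_eq_zero]
  intro z hz
  obtain ⟨w, hw⟩ := hsurj 1
  obtain ⟨S, rfl⟩ := TensorProduct.exists_finset z
  obtain ⟨T, rfl⟩ := TensorProduct.exists_finset w
  simp only [map_sum, contractLeft_apply] at hz hw
  calc ∑ j ∈ S, j.1 ⊗ₜ[R] j.2 = ∑ j ∈ S, (∑ i ∈ T, i.1 i.2) • (j.1 ⊗ₜ[R] j.2) := by simp [hw]
    _ = ∑ i ∈ T, (∑ j ∈ S, i.1 j.2 • j.1) ⊗ₜ[R] i.2 := by
      simp only [Finset.sum_smul, TensorProduct.sum_tmul]
      rw [Finset.sum_comm]
      refine Finset.sum_congr rfl fun i _ => Finset.sum_congr rfl fun j _ => ?_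
      rw [← TensorProduct.tmul_smul, key i.1 i.2 j.2, TensorProduct.tmul_smul, TensorProduct.smul_tmul']
    _ = 0 := by
      refine Finset.sum_eq_zero fun i _ => ?_
      have : ∑ j ∈ S, i.1 j.2 • j.1 = 0 := by
        ext y
        simp only [LinearMap.sum_apply, LinearMap.smul_apply, smul_eq_mul, LinearMap.zero_apply]
        have : ∀ j ∈ S, i.1 j.2 * j.1 y = i.1 y * j.1 j.2 := fun j _ => by
          have h1 := congrArg j.1 (key i.1 j.2 y)
          simpa using h1
        rw [Finset.sum_congr rfl this, ← Finset.mul_sum, hz, mul_zero]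
      rw [this, TensorProduct.zero_tmul]

end Groth.Agent.S12080
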