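import Groth.Statements.S12081
import Groth.Agent.HenselLib.MilnorGlue

set_option autoImplicit false
universe u
open TensorProduct
open EtAlg

namespace Groth.Agent.S12081

/-- Let `B' = B ×_A A'` be a fibre square of rings with `A' → A` surjective with kernel `I`, let `J =
Ker(B' → B)`, let `D'` be a `B'`-algebra and `C' = D' ⊗_{B'} A'`. Then the ideal `I C'` is, as a
subset of `C'`, the image of the ideal `J D'` under `D' → C'`; that is, the map `J D' → I C'` is
surjective. -/
theorem result (B' B A' A : Type u) [CommRing B'] [CommRing B] [CommRing A'] [CommRing A]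
    [Algebra B' B] [Algebra B' A'] [Algebra B A] [Algebra A' A] [Algebra B' A] [IsScalarTower B' B A] [IsScalarTower B' A' A]
    (hsq : EtMil.IsFibreSquare B' B A' A)
    (D' C' : Type u) [CommRing D'] [CommRing C'] [Algebra B' D'] [Algebra A' C']
    [Algebra D' C'] [Algebra B' C'] [IsScalarTower B' A' C'] [IsScalarTower B' D' C'] [Algebra.IsPushout B' A' D' C'] :
    (algebraMap D' C') '' ((RingHom.ker (algebraMap B' B)).map (algebraMap B' D') : Set D') =
      ((RingHom.ker (algebraMap A' A)).map (algebraMap A' C') : Set C') := by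
  have w := HenselLib.Milnor.isWeakSquare hsq
  have hq : ∀ r : B', algebraMap D' C' (algebraMap B' D' r) = algebraMap A' C' (algebraMap B' A' r) :=
    fun r => by rw [← IsScalarTower.algebraMap_apply, ← IsScalarTower.algebraMap_apply]
  refine Set.Subset.antisymm ?_ fun c hc => ?_
  · rintro _ ⟨d, hd, rfl⟩
    have h := Ideal.mem_map_of_mem (algebraMap D' C') hd
    rw [Ideal.map_map, ← IsScalarTower.algebraMap_eq, IsScalarTower.algebraMap_eq B' A' C',
      ← Ideal.map_map] at h
    refine Ideal.map_mono (Ideal.map_le_iff_le_comap.mpr fun j hj => ?_) h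
    exact HenselLib.Milnor.map_kernels (B := B) j hj
  · set T := (RingHom.ker (algebraMap B' B)).map (algebraMap B' D')
    have key : ∀ i : A', algebraMap A' A i = 0 → ∀ c : C', ∃ d ∈ T,
        algebraMap D' C' d = algebraMap A' C' i * c := by
      intro i hi c
      induction c using (Algebra.IsPushout.out (R := B') (S := A') (R' := D') (S' := C')).inductionOn
        generalizing i with
      | zero => exact ⟨0, zero_mem _, by simp⟩
      | tmul d =>
        obtain ⟨j, hj, rfl⟩ := w.lift i hi
        exact ⟨algebraMap B' D' j * d, Ideal.mul_mem_right _ _ (Ideal.mem_map_of_mem _ hj),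
          by rw [map_mul, hq]; rfl⟩
      | smul a c hc =>
        obtain ⟨d, hd, hd'⟩ := hc (i * a) (by rw [map_mul, hi, zero_mul])
        exact ⟨d, hd, by rw [hd', Algebra.smul_def, map_mul, mul_assoc]⟩
      | add x y hx hy =>
        obtain ⟨a, ha, ha'⟩ := hx i hi
        obtain ⟨b, hb, hb'⟩ := hy i hi
        exact ⟨a + b, add_mem ha hb, by rw [map_add, ha', hb', mul_add]⟩
    have : ∀ y ∈ (RingHom.ker (algebraMap A' A)).map (algebraMap A' C'), ∀ z : C',
        ∃ d ∈ T, algebraMap D' C' d = y * z := by
      intro y hy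
      induction hy using Submodule.span_induction with
      | mem x hx =>
        obtain ⟨i, hi, rfl⟩ := hx
        exact key i hi
      | zero => exact fun z => ⟨0, zero_mem _, by simp⟩
      | add x y _ _ hx hy =>
        intro z
        obtain ⟨a, ha, ha'⟩ := hx z
        obtain ⟨b, hb, hb'⟩ := hy z
        exact ⟨a + b, add_mem ha hb, by rw [map_add, ha', hb', add_mul]⟩
      | smul r x _ hx =>
        intro z
        obtain ⟨d, hd, hd'⟩ := hx (r * z)
        exact ⟨d, hd, by rw [hd', smul_eq_mul]; ring⟩
    obtain ⟨d, hd, hd'⟩ := this c hc 1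
    exact ⟨d, hd, hd'.trans (mul_one c)⟩

end Groth.Agent.S12081
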