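import Groth.Statements.S12082
import Groth.Agent.Synt15.FieldLCI
-- import your own Groth.Agent.* helpers here

set_option autoImplicit false
universe u
open Synt

namespace Groth.Agent.S12082

/-- Let `S = k[x_1, …, x_n]/I` over a field `k`, `q` a prime of `S` with preimage `q'` in the polynomial
ring, `c` the natural number with `c + ht(q) = ht(q')`, and `J` the extension of `I` to the local
ring `R = k[x_1, …, x_n]_{q'}`. Any `c` elements of `J` whose images generate `J / q' J` form a
regular sequence in `R`. -/
theorem result (k : Type u) [Field k] (n : ℕ)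
    (I : Ideal (MvPolynomial (Fin n) k)) (q : Ideal (MvPolynomial (Fin n) k ⧸ I)) [q.IsPrime] (c : ℕ)
    (hc : (c : ℕ∞) + q.height = (q.comap (Ideal.Quotient.mk I)).height)
    (f : Fin c → Localization.AtPrime (q.comap (Ideal.Quotient.mk I)))
    (hf : ∀ i, f i ∈ I.map (algebraMap _ (Localization.AtPrime (q.comap (Ideal.Quotient.mk I)))))
    (hgen : Ideal.span (Set.range f) ⊔
        IsLocalRing.maximalIdeal (Localization.AtPrime (q.comap (Ideal.Quotient.mk I))) *
          I.map (algebraMap _ (Localization.AtPrime (q.comap (Ideal.Quotient.mk I)))) =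
      I.map (algebraMap _ (Localization.AtPrime (q.comap (Ideal.Quotient.mk I))))) :
    RingTheory.Sequence.IsRegular (Localization.AtPrime (q.comap (Ideal.Quotient.mk I))) (List.ofFn f) := by
  set q' := q.comap (Ideal.Quotient.mk I)
  haveI : IsRegularLocalRing (Localization.AtPrime q') := Groth.Agent.Synt15.isRegularLocalRing_atPrime q'
  set J := I.map (algebraMap _ (Localization.AtPrime q'))
  have hspan : Ideal.span (Set.range f) = J := by
    refine le_antisymm (Ideal.span_le.2 (Set.range_subset_iff.2 hf)) ?_
    refine Submodule.le_of_le_smul_of_le_jacobson_bot (IsNoetherian.noetherian J) ?_ hgen.ge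
    exact le_of_eq (IsLocalRing.jacobson_eq_maximalIdeal ⊥ bot_ne_top).symm
  have hJ : J ≤ IsLocalRing.maximalIdeal _ := by
    rw [← Localization.AtPrime.map_eq_maximalIdeal]
    refine Ideal.map_mono fun x hx => ?_
    show Ideal.Quotient.mk I x ∈ q
    rw [Ideal.Quotient.eq_zero_iff_mem.2 hx]
    exact q.zero_mem
  refine Groth.Agent.CAlgH.Avramov.isRegular_of_dim (fun x hx => ?_) ?_
  · obtain ⟨i, rfl⟩ := List.mem_ofFn.1 hx
    exact hJ (hf i)
  · rw [Groth.Agent.Synt15.ofList_ofFn, hspan, List.length_ofFn]
    exact (Groth.Agent.Synt15.localMap_dims I q hc).ge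

end Groth.Agent.S12082
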