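import Groth.Statements.S12089
import Groth.Agent.KSix16.RelTensorComp
import Groth.Agent.S6236

set_option linter.style.haveILetI false
set_option backward.isDefEq.respectTransparency false

set_option autoImplicit false
universe u
open CategoryTheory CategoryTheory.Limits AlgebraicGeometry
attribute [local instance] HasDerivedCategory.standard
open FlatMor

namespace Groth.Agent.S12089

/-- Let `f : X ⟶ Y` and `g : Y ⟶ S` be locally of finite type with `f` pseudo-coherent (`O_X` in degree
`0` is `n`-pseudo-coherent relative to `f` for every `n`), `m` an integer and `E` an object of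
`D(O_Y)` which is `m`-pseudo-coherent relative to `g` (cover-and-chart form). Then, the derived
pullback `Lf^*` being assumed to exist, `Lf^* E` is `m`-pseudo-coherent relative to `f ≫ g`. No
boundedness of `E` is assumed. -/
theorem result {X Y S : Scheme.{u}} (f : X ⟶ Y) (g : Y ⟶ S)
    [LocallyOfFiniteType f] [LocallyOfFiniteType g] (hf : ∀ n : ℤ, DerSch.IsNPseudoCoherent f n) [DCoh.HasLpull f]
    (m : ℤ) (E : DCoh.D Y) (hE : DerSch.IsPseudoCoherentRel g m E) :
    DerSch.IsPseudoCoherentRel (f ≫ g) m ((DCoh.Lpull f).obj E) := by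
  let S := (HomologicalComplex.single X.Modules (ComplexShape.up ℤ) 0).obj (Coh.structureModule X)
  let e : DerivedCategory.Q.obj S ≅ DCoh.inD X (Coh.structureModule X) :=
    ((DerivedCategory.singleFunctorIsoCompQ X.Modules 0).app _).symm
  haveI := Groth.Agent.DCat.LTensorSheaf.hasLTensorCx S
  obtain ⟨t⟩ := Groth.Agent.KSix16.RelTensor.nonempty_tensor_structure S e ((DCoh.Lpull f).obj E)
  refine Groth.Agent.FlatCx12.RelPCFlatBC.rel_iso t ?_
  refine Groth.Agent.KSix16.RelTensor.rel_comp f g 0 m m S ?_ E hE (fun W hW => ?_) (by omega)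
  · haveI : (DCoh.inD X (Coh.structureModule X)).IsLE 0 := inferInstance
    exact DerivedCategory.TStructure.t.isLE_of_iso e.symm 0
  · haveI : CompactSpace (W : Scheme.{u}) := isCompact_iff_compactSpace.1 hW.isCompact
    obtain ⟨b, hb⟩ := Groth.Agent.S6236.result (W.ι ≫ g) m _ (Groth.Agent.FlatCx12.RelPCRestrict.rel_restrict W.ι g m E hE)
    exact ⟨m - b, b, Groth.Agent.FlatCx12.RelPCFlatBC.rel_iso e.symm (hf (m - b)), hb, by omega⟩

end Groth.Agent.S12089
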