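import Groth.Statements.S12090
import Groth.Agent.FlatCx12.ClosedBC
import Groth.Agent.FlatCx12.RelPCFlatBCScheme
import Groth.Agent.FlatBC14.Main
import Groth.Agent.DCat.PullPerf
-- import your own Groth.Agent.* helpers here

set_option autoImplicit false
universe u
open CategoryTheory CategoryTheory.Limits AlgebraicGeometry
attribute [local instance] HasDerivedCategory.standard
open FlatMor

set_option backward.isDefEq.respectTransparency false
set_option backward.defeqAttrib.useBackward true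
set_option linter.all false
attribute [local instance] HasDerivedCategory.standard
attribute [local instance] MvPolynomial.algebraMvPolynomial
open Groth.Agent.DCat Groth.Agent.FlatCx12 Groth.Agent.FlatCx12.RelPC Groth.Agent.FlatCx12.RelPCChart Groth.Agent.FlatCx12.EmbPush

namespace Groth.Agent.S12090

/-- Transport of the chart test along a cartesian square with flat bottom. -/
theorem psc_transport {X X' U U' P P' : Scheme.{u}} (g : X' ⟶ X) [Flat g] [DCoh.HasLpull g]
    (u : U ⟶ X) [IsOpenImmersion u] (u' : U' ⟶ X') [IsOpenImmersion u'] (gU : U' ⟶ U) (w : u' ≫ g = gU ≫ u)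
    (c : U ⟶ P) [IsClosedImmersion c] (c' : U' ⟶ P') [IsClosedImmersion c'] (hA : P' ⟶ P) [Flat hA]
    (hc : IsPullback gU c' c hA)
    [PreservesFiniteColimits (Scheme.Modules.pushforward c)] [PreservesFiniteColimits (Scheme.Modules.pushforward c')]
    (m : ℤ) (E : DCoh.D X) (hE : DCoh.IsPseudoCoherentD m ((pd c).obj ((PerfLocal.rd u).obj E))) :
    DCoh.IsPseudoCoherentD m ((pd c').obj ((PerfLocal.rd u').obj ((DCoh.Lpull g).obj E))) := by
  haveI := DCat.hasLpull hA
  let N := DerivedCategory.Q.objPreimage E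
  let eE : DerivedCategory.Q.obj N ≅ E := DerivedCategory.Q.objObjPreimageIso E
  obtain ⟨η⟩ := ClosedBC.nonempty_pullback_push hc
  let ru := Scheme.Modules.restrictFunctor u
  let ru' := Scheme.Modules.restrictFunctor u'
  let ε : (Scheme.Modules.pullback g ⋙ ru') ⋙ Scheme.Modules.pushforward c' ≅
      (ru ⋙ Scheme.Modules.pushforward c) ⋙ Scheme.Modules.pullback hA :=
    Functor.isoWhiskerRight (Functor.isoWhiskerLeft _ (Scheme.Modules.restrictFunctorIsoPullback u') ≪≫
      Scheme.Modules.pullbackComp u' g ≪≫ Scheme.Modules.pullbackCongr w ≪≫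
      (Scheme.Modules.pullbackComp gU u).symm ≪≫
      Functor.isoWhiskerRight (Scheme.Modules.restrictFunctorIsoPullback u).symm _) _ ≪≫
    Functor.associator _ _ _ ≪≫ Functor.isoWhiskerLeft ru η.symm ≪≫ (Functor.associator _ _ _).symm
  obtain ⟨a⟩ := FlatBC14.nonempty_Lpull_Q g N
  let K := ((ru ⋙ Scheme.Modules.pushforward c).mapHomologicalComplex (ComplexShape.up ℤ)).obj N
  obtain ⟨b⟩ := FlatBC14.nonempty_Lpull_Q hA K
  let i₁ : (pd c).obj ((PerfLocal.rd u).obj E) ≅ DerivedCategory.Q.obj K :=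
    (pd c).mapIso ((PerfLocal.rd u).mapIso eE.symm ≪≫ ru.mapDerivedCategoryFactors.app N) ≪≫
      (Scheme.Modules.pushforward c).mapDerivedCategoryFactors.app _
  refine PCTriangle.psc_iso ?_ (DCat.PullPerf.isPseudoCoherentD_Lpull hA m _ (PCTriangle.psc_iso i₁ hE))
  exact b ≪≫ DerivedCategory.Q.mapIso ((NatIso.mapHomologicalComplex ε (ComplexShape.up ℤ)).app N).symm ≪≫
    ((Scheme.Modules.pushforward c').mapDerivedCategoryFactors.app
      ((ru'.mapHomologicalComplex (ComplexShape.up ℤ)).obj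
        (((Scheme.Modules.pullback g).mapHomologicalComplex (ComplexShape.up ℤ)).obj N))).symm ≪≫
    (pd c').mapIso ((ru'.mapDerivedCategoryFactors.app _).symm ≪≫
      (PerfLocal.rd u').mapIso (a.symm ≪≫ (DCoh.Lpull g).mapIso eE))


/-- For a flat base change: let `f : X ⟶ S` be locally of finite type, `h : S' ⟶ S` flat, `X' = X ×_S
S'` with projections `g : X' ⟶ X` and `f' : X' ⟶ S'`, `m` an integer and `E` in `D(O_X)` that is
`m`-pseudo-coherent relative to `f` (cover-and-chart form). Then, `Lg^*` being assumed to exist,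
`Lg^* E` is `m`-pseudo-coherent relative to `f'`. (The published statement asks only that `X` and
`S'` be tor independent over `S`; flatness of `h` implies it. No boundedness of `E` is assumed.) -/
theorem result {X S S' : Scheme.{u}} (f : X ⟶ S) [LocallyOfFiniteType f]
    (h : S' ⟶ S) [Flat h] [DCoh.HasLpull (pullback.fst f h)] (m : ℤ) (E : DCoh.D X)
    (hE : DerSch.IsPseudoCoherentRel f m E) :
    DerSch.IsPseudoCoherentRel (pullback.snd f h) m ((DCoh.Lpull (pullback.fst f h)).obj E) := by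
  set g := pullback.fst f h
  set f' := pullback.snd f h
  have hc : IsPullback g f' f h := IsPullback.of_hasPullback f h
  haveI : Flat g := MorphismProperty.of_isPullback (P := @Flat) hc.flip inferInstance
  rw [rel_iff] at hE
  refine rel_of_local fun x => ?_
  obtain ⟨U, V, hUV, hxU⟩ := RelPCOps.exists_affine_pair f (g x)
  have hgx : h (f' x) ∈ (V : S.Opens) := by
    rw [← Scheme.Hom.comp_apply, ← hc.w, Scheme.Hom.comp_apply]
    exact hUV hxU
  obtain ⟨V', hV', hxV', hgV⟩ := TopologicalSpace.Opens.isBasis_iff_nbhd.1 S'.isBasis_affineOpens (U := h ⁻¹ᵁ V.1) (x := f' x) hgx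
  let U' := g ⁻¹ᵁ U.1 ⊓ f' ⁻¹ᵁ V'
  have hU' : IsAffineOpen U' := RelPCFlatBC.isAffineOpen_inf hc U.2 V.2 hV' hUV hgV
  refine ⟨⟨U', hU'⟩, ⟨V', hV'⟩, inf_le_right, ⟨hxU, hxV'⟩, ?_⟩
  obtain ⟨n, φ, hφ, hp⟩ := hE U V hUV
  obtain ⟨_, hp⟩ := (chartPC_iff m E U.2 hφ.1).1 hp
  have hle : U' ≤ g ⁻¹ᵁ U.1 := inf_le_left
  have h' : U' ≤ f' ⁻¹ᵁ V' := inf_le_right
  let R := Γ(S, V.1)
  let R' := Γ(S', V')
  let A := Γ(X, U.1)
  let A' := Γ(pullback f h, U')
  letI : Algebra R A := (f.appLE V U hUV).hom.toAlgebra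
  letI : Algebra R R' := (h.appLE V V' hgV).hom.toAlgebra
  letI : Algebra A A' := (g.appLE U U' hle).hom.toAlgebra
  letI : Algebra R' A' := (f'.appLE V' U' h').hom.toAlgebra
  letI : Algebra R A' := ((g.appLE U U' hle).hom.comp (f.appLE V U hUV).hom).toAlgebra
  obtain ⟨_, _, hpo⟩ := RelPCFlatBC.exists_square hc U.2 V.2 hV' hUV hgV rfl hle h'
  haveI := hpo
  let α : MvPolynomial (Fin n) R →ₐ[R] A := { φ with commutes' := fun r => RingHom.congr_fun hφ.2 r }
  let β := RelPCFlatBC.liftPres R R' A A' α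
  have hβ : Function.Surjective β := RelPCFlatBC.liftPres_surjective R R' A A' α hφ.1
  letI : Algebra (MvPolynomial (Fin n) R) A := (α : MvPolynomial (Fin n) R →+* A).toAlgebra
  letI : Algebra (MvPolynomial (Fin n) R') A' := (β : MvPolynomial (Fin n) R' →+* A').toAlgebra
  letI : Algebra (MvPolynomial (Fin n) R) A' := ((algebraMap A A').comp (α : MvPolynomial (Fin n) R →+* A)).toAlgebra
  obtain ⟨_, _, hpo'⟩ := RelPCFlatBC.exists_instances R R' A A' α hφ.1
  haveI := hpo'
  refine ⟨n, β.toRingHom, ⟨hβ, RingHom.ext fun r => β.commutes r⟩, (chartPC_iff m _ hU' hβ).2 ?_⟩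
  haveI := isClosedImmersion_along U.2 hφ.1
  haveI := isClosedImmersion_along (φ := β.toRingHom) hU' hβ
  haveI := preservesFiniteColimits_iso (U'.toSpecΓ ≫ Spec.map (CommRingCat.ofHom β.toRingHom))
  refine ⟨inferInstance, ?_⟩
  let hA := Spec.map (CommRingCat.ofHom (algebraMap (MvPolynomial (Fin n) R) (MvPolynomial (Fin n) R')))
  haveI : Module.Flat R R' := HasRingHomProperty.appLE @Flat h inferInstance V ⟨V', hV'⟩ hgV
  haveI : Flat hA := by
    rw [HasRingHomProperty.Spec_iff (P := @Flat)]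
    haveI : Algebra.IsPushout R (MvPolynomial (Fin n) R) R' (MvPolynomial (Fin n) R') := inferInstance
    exact RingHom.flat_algebraMap_iff.2 (Module.Flat.isBaseChange R (MvPolynomial (Fin n) R) R' (MvPolynomial (Fin n) R')
      (Algebra.IsPushout.out (R := R) (S := MvPolynomial (Fin n) R) (R' := R') (S' := MvPolynomial (Fin n) R')))
  refine psc_transport g U.1.ι U'.ι (g.resLE U U' hle) (Scheme.Hom.resLE_comp_ι g hle).symm _ _ hA ?_ m E hp
  have h1 := isPullback_SpecMap_of_isPushout _ _ _ _ (CommRingCat.isPushout_iff_isPushout.2 hpo'.symm)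
  haveI : IsIso U'.toSpecΓ := hU'.isoSpec_hom ▸ inferInstance
  haveI : IsIso U.1.toSpecΓ := U.2.isoSpec_hom ▸ inferInstance
  exact (IsPullback.of_vert_isIso ⟨(Scheme.Opens.toSpecΓ_SpecMap_appLE g U.1 U' hle).symm⟩).paste_vert h1

end Groth.Agent.S12090
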