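import Groth.Statements.S12091
import Mathlib.RingTheory.Extension.Cotangent.Basic
import Mathlib.Algebra.Module.Projective

set_option autoImplicit false
universe u
set_option backward.isDefEq.respectTransparency false
open TensorProduct MvPolynomial
open FlatMor

namespace Groth.Agent.S12091

/-- Let `x_1, …, x_m` generate the `A`-module `M`, let `K ⊆ A^m` be the module of relations, `C =
Sym_A(M)` and `α : A[y_1, …, y_m] → C` the presentation with `y_j ↦ x_j`, with kernel `J`. Then the
`C`-linear map `C ⊗_A K → J/J²` sending `1 ⊗ k` to the class of `Σ_j k_j y_j` is surjective, and it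
is bijective when `M` is a projective `A`-module (so that then `J/J² ≅ K ⊗_A C` and the naive
cotangent complex of `α` is `K ⊗_A C → ⊕_j C dy_j`). (The published statement asserts `J/J² ≅ K ⊗_A
C` for every `M`. For `A = ℤ`, `M = (ℤ/2)²`, `m = 2` and the two unit vectors, `K = 2ℤ²` and the
element `y_2 ⊗ (2, 0) - y_1 ⊗ (0, 2)` of `C ⊗_A K` is non-zero but maps to the class of `y_2 · 2y_1
- y_1 · 2y_2 = 0`; in degree `2` the graded piece of `J/J²` has `8` elements and that of `K ⊗_A C`
has `16`. The published degree-by-degree computation does show that `J` is generated by the linear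
forms coming from `K`, which is the surjectivity, and it is valid as written when `0 → K → A^m → M →
0` splits, which is the projective case.) -/
theorem result (A : Type u) [CommRing A] (M : Type u)
    [AddCommGroup M] [Module A M] (m : ℕ) (x : Fin m → M)
    (hx : Function.Surjective (Fintype.linearCombination A x))
    (G : Algebra.Generators A (SymmetricAlgebra A M) (Fin m))
    (hG : ∀ j, G.val j = SymmetricAlgebra.ι A M (x j)) :
    ∃ e : SymmetricAlgebra A M ⊗[A] (LinearMap.ker (Fintype.linearCombination A x)) →ₗ[SymmetricAlgebra A M]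
        G.toExtension.Cotangent,
      (∀ (k : LinearMap.ker (Fintype.linearCombination A x))
        (hk : (∑ j, C ((k : Fin m → A) j) * X j : MvPolynomial (Fin m) A) ∈ G.toExtension.ker),
        e (1 ⊗ₜ k) = Algebra.Extension.Cotangent.mk ⟨_, hk⟩) ∧
      Function.Surjective e ∧ (Module.Projective A M → Function.Bijective e) := by
  classical
  let π := Fintype.linearCombination A x
  let K := LinearMap.ker π
  let α : MvPolynomial (Fin m) A →ₐ[A] SymmetricAlgebra A M := aeval G.val
  let L : (Fin m → A) →ₗ[A] MvPolynomial (Fin m) A := Fintype.linearCombination A (fun j => (X j : MvPolynomial (Fin m) A))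
  have hL : ∀ k, L k = ∑ j, C (k j) * X j := fun k => by
    simp [L, Fintype.linearCombination_apply, MvPolynomial.C_mul']
  have hαL : ∀ k, α (L k) = SymmetricAlgebra.ι A M (π k) := fun k => by
    simp [α, L, π, Fintype.linearCombination_apply, map_sum, hG, MvPolynomial.aeval_X]
  let I : Ideal (MvPolynomial (Fin m) A) := Ideal.span (L '' (K : Set (Fin m → A)))
  have hker : G.toExtension.ker = RingHom.ker α := G.ker_eq_ker_aeval_val
  have hkerI : RingHom.ker α ≤ I := by
    let q := Ideal.Quotient.mkₐ A I
    let ψ : M →ₗ[A] (MvPolynomial (Fin m) A) ⧸ I := (K.liftQ (q.toLinearMap ∘ₗ L) (fun k hk =>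
      Ideal.Quotient.eq_zero_iff_mem.2 (Ideal.subset_span ⟨k, hk, rfl⟩))).comp
      (π.quotKerEquivOfSurjective hx).symm.toLinearMap
    have hψ : ∀ k, ψ (π k) = q (L k) := fun k => by
      simp only [ψ, LinearMap.comp_apply]
      erw [show (π.quotKerEquivOfSurjective hx).symm (π k) = Submodule.Quotient.mk k from
        (LinearEquiv.symm_apply_eq _).2 rfl]
      rfl
    have h : (SymmetricAlgebra.lift ψ).comp α = q := MvPolynomial.algHom_ext fun j => by
      have h1 : L (Pi.single j 1) = X j := by simp [L]
      rw [AlgHom.comp_apply, ← h1, hαL, SymmetricAlgebra.lift_ι_apply, hψ]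
    intro p hp
    refine Ideal.Quotient.eq_zero_iff_mem.1 ?_
    show q p = 0
    rw [← h, AlgHom.comp_apply, RingHom.mem_ker.1 hp, map_zero]
  have hmem : ∀ k : K, L k.1 ∈ G.toExtension.ker := fun k => by
    rw [hker, RingHom.mem_ker, hαL, show π k.1 = 0 from k.2, map_zero]
  let e₀ : K →ₗ[A] G.toExtension.Cotangent :=
    ((Algebra.Extension.Cotangent.mk (P := G.toExtension)).restrictScalars A).comp
      ((L.comp K.subtype).codRestrict (G.toExtension.ker.restrictScalars A) hmem)
  let e := e₀.liftBaseChange (SymmetricAlgebra A M)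
  have he : ∀ k, e (1 ⊗ₜ k) = e₀ k := fun k => by simp [e]
  have hsurj : Function.Surjective e := by
    let g : K → G.toExtension.ker := fun k => ⟨L k.1, hmem k⟩
    have hgen : Submodule.span G.toExtension.Ring (Set.range g) = ⊤ := by
      apply Submodule.map_injective_of_injective G.toExtension.ker.subtype_injective
      rw [Submodule.map_span, Submodule.map_top, Submodule.range_subtype, ← Set.range_comp]
      refine le_antisymm (Submodule.span_le.2 (by rintro _ ⟨k, rfl⟩; exact hmem k)) (fun p hp => ?_)
      have hp' : p ∈ I := hkerI (hker ▸ hp)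
      refine Submodule.span_mono ?_ hp'
      rintro _ ⟨k, hk, rfl⟩
      exact ⟨⟨k, hk⟩, rfl⟩
    intro y
    obtain ⟨z, rfl⟩ := Algebra.Extension.Cotangent.mk_surjective y
    have hz : z ∈ Submodule.span G.toExtension.Ring (Set.range g) := hgen ▸ Submodule.mem_top
    show Algebra.Extension.Cotangent.mk z ∈ LinearMap.range e
    induction hz using Submodule.span_induction with
    | mem z hz => obtain ⟨k, rfl⟩ := hz; exact ⟨1 ⊗ₜ k, he k⟩
    | zero => rw [map_zero]; exact zero_mem _
    | add z z' _ _ ih ih' => rw [map_add]; exact add_mem ih ih'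
    | smul c z _ ih =>
      rw [map_smul, ← algebraMap_smul (SymmetricAlgebra A M) c (Algebra.Extension.Cotangent.mk z)]
      exact Submodule.smul_mem _ _ ih
  refine ⟨e, fun k hk => ?_, hsurj, fun hproj => ⟨?_, hsurj⟩⟩
  · rw [he]
    exact congrArg (Algebra.Extension.Cotangent.mk (P := G.toExtension)) (Subtype.ext (hL k.1))
  obtain ⟨σ, hσ⟩ := Module.projective_lifting_property π LinearMap.id hx
  let ρ : (Fin m → A) →ₗ[A] K := (LinearMap.id - σ.comp π).codRestrict K (fun k => by
    show π (k - σ (π k)) = 0
    rw [map_sub, show π (σ (π k)) = π k from LinearMap.congr_fun hσ _, sub_self])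
  let r : G.toExtension.CotangentSpace →ₗ[SymmetricAlgebra A M] SymmetricAlgebra A M ⊗[A] K :=
    G.cotangentSpaceBasis.constr (SymmetricAlgebra A M) (fun j => (1 : SymmetricAlgebra A M) ⊗ₜ[A] ρ (Pi.single j 1))
  refine Function.LeftInverse.injective (g := fun y => r (G.toExtension.cotangentComplex y)) fun z => ?_
  suffices h : (r.comp G.toExtension.cotangentComplex).comp e = LinearMap.id from LinearMap.congr_fun h z
  refine TensorProduct.AlgebraTensorModule.ext fun c k => ?_
  rw [show c ⊗ₜ[A] k = c • ((1 : SymmetricAlgebra A M) ⊗ₜ[A] k) by rw [TensorProduct.smul_tmul', smul_eq_mul, mul_one],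
    map_smul, map_smul]
  congr 1
  show r (G.toExtension.cotangentComplex (e (1 ⊗ₜ k))) = _
  rw [he]
  show r (G.toExtension.cotangentComplex (Algebra.Extension.Cotangent.mk ⟨L k.1, hmem k⟩)) = _
  rw [Algebra.Extension.cotangentComplex_mk, Module.Basis.constr_apply_fintype]
  have hk : ρ k.1 = k := Subtype.ext (by
    show k.1 - σ (π k.1) = k.1
    rw [show π k.1 = 0 from k.2, map_zero, sub_zero])
  calc _ = ∑ j, algebraMap A (SymmetricAlgebra A M) (k.1 j) • ((1 : SymmetricAlgebra A M) ⊗ₜ[A] ρ (Pi.single j 1)) := by
        refine Finset.sum_congr rfl fun j _ => congrArg (fun c => c • _) ?_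
        rw [Module.Basis.equivFun_apply]
        refine (G.cotangentSpaceBasis_repr_one_tmul _ _).trans ?_
        show aeval G.val (pderiv j (L k.1)) = _
        rw [hL]
        simp [MvPolynomial.pderiv_X, Pi.single_apply, mul_ite]
    _ = (1 : SymmetricAlgebra A M) ⊗ₜ[A] ρ k.1 := by
        conv_rhs => rw [pi_eq_sum_univ' k.1]
        simp only [map_sum, map_smul, TensorProduct.tmul_sum, TensorProduct.tmul_smul, algebraMap_smul]
    _ = _ := by rw [hk, LinearMap.id_apply]

end Groth.Agent.S12091
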