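import Groth.Statements.S12094
import Groth.Agent.DCat.TwoTermRep
import Mathlib.RingTheory.Ideal.Operations
import Mathlib.CategoryTheory.Triangulated.TStructure.TruncLTGE

set_option autoImplicit false
set_option backward.isDefEq.respectTransparency false
set_option backward.defeqAttrib.useBackward true
universe u
open CategoryTheory
attribute [local instance] HasDerivedCategory.standard
open DRing

namespace Groth.Agent.S12094

open CategoryTheory CategoryTheory.Limits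

lemma zero_of_smul_singles {R : Type u} [CommRing R] (N M : ModuleCat.{u} R)
    (a : R) (h : ∀ x : M, a • x = 0) :
    a • 𝟙 ((DerivedCategory.singleFunctor (ModuleCat.{u} R) (-1)).obj M) = 0 := by
  have : a • 𝟙 M = 0 := ModuleCat.hom_ext (LinearMap.ext h)
  rw [← CategoryTheory.Functor.map_id, ← CategoryTheory.Functor.map_smul, this, Functor.map_zero]

lemma hd_cast {R : Type u} [CommRing R] {X Y : Dual.D R} (e : X ≅ Y) (n : ℤ) :
    Nonempty (Dual.HD R X n ≃ₗ[R] Dual.HD R Y n) :=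
  ⟨((DerivedCategory.homologyFunctor (ModuleCat.{u} R) n).mapIso e).toLinearEquiv⟩

lemma ext_zero {R : Type u} [CommRing R] {X Y : Dual.D R} (e : X ≅ Y) {Z : Dual.D R} {a : R}
    (h : ∀ ξ : X ⟶ Z, a • ξ = 0) (ξ : Y ⟶ Z) : a • ξ = 0 := by
  rw [← cancel_epi e.hom, Linear.comp_smul, h, comp_zero]

/-- the truncation triangle of a two-term object -/
lemma exists_triangle {R : Type u} [CommRing R] (K : Dual.D R)
    (hK : ∀ i : ℤ, i ≠ -1 → i ≠ 0 → Subsingleton (Dual.HD R K i)) :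
    ∃ (H1 H0 : ModuleCat.{u} R) (i : (DerivedCategory.singleFunctor (ModuleCat.{u} R) (-1)).obj H1 ⟶ K)
      (π : K ⟶ (DerivedCategory.singleFunctor (ModuleCat.{u} R) 0).obj H0)
      (δ : _ ⟶ ((DerivedCategory.singleFunctor (ModuleCat.{u} R) (-1)).obj H1)⟦(1 : ℤ)⟧),
      Pretriangulated.Triangle.mk i π δ ∈ distTriang (Dual.D R) ∧
      Nonempty (Dual.HD R K 0 ≃ₗ[R] H0) ∧ Nonempty (Dual.HD R K (-1) ≃ₗ[R] H1) := by
  let t := (DerivedCategory.TStructure.t : Triangulated.TStructure (Dual.D R))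
  let T := (t.triangleLTGE 0).obj K
  have hT : T ∈ distTriang (Dual.D R) := t.triangleLTGE_distinguished 0 K
  have h1 : T.obj₁.IsLE (-1) := t.isLE_truncLT_obj K 0 (-1) (by omega)
  have h3 : T.obj₃.IsGE 0 := inferInstanceAs (t.IsGE ((t.truncGE 0).obj K) 0)
  have h1' : T.obj₁.IsGE (-1) := (DerivedCategory.isGE_iff T.obj₁ (-1)).2 fun i hi =>
    (DerivedCategory.HomologySequence.exact₁ T hT (i - 1) i (by omega)).isZero_of_both_zeros
      ((DerivedCategory.isZero_of_isGE T.obj₃ 0 (i - 1) (by omega)).eq_of_src _ _)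
      ((@ModuleCat.isZero_of_subsingleton R _ _ (hK i (by omega) (by omega))).eq_of_tgt _ _)
  have h3' : T.obj₃.IsLE 0 := (DerivedCategory.isLE_iff T.obj₃ 0).2 fun i hi =>
    (DerivedCategory.HomologySequence.exact₃ T hT i (i + 1)).isZero_of_both_zeros
      ((@ModuleCat.isZero_of_subsingleton R _ _ (hK i (by omega) (by omega))).eq_of_src _ _)
      ((DerivedCategory.isZero_of_isLE T.obj₁ (-1) (i + 1) (by omega)).eq_of_tgt _ _)
  obtain ⟨H1, ⟨u1⟩⟩ := DerivedCategory.exists_iso_singleFunctor_obj_of_isGE_of_isLE T.obj₁ (-1)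
  obtain ⟨H0, ⟨u0⟩⟩ := DerivedCategory.exists_iso_singleFunctor_obj_of_isGE_of_isLE T.obj₃ 0
  let H := fun n : ℤ => DerivedCategory.homologyFunctor (ModuleCat.{u} R) n
  have i1 : IsIso ((H (-1)).map T.mor₁) := by
    have : Mono ((H (-1)).map T.mor₁) :=
      (DerivedCategory.HomologySequence.mono_homologyMap_mor₁_iff T hT (-2) (-1)).2
        ((DerivedCategory.isZero_of_isGE T.obj₃ 0 (-2) (by omega)).eq_of_src _ _)
    have : Epi ((H (-1)).map T.mor₁) :=
      (DerivedCategory.HomologySequence.epi_homologyMap_mor₁_iff T hT (-1)).2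
        ((DerivedCategory.isZero_of_isGE T.obj₃ 0 (-1) (by omega)).eq_of_tgt _ _)
    exact isIso_of_mono_of_epi _
  have i0 : IsIso ((H 0).map T.mor₂) := by
    have : Mono ((H 0).map T.mor₂) :=
      (DerivedCategory.HomologySequence.mono_homologyMap_mor₂_iff T hT 0).2
        ((DerivedCategory.isZero_of_isLE T.obj₁ (-1) 0 (by omega)).eq_of_src _ _)
    have : Epi ((H 0).map T.mor₂) :=
      (DerivedCategory.HomologySequence.epi_homologyMap_mor₂_iff T hT 0 1).2
        ((DerivedCategory.isZero_of_isLE T.obj₁ (-1) 1 (by omega)).eq_of_tgt _ _)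
    exact isIso_of_mono_of_epi _
  refine ⟨H1, H0, u1.inv ≫ T.mor₁, T.mor₂ ≫ u0.hom, u0.inv ≫ T.mor₃ ≫ u1.hom⟦(1 : ℤ)⟧', ?_, ?_, ?_⟩
  · refine Pretriangulated.isomorphic_distinguished _ hT _ ?_
    refine Pretriangulated.Triangle.isoMk _ _ u1.symm (Iso.refl _) u0.symm ?_ ?_ ?_
    · simp
    · simp
    · simp [← Functor.map_comp]
  · exact ⟨((@asIso _ _ _ _ ((H 0).map T.mor₂) i0) ≪≫ (H 0).mapIso u0 ≪≫
      (DerivedCategory.singleFunctorCompHomologyFunctorIso (ModuleCat.{u} R) 0).app H0).toLinearEquiv⟩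
  · exact ⟨((@asIso _ _ _ _ ((H (-1)).map T.mor₁) i1).symm ≪≫ (H (-1)).mapIso u1 ≪≫
      (DerivedCategory.singleFunctorCompHomologyFunctorIso (ModuleCat.{u} R) (-1)).app H1).toLinearEquiv⟩

/-- (1) ⇔ (2): let `I ⊆ R` be an ideal and `K ∈ D(R)` with `H^i(K) = 0` for `i ∉ {-1, 0}`. Then some
power `I^c` annihilates `Ext¹_R(K, N) = Hom_{D(R)}(K, N[1])` for every `R`-module `N` if and only
if, for some `c`, (a) `I^c` annihilates `H^{-1}(K)` and (b) `H^0(K)` is `I^c`-projective, i.e. `I^c`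
annihilates `Ext¹_R(H^0(K), N)` for every `R`-module `N`. -/
theorem result {R : Type u} [CommRing R] (I : Ideal R) (K : Dual.D R)
    (hK : ∀ i : ℤ, i ≠ -1 → i ≠ 0 → Subsingleton (Dual.HD R K i)) :
    (∃ c : ℕ, ∀ (N : Type u) [AddCommGroup N] [Module R N] (a : R), a ∈ I ^ c →
        ∀ ξ : K ⟶ (Dual.inD R N)⟦(1 : ℤ)⟧, a • ξ = 0) ↔
      ∃ c : ℕ, (∀ a : R, a ∈ I ^ c → ∀ x : Dual.HD R K (-1), a • x = 0) ∧
        ∀ (N : Type u) [AddCommGroup N] [Module R N] (a : R), a ∈ I ^ c →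
          ∀ ξ : Dual.inD R (Dual.HD R K 0) ⟶ (Dual.inD R N)⟦(1 : ℤ)⟧, a • ξ = 0 := by
  obtain ⟨H1, H0, i, π, δ, hT, ⟨e0⟩, ⟨e1⟩⟩ := exists_triangle K hK
  let S := DerivedCategory.singleFunctor (ModuleCat.{u} R) 0
  let u0 : Dual.inD R (Dual.HD R K 0) ≅ S.obj H0 :=
    S.mapIso (LinearEquiv.toModuleIso e0 : ModuleCat.of R (Dual.HD R K 0) ≅ H0)
  constructor
  · rintro ⟨c, hc⟩
    refine ⟨c, fun a ha x => ?_, fun N _ _ a ha => ext_zero u0.symm fun ξ => ?_⟩
    · obtain ⟨E, hE, hP, ⟨e⟩⟩ := DCat.TwoTerm.exists_projective_rep K hK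
      obtain ⟨ξ, hξ⟩ := DCat.TwoTerm.exists_ext_of E hE (𝟙 (E.X (-1)))
      obtain ⟨h, hh⟩ := (hξ a).1 (ext_zero e.symm (hc (E.X (-1)) a ha) ξ)
      let S' := E.sc' (-2) (-1) 0
      let f1 : Dual.HD R K (-1) ≃ₗ[R] LinearMap.ker S'.g.hom ⧸ LinearMap.range S'.moduleCatToCycles :=
        ((DerivedCategory.homologyFunctor (ModuleCat.{u} R) (-1)).mapIso e.symm ≪≫
          (DerivedCategory.homologyFunctorFactors _ (-1)).app E ≪≫
          E.homologyIsoSc' (-2) (-1) 0 (by simp) (by simp) ≪≫ S'.moduleCatHomologyIso).toLinearEquiv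
      apply f1.injective
      rw [map_smul, map_zero]
      obtain ⟨z, hz⟩ := Submodule.Quotient.mk_surjective _ (f1 x)
      rw [← hz, ← Submodule.Quotient.mk_smul, show a • z = 0 from Subtype.ext ?_, Submodule.Quotient.mk_zero]
      have e2 : ∀ w : E.X (-1), (E.d (-1) 0) w = 0 → a • w = 0 := fun w hw =>
        (ConcreteCategory.congr_hom hh w).trans ((congrArg h hw).trans (map_zero _))
      exact e2 z.1 z.2
    · obtain ⟨θ, hθ⟩ := Pretriangulated.Triangle.yoneda_exact₃ _ hT (a • ξ) (by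
        show π ≫ (a • ξ) = 0
        rw [Linear.comp_smul]
        exact hc N a ha _)
      have : (((DerivedCategory.singleFunctor (ModuleCat.{u} R) (-1)).obj H1)⟦(1 : ℤ)⟧).IsLE (-2) :=
        DerivedCategory.TStructure.t.isLE_shift _ (-1) 1 (-2) (by omega)
      have : ((Dual.inD R N)⟦(1 : ℤ)⟧).IsGE (-1) :=
        DerivedCategory.TStructure.t.isGE_shift _ 0 1 (-1) (by omega)
      have hθ0 : θ = 0 := DerivedCategory.TStructure.t.zero
        (show ((DerivedCategory.singleFunctor (ModuleCat.{u} R) (-1)).obj H1)⟦(1 : ℤ)⟧ ⟶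
          (Dual.inD R N)⟦(1 : ℤ)⟧ from θ) (-2) (-1) (by omega)
      rw [hθ, hθ0, comp_zero]
  · rintro ⟨c, hc1, hc0⟩
    refine ⟨c + c, fun N _ _ a ha ξ => ?_⟩
    rw [pow_add] at ha
    induction ha using Submodule.mul_induction_on' with
    | mem_mul_mem x hx y hy =>
      have h1 : x • (i ≫ ξ) = 0 := by
        rw [← Category.id_comp (i ≫ ξ), ← Linear.smul_comp, zero_of_smul_singles H0 H1 x (fun z => by
          apply e1.symm.injective
          rw [map_smul, map_zero, hc1 x hx]), zero_comp]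
      obtain ⟨η, hη⟩ := Pretriangulated.Triangle.yoneda_exact₂ _ hT (x • ξ) (by
        show i ≫ (x • ξ) = 0
        rw [Linear.comp_smul, h1])
      have h2 : y • η = 0 := ext_zero u0 (hc0 N y hy) η
      rw [mul_comm, mul_smul, hη, ← Linear.comp_smul, h2, comp_zero]
    | add x _ y _ hx hy => rw [add_smul, hx, hy, add_zero]


end Groth.Agent.S12094
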