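import Groth.Statements.S12095
import Mathlib
-- import your own Groth.Agent.* helpers here

set_option autoImplicit false
universe u
open CAlg

namespace Groth.Agent.S12095

section
open Polynomial PolynomialModule DirectSum
variable {R R' : Type u} [CommRing R] [CommRing R'] [Algebra R R'] {S : Type u} [CommRing S] [Algebra R S]
  (𝒜 : ℕ → Submodule R S) [GradedAlgebra 𝒜] {f : S} (hf : f ∈ 𝒜 1)
  (e : HomogeneousLocalization.Away 𝒜 f ≃+* R')

/-- value of a homogeneous element after dehomogenisation -/
noncomputable def val1 (d : ℕ) : 𝒜 d →+ R' :=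
  AddMonoidHom.mk' (fun a => e (HomogeneousLocalization.Away.mk 𝒜 hf d a (by simp))) fun a b => by
    rw [← map_add e]
    congr 1
    apply HomogeneousLocalization.val_injective
    simp [HomogeneousLocalization.Away.val_mk, Localization.add_mk_self]

theorem val1_one : val1 𝒜 hf e 0 (GradedMonoid.GOne.one (A := fun i => 𝒜 i)) = 1 := by
  show e _ = 1
  rw [← map_one e]
  congr 1
  apply HomogeneousLocalization.val_injective
  rw [HomogeneousLocalization.Away.val_mk, HomogeneousLocalization.val_one]
  simp only [pow_zero]
  exact Localization.mk_self (⟨1, _⟩ : Submonoid.powers f)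

theorem val1_mul {i j : ℕ} (a : 𝒜 i) (b : 𝒜 j) :
    val1 𝒜 hf e (i + j) (GradedMonoid.GMul.mul (A := fun i => 𝒜 i) a b) = val1 𝒜 hf e i a * val1 𝒜 hf e j b := by
  show e _ = e _ * e _
  rw [← map_mul e]
  congr 1
  apply HomogeneousLocalization.val_injective
  simp only [HomogeneousLocalization.Away.val_mk, HomogeneousLocalization.val_mul, Localization.mk_mul]
  congr 1
  exact Subtype.ext (pow_add f i j)

/-- dehomogenisation with a grading variable -/
noncomputable def theta : S →+* R'[X] :=
  (DirectSum.toSemiring (fun d => (Polynomial.monomial d).toAddMonoidHom.comp (val1 𝒜 hf e d))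
    (by show Polynomial.monomial 0 (val1 𝒜 hf e 0 (GradedMonoid.GOne.one (A := fun i => 𝒜 i))) = 1; rw [val1_one]; simp)
    (fun {i j} a b => by
      show Polynomial.monomial (i + j) (val1 𝒜 hf e (i + j) (GradedMonoid.GMul.mul (A := fun i => 𝒜 i) a b)) =
        Polynomial.monomial i _ * Polynomial.monomial j _
      rw [val1_mul, Polynomial.monomial_mul_monomial])).comp (DirectSum.decomposeRingEquiv 𝒜).toRingHom

theorem theta_apply {d : ℕ} {a : S} (ha : a ∈ 𝒜 d) :
    theta 𝒜 hf e a = Polynomial.monomial d (val1 𝒜 hf e d ⟨a, ha⟩) := by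
  rw [theta, RingHom.comp_apply, RingEquiv.toRingHom_eq_coe, RingHom.coe_coe]
  show (DirectSum.toSemiring (fun d => (Polynomial.monomial d).toAddMonoidHom.comp (val1 𝒜 hf e d)) _ _)
    (DirectSum.decompose 𝒜 a) = _
  rw [DirectSum.decompose_of_mem 𝒜 ha, DirectSum.toSemiring_of]
  rfl

theorem theta_f : theta 𝒜 hf e f = Polynomial.X := by
  rw [theta_apply 𝒜 hf e hf, ← Polynomial.monomial_one_one_eq_X]
  congr 1
  show e _ = 1
  rw [← map_one e]
  congr 1
  apply HomogeneousLocalization.val_injective
  rw [HomogeneousLocalization.Away.val_mk, HomogeneousLocalization.val_one]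
  simp only [pow_one]
  exact Localization.mk_self (⟨f, _⟩ : Submonoid.powers f)

theorem theta_algebraMap (he : ∀ r : R, (e.symm (algebraMap R R' r)).val =
    algebraMap S (Localization.Away f) (algebraMap R S r)) (r : R) :
    theta 𝒜 hf e (algebraMap R S r) = Polynomial.C (algebraMap R R' r) := by
  rw [theta_apply 𝒜 hf e (SetLike.algebraMap_mem_graded 𝒜 r), Polynomial.monomial_zero_left]
  congr 1
  show e _ = _
  rw [← e.apply_symm_apply (algebraMap R R' r)]
  congr 1
  apply HomogeneousLocalization.val_injective
  rw [HomogeneousLocalization.Away.val_mk, he, ← Localization.mk_one_eq_algebraMap]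
  congr 1
  exact Subtype.ext (pow_zero f)

end

/-- Let `R'` be an `R`-algebra of finite type, `M` a finite `R'`-module, and `S` an `ℕ`-graded
`R`-algebra with `f ∈ S_1` and a ring isomorphism `e : S_(f) ≅ R'` compatible with the maps from
`R`. Then there is a finite graded `S`-module `N` whose degree-zero localization `N_(f)` (the
elements `n / f^k` of `N_f` with `n` homogeneous of degree `k`) is identified with `M`: an
`R`-linear bijection `e' : N_(f) → M` with `e'(a · x) = e(a) · e'(x)` for all `a ∈ S_(f)`. (The
published lemma produces `S`, `f` and `N` together from `R'` and `M`; here `N` is produced for any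
such `S`, `f`, `e`, which the same construction gives.) -/
theorem result (R R' : Type u) [CommRing R] [CommRing R']
    [Algebra R R'] [Algebra.FiniteType R R']
    (M : Type u) [AddCommGroup M] [Module R' M] [Module R M] [IsScalarTower R R' M] [Module.Finite R' M]
    (S : Type u) [CommRing S] [Algebra R S] (𝒜 : ℕ → Submodule R S) [GradedAlgebra 𝒜] (f : S) (hf : f ∈ 𝒜 1)
    (e : HomogeneousLocalization.Away 𝒜 f ≃+* R')
    (he : ∀ r : R, (e.symm (algebraMap R R' r)).val = algebraMap S (Localization.Away f) (algebraMap R S r)) :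
    ∃ (N : Type u) (_ : AddCommGroup N) (_ : Module S N) (_ : Module R N) (_ : IsScalarTower R S N)
      (ℳ : ℕ → Submodule R N) (_ : DirectSum.Decomposition ℳ) (_ : SetLike.GradedSMul 𝒜 ℳ)
      (Nf : Submodule R (LocalizedModule (Submonoid.powers f) N)) (e' : ↥Nf ≃ₗ[R] M),
      Module.Finite S N ∧
      (∀ x, x ∈ Nf ↔ ∃ k : ℕ, ∃ n ∈ ℳ k, f ^ k • x = LocalizedModule.mk n 1) ∧
      (∀ (a : HomogeneousLocalization.Away 𝒜 f) (x y : ↥Nf),
        a.val • (x : LocalizedModule (Submonoid.powers f) N) = y → e' y = e a • e' x) := by
  classical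
  obtain ⟨G, hG⟩ := Module.Finite.fg_top (R := R') (M := M)
  let θ := theta 𝒜 hf e
  letI instSW : Module S (PolynomialModule R' M) := Module.compHom _ θ
  have hsmul : ∀ (s : S) (w : PolynomialModule R' M), s • w = θ s • w := fun _ _ => rfl
  have hsingle : ∀ {i : ℕ} {a : S} (ha : a ∈ 𝒜 i) (j : ℕ) (m : M),
      a • PolynomialModule.single R' j m = PolynomialModule.single R' (i + j) (val1 𝒜 hf e i ⟨a, ha⟩ • m) :=
    fun ha j m => by rw [hsmul, theta_apply 𝒜 hf e ha, PolynomialModule.monomial_smul_single]
  haveI : IsScalarTower R S (PolynomialModule R' M) := ⟨fun r s w => by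
    rw [hsmul, hsmul, Algebra.smul_def, map_mul, show θ (algebraMap R S r) = Polynomial.C (algebraMap R R' r) from
      theta_algebraMap 𝒜 hf e he r, mul_smul, ← IsScalarTower.algebraMap_smul R' r (θ s • w),
      ← Polynomial.algebraMap_eq, algebraMap_smul]⟩
  let gens : Set (PolynomialModule R' M) := (PolynomialModule.single R' 0) '' (G : Set M)
  let N : Submodule S (PolynomialModule R' M) := Submodule.span S gens
  have hcl : ∀ w ∈ N, ∀ d, PolynomialModule.single R' d (w.coeff d) ∈ N := by
    intro w hw
    induction hw using Submodule.span_induction with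
    | mem w hw =>
      obtain ⟨m, hm, rfl⟩ := hw
      intro d
      rcases eq_or_ne d 0 with rfl | hd
      · simpa using (Submodule.subset_span ⟨m, hm, rfl⟩ : PolynomialModule.single R' 0 m ∈ N)
      · simp [Finsupp.single_eq_of_ne hd]
    | zero => intro d; simp
    | add x y _ _ hx hy => intro d; simpa using add_mem (hx d) (hy d)
    | smul s x _ hx =>
      intro d
      rw [← DirectSum.sum_support_decompose 𝒜 s, Finset.sum_smul, PolynomialModule.coeff_sum,
        Finset.sum_apply', show ∀ m : M, PolynomialModule.single R' d m = PolynomialModule.lsingle R' d m from fun _ => rfl,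
        map_sum]
      refine sum_mem fun i _ => ?_
      rw [hsmul, theta_apply 𝒜 hf e (DirectSum.decompose 𝒜 s i).2, PolynomialModule.monomial_smul_apply]
      split_ifs with hid
      · have h1 := N.smul_mem ((DirectSum.decompose 𝒜 s i : S)) (hx (d - i))
        rwa [hsingle (DirectSum.decompose 𝒜 s i).2, Nat.add_sub_cancel' hid] at h1
      · simp
  let ℳ : ℕ → Submodule R N := fun d =>
    { carrier := {w | (w : PolynomialModule R' M) = PolynomialModule.single R' d ((w : PolynomialModule R' M).coeff d)}
      zero_mem' := by simp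
      add_mem' := fun {a b} ha hb => by
        simp only [Set.mem_setOf_eq, Submodule.coe_add] at *
        conv_lhs => rw [ha, hb]
        simp
      smul_mem' := fun r a ha => by
        simp only [Set.mem_setOf_eq, Submodule.coe_smul_of_tower] at *
        conv_lhs => rw [ha]
        rw [← algebraMap_smul R' r, ← PolynomialModule.single_smul, algebraMap_smul]
        rfl }
  have hmk : ∀ {d : ℕ} {m : M} (h : PolynomialModule.single R' d m ∈ N),
      (⟨PolynomialModule.single R' d m, h⟩ : N) ∈ ℳ d := fun h => by
    show PolynomialModule.single R' _ _ = _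
    simp
  have hint : DirectSum.IsInternal ℳ := by
    constructor
    · intro x y hxy
      refine DFinsupp.ext fun d => Subtype.ext (Subtype.ext ?_)
      have hc : ∀ z : DirectSum ℕ (fun d => ℳ d), ((DirectSum.coeAddMonoidHom ℳ z : N) : PolynomialModule R' M).coeff d =
          ((z d : N) : PolynomialModule R' M).coeff d := fun z => by
        induction z using DirectSum.induction_on with
        | zero => simp
        | of i w =>
          rw [DirectSum.coeAddMonoidHom_of]
          rcases eq_or_ne i d with rfl | hid
          · rw [DirectSum.of_eq_same]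
          · rw [DirectSum.of_eq_of_ne _ _ _ hid.symm, show ((w : N) : PolynomialModule R' M) = _ from w.2]
            simp [Finsupp.single_eq_of_ne hid.symm]
        | add a b ha hb => simp [ha, hb]
      rw [show ((x d : N) : PolynomialModule R' M) = _ from (x d).2,
        show ((y d : N) : PolynomialModule R' M) = _ from (y d).2, ← hc, ← hc, hxy]
    · intro w
      refine ⟨∑ d ∈ (w : PolynomialModule R' M).coeff.support, DirectSum.of (fun d => ℳ d) d ⟨⟨_, hcl _ w.2 d⟩, hmk _⟩, ?_⟩
      apply Subtype.ext
      simp only [map_sum, DirectSum.coeAddMonoidHom_of, AddSubmonoidClass.coe_finsetSum]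
      apply PolynomialModule.ext
      simp only [PolynomialModule.coeff_sum, PolynomialModule.coeff_single]
      exact Finsupp.sum_single _
  haveI : Module.Finite S N := Module.Finite.span_of_finite S (G.finite_toSet.image _)
  haveI hgr : SetLike.GradedSMul 𝒜 ℳ := ⟨fun {i j a w} ha hw => by
    show a • (w : PolynomialModule R' M) = PolynomialModule.single R' (i + j) ((a • (w : PolynomialModule R' M)).coeff (i + j))
    rw [show (w : PolynomialModule R' M) = _ from hw, hsingle ha]
    simp⟩
  let Nf : Submodule R (LocalizedModule (Submonoid.powers f) N) :=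
    { carrier := {x | ∃ k : ℕ, ∃ n ∈ ℳ k, f ^ k • x = LocalizedModule.mk n 1}
      zero_mem' := ⟨0, 0, zero_mem _, by simp⟩
      add_mem' := by
        rintro x y ⟨k, n, hn, hx⟩ ⟨l, n', hn', hy⟩
        have hfl := SetLike.pow_mem_graded (A := 𝒜) l hf
        have hfk := SetLike.pow_mem_graded (A := 𝒜) k hf
        simp only [smul_eq_mul, mul_one] at hfl hfk
        refine ⟨k + l, f ^ l • n + f ^ k • n', add_mem (by simpa [add_comm] using hgr.smul_mem hfl hn)
          (hgr.smul_mem hfk hn'), ?_⟩
        rw [← LocalizedModule.mkLinearMap_apply, map_add, map_smul, map_smul, LocalizedModule.mkLinearMap_apply,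
          LocalizedModule.mkLinearMap_apply, ← hx, ← hy, smul_add, smul_smul, smul_smul, ← pow_add, ← pow_add,
          add_comm l k]
      smul_mem' := by
        rintro r x ⟨k, n, hn, hx⟩
        refine ⟨k, r • n, Submodule.smul_mem _ r hn, ?_⟩
        rw [smul_comm, hx, LocalizedModule.smul'_mk] }
  let ev : N → M := fun n => PolynomialModule.eval (1 : R') (n : PolynomialModule R' M)
  have hev_add : ∀ a b, ev (a + b) = ev a + ev b := fun a b => map_add (PolynomialModule.eval (1 : R')) _ _
  have hev_smul : ∀ (s : S) (a : N), ev (s • a) = (θ s).eval 1 • ev a := fun s a =>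
    PolynomialModule.eval_smul (θ s) _ _
  have hev_f : ∀ (k : ℕ) (a : N), ev (f ^ k • a) = ev a := fun k a => by
    rw [hev_smul, map_pow, show θ f = Polynomial.X from theta_f 𝒜 hf e]
    simp
  have hwd : ∀ {x : LocalizedModule (Submonoid.powers f) N} {k l : ℕ} {n n' : N},
      f ^ k • x = LocalizedModule.mk n 1 → f ^ l • x = LocalizedModule.mk n' 1 → ev n = ev n' := by
    intro x k l n n' h h'
    have : (LocalizedModule.mk (f ^ l • n) 1 : LocalizedModule (Submonoid.powers f) N) = LocalizedModule.mk (f ^ k • n') 1 := by
      rw [← LocalizedModule.smul'_mk, ← LocalizedModule.smul'_mk, ← h, ← h', smul_comm]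
    obtain ⟨⟨_, j, rfl⟩, hu⟩ := LocalizedModule.mk_eq.1 this
    have := congrArg ev hu
    simpa [Submonoid.smul_def, hev_f] using this
  choose kk nn hnn hxx using fun x : Nf => x.2
  let e0 : Nf →ₗ[R] M :=
    { toFun := fun x => ev (nn x)
      map_add' := fun x y => by
        rw [hwd (hxx (x + y)) (k := kk (x + y)) (l := kk x + kk y) (n' := f ^ kk y • nn x + f ^ kk x • nn y),
          hev_add, hev_f, hev_f]
        rw [← LocalizedModule.mkLinearMap_apply, map_add, map_smul, map_smul, LocalizedModule.mkLinearMap_apply,
          LocalizedModule.mkLinearMap_apply, ← hxx, ← hxx, Submodule.coe_add, smul_add, smul_smul, smul_smul,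
          ← pow_add, ← pow_add, add_comm (kk y) (kk x)]
      map_smul' := fun r x => by
        rw [hwd (hxx (r • x)) (k := kk (r • x)) (l := kk x) (n' := r • nn x), RingHom.id_apply,
          ← IsScalarTower.algebraMap_smul S r (nn x), hev_smul,
          show θ (algebraMap R S r) = _ from theta_algebraMap 𝒜 hf e he r, Polynomial.eval_C, algebraMap_smul]
        rw [Submodule.coe_smul, smul_comm, hxx, LocalizedModule.smul'_mk] }
  have he0 : Function.Bijective e0 := by
    constructor
    · intro x y hxy
      change ev (nn x) = ev (nn y) at hxy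
      have hfl := SetLike.pow_mem_graded (A := 𝒜) (kk y) hf
      have hfk := SetLike.pow_mem_graded (A := 𝒜) (kk x) hf
      simp only [smul_eq_mul, mul_one] at hfl hfk
      have h1 : f ^ kk y • nn x ∈ ℳ (kk x + kk y) := by simpa [add_comm] using hgr.smul_mem hfl (hnn x)
      have h2 : f ^ kk x • nn y ∈ ℳ (kk x + kk y) := hgr.smul_mem hfk (hnn y)
      have he12 : ev (f ^ kk y • nn x) = ev (f ^ kk x • nn y) := by rw [hev_f, hev_f, hxy]
      rw [show ev (f ^ kk y • nn x) = _ from congrArg (PolynomialModule.eval (1 : R')) h1,
        show ev (f ^ kk x • nn y) = _ from congrArg (PolynomialModule.eval (1 : R')) h2,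
        PolynomialModule.eval_single, PolynomialModule.eval_single, one_pow, one_smul, one_smul] at he12
      have hn : f ^ kk y • nn x = f ^ kk x • nn y := Subtype.ext (h1.trans ((congrArg _ he12).trans h2.symm))
      have hz : f ^ (kk x + kk y) • (x : LocalizedModule (Submonoid.powers f) N) =
          f ^ (kk x + kk y) • (y : LocalizedModule (Submonoid.powers f) N) := by
        rw [show f ^ (kk x + kk y) = f ^ kk y * f ^ kk x by rw [← pow_add, add_comm], mul_smul, hxx]
        rw [show f ^ kk y * f ^ kk x = f ^ kk x * f ^ kk y from mul_comm _ _, mul_smul, hxx,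
          LocalizedModule.smul'_mk, LocalizedModule.smul'_mk, hn]
      have hu := IsLocalizedModule.map_units (LocalizedModule.mkLinearMap (Submonoid.powers f) N)
        (⟨f ^ (kk x + kk y), _, rfl⟩ : Submonoid.powers f)
      exact Subtype.ext (((Module.End.isUnit_iff _).1 hu).injective hz)
    · intro m
      have hm : ∀ m : M, ∃ k : ℕ, ∃ h : PolynomialModule.single R' k m ∈ N, True := by
        intro m
        have : m ∈ Submodule.span R' (G : Set M) := hG ▸ Submodule.mem_top
        induction this using Submodule.span_induction with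
        | mem m hm => exact ⟨0, Submodule.subset_span ⟨m, hm, rfl⟩, trivial⟩
        | zero => exact ⟨0, by simp, trivial⟩
        | add a b _ _ ha hb =>
          obtain ⟨k, hk, -⟩ := ha
          obtain ⟨l, hl, -⟩ := hb
          refine ⟨k + l, ?_, trivial⟩
          have hX : ∀ (j i : ℕ) (y : M), f ^ j • PolynomialModule.single R' i y = PolynomialModule.single R' (j + i) y := fun j i y => by
            rw [hsmul, map_pow, show θ f = Polynomial.X from theta_f 𝒜 hf e, Polynomial.X_pow_eq_monomial,
              PolynomialModule.monomial_smul_single, one_smul]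
          have := add_mem (N.smul_mem (f ^ l) hk) (N.smul_mem (f ^ k) hl)
          rw [hX, hX, add_comm l k, ← PolynomialModule.single_add] at this
          exact this
        | smul r a _ ha =>
          obtain ⟨k, hk, -⟩ := ha
          obtain ⟨i, s, hs, hsr⟩ := HomogeneousLocalization.Away.mk_surjective 𝒜 hf (e.symm r)
          refine ⟨i + k, ?_, trivial⟩
          have hs' : s ∈ 𝒜 i := by simpa using hs
          have := N.smul_mem s hk
          rw [hsingle hs'] at this
          have hv : val1 𝒜 hf e i ⟨s, hs'⟩ = r := by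
            show e _ = r
            rw [← e.apply_symm_apply r, ← hsr]
          rwa [hv] at this
      obtain ⟨k, h, -⟩ := hm m
      have hunit := IsLocalizedModule.map_units (LocalizedModule.mkLinearMap (Submonoid.powers f) N) (⟨f ^ k, k, rfl⟩ : Submonoid.powers f)
      obtain ⟨x, hx⟩ := ((Module.End.isUnit_iff _).1 hunit).surjective
        (LocalizedModule.mk (⟨_, h⟩ : N) 1)
      have hx' : f ^ k • x = LocalizedModule.mk (⟨_, h⟩ : N) 1 := hx
      refine ⟨⟨x, k, _, hmk h, hx'⟩, ?_⟩
      show ev _ = m
      rw [hwd (hxx ⟨x, k, _, hmk h, hx'⟩) hx']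
      simp [ev]
  refine ⟨N, inferInstance, inferInstance, inferInstance, inferInstance, ℳ, hint.chooseDecomposition, hgr, Nf,
    LinearEquiv.ofBijective e0 he0, inferInstance, fun x => Iff.rfl, fun a x y hxy => ?_⟩
  obtain ⟨i, s, hs, rfl⟩ := HomogeneousLocalization.Away.mk_surjective 𝒜 hf a
  have hs' : s ∈ 𝒜 i := by simpa using hs
  show ev (nn y) = _ • ev (nn x)
  have h1 : f ^ (i + kk x) • (y : LocalizedModule (Submonoid.powers f) N) = LocalizedModule.mk (s • nn x) 1 := by
    rw [← hxy, HomogeneousLocalization.Away.val_mk, ← LocalizedModule.smul'_mk, ← hxx x, smul_smul]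
    rw [← algebraMap_smul (Localization.Away f) (f ^ (i + kk x)), ← algebraMap_smul (Localization.Away f) (s * f ^ kk x),
      smul_smul]
    congr 1
    rw [← Localization.mk_one_eq_algebraMap, ← Localization.mk_one_eq_algebraMap, Localization.mk_mul,
      Localization.mk_eq_mk_iff, Localization.r_iff_exists]
    exact ⟨1, by simp [pow_add]; ring⟩
  rw [hwd (hxx y) h1, hev_smul, show θ s = _ from theta_apply 𝒜 hf e hs']
  congr 1
  simp
  rfl

end Groth.Agent.S12095
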