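import Groth.Statements.S12100
import Groth.Agent.PCohLib.Trunc

open Groth.Agent.PCohLib CategoryTheory CategoryTheory.Limits

set_option autoImplicit false
universe w v u
open CategoryTheory CategoryTheory.Limits
open PCoh

set_option backward.isDefEq.respectTransparency false

namespace Groth.Agent.S12100

/-- Let C be an abelian category and C₀ a strictly full additive subcategory, quasi-stable under kernels
of epimorphisms and quasi-liftable; let n, i be integers, E a strictly n-pseudo-coherent cochain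
complex, F an n-pseudo-coherent cochain complex (isomorphic in D(C) to a strictly n-pseudo-coherent
one) and u : E ⟶ F an i-quasi-isomorphism (an isomorphism on H^j for j > i, an epimorphism on H^i).
Then u = v ≫ u' with u' : E' ⟶ F a quasi-isomorphism, E' strictly n-pseudo-coherent, and v : E ⟶ E'
a monomorphism in each degree which is an isomorphism in every degree ≥ i. (The source obtains v
equal to the identity in degrees ≥ i; stated here up to isomorphism in those degrees.) -/
theorem result {C : Type u} [Category.{v} C] [Abelian C] [HasDerivedCategory.{w} C]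
    (P : ObjectProperty C) [P.IsClosedUnderIsomorphisms] [P.ContainsZero] (hsum : ∀ X Y : C, P X → P Y → P (X ⨯ Y))
    (hqs : PCoh.IsQuasiStableUnderKernels P) (hql : PCoh.IsQuasiLiftable P)
    (n i : ℤ) (E F : CochainComplex C ℤ) (hE : PCoh.IsStrictPC P n E)
    (hF : ∃ F₀ : CochainComplex C ℤ, PCoh.IsStrictPC P n F₀ ∧ Nonempty (DerivedCategory.Q.obj F₀ ≅ DerivedCategory.Q.obj F))
    (u : E ⟶ F) (hiso : ∀ j : ℤ, i < j → IsIso (HomologicalComplex.homologyMap u j))
    (hepi : Epi (HomologicalComplex.homologyMap u i)) :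
    ∃ (E' : CochainComplex C ℤ) (v : E ⟶ E') (u' : E' ⟶ F), v ≫ u' = u ∧ PCoh.IsStrictPC P n E' ∧ QuasiIso u' ∧
      (∀ j : ℤ, Mono (v.f j)) ∧ (∀ j : ℤ, i ≤ j → IsIso (v.f j)) := by
  obtain ⟨E₁, v₁, u₁, h₁, hE₁, hq, hm, hi⟩ : ∃ (E' : CochainComplex C ℤ) (v : E ⟶ E') (u' : E' ⟶ F),
      v ≫ u' = u ∧ PCoh.IsStrictPC P n E' ∧ QuasiIso u' ∧ (∀ j, Mono (v.f j)) ∧
        (∀ j : ℤ, i ≤ j → IsIso (v.f j)) := by
    rcases le_or_gt i n with hin | hin
    · obtain ⟨E', v, u', h, hq, hm, hi⟩ := exists_completion u i ⟨hiso, hepi⟩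
      refine ⟨E', v, u', h, ⟨bounded_of_iso_ge v i hi hE.1, fun j hj => ?_⟩, hq, hm, hi⟩
      haveI := hi j (by omega)
      exact P.prop_of_iso (asIso (v.f j)) (hE.2 j hj)
    · refine exists_resolution hsum hql n i hin.le (fun j G f hj _ hG hf => ?_) hE u ⟨hiso, hepi⟩
      exact FT_iso ((DerivedCategory.homologyFunctorFactors C j).app _)
        (FT_H_of_gpc hqs (gpc_cone hsum hqs hql (cone_distinguished f)
          (gpc_mono (by omega) ⟨G, hG, ⟨Iso.refl _⟩⟩) (gpc_mono hj hF))
          fun k hk => (isZero_H_iff _ k).2 ((nQis_iff_cone f (j + 1)).1 hf k (by omega)))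
  exact ⟨E₁, v₁, u₁, h₁, hE₁, hq, hm, hi⟩

end Groth.Agent.S12100
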