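import Groth.Prelude.Def_CohCx
import Groth.Prelude.Def_SpSeq
import Groth.Agent.SpecSeq.HomSS
import Groth.Agent.SiteCoh.SieveCohomology
import Groth.Agent.SiteCoh.ExtAcyclic
import Groth.Agent.SiteCoh.FreePullback

set_option autoImplicit false
universe u
open CategoryTheory
open CohSite

namespace Groth.Agent.S12105

open CategoryTheory.Limits Groth.Agent in
/-- Sheafification of a free presheaf only depends on the sheafified presheaf of sets. -/
noncomputable def freeIso {C : Type u} [SmallCategory C] (J : GrothendieckTopology C)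
    (R : Cᵒᵖ ⥤ Type u) :
    (SiteCoh.SieveCoh.fromBot J).obj
        ((presheafToSheaf (⊥ : GrothendieckTopology C) AddCommGrpCat.{u}).obj (R ⋙ AddCommGrpCat.free.{u})) ≅
      (presheafToSheaf J AddCommGrpCat.{u}).obj
        (((presheafToSheaf J (Type u)).obj R).obj ⋙ AddCommGrpCat.free.{u}) :=
  (presheafToSheaf J AddCommGrpCat.{u}).mapIso
      ((sheafToPresheaf _ _).mapIso
        (CategoryTheory.sheafificationIso (J := (⊥ : GrothendieckTopology C)) ⟨_, Presheaf.isSheaf_bot _⟩)).symm ≪≫
    ((Adjunction.leftAdjointUniq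
      ((AddCommGrpCat.adj.whiskerRight Cᵒᵖ).comp (sheafificationAdjunction J AddCommGrpCat.{u}))
      (((sheafificationAdjunction J (Type u)).comp (SiteCoh.freeShAdj J)).ofNatIsoRight (Iso.refl _))).app R)


open CategoryTheory.Limits in
/-- On a small site (C, J), for a presheaf of sets R on C and an abelian sheaf M there is a bounded E_2
spectral sequence of abelian groups with E_2^{p,q} isomorphic to H^p(R, H^q(M)) — the cohomology, in
the topos of presheaves (sheaves for the trivial topology), of the presheaf V ↦ H^q(V, M) with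
respect to R, i.e. the p-th Ext out of the free abelian presheaf on R — for p, q ≥ 0 and zero
otherwise, with abutment data whose filtrations are finite on H^n(aR, M), the cohomology of M with
respect to the sheaf of sets associated to R (n ≥ 0; zero for n < 0). The E_2 identifications and
abutment isomorphisms are asserted to exist only, not pinned to the canonical maps, so edge maps and
functoriality in R and M are not part of this statement. -/
theorem result {C : Type u} [SmallCategory C]
    (J : GrothendieckTopology C) (R : Cᵒᵖ ⥤ Type u) (M : Sheaf J AddCommGrpCat.{u}) :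
    ∃ (E : E₂CohomologicalSpectralSequence AddCommGrpCat.{u})
      (a : SpSeq.Abutment E (fun n : ℤ =>
        if 0 ≤ n then AddCommGrpCat.of (CohCx.HK ((presheafToSheaf J (Type u)).obj R) M n.toNat)
        else AddCommGrpCat.of PUnit.{u + 1})),
      (∀ n, a.IsFinite n) ∧ SpSeq.IsBounded E ∧
      ∀ p q : ℤ, Nonempty ((E.page 2 le_rfl).X (p, q) ≅
        (if 0 ≤ p ∧ 0 ≤ q then
          AddCommGrpCat.of (CohCx.HK (J := (⊥ : GrothendieckTopology C)) ⟨R, Presheaf.isSheaf_bot _⟩
            ⟨M.cohomologyPresheaf q.toNat, Presheaf.isSheaf_bot _⟩ p.toNat)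
         else AddCommGrpCat.of PUnit.{u + 1})) := by
  have := Groth.Agent.SiteCoh.SieveCoh.toBot_preservesInjectiveObjects J
  refine Groth.Agent.SpecSeq.exists_composite (Groth.Agent.SiteCoh.SieveCoh.toBot J)
    (Groth.Agent.SpecSeq.homFrom
      ((presheafToSheaf (⊥ : GrothendieckTopology C) AddCommGrpCat.{u}).obj (R ⋙ AddCommGrpCat.free.{u})))
    (fun Q hQ q hq => ?_) M (fun n => ?_) (fun n hn => ?_) (fun p q => ?_) (fun p q h => ?_)
  · have := (Groth.Agent.SiteCoh.SieveCoh.toBot J).injective_obj_of_injective hQ
    exact Groth.Agent.SpecSeq.isZero_rightDerived_injective _ _ hq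
  · exact Groth.Agent.SpecSeq.nonempty_iso_if (by omega)
      ((Groth.Agent.SiteCoh.rightDerivedCongr (Groth.Agent.SpecSeq.homFromCompIso
        (Groth.Agent.SiteCoh.SieveCoh.botAdj J) _) n).app M ≪≫ Groth.Agent.SpecSeq.homFromDerivedIso _ M n ≪≫
        (Groth.Agent.SiteCoh.extAddEquivOfIso (freeIso J R).symm M n).toAddCommGrpIso)
  · exact Groth.Agent.SpecSeq.isZero_if (by omega) (AddCommGrpCat.isZero_of_subsingleton _)
  · exact Groth.Agent.SpecSeq.nonempty_iso_if ⟨by omega, by omega⟩
      (Groth.Agent.SpecSeq.homFromDerivedIso _ _ p ≪≫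
        ((CategoryTheory.Abelian.extFunctorObj _ p).mapIso
          ((Groth.Agent.SiteCoh.rpushIso J ⊥ (𝟭 C) q).app M ≪≫
            (CategoryTheory.sheafificationIso (J := (⊥ : GrothendieckTopology C))
              ⟨M.cohomologyPresheaf q, Presheaf.isSheaf_bot _⟩).symm)))
  · exact Groth.Agent.SpecSeq.isZero_if h (AddCommGrpCat.isZero_of_subsingleton _)

end Groth.Agent.S12105
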