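import Groth.Prelude.Def_SGA4a
import Mathlib.CategoryTheory.Limits.Shapes.Pullback.IsPullback.Basic
import Groth.Agent.SGA4Open16.Closed
import Groth.Agent.SGA4Open16.Gluing

set_option autoImplicit false
universe u
namespace CategoryTheory
end CategoryTheory
open CategoryTheory
namespace SGA4
end SGA4
open SGA4

namespace Groth.Agent.S12107

open CategoryTheory.Limits in
/-- In the topos of sheaves of sets on a small site, let U be an open (a subobject of the final object)
and, for an object X, let X_CU be the pushout of U ← U × X → X along the two projections. For a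
morphism m : X ⟶ X' let k : X_CU ⟶ X'_CU be the induced morphism (compatible with the maps from U
and with m). Then the square with sides m, k and the canonical maps X ⟶ X_CU, X' ⟶ X'_CU is
cartesian if and only if id_U × m : U × X ⟶ U × X' is an isomorphism (that is, m restricts to an
isomorphism over U). -/
theorem result {C : Type u} [SmallCategory C] (J : GrothendieckTopology C)
    (U : Sheaf J (Type u)) (hU : SGA4.IsOpen U) {X X' : Sheaf J (Type u)} (m : X ⟶ X')
    (k : pushout (prod.fst : U ⨯ X ⟶ U) (prod.snd : U ⨯ X ⟶ X) ⟶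
      pushout (prod.fst : U ⨯ X' ⟶ U) (prod.snd : U ⨯ X' ⟶ X'))
    (hk₁ : pushout.inl (prod.fst : U ⨯ X ⟶ U) (prod.snd : U ⨯ X ⟶ X) ≫ k =
      pushout.inl (prod.fst : U ⨯ X' ⟶ U) (prod.snd : U ⨯ X' ⟶ X'))
    (hk₂ : pushout.inr (prod.fst : U ⨯ X ⟶ U) (prod.snd : U ⨯ X ⟶ X) ≫ k =
      m ≫ pushout.inr (prod.fst : U ⨯ X' ⟶ U) (prod.snd : U ⨯ X' ⟶ X')) :
    IsPullback m (pushout.inr (prod.fst : U ⨯ X ⟶ U) (prod.snd : U ⨯ X ⟶ X))
        (pushout.inr (prod.fst : U ⨯ X' ⟶ U) (prod.snd : U ⨯ X' ⟶ X')) k ↔
      IsIso (prod.map (𝟙 U) m) := by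
  classical
  let L := SGA4Open16.closedL U hU
  let adj := SGA4Open16.closedAdj U hU
  let a := (SGA4.closedCompl U).ι
  haveI : PreservesLimitsOfShape WalkingCospan (Over.star U) :=
    (Over.forgetAdjStar U).rightAdjoint_preservesLimits.preservesLimitsOfShape
  have key := SGA4Open16.isPullback_unit_iff (q := Over.star U) adj
    (fun Z => ⟨SGA4Open16.isTerminalStar U Z⟩)
    (fun n h₁ h₂ => SGA4Open16.jointly_conservative U hU adj n h₂ h₁) m
  rw [← SGA4Open16.isIso_star_map_iff, ← key]
  have sX := SGA4Open16.isPushout_closed U hU X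
  have sX' := SGA4Open16.isPushout_closed U hU X'
  have eX : adj.unit.app X ≫ sX.isoPushout.hom = pushout.inr _ _ := by
    rw [SGA4Open16.closedAdj_unit]; exact sX.inr_isoPushout_hom
  have eX' : adj.unit.app X' ≫ sX'.isoPushout.hom = pushout.inr _ _ := by
    rw [SGA4Open16.closedAdj_unit]; exact sX'.inr_isoPushout_hom
  have ek : sX.isoPushout.hom ≫ k = a.map (L.map m) ≫ sX'.isoPushout.hom := by
    refine sX.hom_ext ?_ ?_
    · rw [sX.inl_isoPushout_hom_assoc, hk₁]
      have : SGA4Open16.closedPoint U hU X ≫ a.map (L.map m) = SGA4Open16.closedPoint U hU X' := by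
        refine ObjectProperty.hom_ext _ (NatTrans.ext (funext fun c => ?_))
        ext p
        have h := ((SGA4Open16.closedCompl_iff U hU _).1 (L.obj X').property c ⟨p⟩).2
        exact h.allEq _ _
      rw [reassoc_of% this, sX'.inl_isoPushout_hom]
    · rw [sX.inr_isoPushout_hom_assoc, hk₂, ← eX', ← Category.assoc, ← Category.assoc]
      congr 1
      have := adj.unit.naturality m
      rw [SGA4Open16.closedAdj_unit, SGA4Open16.closedAdj_unit] at this
      rw [SGA4Open16.closedAdj_unit]
      exact this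
  constructor
  · intro h
    exact h.of_iso (Iso.refl _) (Iso.refl _) sX.isoPushout.symm sX'.isoPushout.symm
      (by simp) (by simp [← eX]) (by simp [← eX'])
      (by rw [Iso.symm_hom, Iso.symm_hom, Iso.comp_inv_eq, Category.assoc, ← ek, Iso.inv_hom_id_assoc])
  · intro h
    exact h.of_iso (Iso.refl _) (Iso.refl _) sX.isoPushout sX'.isoPushout
      (by simp) (by simp [← eX]) (by simp [← eX']) (by exact ek.symm)

end Groth.Agent.S12107
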