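import Mathlib.CategoryTheory.Sites.Sheafification
import Mathlib.CategoryTheory.Sites.Limits
import Mathlib.CategoryTheory.Sites.LeftExact
import Mathlib.CategoryTheory.Limits.Shapes.Diagonal
import Groth.Agent.SGA416.Coprod

set_option autoImplicit false
namespace CategoryTheory
end CategoryTheory
namespace CategoryTheory.Limits
end CategoryTheory.Limits
open CategoryTheory CategoryTheory.Limits
universe u
namespace SGA4
end SGA4
open SGA4

namespace Groth.Agent.S12108

/-- Let `(C, J)` be a small site, `X` an object and `s i : Y i ⟶ X` a family of morphisms indexed by a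
small type. The following are equivalent: (i) the family is covering, for every `i` the diagonal of
presheaves `h_{Y i} ⟶ h_{Y i} ×_{h_X} h_{Y i}` becomes an isomorphism under the associated-sheaf
functor, and for all `i ≠ j` the sheaf associated to the presheaf `h_{Y i} ×_{h_X} h_{Y j}` is an
initial object; (ii) the associated sheaf of `X`, with the maps induced by the `s i`, is a coproduct
of the associated sheaves of the `Y i` in sheaves of sets. -/
theorem result
    {C : Type u} [SmallCategory C] (J : GrothendieckTopology C) {X : C} {ι : Type u}
    (Y : ι → C) (s : ∀ i, Y i ⟶ X) :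
    (Sieve.ofArrows Y s ∈ J X ∧
      (∀ i, IsIso ((presheafToSheaf J (Type u)).map (pullback.diagonal (yoneda.map (s i))))) ∧
      (∀ i j, i ≠ j → Nonempty (IsInitial ((presheafToSheaf J (Type u)).obj
        (pullback (yoneda.map (s i)) (yoneda.map (s j))))))) ↔
    Nonempty (IsColimit (Cofan.mk ((presheafToSheaf J (Type u)).obj (yoneda.obj X))
      (fun i => (presheafToSheaf J (Type u)).map (yoneda.map (s i))))) := by
  rw [Groth.Agent.SGA416.isColimit_shCofan_iff J Y s]
  exact ⟨fun h G => Groth.Agent.SGA416.bijective_of_conditions J Y s h.1 h.2.1 h.2.2 G,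
    fun h => ⟨Groth.Agent.SGA416.mem_of_bijective J Y s h,
      Groth.Agent.SGA416.isIso_diagonal J Y s h,
      fun i j hij => Groth.Agent.SGA416.isInitial_pullback J Y s h hij⟩⟩

end Groth.Agent.S12108
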