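import Groth.Statements.S12112
import Groth.Agent.PicTau27.Gen
import Groth.Agent.CAlgH3.PSheafH1
import Groth.Agent.FlatCx12.EmbPush
import Groth.Agent.Mumford23.H1
-- import your own Groth.Agent.* helpers here

set_option autoImplicit false
set_option linter.style.haveILetI false
set_option backward.isDefEq.respectTransparency.types false
universe u
open CategoryTheory CategoryTheory.Limits AlgebraicGeometry
open Pic13

namespace Groth.Agent.S12112

open CategoryTheory CategoryTheory.Limits MonObj AlgebraicGeometry in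
open Groth.Agent Groth.Agent.AmpleLib in
/-- Let k be an algebraically closed field, i : X ⟶ P^n_k a closed k-immersion, O_X(1) = i^*O(1), and F,
G coherent O_X-modules with a short exact sequence 0 → F(-1) → F → G → 0 and G m-regular. Then (i)
H^q(X, F(n')) = 0 for q ≥ 2 and n' ≥ m - q; (ii) h^1(F(n' - 1)) ≥ h^1(F(n')) for n' ≥ m - 1, h^1
being the dimension over k; (iii) H^1(X, F(n')) = 0 for n' ≥ (m - 1) + h^1(F(m - 1)); in particular
F is (m + h^1(F(m - 1)))-regular. (The published statement takes F(-1) → F given by a section of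
O_X(1); the printed argument uses only the short exact sequence and its twists, so any short exact
sequence of this shape is allowed here.) -/
theorem result (k : Type u) [Field k] [IsAlgClosed k] (n : ℕ) (X : Scheme.{u})
    [X.Over (Spec (CommRingCat.of k))] (i : X ⟶ CohB1.ProjSpace n k) [IsClosedImmersion i]
    (hi : i ≫ CohB1.ProjSpace.toSpec n k = X ↘ Spec (CommRingCat.of k))
    (F G : X.Modules) (hF : Coh.IsCoh F) (hG : Coh.IsCoh G)
    (f : Pic13.twistOn k i F (-1) ⟶ F) (g : F ⟶ G) (hfg : f ≫ g = 0) (hS : (ShortComplex.mk f g hfg).ShortExact)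
    (m : ℤ) (hGm : Pic13.IsMRegular k i G m) :
    (∀ (q : ℕ) (n' : ℤ), 2 ≤ q → m - q ≤ n' → Subsingleton (Coh.HH X (Pic13.twistOn k i F n') q)) ∧
    (∀ n' : ℤ, m - 1 ≤ n' →
      Module.finrank k (Coh.HH X (Pic13.twistOn k i F n') 1) ≤ Module.finrank k (Coh.HH X (Pic13.twistOn k i F (n' - 1)) 1)) ∧
    (∀ n' : ℤ, (m - 1) + (Module.finrank k (Coh.HH X (Pic13.twistOn k i F (m - 1)) 1) : ℤ) ≤ n' →
      Subsingleton (Coh.HH X (Pic13.twistOn k i F n') 1)) ∧
    Pic13.IsMRegular k i F (m + Module.finrank k (Coh.HH X (Pic13.twistOn k i F (m - 1)) 1)) := by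
  haveI : PreservesFiniteColimits (Scheme.Modules.pushforward i) :=
    Groth.Agent.FlatCx12.EmbPush.preservesFiniteColimits_emb i i.isClosedEmbedding
  haveI : PreservesFiniteLimits (Scheme.Modules.pushforward i) :=
    haveI := (Scheme.Modules.pullbackPushforwardAdjunction i).rightAdjoint_preservesLimits
      (G := Scheme.Modules.pushforward i)
    inferInstance
  haveI : (Scheme.Modules.pushforward i).PreservesHomology := inferInstance
  have hS' := hS.map_of_exact (Scheme.Modules.pushforward i)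
  haveI : Mono ((Scheme.Modules.pushforward i).map f) := hS'.mono_f
  let P := (Scheme.Modules.pushforward i).obj F
  have hP : Coh.IsCoh P := Groth.Agent.Coherent.isCoh_push_finite i hF
  let jm : CohB1.tensorMod P (Twist.twistProjSpace n k (-1)) ⟶ P :=
    (Groth.Agent.PicTau27.pushTwistIso k i F (-1)).hom ≫ (Scheme.Modules.pushforward i).map f
  haveI : Mono jm := mono_comp _ _
  let c : cokernel jm ≅ (Scheme.Modules.pushforward i).obj G :=
    cokernelEpiComp (Groth.Agent.PicTau27.pushTwistIso k i F (-1)).hom ((Scheme.Modules.pushforward i).map f) ≪≫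
      (cokernelIsCokernel _).coconePointUniqueUpToIso hS'.gIsCokernel
  have hreg : Curv2.IsMRegular k n (cokernel jm) m := fun q hq _ =>
    CurveRR24.subsingleton_HH_congr (tensorIso c (Iso.refl _)).symm q
      ((Groth.Agent.PicTau27.subsingleton_push_iff k i hG (m - q) q).2 (hGm q hq))
  have hW : ∀ (q : ℕ) (j : ℤ), Subsingleton (Coh.HH X (Pic13.twistOn k i F j) q) ↔
      Groth.Agent.CAlgH3.PSheafSeq.W P j q :=
    fun q j => (Groth.Agent.PicTau27.subsingleton_push_iff k i hF j q).symm
  have hh : ∀ j : ℤ, Module.finrank k (Coh.HH X (Pic13.twistOn k i F j) 1) =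
      Groth.Agent.CAlgH3.PSheafH1.h1 k n P j := fun j => by
    haveI := (Groth.Agent.PicTau27.isCoh_twistOn k i hF j).1
    haveI : IsProper (CohB1.ProjSpace n k ↘ Spec (CommRingCat.of k)) := Coherent.isProper_projSpace_toSpec n k
    haveI : (CohB1.ProjSpace n k).IsSeparated := Groth.Agent.EulerLib.isSeparated_of_proper (X := CohB1.ProjSpace n k) k
    rw [(SerreDual.hpush i k hi (Pic13.twistOn k i F j) 1).finrank_eq]
    exact (Groth.Agent.Mumford23.finrank_HH_congr k (Groth.Agent.PicTau27.pushTwistIso k i F j).symm 1).trans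
      (Groth.Agent.CAlgH3.PSheafH1.finrank_HH_eq k _ 1)
  have h1 : ∀ (q : ℕ) (j : ℤ), 2 ≤ q → m - q ≤ j → Subsingleton (Coh.HH X (Pic13.twistOn k i F j) q) :=
    fun q j hq hj => (hW q j).2 (Groth.Agent.CAlgH3.PSheafH1.W_two hP jm hreg q hq j hj)
  have h3 : ∀ j : ℤ, (m - 1) + (Module.finrank k (Coh.HH X (Pic13.twistOn k i F (m - 1)) 1) : ℤ) ≤ j →
      Subsingleton (Coh.HH X (Pic13.twistOn k i F j) 1) := fun j hj =>
    (hW 1 j).2 (Groth.Agent.CAlgH3.PSheafH1.W_one hP jm hreg j (by rw [← hh]; exact hj))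
  refine ⟨h1, fun j hj => ?_, h3, fun q hq => ?_⟩
  · rw [hh, hh]
    exact Groth.Agent.CAlgH3.PSheafH1.h1_le hP jm hreg hj
  · rcases (by omega : q = 1 ∨ 2 ≤ q) with rfl | hq'
    · exact h3 _ (by push_cast; omega)
    · exact h1 q _ hq' (by omega)

end Groth.Agent.S12112
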