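import Groth.Statements.S12113
import Groth.Agent.Et18.GroupExt
import Mathlib.Tactic.Group
-- import your own Groth.Agent.* helpers here

set_option autoImplicit false
universe u
open CategoryTheory CategoryTheory.Limits MonoidalCategory CartesianMonoidalCategory MonObj AlgebraicGeometry
open SGA7

namespace Groth.Agent.S12113

/-- Group schemes, fppf site: over a base scheme S, let P and G be S-group schemes with G commutative,
and let u : G → E, v : E → P and u' : G → E', v' : E' → P be homomorphisms forming sequences 1 → G →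
E → P → 1 and 1 → G → E' → P → 1 exact for the fppf topology. Suppose every morphism of S-schemes P
×_S P → G trivial on P × e_P and on e_P × P is trivial. Let f : E → E' be a morphism of S-schemes
over P (f ≫ v' = v) and under G (u ≫ f = u'), preserving the unit section, and compatible with left
and right translations by G: for all points g of G and x of E with values in any S-scheme, f(u(g) x)
= u'(g) f(x) and f(x u(g)) = f(x) u'(g). Then f is a homomorphism of S-group schemes: such
extensions have no non-multiplicative morphisms of their underlying rigidified bitorsors. (The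
published statement is for sheaves of groups on an arbitrary topos and phrased as full faithfulness
of the functor from extensions to rigidified bitorsors; this row is the case of representable
sheaves on the fppf site of S, with G commutative so that the defect of multiplicativity descends to
P ×_S P as in the printed argument. Morphisms to a group scheme form a group; trivial means equal to
its unit.) -/
theorem result (S : Scheme.{u})
    (P G E E' : Over S) [GrpObj P] [GrpObj G] [GrpObj E] [GrpObj E'] [IsCommMonObj G]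
    (u : G ⟶ E) (v : E ⟶ P) (hex : NonAbH1.IsExactSeq Scheme.fppfPrecoverage u v)
    (u' : G ⟶ E') (v' : E' ⟶ P) (hex' : NonAbH1.IsExactSeq Scheme.fppfPrecoverage u' v')
    (hPP : ∀ c : P ⊗ P ⟶ G, lift (𝟙 P) (toUnit P ≫ η[P]) ≫ c = 1 → lift (toUnit P ≫ η[P]) (𝟙 P) ≫ c = 1 → c = 1)
    (f : E ⟶ E') (hv : f ≫ v' = v) (hu : u ≫ f = u') (h1 : η[E] ≫ f = η[E'])
    (hl : ∀ (T : Over S) (g : T ⟶ G) (x : T ⟶ E), ((g ≫ u) * x) ≫ f = (g ≫ u') * (x ≫ f))
    (hr : ∀ (T : Over S) (g : T ⟶ G) (x : T ⟶ E), (x * (g ≫ u)) ≫ f = (x ≫ f) * (g ≫ u')) :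
    IsMonHom f := by
  haveI := hex'.1
  let dfc : E ⊗ E ⟶ E' := ((fst E E ≫ f) * (snd E E ≫ f))⁻¹ * ((fst E E * snd E E) ≫ f)
  have hv' := fun {T : Over S} (x : T ⟶ E) => show (x ≫ f) ≫ v' = x ≫ v by rw [Category.assoc, hv]
  have hdfc : dfc ≫ v' = 1 := by
    simp only [dfc, Et18.GroupExt.mul_comp_v hex', Et18.GroupExt.inv_comp_v hex', hv',
      Et18.GroupExt.mul_comp_v hex, inv_mul_cancel]
  obtain ⟨c, hc⟩ := Et18.GroupExt.exists_kernel hex' hdfc
  have hcT : ∀ (T : Over S) (l : T ⟶ E ⊗ E), (l ≫ c) ≫ u' =
      (((l ≫ fst E E) ≫ f) * ((l ≫ snd E E) ≫ f))⁻¹ * (((l ≫ fst E E) * (l ≫ snd E E)) ≫ f) := by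
    intro T l
    rw [Category.assoc, hc]
    simp only [dfc, MonObj.comp_mul, GrpObj.comp_inv, Category.assoc]
    rw [← Category.assoc (f := l) (g := fst E E * snd E E), MonObj.comp_mul]
  have hv1 := Et18.GroupExt.covers_of_isExactSeq hex
  obtain ⟨d, hd⟩ := (hv1.tensor hv1).exists_desc c (fun T a b hab => by
    have hf := congrArg (· ≫ fst P P) hab
    have hs := congrArg (· ≫ snd P P) hab
    simp only [Category.assoc, tensorHom_fst, tensorHom_snd] at hf hs
    rw [← Category.assoc, ← Category.assoc] at hf hs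
    obtain ⟨k, hk⟩ := Et18.GroupExt.exists_translate hex hf
    obtain ⟨l, hl2⟩ := Et18.GroupExt.exists_translate hex hs
    apply Et18.GroupExt.kernel_unique hex'
    have e0 := hcT T a
    rw [hcT T b, hk, hl2]
    set x := a ≫ fst E E with hx
    set y := a ≫ snd E E with hy
    obtain ⟨n, hn⟩ := Et18.GroupExt.exists_conj hex k y
    -- conjugation is compatible with `f`
    have hfn : (k ≫ u') * (y ≫ f) = (y ≫ f) * (n ≫ u') := by rw [← hl, ← hr, hn]
    have ec : ∀ g : T ⟶ G, (g ≫ u') * ((a ≫ c) ≫ u') = ((a ≫ c) ≫ u') * (g ≫ u') := fun g => by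
      rw [← Et18.GroupExt.mul_comp_u hex', ← Et18.GroupExt.mul_comp_u hex', mul_comm]
    have e1 : x * (k ≫ u) * (y * (l ≫ u)) = (x * y) * ((n * l) ≫ u) := by
      rw [Et18.GroupExt.mul_comp_u hex, _root_.mul_assoc x, ← _root_.mul_assoc (k ≫ u), hn]
      group
    have e2 : (x * (k ≫ u)) ≫ f * (y * (l ≫ u)) ≫ f = (x ≫ f * y ≫ f) * ((n * l) ≫ u') := by
      rw [hr, hr, Et18.GroupExt.mul_comp_u hex', _root_.mul_assoc (x ≫ f), ← _root_.mul_assoc (k ≫ u'), hfn]
      group
    rw [e1, e2, hr, mul_inv_rev, _root_.mul_assoc, ← _root_.mul_assoc _ ((x * y) ≫ f), ← e0, ← ec]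
    group)
  have hd1 : d = 1 := by
    apply hPP
    · apply hv1.cancel
      have e : v ≫ lift (𝟙 P) (toUnit P ≫ η[P]) = lift (𝟙 E) (1 : E ⟶ E) ≫ (v ⊗ₘ v) := by
        apply CartesianMonoidalCategory.hom_ext
        · simp
        · rw [Category.assoc, lift_snd, Category.assoc, tensorHom_snd, lift_snd_assoc,
            Et18.GroupExt.one_comp_v hex, CategoryTheory.Hom.one_def]
          simp
      rw [MonObj.comp_one, ← Category.assoc, e, Category.assoc, hd]
      apply Et18.GroupExt.kernel_unique hex'
      rw [hcT, lift_fst, lift_snd, Et18.GroupExt.one_comp_u hex', _root_.mul_one,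
        CategoryTheory.Hom.one_def, Category.assoc, h1, ← CategoryTheory.Hom.one_def, _root_.mul_one,
        inv_mul_cancel]
    · apply hv1.cancel
      have e : v ≫ lift (toUnit P ≫ η[P]) (𝟙 P) = lift (1 : E ⟶ E) (𝟙 E) ≫ (v ⊗ₘ v) := by
        apply CartesianMonoidalCategory.hom_ext
        · rw [Category.assoc, lift_fst, Category.assoc, tensorHom_fst, lift_fst_assoc,
            Et18.GroupExt.one_comp_v hex, CategoryTheory.Hom.one_def]
          simp
        · simp
      rw [MonObj.comp_one, ← Category.assoc, e, Category.assoc, hd]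
      apply Et18.GroupExt.kernel_unique hex'
      rw [hcT, lift_fst, lift_snd, Et18.GroupExt.one_comp_u hex', _root_.one_mul,
        CategoryTheory.Hom.one_def, Category.assoc, h1, ← CategoryTheory.Hom.one_def, _root_.one_mul,
        inv_mul_cancel]
  have hmul : ∀ (T : Over S) (x y : T ⟶ E), (x * y) ≫ f = (x ≫ f) * (y ≫ f) := by
    intro T x y
    have e := hcT T (lift x y)
    rw [lift_fst, lift_snd, ← hd, hd1, MonObj.comp_one, MonObj.comp_one, Et18.GroupExt.one_comp_u hex'] at e
    exact (inv_mul_eq_one.1 e.symm).symm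
  refine { one_hom := h1, mul_hom := ?_ }
  have e := hmul (E ⊗ E) (fst E E) (snd E E)
  rw [CategoryTheory.Hom.mul_def, lift_fst_snd, Category.id_comp] at e
  rw [e, CategoryTheory.Hom.mul_def]
  congr 1
  all_goals (apply CartesianMonoidalCategory.hom_ext <;> simp)

end Groth.Agent.S12113
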