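import Groth.Statements.S12114
import Groth.Agent.ChainQF9.Chain
import Groth.Agent.EGA43.FlatDescent.SchemeOpen
import Groth.Agent.SGA3UnitSec.LqfLocus
import Mathlib.AlgebraicGeometry.AffineSpace
-- import your own Groth.Agent.* helpers here

set_option autoImplicit false
universe u
open CategoryTheory CategoryTheory.Limits AlgebraicGeometry
open EtDl

set_option linter.style.haveILetI false
set_option backward.isDefEq.respectTransparency false

namespace Groth.Agent.S12114

open Groth.Agent ChainQF9

/-- The morphism to affine space of a tuple. -/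
noncomputable def mor {k B : Type u} [Field k] [CommRing B] [Algebra k B] {ι : Type u} (c : ι → B) :
    Spec (CommRingCat.of B) ⟶ AffineSpace ι (Spec (CommRingCat.of k)) :=
  Spec.map (phi (k := k) c) ≫ (AffineSpace.SpecIso ι (CommRingCat.of k)).inv

theorem mor_over {k B : Type u} [Field k] [CommRing B] [Algebra k B] {ι : Type u} (c : ι → B) :
    mor (k := k) c ≫ (AffineSpace ι (Spec (CommRingCat.of k)) ↘ Spec (CommRingCat.of k)) =
      Spec.map (CommRingCat.ofHom (algebraMap k B)) := by
  rw [mor, Category.assoc, AffineSpace.SpecIso_inv_over, ← Spec.map_comp]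
  congr 1
  ext r
  exact MvPolynomial.aeval_C c r

theorem mor_coord {k B : Type u} [Field k] [CommRing B] [Algebra k B] {ι : Type u} (c : ι → B) (i : ι) :
    (mor (k := k) c).appTop (AffineSpace.coord _ i) = (Scheme.ΓSpecIso (CommRingCat.of B)).inv (c i) := by
  rw [mor, Scheme.Hom.comp_appTop, CommRingCat.comp_apply, AffineSpace.SpecIso_inv_appTop_coord,
    ← CommRingCat.comp_apply, ← Scheme.ΓSpecIso_inv_naturality, CommRingCat.comp_apply]
  congr 1
  exact MvPolynomial.aeval_X c i

theorem specMap_mor {k B C : Type u} [Field k] [CommRing B] [Algebra k B] [CommRing C] [Algebra k C]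
    {ι : Type u} (g : B →ₐ[k] C) (c : ι → B) :
    Spec.map (CommRingCat.ofHom g.toRingHom) ≫ mor (k := k) c = mor (k := k) (fun i => g (c i)) := by
  rw [mor, mor, ← Category.assoc, ← Spec.map_comp]
  congr 2
  refine CommRingCat.hom_ext ?_
  exact congrArg AlgHom.toRingHom (MvPolynomial.comp_aeval c g)

theorem spread {k B : Type u} [Field k] [CommRing B] [Algebra k B] [Algebra.FiniteType k B] {ι : Type u}
    [Finite ι] (c : ι → B) :
    IsOpen {P : PrimeSpectrum B | Good (k := k) c P} := by
  letI : Algebra (MvPolynomial ι k) B := (MvPolynomial.aeval c).toRingHom.toAlgebra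
  haveI : IsScalarTower k (MvPolynomial ι k) B :=
    IsScalarTower.of_algebraMap_eq fun x => ((MvPolynomial.aeval c).commutes x).symm
  haveI : Algebra.FiniteType (MvPolynomial ι k) B := .of_restrictScalars_finiteType k _ _
  haveI : Algebra.FinitePresentation (MvPolynomial ι k) B :=
    Algebra.FinitePresentation.of_finiteType.mp inferInstance
  haveI : LocallyOfFinitePresentation (Spec.map (phi (k := k) c)) :=
    (HasRingHomProperty.Spec_iff (P := @LocallyOfFinitePresentation)).2
      (RingHom.finitePresentation_algebraMap.2 ‹_›)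
  haveI : LocallyOfFiniteType (Spec.map (phi (k := k) c)) :=
    (HasRingHomProperty.Spec_iff (P := @LocallyOfFiniteType)).2
      (RingHom.finiteType_algebraMap.2 ‹_›)
  exact (EGA43.FlatDescent.isOpen_flat_stalkMap (Spec.map (phi (k := k) c))).inter
    (Spec.map (phi (k := k) c)).isOpen_quasiFiniteAt


/-- Let k be an algebraically closed field, X a k-scheme of finite type whose local rings are
Cohen–Macaulay, and u, v : X ⟶ 𝔸^ι_k (ι a finite index type) two k-morphisms which are locally
quasi-finite and flat. Every closed point x of X has an open neighbourhood U together with a finite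
chain of k-morphisms w_0, …, w_m : U ⟶ 𝔸^ι_k (morphisms over Spec k, U carrying the structure map of
X), each locally quasi-finite and flat, with w_0 = u|_U, w_m = v|_U and such that w_{j+1} differs
from w_j in at most one coordinate function. (The published statement asks only for morphisms w_j,
which would make the assertion trivial; the printed argument produces w_j that are quasi-finite and
flat near x, via systems of parameters of the local ring, and that is what is stated here.) -/
theorem result (k : Type u) [Field k] [IsAlgClosed k]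
    (X : Scheme.{u}) [X.Over (Spec (CommRingCat.of k))] [LocallyOfFiniteType (X ↘ Spec (CommRingCat.of k))]
    [QuasiCompact (X ↘ Spec (CommRingCat.of k))]
    (hCM : ∀ y : X, LocCoh.IsCohenMacaulayLocalRing (X.presheaf.stalk y)) (ι : Type u) [Finite ι]
    (u v : X ⟶ AffineSpace ι (Spec (CommRingCat.of k)))
    (hu : u ≫ (AffineSpace ι (Spec (CommRingCat.of k)) ↘ Spec (CommRingCat.of k)) = X ↘ Spec (CommRingCat.of k))
    (hv : v ≫ (AffineSpace ι (Spec (CommRingCat.of k)) ↘ Spec (CommRingCat.of k)) = X ↘ Spec (CommRingCat.of k))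
    [LocallyQuasiFinite u] [Flat u] [LocallyQuasiFinite v] [Flat v] (x : X) (hx : IsClosed ({x} : Set X)) :
    ∃ (U : X.Opens), x ∈ U ∧ ∃ (m : ℕ) (w : Fin (m + 1) → ((U : Scheme.{u}) ⟶ AffineSpace ι (Spec (CommRingCat.of k)))),
      w 0 = U.ι ≫ u ∧ w (Fin.last m) = U.ι ≫ v ∧
      (∀ j : Fin (m + 1), LocallyQuasiFinite (w j) ∧ Flat (w j) ∧
        w j ≫ (AffineSpace ι (Spec (CommRingCat.of k)) ↘ Spec (CommRingCat.of k)) = U.ι ≫ (X ↘ Spec (CommRingCat.of k))) ∧
      (∀ j : Fin m, ∃ i : ι, ∀ i' : ι, i' ≠ i →
        (w j.castSucc).appTop (AffineSpace.coord (Spec (CommRingCat.of k)) i') =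
          (w j.succ).appTop (AffineSpace.coord (Spec (CommRingCat.of k)) i')) := by
  classical
  cases isEmpty_or_nonempty ι with
  | inl hι =>
    refine ⟨⊤, trivial, 0, fun _ => (⊤ : X.Opens).ι ≫ u, rfl, ?_, fun _ => ⟨inferInstance, inferInstance, ?_⟩,
      fun j => Fin.elim0 j⟩
    · show (⊤ : X.Opens).ι ≫ u = (⊤ : X.Opens).ι ≫ v
      rw [AffineSpace.hom_ext (f := u) (g := v) (by rw [hu, hv]) (fun i => isEmptyElim i)]
    · rw [Category.assoc, hu]
  | inr hι =>
  let f := X ↘ Spec (CommRingCat.of k)
  obtain ⟨V, hV, hxV, -⟩ := exists_isAffineOpen_mem_and_subset (x := x) (U := (⊤ : X.Opens)) trivial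
  let B : CommRingCat.{u} := Γ(X, V)
  let j : Spec B ⟶ X := hV.fromSpec
  haveI : IsOpenImmersion j := inferInstanceAs (IsOpenImmersion hV.fromSpec)
  let ψ : CommRingCat.of k ⟶ B := Spec.preimage (j ≫ f)
  letI : Algebra k B := ψ.hom.toAlgebra
  have hψ : Spec.map (CommRingCat.ofHom (algebraMap k B)) = j ≫ f := Spec.map_preimage (j ≫ f)
  haveI : Algebra.FiniteType k B := by
    rw [← RingHom.finiteType_algebraMap]
    have : LocallyOfFiniteType (Spec.map (CommRingCat.ofHom (algebraMap k B))) := by
      rw [hψ]; infer_instance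
    exact (HasRingHomProperty.Spec_iff (P := @LocallyOfFiniteType)).1 this
  let P : Spec B := hV.primeIdealOf ⟨x, hxV⟩
  have hjP : j P = x := hV.fromSpec_primeIdealOf ⟨x, hxV⟩
  have hPc : IsClosed ({P} : Set (Spec B)) := by
    have h1 : IsClosed (j ⁻¹' {x}) := hx.preimage j.continuous
    rwa [← hjP, ← Set.image_singleton, j.isOpenEmbedding.injective.preimage_image] at h1
  haveI : P.asIdeal.IsMaximal := (PrimeSpectrum.isClosed_singleton_iff_isMaximal P).1 hPc
  set m := P.asIdeal
  have hk : Function.Surjective (algebraMap k (B ⧸ m)) := by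
    letI : Field (B ⧸ m) := Ideal.Quotient.field m
    haveI : Module.Finite k (B ⧸ m) := finite_of_finite_type_of_isJacobsonRing k (B ⧸ m)
    exact (IsAlgClosed.algebraMap_bijective_of_isIntegral (k := k) (K := B ⧸ m)).2
  haveI : LocCoh.IsCohenMacaulayLocalRing (Localization.AtPrime m) := by
    haveI := hCM (j P)
    exact CAlgH3.isCohenMacaulayLocalRing_of_ringEquiv
      (((asIso (j.stalkMap P)).commRingCatIsoToRingEquiv).trans
        (StructureSheaf.stalkIso B P).symm.toRingEquiv)
  -- the two maps in coordinates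
  have coords : ∀ w : X ⟶ AffineSpace ι (Spec (CommRingCat.of k)),
      w ≫ (AffineSpace ι (Spec (CommRingCat.of k)) ↘ Spec (CommRingCat.of k)) = f →
      LocallyQuasiFinite w → Flat w → ∃ c : ι → B, j ≫ w = mor (k := k) c ∧ Good (k := k) c ⟨m, inferInstance⟩ := by
    intro w hw _ _
    let c : ι → B := fun i => (Scheme.ΓSpecIso B).hom ((j ≫ w).appTop (AffineSpace.coord _ i))
    have he : j ≫ w = mor (k := k) c := by
      refine AffineSpace.hom_ext ?_ fun i => ?_
      · rw [Category.assoc, hw, mor_over, hψ]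
      · refine Eq.trans ?_ (mor_coord (k := k) c i).symm
        exact ((Scheme.ΓSpecIso B).hom_inv_id_apply _).symm
    refine ⟨c, he, ?_⟩
    have he' : Spec.map (phi (k := k) c) = (j ≫ w) ≫ (AffineSpace.SpecIso ι (CommRingCat.of k)).hom := by
      rw [he, mor, Category.assoc, Iso.inv_hom_id, Category.comp_id]
    haveI : LocallyQuasiFinite (Spec.map (phi (k := k) c)) := by rw [he']; infer_instance
    haveI : Flat (Spec.map (phi (k := k) c)) := by rw [he']; infer_instance
    exact ⟨Flat.stalkMap _ _, Scheme.Hom.quasiFiniteAt _ _⟩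
  obtain ⟨cu, hcu, gu⟩ := coords u hu inferInstance inferInstance
  obtain ⟨cv, hcv, gv⟩ := coords v hv inferInstance inferInstance
  obtain ⟨n, c, hc0, hcl, hstep⟩ := ChainQF9.exists_seq (ChainQF9.reflTransGen m hk cu cv gu gv)
  have good : ∀ l : Fin (n + 1), Good (k := k) (c l) ⟨m, inferInstance⟩ := by
    intro l
    induction l using Fin.cases with
    | zero => rw [hc0]; exact gu
    | succ l => exact (hstep l).2.1
  choose i hi using fun l : Fin n => (hstep l).2.2
  -- a neighbourhood
  have hs : ∀ (l : Fin n) (i' : ι), ∃ s : m.primeCompl, i' ≠ i l →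
      (s : B) * c l.castSucc i' = (s : B) * c l.succ i' := by
    intro l i'
    by_cases h : i' = i l
    · exact ⟨1, fun h' => absurd h h'⟩
    · obtain ⟨s, hs⟩ := (IsLocalization.eq_iff_exists m.primeCompl _).1 (hi l i' h)
      exact ⟨s, fun _ => hs⟩
  choose s hs using hs
  haveI := Fintype.ofFinite ι
  let S : m.primeCompl := ∏ l : Fin n, ∏ i' : ι, s l i'
  let O : Set (PrimeSpectrum B) := (⋂ l : Fin (n + 1), {Q | Good (k := k) (c l) Q}) ∩
    (PrimeSpectrum.basicOpen (S : B) : Set (PrimeSpectrum B))
  have hO : IsOpen O := (isOpen_iInter_of_finite fun l => spread (c l)).inter (PrimeSpectrum.basicOpen _).isOpen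
  have hPO : P ∈ O := ⟨Set.mem_iInter.2 fun l => good l, S.2⟩
  obtain ⟨_, ⟨t, rfl⟩, hPt, htO⟩ :=
    (PrimeSpectrum.isTopologicalBasis_basic_opens (R := B)).exists_subset_of_mem_open hPO hO
  let C := Localization.Away (t * (S : B))
  let g : B →ₐ[k] C := IsScalarTower.toAlgHom k B C
  haveI : IsOpenImmersion (Spec.map (CommRingCat.ofHom g.toRingHom)) :=
    IsOpenImmersion.of_isLocalization (t * (S : B))
  let h : Spec (CommRingCat.of C) ⟶ X := Spec.map (CommRingCat.ofHom g.toRingHom) ≫ j
  refine ⟨h.opensRange, ?_, n, fun l => h.isoOpensRange.inv ≫ mor (k := k) (fun i => g (c l i)), ?_, ?_, ?_, ?_⟩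
  · have : P ∈ Set.range (PrimeSpectrum.comap (algebraMap B C)) := by
      rw [PrimeSpectrum.localization_away_comap_range C (t * (S : B))]
      show P ∈ PrimeSpectrum.basicOpen (t * (S : B))
      rw [PrimeSpectrum.basicOpen_mul]
      exact ⟨hPt, S.2⟩
    obtain ⟨Q, hQ⟩ := this
    exact ⟨Q, (congrArg j hQ).trans hjP⟩
  · dsimp only
    rw [← specMap_mor, hc0, ← hcu, ← Category.assoc, ← Category.assoc]
    congr 1
    exact (Category.assoc _ _ _).trans h.isoOpensRange_inv_comp
  · dsimp only
    rw [← specMap_mor, hcl, ← hcv, ← Category.assoc, ← Category.assoc]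
    congr 1
    exact (Category.assoc _ _ _).trans h.isoOpensRange_inv_comp
  · intro l
    let π : Spec (CommRingCat.of C) ⟶ Spec B := Spec.map (CommRingCat.ofHom g.toRingHom)
    have hgood : ∀ Q, Good (k := k) (c l) (π Q) := fun Q => by
      have h1 : π Q ∈ Set.range (PrimeSpectrum.comap (algebraMap B C)) := ⟨Q, rfl⟩
      rw [PrimeSpectrum.localization_away_comap_range C (t * (S : B))] at h1
      have h2 : π Q ∈ PrimeSpectrum.basicOpen (t * (S : B)) := h1
      rw [PrimeSpectrum.basicOpen_mul] at h2
      exact Set.mem_iInter.1 (htO h2.1).1 l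
    haveI : LocallyOfFiniteType (Spec.map (phi (k := k) (c l))) := by
      suffices LocallyOfFiniteType (Spec.map (phi (k := k) (c l)) ≫
          Spec.map (CommRingCat.ofHom (MvPolynomial.C (σ := ι) (R := k)))) from
        locallyOfFiniteType_of_comp _ (Spec.map (CommRingCat.ofHom (MvPolynomial.C (σ := ι) (R := k))))
      rw [← Spec.map_comp]
      have : CommRingCat.ofHom MvPolynomial.C ≫ phi (k := k) (c l) = CommRingCat.ofHom (algebraMap k B) := by
        ext r; exact MvPolynomial.aeval_C (c l) r
      rw [this, hψ]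
      infer_instance
    haveI : LocallyQuasiFinite (π ≫ Spec.map (phi (k := k) (c l))) :=
      SGA3UnitSec.locallyQuasiFinite_of_forall _ fun Q =>
        Scheme.Hom.quasiFiniteAt_comp_iff_of_isOpenImmersion.2 (hgood Q).2
    haveI : Flat (π ≫ Spec.map (phi (k := k) (c l))) := by
      rw [Flat.iff_flat_stalkMap]
      intro Q
      rw [Scheme.Hom.stalkMap_comp, CommRingCat.hom_comp]
      exact RingHom.Flat.comp (hgood Q).1 (Flat.stalkMap π Q)
    have e : mor (k := k) (fun i => g (c l i)) =
        (π ≫ Spec.map (phi (k := k) (c l))) ≫ (AffineSpace.SpecIso ι (CommRingCat.of k)).inv := by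
      rw [← specMap_mor, mor, Category.assoc]
    dsimp only
    refine ⟨by rw [e]; infer_instance, by rw [e]; infer_instance, ?_⟩
    rw [Category.assoc, mor_over, ← h.isoOpensRange_inv_comp, Category.assoc]
    congr 1
    show _ = (π ≫ j) ≫ f
    rw [Category.assoc, ← hψ, ← Spec.map_comp]
    congr 1
  · intro l
    refine ⟨i l, fun i' hi' => ?_⟩
    simp only [Scheme.Hom.comp_appTop, CommRingCat.comp_apply, mor_coord]
    congr 2
    have hu' : IsUnit (g (s l i' : B)) := by
      refine isUnit_of_dvd_unit (map_dvd g ?_)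
        (IsLocalization.Away.algebraMap_isUnit (S := C) (t * (S : B)))
      refine dvd_mul_of_dvd_right ?_ t
      simp only [S, Submonoid.coe_finsetProd]
      exact (Finset.dvd_prod_of_mem (fun i'' => (s l i'' : B)) (Finset.mem_univ i')).trans
        (Finset.dvd_prod_of_mem (fun l' => ∏ i'' : ι, (s l' i'' : B)) (Finset.mem_univ l))
    refine hu'.mul_left_cancel ?_
    rw [← map_mul, ← map_mul, hs l i' hi']

end Groth.Agent.S12114
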