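import Groth.Statements.S12118
import Groth.Agent.EGA41Lib.RegularPow
import Mathlib

set_option backward.isDefEq.respectTransparency.types false

set_option autoImplicit false
universe u v
open EGA41

namespace Groth.Agent.S12118

/-- Let A be a commutative ring, M an A-module, (M_k)_{k ≥ 0} a decreasing filtration of M by submodules
with M_0 = M and ⋂_k M_k = 0, and f an element of A which is a non-zero-divisor on every graded
piece M_k/M_{k+1} (equivalently on the associated graded module). Then (i) f is a non-zero-divisor
on M, and (ii) M_k ∩ fM = fM_k for every k ≥ 0. -/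
theorem result {A : Type u} [CommRing A] {M : Type v} [AddCommGroup M] [Module A M]
    (F : ℕ → Submodule A M) (hanti : Antitone F) (h0 : F 0 = ⊤) (hsep : ⨅ k, F k = ⊥) (f : A)
    (hreg : ∀ k : ℕ, IsSMulRegular (↥(F k) ⧸ Submodule.comap (F k).subtype (F (k + 1))) f) :
    IsSMulRegular M f ∧ ∀ k : ℕ, F k ⊓ (Ideal.span {f} • (⊤ : Submodule A M)) = Ideal.span {f} • F k := by
  have hmk : ∀ (k : ℕ) (x : M) (hx : x ∈ F k), f • x ∈ F (k + 1) → x ∈ F (k + 1) := by
    intro k x hx h1
    have h2 : f • (Submodule.Quotient.mk ⟨x, hx⟩ :
        ↥(F k) ⧸ Submodule.comap (F k).subtype (F (k + 1))) = 0 := by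
      rw [← Submodule.Quotient.mk_smul, Submodule.Quotient.mk_eq_zero]
      exact h1
    exact (Submodule.Quotient.mk_eq_zero (Submodule.comap (F k).subtype (F (k + 1)))).1
      ((hreg k).right_eq_zero_of_smul h2)
  constructor
  · refine isSMulRegular_iff_right_eq_zero_of_smul.mpr fun x hx => ?_
    have key : ∀ k, x ∈ F k := by
      intro k
      induction k with
      | zero => rw [h0]; trivial
      | succ k ih => exact hmk k x ih (by rw [hx]; exact Submodule.zero_mem _)
    have : x ∈ ⨅ k, F k := (Submodule.mem_iInf _).2 key
    rwa [hsep, Submodule.mem_bot] at this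
  · intro k
    rw [Submodule.ideal_span_singleton_smul, Submodule.ideal_span_singleton_smul]
    apply le_antisymm
    · rintro x ⟨hxk, hx⟩
      obtain ⟨y, -, rfl⟩ := (Submodule.mem_smul_pointwise_iff_exists _ _ _).1 hx
      refine Submodule.smul_mem_pointwise_smul _ _ _ ?_
      have key : ∀ j ≤ k, y ∈ F j := by
        intro j
        induction j with
        | zero => intro _; rw [h0]; trivial
        | succ j ih => exact fun hj => hmk j y (ih (by omega)) (hanti hj hxk)
      exact key k le_rfl
    · intro x hx
      obtain ⟨y, hy, rfl⟩ := (Submodule.mem_smul_pointwise_iff_exists _ _ _).1 hx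
      exact ⟨(F k).smul_mem f hy, Submodule.smul_mem_pointwise_smul _ _ _ trivial⟩

end Groth.Agent.S12118
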