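import Groth.Statements.S12122
import Groth.Agent.H8ProCons.Basic

set_option autoImplicit false
universe u
open EGA41

namespace Groth.Agent.S12122

open AlgebraicGeometry Topology in
/-- Let X be a quasi-separated scheme. A subset E of X is locally constructible if and only if it is
both open and closed for the constructible topology of X. Here the constructible topology is the one
generated by the quasi-compact open subsets of X and their complements; when X is quasi-separated
its open sets are exactly the ind-constructible subsets, i.e. it is the constructible topology of
the source (for a scheme that is not quasi-separated the two topologies differ, and this row does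
not cover that case). -/
theorem result (X : Scheme.{u}) [QuasiSeparatedSpace X] (E : Set X) :
    Topology.IsLocallyConstructible E ↔
      (IsOpen[constructibleTopology X] E ∧ IsClosed[constructibleTopology X] E) := by
  open H8ProCons in
  refine ⟨fun h ↦ ⟨isOpen_cons_of_isLocallyConstructible h,
    (@isOpen_compl_iff X E (constructibleTopology X)).mp
      (isOpen_cons_of_isLocallyConstructible ?_)⟩, fun ⟨ho, hc⟩ ↦ ?_⟩
  · exact fun x ↦ (h x).imp fun U hU ↦ ⟨hU.1, hU.2.1, hU.2.2.compl⟩
  refine .of_isOpenCover (U := fun V : X.affineOpens ↦ V.1) (iSup_affineOpens_eq_top X) fun V ↦ ?_
  have := H8ProCons.quasiSeparatedSpace_of_isAffineOpen V.2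
  have := H8ProCons.compactSpace_opens V.2.isCompact
  have hcont : @Continuous _ _ (constructibleTopology ↥(V.1 : Set X)) (constructibleTopology X)
      Subtype.val :=
    H8ProCons.continuous_cons continuous_subtype_val fun U hU hUc ↦ by
      rw [V.1.2.isOpenEmbedding_subtypeVal.isEmbedding.isCompact_iff]
      convert QuasiSeparatedSpace.inter_isCompact _ _ V.1.2 V.2.isCompact hU hUc using 1
      exact Subtype.image_preimage_coe _ _
  exact (H8ProCons.isConstructible_iff_clopen_cons.mpr
    ⟨@IsOpen.preimage _ _ (constructibleTopology _) (constructibleTopology X) _ hcont _ ho,
      @IsClosed.preimage _ _ (constructibleTopology _) (constructibleTopology X) _ hcont _ hc⟩).isLocallyConstructible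

end Groth.Agent.S12122
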