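import Groth.Statements.S12124
import Groth.Agent.CAlgH3.MoriPrimes

set_option autoImplicit false
universe u
open CAlg

namespace Groth.Agent.S12124

/-- Let A be a Noetherian local domain with fraction field K and A' its integral closure in K. Then A'
is a Krull domain whose essential valuation rings come from a finite sub-A-algebra: there is a
sub-A-algebra C of K, finite over A, such that, writing V_p for the integral closure in K of the
local ring C_p at a height-one prime p of C (the elements x of K with s x integral over C for some s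
in C outside p), (a) each V_p is a discrete valuation ring with fraction field K, (b) A' is the
intersection of the V_p over all height-one primes p of C, and (c) every element of K lies in V_p
for all but finitely many p. (The published statement calls C local and also records that A' is
semi-local; this row does not assert that C is local, and the semi-locality of A' is a separate
result.) -/
theorem result {A : Type u} [CommRing A] [IsDomain A] [IsNoetherianRing A] [IsLocalRing A] :
    ∃ C : Subalgebra A (FractionRing A), Module.Finite A C ∧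
      (∀ (p : Ideal C) [p.IsPrime], p.height = 1 →
        ∃ V : ValuationSubring (FractionRing A), IsDiscreteValuationRing V ∧
          ∀ x : FractionRing A, x ∈ V ↔ ∃ s : C, s ∉ p ∧ IsIntegral C ((s : FractionRing A) * x)) ∧
      (∀ x : FractionRing A, x ∈ integralClosure A (FractionRing A) ↔
        ∀ (p : Ideal C) [p.IsPrime], p.height = 1 → ∃ s : C, s ∉ p ∧ IsIntegral C ((s : FractionRing A) * x)) ∧
      (∀ x : FractionRing A, {p : Ideal C | p.IsPrime ∧ p.height = 1 ∧
        ¬ ∃ s : C, s ∉ p ∧ IsIntegral C ((s : FractionRing A) * x)}.Finite) := by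
    classical
    let K := FractionRing A
    let A' := integralClosure A K
    obtain ⟨𝒲, 𝓔, hfam, hE, hgood⟩ := Groth.Agent.CAlgH3.Mori.exists_family A K
    have hle : ∀ W ∈ 𝒲, ∀ r ∈ A', W.valuation r ≤ 1 := fun W hW r hr => hfam.le hW hr
    have hprime := fun W (hW : W ∈ 𝒲) => Groth.Agent.CAlgH3.Mori.centre_isPrime A' W (hle W hW)
    let cen : ∀ W : 𝒲, Ideal A' := fun W => Groth.Agent.CAlgH3.Mori.centre A' W.1 (hle W.1 W.2)
    have hcp : ∀ W : 𝒲, (cen W).IsPrime := fun W => hprime W.1 W.2
    -- separate the exceptional fibres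
    let Pi0 : Set (Ideal A) := (fun W : 𝒲 => (cen W).comap (algebraMap A A')) '' {W | W.1 ∈ 𝓔}
    have hPi0 : Pi0.Finite := (hE.preimage Subtype.val_injective.injOn).image _
    let U : Set (Ideal A') := ⋃ p ∈ Pi0, {P | P.IsPrime ∧ P.comap (algebraMap A A') = p}
    have hU : U.Finite := hPi0.biUnion fun p hp => by
      obtain ⟨W, -, rfl⟩ := hp
      have := hcp W
      exact Groth.Agent.CAlgH3.Mori.finite_primes_over A K _
    have hsep : ∀ PP : Ideal A' × Ideal A', ∃ x : A', ¬ PP.1 ≤ PP.2 → x ∈ PP.1 ∧ x ∉ PP.2 := fun PP => by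
      by_cases h : PP.1 ≤ PP.2
      · exact ⟨0, fun hh => absurd h hh⟩
      · obtain ⟨x, h1, h2⟩ := SetLike.not_le_iff_exists.1 h
        exact ⟨x, fun _ => ⟨h1, h2⟩⟩
    choose sep hsep using hsep
    let s : Set K := (fun PP => (sep PP : K)) '' (U ×ˢ U)
    have hsint : ∀ x ∈ s, IsIntegral A x := by
      rintro _ ⟨PP, -, rfl⟩
      exact (sep PP).2
    let C := Algebra.adjoin A s
    have hCfin : Module.Finite A C := Module.Finite.iff_fg.2 (fg_adjoin_of_finite ((hU.prod hU).image _) hsint)
    have hCA : C ≤ A' := Algebra.adjoin_le hsint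
    have : IsNoetherianRing C := IsNoetherianRing.of_finite A C
    let j : C →ₐ[A] A' := Subalgebra.inclusion hCA
    letI : Algebra C A' := j.toRingHom.toAlgebra
    have : IsScalarTower A C A' := .of_algebraMap_eq fun a => (j.commutes a).symm
    have : Algebra.IsIntegral C A' := Algebra.IsIntegral.tower_top (R := A)
    have hint : ∀ y : K, IsIntegral C y ↔ y ∈ A' := fun y => by
      have : Algebra.IsIntegral A C := Algebra.IsIntegral.of_finite A C
      exact ⟨fun h => isIntegral_trans (R := A) (A := C) y h, fun h => IsIntegral.tower_top h⟩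
    -- the centre is alone in its fibre over `C`
    have huniq : ∀ (W : 𝒲) (P : Ideal A') [P.IsPrime],
        P.comap (algebraMap C A') = (cen W).comap (algebraMap C A') → P = cen W := by
      intro W P hP h
      have := hcp W
      have hA : P.comap (algebraMap A A') = (cen W).comap (algebraMap A A') := by
        rw [IsScalarTower.algebraMap_eq A C A', ← Ideal.comap_comap, ← Ideal.comap_comap, h]
      by_cases hWE : W.1 ∈ 𝓔
      · have hPU : P ∈ U := Set.mem_biUnion (⟨W, hWE, rfl⟩ : _ ∈ Pi0) ⟨hP, hA⟩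
        have hcU : cen W ∈ U := Set.mem_biUnion (⟨W, hWE, rfl⟩ : _ ∈ Pi0) ⟨this, rfl⟩
        have key : ∀ P1 P2 : Ideal A', P1 ∈ U → P2 ∈ U → P1.comap (algebraMap C A') = P2.comap (algebraMap C A') → P1 ≤ P2 := by
          intro P1 P2 h1 h2 h12
          by_contra hne
          obtain ⟨hx1, hx2⟩ := hsep (P1, P2) hne
          have hxC : (sep (P1, P2) : K) ∈ C := Algebra.subset_adjoin ⟨(P1, P2), ⟨h1, h2⟩, rfl⟩
          have hx : (⟨_, hxC⟩ : C) ∈ P1.comap (algebraMap C A') := hx1
          rw [h12] at hx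
          exact hx2 hx
        exact le_antisymm (key _ _ hPU hcU h) (key _ _ hcU hPU h.symm)
      · have h1 : ∀ a : A, algebraMap A A' a ∈ cen W ↔ W.1.valuation (algebraMap A K a) < 1 := fun a => Iff.rfl
        have h2 : ∀ a : A, algebraMap A A' a ∈ P ↔ W.1.valuation (algebraMap A K a) < 1 := fun a => by
          rw [← h1, ← Ideal.mem_comap, hA]; rfl
        exact le_antisymm (hgood W.1 W.2 hWE P (cen W) h2 h1) (hgood W.1 W.2 hWE (cen W) P h1 h2)
    have hcne : ∀ W : 𝒲, (cen W).comap (algebraMap C A') ≠ ⊥ := fun W hb => by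
      obtain ⟨t, ht, ht0, htv⟩ := hfam.center W.1 W.2
      have := hcp W
      have hmem : (⟨t, ht⟩ : A') ∈ cen W := htv
      rw [Ideal.eq_bot_of_comap_eq_bot hb, Ideal.mem_bot] at hmem
      exact ht0 (congrArg Subtype.val hmem)
    have hminimal : ∀ {p : Ideal C}, p.IsPrime → p.height = 1 → ∀ q : Ideal C, q.IsPrime → q ≠ ⊥ → q ≤ p → q = p := by
      intro p _ hp q _ hq0 hqp
      by_contra hne
      have h2 := Ideal.height_strict_mono_of_isPrime (J := p) (lt_of_le_of_ne hqp hne)
      rw [hp, Order.lt_one_iff, Ideal.height_eq_zero_iff_eq_bot] at h2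
      exact hq0 h2
    let Sof : ∀ (p : Ideal C), p.IsPrime → Submonoid K := fun p hp =>
      { carrier := {x | ∃ c : C, c ∉ p ∧ (c : K) = x}
        one_mem' := ⟨1, fun h => hp.ne_top (p.eq_top_of_isUnit_mem h isUnit_one), rfl⟩
        mul_mem' := fun {a b} ha hb => by
          obtain ⟨c, hc, rfl⟩ := ha
          obtain ⟨d, hd, rfl⟩ := hb
          exact ⟨c * d, hp.mul_notMem hc hd, rfl⟩ }
    have hSA : ∀ p hp, ∀ x ∈ Sof p hp, x ∈ A'.toSubring := by
      rintro p hp _ ⟨c, -, rfl⟩
      exact hCA c.2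
    have hS0 : ∀ p hp, (0 : K) ∉ Sof p hp := by
      rintro p hp ⟨c, hc, h0⟩
      exact hc (by rw [(Subtype.ext h0 : c = 0)]; exact p.zero_mem)
    have hloc : ∀ (p : Ideal C) (hp : p.IsPrime), p.height = 1 → ∀ W : 𝒲,
        (∀ x ∈ Sof p hp, W.1.valuation x = 1) → (cen W).comap (algebraMap C A') = p := by
      intro p hp hh W hW
      have := hcp W
      refine hminimal hp hh _ inferInstance (hcne W) fun c hc => ?_
      by_contra hcp'
      have h1 : W.1.valuation (c : K) < 1 := hc
      exact h1.ne (hW _ ⟨c, hcp', rfl⟩)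
    have hV : ∀ (p : Ideal C) (x : K) (hp : p.IsPrime),
        (∃ c : C, c ∉ p ∧ IsIntegral C ((c : K) * x)) ↔ ∃ y ∈ Sof p hp, y * x ∈ A'.toSubring := fun p x hp =>
      ⟨fun ⟨c, hc, h⟩ => ⟨c, ⟨c, hc, rfl⟩, (hint _).1 h⟩, fun ⟨_, ⟨c, hc, rfl⟩, h⟩ => ⟨c, hc, (hint _).2 h⟩⟩
    have hne : ∀ (p : Ideal C) (hp : p.IsPrime), p.height = 1 → ∃ W ∈ 𝒲, ∀ x ∈ Sof p hp, W.valuation x = 1 := by
      intro p hp hh
      have hjinj : Function.Injective (algebraMap C A') := Subalgebra.inclusion_injective hCA
      obtain ⟨P, -, hP, hPp⟩ := Ideal.exists_ideal_over_prime_of_isIntegral p (⊥ : Ideal A')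
        (by rw [Ideal.comap_bot_of_injective _ hjinj]; exact bot_le)
      have hP0 : P ≠ ⊥ := fun h => Ideal.ne_bot_of_height_eq_one hh (by rw [← hPp, h, Ideal.comap_bot_of_injective _ hjinj])
      obtain ⟨u, hu, hu0⟩ := Submodule.exists_mem_ne_zero_of_ne_bot hP0
      have hu0' : (u : K) ≠ 0 := fun h => hu0 (Subtype.ext h)
      let S' : Submonoid K :=
        { carrier := {x | ∃ r : A', r ∉ P ∧ (r : K) = x}
          one_mem' := ⟨1, fun h => hP.ne_top (P.eq_top_of_isUnit_mem h isUnit_one), rfl⟩
          mul_mem' := fun {a b} ha hb => by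
            obtain ⟨c, hc, rfl⟩ := ha
            obtain ⟨d, hd, rfl⟩ := hb
            exact ⟨c * d, hP.mul_notMem hc hd, rfl⟩ }
      by_contra! hcon
      obtain ⟨x, ⟨r, hr, rfl⟩, hx⟩ := hfam.exists_mul_mem (S := S') (by rintro _ ⟨r, -, rfl⟩; exact r.2)
        (fun ⟨r, hr, h0⟩ => hr (by rw [(Subtype.ext h0 : r = 0)]; exact P.zero_mem)) (x := (u : K)⁻¹) (fun W hW hall => by
          obtain ⟨y, ⟨c, hc, rfl⟩, hy⟩ := hcon W hW
          refine absurd (hall _ ⟨algebraMap C A' c, fun h => hc ?_, rfl⟩) hy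
          rw [← hPp]; exact h)
      refine hr ?_
      have : r = (⟨_, hx⟩ : A') * u := Subtype.ext (by
        change (r : K) = (r : K) * (u : K)⁻¹ * (u : K)
        rw [mul_assoc, inv_mul_cancel₀ hu0', mul_one])
      rw [this]
      exact P.mul_mem_left _ hu
    refine ⟨C, hCfin, ?_, ?_, ?_⟩
    · intro p hp hh
      obtain ⟨W, hW, -, hWmem⟩ := hfam.exists_eq (hSA p hp) (hS0 p hp) (hne p hp hh) (fun W hW hs W' hW' hs' r hr hr1 => by
        refine le_antisymm (hle W' hW' r hr) (not_lt.1 fun hlt => ?_)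
        have heq : cen ⟨W', hW'⟩ = cen ⟨W, hW⟩ :=
          have := hcp ⟨W', hW'⟩
          huniq ⟨W, hW⟩ _ ((hloc p hp hh ⟨W', hW'⟩ hs').trans (hloc p hp hh ⟨W, hW⟩ hs).symm)
        have h2 : (⟨r, hr⟩ : A') ∈ cen ⟨W', hW'⟩ := hlt
        rw [heq] at h2
        exact (show W.valuation r < 1 from h2).ne hr1)
      exact ⟨W, hfam.dvr W hW, fun x => (hWmem x).trans (hV p x hp).symm⟩
    · intro x
      constructor
      · intro hx p hp hh
        refine (hV p x hp).2 ⟨1, (Sof p hp).one_mem, ?_⟩
        rw [one_mul]; exact hx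
      · intro hall
        by_contra hx
        obtain ⟨W, hW, hxW, he⟩ := hfam.exists_essential (x := x) hx
        have := hfam.dvr W hW
        let P := cen ⟨W, hW⟩
        have := hcp ⟨W, hW⟩
        let p := P.comap (algebraMap C A')
        have hh : p.height = 1 := by
          refine le_antisymm ((Ideal.height_le_iff (n := 1)).2 fun q hq hqp => ?_) (Order.one_le_iff_pos.2 (pos_iff_ne_zero.2 fun h => hcne ⟨W, hW⟩ (Ideal.height_eq_zero_iff_eq_bot.1 h)))
          by_cases hq0 : q = ⊥
          · rw [hq0, Ideal.height_bot]; exact zero_lt_one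
          exfalso
          obtain ⟨P1, -, hP1, hP1q⟩ := Ideal.exists_ideal_over_prime_of_isIntegral q (⊥ : Ideal A')
            (by rw [Ideal.comap_bot_of_injective (algebraMap C A') (Subalgebra.inclusion_injective hCA)]; exact bot_le)
          obtain ⟨P', hle', hP', hP'p⟩ := Ideal.exists_ideal_over_prime_of_isIntegral p P1 (hP1q.le.trans hqp.le)
          have hP1P : P1 ≤ P := hle'.trans (huniq ⟨W, hW⟩ P' hP'p).le
          have hP10 : P1 ≠ ⊥ := fun h => hq0 (by rw [← hP1q, h, Ideal.comap_bot_of_injective (algebraMap C A') (Subalgebra.inclusion_injective hCA)])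
          obtain ⟨t, ht, ht0⟩ := Submodule.exists_mem_ne_zero_of_ne_bot hP10
          have hPP1 : P ≤ P1 := fun u hu =>
            he.mem_of_prime (P := P1) (fun r hr => hP1P hr) ht (fun h => ht0 (Subtype.ext h)) hu
          exact hqp.ne (by rw [← hP1q, le_antisymm hP1P hPP1])
        obtain ⟨c, hc, hcx⟩ := hall p hh
        refine hxW ?_
        have h1 : W.valuation (c : K) = 1 := le_antisymm (hle W hW _ (hCA c.2)) (not_lt.1 fun h => hc h)
        have h2 := hle W hW _ ((hint _).1 hcx)
        rw [map_mul, h1, one_mul] at h2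
        exact (W.valuation_le_one_iff x).1 h2
    · intro x
      refine (((hfam.finite x).preimage Subtype.val_injective.injOn).image fun W : 𝒲 => (cen W).comap (algebraMap C A')).subset ?_
      rintro p ⟨hp, hh, hbad⟩
      by_contra hcon
      refine hbad ((hV p x hp).2 (hfam.exists_mul_mem (hSA p hp) (hS0 p hp) fun W hW hs => ?_))
      by_contra hxW
      exact hcon ⟨⟨W, hW⟩, ⟨hW, hxW⟩, hloc p hp hh ⟨W, hW⟩ hs⟩

end Groth.Agent.S12124
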