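import Groth.Statements.S12125
import Groth.Agent.CommAlg6.GeomRedJapanese
import Groth.Agent.CAlgH.NormalLocus
import Groth.Agent.S4710
import Groth.Agent.NormalizationLib.Basic

set_option autoImplicit false
universe u
open EGA4

namespace Groth.Agent.S12125

open CAlg Groth.Agent.CAlgH TensorProduct

set_option maxHeartbeats 1600000 in
set_option synthInstance.maxHeartbeats 100000 in
theorem isN1_of_local (A T : Type u) [CommRing A] [IsNoetherianRing A] [CommRing T] [IsDomain T] [Algebra A T]
    [Algebra.FiniteType A T] (hloc : ∀ (m : Ideal A) [m.IsMaximal], CAlg.IsNagata (Localization.AtPrime m))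
    {f : T} (hf0 : f ≠ 0) (hf : IsIntegrallyClosed (Localization.Away f)) : CAlg.IsN1 T := by
  haveI : IsNoetherianRing T := Algebra.FiniteType.isNoetherianRing A T
  refine isN1_of_exists_normal_localization hf0 hf fun m _ => ?_
  obtain ⟨n, hn, hmn⟩ := Ideal.exists_le_maximal (m.comap (algebraMap A T)) (Ideal.IsPrime.ne_top inferInstance)
  let An := Localization.AtPrime n
  let M := Algebra.algebraMapSubmonoid T n.primeCompl
  let Tn := Localization M
  haveI : Algebra.IsPushout A An T Tn := (Algebra.isPushout_of_isLocalization n.primeCompl An T Tn).symm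
  haveI : Algebra.FiniteType An Tn :=
    Algebra.FiniteType.equiv (inferInstance : Algebra.FiniteType An (An ⊗[A] T)) (Algebra.IsPushout.equiv A An T Tn)
  have hTn : CAlg.IsNagata Tn := isNagata_of_finiteType (hloc n) Tn
  have hle : M ≤ m.primeCompl := by
    rintro _ ⟨a, ha, rfl⟩ h
    exact ha (hmn h)
  have hM0 : M ≤ nonZeroDivisors T := hle.trans (Ideal.primeCompl_le_nonZeroDivisors m)
  haveI : IsDomain Tn := IsLocalization.isDomain_localization hM0
  haveI : IsDomain (Localization.AtPrime m) :=
    IsLocalization.isDomain_localization (Ideal.primeCompl_le_nonZeroDivisors m)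
  letI : Algebra Tn (Localization.AtPrime m) :=
    IsLocalization.localizationAlgebraOfSubmonoidLe Tn (Localization.AtPrime m) M m.primeCompl hle
  haveI := IsLocalization.localization_isScalarTower_of_submonoid_le Tn (Localization.AtPrime m) M m.primeCompl hle
  haveI := IsLocalization.isLocalization_of_submonoid_le Tn (Localization.AtPrime m) M m.primeCompl hle
  have h2' : IsN2 Tn := isN2_of_ringEquiv (RingEquiv.quotientBot Tn) (hTn.2 ⊥)
  have h3 : IsN2 (Localization.AtPrime m) := isN2_localization (m.primeCompl.map (algebraMap T Tn)) h2'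
  exact _root_.Groth.Agent.CommAlg6.isN1_of_isN2 h3
theorem normal_away_of_bounded (T C : Type u) [CommRing T] [IsDomain T] [CommRing C] [IsDomain C]
    [IsIntegrallyClosed C] (φ : T →+* C) (hinj : Function.Injective φ) (d : T) (hd0 : d ≠ 0)
    (hall : ∀ z : C, ∃ b : T, φ b = φ d * z) : IsIntegrallyClosed (Localization.Away d) := by
  have hC0 : φ d ≠ 0 := fun h => hd0 (hinj (h.trans (map_zero _).symm))
  let g : Localization.Away d →+* Localization.Away (φ d) := Localization.awayMap φ d
  have hbij : Function.Bijective g := by
    refine ⟨Localization.awayMap_injective_iff.2 fun a ha => ⟨0, ?_⟩, Localization.awayMap_surjective_iff.2 fun a => ?_⟩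
    · rw [hinj (ha.trans (map_zero _).symm), mul_zero]
    · obtain ⟨b, hb⟩ := hall a
      exact ⟨b, 1, by rw [pow_one]; exact hb⟩
  haveI : IsIntegrallyClosed (Localization.Away (φ d)) :=
    isIntegrallyClosed_of_isLocalization _ (Submonoid.powers (φ d)) (powers_le_nonZeroDivisors_of_noZeroDivisors hC0)
  exact IsIntegrallyClosed.of_equiv (R := Localization.Away (φ d)) (S := Localization.Away d) (RingEquiv.ofBijective g hbij).symm

theorem exists_normal_away_aux (B T K : Type u) [CommRing B] [CommRing T] [IsDomain T] [Field K]
    [Algebra B T] [Algebra.IsIntegral B T] [Algebra B K] [Algebra T K] [IsScalarTower B T K] [IsFractionRing T K]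
    (hC : Module.Finite B (integralClosure B K)) : ∃ f : T, f ≠ 0 ∧ IsIntegrallyClosed (Localization.Away f) := by
  classical
  obtain ⟨s, hs⟩ := hC
  obtain ⟨⟨d, hd⟩, hd'⟩ := IsLocalization.exist_integer_multiples_of_finset (nonZeroDivisors T) (s.image fun z : integralClosure B K => (z : K))
  have hall : ∀ z : integralClosure B K, ∃ b : T, algebraMap T K b = algebraMap T K d * (z : K) := by
    intro z
    have hz : z ∈ Submodule.span B (s : Set (integralClosure B K)) := hs ▸ Submodule.mem_top
    induction hz using Submodule.span_induction with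
    | mem z hz =>
      obtain ⟨b, hb⟩ := hd' _ (Finset.mem_image_of_mem _ hz)
      exact ⟨b, hb.trans (Algebra.smul_def _ _)⟩
    | zero => exact ⟨0, by rw [map_zero, ZeroMemClass.coe_zero, mul_zero]⟩
    | add x y _ _ hx hy =>
      obtain ⟨b, hb⟩ := hx
      obtain ⟨c, hc⟩ := hy
      exact ⟨b + c, by rw [map_add, hb, hc, ← mul_add]; rfl⟩
    | smul r x _ hx =>
      obtain ⟨b, hb⟩ := hx
      exact ⟨algebraMap B T r * b, by rw [map_mul, hb, ← IsScalarTower.algebraMap_apply, SetLike.val_smul, Algebra.smul_def]; ring⟩
  let φ : T →+* integralClosure B K :=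
    ((IsScalarTower.toAlgHom B T K).codRestrict (integralClosure B K)
      fun t => (Algebra.IsIntegral.isIntegral (R := B) t).map (IsScalarTower.toAlgHom B T K)).toRingHom
  haveI : IsIntegrallyClosed (integralClosure B K) := _root_.Groth.Agent.NormalizationLib.isIntegrallyClosed_integralClosure B K
  exact ⟨d, nonZeroDivisors.ne_zero hd, normal_away_of_bounded T (integralClosure B K) φ
    (fun a b h => IsFractionRing.injective T K (congrArg Subtype.val h)) d (nonZeroDivisors.ne_zero hd)
    fun z => (hall z).imp fun b hb => Subtype.ext hb⟩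

theorem exists_normal_away (B K' : Type u) [CommRing B] [IsDomain B] [Field K'] [Algebra B K']
    (hC : Module.Finite B (integralClosure B K')) (B' : Subalgebra B K') (hfin : Module.Finite B B')
    (hfr : IsFractionRing B' K') : ∃ f : B', f ≠ 0 ∧ IsIntegrallyClosed (Localization.Away f) := by
  haveI := hfin
  haveI := hfr
  exact exists_normal_away_aux B B' K' hC

/-- Let A be a Noetherian ring. Then every quotient of A by a prime ideal is N-2 (i.e. A is a Nagata
ring) if and only if (1) for every maximal ideal m of A every quotient of A_m by a prime ideal is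
N-2, and (2) for every prime p of A, writing B = A/p with fraction field K, for every finite purely
inseparable field extension K' of K and every sub-B-algebra B' of K' which is a finite B-module and
has K' as its fraction field, there is a nonzero element f of B' such that B'_f is an integrally
closed domain. -/
theorem result (A : Type u) [CommRing A] [IsNoetherianRing A] :
    CAlg.IsNagata A ↔
      ((∀ (m : Ideal A) [m.IsMaximal] (P : Ideal (Localization.AtPrime m)) [P.IsPrime],
          CAlg.IsN2 (Localization.AtPrime m ⧸ P)) ∧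
        ∀ (p : Ideal A) [p.IsPrime] (K' : Type u) [Field K'] [Algebra (A ⧸ p) K']
          [Algebra (FractionRing (A ⧸ p)) K'] [IsScalarTower (A ⧸ p) (FractionRing (A ⧸ p)) K']
          [FiniteDimensional (FractionRing (A ⧸ p)) K'] [IsPurelyInseparable (FractionRing (A ⧸ p)) K']
          (B' : Subalgebra (A ⧸ p) K'), Module.Finite (A ⧸ p) B' → IsFractionRing B' K' →
            ∃ f : B', f ≠ 0 ∧ IsIntegrallyClosed (Localization.Away f)) := by
  constructor
  · intro hA
    refine ⟨fun m _ => (_root_.Groth.Agent.S4710.result A hA m.primeCompl).2,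
      fun p _ K' _ _ _ _ _ _ B' hfin hfr => ?_⟩
    exact exists_normal_away (A ⧸ p) K' (isN2_apply (hA.2 p) (FractionRing (A ⧸ p)) K') B' hfin hfr
  · rintro ⟨h1, h2⟩
    have hloc : ∀ (m : Ideal A) [m.IsMaximal], CAlg.IsNagata (Localization.AtPrime m) := fun m _ =>
      ⟨IsLocalization.isNoetherianRing m.primeCompl _ inferInstance, fun P _ => h1 m P⟩
    refine ⟨inferInstance, fun p _ => isN2_of_purelyInseparable (FractionRing (A ⧸ p)) fun L _ _ _ _ _ _ => ?_⟩
    obtain ⟨D, hD, hDfrac⟩ := _root_.Groth.Agent.CommAlg6.exists_finite_model (B := A ⧸ p) (K := FractionRing (A ⧸ p)) (L := L)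
    obtain ⟨f, hf0, hf⟩ := h2 p L D hD hDfrac
    haveI := hD
    haveI := hDfrac
    letI : Algebra A D := ((algebraMap (A ⧸ p) D).comp (algebraMap A (A ⧸ p))).toAlgebra
    haveI : IsScalarTower A (A ⧸ p) D := .of_algebraMap_eq fun _ => rfl
    haveI : Algebra.FiniteType A D := Algebra.FiniteType.trans (S := A ⧸ p) inferInstance inferInstance
    haveI : IsNoetherianRing D := IsNoetherianRing.of_finite (A ⧸ p) D
    exact fin_ic_of_finite_base (B := D) ((isN1_iff_finite L).mp (isN1_of_local A D hloc hf0 hf))

end Groth.Agent.S12125
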