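import Groth.Statements.S12129
import Mathlib.AlgebraicGeometry.Properties
import Mathlib.AlgebraicGeometry.Morphisms.FiniteType

set_option autoImplicit false
universe u
open EGA2

namespace Groth.Agent.S12129

open AlgebraicGeometry CategoryTheory in
/-- Let X be a scheme of finite type over a field k. Then the local ring of X at every closed point has
dimension one if and only if the irreducible closed subsets of X other than its irreducible
components are exactly the (singletons of) closed points of X — that is, every irreducible closed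
subset which is not an irreducible component is a closed point, and no closed point is by itself an
irreducible component. -/
theorem result (k : Type u) [Field k] (X : Scheme.{u})
    [X.Over (Spec (CommRingCat.of k))] [LocallyOfFiniteType (X ↘ (Spec (CommRingCat.of k)))]
    [QuasiCompact (X ↘ (Spec (CommRingCat.of k)))] :
    (∀ x : X, IsClosed ({x} : Set X) → ringKrullDim (X.presheaf.stalk x) = 1) ↔
      ((∀ F : Set X, IsClosed F → IsIrreducible F → F ∉ irreducibleComponents (X : Type u) →
          ∃ x : X, IsClosed ({x} : Set X) ∧ F = {x}) ∧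
        ∀ x : X, IsClosed ({x} : Set X) → ({x} : Set X) ∉ irreducibleComponents (X : Type u)) := by
  have : JacobsonSpace X := LocallyOfFiniteType.jacobsonSpace (X ↘ Spec (CommRingCat.of k))
  have hle : ∀ x y : X, x ≤ y ↔ y ⤳ x := fun x y => Iff.rfl
  have hsub : ∀ x y : X, closure ({x} : Set X) ⊆ closure {y} ↔ x ≤ y := fun x y => by
    rw [hle, specializes_iff_closure_subset]
  have hanti : ∀ x y : X, x ≤ y → y ≤ x → x = y := fun x y hxy hyx =>
    (((hle x y).mp hxy).antisymm ((hle y x).mp hyx)).eq.symm
  have hcomp : ∀ x : X, closure {x} ∈ irreducibleComponents (X : Type u) ↔ IsMax x := by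
    intro x
    rw [irreducibleComponents_eq_maximals_closed]
    constructor
    · intro h y hy
      exact (hsub y x).mp (h.2 ⟨isClosed_closure, isIrreducible_singleton.closure⟩ ((hsub x y).mpr hy))
    · refine fun h => ⟨⟨isClosed_closure, isIrreducible_singleton.closure⟩, fun F hF hxF => ?_⟩
      obtain ⟨y, hy⟩ := QuasiSober.sober hF.2 hF.1
      rw [← hy.def] at hxF ⊢
      exact (hsub y x).mpr (h ((hsub x y).mp hxF))
  have hdim : ∀ x : X, ringKrullDim (X.presheaf.stalk x) = 1 ↔
      ¬ IsMax x ∧ ∀ y > x, IsMax y := fun x => by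
    rw [ringKrullDim_stalk_eq_coheight,
      show (Order.coheight x : WithBot ℕ∞) = 1 ↔ Order.coheight x = ((1 : ℕ) : ℕ∞) from
        WithBot.coe_eq_one.trans (by rw [Nat.cast_one]), le_antisymm_iff, Order.coheight_le_coe_iff,
      Nat.cast_one, Order.one_le_iff_pos, pos_iff_ne_zero, ne_eq, Order.coheight_eq_zero, and_comm]
    simp only [Order.lt_one_iff, Order.coheight_eq_zero]
  constructor
  · intro h
    refine ⟨fun F hFc hFi hFcomp => ?_, fun x hx hxc => ?_⟩
    · obtain ⟨η, hη⟩ := QuasiSober.sober hFi hFc
      obtain ⟨x, hxF, hx⟩ := nonempty_inter_closedPoints (X := X) hFi.nonempty hFc.isLocallyClosed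
      refine ⟨x, hx, ?_⟩
      rw [← hη.def] at hFcomp hxF ⊢
      rcases eq_or_ne x η with rfl | hne
      · exact hx.closure_eq
      · refine absurd ((hcomp η).mpr (((hdim x).mp (h x hx)).2 η ?_)) hFcomp
        have hxη : x ≤ η := (hle x η).mpr (specializes_iff_mem_closure.mpr hxF)
        exact lt_of_le_not_ge hxη fun h' => hne (hanti x η hxη h')
    · rw [← hx.closure_eq] at hxc
      exact ((hdim x).mp (h x hx)).1 ((hcomp x).mp hxc)
  · rintro ⟨h1, h2⟩ x hx
    refine (hdim x).mpr ⟨fun hmax => h2 x hx (hx.closure_eq ▸ (hcomp x).mpr hmax), fun y hy => ?_⟩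
    by_contra hy'
    obtain ⟨z, hz, hzy⟩ := h1 (closure {y}) isClosed_closure isIrreducible_singleton.closure
      (fun hc => hy' ((hcomp y).mp hc))
    have hx' : x ∈ ({z} : Set X) := by
      rw [← hzy]; exact specializes_iff_mem_closure.mp ((hle x y).mp hy.le)
    have hy'' : y ∈ ({z} : Set X) := by rw [← hzy]; exact subset_closure rfl
    rw [Set.mem_singleton_iff] at hx' hy''
    exact hy.ne (hx'.trans hy''.symm)

end Groth.Agent.S12129
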