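import Groth.Statements.S12134
import Groth.Agent.EGA43.GrFlat.Stratify
-- import your own Groth.Agent.* helpers here

set_option autoImplicit false
set_option backward.isDefEq.respectTransparency false
universe u
open scoped TensorProduct
open EGA43

namespace Groth.Agent.S12134

open AlgebraicGeometry CategoryTheory in
/-- Suppose A₀ is a Noetherian ring and B₀ is a finitely generated A₀-algebra; fix an ideal J₀ ⊆ B₀ and
a finite B₀-module M₀. Then Spec A₀ admits finitely many affine subschemes S_1, …, S_m — presented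
as immersions Spec A_i → Spec A₀ — whose underlying sets are mutually disjoint with union all of
Spec A₀, such that each S_i is open in S_i ∪ S_{i+1} ∪ … ∪ S_m, and such that for each i, setting
N_i = A_i ⊗_{A₀} M₀, the graded module associated to the J₀-adic filtration on N_i is A_i-flat.
Concretely, for every n the A_i-module J₀ⁿN_i / J₀ⁿ⁺¹N_i is flat, where this quotient is encoded as
the image of J₀ⁿN_i inside N_i / J₀ⁿ⁺¹N_i, and J₀ⁿN_i denotes the image in N_i of A_i ⊗_{A₀} J₀ⁿM₀. -/
theorem result {A₀ : Type u} [CommRing A₀] [IsNoetherianRing A₀]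
    {B₀ : Type u} [CommRing B₀] [Algebra A₀ B₀] [Algebra.FiniteType A₀ B₀] (J₀ : Ideal B₀)
    (M₀ : Type u) [AddCommGroup M₀] [Module B₀ M₀] [Module A₀ M₀] [IsScalarTower A₀ B₀ M₀]
    [Module.Finite B₀ M₀] :
    ∃ (m : ℕ) (A : Fin m → Type u) (_ : ∀ i, CommRing (A i)) (_ : ∀ i, Algebra A₀ (A i)),
      (∀ i, IsImmersion (Spec.map (CommRingCat.ofHom (algebraMap A₀ (A i))))) ∧
      (∀ i j, i ≠ j → Disjoint (Set.range (Spec.map (CommRingCat.ofHom (algebraMap A₀ (A i)))))
        (Set.range (Spec.map (CommRingCat.ofHom (algebraMap A₀ (A j)))))) ∧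
      (⋃ i, Set.range (Spec.map (CommRingCat.ofHom (algebraMap A₀ (A i)))) = Set.univ) ∧
      (∀ i, ∃ U : Set (Spec (CommRingCat.of A₀)), IsOpen U ∧
        U ∩ (⋃ j, ⋃ (_ : i ≤ j), Set.range (Spec.map (CommRingCat.ofHom (algebraMap A₀ (A j))))) =
          Set.range (Spec.map (CommRingCat.ofHom (algebraMap A₀ (A i))))) ∧
      ∀ i (n : ℕ), Module.Flat (A i)
        ↥(Submodule.map
            (LinearMap.range (LinearMap.baseChange (A i)
              ((J₀ ^ (n + 1) • (⊤ : Submodule B₀ M₀)).restrictScalars A₀).subtype)).mkQ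
            (LinearMap.range (LinearMap.baseChange (A i)
              ((J₀ ^ n • (⊤ : Submodule B₀ M₀)).restrictScalars A₀).subtype))) := by
  obtain ⟨m, s, hd, hU, hfl⟩ := Groth.Agent.EGA43.GrFlat.Stratify.exists_stratification (R := A₀) J₀ M₀
  have hr := fun i => Groth.Agent.EGA43.GrFlat.Stratify.range_stratum (s i)
  have hdis : ∀ i j, i < j → Disjoint (Groth.Agent.EGA43.GrFlat.Stratify.stratum (s i))
      (Groth.Agent.EGA43.GrFlat.Stratify.stratum (s j)) := fun i j h =>
    Set.disjoint_left.2 fun x hxi hxj => hxi.2 (hd i j h hxj rfl)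
  refine ⟨m, fun i => Groth.Agent.EGA43.GrFlat.Stratify.StratumRing (s i), fun _ => inferInstance,
    fun _ => inferInstance, fun i => Groth.Agent.EGA43.GrFlat.Stratify.isImmersion_stratum (s i), fun i j hne => ?_,
    (Set.iUnion_congr hr).trans hU, fun i => ⟨(PrimeSpectrum.basicOpen (s i).2 : Set (PrimeSpectrum A₀)),
      (PrimeSpectrum.basicOpen (s i).2).isOpen, ?_⟩, fun i n => ?_⟩
  · rw [hr, hr]
    rcases lt_or_gt_of_ne hne with h | h
    · exact hdis i j h
    · exact (hdis j i h).symm
  · simp only [hr]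
    refine Set.Subset.antisymm ?_ fun x hx => ⟨hx.2, Set.mem_iUnion₂.2 ⟨i, le_rfl, hx⟩⟩
    rintro x ⟨hxi, hx⟩
    obtain ⟨j, hij, hxj⟩ := Set.mem_iUnion₂.1 hx
    rcases eq_or_lt_of_le hij with rfl | h
    · exact hxj
    · exact absurd (hd i j h hxj rfl) hxi
  · have := hfl i n
    have := hfl i (n + 1)
    exact Groth.Agent.EGA43.GrFlat.Stratify.flat_piece (Submodule.smul_mono (Ideal.pow_le_pow_right n.le_succ) le_rfl)

end Groth.Agent.S12134
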