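import Groth.Statements.S12136
import Groth.Agent.EGA41Lib.AdicSmoothQuotientSplit
import Mathlib

set_option backward.isDefEq.respectTransparency.types false

set_option autoImplicit false
universe u
open TensorProduct KaehlerDifferential
open EGA41

namespace Groth.Agent.S12136

/-- In the Noetherian adic case, which the published statement itself singles out, let A → B be a ring
homomorphism with B Noetherian, I and J ideals of B, and suppose B, with the I-adic topology, is
formally smooth over the discrete ring A. Put C = B/J with the quotient (IC-adic) topology and let Q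
be an ideal of definition of C, i.e. an ideal containing a power of IC and a power of which lies in
IC. Then C is formally smooth over A for the IC-adic topology if and only if the C/Q-linear map
(J/J²) ⊗ (C/Q) → Ω_{B/A} ⊗_B (C/Q), obtained by base change from the conormal map J/J² → Ω_{B/A} ⊗_B
C, x ↦ 1 ⊗ dx, has a C/Q-linear left inverse (is an isomorphism onto a direct summand). Here J is
written as the kernel of B → C and the tensor products are taken over B, which for these C-modules
is the same as over C. (The published statement allows A to be any topological ring with A → B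
continuous; this row takes A discrete.) -/
theorem result {A B : Type u} [CommRing A]
    [CommRing B] [Algebra A B] [IsNoetherianRing B] (I J : Ideal B) (hB : CAlgX.IsAdicFormallySmooth A B I)
    (Q : Ideal (B ⧸ J)) (hQ : ∃ n : ℕ, (I.map (Ideal.Quotient.mk J)) ^ n ≤ Q)
    (hQ' : ∃ m : ℕ, Q ^ m ≤ I.map (Ideal.Quotient.mk J)) :
    CAlgX.IsAdicFormallySmooth A (B ⧸ J) (I.map (Ideal.Quotient.mk J)) ↔
      ∃ g : ((B ⧸ J) ⧸ Q) ⊗[B] ((B ⧸ J) ⊗[B] Ω[B⁄A]) →ₗ[(B ⧸ J) ⧸ Q]
          ((B ⧸ J) ⧸ Q) ⊗[B] (RingHom.ker (algebraMap B (B ⧸ J))).Cotangent,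
        g ∘ₗ LinearMap.baseChange ((B ⧸ J) ⧸ Q) (KaehlerDifferential.kerCotangentToTensor A B (B ⧸ J)) =
          LinearMap.id := by
  classical
  let C := B ⧸ J
  let K := RingHom.ker (algebraMap B C)
  have hK : J = K := (Ideal.mk_ker (I := J)).symm
  let Qb : Ideal B := Q.comap (Ideal.Quotient.mk J)
  have hJQ : J ≤ Qb := fun x hx => by
    show Ideal.Quotient.mk J x ∈ Q
    rw [Ideal.Quotient.eq_zero_iff_mem.2 hx]; exact Q.zero_mem
  have hKQ : K ≤ Qb := hK ▸ hJQ
  obtain ⟨n, hn⟩ := hQ
  obtain ⟨m, hm⟩ := hQ'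
  have hIQ : I ^ n ≤ Qb := by
    rw [← Ideal.map_le_iff_le_comap, Ideal.map_pow]; exact hn
  have hQI : Qb ^ m ≤ I ⊔ J := fun x hx => by
    have h1 := Ideal.mem_map_of_mem (Ideal.Quotient.mk J) hx
    rw [Ideal.map_pow, Ideal.map_comap_of_surjective _ Ideal.Quotient.mk_surjective] at h1
    exact (Ideal.mem_quotient_iff_mem_sup).1 (hm h1)
  have hdata : (∃ d : Derivation A B (J ⧸ Qb • (⊤ : Submodule B J)), ∀ x : J, d x = Submodule.Quotient.mk x) ↔
      CAlgX.IsAdicFormallySmooth A C (I.map (Ideal.Quotient.mk J)) :=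
    ⟨fun ⟨d, hd⟩ => Groth.Agent.EGA41Lib.SplitJac.adicSmooth_of_exists_derivation hB hJQ hIQ hQI d hd,
      Groth.Agent.EGA41Lib.SplitJac.exists_derivation_of_adicSmooth hJQ hIQ⟩
  rw [← hdata]
  have hcast : ∀ J' : Ideal B, J' = K →
      ((∃ d : Derivation A B (J' ⧸ Qb • (⊤ : Submodule B J')), ∀ x : J', d x = Submodule.Quotient.mk x) ↔
       ∃ d : Derivation A B (K ⧸ Qb • (⊤ : Submodule B K)), ∀ x : K, d x = Submodule.Quotient.mk x) := fun J' h => by
    subst h; rfl
  rw [hcast J hK]
  exact Groth.Agent.EGA41Lib.SplitJac.exists_derivation_iff_leftInverse Q Qb (fun x => Iff.rfl) hKQ Ideal.Quotient.mk_surjective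

end Groth.Agent.S12136
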