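import Groth.Statements.S12137
import Groth.Agent.ProjLib.TrivialGrading
import Groth.Agent.RelConeLib.ConeImm
-- import your own Groth.Agent.* helpers here

set_option autoImplicit false
set_option backward.isDefEq.respectTransparency.types false
universe u
open CategoryTheory CategoryTheory.Limits AlgebraicGeometry Opposite TopologicalSpace
open scoped HomogeneousIdeal
noncomputable section
open EGA2

namespace Groth.Agent.S12137

/-- Let Y be a scheme, 𝒜 a quasi-coherent O_Y-algebra and Ŝ = 𝒜[T], graded with 𝒜 in degree 0 and T in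
degree 1 — presented through a homomorphism of algebras ι : 𝒜 → Ŝ landing in degree 0 and a global
section z of Ŝ of degree 1 such that, over every affine open U, the map 𝒜(U)[X] → Ŝ(U) sending X to
z is bijective — and let p : P → Y with its charts be the relative homogeneous spectrum Proj(Ŝ). For
each affine open U let θ_U : Ŝ(U)_(z) → 𝒜(U) be the ring isomorphism sending ι(a) z^k / z^k to a.
Then there is a unique morphism i : Spec(𝒜) → P which, on the chart Spec 𝒜(U) of Spec(𝒜) over each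
affine open U, is Spec(θ_U) followed by the open immersion of D_+(z|U) into Proj Ŝ(U) and the chart
of P; moreover i is an isomorphism and lies over Y. In particular Proj(O_Y[T]) is Y. -/
theorem result {Y P : Scheme.{u}} (𝒜 : RelSpec.QCAlg Y) (Sh : RelProj.QCGrAlg Y)
    (ι : 𝒜 ⟶ Sh.toQCAlg)
    (hι : ∀ (U : Y.Opens) (hU : IsAffineOpen U) (a : 𝒜.presheaf.obj (op U)), (ι.hom.app (op U)).hom a ∈ Sh.deg U hU 0)
    (z : Sh.presheaf.obj (op ⊤))
    (hz : ∀ (U : Y.Opens) (hU : IsAffineOpen U), (Sh.presheaf.map (homOfLE le_top).op).hom z ∈ Sh.deg U hU 1)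
    (hpoly : ∀ (U : Y.Opens) (hU : IsAffineOpen U),
      Function.Bijective (Polynomial.eval₂RingHom (ι.hom.app (op U)).hom ((Sh.presheaf.map (homOfLE le_top).op).hom z)))
    (p : P ⟶ Y)
    (chart : ∀ (U : Y.Opens) (hU : IsAffineOpen U), (((p ⁻¹ᵁ U : P.Opens) : Scheme.{u}) ≅ Proj (Sh.deg U hU)))
    (hP : RelProj.IsRelProj Sh p chart)
    (θ : ∀ (U : Y.Opens) (hU : IsAffineOpen U),
      CommRingCat.of (HomogeneousLocalization.Away (Sh.deg U hU) ((Sh.presheaf.map (homOfLE le_top).op).hom z)) ⟶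
        𝒜.presheaf.obj (op U))
    (hθ : ∀ (U : Y.Opens) (hU : IsAffineOpen U)
      (q : HomogeneousLocalization.Away (Sh.deg U hU) ((Sh.presheaf.map (homOfLE le_top).op).hom z))
      (k : ℕ) (a : 𝒜.presheaf.obj (op U)),
        q.val = Localization.mk ((ι.hom.app (op U)).hom a * (Sh.presheaf.map (homOfLE le_top).op).hom z ^ k)
          ⟨(Sh.presheaf.map (homOfLE le_top).op).hom z ^ k,
            pow_mem (Submonoid.mem_powers ((Sh.presheaf.map (homOfLE le_top).op).hom z)) k⟩ →
        (θ U hU).hom q = a) :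
    (∃! i : 𝒜.spec ⟶ P, ∀ (U : Y.Opens) (hU : IsAffineOpen U),
        𝒜.ι U hU ≫ i =
          Spec.map (θ U hU) ≫
            Proj.awayι (Sh.deg U hU) ((Sh.presheaf.map (homOfLE le_top).op).hom z) (hz U hU) one_pos ≫
              RelProj.emb p chart U hU) ∧
      ∀ i : 𝒜.spec ⟶ P, (∀ (U : Y.Opens) (hU : IsAffineOpen U),
        𝒜.ι U hU ≫ i =
          Spec.map (θ U hU) ≫
            Proj.awayι (Sh.deg U hU) ((Sh.presheaf.map (homOfLE le_top).op).hom z) (hz U hU) one_pos ≫
              RelProj.emb p chart U hU) →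
        IsIso i ∧ i ≫ p = 𝒜.π := by
  classical
  let 𝒮 := ProjLib.trivGrAlg 𝒜
  let ι' : 𝒮.toQCAlg ⟶ Sh.toQCAlg := ι
  have hgr : RelProj.IsGradedHom ι' := fun U hU d x hx => by
    rcases ProjLib.mem_trivDeg_iff.mp hx with rfl | rfl
    · exact hι U hU x
    · rw [map_zero]; exact zero_mem _
  have hθ' : ∀ (U : Y.Opens) (hU : IsAffineOpen U) (q : HomogeneousLocalization.Away (Sh.deg U hU)
      (RelConeLib.zAt Sh z U)) (k : ℕ) (x : 𝒮.presheaf.obj (op U)), x ∈ 𝒮.deg U hU k →
      q.val = Localization.mk ((ι'.hom.app (op U)).hom x)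
        ⟨RelConeLib.zAt Sh z U ^ k, pow_mem (Submonoid.mem_powers (RelConeLib.zAt Sh z U)) k⟩ →
      (θ U hU).hom q = x := fun U hU q k x hx hq => by
    rcases ProjLib.mem_trivDeg_iff.mp hx with rfl | rfl
    · refine hθ U hU q 0 x (hq.trans ?_)
      congr 1
      rw [pow_zero, mul_one]
      rfl
    · refine hθ U hU q 0 0 (hq.trans ?_)
      erw [map_zero]
      rw [zero_mul, Localization.mk_zero, Localization.mk_zero]
  refine ⟨RelConeLib.existsUnique_coneImm 𝒮 Sh ι' hgr z hz hpoly p chart θ hθ' hP, fun i hi => ⟨?_, ?_⟩⟩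
  · rw [isIso_iff_isOpenImmersion_and_surjective]
    refine ⟨RelConeLib.isOpenImmersion_coneImm 𝒮 Sh ι' hgr z hz hpoly p chart θ hθ' hP i hi, ⟨fun c => ?_⟩⟩
    obtain ⟨⟨U, hU'⟩, hc⟩ := RelSpecLib.affineOpens_cover (p c)
    have hU : IsAffineOpen U := hU'
    obtain ⟨y, rfl⟩ := RelConeLib.exists_emb_eq Sh p chart U hU c hc
    refine (RelConeLib.mem_range_coneImm_iff 𝒮 Sh ι' hgr z hz hpoly p chart θ hθ' hP i hi U hU y).mpr fun hzy => ?_
    refine y.not_irrelevant_le ((HomogeneousIdeal.irrelevant_le _).mpr fun d hd x hx' => ?_)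
    have hx : x ∈ Sh.deg U hU d := hx'
    obtain ⟨f, hf⟩ := (hpoly U hU).2 x
    have hmem : ∀ k (a : 𝒜.presheaf.obj (op U)),
        (ι.hom.app (op U)).hom a * RelConeLib.zAt Sh z U ^ k ∈ Sh.deg U hU k := fun k a => by
      simpa using SetLike.mul_mem_graded (hι U hU a) (SetLike.pow_mem_graded k (hz U hU))
    have hxd : x = (ι.hom.app (op U)).hom (f.coeff d) * RelConeLib.zAt Sh z U ^ d := by
      rw [← DirectSum.decompose_of_mem_same (Sh.deg U hU) hx, ← hf, Polynomial.coe_eval₂RingHom,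
        Polynomial.eval₂_eq_sum, Polynomial.sum, DirectSum.decompose_sum, DFinsupp.finset_sum_apply,
        AddSubmonoidClass.coe_finset_sum, Finset.sum_eq_single d]
      · rw [DirectSum.decompose_of_mem_same _ (hmem d _)]
      · exact fun k _ hk => DirectSum.decompose_of_mem_ne _ (hmem k _) hk
      · intro hn
        rw [Polynomial.notMem_support_iff.mp hn, map_zero, zero_mul, DirectSum.decompose_zero]
        rfl
    show x ∈ y.asHomogeneousIdeal.toIdeal
    rw [hxd]
    exact Ideal.mul_mem_left _ _ (Ideal.pow_mem_of_mem _ hzy d hd)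
  · exact RelConeLib.coneImm_over 𝒮 Sh ι' hgr z hz hpoly p chart θ hθ' hP i hi

end Groth.Agent.S12137
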