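import Groth.Statements.S12141
import Groth.Agent.ProjLib.QBaseChange
-- import your own Groth.Agent.* helpers here

set_option autoImplicit false
set_option backward.isDefEq.respectTransparency.types false
universe u
open CategoryTheory CategoryTheory.Limits AlgebraicGeometry TopologicalSpace Opposite
open scoped HomogeneousIdeal
noncomputable section
open EGA2
open Groth.Agent.QProj

namespace Groth.Agent.S12141

/-- Let ψ : Y' → Y be a morphism of schemes, 𝒮 a quasi-coherent positively graded O_Y-algebra and 𝒮' =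
ψ^*𝒮, presented as a quasi-coherent graded O_{Y'}-algebra with a graded ψ-morphism u : 𝒮 → ψ_*𝒮'
whose squares over affine opens U' ⊆ ψ⁻¹(U) are pushouts of rings; let P = Proj(𝒮), P' = Proj(𝒮')
with their charts. Then the morphism Proj(u) : P' → P is everywhere defined (its open of definition
G(u) is P' and it exists, pinned on the standard affine charts), and any such morphism identifies P'
with the fibre product P ×_Y Y'. -/
theorem result {Y Y' P P' : Scheme.{u}} (ψ : Y' ⟶ Y)
    (𝒮 : RelProj.QCGrAlg Y) (𝒮' : RelProj.QCGrAlg Y') (u : RelProj.QGrHom ψ 𝒮 𝒮')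
    (hu : RelSpec.IsQBaseChange u.toQHom)
    (p : P ⟶ Y) (chart : ∀ (U : Y.Opens) (hU : IsAffineOpen U), (((p ⁻¹ᵁ U : P.Opens) : Scheme.{u}) ≅ Proj (𝒮.deg U hU)))
    (hP : RelProj.IsRelProj 𝒮 p chart)
    (p' : P' ⟶ Y') (chart' : ∀ (U : Y'.Opens) (hU : IsAffineOpen U), (((p' ⁻¹ᵁ U : P'.Opens) : Scheme.{u}) ≅ Proj (𝒮'.deg U hU)))
    (hP' : RelProj.IsRelProj 𝒮' p' chart') :
    (∃ h : P' ⟶ P, RelProj.IsProjQMap u p chart p' chart' h) ∧
      ∀ h : P' ⟶ P, RelProj.IsProjQMap u p chart p' chart' h → IsPullback h p' p ψ := by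
  have hirr := irrelevant_le_of_isQBaseChange u hu
  have htop : RelProj.domQ u p' chart' = ⊤ := by
    refine eq_top_iff.mpr fun z _ => ?_
    obtain ⟨i, hi⟩ := exists_pair (g := ψ) (p' z)
    obtain ⟨y, rfl⟩ := (range_emb (p := p') (chart := chart') i.1.2.1 i.1.2.2).ge hi
    have hy : y ∈ RelCone.domOpen (psi u i) := by
      by_contra hc
      refine y.not_irrelevant_le ((hirr i.1.1.1 i.1.1.2 i.1.2.1 i.1.2.2 i.2).trans
        (Ideal.map_le_of_le_comap fun a ha => ?_))
      by_contra ha'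
      exact hc ((RelCone.mem_domOpen _ _).mpr ⟨a, ha, ha'⟩)
    exact ((domQ_inf_preimage u hP' i.1.1.1 i.1.1.2 i.1.2.1 i.1.2.2 i.2).ge ⟨y, hy, rfl⟩).1
  refine ⟨?_, fun h hh => ?_⟩
  · obtain ⟨v, hv, -⟩ := existsUnique_qMap u hP hP'
    have : IsIso (⊤ : P'.Opens).ι := P'.topIso.isIso_hom
    have : IsIso (RelProj.domQ u p' chart').ι := by
      rw [← Scheme.isoOfEq_hom_ι P' htop]
      infer_instance
    refine ⟨inv (RelProj.domQ u p' chart').ι ≫ v, htop, fun U hU U' hU' hle d hd f hf => ?_⟩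
    rw [← hv U hU U' hU' hle d hd f hf (RelProj.range_awayEmb_subset_domQ u p' chart' U hU U' hU' hle hd f hf),
      ← Category.assoc]
    congr 1
    rw [IsIso.comp_inv_eq, IsOpenImmersion.lift_fac]
  · refine ProjLib.isPullback_relProj ψ hP hP' h (fun U hU U' hU' hle => u.gradedAt U hU U' hU' hle) hirr
      (fun U hU U' hU' hle => hu U hU U' hU' hle) fun U hU U' hU' hle => ?_
    have key : RelProj.emb p' chart' U' hU' ≫ h =
        Proj.map (u.gradedAt U hU U' hU' hle) (hirr U hU U' hU' hle) ≫ RelProj.emb p chart U hU := by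
      refine (Proj.mapAffineOpenCover _ (hirr U hU U' hU' hle)).openCover.hom_ext _ _ fun s => ?_
      obtain ⟨⟨d, hd⟩, f, hf⟩ := s
      refine (Eq.trans ?_ (hh.2 U hU U' hU' hle d hd f hf)).trans ?_
      · exact (Category.assoc _ _ _).symm
      · rw [← ProjLib.awayMapTo_rfl, ← Category.assoc, ← ProjLib.awayι_comp_map' _ (hirr U hU U' hU' hle) hd f hf _ rfl,
          Category.assoc]
        rfl
    rw [← key, RelProj.emb, Category.assoc, Iso.hom_inv_id_assoc]

end Groth.Agent.S12141
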