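import Groth.Statements.S1215
import Groth.Agent.FlatMorDevissage.LocalModelApps

set_option autoImplicit false
universe u
open FlatMor

namespace Groth.Agent.S1215

/-- Let A → B be a local homomorphism of local rings which is essentially of finite type, with A
henselian, and N a finite B-module flat over A. Then N is a Mittag-Leffler A-module. (The source
moreover writes N as a filtered colimit of free A-modules with transition maps injective modulo 𝔪_A;
only the Mittag-Leffler conclusion is stated here.) -/
theorem result {A B : Type u} [CommRing A] [HenselianLocalRing A] [CommRing B] [IsLocalRing B] [Algebra A B]
    [IsLocalHom (algebraMap A B)] [Algebra.EssFiniteType A B]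
    (N : Type u) [AddCommGroup N] [Module B N] [Module A N] [IsScalarTower A B N] [Module.Finite B N] [Module.Flat A N] :
    CAlg.IsMittagLeffler A N := by
  exact Groth.Agent.FlatMorDevissage.isMittagLeffler_of_henselian (B := B) N

end Groth.Agent.S1215
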