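import Groth.Statements.S12152
import Groth.Agent.ProjLib.QCrit
import Groth.Agent.ProjLib.QDominant
-- import your own Groth.Agent.* helpers here

set_option autoImplicit false
set_option backward.isDefEq.respectTransparency.types false
universe u
open CategoryTheory CategoryTheory.Limits AlgebraicGeometry TopologicalSpace Opposite
open scoped HomogeneousIdeal
noncomputable section
open EGA2
open Groth.Agent.QProj

namespace Groth.Agent.S12152

/-- Let q : X → Y be a morphism with Y affine, L an invertible O_X-module with 𝒮L = ⊕ L^{⊗n} (whose Proj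
is X), 𝒮 a quasi-coherent positively graded O_Y-algebra with S = Γ(Y, 𝒮), ψ♭ = u : 𝒮 → q_*𝒮L a
graded q-morphism and r = r_{L,ψ} : G(ψ) → P = Proj(𝒮). For a family s_a ∈ S_{n_a} (n_a > 0) put f_a
= ψ♭(s_a) ∈ Γ(X, L^{⊗n_a}) and let X_{f_a} be the open where f_a does not vanish; conditions: (i)
the X_{f_a} cover X; (ii) the X_{f_a} are affine; (iii) every function t on X_{f_a} is of the form
ψ♭(s') f_a^{-m} with m > 0 and s' ∈ S_{m n_a} (that is, t f_a^m = ψ♭(s') in 𝒮L(X_{f_a})); (v) the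
opens D_+(s_a) cover Proj S. Then r is everywhere defined and a closed immersion if and only if
there is a family (s_a) satisfying (i), (ii), (iii) and (v). -/
theorem result {Y X P PL : Scheme.{u}} (q : X ⟶ Y)
    (L : X.Modules) (hL : PicF.IsInvertible L) (hLq : Coh.IsQCoh L)
    (𝒮 : RelProj.QCGrAlg Y) (𝒮L : RelProj.QCGrAlg X) (j : L ⟶ 𝒮L.toModule) (hj : RelProj.IsGrSymAlg L 𝒮L j)
    (u : RelProj.QGrHom q 𝒮 𝒮L)
    (p : P ⟶ Y) (chart : ∀ (U : Y.Opens) (hU : IsAffineOpen U), (((p ⁻¹ᵁ U : P.Opens) : Scheme.{u}) ≅ Proj (𝒮.deg U hU)))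
    (hP : RelProj.IsRelProj 𝒮 p chart)
    (pL : PL ⟶ X) (chartL : ∀ (U : X.Opens) (hU : IsAffineOpen U), (((pL ⁻¹ᵁ U : PL.Opens) : Scheme.{u}) ≅ Proj (𝒮L.deg U hU)))
    (hPL : RelProj.IsRelProj 𝒮L pL chartL)
    (r : ((RelProj.domQ u pL chartL : PL.Opens) : Scheme.{u}) ⟶ P)
    (hr : RelProj.IsProjQMapOn u p chart pL chartL (RelProj.domQ u pL chartL) r)
    (hY : IsAffineOpen (⊤ : Y.Opens)) :
    (RelProj.domQ u pL chartL = ⊤ ∧ IsClosedImmersion r) ↔
      ∃ (ι : Type u) (n : ι → ℕ) (s : ι → 𝒮.presheaf.obj (op ⊤)) (XT : ι → X.Opens),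
        (∀ a, 0 < n a ∧ s a ∈ 𝒮.deg ⊤ hY (n a)) ∧
        (∀ a, XT a = (⨆ V : {V : X.affineOpens //
          ((𝒮L.deg V.1 V.2 (n a) : AddSubgroup (𝒮L.presheaf.obj (op (V.1 : X.Opens)))) : Set (𝒮L.presheaf.obj (op (V.1 : X.Opens)))) ⊆
            (Ideal.span {(u.appLE ⊤ (V.1 : X.Opens) (le_top.trans (Scheme.Hom.preimage_top q).ge)).hom (s a)} : Set (𝒮L.presheaf.obj (op (V.1 : X.Opens))))},
          (V.1.1 : X.Opens))) ∧
        (⨆ a, XT a) = ⊤ ∧ (∀ a, IsAffineOpen (XT a)) ∧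
        (∀ (a : ι) (t : X.presheaf.obj (op (XT a))), ∃ (m : ℕ) (_ : 0 < m) (s' : 𝒮.presheaf.obj (op ⊤)) (_ : s' ∈ 𝒮.deg ⊤ hY (m * n a)),
            (𝒮L.str.app (op (XT a))).hom t * ((u.appLE ⊤ (XT a) (le_top.trans (Scheme.Hom.preimage_top q).ge)).hom (s a)) ^ m =
              (u.appLE ⊤ (XT a) (le_top.trans (Scheme.Hom.preimage_top q).ge)).hom s') ∧
        (⨆ a, Proj.basicOpen (𝒮.deg ⊤ hY) (s a)) = ⊤ := by
  have : Coh.IsQCoh L := hLq
  have := isIso_line hj hPL hL hLq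
  constructor
  · rintro ⟨htop, himm⟩
    choose n hn s hs hxs using fun x : P => exists_nz_mem (chart := chart) (x := x) ⊤ hY (Set.mem_univ _)
    have hSO := fun x => isSOpen_sLocus hj hL u hPL hY (hs x)
    have hcl := fun x => (isClosedImmersion_restrict_iff u hP hPL hr hY (hn x) (hs x) (hSO x)).mp
      (IsZariskiLocalAtTarget.restrict (P := @IsClosedImmersion) himm _)
    refine ⟨_, n, s, fun x => sLocus u (n x) (s x), fun x => ⟨hn x, hs x⟩, fun x => rfl,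
      eq_top_iff.mpr fun x _ => ?_, fun x => (hcl x).1,
      fun x => (surjective_theta_iff hj hL u hP hPL hr hY (hn x) (hs x) (hSO x)).mp (hcl x).2,
      eq_top_iff.mpr fun y _ => ?_⟩
    · let a : (RelProj.domQ u pL chartL).toScheme := ⟨inv pL x, htop.ge (Set.mem_univ _)⟩
      refine Opens.mem_iSup.mpr ⟨r a, ?_⟩
      exact pL_inv_apply (pL := pL) x ▸
        (mem_preimage_iff u hP hPL hr hY (hn (r a)) (hs (r a)) (hSO (r a)) a).mp (hxs (r a))
    · obtain ⟨w, hw, hwy⟩ := hxs (RelProj.emb p chart ⊤ hY y)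
      refine Opens.mem_iSup.mpr ⟨RelProj.emb p chart ⊤ hY y, ?_⟩
      exact (RelProj.emb p chart ⊤ hY).isOpenEmbedding.injective hwy ▸ hw
  · rintro ⟨ι, n, s, XT, hns, hXT, hcov, haff, hiii, hv⟩
    obtain rfl : XT = fun a => sLocus u (n a) (s a) := funext hXT
    have hSO := fun a => isSOpen_sLocus hj hL u hPL hY (hns a).2
    refine ⟨eq_top_iff.mpr fun z _ => ?_, IsZariskiLocalAtTarget.of_iSup_eq_top (P := @IsClosedImmersion)
      (fun a => nz chart ⊤ hY (s a)) (eq_top_iff.mpr fun x _ => ?_) fun a => ?_⟩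
    · obtain ⟨a, ha⟩ := Opens.mem_iSup.mp (hcov.ge (Set.mem_univ (pL z)))
      exact mem_domQ_of_mem u hPL hY (hns a).1 (hns a).2 (hSO a) ha
    · obtain ⟨y, rfl⟩ := (range_emb (p := p) (chart := chart) ⊤ hY).ge (x := x) (Set.mem_univ _)
      obtain ⟨a, ha⟩ := Opens.mem_iSup.mp (hv.ge (Set.mem_univ y))
      exact Opens.mem_iSup.mpr ⟨a, y, ha, rfl⟩
    · exact (isClosedImmersion_restrict_iff u hP hPL hr hY (hns a).1 (hns a).2 (hSO a)).mpr
        ⟨haff a, (surjective_theta_iff hj hL u hP hPL hr hY (hns a).1 (hns a).2 (hSO a)).mpr (hiii a)⟩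

end Groth.Agent.S12152
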