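import Groth.Statements.S12154
import Groth.Agent.ProjLib.QComp
-- import your own Groth.Agent.* helpers here

set_option autoImplicit false
set_option backward.isDefEq.respectTransparency.types false
universe u
open CategoryTheory CategoryTheory.Limits AlgebraicGeometry TopologicalSpace Opposite
open scoped HomogeneousIdeal
noncomputable section
open EGA2

namespace Groth.Agent.S12154

/-- Let q : X → Y be a morphism, L an invertible O_X-module with 𝒮L = ⊕ L^{⊗n} (whose Proj, with its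
charts, is X), v : 𝒯 → 𝒮 a graded homomorphism of quasi-coherent positively graded O_Y-algebras, ψ♭
= u : 𝒮 → q_*𝒮L a graded q-morphism and ψ'♭ = u' its composite with v; let r = r_{L,ψ} : G(ψ) →
Proj(𝒮) and r' = r_{L,ψ'} : G(ψ') → Proj(𝒯), with r' everywhere defined and v (TN)-surjective (v :
𝒯_k → 𝒮_k surjective for all large k, on sections over affine opens). If r' is an open immersion, so
is r; if r' is a closed immersion, so is r. -/
theorem result {Y X P PL P' : Scheme.{u}} (q : X ⟶ Y)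
    (L : X.Modules) (hL : PicF.IsInvertible L) (hLq : Coh.IsQCoh L)
    (𝒮 : RelProj.QCGrAlg Y) (𝒮L : RelProj.QCGrAlg X) (j : L ⟶ 𝒮L.toModule) (hj : RelProj.IsGrSymAlg L 𝒮L j)
    (u : RelProj.QGrHom q 𝒮 𝒮L)
    (p : P ⟶ Y) (chart : ∀ (U : Y.Opens) (hU : IsAffineOpen U), (((p ⁻¹ᵁ U : P.Opens) : Scheme.{u}) ≅ Proj (𝒮.deg U hU)))
    (hP : RelProj.IsRelProj 𝒮 p chart)
    (pL : PL ⟶ X) (chartL : ∀ (U : X.Opens) (hU : IsAffineOpen U), (((pL ⁻¹ᵁ U : PL.Opens) : Scheme.{u}) ≅ Proj (𝒮L.deg U hU)))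
    (hPL : RelProj.IsRelProj 𝒮L pL chartL)
    (r : ((RelProj.domQ u pL chartL : PL.Opens) : Scheme.{u}) ⟶ P)
    (hr : RelProj.IsProjQMapOn u p chart pL chartL (RelProj.domQ u pL chartL) r)
    (𝒯 : RelProj.QCGrAlg Y) (v : 𝒯.toQCAlg ⟶ 𝒮.toQCAlg) (hv : RelProj.IsGradedHom v)
    (u' : RelProj.QGrHom q 𝒯 𝒮L) (hu' : ∀ U : Y.Opens, u'.app U = v.hom.app (op U) ≫ u.app U)
    (p' : P' ⟶ Y) (chart' : ∀ (U : Y.Opens) (hU : IsAffineOpen U), (((p' ⁻¹ᵁ U : P'.Opens) : Scheme.{u}) ≅ Proj (𝒯.deg U hU)))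
    (hP' : RelProj.IsRelProj 𝒯 p' chart')
    (r' : ((RelProj.domQ u' pL chartL : PL.Opens) : Scheme.{u}) ⟶ P')
    (hr' : RelProj.IsProjQMapOn u' p' chart' pL chartL (RelProj.domQ u' pL chartL) r')
    (hTN : ∃ n : ℕ, ∀ k, n ≤ k → ∀ (U : Y.Opens) (hU : IsAffineOpen U), ∀ y ∈ 𝒮.deg U hU k,
      ∃ x ∈ 𝒯.deg U hU k, (v.hom.app (op U)).hom x = y)
    (hdef : RelProj.domQ u' pL chartL = ⊤) :
    (IsOpenImmersion r' → IsOpenImmersion r) ∧ (IsClosedImmersion r' → IsClosedImmersion r) := by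
  obtain ⟨N, hN⟩ := hTN
  have hle := Groth.Agent.QProj.domQ_comp_le u v hv u' hu' (p' := pL) (chart' := chartL)
  have htop : RelProj.domQ u pL chartL = ⊤ := top_le_iff.mp (hdef ▸ hle)
  obtain ⟨Φ, hΦ, -⟩ := Groth.Agent.QProj.existsUnique_qMap (RelProj.QGrHom.ofHom v hv) hP' hP
  obtain ⟨k, hk, hk'⟩ := Groth.Agent.QProj.exists_factor u v hv u' hu' hP hPL hr hr' hΦ
  have hcl : IsClosedImmersion Φ := Groth.Agent.QProj.qMap_property v hv hP' hP hΦ fun U hU d hd f hf =>
    IsClosedImmersion.spec_of_surjective _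
      (Groth.Agent.QProj.away_map_surjective_of_eventually (N := N) _ hd hf fun n hn b hb => by
        obtain ⟨a, ha, hab⟩ := hN n hn U hU b hb
        exact ⟨a, ha, (Groth.Agent.QProj.gradedAt_ofHom_apply v hv U hU a).trans hab⟩)
  have hv' := Groth.Agent.QProj.domQ_eq_top_of_eventually v hv hP hN
  have : IsIso (RelProj.domQ (RelProj.QGrHom.ofHom v hv) p chart).ι := by
    rw [hv']
    exact inferInstanceAs (IsIso P.topIso.hom)
  have : IsIso (PL.homOfLE hle) := by
    have e : RelProj.domQ u' pL chartL = RelProj.domQ u pL chartL := hdef.trans htop.symm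
    rw [← Scheme.isoOfEq_hom PL e]
    infer_instance
  constructor
  · intro h
    have h1 : IsOpenImmersion k :=
      MorphismProperty.of_postcomp (W := @IsOpenImmersion.{u}) (W' := MorphismProperty.monomorphisms _) k Φ
        (inferInstanceAs (Mono Φ)) (hk'.symm ▸ h)
    have h2 : IsOpenImmersion (k ≫ (RelProj.domQ (RelProj.QGrHom.ofHom v hv) p chart).ι) := inferInstance
    rw [hk] at h2
    exact (MorphismProperty.cancel_left_of_respectsIso (P := @IsOpenImmersion.{u}) (PL.homOfLE hle) r).mp h2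
  · intro h
    have : IsClosedImmersion (k ≫ Φ) := hk'.symm ▸ h
    have h1 : IsClosedImmersion k := IsClosedImmersion.of_comp_isClosedImmersion k Φ
    have h2 : IsClosedImmersion (k ≫ (RelProj.domQ (RelProj.QGrHom.ofHom v hv) p chart).ι) := inferInstance
    rw [hk] at h2
    exact (MorphismProperty.cancel_left_of_respectsIso (P := @IsClosedImmersion.{u}) (PL.homOfLE hle) r).mp h2

end Groth.Agent.S12154
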