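import Groth.Statements.S12155
import Groth.Agent.ProjLib.QCone
-- import your own Groth.Agent.* helpers here

set_option autoImplicit false
set_option backward.isDefEq.respectTransparency.types false
universe u
open CategoryTheory CategoryTheory.Limits AlgebraicGeometry TopologicalSpace Opposite
open scoped HomogeneousIdeal
noncomputable section
open EGA2
open Groth.Agent.QProj

namespace Groth.Agent.S12155

/-- Let q : Y' → Y be a morphism, φ : 𝒮 → q_*𝒮' a graded q-morphism of quasi-coherent positively graded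
algebras with 𝒮_0 = O_Y, 𝒮'_0 = O_{Y'}, φ̂ : 𝒮[z] → q_*𝒮'[z] its extension with φ̂(z) = z, Ĉ =
Proj(𝒮[z]), Ĉ' = Proj(𝒮'[z]) the projective cones with pointed cones Ê, Ê', and Φ̂ = Proj(φ̂) :
G(φ̂) → Ĉ. Then Φ̂⁻¹(Ê) ⊆ Ê'; moreover if Proj(φ) is everywhere defined on Proj(𝒮'), then Φ̂ is
everywhere defined on Ĉ' and Φ̂⁻¹(Ê) = Ê'. -/
theorem result {Y Y' PC PC' : Scheme.{u}} (q : Y' ⟶ Y)
    (𝒮 : RelProj.QCGrAlg Y) (𝒮' : RelProj.QCGrAlg Y') (h0 : RelCone.StrZeroBij 𝒮) (h0' : RelCone.StrZeroBij 𝒮')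
    (u : RelProj.QGrHom q 𝒮 𝒮')
    (𝒮h : RelProj.QCGrAlg Y) (ι : 𝒮.toQCAlg ⟶ 𝒮h.toQCAlg) (z : 𝒮h.presheaf.obj (op ⊤))
    (hz : RelCone.IsPolyOver 𝒮 𝒮h ι z)
    (pC : PC ⟶ Y) (chartC : ∀ (U : Y.Opens) (hU : IsAffineOpen U), (((pC ⁻¹ᵁ U : PC.Opens) : Scheme.{u}) ≅ Proj (𝒮h.deg U hU)))
    (hC : RelProj.IsRelProj 𝒮h pC chartC)
    (𝒮h' : RelProj.QCGrAlg Y') (ι' : 𝒮'.toQCAlg ⟶ 𝒮h'.toQCAlg) (z' : 𝒮h'.presheaf.obj (op ⊤))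
    (hz' : RelCone.IsPolyOver 𝒮' 𝒮h' ι' z')
    (pC' : PC' ⟶ Y') (chartC' : ∀ (U : Y'.Opens) (hU : IsAffineOpen U), (((pC' ⁻¹ᵁ U : PC'.Opens) : Scheme.{u}) ≅ Proj (𝒮h'.deg U hU)))
    (hC' : RelProj.IsRelProj 𝒮h' pC' chartC')
    (uh : RelProj.QGrHom q 𝒮h 𝒮h')
    (huh : ∀ U : Y.Opens, ι.hom.app (op U) ≫ uh.app U = u.app U ≫ ι'.hom.app (op (q ⁻¹ᵁ U)))
    (huhz : (uh.app ⊤).hom z = RelCone.restrictTop 𝒮h' z' (q ⁻¹ᵁ ⊤))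
    (Φh : ((RelProj.domQ uh pC' chartC' : PC'.Opens) : Scheme.{u}) ⟶ PC)
    (hΦh : RelProj.IsProjQMapOn uh pC chartC pC' chartC' (RelProj.domQ uh pC' chartC') Φh)
    {P' : Scheme.{u}} (p' : P' ⟶ Y') (chart' : ∀ (U : Y'.Opens) (hU : IsAffineOpen U), (((p' ⁻¹ᵁ U : P'.Opens) : Scheme.{u}) ≅ Proj (𝒮'.deg U hU)))
    (hP' : RelProj.IsRelProj 𝒮' p' chart') :
    (RelProj.domQ uh pC' chartC').ι ''ᵁ (Φh ⁻¹ᵁ RelCone.pointedProjCone 𝒮 hz pC chartC) ≤ RelCone.pointedProjCone 𝒮' hz' pC' chartC' ∧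
      (RelProj.domQ u p' chart' = ⊤ →
        RelProj.domQ uh pC' chartC' = ⊤ ∧
          (RelProj.domQ uh pC' chartC').ι ''ᵁ (Φh ⁻¹ᵁ RelCone.pointedProjCone 𝒮 hz pC chartC) = RelCone.pointedProjCone 𝒮' hz' pC' chartC') := by
  have hsub : (RelProj.domQ uh pC' chartC').ι ''ᵁ (Φh ⁻¹ᵁ RelCone.pointedProjCone 𝒮 hz pC chartC) ≤
      RelCone.pointedProjCone 𝒮' hz' pC' chartC' := by
    rintro _ ⟨x, hx, rfl⟩
    obtain ⟨U, hxU⟩ := Opens.mem_iSup.mp ((ProjLib.iSup_preimage_affine pC).ge (Set.mem_univ (Φh x)))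
    obtain ⟨d, hd, f, hf, hxf⟩ := (mem_pointedProjCone_iff_nz hz hC U.1 U.2 hxU).mp hx
    have hqU : q (pC' x.1) ∈ U.1 := (apply_qMap uh hC hC' hΦh x) ▸ hxU
    obtain ⟨_, ⟨U', hU', rfl⟩, hxU', hle⟩ :=
      Y'.isBasis_affineOpens.exists_subset_of_mem_open (show pC' x.1 ∈ q ⁻¹ᵁ U.1 from hqU) (q ⁻¹ᵁ U.1).isOpen
    have h1 := (mem_preimage_nz_iff uh hC hC' hΦh U.1 U.2 U' hU' hle hd (hz.graded U.1 U.2 d f hf) x hxU').mp hxf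
    rw [uh_ι u uh huh] at h1
    exact (mem_pointedProjCone_iff_nz hz' hC' U' hU' hxU').mpr
      ⟨d, hd, _, Graded.map_mem (u.gradedAt U.1 U.2 U' hU' hle) hf, h1⟩
  refine ⟨hsub, fun htop => ?_⟩
  have key : ∀ (i : Pair q) (y : Proj (𝒮h'.deg i.1.2.1 i.1.2.2)),
      y ∈ RelCone.domOpen (RelProj.gradedHomAt ι' hz'.graded i.1.2.1 i.1.2.2) →
      ∃ (d : ℕ) (_ : 0 < d) (f : 𝒮.presheaf.obj (op i.1.1.1)), f ∈ 𝒮.deg i.1.1.1 i.1.1.2 d ∧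
        RelProj.emb pC' chartC' i.1.2.1 i.1.2.2 y ∈
          nz chartC' i.1.2.1 i.1.2.2 (uh.gradedAt _ i.1.1.2 _ i.1.2.2 i.2 ((ι.hom.app (op i.1.1.1)).hom f)) := by
    intro i y hy
    let w := ProjLib.domMap (RelProj.gradedHomAt ι' hz'.graded i.1.2.1 i.1.2.2) ⟨y, hy⟩
    obtain ⟨d, hd, f, hf, hwf⟩ := (mem_domQ_iff u hP' i.1.1.1 i.1.1.2 i.1.2.1 i.1.2.2 i.2
      ((range_emb (p := p') (chart := chart') i.1.2.1 i.1.2.2).le ⟨w, rfl⟩)).mp (htop.ge (Set.mem_univ _))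
    refine ⟨d, hd, f, hf, ?_⟩
    rw [uh_ι u uh huh]
    obtain ⟨w', hw', he⟩ := hwf
    refine ⟨y, ?_, rfl⟩
    have h2 := SetLike.ext_iff.mp (ProjLib.domMap_preimage_basicOpen
      (RelProj.gradedHomAt ι' hz'.graded i.1.2.1 i.1.2.2) hd
      (Graded.map_mem (u.gradedAt i.1.1.1 i.1.1.2 i.1.2.1 i.1.2.2 i.2) hf)) ⟨y, hy⟩
    exact h2.mp ((RelProj.emb p' chart' i.1.2.1 i.1.2.2).isOpenEmbedding.injective he ▸ hw' : w ∈ _)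
  have hdef : RelProj.domQ uh pC' chartC' = ⊤ := by
    refine eq_top_iff.mpr fun x _ => ?_
    obtain ⟨i, hi⟩ := exists_pair (g := q) (pC' x)
    obtain ⟨y, rfl⟩ := (range_emb (p := pC') (chart := chartC') i.1.2.1 i.1.2.2).ge hi
    refine (mem_domQ_iff uh hC' i.1.1.1 i.1.1.2 i.1.2.1 i.1.2.2 i.2 hi).mpr ?_
    by_cases hy : y ∈ RelCone.domOpen (RelProj.gradedHomAt ι' hz'.graded i.1.2.1 i.1.2.2)
    · obtain ⟨d, hd, f, hf, h⟩ := key i y hy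
      exact ⟨d, hd, _, hz.graded _ i.1.1.2 d f hf, h⟩
    · refine ⟨1, one_pos, _, hz.deg_z i.1.1.1 i.1.1.2, y, ?_, rfl⟩
      rw [uh_z uh huhz]
      exact restrictTop_notMem hz' i.1.2.1 i.1.2.2 y hy
  refine ⟨hdef, le_antisymm hsub fun x hx => ?_⟩
  obtain ⟨i, hi⟩ := exists_pair (g := q) (pC' x)
  obtain ⟨y, rfl⟩ := (range_emb (p := pC') (chart := chartC') i.1.2.1 i.1.2.2).ge hi
  obtain ⟨d, hd, f, hf, h⟩ := key i y ((RelConeLib.mem_pointedProjCone_iff 𝒮' 𝒮h' ι' z' hz' pC' chartC' hC' i.1.2.2 y).mp hx)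
  let x' : (RelProj.domQ uh pC' chartC').toScheme := ⟨_, hdef.ge (Set.mem_univ (RelProj.emb pC' chartC' i.1.2.1 i.1.2.2 y))⟩
  refine ⟨x', ?_, rfl⟩
  have h2 := (mem_preimage_nz_iff uh hC hC' hΦh i.1.1.1 i.1.1.2 i.1.2.1 i.1.2.2 i.2 hd
    (hz.graded _ i.1.1.2 d f hf) x' hi).mpr h
  exact (mem_pointedProjCone_iff_nz hz hC i.1.1.1 i.1.1.2 (nz_le _ i.1.1.2 _ h2)).mpr ⟨d, hd, f, hf, h2⟩

end Groth.Agent.S12155
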