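import Groth.Statements.S12156
import Groth.Agent.ProjLib.QCone
-- import your own Groth.Agent.* helpers here

set_option autoImplicit false
set_option backward.isDefEq.respectTransparency.types false
universe u
open CategoryTheory CategoryTheory.Limits AlgebraicGeometry TopologicalSpace Opposite
open scoped HomogeneousIdeal
noncomputable section
open EGA2
open Groth.Agent.QProj

namespace Groth.Agent.S12156

/-- Let q : Y' → Y be a morphism, φ : 𝒮 → q_*𝒮' a graded q-morphism of quasi-coherent positively graded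
algebras with 𝒮_0 = O_Y, 𝒮'_0 = O_{Y'}, φ̂ : 𝒮[z] → q_*𝒮'[z] its extension with φ̂(z) = z, Ĉ =
Proj(𝒮[z]), Ĉ' = Proj(𝒮'[z]) the projective cones with pointed cones Ê, Ê', and Φ̂ = Proj(φ̂) :
G(φ̂) → Ĉ; let X = Proj(𝒮), X' = Proj(𝒮'), Proj(φ) : G(φ) → X on its open of definition G(φ) ⊆ X',
and p̂ : Ê → X, p̂' : Ê' → X' the canonical retractions. Then p̂'(Φ̂⁻¹(Ê)) ⊆ G(φ) and on Φ̂⁻¹(Ê) the
composites p̂ ∘ Φ̂ and Proj(φ) ∘ p̂' agree (stated on T-valued points: a : T → Ê' and b : T → G(φ̂)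
agreeing in Ĉ' with Φ̂ ∘ b = c : T → Ê). -/
theorem result {Y Y' PC PC' : Scheme.{u}} (q : Y' ⟶ Y)
    (𝒮 : RelProj.QCGrAlg Y) (𝒮' : RelProj.QCGrAlg Y') (h0 : RelCone.StrZeroBij 𝒮) (h0' : RelCone.StrZeroBij 𝒮')
    (u : RelProj.QGrHom q 𝒮 𝒮')
    (𝒮h : RelProj.QCGrAlg Y) (ι : 𝒮.toQCAlg ⟶ 𝒮h.toQCAlg) (z : 𝒮h.presheaf.obj (op ⊤))
    (hz : RelCone.IsPolyOver 𝒮 𝒮h ι z)
    (pC : PC ⟶ Y) (chartC : ∀ (U : Y.Opens) (hU : IsAffineOpen U), (((pC ⁻¹ᵁ U : PC.Opens) : Scheme.{u}) ≅ Proj (𝒮h.deg U hU)))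
    (hC : RelProj.IsRelProj 𝒮h pC chartC)
    (𝒮h' : RelProj.QCGrAlg Y') (ι' : 𝒮'.toQCAlg ⟶ 𝒮h'.toQCAlg) (z' : 𝒮h'.presheaf.obj (op ⊤))
    (hz' : RelCone.IsPolyOver 𝒮' 𝒮h' ι' z')
    (pC' : PC' ⟶ Y') (chartC' : ∀ (U : Y'.Opens) (hU : IsAffineOpen U), (((pC' ⁻¹ᵁ U : PC'.Opens) : Scheme.{u}) ≅ Proj (𝒮h'.deg U hU)))
    (hC' : RelProj.IsRelProj 𝒮h' pC' chartC')
    (uh : RelProj.QGrHom q 𝒮h 𝒮h')
    (huh : ∀ U : Y.Opens, ι.hom.app (op U) ≫ uh.app U = u.app U ≫ ι'.hom.app (op (q ⁻¹ᵁ U)))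
    (huhz : (uh.app ⊤).hom z = RelCone.restrictTop 𝒮h' z' (q ⁻¹ᵁ ⊤))
    (Φh : ((RelProj.domQ uh pC' chartC' : PC'.Opens) : Scheme.{u}) ⟶ PC)
    (hΦh : RelProj.IsProjQMapOn uh pC chartC pC' chartC' (RelProj.domQ uh pC' chartC') Φh)
    {P P' : Scheme.{u}} (p : P ⟶ Y) (chart : ∀ (U : Y.Opens) (hU : IsAffineOpen U), (((p ⁻¹ᵁ U : P.Opens) : Scheme.{u}) ≅ Proj (𝒮.deg U hU)))
    (hP : RelProj.IsRelProj 𝒮 p chart)
    (p' : P' ⟶ Y') (chart' : ∀ (U : Y'.Opens) (hU : IsAffineOpen U), (((p' ⁻¹ᵁ U : P'.Opens) : Scheme.{u}) ≅ Proj (𝒮'.deg U hU)))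
    (hP' : RelProj.IsRelProj 𝒮' p' chart')
    (Φ : ((RelProj.domQ u p' chart' : P'.Opens) : Scheme.{u}) ⟶ P)
    (hΦ : RelProj.IsProjQMapOn u p chart p' chart' (RelProj.domQ u p' chart') Φ)
    (r : ((RelCone.pointedProjCone 𝒮 hz pC chartC : PC.Opens) : Scheme.{u}) ⟶ P)
    (hr : RelProj.IsProjQMapOn (RelProj.QGrHom.ofHom ι hz.graded) p chart pC chartC (RelCone.pointedProjCone 𝒮 hz pC chartC) r)
    (r' : ((RelCone.pointedProjCone 𝒮' hz' pC' chartC' : PC'.Opens) : Scheme.{u}) ⟶ P')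
    (hr' : RelProj.IsProjQMapOn (RelProj.QGrHom.ofHom ι' hz'.graded) p' chart' pC' chartC' (RelCone.pointedProjCone 𝒮' hz' pC' chartC') r')
    (T : Scheme.{u}) (a : T ⟶ ((RelCone.pointedProjCone 𝒮' hz' pC' chartC' : PC'.Opens) : Scheme.{u}))
    (b : T ⟶ ((RelProj.domQ uh pC' chartC' : PC'.Opens) : Scheme.{u}))
    (c : T ⟶ ((RelCone.pointedProjCone 𝒮 hz pC chartC : PC.Opens) : Scheme.{u}))
    (hab : a ≫ (RelCone.pointedProjCone 𝒮' hz' pC' chartC').ι = b ≫ (RelProj.domQ uh pC' chartC').ι) (hbc : b ≫ Φh = c ≫ (RelCone.pointedProjCone 𝒮 hz pC chartC).ι) :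
    Set.range (a ≫ r').base ⊆ ((RelProj.domQ u p' chart' : P'.Opens) : Set P') ∧
      ∀ d : T ⟶ ((RelProj.domQ u p' chart' : P'.Opens) : Scheme.{u}),
        a ≫ r' = d ≫ (RelProj.domQ u p' chart').ι → c ≫ r = d ≫ Φ := by
  have hEC := pointedProjCone_eq_domQ hz hC
  have hEC' := pointedProjCone_eq_domQ hz' hC'
  have heq : ∀ t, (a t).1 = (b t).1 := fun t => apply_eq hab t
  have loc : ∀ t : T, ∃ (U : Y.Opens) (hU : IsAffineOpen U) (U' : Y'.Opens) (hU' : IsAffineOpen U') (hle : U' ≤ q ⁻¹ᵁ U)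
      (d : ℕ) (_ : 0 < d) (f : 𝒮.presheaf.obj (op U)), f ∈ 𝒮.deg U hU d ∧ pC' (a t).1 ∈ U' ∧
        (a t).1 ∈ nz chartC' U' hU' ((ι'.hom.app (op U')).hom (u.gradedAt U hU U' hU' hle f)) := by
    intro t
    have hbct : Φh (b t) = (c t).1 := apply_eq hbc t
    obtain ⟨U, hxU⟩ := Opens.mem_iSup.mp ((ProjLib.iSup_preimage_affine pC).ge (Set.mem_univ (Φh (b t))))
    obtain ⟨d, hd, f, hf, hxf⟩ := (mem_pointedProjCone_iff_nz hz hC U.1 U.2 hxU).mp (hbct ▸ (c t).2)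
    have hqU : q (pC' (b t).1) ∈ U.1 := (apply_qMap uh hC hC' hΦh (b t)) ▸ hxU
    obtain ⟨_, ⟨U', hU', rfl⟩, hxU', hle⟩ :=
      Y'.isBasis_affineOpens.exists_subset_of_mem_open (show pC' (b t).1 ∈ q ⁻¹ᵁ U.1 from hqU) (q ⁻¹ᵁ U.1).isOpen
    have h1 := (mem_preimage_nz_iff uh hC hC' hΦh U.1 U.2 U' hU' hle hd (hz.graded U.1 U.2 d f hf) (b t) hxU').mp hxf
    rw [uh_ι u uh huh, ← heq t] at h1
    exact ⟨U.1, U.2, U', hU', hle, d, hd, f, hf, (heq t).symm ▸ hxU', h1⟩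
  refine ⟨?_, fun e he => Scheme.hom_ext_of_forall _ _ fun t => ?_⟩
  · rintro _ ⟨t, rfl⟩
    obtain ⟨U, hU, U', hU', hle, d, hd, f, hf, hxU', hxg⟩ := loc t
    have huf := Graded.map_mem (u.gradedAt U hU U' hU' hle) hf
    have h2 := (mem_preimage_nz_iff_of_eq (RelProj.QGrHom.ofHom ι' hz'.graded) hP' hC' hEC' hr' U' hU' U' hU' le_rfl hd
      huf (a t) hxU').mpr (by rw [gradedAt_ofHom_apply]; exact hxg)
    exact (mem_domQ_iff u hP' U hU U' hU' hle (nz_le U' hU' _ h2)).mpr ⟨d, hd, f, hf, h2⟩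
  · obtain ⟨U, hU, U', hU', hle, d, hd, f, hf, hxU', hxg⟩ := loc t
    have huf := Graded.map_mem (u.gradedAt U hU U' hU' hle) hf
    have hιf : (ι.hom.app (op U)).hom f ∈ 𝒮h.deg U hU d := hz.graded U hU d f hf
    have hk : (ι'.hom.app (op U')).hom (u.gradedAt U hU U' hU' hle f) ∈ 𝒮h'.deg U' hU' d := hz'.graded U' hU' d _ huf
    let k := Proj.awayι (𝒮h'.deg U' hU') _ hk hd ≫ RelProj.emb pC' chartC' U' hU'
    let O := (a ≫ (RelCone.pointedProjCone 𝒮' hz' pC' chartC').ι) ⁻¹ᵁ k.opensRange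
    refine ⟨O, (mem_range_awayEmb_iff U' hU' hd hk (a t).1).mpr hxg, ?_⟩
    let m := IsOpenImmersion.lift k (O.ι ≫ a ≫ (RelCone.pointedProjCone 𝒮' hz' pC' chartC').ι) (by
      rintro _ ⟨y, rfl⟩
      exact y.2)
    have hm : m ≫ k = O.ι ≫ a ≫ (RelCone.pointedProjCone 𝒮' hz' pC' chartC').ι := IsOpenImmersion.lift_fac _ _ _
    have ha' := chase (RelProj.QGrHom.ofHom ι' hz'.graded) hr' hEC' U' hU' U' hU' le_rfl hd huf
      (k := (ι'.hom.app (op U')).hom (u.gradedAt U hU U' hU' hle f)) (gradedAt_ofHom_apply ι' hz'.graded U' hU' _) hk m (O.ι ≫ a) (by rw [Category.assoc]; exact hm.symm)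
    have hd' := chase u hΦ rfl U hU U' hU' hle hd hf (k := u.gradedAt U hU U' hU' hle f) rfl huf _ (O.ι ≫ e)
      (by rw [Category.assoc, ← he, ← Category.assoc]; exact ha')
    have hb' := chase uh hΦh rfl U hU U' hU' hle hd hιf (uh_ι u uh huh U hU U' hU' hle f) hk m (O.ι ≫ b)
      (by rw [Category.assoc, ← hab]; exact hm.symm)
    have hc' := chase (RelProj.QGrHom.ofHom ι hz.graded) hr hEC U hU U hU le_rfl hd hf
      (k := (ι.hom.app (op U)).hom f) (gradedAt_ofHom_apply ι hz.graded U hU f) hιf _ (O.ι ≫ c)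
      (by rw [Category.assoc, ← hbc, ← Category.assoc]; exact hb')
    rw [← Category.assoc, hc', ← Category.assoc O.ι, hd']
    simp only [Category.assoc, ← Spec.map_comp_assoc, ← CommRingCat.ofHom_comp]
    congr 4
    refine awayMapTo_comp_eq _ _ _ _ (fun v => ?_) hf _ _ _ _ _ _ _
    rw [gradedAt_ofHom_apply, gradedAt_ofHom_apply]
    exact uh_ι u uh huh U hU U' hU' hle v

end Groth.Agent.S12156
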