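import Groth.Statements.S12158
import Groth.Agent.ProjLib.QCone
-- import your own Groth.Agent.* helpers here

set_option autoImplicit false
set_option backward.isDefEq.respectTransparency.types false
universe u
open CategoryTheory CategoryTheory.Limits AlgebraicGeometry TopologicalSpace Opposite
open scoped HomogeneousIdeal
noncomputable section
open EGA2
open Groth.Agent.QProj

namespace Groth.Agent.S12158

/-- Let q : Y' → Y be a morphism, φ : 𝒮 → q_*𝒮' a graded q-morphism of quasi-coherent positively graded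
algebras with 𝒮_0 = O_Y, 𝒮'_0 = O_{Y'}, φ̂ : 𝒮[z] → q_*𝒮'[z] its extension with φ̂(z) = z, Ĉ =
Proj(𝒮[z]), Ĉ' = Proj(𝒮'[z]) the projective cones with pointed cones Ê, Ê', and Φ̂ = Proj(φ̂) :
G(φ̂) → Ĉ; let Proj(φ) : G(φ) → X = Proj(𝒮) be the morphism induced by φ on G(φ) ⊆ X' = Proj(𝒮'),
and j : X → Ĉ, j' : X' → Ĉ' the canonical closed immersions at infinity (Proj of the graded
retractions 𝒮[z] → 𝒮, 𝒮'[z] → 𝒮' killing z). Then j'(G(φ)) ⊆ G(φ̂) and the square formed by Proj(φ),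
j', j and Φ̂ commutes. -/
theorem result {Y Y' PC PC' : Scheme.{u}} (q : Y' ⟶ Y)
    (𝒮 : RelProj.QCGrAlg Y) (𝒮' : RelProj.QCGrAlg Y') (h0 : RelCone.StrZeroBij 𝒮) (h0' : RelCone.StrZeroBij 𝒮')
    (u : RelProj.QGrHom q 𝒮 𝒮')
    (𝒮h : RelProj.QCGrAlg Y) (ι : 𝒮.toQCAlg ⟶ 𝒮h.toQCAlg) (z : 𝒮h.presheaf.obj (op ⊤))
    (hz : RelCone.IsPolyOver 𝒮 𝒮h ι z)
    (pC : PC ⟶ Y) (chartC : ∀ (U : Y.Opens) (hU : IsAffineOpen U), (((pC ⁻¹ᵁ U : PC.Opens) : Scheme.{u}) ≅ Proj (𝒮h.deg U hU)))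
    (hC : RelProj.IsRelProj 𝒮h pC chartC)
    (𝒮h' : RelProj.QCGrAlg Y') (ι' : 𝒮'.toQCAlg ⟶ 𝒮h'.toQCAlg) (z' : 𝒮h'.presheaf.obj (op ⊤))
    (hz' : RelCone.IsPolyOver 𝒮' 𝒮h' ι' z')
    (pC' : PC' ⟶ Y') (chartC' : ∀ (U : Y'.Opens) (hU : IsAffineOpen U), (((pC' ⁻¹ᵁ U : PC'.Opens) : Scheme.{u}) ≅ Proj (𝒮h'.deg U hU)))
    (hC' : RelProj.IsRelProj 𝒮h' pC' chartC')
    (uh : RelProj.QGrHom q 𝒮h 𝒮h')
    (huh : ∀ U : Y.Opens, ι.hom.app (op U) ≫ uh.app U = u.app U ≫ ι'.hom.app (op (q ⁻¹ᵁ U)))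
    (huhz : (uh.app ⊤).hom z = RelCone.restrictTop 𝒮h' z' (q ⁻¹ᵁ ⊤))
    (Φh : ((RelProj.domQ uh pC' chartC' : PC'.Opens) : Scheme.{u}) ⟶ PC)
    (hΦh : RelProj.IsProjQMapOn uh pC chartC pC' chartC' (RelProj.domQ uh pC' chartC') Φh)
    {P P' : Scheme.{u}} (p : P ⟶ Y) (chart : ∀ (U : Y.Opens) (hU : IsAffineOpen U), (((p ⁻¹ᵁ U : P.Opens) : Scheme.{u}) ≅ Proj (𝒮.deg U hU)))
    (hP : RelProj.IsRelProj 𝒮 p chart)
    (p' : P' ⟶ Y') (chart' : ∀ (U : Y'.Opens) (hU : IsAffineOpen U), (((p' ⁻¹ᵁ U : P'.Opens) : Scheme.{u}) ≅ Proj (𝒮'.deg U hU)))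
    (hP' : RelProj.IsRelProj 𝒮' p' chart')
    (Φ : ((RelProj.domQ u p' chart' : P'.Opens) : Scheme.{u}) ⟶ P)
    (hΦ : RelProj.IsProjQMapOn u p chart p' chart' (RelProj.domQ u p' chart') Φ)
    (θ : 𝒮h.toQCAlg ⟶ 𝒮.toQCAlg) (hθ : RelProj.IsGradedHom θ) (hθι : ι ≫ θ = 𝟙 _)
    (hθz : (θ.hom.app (op ⊤)).hom z = 0)
    (jX : P ⟶ PC) (hjX : RelProj.IsProjQMap (RelProj.QGrHom.ofHom θ hθ) pC chartC p chart jX)
    (θ' : 𝒮h'.toQCAlg ⟶ 𝒮'.toQCAlg) (hθ' : RelProj.IsGradedHom θ') (hθι' : ι' ≫ θ' = 𝟙 _)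
    (hθz' : (θ'.hom.app (op ⊤)).hom z' = 0)
    (jX' : P' ⟶ PC') (hjX' : RelProj.IsProjQMap (RelProj.QGrHom.ofHom θ' hθ') pC' chartC' p' chart' jX')
    (T : Scheme.{u}) (d : T ⟶ ((RelProj.domQ u p' chart' : P'.Opens) : Scheme.{u}))
    (e : T ⟶ ((RelProj.domQ uh pC' chartC' : PC'.Opens) : Scheme.{u}))
    (hde : d ≫ (RelProj.domQ u p' chart').ι ≫ jX' = e ≫ (RelProj.domQ uh pC' chartC').ι) :
    jX'.base '' ((RelProj.domQ u p' chart' : P'.Opens) : Set P') ⊆ ((RelProj.domQ uh pC' chartC' : PC'.Opens) : Set PC') ∧ e ≫ Φh = d ≫ Φ ≫ jX := by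
  have retr' : ∀ (U' : Y'.Opens) (hU' : IsAffineOpen U') (a : 𝒮'.presheaf.obj (op U')),
      (RelProj.QGrHom.ofHom θ' hθ').gradedAt U' hU' U' hU' le_rfl ((ι'.hom.app (op U')).hom a) = a := fun U' hU' a =>
    (gradedAt_ofHom_apply θ' hθ' U' hU' _).trans
      (ConcreteCategory.congr_hom (congrArg (fun k : 𝒮'.toQCAlg ⟶ 𝒮'.toQCAlg => k.hom.app (op U')) hθι') a)
  have retr : ∀ (U : Y.Opens) (hU : IsAffineOpen U) (a : 𝒮.presheaf.obj (op U)),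
      (RelProj.QGrHom.ofHom θ hθ).gradedAt U hU U hU le_rfl ((ι.hom.app (op U)).hom a) = a := fun U hU a =>
    (gradedAt_ofHom_apply θ hθ U hU _).trans
      (ConcreteCategory.congr_hom (congrArg (fun k : 𝒮.toQCAlg ⟶ 𝒮.toQCAlg => k.hom.app (op U)) hθι) a)
  have loc : ∀ x : (RelProj.domQ u p' chart').toScheme, ∃ (U : Y.Opens) (hU : IsAffineOpen U) (U' : Y'.Opens)
      (hU' : IsAffineOpen U') (hle : U' ≤ q ⁻¹ᵁ U) (n : ℕ) (hn : 0 < n) (f : 𝒮.presheaf.obj (op U))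
      (hf : f ∈ 𝒮.deg U hU n), x.1 ∈ nz chart' U' hU' (u.gradedAt U hU U' hU' hle f) := fun x => by
    obtain ⟨i, hi⟩ := exists_pair (g := q) (p' x.1)
    obtain ⟨n, hn, f, hf, h⟩ := (mem_domQ_iff u hP' i.1.1.1 i.1.1.2 i.1.2.1 i.1.2.2 i.2 hi).mp x.2
    exact ⟨_, i.1.1.2, _, i.1.2.2, i.2, n, hn, f, hf, h⟩
  refine ⟨?_, Scheme.hom_ext_of_forall _ _ fun t => ?_⟩
  · rintro _ ⟨x, hx, rfl⟩
    obtain ⟨U, hU, U', hU', hle, n, hn, f, hf, hxf⟩ := loc ⟨x, hx⟩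
    have huf := Graded.map_mem (u.gradedAt U hU U' hU' hle) hf
    obtain ⟨v, hv⟩ := (mem_range_awayEmb_iff U' hU' hn huf x).mpr hxf
    have h1 := chase_top (RelProj.QGrHom.ofHom θ' hθ') hjX' U' hU' U' hU' le_rfl hn
      (hz'.graded U' hU' n _ huf) (retr' U' hU' _) huf
    have h2 : jX' x ∈ nz chartC' U' hU' ((ι'.hom.app (op U')).hom (u.gradedAt U hU U' hU' hle f)) := by
      rw [← hv, ← Scheme.Hom.comp_apply, h1]
      exact (mem_range_awayEmb_iff U' hU' hn (hz'.graded U' hU' n _ huf) _).mp ⟨_, rfl⟩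
    rw [← uh_ι u uh huh] at h2
    exact (mem_domQ_iff uh hC' U hU U' hU' hle (nz_le U' hU' _ h2)).mpr ⟨n, hn, _, hz.graded U hU n f hf, h2⟩
  · obtain ⟨U, hU, U', hU', hle, n, hn, f, hf, hxf⟩ := loc (d t)
    have huf := Graded.map_mem (u.gradedAt U hU U' hU' hle) hf
    have hιf : (ι.hom.app (op U)).hom f ∈ 𝒮h.deg U hU n := hz.graded U hU n f hf
    have hk : (ι'.hom.app (op U')).hom (u.gradedAt U hU U' hU' hle f) ∈ 𝒮h'.deg U' hU' n := hz'.graded U' hU' n _ huf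
    let k := Proj.awayι (𝒮'.deg U' hU') _ huf hn ≫ RelProj.emb p' chart' U' hU'
    let O := (d ≫ (RelProj.domQ u p' chart').ι) ⁻¹ᵁ k.opensRange
    refine ⟨O, (mem_range_awayEmb_iff U' hU' hn huf (d t).1).mpr hxf, ?_⟩
    let m := IsOpenImmersion.lift k (O.ι ≫ d ≫ (RelProj.domQ u p' chart').ι) (by
      rintro _ ⟨y, rfl⟩
      exact y.2)
    have hm : m ≫ k = O.ι ≫ d ≫ (RelProj.domQ u p' chart').ι := IsOpenImmersion.lift_fac _ _ _
    have h1 := chase_top (RelProj.QGrHom.ofHom θ' hθ') hjX' U' hU' U' hU' le_rfl hn hk (retr' U' hU' _) huf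
    have he := chase uh hΦh rfl U hU U' hU' hle hn hιf (uh_ι u uh huh U hU U' hU' hle f) hk
      (m ≫ Spec.map (CommRingCat.ofHom (ProjLib.awayMapTo _ _ _ (retr' U' hU' _)))) (O.ι ≫ e) (by
        rw [Category.assoc, ← hde, ← Category.assoc d, ← Category.assoc O.ι, ← hm, Category.assoc, h1, Category.assoc])
    have hd := chase u hΦ rfl U hU U' hU' hle hn hf (k := u.gradedAt U hU U' hU' hle f) rfl huf m (O.ι ≫ d)
      (by rw [Category.assoc]; exact hm.symm)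
    have h2 := chase_top (RelProj.QGrHom.ofHom θ hθ) hjX U hU U hU le_rfl hn hιf (retr U hU f) hf
    rw [← Category.assoc, he, ← Category.assoc d, ← Category.assoc O.ι, ← Category.assoc O.ι, hd]
    simp only [Category.assoc]
    simp only [Category.assoc] at h2
    rw [h2]
    simp only [← Spec.map_comp_assoc, ← CommRingCat.ofHom_comp]
    congr 4
    refine awayMapTo_comp_eq _ _ _ _ (fun v => ?_) hιf _ _ _ _ _ _ _
    rw [gradedAt_ofHom_apply, gradedAt_ofHom_apply]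
    refine polyHom_ext hz U hU (F := (θ'.hom.app (op U')).hom.comp (uh.appLE U U' hle).hom)
      (G := (u.appLE U U' hle).hom.comp (θ.hom.app (op U)).hom) (fun a => ?_) ?_ v
    · have e1 := uh_ι u uh huh U hU U' hU' hle a
      have e2 := retr U hU a
      have e3 := retr' U' hU' (u.gradedAt U hU U' hU' hle a)
      rw [gradedAt_ofHom_apply] at e2 e3
      show (θ'.hom.app (op U')).hom (uh.gradedAt U hU U' hU' hle _) = u.gradedAt U hU U' hU' hle _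
      rw [e1]
      exact e3.trans (congrArg _ e2.symm)
    · have z1 : (θ.hom.app (op U)).hom (RelCone.restrictTop 𝒮h z U) = 0 := by
        have := ConcreteCategory.congr_hom (θ.hom.naturality (homOfLE le_top : U ⟶ ⊤).op) z
        exact this.trans ((congrArg (fun v => (𝒮.presheaf.map (homOfLE (le_top : U ≤ ⊤)).op).hom v) hθz).trans (map_zero (𝒮.presheaf.map (homOfLE (le_top : U ≤ ⊤)).op).hom))
      have z2 : (θ'.hom.app (op U')).hom (RelCone.restrictTop 𝒮h' z' U') = 0 := by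
        have := ConcreteCategory.congr_hom (θ'.hom.naturality (homOfLE le_top : U' ⟶ ⊤).op) z'
        exact this.trans ((congrArg (fun v => (𝒮'.presheaf.map (homOfLE (le_top : U' ≤ ⊤)).op).hom v) hθz').trans (map_zero (𝒮'.presheaf.map (homOfLE (le_top : U' ≤ ⊤)).op).hom))
      show (θ'.hom.app (op U')).hom (uh.gradedAt U hU U' hU' hle _) = u.gradedAt U hU U' hU' hle _
      rw [uh_z uh huhz, z2]
      exact (congrArg _ z1).trans (map_zero _) |>.symm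

end Groth.Agent.S12158
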