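import Groth.Statements.S12159
import Groth.Agent.ProjLib.QComp
import Groth.Agent.ProjLib.QLine
-- import your own Groth.Agent.* helpers here

set_option autoImplicit false
set_option backward.isDefEq.respectTransparency.types false
universe u
open CategoryTheory CategoryTheory.Limits AlgebraicGeometry TopologicalSpace Opposite
open scoped HomogeneousIdeal
noncomputable section
open EGA2

namespace Groth.Agent.S12159

/-- Let Y be a quasi-compact scheme, q : X → Y a quasi-compact morphism, L an invertible O_X-module with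
𝒮L = ⊕ L^{⊗n} (whose Proj is X), 𝒮 = colim 𝒮^i a filtered colimit of quasi-coherent positively
graded O_Y-algebras along graded homomorphisms φ_i : 𝒮^i → 𝒮 (colimit taken on sections over affine
opens), ψ♭ = u : 𝒮 → q_*𝒮L a graded q-morphism and ψ_i♭ = u ∘ φ_i. Then r_{L,ψ} is everywhere
defined if and only if some r_{L,ψ_i} is everywhere defined, and in that case r_{L,ψ_j} is
everywhere defined for all j ≥ i. -/
theorem result {Y X P PL : Scheme.{u}} (q : X ⟶ Y)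
    (L : X.Modules) (hL : PicF.IsInvertible L) (hLq : Coh.IsQCoh L)
    (𝒮 : RelProj.QCGrAlg Y) (𝒮L : RelProj.QCGrAlg X) (j : L ⟶ 𝒮L.toModule) (hj : RelProj.IsGrSymAlg L 𝒮L j)
    (u : RelProj.QGrHom q 𝒮 𝒮L)
    (p : P ⟶ Y) (chart : ∀ (U : Y.Opens) (hU : IsAffineOpen U), (((p ⁻¹ᵁ U : P.Opens) : Scheme.{u}) ≅ Proj (𝒮.deg U hU)))
    (hP : RelProj.IsRelProj 𝒮 p chart)
    (pL : PL ⟶ X) (chartL : ∀ (U : X.Opens) (hU : IsAffineOpen U), (((pL ⁻¹ᵁ U : PL.Opens) : Scheme.{u}) ≅ Proj (𝒮L.deg U hU)))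
    (hPL : RelProj.IsRelProj 𝒮L pL chartL)
    [CompactSpace Y] [QuasiCompact q]
    (Λ : Type u) [Preorder Λ] [IsDirected Λ (· ≤ ·)] [Nonempty Λ]
    (𝒮i : Λ → RelProj.QCGrAlg Y) (φ : ∀ i, (𝒮i i).toQCAlg ⟶ 𝒮.toQCAlg) (hφ : ∀ i, RelProj.IsGradedHom (φ i))
    (t : ∀ i j, i ≤ j → ((𝒮i i).toQCAlg ⟶ (𝒮i j).toQCAlg)) (ht : ∀ i j (h : i ≤ j), RelProj.IsGradedHom (t i j h))
    (hφt : ∀ i j (h : i ≤ j), t i j h ≫ φ j = φ i)
    (hsurj : ∀ (U : Y.Opens), IsAffineOpen U → ∀ x : 𝒮.presheaf.obj (op U),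
      ∃ (i : Λ) (y : (𝒮i i).presheaf.obj (op U)), ((φ i).hom.app (op U)).hom y = x)
    (hker : ∀ (U : Y.Opens), IsAffineOpen U → ∀ (i : Λ) (y : (𝒮i i).presheaf.obj (op U)),
      ((φ i).hom.app (op U)).hom y = 0 → ∃ (j : Λ) (h : i ≤ j), ((t i j h).hom.app (op U)).hom y = 0)
    (ui : ∀ i, RelProj.QGrHom q (𝒮i i) 𝒮L) (hui : ∀ i (U : Y.Opens), (ui i).app U = (φ i).hom.app (op U) ≫ u.app U) :
    (RelProj.domQ u pL chartL = ⊤ ↔ ∃ i, RelProj.domQ (ui i) pL chartL = ⊤) ∧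
      ∀ i, RelProj.domQ (ui i) pL chartL = ⊤ → ∀ j, i ≤ j → RelProj.domQ (ui j) pL chartL = ⊤ := by
  have := hLq
  have hiso := Groth.Agent.QProj.isIso_line hj hPL hL hLq
  have hle : ∀ i, RelProj.domQ (ui i) pL chartL ≤ RelProj.domQ u pL chartL := fun i =>
    Groth.Agent.QProj.domQ_comp_le u (φ i) (hφ i) (ui i) (hui i)
  have hmono : ∀ i k, i ≤ k → RelProj.domQ (ui i) pL chartL ≤ RelProj.domQ (ui k) pL chartL := fun i k h => by
    refine Groth.Agent.QProj.domQ_comp_le (ui k) (t i k h) (ht i k h) (ui i) fun U => ?_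
    rw [hui i U, hui k U, ← Category.assoc]
    congr 1
    exact (NatTrans.congr_app (congrArg RelSpec.QCAlg.Hom.hom (hφt i k h)) (op U)).symm
  refine ⟨⟨fun htop => ?_, fun ⟨i, hi⟩ => top_le_iff.mp (hi ▸ hle i)⟩,
    fun i hi k h => top_le_iff.mp (hi ▸ hmono i k h)⟩
  have hX : CompactSpace X := QuasiCompact.compactSpace_of_compactSpace q
  have hcomp : CompactSpace PL := QuasiCompact.compactSpace_of_compactSpace pL
  have hcov : (⊤ : PL.Opens) ≤ ⨆ i, RelProj.domQ (ui i) pL chartL := by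
    rw [← htop]
    intro z hz
    obtain ⟨⟨⟨⟨V, hV⟩, ⟨V', hV'⟩⟩, hle'⟩, hmem⟩ := Opens.mem_iSup.mp hz
    obtain ⟨d, hd, f, hf, hzf⟩ := (Groth.Agent.QProj.mem_emb_domOpen_iff u V hV V' hV' hle' z).mp hmem
    obtain ⟨i, y, hy⟩ := hsurj V hV f
    have e := GradedRingHom.map_directSumDecompose (𝒜 := (𝒮i i).deg V hV) (ℬ := 𝒮.deg V hV)
      (RelProj.gradedHomAt (φ i) (hφ i) V hV) (x := y) (i := d)
    have hy' : RelProj.gradedHomAt (φ i) (hφ i) V hV y = f := hy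
    rw [hy', DirectSum.decompose_of_mem_same _ hf] at e
    refine Opens.mem_iSup.mpr ⟨i, Opens.mem_iSup.mpr ⟨⟨(⟨V, hV⟩, ⟨V', hV'⟩), hle'⟩,
      (Groth.Agent.QProj.mem_emb_domOpen_iff (ui i) V hV V' hV' hle' z).mpr
        ⟨d, hd, _, (DirectSum.decompose ((𝒮i i).deg V hV) y d).2, ?_⟩⟩⟩
    rw [← Groth.Agent.QProj.gradedAt_comp' u (φ i) (ui i) (hui i)]
    rw [← e] at hzf
    exact hzf
  obtain ⟨i, hi⟩ := isCompact_univ.elim_directed_cover (fun i => (RelProj.domQ (ui i) pL chartL : Set PL))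
    (fun i => (RelProj.domQ (ui i) pL chartL).isOpen)
    (fun z hz => Set.mem_iUnion.mpr (Opens.mem_iSup.mp (hcov hz)))
    (fun i k => by
      obtain ⟨l, hil, hkl⟩ := exists_ge_ge i k
      exact ⟨l, hmono i l hil, hmono k l hkl⟩)
  exact ⟨i, eq_top_iff.mpr fun z _ => hi (Set.mem_univ z)⟩

end Groth.Agent.S12159
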