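import Groth.Statements.S12161
import Groth.Agent.ProjLib.QImm
-- import your own Groth.Agent.* helpers here

set_option autoImplicit false
set_option backward.isDefEq.respectTransparency.types false
universe u
open CategoryTheory CategoryTheory.Limits AlgebraicGeometry TopologicalSpace Opposite
open scoped HomogeneousIdeal
noncomputable section
open EGA2
open Groth.Agent.QProj

namespace Groth.Agent.S12161

/-- Let Y be a quasi-compact scheme, q : X → Y a quasi-compact morphism, L an invertible O_X-module with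
𝒮L = ⊕ L^{⊗n} (whose Proj is X), 𝒮 = colim 𝒮^i a filtered colimit of quasi-coherent positively
graded O_Y-algebras along graded homomorphisms φ_i : 𝒮^i → 𝒮 (colimit taken on sections over affine
opens), ψ♭ = u : 𝒮 → q_*𝒮L a graded q-morphism and ψ_i♭ = u ∘ φ_i, with q of finite type; let r =
r_{L,ψ} : G(ψ) → Proj(𝒮) and r_i = r_{L,ψ_i} : G(ψ_i) → Proj(𝒮^i). Then r is everywhere defined and
an immersion if and only if some r_i is, and then so is r_j for all j ≥ i. -/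
theorem result {Y X P PL : Scheme.{u}} (q : X ⟶ Y)
    (L : X.Modules) (hL : PicF.IsInvertible L) (hLq : Coh.IsQCoh L)
    (𝒮 : RelProj.QCGrAlg Y) (𝒮L : RelProj.QCGrAlg X) (j : L ⟶ 𝒮L.toModule) (hj : RelProj.IsGrSymAlg L 𝒮L j)
    (u : RelProj.QGrHom q 𝒮 𝒮L)
    (p : P ⟶ Y) (chart : ∀ (U : Y.Opens) (hU : IsAffineOpen U), (((p ⁻¹ᵁ U : P.Opens) : Scheme.{u}) ≅ Proj (𝒮.deg U hU)))
    (hP : RelProj.IsRelProj 𝒮 p chart)
    (pL : PL ⟶ X) (chartL : ∀ (U : X.Opens) (hU : IsAffineOpen U), (((pL ⁻¹ᵁ U : PL.Opens) : Scheme.{u}) ≅ Proj (𝒮L.deg U hU)))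
    (hPL : RelProj.IsRelProj 𝒮L pL chartL)
    [CompactSpace Y] [QuasiCompact q] [LocallyOfFiniteType q]
    (r : ((RelProj.domQ u pL chartL : PL.Opens) : Scheme.{u}) ⟶ P)
    (hr : RelProj.IsProjQMapOn u p chart pL chartL (RelProj.domQ u pL chartL) r)
    (Λ : Type u) [Preorder Λ] [IsDirected Λ (· ≤ ·)] [Nonempty Λ]
    (𝒮i : Λ → RelProj.QCGrAlg Y) (φ : ∀ i, (𝒮i i).toQCAlg ⟶ 𝒮.toQCAlg) (hφ : ∀ i, RelProj.IsGradedHom (φ i))
    (t : ∀ i j, i ≤ j → ((𝒮i i).toQCAlg ⟶ (𝒮i j).toQCAlg)) (ht : ∀ i j (h : i ≤ j), RelProj.IsGradedHom (t i j h))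
    (hφt : ∀ i j (h : i ≤ j), t i j h ≫ φ j = φ i)
    (hsurj : ∀ (U : Y.Opens), IsAffineOpen U → ∀ x : 𝒮.presheaf.obj (op U),
      ∃ (i : Λ) (y : (𝒮i i).presheaf.obj (op U)), ((φ i).hom.app (op U)).hom y = x)
    (hker : ∀ (U : Y.Opens), IsAffineOpen U → ∀ (i : Λ) (y : (𝒮i i).presheaf.obj (op U)),
      ((φ i).hom.app (op U)).hom y = 0 → ∃ (j : Λ) (h : i ≤ j), ((t i j h).hom.app (op U)).hom y = 0)
    (ui : ∀ i, RelProj.QGrHom q (𝒮i i) 𝒮L) (hui : ∀ i (U : Y.Opens), (ui i).app U = (φ i).hom.app (op U) ≫ u.app U)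
    (Pi : Λ → Scheme.{u}) (pi : ∀ i, Pi i ⟶ Y)
    (charti : ∀ i (U : Y.Opens) (hU : IsAffineOpen U), ((((pi i) ⁻¹ᵁ U : (Pi i).Opens) : Scheme.{u}) ≅ Proj ((𝒮i i).deg U hU)))
    (hPi : ∀ i, RelProj.IsRelProj (𝒮i i) (pi i) (charti i))
    (ri : ∀ i, ((RelProj.domQ (ui i) pL chartL : PL.Opens) : Scheme.{u}) ⟶ Pi i)
    (hri : ∀ i, RelProj.IsProjQMapOn (ui i) (pi i) (charti i) pL chartL (RelProj.domQ (ui i) pL chartL) (ri i)) :
    ((RelProj.domQ u pL chartL = ⊤ ∧ IsImmersion r) ↔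
        ∃ i, RelProj.domQ (ui i) pL chartL = ⊤ ∧ IsImmersion (ri i)) ∧
      ∀ i, (RelProj.domQ (ui i) pL chartL = ⊤ ∧ IsImmersion (ri i)) →
        ∀ j, i ≤ j → RelProj.domQ (ui j) pL chartL = ⊤ ∧ IsImmersion (ri j) := by
  have : Coh.IsQCoh L := hLq
  have := isIso_line hj hPL hL hLq
  have hmono : ∀ i, (RelProj.domQ (ui i) pL chartL = ⊤ ∧ IsImmersion (ri i)) → ∀ k, i ≤ k →
      RelProj.domQ (ui k) pL chartL = ⊤ ∧ IsImmersion (ri k) := fun i hi k h => by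
    have := hi.2
    refine isImmersion_of_comp (ui k) (t i k h) (ht i k h) (ui i) (fun U => ?_) (hPi k) (hPi i) hPL (hri k) (hri i) hi.1
    rw [hui i U, hui k U, ← Category.assoc]
    congr 1
    exact (NatTrans.congr_app (congrArg RelSpec.QCAlg.Hom.hom (hφt i k h)) (op U)).symm
  refine ⟨⟨?_, fun ⟨i, hi, hii⟩ => isImmersion_of_comp u (φ i) (hφ i) (ui i) (hui i) hP (hPi i) hPL hr (hri i) hi⟩,
    hmono⟩
  rintro ⟨htop, himm⟩
  have hX : CompactSpace X := QuasiCompact.compactSpace_of_compactSpace q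
  obtain ⟨κ, hκ, U, N, f, -, hf, -, hwit⟩ := exists_finite_witness hj hL u hP hPL hr htop
  have hlift : ∀ c, ∃ i, ∃ y ∈ (𝒮i i).deg (U c).1 (U c).2 N, ((φ i).hom.app (op (U c).1)).hom y = f c := fun c => by
    obtain ⟨i, y, hy⟩ := hsurj (U c).1 (U c).2 (f c)
    exact ⟨i, exists_deg_lift (φ i) (hφ i) (U c).1 (U c).2 (hf c) hy⟩
  choose i y hy hyf using hlift
  obtain ⟨k, hk⟩ := Finite.exists_le i
  refine ⟨k, hwit (φ k) (ui k) (hui k) (hPi k) (hri k) fun c => ⟨((t (i c) k (hk c)).hom.app (op (U c).1)).hom (y c),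
    ht (i c) k (hk c) (U c).1 (U c).2 N (y c) (hy c), ?_⟩⟩
  rw [← hyf c]
  exact ConcreteCategory.congr_hom (NatTrans.congr_app (congrArg RelSpec.QCAlg.Hom.hom (hφt (i c) k (hk c))) (op (U c).1)) (y c)

end Groth.Agent.S12161
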