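import Groth.Statements.S12162
import Groth.Agent.ProjLib.QImm
import Groth.Agent.ProjLib.QSubAlg
import Groth.Agent.S8258
-- import your own Groth.Agent.* helpers here

set_option autoImplicit false
set_option backward.isDefEq.respectTransparency.types false
universe u
open CategoryTheory CategoryTheory.Limits AlgebraicGeometry TopologicalSpace Opposite
open scoped HomogeneousIdeal
noncomputable section
open EGA2
open Groth.Agent.QProj

namespace Groth.Agent.S12162

/-- Let Y be a quasi-compact separated scheme or a scheme with Noetherian underlying space, q : X → Y a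
morphism of finite type, L an invertible O_X-module with 𝒮L = ⊕ L^{⊗n} (whose Proj is X), 𝒮 a
quasi-coherent positively graded O_Y-algebra, ψ♭ = u : 𝒮 → q_*𝒮L a graded q-morphism and r = r_{L,ψ}
: G(ψ) → Proj(𝒮). Then r is everywhere defined and an immersion if and only if there are n > 0 and a
quasi-coherent sub-O_Y-module E ⊆ 𝒮_n of finite type such that (a) q^*(E) → L^{⊗n} (induced by ψ_n)
is surjective and (b) for the graded sub-algebra 𝒮' of 𝒮 generated by E and ψ' = ψ ∘ q^*(𝒮' ⊆ 𝒮),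
r_{L,ψ'} is everywhere defined and an immersion. (Here E is written as the degree-n part of 𝒮',
which it equals; 𝒮' is given abstractly with an injective graded homomorphism into 𝒮 and degree-zero
part the image of O_Y; surjectivity in (a) is stated stalkwise: every point of X has an affine
neighbourhood V over which some section of E generates L^{⊗n}.) -/
theorem result {Y X P PL : Scheme.{u}} (q : X ⟶ Y)
    (L : X.Modules) (hL : PicF.IsInvertible L) (hLq : Coh.IsQCoh L)
    (𝒮 : RelProj.QCGrAlg Y) (𝒮L : RelProj.QCGrAlg X) (j : L ⟶ 𝒮L.toModule) (hj : RelProj.IsGrSymAlg L 𝒮L j)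
    (u : RelProj.QGrHom q 𝒮 𝒮L)
    (p : P ⟶ Y) (chart : ∀ (U : Y.Opens) (hU : IsAffineOpen U), (((p ⁻¹ᵁ U : P.Opens) : Scheme.{u}) ≅ Proj (𝒮.deg U hU)))
    (hP : RelProj.IsRelProj 𝒮 p chart)
    (pL : PL ⟶ X) (chartL : ∀ (U : X.Opens) (hU : IsAffineOpen U), (((pL ⁻¹ᵁ U : PL.Opens) : Scheme.{u}) ≅ Proj (𝒮L.deg U hU)))
    (hPL : RelProj.IsRelProj 𝒮L pL chartL)
    (r : ((RelProj.domQ u pL chartL : PL.Opens) : Scheme.{u}) ⟶ P)
    (hr : RelProj.IsProjQMapOn u p chart pL chartL (RelProj.domQ u pL chartL) r)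
    (hYs : (CompactSpace Y ∧ Y.IsSeparated) ∨ NoetherianSpace Y) [QuasiCompact q] [LocallyOfFiniteType q] :
    (RelProj.domQ u pL chartL = ⊤ ∧ IsImmersion r) ↔
      ∃ (n : ℕ) (_ : 0 < n) (𝒮' : RelProj.QCGrAlg Y) (j' : 𝒮'.toQCAlg ⟶ 𝒮.toQCAlg) (_ : RelProj.IsGradedHom j')
        (_ : ∀ (U : Y.Opens), IsAffineOpen U → Function.Injective (j'.hom.app (op U)).hom)
        (_ : ∀ (U : Y.Opens) (hU : IsAffineOpen U),
          ((𝒮'.deg U hU 0 : AddSubgroup (𝒮'.presheaf.obj (op U))) : Set (𝒮'.presheaf.obj (op U))) =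
            Set.range (𝒮'.str.app (op U)).hom)
        (_ : ∀ (U : Y.Opens) (hU : IsAffineOpen U),
          Subring.closure (((𝒮'.deg U hU 0 : AddSubgroup (𝒮'.presheaf.obj (op U))) : Set (𝒮'.presheaf.obj (op U))) ∪
            ((𝒮'.deg U hU n : AddSubgroup (𝒮'.presheaf.obj (op U))) : Set (𝒮'.presheaf.obj (op U)))) = ⊤)
        (_ : 𝒮'.IsFTDeg n)
        (u' : RelProj.QGrHom q 𝒮' 𝒮L) (_ : ∀ U : Y.Opens, u'.app U = j'.hom.app (op U) ≫ u.app U),
        (∀ x : X, ∃ (U : Y.Opens) (hU : IsAffineOpen U) (e : 𝒮'.presheaf.obj (op U)) (_ : e ∈ 𝒮'.deg U hU n)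
            (V : X.Opens) (hV : IsAffineOpen V) (hVU : V ≤ q ⁻¹ᵁ U), x ∈ V ∧
              ((𝒮L.deg V hV n : AddSubgroup (𝒮L.presheaf.obj (op V))) : Set (𝒮L.presheaf.obj (op V))) ⊆
                (Ideal.span {(u'.appLE U V hVU).hom e} : Set (𝒮L.presheaf.obj (op V)))) ∧
        (∀ (P' : Scheme.{u}) (p' : P' ⟶ Y)
            (chart' : ∀ (U : Y.Opens) (hU : IsAffineOpen U), (((p' ⁻¹ᵁ U : P'.Opens) : Scheme.{u}) ≅ Proj (𝒮'.deg U hU)))
            (_ : RelProj.IsRelProj 𝒮' p' chart')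
            (r' : ((RelProj.domQ u' pL chartL : PL.Opens) : Scheme.{u}) ⟶ P')
            (_ : RelProj.IsProjQMapOn u' p' chart' pL chartL (RelProj.domQ u' pL chartL) r'),
          RelProj.domQ u' pL chartL = ⊤ ∧ IsImmersion r') := by
  classical
  have : Coh.IsQCoh L := hLq
  have := isIso_line hj hPL hL hLq
  constructor
  · rintro ⟨htop, himm⟩
    obtain ⟨hYc, hYq⟩ : CompactSpace Y ∧ QuasiSeparatedSpace Y := by
      rcases hYs with ⟨h1, h2⟩ | h
      · exact ⟨h1, inferInstance⟩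
      · exact ⟨inferInstance, inferInstance⟩
    have hX : CompactSpace X := QuasiCompact.compactSpace_of_compactSpace q
    obtain ⟨κ, hκ, U, N, f, hN, hf, hcov, hwit⟩ := exists_finite_witness hj hL u hP hPL hr htop
    obtain ⟨Q, hQ, hQdeg, hfQ⟩ := exists_good_deg 𝒮 U f hf
    obtain ⟨𝒮', j', hj', hinj, h0, hgen, hft, hlift⟩ := exists_subGrAlg 𝒮 hN hQ hQdeg
    let u' : RelProj.QGrHom q 𝒮' 𝒮L :=
      { app := fun V => j'.hom.app (op V) ≫ u.app V
        naturality := fun {V W} i => by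
          rw [Category.assoc, u.naturality i, ← Category.assoc, ← Category.assoc]
          congr 1
          exact (j'.hom.naturality _).symm
        str_app := fun V => by
          rw [← Category.assoc, show 𝒮'.str.app (op V) ≫ j'.hom.app (op V) = 𝒮.str.app (op V) from
            NatTrans.congr_app j'.comm (op V)]
          exact u.str_app V
        map_mem := fun V hV V' hV' hle _ x hx => u.map_mem V hV V' hV' hle (hj' V hV _ x hx) }
    have hu' : ∀ V : Y.Opens, u'.app V = j'.hom.app (op V) ≫ u.app V := fun _ => rfl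
    refine ⟨N, hN, 𝒮', j', hj', fun V _ => hinj V, h0, hgen, hft, u', hu', fun x => ?_,
      fun P' p' chart' hP' r' hr' => hwit j' u' hu' hP' hr' fun c => hlift _ _ _ (hfQ c)⟩
    obtain ⟨c, V, hV, hle, hxV, hz⟩ := hcov x
    have hzV : pL (inv pL x) ∈ V := by rw [pL_inv_apply]; exact hxV
    obtain ⟨W, hW, i, hzW, hspan⟩ := exists_span_of_mem_nz hj hPL hL V hV N
      (Graded.map_mem (u.gradedAt (U c).1 (U c).2 V hV hle) (hf c)) (hz (inv pL x) (pL_inv_apply x))
    obtain ⟨e, he, hef⟩ := hlift _ _ _ (hfQ c)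
    refine ⟨(U c).1, (U c).2, e, he, W, hW, i.trans hle, (pL_inv_apply (pL := pL) x) ▸ hzW, ?_⟩
    rw [appLE_comp u j' u' hu', hef]
    have h2 : (𝒮L.presheaf.map (homOfLE i).op).hom (u.gradedAt (U c).1 (U c).2 V hV hle (f c)) =
        (u.appLE (U c).1 W (i.trans hle)).hom (f c) := gradedAt_res_right u (U c).2 hV hW hle i (f c)
    rw [h2] at hspan
    exact hspan
  · rintro ⟨n, -, 𝒮', j', hj', -, -, -, -, u', hu', -, himm'⟩
    obtain ⟨P', p', chart', hP'⟩ := Groth.Agent.S8258.result 𝒮'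
    obtain ⟨r', hr', -⟩ := existsUnique_qMap u' hP' hPL
    obtain ⟨hdef, hi⟩ := himm' P' p' chart' hP' r' hr'
    exact isImmersion_of_comp u j' hj' u' hu' hP hP' hPL hr hr' hdef

end Groth.Agent.S12162
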