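import Groth.Statements.S12166
import Groth.Agent.ProjLib.QMapTN
-- import your own Groth.Agent.* helpers here

set_option autoImplicit false
set_option backward.isDefEq.respectTransparency.types false
universe u
open CategoryTheory CategoryTheory.Limits AlgebraicGeometry TopologicalSpace Opposite
open scoped HomogeneousIdeal
noncomputable section
open EGA2

namespace Groth.Agent.S12166

/-- Let φ : 𝒜 → ℬ be a graded homomorphism of quasi-coherent positively graded O_Y-algebras which is a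
(TN)-isomorphism (φ : 𝒜_k → ℬ_k bijective for all large k, on sections over affine opens), PA =
Proj(𝒜), PB = Proj(ℬ) with their charts. Then Proj(φ) is defined on all of PB and is an isomorphism
PB → PA. -/
theorem result {Y PA PB : Scheme.{u}} (𝒜 ℬ : RelProj.QCGrAlg Y)
    (φ : 𝒜.toQCAlg ⟶ ℬ.toQCAlg) (hφ : RelProj.IsGradedHom φ)
    (hTN : ∃ n : ℕ, ∀ k, n ≤ k → ∀ (U : Y.Opens) (hU : IsAffineOpen U),
      (∀ x ∈ 𝒜.deg U hU k, (φ.hom.app (op U)).hom x = 0 → x = 0) ∧
        ∀ y ∈ ℬ.deg U hU k, ∃ x ∈ 𝒜.deg U hU k, (φ.hom.app (op U)).hom x = y)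
    (pA : PA ⟶ Y) (chartA : ∀ (U : Y.Opens) (hU : IsAffineOpen U), (((pA ⁻¹ᵁ U : PA.Opens) : Scheme.{u}) ≅ Proj (𝒜.deg U hU)))
    (hA : RelProj.IsRelProj 𝒜 pA chartA)
    (pB : PB ⟶ Y) (chartB : ∀ (U : Y.Opens) (hU : IsAffineOpen U), (((pB ⁻¹ᵁ U : PB.Opens) : Scheme.{u}) ≅ Proj (ℬ.deg U hU)))
    (hB : RelProj.IsRelProj ℬ pB chartB) :
    RelProj.domQ (RelProj.QGrHom.ofHom φ hφ) pB chartB = ⊤ ∧
      ∀ h : PB ⟶ PA, RelProj.IsProjQMap (RelProj.QGrHom.ofHom φ hφ) pA chartA pB chartB h → IsIso h := by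
  obtain ⟨N, hN⟩ := hTN
  refine ⟨Groth.Agent.QProj.domQ_eq_top_of_eventually φ hφ hB fun k hk U hU y hy => (hN k hk U hU).2 y hy, fun h hh => ?_⟩
  refine Groth.Agent.QProj.property_of_isProjQMap φ hφ hA hB hh (Q := MorphismProperty.isomorphisms Scheme)
    fun U hU d hd f hf => ?_
  have : IsIso (CommRingCat.ofHom (HomogeneousLocalization.Away.map
      ((RelProj.QGrHom.ofHom φ hφ).gradedAt U hU U hU le_rfl) f)) := by
    rw [ConcreteCategory.isIso_iff_bijective]
    refine ⟨Groth.Agent.QProj.away_map_injective_of_eventually (N := N) _ hd hf fun n hn a ha h0 => ?_,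
      Groth.Agent.QProj.away_map_surjective_of_eventually (N := N) _ hd hf fun n hn b hb => ?_⟩
    · exact (hN n hn U hU).1 a ha ((Groth.Agent.QProj.gradedAt_ofHom_apply φ hφ U hU a).symm.trans h0)
    · obtain ⟨a, ha, hab⟩ := (hN n hn U hU).2 b hb
      exact ⟨a, ha, (Groth.Agent.QProj.gradedAt_ofHom_apply φ hφ U hU a).trans hab⟩
  exact inferInstanceAs (IsIso (Spec.map _))

end Groth.Agent.S12166
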