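import Groth.Statements.S1217
import Groth.Agent.FlatMorDevissage.PureDescend

set_option autoImplicit false
universe u
open FlatMor

namespace Groth.Agent.S1217

/-- Ring form, X = Spec B affine: let B be a finite type A-algebra, N a finite B-module, p a prime of A,
and A' an A-algebra with a prime p' over p such that the local ring of A' at p' is flat over A. Let
B', N' be the base changes of B, N to A'. If N' is pure along the fibre over p' then N is pure along
the fibre over p, and likewise for universal purity. -/
theorem result {A B : Type u} [CommRing A] [CommRing B] [Algebra A B] [Algebra.FiniteType A B]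
    (N : Type u) [AddCommGroup N] [Module B N] [Module.Finite B N] (p : Ideal A) [p.IsPrime]
    (A' B' N' : Type u) [CommRing A'] [CommRing B'] [Algebra A A'] [Algebra B B'] [Algebra A' B'] [Algebra A B']
    [IsScalarTower A B B'] [IsScalarTower A A' B'] [Algebra.IsPushout A B A' B']
    [AddCommGroup N'] [Module B' N'] [Module B N'] [IsScalarTower B B' N'] (f : N →ₗ[B] N') (hf : IsBaseChange B' f)
    (p' : Ideal A') [p'.IsPrime] [p'.LiesOver p] [Module.Flat A (Localization.AtPrime p')] :
    (FlatCA.IsPureAlong A' B' N' p' → FlatCA.IsPureAlong A B N p) ∧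
    (FlatCA.IsUnivPureAlong A' B' N' p' → FlatCA.IsUnivPureAlong A B N p) := by
  open Groth.Agent.FlatMorDevissage in
  refine ⟨fun h => ?_, fun h => ?_⟩
  · intro Aa Ba Na _ _ _ _ _ _ _ _ _ _ _ _ _ _ fa t' t _ _ P _ ht himp
    obtain ⟨A₂, B₂, N₂, _, _, _, _, _, _, _, _, _, _, _, _, _, _, f₂, s', s, _, _, P₂, _, himp₂, ⟨_, hs⟩⟩ :=
      exists_impurity_baseChange N p A' B' N' f hf p'
        (fun C _ _ I => ∃ _ : I.IsPrime, FlatCA.IsEtaleNhd A C p I)
        (fun C _ _ I => ∃ _ : I.IsPrime, FlatCA.IsEtaleNhd A' C p' I)
        (fun C _ _ t _ t₂ _ _ _ _ hQ => ⟨inferInstance, isEtaleNhd_tensor p p' t hQ.2 t₂⟩)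
        ⟨Aa, Ba, Na, inferInstance, inferInstance, inferInstance, inferInstance, inferInstance,
          inferInstance, inferInstance, inferInstance, inferInstance, inferInstance, inferInstance,
          inferInstance, inferInstance, inferInstance, fa, t', t, inferInstance, inferInstance, P,
          inferInstance, himp, inferInstance, ht⟩
    exact h A₂ B₂ N₂ f₂ s' s P₂ hs himp₂
  · intro Aa Ba Na _ _ _ _ _ _ _ _ _ _ _ _ _ _ fa t' t _ _ P _ himp
    obtain ⟨A₂, B₂, N₂, _, _, _, _, _, _, _, _, _, _, _, _, _, _, f₂, s', s, _, _, P₂, _, himp₂, -⟩ :=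
      exists_impurity_baseChange N p A' B' N' f hf p' (fun _ _ _ _ => True) (fun _ _ _ _ => True)
        (fun _ _ _ _ _ _ _ _ _ _ _ => trivial)
        ⟨Aa, Ba, Na, inferInstance, inferInstance, inferInstance, inferInstance, inferInstance,
          inferInstance, inferInstance, inferInstance, inferInstance, inferInstance, inferInstance,
          inferInstance, inferInstance, inferInstance, fa, t', t, inferInstance, inferInstance, P,
          inferInstance, himp, trivial⟩
    exact h A₂ B₂ N₂ f₂ s' s P₂ himp₂

end Groth.Agent.S1217
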