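import Groth.Statements.S12192
import Groth.Agent.AlgSpLib.ModifHom
-- import your own Groth.Agent.* helpers here

set_option autoImplicit false
universe u
open CategoryTheory CategoryTheory.Limits AlgebraicGeometry
open AlgSp

set_option backward.isDefEq.respectTransparency false
set_option backward.isDefEq.respectTransparency.types false

namespace Groth.Agent.S12192

open Groth.Agent.AlgSpLib

/-- Let f : Y' → Y be a proper morphism between algebraic spaces over the scheme S, i : Z → Y a closed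
immersion, E = Z ×_Y Y', and assume f is an isomorphism over the open complement of Z. Let V₁, V₂ be
etale over Y, with base changes V₁', V₂' to Y' and W₁, W₂ to Z, and let P₁ be the base change of V₁
to E (through both V₁' and W₁). Then a morphism m' : V₁' → V₂' over Y' and a morphism n : W₁ → W₂
over Z inducing the same morphism P₁ → V₂ are the base changes of exactly one morphism V₁ → V₂ over
Y. (The published statement asserts that the functor sending a space etale over Y to its base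
changes to Y' and to Z, glued along E, is an equivalence of categories onto such glueing data; this
row states that it is fully faithful.) -/
theorem result {S : Scheme.{u}}
    {Y Y' Z E U U' V₁ V₂ V₁' V₂' W₁ W₂ P₁ : AlgSp.Space S} (f : Y' ⟶ Y)
    (hf : AlgSp.IsProperMor f.hom) (i : Z ⟶ Y) (hi : AlgSp.RepWith @IsClosedImmersion i.hom) (j : E ⟶ Y')
    (g : E ⟶ Z) (hE : IsPullback j.hom g.hom f.hom i.hom) (jU : U ⟶ Y)
    (hjU : AlgSp.RepWith @IsOpenImmersion jU.hom)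
    (hU : Set.range (AlgSp.Points.map jU.hom) = (Set.range (AlgSp.Points.map i.hom))ᶜ) (fU : U' ⟶ U)
    (jU' : U' ⟶ Y') (hU' : IsPullback jU'.hom fU.hom f.hom jU.hom) [IsIso fU]
    (v₁ : V₁ ⟶ Y) (v₂ : V₂ ⟶ Y) (hv₁ : AlgSp.IsEtaleMor v₁.hom) (hv₂ : AlgSp.IsEtaleMor v₂.hom)
    (a₁ : V₁' ⟶ V₁) (p₁ : V₁' ⟶ Y') (ha₁ : IsPullback a₁.hom p₁.hom v₁.hom f.hom)
    (a₂ : V₂' ⟶ V₂) (p₂ : V₂' ⟶ Y') (ha₂ : IsPullback a₂.hom p₂.hom v₂.hom f.hom)
    (b₁ : W₁ ⟶ V₁) (q₁ : W₁ ⟶ Z) (hb₁ : IsPullback b₁.hom q₁.hom v₁.hom i.hom)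
    (b₂ : W₂ ⟶ V₂) (q₂ : W₂ ⟶ Z) (hb₂ : IsPullback b₂.hom q₂.hom v₂.hom i.hom)
    (r₁ : P₁ ⟶ V₁') (s₁ : P₁ ⟶ W₁) (e₁ : P₁ ⟶ E)
    (hr₁ : IsPullback r₁.hom e₁.hom p₁.hom j.hom) (hs₁ : IsPullback s₁.hom e₁.hom q₁.hom g.hom)
    (hP₁ : r₁ ≫ a₁ = s₁ ≫ b₁)
    (m' : V₁' ⟶ V₂') (hm' : m' ≫ p₂ = p₁) (n : W₁ ⟶ W₂) (hn : n ≫ q₂ = q₁)
    (hmn : r₁ ≫ m' ≫ a₂ = s₁ ≫ n ≫ b₂) :
    ∃! m : V₁ ⟶ V₂, m ≫ v₂ = v₁ ∧ a₁ ≫ m = m' ≫ a₂ ∧ b₁ ≫ m = n ≫ b₂ := by
  have hij : (Set.range (Points.map i.hom)) ∪ Set.range (Points.map jU.hom) = Set.univ := by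
    rw [hU, Set.union_compl_self]
  haveI : IsIso fU.hom := (ObjectProperty.ι _).map_isIso fU
  haveI hmonoi : Mono i.hom :=
    mono_of_repWith (fun _ _ f (_ : IsClosedImmersion f) => (inferInstance : Mono f)) hi
  have hicl : IsUnivClosedMor i.hom := (repWith_universallyClosed_iff hi.1).1
    (RepWith.mono (fun _ _ f (hf : IsClosedImmersion f) => by
      haveI := hf; exact (inferInstance : UniversallyClosed f)) hi)
  have hbc : ∀ {A X Z B : Sp S} {fst : A ⟶ X} {snd : A ⟶ Z} {h : X ⟶ B} {k : Z ⟶ B},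
      IsPullback fst snd h k → IsUnivClosedMor h → IsUnivClosedMor snd :=
    fun sq hh Z₀ Z' hZ₀ g a b sq' =>
      hh hZ₀ (g ≫ _) (a ≫ _) b (sq'.paste_horiz sq)
  let A : Bool → Sp S := fun b => Bool.rec V₁'.obj W₁.obj b
  let α : ∀ b, A b ⟶ V₁.obj := fun b => Bool.rec a₁.hom b₁.hom b
  let u : ∀ b, A b ⟶ V₂.obj := fun b => Bool.rec (m'.hom ≫ a₂.hom) (n.hom ≫ b₂.hom) b
  have hm'0 := congr($(hm').hom)
  have hn0 := congr($(hn).hom)
  have hP0 := congr($(hP₁).hom)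
  have hmn0 := congr($(hmn).hom)
  simp only [ObjectProperty.FullSubcategory.comp_hom] at hm'0 hn0 hP0 hmn0
  -- the two values agree over `E`
  have mixed : ∀ {T : Sp S} (l : T ⟶ V₁'.obj) (l' : T ⟶ W₁.obj), l ≫ a₁.hom = l' ≫ b₁.hom →
      l ≫ m'.hom ≫ a₂.hom = l' ≫ n.hom ≫ b₂.hom := by
    intro T l l' h
    have he : (l ≫ p₁.hom) ≫ f.hom = (l' ≫ q₁.hom) ≫ i.hom := by
      rw [Category.assoc, Category.assoc, ← ha₁.w, ← hb₁.w, reassoc_of% h]
    obtain ⟨e, he₁, he₂⟩ := hE.exists_lift _ _ he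
    obtain ⟨r, hr, hre⟩ := hr₁.exists_lift l e he₁.symm
    have hrs : r ≫ s₁.hom = l' := by
      refine hb₁.hom_ext ?_ ?_
      · rw [Category.assoc, ← hP0, reassoc_of% hr, h]
      · rw [Category.assoc, hs₁.w, reassoc_of% hre, he₂]
    rw [← hr, ← hrs, Category.assoc, Category.assoc, hmn0]
  have hsv : ModifHom.SingleValued A α u := by
    intro a b K _ sK l l' h
    cases a <;> cases b
    · rcases Set.eq_univ_iff_forall.1 hij (ptOfHom (l ≫ a₁.hom ≫ v₁.hom)) with hz | hz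
      · obtain ⟨L, _, sL, ρ, z, hρ⟩ := ModifHom.exists_lift_ext i.hom _ hz
        obtain ⟨l'', hl'', -⟩ := hb₁.exists_lift ((yon S).map ρ ≫ l ≫ a₁.hom) z
          (by simpa using hρ.symm)
        refine ⟨L, inferInstance, sL, ρ, ?_⟩
        show (yon S).map ρ ≫ l ≫ m'.hom ≫ a₂.hom = (yon S).map ρ ≫ l' ≫ m'.hom ≫ a₂.hom
        have e1 := mixed ((yon S).map ρ ≫ l) l'' (by simpa using hl''.symm)
        have e2 := mixed ((yon S).map ρ ≫ l') l'' (by
          rw [Category.assoc, hl'', show l' ≫ a₁.hom = l ≫ a₁.hom from h.symm])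
        simp only [Category.assoc] at e1 e2
        rw [e1, e2]
      · obtain ⟨L, _, sL, ρ, z, hρ⟩ := ModifHom.exists_lift_ext jU.hom _ hz
        refine ⟨L, inferInstance, sL, ρ, ?_⟩
        have h' : l ≫ a₁.hom = l' ≫ a₁.hom := h
        have e1 : ((yon S).map ρ ≫ l ≫ p₁.hom) ≫ f.hom = z ≫ jU.hom := by
          rw [Category.assoc, Category.assoc, ← ha₁.w, hρ]
        have e2 : ((yon S).map ρ ≫ l' ≫ p₁.hom) ≫ f.hom = z ≫ jU.hom := by
          rw [Category.assoc, Category.assoc, ← ha₁.w, ← reassoc_of% h', hρ]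
        obtain ⟨y, hy, hy'⟩ := hU'.exists_lift _ _ e1
        obtain ⟨y', hy₂, hy₂'⟩ := hU'.exists_lift _ _ e2
        have hyy : y = y' := by rw [← cancel_mono fU.hom, hy', hy₂']
        have hll : (yon S).map ρ ≫ l = (yon S).map ρ ≫ l' := by
          refine ha₁.hom_ext ?_ ?_
          · simp only [Category.assoc, h']
          · simp only [Category.assoc, ← hy, ← hy₂, hyy]
        rw [← Category.assoc, hll, Category.assoc]
    · exact ⟨K, inferInstance, sK, 𝟙 _, congrArg _ (mixed l l' h)⟩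
    · exact ⟨K, inferInstance, sK, 𝟙 _, congrArg _ (mixed l' l h.symm).symm⟩
    · refine ⟨K, inferInstance, sK, 𝟙 _, ?_⟩
      have : l = l' := by
        refine hb₁.hom_ext h ?_
        rw [← cancel_mono i.hom, Category.assoc, Category.assoc, ← hb₁.w, reassoc_of% h]
      rw [this]
  have hsurj : ∀ z : Points V₁.obj, ∃ b, z ∈ Set.range (Points.map (α b)) := by
    intro z
    rcases Set.eq_univ_iff_forall.1 hij (Points.map v₁.hom z) with ⟨w, hw⟩ | ⟨w, hw⟩
    · obtain ⟨x, hx, -⟩ := exists_point_of_isPullback hb₁ hw.symm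
      exact ⟨true, x, hx⟩
    · have hy : Points.map f.hom (Points.map jU'.hom (Points.map (inv fU.hom) w)) =
          Points.map v₁.hom z := by
        rw [← Points.map_comp, ← Points.map_comp, hU'.w, IsIso.inv_hom_id_assoc, hw]
      obtain ⟨x, hx, -⟩ := exists_point_of_isPullback ha₁ hy.symm
      exact ⟨false, x, hx⟩
  obtain ⟨m, ⟨hm₁, hm₂⟩, huniq⟩ := ModifHom.existsUnique_hom hsv V₁.property V₂.property Y.property
    v₁.hom v₂.hom hv₂ (fun b => by
      cases b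
      · exact V₁'.property
      · exact W₁.property)
    (fun b => by
      cases b
      · exact hbc ha₁.flip hf.2.2
      · exact hbc hb₁.flip hicl)
    (fun b => by
      cases b
      · show a₁.hom ≫ v₁.hom = (m'.hom ≫ a₂.hom) ≫ v₂.hom
        rw [Category.assoc, ha₂.w, ha₁.w, reassoc_of% hm'0]
      · show b₁.hom ≫ v₁.hom = (n.hom ≫ b₂.hom) ≫ v₂.hom
        rw [Category.assoc, hb₂.w, hb₁.w, reassoc_of% hn0])
    hsurj
  refine ⟨ObjectProperty.homMk m, ⟨ObjectProperty.hom_ext _ hm₁, ObjectProperty.hom_ext _ (hm₂ false),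
    ObjectProperty.hom_ext _ (hm₂ true)⟩, fun m₀ ⟨h₁, h₂, h₃⟩ => ObjectProperty.hom_ext _ ?_⟩
  exact huniq m₀.hom ⟨congr($(h₁).hom), fun b => by
    cases b
    · exact congr($(h₂).hom)
    · exact congr($(h₃).hom)⟩

end Groth.Agent.S12192
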