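import Groth.Statements.S12194
import Groth.Agent.AlgSpLib.QCohEtSupport
import Groth.Agent.AlgSpLib.QCohEtPush
-- import your own Groth.Agent.* helpers here

set_option autoImplicit false
universe u
open CategoryTheory CategoryTheory.Limits AlgebraicGeometry Opposite
open AlgSp

namespace Groth.Agent.S12194

open Groth.Agent.AlgSpLib

/-- Let X be a locally Noetherian algebraic space over S, φ : G ⟶ F a morphism of coherent O_X-modules
on the small etale site of X (of finite presentation, X being locally Noetherian) and x̄ a geometric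
point of X. If the map φ_x̄ on stalks at x̄ (of the underlying abelian sheaves) is surjective, then
there is an open subspace X' ⊂ X containing the image of x̄ such that φ|_{X'} is surjective: the
stalk map φ_ȳ is surjective for every geometric point ȳ of X lying over a point of |X'|. -/
theorem result {S : Scheme.{u}} (X : AlgSp.Space S)
    (hX : AlgSp.IsLocNoethSp X.obj) {G F : AlgSp.ModEt X.obj} [G.IsFinitePresentation] [F.IsFinitePresentation]
    (φ : G ⟶ F) (xbar : AlgSp.FieldPt X.obj) (hx : xbar.IsGeometric)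
    (hsurj : Epi ((AlgSp.stalkEtFunctor AddCommGrpCat.{u + 1} xbar).map ((AlgSp.toAbEt X.obj).map φ))) :
    ∃ (X' : AlgSp.Space S) (j : X' ⟶ X), AlgSp.RepWith @IsOpenImmersion j.hom ∧
      AlgSp.Points.mk xbar ∈ Set.range (AlgSp.Points.map j.hom) ∧
        ∀ ybar : AlgSp.FieldPt X.obj, ybar.IsGeometric →
          AlgSp.Points.mk ybar ∈ Set.range (AlgSp.Points.map j.hom) →
            Epi ((AlgSp.stalkEtFunctor AddCommGrpCat.{u + 1} ybar).map ((AlgSp.toAbEt X.obj).map φ)) := by
  obtain ⟨⟨E₀, x₀⟩⟩ := Groth.Agent.Stk19b.EtNbhd.exists_nbhd X.property xbar hx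
  obtain ⟨E, g₀, x, hE, -⟩ := QCohEt.exists_affine_refine hx x₀
  haveI := hE
  haveI : Module.FinitePresentation (QCohEt.ΓE E) (QCohEt.Sec F E) := QCohEt.finitePresentation_sec F E
  obtain ⟨Z, g, z, hZ, -, hs⟩ := QCohEt.exists_nbhd_surjective X.property hx φ
    ((AddCommGrpCat.epi_iff_surjective _).1 hsurj) x
  haveI := hZ
  let W : Set (AlgSp.Points X.obj) := Set.range (AlgSp.Points.ofPt Z.obj.hom)
  have hW : IsOpen W := (isOpenMap_ofPt Z.obj.hom Z.property).isOpen_range
  refine ⟨⟨openSubspace X.obj W, isAlgSpace_openSubspace X.property hW⟩,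
    ObjectProperty.homMk (openSubspaceι X.obj W), repWith_openSubspaceι X.obj hW, ?_, fun y hy hyW => ?_⟩
  · rw [ObjectProperty.homMk_hom, range_openSubspaceι]
    exact QCohEt.mk_mem_range_ofPt z
  · rw [ObjectProperty.homMk_hom, range_openSubspaceι] at hyW
    obtain ⟨e, he⟩ := hyW
    obtain ⟨v, hv, -⟩ := Groth.Agent.Stk19b.EtNbhd.exists_lift y hy Z.obj.hom Z.property e he
    refine (AddCommGrpCat.epi_iff_surjective _).2 fun w => ?_
    obtain ⟨Y, v', t, rfl⟩ := (Groth.Agent.Stk19b.EtNbhd.point X.property y hy).toPresheafFiber_jointly_surjective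
      (P := ((AlgSp.toAbEt X.obj).obj F).obj) w
    obtain ⟨r, hr1, hr2⟩ := Groth.Agent.Stk19b.EtNbhd.exists_prod_lift (p := y) ⟨Y, v'⟩ ⟨Z, ⟨v, hv⟩⟩
    obtain ⟨V, k, r', hV, hr'⟩ := QCohEt.exists_affine_refine hy r
    haveI := hV
    obtain ⟨s, hs'⟩ := QCohEt.surjective_of_hom φ (k ≫ AlgSp.EtOver.prodSnd Y Z) hs
      (QCohEt.mapSec F (k ≫ AlgSp.EtOver.prodFst Y Z) t)
    refine ⟨QCohEt.germ X.property hy G r' s, (QCohEt.germ_secMap X.property hy φ r' s).trans ?_⟩
    refine (congrArg (QCohEt.germ X.property hy F r') hs').trans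
      ((QCohEt.germ_mapSec X.property hy F (k ≫ AlgSp.EtOver.prodFst Y Z) r' t).trans ?_)
    refine congrArg (fun v => QCohEt.germ X.property hy F v t) ?_
    rw [Functor.map_comp_apply, hr']
    exact hr1

end Groth.Agent.S12194
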