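import Groth.Statements.S12199
import Groth.Agent.AlgSpLib.TorsorUnram
import Groth.Agent.AlgSpLib.FibreQF
import Groth.Agent.AlgSpLib.HasAtNbhd
-- import your own Groth.Agent.* helpers here

set_option autoImplicit false
universe u
open CategoryTheory CategoryTheory.Limits AlgebraicGeometry MonoidalCategory MonObj
open AlgSp

namespace Groth.Agent.S12199

open Groth.Agent.AlgSpLib in
open MonoidalCategory CartesianMonoidalCategory MonObj in
theorem exists_translate {S : Scheme.{u}} {B : AlgSp.Sp S} {G : Over B} [GrpObj G] {T : AlgSp.Sp S} (r : T ⟶ G.left) :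
    ∃ τ : pullback G.hom (r ≫ G.hom) ≅ pullback G.hom (r ≫ G.hom),
      τ.hom ≫ pullback.snd _ _ = pullback.snd _ _ ∧
      pullback.lift ((r ≫ G.hom) ≫ (η[G] : 𝟙_ (Over B) ⟶ G).left) (𝟙 T)
        (by
          have h : (η[G] : 𝟙_ (Over B) ⟶ G).left ≫ G.hom = 𝟙 B := Over.w (η[G] : 𝟙_ (Over B) ⟶ G)
          rw [Category.id_comp, Category.assoc]
          exact (congrArg ((r ≫ G.hom) ≫ ·) h).trans (Category.comp_id _)) ≫ τ.hom ≫ pullback.fst _ _ = r := by
  let Z : Over B := Over.mk (r ≫ G.hom)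
  let R : Z ⟶ G := Over.homMk r rfl
  let τ : G ⊗ Z ≅ G ⊗ Z :=
    { hom := lift (fst G Z * (snd G Z ≫ R)) (snd G Z)
      inv := lift (fst G Z * (snd G Z ≫ R)⁻¹) (snd G Z)
      hom_inv_id := by
        apply CartesianMonoidalCategory.hom_ext
        · rw [Category.assoc, lift_fst, MonObj.comp_mul, lift_fst, GrpObj.comp_inv, lift_snd_assoc, mul_inv_cancel_right,
            Category.id_comp]
        · rw [Category.assoc, lift_snd, lift_snd, Category.id_comp]
      inv_hom_id := by
        apply CartesianMonoidalCategory.hom_ext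
        · rw [Category.assoc, lift_fst, MonObj.comp_mul, lift_fst, lift_snd_assoc, inv_mul_cancel_right,
            Category.id_comp]
        · rw [Category.assoc, lift_snd, lift_snd, Category.id_comp] }
  refine ⟨(Over.forget B).mapIso τ, congrArg CommaMorphism.left (lift_snd (fst G Z * (snd G Z ≫ R)) (snd G Z)), ?_⟩
  have h : lift (toUnit Z ≫ η[G]) (𝟙 Z) ≫ τ.hom ≫ fst G Z = R := by
    rw [lift_fst, MonObj.comp_mul, lift_fst, lift_snd_assoc, Category.id_comp, ← Hom.one_def, _root_.one_mul]
  have hs : (lift (toUnit Z ≫ η[G]) (𝟙 Z)).left =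
      pullback.lift ((r ≫ G.hom) ≫ (η[G] : 𝟙_ (Over B) ⟶ G).left) (𝟙 T)
        (by
          have h : (η[G] : 𝟙_ (Over B) ⟶ G).left ≫ G.hom = 𝟙 B := Over.w (η[G] : 𝟙_ (Over B) ⟶ G)
          rw [Category.id_comp, Category.assoc]
          exact (congrArg ((r ≫ G.hom) ≫ ·) h).trans (Category.comp_id _)) := by
    apply pullback.hom_ext
    · refine (congrArg CommaMorphism.left (lift_fst (toUnit Z ≫ η[G]) (𝟙 Z))).trans (Eq.trans ?_ (pullback.lift_fst _ _ _).symm)
      rfl
    · exact (congrArg CommaMorphism.left (lift_snd (toUnit Z ≫ η[G]) (𝟙 Z))).trans (pullback.lift_snd _ _ _).symm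
  exact (congrArg (fun m => m ≫ τ.hom.left ≫ pullback.fst G.hom (r ≫ G.hom)) hs.symm).trans (congrArg CommaMorphism.left h)

open Groth.Agent.AlgSpLib in
open MonoidalCategory MonObj in
theorem lqf_everywhere {S : Scheme.{u}} {B : AlgSp.Sp S} (hB : AlgSp.IsAlgSpace B) (G : Over B) [GrpObj G]
    (hG : AlgSp.IsAlgSpace G.left) (hlft : AlgSp.LocP @LocallyOfFiniteType G.hom)
    (h : ∀ b : AlgSp.Points B, AlgSp.HasAtMor
          (fun U _ h u => ∃ W : U.Opens, u ∈ W ∧ LocallyQuasiFinite (W.ι ≫ h) ∧ LocallyOfFiniteType (W.ι ≫ h))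
          G.hom (AlgSp.Points.map (η[G] : 𝟙_ (Over B) ⟶ G).left b)) (x : AlgSp.Points G.left) :
    AlgSp.HasAtMor
      (fun U _ h u => ∃ W : U.Opens, u ∈ W ∧ LocallyQuasiFinite (W.ι ≫ h) ∧ LocallyOfFiniteType (W.ι ≫ h))
      G.hom x := by
  obtain ⟨p, rfl⟩ := Quotient.exists_rep x
  have hx : Points.map p.toHom (Points.ofScheme p.pt (IsLocalRing.closedPoint p.K)) = Points.mk p :=
    (Points.ofPt_eq_map_ofScheme _ _).symm.trans ((ofPt_eq_ptOfHom_of_field _ _).trans (ptOfHom_toHom p))
  change HasAtMor _ G.hom (Points.mk p)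
  rw [← hx]
  let r : (yon S).obj p.pt ⟶ G.left := p.toHom
  let t := Points.ofScheme p.pt (IsLocalRing.closedPoint p.K)
  obtain ⟨τ, hτ₁, hτ₂⟩ := exists_translate r
  obtain ⟨X', j, hj, hjx, hjl⟩ := exists_open_lqf (X := ⟨G.left, hG⟩) (Y := ⟨B, hB⟩) (ObjectProperty.homMk G.hom)
    hlft (h (Points.map (r ≫ G.hom) t))
  have hZ : IsAlgSpace ((yon S).obj p.pt) := IsAlgSpace.yon_obj _
  have sq := IsPullback.of_hasPullback G.hom (r ≫ G.hom)
  have hP := isAlgSpace_of_isPullback hB.diag hG hZ sq
  have sq₂ := IsPullback.of_hasPullback j.hom (pullback.fst G.hom (r ≫ G.hom))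
  have hQ := isAlgSpace_of_isPullback hG.diag X'.property hP sq₂
  let s : (yon S).obj p.pt ⟶ pullback G.hom (r ≫ G.hom) :=
    pullback.lift ((r ≫ G.hom) ≫ (η[G] : 𝟙_ (Over B) ⟶ G).left) (𝟙 _)
      (by
        have h : (η[G] : 𝟙_ (Over B) ⟶ G).left ≫ G.hom = 𝟙 B := Over.w (η[G] : 𝟙_ (Over B) ⟶ G)
        rw [Category.id_comp, Category.assoc]
        exact (congrArg ((r ≫ G.hom) ≫ ·) h).trans (Category.comp_id _))
  obtain ⟨y, hy⟩ := hjx
  have hs1 : Points.map (pullback.fst G.hom (r ≫ G.hom)) (Points.map s t) = Points.map j.hom y := by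
    rw [hy, ← Points.map_comp, ← Points.map_comp]
    exact congrArg (fun m => Points.map m t) (pullback.lift_fst _ _ _)
  obtain ⟨q, -, hq⟩ := exists_point_of_isPullback sq₂ (x := y) (y := Points.map s t) hs1.symm
  obtain ⟨W, a, hae, has⟩ := hQ.atlas
  obtain ⟨w, hw⟩ := surjective_map_of_repWith has q
  obtain ⟨w, rfl⟩ := (Points.schemeEquiv W).surjective w
  let jQ := pullback.snd j.hom (pullback.fst G.hom (r ≫ G.hom))
  have hjQ : RepWith @Etale jQ := RepWith.mono (fun _ _ k (_ : IsOpenImmersion k) => (inferInstance : Etale k))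
    (RepWith.baseChange sq₂ hj)
  let a' := a ≫ jQ ≫ τ.hom
  have ha' : RepWith @Etale a' := RepWith.comp hae (RepWith.comp hjQ (repWith_of_isIso _ _))
  obtain ⟨π, hπ⟩ := (yon S).map_surjective (a' ≫ pullback.snd G.hom (r ≫ G.hom))
  have hl : LocP (@LocallyQuasiFinite ⊓ @LocallyOfFiniteType) (jQ ≫ pullback.snd G.hom (r ≫ G.hom)) :=
    locP_of_isPullback etLocal_lqf X'.property hB hQ (sq₂.paste_vert sq) hjl
  have hπ' : LocallyQuasiFinite π.left := (hl a (𝟙 _) π hae (repWith_id _ _) (by
    rw [Category.comp_id, hπ]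
    simp only [a', Category.assoc, hτ₁])).1
  have := lqf_of_baseChange hG hB hlft sq a' ha' π hπ w (by
    haveI : LocallyOfFiniteType π.left := (hl a (𝟙 _) π hae (repWith_id _ _) (by
      rw [Category.comp_id, hπ]
      simp only [a', Category.assoc, hτ₁])).2
    exact ((Scheme.Hom.quasiFiniteLocus_eq_top_iff π.left).2 hπ').ge (Set.mem_univ w))
  convert this using 1
  rw [Points.ofPt_eq_map_ofScheme]
  change Points.map r t = Points.map (pullback.fst G.hom (r ≫ G.hom)) (Points.map (a ≫ jQ ≫ τ.hom) _)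
  rw [Points.map_comp a, show Points.map a (Points.ofScheme W w) = q from hw, Points.map_comp jQ, hq, ← Points.map_comp, ← Points.map_comp, hτ₂]

open Groth.Agent.AlgSpLib in
open MonoidalCategory MonObj in
theorem unram_of_unit {S : Scheme.{u}} {B : AlgSp.Sp S} (hB : AlgSp.IsAlgSpace B) (G : Over B) [GrpObj G]
    (hG : AlgSp.IsAlgSpace G.left) (hlft : AlgSp.LocP @LocallyOfFiniteType G.hom)
    (h : ∀ b : AlgSp.Points B, AlgSp.HasAtMor
          (fun U _ h u => ∃ W : U.Opens, u ∈ W ∧ LocallyOfFiniteType (W.ι ≫ h) ∧ FormallyUnramified (W.ι ≫ h))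
          G.hom (AlgSp.Points.map (η[G] : 𝟙_ (Over B) ⟶ G).left b)) :
    AlgSp.LocP (@LocallyOfFiniteType ⊓ @FormallyUnramified) G.hom := by
  let e : B ⟶ G.left := (η[G] : 𝟙_ (Over B) ⟶ G).left
  have he : e ≫ G.hom = 𝟙 B := Over.w (η[G] : 𝟙_ (Over B) ⟶ G)
  let O := {x : Points G.left | HasAtMor
    (fun U _ h u => ∃ W : U.Opens, u ∈ W ∧ (@LocallyOfFiniteType ⊓ @FormallyUnramified : MorphismProperty Scheme.{u}) (W.ι ≫ h))
      G.hom x}
  have hO : IsOpen O := isOpen_iff_forall_mem_open.2 fun x hx => by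
    obtain ⟨W, hW, hxW, hl⟩ := exists_open_subspace_of_hasAtMor etLocal_unramified hG hx
    refine ⟨W, fun y hy => ?_, hW, hxW⟩
    obtain ⟨y, rfl⟩ := (range_openSubspaceι G.left W).superset hy
    exact hasAtMor_of_open_subspace etLocal_unramified hB (isAlgSpace_openSubspace hG hW)
      (repWith_openSubspaceι G.left hW) hl y
  let i := openSubspaceι G.left O
  have hi : RepWith @IsOpenImmersion i := repWith_openSubspaceι G.left hO
  let G' : Space S := ⟨openSubspace G.left O, isAlgSpace_openSubspace hG hO⟩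
  have hl : LocP (@LocallyOfFiniteType ⊓ @FormallyUnramified) (i ≫ G.hom) := by
    refine locP_of_forall_hasAtMor etLocal_unramified (by
      intro A B f κ O hO h
      exact sourceGlue_of_mem (Or.inr (Or.inr (Or.inr (Or.inr (Or.inr (Or.inr fun _ _ g => Iff.rfl)))))) f O hO h)
      G'.property fun y => ?_
    obtain ⟨W, hW, hyW, hl⟩ := exists_open_subspace_of_hasAtMor etLocal_unramified hG
      ((range_openSubspaceι G.left O).subset (Set.mem_range_self y) : Points.map i y ∈ O)
    let i' := pullback.snd (openSubspaceι G.left W) i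
    have hi' : RepWith @IsOpenImmersion i' := RepWith.baseChange (IsPullback.of_hasPullback _ _) (repWith_openSubspaceι G.left hW)
    obtain ⟨z, hz⟩ := (range_openSubspaceι G.left W).superset hyW
    obtain ⟨q, -, hq⟩ := exists_point_of_isPullback (IsPullback.of_hasPullback (openSubspaceι G.left W) i) (x := z) (y := y) hz
    have hQ := isAlgSpace_of_isPullback hG.diag (isAlgSpace_openSubspace hG hW) G'.property
      (IsPullback.of_hasPullback (openSubspaceι G.left W) i)
    rw [← hq]
    refine hasAtMor_of_open_subspace etLocal_unramified hB hQ hi' ?_ q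
    rw [← Category.assoc, ← pullback.condition, Category.assoc]
    exact locP_comp etLocal_unramified hQ (isAlgSpace_openSubspace hG hW) hB
      (locP_of_repWith etLocal_unramified hQ (RepWith.mono etLocal_unramified.of_etale
        (RepWith.mono (fun _ _ k (_ : IsOpenImmersion k) => (inferInstance : Etale k))
          (RepWith.baseChange (IsPullback.of_hasPullback _ _).flip hi)))) hl
  obtain ⟨e', he'⟩ := (exists_lift_iff_range_subset hi e).2 (by
    rintro _ ⟨b, rfl⟩
    rw [range_openSubspaceι G.left O]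
    exact h b)
  have hd : RepWith @IsOpenImmersion (pullback.diagonal (i ≫ G.hom)) :=
    Stk19.diag_of_locP_unram (V := G') (Z := ⟨B, hB⟩) (i ≫ G.hom) hl
  have he'o : RepWith @IsOpenImmersion e' := repWith_of_comp @IsOpenImmersion (b := i ≫ G.hom) (by
    rw [← Category.assoc, he', he]
    exact repWith_of_isIso _ _) hd
  have heo : RepWith @IsOpenImmersion e := he' ▸ RepWith.comp he'o hi
  exact Stk19.locP_unram_of_diag (V := ⟨G.left, hG⟩) (Z := ⟨B, hB⟩) G.hom hlft
    (RepWith.baseChange (isPullback_diagonal_unit G) heo)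

/-- Let B be an algebraic space over S and G a group algebraic space over B with unit section e : B → G,
and suppose G is locally of finite type over B. Under this assumption, G → B is unramified exactly
when it is unramified at e(b) for every point b of |B|, and G → B is locally quasi-finite exactly
when it is quasi-finite at e(b) for every point b of |B|. Here 'unramified (resp. quasi-finite) at a
point' is the some-chart-diagram form: there are etale charts of G and B and a compatible morphism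
of schemes which is unramified (resp. locally quasi-finite of finite type) on an open neighbourhood
of a point over e(b). -/
theorem result (S : Scheme.{u}) (B : AlgSp.Sp S) (hB : AlgSp.IsAlgSpace B)
    (G : Over B) [GrpObj G] (hG : AlgSp.IsAlgSpace G.left) (hlft : AlgSp.LocP @LocallyOfFiniteType G.hom) :
    (AlgSp.LocP (@LocallyOfFiniteType ⊓ @FormallyUnramified) G.hom ↔
        ∀ b : AlgSp.Points B, AlgSp.HasAtMor
          (fun U _ h u => ∃ W : U.Opens, u ∈ W ∧ LocallyOfFiniteType (W.ι ≫ h) ∧ FormallyUnramified (W.ι ≫ h))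
          G.hom (AlgSp.Points.map (η[G]).left b)) ∧
    (AlgSp.LocP (@LocallyQuasiFinite ⊓ @LocallyOfFiniteType) G.hom ↔
        ∀ b : AlgSp.Points B, AlgSp.HasAtMor
          (fun U _ h u => ∃ W : U.Opens, u ∈ W ∧ LocallyQuasiFinite (W.ι ≫ h) ∧ LocallyOfFiniteType (W.ι ≫ h))
          G.hom (AlgSp.Points.map (η[G]).left b)) := by
  refine ⟨⟨fun h b => ?_, fun h => unram_of_unit hB G hG hlft h⟩, ⟨fun h b => ?_, fun h => ?_⟩⟩
  · have := Groth.Agent.AlgSpLib.hasAtMor_of_open_subspace Groth.Agent.AlgSpLib.etLocal_unramified hB hG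
      (j := 𝟙 G.left) (Groth.Agent.AlgSpLib.repWith_of_isIso _ _) (f := G.hom) (by rwa [Category.id_comp])
      (AlgSp.Points.map (η[G]).left b)
    rwa [AlgSp.Points.map_id] at this
  · have := Groth.Agent.AlgSpLib.hasAtMor_of_open_subspace Groth.Agent.AlgSpLib.etLocal_lqf hB hG
      (j := 𝟙 G.left) (Groth.Agent.AlgSpLib.repWith_of_isIso _ _) (f := G.hom) (by rwa [Category.id_comp])
      (AlgSp.Points.map (η[G]).left b)
    rwa [AlgSp.Points.map_id] at this
  · exact Groth.Agent.AlgSpLib.locP_of_forall_hasAtMor Groth.Agent.AlgSpLib.etLocal_lqf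
      (by
        intro A B f κ O hO h'
        exact Groth.Agent.AlgSpLib.sourceGlue_of_mem
          (Or.inr (Or.inr (Or.inr (Or.inr (Or.inr (Or.inl fun _ _ g => Iff.rfl)))))) f O hO h')
      hG fun x => lqf_everywhere hB G hG hlft h x

end Groth.Agent.S12199
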