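import Groth.Statements.S1220
import Groth.Agent.FlatMorDevissage.PureProjective
import Groth.Agent.FlatMorDevissage.PureLocal

set_option autoImplicit false
universe u
open FlatMor

namespace Groth.Agent.S1220

/-- Ring form, X = Spec B affine: let B be a finitely presented A-algebra and N a finitely presented
B-module flat over A. Then the set of points p of Spec A such that N is pure along the fibre over p
is open. -/
theorem result {A B : Type u} [CommRing A] [CommRing B] [Algebra A B] [Algebra.FinitePresentation A B]
    (N : Type u) [AddCommGroup N] [Module B N] [Module A N] [IsScalarTower A B N] [Module.FinitePresentation B N] [Module.Flat A N] :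
    IsOpen {p : PrimeSpectrum A | FlatCA.IsPureAlong A B N p.asIdeal} := by
  open TensorProduct in
  refine isOpen_iff_forall_mem_open.2 fun p hp => ?_
  obtain ⟨L, _, _, _, ⟨m, hm, hmp⟩, hproj⟩ :=
    Groth.Agent.FlatMorDevissage.exists_etale_projective_of_pure N p.asIdeal hp
  refine ⟨Set.range (PrimeSpectrum.comap (algebraMap A L)), ?_, ?_, ⟨⟨m, hm⟩, PrimeSpectrum.ext hmp⟩⟩
  · rintro _ ⟨n, rfl⟩
    let L' := Localization.AtPrime n.asIdeal
    have : Module.Projective L' (L' ⊗[A] N) :=
      Module.Projective.of_equiv (TensorProduct.AlgebraTensorModule.cancelBaseChange A L L' L' N)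
    have hU := Groth.Agent.FlatMorDevissage.isUnivPureAlong_of_local (B := B) (N := N) (L := L')
      (PrimeSpectrum.comap (algebraMap A L) n).asIdeal (by
        rw [IsScalarTower.algebraMap_eq A L L', ← Ideal.comap_comap, ← Ideal.under_def L,
          IsLocalization.AtPrime.under_maximalIdeal L' n.asIdeal]
        rfl)
    exact fun A' B' N' _ _ _ _ _ _ _ _ _ _ _ _ _ _ f t' t _ _ P _ _ h => hU A' B' N' f t' t P h
  · rw [← Set.image_univ]
    exact PrimeSpectrum.isOpenMap_comap_of_hasGoingDown_of_finitePresentation _ isOpen_univ

end Groth.Agent.S1220
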