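import Groth.Statements.S12202
import Groth.Agent.Stk19b.GrpdSplit.Loops
open Groth.Agent

set_option autoImplicit false
universe u
open CategoryTheory CategoryTheory.Limits AlgebraicGeometry
open Grpd

set_option backward.isDefEq.respectTransparency.types false
set_option backward.isDefEq.respectTransparency false

namespace Groth.Agent.S12202


/-- Let (U, R, s, t, c) be a groupoid scheme over S with U affine and s, t separated, flat and locally
of finite presentation, and let u ∈ U be a point such that s is quasi-finite at e(u). Then there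
exist an etale morphism U' → U with U' affine and a point u' of U' lying over u with trivial residue
field extension κ(u) = κ(u'), such that the restriction R' of R to U' (the groupoid scheme on U'
whose arrows form the base change of j = (t, s) : R → U ×_S U along U' ×_S U' → U ×_S U) is
quasi-split over u': there is an open subscheme P ⊂ R' which is a subgroupoid (the identity of U',
the inverse of P and the composition of composable pairs of P land in P) with s'|_P and t'|_P finite
(then e'(u') ∈ P automatically). -/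
theorem result (S : Scheme.{u}) (G : Grpd.GroupoidScheme S) [IsAffine G.U]
    [IsSeparated G.s] [IsSeparated G.t] [Flat G.s] [Flat G.t]
    [LocallyOfFinitePresentation G.s] [LocallyOfFinitePresentation G.t]
    (u : ↥G.U) (hqf : Dual3.QuasiFiniteAt G.s (G.e u)) :
    ∃ (G' : Grpd.GroupoidScheme S) (φ : Grpd.GroupoidScheme.Hom G' G) (u' : ↥G'.U),
      IsAffine G'.U ∧ Etale φ.fU ∧ φ.fU u' = u ∧ IsIso (φ.fU.residueFieldMap u') ∧
      IsPullback φ.fR G'.j G.j
        (pullback.map G'.pU G'.pU G.pU G.pU φ.fU φ.fU (𝟙 S)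
          ((Category.comp_id _).trans φ.fU_over.symm) ((Category.comp_id _).trans φ.fU_over.symm)) ∧
      ∃ (P : Scheme.{u}) (ιP : P ⟶ G'.R), IsOpenImmersion ιP ∧
        (∃ eP : G'.U ⟶ P, eP ≫ ιP = G'.e) ∧ (∃ iP : P ⟶ P, iP ≫ ιP = ιP ≫ G'.i) ∧
        (∃ cP : pullback (ιP ≫ G'.s) (ιP ≫ G'.t) ⟶ P,
          cP ≫ ιP = pullback.map (ιP ≫ G'.s) (ιP ≫ G'.t) G'.s G'.t ιP ιP (𝟙 G'.U)
            (Category.comp_id _) (Category.comp_id _) ≫ G'.c) ∧
        IsFinite (ιP ≫ G'.s) ∧ IsFinite (ιP ≫ G'.t) := by
  obtain ⟨G', φ, u', h1, h2, h3, h4, h5, P, ιP, h6, h7, h8, h9, h10, h11, -⟩ :=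
    Stk19b.GrpdSplit.exists_split_of_loops G u {G.e u} (Set.finite_singleton _)
      (fun r hr => by rw [Set.mem_singleton_iff.1 hr, ← Scheme.Hom.comp_apply, G.e_s]; rfl)
      (fun r hr => by rw [Set.mem_singleton_iff.1 hr, ← Scheme.Hom.comp_apply, G.e_t]; rfl)
      (fun r hr => by rw [Set.mem_singleton_iff.1 hr]; exact hqf) rfl
      (fun L _ α β h hα hβ x => Stk19b.GrpdSplit.div_unit G u α β h hα hβ x)
  exact ⟨G', φ, u', h1, h2, h3, h4, h5, P, ιP, h6, h7, h8, h9, h10, h11⟩

end Groth.Agent.S12202
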