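import Groth.Statements.S12204
import Groth.Agent.AlgSpLib.GeomReducedPt
import Groth.Agent.FBaseLib.Geom
-- import your own Groth.Agent.* helpers here

set_option autoImplicit false
universe u
open CategoryTheory CategoryTheory.Limits AlgebraicGeometry Topology TopologicalSpace
open AlgSp

namespace Groth.Agent.S12204

/-- (5) ⇒ (2): let k be a field of characteristic p > 0, k' a perfect closure of k (a perfect field
which is a purely inseparable extension of k) and X an algebraic space over k. If X_{k'} is reduced,
then X_K is reduced for every field extension K of k. -/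
theorem result (k : Type u) [Field k] (p : ℕ) [Fact p.Prime] [CharP k p]
    (X : AlgSp.Space (Spec (CommRingCat.of k))) (k' : Type u) [Field k'] [Algebra k k'] [PerfectField k']
    [IsPurelyInseparable k k']
    (h : AlgSp.EtaleLocally (fun U => IsReduced U) (X.obj ⨯ (AlgSp.yon (Spec (CommRingCat.of k))).obj (Over.mk (Spec.map (CommRingCat.ofHom (algebraMap k k'))))))
    (K : Type u) [Field K] [Algebra k K] : AlgSp.EtaleLocally (fun U => IsReduced U) (X.obj ⨯ (AlgSp.yon (Spec (CommRingCat.of k))).obj (Over.mk (Spec.map (CommRingCat.ofHom (algebraMap k K))))) := by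
  obtain ⟨U, a, hae, has⟩ := X.property.atlas
  haveI : IsReduced (pullback U.hom (Spec.map (CommRingCat.ofHom (algebraMap k k')))) :=
    (Groth.Agent.AlgSpLib.etaleLocally_reduced_prod_iff a hae has k').1 h
  have hg : GeometricallyReduced U.hom := Groth.Agent.FBaseLib.geometricallyReduced_of_perfect (Ω := k') U.hom
  exact (Groth.Agent.AlgSpLib.etaleLocally_reduced_prod_iff a hae has K).2
    (hg.geometrically_isReduced _ _ _ (IsPullback.of_hasPullback _ _))

end Groth.Agent.S12204
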