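import Groth.Statements.S12207
import Mathlib.Algebra.Module.FinitePresentation

set_option autoImplicit false
universe u
open CAlg

namespace Groth.Agent.S12207

/-- Let φ : N → M be a linear map between coherent R-modules (finitely generated, every finitely
generated submodule finitely presented). Then the kernel of φ and the cokernel M/φ(N) are coherent
R-modules. -/
theorem result (R : Type u) [CommRing R] {N M : Type u}
    [AddCommGroup N] [Module R N] [AddCommGroup M] [Module R M]
    (hN : Module.Finite R N ∧ ∀ P : Submodule R N, P.FG → Module.FinitePresentation R P)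
    (hM : Module.Finite R M ∧ ∀ P : Submodule R M, P.FG → Module.FinitePresentation R P)
    (φ : N →ₗ[R] M) :
    (Module.Finite R (LinearMap.ker φ) ∧
      ∀ P : Submodule R (LinearMap.ker φ), P.FG → Module.FinitePresentation R P) ∧
    (Module.Finite R (M ⧸ LinearMap.range φ) ∧
      ∀ P : Submodule R (M ⧸ LinearMap.range φ), P.FG → Module.FinitePresentation R P) := by
  have hfgrange : (LinearMap.range φ).FG := by
    have := hN.1
    rw [LinearMap.range_eq_map]; exact Module.Finite.fg_top.map φ
  have hfpr : Module.FinitePresentation R (LinearMap.range φ) := hM.2 _ hfgrange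
  have hkerfg : (LinearMap.ker φ).FG := by
    have := hN.1
    rw [← LinearMap.ker_rangeRestrict]
    exact Module.FinitePresentation.fg_ker φ.rangeRestrict φ.surjective_rangeRestrict
  refine ⟨⟨Module.Finite.iff_fg.2 hkerfg, fun P hP => ?_⟩, ?_, fun P hP => ?_⟩
  · have := hN.2 (P.map (LinearMap.ker φ).subtype) (hP.map _)
    exact Module.FinitePresentation.of_equiv (Submodule.equivMapOfInjective _ (Submodule.injective_subtype _) P).symm
  · have := hM.1; infer_instance
  · obtain ⟨s, rfl⟩ := hP
    classical
    let π := (LinearMap.range φ).mkQ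
    choose g hg using (LinearMap.range φ).mkQ_surjective
    let P' : Submodule R M := LinearMap.range φ ⊔ Submodule.span R (↑(s.image g) : Set M)
    have hP' : P'.FG := hfgrange.sup (Submodule.fg_span (Finset.finite_toSet _))
    have := hM.2 P' hP'
    have hle : ∀ x : P', π x ∈ Submodule.span R (↑s : Set (M ⧸ LinearMap.range φ)) := by
      have : P' ≤ (Submodule.span R (↑s : Set (M ⧸ LinearMap.range φ))).comap π := by
        refine sup_le (fun x hx => ?_) (Submodule.span_le.2 fun x hx => ?_)
        · rw [Submodule.mem_comap, show π x = 0 from (Submodule.Quotient.mk_eq_zero _).2 hx]; exact Submodule.zero_mem _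
        · obtain ⟨y, hy, rfl⟩ := Finset.mem_image.1 (Finset.mem_coe.1 hx)
          rw [SetLike.mem_coe, Submodule.mem_comap, hg]; exact Submodule.subset_span hy
      exact fun x => this x.2
    let l : P' →ₗ[R] Submodule.span R (↑s : Set (M ⧸ LinearMap.range φ)) := (π.comp P'.subtype).codRestrict _ hle
    refine Module.finitePresentation_of_surjective l ?_ ?_
    · rintro ⟨y, hy⟩
      have : Submodule.span R (↑s : Set (M ⧸ LinearMap.range φ)) ≤ P'.map π := Submodule.span_le.2 fun y hy =>
        ⟨g y, Submodule.mem_sup_right (Submodule.subset_span (Finset.mem_coe.2 (Finset.mem_image_of_mem g hy))), hg y⟩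
      obtain ⟨x, hx, rfl⟩ := this hy
      exact ⟨⟨x, hx⟩, rfl⟩
    · have he : LinearMap.ker l = (LinearMap.range φ).comap P'.subtype := by
        ext z
        simp only [l, LinearMap.mem_ker, Subtype.ext_iff, LinearMap.codRestrict_apply, LinearMap.comp_apply, Submodule.mem_comap, π, Submodule.mkQ_apply, Submodule.coe_zero]
        exact Submodule.Quotient.mk_eq_zero _
      rw [he]
      refine (Module.Finite.iff_fg).1 ?_
      have : Module.Finite R (LinearMap.range φ) := Module.Finite.iff_fg.2 hfgrange
      exact Module.Finite.equiv (Submodule.comapSubtypeEquivOfLe (le_sup_left : LinearMap.range φ ≤ P')).symm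

end Groth.Agent.S12207
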