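import Groth.Statements.S12208
import Groth.Agent.CAlgH3.NoetherNormInt
import Groth.Agent.DimLib.Algebra

set_option autoImplicit false
universe u
open CAlg

namespace Groth.Agent.S12208

/-- Let k be a field and S = k[x_1, …, x_n]/I with I a proper ideal. Then there exist r ≥ 0 and elements
y_1, …, y_r of k[x_1, …, x_n] lying in the subring generated by x_1, …, x_n (polynomials with
integer coefficients) such that the k-algebra map from the polynomial ring k[t_1, …, t_r] to S
sending t_i to the class of y_i is injective and finite; and for any r ≥ 0 and any y_1, …, y_r in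
k[x_1, …, x_n] (with or without the integer-coefficient condition) for which that map is injective
and finite, r is the Krull dimension of S. -/
theorem result (k : Type u) [Field k] (n : ℕ) (I : Ideal (MvPolynomial (Fin n) k))
    (hI : I ≠ ⊤) :
    (∃ (r : ℕ) (y : Fin r → MvPolynomial (Fin n) k),
      (∀ i, y i ∈ Set.range (MvPolynomial.map (Int.castRingHom k) : MvPolynomial (Fin n) ℤ → MvPolynomial (Fin n) k)) ∧
      Function.Injective ((Ideal.Quotient.mkₐ k I).comp (MvPolynomial.aeval y)) ∧
      ((Ideal.Quotient.mkₐ k I).comp (MvPolynomial.aeval y)).toRingHom.Finite) ∧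
    ∀ (r : ℕ) (y : Fin r → MvPolynomial (Fin n) k),
      Function.Injective ((Ideal.Quotient.mkₐ k I).comp (MvPolynomial.aeval y)) →
      ((Ideal.Quotient.mkₐ k I).comp (MvPolynomial.aeval y)).toRingHom.Finite →
      ringKrullDim (MvPolynomial (Fin n) k ⧸ I) = r := by
  refine ⟨?_, fun r y hinj hfin => ?_⟩
  · obtain ⟨r, -, g, hinj, hint, hX⟩ :=
      Groth.Agent.CAlgH3.NoetherNormInt.exists_integral_inj_algHom_of_quotient I hI
    choose q hq using hX
    have hg : (Ideal.Quotient.mkₐ k I).comp
        (MvPolynomial.aeval fun i => MvPolynomial.map (Int.castRingHom k) (q i)) = g :=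
      MvPolynomial.algHom_ext fun i => by simp [hq]
    refine ⟨r, _, fun i => ⟨q i, rfl⟩, hg.symm ▸ hinj, ?_⟩
    rw [hg]
    refine hint.to_finite ?_
    have h : algebraMap k (MvPolynomial (Fin n) k ⧸ I) =
        g.toRingHom.comp (algebraMap k (MvPolynomial (Fin r) k)) := g.comp_algebraMap.symm
    exact (h ▸ RingHom.finiteType_algebraMap.mpr inferInstance :
      (g.toRingHom.comp (algebraMap k (MvPolynomial (Fin r) k))).FiniteType).of_comp_finiteType
  · let φ := ((Ideal.Quotient.mkₐ k I).comp (MvPolynomial.aeval y)).toRingHom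
    let _ : Algebra (MvPolynomial (Fin r) k) (MvPolynomial (Fin n) k ⧸ I) := φ.toAlgebra
    have : Module.Finite (MvPolynomial (Fin r) k) (MvPolynomial (Fin n) k ⧸ I) := hfin
    rw [← Groth.Agent.DimLib.ringKrullDim_eq_of_isIntegral hinj,
      MvPolynomial.ringKrullDim_of_isNoetherianRing, ringKrullDim_eq_zero_of_field]
    simp

end Groth.Agent.S12208
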