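import Groth.Statements.S12209
import Mathlib.RingTheory.Flat.EquationalCriterion
import Mathlib.Algebra.Colimit.Ring

set_option autoImplicit false
universe u
open CAlg

namespace Groth.Agent.S12209

/-- Let (R_i) be a system of commutative rings over a nonempty directed preorder, with colimit R, and
let M be an R-module which is flat as an R_i-module for every i (the R_i-module structure being
restriction of scalars along R_i → R). Then M is flat as an R-module. -/
theorem result {ι : Type u} [Preorder ι] [Nonempty ι] [IsDirectedOrder ι]
    (G : ι → Type u) [∀ i, CommRing (G i)] (f : ∀ i j, i ≤ j → G i →+* G j)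
    [DirectedSystem G fun i j h => f i j h]
    (M : Type u) [AddCommGroup M] [Module (Ring.DirectLimit G fun i j h => f i j h) M]
    (hflat : ∀ i, letI : Module (G i) M := Module.compHom M (Ring.DirectLimit.of G (fun i j h => f i j h) i);
      Module.Flat (G i) M) :
    Module.Flat (Ring.DirectLimit G fun i j h => f i j h) M := by
  classical
  refine Module.Flat.of_forall_isTrivialRelation fun {l} c x hc => ?_
  choose i g hg using fun j => Ring.DirectLimit.exists_of (c j)
  obtain ⟨t, ht⟩ := Finite.exists_le i
  let of := Ring.DirectLimit.of G (fun i j h => f i j h) t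
  let g' : Fin l → G t := fun j => f (i j) t (ht j) (g j)
  have hg' : ∀ j, of (g' j) = c j := fun j => (Ring.DirectLimit.of_f (G := G) (ht j) (g j)).trans (hg j)
  letI : Module (G t) M := Module.compHom M of
  have : Module.Flat (G t) M := hflat t
  have hsum : ∑ j, g' j • x j = 0 := by
    refine Eq.trans (Finset.sum_congr rfl fun j _ => ?_) hc
    change of (g' j) • x j = c j • x j
    rw [hg']
  obtain ⟨κ, a, y, h1, h2⟩ := Module.Flat.isTrivialRelation_of_sum_smul_eq_zero hsum
  refine ⟨κ, fun p q => of (a p q), y, h1, fun q => ?_⟩
  have := congrArg of (h2 q)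
  simpa [map_sum, hg'] using this

end Groth.Agent.S12209
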