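import Groth.Statements.S1221
import Groth.Agent.FlatMorDevissage.AssSpec

set_option autoImplicit false
universe u
open FlatMor

namespace Groth.Agent.S1221

/-- Let B be a finite type A-algebra, N a finite B-module and p a prime of A such that N is flat over A
at every prime of B over p. Let q' be a prime of B lying over a prime p' ⊆ p, such that the
extension of q' to the fibre ring over p' is an associated prime of the fibre module of N (a point
of the relative assassin). If q' is contained in some prime of B over p, then it is contained in a
prime q over p whose extension to the fibre ring over p is an associated prime of the fibre module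
over p. -/
theorem result {A B : Type u} [CommRing A] [CommRing B] [Algebra A B] [Algebra.FiniteType A B]
    (N : Type u) [AddCommGroup N] [Module B N] [Module A N] [IsScalarTower A B N] [Module.Finite B N] (p : Ideal A) [p.IsPrime]
    (hflat : ∀ (q : Ideal B) [q.IsPrime], q.LiesOver p → FlatCA.FlatAt A q N)
    (p' : Ideal A) [p'.IsPrime] (hp' : p' ≤ p) (q' : Ideal B) [q'.IsPrime] [q'.LiesOver p']
    (hass : FlatCA.fiberIdeal p' q' ∈ associatedPrimes (p'.Fiber B) (FlatCA.fiberMod p' B N))
    (hspec : ∃ (t : Ideal B), t.IsPrime ∧ q' ≤ t ∧ t.LiesOver p) :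
    ∃ (q : Ideal B) (_ : q.IsPrime), q' ≤ q ∧ q.LiesOver p ∧
      FlatCA.fiberIdeal p q ∈ associatedPrimes (p.Fiber B) (FlatCA.fiberMod p B N) := by
  obtain ⟨t, ht, hq't, htp⟩ := hspec
  obtain ⟨q, hq, h1, -, h2⟩ := Groth.Agent.FlatMorDevissage.exists_assFibre_specialization p p' q'
    hass ⟨t, ht⟩ htp.over.symm hq't (hflat t htp)
  exact ⟨q, hq, h1, h2⟩

end Groth.Agent.S1221
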