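import Groth.Statements.S12216
import Groth.Agent.CSA.Split

set_option autoImplicit false
universe u v w
open scoped TensorProduct
open Curves

namespace Groth.Agent.S12216

/-- (1) ⇔ (3): a K-algebra A is finite central simple over the field K (finite-dimensional, with centre
K and no non-trivial two-sided ideals) if and only if, for an algebraic closure K̄ of K, the
K̄-algebra K̄ ⊗_K A is isomorphic to a matrix algebra Mat(d × d, K̄) for some d ≥ 1. -/
theorem result (K : Type u) [Field K] (A : Type v) [Ring A] [Algebra K A] :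
    (Algebra.IsCentral K A ∧ IsSimpleRing A ∧ FiniteDimensional K A) ↔
      Curves.Splits K A (AlgebraicClosure K) := by
  constructor
  · rintro ⟨_, _, _⟩
    obtain ⟨n, hn, -, he⟩ := Groth.Agent.CSA.exists_splitting_of_isSepClosed K (AlgebraicClosure K) A
    exact ⟨n, hn.ne', he⟩
  · rintro ⟨n, hn, ⟨e⟩⟩
    haveI : Nonempty (Fin n) := ⟨⟨0, Nat.pos_of_ne_zero hn⟩⟩
    haveI : Algebra.IsCentral (AlgebraicClosure K) ((AlgebraicClosure K) ⊗[K] A) :=
      Groth.Agent.CSA.isCentral_of_algEquiv (AlgebraicClosure K) e.symm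
    haveI : IsSimpleRing ((AlgebraicClosure K) ⊗[K] A) :=
      IsSimpleRing.of_ringEquiv e.symm.toRingEquiv inferInstance
    haveI : Module.Finite (AlgebraicClosure K) ((AlgebraicClosure K) ⊗[K] A) :=
      Module.Finite.equiv e.symm.toLinearEquiv
    refine ⟨Groth.Agent.CSA.isCentral_of_baseChange K (AlgebraicClosure K) A,
      Groth.Agent.CSA.isSimpleRing_of_baseChange K (AlgebraicClosure K) A, ?_⟩
    have h := Module.rank_lt_aleph0 (AlgebraicClosure K) ((AlgebraicClosure K) ⊗[K] A)
    rw [Module.rank_baseChange] at h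
    exact Module.rank_lt_aleph0_iff.mp (by simpa using h)

end Groth.Agent.S12216
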