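import Groth.Statements.S12217
import Groth.Agent.DualLib.GorRing
import Groth.Agent.AlgSpLib.GorHom
import Groth.Agent.Matlis6.CompletionNoetherian
import Groth.Agent.CAlgH.GRingFiniteType

set_option autoImplicit false
set_option backward.isDefEq.respectTransparency false
universe u
open Curves

namespace Groth.Agent.S12217

open IsLocalRing

/-- The completion of a Gorenstein local ring is Gorenstein. -/
theorem gor_completion (A : Type u) [CommRing A] [LocCoh.IsGorensteinLocalRing A] :
    _root_.LocCoh.IsGorensteinLocalRing (AdicCompletion (maximalIdeal A) A) := by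
  haveI : IsNoetherianRing (AdicCompletion (maximalIdeal A) A) := Matlis6.isNoetherianRing_adicCompletion _
  haveI : IsLocalHom (algebraMap A (AdicCompletion (maximalIdeal A) A)) := CAlgH.isLocalHom_algebraMap_cpl A
  refine (DualLib.GorFlat.gor_flat_iff (A := A) (B := AdicCompletion (maximalIdeal A) A)).2 ⟨inferInstance, ?_⟩
  refine (DualLib.GorFlat.gor_congr (Ideal.quotEquivOfEq (AdicCompletion.maximalIdeal_eq_map (R := A)))).1 ?_
  exact AlgSpLib.gor_field (ResidueField (AdicCompletion (maximalIdeal A) A))

theorem le_two (k : Type u) [Field k] (R : Type u) [CommRing R] [hG : LocCoh.IsGorensteinLocalRing R]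
    (n : ℕ) (hn : 2 ≤ n) (φ : R →+* (Fin n → PowerSeries k)) (hinj : Function.Injective φ)
    (hrange : Set.range φ = {f : Fin n → PowerSeries k | ∀ i j : Fin n, PowerSeries.constantCoeff (f i) = PowerSeries.constantCoeff (f j)}) :
    n ≤ 2 := by
  classical
  have i0 : Fin n := ⟨0, by omega⟩
  have hmem : ∀ f : Fin n → PowerSeries k, (∀ j, PowerSeries.constantCoeff (f j) = 0) → ∃ r, φ r = f := fun f hf =>
    hrange.ge (show f ∈ _ from fun a b => by rw [hf a, hf b])
  have hcc : ∀ (r : R) (a b : Fin n), PowerSeries.constantCoeff (φ r a) = PowerSeries.constantCoeff (φ r b) :=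
    fun r => hrange.le ⟨r, rfl⟩
  have hmax : ∀ r : R, r ∈ maximalIdeal R ↔ ∀ j, PowerSeries.constantCoeff (φ r j) = 0 := by
    intro r
    refine ⟨fun hr j => by_contra fun h0 => hr ?_, fun h hu => ?_⟩
    · obtain ⟨s, hs⟩ := hrange.ge (show (fun a => (φ r a)⁻¹) ∈ _ from fun a b => by
        rw [PowerSeries.constantCoeff_inv, PowerSeries.constantCoeff_inv, hcc r a b])
      refine IsUnit.of_mul_eq_one s (hinj (funext fun a => ?_))
      rw [map_mul, hs, map_one, Pi.mul_apply, Pi.one_apply]
      exact PowerSeries.mul_inv_cancel _ (by rw [hcc r a j]; exact h0)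
    · have h1 : IsUnit (φ r i0) := ((hu.map φ).map (Pi.evalRingHom (fun _ => PowerSeries k) i0))
      exact (PowerSeries.isUnit_constantCoeff _ h1).ne_zero (h i0)
  obtain ⟨x, hx⟩ := hmem (fun _ => PowerSeries.X) (fun _ => PowerSeries.constantCoeff_X)
  have hxm : x ∈ maximalIdeal R := (hmax x).2 fun j => by rw [hx]; exact PowerSeries.constantCoeff_X
  have hxreg : IsSMulRegular R x := by
    intro a b hab
    refine hinj (funext fun j => ?_)
    have := congrFun (congrArg φ (show x * a = x * b from hab)) j
    rw [map_mul, map_mul, Pi.mul_apply, Pi.mul_apply, hx] at this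
    exact mul_left_cancel₀ PowerSeries.X_ne_zero this
  have hsq : ∀ a ∈ maximalIdeal R, ∀ b ∈ maximalIdeal R, a * b ∈ Ideal.span {x} := by
    intro a ha b hb
    choose a' ha' using fun j => PowerSeries.X_dvd_iff.2 ((hmax a).1 ha j)
    obtain ⟨c, hc⟩ := hmem (fun j => a' j * φ b j) (fun j => by rw [map_mul, (hmax b).1 hb j, mul_zero])
    refine Ideal.mem_span_singleton'.2 ⟨c, hinj (funext fun j => ?_)⟩
    rw [map_mul, map_mul, Pi.mul_apply, Pi.mul_apply, hc, hx, ha' j]
    ring
  have hJ : Ideal.span {x} ≤ maximalIdeal R := (Ideal.span_singleton_le_iff_mem _).2 hxm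
  haveI := DualLib.GorFlat.isLocalRing_quot hJ
  haveI : IsArtinianRing (R ⧸ Ideal.span {x}) := DualLib.GorFlat.isArtinianRing_quot
    (fun a ha => ⟨2, by rw [pow_two]; exact hsq a ha a ha⟩)
  obtain ⟨e, heJ, hem, hz⟩ := (DualLib.GorFlat.isSocleLine_quot_iff _ hJ).1 (Disc12.gorenstein_iff_isSocleLine.1
    ((LocCoh.gorenstein_quotient_iff hxm hxreg).1 hG))
  choose u hu using fun i : Fin n => hmem (Pi.single i PowerSeries.X) (fun j => by
    rcases eq_or_ne j i with rfl | hj
    · rw [Pi.single_eq_same]; exact PowerSeries.constantCoeff_X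
    · rw [Pi.single_eq_of_ne hj, map_zero])
  have hum : ∀ i, u i ∈ maximalIdeal R := fun i => (hmax _).2 fun j => by
    rcases eq_or_ne j i with rfl | hj
    · rw [hu, Pi.single_eq_same]; exact PowerSeries.constantCoeff_X
    · rw [hu, Pi.single_eq_of_ne hj, map_zero]
  have hcoef : ∀ i j, PowerSeries.coeff 1 (φ (u i) j) = (Pi.single i (1 : k) : Fin n → k) j := fun i j => by
    rcases eq_or_ne j i with rfl | hj
    · rw [hu, Pi.single_eq_same, Pi.single_eq_same, PowerSeries.coeff_one_X]
    · rw [hu, Pi.single_eq_of_ne hj, Pi.single_eq_of_ne hj, map_zero]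
  have hmulX : ∀ (c : R) (j : Fin n), PowerSeries.coeff 1 (φ (c * x) j) = PowerSeries.constantCoeff (φ c i0) := by
    intro c j
    rw [map_mul, Pi.mul_apply, hx, hcc c i0 j]
    exact (PowerSeries.coeff_succ_mul_X 0 _).trans (PowerSeries.coeff_zero_eq_constantCoeff_apply _)
  by_cases he : e ∈ maximalIdeal R
  · choose e' he' using fun j => PowerSeries.X_dvd_iff.2 ((hmax e).1 he j)
    let v : Fin n → k := fun j => PowerSeries.constantCoeff (e' j)
    let L : (Fin 2 → k) →ₗ[k] (Fin n → k) :=
      { toFun := fun w j => w 0 + w 1 * v j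
        map_add' := fun w w' => by funext j; simp only [Pi.add_apply]; ring
        map_smul' := fun r w => by funext j; simp only [Pi.smul_apply, smul_eq_mul, RingHom.id_apply]; ring }
    have hL : ∀ i, (Pi.single i (1 : k) : Fin n → k) ∈ LinearMap.range L := by
      intro i
      obtain ⟨s, hs, t, ht, hst⟩ := Submodule.mem_sup.1 (hz (u i) fun a ha => hsq a ha _ (hum i))
      obtain ⟨c, rfl⟩ := Ideal.mem_span_singleton'.1 hs
      obtain ⟨d, rfl⟩ := Ideal.mem_span_singleton'.1 ht
      refine ⟨![PowerSeries.constantCoeff (φ c i0), PowerSeries.constantCoeff (φ d i0)], funext fun j => ?_⟩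
      rw [← hcoef i j, ← hst, map_add, Pi.add_apply, map_add, hmulX]
      show _ + _ * v j = _ + _
      congr 1
      rw [map_mul, Pi.mul_apply, he' j, hcc d i0 j, ← mul_assoc, mul_comm (φ d j), mul_assoc, mul_comm PowerSeries.X,
        PowerSeries.coeff_succ_mul_X, PowerSeries.coeff_zero_eq_constantCoeff_apply, map_mul]
      simp [v, hcc d i0 j]
    have hsurj : Function.Surjective L := by
      intro w
      rw [show w = ∑ i, w i • (Pi.single i (1 : k) : Fin n → k) from pi_eq_sum_univ' w]
      exact (LinearMap.range L).sum_mem fun i _ => (LinearMap.range L).smul_mem _ (hL i)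
    simpa using LinearMap.finrank_le_finrank_of_surjective hsurj
  · exfalso
    have heu : IsUnit e := by_contra he
    let j1 : Fin n := if i0 = ⟨0, by omega⟩ then ⟨1, by omega⟩ else ⟨0, by omega⟩
    have hne : j1 ≠ i0 := by
      unfold j1; split_ifs with h
      · rw [h]; exact fun hh => by simp [Fin.ext_iff] at hh
      · exact fun hh => h hh.symm
    have h1 := hem (u i0) (hum i0)
    rw [Ideal.mul_unit_mem_iff_mem _ heu, Ideal.mem_span_singleton'] at h1
    obtain ⟨c, hc⟩ := h1
    have ha := hmulX c i0
    have hb := hmulX c j1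
    rw [hc, hcoef, Pi.single_eq_same] at ha
    rw [hc, hcoef, Pi.single_eq_of_ne hne, ← ha] at hb
    exact zero_ne_one hb

/-- In this form A is the local ring of the curve at the point, and a Gorenstein scheme has Gorenstein
local rings. Let k be an algebraically closed field and A a Gorenstein local ring whose completion
with respect to its maximal ideal is isomorphic to the multicross ring with n ≥ 2 branches, the
subring of (k[[t]])^n consisting of the n-tuples of power series having a common constant term. Then
n = 2: a Gorenstein multicross singularity is a node. The isomorphism is given as an injective ring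
map from the completion to (k[[t]])^n with that subring as its range. -/
theorem result (k : Type u) [Field k] [IsAlgClosed k]
    (A : Type u) [CommRing A] [LocCoh.IsGorensteinLocalRing A] (n : ℕ) (hn : 2 ≤ n)
    (φ : AdicCompletion (IsLocalRing.maximalIdeal A) A →+* (Fin n → PowerSeries k))
    (hinj : Function.Injective φ)
    (hrange : Set.range φ = {f : Fin n → PowerSeries k | ∀ i j : Fin n, PowerSeries.constantCoeff (f i) = PowerSeries.constantCoeff (f j)}) :
    n = 2 :=
  le_antisymm (@le_two k _ _ _ (gor_completion A) n hn φ hinj hrange) hn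

end Groth.Agent.S12217
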