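import Groth.Statements.S12221
import Groth.Agent.AlgzLib.GoodCases

set_option autoImplicit false
set_option backward.isDefEq.respectTransparency false
set_option linter.style.haveILetI false
universe u
open CategoryTheory AlgebraicGeometry Opposite
open Algz

namespace Groth.Agent.S12221

/-- Let A be a Noetherian ring, I ⊆ 𝔞 ideals, U the complement of V(𝔞) in Spec A and (F_n) an object of
Coh(U, IO_U), indexed here from 0. Assume that for some Noetherian local ring R with maximal ideal 𝔪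
and some ring map φ : R → A we have (1) I = 𝔪A, (2) for every point y of U lying in V(I) the
completed stalk F_y^∧ is flat as an R-module (through R → A → O_{U,y} → O_{U,y}^∧), and (3) the
cohomology groups H^0(U, F_0), H^1(U, F_0) are finitely generated over A. Then (F_n) has a canonical
extension to Spec A. -/
theorem result (A : Type u) [CommRing A] [IsNoetherianRing A] (I 𝔞 : Ideal A) (hI𝔞 : I ≤ 𝔞)
    (G : ℕᵒᵖ ⥤ (↑(LocCoh.puncturedOpen A 𝔞) : Scheme.{u}).Modules) (hG : Formal.IsCohFormal I G)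
    (R : Type u) [CommRing R] [IsNoetherianRing R] [IsLocalRing R] (φ : R →+* A)
    (h1 : I = Ideal.map φ (IsLocalRing.maximalIdeal R))
    (h2 : ∀ (y : (↑(LocCoh.puncturedOpen A 𝔞) : Scheme.{u})), (LocCoh.puncturedOpen A 𝔞).ι.base y ∈ PrimeSpectrum.zeroLocus (R := A) I →
      letI : Module R ↥(Algz.hatStalk I G y) := Module.compHom ↥(Algz.hatStalk I G y)
        ((algebraMap ((↑(LocCoh.puncturedOpen A 𝔞) : Scheme.{u}).presheaf.stalk y) (Algz.hatRing I y)).comp ((Algz.toStalk A (↑(LocCoh.puncturedOpen A 𝔞) : Scheme.{u}) y).comp φ));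
      Module.Flat R ↥(Algz.hatStalk I G y))
    (h3 : Module.Finite A (Coh.HH (↑(LocCoh.puncturedOpen A 𝔞) : Scheme.{u}) (G.obj (op 0)) 0) ∧ Module.Finite A (Coh.HH (↑(LocCoh.puncturedOpen A 𝔞) : Scheme.{u}) (G.obj (op 0)) 1)) :
    Algz.CanonicallyExtends A I (LocCoh.puncturedOpen A 𝔞) G := by
  obtain ⟨r, t, ht⟩ := Submodule.fg_iff_exists_fin_generating_family.1
    (IsNoetherian.noetherian (IsLocalRing.maximalIdeal R))
  have htm : ∀ i, t i ∈ IsLocalRing.maximalIdeal R := fun i => ht ▸ Submodule.subset_span ⟨i, rfl⟩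
  have hpow : ∀ n, IsLocalRing.maximalIdeal R ^ n = Ideal.span (Set.range fun e : AlgzLib.Mon r n => AlgzLib.monVal t e) :=
    fun n => by rw [AlgzLib.span_monVal]; exact congrArg (· ^ n) ht.symm
  have hmap : ∀ n x, x ∈ IsLocalRing.maximalIdeal R ^ n → φ x ∈ I ^ n := fun n x hx => by
    rw [h1, ← Ideal.map_pow]
    exact Ideal.mem_map_of_mem _ hx
  have haI : ∀ i, φ (t i) ∈ I := fun i => h1 ▸ Ideal.mem_map_of_mem _ (htm i)
  refine AlgzLib.canonicallyExtends_of_split hI𝔞 hG (fun i => φ (t i)) haI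
    (AlgzLib.split_of_good hG haI fun n => ?_) h3.1 h3.2
  obtain ⟨p, s, hs, hind⟩ := AlgzLib.exists_independent_family (fun e : AlgzLib.Mon r (n + 1) => AlgzLib.monVal t e)
  rw [← hpow] at hs hind
  refine ⟨Fin p, inferInstance, fun e => φ (AlgzLib.monVal t (s e)), fun e => ?_,
    AlgzLib.goodMonomials_flat φ h1 n (fun e => AlgzLib.monVal t (s e)) hs hind
      fun y hy => h2 y (AlgzLib.mem_zeroLocus_of_ne_top hy), fun m hm e => ?_⟩
  · exact hmap _ _ ((hpow _).symm ▸ Ideal.subset_span ⟨s e, rfl⟩)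
  · subst hm
    obtain ⟨i, c, hc, he⟩ := AlgzLib.monVal_step t (s e)
    exact ⟨i, φ c, hmap _ _ (by rwa [show Ideal.span (Set.range t) = _ from ht] at hc), (congrArg φ he).trans (map_mul φ _ _)⟩

end Groth.Agent.S12221
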