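import Groth.Statements.S12222
import Groth.Agent.HenselLib.Local
import Mathlib.RingTheory.Etale.Basic
import Mathlib.RingTheory.QuasiFinite.Basic

set_option autoImplicit false
universe u
open Hensel

namespace Groth.Agent.S12222

/-- (11) ⇒ (1): let R be a local ring such that every finite-type R-algebra S can be written as a
product A × B with A finite over R and R → B quasi-finite at no prime lying over the maximal ideal —
concretely, S has an idempotent e with S/(1 − e) finite over R and R → S/(e) quasi-finite at no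
prime over the maximal ideal. Then R is henselian. -/
theorem result (R : Type u) [CommRing R] [IsLocalRing R]
    (h : ∀ (S : Type u) [CommRing S] [Algebra R S] [Algebra.FiniteType R S],
      ∃ e : S, IsIdempotentElem e ∧ Module.Finite R (S ⧸ Ideal.span ({1 - e} : Set S)) ∧
        ∀ (q : Ideal (S ⧸ Ideal.span ({e} : Set S))) [q.IsPrime],
          q.LiesOver (IsLocalRing.maximalIdeal R) → ¬ Algebra.QuasiFiniteAt R q) :
    HenselianLocalRing R := by
  set m := IsLocalRing.maximalIdeal R
  have hjac := Groth.Agent.HenselLib.maximalIdeal_le_jacobson R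
  suffices hH : HenselianRing R m from Groth.Agent.HenselLib.henselianLocalRing_of_henselianRing R
  refine Groth.Agent.HenselLib.henselianRing_of_idemLift_adjoinRoot m hjac fun f hf b hb => ?_
  let T := AdjoinRoot f
  have : Module.Finite R T := hf.finite_adjoinRoot
  let mT := m.map (algebraMap R T)
  let L := Localization.Away b
  obtain ⟨e, he, hfin, hnot⟩ := h L
  have : Algebra.QuasiFinite R L := Algebra.QuasiFinite.of_isLocalization (S := T) (Submonoid.powers b)
  -- the part cut out by `e` has no points over the closed point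
  have hetop : Ideal.map (algebraMap R (L ⧸ Ideal.span ({e} : Set L))) m = ⊤ := by
    by_contra hne
    obtain ⟨q, hq, hle⟩ := Ideal.exists_le_maximal _ hne
    refine hnot q ⟨?_⟩ inferInstance
    exact ((IsLocalRing.maximalIdeal.isMaximal R).eq_of_le (Ideal.IsPrime.ne_top inferInstance)
      (Ideal.map_le_iff_le_comap.mp hle))
  have he1 : e - 1 ∈ m.map (algebraMap R L) := by
    have h1 : (1 : L ⧸ Ideal.span ({e} : Set L)) ∈ Ideal.map (Ideal.Quotient.mk _) (m.map (algebraMap R L)) := by
      rw [Ideal.map_map, show (Ideal.Quotient.mk _).comp (algebraMap R L) = algebraMap R (L ⧸ Ideal.span ({e} : Set L)) from rfl, hetop]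
      trivial
    rw [← map_one (Ideal.Quotient.mk _), Ideal.mem_quotient_iff_mem_sup, Submodule.mem_sup] at h1
    obtain ⟨z, hz, w, hw, hzw⟩ := h1
    obtain ⟨d, rfl⟩ := Ideal.mem_span_singleton.mp hw
    have h2 : e - 1 = (e - 1) * z := by linear_combination (1 - e) * hzw + d * he.eq
    rw [h2]
    exact Ideal.mul_mem_left _ _ hz
  set P := L ⧸ Ideal.span ({1 - e} : Set L)
  have hbb : algebraMap T (T ⧸ mT) b * algebraMap T (T ⧸ mT) b = algebraMap T (T ⧸ mT) b := by
    rw [← map_mul]; exact Ideal.Quotient.eq.mpr hb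
  have hsurj : Function.Surjective (algebraMap T P) := by
    let g := IsScalarTower.toAlgHom R T P
    refine LinearMap.range_eq_top (f := g.toLinearMap) |>.mp (top_le_iff.mp ?_)
    refine Submodule.le_of_le_smul_of_le_jacobson_bot hfin.fg_top hjac fun z _ => ?_
    obtain ⟨w, rfl⟩ := Ideal.Quotient.mk_surjective z
    obtain ⟨t, ⟨_, k, rfl⟩, rfl⟩ := IsLocalization.exists_mk'_eq (Submonoid.powers b) w
    refine Submodule.mem_sup.mpr ⟨g (b * t), ⟨_, rfl⟩, _, ?_, add_sub_cancel _ _⟩
    rw [Ideal.smul_top_eq_map, Submodule.restrictScalars_mem]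
    have hk : b ^ (k + 1) - b ∈ mT := by
      rw [← Ideal.Quotient.eq, map_pow]
      exact IsIdempotentElem.pow_succ_eq k (show IsIdempotentElem (Ideal.Quotient.mk mT b) from hbb)
    have hkey : algebraMap T L (b * t) * algebraMap T L (b ^ k) - algebraMap T L t * algebraMap T L b =
        algebraMap T L ((b ^ (k + 1) - b) * t) := by simp only [map_mul, map_pow, map_sub, pow_succ]; ring
    set y := IsLocalization.mk' L t (⟨b ^ k, k, rfl⟩ : Submonoid.powers b)
    have hy : y * algebraMap T L (b ^ k) = algebraMap T L t := IsLocalization.mk'_spec L t _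
    have hmem : y - algebraMap T L (b * t) ∈ m.map (algebraMap R L) := by
      have hb1 : algebraMap T L b - 1 ∈ m.map (algebraMap R L) := by
        refine ((m.map (algebraMap R L)).unit_mul_mem_iff_mem
          (IsLocalization.Away.algebraMap_isUnit (S := L) b)).mp ?_
        rw [mul_sub, mul_one, ← map_mul, ← map_sub]
        have := Ideal.mem_map_of_mem (algebraMap T L) hb
        rwa [Ideal.map_map, ← IsScalarTower.algebraMap_eq] at this
      have hbk : algebraMap T L (b ^ k) - 1 ∈ m.map (algebraMap R L) := by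
        rw [map_pow]
        obtain ⟨d, hd⟩ := sub_one_dvd_pow_sub_one (algebraMap T L b) k
        rw [hd]; exact Ideal.mul_mem_right _ _ hb1
      have h3 : y - algebraMap T L (b * t) = -(y * (algebraMap T L (b ^ k) - 1)) -
          (algebraMap T L t) * (algebraMap T L b - 1) := by
        rw [map_mul]; linear_combination hy
      rw [h3]
      exact sub_mem (neg_mem (Ideal.mul_mem_left _ _ hbk)) (Ideal.mul_mem_left _ _ hb1)
    have h4 := Ideal.mem_map_of_mem (Ideal.Quotient.mk (Ideal.span ({1 - e} : Set L))) hmem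
    rw [Ideal.map_map, map_sub] at h4
    exact h4
  have : IsLocalization.Away e P := IsLocalization.away_of_isIdempotentElem he Ideal.mk_ker Ideal.Quotient.mk_surjective
  have : Algebra.Etale L P := Algebra.Etale.of_isLocalizationAway e
  have : Algebra.Etale T P := Algebra.Etale.comp T L P
  obtain ⟨ε, hε, hεk⟩ := (Ideal.isIdempotentElem_iff_of_fg _
    (Algebra.FinitePresentation.ker_fG_of_surjective (Algebra.ofId T P) hsurj)).mp
    ((Algebra.FormallyEtale.iff_of_surjective hsurj).mp inferInstance)
  refine ⟨1 - ε, hε.one_sub, ?_⟩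
  have hεP : algebraMap T P ε = 0 := by
    rw [← RingHom.mem_ker]; exact hεk ▸ Ideal.mem_span_singleton_self ε
  -- compare with `b` in the closed fibre
  let Lk := Localization.Away (algebraMap T (T ⧸ mT) b)
  let ψ : L →+* Lk := IsLocalization.Away.lift (S := L) b (g := (algebraMap (T ⧸ mT) Lk).comp (algebraMap T (T ⧸ mT)))
    (IsLocalization.Away.algebraMap_isUnit (S := Lk) (algebraMap T (T ⧸ mT) b))
  have hψ : ∀ t, ψ (algebraMap T L t) = algebraMap (T ⧸ mT) Lk (algebraMap T _ t) := fun t =>
    IsLocalization.Away.lift_eq _ _ t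
  have hψm : ∀ z ∈ m.map (algebraMap R L), ψ z = 0 := fun z hz => by
    refine (Ideal.map_le_iff_le_comap (K := RingHom.ker ψ)).mpr (fun r hr => ?_) hz
    show ψ (algebraMap R L r) = 0
    rw [IsScalarTower.algebraMap_apply R T L, hψ,
      show algebraMap T (T ⧸ mT) (algebraMap R T r) = 0 from Ideal.Quotient.eq_zero_iff_mem.mpr (Ideal.mem_map_of_mem _ hr), map_zero]
  have h5 : algebraMap (T ⧸ mT) Lk (algebraMap T _ ε) = 0 := by
    rw [← hψ]
    rw [show algebraMap T P ε = Ideal.Quotient.mk _ (algebraMap T L ε) from rfl,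
      Ideal.Quotient.eq_zero_iff_mem] at hεP
    obtain ⟨d, hd⟩ := Ideal.mem_span_singleton.mp hεP
    have h6 : ψ (e - 1) = 0 := hψm _ he1
    rw [hd, map_mul, ← neg_sub e 1, map_neg, h6, neg_zero, zero_mul]
  obtain ⟨⟨_, k, rfl⟩, hk⟩ := (IsLocalization.map_eq_zero_iff (Submonoid.powers (algebraMap T (T ⧸ mT) b)) Lk _).mp h5
  have h7 : algebraMap T (T ⧸ mT) b * algebraMap T (T ⧸ mT) ε = 0 := by
    have hk' : algebraMap T (T ⧸ mT) b ^ k * algebraMap T (T ⧸ mT) ε = 0 := hk
    rw [← IsIdempotentElem.pow_succ_eq k hbb, pow_succ, mul_right_comm, hk', zero_mul]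
  -- and conversely
  have hbP : IsUnit (algebraMap T P b) := by
    rw [IsScalarTower.algebraMap_apply T L P]; exact (IsLocalization.Away.algebraMap_isUnit b).map _
  obtain ⟨w, hw⟩ := hbP.exists_left_inv
  obtain ⟨w, rfl⟩ := hsurj w
  rw [← map_mul, ← map_one (algebraMap T P), ← sub_eq_zero, ← map_sub, ← RingHom.mem_ker] at hw
  obtain ⟨d, hd⟩ := Ideal.mem_span_singleton.mp (show w * b - 1 ∈ Ideal.span {ε} from hεk.le hw)
  refine Ideal.Quotient.eq.mp ?_
  show algebraMap T (T ⧸ mT) (1 - ε) = algebraMap T (T ⧸ mT) b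
  have h8 := congrArg (algebraMap T (T ⧸ mT)) hd
  have h9 : algebraMap T (T ⧸ mT) ε * algebraMap T (T ⧸ mT) ε = algebraMap T (T ⧸ mT) ε := by rw [← map_mul, hε.eq]
  simp only [map_sub, map_mul, map_one] at h8 ⊢
  linear_combination (algebraMap T (T ⧸ mT) ε - 1) * (1 - algebraMap T (T ⧸ mT) b) * h8 +
    (-((algebraMap T (T ⧸ mT) ε - 1) * algebraMap T (T ⧸ mT) d) - 1) * h7 +
    (algebraMap T (T ⧸ mT) ε - 1) * algebraMap T (T ⧸ mT) w * hbb + algebraMap T (T ⧸ mT) d * h9

end Groth.Agent.S12222
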