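import Groth.Statements.S12226
import Groth.Agent.ZClosLib.Depth
-- import your own Groth.Agent.* helpers here

set_option autoImplicit false
universe u
open CategoryTheory CategoryTheory.Limits AlgebraicGeometry TopologicalSpace
open LocCoh

namespace Groth.Agent.S12226

/-- Let j : U → X be the inclusion of an open subscheme of a Noetherian scheme X and F a coherent
O_X-module such that F' = j_*(F|_U) is coherent. Then (a) for every point x of X outside U the stalk
F'_x has depth at least 2 over O_{X,x}, and (b) F → F' is the unique map with these properties: for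
every coherent O_X-module G and every map φ : F → G whose restriction to U is an isomorphism and
such that depth(G_x) ≥ 2 for all x outside U, there is exactly one map ψ : G → F' whose composite
with φ is the canonical map F → j_*(F|_U), and this ψ is an isomorphism. (The compatibility of this
construction with flat base change is not part of this statement.) -/
theorem result (X : Scheme.{u}) [IsNoetherian X] (U : X.Opens)
    (F : X.Modules) (hF : Coh.IsCoh F) (hF' : Coh.IsCoh ((Coh.push U.ι).obj (F.restrict U.ι))) :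
    (∀ x : ↥X, x ∉ U → (2 : ℕ∞) ≤ LocCoh.depth (X.presheaf.stalk x)
        (((Coh.push U.ι).obj (F.restrict U.ι)).presheaf.stalk x)) ∧
    ∀ (G : X.Modules) (hG : Coh.IsCoh G) (φ : F ⟶ G),
      IsIso ((Scheme.Modules.restrictFunctor U.ι).map φ) →
      (∀ x : ↥X, x ∉ U → (2 : ℕ∞) ≤ LocCoh.depth (X.presheaf.stalk x) (G.presheaf.stalk x)) →
        (∃! ψ : G ⟶ (Coh.push U.ι).obj (F.restrict U.ι),
            φ ≫ ψ = (Scheme.Modules.restrictAdjunction U.ι).unit.app F) ∧
          ∀ ψ : G ⟶ (Coh.push U.ι).obj (F.restrict U.ι),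
            φ ≫ ψ = (Scheme.Modules.restrictAdjunction U.ι).unit.app F → IsIso ψ := by
  let Z : Set X := (U : Set X)ᶜ
  have hZ : StableUnderSpecialization Z := U.2.isClosed_compl.stableUnderSpecialization
  have hres : ∀ G : X.Modules, IsIso ((ZClos.resPushUnit U).app G) → ∀ (V W : X.Opens) (h : W ≤ V),
      W = U.ι ''ᵁ U.ι ⁻¹ᵁ V → Function.Bijective (Groth.Agent.ZClosLib.res G h) := by
    intro G hG V W h e
    subst e
    exact (ConcreteCategory.isIso_iff_bijective (((ZClos.resPushUnit U).app G).app V)).1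
      (Scheme.Modules.Hom.isIso_iff_isIso_app.1 hG V)
  have hiso : ∀ G : X.Modules, Coh.IsCoh G →
      (∀ x : ↥X, x ∉ U → (2 : ℕ∞) ≤ LocCoh.depth (X.presheaf.stalk x) (G.presheaf.stalk x)) →
        IsIso ((ZClos.resPushUnit U).app G) := by
    intro G hG hd
    haveI := hG.1
    have hc : ∀ x, Groth.Agent.ZClosLib.PureAt Z G x ∧ Groth.Agent.ZClosLib.ExtAt Z G x := fun x =>
      (Groth.Agent.ZClosLib.isZClosedAt_iff hZ G x).1
        ((Groth.Agent.ZClosLib.closedAt_iff_depth hG hZ x).2 fun y _ hy => hd y hy)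
    refine Scheme.Modules.Hom.isIso_iff_isIso_app.2 fun V => ?_
    refine (ConcreteCategory.isIso_iff_bijective _).2 ?_
    have hoff : ∀ y ∈ V, y ∉ U.ι ''ᵁ U.ι ⁻¹ᵁ V → y ∈ Z := fun y hy hy' hyU =>
      hy' (Groth.Agent.ZClosLib.mem_img.2 ⟨hyU, hy⟩)
    exact ⟨Groth.Agent.ZClosLib.injective_res_of_pure (U.ι.image_preimage_le V) (fun x _ => (hc x).1) hoff,
      Groth.Agent.ZClosLib.surjective_res_of_closed (U.ι.image_preimage_le V) (fun x _ => hc x) hoff⟩
  have hpush : IsIso ((ZClos.resPushUnit U).app ((ZClos.resPush U).obj F)) := ZClos.isIso_unit_resPush le_rfl F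
  refine ⟨fun x hx => ?_, fun G hG φ hφ hd => ?_⟩
  · haveI := hF'.1
    let F' : X.Modules := (ZClos.resPush U).obj F
    haveI : F'.IsQuasicoherent := hF'.1
    have hcl : ZClos.IsZClosed Z F' := by
      refine Groth.Agent.ZClosLib.isZClosed_of_bijective hZ F' fun T V _ => ?_
      have hle : U.ι ''ᵁ U.ι ⁻¹ᵁ V ≤ V ⊓ T.U := fun y hy =>
        ⟨(Groth.Agent.ZClosLib.mem_img.1 hy).2, fun hyT => (T.2 hyT) (Groth.Agent.ZClosLib.mem_img.1 hy).1⟩
      have h1 := hres F' hpush V _ (U.ι.image_preimage_le V) rfl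
      have h2 : Function.Bijective (Groth.Agent.ZClosLib.res F' hle) := hres F' hpush _ _ hle (by
        refine TopologicalSpace.Opens.ext (Set.ext fun y => ?_)
        exact ⟨fun hy => Groth.Agent.ZClosLib.mem_img.2 ⟨(Groth.Agent.ZClosLib.mem_img.1 hy).1, hle hy⟩,
          fun hy => Groth.Agent.ZClosLib.mem_img.2 ⟨(Groth.Agent.ZClosLib.mem_img.1 hy).1,
            (Groth.Agent.ZClosLib.mem_img.1 hy).2.1⟩⟩)
      refine (Function.Bijective.of_comp_iff' h2 _).1 ?_
      convert h1 using 1
      funext s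
      exact Groth.Agent.ZClosLib.res_res F' _ _ s
    haveI : IsIso (ZClos.rhoApp Z F') := hcl
    exact (Groth.Agent.ZClosLib.closedAt_iff_depth (F := F') hF' hZ x).1
      ((Groth.Agent.ZClosLib.isZClosed_iff_stalk F').1 hcl x) x specializes_rfl hx
  · haveI := hφ
    haveI : IsIso ((ZClos.resPush U).map φ) :=
      Functor.map_isIso (Scheme.Modules.pushforward U.ι) ((Scheme.Modules.restrictFunctor U.ι).map φ)
    haveI := hiso G hG hd
    haveI := hpush
    have hnat := (ZClos.resPushUnit U).naturality φ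
    let ψ : G ⟶ (ZClos.resPush U).obj F := (ZClos.resPushUnit U).app G ≫ inv ((ZClos.resPush U).map φ)
    have hψ : φ ≫ ψ = (ZClos.resPushUnit U).app F := by
      rw [← Category.assoc, IsIso.comp_inv_eq]
      exact hnat
    have huniq : ∀ χ : G ⟶ (ZClos.resPush U).obj F, φ ≫ χ = (ZClos.resPushUnit U).app F → χ = ψ := by
      intro χ hχ
      have h1 : (ZClos.resPush U).map χ = (ZClos.resPush U).map ψ := by
        rw [← cancel_epi ((ZClos.resPush U).map φ), ← Functor.map_comp, ← Functor.map_comp, hχ, hψ]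
      rw [← cancel_mono ((ZClos.resPushUnit U).app ((ZClos.resPush U).obj F))]
      exact ((ZClos.resPushUnit U).naturality χ).trans
        ((congrArg (fun m => (ZClos.resPushUnit U).app G ≫ m) h1).trans ((ZClos.resPushUnit U).naturality ψ).symm)
    refine ⟨⟨ψ, hψ, huniq⟩, fun χ hχ => ?_⟩
    rw [huniq χ hχ]
    exact IsIso.comp_isIso' (hiso G hG hd) inferInstance

end Groth.Agent.S12226
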