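import Groth.Statements.S12227
import Groth.Agent.CommAlg4.BoundedRoofs
-- import your own Groth.Agent.* helpers here

set_option autoImplicit false
universe w v u
open CategoryTheory CategoryTheory.Limits
open CohDer

namespace Groth.Agent.S12227

/-- Full faithfulness of K⁻(A)[Qis⁻¹] → D⁻(A), written in terms of roofs. Let A be an abelian category
and K, L complexes which are zero above some degree, viewed in the homotopy category. Then every
morphism Qh(K) → Qh(L) in the derived category is Qh(s)⁻¹ ≫ Qh(f) for some quasi-isomorphism s : K'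
→ K and map f : K' → L of K(A) with K' again zero above some degree; and two maps f₁, f₂ : K → L of
K(A) become equal in D(A) only if s ≫ f₁ = s ≫ f₂ for some quasi-isomorphism s : K' → K with K' zero
above some degree. (That the kernel of K⁻(A) → D(A) consists of the acyclic complexes and that the
essential image is D⁻(A) are separate statements.) -/
theorem result {A : Type u} [Category.{v} A] [Abelian A] [HasDerivedCategory.{w} A]
    (K L : HomotopyCategory A (ComplexShape.up ℤ)) (a b : ℤ) [CochainComplex.IsStrictlyLE K.as a] [CochainComplex.IsStrictlyLE L.as b] :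
    (∀ φ : DerivedCategory.Qh.obj K ⟶ DerivedCategory.Qh.obj L,
      ∃ (K' : HomotopyCategory A (ComplexShape.up ℤ)) (n : ℤ) (_ : CochainComplex.IsStrictlyLE K'.as n) (s : K' ⟶ K) (f : K' ⟶ L),
        HomotopyCategory.quasiIso A (ComplexShape.up ℤ) s ∧ DerivedCategory.Qh.map s ≫ φ = DerivedCategory.Qh.map f) ∧
    (∀ f₁ f₂ : K ⟶ L, DerivedCategory.Qh.map f₁ = DerivedCategory.Qh.map f₂ →
      ∃ (K' : HomotopyCategory A (ComplexShape.up ℤ)) (n : ℤ) (_ : CochainComplex.IsStrictlyLE K'.as n) (s : K' ⟶ K),
        HomotopyCategory.quasiIso A (ComplexShape.up ℤ) s ∧ s ≫ f₁ = s ≫ f₂) := by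
  open CommAlg4.BoundedRoofs DerivedCategory CategoryTheory.Limits in
  have trunc : ∀ (K' : HomotopyCategory A (ComplexShape.up ℤ)) (s : K' ⟶ K),
      HomotopyCategory.quasiIso A (ComplexShape.up ℤ) s →
      ∃ (K'' : HomotopyCategory A (ComplexShape.up ℤ)) (_ : CochainComplex.IsStrictlyLE K''.as a)
        (p : K'' ⟶ K'), HomotopyCategory.quasiIso A (ComplexShape.up ℤ) (p ≫ s) := by
    intro K' s hs
    obtain ⟨s₀, rfl⟩ : ∃ s₀ : K'.as ⟶ K.as, s = (HomotopyCategory.quotient A _).map s₀ :=
      let ⟨s₀, h⟩ := (HomotopyCategory.quotient A _).map_surjective (X := K'.as) (Y := K.as) s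
      ⟨s₀, h.symm⟩
    have hq : QuasiIso s₀ := (HomotopyCategory.quotient_map_mem_quasiIso_iff s₀).1 hs
    have := isLE_of_quasiIso' (A := A) s₀ a
    refine ⟨(HomotopyCategory.quotient A _).obj (CochainComplex.truncLE K'.as a),
      inferInstanceAs (CochainComplex.IsStrictlyLE (CochainComplex.truncLE K'.as a) a),
      (HomotopyCategory.quotient A _).map (CochainComplex.ιTruncLE K'.as a), ?_⟩
    have h2 := (HomotopyCategory.quotient_map_mem_quasiIso_iff
      (CochainComplex.ιTruncLE K'.as a)).2 (inferInstance : QuasiIso _)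
    exact MorphismProperty.IsMultiplicative.toIsStableUnderComposition.comp_mem _ _ h2 hs
  refine ⟨fun φ => ?_, fun f₁ f₂ h => ?_⟩
  · obtain ⟨r, hr⟩ := Localization.exists_rightFraction Qh
      (HomotopyCategory.quasiIso A (ComplexShape.up ℤ)) φ
    obtain ⟨K'', hK'', p, hp⟩ := trunc _ r.s r.hs
    refine ⟨K'', a, hK'', p ≫ r.s, p ≫ r.f, hp, ?_⟩
    rw [hr, Functor.map_comp, Functor.map_comp, Category.assoc,
      MorphismProperty.RightFraction.map_s_comp_map]
  · rw [MorphismProperty.map_eq_iff_precomp Qh (HomotopyCategory.quasiIso A (ComplexShape.up ℤ))] at h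
    obtain ⟨Z, s, hs, hsf⟩ := h
    obtain ⟨K'', hK'', p, hp⟩ := trunc _ s hs
    exact ⟨K'', a, hK'', p ≫ s, hp, by simp [hsf]⟩

end Groth.Agent.S12227
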