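import Groth.Statements.S12228
import Groth.Agent.CommAlg4.BoundedRoofs
-- import your own Groth.Agent.* helpers here

set_option autoImplicit false
universe w v u
open CategoryTheory CategoryTheory.Limits
open CohDer

namespace Groth.Agent.S12228

/-- Full faithfulness of Kᵇ(A)[Qis⁻¹] → Dᵇ(A), written in terms of roofs. Let A be an abelian category
and K, L bounded complexes (zero outside a finite range of degrees), viewed in the homotopy
category. Then every morphism Qh(K) → Qh(L) in the derived category is Qh(f) ≫ Qh(t)⁻¹ for some map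
f : K → L' and quasi-isomorphism t : L → L' of K(A) with L' again bounded; and two maps f₁, f₂ : K →
L of K(A) become equal in D(A) only if f₁ ≫ t = f₂ ≫ t for some quasi-isomorphism t : L → L' with L'
bounded. -/
theorem result {A : Type u} [Category.{v} A] [Abelian A] [HasDerivedCategory.{w} A]
    (K L : HomotopyCategory A (ComplexShape.up ℤ)) (a b a' b' : ℤ) [CochainComplex.IsStrictlyGE K.as a] [CochainComplex.IsStrictlyLE K.as b]
    [CochainComplex.IsStrictlyGE L.as a'] [CochainComplex.IsStrictlyLE L.as b'] :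
    (∀ φ : DerivedCategory.Qh.obj K ⟶ DerivedCategory.Qh.obj L,
      ∃ (L' : HomotopyCategory A (ComplexShape.up ℤ)) (m n : ℤ) (_ : CochainComplex.IsStrictlyGE L'.as m) (_ : CochainComplex.IsStrictlyLE L'.as n) (f : K ⟶ L') (t : L ⟶ L'),
        HomotopyCategory.quasiIso A (ComplexShape.up ℤ) t ∧ φ ≫ DerivedCategory.Qh.map t = DerivedCategory.Qh.map f) ∧
    (∀ f₁ f₂ : K ⟶ L, DerivedCategory.Qh.map f₁ = DerivedCategory.Qh.map f₂ →
      ∃ (L' : HomotopyCategory A (ComplexShape.up ℤ)) (m n : ℤ) (_ : CochainComplex.IsStrictlyGE L'.as m) (_ : CochainComplex.IsStrictlyLE L'.as n) (t : L ⟶ L'),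
        HomotopyCategory.quasiIso A (ComplexShape.up ℤ) t ∧ f₁ ≫ t = f₂ ≫ t) := by
  open CommAlg4.BoundedRoofs DerivedCategory CategoryTheory.Limits in
  let n : ℤ := max b b' + 1
  have : CochainComplex.IsStrictlyLE K.as n := CochainComplex.isStrictlyLE_of_le K.as b n (by omega)
  have : CochainComplex.IsStrictlyLE L.as n := CochainComplex.isStrictlyLE_of_le L.as b' n (by omega)
  -- bounded replacement of the target of a quasi-isomorphism out of `L`
  have bdd : ∀ (L' : HomotopyCategory A (ComplexShape.up ℤ)) (t : L ⟶ L'),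
      HomotopyCategory.quasiIso A (ComplexShape.up ℤ) t →
      ∃ (L₂ : CochainComplex A ℤ) (_ : L₂.IsStrictlyGE a') (q : L' ⟶ (HomotopyCategory.quotient A _).obj L₂),
        (CochainComplex.truncLE L₂ n).IsStrictlyGE a' ∧
        HomotopyCategory.quasiIso A (ComplexShape.up ℤ) (t ≫ q) ∧
        QuasiIso (CochainComplex.ιTruncLE L₂ n) := by
    intro L' t ht
    obtain ⟨t₀, rfl⟩ : ∃ t₀ : L.as ⟶ L'.as, t = (HomotopyCategory.quotient A _).map t₀ :=
      let ⟨t₀, h⟩ := (HomotopyCategory.quotient A _).map_surjective (X := L.as) (Y := L'.as) t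
      ⟨t₀, h.symm⟩
    have hq : QuasiIso t₀ := (HomotopyCategory.quotient_map_mem_quasiIso_iff t₀).1 ht
    have := isGE_of_quasiIso (A := A) t₀ a'
    have h2 := (HomotopyCategory.quotient_map_mem_quasiIso_iff
      (CochainComplex.πTruncGE L'.as a')).2 (inferInstance : QuasiIso _)
    have := isLE_of_quasiIso (A := A) (t₀ ≫ CochainComplex.πTruncGE L'.as a') n
    exact ⟨CochainComplex.truncGE L'.as a', inferInstance,
      (HomotopyCategory.quotient A _).map (CochainComplex.πTruncGE L'.as a'), inferInstance,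
      MorphismProperty.IsMultiplicative.toIsStableUnderComposition.comp_mem _ _ ht h2,
      inferInstance⟩
  refine ⟨fun φ => ?_, fun f₁ f₂ h => ?_⟩
  · obtain ⟨r, hr⟩ := Localization.exists_leftFraction Qh
      (HomotopyCategory.quasiIso A (ComplexShape.up ℤ)) φ
    obtain ⟨L₂, hL₂, q, hge, htq, hι⟩ := bdd _ r.s r.hs
    obtain ⟨f₀, hf₀⟩ := (HomotopyCategory.quotient A _).map_surjective (X := K.as) (Y := L₂) (r.f ≫ q)
    obtain ⟨t₀, ht₀⟩ := (HomotopyCategory.quotient A _).map_surjective (X := L.as) (Y := L₂) (r.s ≫ q)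
    obtain ⟨g, hg⟩ := exists_lift n f₀
    obtain ⟨u, hu⟩ := exists_lift n t₀
    have hqι := (HomotopyCategory.quotient_map_mem_quasiIso_iff (CochainComplex.ιTruncLE L₂ n)).2 hι
    have hqu : QuasiIso u := by
      have : QuasiIso t₀ := (HomotopyCategory.quotient_map_mem_quasiIso_iff t₀).1 (ht₀ ▸ htq)
      rw [← hu] at this
      exact quasiIso_of_comp_right u (CochainComplex.ιTruncLE L₂ n)
    refine ⟨(HomotopyCategory.quotient A _).obj (CochainComplex.truncLE L₂ n), a', n, hge,
      inferInstanceAs (CochainComplex.IsStrictlyLE (CochainComplex.truncLE L₂ n) n),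
      (HomotopyCategory.quotient A _).map g, (HomotopyCategory.quotient A _).map u,
      (HomotopyCategory.quotient_map_mem_quasiIso_iff u).2 hqu, ?_⟩
    have : IsIso (Qh.map ((HomotopyCategory.quotient A _).map (CochainComplex.ιTruncLE L₂ n))) :=
      Localization.inverts Qh (HomotopyCategory.quasiIso A (ComplexShape.up ℤ)) _ hqι
    rw [← cancel_mono (Qh.map ((HomotopyCategory.quotient A _).map (CochainComplex.ιTruncLE L₂ n))),
      Category.assoc]
    refine ((congrArg (φ ≫ ·) ((Qh.map_comp _ _).symm)).trans ?_).trans (Qh.map_comp _ _)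
    have h1 := ((HomotopyCategory.quotient A _).map_comp u (CochainComplex.ιTruncLE L₂ n)).symm.trans
      ((congrArg (HomotopyCategory.quotient A _).map hu).trans ht₀)
    have h2 := ((HomotopyCategory.quotient A _).map_comp g (CochainComplex.ιTruncLE L₂ n)).symm.trans
      ((congrArg (HomotopyCategory.quotient A _).map hg).trans hf₀)
    refine (congrArg (fun w => φ ≫ Qh.map w) h1).trans (Eq.trans ?_ (congrArg Qh.map h2).symm)
    refine (congrArg₂ (· ≫ ·) hr (Qh.map_comp r.s q)).trans ?_
    refine ((Category.assoc _ _ _).symm.trans ?_).trans (Qh.map_comp r.f q).symm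
    exact congrArg (· ≫ Qh.map q) (MorphismProperty.LeftFraction.map_comp_map_s _ _ _)
  · rw [MorphismProperty.map_eq_iff_postcomp Qh (HomotopyCategory.quasiIso A (ComplexShape.up ℤ))] at h
    obtain ⟨Z, t, ht, htf⟩ := h
    obtain ⟨L₂, hL₂, q, hge, htq, hι⟩ := bdd _ t ht
    obtain ⟨t₀, ht₀⟩ := (HomotopyCategory.quotient A _).map_surjective (X := L.as) (Y := L₂) (t ≫ q)
    obtain ⟨u, hu⟩ := exists_lift n t₀
    have hqu : QuasiIso u := by
      have : QuasiIso t₀ := (HomotopyCategory.quotient_map_mem_quasiIso_iff t₀).1 (ht₀ ▸ htq)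
      rw [← hu] at this
      exact quasiIso_of_comp_right u (CochainComplex.ιTruncLE L₂ n)
    obtain ⟨g₁, hg₁⟩ := (HomotopyCategory.quotient A _).map_surjective (X := K.as) (Y := L.as) f₁
    obtain ⟨g₂, hg₂⟩ := (HomotopyCategory.quotient A _).map_surjective (X := K.as) (Y := L.as) f₂
    have he : (HomotopyCategory.quotient A (ComplexShape.up ℤ)).map (g₁ ≫ u) =
        (HomotopyCategory.quotient A (ComplexShape.up ℤ)).map (g₂ ≫ u) := by
      refine quotient_map_eq_of_comp_ι n _ _ ?_
      rw [Category.assoc, Category.assoc, hu, Functor.map_comp, Functor.map_comp, ht₀, hg₁, hg₂]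
      exact (Category.assoc _ _ _).symm.trans ((congrArg (· ≫ q) htf).trans (Category.assoc _ _ _))
    refine ⟨(HomotopyCategory.quotient A _).obj (CochainComplex.truncLE L₂ n), a', n, hge,
      inferInstanceAs (CochainComplex.IsStrictlyLE (CochainComplex.truncLE L₂ n) n),
      (HomotopyCategory.quotient A _).map u,
      (HomotopyCategory.quotient_map_mem_quasiIso_iff u).2 hqu, ?_⟩
    rw [Functor.map_comp, Functor.map_comp, hg₁, hg₂] at he
    exact he

end Groth.Agent.S12228
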