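import Groth.Statements.S12230
import Groth.Agent.Desc19b.FibFactor

set_option autoImplicit false
universe v u
open CategoryTheory
open FibCat

set_option backward.isDefEq.respectTransparency false
set_option backward.isDefEq.respectTransparency.types false

namespace Groth.Agent.S12230

/-- Let C be a category and F : 𝒳 → 𝒴 a 1-morphism of fibred categories over C. Then there are a fibred
category 𝒳' over C and 1-morphisms of fibred categories u : 𝒳 → 𝒳', v : 𝒳' → 𝒴, w : 𝒳' → 𝒳 over C
with F = v ∘ u such that u is fully faithful with w as its left adjoint, and v : 𝒳' → 𝒴 makes 𝒳' a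
fibred category over 𝒴. (Stated for 𝒳, 𝒴 whose morphisms live in the universe of the morphisms of C
and whose objects live one universe level up, the size of categories of C-data; the adjunction w ⊣ u
is of the underlying functors.) -/
theorem result {C : Type u} [Category.{v} C]
    {𝒳 𝒴 : BasedCategory.{v, max u v} C} [𝒳.p.IsFibered] [𝒴.p.IsFibered]
    (F : 𝒳 ⥤ᵇ 𝒴) (hF : FibCat.PreservesStronglyCartesian F) :
    ∃ (𝒳' : BasedCategory.{v, max u v} C) (u : 𝒳 ⥤ᵇ 𝒳') (v : 𝒳' ⥤ᵇ 𝒴) (w : 𝒳' ⥤ᵇ 𝒳),
      𝒳'.p.IsFibered ∧ FibCat.PreservesStronglyCartesian u ∧ FibCat.PreservesStronglyCartesian v ∧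
        FibCat.PreservesStronglyCartesian w ∧ BasedFunctor.comp u v = F ∧
        u.toFunctor.Full ∧ u.toFunctor.Faithful ∧ Nonempty (w.toFunctor ⊣ u.toFunctor) ∧
        v.toFunctor.IsFibered := by
  exact ⟨Desc19b.FibFactor.tot F, Desc19b.FibFactor.uSec F, Desc19b.FibFactor.v F, Desc19b.FibFactor.w F,
    Desc19b.FibFactor.isFibered F hF, Desc19b.FibFactor.u_preserves F hF,
    Desc19b.FibFactor.v_preserves F hF, Desc19b.FibFactor.w_preserves F hF,
    Desc19b.FibFactor.comp_uSec_v F, inferInstance, inferInstance, ⟨Desc19b.FibFactor.adj F⟩,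
    Desc19b.FibFactor.v_isFibered F hF⟩

end Groth.Agent.S12230
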