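import Groth.Statements.S12233
import Groth.Agent.CAlgH3.FlatBC
import Mathlib.RingTheory.Localization.BaseChange
import Mathlib.RingTheory.Flat.Stability
import Mathlib.RingTheory.LocalRing.RingHom.Basic
import Mathlib.LinearAlgebra.TensorProduct.Tower

set_option autoImplicit false
universe u
open scoped TensorProduct
open CAlg

namespace Groth.Agent.S12233

/-- Let R → S, R → R', S → S' and R' → S' be local homomorphisms of Noetherian local rings forming a
commutative square, I ⊊ R an ideal, M a finite S-module, I' = IR' and M' = M ⊗_S S' (given through a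
base-change map f : M → M'). Assume (1) S' is a localization of S ⊗_R R' via the induced map, (2)
M/IM is flat over R/I, and (3) the map Tor_1^R(M, R/I) → Tor_1^{R'}(M', R'/I') is zero — with
Tor_1(−, R/I) computed as the kernel of I ⊗_R M → M, this says that every element of that kernel
goes to zero under the natural map I ⊗_R M → I' ⊗_{R'} M'. Then M' is flat over R'. -/
theorem result
    (R S R' S' : Type u) [CommRing R] [CommRing S] [CommRing R'] [CommRing S']
    [IsLocalRing R] [IsLocalRing S] [IsLocalRing R'] [IsLocalRing S']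
    [IsNoetherianRing R] [IsNoetherianRing S] [IsNoetherianRing R'] [IsNoetherianRing S']
    [Algebra R S] [Algebra R R'] [Algebra S S'] [Algebra R' S'] [Algebra R S']
    [IsScalarTower R S S'] [IsScalarTower R R' S']
    [IsLocalHom (algebraMap R S)] [IsLocalHom (algebraMap R R')] [IsLocalHom (algebraMap S S')]
    [IsLocalHom (algebraMap R' S')]
    (I : Ideal R) (hI : I ≠ ⊤) (M : Type u) [AddCommGroup M] [Module S M] [Module R M] [IsScalarTower R S M]
    [Module.Finite S M]
    (M' : Type u) [AddCommGroup M'] [Module S' M'] [Module R' M'] [IsScalarTower R' S' M']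
    [Module S M'] [IsScalarTower S S' M'] [Module R M'] [IsScalarTower R R' M'] [IsScalarTower R S M']
    (f : M →ₗ[S] M') (hf : IsBaseChange S' f)
    (h1 : ∃ W : Submonoid (S ⊗[R] R'),
      letI : Algebra (S ⊗[R] R') S' :=
        (Algebra.TensorProduct.lift (IsScalarTower.toAlgHom R S S') (IsScalarTower.toAlgHom R R' S')
          (fun s r => Commute.all _ _)).toRingHom.toAlgebra;
      IsLocalization W S')
    (h2 : Module.Flat (R ⧸ I) ((R ⧸ I) ⊗[R] M))
    (h3 : ∀ x : ↥I ⊗[R] M, (Submodule.subtype I).rTensor M x = 0 →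
      (TensorProduct.mapOfCompatibleSMul R' R R ↥(I.map (algebraMap R R')) M')
        ((TensorProduct.map (Algebra.idealMap R' I) (f.restrictScalars R)) x) = 0) :
    Module.Flat R' M' := by
  obtain ⟨W, hW⟩ := h1
  letI : Algebra (S ⊗[R] R') S' :=
    (Algebra.TensorProduct.lift (IsScalarTower.toAlgHom R S S') (IsScalarTower.toAlgHom R R' S')
      (fun s r => Commute.all _ _)).toRingHom.toAlgebra
  haveI : IsLocalization W S' := hW
  letI : Algebra R' (S ⊗[R] R') := Algebra.TensorProduct.rightAlgebra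
  have hTS' : ∀ t : S ⊗[R] R', algebraMap (S ⊗[R] R') S' t = Algebra.TensorProduct.lift (IsScalarTower.toAlgHom R S S') (IsScalarTower.toAlgHom R R' S') (fun s r => Commute.all _ _) t := fun t => rfl
  haveI : IsScalarTower S (S ⊗[R] R') S' := IsScalarTower.of_algebraMap_eq fun s => by
    rw [hTS', Algebra.TensorProduct.algebraMap_apply]; simp
  haveI : IsScalarTower R' (S ⊗[R] R') S' := IsScalarTower.of_algebraMap_eq fun r => by
    rw [hTS', show algebraMap R' (S ⊗[R] R') r = 1 ⊗ₜ r from rfl]; simp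
  letI : Module (S ⊗[R] R') M' := Module.compHom M' (algebraMap (S ⊗[R] R') S')
  haveI : IsScalarTower (S ⊗[R] R') S' M' := IsScalarTower.of_algebraMap_smul fun _ _ => rfl
  haveI : IsScalarTower S (S ⊗[R] R') M' := IsScalarTower.of_algebraMap_smul fun s x => by
    rw [← algebraMap_smul S' (algebraMap S (S ⊗[R] R') s) x, ← IsScalarTower.algebraMap_apply, algebraMap_smul]
  haveI : IsScalarTower R' (S ⊗[R] R') M' := IsScalarTower.of_algebraMap_smul fun r x => by
    rw [← algebraMap_smul S' (algebraMap R' (S ⊗[R] R') r) x, ← IsScalarTower.algebraMap_apply, algebraMap_smul]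
  haveI : Module.Finite S' M' := Module.Finite.equiv hf.equiv
  let I' := I.map (algebraMap R R')
  have hI' : I'.map (algebraMap R' S') ≤ Ideal.jacobson ⊥ := by
    rw [IsLocalRing.jacobson_eq_maximalIdeal ⊥ bot_ne_top, Ideal.map_map, ← IsScalarTower.algebraMap_eq,
      IsScalarTower.algebraMap_eq R R' S', Ideal.map_le_iff_le_comap]
    intro x hx
    exact map_nonunit (algebraMap R' S') _ (map_nonunit (algebraMap R R') x (IsLocalRing.le_maximalIdeal hI hx))
  let M₁ := (S ⊗[R] R') ⊗[S] M
  let ι : M₁ →ₗ[S ⊗[R] R'] M' := (TensorProduct.isBaseChange S M (S ⊗[R] R')).lift f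
  have hι : ∀ m, ι (1 ⊗ₜ m) = f m := fun m => (TensorProduct.isBaseChange S M (S ⊗[R] R')).lift_eq f m
  have hbc : IsBaseChange S' ι := by
    refine IsBaseChange.of_comp (TensorProduct.isBaseChange S M (S ⊗[R] R')) ?_
    convert hf using 1
    exact LinearMap.ext hι
  haveI : IsLocalizedModule W ι := (isLocalizedModule_iff_isBaseChange W S' ι).2 hbc
  let e : R' ⊗[R] M ≃ₗ[R'] M₁ := (Algebra.IsPushout.cancelBaseChange R R' S (S ⊗[R] R') M).symm
  have he : ∀ (r : R') (m : M), ι (e (r ⊗ₜ m)) = r • f m := fun r m => by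
    rw [show e (r ⊗ₜ m) = algebraMap R' (S ⊗[R] R') r ⊗ₜ[S] m from Algebra.IsPushout.cancelBaseChange_symm_tmul R R' S (S ⊗[R] R') M r m]
    rw [← mul_one (algebraMap R' (S ⊗[R] R') r), ← smul_eq_mul, ← TensorProduct.smul_tmul', map_smul, hι,
      algebraMap_smul]
  have hQ := FlatCrit.quotFlat_of_flat I h2
  have hQ' : FlatCrit.QuotFlat R' M' I' := by
    have h := (CAlgH3.quotFlat_baseChange_left (R' := R') hQ).of_linearEquiv e
    haveI : Module.Flat (S ⊗[R] R') S' := IsLocalization.flat S' W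
    exact (h.baseChange (S := S ⊗[R] R') S').of_linearEquiv (hbc.equiv.restrictScalars R')
  refine FlatCrit.flat_of_rTensor_injective (S := S') I' hI' ((LinearMap.lTensor_inj_iff_rTensor_inj M' I'.subtype).1 ?_) hQ'
  -- elements killed in `M₁ ⊗ R'` die in `M' ⊗ I'`
  let L : M₁ ⊗[R'] ↥I' →ₗ[S ⊗[R] R'] M' ⊗[R'] ↥I' := TensorProduct.AlgebraTensorModule.map ι LinearMap.id
  let Φ : ↥I' ⊗[R] M →ₗ[R'] M' ⊗[R'] ↥I' :=
    L.restrictScalars R' ∘ₗ (TensorProduct.comm R' ↥I' M₁).toLinearMap ∘ₗ
      e.toLinearMap.lTensor ↥I' ∘ₗ (TensorProduct.AlgebraTensorModule.cancelBaseChange R R' R' ↥I' M).symm.toLinearMap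
  have hΦ : ∀ (a : ↥I') (m : M), Φ (a ⊗ₜ m) = f m ⊗ₜ a := fun a m => by
    simp [Φ, L, he]
  have key : ∀ y : M₁ ⊗[R'] ↥I', I'.subtype.lTensor M₁ y = 0 → L y = 0 := by
    intro y hy
    obtain ⟨y₀, hy₀⟩ : ∃ y₀ : ↥I' ⊗[R] M, y = TensorProduct.comm R' ↥I' M₁ (e.toLinearMap.lTensor ↥I'
        ((TensorProduct.AlgebraTensorModule.cancelBaseChange R R' R' ↥I' M).symm y₀)) := by
      obtain ⟨y₁, rfl⟩ := (TensorProduct.comm R' ↥I' M₁).surjective y
      obtain ⟨y₂, rfl⟩ := (e.lTensor ↥I').surjective y₁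
      exact ⟨TensorProduct.AlgebraTensorModule.cancelBaseChange R R' R' ↥I' M y₂, by rw [LinearEquiv.symm_apply_apply]; rfl⟩
    subst hy₀
    have hc : ∀ y₀ : ↥I' ⊗[R] M, (I'.subtype.restrictScalars R).rTensor M y₀ = e.symm (TensorProduct.rid R' M₁
        (I'.subtype.lTensor M₁ (TensorProduct.comm R' ↥I' M₁ (e.toLinearMap.lTensor ↥I'
        ((TensorProduct.AlgebraTensorModule.cancelBaseChange R R' R' ↥I' M).symm y₀))))) := by
      intro y₀
      induction y₀ with
      | zero => simp
      | add x y hx hy => simp only [map_add, hx, hy]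
      | tmul a m =>
        simp [TensorProduct.smul_tmul']
    have h0 := hc y₀
    rw [hy, map_zero, map_zero] at h0
    suffices hs : Submodule.span R' _ ≤ LinearMap.ker Φ from hs (CAlgH3.ker_map_rTensor_le_span hQ y₀ h0)
    rw [Submodule.span_le]
    rintro _ ⟨x, hx, rfl⟩
    have hx' : ∀ x, Φ ((Algebra.idealMap R' I).rTensor M x) = TensorProduct.comm R' ↥I' M'
        ((TensorProduct.mapOfCompatibleSMul R' R R ↥I' M') ((TensorProduct.map (Algebra.idealMap R' I) (f.restrictScalars R)) x)) := by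
      intro x
      induction x with
      | zero => simp
      | add x y hx hy => simp only [map_add, hx, hy]
      | tmul a m => simp [hΦ]
    rw [SetLike.mem_coe, LinearMap.mem_ker, hx', h3 x hx, map_zero]
  rw [injective_iff_map_eq_zero]
  intro x hx
  have hsurj : ∀ x : M' ⊗[R'] ↥I', ∃ (w : W) (y : M₁ ⊗[R'] ↥I'), (w : S ⊗[R] R') • x = L y := by
    intro x
    induction x with
    | zero => exact ⟨1, 0, by simp⟩
    | add x x' hx hx' =>
      obtain ⟨w, y, hy⟩ := hx
      obtain ⟨w', y', hy'⟩ := hx'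
      refine ⟨w * w', (w' : S ⊗[R] R') • y + (w : S ⊗[R] R') • y', ?_⟩
      rw [map_add, map_smul, map_smul, ← hy, ← hy', smul_add, smul_smul, smul_smul, Submonoid.coe_mul,
        mul_comm (w' : S ⊗[R] R') (w : S ⊗[R] R')]
    | tmul m a =>
      obtain ⟨⟨y, w⟩, hy⟩ := IsLocalizedModule.surj W ι m
      refine ⟨w, y ⊗ₜ a, ?_⟩
      rw [TensorProduct.smul_tmul']
      simp only [L, TensorProduct.AlgebraTensorModule.map_tmul, LinearMap.id_apply]
      exact congrArg (· ⊗ₜ[R'] a) hy
  obtain ⟨w, y, hy⟩ := hsurj x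
  have hz : ∀ y : M₁ ⊗[R'] ↥I', ι (TensorProduct.rid R' M₁ (I'.subtype.lTensor M₁ y)) =
      TensorProduct.rid R' M' (I'.subtype.lTensor M' (L y)) := by
    intro y
    induction y with
    | zero => simp
    | add x y hx hy => simp only [map_add, hx, hy]
    | tmul m a => simp [L]
  have hlin : ∀ {N : Type u} [AddCommGroup N] [Module R' N] [Module (S ⊗[R] R') N] [IsScalarTower R' (S ⊗[R] R') N]
      (t : S ⊗[R] R') (z : N ⊗[R'] ↥I'), I'.subtype.lTensor N (t • z) = t • I'.subtype.lTensor N z := fun t z =>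
    map_smul (TensorProduct.AlgebraTensorModule.lTensor (S ⊗[R] R') _ I'.subtype) t z
  have h0 : ι (TensorProduct.rid R' M₁ (I'.subtype.lTensor M₁ y)) = 0 := by
    rw [hz, ← hy, hlin, hx, smul_zero, map_zero]
  obtain ⟨w', hw'⟩ := (IsLocalizedModule.eq_zero_iff W ι).1 h0
  have h4 : L ((w' : S ⊗[R] R') • y) = 0 := by
    apply key
    apply (TensorProduct.AlgebraTensorModule.rid R' (S ⊗[R] R') M₁).injective
    rw [hlin, map_smul, map_zero]
    exact hw'
  rw [map_smul, ← hy, smul_smul, ← algebraMap_smul S' ((w' : S ⊗[R] R') * w) x, map_mul] at h4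
  exact ((IsLocalization.map_units S' w').mul (IsLocalization.map_units S' w)).smul_eq_zero.1 h4

end Groth.Agent.S12233
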