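import Groth.Statements.S12235
import Groth.Agent.S1585
import Groth.Agent.Desc19.Topology
import Groth.Agent.EGA43.SmoothNorm.Scheme
import Groth.Agent.AbVarLib.GeomIntegralSmooth
import Groth.Agent.CurveRR24.GenusZero
-- import your own Groth.Agent.* helpers here

set_option autoImplicit false
universe u
open CategoryTheory CategoryTheory.Limits AlgebraicGeometry
open Curves

set_option backward.isDefEq.respectTransparency.types false
namespace Groth.Agent.S12235

open Groth.Agent TopologicalSpace

/-- Geometric irreducibility passes back along universal homeomorphic closed immersions. -/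
theorem geometricallyIrreducible_homeo {R Y : Scheme.{u}} {K : Type u} [Field K] (j : R ⟶ Y) [IsClosedImmersion j]
    [Surjective j] (f : Y ⟶ Spec (CommRingCat.of K)) [GeometricallyIrreducible f] :
    GeometricallyIrreducible (j ≫ f) := by
  refine ⟨fun L _ y P fst snd h => ?_⟩
  let m := pullback.lift (fst ≫ j) snd (by rw [Category.assoc]; exact h.w) (f := f) (g := y)
  have hm : IsPullback fst m j (pullback.fst f y) :=
    IsPullback.of_bot (v₂₁ := pullback.snd f y) (v₂₂ := f) (h₃₁ := y) (by rw [show m ≫ pullback.snd f y = snd from pullback.lift_snd _ _ _]; exact h)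
      (pullback.lift_fst _ _ _).symm (IsPullback.of_hasPullback f y)
  haveI : IsClosedImmersion m := MorphismProperty.of_isPullback hm ‹IsClosedImmersion j›
  haveI : Surjective m := MorphismProperty.of_isPullback hm ‹Surjective j›
  haveI : IrreducibleSpace ↥(pullback f y) :=
    GeometricallyIrreducible.geometrically_irreducibleSpace (f := f) y _ _ (IsPullback.of_hasPullback f y)
  exact (m.isClosedEmbedding.toIsEmbedding.toHomeomorphOfSurjective m.surjective).symm.surjective.irreducibleSpace
    (m.isClosedEmbedding.toIsEmbedding.toHomeomorphOfSurjective m.surjective).symm.continuous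

/-- Nonempty opens of geometrically irreducible schemes are geometrically irreducible. -/
theorem geometricallyIrreducible_open {R : Scheme.{u}} {K : Type u} [Field K] (f : R ⟶ Spec (CommRingCat.of K))
    [GeometricallyIrreducible f] (V : R.Opens) (hV : (V : Set R).Nonempty) :
    GeometricallyIrreducible (V.ι ≫ f) := by
  refine ⟨fun L _ y P fst snd h => ?_⟩
  let m := pullback.lift (fst ≫ V.ι) snd (by rw [Category.assoc]; exact h.w) (f := f) (g := y)
  have hm : IsPullback fst m V.ι (pullback.fst f y) :=
    IsPullback.of_bot (v₂₁ := pullback.snd f y) (v₂₂ := f) (h₃₁ := y) (by rw [show m ≫ pullback.snd f y = snd from pullback.lift_snd _ _ _]; exact h)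
      (pullback.lift_fst _ _ _).symm (IsPullback.of_hasPullback f y)
  haveI : IsOpenImmersion m := MorphismProperty.of_isPullback hm inferInstance
  haveI : IrreducibleSpace ↥(pullback f y) :=
    GeometricallyIrreducible.geometrically_irreducibleSpace (f := f) y _ _ (IsPullback.of_hasPullback f y)
  haveI : Nonempty ↥(V : Scheme.{u}) := ⟨⟨hV.choose, hV.choose_spec⟩⟩
  haveI : Surjective y := ⟨fun x => ⟨IsLocalRing.closedPoint L, Subsingleton.elim (α := PrimeSpectrum K) _ _⟩⟩
  haveI : Surjective fst := MorphismProperty.of_isPullback h.flip ‹Surjective y›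
  haveI : Nonempty P := ⟨(fst.surjective (Classical.arbitrary _)).choose⟩
  have hirr : IsIrreducible (Set.range m) :=
    ⟨Set.range_nonempty _, IsPreirreducible.open_subset
      (PreirreducibleSpace.isPreirreducible_univ) m.isOpenEmbedding.isOpen_range (Set.subset_univ _)⟩
  haveI : IrreducibleSpace ↥(Set.range m) :=
    { toPreirreducibleSpace := Subtype.preirreducibleSpace hirr.2, toNonempty := (Set.range_nonempty _).to_subtype }
  exact m.isOpenEmbedding.isEmbedding.toHomeomorph.symm.surjective.irreducibleSpace
    m.isOpenEmbedding.isEmbedding.toHomeomorph.symm.continuous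

/-- An irreducible scheme with a geometrically irreducible nonempty open is geometrically irreducible. -/
theorem geometricallyIrreducible_of_open {N : Scheme.{u}} [IrreducibleSpace N] {K : Type u} [Field K]
    (f : N ⟶ Spec (CommRingCat.of K)) (V : N.Opens) (hV : (V : Set N).Nonempty)
    [GeometricallyIrreducible (V.ι ≫ f)] : GeometricallyIrreducible f := by
  refine ⟨fun L _ y P fst snd h => ?_⟩
  haveI : Subsingleton ↥(Spec (CommRingCat.of K)) := inferInstanceAs (Subsingleton (PrimeSpectrum K))
  haveI := Desc19.universallyOpen_of_subsingleton y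
  haveI : UniversallyOpen fst := MorphismProperty.of_isPullback h.flip ‹UniversallyOpen y›
  have hW : IsPullback (fst ∣_ V) ((fst ⁻¹ᵁ V).ι ≫ snd) (V.ι ≫ f) y :=
    (isPullback_morphismRestrict fst V).paste_vert h
  haveI : IrreducibleSpace ↥((fst ⁻¹ᵁ V : P.Opens) : Scheme.{u}) :=
    GeometricallyIrreducible.geometrically_irreducibleSpace (f := V.ι ≫ f) y _ _ hW
  have hd : Dense ((fst ⁻¹ᵁ V : P.Opens) : Set P) := (V.isOpen.dense hV).preimage fst.isOpenMap
  have hirr : IsIrreducible ((fst ⁻¹ᵁ V : P.Opens) : Set P) := by
    have := (IrreducibleSpace.isIrreducible_univ ↥((fst ⁻¹ᵁ V : P.Opens) : Scheme.{u})).image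
      (fst ⁻¹ᵁ V).ι (fst ⁻¹ᵁ V).ι.continuous.continuousOn
    rwa [Set.image_univ, Scheme.Opens.range_ι] at this
  show IrreducibleSpace P
  rw [irreducibleSpace_def, Set.top_eq_univ, ← hd.closure_eq]
  exact hirr.closure

/-- Let k be a field, X a proper geometrically irreducible curve over k (proper over k, integral, of
dimension one), K/k a field extension and Y_K the normalization of the reduction of X_K (that
reduction is integral). If Y_K is smooth over K then H^0(Y_K, O) = K: the global functions of Y_K
form a one-dimensional K-vector space. (Stated for proper X; the instance hypotheses on (X_K)_red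
always hold.) -/
theorem result (k : Type u) [Field k] (X : Scheme.{u})
    [X.Over (Spec (CommRingCat.of k))] [IsIntegral X] [IsProper (X ↘ (Spec (CommRingCat.of k)))]
    [GeometricallyIrreducible (X ↘ (Spec (CommRingCat.of k)))] (hdim : topologicalKrullDim X = 1)
    (K : Type u) [Field K] [Algebra k K] [IsIntegral ((Curv2.bc k X K).nilradical).subscheme]
    [QuasiCompact ((((Curv2.bc k X K).nilradical).subscheme).fromSpecStalk (genericPoint ((Curv2.bc k X K).nilradical).subscheme))]
    [QuasiSeparated ((((Curv2.bc k X K).nilradical).subscheme).fromSpecStalk (genericPoint ((Curv2.bc k X K).nilradical).subscheme))]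
    (hsm : Smooth (Curv2.normalizationι ((Curv2.bc k X K).nilradical).subscheme ≫ ((Curv2.bc k X K).nilradical).subschemeι ≫ Curv2.bcSnd k X K)) :
    letI : (Curv2.normalization ((Curv2.bc k X K).nilradical).subscheme).Over (Spec (CommRingCat.of K)) := ⟨(Curv2.normalizationι ((Curv2.bc k X K).nilradical).subscheme ≫ ((Curv2.bc k X K).nilradical).subschemeι ≫ Curv2.bcSnd k X K)⟩
    Module.finrank K (Coh.HH (Curv2.normalization ((Curv2.bc k X K).nilradical).subscheme) (Coh.structureModule (Curv2.normalization ((Curv2.bc k X K).nilradical).subscheme)) 0) = 1 := by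
  classical
  let R := ((Curv2.bc k X K).nilradical).subscheme
  let j : R ⟶ Curv2.bc k X K := ((Curv2.bc k X K).nilradical).subschemeι
  let q : R ⟶ Spec (CommRingCat.of K) := j ≫ Curv2.bcSnd k X K
  haveI : IsProper (Curv2.bcSnd k X K) :=
    MorphismProperty.pullback_snd (P := @IsProper) (X ↘ Spec (CommRingCat.of k)) _ inferInstance
  haveI : GeometricallyIrreducible (Curv2.bcSnd k X K) :=
    MorphismProperty.pullback_snd (P := @GeometricallyIrreducible) (X ↘ Spec (CommRingCat.of k)) _ inferInstance
  haveI : Surjective j := EGA43.SmoothNorm.surjective_nilradical_subschemeι _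
  haveI : GeometricallyIrreducible q := geometricallyIrreducible_homeo j (Curv2.bcSnd k X K)
  letI : R.Over (Spec (CommRingCat.of K)) := ⟨q⟩
  haveI : IsProper (R ↘ Spec (CommRingCat.of K)) := inferInstanceAs (IsProper (j ≫ _))
  obtain ⟨hfin, -, ⟨V, hV, hiso⟩, hNi, -⟩ := Groth.Agent.S1585.result K R
  haveI := hfin
  haveI := hiso
  haveI := hNi
  let N := Curv2.normalization R
  let ν : N ⟶ R := Curv2.normalizationι R
  letI : N.Over (Spec (CommRingCat.of K)) := ⟨ν ≫ q⟩
  haveI : IsProper (N ↘ Spec (CommRingCat.of K)) := inferInstanceAs (IsProper (ν ≫ q))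
  haveI : Smooth (N ↘ Spec (CommRingCat.of K)) := hsm
  haveI : GeometricallyIrreducible (V.ι ≫ q) := geometricallyIrreducible_open q V hV
  let e : ((ν ⁻¹ᵁ V : N.Opens) : Scheme.{u}) ⟶ (V : Scheme.{u}) := ν ∣_ V
  haveI : GeometricallyIrreducible ((ν ⁻¹ᵁ V).ι ≫ (ν ≫ q)) := by
    have h : GeometricallyIrreducible (e ≫ V.ι ≫ q) := by
      rw [MorphismProperty.cancel_left_of_respectsIso @GeometricallyIrreducible]
      infer_instance
    rwa [show e ≫ V.ι ≫ q = (ν ⁻¹ᵁ V).ι ≫ (ν ≫ q) by
      rw [← Category.assoc, ← Category.assoc]; exact congrArg (· ≫ q) (morphismRestrict_ι ν V)] at h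
  have hne : ((ν ⁻¹ᵁ V : N.Opens) : Set N).Nonempty := by
    obtain ⟨v, hv⟩ := hV
    obtain ⟨w, -⟩ := (asIso e).hom.homeomorph.surjective ⟨v, hv⟩
    exact ⟨w.1, w.2⟩
  haveI : GeometricallyIrreducible (N ↘ Spec (CommRingCat.of K)) :=
    geometricallyIrreducible_of_open (ν ≫ q) (ν ⁻¹ᵁ V) hne
  haveI : GeometricallyConnected (N ↘ Spec (CommRingCat.of K)) :=
    ⟨fun L _ y P fst snd h => by
      have := GeometricallyIrreducible.geometrically_irreducibleSpace (f := N ↘ Spec (CommRingCat.of K)) y fst snd h
      infer_instance⟩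
  haveI : GeometricallyIntegral (N ↘ Spec (CommRingCat.of K)) := AbVarLib.geometricallyIntegral_of_smooth _
  exact CurveRR24.h0_structure_of_geomIntegral K (X := N)

end Groth.Agent.S12235
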