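import Groth.Statements.S12240
import Groth.Agent.S12235
import Groth.Agent.S5950
import Groth.Agent.CohDer1.QP.Final
import Groth.Agent.VarietyLib.SmoothStalk
-- import your own Groth.Agent.* helpers here

set_option autoImplicit false
universe u
open CategoryTheory CategoryTheory.Limits AlgebraicGeometry
open Curves

set_option backward.isDefEq.respectTransparency.types false
namespace Groth.Agent.S12240

open Groth.Agent

theorem iso_normalization_of_bc {K Ω : Type u} [Field K] [Field Ω] [Algebra K Ω] {X Y R Y' X' : Scheme.{u}}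
    (q : X ⟶ Spec (CommRingCat.of K)) [IsProper q] [GeometricallyIrreducible q] [IsIntegral X] [IsIntegral Y]
    (ν : Y ⟶ X) [IsFinite ν] [Smooth (ν ≫ q)] (V : X.Opens) (hV : (V : Set X).Nonempty) [IsIso (ν ∣_ V)]
    {q' : X' ⟶ Spec (CommRingCat.of Ω)} {fX : X' ⟶ X}
    (hX : IsPullback fX q' q (Spec.map (CommRingCat.ofHom (algebraMap K Ω))))
    {fY : Y' ⟶ Y} {g : Y' ⟶ X'} (hg : IsPullback fY g ν fX)
    [IsIntegral R] (j : R ⟶ X') [IsClosedImmersion j] [Surjective j] (hj : j.ker = X'.nilradical)
    [QuasiCompact (R.fromSpecStalk (genericPoint R))] [QuasiSeparated (R.fromSpecStalk (genericPoint R))] :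
    ∃ e : Y' ≅ Curv2.normalization R, e.hom ≫ Curv2.normalizationι R ≫ j = g := by
  have hY : IsPullback fY (g ≫ q') (ν ≫ q) (Spec.map (CommRingCat.ofHom (algebraMap K Ω))) := hg.paste_vert hX
  haveI : Smooth (g ≫ q') := MorphismProperty.of_isPullback (P := @Smooth) hY inferInstance
  haveI : GeometricallyIrreducible (V.ι ≫ q) := S12235.geometricallyIrreducible_open q V hV
  haveI : GeometricallyIrreducible ((ν ⁻¹ᵁ V).ι ≫ (ν ≫ q)) := by
    have h : GeometricallyIrreducible ((ν ∣_ V) ≫ V.ι ≫ q) := by
      rw [MorphismProperty.cancel_left_of_respectsIso @GeometricallyIrreducible]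
      infer_instance
    rwa [show (ν ∣_ V) ≫ V.ι ≫ q = (ν ⁻¹ᵁ V).ι ≫ (ν ≫ q) by
      rw [← Category.assoc, ← Category.assoc]; exact congrArg (· ≫ q) (morphismRestrict_ι ν V)] at h
  have hne : ((ν ⁻¹ᵁ V : Y.Opens) : Set Y).Nonempty := by
    obtain ⟨v, hv⟩ := hV
    obtain ⟨w, -⟩ := (asIso (ν ∣_ V)).hom.homeomorph.surjective ⟨v, hv⟩
    exact ⟨w.1, w.2⟩
  haveI : GeometricallyIrreducible (ν ≫ q) := S12235.geometricallyIrreducible_of_open (ν ≫ q) (ν ⁻¹ᵁ V) hne
  haveI : GeometricallyConnected (ν ≫ q) :=
    ⟨fun L _ y P fst snd h => by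
      have := GeometricallyIrreducible.geometrically_irreducibleSpace (f := ν ≫ q) y fst snd h
      infer_instance⟩
  haveI : GeometricallyIntegral (ν ≫ q) := AbVarLib.geometricallyIntegral_of_smooth _
  haveI : IsIntegral Y' := GeometricallyIntegral.geometrically_isIntegral (f := ν ≫ q)
    (Spec.map (CommRingCat.ofHom (algebraMap K Ω))) fY (g ≫ q') hY
  have hnor : Pi1.IsNormalScheme Y' := fun y => by
    haveI := VarietyLib.isRegularLocalRing_stalk_of_smooth Ω Y' (g ≫ q') y
    exact ⟨inferInstance, CAlgH3.isIntegrallyClosed_of_regular _⟩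
  haveI : IsFinite g := MorphismProperty.of_isPullback (P := @IsFinite) hg inferInstance
  -- the factorisation through the reduction
  have hle : j.ker ≤ g.ker := hj.le.trans (CohDer1.QP.nilradical_le_ker g)
  let h : Y' ⟶ R := IsClosedImmersion.lift j g hle
  have hfac : h ≫ j = g := IsClosedImmersion.lift_fac j g hle
  haveI : IsFinite (h ≫ j) := by rw [hfac]; infer_instance
  haveI : IsFinite h := IsFinite.of_comp h j
  -- the good open
  let W : X'.Opens := fX ⁻¹ᵁ V
  have hWiso : IsIso (g ∣_ W) := by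
    have h1 := (isPullback_morphismRestrict g W).flip.paste_horiz hg
    rw [← morphismRestrict_ι fX V] at h1
    obtain ⟨a, -, h2⟩ : ∃ a, a ≫ (ν ⁻¹ᵁ V).ι = (g ⁻¹ᵁ W).ι ≫ fY ∧ IsPullback a (g ∣_ W) (ν ∣_ V) (fX ∣_ V) := by
      let s := isPullback_morphismRestrict ν V
      exact ⟨s.flip.lift ((g ⁻¹ᵁ W).ι ≫ fY) ((g ∣_ W) ≫ (fX ∣_ V)) (by rw [h1.w, Category.assoc]),
        s.flip.lift_fst _ _ _, IsPullback.of_right (by rw [s.flip.lift_fst]; exact h1) (s.flip.lift_snd _ _ _) s.flip⟩
    exact MorphismProperty.of_isPullback (P := MorphismProperty.isomorphisms Scheme) h2 ‹IsIso (ν ∣_ V)›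
  let U : R.Opens := j ⁻¹ᵁ W
  have hUiso : IsIso (h ∣_ U) := by
    have key : ∀ g' : Y' ⟶ X', h ≫ j = g' → IsIso (g' ∣_ W) → IsIso ((h ≫ j) ∣_ W) := by
      rintro g' rfl
      exact id
    have hWiso' := key g hfac hWiso
    rw [morphismRestrict_comp] at hWiso'
    haveI : IsIso ((h ∣_ U) ≫ (j ∣_ W)) := hWiso'
    haveI : IsSplitEpi (j ∣_ W) := ⟨⟨inv ((h ∣_ U) ≫ (j ∣_ W)) ≫ (h ∣_ U), by
      rw [Category.assoc, IsIso.inv_hom_id]⟩⟩
    haveI : IsIso (j ∣_ W) := isIso_of_mono_of_isSplitEpi _
    exact IsIso.of_isIso_comp_right (h ∣_ U) (j ∣_ W)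
  have hUne : (U : Set R).Nonempty := by
    haveI : Surjective fX := MorphismProperty.of_isPullback (P := @Surjective) hX.flip
      ⟨fun x => ⟨IsLocalRing.closedPoint Ω, Subsingleton.elim (α := PrimeSpectrum K) _ _⟩⟩
    obtain ⟨v, hv⟩ := hV
    obtain ⟨w, rfl⟩ := fX.surjective v
    obtain ⟨r, rfl⟩ := j.surjective w
    exact ⟨r, hv⟩
  have hUd : ((h ⁻¹ᵁ U : Y'.Opens) : Set Y').Nonempty := by
    obtain ⟨v, hv⟩ := hUne
    obtain ⟨w, -⟩ := (asIso (h ∣_ U)).hom.homeomorph.surjective ⟨v, hv⟩
    exact ⟨w.1, w.2⟩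
  have hRn : ∀ x ∈ U, IsIntegrallyClosed (R.presheaf.stalk x) := fun x hx => by
    obtain ⟨w, hw⟩ := (asIso (h ∣_ U)).hom.homeomorph.surjective ⟨x, hx⟩
    have h3 : h w.1 = x := by
      have := congrArg Subtype.val hw
      simpa [morphismRestrict_base] using this
    subst h3
    haveI : IsIso (h.stalkMap w.1) := by
      haveI : IsIso ((h ∣_ U).stalkMap w) := inferInstance
      exact ((MorphismProperty.isomorphisms CommRingCat).arrow_mk_iso_iff
        (morphismRestrictStalkMap h U w)).1 ‹_›
    haveI := (hnor w.1).2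
    exact IsIntegrallyClosed.of_equiv (asIso (h.stalkMap w.1)).commRingCatIsoToRingEquiv.symm
  obtain ⟨e, he⟩ := (S5950.result R ⟨U, hUne, hRn⟩ h).2
    ⟨hnor, inferInstance, U, U.isOpen.dense hUne, (h ⁻¹ᵁ U).isOpen.dense hUd, hUiso⟩
  exact ⟨e, by rw [← Category.assoc, he, hfac]⟩


/-- Stated over the field where the nonsingular projective model is already smooth. Let K be a field and
X a proper geometrically irreducible curve over K (proper over K, integral, of dimension one) whose
normalization Y = X^ν is smooth over K. Then for every field extension Ω of K the base change Y_Ω,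
together with its map to X_Ω, is the normalization of the reduction (X_Ω)_red: there is an
isomorphism from Y_Ω to the normalization of (X_Ω)_red whose composite with the normalization map
and the closed immersion (X_Ω)_red → X_Ω is the base change Y_Ω → X_Ω of Y → X. (Applied to the
reduction of the base change of a geometrically irreducible proper curve to a field over which its
nonsingular projective model becomes smooth, this says that the smooth model is compatible with all
further field extensions; the instance hypotheses on (X_Ω)_red — integrality and the two conditions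
needed to form the normalization — always hold.) -/
theorem result (K : Type u) [Field K] (X : Scheme.{u})
    [X.Over (Spec (CommRingCat.of K))] [IsIntegral X] [IsProper (X ↘ (Spec (CommRingCat.of K)))]
    [GeometricallyIrreducible (X ↘ (Spec (CommRingCat.of K)))] (hdim : topologicalKrullDim X = 1)
    [QuasiCompact (X.fromSpecStalk (genericPoint X))] [QuasiSeparated (X.fromSpecStalk (genericPoint X))]
    (hsm : Smooth (Curv2.normalizationι X ≫ (X ↘ (Spec (CommRingCat.of K)))))
    (Ω : Type u) [Field Ω] [Algebra K Ω]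
    [IsIntegral ((Curv2.bc K X Ω).nilradical).subscheme]
    [QuasiCompact ((((Curv2.bc K X Ω).nilradical).subscheme).fromSpecStalk (genericPoint ((Curv2.bc K X Ω).nilradical).subscheme))]
    [QuasiSeparated ((((Curv2.bc K X Ω).nilradical).subscheme).fromSpecStalk (genericPoint ((Curv2.bc K X Ω).nilradical).subscheme))] :
    ∃ e : Limits.pullback (Curv2.normalizationι X ≫ (X ↘ (Spec (CommRingCat.of K))))
          (Spec.map (CommRingCat.ofHom (algebraMap K Ω))) ≅
        Curv2.normalization ((Curv2.bc K X Ω).nilradical).subscheme,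
      e.hom ≫ Curv2.normalizationι ((Curv2.bc K X Ω).nilradical).subscheme ≫ ((Curv2.bc K X Ω).nilradical).subschemeι =
        Limits.pullback.map (Curv2.normalizationι X ≫ (X ↘ (Spec (CommRingCat.of K))))
          (Spec.map (CommRingCat.ofHom (algebraMap K Ω))) (X ↘ (Spec (CommRingCat.of K)))
          (Spec.map (CommRingCat.ofHom (algebraMap K Ω))) (Curv2.normalizationι X) (𝟙 _) (𝟙 _)
          (Category.comp_id _) ((Category.comp_id _).trans (Category.id_comp _).symm) := by
  obtain ⟨hfin, -, ⟨V, hV, hiso⟩, hNi, -⟩ := Groth.Agent.S1585.result K X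
  haveI := hfin
  haveI := hiso
  haveI := hNi
  haveI := hsm
  haveI : Surjective ((Curv2.bc K X Ω).nilradical).subschemeι :=
    Groth.Agent.EGA43.SmoothNorm.surjective_nilradical_subschemeι _
  let g := Limits.pullback.map (Curv2.normalizationι X ≫ (X ↘ (Spec (CommRingCat.of K))))
          (Spec.map (CommRingCat.ofHom (algebraMap K Ω))) (X ↘ (Spec (CommRingCat.of K)))
          (Spec.map (CommRingCat.ofHom (algebraMap K Ω))) (Curv2.normalizationι X) (𝟙 _) (𝟙 _)
          (Category.comp_id _) ((Category.comp_id _).trans (Category.id_comp _).symm)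
  have hg : IsPullback (Limits.pullback.fst _ _) g (Curv2.normalizationι X) (Curv2.bcFst K X Ω) := by
    refine IsPullback.of_bot (v₂₁ := Curv2.bcSnd K X Ω) (v₂₂ := X ↘ (Spec (CommRingCat.of K)))
      (h₃₁ := Spec.map (CommRingCat.ofHom (algebraMap K Ω))) ?_ ?_ (IsPullback.of_hasPullback _ _)
    · rw [show g ≫ Curv2.bcSnd K X Ω = Limits.pullback.snd _ _ from
        (Limits.pullback.lift_snd _ _ _).trans (Category.comp_id _)]
      exact IsPullback.of_hasPullback _ _
    · exact (Limits.pullback.lift_fst _ _ _).symm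
  exact iso_normalization_of_bc (X ↘ (Spec (CommRingCat.of K))) (Curv2.normalizationι X) V hV
    (IsPullback.of_hasPullback _ _) hg _ (Scheme.IdealSheafData.ker_subschemeι _)

end Groth.Agent.S12240
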