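import Groth.Statements.S12243
import Groth.Agent.FlatCx12.DevissageComplete

set_option autoImplicit false
universe u
open FlatMor

namespace Groth.Agent.S12243

open TensorProduct in
/-- All schemes are affine; the base-changed complete dévissage is asserted to exist with its pieces
pinned as base changes. Let R → S be of finite type, N a finite S-module, p a prime of R and 𝒟 a
complete dévissage of N/S/R over p in the prelude's algebraic form (rings A_i, smooth R-algebras B_i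
with pB_i prime and geometrically irreducible fibres, finite A_i-modules M_i with N ≅ M_0, maps α_i
from finite free B_i-modules, bijective on the fibre at pB_i, whose cokernels are the next modules,
the last one surjective; steps indexed by i below the length). Let R → R' be a ring map, p' a prime
of R' over p, S' the base change of S and N' = N ⊗_S S'. Then N'/S'/R' has a complete dévissage 𝒟'
over p' of the same length and the same ranks whose pieces are base changes of those of 𝒟: for the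
steps i below the length there are algebra structures making A'_i and B'_i the base changes of A_i
and B_i along R → R', compatibly with B_i → A_i, with B_i → A_{i+1}, with S → A_0 and with S' →
A'_0, and A_i-linear base-change maps M_i → M'_i (M'_i ≅ M_i ⊗_{A_i} A'_i) carrying N ≅ M_0 to N' ≅
M'_0 and the image of α_i onto a generating set of the image of α'_i. (The published statement
base-changes all the data functorially; here the identifications of cokernels inside 𝒟' are not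
required to be the base-changed ones.) -/
theorem result
    (R S : Type u) [CommRing R] [CommRing S] [Algebra R S] [Algebra.FiniteType R S]
    (N : Type u) [AddCommGroup N] [Module S N] [Module.Finite S N]
    (p : Ideal R) [p.IsPrime] (𝒟 : FlatCA.CompleteDevissage R S N p)
    (R' : Type u) [CommRing R'] [Algebra R R'] (p' : Ideal R') [p'.IsPrime] [p'.LiesOver p]
    (S' : Type u) [CommRing S'] [Algebra R' S'] [Algebra R S'] [Algebra S S'] [IsScalarTower R R' S']
    [IsScalarTower R S S'] [Algebra.IsPushout R R' S S']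
    (N' : Type u) [AddCommGroup N'] [Module S' N'] [Module S N'] [IsScalarTower S S' N']
    (f : N →ₗ[S] N') (hf : IsBaseChange S' f) :
    ∃ (𝒟' : FlatCA.CompleteDevissage R' S' N' p')
      (aA : ∀ i : Fin 𝒟.n, Algebra (𝒟.A i) (𝒟'.A i)) (rA : ∀ i : Fin 𝒟.n, Algebra R (𝒟'.A i))
      (_t1 : ∀ i : Fin 𝒟.n, IsScalarTower R (R') (𝒟'.A i)) (_t2 : ∀ i : Fin 𝒟.n, IsScalarTower R (𝒟.A i) (𝒟'.A i))
      (aB : ∀ i : Fin 𝒟.n, Algebra (𝒟.B i) (𝒟'.B i)) (rB : ∀ i : Fin 𝒟.n, Algebra R (𝒟'.B i))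
      (_t3 : ∀ i : Fin 𝒟.n, IsScalarTower R (R') (𝒟'.B i)) (_t4 : ∀ i : Fin 𝒟.n, IsScalarTower R (𝒟.B i) (𝒟'.B i))
      (bA : ∀ i : Fin 𝒟.n, Algebra (𝒟.B i) (𝒟'.A i)) (_t5 : ∀ i : Fin 𝒟.n, IsScalarTower (𝒟.B i) (𝒟.A i) (𝒟'.A i))
      (_t6 : ∀ i : Fin 𝒟.n, IsScalarTower (𝒟.B i) (𝒟'.B i) (𝒟'.A i))
      (bA' : ∀ i : Fin 𝒟.n, Algebra (𝒟.B i) (𝒟'.A (i + 1)))
      (_t7 : ∀ i : Fin 𝒟.n, IsScalarTower (𝒟.B i) (𝒟'.B i) (𝒟'.A (i + 1)))
      (sA : Algebra S (𝒟'.A 0)) (_t8 : IsScalarTower S (S') (𝒟'.A 0))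
      (mA : ∀ i : Fin 𝒟.n, Module (𝒟.A i) (𝒟'.M i)) (_t9 : ∀ i : Fin 𝒟.n, IsScalarTower (𝒟.A i) (𝒟'.A i) (𝒟'.M i))
      (gM : ∀ i : Fin 𝒟.n, 𝒟.M i →ₗ[𝒟.A i] 𝒟'.M i),
      𝒟'.n = 𝒟.n ∧ 𝒟'.r = 𝒟.r ∧
      (letI := aA ⟨0, 𝒟.pos⟩; IsScalarTower S (𝒟.A 0) (𝒟'.A 0)) ∧
      (∀ x : N, 𝒟'.isoN (f x) = gM ⟨0, 𝒟.pos⟩ (𝒟.isoN x)) ∧
      (∀ (i : Fin 𝒟.n) (h : (i : ℕ) + 1 < 𝒟.n),
        letI := aA ⟨i + 1, h⟩; IsScalarTower (𝒟.B i) (𝒟.A (i + 1)) (𝒟'.A (i + 1))) ∧
      ∀ i : Fin 𝒟.n,
        Algebra.IsPushout R R' (𝒟.A i) (𝒟'.A i) ∧ Algebra.IsPushout R R' (𝒟.B i) (𝒟'.B i) ∧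
        IsBaseChange (𝒟'.A i) (gM i) ∧
        LinearMap.range (𝒟'.α i) =
          Submodule.span (𝒟'.B i) ((gM i) '' (LinearMap.range (𝒟.α i) : Set (𝒟.M i))) := by
  classical
  letI : Algebra S' (Groth.Agent.FlatCx12.DevissageComplete.A' 𝒟 R' 0) :=
    (((Ideal.Quotient.mkₐ R' (Groth.Agent.FlatCx12.DevissageComplete.IA 𝒟 R' 0)).comp
      ((Algebra.TensorProduct.map (AlgHom.id R' R') (IsScalarTower.toAlgHom R S (𝒟.A 0))).comp
        (Algebra.IsPushout.equiv R R' S S').symm.toAlgHom)).toRingHom).toAlgebra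
  haveI : IsScalarTower R' S' (Groth.Agent.FlatCx12.DevissageComplete.A' 𝒟 R' 0) :=
    .of_algebraMap_eq fun r => (((Ideal.Quotient.mkₐ R' (Groth.Agent.FlatCx12.DevissageComplete.IA 𝒟 R' 0)).comp
      ((Algebra.TensorProduct.map (AlgHom.id R' R') (IsScalarTower.toAlgHom R S (𝒟.A 0))).comp
        (Algebra.IsPushout.equiv R R' S S').symm.toAlgHom)).commutes r).symm
  letI : Algebra S (Groth.Agent.FlatCx12.DevissageComplete.A' 𝒟 R' 0) := ((algebraMap (𝒟.A 0) (Groth.Agent.FlatCx12.DevissageComplete.A' 𝒟 R' 0)).comp (algebraMap S (𝒟.A 0))).toAlgebra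
  haveI : IsScalarTower S (𝒟.A 0) (Groth.Agent.FlatCx12.DevissageComplete.A' 𝒟 R' 0) := .of_algebraMap_eq' rfl
  haveI : IsScalarTower S S' (Groth.Agent.FlatCx12.DevissageComplete.A' 𝒟 R' 0) := .of_algebraMap_eq fun s => by
    show _ = Ideal.Quotient.mk (Groth.Agent.FlatCx12.DevissageComplete.IA 𝒟 R' 0) (Algebra.TensorProduct.map (AlgHom.id R' R')
      (IsScalarTower.toAlgHom R S (𝒟.A 0)) ((Algebra.IsPushout.equiv R R' S S').symm (algebraMap S S' s)))
    rw [show (Algebra.IsPushout.equiv R R' S S').symm (algebraMap S S' s) = (1 : R') ⊗ₜ[R] s by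
      rw [AlgEquiv.symm_apply_eq, Algebra.IsPushout.equiv_tmul, map_one, one_mul]]
    rfl
  haveI := Groth.Agent.FlatCx12.DevissageComplete.pushA (R' := R') 𝒟.pos
  haveI : Algebra.IsPushout S S' (𝒟.A 0) (Groth.Agent.FlatCx12.DevissageComplete.A' 𝒟 R' 0) :=
    Groth.Agent.FlatCx12.DevissageBC.isPushout_top (R := R) (R' := R')
  letI : Module S' (Groth.Agent.FlatCx12.DevissageComplete.M' 𝒟 R' 0) := Module.compHom _ (algebraMap S' (Groth.Agent.FlatCx12.DevissageComplete.A' 𝒟 R' 0))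
  haveI : IsScalarTower S' (Groth.Agent.FlatCx12.DevissageComplete.A' 𝒟 R' 0) (Groth.Agent.FlatCx12.DevissageComplete.M' 𝒟 R' 0) := .of_algebraMap_smul fun _ _ => rfl
  letI : Module S (Groth.Agent.FlatCx12.DevissageComplete.M' 𝒟 R' 0) := Module.compHom _ (algebraMap S (Groth.Agent.FlatCx12.DevissageComplete.A' 𝒟 R' 0))
  haveI : IsScalarTower S (Groth.Agent.FlatCx12.DevissageComplete.A' 𝒟 R' 0) (Groth.Agent.FlatCx12.DevissageComplete.M' 𝒟 R' 0) := .of_algebraMap_smul fun _ _ => rfl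
  haveI : IsScalarTower S (𝒟.A 0) (Groth.Agent.FlatCx12.DevissageComplete.M' 𝒟 R' 0) := .of_algebraMap_smul fun s x =>
    (IsScalarTower.algebraMap_smul (Groth.Agent.FlatCx12.DevissageComplete.A' 𝒟 R' 0) (algebraMap S (𝒟.A 0) s) x).symm
  haveI : IsScalarTower S S' (Groth.Agent.FlatCx12.DevissageComplete.M' 𝒟 R' 0) := .of_algebraMap_smul fun s x => by
    show algebraMap S' (Groth.Agent.FlatCx12.DevissageComplete.A' 𝒟 R' 0) (algebraMap S S' s) • x = _
    rw [← IsScalarTower.algebraMap_apply]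
    rfl
  have hb : IsBaseChange S' ((Groth.Agent.FlatCx12.DevissageComplete.gM 𝒟 R' 0).restrictScalars S ∘ₗ 𝒟.isoN.toLinearMap) :=
    (Groth.Agent.FlatCx12.DevissageBC.isBaseChange_bc (Groth.Agent.FlatCx12.DevissageComplete.gM 𝒟 R' 0) (Groth.Agent.FlatCx12.DevissageComplete.isBaseChange_gM 0)).comp_equiv 𝒟.isoN
  haveI := Groth.Agent.FlatCx12.DevissageComplete.isPrime_map (D := 𝒟) p'
  have htop : ∀ i (hi : i + 1 < 𝒟.n),
      letI := Groth.Agent.FlatCx12.DevissageComplete.algBB (R' := R') (Nat.lt_of_succ_lt hi)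
      haveI := Groth.Agent.FlatCx12.DevissageComplete.towBBA' (R' := R') (Nat.lt_of_succ_lt hi)
      Algebra.IsPushout (𝒟.B i) (Groth.Agent.FlatCx12.DevissageComplete.B' 𝒟 R' i) (𝒟.A (i + 1)) (Groth.Agent.FlatCx12.DevissageComplete.A' 𝒟 R' (i + 1)) := by
    intro i hi
    letI := Groth.Agent.FlatCx12.DevissageComplete.algBB (R' := R') (Nat.lt_of_succ_lt hi)
    haveI := Groth.Agent.FlatCx12.DevissageComplete.towRB (R' := R') (Nat.lt_of_succ_lt hi)
    haveI := Groth.Agent.FlatCx12.DevissageComplete.towBBA' (R' := R') (Nat.lt_of_succ_lt hi)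
    haveI := Groth.Agent.FlatCx12.DevissageComplete.pushA (R' := R') hi
    haveI := Groth.Agent.FlatCx12.DevissageComplete.pushB (R' := R') (Nat.lt_of_succ_lt hi)
    exact Groth.Agent.FlatCx12.DevissageBC.isPushout_top (R := R) (R' := R')
  have hcok : ∀ i, i + 1 < 𝒟.n → Nonempty ((Groth.Agent.FlatCx12.DevissageComplete.M' 𝒟 R' i ⧸ LinearMap.range (Groth.Agent.FlatCx12.DevissageComplete.alpha 𝒟 R' i)) ≃ₗ[Groth.Agent.FlatCx12.DevissageComplete.B' 𝒟 R' i]
      Groth.Agent.FlatCx12.DevissageComplete.M' 𝒟 R' (i + 1)) := by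
    intro i hi
    have h' : i < 𝒟.n := Nat.lt_of_succ_lt hi
    letI := Groth.Agent.FlatCx12.DevissageComplete.algBB (R' := R') h'
    haveI := Groth.Agent.FlatCx12.DevissageComplete.towBBM (R' := R') h'
    haveI := Groth.Agent.FlatCx12.DevissageComplete.towBBA' (R' := R') h'
    haveI := htop i hi
    haveI : IsScalarTower (𝒟.B i) (Groth.Agent.FlatCx12.DevissageComplete.B' 𝒟 R' i) (Groth.Agent.FlatCx12.DevissageComplete.M' 𝒟 R' (i + 1)) := .of_algebraMap_smul fun b x => by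
      show algebraMap (Groth.Agent.FlatCx12.DevissageComplete.B' 𝒟 R' i) (Groth.Agent.FlatCx12.DevissageComplete.A' 𝒟 R' (i + 1)) (algebraMap (𝒟.B i) (Groth.Agent.FlatCx12.DevissageComplete.B' 𝒟 R' i) b) • x = _
      rw [← IsScalarTower.algebraMap_apply]
      rfl
    obtain ⟨q, hq⟩ := Groth.Agent.FlatCx12.DevissageComplete.isBaseChange_quotient _ (Groth.Agent.FlatCx12.DevissageComplete.isBaseChange_B (R' := R') h') (LinearMap.range (𝒟.α i))
      (LinearMap.range (Groth.Agent.FlatCx12.DevissageComplete.alpha 𝒟 R' i)) (Groth.Agent.FlatCx12.DevissageComplete.range_alpha h')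
    have hn : IsBaseChange (Groth.Agent.FlatCx12.DevissageComplete.B' 𝒟 R' i)
        ((Groth.Agent.FlatCx12.DevissageComplete.gM 𝒟 R' (i + 1)).restrictScalars (𝒟.B i) ∘ₗ (𝒟.isoCoker i hi).toLinearMap) :=
      (Groth.Agent.FlatCx12.DevissageBC.isBaseChange_bc (Groth.Agent.FlatCx12.DevissageComplete.gM 𝒟 R' (i + 1))
        (Groth.Agent.FlatCx12.DevissageComplete.isBaseChange_gM (i + 1))).comp_equiv (𝒟.isoCoker i hi)
    exact ⟨hq.equiv.symm ≪≫ₗ hn.equiv⟩
  have hfib : ∀ i, i < 𝒟.n →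
      Function.Bijective ((Groth.Agent.FlatCx12.DevissageComplete.alpha 𝒟 R' i).baseChange (p'.map (algebraMap R' (Groth.Agent.FlatCx12.DevissageComplete.B' 𝒟 R' i))).ResidueField) := by
    intro i hi
    letI := Groth.Agent.FlatCx12.DevissageComplete.algBB (R' := R') hi
    haveI := Groth.Agent.FlatCx12.DevissageComplete.towRB (R' := R') hi
    haveI := Groth.Agent.FlatCx12.DevissageComplete.towBBM (R' := R') hi
    haveI := Groth.Agent.FlatCx12.DevissageComplete.pushB (R' := R') hi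
    haveI := 𝒟.smooth i hi
    haveI : (p'.map (algebraMap R' (Groth.Agent.FlatCx12.DevissageComplete.B' 𝒟 R' i))).LiesOver (p.map (algebraMap R (𝒟.B i))) :=
      ⟨(Groth.Agent.FlatCx12.DevissageComplete.comap_map_map p p').symm⟩
    exact Groth.Agent.FlatMorDevissage.bijective_baseChange_residueField (Groth.Agent.FlatCx12.DevissageComplete.isBaseChange_B (R' := R') hi)
      (𝒟.α i) (Groth.Agent.FlatCx12.DevissageComplete.alpha 𝒟 R' i) (Groth.Agent.FlatCx12.DevissageComplete.alpha_single 𝒟 R' i) _ _ (𝒟.fibreIso i hi)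
  let 𝒟' : FlatCA.CompleteDevissage R' S' N' p' :=
    { n := 𝒟.n
      pos := 𝒟.pos
      A := Groth.Agent.FlatCx12.DevissageComplete.A' 𝒟 R'
      B := Groth.Agent.FlatCx12.DevissageComplete.B' 𝒟 R'
      M := Groth.Agent.FlatCx12.DevissageComplete.M' 𝒟 R'
      r := 𝒟.r
      α := Groth.Agent.FlatCx12.DevissageComplete.alpha 𝒟 R'
      surjSA := Groth.Agent.FlatCx12.DevissageBC.surjective_bc (S := S) (C := 𝒟.A 0) 𝒟.surjSA
      fpSA := Groth.Agent.FlatCx12.DevissageBC.finitePresentation_bc (S := S) (C := 𝒟.A 0) 𝒟.fpSA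
      surjBA' := fun i hi =>
        letI := Groth.Agent.FlatCx12.DevissageComplete.algBB (R' := R') (Nat.lt_of_succ_lt hi)
        haveI := Groth.Agent.FlatCx12.DevissageComplete.towBBA' (R' := R') (Nat.lt_of_succ_lt hi)
        haveI := htop i hi
        Groth.Agent.FlatCx12.DevissageBC.surjective_bc (S := 𝒟.B i) (C := 𝒟.A (i + 1)) (𝒟.surjBA' i hi)
      fpBA' := fun i hi =>
        letI := Groth.Agent.FlatCx12.DevissageComplete.algBB (R' := R') (Nat.lt_of_succ_lt hi)
        haveI := Groth.Agent.FlatCx12.DevissageComplete.towBBA' (R' := R') (Nat.lt_of_succ_lt hi)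
        haveI := htop i hi
        Groth.Agent.FlatCx12.DevissageBC.finitePresentation_bc (S := 𝒟.B i) (C := 𝒟.A (i + 1)) (𝒟.fpBA' i hi)
      finiteBA := fun i hi =>
        letI := Groth.Agent.FlatCx12.DevissageComplete.algBB (R' := R') hi
        haveI := Groth.Agent.FlatCx12.DevissageComplete.towRB (R' := R') hi
        haveI := Groth.Agent.FlatCx12.DevissageComplete.towBBA (R' := R') hi
        haveI := Groth.Agent.FlatCx12.DevissageComplete.pushA (R' := R') hi
        haveI := Groth.Agent.FlatCx12.DevissageComplete.pushB (R' := R') hi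
        haveI : Algebra.IsPushout (𝒟.B i) (Groth.Agent.FlatCx12.DevissageComplete.B' 𝒟 R' i) (𝒟.A i) (Groth.Agent.FlatCx12.DevissageComplete.A' 𝒟 R' i) :=
          Groth.Agent.FlatCx12.DevissageBC.isPushout_top (R := R) (R' := R')
        Groth.Agent.FlatCx12.DevissageBC.finite_bc (S := 𝒟.B i) (C := 𝒟.A i) (𝒟.finiteBA i hi)
      smooth := fun i hi =>
        haveI := 𝒟.smooth i hi
        Algebra.Smooth.of_equiv (Groth.Agent.FlatCx12.DevissageComplete.eB (R' := R') hi).symm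
      geomIrred := fun i hi =>
        letI := Groth.Agent.FlatCx12.DevissageComplete.algBB (R' := R') hi
        haveI := Groth.Agent.FlatCx12.DevissageComplete.towRB (R' := R') hi
        haveI := Groth.Agent.FlatCx12.DevissageComplete.pushB (R' := R') hi
        Groth.Agent.FlatCx12.DevissageBC.geomIrredFibres (R := R) (D := 𝒟.B i) (𝒟.geomIrred i hi)
      finiteM := fun i hi =>
        haveI := 𝒟.finiteM i hi
        Module.Finite.equiv (Groth.Agent.FlatCx12.DevissageComplete.isBaseChange_gM (R' := R') i).equiv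
      isoN := hf.equiv.symm ≪≫ₗ hb.equiv
      isoCoker := fun i hi => (hcok i hi).some
      fibreIso := hfib
      cokerLast := Groth.Agent.FlatCx12.DevissageComplete.alpha_last_surjective }
  refine ⟨𝒟', fun i => Groth.Agent.FlatCx12.DevissageComplete.algAA 𝒟 R' i, fun i => Groth.Agent.FlatCx12.DevissageComplete.algRA 𝒟 R' i, fun i => Groth.Agent.FlatCx12.DevissageComplete.towRR'A 𝒟 R' i,
    fun i => Groth.Agent.FlatCx12.DevissageComplete.towRAA 𝒟 R' i, fun i => Groth.Agent.FlatCx12.DevissageComplete.algBB (R' := R') i.2, fun i => Groth.Agent.FlatCx12.DevissageComplete.algRB 𝒟 R' i,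
    fun i => Groth.Agent.FlatCx12.DevissageComplete.towRR'B 𝒟 R' i, fun i => Groth.Agent.FlatCx12.DevissageComplete.towRB i.2, fun i => Groth.Agent.FlatCx12.DevissageComplete.algB 𝒟 R' i, fun i => Groth.Agent.FlatCx12.DevissageComplete.towB 𝒟 R' i,
    fun i => Groth.Agent.FlatCx12.DevissageComplete.towBBA i.2, fun i => Groth.Agent.FlatCx12.DevissageComplete.algB' 𝒟 R' i, fun i => Groth.Agent.FlatCx12.DevissageComplete.towBBA' i.2, inferInstance, inferInstance,
    fun i => Groth.Agent.FlatCx12.DevissageComplete.modA 𝒟 R' i, fun i => Groth.Agent.FlatCx12.DevissageComplete.towAM 𝒟 R' i, fun i => Groth.Agent.FlatCx12.DevissageComplete.gM 𝒟 R' i, rfl, rfl, inferInstance,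
    fun x => ?_, fun i h => Groth.Agent.FlatCx12.DevissageComplete.towB' 𝒟 R' i, fun i => ⟨Groth.Agent.FlatCx12.DevissageComplete.pushA i.2, Groth.Agent.FlatCx12.DevissageComplete.pushB i.2, Groth.Agent.FlatCx12.DevissageComplete.isBaseChange_gM i,
      Groth.Agent.FlatCx12.DevissageComplete.range_alpha i.2⟩⟩
  show hb.equiv (hf.equiv.symm (f x)) = _
  rw [show hf.equiv.symm (f x) = (1 : S') ⊗ₜ[S] x by
    rw [LinearEquiv.symm_apply_eq, IsBaseChange.equiv_tmul, one_smul], IsBaseChange.equiv_tmul, one_smul]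
  rfl

end Groth.Agent.S12243
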