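import Groth.Statements.S12244
import Groth.Agent.FlatCx12.DevissagePoints
import Groth.Agent.FlatMorDevissage.Local

set_option autoImplicit false
universe u
open FlatMor

namespace Groth.Agent.S12244

open TensorProduct in
/-- All schemes are affine. Let R → S be of finite type, N a finite S-module, p ⊆ R and q ⊆ S primes, 𝒟
a complete dévissage of N/S/R over p in the prelude's algebraic form and 𝒜 a datum making it a
complete dévissage at q (primes qB_i ⊆ B_i over p with purely transcendental residue fields, unique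
primes qA_i ⊆ A_i over them, threaded through q and through the maps B_i → A_{i+1}, relative
dimensions d_i of R → B_i equal to the local dimension of the fibre support of M_i at qB_i). Let R →
R' be a ring map and p' a prime over p with κ(p) → κ(p') bijective, S' the base change of S, N' = N
⊗_S S', and q' a prime of S' over q and over p'. Let 𝒟' be a complete dévissage of N'/S'/R' over p'
of the same length whose rings A'_i, B'_i (i below the length) are base changes of A_i, B_i along R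
→ R' compatibly with B_i → A_i, B_i → A_{i+1}, S → A_0 and S' → A'_0, and whose modules M'_i are
base changes of M_i along A_i → A'_i compatibly with N ≅ M_0 and N' ≅ M'_0. Assume moreover that at
every index at or beyond the length the ring B'_i has a prime over p' and A'_i a prime over that one
(the structure's families run over all natural numbers and constrain nothing at those indices, while
a datum at a point asks for such primes at every index; the condition touches only this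
unconstrained tail and holds, for instance, when the tail repeats the last genuine step — without it
the zero ring could sit there and no datum would exist). Then 𝒟' is a complete dévissage at q' with
the same relative dimensions: there is a datum 𝒜' for (𝒟', q') with d' = d whose primes qB'_i, qA'_i
lie over qB_i, qA_i for every step i below the length. -/
theorem result
    (R S : Type u) [CommRing R] [CommRing S] [Algebra R S] [Algebra.FiniteType R S]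
    (N : Type u) [AddCommGroup N] [Module S N] [Module.Finite S N]
    (p : Ideal R) [p.IsPrime] (q : Ideal S) [q.IsPrime] (𝒟 : FlatCA.CompleteDevissage R S N p)
    (𝒜 : FlatCA.CompleteDevissageAt R S N p q 𝒟)
    (R' : Type u) [CommRing R'] [Algebra R R'] (p' : Ideal R') [p'.IsPrime] [hp' : p'.LiesOver p]
    (hκ : Function.Bijective (Ideal.ResidueField.mapₐ p p' (Algebra.ofId R R') hp'.over))
    (S' : Type u) [CommRing S'] [Algebra R' S'] [Algebra R S'] [Algebra S S'] [IsScalarTower R R' S']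
    [IsScalarTower R S S'] [Algebra.IsPushout R R' S S']
    (N' : Type u) [AddCommGroup N'] [Module S' N'] [Module S N'] [IsScalarTower S S' N']
    (f : N →ₗ[S] N') (hf : IsBaseChange S' f)
    (q' : Ideal S') [q'.IsPrime] [q'.LiesOver q] [q'.LiesOver p']
    (𝒟' : FlatCA.CompleteDevissage R' S' N' p') (hn : 𝒟'.n = 𝒟.n)
    (htail : ∀ i, 𝒟.n ≤ i → ∃ (Q : Ideal (𝒟'.B i)) (P : Ideal (𝒟'.A i)),
      Q.IsPrime ∧ P.IsPrime ∧ Q.LiesOver p' ∧ P.LiesOver Q)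
    [aA : ∀ i : Fin 𝒟.n, Algebra (𝒟.A i) (𝒟'.A i)] [rA : ∀ i : Fin 𝒟.n, Algebra R (𝒟'.A i)]
      [∀ i : Fin 𝒟.n, IsScalarTower R (R') (𝒟'.A i)] [∀ i : Fin 𝒟.n, IsScalarTower R (𝒟.A i) (𝒟'.A i)]
      [aB : ∀ i : Fin 𝒟.n, Algebra (𝒟.B i) (𝒟'.B i)] [rB : ∀ i : Fin 𝒟.n, Algebra R (𝒟'.B i)]
      [∀ i : Fin 𝒟.n, IsScalarTower R (R') (𝒟'.B i)] [∀ i : Fin 𝒟.n, IsScalarTower R (𝒟.B i) (𝒟'.B i)]
      [bA : ∀ i : Fin 𝒟.n, Algebra (𝒟.B i) (𝒟'.A i)] [∀ i : Fin 𝒟.n, IsScalarTower (𝒟.B i) (𝒟.A i) (𝒟'.A i)]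
      [∀ i : Fin 𝒟.n, IsScalarTower (𝒟.B i) (𝒟'.B i) (𝒟'.A i)]
      [bA' : ∀ i : Fin 𝒟.n, Algebra (𝒟.B i) (𝒟'.A (i + 1))]
      [∀ i : Fin 𝒟.n, IsScalarTower (𝒟.B i) (𝒟'.B i) (𝒟'.A (i + 1))]
      [sA : Algebra S (𝒟'.A 0)] [IsScalarTower S (S') (𝒟'.A 0)]
      [mA : ∀ i : Fin 𝒟.n, Module (𝒟.A i) (𝒟'.M i)] [∀ i : Fin 𝒟.n, IsScalarTower (𝒟.A i) (𝒟'.A i) (𝒟'.M i)]
      (gM : ∀ i : Fin 𝒟.n, 𝒟.M i →ₗ[𝒟.A i] 𝒟'.M i)
    (hbc : (letI := aA ⟨0, 𝒟.pos⟩; IsScalarTower S (𝒟.A 0) (𝒟'.A 0)) ∧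
      (∀ x : N, 𝒟'.isoN (f x) = gM ⟨0, 𝒟.pos⟩ (𝒟.isoN x)) ∧
      (∀ (i : Fin 𝒟.n) (h : (i : ℕ) + 1 < 𝒟.n),
        letI := aA ⟨i + 1, h⟩; IsScalarTower (𝒟.B i) (𝒟.A (i + 1)) (𝒟'.A (i + 1))) ∧
      ∀ i : Fin 𝒟.n,
        Algebra.IsPushout R R' (𝒟.A i) (𝒟'.A i) ∧ Algebra.IsPushout R R' (𝒟.B i) (𝒟'.B i) ∧
        IsBaseChange (𝒟'.A i) (gM i)) :
    ∃ 𝒜' : FlatCA.CompleteDevissageAt R' S' N' p' q' 𝒟', 𝒜'.d = 𝒜.d ∧
      ∀ i : Fin 𝒟.n, (𝒜'.qB i).LiesOver (𝒜.qB i) ∧ (𝒜'.qA i).LiesOver (𝒜.qA i) := by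
  classical
  obtain ⟨hS0, hiso, hnext, hpc⟩ := hbc
  have hex : ∀ i : ℕ, ∃ (Q : Ideal (𝒟'.B i)) (P : Ideal (𝒟'.A i)) (_ : Q.IsPrime) (_ : P.IsPrime)
      (_ : Q.LiesOver p') (_ : P.LiesOver Q), ∀ h : i < 𝒟.n,
        (letI := aB ⟨i, h⟩; Q.LiesOver (𝒜.qB i)) ∧ (letI := aA ⟨i, h⟩; P.LiesOver (𝒜.qA i)) ∧
        ∀ (P₁ : Ideal (𝒟'.A i)) [P₁.IsPrime], P₁.LiesOver Q → P₁ = P := by
    intro i
    rcases lt_or_ge i 𝒟.n with h | h
    · letI := aA ⟨i, h⟩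
      letI := rA ⟨i, h⟩
      letI := aB ⟨i, h⟩
      letI := rB ⟨i, h⟩
      letI := bA ⟨i, h⟩
      haveI : IsScalarTower R R' (𝒟'.A i) := ‹∀ j : Fin 𝒟.n, IsScalarTower R R' (𝒟'.A j)› ⟨i, h⟩
      haveI : IsScalarTower R (𝒟.A i) (𝒟'.A i) := ‹∀ j : Fin 𝒟.n, IsScalarTower R (𝒟.A j) (𝒟'.A j)› ⟨i, h⟩
      haveI : IsScalarTower R R' (𝒟'.B i) := ‹∀ j : Fin 𝒟.n, IsScalarTower R R' (𝒟'.B j)› ⟨i, h⟩
      haveI : IsScalarTower R (𝒟.B i) (𝒟'.B i) := ‹∀ j : Fin 𝒟.n, IsScalarTower R (𝒟.B j) (𝒟'.B j)› ⟨i, h⟩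
      haveI : IsScalarTower (𝒟.B i) (𝒟.A i) (𝒟'.A i) :=
        ‹∀ j : Fin 𝒟.n, IsScalarTower (𝒟.B j) (𝒟.A j) (𝒟'.A j)› ⟨i, h⟩
      haveI : IsScalarTower (𝒟.B i) (𝒟'.B i) (𝒟'.A i) :=
        ‹∀ j : Fin 𝒟.n, IsScalarTower (𝒟.B j) (𝒟'.B j) (𝒟'.A j)› ⟨i, h⟩
      haveI : Algebra.IsPushout R R' (𝒟.A i) (𝒟'.A i) := (hpc ⟨i, h⟩).1
      haveI : Algebra.IsPushout R R' (𝒟.B i) (𝒟'.B i) := (hpc ⟨i, h⟩).2.1
      haveI : Algebra.IsPushout (𝒟.B i) (𝒟'.B i) (𝒟.A i) (𝒟'.A i) :=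
        Groth.Agent.FlatCx12.DevissageBC.isPushout_top (R := R) (R' := R')
      haveI := 𝒜.hqB i
      haveI := 𝒜.hqA i
      haveI := 𝒜.overB i
      haveI := 𝒜.overA i
      obtain ⟨Q, hQ, hQq, hQp⟩ :=
        Groth.Agent.FlatMorDevissage.exists_prime_isPushout (S' := 𝒟'.B i) p p' hκ (𝒜.qB i)
      obtain ⟨P, hP, hPQ, hPc, hPu⟩ := Groth.Agent.FlatMorDevissage.existsUnique_prime_pushout (A' := 𝒟'.A i)
        (𝒜.qB i) Q (Groth.Agent.FlatCx12.DevissagePoints.bijective_residueField p p' hκ (𝒜.qB i) Q)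
        (𝒜.qA i) (𝒜.uniq i h)
      exact ⟨Q, P, hQ, hP, hQp, hPQ, fun _ => ⟨hQq, ⟨hPc.symm⟩, hPu⟩⟩
    · obtain ⟨Q, P, hQ, hP, hQp, hPQ⟩ := htail i h
      exact ⟨Q, P, hQ, hP, hQp, hPQ, fun h' => absurd h' (not_lt.2 h)⟩
  choose qB' qA' hqB' hqA' hoB' hoA' hprop using hex
  have hstep : ∀ i, i + 1 < 𝒟'.n → (qA' (i + 1)).comap (algebraMap (𝒟'.B i) (𝒟'.A (i + 1))) = qB' i := by
    intro i hi'
    have hi : i + 1 < 𝒟.n := hn ▸ hi'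
    have h : i < 𝒟.n := Nat.lt_of_succ_lt hi
    letI := aA ⟨i + 1, hi⟩
    letI := rA ⟨i + 1, hi⟩
    letI := aB ⟨i, h⟩
    letI := rB ⟨i, h⟩
    letI := bA' ⟨i, h⟩
    haveI : IsScalarTower R R' (𝒟'.B i) := ‹∀ j : Fin 𝒟.n, IsScalarTower R R' (𝒟'.B j)› ⟨i, h⟩
    haveI : IsScalarTower R (𝒟.B i) (𝒟'.B i) := ‹∀ j : Fin 𝒟.n, IsScalarTower R (𝒟.B j) (𝒟'.B j)› ⟨i, h⟩
    haveI : IsScalarTower (𝒟.B i) (𝒟'.B i) (𝒟'.A (i + 1)) :=
      ‹∀ j : Fin 𝒟.n, IsScalarTower (𝒟.B j) (𝒟'.B j) (𝒟'.A (j + 1))› ⟨i, h⟩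
    haveI : IsScalarTower (𝒟.B i) (𝒟.A (i + 1)) (𝒟'.A (i + 1)) := hnext ⟨i, h⟩ hi
    haveI : Algebra.IsPushout R R' (𝒟.B i) (𝒟'.B i) := (hpc ⟨i, h⟩).2.1
    haveI := 𝒜.hqB i
    haveI := hqA' (i + 1)
    haveI := hqB' i
    haveI := hoB' i
    haveI : (qB' i).LiesOver (𝒜.qB i) := (hprop i h).1
    haveI : ((qA' (i + 1)).comap (algebraMap (𝒟'.B i) (𝒟'.A (i + 1)))).LiesOver (𝒜.qB i) := ⟨by
      show 𝒜.qB i = ((qA' (i + 1)).comap (algebraMap (𝒟'.B i) (𝒟'.A (i + 1)))).comap (algebraMap (𝒟.B i) (𝒟'.B i))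
      rw [Ideal.comap_comap, ← IsScalarTower.algebraMap_eq, IsScalarTower.algebraMap_eq (𝒟.B i) (𝒟.A (i + 1)),
        ← Ideal.comap_comap]
      exact (𝒜.qStep i hi).symm.trans (congrArg _ (hprop (i + 1) hi).2.1.over)⟩
    haveI : ((qA' (i + 1)).comap (algebraMap (𝒟'.B i) (𝒟'.A (i + 1)))).LiesOver p' := ⟨by
      show p' = ((qA' (i + 1)).comap (algebraMap (𝒟'.B i) (𝒟'.A (i + 1)))).comap (algebraMap R' (𝒟'.B i))
      rw [Ideal.comap_comap, ← IsScalarTower.algebraMap_eq,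
        IsScalarTower.algebraMap_eq R' (𝒟'.B (i + 1)) (𝒟'.A (i + 1)), ← Ideal.comap_comap]
      exact (hoB' (i + 1)).over.trans (congrArg _ (hoA' (i + 1)).over)⟩
    exact Groth.Agent.FlatCx12.DevissagePoints.eq_of_liesOver p p' hκ (𝒜.qB i) _ _
  have hzero : (qA' 0).comap (algebraMap S' (𝒟'.A 0)) = q' := by
    letI := aA ⟨0, 𝒟.pos⟩
    haveI : IsScalarTower S (𝒟.A 0) (𝒟'.A 0) := hS0
    haveI := hqA' 0
    haveI : ((qA' 0).comap (algebraMap S' (𝒟'.A 0))).LiesOver q := ⟨by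
      show q = ((qA' 0).comap (algebraMap S' (𝒟'.A 0))).comap (algebraMap S S')
      rw [Ideal.comap_comap, ← IsScalarTower.algebraMap_eq, IsScalarTower.algebraMap_eq S (𝒟.A 0),
        ← Ideal.comap_comap]
      exact 𝒜.q0.symm.trans (congrArg _ (hprop 0 𝒟.pos).2.1.over)⟩
    haveI : ((qA' 0).comap (algebraMap S' (𝒟'.A 0))).LiesOver p' := ⟨by
      show p' = ((qA' 0).comap (algebraMap S' (𝒟'.A 0))).comap (algebraMap R' S')
      rw [Ideal.comap_comap, ← IsScalarTower.algebraMap_eq,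
        IsScalarTower.algebraMap_eq R' (𝒟'.B 0) (𝒟'.A 0), ← Ideal.comap_comap]
      exact (hoB' 0).over.trans (congrArg _ (hoA' 0).over)⟩
    exact Groth.Agent.FlatCx12.DevissagePoints.eq_of_liesOver p p' hκ q _ _
  refine ⟨{ qB := qB', qA := qA', hqB := hqB', hqA := hqA', overB := hoB', overA := hoA',
            pureTrans := fun i hi' => ?_
            uniq := fun i hi' => (hprop i (hn ▸ hi')).2.2
            q0 := hzero
            qStep := hstep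
            d := 𝒜.d
            relDim := fun i hi' => ?_
            locDim := fun i hi' => ?_ }, rfl, fun i => ⟨(hprop i i.2).1, (hprop i i.2).2.1⟩⟩
  all_goals
    have h : i < 𝒟.n := hn ▸ hi'
    letI := aA ⟨i, h⟩
    letI := rA ⟨i, h⟩
    letI := aB ⟨i, h⟩
    letI := rB ⟨i, h⟩
    letI := bA ⟨i, h⟩
    haveI : IsScalarTower R R' (𝒟'.B i) := ‹∀ j : Fin 𝒟.n, IsScalarTower R R' (𝒟'.B j)› ⟨i, h⟩
    haveI : IsScalarTower R (𝒟.B i) (𝒟'.B i) := ‹∀ j : Fin 𝒟.n, IsScalarTower R (𝒟.B j) (𝒟'.B j)› ⟨i, h⟩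
    haveI : Algebra.IsPushout R R' (𝒟.B i) (𝒟'.B i) := (hpc ⟨i, h⟩).2.1
    haveI := 𝒜.hqB i
    haveI := 𝒜.overB i
    haveI := hqB' i
    haveI := hoB' i
    haveI : (qB' i).LiesOver (𝒜.qB i) := (hprop i h).1
  · exact Groth.Agent.FlatMorDevissage.purelyTranscendental_transfer p p' (𝒜.qB i) (qB' i) hκ
      (Groth.Agent.FlatCx12.DevissagePoints.bijective_residueField p p' hκ (𝒜.qB i) (qB' i)) (𝒜.pureTrans i h)
  · exact Groth.Agent.FlatCx12.DevissageBC.smoothRelDim (R := R) (D := 𝒟.B i) (𝒜.relDim i h)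
  · haveI : IsScalarTower R R' (𝒟'.A i) := ‹∀ j : Fin 𝒟.n, IsScalarTower R R' (𝒟'.A j)› ⟨i, h⟩
    haveI : IsScalarTower R (𝒟.A i) (𝒟'.A i) := ‹∀ j : Fin 𝒟.n, IsScalarTower R (𝒟.A j) (𝒟'.A j)› ⟨i, h⟩
    haveI : IsScalarTower (𝒟.B i) (𝒟.A i) (𝒟'.A i) :=
      ‹∀ j : Fin 𝒟.n, IsScalarTower (𝒟.B j) (𝒟.A j) (𝒟'.A j)› ⟨i, h⟩
    haveI : IsScalarTower (𝒟.B i) (𝒟'.B i) (𝒟'.A i) :=
      ‹∀ j : Fin 𝒟.n, IsScalarTower (𝒟.B j) (𝒟'.B j) (𝒟'.A j)› ⟨i, h⟩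
    letI := mA ⟨i, h⟩
    haveI : IsScalarTower (𝒟.A i) (𝒟'.A i) (𝒟'.M i) :=
      ‹∀ j : Fin 𝒟.n, IsScalarTower (𝒟.A j) (𝒟'.A j) (𝒟'.M j)› ⟨i, h⟩
    haveI : Algebra.IsPushout R R' (𝒟.A i) (𝒟'.A i) := (hpc ⟨i, h⟩).1
    haveI : Algebra.IsPushout (𝒟.B i) (𝒟'.B i) (𝒟.A i) (𝒟'.A i) :=
      Groth.Agent.FlatCx12.DevissageBC.isPushout_top (R := R) (R' := R')
    letI : Module (𝒟.B i) (𝒟'.M i) := Module.compHom _ (algebraMap (𝒟.B i) (𝒟'.A i))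
    haveI : IsScalarTower (𝒟.B i) (𝒟'.B i) (𝒟'.M i) := .of_algebraMap_smul fun b x => by
      show _ = algebraMap (𝒟.B i) (𝒟'.A i) b • x
      rw [IsScalarTower.algebraMap_apply (𝒟.B i) (𝒟'.B i) (𝒟'.A i), IsScalarTower.algebraMap_smul (𝒟'.A i)]
    haveI : IsScalarTower (𝒟.B i) (𝒟.A i) (𝒟'.M i) := .of_algebraMap_smul fun b x => by
      show _ = algebraMap (𝒟.B i) (𝒟'.A i) b • x
      rw [IsScalarTower.algebraMap_apply (𝒟.B i) (𝒟.A i) (𝒟'.A i), IsScalarTower.algebraMap_smul (𝒟'.A i)]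
    haveI := 𝒟.finiteBA i h
    haveI := 𝒟.finiteM i h
    haveI : Module.Finite (𝒟.B i) (𝒟.M i) := Module.Finite.trans (𝒟.A i) (𝒟.M i)
    have hgM : IsBaseChange (𝒟'.A i) (gM ⟨i, h⟩) := (hpc ⟨i, h⟩).2.2
    exact Groth.Agent.FlatCx12.DevissagePoints.localDim_support p p' hκ (𝒟.M i) (𝒟'.M i)
      ((gM ⟨i, h⟩).restrictScalars (𝒟.B i)) (Groth.Agent.FlatCx12.DevissageBC.isBaseChange_bc _ hgM)
      (𝒜.qB i) (qB' i) (𝒜.locDim i h)

end Groth.Agent.S12244
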