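import Groth.Statements.S12245
import Groth.Agent.FlatCx12.DevissageEtale

set_option autoImplicit false
universe u
open FlatMor

namespace Groth.Agent.S12245

open TensorProduct AlgebraicGeometry in
/-- All schemes are affine. Let R → S be of finite type, N a finite S-module, p ⊆ R and q ⊆ S primes
with q over p, and (C, D, G, n; z, y) a one-step dévissage of N/S/R at q (one-step dévissage over p;
z a prime of C over q and over the prime y of D, unique over y; κ(y)/κ(p) purely transcendental;
local dimension of the fibre support at q equal to n). Let (R, p) → (R', p') and (D, y) → (D', y')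
be elementary étale ring maps at those primes (étale, prime over prime, trivial residue field
extension) with D' an R'-algebra compatibly with D and R, and y' over p'. Then there are: an
elementary étale ring map (R', p') → (R'', p''); an R''-algebra D'' which is an affine open of the
base change of D' to R'' (an open immersion on spectra out of a pushout T of D' along R' → R''),
compatibly with D' and R'', with a prime y'' over y' and over p''; the base change C'' of C along D
→ D'' with a prime z'' over z and y'' and the base change G'' of G to C''; an elementary étale ring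
map (S, q) → (S'', q'') with S'' an R''-algebra compatibly with R → S and a surjection S'' → C''
compatible with S → C and with D'' → C'' over R'', z'' lying over q''; and the base change N'' of N
to S'' — such that (C'', D'', G'', n; z'', y'') is a one-step dévissage of N''/S''/R'' at q''
(including the four pointed conditions). -/
theorem result
    (R S : Type u) [CommRing R] [CommRing S] [Algebra R S] [Algebra.FiniteType R S]
    (N : Type u) [AddCommGroup N] [Module S N] [Module R N] [IsScalarTower R S N] [Module.Finite S N]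
    (p : Ideal R) [p.IsPrime] (q : Ideal S) [q.IsPrime] [q.LiesOver p]
    (C D G : Type u) [CommRing C] [CommRing D] [Algebra S C] [Algebra R C] [IsScalarTower R S C]
    [Algebra R D] [Algebra D C] [IsScalarTower R D C] [AddCommGroup G] [Module C G] [Module S G]
    [IsScalarTower S C G] (n : ℕ)
    (h : FlatCA.IsOneStepDevissage R S N p C D G n)
    (z : Ideal C) [z.IsPrime] (y : Ideal D) [y.IsPrime] [z.LiesOver q] [z.LiesOver y] [y.LiesOver p]
    (h1 : ∃ (ξ : PrimeSpectrum (p.Fiber S)) (hξ : ξ ∈ Module.support (p.Fiber S) (FlatCA.fiberMod p S N)),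
      ξ.asIdeal = FlatCA.fiberIdeal p q ∧
      FlatMor.localDim (Module.support (p.Fiber S) (FlatCA.fiberMod p S N)) ⟨ξ, hξ⟩ = n)
    (h3 : ∀ (z₁ : Ideal C) [z₁.IsPrime], z₁.LiesOver y → z₁ = z)
    (h4 : FlatCA.PurelyTranscendental p y)
    (R' : Type u) [CommRing R'] [Algebra R R'] (p' : Ideal R') [p'.IsPrime] (hR' : FlatCA.IsEtaleNhd R R' p p')
    (D' : Type u) [CommRing D'] [Algebra D D'] [Algebra R' D'] [Algebra R D'] [IsScalarTower R R' D']
    [IsScalarTower R D D'] (y' : Ideal D') [y'.IsPrime] (hD' : FlatCA.IsEtaleNhd D D' y y') [y'.LiesOver p'] :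
    ∃ (R'' : Type u) (_ : CommRing R'') (_ : Algebra R' R'') (_ : Algebra R R'') (_ : IsScalarTower R R' R'')
      (p'' : Ideal R'') (_ : p''.IsPrime),
      FlatCA.IsEtaleNhd R' R'' p' p'' ∧
    ∃ (T : Type u) (_ : CommRing T) (_ : Algebra R' T) (_ : Algebra R'' T) (_ : Algebra D' T)
      (_ : IsScalarTower R' R'' T) (_ : IsScalarTower R' D' T),
      Algebra.IsPushout R' R'' D' T ∧
    ∃ (D'' : Type u) (_ : CommRing D'') (_ : Algebra T D'') (_ : Algebra D' D'') (_ : Algebra R'' D'')
      (_ : Algebra D D'') (_ : Algebra R D'') (_ : IsScalarTower D' T D'') (_ : IsScalarTower R'' T D'')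
      (_ : IsScalarTower D D' D'') (_ : IsScalarTower R R'' D'') (_ : IsScalarTower R D D'')
      (y'' : Ideal D'') (_ : y''.IsPrime) (_ : y''.LiesOver y') (_ : y''.LiesOver p''),
      IsOpenImmersion (Spec.map (CommRingCat.ofHom (algebraMap T D''))) ∧
    ∃ (C'' : Type u) (_ : CommRing C'') (_ : Algebra C C'') (_ : Algebra D'' C'') (_ : Algebra D C'')
      (_ : Algebra R'' C'') (_ : IsScalarTower D D'' C'') (_ : IsScalarTower D C C'') (_ : IsScalarTower R'' D'' C'')
      (z'' : Ideal C'') (_ : z''.IsPrime) (_ : z''.LiesOver z) (_ : z''.LiesOver y''),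
      Algebra.IsPushout D D'' C C'' ∧
    ∃ (G'' : Type u) (_ : AddCommGroup G'') (_ : Module C'' G'') (_ : Module C G'') (_ : IsScalarTower C C'' G'')
      (gG : G →ₗ[C] G''), IsBaseChange C'' gG ∧
    ∃ (S'' : Type u) (_ : CommRing S'') (_ : Algebra S S'') (_ : Algebra R'' S'') (_ : Algebra R S'')
      (_ : IsScalarTower R S S'') (_ : IsScalarTower R R'' S'') (q'' : Ideal S'') (_ : q''.IsPrime)
      (_ : Algebra S'' C'') (_ : Algebra S C'') (_ : IsScalarTower S S'' C'') (_ : IsScalarTower S C C'')
      (_ : IsScalarTower R'' S'' C'') (_ : Module S'' G'') (_ : IsScalarTower S'' C'' G''),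
      FlatCA.IsEtaleNhd S S'' q q'' ∧ z''.LiesOver q'' ∧
    ∃ (N'' : Type u) (_ : AddCommGroup N'') (_ : Module S'' N'') (_ : Module S N'') (_ : IsScalarTower S S'' N'')
      (_ : Module R'' N'') (_ : IsScalarTower R'' S'' N'') (gN : N →ₗ[S] N''), IsBaseChange S'' gN ∧
      FlatCA.IsOneStepDevissage R'' S'' N'' p'' C'' D'' G'' n ∧
      (∃ (ξ : PrimeSpectrum (p''.Fiber S'')) (hξ : ξ ∈ Module.support (p''.Fiber S'') (FlatCA.fiberMod p'' S'' N'')),
        ξ.asIdeal = FlatCA.fiberIdeal p'' q'' ∧
        FlatMor.localDim (Module.support (p''.Fiber S'') (FlatCA.fiberMod p'' S'' N'')) ⟨ξ, hξ⟩ = n) ∧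
      (∀ (z₂ : Ideal C'') [z₂.IsPrime], z₂.LiesOver y'' → z₂ = z'') ∧
      FlatCA.PurelyTranscendental p'' y'' := by
  obtain ⟨hR'e, hR'o, hR'b⟩ := id hR'
  obtain ⟨hD'e, hD'o, hD'b⟩ := id hD'
  have h' := h
  obtain ⟨⟨e⟩, hsurj, hfp, hfin, hG, hsm, hgi, -⟩ := h'
  haveI := hG
  haveI := hfin
  haveI := hfp
  haveI := Groth.Agent.FlatMorDevissage.smooth_of_smoothRelDim hsm
  have hsm' : FlatCA.SmoothRelDim n R' D' :=
    Groth.Agent.FlatMorDevissage.smoothRelDim_of_etale (R := R) (B := D) hsm
  obtain ⟨R'', _, _, p'', _, T, _, _, _, _, _, _, t, D'', _, _, _, _, _, _, y'', _, hR'', hpush, hloc, hD'', hy''p,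
    hdom⟩ := Groth.Agent.FlatCx12.DevissageEtale.exists_base_nhd hsm' p' y'
      (Groth.Agent.FlatMorDevissage.purelyTranscendental_transfer p p' y y' hR'b hD'b h4)
  haveI := hy''p
  haveI := hloc
  letI : Algebra R R'' := ((algebraMap R' R'').comp (algebraMap R R')).toAlgebra
  haveI : IsScalarTower R R' R'' := .of_algebraMap_eq' rfl
  letI : Algebra D D'' := ((algebraMap D' D'').comp (algebraMap D D')).toAlgebra
  haveI : IsScalarTower D D' D'' := .of_algebraMap_eq' rfl
  letI : Algebra R D'' := ((algebraMap R'' D'').comp (algebraMap R R'')).toAlgebra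
  haveI : IsScalarTower R R'' D'' := .of_algebraMap_eq' rfl
  haveI : IsScalarTower R D D'' := .of_algebraMap_eq fun r => by
    rw [IsScalarTower.algebraMap_apply R R'' D'', IsScalarTower.algebraMap_apply R R' R'',
      IsScalarTower.algebraMap_apply R'' T D'', ← IsScalarTower.algebraMap_apply R' R'' T,
      IsScalarTower.algebraMap_apply R' D' T, ← IsScalarTower.algebraMap_apply D' T D'',
      ← IsScalarTower.algebraMap_apply R R' D', IsScalarTower.algebraMap_apply R D D',
      ← IsScalarTower.algebraMap_apply D D' D'']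
  have hR2 : FlatCA.IsEtaleNhd R R'' p p'' := Groth.Agent.FlatMorDevissage.isEtaleNhd_comp hR' hR''
  have hD2 : FlatCA.IsEtaleNhd D D'' y y'' := Groth.Agent.FlatMorDevissage.isEtaleNhd_comp hD' hD''
  obtain ⟨hRe, hRo, hRb⟩ := hR2
  obtain ⟨hDe, hDo, hDb⟩ := hD2
  haveI : y''.LiesOver y' := hD''.2.1
  letI := Algebra.TensorProduct.rightAlgebra (R := D) (A := D'') (B := C)
  let C'' := D'' ⊗[D] C
  haveI : Algebra.Etale C C'' := Groth.Agent.FlatMorDevissage.etale_rightAlgebra
  haveI : IsScalarTower R R'' C'' := .of_algebraMap_eq fun r => by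
    show algebraMap R D'' r ⊗ₜ[D] (1 : C) = algebraMap R'' D'' (algebraMap R R'' r) ⊗ₜ[D] 1
    rw [← IsScalarTower.algebraMap_apply]
  haveI : IsScalarTower R C C'' := .of_algebraMap_eq fun r => by
    show algebraMap R D'' r ⊗ₜ[D] (1 : C) = (1 : D'') ⊗ₜ[D] algebraMap R C r
    rw [IsScalarTower.algebraMap_apply R D D'', IsScalarTower.algebraMap_apply R D C]
    exact Algebra.TensorProduct.tmul_one_eq_one_tmul _
  obtain ⟨S'', _, _, hS''e, _, _, _, _, θ, hθ, hker, hθS, hθR⟩ :=
    Groth.Agent.FlatMorDevissage.exists_lift_compat (A := R) (A' := R'') (S := S) (T := C) (T' := C'') hsurj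
  haveI : Algebra.IsPushout D D'' C C'' := TensorProduct.isPushout
  obtain ⟨z'', hz'', hover, hzz, huniq⟩ :=
    Groth.Agent.FlatMorDevissage.existsUnique_prime_pushout (A' := C'') y y'' hDb z h3
  haveI hzz' : z''.LiesOver z := ⟨hzz.symm⟩
  letI : Algebra S'' C'' := θ.toAlgebra
  letI : Algebra S C'' := (θ.comp (algebraMap S S'')).toAlgebra
  haveI : IsScalarTower S S'' C'' := .of_algebraMap_eq' rfl
  haveI : IsScalarTower S C C'' := .of_algebraMap_eq hθS
  haveI : IsScalarTower R'' S'' C'' := .of_algebraMap_eq fun r => (hθR r).symm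
  let q'' : Ideal S'' := z''.comap θ
  haveI hzq : z''.LiesOver q'' := ⟨rfl⟩
  haveI hqq : q''.LiesOver q := ⟨by
    show q = (z''.comap θ).comap (algebraMap S S'')
    rw [Ideal.comap_comap, show θ.comp (algebraMap S S'') = (algebraMap C C'').comp (algebraMap S C)
      from RingHom.ext hθS, ← Ideal.comap_comap, hzz]
    exact z.over_def q⟩
  haveI hqp : q''.LiesOver p'' := ⟨by
    show p'' = (z''.comap θ).comap (algebraMap R'' S'')
    rw [Ideal.comap_comap, show θ.comp (algebraMap R'' S'') = algebraMap R'' C'' from RingHom.ext hθR,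
      IsScalarTower.algebraMap_eq R'' D'' C'', ← Ideal.comap_comap]
    exact (y''.over_def p'').trans (congrArg _ hover.over)⟩
  haveI : IsLocalization ((⊥ : Submonoid C).map (algebraMap C C'')) C'' :=
    IsLocalization.of_le_isUnit
      (by rintro _ ⟨_, hm, rfl⟩; rw [Submonoid.mem_bot.1 hm, map_one]; exact isUnit_one)
  have hzbij := Groth.Agent.FlatMorDevissage.bijective_residueField_pushout (R := D) (R' := D'') (S := C) (S' := C'')
    y y'' hDb ⊥ z z''
  have hS'' : FlatCA.IsEtaleNhd S S'' q q'' :=
    ⟨hS''e, hqq, Groth.Agent.FlatMorDevissage.bijective_of_square hsurj hθ q z q'' z'' hzbij⟩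
  let N'' := S'' ⊗[S] N
  let G'' := C'' ⊗[C] G
  haveI : IsScalarTower S'' C'' G'' := inferInstance
  haveI : IsScalarTower R'' S'' N'' := inferInstance
  let gN : N →ₗ[S] N'' := TensorProduct.mk S S'' N 1
  have hgN : IsBaseChange S'' gN := TensorProduct.isBaseChange S N S''
  let gG : G →ₗ[C] G'' := TensorProduct.mk C C'' G 1
  have hgG : IsBaseChange C'' gG := TensorProduct.isBaseChange C G C''
  have hkerN : RingHom.ker (algebraMap S'' C'') ≤ Module.annihilator S'' N'' := by
    show RingHom.ker θ ≤ _
    rw [hker, ← hgN.equiv.annihilator_eq]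
    refine (Ideal.map_mono fun a ha => ?_).trans (Groth.Agent.FlatCrit.annihilator_map_le N)
    refine Module.mem_annihilator.2 fun x => e.injective ?_
    rw [map_smul, ← algebraMap_smul C, RingHom.mem_ker.1 ha, zero_smul, map_zero]
  let mkN : N'' ≃ₗ[S''] C'' ⊗[S''] N'' := LinearEquiv.ofBijective (TensorProduct.mk S'' C'' N'' 1)
    (Groth.Agent.FlatMorDevissage.bijective_mk_of_ker_le (B := S'') hθ N'' hkerN)
  haveI : IsScalarTower S C'' G'' := inferInstance
  haveI : IsScalarTower S C G'' := .of_algebraMap_smul fun d x => by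
    rw [← IsScalarTower.algebraMap_smul C'' (algebraMap S C d) x, ← IsScalarTower.algebraMap_apply,
      IsScalarTower.algebraMap_smul]
  have e1 : IsBaseChange C'' (((TensorProduct.mk S'' C'' N'' 1).restrictScalars S) ∘ₗ gN) :=
    hgN.comp (TensorProduct.isBaseChange S'' N'' C'')
  have e2 : IsBaseChange C'' ((gG.restrictScalars S) ∘ₗ e.toLinearMap) :=
    (Groth.Agent.FlatMorDevissage.isBaseChange_of_surjective hsurj e).comp (TensorProduct.isBaseChange C G C'')
  let E : C'' ⊗[S''] N'' ≃ₗ[C''] G'' := e1.equiv.symm.trans e2.equiv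
  let eN : N'' ≃ₗ[S''] G'' := mkN.trans (E.restrictScalars S'')
  letI : Module D G := Module.compHom G (algebraMap D C)
  haveI : IsScalarTower D C G := .of_algebraMap_smul fun _ _ => rfl
  haveI : Module.Finite D G := Module.Finite.trans C G
  haveI : IsScalarTower D C'' G'' := inferInstance
  haveI : IsScalarTower D C G'' := .of_algebraMap_smul fun d x => by
    rw [← IsScalarTower.algebraMap_smul C'' (algebraMap D C d) x, ← IsScalarTower.algebraMap_apply,
      IsScalarTower.algebraMap_smul]
  haveI : IsScalarTower D'' C'' G'' := inferInstance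
  haveI : IsScalarTower D D'' G'' := .of_algebraMap_smul fun d x => by
    rw [← IsScalarTower.algebraMap_smul C'' (algebraMap D D'' d) x, ← IsScalarTower.algebraMap_apply,
      IsScalarTower.algebraMap_smul]
  have hsm'' : FlatCA.SmoothRelDim n R'' D'' :=
    Groth.Agent.FlatMorDevissage.smoothRelDim_of_etale (R := R) (B := D) hsm
  haveI := Groth.Agent.FlatMorDevissage.smooth_of_smoothRelDim hsm''
  haveI : (p.map (algebraMap R D)).IsPrime := Groth.Agent.FlatMorDevissage.isPrime_map_of_fibresDomain
    (Groth.Agent.FlatMorDevissage.fibresDomain_of_smooth_geomIrred hgi) p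
  haveI : (p''.map (algebraMap R'' D'')).IsPrime :=
    Groth.Agent.FlatMorDevissage.isPrime_map_of_fibresDomain hdom p''
  have hann : Module.annihilator D'' G'' ≤ p''.map (algebraMap R'' D'') :=
    Groth.Agent.FlatCx12.DevissageEtale.annihilator_le_of_etale (gG.restrictScalars D)
      (Groth.Agent.FlatCx12.DevissageBC.isBaseChange_bc gG hgG) p p'' y''
      (Groth.Agent.FlatCx12.DevissageEtale.annihilator_le_of_devissage h)
  haveI : Algebra.FiniteType R S'' := Algebra.FiniteType.trans (S := S) inferInstance inferInstance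
  haveI : Algebra.FiniteType R'' S'' := Algebra.FiniteType.of_restrictScalars_finiteType R R'' S''
  haveI : Module.Finite S'' N'' := Module.Finite.equiv hgN.equiv
  haveI := hover
  obtain ⟨hd1, hd2⟩ := Groth.Agent.FlatCx12.DevissageEtale.dim_support N'' p'' q'' C'' D'' G'' n eN hθ hsm''
    hdom hann z'' y'' huniq
  have hfp'' : Algebra.FinitePresentation S'' C'' := by
    refine Algebra.FinitePresentation.of_surjective (f := Algebra.ofId S'' C'') hθ ?_
    show (RingHom.ker θ).FG
    rw [hker]
    exact (Algebra.FinitePresentation.ker_fG_of_surjective (Algebra.ofId S C) hsurj).map _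
  exact ⟨R'', inferInstance, inferInstance, inferInstance, inferInstance, p'', inferInstance, hR'',
    T, inferInstance, inferInstance, inferInstance, inferInstance, inferInstance, inferInstance, hpush,
    D'', inferInstance, inferInstance, inferInstance, inferInstance, inferInstance, inferInstance,
    inferInstance, inferInstance, inferInstance, inferInstance, inferInstance, y'', inferInstance,
    inferInstance, hy''p, IsOpenImmersion.of_isLocalization t,
    C'', inferInstance, inferInstance, inferInstance, inferInstance, inferInstance, inferInstance,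
    inferInstance, inferInstance, z'', hz'', hzz', hover, inferInstance,
    G'', inferInstance, inferInstance, inferInstance, inferInstance, gG, hgG,
    S'', inferInstance, inferInstance, inferInstance, inferInstance, inferInstance, inferInstance, q'',
    inferInstance, inferInstance, inferInstance, inferInstance, inferInstance, inferInstance, inferInstance,
    inferInstance, hS'', hzq,
    N'', inferInstance, inferInstance, inferInstance, inferInstance, inferInstance, inferInstance, gN, hgN,
    ⟨⟨eN⟩, hθ, hfp'', inferInstance, Module.Finite.equiv hgG.equiv, hsm'',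
      Groth.Agent.FlatMorDevissage.geomIrredFibres_of_fibresDomain hdom, hd1⟩, hd2, huniq,
    Groth.Agent.FlatMorDevissage.purelyTranscendental_transfer p p'' y y'' hRb hDb h4⟩

end Groth.Agent.S12245
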