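import Groth.Statements.S12249
import Groth.Agent.Schless.Prorep
-- import your own Groth.Agent.* helpers here

set_option autoImplicit false
universe u v
open CategoryTheory
open Deform

namespace Groth.Agent.S12249

/-- Let k be an algebraically closed field and F a set-valued functor on local Artinian k-algebras with
residue field k such that F(k) is a single point. If F has a semiuniversal formal element and its
tangent space F(k[ε]) is reduced to one element, then F(A) consists of exactly one element for every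
A: F is the constant one-point functor h_k. -/
theorem result
    {k : Type u} [Field k] [IsAlgClosed k]
    (F : ArtFun.Art k k ⥤ Type v) (h0 : ArtFun.H0 F) (hF : ArtFun.HasHull F)
    (ht : Subsingleton (ArtFun.TangentSpace F)) (A : ArtFun.Art k k) :
    Nonempty (F.obj A) ∧ Subsingleton (F.obj A) := by
  obtain ⟨⟨R, ξ, hv, hd⟩⟩ := hF
  have hb : Function.Surjective (ξ.app (ArtFun.Art.base k k)) := fun x =>
    ⟨⟨R.res, AlgHom.id_comp _⟩, Agent.ArtFunLib.base_eq h0 _ _⟩
  have hs := Agent.ArtFunLib.versal_surjective hv hb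
  have hsub : ∀ A, Subsingleton (ArtFun.HomSet R.carrier R.res A) := by
    intro A
    refine Agent.ArtFunLib.surj_induction
      (fun A B (_ : B ⟶ A) => Subsingleton (ArtFun.HomSet R.carrier R.res A) →
        Subsingleton (ArtFun.HomSet R.carrier R.res B))
      ?_ ?_ (fun _ _ _ _ _ _ _ hp hq h => hp (hq h)) (ArtFun.Art.toBase A) A.res_surjective
      ⟨Agent.ArtFunLib.HomSet.base_eq⟩
    · intro A B e he hA
      refine ⟨fun φ ψ => ?_⟩
      have h2 := congrArg (ArtFun.HomSet.map (inv e))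
        (Subsingleton.elim (ArtFun.HomSet.map e φ) (ArtFun.HomSet.map e ψ))
      rwa [Agent.ArtFunLib.HomSet.map_map, Agent.ArtFunLib.HomSet.map_map, IsIso.hom_inv_id,
        Agent.ArtFunLib.HomSet.map_id, Agent.ArtFunLib.HomSet.map_id] at h2
    · intro A B p hp hA
      refine ⟨fun φ ψ => ?_⟩
      obtain ⟨τ, hτ⟩ := hp.2.2.1
      obtain ⟨D, p₁, p₂, hD⟩ := Agent.ArtFunLib.exists_fibreProd p p hp.1
      obtain ⟨d, -, hd'⟩ := Agent.ArtFunLib.exists_diff hp hτ hD
      obtain ⟨Φ, hΦ₁, hΦ₂⟩ := Agent.ArtFunLib.HomSet.exists_lift hD φ ψ (Subsingleton.elim _ _)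
      obtain ⟨Φ', hΦ'₁, hΦ'₂⟩ := Agent.ArtFunLib.HomSet.exists_lift hD φ φ rfl
      have hdd : ArtFun.HomSet.map d Φ = ArtFun.HomSet.map d Φ' :=
        hd.1 (@Subsingleton.elim _ ht _ _)
      have : Φ = Φ' := Subtype.ext (AlgHom.ext fun r => hd'.inj _ _
        (DFunLike.congr_fun (congrArg Subtype.val (hΦ₁.trans hΦ'₁.symm)) r)
        (DFunLike.congr_fun (congrArg Subtype.val hdd) r))
      rw [← hΦ'₂, ← this, hΦ₂]
  refine ⟨⟨ξ.app A ⟨(Algebra.ofId k A).comp R.res, AlgHom.ext fun r => A.res.commutes (R.res r)⟩⟩,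
    ⟨fun x y => ?_⟩⟩
  obtain ⟨φ, rfl⟩ := hs A x
  obtain ⟨ψ, rfl⟩ := hs A y
  rw [@Subsingleton.elim _ (hsub A) φ ψ]

end Groth.Agent.S12249
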