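import Groth.Statements.S1225
import Groth.Agent.FlatMorDevissage.AssSpec

set_option autoImplicit false
universe u
open FlatMor

namespace Groth.Agent.S1225

open IsLocalRing in
/-- Ring form, X = Spec B affine: let A be a local ring, B a finite type A-algebra and N a finite
B-module which is flat over A and pure along the closed fibre. Then a B-linear map φ from N to any
B-module is injective if and only if its localization at q is injective for every prime q of B over
𝔪_A whose extension to the closed fibre ring is an associated prime of the closed fibre module. -/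
theorem result {A B : Type u} [CommRing A] [IsLocalRing A] [CommRing B] [Algebra A B] [Algebra.FiniteType A B]
    (N : Type u) [AddCommGroup N] [Module B N] [Module A N] [IsScalarTower A B N] [Module.Finite B N] [Module.Flat A N]
    (hpure : FlatCA.IsPureAlong A B N (maximalIdeal A))
    (N' : Type u) [AddCommGroup N'] [Module B N'] (φ : N →ₗ[B] N') :
    Function.Injective φ ↔ ∀ (q : Ideal B) [q.IsPrime], q.LiesOver (maximalIdeal A) →
      FlatCA.fiberIdeal (maximalIdeal A) q ∈ associatedPrimes ((maximalIdeal A).Fiber B) (FlatCA.fiberMod (maximalIdeal A) B N) →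
      Function.Injective (LocalizedModule.map q.primeCompl φ) := by
  constructor
  · exact fun hinj q _ _ _ => LocalizedModule.map_injective q.primeCompl φ hinj
  intro hloc
  rw [injective_iff_map_eq_zero]
  intro x hx
  by_contra hx0
  let z : TensorProduct A N A := x ⊗ₜ 1
  have hann : Groth.Agent.CAlgH3.annEl B z = Groth.Agent.CAlgH3.annEl B x := by
    ext c
    rw [Groth.Agent.CAlgH3.mem_annEl, Groth.Agent.CAlgH3.mem_annEl, TensorProduct.smul_tmul',
      ← (TensorProduct.rid A N).map_eq_zero_iff, TensorProduct.rid_tmul, one_smul]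
  obtain ⟨Q, hQ, hzQ⟩ := Ideal.exists_le_maximal _
    (fun e => hx0 ((Groth.Agent.CAlgH3.annEl_eq_top (R := B)).1 e))
  obtain ⟨P, hP, -⟩ := Ideal.exists_minimalPrimes_le hzQ
  have := hP.1.1
  have hPann := hP.1.2
  let p' := P.comap (algebraMap A B)
  have : P.LiesOver p' := ⟨rfl⟩
  have hass := Groth.Agent.FlatMorDevissage.fiberIdeal_mem_of_minimal z P (hann.symm ▸ hP) p'
    (Groth.Agent.FlatMorDevissage.flatAt_of_flat N P)
  obtain ⟨t, ht, hPt, htm⟩ : ∃ t : Ideal B, t.IsPrime ∧ P ≤ t ∧ t.LiesOver (maximalIdeal A) := by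
    by_contra! hno
    have het : FlatCA.IsEtaleNhd A A (maximalIdeal A) (maximalIdeal A) := by
      refine ⟨inferInstance, ⟨⟨by rw [Ideal.under_def, Algebra.algebraMap_self, Ideal.comap_id]⟩,
        RingHom.injective _, fun y => ?_⟩⟩
      obtain ⟨w, rfl⟩ := (Ideal.bijective_algebraMap_quotient_residueField (maximalIdeal A)).surjective y
      obtain ⟨r, rfl⟩ := Ideal.Quotient.mk_surjective w
      exact ⟨algebraMap A (maximalIdeal A).ResidueField r, AlgHom.commutes _ r⟩
    exact hpure A B N (LinearMap.id) p' (maximalIdeal A) P het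
      ⟨⟨IsBaseChange.linearMap A B⟩, IsBaseChange.ofEquiv (LinearEquiv.refl B N),
        IsLocalRing.le_maximalIdeal Ideal.IsPrime.ne_top', ⟨rfl⟩, ⟨rfl⟩, hass, fun P' _ h h' => hno P' inferInstance h h'⟩
  obtain ⟨q, hq, hPq, -, hqm, hqass⟩ :=
    Groth.Agent.FlatMorDevissage.exists_assFibre_specialization (maximalIdeal A) p' P hass ⟨t, ht⟩
      htm.over.symm hPt (Groth.Agent.FlatMorDevissage.flatAt_of_flat N t)
  have h1 : LocalizedModule.mkLinearMap q.primeCompl N x = 0 := hloc q hqm hqass (by
    rw [map_zero, LocalizedModule.mkLinearMap_apply, LocalizedModule.map_mk, hx,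
      LocalizedModule.zero_mk])
  obtain ⟨c, hc⟩ := (IsLocalizedModule.eq_zero_iff q.primeCompl
    (LocalizedModule.mkLinearMap q.primeCompl N)).1 h1
  exact c.2 (hPq (hPann (Groth.Agent.CAlgH3.mem_annEl.2 hc)))

end Groth.Agent.S1225
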