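import Groth.Statements.S12250
import Groth.Agent.Schless.Prorep
-- import your own Groth.Agent.* helpers here

set_option autoImplicit false
universe u v
open CategoryTheory
open Deform

namespace Groth.Agent.S12250

/-- Let k be an algebraically closed field, Λ a complete local Noetherian k-algebra with residue field
k, R a complete local Noetherian Λ-algebra with residue field k and F a set-valued functor on local
Artinian Λ-algebras with residue field k. Then the map sending a morphism of functors h_R → F to its
formal element (the compatible sequence of its values on the quotient maps R → R/m^(n+1), n ≥ 0) is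
a bijection between morphisms h_R → F and formal elements of F over R. -/
theorem result
    {k Λ : Type u} [Field k] [IsAlgClosed k] [CommRing Λ] [IsLocalRing Λ] [IsNoetherianRing Λ]
    [IsAdicComplete (IsLocalRing.maximalIdeal Λ) Λ] [Algebra k Λ] [Algebra Λ k] [IsScalarTower k Λ k]
    (R : ArtFun.CRing Λ k) (F : ArtFun.Art Λ k ⥤ Type v) :
    Function.Bijective (fun ξ : ArtFun.Family R.carrier R.res F => ξ.toFormalElt) := by
  constructor
  · intro ξ ξ' h
    have key := Agent.ArtFunLib.family_ext R (ξ := ξ) (ξ' := ξ') fun n =>
      congrArg (fun u : ArtFun.FormalElt F R => u.elt n) h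
    cases ξ; cases ξ'
    simp only [ArtFun.Family.mk.injEq]
    exact funext fun A => funext (key A)
  · intro u
    obtain ⟨ξ, hξ⟩ := Agent.Schless.exists_family (q := fun n => R.truncHom n) (x := u.elt)
      (f := fun n => R.truncMap n) (fun n => R.truncMap_truncHom n)
      (Agent.ArtFunLib.truncHom_surjective R) u.compat (fun B v => Agent.ArtFunLib.exists_factor R v)
    refine ⟨ξ, ArtFun.FormalElt.ext' fun n => ?_⟩
    exact ((congrArg (ξ.app _) (Agent.ArtFunLib.HomSet.map_id _)).symm.trans (hξ n _ (𝟙 _))).trans
      (Agent.ArtFunLib.map_id' F _)

end Groth.Agent.S12250
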