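import Groth.Statements.S12252
import Groth.Agent.Schless.Prorep
-- import your own Groth.Agent.* helpers here

set_option autoImplicit false
universe u v
open CategoryTheory
open Deform

namespace Groth.Agent.S12252

/-- Let k be an algebraically closed field, Λ a complete local Noetherian k-algebra with residue field k
and F a set-valued functor on local Artinian Λ-algebras with residue field k. If (R, u) and (S, v)
both prorepresent F (complete local Noetherian Λ-algebras with residue field k carrying universal
families), then there is a unique isomorphism of Λ-algebras R ≅ S, compatible with the augmentations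
to k, along which the universal family of R is transported to that of S. -/
theorem result
    {k Λ : Type u} [Field k] [IsAlgClosed k] [CommRing Λ] [IsLocalRing Λ] [IsNoetherianRing Λ]
    [IsAdicComplete (IsLocalRing.maximalIdeal Λ) Λ] [Algebra k Λ] [Algebra Λ k] [IsScalarTower k Λ k]
    {F : ArtFun.Art Λ k ⥤ Type v} (P Q : ArtFun.ProRep F) :
    ∃! e : P.ring.carrier ≃ₐ[Λ] Q.ring.carrier,
      ∃ he : Q.ring.res.comp e.toAlgHom = P.ring.res, P.family.along e.toAlgHom he = Q.family := by
  have hv : ∀ (P : ArtFun.ProRep F), ArtFun.IsVersal P.family := fun P B A μ _ φ y hy => by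
    obtain ⟨ψ, rfl⟩ := (P.universal B).2 y
    exact ⟨ψ, (P.universal A).1 (by rw [P.family.natural, hy]), rfl⟩
  have huniq : ∀ (P Q : ArtFun.ProRep F) (g g' : P.ring.carrier →ₐ[Λ] Q.ring.carrier)
      (hg : Q.ring.res.comp g = P.ring.res) (hg' : Q.ring.res.comp g' = P.ring.res),
      P.family.along g hg = P.family.along g' hg' → g = g' := fun P Q g g' hg hg' e =>
    Agent.ArtFunLib.hom_ext_trunc Q.ring fun n => congrArg Subtype.val ((P.universal (Q.ring.trunc n)).1
      (congrArg (fun ξ : ArtFun.Family Q.ring.carrier Q.ring.res F => ξ.app _ (Q.ring.truncHom n)) e))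
  have hex : ∀ P Q : ArtFun.ProRep F, ∃ (g : P.ring.carrier →ₐ[Λ] Q.ring.carrier)
      (hg : Q.ring.res.comp g = P.ring.res), P.family.along g hg = Q.family := fun P Q => by
    obtain ⟨g, hg, h⟩ := Agent.ArtFunLib.exists_along_eq Q.ring P.family (hv P) (P.universal _).2
      Q.family.toFormalElt
    have key := Agent.ArtFunLib.family_ext Q.ring (ξ := P.family.along g hg) (ξ' := Q.family) h
    refine ⟨g, hg, ?_⟩
    revert key
    generalize P.family.along g hg = ξ, Q.family = ξ'
    intro key
    cases ξ; cases ξ'
    simp only [ArtFun.Family.mk.injEq]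
    exact funext fun A => funext (key A)
  obtain ⟨g, hg, hgP⟩ := hex P Q
  obtain ⟨h, hh, hhQ⟩ := hex Q P
  have hgh : h.comp g = AlgHom.id Λ _ := huniq P P _ _ (by rw [← AlgHom.comp_assoc, hh, hg])
    (AlgHom.comp_id _) (by
      change (P.family.along g hg).along h hh = P.family
      rw [hgP, hhQ])
  have hhg : g.comp h = AlgHom.id Λ _ := huniq Q Q _ _ (by rw [← AlgHom.comp_assoc, hg, hh])
    (AlgHom.comp_id _) (by
      change (Q.family.along h hh).along g hg = Q.family
      rw [hhQ, hgP])
  refine ⟨AlgEquiv.ofAlgHom g h hhg hgh, ⟨hg, hgP⟩, fun e ⟨he, heP⟩ => AlgEquiv.ext fun x => ?_⟩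
  exact DFunLike.congr_fun (huniq P Q e.toAlgHom g he hg (heP.trans hgP.symm)) x

end Groth.Agent.S12252
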