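import Groth.Statements.S12255
import Groth.Agent.DefFin29.Finite
import Groth.Agent.S12309
import Groth.Agent.S12254
import Groth.Agent.RelVALib.ChowPn

set_option autoImplicit false
universe u
open CategoryTheory CategoryTheory.Limits AlgebraicGeometry
open Deform

namespace Groth.Agent.S12255

/-- Let k be an algebraically closed field and X a projective k-scheme, given with a closed immersion
into some P^n_k over k, such that H^0(X, T_X) = Hom_{O_X}(Ω_{X/k}, O_X) = 0 (no infinitesimal
automorphisms). Then the local moduli functor Def_X, of isomorphism classes of deformations of X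
over local Artinian k-algebras with residue field k, is prorepresentable by a complete local
Noetherian k-algebra with residue field k. -/
theorem result
    {k : Type u} [Field k] [IsAlgClosed k] (X : Scheme.{u}) (x : X ⟶ Spec (CommRingCat.of k))
    [LocallyOfFiniteType x] [IsSeparated x] [QuasiCompact x]
    (hproj : ∃ (n : ℕ) (c : X ⟶ CohB1.ProjSpaceOver n (Spec (CommRingCat.of k))),
      IsClosedImmersion c ∧ c ≫ CohB1.ProjSpaceOver.toBase n (Spec (CommRingCat.of k)) = x)
    (h0 : Subsingleton (Omega.sheaf x ⟶ Coh.structureModule X)) :
    ArtFun.IsProrepresentable (ArtFun.defFunctor (Λ := k) X x) := by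
  haveI : IsProper x := by
    obtain ⟨n, c, hc, rfl⟩ := hproj
    have := hc
    have := RelVALib.isProper_toBase n (Spec (CommRingCat.of k))
    infer_instance
  haveI : IsAdicComplete (IsLocalRing.maximalIdeal k) k := by
    rw [IsLocalRing.maximalIdeal_eq_bot]
    exact IsAdicComplete.bot k
  refine (S12309.result k k Function.surjective_id X x (DefFin29.hasHull Function.surjective_id)).2 ?_
  intro A' A p hp ξ' e
  refine ⟨ArtFun.DefSch.Iso.refl ξ', ?_⟩
  have h := (S12254.result X x hproj).1 h0 A (ξ'.baseChange p)
  have he := h e
  have hr := h ((ArtFun.DefSch.Iso.refl ξ').baseChange p)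
  have heq : ∀ (a b : (ξ'.baseChange p).Iso (ξ'.baseChange p)), a.iso = b.iso → a = b := by
    intro a b hab
    cases a; cases b; cases hab; rfl
  exact heq _ _ (Iso.ext (hr.trans he.symm))

end Groth.Agent.S12255
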