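import Groth.Statements.S12256
import Groth.Agent.NodeDefLib.Node
import Groth.Agent.Schless.Prorep

set_option autoImplicit false
universe u
open CategoryTheory CategoryTheory.Limits AlgebraicGeometry
open Deform
open ArtFun Groth.Agent.NodeDefLib

namespace Groth.Agent.S12256

/-- Let k be an algebraically closed field and C = Spec k[x, y]/(xy) the union of the two coordinate
axes in the affine plane. Then the local moduli functor Def_C, of isomorphism classes of
deformations of C over local Artinian k-algebras with residue field k, is not prorepresentable by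
any complete local Noetherian k-algebra with residue field k. -/
theorem result
    {k : Type u} [Field k] [IsAlgClosed k] :
    ¬ ArtFun.IsProrepresentable (ArtFun.defFunctor (Λ := k)
      (Spec (CommRingCat.of (MvPolynomial (Fin 2) k ⧸
        Ideal.span {(MvPolynomial.X 0 * MvPolynomial.X 1 : MvPolynomial (Fin 2) k)})))
      (Spec.map (CommRingCat.ofHom (algebraMap k (MvPolynomial (Fin 2) k ⧸
        Ideal.span {(MvPolynomial.X 0 * MvPolynomial.X 1 : MvPolynomial (Fin 2) k)}))))) := by
  rintro ⟨P⟩
  have hinj := ((Groth.Agent.Schless.isLeftExact_of_universal P.universal)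
    (fstHom k) (sndHom k) (truncHom k) (truncHom k) (isFibreProd k)).1
  rw [Groth.Agent.ArtFunLib.cmp_injective_iff] at hinj
  let T : PR k := ⟨(tvar k 2, 0), by
    show trRes k 2 (tvar k 2) = (0 : DualNumber k).fst
    rw [trRes_t]; rfl⟩
  let T' : PR k := ⟨(tvar k 2, DualNumber.eps), by
    show trRes k 2 (tvar k 2) = (DualNumber.eps : DualNumber k).fst
    rw [trRes_t, DualNumber.fst_eps]⟩
  have hT : (prArt k).res T = 0 := trRes_t k 2
  have hT' : (prArt k).res T' = 0 := trRes_t k 2
  have hf : Function.Surjective (fstHom k) := fun (a : TR k 2) =>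
    ⟨(⟨(a, TrivSqZeroExt.inl (trRes k 2 a)), rfl⟩ : PR k), rfl⟩
  have hs : Function.Surjective (sndHom k) := fun (a : TR k 2) =>
    ⟨(⟨(a, TrivSqZeroExt.inl (trRes k 2 a)), rfl⟩ : PR k), by
      show a + (TrivSqZeroExt.inl (trRes k 2 a) : DualNumber k).snd • tvar k 2 ^ 2 = a
      rw [TrivSqZeroExt.snd_inl, zero_smul, add_zero]⟩
  have hd : Function.Surjective (dualHom k) := fun (a : DualNumber k) =>
    ⟨(⟨(algebraMap k (TR k 2) a.fst, a), (trRes k 2).commutes a.fst⟩ : PR k), rfl⟩
  have h := hinj (ncl (A := prArt k) T hT) (ncl (A := prArt k) T' hT')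
    ((map_ncl _ hf T hT).trans (((ncl_congr (show (fstHom k) T = (fstHom k) T' from rfl) _)).trans (map_ncl _ hf T' hT').symm))
    (by
      refine (map_ncl _ hs T hT).trans (Eq.trans ?_ (map_ncl _ hs T' hT').symm)
      have e1 : (sndHom k) T = (tvar k 2 : TR k 2) := by
        show tvar k 2 + (0 : DualNumber k).snd • tvar k 2 ^ 2 = tvar k 2
        rw [TrivSqZeroExt.snd_zero, zero_smul, add_zero]
      have e2 : (sndHom k) T' = ((1 + tvar k 2) * tvar k 2 : TR k 2) := by
        show tvar k 2 + (DualNumber.eps : DualNumber k).snd • tvar k 2 ^ 2 = (1 + tvar k 2) * tvar k 2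
        rw [DualNumber.snd_eps, one_smul]
        ring
      rw [ncl_congr e1, ncl_congr e2]
      refine (ncl_mul (A := trArt k 2) (tvar k 2 : TR k 2) (1 + tvar k 2 : TR k 2) (trRes_t k 2) ?_).symm
      show trRes k 2 (1 + tvar k 2) = 1
      rw [map_add, map_one, trRes_t, add_zero])
  have h' := congrArg ((ArtFun.defFunctor (nodeX k) (nodex k)).map (dualHom k)) h
  exact ncl_zero_ne_eps (k := k) ((map_ncl _ hd T hT).symm.trans (h'.trans (map_ncl _ hd T' hT')))

end Groth.Agent.S12256
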