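import Groth.Statements.S12257
import Groth.Agent.Schless.Prorep
-- import your own Groth.Agent.* helpers here

set_option autoImplicit false
universe u v
open CategoryTheory CategoryTheory.Limits
open Deform

namespace Groth.Agent.S12257

/-- Let k be an algebraically closed field, Λ a complete local Noetherian k-algebra with residue field
k, and F, G, H set-valued functors on local Artinian Λ-algebras with residue field k, each with
one-point value at k. If F → G is a smooth morphism of functors and H → G is any morphism, then the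
second projection F ×_G H → H of the fibre product of functors is smooth. -/
theorem result
    {k Λ : Type u} [Field k] [IsAlgClosed k] [CommRing Λ] [IsLocalRing Λ] [IsNoetherianRing Λ]
    [IsAdicComplete (IsLocalRing.maximalIdeal Λ) Λ] [Algebra k Λ] [Algebra Λ k] [IsScalarTower k Λ k]
    {F G H : ArtFun.Art Λ k ⥤ Type v} (η : F ⟶ G) (θ : H ⟶ G)
    (hF : ArtFun.H0 F) (hG : ArtFun.H0 G) (hH : ArtFun.H0 H) (hη : ArtFun.IsSmooth η) :
    ArtFun.IsSmooth (pullback.snd η θ) := by
  intro B A μ hμ
  refine Agent.ArtFunLib.relCmp_surjective_iff.2 fun x y e => ?_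
  have h1 := Agent.ArtFunLib.pb_condition η θ x
  rw [e, Agent.ArtFunLib.nat_app] at h1
  obtain ⟨z, hz, hz'⟩ := Agent.ArtFunLib.relCmp_surjective_iff.1 (hη μ hμ) _ (θ.app B y) h1
  obtain ⟨w, hw, hw'⟩ := Agent.ArtFunLib.pb_exists η θ z y hz'
  refine ⟨w, Agent.ArtFunLib.pb_ext η θ ?_ ?_, hw'⟩
  · rw [Agent.ArtFunLib.nat_app, hw, hz]
  · rw [Agent.ArtFunLib.nat_app, hw', e]

end Groth.Agent.S12257
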