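import Groth.Statements.S12258
import Groth.Agent.Schless.Prorep
-- import your own Groth.Agent.* helpers here

set_option autoImplicit false
universe u v
open CategoryTheory CategoryTheory.Limits
open Deform

namespace Groth.Agent.S12258

/-- Let k be an algebraically closed field, Λ a complete local Noetherian k-algebra with residue field
k, and F, G set-valued functors on local Artinian Λ-algebras with residue field k, each with
one-point value at k. If F and G are smooth functors, i.e. F(B) → F(A) and G(B) → G(A) are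
surjective for every surjection B → A, then the product functor F × G is smooth. -/
theorem result
    {k Λ : Type u} [Field k] [IsAlgClosed k] [CommRing Λ] [IsLocalRing Λ] [IsNoetherianRing Λ]
    [IsAdicComplete (IsLocalRing.maximalIdeal Λ) Λ] [Algebra k Λ] [Algebra Λ k] [IsScalarTower k Λ k]
    {F G : ArtFun.Art Λ k ⥤ Type v}
    (hF : ArtFun.H0 F) (hG : ArtFun.H0 G) (sF : ArtFun.IsSmoothFunctor F) (sG : ArtFun.IsSmoothFunctor G) :
    ArtFun.IsSmoothFunctor (F ⨯ G) := by
  intro B A μ hμ w
  obtain ⟨a, ha⟩ := sF μ hμ ((prod.fst (X := F) (Y := G)).app A w)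
  obtain ⟨b, hb⟩ := sG μ hμ ((prod.snd (X := F) (Y := G)).app A w)
  let c : ∀ C : ArtFun.Art Λ k, ((F ⨯ G).obj C) ⟶ (F.obj C × G.obj C) := fun C =>
    prodComparison ((evaluation (ArtFun.Art Λ k) (Type v)).obj C) F G ≫
      (Types.binaryProductIso (F.obj C) (G.obj C)).hom
  have hc : ∀ C, Function.Bijective (c C) := fun C => by
    refine (isIso_iff_bijective (c C)).1 ?_
    exact IsIso.comp_isIso
  have h₁ : ∀ C z, (c C z).1 = (prod.fst (X := F) (Y := G)).app C z := fun C z => by
    have e1 := ConcreteCategory.congr_hom (Types.binaryProductIso_hom_comp_fst (F.obj C) (G.obj C))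
      (prodComparison ((evaluation (ArtFun.Art Λ k) (Type v)).obj C) F G z)
    have e2 := ConcreteCategory.congr_hom
      (prodComparison_fst ((evaluation (ArtFun.Art Λ k) (Type v)).obj C) F G) z
    exact e1.trans e2
  have h₂ : ∀ C z, (c C z).2 = (prod.snd (X := F) (Y := G)).app C z := fun C z => by
    have e1 := ConcreteCategory.congr_hom (Types.binaryProductIso_hom_comp_snd (F.obj C) (G.obj C))
      (prodComparison ((evaluation (ArtFun.Art Λ k) (Type v)).obj C) F G z)
    have e2 := ConcreteCategory.congr_hom
      (prodComparison_snd ((evaluation (ArtFun.Art Λ k) (Type v)).obj C) F G) z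
    exact e1.trans e2
  obtain ⟨z, hz⟩ := (hc B).2 (a, b)
  refine ⟨z, (hc A).1 (Prod.ext ?_ ?_)⟩
  · rw [h₁, h₁, Agent.ArtFunLib.nat_app, ← h₁, hz, ha]
  · rw [h₂, h₂, Agent.ArtFunLib.nat_app, ← h₂, hz, hb]

end Groth.Agent.S12258
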