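import Groth.Statements.S1613
import Groth.Agent.OmegaDual24.Main
import Groth.Agent.CurveRR24.DegOneApps
import Groth.Agent.SGA3cLib.CentralDescent

set_option autoImplicit false
universe u
open CategoryTheory CategoryTheory.Limits AlgebraicGeometry
open Curves

namespace Groth.Agent.S1613

/-- Let X be a smooth proper connected curve over an algebraically closed field k, of genus g ≥ 2. Then
every O_X-linear map from the sheaf of differentials Ω_{X/k} to O_X is zero (X has no nonzero
k-derivations of its structure sheaf). -/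
theorem result (k : Type u) [Field k] [IsAlgClosed k] (X : Scheme.{u}) [X.Over (Spec (CommRingCat.of k))]
    (hX : Curve.IsSmoothProperCurve k X (X ↘ (Spec (CommRingCat.of k)))) (hg : 2 ≤ Curv2.genus k X)
    (θ : Omega.sheaf (X ↘ (Spec (CommRingCat.of k))) ⟶ Coh.structureModule X) : θ = 0 := by
  obtain ⟨hp, hs, hi, hdim⟩ := hX
  haveI := hp; haveI := hs; haveI := hi
  haveI : GeometricallyConnected (X ↘ Spec (CommRingCat.of k)) :=
    Groth.Agent.SGA3cLib.CentralDescent.geometricallyConnected_of_isAlgClosed _
  haveI : GeometricallyIntegral (X ↘ Spec (CommRingCat.of k)) :=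
    Groth.Agent.AbVarLib.geometricallyIntegral_of_smooth _
  haveI := Groth.Agent.EulerLib.isNoetherian_of_proper k (X := X)
  have hΩ : PicF.IsInvertible (Omega.sheaf (X ↘ Spec (CommRingCat.of k))) :=
    Groth.Agent.OmegaDual24.isInvertible_omega (k := k) hdim
  obtain ⟨N, hN, ⟨e⟩⟩ := Groth.Agent.CurveRR24.exists_inverse k hΩ
  have hL := Groth.Agent.AmpleLib.isInvertible_tensorMod ((Groth.Agent.AmpleLib.isInvertible_structureModule (X := X))) hN
  have hd : Curv2.deg k X (CohB1.tensorMod (Coh.structureModule X) N) 1 < 0 := by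
    rw [Groth.Agent.CurveRR24.deg_tensor k hdim.le Groth.Agent.AmpleLib.isInvertible_structureModule hN]
    have h2 := Groth.Agent.CurveRR24.deg_tensor k hdim.le hΩ hN
    rw [Groth.Agent.CurveRR24.deg_congr k e, Groth.Agent.CurveRR24.deg_structure] at h2
    rw [Groth.Agent.CurveRR24.deg_structure]
    have h3 := Groth.Agent.OmegaDual24.deg_omega k hdim
    have hg' : (2 : ℤ) ≤ Curv2.genus k X := by exact_mod_cast hg
    omega
  haveI := Groth.Agent.CurveRR24.subsingleton_h0_of_deg_neg k hdim.le hL hd
  refine Groth.Agent.SerreDual.tensorRightHom_injective k _ (Coh.structureModule X) hN ?_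
  rw [map_zero, ← cancel_epi e.inv, Limits.comp_zero]
  exact (Groth.Agent.SerreDual.homUnitHH k _).injective (Subsingleton.elim _ _)

end Groth.Agent.S1613
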