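import Groth.Statements.S12259
import Groth.Agent.S12255
import Groth.Agent.S1613
import Groth.Agent.SGA3cLib.SmoothPure
import Groth.Agent.RelVALib.ChowPn

set_option autoImplicit false
universe u
open CategoryTheory CategoryTheory.Limits AlgebraicGeometry
open Deform

namespace Groth.Agent.S12259

/-- Let k be an algebraically closed field and X a nonsingular connected projective curve over k, i.e. X
is smooth over k, connected, of dimension one and a closed subscheme of some projective space P^n_k,
and assume its genus g = dim_k H^1(X, O_X) is at least 2. Then the local moduli functor Def_X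
(isomorphism classes of deformations of X over local Artinian k-algebras with residue field k) is
prorepresentable by a complete local Noetherian k-algebra with residue field k. (The published
statement treats every genus and identifies the prorepresenting ring with a power series ring in 0,
1 or 3g − 3 variables; this row is the prorepresentability for g ≥ 2 only.) -/
theorem result
    {k : Type u} [Field k] [IsAlgClosed k] (X : Scheme.{u}) [X.Over (Spec (CommRingCat.of k))]
    [Smooth (X ↘ Spec (CommRingCat.of k))] [IsSeparated (X ↘ Spec (CommRingCat.of k))]
    [QuasiCompact (X ↘ Spec (CommRingCat.of k))] [ConnectedSpace X]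
    (hdim : topologicalKrullDim X = 1)
    (hproj : ∃ (n : ℕ) (c : X ⟶ CohB1.ProjSpaceOver n (Spec (CommRingCat.of k))),
      IsClosedImmersion c ∧ c ≫ CohB1.ProjSpaceOver.toBase n (Spec (CommRingCat.of k)) = X ↘ Spec (CommRingCat.of k))
    (hg : 2 ≤ Curv2.genus k X) :
    ArtFun.IsProrepresentable (ArtFun.defFunctor (Λ := k) X (X ↘ Spec (CommRingCat.of k))) := by
  haveI : IsProper (X ↘ Spec (CommRingCat.of k)) := by
    obtain ⟨n, c, hc, he⟩ := hproj
    have := hc
    have := RelVALib.isProper_toBase n (Spec (CommRingCat.of k))
    rw [← he]
    infer_instance
  haveI : AlgebraicGeometry.IsIntegral X :=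
    SGA3cLib.SmoothPure.isIntegral_of_smooth_connected (X ↘ Spec (CommRingCat.of k))
  refine S12255.result X (X ↘ Spec (CommRingCat.of k)) hproj ⟨fun θ θ' => ?_⟩
  rw [S1613.result k X ⟨inferInstance, inferInstance, inferInstance, hdim⟩ hg θ,
    S1613.result k X ⟨inferInstance, inferInstance, inferInstance, hdim⟩ hg θ']

end Groth.Agent.S12259
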