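import Groth.Statements.S12261
import Groth.Agent.HilbT29.Fibre
import Groth.Agent.Schless.Prorep
import Groth.Agent.ArtFunLib.Tangent
import Groth.Agent.Coherent.Existence.HomAffine
import Groth.Agent.CurveRR24.Sky
import Groth.Agent.CycLib28.InterPull
import Groth.Agent.Coherent.FormalFunctions
import Groth.Agent.RelVALib.ChowPn
import Groth.Agent.Coherent.InternalHomAdj

set_option autoImplicit false
universe u
open CategoryTheory CategoryTheory.Limits AlgebraicGeometry
open Deform

namespace Groth.Agent.S12261

/-- Let k be an algebraically closed field, Y a separated k-scheme of finite type and X ⊆ Y the closed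
subscheme of a quasi-coherent ideal sheaf I₀; assume X is projective over k, i.e. X admits a closed
immersion over k into some projective space P^n_k. Then the local Hilbert functor of X in Y (closed
subschemes of Y ×_k Spec A flat over Spec A restricting to X on the closed fibre, for A local
Artinian with residue field k) is prorepresentable by a complete local Noetherian k-algebra with
residue field k. (The published statement assumes only that the space of global sections of the
normal sheaf of X in Y is finite-dimensional, X projective being the named instance; this row states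
the projective case.) -/
theorem result
    {k : Type u} [Field k] [IsAlgClosed k] (Y : Scheme.{u}) (y : Y ⟶ Spec (CommRingCat.of k))
    [LocallyOfFiniteType y] [IsSeparated y] [QuasiCompact y] (I₀ : Y.IdealSheafData)
    (hproj : ∃ (n : ℕ) (c : I₀.subscheme ⟶ CohB1.ProjSpaceOver n (Spec (CommRingCat.of k))),
      IsClosedImmersion c ∧ c ≫ CohB1.ProjSpaceOver.toBase n (Spec (CommRingCat.of k)) = I₀.subschemeι ≫ y) :
    ArtFun.IsProrepresentable (ArtFun.localHilb Y y I₀) := by
  letI : Y.Over (Spec (CommRingCat.of k)) := ⟨y⟩
  letI : I₀.subscheme.Over (Spec (CommRingCat.of k)) := ⟨I₀.subschemeι ≫ y⟩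
  haveI : IsProper (I₀.subscheme ↘ Spec (CommRingCat.of k)) := by
    obtain ⟨n, c, hc, he⟩ := hproj
    have := hc
    have := RelVALib.isProper_toBase n (Spec (CommRingCat.of k))
    show IsProper (I₀.subschemeι ≫ y)
    rw [← he]
    infer_instance
  haveI : IsLocallyNoetherian Y := LocallyOfFiniteType.isLocallyNoetherian y
  haveI : IsLocallyNoetherian I₀.subscheme := LocallyOfFiniteType.isLocallyNoetherian I₀.subschemeι
  letI : ArtFun.TangentStr (ArtFun.localHilb Y y I₀) :=
    ArtFunLib.tangentStr HilbT29.h0_localHilb HilbT29.heps_localHilb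
  haveI : IsAdicComplete (IsLocalRing.maximalIdeal k) k := by
    rw [IsLocalRing.maximalIdeal_eq_bot]
    exact IsAdicComplete.bot k
  refine Schless.isProrepresentable_of HilbT29.h0_localHilb
    (fun B A A' A'' p' p'' f' f'' h hs => (HilbT29.bijective_cmp_localHilb h hs).2)
    HilbT29.heps_localHilb ?_ HilbT29.hsq_localHilb
    (Schless.injective_base_dual (Schless.subsingleton_derivation_of_surjective Function.surjective_id))
  letI : ArtFun.TangentStr (ArtFun.localHilb Y (Y ↘ Spec (CommRingCat.of k)) I₀) := ‹ArtFun.TangentStr (ArtFun.localHilb Y y I₀)›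
  obtain ⟨e⟩ := HilbT29.nonempty_tangent_linearEquiv (k := k) (X := Y) (I₀ := I₀) rfl
  haveI : DCoh.HasSheafHom (Omega.conormal I₀.subschemeι) := Coherent.hasSheafHom _
  haveI : I₀.subschemeι.IsOver (Spec (CommRingCat.of k)) := ⟨rfl⟩
  obtain ⟨η⟩ := HilbT29.nonempty_hh_equiv_hom (I₀ := I₀) (k := k) (Omega.conormal I₀.subschemeι)
    (Coh.structureModule I₀.subscheme)
  have hC : Coh.IsCoh (Omega.conormal I₀.subschemeι) :=
    Coherent.isCoh_iso HilbT29.toConormal
      (CycLib28.InterSheaf.isCoh_pullback _ (CurveRR24.isCoh_idealMod' I₀))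
  have hN : Coh.IsCoh ((DCoh.sheafHom (Omega.conormal I₀.subschemeι)).obj (Coh.structureModule I₀.subscheme)) :=
    Coherent.isCoh_iso ((Coherent.sheafHomIso _).symm.app _)
      (Coherent.Existence.isCoh_internalHom hC (Coherent.isCoh_structureModule _))
  haveI : Module.Finite k (Coh.HH I₀.subscheme
      ((DCoh.sheafHom (Omega.conormal I₀.subschemeι)).obj (Coh.structureModule I₀.subscheme)) 0) :=
    Coherent.finite_HH hN 0
  exact Module.Finite.equiv (η.trans e.symm)

end Groth.Agent.S12261
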