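import Groth.Statements.S12265
import Groth.Agent.HilbT29.Finrank
import Groth.Agent.RelVALib.ChowPn

set_option autoImplicit false
universe u
open CategoryTheory CategoryTheory.Limits AlgebraicGeometry
attribute [local instance] HasDerivedCategory.standard
open Deform

namespace Groth.Agent.S12265

/-- Let k be an algebraically closed field and Y a projective k-scheme (separated, of finite type, with
a closed k-immersion into some P^m_k). Let (H, Z) represent the Hilbert functor of Y over k on
locally Noetherian k-schemes: H is locally Noetherian, Z ⊆ Y ×_k H is a closed subscheme proper and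
flat over H, and every closed subscheme of Y ×_k T proper and flat over a locally Noetherian
k-scheme T is the pullback of Z along a unique k-morphism T → H. Let i : X → Y be a closed immersion
over k, N = Hom_{O_X}(I/I², O_X) its normal sheaf (the sheaf Hom of the conormal sheaf, taken as a
right adjoint, assumed to exist) and h : Spec k → H the k-point classifying X, i.e. the pullback of
Z along h is X ⊆ Y ×_k Spec k. Then the Zariski tangent space of H at the point [X] = h(pt) and
H^0(X, N) have the same dimension: the dimension of m/m² over the residue field of the local ring of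
H at [X] equals dim_k H^0(X, N). (The published statement gives a canonical isomorphism T_{[X]} H ≅
H^0(X, N); this row records the equality of dimensions.) -/
theorem result
    {k : Type u} [Field k] [IsAlgClosed k] (Y : Scheme.{u}) (y : Y ⟶ Spec (CommRingCat.of k))
    [LocallyOfFiniteType y] [IsSeparated y] [QuasiCompact y]
    (hprojY : ∃ (m : ℕ) (c : Y ⟶ CohB1.ProjSpaceOver m (Spec (CommRingCat.of k))),
      IsClosedImmersion c ∧ c ≫ CohB1.ProjSpaceOver.toBase m (Spec (CommRingCat.of k)) = y)
    (H : Over (Spec (CommRingCat.of k))) (Z : FGA.HilbSet y H) (hH : FGA.HilbRepresentedBy y H Z)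
    (X : Scheme.{u}) [X.Over (Spec (CommRingCat.of k))] (i : X ⟶ Y) [IsClosedImmersion i] (hi : i ≫ y = X ↘ (Spec (CommRingCat.of k)))
    [DCoh.HasSheafHom (Omega.conormal i)]
    (h : Over.mk (𝟙 (Spec (CommRingCat.of k))) ⟶ H)
    (hh : FGA.hilbPull y h Z.1 = i.ker.comap (pullback.fst y (Over.mk (𝟙 (Spec (CommRingCat.of k)))).hom)) :
    Module.finrank (IsLocalRing.ResidueField (H.left.presheaf.stalk (h.left.base (IsLocalRing.closedPoint k))))
        (IsLocalRing.CotangentSpace (H.left.presheaf.stalk (h.left.base (IsLocalRing.closedPoint k)))) =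
      Module.finrank k (Coh.HH X ((DCoh.sheafHom (Omega.conormal i)).obj (Coh.structureModule X)) 0) := by
  letI : Y.Over (Spec (CommRingCat.of k)) := ⟨y⟩
  haveI : i.IsOver (Spec (CommRingCat.of k)) := ⟨hi⟩
  letI : i.ker.subscheme.Over (Spec (CommRingCat.of k)) := ⟨i.ker.subschemeι ≫ y⟩
  haveI : IsProper y := by
    obtain ⟨n, c, hc, he⟩ := hprojY
    have := hc
    have := RelVALib.isProper_toBase n (Spec (CommRingCat.of k))
    rw [← he]
    infer_instance
  obtain ⟨e₁⟩ := HilbT29.nonempty_dual_equiv_hom hH hh rfl
  obtain ⟨e₂⟩ := HilbT29.nonempty_hom_equiv (k := k) i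
  obtain ⟨e₃⟩ := HilbT29.nonempty_hh_equiv_hom' (k := k) (Omega.conormal i) (Coh.structureModule X)
  let P := H.left
  let s := h.left
  let hs : s ≫ H.hom = 𝟙 _ := Over.w h
  let O : Type u := P.presheaf.stalk (H8Coh.RatTangent.pt s)
  letI : Algebra k O := (H8Coh.RatTangent.ρ H.hom s).toAlgebra
  let r : k →+* IsLocalRing.ResidueField O := (IsLocalRing.residue O).comp (algebraMap k O)
  have hr : Function.Bijective r := ⟨r.injective, fun a => by
    obtain ⟨a, rfl⟩ := IsLocalRing.residue_surjective a
    refine ⟨H8Coh.RatTangent.χ s a, (sub_eq_zero.1 ?_).symm⟩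
    show IsLocalRing.residue O a - IsLocalRing.residue O _ = 0
    rw [← map_sub, IsLocalRing.residue_eq_zero_iff]
    exact H8Coh.RatTangent.sub_mem H.hom s hs a⟩
  have h1 : Module.rank k (IsLocalRing.CotangentSpace O) =
      Module.rank (IsLocalRing.ResidueField O) (IsLocalRing.CotangentSpace O) :=
    rank_eq_of_equiv_equiv r (AddEquiv.refl _) hr fun c m => (IsScalarTower.algebraMap_smul O c m).symm
  calc Module.finrank (IsLocalRing.ResidueField O) (IsLocalRing.CotangentSpace O)
      = Module.finrank k (IsLocalRing.CotangentSpace O) := (congrArg Cardinal.toNat h1).symm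
    _ = Module.finrank k (IsLocalRing.CotangentSpace O →ₗ[k] k) := Subspace.dual_finrank_eq.symm
    _ = _ := ((e₁.trans e₂.symm).trans e₃.symm).finrank_eq

end Groth.Agent.S12265
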