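import Groth.Statements.S12266
import Groth.Agent.HomTan29.Dual
import Groth.Agent.RelVALib.ChowPn

set_option autoImplicit false
universe u
open CategoryTheory CategoryTheory.Limits MonoidalCategory CartesianMonoidalCategory AlgebraicGeometry
attribute [local instance] HasDerivedCategory.standard
open Deform

namespace Groth.Agent.S12266

/-- Let k be an algebraically closed field, X a reduced projective k-scheme (with a closed k-immersion
into some P^n_k) and Y a nonsingular quasi-projective k-scheme (smooth over k, with a k-immersion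
into some P^m_k). Suppose the k-scheme M together with υ : X ×_k M → Y over k represents the functor
of morphisms: for every k-scheme T and every k-morphism φ : X ×_k T → Y there is exactly one
k-morphism a : T → M with φ = υ ∘ (X ×_k a). Let f : X → Y be a k-morphism and a_f : Spec k → M the
k-point [f] classifying f (through X ×_k Spec k ≅ X). Then the Zariski tangent space of M at [f] has
the dimension of H^0(X, f^*T_Y): the dimension of m/m² over the residue field of the local ring of M
at [f] equals dim_k H^0(X, Hom_{O_X}(f^*Ω_{Y/k}, O_X)), the sheaf Hom (taken as a right adjoint,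
assumed to exist) of the pullback of the sheaf of differentials of Y over k, which is f^*T_Y as
Ω_{Y/k} is locally free. (The published statement gives a canonical isomorphism T_{[f]} Hom(X, Y) ≅
H^0(X, f^*T_Y) and adds that the obstruction space at [f] lies in H^1(X, f^*T_Y); this row records
the equality of dimensions.) -/
theorem result
    {k : Type u} [Field k] [IsAlgClosed k]
    (X : Scheme.{u}) [X.Over (Spec (CommRingCat.of k))] [IsReduced X]
    (hprojX : ∃ (n : ℕ) (c : X ⟶ CohB1.ProjSpaceOver n (Spec (CommRingCat.of k))),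
      IsClosedImmersion c ∧ c ≫ CohB1.ProjSpaceOver.toBase n (Spec (CommRingCat.of k)) = X ↘ (Spec (CommRingCat.of k)))
    (Y : Scheme.{u}) (yY : Y ⟶ (Spec (CommRingCat.of k))) [Smooth yY]
    (hqprojY : ∃ (m : ℕ) (c : Y ⟶ CohB1.ProjSpaceOver m (Spec (CommRingCat.of k))),
      IsImmersion c ∧ c ≫ CohB1.ProjSpaceOver.toBase m (Spec (CommRingCat.of k)) = yY)
    (M : Over (Spec (CommRingCat.of k))) (υ : Over.mk (X ↘ (Spec (CommRingCat.of k))) ⊗ M ⟶ Over.mk yY)
    (hM : ∀ (T : Over (Spec (CommRingCat.of k))) (φ : Over.mk (X ↘ (Spec (CommRingCat.of k))) ⊗ T ⟶ Over.mk yY),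
      ∃! a : T ⟶ M, (Over.mk (X ↘ (Spec (CommRingCat.of k))) ◁ a) ≫ υ = φ)
    (f : X ⟶ Y) (hf : f ≫ yY = X ↘ (Spec (CommRingCat.of k)))
    (af : 𝟙_ (Over (Spec (CommRingCat.of k))) ⟶ M)
    (haf : (Over.mk (X ↘ (Spec (CommRingCat.of k))) ◁ af) ≫ υ = (ρ_ (Over.mk (X ↘ (Spec (CommRingCat.of k))))).hom ≫ (Over.homMk f hf : Over.mk (X ↘ (Spec (CommRingCat.of k))) ⟶ Over.mk yY))
    [DCoh.HasSheafHom ((Scheme.Modules.pullback f).obj (Omega.sheaf yY))] :
    Module.finrank (IsLocalRing.ResidueField (M.left.presheaf.stalk (af.left.base (IsLocalRing.closedPoint k))))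
        (IsLocalRing.CotangentSpace (M.left.presheaf.stalk (af.left.base (IsLocalRing.closedPoint k)))) =
      Module.finrank k (Coh.HH X
        ((DCoh.sheafHom ((Scheme.Modules.pullback f).obj (Omega.sheaf yY))).obj (Coh.structureModule X)) 0) := by
  haveI : IsSeparated yY := by
    obtain ⟨m, c, hc, e⟩ := hqprojY
    haveI := hc
    haveI := RelVALib.isProper_toBase m (Spec (CommRingCat.of k))
    rw [← e]
    infer_instance
  haveI : QuasiSeparated yY := inferInstance
  let h : Over.mk (𝟙 (Spec (CommRingCat.of k))) ⟶ M := af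
  have hh : (Over.mk (X ↘ (Spec (CommRingCat.of k))) ◁ h).left ≫ υ.left =
      pullback.fst (X ↘ (Spec (CommRingCat.of k))) (𝟙 _) ≫ f := congrArg CommaMorphism.left haf
  obtain ⟨e₁⟩ := HomTan29.nonempty_dual_equiv_hom υ hh hM hf rfl
  obtain ⟨e₂⟩ := HilbT29.nonempty_hh_equiv_hom' (k := k) ((Scheme.Modules.pullback f).obj (Omega.sheaf yY))
    (Coh.structureModule X)
  have hs : af.left ≫ M.hom = 𝟙 _ := Over.w h
  let O : Type u := M.left.presheaf.stalk (H8Coh.RatTangent.pt af.left)
  letI : Algebra k O := (H8Coh.RatTangent.ρ M.hom af.left).toAlgebra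
  let r : k →+* IsLocalRing.ResidueField O := (IsLocalRing.residue O).comp (algebraMap k O)
  have hr : Function.Bijective r := ⟨r.injective, fun a => by
    obtain ⟨a, rfl⟩ := IsLocalRing.residue_surjective a
    refine ⟨H8Coh.RatTangent.χ af.left a, (sub_eq_zero.1 ?_).symm⟩
    show IsLocalRing.residue O a - IsLocalRing.residue O _ = 0
    rw [← map_sub, IsLocalRing.residue_eq_zero_iff]
    exact H8Coh.RatTangent.sub_mem M.hom af.left hs a⟩
  have h1 : Module.rank k (IsLocalRing.CotangentSpace O) =
      Module.rank (IsLocalRing.ResidueField O) (IsLocalRing.CotangentSpace O) :=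
    rank_eq_of_equiv_equiv r (AddEquiv.refl _) hr fun c m => (IsScalarTower.algebraMap_smul O c m).symm
  calc Module.finrank (IsLocalRing.ResidueField O) (IsLocalRing.CotangentSpace O)
      = Module.finrank k (IsLocalRing.CotangentSpace O) := (congrArg Cardinal.toNat h1).symm
    _ = Module.finrank k (IsLocalRing.CotangentSpace O →ₗ[k] k) := Subspace.dual_finrank_eq.symm
    _ = _ := (e₁.trans e₂.symm).finrank_eq

end Groth.Agent.S12266
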