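import Groth.Statements.S12722
import Groth.Agent.ArtFunLib.PowerSeriesVersal
-- import your own Groth.Agent.* helpers here

set_option autoImplicit false
universe u v
open CategoryTheory
open ArtFun

namespace Groth.Agent.S12722

open Groth.Agent.ArtFunLib in
theorem aux {Λ : Type u} {k : Type u} [CommRing Λ] [Field k] [Algebra Λ k]
    [IsNoetherianRing Λ]
    [IsLocalRing Λ] [IsAdicComplete (IsLocalRing.maximalIdeal Λ) Λ]
    (hk : Function.Surjective (algebraMap Λ k)) (R : ArtFun.CRing Λ k) :
    ArtFun.IsSmoothFunctor (ArtFun.hR R.carrier R.res) ↔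
      ∃ n : ℕ, Nonempty (R.carrier ≃ₐ[Λ] MvPowerSeries (Fin n) Λ) := by
  let L : ArtFun.CRing Λ k :=
    { carrier := Λ, res := Algebra.ofId Λ k, res_surjective := hk, isAdicComplete := inferInstance }
  let ι : L.carrier →ₐ[Λ] R.carrier := Algebra.ofId Λ R.carrier
  have hι : R.res.comp ι = L.res := AlgHom.ext fun l => R.res.commutes l
  have key : ArtFun.IsSmoothFunctor (ArtFun.hR R.carrier R.res) ↔
      ArtFun.IsVersal ((ArtFun.Family.self L.carrier L.res).along ι hι) := by
    constructor
    · intro h B A μ hμ φ y _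
      obtain ⟨ψ, hψ⟩ := h μ hμ φ
      exact ⟨ψ, hψ, Subtype.ext (AlgHom.ext fun l =>
        ((ψ.1.comp ι).commutes l).trans (y.1.commutes l).symm)⟩
    · intro h B A μ hμ φ
      obtain ⟨ψ, hψ, _⟩ := h μ hμ φ ⟨Algebra.ofId Λ B, AlgHom.ext fun l => B.res.commutes l⟩
        (Subtype.ext (AlgHom.ext fun l =>
          ((μ.toAlgHom.comp (Algebra.ofId Λ B)).commutes l).trans ((φ.1.comp ι).commutes l).symm))
      exact ⟨ψ, hψ⟩
  rw [key]
  constructor
  · intro hv
    obtain ⟨n, Φ, hΦ, hΦC⟩ := exists_iso_of_isVersal ι hι hv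
    let Φ' : MvPowerSeries (Fin n) Λ →ₐ[Λ] R.carrier :=
      { toRingHom := Φ.toRingHom
        commutes' := fun a => hΦC a }
    exact ⟨n, ⟨(AlgEquiv.ofBijective Φ' hΦ).symm⟩⟩
  · rintro ⟨n, ⟨e⟩⟩
    let e' : R.carrier →ₐ[Λ] (psRing L n).carrier :=
      { toRingHom := e.toAlgHom.toRingHom
        commutes' := fun l => (e.commutes l).trans ((psC L n).commutes l) }
    exact isVersal_along_of_iso ι hι e' e.bijective (AlgHom.ext fun a => e.commutes a)

/-- (1) ⇔ (5): let Λ be a complete local Noetherian ring with residue field k. For a complete local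
Noetherian Λ-algebra R with residue field k, the functor h_R on Artinian local Λ-algebras with
residue field k is smooth if and only if R is isomorphic over Λ to a power series ring Λ[[x₁, …,
xₙ]] for some n. -/
theorem result {Λ : Type u} {k : Type u} [CommRing Λ] [Field k] [Algebra Λ k]
    [IsNoetherianRing Λ] [Module.Finite Λ k]
    [IsLocalRing Λ] [IsAdicComplete (IsLocalRing.maximalIdeal Λ) Λ]
    (hk : Function.Surjective (algebraMap Λ k)) (R : ArtFun.CRing Λ k) :
    ArtFun.IsSmoothFunctor (ArtFun.hR R.carrier R.res) ↔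
      ∃ n : ℕ, Nonempty (R.carrier ≃ₐ[Λ] MvPowerSeries (Fin n) Λ) := by
  exact aux hk R

end Groth.Agent.S12722
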