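import Groth.Statements.S12268
import Groth.Agent.AffObs29.Hull
import Groth.Agent.S12327
import Groth.Agent.S12722

set_option autoImplicit false
universe u
open CategoryTheory CategoryTheory.Limits AlgebraicGeometry
open Deform

namespace Groth.Agent.S12268

/-- Let k be an algebraically closed field and B₀ a k-algebra with a finite presentation P =
k[X_i]/(f_s); let T¹ = T¹(B₀/k, B₀) and T² = T²(B₀/k, B₀) be the first and second cotangent modules
computed from P, and assume T¹ is finite-dimensional over k. Then for every semiuniversal formal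
deformation of Spec B₀ — a complete local Noetherian k-algebra R̄ with residue field k carrying a
miniversal family for the functor Def_{B₀} of isomorphism classes of deformations — one has dim R̄ ≤
dim_k T¹; if T² is finite-dimensional as well, dim_k T¹ ≤ dim R̄ + dim_k T²; and dim R̄ = dim_k T¹
holds exactly when Spec B₀ is unobstructed, i.e. Def_{B₀}(B) → Def_{B₀}(A) is surjective for every
surjection B → A of local Artinian k-algebras with residue field k. (The published statement writes
the lower bound as dim_k T¹ − dim_k T² ≤ dim R̄, empty when T² is infinite-dimensional, and allows a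
localisation of the polynomial ring as ambient algebra.) -/
theorem result
    {k : Type u} [Field k] [IsAlgClosed k] (B₀ : Type u) [CommRing B₀] [Algebra k B₀] {ι σ : Type u} [Finite ι] [Finite σ]
    (P : Algebra.Presentation k B₀ ι σ)
    [Module.Finite k (CotT.T1 P B₀)] (H : ArtFun.Hull (ArtFun.defFunctor (Λ := k) (Spec (CommRingCat.of B₀)) (Spec.map (CommRingCat.ofHom (algebraMap k B₀))))) :
    ringKrullDim H.ring.carrier ≤ ((Module.finrank k (CotT.T1 P B₀) : ℕ∞) : WithBot ℕ∞) ∧
      (Module.Finite k (CotT.T2 P B₀) →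
        ((Module.finrank k (CotT.T1 P B₀) : ℕ∞) : WithBot ℕ∞) ≤
          ringKrullDim H.ring.carrier + ((Module.finrank k (CotT.T2 P B₀) : ℕ∞) : WithBot ℕ∞)) ∧
      (ringKrullDim H.ring.carrier = ((Module.finrank k (CotT.T1 P B₀) : ℕ∞) : WithBot ℕ∞) ↔
        ArtFun.IsSmoothFunctor (ArtFun.defFunctor (Λ := k) (Spec (CommRingCat.of B₀)) (Spec.map (CommRingCat.ofHom (algebraMap k B₀))))) := by
  let F := ArtFun.defFunctor (Λ := k) (Spec (CommRingCat.of B₀)) (Spec.map (CommRingCat.ofHom (algebraMap k B₀)))
  have h0 : ArtFun.H0 F := Groth.Agent.Et18.DefGlue.h0_defFunctor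
  have h2 : ArtFun.Heps F := Groth.Agent.Et18.DefGlue.heps_defFunctor
  letI : ArtFun.TangentStr F := Groth.Agent.ArtFunLib.tangentStr h0 h2
  let T := Groth.Agent.AffObs29.obsTheory P
  obtain ⟨e⟩ := Groth.Agent.AffObs29.nonempty_linearEquiv_T1 P
  have hd : Module.finrank (IsLocalRing.ResidueField H.ring.carrier) (IsLocalRing.CotangentSpace H.ring.carrier) =
      Module.finrank k (CotT.T1 P B₀) := by
    rw [← e.finrank_eq]
    exact (Groth.Agent.AffObs29.finrank_tangent H).symm
  have hcast : ∀ n : ℕ, ((n : ℕ∞) : WithBot ℕ∞) = (n : WithBot ℕ∞) := fun n => rfl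
  simp only [hcast, ← hd]
  have hreg : ∀ (R : Type u) [CommRing R] [IsLocalRing R] [IsNoetherianRing R],
      ringKrullDim R ≤ (Module.finrank (IsLocalRing.ResidueField R) (IsLocalRing.CotangentSpace R) : WithBot ℕ∞) :=
    fun R _ _ _ => by
      rw [← IsLocalRing.spanFinrank_maximalIdeal_eq_finrank_cotangentSpace]
      exact ringKrullDim_le_spanFinrank_maximalIdeal R
  refine ⟨hreg _, fun hfin => ?_, ?_⟩
  · exact (Groth.Agent.S12327.result (CotT.T2 P B₀) T H).2.1
  let kC := Groth.Agent.ArtFunLib.artCRing (ArtFun.Art.base k k)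
  refine Iff.trans ?_ (Groth.Agent.AffObs29.isSmoothFunctor_iff H h0).symm
  haveI : IsAdicComplete (IsLocalRing.maximalIdeal k) k := kC.isAdicComplete
  refine Iff.trans ?_ (Groth.Agent.S12722.result (Λ := k) Function.surjective_id H.ring).symm
  obtain ⟨d, π, hπ, -, hI⟩ := Groth.Agent.ArtFunLib.exists_presentation H.ring kC Function.bijective_id
  haveI hP : IsRegularLocalRing (Groth.Agent.ArtFunLib.psRing kC d).carrier :=
    (Groth.Agent.CAlgH.isRegularLocalRing_mvPowerSeries k d).1
  have hdP : ringKrullDim (Groth.Agent.ArtFunLib.psRing kC d).carrier =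
      (Module.finrank (IsLocalRing.ResidueField H.ring.carrier) (IsLocalRing.CotangentSpace H.ring.carrier) : WithBot ℕ∞) := by
    rw [← IsLocalRing.spanFinrank_maximalIdeal_eq_finrank_cotangentSpace,
      Groth.Agent.ArtFunLib.spanFinrank_eq_of_ker_le_sq π.toRingHom hπ hI, IsRegularLocalRing.spanFinrank_maximalIdeal]
  constructor
  · intro heq
    have hinj : Function.Injective π := by
      rw [injective_iff_map_eq_zero]
      intro x hx
      by_contra hne
      haveI : IsDomain (MvPowerSeries (Fin d) k) := NoZeroDivisors.to_isDomain _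
      have hx' : x ∈ nonZeroDivisors (Groth.Agent.ArtFunLib.psRing kC d).carrier :=
        mem_nonZeroDivisors_of_ne_zero (M₀ := MvPowerSeries (Fin d) k) hne
      have h1 := ringKrullDim_quotient_succ_le_of_nonZeroDivisor hx'
      have h3 := ringKrullDim_le_of_surjective (Ideal.Quotient.lift (Ideal.span {x}) π.toRingHom
        (fun a ha => (Ideal.span_singleton_le_iff_mem (I := RingHom.ker π.toRingHom)).2 hx ha))
        (Ideal.Quotient.lift_surjective_of_surjective _ _ hπ)
      rw [heq] at h3
      rw [hdP] at h1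
      generalize ringKrullDim ((Groth.Agent.ArtFunLib.psRing kC d).carrier ⧸ Ideal.span {x}) = a at h1 h3
      generalize Module.finrank (IsLocalRing.ResidueField H.ring.carrier)
        (IsLocalRing.CotangentSpace H.ring.carrier) = m at h1 h3
      have h4 : (m : WithBot ℕ∞) + 1 ≤ (m : WithBot ℕ∞) := le_trans (by gcongr) h1
      have h5 : ((m + 1 : ℕ) : WithBot ℕ∞) ≤ (m : WithBot ℕ∞) := by push_cast; exact h4
      exact absurd (Nat.cast_le.1 h5) (by omega)
    let π' : MvPowerSeries (Fin d) k →ₐ[k] H.ring.carrier :=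
      { toRingHom := π.toRingHom
        commutes' := fun c => π.commutes c }
    exact ⟨d, ⟨(AlgEquiv.ofBijective π' ⟨hinj, hπ⟩).symm⟩⟩
  · rintro ⟨n, ⟨φ⟩⟩
    haveI : IsRegularLocalRing H.ring.carrier :=
      haveI := (Groth.Agent.CAlgH.isRegularLocalRing_mvPowerSeries k n).1
      IsRegularLocalRing.of_ringEquiv φ.symm.toRingEquiv
    rw [← IsLocalRing.spanFinrank_maximalIdeal_eq_finrank_cotangentSpace, IsRegularLocalRing.spanFinrank_maximalIdeal]

end Groth.Agent.S12268
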