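import Groth.Statements.S12269
import Mathlib
import Groth.Agent.CotTLib.LciAt
import Groth.Agent.CAlgH3.ExtBaseChange

set_option autoImplicit false
universe u
open CategoryTheory
open Deform

namespace Groth.Agent.S12269

/-- Let k be an algebraically closed field and B₀ a reduced k-algebra given with a finite presentation P
= k[X_i]/I (finitely many variables and relations); let T² = T²(B₀/k, B₀) be the second cotangent
module computed from P and I/I² the conormal module of the presentation. Then T² and Ext¹_{B₀}(I/I²,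
B₀) are isomorphic B₀-modules (existence of a B₀-linear isomorphism; the published one is induced by
the chosen presentation). (The published statement allows the quotient of any smooth k-algebra; this
row takes a polynomial presentation.) -/
theorem result
    {k : Type u} [Field k] [IsAlgClosed k] (B₀ : Type u) [CommRing B₀] [Algebra k B₀] {ι σ : Type u} [Finite ι] [Finite σ]
    (P : Algebra.Presentation k B₀ ι σ) [IsReduced B₀] :
    Nonempty (CotT.T2 P B₀ ≃ₗ[B₀]
      Abelian.Ext (ModuleCat.of B₀ P.toExtension.Cotangent) (ModuleCat.of B₀ B₀) 1) := by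
  classical
  have hfield : ∀ (p : Ideal B₀) [p.IsPrime], p ∈ minimalPrimes B₀ → IsRegularLocalRing (Localization.AtPrime p) := by
    intro p _ hp
    let Bp := Localization.AtPrime p
    haveI : IsReduced Bp := inferInstance
    have hmax : IsLocalRing.maximalIdeal Bp = ⊥ := by
      rw [eq_bot_iff]
      refine le_trans ?_ (nilradical_eq_zero Bp).le
      rw [nilradical_eq_sInf]
      refine le_sInf fun Q (hQ : Q.IsPrime) => ?_
      have hle : Q.comap (algebraMap B₀ Bp) ≤ p := fun a ha => by
        by_contra h
        exact hQ.ne_top (Q.eq_top_of_isUnit_mem ha (IsLocalization.map_units Bp (⟨a, h⟩ : p.primeCompl)))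
      have hple : p ≤ Q.comap (algebraMap B₀ Bp) := hp.2 ⟨Ideal.IsPrime.comap _, bot_le⟩ hle
      rw [← Localization.AtPrime.map_eq_maximalIdeal (I := p)]
      exact Ideal.map_le_iff_le_comap.2 hple
    haveI : IsNoetherianRing B₀ :=
      haveI := P.finitePresentation_of_isFinite
      Algebra.FiniteType.isNoetherianRing k B₀
    haveI : IsNoetherianRing Bp := IsLocalization.isNoetherianRing p.primeCompl _ inferInstance
    refine IsRegularLocalRing.of_spanFinrank_maximalIdeal_le _ ?_
    rw [hmax, Submodule.spanFinrank_bot]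
    exact_mod_cast ringKrullDim_nonneg_of_nontrivial
  haveI : IsRegularRing P.toExtension.Ring := inferInstanceAs (IsRegularRing (MvPolynomial ι k))
  have hvan : ∀ (α : CotT.L2 P →ₗ[B₀] B₀) (z : CotT.L2 P), CotT.d2 P z = 0 → α z = 0 := by
    intro α z hz
    obtain ⟨q, rfl⟩ := Groth.Agent.CotTLib.toL2_surjective z
    refine IsNilpotent.eq_zero (mem_nilradical.1 ?_)
    rw [nilradical, Ideal.zero_eq_bot, ← Ideal.sInf_minimalPrimes]
    refine Ideal.mem_sInf.2 fun {p} hp => ?_
    haveI : p.IsPrime := hp.1.1
    let g := algebraMap P.toExtension.Ring B₀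
    have hg : Function.Surjective g := P.toExtension.algebraMap_surjective
    haveI : (p.comap g).IsPrime := Ideal.IsPrime.comap g
    have hmapp : (p.comap g).map g = p := Ideal.map_comap_of_surjective g hg p
    obtain ⟨c, hc, hcz⟩ := Groth.Agent.CotTLib.exists_smul_toL2_eq_zero (p.comap g)
      (Groth.Agent.CotTLib.regular_lci_at g hg (p.comap g) (Ideal.ker_le_comap g) fun Q _ hQ => by
        obtain rfl : Q = p := hQ.trans hmapp
        exact hfield Q hp) q hz
    refine (Ideal.IsPrime.mem_or_mem ‹p.IsPrime› ?_).resolve_left hc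
    rw [← smul_eq_mul, ← map_smul, hcz, map_zero]
    exact zero_mem _
  let K := LinearMap.range (CotT.d2 P)
  have hex : Function.Exact K.subtype (CotT.toCot P) := fun x => by
    rw [Groth.Agent.CotTLib.exact_d2_toCot x]
    exact ⟨fun h => ⟨⟨x, h⟩, rfl⟩, fun ⟨y, hy⟩ => hy ▸ y.2⟩
  haveI : Module.Free B₀ (CotT.L1 P) := Module.Free.of_basis (CotT.L1basis P)
  obtain ⟨pr, hpr, hker⟩ := Groth.Agent.CAlgH3.exists_ext_one_presentation (K := K) (F := CotT.L1 P) (M := P.toExtension.Cotangent)
    (ι := K.subtype) (π := CotT.toCot P) B₀ K.injective_subtype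
    Groth.Agent.CotTLib.toCot_surjective hex
  let Φ : (K →ₗ[B₀] B₀) →ₗ[B₀] (CotT.L2 P →ₗ[B₀] B₀) := LinearMap.lcomp B₀ B₀ (CotT.d2 P).rangeRestrict
  have hΦ : Function.Bijective Φ := by
    refine ⟨fun a b h => LinearMap.ext fun x => ?_, fun α => ?_⟩
    · obtain ⟨x, rfl⟩ := (CotT.d2 P).surjective_rangeRestrict x
      exact LinearMap.congr_fun h x
    · let e := (CotT.d2 P).quotKerEquivRange
      refine ⟨(LinearMap.ker (CotT.d2 P)).liftQ α (fun z hz => hvan α z hz) ∘ₗ e.symm.toLinearMap,
        LinearMap.ext fun z => ?_⟩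
      show (LinearMap.ker (CotT.d2 P)).liftQ α (fun z hz => hvan α z hz) (e.symm ((CotT.d2 P).rangeRestrict z)) = α z
      rw [show e.symm ((CotT.d2 P).rangeRestrict z) = Submodule.Quotient.mk z from
        e.symm_apply_eq.2 (Subtype.ext rfl)]
      exact Submodule.liftQ_apply (LinearMap.ker (CotT.d2 P)) α z
  let E := LinearEquiv.ofBijective Φ hΦ
  have hrange : (LinearMap.range (K.subtype.lcomp B₀ B₀)).map (E : _ →ₗ[B₀] _) =
      LinearMap.range (CotT.d2Star P B₀) := by
    rw [← LinearMap.range_comp]
    rfl
  exact ⟨((Submodule.Quotient.equiv _ _ E hrange).symm).trans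
    ((Submodule.quotEquivOfEq _ _ hker.symm).trans (pr.quotKerEquivOfSurjective hpr))⟩

end Groth.Agent.S12269
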