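import Groth.Statements.S1227


set_option autoImplicit false
universe u
open FlatMor

namespace Groth.Agent.S1227

open TensorProduct in
/-- Let u be a surjective linear map from a projective A-module M to an A-module N. Then there is an
ideal I of A such that for every A-algebra B, the base change u ⊗ 1 from B ⊗ M to B ⊗ N is bijective
if and only if the image of I in B is zero. -/
theorem result {A : Type u} [CommRing A] {M N : Type u} [AddCommGroup M] [Module A M] [Module.Projective A M]
    [AddCommGroup N] [Module A N] (u : M →ₗ[A] N) (hu : Function.Surjective u) :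
    ∃ I : Ideal A, ∀ (B : Type u) [CommRing B] [Algebra A B],
      Function.Bijective (u.baseChange B) ↔ I.map (algebraMap A B) = ⊥ := by
  classical
  obtain ⟨i, hi⟩ := Module.projective_lifting_property (Finsupp.linearCombination A (id : M → M))
    LinearMap.id (Finsupp.linearCombination_id_surjective A M)
  refine ⟨Ideal.span {a | ∃ f : M →ₗ[A] A, ∃ z, u z = 0 ∧ f z = a}, fun B _ _ => ?_⟩
  have hex := lTensor_exact B (LinearMap.exact_subtype_ker_map u) hu
  constructor
  · intro hbij
    rw [Ideal.map_span, Ideal.span_eq_bot]
    rintro _ ⟨_, ⟨f, z, hz, rfl⟩, rfl⟩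
    have h0 : (1 : B) ⊗ₜ[A] z = 0 := hbij.1 (by simp [hz])
    have := congrArg (TensorProduct.lift (LinearMap.mk₂ A (fun (b : B) (m : M) => f m • b)
      (fun _ _ _ => smul_add _ _ _) (fun _ _ _ => smul_comm _ _ _)
      (fun _ _ _ => by rw [map_add, add_smul]) (fun _ _ _ => by rw [map_smul, smul_assoc]))) h0
    simpa [Algebra.smul_def] using this
  · intro hI
    refine ⟨?_, fun y => ?_⟩
    · rw [injective_iff_map_eq_zero]
      intro x hx
      obtain ⟨w, rfl⟩ := (hex x).1 hx
      induction w using TensorProduct.induction_on with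
      | zero => simp
      | tmul b z =>
        rw [LinearMap.lTensor_tmul]
        have hz : Finsupp.linearCombination A (id : M → M) (i z.1) = z.1 := LinearMap.congr_fun hi _
        show b ⊗ₜ[A] (z : M) = 0
        rw [← hz, Finsupp.linearCombination_apply, Finsupp.sum, TensorProduct.tmul_sum]
        refine Finset.sum_eq_zero fun a _ => ?_
        have : algebraMap A B ((i z.1) a) = 0 := by
          have hmem : algebraMap A B ((i z.1) a) ∈ (Ideal.span
              {a | ∃ f : M →ₗ[A] A, ∃ z, u z = 0 ∧ f z = a}).map (algebraMap A B) :=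
            Ideal.mem_map_of_mem _ (Ideal.subset_span
              ⟨Finsupp.lapply a ∘ₗ i, z.1, LinearMap.mem_ker.1 z.2, rfl⟩)
          rwa [hI, Ideal.mem_bot] at hmem
        rw [← TensorProduct.smul_tmul, Algebra.smul_def, this, zero_mul, TensorProduct.zero_tmul]
      | add v w hv hw =>
        rw [map_add, hv ((hex _).2 ⟨v, rfl⟩), hw ((hex _).2 ⟨w, rfl⟩), add_zero]
    · obtain ⟨x, hx⟩ := LinearMap.lTensor_surjective B hu y
      exact ⟨x, hx⟩

end Groth.Agent.S1227
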