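import Groth.Statements.S12271
import Groth.Agent.LiftClass29.HilbPoint
import Groth.Agent.LiftClass29.ProTangent
import Groth.Agent.RelVALib.ChowPn

set_option autoImplicit false
universe u
open CategoryTheory CategoryTheory.Limits AlgebraicGeometry
attribute [local instance] HasDerivedCategory.standard
open Deform

namespace Groth.Agent.S12271

/-- Let k be an algebraically closed field, Y a separated k-scheme of finite type and i : X → Y a
regular closed immersion over k (its ideal is locally generated by a regular sequence) with X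
projective over k; let N = Hom_{O_X}(I/I², O_X) be the normal sheaf (sheaf Hom of the conormal sheaf
of i, as a right adjoint, assumed to exist). Let R̄ be a complete local Noetherian k-algebra with
residue field k prorepresenting the local Hilbert functor of X in Y (closed subschemes of Y ×_k Spec
A flat over A restricting to X, X ⊆ Y given by the kernel ideal of i), i.e. carrying a universal
family — the formal universal deformation of X in Y. Then dim R̄ ≤ h⁰(X, N); h⁰(X, N) ≤ dim R̄ +
h¹(X, N); and dim R̄ = h⁰(X, N) if and only if X is unobstructed in Y, i.e. the local Hilbert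
functor takes every surjection B → A of local Artinian k-algebras with residue field k to a
surjective map. (The published statement writes the second bound as h⁰(N) − h¹(N) ≤ dim R̄.) -/
theorem result
    {k : Type u} [Field k] [IsAlgClosed k] (Y : Scheme.{u}) (y : Y ⟶ Spec (CommRingCat.of k))
    [LocallyOfFiniteType y] [IsSeparated y] [QuasiCompact y]
    (X : Scheme.{u}) [X.Over (Spec (CommRingCat.of k))] (i : X ⟶ Y) [IsClosedImmersion i] (hi : i ≫ y = X ↘ (Spec (CommRingCat.of k)))
    (hreg : Mor2.IsRegularClosedImmersion i)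
    (hproj : ∃ (n : ℕ) (c : X ⟶ CohB1.ProjSpaceOver n (Spec (CommRingCat.of k))),
      IsClosedImmersion c ∧ c ≫ CohB1.ProjSpaceOver.toBase n (Spec (CommRingCat.of k)) = X ↘ (Spec (CommRingCat.of k)))
    [DCoh.HasSheafHom (Omega.conormal i)]
    (R : ArtFun.ProRep (ArtFun.localHilb Y y i.ker)) :
    ringKrullDim R.ring.carrier ≤ ((Module.finrank k (Coh.HH X ((DCoh.sheafHom (Omega.conormal i)).obj (Coh.structureModule X)) 0) : ℕ∞) : WithBot ℕ∞) ∧
      ((Module.finrank k (Coh.HH X ((DCoh.sheafHom (Omega.conormal i)).obj (Coh.structureModule X)) 0) : ℕ∞) : WithBot ℕ∞) ≤ ringKrullDim R.ring.carrier + ((Module.finrank k (Coh.HH X ((DCoh.sheafHom (Omega.conormal i)).obj (Coh.structureModule X)) 1) : ℕ∞) : WithBot ℕ∞) ∧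
      (ringKrullDim R.ring.carrier = ((Module.finrank k (Coh.HH X ((DCoh.sheafHom (Omega.conormal i)).obj (Coh.structureModule X)) 0) : ℕ∞) : WithBot ℕ∞) ↔ ArtFun.IsSmoothFunctor (ArtFun.localHilb Y y i.ker)) := by
  letI : Y.Over (Spec (CommRingCat.of k)) := ⟨y⟩
  haveI : i.IsOver (Spec (CommRingCat.of k)) := ⟨hi⟩
  letI : i.ker.subscheme.Over (Spec (CommRingCat.of k)) := ⟨i.ker.subschemeι ≫ y⟩
  haveI : IsLocallyNoetherian Y := LocallyOfFiniteType.isLocallyNoetherian y
  haveI : IsProper (X ↘ Spec (CommRingCat.of k)) := by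
    obtain ⟨n, c, hc, he⟩ := hproj
    have := hc
    have := RelVALib.isProper_toBase n (Spec (CommRingCat.of k))
    rw [← he]
    infer_instance
  haveI : HasExt.{u} X.Modules := inferInstance
  let N := (DCoh.sheafHom (Omega.conormal i)).obj (Coh.structureModule X)
  let O := R.ring.carrier
  obtain ⟨e₁⟩ := LiftClass29.nonempty_dual_equiv_hom_proRep R rfl
  obtain ⟨e₂⟩ := HilbT29.nonempty_hom_equiv (k := k) i
  obtain ⟨e₃⟩ := HilbT29.nonempty_hh_equiv_hom' (k := k) (Omega.conormal i) (Coh.structureModule X)
  let r : k →+* IsLocalRing.ResidueField O := (IsLocalRing.residue O).comp (algebraMap k O)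
  have hr : Function.Bijective r := ⟨r.injective, fun a => by
    obtain ⟨a, rfl⟩ := IsLocalRing.residue_surjective a
    refine ⟨R.ring.res a, (sub_eq_zero.1 ?_).symm⟩
    show IsLocalRing.residue O a - IsLocalRing.residue O _ = 0
    rw [← map_sub, IsLocalRing.residue_eq_zero_iff]
    exact LiftClass29.sub_res_mem R.ring a⟩
  have h1 : Module.rank k (IsLocalRing.CotangentSpace O) =
      Module.rank (IsLocalRing.ResidueField O) (IsLocalRing.CotangentSpace O) :=
    rank_eq_of_equiv_equiv r (AddEquiv.refl _) hr fun c m => (IsScalarTower.algebraMap_smul O c m).symm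
  have hspan : (IsLocalRing.maximalIdeal O).spanFinrank = Module.finrank k (Coh.HH X N 0) := by
    calc (IsLocalRing.maximalIdeal O).spanFinrank
        = Module.finrank (IsLocalRing.ResidueField O) (IsLocalRing.CotangentSpace O) :=
          IsLocalRing.spanFinrank_maximalIdeal_eq_finrank_cotangentSpace O
      _ = Module.finrank k (IsLocalRing.CotangentSpace O) := (congrArg Cardinal.toNat h1).symm
      _ = Module.finrank k (IsLocalRing.CotangentSpace O →ₗ[k] k) := Subspace.dual_finrank_eq.symm
      _ = _ := ((e₁.trans e₂.symm).trans e₃.symm).finrank_eq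
  let W := CategoryTheory.Abelian.Ext ((Coherent.freeModOn X).obj ⊤)
    (Coherent.internalHom (Omega.conormal i) (Coh.structureModule X)) 1
  let e : W ≃ₗ[k] Coh.HH X N 1 := LiftClass29.extEquivHH (Omega.conormal i) (Coh.structureModule X)
  haveI : Module.Finite k (Coh.HH X N 1) := LiftClass29.finite_HH_normal k i 1
  haveI : Module.Finite k W := Module.Finite.equiv e.symm
  have h := (ObsDim29.embDim_le_and_ci O R.ring.res R.ring.res_surjective
    (ObsDim29.hasLinObs_of_family R fun C₀ J hJm hJ0 D =>
      LiftClass29.exists_obsMap_localHilb Y y i hi hreg C₀ J hJm hJ0 D)).1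
  rw [hspan, e.finrank_eq] at h
  refine ⟨?_, h, fun hd => ObsDim29.isSmoothFunctor_of_dim R (hd.trans ?_), fun hs => ?_⟩
  · refine (ringKrullDim_le_spanFinrank_maximalIdeal O).trans ?_
    rw [hspan]
    exact le_of_eq rfl
  · rw [hspan]
    rfl
  · rw [ObsDim29.dim_of_isSmoothFunctor R hs, hspan]
    rfl

end Groth.Agent.S12271
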