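import Groth.Statements.S12272
import Groth.Agent.HilbT29.Fibre
import Groth.Agent.HilbT29.Finrank

set_option autoImplicit false
universe u
open CategoryTheory CategoryTheory.Limits AlgebraicGeometry
attribute [local instance] HasDerivedCategory.standard
open Deform

namespace Groth.Agent.S12272

/-- Let k be an algebraically closed field, Y a separated k-scheme of finite type and i : X → Y a
regular closed immersion over k with X projective over k; let N = Hom_{O_X}(I/I², O_X) be the normal
sheaf (sheaf Hom of the conormal sheaf of i, as a right adjoint, assumed to exist). Then X is rigid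
in Y, meaning that for every local Artinian k-algebra A with residue field k there is at most one
closed subscheme of Y ×_k Spec A flat over Spec A restricting to X on the closed fibre (necessarily
X ×_k Spec A), if and only if H⁰(X, N) = 0. -/
theorem result
    {k : Type u} [Field k] [IsAlgClosed k] (Y : Scheme.{u}) (y : Y ⟶ Spec (CommRingCat.of k))
    [LocallyOfFiniteType y] [IsSeparated y] [QuasiCompact y]
    (X : Scheme.{u}) [X.Over (Spec (CommRingCat.of k))] (i : X ⟶ Y) [IsClosedImmersion i] (hi : i ≫ y = X ↘ (Spec (CommRingCat.of k)))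
    (hreg : Mor2.IsRegularClosedImmersion i)
    (hproj : ∃ (n : ℕ) (c : X ⟶ CohB1.ProjSpaceOver n (Spec (CommRingCat.of k))),
      IsClosedImmersion c ∧ c ≫ CohB1.ProjSpaceOver.toBase n (Spec (CommRingCat.of k)) = X ↘ (Spec (CommRingCat.of k)))
    [DCoh.HasSheafHom (Omega.conormal i)] :
    (∀ A : ArtFun.Art k k, Subsingleton ((ArtFun.localHilb Y y i.ker).obj A)) ↔
      Subsingleton (Coh.HH X ((DCoh.sheafHom (Omega.conormal i)).obj (Coh.structureModule X)) 0) := by
  letI : Y.Over (Spec (CommRingCat.of k)) := ⟨y⟩
  haveI : i.IsOver (Spec (CommRingCat.of k)) := ⟨hi⟩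
  obtain ⟨η⟩ := HilbT29.nonempty_hh_equiv_hom' (k := k) (Omega.conormal i) (Coh.structureModule X)
  obtain ⟨μ⟩ := HilbT29.nonempty_hom_equiv (k := k) i
  let θ := (η.toEquiv.trans μ.toEquiv).trans ((Equiv.ofBijective _
    ⟨HilbT29.ofHomY_injective (I₀ := i.ker), HilbT29.ofHomY_surjective⟩).trans (HilbT29.equivNH y).symm)
  constructor
  · intro h
    haveI := h (HilbT29.Ad k)
    exact θ.subsingleton
  · intro h A
    haveI : Subsingleton (HilbT29.T y i.ker) := θ.symm.subsingleton
    let F := ArtFun.localHilb Y y i.ker
    have hall : ∀ ⦃A B : ArtFun.Art k k⦄ (p : B ⟶ A), Function.Surjective p → Function.Injective (F.map p) :=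
      ArtFunLib.surj_induction (fun _ _ p => Function.Injective (F.map p))
        (fun _ _ e _ => (ArtFunLib.map_bijective F e).1)
        (fun _ _ p hp a b hab => by
          obtain ⟨n, _, ⟨e⟩⟩ := HilbT29.nonempty_fibre_equiv y i.ker hp.isSemismallExt (F.map p a) a rfl
          haveI := e.subsingleton
          exact congrArg Subtype.val (Subsingleton.elim
            (⟨a, rfl⟩ : {I' : F.obj _ // F.map p I' = F.map p a}) ⟨b, hab.symm⟩))
        (fun _ _ _ p q _ _ hp hq a b hab => hp (hq (by rwa [ArtFunLib.map_map, ArtFunLib.map_map])))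
    refine ⟨fun a b => hall (ArtFun.Art.toBase A) A.res_surjective ?_⟩
    exact (HilbT29.h0_localHilb (x := y) (I₀ := i.ker)).2.elim _ _

end Groth.Agent.S12272
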