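import Groth.Statements.S12275
import Groth.Agent.DefFin29.ExtClass
import Groth.Agent.SemiExt29.Torsor
import Groth.Agent.SerreDual.ExtLocFree
import Groth.Agent.OmegaLib.LocFree
import Groth.Agent.Omega15.ConormalSmooth
import Groth.Agent.S5005

set_option autoImplicit false
universe u
open CategoryTheory CategoryTheory.Limits AlgebraicGeometry
open scoped TensorProduct
attribute [local instance] HasDerivedCategory.standard
open DefT

namespace Groth.Agent.S12275

/-- Let k be an algebraically closed field and X₀ a separated k-scheme of finite type, smooth over k,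
with tangent sheaf T = Hom_{O_{X₀}}(Ω_{X₀/k}, O_{X₀}) (the sheaf Hom, assumed to exist as the right
adjoint of tensoring with Ω_{X₀/k}). Let C' → C be a surjection of local Artinian k-algebras with
residue field k whose kernel J is annihilated by the maximal ideal of C', and let X be a deformation
of X₀ over C (a scheme flat over Spec C with a morphism from X₀ identifying X₀ with the closed
fibre). By an extension of X over C' we mean a deformation X' of X₀ over C' equipped with an
isomorphism of deformations (over Spec C and under X₀) from the base change of X' to C onto X; two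
extensions are equivalent when there is an isomorphism of deformations X' ≅ X'' over C' whose base
change to C carries the first identification to the second. If at least one extension exists, then
the set of equivalence classes of extensions of X over C' is in bijection with H^1(X₀, T) ⊗_k J.
(The published statement says that this set is a torsor under H^1(X₀, T ⊗ J) for X₀ nonsingular;
this row asserts only the existence of a bijection, and also assumes X₀ separated, which the printed
argument uses when it treats intersections of affine opens as affine.) -/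
theorem result
    {k : Type u} [Field k] [IsAlgClosed k] (X₀ : Scheme.{u}) [X₀.Over (Spec (CommRingCat.of k))]
    [LocallyOfFiniteType (X₀ ↘ Spec (CommRingCat.of k))]
    [IsSeparated (X₀ ↘ Spec (CommRingCat.of k))] [QuasiCompact (X₀ ↘ Spec (CommRingCat.of k))]
    [Smooth (X₀ ↘ Spec (CommRingCat.of k))]
    [DCoh.HasSheafHom (Omega.sheaf (X₀ ↘ Spec (CommRingCat.of k)))]
    {C' C : ArtFun.Art k k} (p : C' ⟶ C) (hp : ArtFun.Art.IsSemismallExt p)
    (𝒳 : ArtFun.DefSch X₀ (X₀ ↘ Spec (CommRingCat.of k)) C)
    (hne : ∃ 𝒳' : ArtFun.DefSch X₀ (X₀ ↘ Spec (CommRingCat.of k)) C', Nonempty ((𝒳'.baseChange p).Iso 𝒳)) :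
    Nonempty (Quot (fun a b : (Σ 𝒳' : ArtFun.DefSch X₀ (X₀ ↘ Spec (CommRingCat.of k)) C', (𝒳'.baseChange p).Iso 𝒳) =>
        ∃ ψ : a.1.Iso b.1, ((ψ.baseChange p).trans b.2).iso = a.2.iso) ≃
      (Coh.HH X₀ ((DCoh.sheafHom (Omega.sheaf (X₀ ↘ Spec (CommRingCat.of k)))).obj (Coh.structureModule X₀)) 1 ⊗[k]
        ↥(RingHom.ker p.toAlgHom))) := by
  skip
  obtain ⟨𝒳', ⟨i⟩⟩ := hne
  obtain ⟨n, ⟨eJ⟩, ⟨eQ⟩⟩ := SemiExt29.exists_equiv (X₀ ↘ Spec (CommRingCat.of k)) hp ⟨𝒳', i⟩
  obtain ⟨eW⟩ := DefFin29.nonempty_equiv_pi (x := X₀ ↘ Spec (CommRingCat.of k)) n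
  have hfl : FlatMod.IsFinLocFree (Omega.sheaf (X₀ ↘ Spec (CommRingCat.of k))) :=
    OmegaLib.isFinLocFree_of_isFormallySmoothHom (S5005.result _) (Omega15.isFormallySmoothHom_of_smooth _)
  let eE := (SerreDual.extLocFreeEquiv k hfl (Coh.structureModule X₀) 1).trans
    (SerreDual.hmapIso k ((Coherent.sheafHomIso (Omega.sheaf (X₀ ↘ Spec (CommRingCat.of k)))).app
      (Coh.structureModule X₀)).symm 1)
  refine ⟨eQ.trans (eW.trans ((Equiv.piCongrRight fun _ : Fin n => eE.toEquiv).trans ?_))⟩
  exact ((TensorProduct.piScalarRight k k _ (Fin n)).symm.trans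
    (TensorProduct.congr (LinearEquiv.refl k _) eJ)).toEquiv

end Groth.Agent.S12275
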