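import Groth.Statements.S1228
import Groth.Agent.FlatMorDevissage.PureProjective
import Groth.Agent.FlatMorDevissage.UInjFinite

set_option autoImplicit false
universe u
open FlatMor

namespace Groth.Agent.S1228

open TensorProduct in
/-- Ring form, S = Spec A and X = Spec B affine, test schemes affine: let B be a finitely presented
A-algebra, N a finitely presented B-module which is flat over A and pure relative to Spec A, and u a
surjective B-linear map from N to a B-module N'. Then the functor 'u becomes an isomorphism after
base change' is represented by a closed subscheme of Spec A: there is an ideal I of A such that for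
every A-algebra A' the base change A' ⊗_A N → A' ⊗_A N' is bijective if and only if IA' = 0. If N'
is finitely presented then I is finitely generated. -/
theorem result {A B : Type u} [CommRing A] [CommRing B] [Algebra A B] [Algebra.FinitePresentation A B]
    (N : Type u) [AddCommGroup N] [Module B N] [Module A N] [IsScalarTower A B N] [Module.FinitePresentation B N] [Module.Flat A N]
    (hpure : FlatCA.IsPure A B N)
    (N' : Type u) [AddCommGroup N'] [Module B N'] [Module A N'] [IsScalarTower A B N'] (u : N →ₗ[B] N') (hu : Function.Surjective u) :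
    ∃ I : Ideal A, (∀ (A' : Type u) [CommRing A'] [Algebra A A'],
        Function.Bijective ((u.restrictScalars A).baseChange A') ↔ I.map (algebraMap A A') = ⊥) ∧
      (Module.FinitePresentation B N' → I.FG) := by
  classical
  have : Module.Projective A N := Groth.Agent.FlatMorDevissage.projective_of_isPure N hpure
  obtain ⟨s, hs⟩ := Module.projective_def.1 this
  let C : Set N → Set A := fun T => ⋃ k ∈ T, (↑((s k).support.image (s k)) : Set A)
  let I : Ideal A := Ideal.span (C (LinearMap.ker u : Set N))
  have hcoord : ∀ (J : Ideal A) (k : N), k ∈ J • (⊤ : Submodule A N) → ∀ i, s k i ∈ J := fun J k hk i => by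
    have h := (Submodule.map_smul'' J ⊤ (Finsupp.lapply i ∘ₗ s)).trans_le
      (Submodule.smul_mono le_rfl le_top) (Submodule.mem_map_of_mem hk)
    rwa [Ideal.smul_eq_mul, Ideal.mul_top] at h
  have hmem : ∀ (T : Set N) (k : N), k ∈ T → k ∈ Ideal.span (C T) • (⊤ : Submodule A N) := fun T k hk => by
    refine (congrArg (· ∈ _) (hs k)).mp ?_
    rw [Finsupp.linearCombination_apply]
    exact Submodule.sum_mem _ fun i hi => Submodule.smul_mem_smul
      (Ideal.subset_span (Set.mem_iUnion₂.2 ⟨k, hk, Finset.mem_image_of_mem _ hi⟩)) trivial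
  refine ⟨I, fun A' _ _ => ?_, fun hfp => ?_⟩
  · have hsurj : Function.Surjective ((u.restrictScalars A).baseChange A') :=
      LinearMap.lTensor_surjective A' hu
    let uA : N →ₗ[A] N' := u.restrictScalars A
    have hex : Function.Exact ((LinearMap.ker uA).subtype.lTensor A') (uA.lTensor A') :=
      lTensor_exact A' uA.exact_subtype_ker_map hu
    have hbij : Function.Bijective ((u.restrictScalars A).baseChange A') ↔
        ∀ k ∈ LinearMap.ker u, (1 : A') ⊗ₜ[A] k = 0 := by
      refine ⟨fun h k hk => h.1 ?_, fun h => ⟨(injective_iff_map_eq_zero _).2 fun x hx => ?_, hsurj⟩⟩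
      · rw [map_zero, LinearMap.baseChange_tmul]
        rw [show (u.restrictScalars A) k = 0 from LinearMap.mem_ker.1 hk, TensorProduct.tmul_zero]
      · obtain ⟨w, rfl⟩ := (hex x).1 hx
        clear hx
        induction w using TensorProduct.induction_on with
        | zero => exact map_zero _
        | tmul a k =>
          have := h k.1 k.2
          rw [LinearMap.lTensor_tmul, Submodule.subtype_apply,
            show a ⊗ₜ[A] (k : N) = a • ((1 : A') ⊗ₜ[A] (k : N)) by
              rw [TensorProduct.smul_tmul', smul_eq_mul, mul_one], this, smul_zero]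
        | add a b ha hb => rw [map_add, ha, hb, add_zero]
    rw [hbij, Ideal.map_eq_bot_iff_le_ker]
    let e := TensorProduct.finsuppScalarRight A A' A' N
    have hkey : ∀ k : N, (1 : A') ⊗ₜ[A] k = 0 ↔ ∀ i, algebraMap A A' (s k i) = 0 := fun k => by
      have h1 : (1 : A') ⊗ₜ[A] k = 0 ↔ s.lTensor A' ((1 : A') ⊗ₜ[A] k) = 0 := by
        refine ⟨fun h => by rw [h, map_zero], fun h => ?_⟩
        have h2 := congrArg ((Finsupp.linearCombination A (id : N → N)).lTensor A') h
        rwa [map_zero, LinearMap.lTensor_tmul, LinearMap.lTensor_tmul, hs] at h2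
      rw [h1, LinearMap.lTensor_tmul, ← LinearEquiv.map_eq_zero_iff e, Finsupp.ext_iff]
      refine forall_congr' fun i => ?_
      rw [TensorProduct.finsuppScalarRight_apply_tmul_apply, Finsupp.zero_apply, Algebra.smul_def, mul_one]
    refine ⟨fun h => Ideal.span_le.2 fun a ha => ?_, fun h k hk => (hkey k).2 fun i => ?_⟩
    · obtain ⟨k, hk, ha⟩ := Set.mem_iUnion₂.1 ha
      obtain ⟨i, -, rfl⟩ := Finset.mem_image.1 ha
      exact (hkey k).1 (h k hk) i
    · exact h (hcoord I k (hmem _ k hk) i)
  · obtain ⟨T, hT⟩ := Module.FinitePresentation.fg_ker u hu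
    let I₀ : Ideal A := Ideal.span (C (T : Set N))
    have hle : LinearMap.ker u ≤ (I₀.map (algebraMap A B)) • (⊤ : Submodule B N) := by
      rw [← hT, Submodule.span_le]
      intro k hk
      exact (Groth.Agent.FlatMorDevissage.smul_top_restrict I₀ k).1 (hmem _ k hk)
    have hII : I = I₀ := by
      refine le_antisymm (Ideal.span_le.2 fun a ha => ?_) (Ideal.span_mono
        (Set.biUnion_mono (fun k hk => hT ▸ Submodule.subset_span hk) fun _ _ => Set.Subset.rfl))
      obtain ⟨k, hk, ha⟩ := Set.mem_iUnion₂.1 ha
      obtain ⟨i, -, rfl⟩ := Finset.mem_image.1 ha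
      exact hcoord I₀ k ((Groth.Agent.FlatMorDevissage.smul_top_restrict I₀ k).2 (hle hk)) i
    rw [hII]
    exact Submodule.fg_span (T.finite_toSet.biUnion fun k _ => Finset.finite_toSet _)

end Groth.Agent.S1228
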