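import Groth.Statements.S12280
import Groth.Agent.LciLift29.Point
import Groth.Agent.QuotSm29.Lifts
import Groth.Agent.S12265

set_option autoImplicit false
universe u
open CategoryTheory CategoryTheory.Limits AlgebraicGeometry
open scoped TensorProduct
attribute [local instance] HasDerivedCategory.standard
open DefT

namespace Groth.Agent.S12280

/-- Let k be an algebraically closed field, X = P^n_k, and (H, Z) a Hilbert scheme of X over k: H is a
locally Noetherian k-scheme and Z ⊆ X ×_k H a closed subscheme, proper and flat over H, such that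
every closed subscheme of X ×_k T proper and flat over a locally Noetherian k-scheme T is the
pull-back of Z along a unique k-morphism T → H. Let Y ⊆ X be a closed subscheme, regarded as a
k-scheme through X, with ideal sheaf I and normal sheaf N = Hom_{O_Y}(I/I², O_Y) (the sheaf Hom,
assumed to exist as the right adjoint of tensoring with I/I²), and let y ∈ H be the k-point
classifying Y (the pull-back of Z along Spec k → H is Y). If Y → X is a regular closed immersion (Y
is a local complete intersection in X) and H^1(Y, N) = 0, then H is nonsingular at y: the local ring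
O_{H,y} is regular, and its dimension equals dim_k H^0(Y, N). -/
theorem result
    {k : Type u} [Field k] [IsAlgClosed k] (n : ℕ)
    (H : Over (Spec (CommRingCat.of k))) (Z : FGA.HilbSet (CohB1.ProjSpaceOver.toBase n (Spec (CommRingCat.of k))) H) (hH : FGA.HilbRepresentedBy (CohB1.ProjSpaceOver.toBase n (Spec (CommRingCat.of k))) H Z)
    (Y : Scheme.{u}) [Y.Over (Spec (CommRingCat.of k))] (i : Y ⟶ CohB1.ProjSpaceOver n (Spec (CommRingCat.of k))) [IsClosedImmersion i]
    (hi : i ≫ CohB1.ProjSpaceOver.toBase n (Spec (CommRingCat.of k)) = Y ↘ Spec (CommRingCat.of k))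
    (hreg : Mor2.IsRegularClosedImmersion i)
    [DCoh.HasSheafHom (Omega.conormal i)]
    (y : Over.mk (𝟙 (Spec (CommRingCat.of k))) ⟶ H)
    (hy : FGA.hilbPull (CohB1.ProjSpaceOver.toBase n (Spec (CommRingCat.of k))) y Z.1 = i.ker.comap (pullback.fst (CohB1.ProjSpaceOver.toBase n (Spec (CommRingCat.of k))) (Over.mk (𝟙 (Spec (CommRingCat.of k)))).hom))
    (h1 : Subsingleton (Coh.HH Y ((DCoh.sheafHom (Omega.conormal i)).obj (Coh.structureModule Y)) 1)) :
    IsRegularLocalRing (H.left.presheaf.stalk (y.left.base (IsLocalRing.closedPoint k))) ∧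
      ringKrullDim (H.left.presheaf.stalk (y.left.base (IsLocalRing.closedPoint k))) = (Module.finrank k (Coh.HH Y ((DCoh.sheafHom (Omega.conormal i)).obj (Coh.structureModule Y)) 0) : WithBot ℕ∞) := by
  haveI := hH.1
  let p₀ := CohB1.ProjSpaceOver.toBase n (Spec (CommRingCat.of k))
  haveI : IsProper p₀ := RelVALib.isProper_toBase n (Spec (CommRingCat.of k))
  haveI : IsLocallyNoetherian (CohB1.ProjSpaceOver n (Spec (CommRingCat.of k))) :=
    LocallyOfFiniteType.isLocallyNoetherian p₀
  haveI : IsLocallyNoetherian Y := LocallyOfFiniteType.isLocallyNoetherian i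
  have hreg' := LciLift29.isRegular_ker i hreg
  have hsplit := LciLift29.qSplits_ker i (LciLift29.qSplits_conormal_of_HH i h1)
  haveI hR : IsRegularLocalRing (H.left.presheaf.stalk (y.left.base (IsLocalRing.closedPoint k))) :=
    QuotSm29.isRegularLocalRing_of_lifts H.hom y.left (Over.w y) fun B A q hq u hu hc =>
      LciLift29.exists_lift_hilb hH hy q
        (LciLift29.localHilb_map_surjective_of_qSplits _ p₀ i.ker hreg' hsplit q hq) u hu hc
  refine ⟨hR, ?_⟩
  rw [← (IsRegularLocalRing.iff_finrank_cotangentSpace _).1 hR,
    S12265.result (CohB1.ProjSpaceOver n (Spec (CommRingCat.of k))) p₀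
      ⟨n, 𝟙 _, inferInstance, Category.id_comp _⟩ H Z hH Y i hi y hy]

end Groth.Agent.S12280
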