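import Groth.Statements.S12281
import Groth.Agent.LciLift29.Point
import Groth.Agent.QuotSm29.Lifts
import Groth.Agent.RelVALib.ChowPn
import Groth.Agent.Dual22Lib.ProjSmooth
import Groth.Agent.VarietyLib.SmoothStalk

set_option autoImplicit false
universe u
open CategoryTheory CategoryTheory.Limits AlgebraicGeometry
open scoped TensorProduct
attribute [local instance] HasDerivedCategory.standard
open DefT

namespace Groth.Agent.S12281

/-- Let k be an algebraically closed field, X = P^n_k, and (H, Z) a Hilbert scheme of X over k: H is a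
locally Noetherian k-scheme and Z ⊆ X ×_k H a closed subscheme, proper and flat over H, such that
every closed subscheme of X ×_k T proper and flat over a locally Noetherian k-scheme T is the
pull-back of Z along a unique k-morphism T → H. Let Y ⊆ X be a closed subscheme, regarded as a
k-scheme through X, with ideal sheaf I and normal sheaf N = Hom_{O_Y}(I/I², O_Y) (the sheaf Hom,
assumed to exist as the right adjoint of tensoring with I/I²), and let y ∈ H be the k-point
classifying Y (the pull-back of Z along Spec k → H is Y). If Y is Cohen–Macaulay of codimension 2 in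
X (every local ring of Y is Cohen–Macaulay and dim O_{X,y'} = dim O_{Y,y'} + 2 at every point y' of
Y) and H^1(Y, N) = 0, then H is nonsingular at y: the local ring O_{H,y} is regular. (The published
statement assumes 'no local obstructions to deformations of Y' and H^1(Y, N) = 0; this row is the
case, named in the text, where the first hypothesis holds because Y is Cohen–Macaulay of codimension
2.) -/
theorem result
    {k : Type u} [Field k] [IsAlgClosed k] (n : ℕ)
    (H : Over (Spec (CommRingCat.of k))) (Z : FGA.HilbSet (CohB1.ProjSpaceOver.toBase n (Spec (CommRingCat.of k))) H) (hH : FGA.HilbRepresentedBy (CohB1.ProjSpaceOver.toBase n (Spec (CommRingCat.of k))) H Z)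
    (Y : Scheme.{u}) (i : Y ⟶ CohB1.ProjSpaceOver n (Spec (CommRingCat.of k))) [IsClosedImmersion i]
    (hCM : ∀ y' : Y, LocCoh.IsCohenMacaulayLocalRing (Y.presheaf.stalk y'))
    (hcodim : ∀ y' : Y, ringKrullDim (Y.presheaf.stalk y') + 2 = ringKrullDim ((CohB1.ProjSpaceOver n (Spec (CommRingCat.of k))).presheaf.stalk (i.base y')))
    [DCoh.HasSheafHom (Omega.conormal i)]
    (y : Over.mk (𝟙 (Spec (CommRingCat.of k))) ⟶ H)
    (hy : FGA.hilbPull (CohB1.ProjSpaceOver.toBase n (Spec (CommRingCat.of k))) y Z.1 = i.ker.comap (pullback.fst (CohB1.ProjSpaceOver.toBase n (Spec (CommRingCat.of k))) (Over.mk (𝟙 (Spec (CommRingCat.of k)))).hom))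
    (h1 : Subsingleton (Coh.HH Y ((DCoh.sheafHom (Omega.conormal i)).obj (Coh.structureModule Y)) 1)) :
    IsRegularLocalRing (H.left.presheaf.stalk (y.left.base (IsLocalRing.closedPoint k))) := by
  haveI := hH.1
  let P := CohB1.ProjSpaceOver n (Spec (CommRingCat.of k))
  let p₀ := CohB1.ProjSpaceOver.toBase n (Spec (CommRingCat.of k))
  haveI : IsProper p₀ := RelVALib.isProper_toBase n (Spec (CommRingCat.of k))
  haveI : Smooth p₀ := Dual22Lib.ProjSmooth.smooth_toBase n (Spec (CommRingCat.of k))
  haveI : IsLocallyNoetherian P := LocallyOfFiniteType.isLocallyNoetherian p₀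
  haveI : IsLocallyNoetherian Y := LocallyOfFiniteType.isLocallyNoetherian i
  have hsplit := LciLift29.qSplits_ker i (LciLift29.qSplits_conormal_of_HH i h1)
  have hgood : LciLift29.IdealGood P p₀ i.ker := by
    let c : i.ker.subscheme ⟶ Y := inv i.toImage
    have hc : c ≫ i = i.ker.subschemeι := (IsIso.inv_comp_eq _).2 i.toImage_imageι.symm
    refine LciLift29.idealGood_of_cm P p₀ i.ker
      (fun z => VarietyLib.isRegularLocalRing_stalk_of_smooth k P p₀ _)
      (fun z => haveI := hCM (c z)
        CAlgH3.isCohenMacaulayLocalRing_of_ringEquiv (asIso (c.stalkMap z)).commRingCatIsoToRingEquiv) fun z => ?_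
    rw [← ringKrullDim_eq_of_ringEquiv (asIso (c.stalkMap z)).commRingCatIsoToRingEquiv, hcodim,
      ← Scheme.Hom.comp_apply, hc]
  exact QuotSm29.isRegularLocalRing_of_lifts H.hom y.left (Over.w y) fun B A q hq u hu hc =>
    LciLift29.exists_lift_hilb hH hy q
      (LciLift29.localHilb_map_surjective_of_good _ p₀ i.ker hgood hsplit q hq) u hu hc

end Groth.Agent.S12281
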