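import Groth.Statements.S12282
import Groth.Agent.LiftClass29.HilbPoint
import Groth.Agent.LiftClass29.DimBound
import Groth.Agent.S12265
import Groth.Agent.RelVALib.ChowPn

set_option autoImplicit false
universe u
open CategoryTheory CategoryTheory.Limits AlgebraicGeometry
open scoped TensorProduct
attribute [local instance] HasDerivedCategory.standard
open DefT

namespace Groth.Agent.S12282

/-- Let k be an algebraically closed field, X = P^n_k, and (H, Z) a Hilbert scheme of X over k: H is a
locally Noetherian k-scheme and Z ⊆ X ×_k H a closed subscheme, proper and flat over H, such that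
every closed subscheme of X ×_k T proper and flat over a locally Noetherian k-scheme T is the
pull-back of Z along a unique k-morphism T → H. Let Y ⊆ X be a closed subscheme, regarded as a
k-scheme through X, with ideal sheaf I and normal sheaf N = Hom_{O_Y}(I/I², O_Y) (the sheaf Hom,
assumed to exist as the right adjoint of tensoring with I/I²), and let y ∈ H be the k-point
classifying Y (the pull-back of Z along Spec k → H is Y). If Y → X is a regular closed immersion (Y
is a local complete intersection in X), then the dimension of H at y is at least h^0(Y, N) − h^1(Y,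
N), written dim_k H^0(Y, N) ≤ dim O_{H,y} + dim_k H^1(Y, N); and when equality holds, O_{H,y} is a
complete intersection ring (its completion is the quotient of a regular local ring modulo a regular
sequence). -/
theorem result
    {k : Type u} [Field k] [IsAlgClosed k] (n : ℕ)
    (H : Over (Spec (CommRingCat.of k))) (Z : FGA.HilbSet (CohB1.ProjSpaceOver.toBase n (Spec (CommRingCat.of k))) H) (hH : FGA.HilbRepresentedBy (CohB1.ProjSpaceOver.toBase n (Spec (CommRingCat.of k))) H Z)
    (Y : Scheme.{u}) [Y.Over (Spec (CommRingCat.of k))] (i : Y ⟶ CohB1.ProjSpaceOver n (Spec (CommRingCat.of k))) [IsClosedImmersion i]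
    (hi : i ≫ CohB1.ProjSpaceOver.toBase n (Spec (CommRingCat.of k)) = Y ↘ Spec (CommRingCat.of k))
    (hreg : Mor2.IsRegularClosedImmersion i)
    [DCoh.HasSheafHom (Omega.conormal i)]
    (y : Over.mk (𝟙 (Spec (CommRingCat.of k))) ⟶ H)
    (hy : FGA.hilbPull (CohB1.ProjSpaceOver.toBase n (Spec (CommRingCat.of k))) y Z.1 = i.ker.comap (pullback.fst (CohB1.ProjSpaceOver.toBase n (Spec (CommRingCat.of k))) (Over.mk (𝟙 (Spec (CommRingCat.of k)))).hom)) :
    (Module.finrank k (Coh.HH Y ((DCoh.sheafHom (Omega.conormal i)).obj (Coh.structureModule Y)) 0) : WithBot ℕ∞) ≤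
        ringKrullDim (H.left.presheaf.stalk (y.left.base (IsLocalRing.closedPoint k))) + (Module.finrank k (Coh.HH Y ((DCoh.sheafHom (Omega.conormal i)).obj (Coh.structureModule Y)) 1) : WithBot ℕ∞) ∧
      (ringKrullDim (H.left.presheaf.stalk (y.left.base (IsLocalRing.closedPoint k))) + (Module.finrank k (Coh.HH Y ((DCoh.sheafHom (Omega.conormal i)).obj (Coh.structureModule Y)) 1) : WithBot ℕ∞) =
          (Module.finrank k (Coh.HH Y ((DCoh.sheafHom (Omega.conormal i)).obj (Coh.structureModule Y)) 0) : WithBot ℕ∞) →
        Pi1.IsCompleteIntersection (H.left.presheaf.stalk (y.left.base (IsLocalRing.closedPoint k)))) := by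
  let P := CohB1.ProjSpaceOver n (Spec (CommRingCat.of k))
  let p₀ := CohB1.ProjSpaceOver.toBase n (Spec (CommRingCat.of k))
  haveI : IsProper p₀ := RelVALib.isProper_toBase n (Spec (CommRingCat.of k))
  haveI : IsLocallyNoetherian P := LocallyOfFiniteType.isLocallyNoetherian p₀
  haveI : IsLocallyNoetherian H.left := hH.1
  haveI : IsProper (Y ↘ Spec (CommRingCat.of k)) := by
    rw [← hi]
    infer_instance
  haveI : HasExt.{u} Y.Modules := inferInstance
  let N := (DCoh.sheafHom (Omega.conormal i)).obj (Coh.structureModule Y)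
  have htan := S12265.result P p₀ ⟨n, 𝟙 _, inferInstance, Category.id_comp _⟩ H Z hH Y i hi y hy
  let j := LiftClass29.baseIso (k := k)
  let gb : ArtFunLib.QuotLift.TA (ArtFun.Art.base k k) ⟶ H := j.hom ≫ y
  have hleft : gb.left = y.left := by
    show 𝟙 _ ≫ y.left = y.left
    exact Category.id_comp _
  let O : Type u := H.left.presheaf.stalk (H8Coh.RatTangent.pt (LiftClass29.ptQ gb))
  letI : Algebra k O := (H8Coh.RatTangent.ρ H.hom (LiftClass29.ptQ gb)).toAlgebra
  let resO : O →ₐ[k] k := { H8Coh.RatTangent.χ (LiftClass29.ptQ gb) with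
    commutes' := fun c => H8Coh.RatTangent.χ_ρ_apply H.hom (LiftClass29.ptQ gb) (LiftClass29.ptQ_over gb) c }
  let W := CategoryTheory.Abelian.Ext ((Coherent.freeModOn Y).obj ⊤)
    (Coherent.internalHom (Omega.conormal i) (Coh.structureModule Y)) 1
  let e : W ≃ₗ[k] Coh.HH Y N 1 := LiftClass29.extEquivHH (Omega.conormal i) (Coh.structureModule Y)
  haveI : Module.Finite k (Coh.HH Y N 1) := LiftClass29.finite_HH_normal k i 1
  haveI : Module.Finite k W := Module.Finite.equiv e.symm
  have h := ObsDim29.embDim_le_and_ci O resO (fun c => ⟨algebraMap k O c, resO.commutes c⟩)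
    (LiftClass29.hasLinObs_hilb hH hy hi hreg gb hleft resO fun a => rfl)
  have hspan : (IsLocalRing.maximalIdeal O).spanFinrank = Module.finrank k (Coh.HH Y N 0) := by
    rw [← htan, IsLocalRing.spanFinrank_maximalIdeal_eq_finrank_cotangentSpace, ← hleft]
  rw [hspan, e.finrank_eq] at h
  rw [← hleft]
  exact h

end Groth.Agent.S12282
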