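import Groth.Statements.S12286
import Mathlib.RingTheory.Kaehler.Basic

set_option autoImplicit false
universe u w m
open scoped TensorProduct
open DefT

namespace Groth.Agent.S12286

/-- Let A → B be a ring homomorphism, P a presentation of B over A and M a B-module. The canonical
B-linear map from the A-derivations Der_A(B, M) = Hom_B(Ω_{B/A}, M) to T^0(B/A, M) (the kernel of
Hom_B(L₀, M) → Hom_B(L₁, M), L₀ = B ⊗_R Ω_{R/A}), sending a derivation D to b ⊗ dr ↦ b·D(r̄), is
bijective. -/
theorem result
    (A B : Type u) [CommRing A] [CommRing B] [Algebra A B] (ι σ : Type w) (P : Algebra.Presentation A B ι σ)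
    (M : Type m) [AddCommGroup M] [Module B M] [Module A M] [IsScalarTower A B M] :
    Function.Bijective (CotT.derToT0 P M) := by
  classical
  let R := P.toExtension.Ring
  have hsurj : Function.Surjective (algebraMap R B) := fun b => ⟨P.toExtension.σ b, P.toExtension.algebraMap_σ b⟩
  constructor
  · rw [injective_iff_map_eq_zero]
    intro D hD
    refine Derivation.ext fun b => ?_
    obtain ⟨r, rfl⟩ := hsurj b
    have h := LinearMap.congr_fun (congrArg Subtype.val hD) ((1 : B) ⊗ₜ KaehlerDifferential.D A R r)
    change CotT.derLift P M D _ = 0 at h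
    rw [CotT.derLift_tmul_D, one_smul] at h
    simpa using h
  · intro φ
    let f : R → M := fun r => (φ : CotT.L0 P →ₗ[B] M) ((1 : B) ⊗ₜ KaehlerDifferential.D A R r)
    have hker : ∀ r, algebraMap R B r = 0 → f r = 0 := by
      intro r hr
      have hr' : r ∈ LinearMap.range (CotT.jmap P) := by
        rw [CotT.range_jmap]
        exact (RingHom.mem_ker).2 hr
      obtain ⟨q, rfl⟩ := hr'
      have h := LinearMap.congr_fun (LinearMap.mem_ker.1 φ.2 : (φ : CotT.L0 P →ₗ[B] M) ∘ₗ CotT.d1 P = 0) ((1 : B) ⊗ₜ q)
      erw [LinearMap.comp_apply, CotT.d1_tmul, one_smul, LinearMap.zero_apply] at h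
      exact h
    have hadd : ∀ r s, f (r + s) = f r + f s := fun r s => by simp [f, TensorProduct.tmul_add]
    have hwd : ∀ r s, algebraMap R B r = algebraMap R B s → f r = f s := by
      intro r s h
      have h1 := hadd (r - s) s
      rw [sub_add_cancel, hker (r - s) (by rw [map_sub, h, sub_self]), zero_add] at h1
      exact h1
    have hmul : ∀ r s, f (r * s) = algebraMap R B r • f s + algebraMap R B s • f r := by
      intro r s
      simp only [f]
      rw [Derivation.leibniz, TensorProduct.tmul_add, map_add, ← map_smul (φ : CotT.L0 P →ₗ[B] M),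
        ← map_smul (φ : CotT.L0 P →ₗ[B] M), ← TensorProduct.smul_tmul, ← TensorProduct.smul_tmul, TensorProduct.smul_tmul',
        TensorProduct.smul_tmul', Algebra.smul_def, Algebra.smul_def, smul_eq_mul, smul_eq_mul]
    have hA : ∀ a : A, f (algebraMap A R a) = 0 := fun a => by simp [f]
    let σ := P.toExtension.σ
    have hσ : ∀ b, algebraMap R B (σ b) = b := P.toExtension.algebraMap_σ
    let D : Derivation A B M := Derivation.mk'
      { toFun := fun b => f (σ b)
        map_add' := fun b c => by
          rw [← hadd]; exact hwd _ _ (by simp [hσ])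
        map_smul' := fun a b => by
          rw [RingHom.id_apply, hwd (σ (a • b)) (algebraMap A R a * σ b)
            (by rw [hσ, map_mul, hσ, ← IsScalarTower.algebraMap_apply, Algebra.smul_def]),
            hmul, hA, smul_zero, add_zero, ← IsScalarTower.algebraMap_apply, algebraMap_smul] }
      (fun b c => by
        show f (σ (b * c)) = b • f (σ c) + c • f (σ b)
        rw [hwd (σ (b * c)) (σ b * σ c) (by rw [map_mul, hσ, hσ, hσ]), hmul, hσ, hσ])
    refine ⟨D, Subtype.ext ?_⟩
    change CotT.derLift P M D = (φ : CotT.L0 P →ₗ[B] M)
    refine LinearMap.ext fun z => ?_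
    induction z using TensorProduct.induction_on with
    | zero => simp
    | add x y hx hy => rw [map_add, map_add, hx, hy]
    | tmul b w =>
      have hw : w ∈ Submodule.span R (Set.range (KaehlerDifferential.D A R)) := by
        rw [KaehlerDifferential.span_range_derivation]; trivial
      induction hw using Submodule.span_induction generalizing b with
      | mem w hw =>
        obtain ⟨r, rfl⟩ := hw
        rw [CotT.derLift_tmul_D]
        show b • f (σ (algebraMap R B r)) = _
        rw [hwd _ r (hσ _), ← map_smul, TensorProduct.smul_tmul', smul_eq_mul, mul_one]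
      | zero => simp
      | add u v _ _ hu hv => rw [TensorProduct.tmul_add, map_add, map_add, hu, hv]
      | smul r u _ hu => rw [← TensorProduct.smul_tmul]; exact hu _

end Groth.Agent.S12286
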