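import Groth.Statements.S12287
import Groth.Agent.CotTLib.Comparison

set_option autoImplicit false
universe u w m
open scoped TensorProduct
open DefT

namespace Groth.Agent.S12287

/-- Let B be an A-algebra that is isomorphic over A to a polynomial ring A[x_j] in some set of
variables. Then for every B-module M the modules T^1(B/A, M) and T^2(B/A, M), computed from the
choice-free presentation of B over A (every element of B a variable, every element of the kernel a
relation), are zero. -/
theorem result
    (A B : Type u) [CommRing A] [CommRing B] [Algebra A B] (κ : Type u) (e : MvPolynomial κ A ≃ₐ[A] B)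
    (M : Type u) [AddCommGroup M] [Module B M] :
    Subsingleton (CotT.T1 (CotT.canon A B) M) ∧ Subsingleton (CotT.T2 (CotT.canon A B) M) := by
  classical
  let G : Algebra.Generators A B κ := Algebra.Generators.ofSurjective (fun i => e (MvPolynomial.X i))
    (fun b => ⟨e.symm b, (show MvPolynomial.aeval (fun i => e (MvPolynomial.X i)) (e.symm b) = b by
      rw [show MvPolynomial.aeval (fun i => e (MvPolynomial.X i)) = (e : MvPolynomial κ A →ₐ[A] B) from
        MvPolynomial.algHom_ext fun i => by simp]
      exact e.apply_symm_apply b)⟩)
  have hker : G.ker = ⊥ := by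
    rw [G.ker_eq_ker_aeval_val, eq_bot_iff]
    intro x hx
    rw [RingHom.mem_ker, show MvPolynomial.aeval G.val = (e : MvPolynomial κ A →ₐ[A] B) from
      MvPolynomial.algHom_ext fun i => by
        rw [MvPolynomial.aeval_X]; rfl] at hx
    rw [Ideal.mem_bot]
    exact e.injective (hx.trans (map_zero e).symm)
  let P : Algebra.Presentation A B κ PEmpty.{u+1} :=
    { toGenerators := G
      relation := PEmpty.elim
      span_range_relation_eq_ker := by rw [Set.range_eq_empty, Ideal.span_empty, hker] }
  have hL1 : ∀ z : CotT.L1 P, z = 0 := fun z => by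
    obtain ⟨f, rfl⟩ := CotTLib.toL1_surjective z
    rw [show f = 0 from Subsingleton.elim _ _, map_zero]
  have hL2 : ∀ z : CotT.L2 P, z = 0 := fun z => by
    obtain ⟨f, rfl⟩ := CotTLib.toL2_surjective z
    rw [show f = 0 from Subtype.ext (Subsingleton.elim _ _), map_zero]
  have h1 : Subsingleton (CotT.T1 P M) := by
    rw [CotTLib.subsingleton_T1_iff]
    refine fun g => ⟨0, CotTLib.comp_toCot_injective (LinearMap.ext fun z => ?_)⟩
    rw [hL1 z, map_zero, map_zero]
  have h2 : Subsingleton (CotT.T2 P M) := by
    rw [CotTLib.subsingleton_T2_iff]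
    exact fun α => ⟨0, LinearMap.ext fun z => by rw [hL2 z, map_zero, map_zero]⟩
  exact ⟨(CotTLib.T1equiv (CotT.canon A B) P M).toEquiv.subsingleton,
    (CotTLib.T2equiv (CotT.canon A B) P M).toEquiv.subsingleton⟩

end Groth.Agent.S12287
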