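import Groth.Statements.S12288
import Groth.Agent.CotTLib.Regular

set_option autoImplicit false
universe u w m
open scoped TensorProduct
open DefT

namespace Groth.Agent.S12288

/-- Let A be a local ring and A → B a surjective ring homomorphism whose kernel is generated by a
regular sequence a_1, …, a_r on A (each a_i is a non-zero-divisor on A/(a_1, …, a_{i-1}) and the
ideal is proper). Then T^2(B/A, M) = 0 for every B-module M, the module being computed from the
choice-free presentation of B over A. -/
theorem result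
    (A B : Type u) [CommRing A] [IsLocalRing A] [CommRing B] [Algebra A B]
    (hs : Function.Surjective (algebraMap A B)) (rs : List A) (hreg : RingTheory.Sequence.IsRegular A rs)
    (hI : RingHom.ker (algebraMap A B) = Ideal.ofList rs) (M : Type u) [AddCommGroup M] [Module B M] :
    Subsingleton (CotT.T2 (CotT.canon A B) M) := by
  classical
  let val : PEmpty.{u+1} → B := PEmpty.elim
  have hC : ∀ x : MvPolynomial PEmpty.{u+1} A, ∃ a, MvPolynomial.C a = x := fun x =>
    ⟨_, (MvPolynomial.eq_C_of_isEmpty x).symm⟩
  let G : Algebra.Generators A B PEmpty.{u+1} := Algebra.Generators.ofSurjective val fun b => by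
    obtain ⟨a, rfl⟩ := hs b
    exact ⟨MvPolynomial.C a, MvPolynomial.aeval_C _ _⟩
  have hker : G.ker = Ideal.span (Set.range fun i : Fin rs.length => (MvPolynomial.C rs[i] : MvPolynomial PEmpty.{u+1} A)) := by
    rw [G.ker_eq_ker_aeval_val]
    ext x
    obtain ⟨a, rfl⟩ := hC x
    rw [RingHom.mem_ker, MvPolynomial.aeval_C, ← RingHom.mem_ker, hI]
    have hrange : Set.range (fun i : Fin rs.length => (MvPolynomial.C rs[i] : MvPolynomial PEmpty.{u+1} A)) =
        MvPolynomial.C '' {r | r ∈ rs} := by
      ext z
      simp only [Set.mem_range, Set.mem_image, Set.mem_ofPred_eq, List.mem_iff_get]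
      constructor
      · rintro ⟨i, rfl⟩; exact ⟨_, ⟨i, rfl⟩, rfl⟩
      · rintro ⟨_, ⟨i, rfl⟩, rfl⟩; exact ⟨i, rfl⟩
    rw [hrange, ← Ideal.map_span]
    refine ⟨fun h => Ideal.mem_map_of_mem _ h, fun h => ?_⟩
    have hbij : Function.Surjective (MvPolynomial.C : A →+* MvPolynomial PEmpty.{u+1} A) := hC
    obtain ⟨a', ha', he⟩ := (Ideal.mem_map_iff_of_surjective _ hbij).1 h
    exact MvPolynomial.C_injective _ _ he ▸ ha'
  let P : Algebra.Presentation A B PEmpty.{u+1} (ULift.{u} (Fin rs.length)) :=
    { toGenerators := G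
      relation := fun i => MvPolynomial.C rs[i.down]
      span_range_relation_eq_ker := by
        rw [hker]
        exact congrArg Ideal.span (Set.ext fun z =>
          ⟨fun ⟨i, h⟩ => ⟨i.down, h⟩, fun ⟨i, h⟩ => ⟨ULift.up i, h⟩⟩) }
  have hQ : CotT.relKer P ≤ CotT.trivRel P := fun f hf => by
    let ev : MvPolynomial PEmpty.{u+1} A →+* A := (MvPolynomial.isEmptyRingEquiv A PEmpty).toRingHom
    have hev : ∀ x : MvPolynomial PEmpty.{u+1} A, MvPolynomial.C (ev x) = x := fun x => by
      obtain ⟨a, rfl⟩ := hC x
      exact congrArg MvPolynomial.C ((MvPolynomial.isEmptyRingEquiv A PEmpty).apply_eq_iff_eq_symm_apply.2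
        (by simp [MvPolynomial.isEmptyRingEquiv]; rfl))
    have hevC : ∀ a, ev (MvPolynomial.C a) = a := fun a => MvPolynomial.C_injective _ _ (hev _)
    let f' : Fin rs.length → MvPolynomial PEmpty.{u+1} A := fun i => f (ULift.up i)
    have hsum0 : ∑ i, f' i * MvPolynomial.C rs[i] = 0 := by
      have h : CotT.jmap P f = 0 := hf
      rw [CotT.jmap, Finsupp.linearCombination_apply] at h
      have h' := (Finsupp.sum_fintype f (fun i a => a • CotT.rel P i) (fun i => zero_smul _ _)).symm.trans h
      exact (Equiv.sum_comp Equiv.ulift.symm fun i => f i • CotT.rel P i).trans h'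
    have hsum : ∑ i : Fin rs.length, rs[i] • ev (f' i) = 0 := by
      rw [← map_zero ev, ← hsum0, map_sum]
      exact Finset.sum_congr rfl fun i _ => by rw [map_mul, hevC, smul_eq_mul, mul_comm]
    have hreg' : RingTheory.Sequence.IsWeaklyRegular A (List.ofFn fun i : Fin rs.length => rs[i]) := by
      rw [show (List.ofFn fun i : Fin rs.length => rs[i]) = rs from List.ofFn_getElem]
      exact hreg.toIsWeaklyRegular
    obtain ⟨d, hd⟩ := CotTLib.exists_alternating _ A hreg' _ hsum
    refine CotTLib.mem_trivRel_of_alternating Equiv.ulift.symm f (fun i j => MvPolynomial.C (d i j)) fun i => ?_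
    let w : Fin rs.length → MvPolynomial PEmpty.{u+1} A := fun j =>
      MvPolynomial.C rs[j] * (MvPolynomial.C (d i j) - MvPolynomial.C (d j i))
    refine (show f' i = ∑ j, w j from ?_)
    refine (hev (f' i)).symm.trans ?_
    rw [hd i, map_sum]
    exact Finset.sum_congr rfl fun j _ => (map_mul _ _ _).trans (congrArg _ (map_sub _ _ _))
  have := CotTLib.subsingleton_T2_of_relKer_le hQ M
  exact (CotTLib.T2equiv (CotT.canon A B) P M).toEquiv.subsingleton

end Groth.Agent.S12288
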