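import Groth.Statements.S1229
import Groth.Agent.CAlgH.FlatLocusH.Main

set_option autoImplicit false
universe u
open FlatMor

namespace Groth.Agent.S1229

open IsLocalRing in
/-- Let A be a henselian local ring, A → B a local homomorphism of local rings which is essentially of
finite type, and M a finite B-module. Then some ideal I of A has the following property: for any
local ring A' with a local structure map from A, writing B', M' for the base changes of B, M to A'
(any models), M' is flat over A' at all primes of B' lying above both maximal ideals exactly when
IA' = 0. If A → B is essentially of finite presentation and M is finitely presented over B then I is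
finitely generated. -/
theorem result {A B : Type u} [CommRing A] [HenselianLocalRing A] [CommRing B] [IsLocalRing B] [Algebra A B]
    [IsLocalHom (algebraMap A B)] [Algebra.EssFiniteType A B]
    (M : Type u) [AddCommGroup M] [Module B M] [Module A M] [IsScalarTower A B M] [Module.Finite B M] :
    ∃ I : Ideal A,
      (∀ (A' B' M' : Type u) [CommRing A'] [IsLocalRing A'] [Algebra A A'] [IsLocalHom (algebraMap A A')]
        [CommRing B'] [Algebra B B'] [Algebra A' B'] [Algebra A B'] [IsScalarTower A B B'] [IsScalarTower A A' B']
        [Algebra.IsPushout A B A' B']
        [AddCommGroup M'] [Module B' M'] [Module B M'] [IsScalarTower B B' M'] [Module A' M'] [IsScalarTower A' B' M']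
        (f : M →ₗ[B] M'), IsBaseChange B' f →
        ((∀ (q : Ideal B') [q.IsPrime], (maximalIdeal A').map (algebraMap A' B') ⊔ (maximalIdeal B).map (algebraMap B B') ≤ q →
            FlatCA.FlatAt A' q M') ↔ I.map (algebraMap A A') = ⊥)) ∧
      (FlatCA.EssFinitePresentation A B → Module.FinitePresentation B M → I.FG) := by
  refine ⟨Groth.Agent.CAlgH.FlatLocusH.flatIdeal A M, ?_, fun hB hM => ?_⟩
  · intro A' B' M' _ _ _ _ _ _ _ _ _ _ _ _ _ _ _ _ _ f hf
    exact Groth.Agent.CAlgH.FlatLocusH.flatAt_iff_map_flatIdeal_eq_bot f hf
  · exact Groth.Agent.CAlgH.FlatLocusH.flatIdeal_fg (B := B) hB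

end Groth.Agent.S1229
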