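import Groth.Statements.S12290
import Mathlib
import Groth.Agent.CotTLib.RegularLci
import Groth.Agent.FlatMor12.GenericSmooth
import Groth.Agent.VarietyLib.SmoothStalk

set_option autoImplicit false
universe u w m
open scoped TensorProduct
open DefT

namespace Groth.Agent.S12290

/-- Let k be an algebraically closed field and B a finitely generated k-algebra, X = Spec B. Then X is
nonsingular (localizing B at any prime ideal gives a regular local ring) exactly when T^1(B/k, M)
vanishes for every B-module M; and when X is nonsingular, T^2(B/k, M) vanishes too, for every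
B-module M. Here T^1, T^2 are computed from the choice-free presentation of B over k. -/
theorem result
    (k B : Type u) [Field k] [IsAlgClosed k] [CommRing B] [Algebra k B] [Algebra.FiniteType k B] :
    ((∀ (p : Ideal B) [p.IsPrime], IsRegularLocalRing (Localization.AtPrime p)) ↔
      ∀ (M : Type u) [AddCommGroup M] [Module B M], Subsingleton (CotT.T1 (CotT.canon k B) M)) ∧
    ((∀ (p : Ideal B) [p.IsPrime], IsRegularLocalRing (Localization.AtPrime p)) →
      ∀ (M : Type u) [AddCommGroup M] [Module B M], Subsingleton (CotT.T2 (CotT.canon k B) M)) := by
  classical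
  have : IsNoetherianRing B := Algebra.FiniteType.isNoetherianRing k B
  have : Algebra.FinitePresentation k B := Algebra.FinitePresentation.of_finiteType.1 inferInstance
  have fs : (∀ (p : Ideal B) [p.IsPrime], IsRegularLocalRing (Localization.AtPrime p)) → Algebra.FormallySmooth k B := by
    intro h
    refine Algebra.smoothLocus_eq_univ_iff.1 (Set.eq_univ_iff_forall.2 fun p => ?_)
    have := h p.asIdeal
    have : Algebra.EssFiniteType B (Localization.AtPrime p.asIdeal) :=
      Algebra.EssFiniteType.of_isLocalization _ p.asIdeal.primeCompl
    have : Algebra.EssFiniteType k (Localization.AtPrime p.asIdeal) := Algebra.EssFiniteType.comp k B _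
    exact Groth.Agent.FlatMor12.GenericSmooth.formallySmooth_of_regular_of_perfect k (Localization.AtPrime p.asIdeal)
  refine ⟨⟨fun h M _ _ => ?_, fun h p _ => ?_⟩, fun h M _ _ => ?_⟩
  · have := fs h
    exact Groth.Agent.CotTLib.subsingleton_T1_of_formallySmooth M
  · have : Algebra.FormallySmooth k B := Groth.Agent.CotTLib.formallySmooth_of_subsingleton_T1 (h _)
    have : Algebra.Smooth k B := ⟨inferInstance, inferInstance⟩
    exact Groth.Agent.VarietyLib.isRegularLocalRing_of_smooth k B p
  · have := fs h
    let P := Algebra.Presentation.ofFinitePresentation k B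
    have : Module.Projective B P.toExtension.Cotangent := Groth.Agent.CotTLib.projective_cotangent
    have : Subsingleton (CotT.T2 P M) :=
      Groth.Agent.CotTLib.subsingleton_T2_of_injective (Groth.Agent.CotTLib.injective_d2_of_regular P h) M
    exact Groth.Agent.CotTLib.subsingleton_T2_congr (P := P) (CotT.canon k B) M

end Groth.Agent.S12290
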