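import Groth.Statements.S12291
import Mathlib
import Groth.Agent.CotTLib.LciConverse
import Groth.Agent.CotTLib.Smooth
import Groth.Agent.S12285
import Groth.Agent.S12288
import Groth.Agent.EGA41Lib.CMParameters
import Groth.Agent.CAlgH3.RegularCore

set_option autoImplicit false
universe u w m
open scoped TensorProduct
open DefT

namespace Groth.Agent.S12291

/-- Let k be an algebraically closed field and A a regular local k-algebra with residue field k such
that T^1(A/k, N) = 0 and T^2(A/k, N) = 0 for all A-modules N; let I be a proper ideal of A and B =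
A/I. Then B is cut out of A as a local complete intersection — meaning I is generated by some list
of r elements with r + dim B = dim A, i.e. by dim A − dim B elements — exactly when T^2(B/k, M)
vanishes for each B-module M. The T^i are computed from the choice-free presentations. (The
published statement assumes only that A is a regular local k-algebra with residue field k; its proof
uses the vanishing of T^1(A/k, −) and T^2(A/k, −), which holds when A is essentially of finite type
over k and which this row carries as a hypothesis.) -/
theorem result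
    (k A : Type u) [Field k] [IsAlgClosed k] [CommRing A] [IsRegularLocalRing A] [Algebra k A]
    (hres : Function.Surjective (algebraMap k (IsLocalRing.ResidueField A)))
    (hT : ∀ (N : Type u) [AddCommGroup N] [Module A N],
      Subsingleton (CotT.T1 (CotT.canon k A) N) ∧ Subsingleton (CotT.T2 (CotT.canon k A) N))
    (I : Ideal A) (hI : I ≠ ⊤) :
    (∃ rs : List A, Ideal.ofList rs = I ∧ (rs.length : WithBot ℕ∞) + ringKrullDim (A ⧸ I) = ringKrullDim A) ↔
      ∀ (M : Type u) [AddCommGroup M] [Module (A ⧸ I) M], Subsingleton (CotT.T2 (CotT.canon k (A ⧸ I)) M) := by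
  classical
  let B := A ⧸ I
  have : Nontrivial B := Ideal.Quotient.nontrivial_iff.2 hI
  have : IsLocalRing B := .of_surjective' (Ideal.Quotient.mk I) Ideal.Quotient.mk_surjective
  have key : (∀ (M : Type u) [AddCommGroup M] [Module B M], Subsingleton (CotT.T2 (CotT.canon k B) M)) ↔
      ∀ (M : Type u) [AddCommGroup M] [Module B M], Subsingleton (CotT.T2 (CotT.canon A B) M) := by
    refine forall_congr' fun M => ?_
    refine forall_congr' fun _ => forall_congr' fun _ => ?_
    letI : Module A M := Module.compHom M (algebraMap A B)
    have : IsScalarTower A B M := .of_algebraMap_smul fun _ _ => rfl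
    obtain ⟨-, -, -, hex2, δ₀, δ₁, -, -, -, hδ⟩ := Groth.Agent.S12285.result k A B M
    have := (hT M).1
    have := (hT M).2
    refine ⟨fun h => subsingleton_of_forall_eq 0 fun z => ?_, fun h => subsingleton_of_forall_eq 0 fun z => ?_⟩
    · obtain ⟨y, rfl⟩ := (hδ z).1 (Subsingleton.elim _ _)
      rw [Subsingleton.elim y 0, map_zero]
    · obtain ⟨y, rfl⟩ := (hex2 z).1 (Subsingleton.elim _ _)
      rw [Subsingleton.elim y 0, map_zero]
  rw [key]
  have hdimI : ∀ rs : List A, Ideal.ofList rs = I →
      Module.supportDim A (A ⧸ (Ideal.ofList rs • (⊤ : Submodule A A))) = ringKrullDim (A ⧸ I) := fun rs h => by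
    rw [h, smul_eq_mul, Ideal.mul_top]
    exact Module.supportDim_quotient_eq_ringKrullDim I
  have hcm : LocCoh.IsCohenMacaulayModule A A :=
    (Groth.Agent.CAlgH3.isCohenMacaulayLocalRing_of_regular A).supportDim_eq_depth
  constructor
  · rintro ⟨rs, hrs, hdim⟩ M _ _
    have hm : ∀ x ∈ rs, x ∈ IsLocalRing.maximalIdeal A := fun x hx =>
      IsLocalRing.le_maximalIdeal hI (hrs ▸ Ideal.subset_span hx)
    have hw : RingTheory.Sequence.IsWeaklyRegular A rs :=
      (Groth.Agent.EGA41Lib.cm_regular_sequence rs A hcm hm).2 (by
        rw [hdimI rs hrs, Module.supportDim_self_eq_ringKrullDim, add_comm]; exact hdim.le)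
    refine Groth.Agent.S12288.result A B Ideal.Quotient.mk_surjective rs ⟨hw, ?_⟩
      (Ideal.mk_ker.trans hrs.symm) M
    rw [hrs, smul_eq_mul, Ideal.mul_top]
    exact fun h => hI h.symm
  · intro h
    obtain ⟨s, hcard, hs⟩ := (IsNoetherian.noetherian I).exists_span_finset_card_eq_spanFinrank
    let f : Fin s.card → A := fun i => (s.equivFin.symm i : A)
    have hrange : Set.range f = ↑s := by
      rw [show f = Subtype.val ∘ s.equivFin.symm from rfl, Set.range_comp, Equiv.range_eq_univ, Set.image_univ,
        Subtype.range_coe_subtype]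
      rfl
    have hf : Ideal.span (Set.range f) = I := hrange.symm ▸ hs
    have hw : RingTheory.Sequence.IsWeaklyRegular A (List.ofFn f) :=
      Groth.Agent.CotTLib.isWeaklyRegular_of_T2 I hI f hf hcard.le (fun M _ _ => h M) fun P M _ _ _ =>
        Groth.Agent.CotTLib.subsingleton_T2_congr (P := CotT.canon A B) P M
    have hof : Ideal.ofList (List.ofFn f) = I := by
      rw [← hf, Ideal.ofList]
      congr 1
      ext x
      simp [List.mem_ofFn]
    have hm : ∀ x ∈ List.ofFn f, x ∈ IsLocalRing.maximalIdeal A := fun x hx =>
      IsLocalRing.le_maximalIdeal hI (hof ▸ Ideal.subset_span hx)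
    refine ⟨List.ofFn f, hof, ?_⟩
    rw [add_comm, ← hdimI _ hof, ← Module.supportDim_self_eq_ringKrullDim]
    exact ((Groth.Agent.EGA41Lib.cm_regular_sequence _ A hcm hm).1 hw).1

end Groth.Agent.S12291
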