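import Groth.Statements.S12295
import Groth.Agent.CotTLib.RingIso

set_option autoImplicit false
universe u w m
open scoped TensorProduct
open DefT

namespace Groth.Agent.S12295

/-- Let k be a commutative ring, B a k-algebra and P a presentation of B over k with polynomial ring R =
k[x_i] (any set of variables), so that B = R/I; let P' be a presentation of B over R with no
polynomial variables (R itself mapping onto B, with chosen generators of I), and M a B-module. Then
T^2(B/R, M), computed from P', and T^2(B/k, M), computed from P, are isomorphic B-modules.
(Existence of a B-linear isomorphism only; the published statement has finitely many variables over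
a field and notes that any base ring works.) -/
theorem result
    (k B : Type u) [CommRing k] [CommRing B] [Algebra k B] (ι σ ι' σ' : Type w)
    (P : Algebra.Presentation k B ι σ) [IsEmpty ι']
    (P' : Algebra.Presentation P.toExtension.Ring B ι' σ')
    (M : Type m) [AddCommGroup M] [Module B M] :
    Nonempty (CotT.T2 P' M ≃ₗ[B] CotT.T2 P M) := by
  let R := P.toExtension.Ring
  let f : Algebra.Generators.Hom P.toGenerators P'.toGenerators :=
    { val := fun i => MvPolynomial.C (MvPolynomial.X i : R)
      aeval_val := fun i => by
        refine (MvPolynomial.aeval_C (R := R) _ _).trans ?_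
        exact (CotT.algebraMap_toExtension P (MvPolynomial.X i)).trans (MvPolynomial.aeval_X _ _) }
  let h : CotT.PresHom P P' := CotTLib.presHomOfHom P P' f
  have hτ : ∀ x : R, h.ringHom x = MvPolynomial.C x := fun x => by
    have : h.ringHom = (MvPolynomial.C : R →+* MvPolynomial ι' R) := by
      refine MvPolynomial.ringHom_ext (fun a => ?_) (fun i => ?_)
      · exact (f.toAlgHom_C a).trans rfl
      · exact f.toAlgHom_X i
    exact DFunLike.congr_fun this x
  have hbij : Function.Bijective h.ringHom := by
    constructor
    · intro x y hxy
      rw [hτ, hτ] at hxy
      exact MvPolynomial.C_injective _ _ hxy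
    · intro y
      exact ⟨_, (hτ _).trans (MvPolynomial.eq_C_of_isEmpty (y : MvPolynomial ι' R)).symm⟩
  exact ⟨LinearEquiv.ofBijective (h.T2pull M) (CotTLib.bijective_T2pull h hbij)⟩

end Groth.Agent.S12295
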