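import Groth.Statements.S12297
import Mathlib
import Groth.Agent.CotTLib.Localization
import Groth.Agent.S12290
import Groth.Agent.S12285
import Groth.Agent.FlatMor12.GenericSmooth
import Groth.Agent.VarietyLib.SmoothStalk

set_option autoImplicit false
universe u w m
open scoped TensorProduct
open DefT

namespace Groth.Agent.S12297

/-- Let k be an algebraically closed field, B a finitely generated k-algebra, m a maximal ideal of B and
B_m the localization, a local k-algebra with residue field k. Then B_m is a regular local ring if
and only if T^1(B_m/k, M) = 0 for all B_m-modules M, and in that case T^2(B_m/k, M) = 0 for all M as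
well; the T^i are computed from the choice-free presentation of B_m over k. (The published statement
is for a local k-algebra with residue field k, k algebraically closed, proved by localization from
the finitely generated case; this row states it for the localizations of finitely generated
k-algebras at maximal ideals, the case that proof covers.) -/
theorem result
    (k B : Type u) [Field k] [IsAlgClosed k] [CommRing B] [Algebra k B] [Algebra.FiniteType k B]
    (m : Ideal B) [m.IsMaximal] :
    (IsRegularLocalRing (Localization.AtPrime m) ↔
      ∀ (M : Type u) [AddCommGroup M] [Module (Localization.AtPrime m) M],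
        Subsingleton (CotT.T1 (CotT.canon k (Localization.AtPrime m)) M)) ∧
    (IsRegularLocalRing (Localization.AtPrime m) →
      ∀ (M : Type u) [AddCommGroup M] [Module (Localization.AtPrime m) M],
        Subsingleton (CotT.T2 (CotT.canon k (Localization.AtPrime m)) M)) := by
  classical
  let L := Localization.AtPrime m
  have : IsNoetherianRing B := Algebra.FiniteType.isNoetherianRing k B
  have : Algebra.FinitePresentation k B := Algebra.FinitePresentation.of_finiteType.1 inferInstance
  have : Algebra.EssFiniteType B L := Algebra.EssFiniteType.of_isLocalization _ m.primeCompl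
  have : Algebra.EssFiniteType k L := Algebra.EssFiniteType.comp k B _
  refine ⟨⟨fun h M _ _ => ?_, fun h => ?_⟩, fun h M _ _ => ?_⟩
  · have := h
    have : Algebra.FormallySmooth k L :=
      Groth.Agent.FlatMor12.GenericSmooth.formallySmooth_of_regular_of_perfect k L
    exact Groth.Agent.CotTLib.subsingleton_T1_of_formallySmooth M
  · have : Algebra.FormallySmooth k L := Groth.Agent.CotTLib.formallySmooth_of_subsingleton_T1 (h _)
    exact Groth.Agent.CAlgH.AdicSmooth.isRegularLocalRing_of_adicSmooth
      (Groth.Agent.CAlgH.AdicSmooth.of_formallySmooth (R := k))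
  · have := h
    have hsm : Algebra.IsSmoothAt k m :=
      Groth.Agent.FlatMor12.GenericSmooth.formallySmooth_of_regular_of_perfect k L
    obtain ⟨_, ⟨_, ⟨f, rfl⟩, rfl⟩, hfm, hfs⟩ := (PrimeSpectrum.isBasis_basic_opens.exists_subset_of_mem_open
      (show (⟨m, inferInstance⟩ : PrimeSpectrum B) ∈ Algebra.smoothLocus k B from hsm) Algebra.isOpen_smoothLocus)
    have hfm : f ∉ m := hfm
    let Bf := Localization.Away f
    have : Algebra.Smooth k Bf := Algebra.basicOpen_subset_smoothLocus_iff_smooth.1 hfs
    have : Algebra.FiniteType k Bf := Algebra.FiniteType.trans (S := B) inferInstance inferInstance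
    have hreg : ∀ (p : Ideal Bf) [p.IsPrime], IsRegularLocalRing (Localization.AtPrime p) := fun p _ =>
      Groth.Agent.VarietyLib.isRegularLocalRing_of_smooth k Bf p
    let ψ : Bf →+* L := IsLocalization.Away.lift (g := algebraMap B L) f
      (IsLocalization.map_units L (⟨f, hfm⟩ : m.primeCompl))
    letI : Algebra Bf L := ψ.toAlgebra
    have : IsScalarTower B Bf L := .of_algebraMap_eq' (IsLocalization.Away.lift_comp f _).symm
    have : IsScalarTower k Bf L := .of_algebraMap_eq fun x => by
      rw [IsScalarTower.algebraMap_apply k B L, IsScalarTower.algebraMap_apply k B Bf,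
        ← IsScalarTower.algebraMap_apply B Bf L]
    let N : Submonoid Bf := m.primeCompl.map (algebraMap B Bf)
    have : IsLocalization N L := IsLocalization.isLocalization_of_submonoid_le Bf L (Submonoid.powers f) _
      ((Submonoid.powers_le (n := f)).2 hfm)
    letI : Module Bf M := Module.compHom M (algebraMap Bf L)
    have : IsScalarTower Bf L M := .of_algebraMap_smul fun _ _ => rfl
    have hP : Subsingleton (CotT.T2 (CotT.canon k Bf) M) := (Groth.Agent.S12290.result k Bf).2 hreg M
    have : Subsingleton (CotT.T2 (Groth.Agent.CotTLib.locPres Bf L N) M) :=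
      Groth.Agent.CotTLib.subsingleton_T2_locPres L N M
    have hQ : Subsingleton (CotT.T2 (CotT.canon Bf L) M) :=
      Groth.Agent.CotTLib.subsingleton_T2_congr (P := Groth.Agent.CotTLib.locPres Bf L N) (CotT.canon Bf L) M
    obtain ⟨-, -, -, hex, -⟩ := Groth.Agent.S12285.result k Bf L M
    refine subsingleton_of_forall_eq 0 fun z => ?_
    obtain ⟨y, rfl⟩ := (hex z).1 (Subsingleton.elim _ _)
    rw [Subsingleton.elim y 0, map_zero]

end Groth.Agent.S12297
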