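import Groth.Statements.S12299
import Groth.Agent.ArtFunLib.Formal
import Mathlib.LinearAlgebra.Dual.Lemmas
-- import your own Groth.Agent.* helpers here

set_option autoImplicit false
universe u v
open CategoryTheory
open ArtFun

namespace Groth.Agent.S12299

/-- Let k be an algebraically closed field, F a set-valued functor on local Artinian k-algebras with
residue field k, and (R, ξ) a miniversal family for F, with R a complete local Noetherian k-algebra
with residue field k: the morphism h_R → F has the lifting property along surjections and is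
bijective on the dual numbers. Let S be a complete local Noetherian k-algebra with residue field k
and g₁, g₂ : R → S two k-algebra maps compatible with the augmentations along which ξ induces the
same formal family over S (the same compatible sequence in the F(S/m^(n+1))). Then g₁ and g₂ induce
the same map R → S/m_S², so the map R/m_R² → S/m_S² attached to a formal family over S is well
defined. (Coefficient rings are taken Noetherian here.) -/
theorem result
    {k : Type u} [Field k] [IsAlgClosed k] {F : ArtFun.Art k k ⥤ Type v}
    (R : ArtFun.CRing k k) (ξ : ArtFun.Family R.carrier R.res F) (hξ : ArtFun.IsMiniversal ξ)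
    (S : ArtFun.CRing k k) (g₁ g₂ : R.carrier →ₐ[k] S.carrier)
    (hg₁ : S.res.comp g₁ = R.res) (hg₂ : S.res.comp g₂ = R.res)
    (h : (ξ.along g₁ hg₁).toFormalElt = (ξ.along g₂ hg₂).toFormalElt) :
    (S.truncHom 1).1.comp g₁ = (S.truncHom 1).1.comp g₂ := by
  refine AlgHom.ext fun r => ?_
  let T := S.trunc 1
  let α : k →+* T := algebraMap k T
  have hres : ∀ c : k, T.res (α c) = c := fun c => T.res.commutes c
  have hsq : ∀ a b : T, T.res a = 0 → T.res b = 0 → a * b = 0 := by
    intro a b ha hb
    obtain ⟨a, rfl⟩ := ArtFunLib.truncHom_surjective S 1 a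
    obtain ⟨b, rfl⟩ := ArtFunLib.truncHom_surjective S 1 b
    rw [← map_mul, ArtFunLib.truncHom_eq_zero_iff]
    change a * b ∈ IsLocalRing.maximalIdeal S.carrier ^ 2
    rw [pow_two]
    exact Ideal.mul_mem_mul ((ArtFun.CRing.mem_maximalIdeal_iff S a).2 ha) ((ArtFun.CRing.mem_maximalIdeal_iff S b).2 hb)
  have hel := congrArg (fun w : ArtFun.FormalElt F S => w.elt 1) h
  by_contra hne
  set x := ((S.truncHom 1).1.comp g₁) r
  set y := ((S.truncHom 1).1.comp g₂) r
  obtain ⟨φ, hφ⟩ : ∃ φ : Module.Dual k T, φ (x - y) ≠ 0 := by
    by_contra hall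
    refine hne (sub_eq_zero.1 ((Module.forall_dual_apply_eq_zero_iff k (x - y)).1 fun φ => ?_))
    by_contra h0
    exact hall ⟨φ, h0⟩
  let ψ : T ⟶ ArtFun.Art.dual k k :=
    ⟨{ toFun := fun a => (T.res a, φ (a - α (T.res a)))
       map_one' := TrivSqZeroExt.ext (map_one T.res) (by
         change φ (1 - α (T.res 1)) = 0
         rw [map_one, map_one, sub_self, map_zero])
       map_zero' := TrivSqZeroExt.ext (map_zero T.res) (by
         change φ (0 - α (T.res 0)) = 0
         rw [map_zero, map_zero, sub_self, map_zero])
       map_add' := fun a b => TrivSqZeroExt.ext (map_add T.res a b) (by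
         change φ (a + b - α (T.res (a + b))) = φ (a - α (T.res a)) + φ (b - α (T.res b))
         rw [← map_add φ, map_add, map_add]; congr 1; ring)
       map_mul' := fun a b => TrivSqZeroExt.ext (map_mul T.res a b) (by
         change φ (a * b - α (T.res (a * b))) =
           T.res a • φ (b - α (T.res b)) + MulOpposite.op (T.res b) • φ (a - α (T.res a))
         rw [op_smul_eq_smul, ← map_smul, ← map_smul, ← map_add φ, Algebra.smul_def, Algebra.smul_def]
         congr 1
         have h0 := hsq (a - α (T.res a)) (b - α (T.res b)) (by rw [map_sub, hres, sub_self])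
           (by rw [map_sub, hres, sub_self])
         change _ = α _ * _ + α _ * _
         rw [map_mul, map_mul]
         linear_combination h0)
       commutes' := fun c => TrivSqZeroExt.ext (T.res.commutes c) (by
         change φ (α c - α (T.res (α c))) = TrivSqZeroExt.snd (algebraMap k (DualNumber k) c)
         rw [hres, sub_self, map_zero, TrivSqZeroExt.algebraMap_eq_inl', TrivSqZeroExt.snd_inl]) },
     AlgHom.ext fun a => rfl⟩
  let u₁ : ArtFun.HomSet R.carrier R.res T := ⟨(S.truncHom 1).1.comp g₁, by
    rw [← AlgHom.comp_assoc, (S.truncHom 1).2, hg₁]⟩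
  let u₂ : ArtFun.HomSet R.carrier R.res T := ⟨(S.truncHom 1).1.comp g₂, by
    rw [← AlgHom.comp_assoc, (S.truncHom 1).2, hg₂]⟩
  have he : ArtFun.HomSet.map ψ u₁ = ArtFun.HomSet.map ψ u₂ := hξ.2.1 (by
    rw [ξ.natural, ξ.natural]
    exact congrArg _ hel)
  have e1 : ψ x = ψ y := congrArg (fun u => u.1 r) he
  have e2 : φ (x - α (T.res x)) = φ (y - α (T.res y)) := congrArg TrivSqZeroExt.snd e1
  have e3 : T.res x = T.res y := congrArg TrivSqZeroExt.fst e1
  rw [← sub_eq_zero, ← map_sub φ, e3, sub_sub_sub_cancel_right] at e2
  exact hφ e2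

end Groth.Agent.S12299
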