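import Groth.Statements.S1230
import Groth.Agent.FlatMorDevissage.AssSpec

set_option autoImplicit false
universe u
open FlatMor

namespace Groth.Agent.S1230

open TensorProduct in
/-- Ring form, X = Spec B, X' = Spec B' affine: let B be a finite type A-algebra, N a finite B-module
flat over A, and B' a flat B-algebra such that every prime q of B, over p in A, whose extension to
the fibre ring over p is an associated prime of the fibre module of N is the contraction of a prime
of B'. Then the canonical map N → B' ⊗_B N is injective and remains injective after tensoring over A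
with any A-algebra. -/
theorem result {A B B' : Type u} [CommRing A] [CommRing B] [CommRing B'] [Algebra A B] [Algebra B B'] [Algebra A B'] [IsScalarTower A B B']
    [Algebra.FiniteType A B] [Module.Flat B B']
    (N : Type u) [AddCommGroup N] [Module B N] [Module A N] [IsScalarTower A B N] [Module.Finite B N] [Module.Flat A N]
    (h : ∀ (p : Ideal A) (q : Ideal B) [p.IsPrime] [q.IsPrime] [q.LiesOver p],
      FlatCA.fiberIdeal p q ∈ associatedPrimes (p.Fiber B) (FlatCA.fiberMod p B N) →
      ∃ q' : Ideal B', q'.IsPrime ∧ q'.comap (algebraMap B B') = q) :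
    ∀ (A' : Type u) [CommRing A'] [Algebra A A'],
      Function.Injective (((TensorProduct.mk B B' N 1).restrictScalars A).baseChange A') := by
  intro A' _ _
  rw [LinearMap.baseChange_eq_ltensor, LinearMap.lTensor_inj_iff_rTensor_inj, injective_iff_map_eq_zero]
  intro z hz
  by_contra hz0
  obtain ⟨Q, hQ, hzQ⟩ := Ideal.exists_le_maximal _
    (fun e => hz0 ((Groth.Agent.CAlgH3.annEl_eq_top (R := B)).1 e))
  obtain ⟨P, hP, -⟩ := Ideal.exists_minimalPrimes_le hzQ
  have := hP.1.1
  have : P.LiesOver (P.comap (algebraMap A B)) := ⟨rfl⟩
  obtain ⟨q', hq', hq'P⟩ := h (P.comap (algebraMap A B)) P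
    (Groth.Agent.FlatMorDevissage.fiberIdeal_mem_of_minimal z P hP _
      (Groth.Agent.FlatMorDevissage.flatAt_of_flat N P))
  have h1 : (1 : B') ⊗ₜ[B] z = 0 := by
    refine (TensorProduct.AlgebraTensorModule.assoc A B B B' N A').symm.injective ?_
    rw [map_zero, ← hz]
    clear hz hz0 hzQ hP
    induction z using TensorProduct.induction_on with
    | zero => simp
    | tmul n a => rfl
    | add a b ha hb => simp only [TensorProduct.tmul_add, map_add, ha, hb]
  exact Groth.Agent.FlatMorDevissage.not_annEl_le_comap z h1 q' (hq'P.symm ▸ hP.1.2)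

end Groth.Agent.S1230
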