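import Groth.Statements.S12304
import Groth.Agent.ArtFunLib.Completion
import Groth.Agent.ArtFunLib.PowerSeriesVersal
import Mathlib.AlgebraicGeometry.Noetherian
import Mathlib.AlgebraicGeometry.Stalk
-- import your own Groth.Agent.* helpers here

set_option autoImplicit false
universe u
open CategoryTheory CategoryTheory.Limits AlgebraicGeometry
open ArtFun

namespace Groth.Agent.S12304

set_option backward.isDefEq.respectTransparency false
open IsLocalRing

theorem exists_lift {R : CommRingCat.{u}} [IsLocalRing R] {X : Scheme.{u}} (g : Spec R ⟶ X) (y : X)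
    (h : g (closedPoint R) = y) : ∃ φ : X.presheaf.stalk y ⟶ R, Spec.map φ ≫ X.fromSpecStalk y = g := by
  subst h
  exact ⟨_, Scheme.Spec_stalkClosedPointTo_fromSpecStalk g⟩

/-- Let k be an algebraically closed field, M a locally Noetherian k-scheme and x₀ : Spec k → M a
k-rational point. For a local Artinian k-algebra A with residue field k consider the k-morphisms
Spec A → M whose restriction along the closed point Spec k → Spec A is x₀ (the local functor of M at
x₀, a morphism A → B acting by composition with Spec B → Spec A). This functor is pro-representable: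
there are a complete local Noetherian k-algebra R with residue field k and bijections, natural in A,
between the augmentation-compatible k-algebra maps R → A and these morphisms. (The published
statement is phrased for the fine moduli scheme M of a moduli problem, whose local functor at the
point of a given object is this one; M is taken locally Noetherian here so that the coefficient ring
is Noetherian.) -/
theorem result
    {k : Type u} [Field k] [IsAlgClosed k] (M : Scheme.{u}) (m : M ⟶ Spec (CommRingCat.of k))
    [IsLocallyNoetherian M] (x₀ : Spec (CommRingCat.of k) ⟶ M) (hx₀ : x₀ ≫ m = 𝟙 _) :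
    ∃ (R : ArtFun.CRing k k)
      (e : ∀ A : ArtFun.Art k k, ArtFun.HomSet R.carrier R.res A ≃
        {g : ArtFun.Art.spec A ⟶ M // g ≫ m = ArtFun.Art.specMap (ArtFun.Art.ofBase A) ∧ ArtFun.Art.specRes A ≫ g = x₀}),
      ∀ (A B : ArtFun.Art k k) (h : A ⟶ B) (φ : ArtFun.HomSet R.carrier R.res A),
        ((e B) (ArtFun.HomSet.map h φ)).1 = ArtFun.Art.specMap h ≫ ((e A) φ).1 := by
  let y : M := x₀ (closedPoint k)
  let T : CommRingCat.{u} := M.presheaf.stalk y
  haveI : IsPreimmersion (M.fromSpecStalk y) := inferInstance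
  haveI : Mono (M.fromSpecStalk y) := inferInstance
  haveI : IsNoetherianRing T := inferInstance
  let η : CommRingCat.of k ⟶ T := Spec.preimage (M.fromSpecStalk y ≫ m)
  have hη : Spec.map η = M.fromSpecStalk y ≫ m := Spec.map_preimage _
  obtain ⟨a0, ha0⟩ := exists_lift x₀ y rfl
  have hηa : η ≫ a0 = 𝟙 _ := Spec.map_injective (by
    rw [Spec.map_comp, hη, ← Category.assoc, ha0, hx₀, Spec.map_id])
  algebraize [η.hom]
  let aug : T →ₐ[k] k := AlgHom.mk a0.hom fun c => congrArg (fun f : CommRingCat.of k ⟶ CommRingCat.of k => f.hom c) hηa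
  obtain ⟨P, i, hi, -, -, -, huniv⟩ := Groth.Agent.ArtFunLib.exists_completion aug
    (fun c => ⟨algebraMap k T c, aug.commutes c⟩) (IsNoetherian.noetherian _)
  let pt : ∀ (A : ArtFun.Art k k), ArtFun.HomSet P.carrier P.res A →
      {g : ArtFun.Art.spec A ⟶ M // g ≫ m = ArtFun.Art.specMap (ArtFun.Art.ofBase A) ∧ ArtFun.Art.specRes A ≫ g = x₀} :=
    fun A ψ => ⟨Spec.map (CommRingCat.ofHom (ψ.1.comp i).toRingHom) ≫ M.fromSpecStalk y, by
      rw [Category.assoc, ← hη, ← Spec.map_comp]
      exact congrArg Spec.map (CommRingCat.hom_ext (RingHom.ext fun c => (ψ.1.comp i).commutes c)), by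
      rw [← Category.assoc, ← Spec.map_comp, ← ha0]
      refine congrArg (fun f => Spec.map f ≫ M.fromSpecStalk y) (CommRingCat.hom_ext (RingHom.ext fun t => ?_))
      show A.res (ψ.1 (i t)) = a0.hom t
      exact (AlgHom.congr_fun ψ.2 (i t)).trans (AlgHom.congr_fun hi t)⟩
  have hbij : ∀ A, Function.Bijective (pt A) := fun A => by
    refine ⟨fun ψ ψ' h => ?_, fun g => ?_⟩
    · have h1 := Spec.map_injective ((cancel_mono (M.fromSpecStalk y)).1 (congrArg Subtype.val h))
      have h2 : ψ.1.comp i = ψ'.1.comp i := AlgHom.ext fun t => congrArg (fun f => f.hom t) h1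
      have hg : (Groth.Agent.ArtFunLib.artCRing A).res.comp (ψ.1.comp i) = aug := by
        rw [← AlgHom.comp_assoc]; exact (congrArg (·.comp i) ψ.2).trans hi
      exact Subtype.ext ((huniv (Groth.Agent.ArtFunLib.artCRing A) (ψ.1.comp i) hg).unique ⟨ψ.2, rfl⟩ ⟨ψ'.2, h2.symm⟩)
    · obtain ⟨g, hg1, hg2⟩ := g
      have hc : g (closedPoint A) = y := by
        rw [show y = x₀ (closedPoint k) from rfl, ← hg2]
        show _ = g (Spec.map (CommRingCat.ofHom A.res.toRingHom) (closedPoint k))
        congr 1
        haveI : IsLocalHom A.res.toRingHom := IsLocalHom.of_surjective _ A.res_surjective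
        exact (IsLocalRing.comap_closedPoint A.res.toRingHom).symm
      obtain ⟨φ, hφ⟩ := exists_lift g y hc
      have hφk : η ≫ φ = CommRingCat.ofHom (ArtFun.Art.ofBase A).toAlgHom.toRingHom := Spec.map_injective (by
        rw [Spec.map_comp, hη, ← Category.assoc, hφ]; exact hg1)
      let φa : T →ₐ[k] A := AlgHom.mk φ.hom fun c => congrArg (fun f : CommRingCat.of k ⟶ CommRingCat.of A => f.hom c) hφk
      have hφr : φ ≫ CommRingCat.ofHom A.res.toRingHom = a0 := Spec.map_injective
        ((cancel_mono (M.fromSpecStalk y)).1 (by rw [Spec.map_comp, Category.assoc, hφ, ha0]; exact hg2))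
      have hg : (Groth.Agent.ArtFunLib.artCRing A).res.comp φa = aug :=
        AlgHom.ext fun t => congrArg (fun f : T ⟶ CommRingCat.of k => f.hom t) hφr
      obtain ⟨ψ, ⟨hψ, hψi⟩, -⟩ := huniv (Groth.Agent.ArtFunLib.artCRing A) φa hg
      refine ⟨⟨ψ, hψ⟩, Subtype.ext ?_⟩
      show Spec.map (CommRingCat.ofHom (ψ.comp i).toRingHom) ≫ _ = g
      rw [hψi]
      exact hφ
  refine ⟨P, fun A => Equiv.ofBijective _ (hbij A), fun A B h φ => ?_⟩
  show Spec.map (CommRingCat.ofHom ((h.toAlgHom.comp φ.1).comp i).toRingHom) ≫ _ = _ ≫ Spec.map _ ≫ _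
  rw [← Category.assoc, ← Spec.map_comp]
  rfl

end Groth.Agent.S12304
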