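import Groth.Statements.S12308
import Groth.Agent.Et18.DefAffHull
-- import your own Groth.Agent.* helpers here

set_option autoImplicit false
universe u
open CategoryTheory AlgebraicGeometry
open SGA7

namespace Groth.Agent.S12308

/-- Suppose Λ is a Noetherian local ring, complete for its maximal ideal, whose residue field is k (so
the map Λ → k is surjective), and work with functors on local Artinian Λ-algebras having residue
field k. Take X₀ to be an affine scheme of finite type over k, together with an open subscheme U ⊆
X₀ that is smooth over k and has finite complement (thus X₀ fails to be smooth at only finitely many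
points). Under these assumptions the deformation functor of X₀, which sends A to isomorphism classes
of schemes flat over Spec A whose closed fibre is X₀, has a hull; equivalently, there is a
miniversal family defined over a complete local Noetherian Λ-algebra with residue field k. -/
theorem result (Λ k : Type u) [CommRing Λ] [IsLocalRing Λ] [IsNoetherianRing Λ]
    [IsAdicComplete (IsLocalRing.maximalIdeal Λ) Λ] [Field k] [Algebra Λ k]
    (hk : Function.Surjective (algebraMap Λ k))
    (X : Scheme.{u}) [IsAffine X] (x : X ⟶ Spec (CommRingCat.of k)) [LocallyOfFiniteType x]
    (U : X.Opens) (hU : Smooth (U.ι ≫ x)) (hfin : ((U : Set X)ᶜ).Finite) :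
    ArtFun.HasHull (ArtFun.defFunctor (Λ := Λ) X x) := by
  exact Et18.DefAffHull.hasHull_affine hk X x U hU hfin

end Groth.Agent.S12308
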