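import Groth.Statements.S12314
import Mathlib
-- import your own Groth.Agent.* helpers here

set_option autoImplicit false
universe u
open CategoryTheory CategoryTheory.Limits AlgebraicGeometry MonObj
open SGA7

namespace Groth.Agent.S12314

/-- Let R be a henselian discrete valuation ring with fraction field K and residue field k, Ω a
separable closure of K, W a valuation subring of Ω lying over R, A and C abelian varieties over K
(proper, geometrically integral commutative group schemes), and u : C → A an isogeny, in the form: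
there are a homomorphism v : A → C and an integer n > 0 with v ∘ u = n and u ∘ v = n. Let ℓ be a
prime invertible in k and consider the ℓ-adic Tate modules of the Ω-points of C and A; call an
element fixed when all its components are fixed by the inertia group at W (for such ℓ the fixed part
is the inertia invariants). Then T_ℓ(u) maps the fixed part of T_ℓ(C) into the fixed part of T_ℓ(A)
and induces an isogeny between them: T_ℓ(u) is injective, and n times every fixed element of T_ℓ(A)
is the image of a fixed element of T_ℓ(C). (The case of a prime equal to the residue characteristic,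
where the fixed part is defined through the Néron model, is not stated.) -/
theorem result (R K Ω : Type u) [CommRing R] [IsDomain R] [IsDiscreteValuationRing R] [HenselianLocalRing R]
    [Field K] [Algebra R K] [IsFractionRing R K] [Field Ω] [Algebra K Ω] [IsSepClosure K Ω]
    (W : ValuationSubring Ω) (hW : SGA7.LiesOver K R W)
    (A C : Over (Spec (CommRingCat.of K))) [GrpObj A] [IsCommMonObj A] [IsProper A.hom] [GeometricallyIntegral A.hom]
    [GrpObj C] [IsCommMonObj C] [IsProper C.hom] [GeometricallyIntegral C.hom]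
    (u : C ⟶ A) [IsMonHom u] (v : A ⟶ C) [IsMonHom v] (n : ℕ) (hn : 0 < n)
    (huv : u ≫ v = (𝟙 C) ^ n) (hvu : v ≫ u = (𝟙 A) ^ n)
    (l : ℕ) (hl : l.Prime) (hlp : (l : IsLocalRing.ResidueField R) ≠ 0) :
    (∀ z : AbDual.TateMod C l (SGA7.pt Ω),
      (∀ (τ : Ω ≃ₐ[K] Ω) (m : ℕ), SGA7.IsInertia W τ →
        SGA7.galAct τ (AbDual.TateMod.component C l (SGA7.pt Ω) m z).toMul =
          (AbDual.TateMod.component C l (SGA7.pt Ω) m z).toMul) →
      (∀ (τ : Ω ≃ₐ[K] Ω) (m : ℕ), SGA7.IsInertia W τ →
        SGA7.galAct τ (AbDual.TateMod.component A l (SGA7.pt Ω) m (AbDual.tateMap u z)).toMul =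
          (AbDual.TateMod.component A l (SGA7.pt Ω) m (AbDual.tateMap u z)).toMul)) ∧
    (∀ z : AbDual.TateMod C l (SGA7.pt Ω), AbDual.tateMap (l := l) (T := SGA7.pt Ω) u z = 0 → z = 0) ∧
    (∀ y : AbDual.TateMod A l (SGA7.pt Ω),
      (∀ (τ : Ω ≃ₐ[K] Ω) (m : ℕ), SGA7.IsInertia W τ →
        SGA7.galAct τ (AbDual.TateMod.component A l (SGA7.pt Ω) m y).toMul =
          (AbDual.TateMod.component A l (SGA7.pt Ω) m y).toMul) →
      ∃ z : AbDual.TateMod C l (SGA7.pt Ω),
        (∀ (τ : Ω ≃ₐ[K] Ω) (m : ℕ), SGA7.IsInertia W τ →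
        SGA7.galAct τ (AbDual.TateMod.component C l (SGA7.pt Ω) m z).toMul =
          (AbDual.TateMod.component C l (SGA7.pt Ω) m z).toMul) ∧
        AbDual.tateMap (l := l) (T := SGA7.pt Ω) u z = n • y) := by
  have hpow : ∀ {B : Over (Spec (CommRingCat.of K))} [GrpObj B] (x : SGA7.pt Ω ⟶ B) (m : ℕ),
      x ≫ (𝟙 B) ^ m = x ^ m := fun {B} _ x m => by rw [MonObj.comp_pow, Category.comp_id]
  refine ⟨fun z hz τ m hτ => ?_, fun z hz => ?_, fun y hy => ⟨AbDual.tateMap v y, fun τ m hτ => ?_, ?_⟩⟩
  · rw [AbDual.tateMap_component, SGA7.galAct, ← Category.assoc]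
    exact congrArg (· ≫ u) (hz τ m hτ)
  · have hn0 : ∀ j, n • AbDual.TateMod.component C l (SGA7.pt Ω) j z = 0 := fun j => by
      have h1 : (AbDual.TateMod.component C l (SGA7.pt Ω) j z).toMul ≫ u =
          (1 : SGA7.pt Ω ⟶ A) := by
        rw [← AbDual.tateMap_component, hz, map_zero]; rfl
      have h2 : (AbDual.TateMod.component C l (SGA7.pt Ω) j z).toMul ≫ (u ≫ v) = 1 := by
        rw [← Category.assoc, h1, MonObj.one_comp]
      rw [huv, hpow] at h2
      exact Additive.toMul.injective (by rw [toMul_nsmul, h2]; rfl)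
    refine AbDual.TateMod.ext fun j => ?_
    obtain ⟨a, m, hm, hnm⟩ := Nat.exists_eq_pow_mul_and_not_dvd hn.ne' l hl.ne_one
    have hstep : ∀ a j, l ^ a • (z : ℕ → Additive (SGA7.pt Ω ⟶ C)) (j + a) =
        (z : ℕ → Additive (SGA7.pt Ω ⟶ C)) j := by
      intro a
      induction a with
      | zero => intro j; rw [pow_zero, one_nsmul]; rfl
      | succ a ih =>
        intro j
        rw [pow_succ, mul_nsmul', ← add_assoc, AbDual.TateMod.compat z (j + a), ih]
    have hm0 : m • (z : ℕ → Additive (SGA7.pt Ω ⟶ C)) j = 0 := by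
      rw [← hstep a j, ← mul_nsmul', mul_comm, ← hnm]
      exact hn0 (j + a)
    have hcop : Nat.Coprime m (l ^ j) :=
      Nat.Coprime.pow_right _ ((hl.coprime_iff_not_dvd.2 hm).symm)
    have h1 : addOrderOf ((z : ℕ → Additive (SGA7.pt Ω ⟶ C)) j) ∣ 1 := by
      rw [← hcop]
      exact Nat.dvd_gcd (addOrderOf_dvd_of_nsmul_eq_zero hm0)
        (addOrderOf_dvd_of_nsmul_eq_zero (z.torsion j))
    exact (AddMonoid.addOrderOf_eq_one_iff.1 (Nat.dvd_one.1 h1) : _)
  · rw [AbDual.tateMap_component, SGA7.galAct, ← Category.assoc]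
    exact congrArg (· ≫ v) (hy τ m hτ)
  · refine AbDual.TateMod.ext fun j => Additive.toMul.injective ?_
    change ((AbDual.TateMod.component A l (SGA7.pt Ω) j y).toMul ≫ v) ≫ u =
      (AbDual.TateMod.component A l (SGA7.pt Ω) j (n • y)).toMul
    rw [Category.assoc, hvu, hpow, map_nsmul, toMul_nsmul]

end Groth.Agent.S12314
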