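import Groth.Statements.S12315
import Groth.Agent.ArtFunLib.Cotangent
import Mathlib
-- import your own Groth.Agent.* helpers here

set_option autoImplicit false
universe u v
open CategoryTheory
open SGA7

namespace Groth.Agent.S12315

/-- Let Λ be a complete Noetherian local ring with residue field k (the map Λ → k surjective), and
consider functors on the category of local Artinian Λ-algebras with residue field k. Let F be such a
functor, R a complete local Noetherian Λ-algebra with residue field k, and ξ a family of F over R (a
morphism h_R → F) which is injective on k[ε]: distinct augmented Λ-algebra maps R → k[ε] give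
distinct elements of F(k[ε]). Then every endomorphism of the pair (R, ξ), that is every Λ-algebra
map α : R → R compatible with the augmentation such that transporting ξ along α gives back ξ, is an
automorphism of R. (The published statement is for formal objects of a cofibred groupoid; this row
is the case of a set-valued functor.) -/
theorem result (Λ k : Type u) [CommRing Λ] [IsLocalRing Λ] [IsNoetherianRing Λ]
    [IsAdicComplete (IsLocalRing.maximalIdeal Λ) Λ] [Field k] [Algebra Λ k]
    (hk : Function.Surjective (algebraMap Λ k))
    (F : ArtFun.Art Λ k ⥤ Type v) (R : ArtFun.CRing Λ k) (ξ : ArtFun.Family R.carrier R.res F)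
    (hinj : Function.Injective (ξ.app (ArtFun.Art.dual Λ k)))
    (α : R.carrier →ₐ[Λ] R.carrier) (hα : R.res.comp α = R.res) (hξ : ξ.along α hα = ξ) :
    Function.Bijective α := by
  have := R.isAdicComplete
  letI : Algebra R.carrier k := R.res.toRingHom.toAlgebra
  haveI : IsScalarTower Λ R.carrier k := IsScalarTower.of_algebraMap_eq fun l => (R.res.commutes l).symm
  have hres : IsScalarTower.toAlgHom Λ R.carrier k = R.res := AlgHom.ext fun _ => rfl
  have hsurj : Function.Surjective α := by
    refine ArtFunLib.surjective_of_cotangent α R.res_surjective R.res_surjective hα ?_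
    by_contra hne
    obtain ⟨D, hD0, hD⟩ := ArtFunLib.exists_derivation_ne_zero α R.res_surjective
      (show Function.Surjective (algebraMap R.carrier k) from R.res_surjective) (hres ▸ hα) hne
    apply hD0
    let g : R.carrier →ₐ[Λ] ArtFun.Art.dual Λ k :=
      { toFun := fun r => ((R.res r, D r) : TrivSqZeroExt k k)
        map_one' := TrivSqZeroExt.ext (map_one R.res) (D.map_one_eq_zero)
        map_mul' := fun a b => by
          refine TrivSqZeroExt.ext (map_mul R.res a b) ?_
          change D (a * b) = R.res a • D b + MulOpposite.op (R.res b) • D a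
          rw [D.leibniz, op_smul_eq_smul]
          rfl
        map_zero' := TrivSqZeroExt.ext (map_zero R.res) (map_zero D)
        map_add' := fun a b => TrivSqZeroExt.ext (map_add R.res a b) (map_add D a b)
        commutes' := fun l => TrivSqZeroExt.ext (R.res.commutes l) (D.map_algebraMap l) }
    let φ : ArtFun.HomSet R.carrier R.res (ArtFun.Art.dual Λ k) := ⟨g, AlgHom.ext fun _ => rfl⟩
    let ψ : ArtFun.HomSet R.carrier R.res (ArtFun.Art.dual Λ k) :=
      ⟨g.comp α, by rw [← AlgHom.comp_assoc, φ.2, hα]⟩
    have h : ξ.app _ ψ = ξ.app _ φ :=
      congrArg (fun η : ArtFun.Family R.carrier R.res F => η.app _ φ) hξ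
    have h2 := congrArg (fun χ : ArtFun.HomSet R.carrier R.res (ArtFun.Art.dual Λ k) => χ.1) (hinj h)
    ext r
    have h3 : ((g (α r) : ArtFun.Art.dual Λ k) : TrivSqZeroExt k k).snd = TrivSqZeroExt.snd (g r) :=
      congrArg TrivSqZeroExt.snd (congrArg (fun f : R.carrier →ₐ[Λ] ArtFun.Art.dual Λ k => f r) h2)
    change D r = 0
    exact (h3.symm : D r = D (α r)).trans (hD r)
  refine ⟨?_, hsurj⟩
  let it : ℕ → (R.carrier → R.carrier) := fun n => (⇑α)^[n]
  have hker : ∀ n, ∀ a b, it n (a + b) = it n a + it n b := fun n => by
    induction n with
    | zero => intros; rfl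
    | succ n ih =>
      intro a b
      simp only [it, Function.iterate_succ', Function.comp_apply] at ih ⊢
      rw [ih, map_add]
  have hmul : ∀ n, ∀ a b, it n (a * b) = it n a * it n b := fun n => by
    induction n with
    | zero => intros; rfl
    | succ n ih =>
      intro a b
      simp only [it, Function.iterate_succ', Function.comp_apply] at ih ⊢
      rw [ih, map_mul]
  have hzero : ∀ n, it n 0 = 0 := fun n => Function.iterate_fixed (map_zero α) n
  let I : ℕ →o Ideal R.carrier :=
    ⟨fun n =>
      { carrier := {a | it n a = 0}
        add_mem' := fun {a b} ha hb => by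
          simp only [Set.mem_setOf_eq] at ha hb ⊢; rw [hker, ha, hb, add_zero]
        zero_mem' := hzero n
        smul_mem' := fun c a ha => by
          simp only [Set.mem_setOf_eq, smul_eq_mul] at ha ⊢; rw [hmul, ha, mul_zero] },
      monotone_nat_of_le_succ fun n a (ha : it n a = 0) => by
        change it (n + 1) a = 0
        simp only [it, Function.iterate_succ', Function.comp_apply] at ha ⊢
        rw [ha, map_zero]⟩
  obtain ⟨N, hN⟩ := monotone_stabilizes_iff_noetherian.2 (inferInstance : IsNoetherian R.carrier R.carrier) I
  refine (injective_iff_map_eq_zero α).2 fun a ha => ?_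
  obtain ⟨b, rfl⟩ := hsurj.iterate N a
  have hb : b ∈ I (N + 1) := by
    change it (N + 1) b = 0
    simp only [it, Function.iterate_succ', Function.comp_apply]
    exact ha
  rw [← hN (N + 1) (Nat.le_succ _)] at hb
  exact hb

end Groth.Agent.S12315
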