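import Groth.Statements.S12316
import Groth.Agent.ArtFunLib.Torsor
import Mathlib
-- import your own Groth.Agent.* helpers here

set_option autoImplicit false
universe u v
open CategoryTheory
open SGA7

namespace Groth.Agent.S12316

/-- Suppose Λ is a Noetherian local ring, complete for its maximal ideal, whose residue field is k (so Λ
→ k is surjective), and work with functors defined on the category of local Artinian Λ-algebras
having residue field k. Take morphisms φ : F → G and ψ : G → H of such functors. Assume that each of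
F(k), G(k), H(k) consists of a single point; that for G the comparison map on fibre products A₁ ×_A
A₂ is surjective as soon as A₂ → A is surjective, and is bijective for products of the form A' ×_k
k[ε]; that for H the comparison map is bijective on every fibre product A₁ ×_A A₂ with A₂ → A
surjective; and that the induced map on tangent spaces G(k[ε]) → H(k[ε]) coming from ψ is injective.
Under these assumptions, φ ≫ ψ is smooth if and only if both φ and ψ are smooth. (The published
statement is for functors of cofibred groupoids with G semi-homogeneous and H homogeneous; this row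
is the case of set-valued functors.) -/
theorem result (Λ k : Type u) [CommRing Λ] [IsLocalRing Λ] [IsNoetherianRing Λ]
    [IsAdicComplete (IsLocalRing.maximalIdeal Λ) Λ] [Field k] [Algebra Λ k]
    (hk : Function.Surjective (algebraMap Λ k))
    {F G H : ArtFun.Art Λ k ⥤ Type v} (φ : F ⟶ G) (ψ : G ⟶ H)
    (hF : ArtFun.H0 F) (hG : ArtFun.H0 G ∧ ArtFun.S1 G ∧ ArtFun.Heps G) (hH0 : ArtFun.H0 H)
    (hH : ∀ ⦃B A A' A'' : ArtFun.Art Λ k⦄ (p' : B ⟶ A') (p'' : B ⟶ A'') (f' : A' ⟶ A) (f'' : A'' ⟶ A)
      (h : ArtFun.Art.IsFibreProd p' p'' f' f''), Function.Surjective f'' → Function.Bijective (ArtFun.cmp H h))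
    (hψ : Function.Injective (ArtFun.TangentSpace.map ψ)) :
    ArtFun.IsSmooth (φ ≫ ψ) ↔ (ArtFun.IsSmooth φ ∧ ArtFun.IsSmooth ψ) := by
  haveI : Module.Finite Λ k :=
    Module.Finite.of_surjective (Algebra.linearMap Λ k) hk
  have hGb : ArtFun.Hbar G := fun _ _ _ _ _ _ _ _ h hf => hG.2.1 _ _ _ _ h hf.1
  have hH2 : ArtFun.Heps H := fun _ _ _ _ h => hH _ _ _ _ h (ArtFun.Art.dual Λ k).res_surjective
  have hH4 : ArtFun.HSq H := fun _ _ _ _ _ _ h hf => hH _ _ _ _ h hf.1
  constructor
  · intro hs
    have hφ : ArtFun.IsSmooth φ := by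
      refine ArtFunLib.isSmooth_of_small fun B A μ hμ => ?_
      refine ArtFunLib.relCmp_surjective_iff.2 fun x y e => ?_
      obtain ⟨z, hz, hz'⟩ := ArtFunLib.relCmp_surjective_iff.1 (hs μ hμ.1) x (ψ.app B y) (by
        rw [← ArtFunLib.nat_app, ← e]; rfl)
      refine ⟨z, hz, ArtFunLib.eq_of_lift_of_injective hG.1 hGb hG.2.2 hH4 hH2 ψ hψ hμ ?_ hz'⟩
      rw [← ArtFunLib.nat_app, hz, e]
    refine ⟨hφ, fun B A μ hμ => ArtFunLib.relCmp_surjective_iff.2 fun x y e => ?_⟩
    obtain ⟨b⟩ := hF.1
    obtain ⟨w, -, hw⟩ := ArtFunLib.relCmp_surjective_iff.1 (hφ (ArtFun.Art.toBase A) A.res_surjective) b x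
      (ArtFunLib.base_eq hG.1 _ _)
    obtain ⟨z, hz, hz'⟩ := ArtFunLib.relCmp_surjective_iff.1 (hs μ hμ) w y (by
      rw [← e, ← hw]; rfl)
    exact ⟨φ.app B z, by rw [← ArtFunLib.nat_app, hz, hw], hz'⟩
  · rintro ⟨h₁, h₂⟩ B A μ hμ
    refine ArtFunLib.relCmp_surjective_iff.2 fun x y e => ?_
    obtain ⟨w, hw, hw'⟩ := ArtFunLib.relCmp_surjective_iff.1 (h₂ μ hμ) (φ.app A x) y e
    obtain ⟨z, hz, hz'⟩ := ArtFunLib.relCmp_surjective_iff.1 (h₁ μ hμ) x w hw.symm
    exact ⟨z, hz, by rw [← hw', ← hz']; rfl⟩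

end Groth.Agent.S12316
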