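import Groth.Statements.S12320
import Groth.Agent.ArtFunLib.Tangent
import Mathlib
-- import your own Groth.Agent.* helpers here

set_option autoImplicit false
universe u v
open CategoryTheory
open SGA7

namespace Groth.Agent.S12320

/-- Suppose Λ is a Noetherian local ring, complete for its maximal ideal, whose residue field is k (so
that Λ → k is onto), and work with functors defined on the category of local Artinian Λ-algebras
having residue field k. Take such a functor F for which F(k) is a singleton, for which the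
comparison map F(A₁ ×_A A₂) → F(A₁) ×_{F(A)} F(A₂) is surjective as soon as A₂ → A is surjective,
and for which this map is bijective in the case A' ×_k k[ε]. Call an element a ∈ F(R) versal for
small prolongations of the base point when, given any object R₀ whose augmentation R₀ → k is a small
extension and any b ∈ F(R₀), some morphism R → R₀ sends a to b. Assume a ∈ F(R) has this versality
property, that π₁ : R₁ → R is a small extension together with a₁ ∈ F(R₁) whose image is a, and that
g : R' → R is a morphism together with a' ∈ F(R') whose image is a. Then a morphism f : R' → R₁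
satisfying f ≫ π₁ = g and sending a' to a₁ exists exactly when some morphism f : R' → R₁ satisfying
f ≫ π₁ = g exists at all. (The published statement concerns semi-homogeneous cofibred groupoids;
this row treats only the set-valued functor case.) -/
theorem result (Λ k : Type u) [CommRing Λ] [IsLocalRing Λ] [IsNoetherianRing Λ]
    [IsAdicComplete (IsLocalRing.maximalIdeal Λ) Λ] [Field k] [Algebra Λ k]
    (hk : Function.Surjective (algebraMap Λ k))
    (F : ArtFun.Art Λ k ⥤ Type v) (hF : ArtFun.H0 F ∧ ArtFun.S1 F ∧ ArtFun.Heps F)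
    {R R₁ R' : ArtFun.Art Λ k} (π₁ : R₁ ⟶ R) (hπ : ArtFun.Art.IsSmallExt π₁) (g : R' ⟶ R)
    (a : F.obj R) (a₁ : F.obj R₁) (a' : F.obj R') (h₁ : F.map π₁ a₁ = a) (h' : F.map g a' = a)
    (hvers : ∀ (R₀ : ArtFun.Art Λ k), ArtFun.Art.IsSmallExt (ArtFun.Art.toBase R₀) →
      ∀ b : F.obj R₀, ∃ φ : R ⟶ R₀, F.map φ a = b) :
    (∃ f : R' ⟶ R₁, f ≫ π₁ = g ∧ F.map f a' = a₁) ↔ (∃ f : R' ⟶ R₁, f ≫ π₁ = g) := by
  haveI : Module.Finite Λ k := Module.Finite.of_surjective (Algebra.linearMap Λ k) hk
  refine ⟨fun ⟨f, hf, _⟩ => ⟨f, hf⟩, fun ⟨f₀, hf₀⟩ => ?_⟩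
  obtain ⟨t, ht⟩ := hπ.2.2.1
  obtain ⟨P, p₁, p₂, hP⟩ := ArtFunLib.exists_fibreProd π₁ π₁ hπ.1
  obtain ⟨δ, -, hg⟩ := ArtFunLib.exists_diff hπ ht hP
  obtain ⟨w, hw, hw'⟩ := (ArtFunLib.cmp_surjective_iff hP).1 (hF.2.1 _ _ _ _ hP hπ.1)
    (F.map f₀ a') a₁ (by rw [ArtFunLib.map_map, hf₀, h', h₁])
  have hsmall : ArtFun.Art.IsSmallExt (ArtFun.Art.toBase (ArtFun.Art.dual Λ k)) := by
    let ε : ↥(ArtFun.Art.dual Λ k) := (TrivSqZeroExt.inr 1 : DualNumber k)
    have hker : RingHom.ker (ArtFun.Art.toBase (ArtFun.Art.dual Λ k)).toAlgHom =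
        Ideal.span {ε} := by
      apply le_antisymm
      · intro z hz
        have hz0 : TrivSqZeroExt.fst (z : DualNumber k) = 0 := RingHom.mem_ker.1 hz
        refine Ideal.mem_span_singleton'.2 ⟨TrivSqZeroExt.inl (TrivSqZeroExt.snd (z : DualNumber k)), ?_⟩
        have key : ∀ y : TrivSqZeroExt k k, y.fst = 0 →
            TrivSqZeroExt.inl y.snd * TrivSqZeroExt.inr 1 = y := fun y hy => by
          rw [TrivSqZeroExt.inl_mul_inr]
          exact TrivSqZeroExt.ext (by simp [hy]) (by simp)
        exact key z hz0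
      · rw [Ideal.span_le, Set.singleton_subset_iff]
        exact RingHom.mem_ker.2 (TrivSqZeroExt.fst_inr k (1 : k))
    refine ⟨(ArtFun.Art.dual Λ k).res_surjective, ?_, ⟨⟨_, hker⟩⟩, ?_⟩
    · intro h
      rw [hker, Ideal.span_singleton_eq_bot] at h
      have := congrArg (fun z : TrivSqZeroExt k k => z.snd) h
      exact one_ne_zero (α := k) this
    · rw [eq_bot_iff, Ideal.mul_le]
      intro x hx y hy
      have hx0 : TrivSqZeroExt.fst (x : DualNumber k) = 0 :=
        (ArtFun.Art.mem_maximalIdeal_iff _ _).1 hx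
      have hy0 : TrivSqZeroExt.fst (y : DualNumber k) = 0 := RingHom.mem_ker.1 hy
      refine TrivSqZeroExt.ext ?_ ?_
      · change TrivSqZeroExt.fst (x : DualNumber k) * TrivSqZeroExt.fst (y : DualNumber k) = 0
        rw [hx0, zero_mul]
      · change TrivSqZeroExt.fst (x : DualNumber k) • TrivSqZeroExt.snd (y : DualNumber k) +
          MulOpposite.op (TrivSqZeroExt.fst (y : DualNumber k)) • TrivSqZeroExt.snd (x : DualNumber k) = 0
        rw [hx0, hy0, zero_smul, MulOpposite.op_zero, zero_smul, add_zero]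
  obtain ⟨φ, hφ⟩ := hvers _ hsmall (F.map δ w)
  obtain ⟨l, hl₁, hl₂⟩ := ArtFunLib.IsFibreProd.exists_lift hg f₀ (g ≫ φ)
    (ArtFunLib.base_subsingleton _ _)
  have hlw : F.map l a' = w := by
    refine (ArtFunLib.cmp_injective_iff hg).1 (hF.2.2 _ _ hg).1 _ _ ?_ ?_
    · rw [ArtFunLib.map_map, hl₁, hw]
    · rw [ArtFunLib.map_map, hl₂, ← ArtFunLib.map_map, h', hφ]
  refine ⟨l ≫ p₂, ?_, ?_⟩
  · rw [Category.assoc, ← hP.w, ← Category.assoc, hl₁, hf₀]
  · rw [← ArtFunLib.map_map, hlw, hw']

end Groth.Agent.S12320
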