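import Groth.Statements.S12729
import Groth.Agent.ArtFunLib.Torsor
import Groth.Agent.ArtFunLib.Formal
-- import your own Groth.Agent.* helpers here

set_option autoImplicit false
universe u v
open CategoryTheory
open ArtFun

namespace Groth.Agent.S12729

/-- For functors, let F satisfy (S1), let p : B → A be a surjection in the category of Artinian local
Λ-algebras with residue field k whose kernel I is annihilated by m_B, and let x ∈ F(A). Then the set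
of ideals J ⊆ I for which x lifts to F(B/J) along B/J → A has a least element. -/
theorem result {Λ : Type u} {k : Type u} [CommRing Λ] [Field k] [Algebra Λ k]
    [IsNoetherianRing Λ] [Module.Finite Λ k]
    {F : ArtFun.Art Λ k ⥤ Type v} (h1 : ArtFun.S1 F)
    {B A : ArtFun.Art Λ k} (p : B ⟶ A) (hp : ArtFun.Art.IsSemismallExt p) (x : F.obj A) :
    ∃ (J₀ : Ideal B) (hJ₀ : J₀ ≤ RingHom.ker p.toAlgHom) (hJ₀' : J₀ ≤ IsLocalRing.maximalIdeal B),
      (∃ y : F.obj (ArtFun.Art.quot B J₀ hJ₀'), F.map (ArtFun.Art.quotFactor hJ₀' p hJ₀) y = x) ∧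
      ∀ (J : Ideal B) (hJ : J ≤ RingHom.ker p.toAlgHom) (hJ' : J ≤ IsLocalRing.maximalIdeal B),
        (∃ y : F.obj (ArtFun.Art.quot B J hJ'), F.map (ArtFun.Art.quotFactor hJ' p hJ) y = x) → J₀ ≤ J := by
  classical
  have hI : ∀ {J : Ideal B}, J ≤ RingHom.ker p.toAlgHom → J ≤ IsLocalRing.maximalIdeal B :=
    fun h => h.trans (ArtFunLib.ker_le_max p)
  let Lifts : Ideal B → Prop := fun J => ∃ (hJ : J ≤ RingHom.ker p.toAlgHom),
    ∃ y : F.obj (ArtFun.Art.quot B J (hI hJ)), F.map (ArtFun.Art.quotFactor (hI hJ) p hJ) y = x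
  have htop : Lifts (RingHom.ker p.toAlgHom) := by
    refine ⟨le_rfl, ?_⟩
    have := ArtFunLib.isIso_of_bijective (ArtFun.Art.quotFactor (hI le_rfl) p le_rfl) ⟨fun a b hab => by
      obtain ⟨a, rfl⟩ := ArtFun.Art.quotMk_surjective B _ (hI le_rfl) a
      obtain ⟨b, rfl⟩ := ArtFun.Art.quotMk_surjective B _ (hI le_rfl) b
      refine (ArtFunLib.quotMk_eq_iff _ a b).2 (RingHom.mem_ker.2 ?_)
      rw [map_sub, sub_eq_zero]
      exact hab, ArtFunLib.quotFactor_surjective _ p le_rfl hp.1⟩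
    exact ⟨_, ArtFunLib.map_map_inv F _ x⟩
  have hinter : ∀ J₁ J₂, Lifts J₁ → Lifts J₂ → ∀ J, J = J₁ ⊓ J₂ → Lifts J := by
    rintro J₁ J₂ ⟨hJ₁, y₁, hy₁⟩ ⟨hJ₂, y₂, hy₂⟩ J rfl
    obtain ⟨K, ⟨hK2, hKI, hK⟩, hmax⟩ := WellFounded.has_min (r := ((· > ·) : Ideal B → Ideal B → Prop))
      wellFounded_gt {K | J₂ ≤ K ∧ K ≤ RingHom.ker p.toAlgHom ∧ J₁ ⊓ K ≤ J₁ ⊓ J₂} ⟨J₂, le_rfl, hJ₂, le_rfl⟩
    have hsum : RingHom.ker p.toAlgHom ≤ J₁ ⊔ K := by
      intro e he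
      by_contra hne
      refine hmax (K ⊔ Ideal.span {e}) ⟨hK2.trans le_sup_left,
        sup_le hKI ((Ideal.span_singleton_le_iff_mem _).2 he), fun z hz => ?_⟩
        (lt_of_le_of_ne le_sup_left fun h => hne (Ideal.mem_sup_right (h ▸ Ideal.mem_sup_right
          (Ideal.mem_span_singleton_self e))))
      obtain ⟨hz1, hz2⟩ := Submodule.mem_inf.1 hz
      obtain ⟨a, ha, b, hb, rfl⟩ := Submodule.mem_sup.1 hz2
      obtain ⟨c, rfl⟩ := Ideal.mem_span_singleton'.1 hb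
      by_cases hc : c ∈ IsLocalRing.maximalIdeal B
      · have hce : c * e = 0 := ArtFunLib.mul_eq_zero_of_semismall hp hc (RingHom.mem_ker.1 he)
        rw [hce, add_zero] at hz1 ⊢
        exact hK ⟨hz1, ha⟩
      · have hu : IsUnit c := not_not.1 fun hu => hc ((IsLocalRing.mem_maximalIdeal _).2 hu)
        refine absurd ((Ideal.unit_mul_mem_iff_mem _ hu).1 ?_) hne
        rw [show c * e = (a + c * e) - a by ring]
        exact sub_mem (Ideal.mem_sup_left hz1) (Ideal.mem_sup_right ha)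
    have hJ : J₁ ⊓ J₂ ≤ RingHom.ker p.toAlgHom := inf_le_left.trans hJ₁
    have k₁ : J₁ ⊓ J₂ ≤ RingHom.ker (ArtFun.Art.quotMk B J₁ (hI hJ₁)).toAlgHom := fun a ha =>
      RingHom.mem_ker.2 ((ArtFunLib.quotMk_eq_zero_iff _ a).2 ha.1)
    have k₂ : J₁ ⊓ J₂ ≤ RingHom.ker (ArtFun.Art.quotMk B K (hI hKI)).toAlgHom := fun a ha =>
      RingHom.mem_ker.2 ((ArtFunLib.quotMk_eq_zero_iff _ a).2 (hK2 ha.2))
    have k₃ : J₂ ≤ RingHom.ker (ArtFun.Art.quotMk B K (hI hKI)).toAlgHom := fun a ha =>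
      RingHom.mem_ker.2 ((ArtFunLib.quotMk_eq_zero_iff _ a).2 (hK2 ha))
    have hfp : ArtFun.Art.IsFibreProd (ArtFun.Art.quotFactor (hI hJ) _ k₁) (ArtFun.Art.quotFactor (hI hJ) _ k₂)
        (ArtFun.Art.quotFactor (hI hJ₁) p hJ₁) (ArtFun.Art.quotFactor (hI hKI) p hKI) := by
      refine ⟨by rw [ArtFunLib.quotMk_comp_quotFactor _ _ k₁ p hJ, ArtFunLib.quotMk_comp_quotFactor _ _ k₂ p hJ],
        fun a b h₁ h₂ => ?_, fun a b h => ?_⟩
      · obtain ⟨a, rfl⟩ := ArtFun.Art.quotMk_surjective B _ (hI hJ) a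
        obtain ⟨b, rfl⟩ := ArtFun.Art.quotMk_surjective B _ (hI hJ) b
        exact (ArtFunLib.quotMk_eq_iff _ a b).2
          (hK ⟨(ArtFunLib.quotMk_eq_iff _ a b).1 h₁, (ArtFunLib.quotMk_eq_iff _ a b).1 h₂⟩)
      · obtain ⟨a, rfl⟩ := ArtFun.Art.quotMk_surjective B _ (hI hJ₁) a
        obtain ⟨b, rfl⟩ := ArtFun.Art.quotMk_surjective B _ (hI hKI) b
        have : a - b ∈ J₁ ⊔ K := hsum (RingHom.mem_ker.2 (by rw [map_sub, sub_eq_zero]; exact h))
        obtain ⟨u, hu, w, hw, e⟩ := Submodule.mem_sup.1 this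
        exact ⟨ArtFun.Art.quotMk B _ (hI hJ) (a - u),
          (ArtFunLib.quotMk_eq_iff _ (a - u) a).2 (by simpa using hu),
          (ArtFunLib.quotMk_eq_iff _ (a - u) b).2 (by
            rw [show a - u - b = w by linear_combination -e]; exact hw)⟩
    obtain ⟨y, hy, -⟩ := (ArtFunLib.cmp_surjective_iff hfp).1
      (h1 _ _ _ _ hfp (ArtFunLib.quotFactor_surjective _ p hKI hp.1)) y₁
      (F.map (ArtFun.Art.quotFactor (hI hJ₂) _ k₃) y₂)
      (by rw [hy₁, ArtFunLib.map_map, ArtFunLib.quotMk_comp_quotFactor _ _ k₃ p hJ₂, hy₂])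
    exact ⟨hJ, y, by rw [← ArtFunLib.quotMk_comp_quotFactor _ _ k₁ p hJ hJ₁, ← ArtFunLib.map_map, hy, hy₁]⟩
  obtain ⟨J₀, hJ₀, hmin⟩ := WellFounded.has_min (r := ((· < ·) : Ideal B → Ideal B → Prop))
    wellFounded_lt {J | Lifts J} ⟨_, htop⟩
  obtain ⟨hle, hy⟩ := hJ₀
  refine ⟨J₀, hle, hI hle, hy, fun J hJ _ hJy => ?_⟩
  by_contra hne
  exact hmin (J₀ ⊓ J) (hinter J₀ J ⟨hle, hy⟩ ⟨hJ, hJy⟩ _ rfl) (lt_of_le_of_ne inf_le_left fun h => hne (inf_eq_left.1 h))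

end Groth.Agent.S12729
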