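import Groth.Statements.S12321
import Groth.Agent.Schless.Construction
import Groth.Agent.ArtFunLib.Essential
import Groth.Agent.ArtFunLib.PowerSeriesVersal
-- import your own Groth.Agent.* helpers here

set_option autoImplicit false
universe u v
open CategoryTheory
open SGA7

namespace Groth.Agent.S12321

open ArtFun Groth.Agent.ArtFunLib Groth.Agent.Schless IsLocalRing

variable {Λ : Type u} {k : Type u} [CommRing Λ] [Field k] [Algebra Λ k]
variable {P : Type u} [CommRing P] [Algebra Λ P] {π : P →ₐ[Λ] k} {F : Art Λ k ⥤ Type v}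
variable [IsNoetherianRing Λ] [Module.Finite Λ k] [IsNoetherianRing P]

/-- The next stage, a semismall extension with the lifting property for small extensions. -/
theorem exists_next_semismall (hπ : Function.Surjective π) (h1 : S1 F)
    (hsm : ∀ ⦃B A : Art Λ k⦄ (p : B ⟶ A), Art.IsSmallExt p → ∀ φ : HomSet P π A,
      ∃ ψ : HomSet P π B, HomSet.map p ψ = φ) (s : Stage π F) :
    ∃ (t : Stage π F) (f : t.obj ⟶ s.obj), Art.IsSemismallExt f ∧ HomSet.map f t.hom = s.hom ∧ F.map f t.elt = s.elt ∧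
      ∀ ⦃B A : Art Λ k⦄ (p : B ⟶ A), Art.IsSmallExt p → ∀ (g : s.obj ⟶ A) (y : F.obj B),
        F.map p y = F.map g s.elt → ∃ g' : t.obj ⟶ B, g' ≫ p = f ≫ g := by
  let K : Ideal P := RingHom.ker π * RingHom.ker s.hom.1
  obtain ⟨N, hN⟩ := exists_pow_le_ker s.hom
  obtain ⟨E, qE, hqE, hkerE⟩ := exists_quotObj hπ K Ideal.mul_le_left (N + 1) (by
    rw [pow_succ']; exact Ideal.mul_mono_right hN)
  obtain ⟨e, he⟩ := exists_factor_of_ker qE hqE s.hom (hkerE.le.trans Ideal.mul_le_right)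
  have hsurj : Function.Surjective e := fun a => by
    obtain ⟨x, rfl⟩ := s.surj a
    exact ⟨qE.1 x, DFunLike.congr_fun (congrArg Subtype.val he) x⟩
  have hsemi : Art.IsSemismallExt e := by
    refine ⟨hsurj, eq_bot_iff.2 (Ideal.mul_le.2 fun a ha b hb => ?_)⟩
    obtain ⟨a, rfl⟩ := hqE a
    obtain ⟨b, rfl⟩ := hqE b
    rw [Art.mem_maximalIdeal_iff, hom_res] at ha
    rw [Ideal.mem_bot, ← map_mul, ← RingHom.mem_ker, hkerE]
    refine Ideal.mul_mem_mul (RingHom.mem_ker.2 ha) (RingHom.mem_ker.2 ?_)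
    rw [← he, hom_apply_map]
    exact RingHom.mem_ker.1 hb
  obtain ⟨J₀, hJ₀, hJ₀', ⟨x', hx'⟩, hmin⟩ := S12729.result h1 e hsemi s.elt
  let t : Stage π F :=
    { obj := Art.quot E J₀ hJ₀'
      hom := HomSet.map (Art.quotMk E J₀ hJ₀') qE
      surj := (Art.quotMk_surjective E J₀ hJ₀').comp hqE
      elt := x' }
  refine ⟨t, Art.quotFactor hJ₀' e hJ₀, ⟨quotFactor_surjective _ _ hJ₀ hsurj, eq_bot_iff.2 (Ideal.mul_le.2 fun a ha b hb => ?_)⟩,
    ?_, hx', ?_⟩
  · obtain ⟨a, rfl⟩ := Art.quotMk_surjective E J₀ hJ₀' a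
    obtain ⟨b, rfl⟩ := Art.quotMk_surjective E J₀ hJ₀' b
    rw [Art.mem_maximalIdeal_iff, Art.res_app] at ha
    rw [Ideal.mem_bot, ← map_mul]
    have hb' : e b = 0 := by
      rw [← Art.quotMk_quotFactor hJ₀' e hJ₀]
      exact RingHom.mem_ker.1 hb
    rw [mul_eq_zero_of_semismall hsemi ((E.mem_maximalIdeal_iff a).2 ha) hb', map_zero]
  · change HomSet.map _ (HomSet.map _ qE) = _
    rw [HomSet.map_map, Art.quotMk_quotFactor, he]
  intro B A p hp g y hy
  obtain ⟨ψ, hψ⟩ := hsm p hp (HomSet.map g s.hom)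
  have hψ' : ∀ x, p (ψ.1 x) = g (s.hom.1 x) := fun x =>
    DFunLike.congr_fun (congrArg Subtype.val hψ) x
  obtain ⟨e₀, he₀⟩ := exists_factor_of_ker qE hqE ψ (hkerE.le.trans (Ideal.mul_le.2 fun a ha b hb => by
    rw [RingHom.mem_ker, map_mul]
    exact mul_eq_zero_of_semismall hp.isSemismallExt (hom_mem_max ψ ha)
      (by rw [hψ', RingHom.mem_ker.1 hb, map_zero])))
  have hpe : e₀ ≫ p = e ≫ g := hom_epi qE hqE (by rw [← HomSet.map_map, ← HomSet.map_map, he₀, hψ, he])
  suffices hJ : J₀ ≤ RingHom.ker e₀.toAlgHom by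
    refine ⟨Art.quotFactor hJ₀' e₀ hJ, hom_ext_apply fun z => ?_⟩
    obtain ⟨z, rfl⟩ := Art.quotMk_surjective E J₀ hJ₀' z
    exact DFunLike.congr_fun (congrArg Art.Hom.toAlgHom hpe) z
  by_cases hcase : RingHom.ker e.toAlgHom ≤ RingHom.ker e₀.toAlgHom
  · exact hJ₀.trans hcase
  obtain ⟨b₀, hb₀, hb₀'⟩ := SetLike.not_le_iff_exists.1 hcase
  obtain ⟨C, c₁, c₂, hC⟩ := exists_fibreProd g p hp.1
  obtain ⟨G, hG₁, hG₂⟩ := IsFibreProd.exists_lift hC e e₀ hpe.symm
  obtain ⟨τ, hτ⟩ : ∃ τ, RingHom.ker p.toAlgHom = Ideal.span {τ} := ⟨_, hp.2.2.1.principal.choose_spec⟩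
  have hτ0 : p τ = 0 := RingHom.mem_ker.1 (hτ ▸ Ideal.mem_span_singleton_self τ)
  have hpb₀ : p (e₀ b₀) = 0 := by
    rw [← ArtFunLib.comp_apply', hpe, ArtFunLib.comp_apply', RingHom.mem_ker.1 hb₀, map_zero]
  obtain ⟨u, hu⟩ : ∃ u, u * τ = e₀ b₀ :=
    Ideal.mem_span_singleton'.1 (hτ ▸ RingHom.mem_ker.2 hpb₀)
  have hune : B.res u ≠ 0 := fun h0 => hb₀' (RingHom.mem_ker.2 (by
    rw [← hu]
    exact mul_eq_zero_of_semismall hp.isSemismallExt ((B.mem_maximalIdeal_iff u).2 h0) hτ0))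
  have hGsurj : Function.Surjective G := by
    intro c
    obtain ⟨a, ha⟩ := hsurj (c₁ c)
    have hd : c₂ c - e₀ a ∈ RingHom.ker p.toAlgHom := by
      rw [RingHom.mem_ker, map_sub, sub_eq_zero, ← ArtFunLib.comp_apply' e₀ p, hpe,
        ArtFunLib.comp_apply', ha]
      exact (hC.w_apply c).symm
    obtain ⟨w, hw⟩ : ∃ w, w * τ = c₂ c - e₀ a := Ideal.mem_span_singleton'.1 (hτ ▸ hd)
    obtain ⟨a', ha'⟩ := E.res_surjective (B.res w / B.res u)
    refine ⟨a + a' * b₀, hC.inj _ _ ?_ ?_⟩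
    · rw [← ArtFunLib.comp_apply' G c₁, hG₁, map_add, map_mul, RingHom.mem_ker.1 hb₀, mul_zero,
        add_zero, ha]
    · rw [← ArtFunLib.comp_apply' G c₂, hG₂, map_add, map_mul, ← hu, ← mul_assoc]
      have : e₀ a' * u * τ = w * τ := by
        rw [← sub_eq_zero, ← sub_mul]
        refine mul_eq_zero_of_semismall hp.isSemismallExt ((B.mem_maximalIdeal_iff _).2 ?_) hτ0
        rw [map_sub, map_mul, Art.res_app e₀, ha', div_mul_cancel₀ _ hune, sub_self]
      rw [this, hw, add_sub_cancel]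
  obtain ⟨z, hz, -⟩ := (cmp_surjective_iff hC).1 (h1 _ _ _ _ hC hp.1) s.elt y hy.symm
  have hJe : RingHom.ker G.toAlgHom ≤ RingHom.ker e.toAlgHom := fun a ha => RingHom.mem_ker.2 (by
    rw [← hG₁, ArtFunLib.comp_apply', RingHom.mem_ker.1 ha, map_zero])
  have hJm : RingHom.ker G.toAlgHom ≤ maximalIdeal E := ker_le_max G
  have : IsIso (Art.quotFactor hJm G le_rfl) := isIso_of_bijective _ ⟨fun a b hab => by
      obtain ⟨a, rfl⟩ := Art.quotMk_surjective E _ hJm a
      obtain ⟨b, rfl⟩ := Art.quotMk_surjective E _ hJm b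
      refine (quotMk_eq_iff hJm a b).2 (RingHom.mem_ker.2 ?_)
      rw [map_sub, sub_eq_zero]
      exact hab, quotFactor_surjective _ _ _ hGsurj⟩
  have hle := hmin _ hJe hJm ⟨F.map (inv (Art.quotFactor hJm G le_rfl)) z, by
    have : Art.quotFactor hJm e hJe = Art.quotFactor hJm G le_rfl ≫ c₁ := hom_ext_apply fun w => by
      obtain ⟨w, rfl⟩ := Art.quotMk_surjective E _ hJm w
      exact (DFunLike.congr_fun (congrArg Art.Hom.toAlgHom hG₁) w).symm
    rw [ArtFunLib.map_map, this, IsIso.inv_hom_id_assoc, hz]⟩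
  exact hle.trans fun a ha => RingHom.mem_ker.2 (by
    rw [← hG₂, ArtFunLib.comp_apply', RingHom.mem_ker.1 ha, map_zero])

end Groth.Agent.S12321

open Groth.Agent.ArtFunLib Groth.Agent.Schless
namespace Groth.Agent.S12321

/-- Suppose Λ is a Noetherian local ring that is complete, and k is its residue field, so the map Λ → k
is surjective. We look at functors on the category of local Artinian Λ-algebras whose residue field
is k. Take such a functor F for which F(k) is a single point, the comparison map F(A₁ ×_A A₂) →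
F(A₁) ×_{F(A)} F(A₂) is surjective whenever A₂ → A is surjective, and this map is bijective for A'
×_k k[ε]. Call an element a ∈ F(R) versal for small prolongations of the base point when, for each
object R₀ whose augmentation R₀ → k is a small extension and each b ∈ F(R₀), some morphism R → R₀
sends a to b. Assume a ∈ F(R) has this property. Then one can find an object R', a morphism q : R' →
R and an element a' ∈ F(R') whose image is a, satisfying the following. First, q is surjective and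
the maximal ideal annihilates its kernel. Second, q induces an isomorphism m_{R'}/(m_{R'}² + m_Λ R')
→ m_R/(m_R² + m_Λ R) between relative cotangent spaces (only injectivity is stated; surjectivity
comes for free). Third, a' is versal for small prolongations of a: given any small extension π₁ : R₁
→ R and any a₁ ∈ F(R₁) with image a, there is f : R' → R₁ satisfying f ≫ π₁ = q and sending a' to
a₁. (The published statement concerns semi-homogeneous cofibred groupoids; this row treats the case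
of set-valued functors.) -/
theorem result (Λ k : Type u) [CommRing Λ] [IsLocalRing Λ] [IsNoetherianRing Λ]
    [IsAdicComplete (IsLocalRing.maximalIdeal Λ) Λ] [Field k] [Algebra Λ k]
    (hk : Function.Surjective (algebraMap Λ k))
    (F : ArtFun.Art Λ k ⥤ Type v) (hF : ArtFun.H0 F ∧ ArtFun.S1 F ∧ ArtFun.Heps F)
    (R : ArtFun.Art Λ k) (a : F.obj R)
    (hvers : ∀ (R₀ : ArtFun.Art Λ k), ArtFun.Art.IsSmallExt (ArtFun.Art.toBase R₀) →
      ∀ b : F.obj R₀, ∃ φ : R ⟶ R₀, F.map φ a = b) :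
    ∃ (R' : ArtFun.Art Λ k) (q : R' ⟶ R) (a' : F.obj R'), F.map q a' = a ∧
      ArtFun.Art.IsSemismallExt q ∧
      (∀ x' : R', x' ∈ IsLocalRing.maximalIdeal (R' : Type u) →
        q x' ∈ (IsLocalRing.maximalIdeal (R : Type u)) ^ 2 ⊔ (IsLocalRing.maximalIdeal Λ).map (algebraMap Λ R) →
        x' ∈ (IsLocalRing.maximalIdeal (R' : Type u)) ^ 2 ⊔ (IsLocalRing.maximalIdeal Λ).map (algebraMap Λ R')) ∧
      ∀ (R₁ : ArtFun.Art Λ k) (π₁ : R₁ ⟶ R), ArtFun.Art.IsSmallExt π₁ →
        ∀ a₁ : F.obj R₁, F.map π₁ a₁ = a → ∃ f : R' ⟶ R₁, f ≫ π₁ = q ∧ F.map f a' = a₁ := by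
  have : Module.Finite Λ k := Module.Finite.of_surjective (Algebra.linearMap Λ k) hk
  obtain ⟨h0, h1, h2⟩ := hF
  have hmax : RingHom.ker (algebraMap Λ k) = IsLocalRing.maximalIdeal Λ :=
    IsLocalRing.eq_maximalIdeal (RingHom.ker_isMaximal_of_surjective _ hk)
  have hrel : ∀ A : ArtFun.Art Λ k, relSq A =
      IsLocalRing.maximalIdeal (A : Type u) ^ 2 ⊔ (IsLocalRing.maximalIdeal Λ).map (algebraMap Λ A) := by
    intro A
    rw [relSq, hmax, sup_comm]
  obtain ⟨n, s, hs, hmin⟩ := exists_minimal_gens (relSq R) (relSq_le R)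
  have hsm : ∀ i, R.res (s i) = 0 := fun i =>
    (R.mem_maximalIdeal_iff _).1 (hs ▸ Ideal.mem_sup_left (Ideal.subset_span ⟨i, rfl⟩))
  let π : MvPolynomial (Fin n) Λ →ₐ[Λ] k := MvPolynomial.aeval fun _ => 0
  have hπ : Function.Surjective π := fun c => by
    obtain ⟨l, rfl⟩ := hk c
    exact ⟨algebraMap Λ _ l, π.commutes l⟩
  let mk : ∀ (A : ArtFun.Art Λ k) (b : Fin n → A), (∀ i, A.res (b i) = 0) →
      ArtFun.HomSet (MvPolynomial (Fin n) Λ) π A := fun A b hb =>
    ⟨MvPolynomial.aeval b, MvPolynomial.algHom_ext fun i => by simp [π, hb]⟩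
  have hlift : ∀ ⦃B A : ArtFun.Art Λ k⦄ (p : B ⟶ A), ArtFun.Art.IsSmallExt p →
      ∀ φ : ArtFun.HomSet (MvPolynomial (Fin n) Λ) π A, ∃ ψ, ArtFun.HomSet.map p ψ = φ := by
    intro B A p hp φ
    choose b hb using fun i => hp.1 (φ.1 (MvPolynomial.X i))
    refine ⟨mk B b fun i => ?_, Subtype.ext (MvPolynomial.algHom_ext fun i => ?_)⟩
    · rw [← ArtFun.Art.res_app p, hb, ← AlgHom.comp_apply, φ.2, MvPolynomial.aeval_X]
    · simp [mk, ArtFun.HomSet.map, hb]
  let φ₀ := mk R s hsm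
  have hφ₀ : Function.Surjective φ₀.1 := by
    obtain ⟨E, qE, hqE, hker⟩ : ∃ (E : ArtFun.Art Λ k) (qE : ArtFun.HomSet (MvPolynomial (Fin n) Λ) π E),
        Function.Surjective qE.1 ∧ RingHom.ker qE.1 ≤ RingHom.ker φ₀.1 := by
      obtain ⟨N, hN⟩ := exists_pow_le_ker φ₀
      obtain ⟨E, qE, hqE, hker⟩ := exists_quotObj hπ (RingHom.ker π ^ (N + 1))
        (Ideal.pow_le_self (Nat.succ_ne_zero N)) (N + 1) le_rfl
      exact ⟨E, qE, hqE, hker.le.trans ((Ideal.pow_le_pow_right N.le_succ).trans hN)⟩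
    obtain ⟨g, hg⟩ := exists_factor_of_ker qE hqE φ₀ hker
    have hgs : ∀ z, φ₀.1 z = g (qE.1 z) := fun z => (DFunLike.congr_fun (congrArg Subtype.val hg) z).symm
    suffices Function.Surjective g by
      intro r
      obtain ⟨e, rfl⟩ := this r
      obtain ⟨z, rfl⟩ := hqE e
      exact ⟨z, hgs z⟩
    refine (surjective_art_iff g).2 (le_antisymm (sup_le (sup_le (le_trans le_sup_left (relSq_le R))
      (map_max_le g)) (Ideal.pow_le_self two_ne_zero)) ?_)
    refine hs.ge.trans (sup_le (Ideal.span_le.2 ?_) (sup_le (le_sup_of_le_left le_sup_left) le_sup_right))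
    rintro _ ⟨i, rfl⟩
    refine Ideal.mem_sup_left (Ideal.mem_sup_right ?_)
    have : g (qE.1 (MvPolynomial.X i)) = s i := by rw [← hgs]; exact MvPolynomial.aeval_X _ i
    rw [← this]
    refine Ideal.mem_map_of_mem _ ((ArtFun.Art.mem_maximalIdeal_iff _ _).2 ?_)
    rw [← AlgHom.comp_apply, qE.2, MvPolynomial.aeval_X]
  obtain ⟨t, f, hf, hfh, hfx, hfl⟩ :=
    exists_next_semismall (F := F) hπ h1 hlift ⟨R, φ₀, hφ₀, a⟩
  refine ⟨t.obj, f, t.elt, hfx, hf, fun x' hx' hqx => ?_, fun R₁ π₁ hp a₁ ha₁ => ?_⟩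
  · rw [← hrel] at hqx ⊢
    obtain ⟨z, rfl⟩ := t.surj x'
    have hzπ : π z = 0 := by
      rw [← t.hom.2]
      exact (ArtFun.Art.mem_maximalIdeal_iff _ _).1 hx'
    have hzc : z - MvPolynomial.C (MvPolynomial.constantCoeff z) ∈
        Ideal.span (Set.range (MvPolynomial.X : Fin n → MvPolynomial (Fin n) Λ)) := by
      rw [← Set.image_univ, MvPolynomial.mem_ideal_span_X_image]
      intro d hd
      by_contra hne
      push Not at hne
      have : d = 0 := Finsupp.ext fun i => by simpa using hne i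
      subst this
      simp [MvPolynomial.mem_support_iff, MvPolynomial.constantCoeff_eq] at hd
    obtain ⟨c, hc⟩ := Ideal.mem_span_range_iff_exists_fun.1 hzc
    have hlam : MvPolynomial.constantCoeff z ∈ IsLocalRing.maximalIdeal Λ := by
      rw [← hmax, RingHom.mem_ker]
      simpa [π, MvPolynomial.aeval_zero'] using hzπ
    have hlamA : ∀ (A : ArtFun.Art Λ k),
        algebraMap Λ A (MvPolynomial.constantCoeff z) ∈ relSq A := fun A =>
      Ideal.mem_sup_left (Ideal.mem_map_of_mem _ (hmax ▸ hlam))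
    have hz : z = (∑ i, c i * MvPolynomial.X i) + algebraMap Λ _ (MvPolynomial.constantCoeff z) := by
      rw [MvPolynomial.algebraMap_eq, hc, sub_add_cancel]
    have hft : f (t.hom.1 z) = φ₀.1 z := DFunLike.congr_fun (congrArg Subtype.val hfh) z
    have hsum : (∑ i, φ₀.1 (c i) * s i) ∈ relSq R := by
      have h := sub_mem (show φ₀.1 z ∈ relSq R from hft ▸ hqx) (hlamA R)
      rw [hz, map_add, map_sum, AlgHom.commutes, ← hz, add_sub_cancel_right] at h
      simpa [φ₀, mk] using h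
    rw [hz, map_add, map_sum, AlgHom.commutes]
    refine add_mem (Ideal.sum_mem _ fun i _ => Ideal.mem_sup_right ?_) (hlamA t.obj)
    rw [map_mul, pow_two]
    refine Ideal.mul_mem_mul ?_ ?_
    · rw [ArtFun.Art.mem_maximalIdeal_iff, ← AlgHom.comp_apply, t.hom.2]
      have h := (ArtFun.Art.mem_maximalIdeal_iff _ _).1 (hmin _ hsum i)
      rwa [← AlgHom.comp_apply, φ₀.2] at h
    · rw [ArtFun.Art.mem_maximalIdeal_iff, ← AlgHom.comp_apply, t.hom.2, MvPolynomial.aeval_X]
  · obtain ⟨g', hg'⟩ := hfl π₁ hp (𝟙 R) a₁ (by rw [ha₁, Functor.map_id_apply])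
    rw [Category.comp_id] at hg'
    have hlie : F.map π₁ (F.map g' t.elt) = F.map π₁ a₁ := by
      rw [map_map, hg', hfx, ha₁]
    obtain ⟨τ, hτ⟩ := hp.2.2.1
    obtain ⟨D, p₁, p₂, hD⟩ := exists_fibreProd π₁ π₁ hp.1
    obtain ⟨d, -, hd⟩ := exists_diff hp hτ hD
    obtain ⟨w, hw₁, hw₂⟩ := (cmp_surjective_iff hD).1 (h1 _ _ _ _ hD hp.1) _ a₁ hlie
    have hdual : ArtFun.Art.IsSmallExt (ArtFun.Art.toBase (ArtFun.Art.dual Λ k)) := by
      let ε : ↥(ArtFun.Art.dual Λ k) := (TrivSqZeroExt.inr 1 : DualNumber k)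
      have hker : RingHom.ker (ArtFun.Art.toBase (ArtFun.Art.dual Λ k)).toAlgHom =
          Ideal.span {ε} := by
        apply le_antisymm
        · intro z hz
          have hz0 : TrivSqZeroExt.fst (z : DualNumber k) = 0 := RingHom.mem_ker.1 hz
          refine Ideal.mem_span_singleton'.2 ⟨TrivSqZeroExt.inl (TrivSqZeroExt.snd (z : DualNumber k)), ?_⟩
          have key : ∀ y : TrivSqZeroExt k k, y.fst = 0 →
              TrivSqZeroExt.inl y.snd * TrivSqZeroExt.inr 1 = y := fun y hy => by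
            rw [TrivSqZeroExt.inl_mul_inr]
            exact TrivSqZeroExt.ext (by simp [hy]) (by simp)
          exact key z hz0
        · rw [Ideal.span_le, Set.singleton_subset_iff]
          exact RingHom.mem_ker.2 (TrivSqZeroExt.fst_inr k (1 : k))
      refine ⟨(ArtFun.Art.dual Λ k).res_surjective, ?_, ⟨⟨_, hker⟩⟩, ?_⟩
      · intro h
        rw [hker, Ideal.span_singleton_eq_bot] at h
        have := congrArg (fun z : TrivSqZeroExt k k => z.snd) h
        exact one_ne_zero (α := k) this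
      · rw [eq_bot_iff, Ideal.mul_le]
        intro x hx y hy
        have hx0 : TrivSqZeroExt.fst (x : DualNumber k) = 0 :=
          (ArtFun.Art.mem_maximalIdeal_iff _ _).1 hx
        have hy0 : TrivSqZeroExt.fst (y : DualNumber k) = 0 := RingHom.mem_ker.1 hy
        refine TrivSqZeroExt.ext ?_ ?_
        · change TrivSqZeroExt.fst (x : DualNumber k) * TrivSqZeroExt.fst (y : DualNumber k) = 0
          rw [hx0, zero_mul]
        · change TrivSqZeroExt.fst (x : DualNumber k) • TrivSqZeroExt.snd (y : DualNumber k) +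
            MulOpposite.op (TrivSqZeroExt.fst (y : DualNumber k)) • TrivSqZeroExt.snd (x : DualNumber k) = 0
          rw [hx0, hy0, zero_smul, MulOpposite.op_zero, zero_smul, add_zero]
    obtain ⟨φ, hφ⟩ := hvers _ hdual (F.map d w)
    obtain ⟨Φ, hΦ₁, hΦ₂⟩ := IsFibreProd.exists_lift hd g' (f ≫ φ)
      (by rw [ArtFun.Art.eq_toBase (g' ≫ _), ArtFun.Art.eq_toBase ((f ≫ φ) ≫ _)])
    have hΦ : F.map Φ t.elt = w := (cmp_injective_iff hd).1 (h2 _ _ hd).1 _ _
      (by rw [map_map, hΦ₁, hw₁]) (by rw [map_map, hΦ₂, ← map_map, hfx, hφ])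
    refine ⟨Φ ≫ p₂, ?_, by rw [← map_map, hΦ, hw₂]⟩
    rw [Category.assoc, ← hD.w, ← Category.assoc, hΦ₁, hg']


end Groth.Agent.S12321
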