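import Groth.Statements.S1234
import Groth.Agent.CAlgH.WeakAssHull
-- import your own Groth.Agent.* helpers here

set_option autoImplicit false
universe u
open FlatMor

namespace Groth.Agent.S1234

open TensorProduct IsLocalRing in
/-- Ring form, S = Spec A: let M be an A-module and p a prime of A; let Ah be a henselization and Ash a
strict henselization of the local ring A_p. The following are equivalent: p is a weakly associated
prime of M; the maximal ideal of A_p is a weakly associated prime of M_p; the maximal ideal of Ah is
a weakly associated prime of Ah ⊗ M_p; the maximal ideal of Ash is a weakly associated prime of Ash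
⊗ M_p. -/
theorem result {A : Type u} [CommRing A] (M : Type u) [AddCommGroup M] [Module A M] (p : Ideal A) [p.IsPrime]
    (Ah Ash : Type u) [CommRing Ah] [IsLocalRing Ah] [CommRing Ash] [IsLocalRing Ash]
    [Algebra (Localization.AtPrime p) Ah] [IsLocalHom (algebraMap (Localization.AtPrime p) Ah)] [Hensel.IsHenselization (Localization.AtPrime p) Ah]
    [Algebra (Localization.AtPrime p) Ash] [IsLocalHom (algebraMap (Localization.AtPrime p) Ash)] [Hensel.IsStrictHenselization (Localization.AtPrime p) Ash] :
    [p ∈ FlatCA.weakAss A M,
     maximalIdeal (Localization.AtPrime p) ∈ FlatCA.weakAss (Localization.AtPrime p) (LocalizedModule p.primeCompl M),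
     maximalIdeal Ah ∈ FlatCA.weakAss Ah (Ah ⊗[Localization.AtPrime p] LocalizedModule p.primeCompl M),
     maximalIdeal Ash ∈ FlatCA.weakAss Ash (Ash ⊗[Localization.AtPrime p] LocalizedModule p.primeCompl M)].TFAE := by
  have h12 : p ∈ FlatCA.weakAss A M ↔
      maximalIdeal (Localization.AtPrime p) ∈ FlatCA.weakAss (Localization.AtPrime p) (LocalizedModule p.primeCompl M) := by
    rw [CAlgH3.weakAss_localized_iff p.primeCompl (Localization.AtPrime p)
      (LocalizedModule.mkLinearMap p.primeCompl M) p inferInstance (Set.disjoint_left.2 fun _ h => h),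
      IsLocalization.AtPrime.map_eq_maximalIdeal p (Localization.AtPrime p)]
  tfae_have 1 ↔ 2 := h12
  tfae_have 3 ↔ 2 := _root_.Groth.Agent.CAlgH.WeakAssHull.mem_iff_henselization _
  tfae_have 4 ↔ 2 := _root_.Groth.Agent.CAlgH.WeakAssHull.mem_iff_strictHenselization _
  tfae_finish

end Groth.Agent.S1234
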