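import Groth.Statements.S1238
import Groth.Agent.FlatMorDevissage.FPFlat

set_option autoImplicit false
universe u
open FlatMor

namespace Groth.Agent.S1238

/-- Ring form, X = Spec S, S = Spec R affine: let R be a ring with finitely many weakly associated
primes and S a finite type R-algebra. Then the set of primes q of S with S_q flat over R is open in
Spec S, and every such q has a basic open neighbourhood D(g) with S_g flat and of finite
presentation over R. -/
theorem result {R S : Type u} [CommRing R] [CommRing S] [Algebra R S] [Algebra.FiniteType R S]
    (hR : (FlatCA.weakAss R R).Finite) :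
    IsOpen {q : PrimeSpectrum S | Module.Flat R (Localization.AtPrime q.asIdeal)} ∧
    ∀ (q : Ideal S) [q.IsPrime], Module.Flat R (Localization.AtPrime q) → ∃ g : S, g ∉ q ∧
      Algebra.FinitePresentation R (Localization.Away g) ∧ Module.Flat R (Localization.Away g) := by
  refine ⟨Groth.Agent.FlatMorDevissage.isOpen_flatAt (R := R) S hR, fun q _ _ => ?_⟩
  exact Groth.Agent.FlatMorDevissage.exists_nbhd_algebra_fp_flat hR q

end Groth.Agent.S1238
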