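import Groth.Statements.S4278
import Groth.Agent.Coherent.CohBC.EulerFamily
import Groth.Agent.EulerLib.FGABridge
import Groth.Agent.AbCubeLib.FiniteDegree
-- import your own Groth.Agent.* helpers here

set_option autoImplicit false
universe u
open CategoryTheory CategoryTheory.Limits AlgebraicGeometry
open Pic13

namespace Groth.Agent.S4278

/-- Let k be an algebraically closed field, X a proper k-scheme and L an invertible O_X-module which is
τ-equivalent to zero. Then L is numerically equivalent to zero: its restriction to every integral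
closed curve Y ⊆ X has degree χ(L|_Y) - χ(O_Y) = 0. -/
theorem result (k : Type u) [Field k] [IsAlgClosed k] (X : Scheme.{u}) [X.Over (Spec (CommRingCat.of k))]
    [IsProper (X ↘ Spec (CommRingCat.of k))]
    (L : X.Modules) (hL : PicF.IsInvertible L) (hτ : Pic13.IsTauEquivZero k X L) : Pic13.IsNumEquivZero k X L := by
  intro Y i _ hY hdim
  haveI := Groth.Agent.EulerLib.isNoetherian_of_proper (X := X) k
  haveI : X.IsSeparated := Groth.Agent.EulerLib.isSeparated_of_proper (X := X) k
  letI : Y.Over (Spec (CommRingCat.of k)) := ⟨i ≫ (X ↘ Spec (CommRingCat.of k))⟩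
  haveI : IsProper (Y ↘ Spec (CommRingCat.of k)) := inferInstanceAs (IsProper (i ≫ (X ↘ Spec (CommRingCat.of k))))
  haveI := Groth.Agent.EulerLib.isNoetherian_of_proper (X := Y) k
  have hO : Coh.IsCoh (Coh.structureModule Y) := Groth.Agent.Coherent.isCoh_structureModule _
  have hLY := PicLoc.isInvertible_pullback i hL
  have hLF : FlatMod.IsFinLocFree L := fun x =>
    let ⟨U, hx, e⟩ := Groth.Agent.PicLib.isFinLocFreeOfRank_one hL x; ⟨U, 1, hx, e⟩
  have hLYc : Coh.IsCoh ((Scheme.Modules.pullback i).obj L) := Groth.Agent.ZClosLib.isCoh_pullback i L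
    (Groth.Agent.Coherent.CohBC.isCoh_of_isFinLocFree hLF)
  show FGA.eulerCharLE k Y _ 1 - FGA.eulerCharLE k Y _ 1 = 0
  rw [Groth.Agent.EulerLib.eulerCharLE_eq k _ hLYc.1 hdim.le,
    Groth.Agent.EulerLib.eulerCharLE_eq k _ hO.1 hdim.le, sub_eq_zero]
  have hE : Coh.IsCoh ((Coh.push i).obj (Coh.structureModule Y)) := Groth.Agent.Coherent.isCoh_push_finite i hO
  have h := Groth.Agent.Coherent.CohBC.chiCl_mul_pow_eq_of_isTauEquivZero k hL hτ hE 1 1
  rw [one_mul, pow_one, Groth.Agent.EulerLib.chiCl_mk] at h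
  let e₁ : CohB1.tensorMod ((Scheme.Modules.pullback i).obj L) (Coh.structureModule Y) ≅
      (Scheme.Modules.pullback i).obj L :=
    Groth.Agent.AmpleLib.tensorComm _ _ ≪≫ Groth.Agent.AmpleLib.unitTensorIso _
  haveI : Coh.IsQCoh (CohB1.tensorMod ((Scheme.Modules.pullback i).obj L) (Coh.structureModule Y)) :=
    (Groth.Agent.Coherent.isCoh_iso e₁.symm hLYc).1
  haveI := hO.1
  have e : Curv2.euler k X (CohB1.tensorMod ((Coh.push i).obj (Coh.structureModule Y)) L) =
      Curv2.euler k Y ((Scheme.Modules.pullback i).obj L) := by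
    rw [Groth.Agent.EulerLib.euler_congr k X (Groth.Agent.AmpleLib.tensorComm _ _ ≪≫
      (Groth.Agent.Coherent.projIso (f := i) hLF).app (Coh.structureModule Y)),
      ← Groth.Agent.EulerLib.euler_congr k Y e₁]
    exact (Groth.Agent.AbCubeLib.euler_push k i rfl
      (CohB1.tensorMod ((Scheme.Modules.pullback i).obj L) (Coh.structureModule Y))).symm
  rw [← e, h, Groth.Agent.AbCubeLib.euler_push k i rfl (Coh.structureModule Y)]
  exact Groth.Agent.EulerLib.euler_congr k X
    (Groth.Agent.AmpleLib.tensorComm _ _ ≪≫ Groth.Agent.AmpleLib.unitTensorIso _)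

end Groth.Agent.S4278
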