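import Groth.Statements.S12417

set_option autoImplicit false
universe u
open CategoryTheory AlgebraicGeometry
open Props

namespace Groth.Agent.S12417

/-- Let X be a quasi-compact quasi-separated scheme and P a property of opens of X such that (a) P holds
for every affine open, and (b) whenever a quasi-compact open U has a finite affine open covering U =
V_1 ∪ … ∪ V_n with P holding for every intersection V_i ∩ V_j, P holds for U. Then P holds for every
quasi-compact open of X. -/
theorem result (X : Scheme.{u}) [CompactSpace X] [QuasiSeparatedSpace X]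
    (P : X.Opens → Prop) (ha : ∀ U : X.Opens, IsAffineOpen U → P U)
    (hb : ∀ (U : X.Opens) (n : ℕ) (V : Fin n → X.Opens), IsCompact (U : Set X) →
      (∀ i, IsAffineOpen (V i)) → ⨆ i, V i = U → (∀ i j, P (V i ⊓ V j)) → P U)
    (U : X.Opens) (hU : IsCompact (U : Set X)) : P U := by
  classical
  have key : ∀ U : X.Opens, IsCompact (U : Set X) →
      ∃ (n : ℕ) (V : Fin n → X.Opens), (∀ i, IsAffineOpen (V i)) ∧ ⨆ i, V i = U := by
    intro U hU
    obtain ⟨s, hs, he⟩ := (isCompact_iff_finite_and_eq_biUnion_affineOpens (U := U)).mp hU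
    obtain ⟨n, g, -, hg⟩ := hs.fin_param
    refine ⟨n, fun i => (g i : X.Opens), fun i => (g i).2, ?_⟩
    rw [he, ← hg]
    exact iSup_range.symm
  have hsub : ∀ (A : X.Opens), IsAffineOpen A → ∀ W : X.Opens, W ≤ A → IsCompact (W : Set X) →
      P W := by
    intro A hA W hWA hW
    obtain ⟨s, hs⟩ : ∃ s : Finset Γ(X, A), W = ⨆ f ∈ s, X.basicOpen f := by
      have hcov : (W : Set X) ⊆ ⋃ f : {f : Γ(X, A) // X.basicOpen f ≤ W}, (X.basicOpen f.1 : Set X) := by
        intro x hx
        obtain ⟨f, hf, hxf⟩ := hA.exists_basicOpen_le ⟨x, hx⟩ (hWA hx)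
        exact Set.mem_iUnion.mpr ⟨⟨f, hf⟩, hxf⟩
      obtain ⟨t, ht⟩ := hW.elim_finite_subcover
        (fun f : {f : Γ(X, A) // X.basicOpen f ≤ W} => (X.basicOpen f.1 : Set X))
        (fun f => (X.basicOpen f.1).2) hcov
      refine ⟨t.image Subtype.val, le_antisymm (fun x hx => ?_) (iSup₂_le fun f hf => ?_)⟩
      · obtain ⟨f, hf, hxf⟩ := Set.mem_iUnion₂.mp (ht hx)
        exact TopologicalSpace.Opens.mem_iSup.mpr ⟨f.1, TopologicalSpace.Opens.mem_iSup.mpr
          ⟨Finset.mem_image_of_mem _ hf, hxf⟩⟩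
      · obtain ⟨g, -, rfl⟩ := Finset.mem_image.mp hf
        exact g.2
    refine hb W s.card (fun i => X.basicOpen (s.equivFin.symm i).1) hW
      (fun i => hA.basicOpen _) ?_ fun i j => ha _ ?_
    · rw [hs]
      exact (s.equivFin.symm.iSup_comp (g := fun f : ↥s => X.basicOpen f.1)).trans
        (iSup_subtype (f := fun f : ↥s => X.basicOpen f.1))
    · rw [← X.basicOpen_mul]
      exact hA.basicOpen _
  obtain ⟨n, V, hV, hVU⟩ := key U hU
  refine hb U n V hU hV hVU fun i j => hsub (V i) (hV i) _ inf_le_left ?_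
  exact QuasiSeparatedSpace.inter_isCompact (V i : Set X) (V j) (V i).2 (hV i).isCompact
    (V j).2 (hV j).isCompact

end Groth.Agent.S12417
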