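import Groth.Statements.S12418


set_option autoImplicit false
universe u
open CAlg

namespace Groth.Agent.S12418

/-- Let R be a Noetherian ring and b ∈ R; for x outside the ideal (b) put I_x = ((b) : x), the ideal of
r with r x ∈ (b). If s ∉ (b) and I_s is maximal among the I_x (x ∉ (b)), then I_s is prime. -/
theorem result {R : Type u} [CommRing R] [IsNoetherianRing R]
    (b s : R) (hs : s ∉ Ideal.span {b})
    (hmax : ∀ x : R, x ∉ Ideal.span {b} →
      Submodule.colon (Ideal.span {b}) (Ideal.span {s}) ≤ Submodule.colon (Ideal.span {b}) (Ideal.span {x}) →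
      Submodule.colon (Ideal.span {b}) (Ideal.span {x}) = Submodule.colon (Ideal.span {b}) (Ideal.span {s})) :
    (Submodule.colon (Ideal.span {b}) (Ideal.span ({s} : Set R))).IsPrime := by
  rw [Ideal.isPrime_iff]
  refine ⟨fun h => ?_, fun {x y} hxy => ?_⟩
  · have h1 : (1 : R) ∈ Submodule.colon (Ideal.span {b}) (Ideal.span ({s} : Set R)) := h ▸ Submodule.mem_top
    rw [Submodule.mem_colon] at h1
    exact hs (by simpa using h1 s (Ideal.mem_span_singleton_self s))
  have hiff : ∀ t a : R, a ∈ Submodule.colon (Ideal.span {b}) (Ideal.span ({t} : Set R)) ↔ a * t ∈ Ideal.span {b} := by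
    intro t a
    rw [Submodule.mem_colon]
    refine ⟨fun h => h t (Ideal.mem_span_singleton_self t), fun h z hz => ?_⟩
    obtain ⟨c, rfl⟩ := Ideal.mem_span_singleton'.1 hz
    rw [smul_eq_mul, show a * (c * t) = c * (a * t) by ring]
    exact Ideal.mul_mem_left _ _ h
  by_cases hx : x ∈ Submodule.colon (Ideal.span {b}) (Ideal.span ({s} : Set R))
  · exact Or.inl hx
  right
  have h := hmax (x * s) (fun hh => hx ((hiff s x).2 hh)) (fun a ha => (hiff _ a).2 (by
    rw [show a * (x * s) = x * (a * s) by ring]
    exact Ideal.mul_mem_left _ _ ((hiff s a).1 ha)))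
  rw [← h, hiff, show y * (x * s) = (x * y) * s by ring]
  exact (hiff s _).1 hxy

end Groth.Agent.S12418
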