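import Groth.Statements.S1242
import Groth.Agent.FlatMorDevissage.Local

set_option autoImplicit false
universe u
open FlatMor

namespace Groth.Agent.S1242

open TensorProduct in
/-- Ring form, X = Spec S and S = Spec R affine: let S be a finitely presented R-algebra, N a finite
S-module and q a prime of S over p with N_q flat over R. Then there is an étale R-algebra R' with a
prime p' over p having the same residue field such that, writing A for the local ring of R' at p'
and S_A, N_A for the base changes (any models): there is an étale S_A-algebra C, finitely presented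
over A, with a prime over q whose residue field equals that of q, such that C ⊗ N_A is a finitely
presented C-module and a free A-module. -/
theorem result {R S : Type u} [CommRing R] [CommRing S] [Algebra R S] [Algebra.FinitePresentation R S]
    (N : Type u) [AddCommGroup N] [Module S N] [Module R N] [IsScalarTower R S N] [Module.Finite S N]
    (p : Ideal R) [p.IsPrime] (q : Ideal S) [q.IsPrime] [q.LiesOver p] (hflat : FlatCA.FlatAt R q N) :
    ∃ (R' : Type u) (_ : CommRing R') (_ : Algebra R R') (p' : Ideal R') (_ : p'.IsPrime), FlatCA.IsEtaleNhd R R' p p' ∧
      ∀ (SA NA : Type u) [CommRing SA] [Algebra R SA] [Algebra S SA] [Algebra (Localization.AtPrime p') SA]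
        [IsScalarTower R S SA] [IsScalarTower R (Localization.AtPrime p') SA]
        [Algebra.IsPushout R S (Localization.AtPrime p') SA]
        [AddCommGroup NA] [Module SA NA] [Module S NA] [IsScalarTower S SA NA]
        (f : N →ₗ[S] NA), IsBaseChange SA f →
        ∃ (C : Type u) (_ : CommRing C) (_ : Algebra SA C) (_ : Algebra (Localization.AtPrime p') C)
          (_ : IsScalarTower (Localization.AtPrime p') SA C) (_ : Algebra S C) (_ : IsScalarTower S SA C)
          (x' : Ideal C) (_ : x'.IsPrime) (hx : x'.LiesOver q),
          Algebra.Etale SA C ∧ Algebra.FinitePresentation (Localization.AtPrime p') C ∧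
          Function.Bijective (Ideal.ResidueField.mapₐ q x' (Algebra.ofId S C) hx.over) ∧
          Module.FinitePresentation C (C ⊗[SA] NA) ∧
          Module.Free (Localization.AtPrime p') (RestrictScalars (Localization.AtPrime p') C (C ⊗[SA] NA)) := by
  obtain ⟨R', _, _, p', _, hR, hmain⟩ := FlatMorDevissage.exists_free_etale_local N p q hflat
  refine ⟨R', inferInstance, inferInstance, p', inferInstance, hR, ?_⟩
  intro SA NA _ _ _ _ _ _ _ _ _ _ _ f hf
  obtain ⟨C, _, _, _, _, x, _, hC, hxq, -, hfree, hfp, hbij⟩ := hmain SA NA f hf
  let _ : Algebra S C := ((algebraMap SA C).comp (algebraMap S SA)).toAlgebra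
  have : IsScalarTower S SA C := .of_algebraMap_eq' rfl
  have hx : x.LiesOver q := ⟨by
    rw [Ideal.under, IsScalarTower.algebraMap_eq S SA C, ← Ideal.comap_comap]
    exact hxq.over⟩
  have : Algebra.IsPushout R (Localization.AtPrime p') S SA := Algebra.IsPushout.symm ‹_›
  have : Algebra.FinitePresentation (Localization.AtPrime p') SA :=
    Algebra.FinitePresentation.equiv (Algebra.IsPushout.equiv R (Localization.AtPrime p') S SA)
  refine ⟨C, inferInstance, inferInstance, inferInstance, inferInstance, inferInstance,
    inferInstance, x, inferInstance, hx, hC,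
    Algebra.FinitePresentation.trans (Localization.AtPrime p') SA C, hbij _ hx,
    hfp inferInstance, ?_⟩
  let e := RestrictScalars.addEquiv (Localization.AtPrime p') C (C ⊗[SA] NA)
  exact Module.Free.of_equiv (M := C ⊗[SA] NA) (e.symm.toLinearEquiv fun a m => by
    apply e.injective
    rw [AddEquiv.apply_symm_apply, RestrictScalars.addEquiv_map_smul, AddEquiv.apply_symm_apply,
      algebraMap_smul])

end Groth.Agent.S1242
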