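import Groth.Statements.S12420
import Mathlib
import Groth.Agent.Schless.Limit
import Groth.Agent.FSchLib.Completion
import Groth.Agent.Matlis6.CompletionNoetherian

set_option autoImplicit false
universe u
open CAlg
open scoped TensorProduct

namespace Groth.Agent.S12420

theorem finish {A A' D B : Type u} [CommRing A] [CommRing A'] [CommRing D] [CommRing B]
    [IsLocalRing D] [IsNoetherianRing D] [IsPrecomplete (IsLocalRing.maximalIdeal D) D]
    [IsNoetherianRing B] (a₁ : A →+* D) (a₂ : A →+* A') (f : D →+* B) (g : A' →+* B) (m' : Ideal A')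
    (hcomm : f.comp a₁ = g.comp a₂) (P M : Ideal B) [P.IsPrime] [M.IsPrime] (hPM : P ≤ M)
    (hP : P.comap f = ⊥) (hD : (IsLocalRing.maximalIdeal D).map f ≤ M) (hA' : m'.map g ≤ M) (j : ℕ) :
    ∃ N : ℕ, ∀ a, a₂ a ∈ m' ^ N → a₁ a ∈ IsLocalRing.maximalIdeal D ^ j := by
  let M₀ : Ideal (B ⧸ P) := M.map (Ideal.Quotient.mk P)
  haveI : M₀.IsPrime := Ideal.map_isPrime_of_surjective Ideal.Quotient.mk_surjective (by rwa [Ideal.mk_ker])
  let E := Localization.AtPrime M₀
  let q : B →+* E := (algebraMap (B ⧸ P) E).comp (Ideal.Quotient.mk P)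
  have hq : M ≤ (IsLocalRing.maximalIdeal E).comap q := fun y hy =>
    (IsLocalization.AtPrime.to_map_mem_maximal_iff E M₀ _).2 (Ideal.mem_map_of_mem _ hy)
  have hinj : Function.Injective (q.comp f) := by
    rw [injective_iff_map_eq_zero]
    intro d hd
    have h1 : Ideal.Quotient.mk P (f d) = 0 :=
      IsLocalization.injective E M₀.primeCompl_le_nonZeroDivisors (hd.trans (map_zero _).symm)
    exact (Submodule.mem_bot D).1 (hP ▸ Ideal.mem_comap.2 (Ideal.Quotient.eq_zero_iff_mem.1 h1))
  have hDm : (IsLocalRing.maximalIdeal D).map (q.comp f) ≤ IsLocalRing.maximalIdeal E := by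
    rw [← Ideal.map_map]
    exact (Ideal.map_mono hD).trans (Ideal.map_le_iff_le_comap.2 hq)
  have hA'm : m'.map (q.comp g) ≤ IsLocalRing.maximalIdeal E := by
    rw [← Ideal.map_map]
    exact (Ideal.map_mono hA').trans (Ideal.map_le_iff_le_comap.2 hq)
  obtain ⟨N, hN⟩ := Groth.Agent.Schless.chevalley (fun n => (IsLocalRing.maximalIdeal E ^ n).comap (q.comp f))
    (fun a b hab => Ideal.comap_mono (Ideal.pow_le_pow_right hab))
    (by
      rw [← Ideal.comap_iInf,
        Ideal.iInf_pow_eq_bot_of_isLocalRing _ (IsLocalRing.maximalIdeal.isMaximal E).ne_top,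
        ← RingHom.ker_eq_comap_bot]
      exact (RingHom.injective_iff_ker_eq_bot _).1 hinj)
    (fun n => ⟨n, by
      rw [← Ideal.map_le_iff_le_comap, Ideal.map_pow]
      exact Ideal.pow_right_mono hDm n⟩) j
  refine ⟨N, fun a ha => hN ?_⟩
  rw [Ideal.mem_comap, RingHom.comp_apply, show f (a₁ a) = g (a₂ a) from RingHom.congr_fun hcomm a]
  refine Ideal.pow_right_mono hA'm N ?_
  rw [← Ideal.map_pow]
  exact Ideal.mem_map_of_mem (q.comp g) ha

/-- Let φ : A → A' be an injective local homomorphism of Noetherian local rings, essentially of finite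
type, such that the adic completion of A at its maximal ideal m is an integral domain. Then every
power m^j contains φ⁻¹(m'^n) for some n, m' the maximal ideal of A': the m-adic topology of A is
induced from the m'-adic topology of A'. (Equivalently, the induced homomorphism of completions Â →
Â' is injective, which is how the published statement phrases the conclusion; the inclusion of
ideals is what its proof establishes.) -/
theorem result (A A' : Type u) [CommRing A]
    [CommRing A'] [IsNoetherianRing A] [IsNoetherianRing A'] [IsLocalRing A] [IsLocalRing A'] [Algebra A A']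
    (hinj : Function.Injective (algebraMap A A')) [IsLocalHom (algebraMap A A')] [Algebra.EssFiniteType A A']
    [IsDomain (AdicCompletion (IsLocalRing.maximalIdeal A) A)] (j : ℕ) :
    ∃ n : ℕ, ((IsLocalRing.maximalIdeal A') ^ n).comap (algebraMap A A') ≤ (IsLocalRing.maximalIdeal A) ^ j := by
  classical
  set m := IsLocalRing.maximalIdeal A
  set m' := IsLocalRing.maximalIdeal A'
  let D := AdicCompletion m A
  haveI hDnoeth : IsNoetherianRing D := Groth.Agent.Matlis6.isNoetherianRing_adicCompletion m
  -- `A` is a domain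
  have hAD : Function.Injective (algebraMap A D) := by
    rw [injective_iff_map_eq_zero]
    intro a ha
    by_contra hne
    have hmem : a ∈ ⨅ n, m ^ n := by
      rw [Submodule.mem_iInf]
      intro n
      have := Groth.Agent.FSchLib.evalₐ_algebraMap m n a
      rw [ha, map_zero] at this
      exact Ideal.Quotient.eq_zero_iff_mem.1 this.symm
    rw [Ideal.iInf_pow_eq_bot_of_isLocalRing m (IsLocalRing.maximalIdeal.isMaximal A).ne_top,
      Ideal.mem_bot] at hmem
    exact hne hmem
  haveI : IsDomain A := hAD.isDomain (algebraMap A D)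
  -- a prime of `A'` over zero
  obtain ⟨Q, hQ, hQ0⟩ := Ideal.exists_comap_eq_of_mem_minimalPrimes_of_injective hinj (⊥ : Ideal A)
    (by rw [IsDomain.minimalPrimes_eq_singleton_bot]; exact rfl)
  haveI := hQ
  let L := Q.ResidueField
  have hAL : Function.Injective (algebraMap A L) := by
    rw [injective_iff_map_eq_zero]
    intro a ha
    rw [IsScalarTower.algebraMap_apply A A' L, Ideal.algebraMap_residueField_eq_zero] at ha
    have : a ∈ (⊥ : Ideal A) := hQ0 ▸ Ideal.mem_comap.2 ha
    exact (Submodule.mem_bot A).1 this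
  haveI : Module.Flat A L := by
    let K := FractionRing A
    letI : Algebra K L := (IsFractionRing.lift (K := K) hAL).toAlgebra
    haveI : IsScalarTower A K L := IsScalarTower.of_algebraMap_eq fun a =>
      (IsFractionRing.lift_algebraMap hAL a).symm
    haveI : Module.Flat A K := IsLocalization.flat K (nonZeroDivisors A)
    exact Module.Flat.trans A K L
  let B := TensorProduct A D A'
  letI : Algebra A' B := Algebra.TensorProduct.rightAlgebra
  haveI : IsNoetherianRing B := Algebra.EssFiniteType.isNoetherianRing D B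
  -- the residue map
  let κ' := IsLocalRing.ResidueField A'
  let rA : A ⧸ m →+* κ' := IsLocalRing.ResidueField.map (algebraMap A A')
  let θ₁ : D →ₐ[A] κ' :=
    { toRingHom := rA.comp (AdicCompletion.evalOneₐ m).toRingHom
      commutes' := fun a => by
        show rA ((AdicCompletion.evalOneₐ m) (algebraMap A D a)) = _
        rw [AlgHom.commutes]
        rfl }
  let θ : B →ₐ[A] κ' := Algebra.TensorProduct.lift θ₁ (IsScalarTower.toAlgHom A A' κ') fun _ _ => Commute.all _ _
  let M : Ideal B := RingHom.ker θ.toRingHom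
  haveI : M.IsPrime := RingHom.ker_isPrime θ.toRingHom
  have hθA' : ∀ c : A', θ (algebraMap A' B c) = IsLocalRing.residue A' c := fun c => by
    show θ ((1 : D) ⊗ₜ[A] c) = _
    exact (Algebra.TensorProduct.lift_tmul _ _ _ (1 : D) c).trans (by rw [map_one, one_mul]; rfl)
  have hθD : ∀ d : D, θ (algebraMap D B d) = θ₁ d := fun d => by
    show θ (d ⊗ₜ[A] (1 : A')) = _
    exact (Algebra.TensorProduct.lift_tmul _ _ _ d (1 : A')).trans (by rw [map_one, mul_one])
  haveI : M.LiesOver m' := ⟨by
    ext c
    rw [Ideal.under_def, Ideal.mem_comap, RingHom.mem_ker]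
    exact ((IsLocalRing.residue_eq_zero_iff c).symm.trans (by rw [← hθA' c]; rfl))⟩
  haveI : Module.Flat A' B :=
    Module.Flat.of_linearEquiv (M := TensorProduct A A' D)
      { (Algebra.TensorProduct.comm A D A').toAddEquiv with
        map_smul' := fun c x => by
          show Algebra.TensorProduct.comm A D A' (c • x) = c • Algebra.TensorProduct.comm A D A' x
          rw [Algebra.smul_def, map_mul, Algebra.smul_def]
          congr 1 }
  obtain ⟨P₀', hP₀'le, hP₀', hP₀'Q⟩ := Ideal.exists_ideal_le_liesOver_of_le (p := Q) (q := m') M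
    (IsLocalRing.le_maximalIdeal hQ.ne_top)
  haveI := hP₀'
  -- the generic fibre
  let C := TensorProduct A D L
  let toL : A' →ₐ[A] L := IsScalarTower.toAlgHom A A' L
  let ψ : B →ₐ[A] C := Algebra.TensorProduct.map (AlgHom.id A D) toL
  let F := P₀'.ResidueField
  let iD : D →ₐ[A] F := (IsScalarTower.toAlgHom A B F).comp Algebra.TensorProduct.includeLeft
  let jA' : A' →+* F := (algebraMap B F).comp (algebraMap A' B)
  have hj : ∀ c, c ∉ Q → jA' c ≠ 0 := fun c hc h => hc (by
    rw [RingHom.comp_apply, Ideal.algebraMap_residueField_eq_zero] at h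
    rw [hP₀'Q.over]; exact h)
  let jL : L →ₐ[A] F :=
    { toRingHom := Ideal.ResidueField.lift Q jA'
        (fun c hc => RingHom.mem_ker.2 (by
          show algebraMap B F (algebraMap A' B c) = 0
          rw [Ideal.algebraMap_residueField_eq_zero]
          rw [hP₀'Q.over] at hc; exact hc))
        (fun c hc => (hj c hc).isUnit)
      commutes' := fun a => by
        show Ideal.ResidueField.lift Q jA' _ _ (algebraMap A L a) = _
        rw [IsScalarTower.algebraMap_apply A A' L, Ideal.ResidueField.lift_algebraMap]
        show algebraMap B F (algebraMap A' B (algebraMap A A' a)) = _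
        rw [IsScalarTower.algebraMap_apply A B F]
        congr 1
        exact (Algebra.TensorProduct.includeRight : A' →ₐ[A] B).commutes a }
  let Φ : C →ₐ[A] F := Algebra.TensorProduct.lift iD jL fun _ _ => Commute.all _ _
  let P'' : Ideal C := RingHom.ker Φ.toRingHom
  haveI : P''.IsPrime := RingHom.ker_isPrime Φ.toRingHom
  have hΦψ : ∀ x : B, Φ (ψ x) = algebraMap B F x := by
    intro x
    induction x using TensorProduct.induction_on with
    | zero => simp
    | tmul d c =>
      simp only [ψ, Φ, Algebra.TensorProduct.map_tmul, AlgHom.coe_id, id_eq,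
        Algebra.TensorProduct.lift_tmul, toL, IsScalarTower.coe_toAlgHom']
      show iD d * jL (algebraMap A' L c) = _
      rw [show jL (algebraMap A' L c) = jA' c by simp [jL, L]]
      show algebraMap B F (d ⊗ₜ[A] (1 : A')) * algebraMap B F ((1 : D) ⊗ₜ[A] c) = _
      rw [← map_mul, Algebra.TensorProduct.tmul_mul_tmul, mul_one, one_mul]
    | add x y hx hy => rw [map_add, map_add, map_add, hx, hy]
  haveI : P''.LiesOver (P''.comap (algebraMap D C)) := ⟨rfl⟩
  obtain ⟨P', hP'le, hP', hP'0⟩ := Ideal.exists_ideal_le_liesOver_of_le (p := (⊥ : Ideal D))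
    (q := P''.comap (algebraMap D C)) P'' bot_le
  haveI := hP'
  let P : Ideal B := P'.comap ψ.toRingHom
  have hPM : P ≤ M := fun x hx => hP₀'le (by
    have h : Φ (ψ x) = 0 := RingHom.mem_ker.1 (hP'le hx)
    rwa [hΦψ, Ideal.algebraMap_residueField_eq_zero] at h)
  -- the local domain dominating the completion
  have hP : P.comap (algebraMap D B) = ⊥ := by
    refine eq_bot_iff.2 fun d hd => ?_
    have h2 : d ∈ P'.comap (algebraMap D C) := by
      show algebraMap D C d ∈ P'
      have h3 : ψ (algebraMap D B d) = algebraMap D C d := by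
        show ψ (d ⊗ₜ[A] (1 : A')) = d ⊗ₜ[A] (1 : L)
        exact (Algebra.TensorProduct.map_tmul _ _ _ _).trans (by rw [map_one]; rfl)
      rw [← h3]; exact hd
    rw [← Ideal.under_def, ← hP'0.over] at h2
    exact h2
  have hD : (IsLocalRing.maximalIdeal D).map (algebraMap D B) ≤ M := by
    rw [Ideal.map_le_iff_le_comap]
    intro d hd
    show θ (algebraMap D B d) = 0
    rw [hθD]
    show rA (AdicCompletion.evalOneₐ m d) = 0
    have h1 : AdicCompletion.evalOneₐ m d = 0 := by
      rw [AdicCompletion.maximalIdeal_eq_map, ← AdicCompletion.ker_evalOneₐ_eq_map m (IsNoetherian.noetherian m)] at hd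
      exact RingHom.mem_ker.1 hd
    rw [h1, map_zero]
  have hA' : m'.map (algebraMap A' B) ≤ M := by
    rw [Ideal.map_le_iff_le_comap]
    intro c hc
    show θ (algebraMap A' B c) = 0
    rw [hθA']
    exact (IsLocalRing.residue_eq_zero_iff c).2 hc
  haveI : IsPrecomplete (IsLocalRing.maximalIdeal D) D :=
    (inferInstance : IsAdicComplete (IsLocalRing.maximalIdeal D) D).toIsPrecomplete
  obtain ⟨N, hN⟩ := finish (algebraMap A D) (algebraMap A A') (algebraMap D B) (algebraMap A' B) m'
    (RingHom.ext fun a => ((Algebra.TensorProduct.includeLeft : D →ₐ[A] B).commutes a).trans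
      ((Algebra.TensorProduct.includeRight : A' →ₐ[A] B).commutes a).symm) P M hPM hP hD hA' j
  refine ⟨N, fun a ha => ?_⟩
  have h2 := hN a ha
  rw [AdicCompletion.maximalIdeal_eq_map, ← Groth.Agent.FSchLib.ker_evalₐ m (IsNoetherian.noetherian m)] at h2
  have h3 := Groth.Agent.FSchLib.evalₐ_algebraMap m j a
  exact Ideal.Quotient.eq_zero_iff_mem.1 (h3.symm.trans (RingHom.mem_ker.1 h2))

end Groth.Agent.S12420
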