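import Groth.Statements.S12422
import Groth.Agent.S5022
import Groth.Agent.CurveRR24.SmoothCompletion
import Groth.Agent.NeronLib.Regular
import Groth.Agent.AlgSpLib.FibreDimChart
import Groth.Agent.DimLib.Morphism
import Groth.Agent.DimLib.Points

set_option autoImplicit false
universe u
open CategoryTheory CategoryTheory.Limits AlgebraicGeometry
open NonsingVar

namespace Groth.Agent.S12422

open CategoryTheory AlgebraicGeometry TopologicalSpace in
theorem fibreDimAt_eq {k : Type u} [Field k] {X : Scheme.{u}} (q : X ⟶ Spec (CommRingCat.of k))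
    [LocallyOfFiniteType q] [IrreducibleSpace X] (x : X) : FlatMor.fibreDimAt q x = topologicalKrullDim X := by
  have hsurj : Set.range (q.fiberι (q x)) = Set.univ := by
    rw [q.range_fiberι]; exact Set.eq_univ_of_forall fun y => Subsingleton.elim (α := PrimeSpectrum k) _ _
  have hopen : IsOpenMap (q.fiberι (q x)) :=
    (Topology.IsOpenEmbedding.mk (q.fiberι (q x)).isEmbedding (by rw [hsurj]; exact isOpen_univ)).isOpenMap
  have hgen : GeneralizingMap (q.fiberι (q x)) :=
    (Topology.IsOpenEmbedding.mk (q.fiberι (q x)).isEmbedding (by rw [hsurj]; exact isOpen_univ)).generalizingMap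
  rw [FlatMor.fibreDimAt, _root_.Groth.Agent.AlgSpLib.localDim_eq_of_map (q.fiberι (q x)).continuous hopen hgen
    (fun _ _ _ h => (q.fiberι (q x)).isEmbedding.injective h), Scheme.Hom.fiberι_asFiber]
  refine le_antisymm (iInf_le_of_le ⟨⊤, trivial⟩ (Topology.IsEmbedding.subtypeVal.isInducing.topologicalKrullDim_le))
    (le_iInf fun U => ?_)
  let V : X.Opens := U.1
  show _ ≤ topologicalKrullDim ↥V
  rw [DimLib.topologicalKrullDim_eq_ptDim_genericPoint q,
    show topologicalKrullDim ↥V = _ from DimLib.topologicalKrullDim_eq_iSup (X := V.toScheme) (V.ι ≫ q)]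
  have hη : genericPoint X ∈ V :=
    ((genericPoint_spec X).specializes (y := x) trivial).mem_open V.2 U.2
  exact le_iSup_of_le ⟨_, hη⟩ (le_of_eq (by rw [DimLib.ptDim_comp_preimmersion q V.ι]; rfl))

/-- Let k be an algebraically closed field, X an irreducible scheme which is separated and of finite
type over k, n = dim X, and (Ω, d) a sheaf of relative differentials of X over k, i.e. d : O_X → Ω a
universal k-derivation. Then Ω is locally free of rank n if and only if every local ring of X is
regular (X is a nonsingular variety over k). -/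
theorem result (k : Type u) [Field k] [IsAlgClosed k] (n : ℕ)
    (X : Scheme.{u}) [X.Over (Spec (CommRingCat.of k))] [IrreducibleSpace ↥X]
    [IsSeparated (X ↘ (Spec (CommRingCat.of k)))] [LocallyOfFiniteType (X ↘ (Spec (CommRingCat.of k)))]
    [QuasiCompact (X ↘ (Spec (CommRingCat.of k)))]
    (hn : topologicalKrullDim ↥X = (n : WithBot ℕ∞))
    (Ω : X.Modules) (d : OmegaSh.Der (X ↘ (Spec (CommRingCat.of k))) Ω) (hd : OmegaSh.IsUniversal d) :
    FlatMod.IsFinLocFreeOfRank n Ω ↔ ∀ x : ↥X, IsRegularLocalRing ↑(X.presheaf.stalk x) := by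
  let q := X ↘ (Spec (CommRingCat.of k))
  haveI : LocallyOfFinitePresentation q := inferInstance
  constructor
  · intro h
    have hs : Smooth q := by
      rw [← Scheme.Hom.smoothLocus_eq_top_iff, eq_top_iff]
      intro x _
      refine (_root_.Groth.Agent.S5022.result q Ω d hd x).2 ⟨?_, ?_⟩
      · haveI : Flat q := inferInstance
        exact Flat.stalkMap q x
      · obtain ⟨U, hx, e⟩ := h x
        exact ⟨U, n, hx, e, (fibreDimAt_eq q x).trans hn⟩
    exact fun x => _root_.Groth.Agent.NeronLib.isRegularLocalRing_stalk_of_smooth q x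
  · intro h x
    haveI : Smooth q := _root_.Groth.Agent.CurveRR24.smooth_of_regular_closedPoints q fun x _ => h x
    obtain ⟨U, m, hx, e, hm⟩ := _root_.Groth.Agent.OmegaLib.exists_free_rank_fibreDimAt hd x
    rw [fibreDimAt_eq q x, hn] at hm
    obtain rfl : n = m := by exact_mod_cast hm
    exact ⟨U, hx, e⟩

end Groth.Agent.S12422
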