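import Groth.Statements.S12425
import Groth.Agent.CubicSurface.PlanesThroughLine
-- import your own Groth.Agent.* helpers here

set_option autoImplicit false
universe u
open Cubic

namespace Groth.Agent.S12425

open Groth.Agent.CubicSurface

/-- Let k be an algebraically closed field of characteristic zero, S = V_+(f) ⊂ P^3_k a smooth cubic
surface (f a nonzero homogeneous cubic with the Jacobian condition at every nonzero zero) and L a
line on S, i.e. a 2-dimensional subspace of k^4 on which f vanishes. Then exactly five hyperplanes H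
⊇ L have H ∩ S equal to a union of three different lines: the set of 3-dimensional subspaces H of
k^4 containing L and containing two further lines of S, distinct from each other and from L, has
exactly 5 elements. -/
theorem result (k : Type u) [Field k] [IsAlgClosed k] [CharZero k]
    (f : MvPolynomial (Fin 4) k) (hf : f.IsHomogeneous 3) (hf0 : f ≠ 0)
    (hsm : ∀ v : Fin 4 → k, v ≠ 0 → MvPolynomial.eval v f = 0 →
      ∃ i : Fin 4, MvPolynomial.eval v (MvPolynomial.pderiv i f) ≠ 0)
    (L : Submodule k (Fin 4 → k)) (hL : Module.finrank k ↥L = 2) (hLS : ∀ u ∈ L, MvPolynomial.eval u f = 0) :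
    {H : Submodule k (Fin 4 → k) | Module.finrank k ↥H = 3 ∧ L ≤ H ∧
      ∃ L' L'' : Submodule k (Fin 4 → k), Module.finrank k ↥L' = 2 ∧ Module.finrank k ↥L'' = 2 ∧
        L' ≠ L ∧ L'' ≠ L ∧ L' ≠ L'' ∧ L' ≤ H ∧ L'' ≤ H ∧
        (∀ u ∈ L', MvPolynomial.eval u f = 0) ∧ (∀ u ∈ L'', MvPolynomial.eval u f = 0)}.ncard = 5 := by
  classical
  have hs := smooth_of hf hsm
  have hLl := (isLine_iff hf L).2 ⟨hL, hLS⟩
  obtain ⟨P, hPc, hP, hout⟩ := five_planes hs hLl
  rw [← hPc, ← Set.ncard_coe_finset]
  congr 1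
  ext H
  constructor
  · rintro ⟨hH, hLH, L', L'', h1, h2, h1L, -, -, h1H, -, h1S, -⟩
    by_contra hc
    exact h1L (hout H hH hLH hc L' ((isLine_iff hf L').2 ⟨h1, h1S⟩) h1H)
  · intro hH
    obtain ⟨hd, hLH, U, U', hU, hU', hUH, hU'H, hUL, hU'L, hne, -, -⟩ := hP H hH
    exact ⟨hd, hLH, U, U', hU.1, hU'.1, hUL, hU'L, hne, hUH, hU'H,
      ((isLine_iff hf U).1 hU).2, ((isLine_iff hf U').1 hU').2⟩

end Groth.Agent.S12425
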