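import Groth.Statements.S12427
import Groth.Agent.SerreDual.ExtShTensor

set_option autoImplicit false
universe u
open CategoryTheory AlgebraicGeometry
open Coherent

namespace Groth.Agent.S12427

/-- Let X be a scheme, L a finite locally free O_X-module with dual L^∨ = Hom_{O_X}(L, O_X), and F, G
arbitrary O_X-modules. Then for every i ≥ 0 the Ext sheaf Ext^i(F ⊗ L, G) is isomorphic to Ext^i(F,
G) ⊗ L^∨. Here Ext^i(M, -) is the i-th right derived functor of the internal Hom functor Hom(M, -),
whose existence, like that of injective resolutions, is an instance hypothesis (always true);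
existence of an isomorphism only, the published statement naming no map. (The published statement is
for ringed spaces and also gives the global Ext isomorphism; this row is for schemes and states the
sheaf isomorphism only.) -/
theorem result (X : Scheme.{u}) (F G L : X.Modules)
    (hL : FlatMod.IsFinLocFree L) (i : ℕ)
    [ModSite.HasSheafHom (O := X.sheaf) F] [ModSite.HasSheafHom (O := X.sheaf) L]
    [ModSite.HasSheafHom (O := X.sheaf) (CohB1.tensorMod F L)]
    [HasInjectiveResolutions (ModSite.Mod X.sheaf)] :
    Nonempty ((ModSite.extSh (O := X.sheaf) (CohB1.tensorMod F L) i).obj G ≅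
      CohB1.tensorMod ((ModSite.extSh (O := X.sheaf) F i).obj G)
        ((ModSite.sheafHom (O := X.sheaf) L).obj (Coh.structureModule X))) := by
  haveI hres : HasInjectiveResolutions X.Modules := SerreDual.hasInjectiveResolutions_modules X
  let I := injectiveResolution G
  obtain ⟨a⟩ := SerreDual.nonempty_homology_tensor hL F I i
  obtain ⟨b⟩ := SerreDual.nonempty_homology_congr (AmpleLib.tensorComm F L) I i
  exact ⟨SerreDual.extShIso (CohB1.tensorMod F L) I i ≪≫ b ≪≫ a ≪≫
    (AmpleLib.tensorIso (SerreDual.extShIso F I i) ((SerreDual.msSheafHomIso L).app _)).symm⟩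

end Groth.Agent.S12427
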