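import Groth.Statements.S12428
import Groth.Agent.S11194
-- import your own Groth.Agent.* helpers here

set_option autoImplicit false
universe u
open CategoryTheory MonoidalCategory CartesianMonoidalCategory MonObj GrpObj AlgebraicGeometry
open scoped TensorProduct
open AGF
set_option backward.isDefEq.respectTransparency false
set_option backward.isDefEq.respectTransparency.types false

namespace Groth.Agent.S12428

/-- Let k be an algebraically closed field, G a linear algebraic group over k (an affine smooth group
scheme over k), i : H → G a closed subgroup (smooth closed subgroup scheme), j : G° → G the identity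
component (a connected open subgroup scheme), and K = H ∩ G° the intersection subgroup scheme, with
homomorphisms a : K → H and b : K → G° whose underlying square of schemes is a pullback of i and j.
Then H is observable in G if and only if K is observable in G°. -/
theorem result (k : Type u) [Field k] [IsAlgClosed k]
    (G : Over (Spec (CommRingCat.of k))) [GrpObj G] [IsAffine G.left] [Smooth G.hom]
    (H : Over (Spec (CommRingCat.of k))) [GrpObj H] [Smooth H.hom] (i : H ⟶ G) [IsMonHom i]
    [IsClosedImmersion i.left]
    (G₀ : Over (Spec (CommRingCat.of k))) [GrpObj G₀] [ConnectedSpace G₀.left] (j : G₀ ⟶ G) [IsMonHom j]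
    [IsOpenImmersion j.left]
    (K : Over (Spec (CommRingCat.of k))) [GrpObj K] (a : K ⟶ H) [IsMonHom a] (b : K ⟶ G₀) [IsMonHom b]
    (hK : IsPullback a.left b.left i.left j.left) :
    AGF.IsObservableIn k i ↔ AGF.IsObservableIn k b := by
  have hc : b ≫ j = a ≫ i := Over.OverMorphism.ext (by simpa only [Over.comp_left] using hK.w.symm)
  haveI : IsClosedImmersion j.left := S11194.isClosedImmersion_of_open j
  haveI : IsOpenImmersion a.left := MorphismProperty.of_isPullback hK.flip inferInstance
  haveI : IsClosedImmersion b.left := MorphismProperty.of_isPullback hK inferInstance
  haveI : IsClosedImmersion a.left := S11194.isClosedImmersion_of_open a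
  haveI : Smooth K.hom := by rw [← Over.w a]; infer_instance
  haveI : Smooth G₀.hom := by rw [← Over.w j]; infer_instance
  haveI : IsAffine G₀.left := isAffine_of_isAffineHom j.left
  haveI : IsAffine H.left := isAffine_of_isAffineHom i.left
  haveI : IsAffine K.left := isAffine_of_isAffineHom a.left
  haveI : Mono j := (Over.forget _).mono_of_mono_map (show Mono j.left from inferInstance)
  constructor
  · intro hi
    refine S11194.isObservableIn_intermediate b j ?_
    rw [hc]
    exact Groth.Agent.S11195.result k G H i K a (Groth.Agent.S11193.isObservableIn_of_isOpenImmersion a) hi
  · intro hb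
    refine S11194.isObservableIn_of_open i a ?_
    rw [← hc]
    exact Groth.Agent.S11195.result k G G₀ j K b hb (Groth.Agent.S11193.isObservableIn_of_isOpenImmersion j)

end Groth.Agent.S12428
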