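import Groth.Statements.S12429
import Groth.Agent.EssDimConic.RuledInt
-- import your own Groth.Agent.* helpers here

set_option autoImplicit false
universe u
open CategoryTheory CategoryTheory.Limits AlgebraicGeometry
open Surf

namespace Groth.Agent.S12429

/-- Let π : X → C be a ruled surface over an algebraically closed field k: X a surface (integral, of
dimension two, all local rings regular, with a closed immersion into some P^n_k over k), C a curve
(integral, proper over k, of dimension one, all local rings regular), π a surjective k-morphism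
whose fibre over every closed point is isomorphic to P^1_k and which admits a section σ. Let L be an
invertible O_X-module, the sheaf of a divisor D, with D.f = n for every closed fibre f = π⁻¹(y),
written (L·I_f) = −n for the ideal I_f = m_y·O_X of the fibre and the intersection number (L·M) =
χ(O) − χ(L) − χ(M) + χ(L ⊗ M). Then π_*L is a locally free O_C-module of rank n + 1. Moreover π_*O_X
= O_C: for every open U of C the map O_C(U) → O_X(π⁻¹U) is bijective. -/
theorem result (k : Type u) [Field k] [IsAlgClosed k] (X : Scheme.{u}) [X.Over (Spec (CommRingCat.of k))]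
    [IsIntegral X] (hdim : topologicalKrullDim X = 2) (hreg : ∀ x : X, IsRegularLocalRing (X.presheaf.stalk x))
    (hproj : ∃ (n : ℕ) (ι : X ⟶ CohB1.ProjSpace n k), IsClosedImmersion ι ∧ ι ≫ CohB1.ProjSpace.toSpec n k = (X ↘ (Spec (CommRingCat.of k))))
    (C : Scheme.{u}) [C.Over (Spec (CommRingCat.of k))]
    [IsIntegral C] [IsProper (C ↘ (Spec (CommRingCat.of k)))] (hdimC : topologicalKrullDim C = 1)
    (hregC : ∀ x : C, IsRegularLocalRing (C.presheaf.stalk x))
    (π : X ⟶ C) (hπ : π ≫ (C ↘ (Spec (CommRingCat.of k))) = (X ↘ (Spec (CommRingCat.of k)))) (hsurj : Function.Surjective π)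
    (hfib : ∀ y : C, IsClosed ({y} : Set C) → Nonempty (pullback π (C.fromSpecResidueField y) ≅ CohB1.ProjSpace 1 k))
    (σ : C ⟶ X) (hσ : σ ≫ π = 𝟙 C)
    [HasInjectiveResolutions X.Modules] (n : ℕ) (L : X.Modules) (hL : PicF.IsInvertible L)
    (hdeg : ∀ (y : C) (hy : IsClosed ({y} : Set C)), FGA.intNum k X 2 ![L, (ClSub.idealMod ((Scheme.IdealSheafData.vanishingIdeal ⟨{y}, hy⟩).comap π))] (Coh.structureModule X) = -(n : ℤ)) :
    FlatMod.IsFinLocFreeOfRank (n + 1) ((Coh.push π).obj L) ∧
      ∀ U : C.Opens, Function.Bijective (π.app U).hom := by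
  obtain ⟨N, ι, hι, hιf⟩ := hproj
  have : IsProper (X ↘ Spec (CommRingCat.of k)) := by
    rw [← hιf]
    have := Groth.Agent.CurveLib.isProper_projSpace k N
    infer_instance
  have hC : Curve.IsSmoothProperCurve k C (C ↘ Spec (CommRingCat.of k)) :=
    ⟨inferInstance, Groth.Agent.CurveRR24.smooth_of_regular_closedPoints _ fun x _ => hregC x, inferInstance, hdimC⟩
  refine ⟨Groth.Agent.EssDimConic.push_locFree_of_deg k hdim hC π hπ hsurj hfib hL n hdeg, fun U => ?_⟩
  obtain ⟨_, _, _, -, -, -, -⟩ := Groth.Agent.EssDimConic.ruled_facts k hdim hC π hπ hsurj hfib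
  have : IsProper (π ≫ C ↘ Spec (CommRingCat.of k)) := by rw [hπ]; infer_instance
  have : IsProper π := IsProper.of_comp π (C ↘ Spec (CommRingCat.of k))
  have := Groth.Agent.Clifford24.isIso_unitToPush π (Groth.Agent.Clifford24.bijective_algebraMap_smooth_fibre π)
  exact ConcreteCategory.bijective_of_isIso ((ClSub.unitToPush π).app U)

end Groth.Agent.S12429
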