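import Groth.Statements.S12430
import Groth.Agent.Clifford24.SubBundle

set_option autoImplicit false
universe u
open CategoryTheory CategoryTheory.Limits AlgebraicGeometry
open Curves

namespace Groth.Agent.S12430

/-- Let C be a curve over an algebraically closed field k (integral, proper over k, of dimension one,
all local rings regular) and E a locally free O_C-module of rank 2 which is normalized — H^0(C, E) ≠
0 while H^0(C, E ⊗ M) = 0 for every invertible O_C-module M of negative degree. Then for every
nonzero morphism s : O_C → E the cokernel of s is an invertible O_C-module (so E is an extension of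
an invertible module by O_C). -/
theorem result (k : Type u) [Field k] [IsAlgClosed k] (C : Scheme.{u}) [C.Over (Spec (CommRingCat.of k))]
    [IsIntegral C] [IsProper (C ↘ (Spec (CommRingCat.of k)))] (hdimC : topologicalKrullDim C = 1)
    (hregC : ∀ x : C, IsRegularLocalRing (C.presheaf.stalk x))
    (E : C.Modules) (hE : FlatMod.IsFinLocFreeOfRank 2 E)
    (hE0 : Nontrivial (Coh.HH C E 0))
    (hEneg : ∀ M : C.Modules, PicF.IsInvertible M → Curv2.deg k C M 1 < 0 → Subsingleton (Coh.HH C (CohB1.tensorMod E M) 0))
    (s : Coh.structureModule C ⟶ E) (hs : s ≠ 0) :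
    PicF.IsInvertible (cokernel s) := by
  classical
  obtain ⟨hsm, hgi⟩ := Groth.Agent.Clifford24.smooth_geomIntegral_of_regular k hregC
  refine Groth.Agent.Clifford24.isInvertible_cokernel_of_no_twist k hE (fun P hP => ?_) s hs
  refine hEneg _ (Groth.Agent.CurveRR24.isInvertible_ptIdeal_of_normal k hdimC hP
    (Groth.Agent.Clifford24.isIntegrallyClosed_stalk_of_smooth k P)) ?_
  rw [Groth.Agent.CurveRR24.deg_ptIdeal k hP, Groth.Agent.CurveRR24.finrank_resField k hP]
  norm_num

end Groth.Agent.S12430
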