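import Groth.Statements.S12431
import Groth.Agent.Clifford24.RankTwoElliptic
import Groth.Agent.CurveRR24.Section
import Groth.Agent.Coherent.GradedCoh
-- import your own Groth.Agent.* helpers here

set_option autoImplicit false
universe u
open CategoryTheory CategoryTheory.Limits AlgebraicGeometry
open Curves

set_option backward.isDefEq.respectTransparency.types false
namespace Groth.Agent.S12431

open Groth.Agent Groth.Agent.Coherent Groth.Agent.EulerLib Groth.Agent.PicLib Groth.Agent.AmpleLib TopologicalSpace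

variable {X : Scheme.{u}} (k : Type u) [Field k] [X.Over (Spec (CommRingCat.of k))]

/-- A splitting from a lift of `1`. -/
theorem exists_section_of_lift {M : X.Modules} (ψ : M ⟶ Coh.structureModule X) (t : Γ(M, ⊤))
    (ht : ψ.app ⊤ t = (1 : Γ(X, ⊤))) : unitDesc M t ≫ ψ = 𝟙 _ := by
  refine CurveRR24.hom_ext_one _ _ fun V => ?_
  show ψ.app V (unitVal (unitDesc M t) V) = (1 : Γ(X, V))
  rw [unitVal_unitDesc, app_resM, ht]
  exact map_one (X.presheaf.map (homOfLE (le_top : V ≤ ⊤)).op).hom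

/-- A lift of `1` when `H¹` of the kernel injects. -/
theorem exists_lift_of_inj {S : ShortComplex X.Modules} (hS : S.ShortExact)
    (h : Function.Injective (postA (baseHom k X) S.f (⊤ : X.Opens) 1)) (z : Γ(S.X₃, ⊤)) :
    ∃ t : Γ(S.X₂, ⊤), S.g.app ⊤ t = z := by
  let ρ := baseHom k X
  let z' : GA ρ S.X₃ := z
  obtain ⟨y, hy⟩ := (exact_postA_deltaA ρ hS ⊤ 0 ((secA ρ _).symm z')).1
    (h (((exact_deltaA_postA ρ hS ⊤ 0 _).2 ⟨_, rfl⟩).trans (map_zero _).symm))
  refine ⟨secA ρ _ y, ?_⟩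
  have h2 := secA_natural ρ S.g y
  rw [hy, LinearEquiv.apply_symm_apply] at h2
  exact h2.symm

variable [IsProper (X ↘ Spec (CommRingCat.of k))] [IsIntegral X]
  [Smooth (X ↘ Spec (CommRingCat.of k))] [GeometricallyIntegral (X ↘ Spec (CommRingCat.of k))] [IsAlgClosed k]

include k in
theorem exists_seq (hdim : topologicalKrullDim X = 1) (hg : Curv2.genus k X = 1) {E : X.Modules}
    (hE : FlatMod.IsFinLocFreeOfRank 2 E) (hE0 : Nontrivial (Coh.HH X E 0))
    (hneg : ∀ M : X.Modules, PicF.IsInvertible M → Curv2.deg k X M 1 < 0 →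
      Subsingleton (Coh.HH X (CohB1.tensorMod E M) 0))
    (hind : ∀ L₁ L₂ : X.Modules, PicF.IsInvertible L₁ → PicF.IsInvertible L₂ → IsEmpty (E ≅ L₁ ⊞ L₂))
    (hd : Curv2.deg k X E 2 = 0) :
    ∃ (φ : Coh.structureModule X ⟶ E) (π : E ⟶ Coh.structureModule X) (w : φ ≫ π = 0),
      (ShortComplex.mk φ π w).ShortExact ∧ postA (baseHom k X) φ (⊤ : X.Opens) 1 = 0 := by
  haveI := EulerLib.isNoetherian_of_proper k (X := X)
  obtain ⟨φ, hφ, hmono, hQ, hdegE, -⟩ := Clifford24.exists_extension k hdim hE hE0 hneg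
  haveI := hmono
  have hEc : Coh.IsCoh E := SplitP1.isCoh_of_rank hE
  obtain ⟨N, hN, ⟨e⟩⟩ := CurveRR24.exists_inverse k hQ
  have hdN : Curv2.deg k X N 1 = 0 := by
    have h := CurveRR24.deg_inverse k hdim.le hQ hN e
    omega
  have h1N : ¬ Subsingleton (Coh.HH X N 1) := fun h => by
    obtain ⟨i⟩ := Clifford24.nonempty_iso_biprod_of_subsingleton k hEc φ hQ hN e h
    exact (hind _ _ AmpleLib.isInvertible_structureModule hQ).false i
  have hNc := CurveRR24.isCoh_of_isInvertible k hN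
  have hs : Nontrivial (Coh.HH X N 0) := by
    haveI := CurveRR24.finite_HH_of_isCoh k hNc 1
    haveI := CurveRR24.finite_HH_of_isCoh k hNc 0
    have h1 : 0 < Module.finrank k (Coh.HH X N 1) :=
      haveI := not_subsingleton_iff_nontrivial.1 h1N
      Module.finrank_pos
    refine Module.nontrivial_of_finrank_pos (R := k) ?_
    have h2 := CurveRR24.euler_eq_h0_sub_h1 k hdim.le N hNc.1
    have h3 := CurveRR24.euler_structure k (X := X) hdim.le
    rw [CurveRR24.h0_structure_of_geomIntegral k (X := X), hg] at h3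
    simp only [Curv2.deg] at hdN
    push_cast at hdN h3
    omega
  obtain ⟨eN⟩ := (CurveRR24.deg_nonneg_of_section k hdim.le hN hs).2.1 hdN
  let eQ : cokernel φ ≅ Coh.structureModule X :=
    (unitTensorIso (cokernel φ)).symm ≪≫ tensorComm _ _ ≪≫ AmpleLib.tensorIso (Iso.refl _) eN.symm ≪≫ e
  let S := ShortComplex.mk φ (cokernel.π φ ≫ eQ.hom) (by rw [cokernel.condition_assoc, zero_comp])
  have hS₀ : (ShortComplex.mk φ (cokernel.π φ) (cokernel.condition φ)).ShortExact :=
    { exact := ShortComplex.exact_of_g_is_cokernel _ (cokernelIsCokernel _) }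
  have hS : S.ShortExact := ShortComplex.shortExact_of_iso
    (ShortComplex.isoMk (S₁ := ShortComplex.mk φ (cokernel.π φ) (cokernel.condition φ)) (S₂ := S) (Iso.refl _) (Iso.refl _) eQ (by simp [S]) (by simp [S])) hS₀
  refine ⟨φ, cokernel.π φ ≫ eQ.hom, _, hS, ?_⟩
  let ρ := baseHom k X
  have hδ : deltaA ρ hS (⊤ : X.Opens) 0 ≠ 0 := fun h0 => by
    let one : GA ρ (Coh.structureModule X) := (1 : Γ(X, ⊤))
    obtain ⟨y, hy⟩ := (exact_postA_deltaA ρ hS ⊤ 0 ((secA ρ _).symm one)).1 (by rw [h0]; rfl)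
    have hlift : S.g.app ⊤ (secA ρ _ y) = (1 : Γ(X, ⊤)) := by
      have h2 := secA_natural ρ S.g y
      rw [hy, LinearEquiv.apply_symm_apply] at h2
      exact h2.symm
    exact (hind _ _ AmpleLib.isInvertible_structureModule AmpleLib.isInvertible_structureModule).false
      (ShortComplex.Splitting.ofExactOfSection S hS.exact _ (exists_section_of_lift S.g _ hlift)
        hS.mono_f).isoBinaryBiproduct
  have h1 : Module.finrank k (HA ρ (Coh.structureModule X) (⊤ : X.Opens) 1) = 1 := by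
    rw [← (HHBaseEquiv k (Coh.structureModule X) 1).finrank_eq]
    exact hg
  have htop : LinearMap.range (deltaA ρ hS (⊤ : X.Opens) 0) = ⊤ := by
    haveI := (Module.finite_of_finrank_eq_succ (R := k) (n := 0) h1)
    refine Submodule.eq_top_of_finrank_eq ?_
    refine le_antisymm (Submodule.finrank_le _) ?_
    rw [h1]
    rcases Nat.eq_zero_or_pos (Module.finrank k (LinearMap.range (deltaA ρ hS (⊤ : X.Opens) 0))) with h | h
    · exact absurd (LinearMap.range_eq_bot.1 (Submodule.finrank_eq_zero.1 h)) hδ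
    · exact h
  refine LinearMap.ext fun x => ?_
  obtain ⟨y, hy⟩ := LinearMap.range_eq_top.1 htop x
  rw [← hy]
  exact (exact_deltaA_postA ρ hS ⊤ 0 _).2 ⟨y, rfl⟩

include k in
theorem nonempty_iso (hdim : topologicalKrullDim X = 1) {E E' : X.Modules} {φ : Coh.structureModule X ⟶ E}
    {π : E ⟶ Coh.structureModule X} {w : φ ≫ π = 0} {φ' : Coh.structureModule X ⟶ E'}
    {π' : E' ⟶ Coh.structureModule X} {w' : φ' ≫ π' = 0}
    (hne : ∃ y, y ≠ (0 : HA (baseHom k X) (Coh.structureModule X) (⊤ : X.Opens) 1))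
    (hS : (ShortComplex.mk φ π w).ShortExact) (hS' : (ShortComplex.mk φ' π' w').ShortExact)
    (h1 : postA (baseHom k X) φ (⊤ : X.Opens) 1 = 0) (h1' : postA (baseHom k X) φ' (⊤ : X.Opens) 1 = 0) :
    Nonempty (E ≅ E') := by
  let ρ := baseHom k X
  haveI : Mono φ := hS.mono_f
  haveI : Mono φ' := hS'.mono_f
  haveI : Epi π := hS.epi_g
  let ψ : Coh.structureModule X ⟶ E ⊞ E' := φ ≫ biprod.inl - φ' ≫ biprod.inr
  have hψf : ψ ≫ biprod.fst = φ := by simp [ψ]
  haveI : Mono ψ := haveI : Mono (ψ ≫ biprod.fst) := hψf.symm ▸ inferInstance; mono_of_mono ψ biprod.fst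
  let p := cokernel.π ψ
  let gP : cokernel ψ ⟶ Coh.structureModule X := cokernel.desc ψ (biprod.fst ≫ π) (by rw [← Category.assoc, hψf, w])
  let fP : E' ⟶ cokernel ψ := biprod.inr ≫ p
  have wP : fP ≫ gP = 0 := by simp [fP, gP, p]
  have hT : (ShortComplex.mk ψ p (cokernel.condition ψ)).ShortExact :=
    { exact := ShortComplex.exact_of_g_is_cokernel _ (cokernelIsCokernel _) }
  haveI : Mono fP := Preadditive.mono_of_cancel_zero _ fun {T} v hv => by
    have hv' : (v ≫ biprod.inr) ≫ p = 0 := by rw [Category.assoc]; exact hv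
    let l := hT.fIsKernel.lift (KernelFork.ofι (v ≫ biprod.inr) hv')
    have hl : l ≫ ψ = v ≫ biprod.inr := Fork.IsLimit.lift_ι hT.fIsKernel
    have h2 : l ≫ φ = 0 := by rw [← hψf, ← Category.assoc, hl, Category.assoc, biprod.inr_fst, comp_zero]
    rw [(cancel_mono φ).1 (h2.trans zero_comp.symm), zero_comp] at hl
    simpa using (congrArg (· ≫ (biprod.snd : E ⊞ E' ⟶ E')) hl).symm
  haveI : Epi gP := by
    haveI : Epi (p ≫ gP) := by
      rw [show p ≫ gP = biprod.fst ≫ π from cokernel.π_desc _ _ _]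
      exact epi_comp _ _
    exact epi_of_epi p gP
  have hP : (ShortComplex.mk fP gP wP).ShortExact :=
    { exact := ShortComplex.exact_of_g_is_cokernel _ (CokernelCofork.IsColimit.ofπ' _ _ fun {Z} h hh => by
        have h3 : ψ ≫ p ≫ h = 0 := by simp [p]
        have hh' : (biprod.inr : E' ⟶ E ⊞ E') ≫ p ≫ h = 0 := by simpa [fP] using hh
        have hφh : φ ≫ biprod.inl ≫ p ≫ h = 0 := by simpa [ψ, hh', Preadditive.sub_comp] using h3
        let c := CokernelCofork.IsColimit.desc' hS.gIsCokernel (biprod.inl ≫ p ≫ h) hφh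
        have hc : π ≫ c.1 = biprod.inl ≫ p ≫ h := c.2
        refine ⟨c.1, ?_⟩
        rw [← cancel_epi p]
        refine biprod.hom_ext' _ _ ?_ ?_
        · simpa [gP, p] using hc
        · simpa [gP, p, fP] using hh.symm) }
  have hinj : Function.Injective (postA ρ fP (⊤ : X.Opens) 1) := by
    refine (injective_iff_map_eq_zero _).2 fun x hx => ?_
    have hx' : postA ρ p ⊤ 1 (postA ρ (biprod.inr : E' ⟶ E ⊞ E') ⊤ 1 x) = 0 := by
      rw [← postA_comp]
      exact hx
    obtain ⟨y, hy⟩ := (exact_postA ρ hT ⊤ 1 _).1 hx'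
    have h2 := congrArg (postA ρ (biprod.snd : E ⊞ E' ⟶ E') ⊤ 1) hy
    rw [← postA_comp, ← postA_comp, biprod.inr_snd, postA_id] at h2
    rw [← h2]
    have hsnd : ψ ≫ biprod.snd = (-𝟙 (Coh.structureModule X)) ≫ φ' := by simp [ψ]
    show postA ρ (ψ ≫ biprod.snd) ⊤ 1 y = 0
    rw [hsnd, postA_comp, h1']
    rfl
  obtain ⟨t, ht⟩ := exists_lift_of_inj k hP hinj (1 : Γ(X, ⊤))
  let sp := ShortComplex.Splitting.ofExactOfSection _ hP.exact _ (exists_section_of_lift gP t ht) hP.mono_f
  let f : E ⟶ E' := biprod.inl ≫ p ≫ sp.r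
  have hf : φ ≫ f = φ' := by
    have h3 : ψ ≫ p = 0 := cokernel.condition ψ
    have h4 : φ ≫ biprod.inl ≫ p = φ' ≫ fP := by
      rw [← sub_eq_zero]
      simpa [ψ, fP, Preadditive.sub_comp] using h3
    rw [show φ ≫ f = (φ ≫ biprod.inl ≫ p) ≫ sp.r by simp [f], h4, Category.assoc]
    exact (congrArg (φ' ≫ ·) sp.f_r).trans (Category.comp_id _)
  let b : Coh.structureModule X ⟶ Coh.structureModule X :=
    hS.gIsCokernel.desc (CokernelCofork.ofπ (f ≫ π') (by
      show φ ≫ f ≫ π' = 0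
      rw [← Category.assoc, hf, w']))
  have hb : π ≫ b = f ≫ π' := hS.gIsCokernel.fac _ WalkingParallelPair.one
  have hb0 : b ≠ 0 := fun h0 => by
    have h3 : f ≫ π' = 0 := by rw [← hb, h0, comp_zero]
    let r := hS'.fIsKernel.lift (KernelFork.ofι f h3)
    have hr : r ≫ φ' = f := Fork.IsLimit.lift_ι hS'.fIsKernel
    have hr1 : φ ≫ r = 𝟙 _ := by rw [← cancel_mono φ', Category.assoc, hr, hf, Category.id_comp]
    have hinj : Function.Injective (postA ρ φ (⊤ : X.Opens) 1) := by
      intro a c hac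
      have h5 := congrArg (postA ρ r ⊤ 1) hac
      rwa [← postA_comp, ← postA_comp, hr1, postA_id, postA_id] at h5
    obtain ⟨y, hy⟩ : ∃ y, y ≠ (0 : HA ρ (Coh.structureModule X) (⊤ : X.Opens) 1) := hne
    exact hy (hinj (by rw [h1]; rfl))
  haveI : IsIso b := by
    by_contra hbi
    exact lt_irrefl _ (Clifford24.deg_lt_of_hom k hdim AmpleLib.isInvertible_structureModule
      AmpleLib.isInvertible_structureModule b hb0 hbi)
  let m : ShortComplex.mk φ π w ⟶ ShortComplex.mk φ' π' w' :=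
    { τ₁ := 𝟙 _, τ₂ := f, τ₃ := b, comm₁₂ := by simp [hf], comm₂₃ := hb.symm }
  haveI : IsIso m.τ₁ := inferInstanceAs (IsIso (𝟙 _))
  haveI : IsIso m.τ₃ := inferInstanceAs (IsIso b)
  haveI := ShortComplex.isIso₂_of_shortExact_of_isIso₁₃ m hS hS'
  exact ⟨asIso m.τ₂⟩

/-- Uniqueness, e = 0 case: let C be an elliptic curve over an algebraically closed field k — integral,
proper over k, of dimension one, all local rings regular, of genus 1 — and let E and E′ be locally
free O_C-modules of rank 2 which are normalized (H^0(C, E) ≠ 0 while H^0(C, E ⊗ M) = 0 for every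
invertible M of negative degree; likewise for E′), indecomposable (not isomorphic to a direct sum of
two invertible modules) and of degree 0, where deg E = χ(E) − 2χ(O_C). Then E and E′ are isomorphic:
there is exactly one elliptic ruled surface with invariant e = 0 and indecomposable E. -/
theorem result (k : Type u) [Field k] [IsAlgClosed k] (C : Scheme.{u}) [C.Over (Spec (CommRingCat.of k))]
    [IsIntegral C] [IsProper (C ↘ (Spec (CommRingCat.of k)))] (hdimC : topologicalKrullDim C = 1)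
    (hregC : ∀ x : C, IsRegularLocalRing (C.presheaf.stalk x)) (hg : Curv2.genus k C = 1)
    (E : C.Modules) (hE : FlatMod.IsFinLocFreeOfRank 2 E)
    (hE0 : Nontrivial (Coh.HH C E 0))
    (hEneg : ∀ M : C.Modules, PicF.IsInvertible M → Curv2.deg k C M 1 < 0 → Subsingleton (Coh.HH C (CohB1.tensorMod E M) 0))
    (hEind : ∀ L₁ L₂ : C.Modules, PicF.IsInvertible L₁ → PicF.IsInvertible L₂ → IsEmpty (E ≅ L₁ ⊞ L₂))
    (hEdeg : Curv2.deg k C E 2 = 0)
    (E' : C.Modules) (hE' : FlatMod.IsFinLocFreeOfRank 2 E')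
    (hE'0 : Nontrivial (Coh.HH C E' 0))
    (hE'neg : ∀ M : C.Modules, PicF.IsInvertible M → Curv2.deg k C M 1 < 0 → Subsingleton (Coh.HH C (CohB1.tensorMod E' M) 0))
    (hE'ind : ∀ L₁ L₂ : C.Modules, PicF.IsInvertible L₁ → PicF.IsInvertible L₂ → IsEmpty (E' ≅ L₁ ⊞ L₂))
    (hE'deg : Curv2.deg k C E' 2 = 0) :
    Nonempty (E ≅ E') := by
  classical
  haveI := EulerLib.isNoetherian_of_proper k (X := C)
  obtain ⟨hsm, hgi⟩ := Clifford24.smooth_geomIntegral_of_regular (k := k) (X := C) hregC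
  obtain ⟨φ, π, w, hS, hφ⟩ := exists_seq k hdimC hg hE hE0 hEneg hEind hEdeg
  obtain ⟨φ', π', w', hS', hφ'⟩ := exists_seq k hdimC hg hE' hE'0 hE'neg hE'ind hE'deg
  refine nonempty_iso k hdimC ?_ hS hS' hφ hφ'
  haveI : Nontrivial (HA (baseHom k C) (Coh.structureModule C) (⊤ : C.Opens) 1) := by
    refine Module.nontrivial_of_finrank_pos (R := k) ?_
    rw [← (HHBaseEquiv k (Coh.structureModule C) 1).finrank_eq]
    exact lt_of_lt_of_eq one_pos hg.symm
  exact exists_ne 0

end Groth.Agent.S12431
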