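import Groth.Statements.S12432
import Groth.Agent.EulerPn5.Dim
import Groth.Agent.PruferLib.ProjVanish
import Groth.Agent.CurveRR24.VeryAmple
import Groth.Agent.Clifford24.NotHyp
import Groth.Agent.Clifford24.EqualityMain
import Groth.Agent.Clifford24.Canonical
-- import your own Groth.Agent.* helpers here

set_option autoImplicit false
universe u
open CategoryTheory CategoryTheory.Limits AlgebraicGeometry
open Curves

set_option backward.isDefEq.respectTransparency.types false
namespace Groth.Agent.S12432

/-- In degree d = 6 the curve is canonical. Take k algebraically closed and suppose X is a curve over k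
(integral, proper over k, one-dimensional, with every local ring regular), equipped with a closed
immersion i : X → P^3_k over k whose image lies in no plane — that is, any nonzero global section of
O(1) on P^3_k pulls back to a nonzero global section of i^*O(1). Assume the hyperplane section is
special, meaning H^1(X, i^*O(1)) ≠ 0, and that deg i^*O(1) = 6. Then i^*O(1) is isomorphic to the
canonical sheaf Ω_{X/k}, and X has genus 4 (so X is a canonical curve of genus 4; the isomorphism is
asserted to exist as O_X-modules). -/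
theorem result (k : Type u) [Field k] [IsAlgClosed k] (X : Scheme.{u}) [X.Over (Spec (CommRingCat.of k))]
    [IsIntegral X] [IsProper (X ↘ (Spec (CommRingCat.of k)))] (hdim : topologicalKrullDim X = 1)
    (hreg : ∀ x : X, IsRegularLocalRing (X.presheaf.stalk x))
    (i : X ⟶ CohB1.ProjSpace 3 k) [IsClosedImmersion i] (hi : i ≫ CohB1.ProjSpace.toSpec 3 k = (X ↘ (Spec (CommRingCat.of k))))
    (hplane : ∀ s : LinSer.Sect (CohB1.ProjSpace 3 k) (Twist.twistProjSpace 3 k 1), s ≠ 0 →
      OmegaSh.pullSect i (Twist.twistProjSpace 3 k 1) ⊤ s ≠ 0)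
    (hspecial : Nontrivial (Coh.HH X ((Scheme.Modules.pullback i).obj (Twist.twistProjSpace 3 k 1)) 1))
    (hdeg : Curv2.deg k X ((Scheme.Modules.pullback i).obj (Twist.twistProjSpace 3 k 1)) 1 = 6) :
    Nonempty (((Scheme.Modules.pullback i).obj (Twist.twistProjSpace 3 k 1)) ≅ Omega.sheaf (X ↘ (Spec (CommRingCat.of k)))) ∧ Curv2.genus k X = 4 := by
  classical
  haveI := EulerLib.isNoetherian_of_proper k (X := X)
  haveI : IsProper (CohB1.ProjSpace.toSpec 3 k) := CurveLib.isProper_projSpace k 3
  haveI : IsProper (CohB1.ProjSpace 3 k ↘ Spec (CommRingCat.of k)) := CurveLib.isProper_projSpace k 3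
  haveI : QuasiSeparated (CohB1.ProjSpace.toSpec 3 k) := inferInstance
  obtain ⟨hsm, hgi⟩ := Clifford24.smooth_geomIntegral_of_regular (k := k) (X := X) hreg
  set L := (Scheme.Modules.pullback i).obj (Twist.twistProjSpace 3 k 1) with hLdef
  have hL : PicF.IsInvertible L :=
    PicLoc.isInvertible_pullback i (PruferLib.ProjVanish.isInvertible_twist (n := 3) (R := k) 1)
  have h4 : 4 ≤ Module.finrank k (Coh.HH X L 0) := by
    haveI := CurveRR24.finite_HH_of_isCoh k (CurveRR24.isCoh_of_isInvertible k hL) 0
    haveI : Module.Finite k (Coherent.GA (Coherent.baseHom k X) L) :=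
      Module.Finite.equiv (CurveRR24.hhZero k L)
    have hb : ∀ c : k, i.app ⊤ (Coherent.baseHom k (CohB1.ProjSpace 3 k) c) = Coherent.baseHom k X c :=
      fun c => by
        show i.appTop ((CohB1.ProjSpace.toSpec 3 k).appTop ((Scheme.ΓSpecIso (CommRingCat.of k)).inv c)) =
          (X ↘ Spec (CommRingCat.of k)).appTop ((Scheme.ΓSpecIso (CommRingCat.of k)).inv c)
        rw [← hi, Scheme.Hom.comp_appTop]
        rfl
    let F : Coherent.GA (Coherent.baseHom k (CohB1.ProjSpace 3 k)) (Twist.twistProjSpace 3 k 1) →ₗ[k]
        Coherent.GA (Coherent.baseHom k X) L :=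
      { toFun := fun s => OmegaSh.pullSect i (Twist.twistProjSpace 3 k 1) ⊤ s
        map_add' := fun a b => map_add _ a b
        map_smul' := fun c a => by
          refine (PrinLib.pullSect_smul i (Twist.twistProjSpace 3 k 1) ⊤ _ a).trans ?_
          exact congrArg (· • OmegaSh.pullSect i (Twist.twistProjSpace 3 k 1) ⊤ a) (hb c) }
    have hFi : Function.Injective F := (injective_iff_map_eq_zero F).2 fun s hs => by
      by_contra hne
      exact hplane s hne hs
    have h := LinearMap.finrank_le_finrank_of_injective hFi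
    rw [← (CurveRR24.hhZero k L).finrank_eq,
      ← (CurveRR24.hhZero k (Twist.twistProjSpace 3 k 1)).finrank_eq,
      EulerPn5.finrank_twist 1 (Or.inl (by norm_num))] at h
    simpa using h
  obtain ⟨N, hN, ⟨e⟩⟩ := CurveRR24.exists_inverse k hL
  have h1 := Clifford24.h1_eq_h0_omega k hdim hL hN e
  haveI := CurveRR24.finite_HH_of_isCoh k (CurveRR24.isCoh_of_isInvertible k hL) 1
  haveI := CurveRR24.finite_HH_of_isCoh k (CurveRR24.isCoh_of_isInvertible k hL) 0
  have h1p : 0 < Module.finrank k (Coh.HH X L 1) :=
    haveI := hspecial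
    Module.finrank_pos
  have hrr := Clifford24.riemann_roch_omega k hdim hL hN e
  have hs : Nontrivial (Coh.HH X L 0) := Module.nontrivial_of_finrank_pos (R := k) (by omega)
  have hsp : Nontrivial (Coh.HH X (CohB1.tensorMod (Omega.sheaf (X ↘ Spec (CommRingCat.of k))) N) 0) :=
    Module.nontrivial_of_finrank_pos (R := k) (by omega)
  have hle := Clifford24.h0_add_h0_le_genus k hdim hL hN e hs hsp
  change Curv2.deg k X L 1 = 6 at hdeg
  rw [hdeg] at hrr
  have h0 : Module.finrank k (Coh.HH X L 0) = 4 := by omega
  by_cases hg : Curv2.genus k X = 4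
  · exact ⟨Clifford24.nonempty_iso_omega_of_deg k hdim hL (by omega) (by omega), hg⟩
  exfalso
  have hg5 : 5 ≤ Curv2.genus k X := by omega
  obtain ⟨M, hM, hMd, hM2⟩ := Clifford24.exists_g12_of_equality k hdim 4 hL h0 (by norm_num)
    (by omega) (by omega)
  have hdrop := fun P Q hP hQ => CurveRR24.drop_of_closedImmersion k hdim hreg hL i hi
    (Iso.refl _) (P := P) (Q := Q) hP hQ
  have := Clifford24.h1_eq_zero_of_drop_of_g12 k hdim (by omega) hL hdrop hM hMd hM2
  omega

end Groth.Agent.S12432
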