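import Groth.Statements.S12434
import Groth.Agent.InjMod14.Decomp

set_option autoImplicit false
universe u
open CategoryTheory CategoryTheory.Limits AlgebraicGeometry
open Coherent

namespace Groth.Agent.S12434

/-- On a locally Noetherian scheme X every injective O_X-module (injective object of the category of all
O_X-modules) is isomorphic to a direct sum of indecomposable injective O_X-modules — a coproduct of
a family of injective modules J_i, each nonzero and such that in any decomposition J_i ≅ A ⊞ B one
of A, B is zero. (The published statement also asserts uniqueness of the decomposition, not restated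
here.) -/
theorem result {X : Scheme.{u}} [IsLocallyNoetherian X]
    (I : X.Modules) (hI : Injective I) :
    ∃ (ι : Type u) (J : ι → X.Modules), (∀ i, Injective (J i)) ∧ (∀ i, ¬ IsZero (J i)) ∧
      (∀ i (A B : X.Modules), Nonempty (J i ≅ A ⊞ B) → IsZero A ∨ IsZero B) ∧ Nonempty (I ≅ ∐ J) := by
  haveI := hI
  obtain ⟨κ, J, hJ, hiso⟩ := InjMod14.exists_decomposition I
  exact ⟨κ, J, fun i => (hJ i).1, fun i => (hJ i).2.1, fun i A B h => (hJ i).2.2 A B h, hiso⟩

end Groth.Agent.S12434
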