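import Groth.Statements.S12435
import Groth.Agent.VADescent28.Main
import Groth.Agent.S12474
import Groth.Agent.S12481
import Groth.Agent.S9719

set_option autoImplicit false
set_option linter.style.haveILetI false
set_option backward.isDefEq.respectTransparency false
universe u
open CategoryTheory CategoryTheory.Limits AlgebraicGeometry
open Desc

namespace Groth.Agent.S12435

theorem toVA {X S : Scheme.{u}} (f : X ⟶ S) [LocallyOfFiniteType f] [QuasiCompact f] (L : X.Modules)
    (hL : PicF.IsInvertible L)
    (h : ∀ y : S, ∃ U : S.Opens, y ∈ U ∧ RelAmple.IsRelVeryAmplePn (f ∣_ U) (L.restrict (f ⁻¹ᵁ U).ι)) :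
    RelProj.IsRelVeryAmple f L := by
  choose U hy hU using h
  exact Groth.Agent.S12481.result f L hL U (eq_top_iff.2 fun y _ => TopologicalSpace.Opens.mem_iSup.2 ⟨y, hy y⟩) hU

theorem ofVA {X S : Scheme.{u}} (f : X ⟶ S) [LocallyOfFiniteType f] [QuasiCompact f] (L : X.Modules)
    (hL : PicF.IsInvertible L) (h : RelProj.IsRelVeryAmple f L) (y : S) :
    ∃ U : S.Opens, y ∈ U ∧ RelAmple.IsRelVeryAmplePn (f ∣_ U) (L.restrict (f ⁻¹ᵁ U).ι) := by
  obtain ⟨ι, V, hV, hj⟩ := Groth.Agent.S9719.result f L hL h
  obtain ⟨j, hy⟩ := TopologicalSpace.Opens.mem_iSup.1 (hV.ge (TopologicalSpace.Opens.mem_top y))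
  exact ⟨V j, hy, hj j⟩

/-- Let f : X → Y be a morphism of finite type, g : Y′ → Y faithfully flat and quasi-compact, X′ = X ×_Y
Y′ with projections f′ : X′ → Y′ and g′ : X′ → X, and L an invertible O_X-module (locally isomorphic
to O_X). Then L is very ample for f — every point of Y has an open neighbourhood U with an immersion
of f⁻¹(U) into some P^n_U over U under which O(1) pulls back to L — if and only if g′^*L is very
ample for f′ in the same sense. (The published statement has X, Y over a base S and base change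
along a faithfully flat quasi-compact S′ → S; the case S = Y stated here is equivalent.) -/
theorem result {X Y Y' : Scheme.{u}} (f : X ⟶ Y)
    [LocallyOfFiniteType f] [QuasiCompact f] (g : Y' ⟶ Y) [Surjective g] [Flat g] [QuasiCompact g]
    (L : X.Modules) (hL : PicF.IsInvertible L) :
    (∀ y : Y, ∃ U : Y.Opens, y ∈ U ∧ RelAmple.IsRelVeryAmplePn (f ∣_ U) (L.restrict (f ⁻¹ᵁ U).ι)) ↔
      ∀ y' : Y', ∃ U' : Y'.Opens, y' ∈ U' ∧
        RelAmple.IsRelVeryAmplePn (pullback.snd f g ∣_ U')
          (((Scheme.Modules.pullback (pullback.fst f g)).obj L).restrict (pullback.snd f g ⁻¹ᵁ U').ι) := by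
  constructor
  · intro h y'
    have hva : RelProj.IsRelVeryAmple f L := toVA f L hL h
    exact ofVA (pullback.snd f g) _ (PicLoc.isInvertible_pullback _ hL)
      (Groth.Agent.S12474.result f g (pullback.fst f g) (pullback.snd f g) (IsPullback.of_hasPullback f g) L hL hva) y'
  · intro h
    exact ofVA f L hL (Groth.Agent.VADescent28.isRelVeryAmple_of_fpqc f g (pullback.fst f g) (pullback.snd f g)
      (IsPullback.of_hasPullback f g) L hL (toVA (pullback.snd f g) _ (PicLoc.isInvertible_pullback _ hL) h))

end Groth.Agent.S12435
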