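import Groth.Statements.S1244
import Groth.Prelude.Def_FlatCA
import Mathlib.AlgebraicGeometry.QuasiAffine
import Mathlib.AlgebraicGeometry.ZariskisMainTheorem

set_option autoImplicit false
universe u
open FlatMor

namespace Groth.Agent.S1244

open AlgebraicGeometry CategoryTheory in
/-- Let A be the limit of an inverse system of rings (A_n) indexed by the natural numbers whose
transition maps are surjective with locally nilpotent kernels. Let T → Spec A be a monomorphism of
schemes which is locally of finite type. If each Spec A_n → Spec A factors through T, then T → Spec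
A is an isomorphism. -/
theorem result {A : Type u} [CommRing A] (A' : ℕ → Type u) [∀ n, CommRing (A' n)]
    (φ : ∀ n, A' (n + 1) →+* A' n) (π : ∀ n, A →+* A' n) (hlim : FlatCA.IsRingLimit A A' φ π)
    (hsurj : ∀ n, Function.Surjective (φ n)) (hnil : ∀ n, ∀ x ∈ RingHom.ker (φ n), IsNilpotent x)
    {T : Scheme.{u}} (h : T ⟶ Spec (CommRingCat.of A)) [Mono h] [LocallyOfFiniteType h]
    (hsec : ∀ n, ∃ g : Spec (CommRingCat.of (A' n)) ⟶ T, g ≫ h = Spec.map (CommRingCat.ofHom (π n))) :
    IsIso h := by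
  obtain ⟨hπ, hinj, hex⟩ := hlim
  choose g hg using hsec
  have hgφ : ∀ n, Spec.map (CommRingCat.ofHom (φ n)) ≫ g (n + 1) = g n := fun n => by
    rw [← cancel_mono h, Category.assoc, hg, hg, ← Spec.map_comp, ← CommRingCat.ofHom_comp, hπ]
  -- an open quasi-compact part of `T` containing all the sections
  obtain ⟨T', hT'c, hT'0⟩ : ∃ T' : T.Opens, IsCompact (T' : Set T) ∧ Set.range (g 0) ⊆ (T' : Set T) := by
    obtain ⟨t, ht⟩ := (isCompact_range (g 0).continuous).elim_finite_subcover
      (fun U : T.affineOpens => ((U : T.Opens) : Set T)) (fun U => U.1.2) fun x _ => by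
        obtain ⟨U, hU, hx, -⟩ := exists_isAffineOpen_mem_and_subset (x := x) (U := ⊤) trivial
        exact Set.mem_iUnion.2 ⟨⟨U, hU⟩, hx⟩
    refine ⟨⟨⋃ U ∈ t, ((U : T.Opens) : Set T), isOpen_biUnion fun U _ => U.1.2⟩,
      t.finite_toSet.isCompact_biUnion fun U _ => U.2.isCompact, ht⟩
  have hrange : ∀ n, Set.range (g n) ⊆ (T' : Set T) := by
    intro n
    induction n with
    | zero => exact hT'0
    | succ n ih =>
      rintro _ ⟨P, rfl⟩
      obtain ⟨P', rfl⟩ : ∃ P', Spec.map (CommRingCat.ofHom (φ n)) P' = P := by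
        have hs : ∀ Q : PrimeSpectrum (A' (n + 1)), Q ∈ Set.range (PrimeSpectrum.comap (φ n)) := fun Q => by
          rw [_root_.range_comap_of_surjective _ _ (hsurj n), PrimeSpectrum.mem_zeroLocus]
          exact fun z hz => nilradical_le_prime Q.asIdeal (hnil n z hz)
        exact hs P
      rw [← Scheme.Hom.comp_apply, hgφ]
      exact ih ⟨P', rfl⟩
  let W : Scheme.{u} := T'
  let w : W ⟶ Spec (CommRingCat.of A) := T'.ι ≫ h
  haveI : CompactSpace W := isCompact_iff_compactSpace.1 hT'c
  haveI : LocallyQuasiFinite w := locallyQuasiFinite_iff_isDiscrete_preimage_singleton.mpr fun x =>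
    (Set.subsingleton_singleton.preimage w.injective).isDiscrete
  haveI : QuasiCompact w := (quasiCompact_iff_compactSpace w).2 ‹_›
  haveI : W.IsQuasiAffine :=
    have : IsAffine w.normalization := isAffine_of_isAffineHom w.fromNormalization
    Scheme.IsQuasiAffine.of_isImmersion w.toNormalization
  let j : W ⟶ Spec Γ(W, ⊤) := W.toSpecΓ
  let hA : CommRingCat.of A ⟶ Γ(W, ⊤) := (Scheme.ΓSpecIso (CommRingCat.of A)).inv ≫ w.appTop
  have hjw : j ≫ Spec.map hA = w := by
    rw [Spec.map_comp, ← Category.assoc, ← Scheme.toSpecΓ_naturality, Category.assoc,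
      toSpecΓ_SpecMap_ΓSpecIso_inv, Category.comp_id]
  let g' : ∀ n, Spec (CommRingCat.of (A' n)) ⟶ W := fun n =>
    IsOpenImmersion.lift T'.ι (g n) (by rw [Scheme.Opens.range_ι]; exact hrange n)
  have hg' : ∀ n, g' n ≫ T'.ι = g n := fun n => IsOpenImmersion.lift_fac _ _ _
  let e : ∀ n, Γ(W, ⊤) ⟶ CommRingCat.of (A' n) := fun n => Spec.preimage (g' n ≫ j)
  have he : ∀ n, Spec.map (e n) = g' n ≫ j := fun n => Spec.map_preimage _
  have hecomp : ∀ n, e (n + 1) ≫ CommRingCat.ofHom (φ n) = e n := fun n => by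
    apply Spec.map_injective
    rw [Spec.map_comp, he, he, ← Category.assoc]
    congr 1
    rw [← cancel_mono T'.ι, Category.assoc, hg', hg', hgφ]
  have heA : ∀ n, hA ≫ e n = CommRingCat.ofHom (π n) := fun n => by
    apply Spec.map_injective
    rw [Spec.map_comp, he, Category.assoc, hjw, ← Category.assoc, hg', hg]
  choose σ hσ using fun c : Γ(W, ⊤) => hex (fun n => (e n).hom c)
    (fun n => congrArg (fun ψ : Γ(W, ⊤) ⟶ CommRingCat.of (A' n) => ψ.hom c) (hecomp n))
  let σh : Γ(W, ⊤) →+* A :=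
    { toFun := σ
      map_one' := hinj _ _ fun n => by rw [hσ, map_one, map_one]
      map_mul' := fun a b => hinj _ _ fun n => by rw [hσ, map_mul, map_mul, hσ, hσ]
      map_zero' := hinj _ _ fun n => by rw [hσ, map_zero, map_zero]
      map_add' := fun a b => hinj _ _ fun n => by rw [hσ, map_add, map_add, hσ, hσ] }
  have hσA : hA ≫ CommRingCat.ofHom σh = 𝟙 _ := CommRingCat.hom_ext <| RingHom.ext fun a =>
    hinj _ _ fun n => (hσ (hA.hom a) n).trans
      (congrArg (fun ψ : CommRingCat.of A ⟶ CommRingCat.of (A' n) => ψ.hom a) (heA n))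
  have hσe : CommRingCat.ofHom σh ≫ CommRingCat.ofHom (π 0) = e 0 :=
    CommRingCat.hom_ext <| RingHom.ext fun c => hσ c 0
  -- the kernel of `π 0` lies in the Jacobson radical
  have hker : ∀ a, π 0 a = 0 → IsUnit (1 + a) := by
    intro a ha
    have hn : ∀ n, IsNilpotent (π n a) := by
      intro n
      induction n with
      | zero => rw [ha]; exact IsNilpotent.zero
      | succ n ih =>
        rw [← hπ n, RingHom.comp_apply] at ih
        obtain ⟨k, hk⟩ := ih
        rw [← map_pow] at hk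
        exact IsNilpotent.of_pow (hnil n _ hk)
    choose u hu using fun n => (hn n).isUnit_one_add
    have hc : ∀ n, φ n (↑(u (n + 1))⁻¹ : A' (n + 1)) = (↑(u n)⁻¹ : A' n) := fun n => by
      refine (u n).eq_inv_of_mul_eq_one_right ?_
      rw [hu, ← hπ n, RingHom.comp_apply, ← map_one (φ n), ← map_add, ← map_mul, ← hu, Units.inv_mul]
    obtain ⟨b, hb⟩ := hex (fun n => (↑(u n)⁻¹ : A' n)) hc
    refine IsUnit.of_mul_eq_one b (hinj _ _ fun n => ?_)
    rw [map_mul, map_add, map_one, hb, ← hu, Units.mul_inv]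
  -- the section lands in `W`
  have hσW : Set.range (Spec.map (CommRingCat.ofHom σh)) ⊆ Set.range j := by
    rintro _ ⟨P, rfl⟩
    obtain ⟨M, hM, hPM⟩ := Ideal.exists_le_maximal P.asIdeal P.isPrime.ne_top
    have hMk : RingHom.ker (π 0) ≤ M := fun a ha => by
      by_contra haM
      obtain ⟨y, z, hz, hyz⟩ := hM.exists_inv haM
      refine hM.ne_top (Ideal.eq_top_of_isUnit_mem _ hz ?_)
      rw [show z = 1 + -(y * a) by rw [← hyz]; ring]
      exact hker _ (by rw [map_neg, map_mul, RingHom.mem_ker.1 ha, mul_zero, neg_zero])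
    obtain ⟨M₀, hM₀⟩ : ∃ M₀, PrimeSpectrum.comap (π 0) M₀ = ⟨M, hM.isPrime⟩ := by
      have h0 : ∀ x : A' 0, ∃ a, π 0 a = x := fun x => by
        let seq : ∀ n, A' n := fun n => Nat.rec x (fun m y => Classical.choose (hsurj m y)) n
        obtain ⟨a, ha⟩ := hex seq fun n => Classical.choose_spec (hsurj n (seq n))
        exact ⟨a, ha 0⟩
      have hs : (⟨M, hM.isPrime⟩ : PrimeSpectrum A) ∈ Set.range (PrimeSpectrum.comap (π 0)) := by
        rw [_root_.range_comap_of_surjective _ _ h0, PrimeSpectrum.mem_zeroLocus]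
        exact hMk
      exact hs
    have hmem : Spec.map (CommRingCat.ofHom σh) (⟨M, hM.isPrime⟩ : PrimeSpectrum A) ∈ Set.range j := by
      rw [← hM₀]
      refine ⟨g' 0 M₀, ?_⟩
      have heq : g' 0 ≫ j = Spec.map (CommRingCat.ofHom (π 0)) ≫ Spec.map (CommRingCat.ofHom σh) := by
        rw [← he, ← hσe, Spec.map_comp]
      exact congrArg (fun ψ : Spec (CommRingCat.of (A' 0)) ⟶ Spec Γ(W, ⊤) => ψ M₀) heq
    refine (((PrimeSpectrum.le_iff_specializes P ⟨M, hM.isPrime⟩).1 hPM).map
      (Spec.map (CommRingCat.ofHom σh)).continuous).mem_open j.isOpenEmbedding.isOpen_range hmem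
  let s : Spec (CommRingCat.of A) ⟶ T :=
    IsOpenImmersion.lift j (Spec.map (CommRingCat.ofHom σh)) hσW ≫ T'.ι
  have hs : s ≫ h = 𝟙 _ := by
    show (_ ≫ T'.ι) ≫ h = _
    rw [Category.assoc, show T'.ι ≫ h = j ≫ Spec.map hA from hjw.symm, ← Category.assoc,
      show IsOpenImmersion.lift j (Spec.map (CommRingCat.ofHom σh)) hσW ≫ j = _ from
        IsOpenImmersion.lift_fac j _ hσW, ← Spec.map_comp]
    exact (congrArg Spec.map hσA).trans (Spec.map_id _)
  exact ⟨⟨s, by rw [← cancel_mono h, Category.assoc, hs, Category.comp_id, Category.id_comp], hs⟩⟩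

end Groth.Agent.S1244
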