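import Mathlib.AlgebraicGeometry.Morphisms.FinitePresentation

set_option autoImplicit false
universe u
namespace Mor
end Mor
open Mor

namespace Groth.Agent.S12442

open AlgebraicGeometry CategoryTheory in
/-- Let f : X → Y and g : Y → S be morphisms of schemes. If the composite X → S is locally of finite
presentation and g is locally of finite type, then f is locally of finite presentation. -/
theorem result {X Y S : Scheme.{u}} (f : X ⟶ Y) (g : Y ⟶ S)
    [LocallyOfFinitePresentation (f ≫ g)] [LocallyOfFiniteType g] :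
    LocallyOfFinitePresentation f := by
  rw [HasRingHomProperty.iff_exists_appLE (P := @LocallyOfFinitePresentation)
    (RingHom.finitePresentation_stableUnderComposition.stableUnderCompositionWithLocalizationAway RingHom.finitePresentation_holdsForLocalizationAway).1]
  intro x
  obtain ⟨_, ⟨W, hW, rfl⟩, hxW, -⟩ := S.isBasis_affineOpens.exists_subset_of_mem_open
    (Set.mem_univ (g.base (f.base x))) isOpen_univ
  obtain ⟨_, ⟨V, hV, rfl⟩, hxV, hVW⟩ := Y.isBasis_affineOpens.exists_subset_of_mem_open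
    (show f.base x ∈ ((g ⁻¹ᵁ W : Y.Opens) : Set Y) from hxW) (g ⁻¹ᵁ W).isOpen
  obtain ⟨_, ⟨U, hU, rfl⟩, hxU, hUV⟩ := X.isBasis_affineOpens.exists_subset_of_mem_open
    (show x ∈ ((f ⁻¹ᵁ V : X.Opens) : Set X) from hxV) (f ⁻¹ᵁ V).isOpen
  refine ⟨⟨V, hV⟩, ⟨U, hU⟩, hxU, hUV, RingHom.FinitePresentation.of_comp_finiteType (g.appLE W V hVW).hom ?_
    (HasRingHomProperty.appLE @LocallyOfFiniteType g ‹_› ⟨W, hW⟩ ⟨V, hV⟩ hVW)⟩
  rw [← CommRingCat.hom_comp, show g.appLE W V hVW ≫ f.appLE V U hUV = _ from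
    Scheme.Hom.appLE_comp_appLE f g W V U hVW hUV]
  exact HasRingHomProperty.appLE @LocallyOfFinitePresentation (f ≫ g) ‹_› ⟨W, hW⟩ ⟨U, hU⟩ _

end Groth.Agent.S12442
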