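import Mathlib.Topology.Sheaves.Functors
import Mathlib.Topology.Sheaves.Stalks
import Groth.Agent.ShSp.EmbSet

set_option autoImplicit false
universe u
namespace CategoryTheory
end CategoryTheory
namespace TopologicalSpace
end TopologicalSpace
open CategoryTheory TopologicalSpace
namespace ShSp
end ShSp
open ShSp

namespace Groth.Agent.S12443

/-- Let j : U → X be the inclusion of an open subset (an open embedding) and F a sheaf of sets on U.
Then the counit j⁻¹ j_* F → F is an isomorphism, i.e. j⁻¹ j_* is the identity on sheaves on U. -/
theorem result {U X : TopCat.{u}} (j : U ⟶ X) (hj : Topology.IsOpenEmbedding j)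
    (F : U.Sheaf (Type u)) :
    IsIso ((TopCat.Sheaf.pullbackPushforwardAdjunction (Type u) j).counit.app F) := by
  exact Groth.Agent.ShSp.isIso_counit j hj.isInducing F

end Groth.Agent.S12443
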