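import Groth.Prelude.Def_W4stktopologysheavesDim
import Mathlib.Topology.LocallyClosed
import Groth.Agent.SpecSp.Codim

set_option autoImplicit false
universe u
namespace PtTop
end PtTop
open PtTop

namespace Groth.Agent.S12444

/-- A topological space X is catenary if and only if it has an open covering by catenary subspaces
(here: every point has a catenary open neighbourhood); and if X is catenary then so is every locally
closed subspace of X. -/
theorem result (X : Type u) [TopologicalSpace X] :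
    (PtTop.IsCatenarySpace X ↔
      ∀ x : X, ∃ U : TopologicalSpace.Opens X, x ∈ U ∧ PtTop.IsCatenarySpace U) ∧
    (PtTop.IsCatenarySpace X → ∀ S : Set X, IsLocallyClosed S → PtTop.IsCatenarySpace S) := by
  have hopen : ∀ U : TopologicalSpace.Opens X, PtTop.IsCatenarySpace X → PtTop.IsCatenarySpace U := fun U h =>
    Groth.Agent.Props12.isCatenarySpace_iff_oCat.2 (Groth.Agent.Props12.OCat.of_upper _ (Groth.Agent.SpecSp.isUpperSet_openEmb _ U.isOpen.isOpenEmbedding_subtypeVal) (Groth.Agent.Props12.isCatenarySpace_iff_oCat.1 h))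
  refine ⟨⟨fun h x => ⟨⊤, trivial, hopen ⊤ h⟩, fun h => Groth.Agent.Props12.isCatenarySpace_iff_oCat.2 (Groth.Agent.Props12.OCat.of_cover fun T => ?_)⟩,
    fun h S hS => ?_⟩
  · obtain ⟨x, hx⟩ := T.isIrreducible.nonempty
    obtain ⟨U, hxU, hU⟩ := h x
    exact ⟨TopologicalSpace.IrreducibleCloseds U, inferInstance, Groth.Agent.SpecSp.openEmb _ U.isOpen.isOpenEmbedding_subtypeVal,
      Groth.Agent.SpecSp.isUpperSet_openEmb _ _, (Groth.Agent.SpecSp.mem_range_openEmb _ _ _).2 ⟨⟨x, hxU⟩, hx⟩, Groth.Agent.Props12.isCatenarySpace_iff_oCat.1 hU⟩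
  · obtain ⟨U, C, hU, hC, rfl⟩ := hS
    have h1 := hopen ⟨U, hU⟩ h
    let f : ↥(U ∩ C) → (⟨U, hU⟩ : TopologicalSpace.Opens X) := fun x => ⟨x.1, x.2.1⟩
    have hf : Topology.IsClosedEmbedding f := by
      refine ⟨Topology.IsEmbedding.inclusion (fun x hx => hx.1), ?_⟩
      have : Set.range f = Subtype.val ⁻¹' C := Set.ext fun y =>
        ⟨fun ⟨z, hz⟩ => hz ▸ z.2.2, fun hy => ⟨⟨y.1, y.2, hy⟩, rfl⟩⟩
      rw [this]
      exact hC.preimage continuous_subtype_val
    exact Groth.Agent.Props12.isCatenarySpace_iff_oCat.2 (Groth.Agent.SpecSp.oCat_lower _ (Groth.Agent.SpecSp.isLowerSet_embMap f hf) (Groth.Agent.Props12.isCatenarySpace_iff_oCat.1 h1))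

end Groth.Agent.S12444
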