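import Groth.Statements.S12445
import Groth.Agent.Props12.Catenary

set_option autoImplicit false
universe u
open CategoryTheory AlgebraicGeometry
open Props

namespace Groth.Agent.S12445

/-- (1) ⇔ (3) ⇔ (4): for a scheme S, the underlying topological space of S is catenary if and only if
the coordinate ring of every affine open of S is a catenary ring, if and only if S is covered by
affine opens with catenary coordinate rings. (Clause (2), openness of catenarity, and the final
assertion on locally closed subschemes are the topological statement for open coverings and locally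
closed subspaces.) -/
theorem result (S : Scheme.{u}) :
    (PtTop.IsCatenarySpace S ↔ ∀ U : S.affineOpens, CAlg.IsCatenary Γ(S, U)) ∧
    (PtTop.IsCatenarySpace S ↔
      ∀ s : S, ∃ U : S.affineOpens, s ∈ (U : S.Opens) ∧ CAlg.IsCatenary Γ(S, U)) := by
  have hcov : (∀ s : S, ∃ U : S.affineOpens, s ∈ (U : S.Opens) ∧ CAlg.IsCatenary Γ(S, U)) →
      PtTop.IsCatenarySpace S := fun H => by
    refine Groth.Agent.Props12.oCat_irreducibleCloseds_of_cover fun x => ?_
    obtain ⟨U, hx, hU⟩ := H x
    exact ⟨_, U.2.fromSpec, U.2.fromSpec.isOpenEmbedding.isEmbedding,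
      U.2.fromSpec.isOpenEmbedding.isOpen_range.stableUnderGeneralization,
      U.2.range_fromSpec.ge hx, hU⟩
  have hall : PtTop.IsCatenarySpace S → ∀ U : S.affineOpens, CAlg.IsCatenary Γ(S, U) := fun H U =>
    Groth.Agent.Props12.isCatenary_of_isCatenarySpace H U.2.fromSpec
      U.2.fromSpec.isOpenEmbedding.isEmbedding
      U.2.fromSpec.isOpenEmbedding.isOpen_range.stableUnderGeneralization
  have hpick : (∀ U : S.affineOpens, CAlg.IsCatenary Γ(S, U)) →
      ∀ s : S, ∃ U : S.affineOpens, s ∈ (U : S.Opens) ∧ CAlg.IsCatenary Γ(S, U) := fun H s => by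
    obtain ⟨U, hU, hx, -⟩ := TopologicalSpace.Opens.isBasis_iff_nbhd.mp S.isBasis_affineOpens
      (TopologicalSpace.Opens.mem_top s)
    exact ⟨⟨U, hU⟩, hx, H _⟩
  exact ⟨⟨hall, fun H => hcov (hpick H)⟩, ⟨fun H => hpick (hall H), hcov⟩⟩

end Groth.Agent.S12445
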