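import Groth.Statements.S12446
import Groth.Agent.Props12.Catenary

set_option autoImplicit false
universe u
open CategoryTheory AlgebraicGeometry
open Props

namespace Groth.Agent.S12446

/-- For a scheme X, the underlying topological space of X is catenary if and only if for every point x
the local ring O_{X,x} is a catenary ring. -/
theorem result (X : Scheme.{u}) :
    PtTop.IsCatenarySpace X ↔ ∀ x : X, CAlg.IsCatenary (X.presheaf.stalk x) := by
  have hg : ∀ x : X, StableUnderGeneralization (Set.range (X.fromSpecStalk x)) := fun x a b hba ha => by
    rw [Scheme.range_fromSpecStalk] at ha ⊢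
    exact hba.trans ha
  refine ⟨fun H x => ?_, fun H => ?_⟩
  · exact Groth.Agent.Props12.isCatenary_of_isCatenarySpace H (X.fromSpecStalk x)
      (X.fromSpecStalk x).isEmbedding (hg x)
  · refine Groth.Agent.Props12.oCat_irreducibleCloseds_of_cover fun x => ?_
    exact ⟨_, X.fromSpecStalk x, (X.fromSpecStalk x).isEmbedding, hg x,
      by rw [Scheme.range_fromSpecStalk]; exact specializes_rfl, H x⟩

end Groth.Agent.S12446
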