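import Groth.Statements.S12447
import Groth.Agent.Props12.DimFun

set_option autoImplicit false
universe u
open CategoryTheory AlgebraicGeometry
open Props

namespace Groth.Agent.S12447

/-- Let S be a locally Noetherian scheme. Then the underlying topological space of S is catenary if and
only if locally in the Zariski topology there is a dimension function, i.e. every point has an open
neighbourhood U carrying a function δ : U → ℤ which strictly decreases along nontrivial
specializations and drops by exactly one along immediate specializations. -/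
theorem result (S : Scheme.{u}) [IsLocallyNoetherian S] :
    PtTop.IsCatenarySpace S ↔
      ∀ s : S, ∃ U : S.Opens, s ∈ U ∧ ∃ δ : U → ℤ, PtTop.IsDimensionFunction δ := by
  constructor
  · intro H s
    obtain ⟨V, hV, hs, -⟩ := TopologicalSpace.Opens.isBasis_iff_nbhd.mp S.isBasis_affineOpens
      (TopologicalSpace.Opens.mem_top s)
    have : IsNoetherianRing Γ(S, V) := IsLocallyNoetherian.component_noetherian ⟨V, hV⟩
    have hA : CAlg.IsCatenary Γ(S, V) :=
      Groth.Agent.Props12.isCatenary_of_isCatenarySpace H hV.fromSpec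
        hV.fromSpec.isOpenEmbedding.isEmbedding
        hV.fromSpec.isOpenEmbedding.isOpen_range.stableUnderGeneralization
    obtain ⟨f, φ, hf, hφ⟩ :=
      Groth.Agent.Props12.exists_dimFun_basicOpen hA (hV.primeIdealOf ⟨s, hs⟩)
    let pr : S.basicOpen f → PrimeSpectrum Γ(S, V) := fun x =>
      hV.primeIdealOf ⟨x.1, S.basicOpen_le f x.2⟩
    have hj : ∀ x, hV.fromSpec (pr x) = x.1 := fun x => hV.fromSpec_primeIdealOf _
    have hmem : ∀ q : PrimeSpectrum Γ(S, V), f ∉ q.asIdeal ↔ hV.fromSpec q ∈ S.basicOpen f :=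
      fun q => by
        rw [← Scheme.Hom.mem_preimage, hV.fromSpec_preimage_basicOpen]
        exact (PrimeSpectrum.mem_basicOpen f q).symm
    have hspec : ∀ x y : S.basicOpen f, x ⤳ y ↔ pr x ≤ pr y := fun x y => by
      rw [PrimeSpectrum.le_iff_specializes, subtype_specializes_iff, ← hj x, ← hj y]
      exact hV.fromSpec.isOpenEmbedding.isInducing.specializes_iff
    have hinj : ∀ x y, pr x = pr y → x = y := fun x y e =>
      Subtype.ext ((hj x).symm.trans ((congrArg _ e).trans (hj y)))
    refine ⟨S.basicOpen f, ?_, fun x => φ (pr x), fun x y hxy hne => ?_, fun x y hxy => ?_⟩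
    · have := (hmem _).1 hf
      rwa [hV.fromSpec_primeIdealOf] at this
    · exact (hφ _ _ ((hmem _).2 (by rw [hj]; exact y.2))).1
        (lt_of_le_of_ne ((hspec x y).1 hxy) fun e => hne (hinj _ _ e))
    · refine (hφ _ _ ((hmem _).2 (by rw [hj]; exact y.2))).2
        ⟨lt_of_le_of_ne ((hspec x y).1 hxy.1) fun e => hxy.2.1 (hinj _ _ e), fun q h1 h2 => ?_⟩
      have hfq : f ∉ q.asIdeal := fun h => (hmem (pr y)).2 (by rw [hj]; exact y.2) (h2.le h)
      let z : S.basicOpen f := ⟨hV.fromSpec q, (hmem q).1 hfq⟩
      have hz : pr z = q := hV.fromSpec.isOpenEmbedding.injective (hj z)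
      rcases hxy.2.2 z ((hspec x z).2 (hz.symm ▸ h1.le)) ((hspec z y).2 (hz.symm ▸ h2.le)) with e | e
      · exact absurd (hz.symm.trans (congrArg pr e)) h1.ne'
      · exact absurd (hz.symm.trans (congrArg pr e)) h2.ne
  · intro H
    refine Groth.Agent.Props12.oCat_irreducibleCloseds_of_cover fun s => ?_
    obtain ⟨U, hsU, δ, hδ⟩ := H s
    obtain ⟨V, hV, hs, hle⟩ := TopologicalSpace.Opens.isBasis_iff_nbhd.mp S.isBasis_affineOpens hsU
    refine ⟨_, hV.fromSpec, hV.fromSpec.isOpenEmbedding.isEmbedding,
      hV.fromSpec.isOpenEmbedding.isOpen_range.stableUnderGeneralization,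
      hV.range_fromSpec.ge hs, ?_⟩
    let j : PrimeSpectrum Γ(S, V) → U := fun p =>
      ⟨hV.fromSpec p, hle (hV.range_fromSpec.le ⟨p, rfl⟩)⟩
    have hspec : ∀ p q, p ≤ q ↔ j p ⤳ j q := fun p q => by
      rw [PrimeSpectrum.le_iff_specializes, subtype_specializes_iff]
      exact hV.fromSpec.isOpenEmbedding.isInducing.specializes_iff.symm
    have hinj : Function.Injective j := fun p q e =>
      hV.fromSpec.isOpenEmbedding.injective (congrArg Subtype.val e :)
    refine Groth.Agent.Props12.oCat_of_dimFun (fun p => - δ (j p)) (fun p q h => ?_) (fun p q h => ?_)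
    · exact neg_lt_neg (hδ.1 _ _ ((hspec p q).1 h.le) fun e => h.ne (hinj e))
    · have hI : PtTop.IsImmediateSpecialization (j p) (j q) := by
        refine ⟨(hspec p q).1 h.le, fun e => h.ne (hinj e), fun z h1 h2 => ?_⟩
        have hz : z.1 ∈ V :=
          ((subtype_specializes_iff _ _).1 h2).mem_open V.2 (hV.range_fromSpec.le ⟨q, rfl⟩)
        obtain ⟨r, rfl⟩ : ∃ r, j r = z := by
          obtain ⟨r, hr⟩ := hV.range_fromSpec.ge hz
          exact ⟨r, Subtype.ext hr⟩
        rcases h.eq_or_eq ((hspec p r).2 h1) ((hspec r q).2 h2) with e | e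
        · exact Or.inl (congrArg j e)
        · exact Or.inr (congrArg j e)
      have := hδ.2 _ _ hI
      omega

end Groth.Agent.S12447
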