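import Groth.Statements.S1245
import Groth.Agent.FlatMorDevissage.ImpurityDescend

set_option autoImplicit false
universe u
open FlatMor

namespace Groth.Agent.S1245

/-- Ring form, X = Spec B affine, base change rings affine: let B be a finite type A-algebra, N a finite
B-module and p a prime of A. If there is an impurity of N above p, then there is one whose base
change A → A' is of finite presentation and whose point t is a closed point of the fibre of Spec A'
over p (the extension of t to the fibre ring is maximal). -/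
theorem result {A B : Type u} [CommRing A] [CommRing B] [Algebra A B] [Algebra.FiniteType A B]
    (N : Type u) [AddCommGroup N] [Module B N] [Module.Finite B N] (p : Ideal A) [p.IsPrime]
    (h : FlatCA.HasImpurity A B N p (fun _ _ _ _ => True)) :
    FlatCA.HasImpurity A B N p (fun A' _ _ t => Algebra.FinitePresentation A A' ∧ (FlatCA.fiberIdeal p t).IsMaximal) := by
  open TensorProduct in
  classical
  obtain ⟨A', B', N', _, _, _, _, _, _, _, _, _, _, _, _, _, _, f, t', t, _, _, P, _, himp, -⟩ := h
  obtain ⟨F, hF⟩ := Groth.Agent.FlatMorDevissage.ImpurityDescend.exists_stage_impurity N p f t' t P himp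
  let G := MvPolynomial {x // x ∈ F} A
  let φ : G →ₐ[A] A' := MvPolynomial.aeval Subtype.val
  obtain ⟨s, hs, hmain⟩ := hF G φ fun x hx => ⟨MvPolynomial.X ⟨x, hx⟩, MvPolynomial.aeval_X _ _⟩
  let t₀ := t.comap φ.toRingHom
  have : t₀.LiesOver p := ⟨by
    rw [Ideal.under_def, Ideal.comap_comap, show φ.toRingHom.comp (algebraMap A G) = algebraMap A A' from φ.comp_algebraMap]
    exact himp.2.2.2.1.over⟩
  let D := p.Fiber G
  let _ : Algebra G D := Algebra.TensorProduct.rightAlgebra
  let ι : G →+* D := (Algebra.TensorProduct.includeRight : G →ₐ[A] D).toRingHom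
  have hι : (FlatCA.fiberIdeal p t₀).comap ι = t₀ :=
    Groth.Agent.FlatMorDevissage.comap_fiberIdeal p t₀
  obtain ⟨Q₀, hQ₀⟩ := Groth.Agent.EGA43.FibDepth.exists_prime_over (A := A) (p := p) (R := G) D
    ⟨t₀, inferInstance⟩ (‹t₀.LiesOver p›.over)
  have hQ₀' : Q₀.asIdeal.comap ι = t₀ := congrArg PrimeSpectrum.asIdeal hQ₀
  have : IsJacobsonRing D := isJacobsonRing_of_finiteType (A := p.ResidueField)
  obtain ⟨M, hMmax, hle, hsM⟩ : ∃ M : Ideal D, M.IsMaximal ∧ Q₀.asIdeal ≤ M ∧ ι s ∉ M := by
    by_contra! h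
    have h1 : ι s ∈ Q₀.asIdeal.jacobson := Ideal.mem_sInf.2 fun {M} hM => h M hM.2 hM.1
    rw [IsJacobsonRing.out ‹IsJacobsonRing D› Q₀.isPrime.isRadical] at h1
    exact hs (hQ₀'.le h1)
  obtain ⟨ho, hfib⟩ := Groth.Agent.FlatMorDevissage.fiberPrime_spec (S := G) p M
  exact hmain (M.comap ι) (hQ₀'.ge.trans (Ideal.comap_mono hle)) ho hsM _
    ⟨inferInstance, hfib.symm ▸ hMmax⟩

end Groth.Agent.S1245
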