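import Groth.Statements.S12450
import Groth.Agent.DerCompLib.RestrAdj

set_option autoImplicit false
universe u
open CategoryTheory CategoryTheory.Limits
open ModSite

namespace Groth.Agent.S12450

open Groth.Agent

/-- For a small ringed site (C, O) the forgetful functor Mod(O) → Ab(C) commutes with colimits, i.e.
preserves all small colimits. (Existence of limits and colimits in Mod(O) and commutation of the
forgetful functor with limits hold by construction; exactness of filtered colimits is a separate
statement.) -/
theorem result {C : Type u} [SmallCategory C] {J : GrothendieckTopology C}
    (O : Sheaf J CommRingCat.{u}) :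
    PreservesColimitsOfSize.{u, u} (SheafOfModules.toSheaf.{u} (ModSite.ringSh O) : ModSite.Mod O ⥤ Sheaf J AddCommGrpCat.{u}) := by
  exact ⟨fun {T} _ => DerCompLib.preservesColimitsOfShape_toSheaf T⟩

end Groth.Agent.S12450
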