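import Mathlib.Topology.Sheaves.Functors
import Mathlib.Topology.Bases
import Groth.Agent.ShB16.Basic

set_option autoImplicit false
universe u
namespace CategoryTheory
end CategoryTheory
namespace TopologicalSpace
end TopologicalSpace
namespace Opposite
end Opposite
open CategoryTheory TopologicalSpace Opposite
namespace ShSp
end ShSp
open ShSp

namespace Groth.Agent.S12452

/-- For sheaves of sets, let f : X → Y be a continuous map, F a sheaf of sets on X, G a sheaf of sets on
Y, and B_X, B_Y bases for the topologies of X and Y. Suppose given, for every V in B_Y and U in B_X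
with U ⊆ f⁻¹V, a map φ_V^U : G(V) → F(U), compatibly with restrictions. Then there is exactly one
morphism of sheaves ψ : G → f_*F (an f-map G → F) such that G(V) → F(f⁻¹V) → F(U) equals φ_V^U for
every such pair. -/
theorem result {X Y : TopCat.{u}} (f : X ⟶ Y) (F : X.Sheaf (Type u)) (G : Y.Sheaf (Type u))
    {BX : Set (Opens X)} (hBX : Opens.IsBasis BX) {BY : Set (Opens Y)} (hBY : Opens.IsBasis BY)
    (φ : ∀ (V : BY) (U : BX), (U : Opens X) ≤ (Opens.map f).obj V →
      (G.presheaf.obj (op (V : Opens Y)) → F.presheaf.obj (op (U : Opens X))))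
    (hφ : ∀ (V V' : BY) (U U' : BX) (hUV : (U : Opens X) ≤ (Opens.map f).obj V)
      (hU'V' : (U' : Opens X) ≤ (Opens.map f).obj V') (hV : (V' : Opens Y) ≤ V) (hU : (U' : Opens X) ≤ U)
      (s : G.presheaf.obj (op (V : Opens Y))),
      F.presheaf.map (homOfLE hU).op (φ V U hUV s) = φ V' U' hU'V' (G.presheaf.map (homOfLE hV).op s)) :
    ∃! ψ : G ⟶ (TopCat.Sheaf.pushforward (Type u) f).obj F,
      ∀ (V : BY) (U : BX) (hUV : (U : Opens X) ≤ (Opens.map f).obj V) (s : G.presheaf.obj (op (V : Opens Y))),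
        F.presheaf.map (homOfLE hUV).op (ψ.1.app (op (V : Opens Y)) s) = φ V U hUV s := by
  classical
  have hsep : ∀ {O : Opens X} {s t : F.presheaf.obj (op O)}, (∀ (U : BX) (hU : (U : Opens X) ≤ O),
      F.presheaf.map (homOfLE hU).op s = F.presheaf.map (homOfLE hU).op t) → s = t :=
    fun h => ShB16.sheaf_sep hBX F h
  have ex : ∀ (V : Opens Y) (s : G.presheaf.obj (op V)),
      ∃ t : F.presheaf.obj (op ((Opens.map f).obj V)),
        ∀ (V' : BY) (U : BX) (h₁ : (V' : Opens Y) ≤ V) (h₂ : (U : Opens X) ≤ (Opens.map f).obj V'),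
          F.presheaf.map (homOfLE (h₂.trans ((Opens.map f).map (homOfLE h₁)).le)).op t =
            φ V' U h₂ (G.presheaf.map (homOfLE h₁).op s) := by
    intro V s
    let ι := {p : BY × BX // (p.1 : Opens Y) ≤ V ∧ (p.2 : Opens X) ≤ (Opens.map f).obj p.1}
    obtain ⟨t, ht⟩ := ShB16.sheaf_glue F (O := (Opens.map f).obj V) (ι := ι) (fun p => (p.1.2 : Opens X))
      (fun p => p.2.2.trans ((Opens.map f).map (homOfLE p.2.1)).le)
      (fun x hx => by
        obtain ⟨W, hxW, hW⟩ := ShB16.exists_member hBY (U := V) hx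
        obtain ⟨U, hxU, hU⟩ := ShB16.exists_member hBX (U := (Opens.map f).obj W) hxW
        exact Opens.mem_iSup.2 ⟨⟨(W, U), hW, hU⟩, hxU⟩)
      (fun p => φ p.1.1 p.1.2 p.2.2 (G.presheaf.map (homOfLE p.2.1).op s))
      (fun p q x hx => by
        obtain ⟨W, hxW, hW⟩ := ShB16.exists_member hBY (U := (p.1.1 : Opens Y) ⊓ q.1.1)
          (x := f x) ⟨p.2.2 hx.1, q.2.2 hx.2⟩
        obtain ⟨U, hxU, hU⟩ := ShB16.exists_member hBX
          (U := (p.1.2 : Opens X) ⊓ q.1.2 ⊓ (Opens.map f).obj W) ⟨hx, hxW⟩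
        refine ⟨U, hxU, (hU.trans inf_le_left).trans inf_le_left, (hU.trans inf_le_left).trans inf_le_right, ?_⟩
        rw [hφ p.1.1 W p.1.2 U p.2.2 (hU.trans inf_le_right) (hW.trans inf_le_left) _,
          hφ q.1.1 W q.1.2 U q.2.2 (hU.trans inf_le_right) (hW.trans inf_le_right) _,
          ← ConcreteCategory.comp_apply, ← ConcreteCategory.comp_apply, ← Functor.map_comp, ← Functor.map_comp]
        rfl)
    exact ⟨t, fun V' U h₁ h₂ => ht ⟨(V', U), h₁, h₂⟩⟩
  choose g hg using ex
  have hcover : ∀ (V : Opens Y) {s t : F.presheaf.obj (op ((Opens.map f).obj V))},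
      (∀ (V' : BY) (U : BX) (h₁ : (V' : Opens Y) ≤ V) (h₂ : (U : Opens X) ≤ (Opens.map f).obj V'),
        F.presheaf.map (homOfLE (h₂.trans ((Opens.map f).map (homOfLE h₁)).le)).op s =
        F.presheaf.map (homOfLE (h₂.trans ((Opens.map f).map (homOfLE h₁)).le)).op t) → s = t := by
    intro V s t h
    refine F.eq_of_locally_eq'
      (fun p : {p : BY × BX // (p.1 : Opens Y) ≤ V ∧ (p.2 : Opens X) ≤ (Opens.map f).obj p.1} => (p.1.2 : Opens X))
      ((Opens.map f).obj V) (fun p => homOfLE (p.2.2.trans ((Opens.map f).map (homOfLE p.2.1)).le))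
      (fun x hx => by
        obtain ⟨W, hxW, hW⟩ := ShB16.exists_member hBY (U := V) hx
        obtain ⟨U, hxU, hU⟩ := ShB16.exists_member hBX (U := (Opens.map f).obj W) hxW
        exact Opens.mem_iSup.2 ⟨⟨(W, U), hW, hU⟩, hxU⟩) s t (fun p => h p.1.1 p.1.2 p.2.1 p.2.2)
  let ψ : G ⟶ (TopCat.Sheaf.pushforward (Type u) f).obj F :=
    ⟨{ app := fun V => ↾ fun s => g V.unop s
       naturality := fun V V' i => by
         refine ConcreteCategory.hom_ext _ _ fun s => hcover V'.unop fun W U h₁ h₂ => ?_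
         have e := hg V.unop s W U (h₁.trans i.unop.le) h₂
         refine (hg V'.unop (G.presheaf.map i s) W U h₁ h₂).trans ?_
         refine Eq.trans ?_ (Functor.map_comp_apply F.presheaf _ _ _)
         refine Eq.trans ?_ e.symm
         rw [← ConcreteCategory.comp_apply, ← Functor.map_comp]
         rfl }⟩
  refine ⟨ψ, fun V U h s => ?_, fun ψ' h' => ?_⟩
  · refine (hg (V : Opens Y) s V U le_rfl h).trans ?_
    exact congrArg (φ V U h) (Functor.map_id_apply G.presheaf _ s)
  · refine ObjectProperty.hom_ext _ (NatTrans.ext (funext fun V => ConcreteCategory.hom_ext _ _ fun s => ?_))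
    refine hcover V.unop fun W U h₁ h₂ => ?_
    refine Eq.trans ?_ (hg V.unop s W U h₁ h₂).symm
    rw [← h' W U h₂, NatTrans.naturality_apply ψ'.1 (homOfLE h₁).op]
    exact Functor.map_comp_apply F.presheaf ((Opens.map f).map (homOfLE h₁)).op (homOfLE h₂).op _

end Groth.Agent.S12452
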