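import Groth.Statements.S12456
import Groth.Agent.PrinLib.Generate
import Groth.Agent.FSchLib.Systems
-- import your own Groth.Agent.* helpers here

set_option autoImplicit false
universe u
open CategoryTheory AlgebraicGeometry
open OmegaSh

namespace Groth.Agent.S12456

/-- Let i : Z → X be an immersion, written as the closed subscheme of an open U ⊆ X cut out by an ideal
sheaf I followed by the inclusion of U. Then the first order infinitesimal neighbourhood of Z in X —
the closed subscheme of U cut out by I² — together with Z ⊂ V(I²) and V(I²) → U → X is a universal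
first order thickening of Z over X. (The inequality I² ≤ I is carried as an argument h; it always
holds.) -/
theorem result {X : Scheme.{u}} (U : X.Opens) (I : (U : Scheme.{u}).IdealSheafData)
    (h : I ^ 2 ≤ I) :
    OmegaSh.IsUnivThickening (I.subschemeι ≫ U.ι) (Scheme.IdealSheafData.inclusion h)
      ((I ^ 2).subschemeι ≫ U.ι) := by
  have hι : ∀ {A : Scheme.{u}} (J : A.IdealSheafData), J.comap J.subschemeι = ⊥ := fun J => by
    refine le_antisymm ?_ bot_le
    rw [← Scheme.IdealSheafData.le_map_iff_comap_le, Scheme.IdealSheafData.map_bot, Scheme.IdealSheafData.ker_subschemeι]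
  haveI : IsClosedImmersion (Scheme.IdealSheafData.inclusion h) := inferInstance
  refine ⟨⟨⟨inferInstance, ⟨fun x => ?_⟩⟩, ?_⟩, ?_, fun T T' j b a hj hjb => ?_⟩
  · have hx : (I ^ 2).subschemeι x ∈ Set.range I.subschemeι := by
      rw [Scheme.IdealSheafData.range_subschemeι, ← Scheme.IdealSheafData.support_pow I 2 two_ne_zero,
        ← Scheme.IdealSheafData.range_subschemeι]
      exact ⟨x, rfl⟩
    obtain ⟨w, hw⟩ := hx
    refine ⟨w, (I ^ 2).subschemeι.isEmbedding.injective ?_⟩
    rw [← Scheme.Hom.comp_apply, Scheme.IdealSheafData.inclusion_subschemeι]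
    exact hw
  · have e : (Scheme.IdealSheafData.inclusion h).ker.map (I ^ 2).subschemeι = I := by
      rw [Scheme.IdealSheafData.map_ker, Scheme.IdealSheafData.inclusion_subschemeι, Scheme.IdealSheafData.ker_subschemeι]
    have hle : (Scheme.IdealSheafData.inclusion h).ker ≤ I.comap (I ^ 2).subschemeι :=
      (PrinLib.le_comap_map _ _).trans_eq (congrArg (fun J => Scheme.IdealSheafData.comap J _) e)
    refine le_antisymm ?_ bot_le
    refine (mul_le_mul' hle hle).trans ?_
    rw [← FSchLib.comap_mul, ← pow_two, hι]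
  · rw [Scheme.IdealSheafData.inclusion_subschemeι_assoc]
  · haveI := hj.1.1
    haveI := hj.1.2
    have hr : Set.range b ⊆ Set.range U.ι := by
      rintro _ ⟨t', rfl⟩
      obtain ⟨t, rfl⟩ := j.surjective t'
      exact ⟨I.subschemeι (a t), (congrArg (fun m : T ⟶ X => m t) hjb).symm⟩
    obtain ⟨b', hb'⟩ : ∃ b' : T' ⟶ U, b' ≫ U.ι = b := ⟨IsOpenImmersion.lift U.ι b hr, IsOpenImmersion.lift_fac _ _ _⟩
    have hjb' : j ≫ b' = a ≫ I.subschemeι := by
      rw [← cancel_mono U.ι, Category.assoc, hb', hjb, Category.assoc]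
    have hI : I.comap b' ≤ j.ker := by
      rw [← Scheme.IdealSheafData.le_map_iff_comap_le, Scheme.IdealSheafData.map_ker, hjb']
      exact (Scheme.IdealSheafData.ker_subschemeι I).ge.trans (Scheme.Hom.le_ker_comp a I.subschemeι)
    have hker : (I ^ 2).subschemeι.ker ≤ b'.ker := by
      rw [Scheme.IdealSheafData.ker_subschemeι, ← Scheme.IdealSheafData.map_bot b',
        Scheme.IdealSheafData.le_map_iff_comap_le, FSchLib.comap_pow, pow_two]
      exact (mul_le_mul' hI hI).trans hj.2.le
    refine ⟨IsClosedImmersion.lift (I ^ 2).subschemeι b' hker, ⟨?_, ?_⟩, fun c hc => ?_⟩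
    · rw [← cancel_mono (I ^ 2).subschemeι, Category.assoc, IsClosedImmersion.lift_fac, Category.assoc,
        Scheme.IdealSheafData.inclusion_subschemeι, hjb']
    · rw [IsClosedImmersion.lift_fac_assoc, hb']
    · rw [← cancel_mono (I ^ 2).subschemeι, IsClosedImmersion.lift_fac, ← cancel_mono U.ι, Category.assoc, hc.2, hb']

end Groth.Agent.S12456
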