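import Groth.Statements.S12459
import Groth.Agent.Props12.Catenary
import Groth.Agent.S9126

set_option autoImplicit false
universe u
open CategoryTheory AlgebraicGeometry
open Props

namespace Groth.Agent.S12459

/-- For a locally Noetherian scheme S, the scheme S is universally catenary — every scheme X locally of
finite type over S has catenary underlying topological space — if and only if all local rings
O_{S,s} are universally catenary rings. (Schemes X over S are taken in the universe of S.) -/
theorem result (S : Scheme.{u}) [IsLocallyNoetherian S] :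
    (∀ (X : Scheme.{u}) (f : X ⟶ S), LocallyOfFiniteType f → PtTop.IsCatenarySpace X) ↔
      ∀ s : S, CAlg.IsUniversallyCatenary (S.presheaf.stalk s) := by
  constructor
  · intro H s
    obtain ⟨U, hU, hs, -⟩ := TopologicalSpace.Opens.isBasis_iff_nbhd.mp S.isBasis_affineOpens
      (TopologicalSpace.Opens.mem_top s)
    have : IsNoetherianRing Γ(S, U) := IsLocallyNoetherian.component_noetherian ⟨U, hU⟩
    have hR : CAlg.IsUniversallyCatenary Γ(S, U) := by
      refine ⟨inferInstance, fun A _ _ hA => ?_⟩
      have : LocallyOfFiniteType (Spec.map (CommRingCat.ofHom (algebraMap Γ(S, U) A))) :=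
        HasRingHomProperty.Spec_iff.2 (RingHom.finiteType_algebraMap.2 hA)
      have hlft : LocallyOfFiniteType (Spec.map (CommRingCat.ofHom (algebraMap Γ(S, U) A)) ≫ hU.fromSpec) :=
        inferInstance
      exact Groth.Agent.Props12.isCatenary_of_isCatenarySpace (H _ _ hlft) (𝟙 (Spec (CommRingCat.of A)))
        (𝟙 (Spec (CommRingCat.of A)) : _ ⟶ _).isOpenEmbedding.isEmbedding
        (𝟙 (Spec (CommRingCat.of A)) : _ ⟶ _).isOpenEmbedding.isOpen_range.stableUnderGeneralization
    let _ := TopCat.Presheaf.algebra_section_stalk S.presheaf (⟨s, hs⟩ : U)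
    have := hU.isLocalization_stalk ⟨s, hs⟩
    have : Algebra.EssFiniteType Γ(S, U) (S.presheaf.stalk s) :=
      Algebra.EssFiniteType.of_isLocalization _ (hU.primeIdealOf ⟨s, hs⟩).asIdeal.primeCompl
    exact Groth.Agent.S9126.result Γ(S, U) _ hR
  · intro H X f _
    refine Groth.Agent.Props12.oCat_irreducibleCloseds_of_cover fun x => ?_
    refine ⟨_, X.fromSpecStalk x, (X.fromSpecStalk x).isEmbedding, ?_,
      by rw [Scheme.range_fromSpecStalk]; exact specializes_rfl, ?_⟩
    · intro a b hba ha
      rw [Scheme.range_fromSpecStalk] at ha ⊢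
      exact hba.trans ha
    obtain ⟨U, hU, hs, -⟩ := TopologicalSpace.Opens.isBasis_iff_nbhd.mp S.isBasis_affineOpens
      (TopologicalSpace.Opens.mem_top (f x))
    obtain ⟨V, hV, hxV, h⟩ := TopologicalSpace.Opens.isBasis_iff_nbhd.mp X.isBasis_affineOpens
      (show x ∈ f ⁻¹ᵁ U from hs)
    let _ := TopCat.Presheaf.algebra_section_stalk S.presheaf (⟨f x, hs⟩ : U)
    let _ := TopCat.Presheaf.algebra_section_stalk X.presheaf (⟨x, hxV⟩ : V)
    let _ := (f.appLE U V h).hom.toAlgebra
    let _ := (f.stalkMap x).hom.toAlgebra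
    let _ : Algebra Γ(S, U) (X.presheaf.stalk x) :=
      ((algebraMap Γ(X, V) (X.presheaf.stalk x)).comp (algebraMap Γ(S, U) Γ(X, V))).toAlgebra
    have : IsScalarTower Γ(S, U) Γ(X, V) (X.presheaf.stalk x) := .of_algebraMap_eq fun _ => rfl
    have : IsScalarTower Γ(S, U) (S.presheaf.stalk (f x)) (X.presheaf.stalk x) :=
      .of_algebraMap_eq fun r => by
        show X.presheaf.germ V x hxV (f.appLE U V h r) =
          f.stalkMap x (S.presheaf.germ U (f x) hs r)
        rw [Scheme.Hom.germ_stalkMap_apply, Scheme.Hom.appLE, CommRingCat.comp_apply,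
          TopCat.Presheaf.germ_res_apply]
    have := hV.isLocalization_stalk ⟨x, hxV⟩
    have : Algebra.EssFiniteType Γ(X, V) (X.presheaf.stalk x) :=
      Algebra.EssFiniteType.of_isLocalization _ (hV.primeIdealOf ⟨x, hxV⟩).asIdeal.primeCompl
    have : Algebra.FiniteType Γ(S, U) Γ(X, V) :=
      HasRingHomProperty.appLE @LocallyOfFiniteType f inferInstance ⟨U, hU⟩ ⟨V, hV⟩ h
    have : Algebra.EssFiniteType Γ(S, U) (X.presheaf.stalk x) :=
      Algebra.EssFiniteType.comp _ Γ(X, V) _
    have : Algebra.EssFiniteType (S.presheaf.stalk (f x)) (X.presheaf.stalk x) :=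
      Algebra.EssFiniteType.of_comp Γ(S, U) _ _
    have hu := Groth.Agent.S9126.result (S.presheaf.stalk (f x)) (X.presheaf.stalk x) (H (f x))
    exact hu.2 _ inferInstance

end Groth.Agent.S12459
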