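import Groth.Statements.S1246
import Groth.Agent.FlatMorDevissage.ImpurityQF

set_option autoImplicit false
universe u
open FlatMor

namespace Groth.Agent.S1246

/-- Ring form, X = Spec B affine: let B be a finite type A-algebra, N a finite B-module and p a prime of
A. If there is an impurity of N above p whose base change A → A' is of finite type and quasi-finite
at the point t, then there is an impurity of N above p for which (A', t) is an elementary étale ring
map at p. -/
theorem result {A B : Type u} [CommRing A] [CommRing B] [Algebra A B] [Algebra.FiniteType A B]
    (N : Type u) [AddCommGroup N] [Module B N] [Module.Finite B N] (p : Ideal A) [p.IsPrime]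
    (h : FlatCA.HasImpurity A B N p (fun A' _ _ t => ∃ _ : t.IsPrime, Algebra.FiniteType A A' ∧ Algebra.QuasiFiniteAt A t)) :
    FlatCA.HasImpurity A B N p (fun A' _ _ t => ∃ _ : t.IsPrime, FlatCA.IsEtaleNhd A A' p t) := by
  exact Groth.Agent.FlatMorDevissage.ImpurityQF.hasImpurity_etaleNhd N p h

end Groth.Agent.S1246
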