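import Groth.Statements.S12460

set_option autoImplicit false
universe u
open CategoryTheory AlgebraicGeometry
open Props

namespace Groth.Agent.S12460

/-- (1) ⇔ (3) ⇔ (4): let X be a locally Noetherian scheme. Then X is J-2 — for every morphism Y → X
locally of finite type the set of points y with O_{Y,y} a regular local ring is open in Y — if and
only if for every affine open U of X the ring Γ(X, U) is J-2 (every finite type algebra over it has
open regular locus), if and only if every point of X lies in such an affine open. (Schemes Y over X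
are taken in the universe of X.) -/
theorem result (X : Scheme.{u}) [IsLocallyNoetherian X] :
    ((∀ (Y : Scheme.{u}) (g : Y ⟶ X), LocallyOfFiniteType g →
        IsOpen {y : Y | IsRegularLocalRing (Y.presheaf.stalk y)}) ↔
      ∀ U : X.affineOpens, EGA4.IsJ2 Γ(X, U)) ∧
    ((∀ (Y : Scheme.{u}) (g : Y ⟶ X), LocallyOfFiniteType g →
        IsOpen {y : Y | IsRegularLocalRing (Y.presheaf.stalk y)}) ↔
      ∀ x : X, ∃ U : X.affineOpens, x ∈ (U : X.Opens) ∧ EGA4.IsJ2 Γ(X, U)) := by
  have hopen : ∀ (Y : Scheme.{u}) (V : Y.Opens) (hV : IsAffineOpen V),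
      hV.fromSpec ⁻¹' {y : Y | IsRegularLocalRing (Y.presheaf.stalk y)} = EGA4.regLocus Γ(Y, V) := by
    intro Y V hV
    ext p
    show IsRegularLocalRing (Y.presheaf.stalk (hV.fromSpec p)) ↔ IsRegularLocalRing (Localization.AtPrime p.asIdeal)
    letI : Algebra Γ(Y, V) ((Spec Γ(Y, V)).presheaf.stalk p) := StructureSheaf.stalkAlgebra Γ(Y, V) p
    haveI : IsLocalization.AtPrime ((Spec Γ(Y, V)).presheaf.stalk p) p.asIdeal :=
      StructureSheaf.IsLocalization.to_stalk _ p
    let e := (asIso (hV.fromSpec.stalkMap p)).commRingCatIsoToRingEquiv.trans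
      (IsLocalization.algEquiv p.asIdeal.primeCompl ((Spec Γ(Y, V)).presheaf.stalk p)
        (Localization.AtPrime p.asIdeal)).toRingEquiv
    exact ⟨fun (h : IsRegularLocalRing (Y.presheaf.stalk (hV.fromSpec p))) => IsRegularLocalRing.of_ringEquiv e,
      fun (h : IsRegularLocalRing (Localization.AtPrime p.asIdeal)) => IsRegularLocalRing.of_ringEquiv e.symm⟩
  have h43 : (∀ U : X.affineOpens, EGA4.IsJ2 Γ(X, U)) →
      ∀ x : X, ∃ U : X.affineOpens, x ∈ (U : X.Opens) ∧ EGA4.IsJ2 Γ(X, U) := fun h x => by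
    obtain ⟨U, hU, hx, -⟩ := exists_isAffineOpen_mem_and_subset (x := x) (U := ⊤) (Set.mem_univ _)
    exact ⟨⟨U, hU⟩, hx, h _⟩
  have h13 : (∀ (Y : Scheme.{u}) (g : Y ⟶ X), LocallyOfFiniteType g →
      IsOpen {y : Y | IsRegularLocalRing (Y.presheaf.stalk y)}) → ∀ U : X.affineOpens, EGA4.IsJ2 Γ(X, U) := by
    intro h U B _ _ hB
    haveI : LocallyOfFiniteType (Spec.map (CommRingCat.ofHom (algebraMap Γ(X, U) B))) :=
      (HasRingHomProperty.Spec_iff (P := @LocallyOfFiniteType)).2 (RingHom.finiteType_algebraMap.2 hB)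
    have h1 := h _ (Spec.map (CommRingCat.ofHom (algebraMap Γ(X, U) B)) ≫ U.2.fromSpec) inferInstance
    refine (congrArg IsOpen (Set.ext fun p => ?_)).mp h1
    letI : Algebra B ((Spec (CommRingCat.of B)).presheaf.stalk p) := StructureSheaf.stalkAlgebra B p
    haveI : IsLocalization.AtPrime ((Spec (CommRingCat.of B)).presheaf.stalk p) p.asIdeal :=
      StructureSheaf.IsLocalization.to_stalk _ p
    let e := (IsLocalization.algEquiv p.asIdeal.primeCompl ((Spec (CommRingCat.of B)).presheaf.stalk p)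
        (Localization.AtPrime p.asIdeal)).toRingEquiv
    exact ⟨fun (h : IsRegularLocalRing ((Spec (CommRingCat.of B)).presheaf.stalk p)) => IsRegularLocalRing.of_ringEquiv e,
      fun (h : IsRegularLocalRing (Localization.AtPrime p.asIdeal)) => IsRegularLocalRing.of_ringEquiv e.symm⟩
  have h41 : (∀ x : X, ∃ U : X.affineOpens, x ∈ (U : X.Opens) ∧ EGA4.IsJ2 Γ(X, U)) →
      ∀ (Y : Scheme.{u}) (g : Y ⟶ X), LocallyOfFiniteType g →
      IsOpen {y : Y | IsRegularLocalRing (Y.presheaf.stalk y)} := by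
    intro h Y g hg
    refine isOpen_iff_forall_mem_open.2 fun y hy => ?_
    obtain ⟨U, hxU, hJ⟩ := h (g y)
    obtain ⟨V, hV, hyV, hVU⟩ := exists_isAffineOpen_mem_and_subset (x := y) (U := g ⁻¹ᵁ (U : X.Opens)) hxU
    have hft := LocallyOfFiniteType.finiteType_appLE g U.2 hV hVU
    letI := (g.appLE U V hVU).hom.toAlgebra
    have h1 := hJ Γ(Y, V) hft
    rw [← hopen Y V hV] at h1
    refine ⟨hV.fromSpec '' (hV.fromSpec ⁻¹' _), Set.image_preimage_subset _ _,
      hV.fromSpec.isOpenEmbedding.isOpenMap _ h1, ?_⟩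
    rw [Set.image_preimage_eq_inter_range, hV.range_fromSpec]
    exact ⟨hy, hyV⟩
  exact ⟨⟨h13, fun h => h41 (h43 h)⟩, ⟨fun h => h43 (h13 h), h41⟩⟩

end Groth.Agent.S12460
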