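import Groth.Statements.S12461
import Groth.Agent.Coherent.ClosedEquiv
import Groth.Agent.DCat.ClosedPush
import Groth.Agent.DirImgLib.Colim
import Groth.Agent.H8Lim.ModEq


set_option autoImplicit false
universe u
open CategoryTheory AlgebraicGeometry
open QCohSub

set_option backward.isDefEq.respectTransparency false
set_option linter.style.haveILetI false
set_option maxHeartbeats 1000000

namespace Groth.Agent.S12461

open CategoryTheory CategoryTheory.Limits AlgebraicGeometry Opposite Groth.Agent.Coherent

variable {Z X : Scheme.{u}} (i : Z ⟶ X) [IsClosedImmersion i]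

/-- `i_*` on quasi-coherent modules. -/
noncomputable def qPush : QCohCat.QCoh Z ⥤ QCohCat.QCoh X :=
  (QCohCat.isQCoh X).lift ((QCohCat.isQCoh Z).ι ⋙ Coh.push i) fun M =>
    @isQCoh_push Z X i _ _ M.obj M.property

theorem preservesColimit_qPush (J : Type u) [SmallCategory J] (D : J ⥤ QCohCat.QCoh Z) :
    PreservesColimit D (qPush i) := by
  haveI : PreservesColimit (D ⋙ (QCohCat.isQCoh Z).ι) (Coh.push i) :=
    DirImgLib.preservesColimit_pushforward i _ fun j => (D.obj j).property
  haveI : PreservesColimit D ((QCohCat.isQCoh Z).ι ⋙ Coh.push i) := inferInstance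
  haveI : PreservesColimit D (qPush i ⋙ (QCohCat.isQCoh X).ι) :=
    preservesColimit_of_natIso D ((QCohCat.isQCoh X).liftCompιIso _ _).symm
  exact preservesColimit_of_reflects_of_preserves (qPush i) (QCohCat.isQCoh X).ι

/-- A quasi-coherent quotient of a direct image is killed by the ideal. -/
theorem killed_of_epi (Q : Z.Modules) [Coh.IsQCoh Q] {I : X.Modules} [Coh.IsQCoh I]
    (e : (Coh.push i).obj Q ⟶ I) [Epi e] : ClSub.KilledByIdeal i.ker I := fun U a ha m => by
  haveI : Coh.IsQCoh ((Coh.push i).obj Q) := isQCoh_push i Q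
  obtain ⟨x, hx⟩ := H8Lim.app_surjective_of_epi e U.2 m
  change a • (show Γ(I, U.1) from m) = 0
  rw [show (show Γ(I, U.1) from m) = e.app U.1 x from hx.symm, ← Scheme.Modules.Hom.app_smul]
  rw [Scheme.Hom.ker_apply, RingHom.mem_ker] at ha
  refine (congrArg (e.app U.1) ?_).trans (map_zero _)
  let w : Γ(Q, i ⁻¹ᵁ U.1) := x
  change i.app U.1 a • w = 0
  rw [ha, zero_smul]

/-- The small solution set: subobjects of `F` that are direct images. -/
abbrev Sol (F : QCohCat.QCoh X) : Type (u + 1) :=
  {P : Subobject F.obj // Coh.IsQCoh (P : X.Modules) ∧ ClSub.KilledByIdeal i.ker (P : X.Modules)}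

theorem exists_terminal (F : QCohCat.QCoh X) : HasTerminal (CostructuredArrow (qPush i) F) := by
  haveI := SerreDual.hasColimits_qcoh Z
  haveI : PreservesColimitsOfSize.{u, u} (qPush i) :=
    ⟨fun {J} _ => ⟨fun {D} => preservesColimit_qPush i J D⟩⟩
  haveI : Small.{u} (Sol i F) := small_subtype (α := Subobject F.obj) _
  let mkQ : Sol i F → QCohCat.QCoh Z := fun P =>
    ⟨(Scheme.Modules.pullback i).obj (P.1 : X.Modules),
      @EGA43.InjFibre.isQCoh_pullback _ _ i _ P.2.1⟩
  let φ : ∀ P : Sol i F, (qPush i).obj (mkQ P) ⟶ F := fun P =>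
    ObjectProperty.homMk ((clIso i P.2.2).inv ≫ P.1.arrow)
  let B : Shrink.{u} (Sol i F) → CostructuredArrow (qPush i) F := fun P =>
    CostructuredArrow.mk (φ ((equivShrink _).symm P))
  have hB : ∀ A : CostructuredArrow (qPush i) F, ∃ P, Nonempty (A ⟶ B P) := fun A => by
    let Q : Z.Modules := A.left.obj
    haveI : Coh.IsQCoh Q := A.left.property
    haveI : Coh.IsQCoh F.obj := F.property
    haveI : Coh.IsQCoh ((Coh.push i).obj Q) := isQCoh_push i Q
    let f : (Coh.push i).obj Q ⟶ F.obj := A.hom.hom
    let I : Subobject F.obj := imageSubobject f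
    haveI : Epi (factorThruImageSubobject f) := inferInstance
    haveI : Coh.IsQCoh (I : X.Modules) :=
      isQCoh_of_iso ((imageSubobjectIso f) ≪≫ (Abelian.imageIsoImage f).symm).symm
        (h := isQCoh_image f)
    have hk := killed_of_epi i Q (factorThruImageSubobject f)
    let P : Sol i F := ⟨I, ‹_›, hk⟩
    haveI : IsIso ((Scheme.Modules.pullbackPushforwardAdjunction i).unit.app ((Coh.push i).obj Q)) :=
      IsIso.of_isIso_fac_right ((Scheme.Modules.pullbackPushforwardAdjunction i).right_triangle_components Q)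
    have hu : (Coh.push i).map (inv ((Scheme.Modules.pullbackPushforwardAdjunction i).counit.app Q)) =
        clUnit i ((Coh.push i).obj Q) := by
      rw [Functor.map_inv]
      exact (IsIso.eq_inv_of_inv_hom_id
        ((Scheme.Modules.pullbackPushforwardAdjunction i).right_triangle_components Q)).symm
    let q : A.left ⟶ mkQ P := ObjectProperty.homMk
      (inv ((Scheme.Modules.pullbackPushforwardAdjunction i).counit.app Q) ≫
        (Scheme.Modules.pullback i).map (factorThruImageSubobject f))
    have hq : (qPush i).map q ≫ φ P = A.hom := by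
      apply ObjectProperty.hom_ext
      change (Coh.push i).map (_ ≫ _) ≫ ((clIso i hk).inv ≫ I.arrow) = f
      rw [Functor.map_comp, hu]
      have hn := (Scheme.Modules.pullbackPushforwardAdjunction i).unit.naturality
        (factorThruImageSubobject f)
      dsimp only [Functor.id_obj, Functor.id_map, Functor.comp_obj, Functor.comp_map] at hn
      refine (congrArg (fun z => z ≫ (clIso i hk).inv ≫ I.arrow) hn.symm).trans ?_
      refine (Category.assoc _ _ _).trans ?_
      exact (congrArg (fun z => factorThruImageSubobject f ≫ z)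
        ((clIso i hk).hom_inv_id_assoc I.arrow)).trans (imageSubobject_arrow_comp f)
    have hm : Nonempty (A ⟶ CostructuredArrow.mk (φ P)) := ⟨CostructuredArrow.homMk q hq⟩
    refine ⟨equivShrink _ P, ?_⟩
    show Nonempty (A ⟶ CostructuredArrow.mk (φ _))
    rw [Equiv.symm_apply_apply]
    exact hm
  haveI : HasColimitsOfSize.{u, u} (CostructuredArrow (qPush i) F) := inferInstance
  let T : CostructuredArrow (qPush i) F := ∐ B
  have hT : ∀ A : CostructuredArrow (qPush i) F, Nonempty (A ⟶ T) := fun A => by
    obtain ⟨P, ⟨g⟩⟩ := hB A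
    exact ⟨g ≫ Sigma.ι B P⟩
  haveI : HasInitial (CostructuredArrow (qPush i) F)ᵒᵖ :=
    hasInitial_of_weakly_initial_and_hasWideEqualizers (T := op T) fun A => by
      obtain ⟨g⟩ := hT A.unop
      exact ⟨g.op⟩
  exact hasTerminal_of_hasInitial_op

end Groth.Agent.S12461

namespace Groth.Agent.S12461

/-- Let i : Z → X be a closed immersion of schemes. The functor i_* : QCoh(O_Z) → QCoh(O_X) has a right
adjoint i^! : QCoh(O_X) → QCoh(O_Z). Stated as: there is a functor L between the full subcategories
of quasi-coherent modules which agrees with i_* after the inclusion into all O_X-modules (this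
determines L up to isomorphism, the inclusion being fully faithful) and which is a left adjoint. -/
theorem result {Z X : Scheme.{u}} (i : Z ⟶ X) [IsClosedImmersion i] :
    ∃ L : QCohCat.QCoh Z ⥤ QCohCat.QCoh X,
      Nonempty (L ⋙ (QCohCat.isQCoh X).ι ≅ (QCohCat.isQCoh Z).ι ⋙ Coh.push i) ∧ L.IsLeftAdjoint := by
  haveI := fun F => exists_terminal i F
  exact ⟨qPush i, ⟨(QCohCat.isQCoh X).liftCompιIso _ _⟩,
    isLeftAdjoint_of_costructuredArrowTerminals _⟩

end Groth.Agent.S12461
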