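import Mathlib.Topology.Spectral.Basic
import Mathlib.Topology.Category.TopCat.Limits.Basic
import Mathlib.Order.Directed
import Mathlib.Topology.Sober
import Groth.Agent.SpecSp.Limit

set_option autoImplicit false
universe u
namespace CategoryTheory
end CategoryTheory
namespace CategoryTheory.Limits
end CategoryTheory.Limits
open CategoryTheory CategoryTheory.Limits
namespace SpecSp
end SpecSp
open SpecSp

namespace Groth.Agent.S12462

/-- A spectral space is a directed inverse limit of finite sober topological spaces. Precisely: for X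
spectral there exist a nonempty directed preordered index set J, a functor from the opposite of J to
topological spaces whose values are finite sober (T0, every irreducible closed subset has a generic
point) spaces, and a limit cone of it whose vertex is isomorphic to X. -/
theorem result (X : Type u) [TopologicalSpace X] [SpectralSpace X] :
    ∃ (J : Type u) (_ : Preorder J) (_ : Nonempty J) (_ : IsDirected J (· ≤ ·)) (F : Jᵒᵖ ⥤ TopCat.{u})
      (c : Cone F), Nonempty (IsLimit c) ∧
        (∀ j : Jᵒᵖ, Finite (F.obj j) ∧ T0Space (F.obj j) ∧ QuasiSober (F.obj j)) ∧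
        Nonempty (c.pt ≅ TopCat.of X) := by
  classical
  let I := {U : Set X // IsOpen U ∧ IsCompact U}
  let ev : ∀ s : Finset I, X → (s → Prop) := fun s x U => x ∈ U.1.1
  let R : Finset I → Type u := fun s => ↥(Set.range (ev s))
  have : T0Space Prop := ⟨fun p q h => propext
    ⟨fun hp => by simpa using (h.mem_open_iff isOpen_singleton_true).1 (show p ∈ ({True} : Set Prop) by simpa using hp),
      fun hq => by simpa using (h.mem_open_iff isOpen_singleton_true).2 (show q ∈ ({True} : Set Prop) by simpa using hq)⟩⟩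
  have hmem : ∀ (s t : Finset I) (h : t ⊆ s) (g : R s), (fun U : t => g.1 ⟨U.1, h U.2⟩) ∈ Set.range (ev t) := by
    rintro s t h ⟨_, x, rfl⟩
    exact ⟨x, rfl⟩
  let F : (Finset I)ᵒᵖ ⥤ TopCat.{u} :=
    { obj := fun s => TopCat.of (R s.unop)
      map := fun {s t} a => TopCat.ofHom ⟨fun g => ⟨_, hmem s.unop t.unop (leOfHom a.unop) g⟩,
        Continuous.subtype_mk (continuous_pi fun U => (continuous_apply (⟨U.1, leOfHom a.unop U.2⟩ : ↥(s.unop))).comp continuous_subtype_val) _⟩
      map_id := fun s => rfl
      map_comp := fun a b => rfl }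
  have hfin : ∀ j, Finite (F.obj j) ∧ T0Space (F.obj j) ∧ QuasiSober (F.obj j) := fun j => by
    have h1 : Finite (R j.unop) := inferInstanceAs (Finite ↥(Set.range (ev j.unop)))
    have h2 : T0Space (R j.unop) := inferInstanceAs (T0Space ↥(Set.range (ev j.unop)))
    have := Groth.Agent.SpecSp.spectralSpace_of_finite (X := R j.unop)
    exact ⟨h1, h2, inferInstanceAs (QuasiSober (R j.unop))⟩
  have hs : ∀ j, SpectralSpace (F.obj j) := fun j => by
    obtain ⟨h1, h2, -⟩ := hfin j
    exact Groth.Agent.SpecSp.spectralSpace_of_finite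
  refine ⟨Finset I, inferInstance, inferInstance, inferInstance, F, TopCat.limitCone F,
    ⟨TopCat.limitConeIsLimit F⟩, hfin, ⟨?_⟩⟩
  let L := (TopCat.limitCone F).pt
  let φ : X → L := fun x => ⟨fun s => ⟨ev s.unop x, x, rfl⟩, fun {i j} a => rfl⟩
  have hev : ∀ s : Finset I, Continuous (ev s) := fun s => continuous_pi fun U => continuous_Prop.2 U.1.2.1
  have hφc : Continuous φ :=
    Continuous.subtype_mk (continuous_pi fun s => (hev s.unop).subtype_mk _) _
  have hbasic : ∀ U : I, ∃ O : Set L, IsOpen O ∧ φ ⁻¹' O = U.1 := fun U => by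
    refine ⟨{g | (g.1 (Opposite.op {U})).1 ⟨U, Finset.mem_singleton_self U⟩}, ?_, rfl⟩
    exact continuous_Prop.1 (((continuous_apply (⟨U, Finset.mem_singleton_self U⟩ : ({U} : Finset I))).comp
      continuous_subtype_val).comp ((continuous_apply (Opposite.op ({U} : Finset I))).comp continuous_subtype_val))
  have hind : Topology.IsInducing φ := by
    refine ⟨le_antisymm hφc.le_induced fun V hV => ?_⟩
    obtain ⟨S, hS, rfl⟩ := PrespectralSpace.isTopologicalBasis.open_eq_sUnion hV
    refine @isOpen_sUnion X (TopologicalSpace.induced φ inferInstance) S fun U hU => ?_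
    obtain ⟨O, hO, hOU⟩ := hbasic ⟨U, hS hU⟩
    exact ⟨O, hO, hOU⟩
  have hinj : Function.Injective φ := fun x y h => Inseparable.eq
    (show nhds x = nhds y by rw [hind.nhds_eq_comap, hind.nhds_eq_comap, h])
  have hsurj : Function.Surjective φ := by
    intro g
    let A : I → Set X := fun U => {x | x ∈ U.1 ↔ (g.1 (Opposite.op {U})).1 ⟨U, Finset.mem_singleton_self U⟩}
    obtain ⟨x, hx⟩ := Groth.Agent.SpecSp.nonempty_iInter_cons A (fun U => by
      by_cases h : (g.1 (Opposite.op {U})).1 ⟨U, Finset.mem_singleton_self U⟩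
      · simp only [A, h, iff_true, Set.ofPred_mem_eq]
        exact Groth.Agent.SpecSp.isClosed_cons_of_isCompactOpen U.2.1 U.2.2
      · simp only [A, h, iff_false]
        exact Groth.Agent.SpecSp.isClosed_cons_of_isClosed U.2.1.isClosed_compl) (fun s => by
      obtain ⟨x, hx⟩ := (g.1 (Opposite.op s)).2
      refine ⟨x, Set.mem_iInter₂.2 fun U hU => ?_⟩
      have h1 : F.map (homOfLE (show {U} ≤ s from Finset.singleton_subset_iff.2 hU)).op (g.1 (Opposite.op s)) = g.1 (Opposite.op {U}) := g.2 _
      show x ∈ U.1 ↔ (g.1 (Opposite.op {U})).1 ⟨U, Finset.mem_singleton_self U⟩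
      rw [← h1]
      exact (congrFun hx ⟨U, hU⟩).to_iff)
    refine ⟨x, Subtype.ext (funext fun s => Subtype.ext (funext fun U => propext ?_))⟩
    have h2 : F.map (homOfLE (show {U.1} ≤ s.unop from Finset.singleton_subset_iff.2 U.2)).op (g.1 s) = g.1 (Opposite.op {U.1}) := g.2 _
    have h3 : x ∈ U.1.1 ↔ (g.1 (Opposite.op {U.1})).1 ⟨U.1, Finset.mem_singleton_self _⟩ := Set.mem_iInter.1 hx U.1
    rw [← h2] at h3
    exact h3
  exact (TopCat.isoOfHomeo ((Equiv.ofBijective φ ⟨hinj, hsurj⟩).toHomeomorphOfIsInducing hind)).symm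

end Groth.Agent.S12462
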