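import Groth.Statements.S12463
import Groth.Agent.S7652
import Groth.Agent.S7657
import Groth.Agent.VarietyLib.NormRedLocal
import Groth.Agent.VarietyLib.DeltaBranches
import Mathlib

set_option autoImplicit false
universe u
open Variety
set_option maxHeartbeats 1000000
set_option synthInstance.maxHeartbeats 200000

namespace Groth.Agent.S12463

open Groth.Agent.VarietyLib IsLocalRing

theorem surjective_of_length_le_one {A : Type u} [CommRing A] {M : Type u} [AddCommGroup M] [Module A M]
    (g : A →ₗ[A] M) (hg : g 1 ≠ 0) (h : Module.length A M ≤ 1) : Function.Surjective g := by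
  have : Nontrivial M := nontrivial_of_ne _ _ hg
  have h1 : Module.length A M = 1 := le_antisymm h (Order.one_le_iff_pos.2 Module.length_pos)
  have := Module.length_eq_one_iff.1 h1
  rcases IsSimpleOrder.eq_bot_or_eq_top (LinearMap.range g) with h0 | h0
  · exact absurd ((Submodule.mem_bot A).1 (h0 ▸ LinearMap.mem_range_self g 1)) hg
  · exact LinearMap.range_eq_top.1 h0

theorem finSepDegree_eq_one (K E : Type u) [Field K] [Field E] [Algebra K E] [IsSepClosed K]
    [FiniteDimensional K E] : Field.finSepDegree K E = 1 := by
  exact (isPurelyInseparable_iff_finSepDegree_eq_one K E).1 inferInstance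

theorem exists_regular (A : Type u) [CommRing A] [IsLocalRing A] [IsNoetherianRing A] [IsReduced A]
    (hdim : ringKrullDim A = 1) : ∃ d ∈ maximalIdeal A, d ∈ nonZeroDivisors A := by
  by_contra hc
  push_neg at hc
  have hsub : (maximalIdeal A : Set A) ⊆ ⋃ q ∈ (minimalPrimes A), (q : Set A) := by
    intro x hx
    refine (Ideal.iUnion_minimalPrimes (I := (⊥ : Ideal A))).ge ?_
    have := hc x hx
    rw [mem_nonZeroDivisors_iff_right] at this
    push_neg at this
    obtain ⟨y, hy, hy0⟩ := this
    exact ⟨y, fun h => hy0 ((nilradical_eq_zero A).le h), Ideal.le_radical (by rw [mul_comm]; exact hy)⟩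
  have hfinm := minimalPrimes.finite_of_isNoetherianRing A
  obtain ⟨q, hq, hmq⟩ := (Ideal.subset_union_prime ⊥ ⊥ (f := id) (s := hfinm.toFinset) fun q hq _ _ =>
    Ideal.minimalPrimes_isPrime (hfinm.mem_toFinset.1 hq)).1 (hsub.trans (by simp))
  have : Ring.KrullDimLE 0 A := Ring.KrullDimLE.mk₀ fun I hI => by
    have hIm : I ≤ maximalIdeal A := IsLocalRing.le_maximalIdeal hI.ne_top
    have hmq' : maximalIdeal A = q := le_antisymm hmq (IsLocalRing.le_maximalIdeal
      (Ideal.minimalPrimes_isPrime (hfinm.mem_toFinset.1 hq)).ne_top)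
    have : I = maximalIdeal A := le_antisymm hIm
      (hmq'.le.trans ((hfinm.mem_toFinset.1 hq).2 ⟨hI, bot_le⟩ (hmq' ▸ hIm)))
    rw [this]; exact IsLocalRing.maximalIdeal.isMaximal A
  have h0 := Ring.krullDimLE_iff.1 this
  rw [hdim] at h0
  exact absurd h0 (by decide)

theorem hom_sub_mul {B S : Type u} [CommRing B] [CommRing S] (f : B →+* S) (a b s : B) (y : S)
    (hy : y * f s = f b) : (f a - y) * f s = f (a * s - b) := by
  rw [map_sub, map_mul, sub_mul, hy]


/-- Let (A, m) be a strictly henselian reduced Nagata local ring of dimension one with δ-invariant equal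
to the number of geometric branches minus one, and A' the integral closure of A in its total ring of
fractions. Then A is a wedge of discrete valuation rings: for every maximal ideal m' of A' the
localization A'_{m'} is a discrete valuation ring whose residue field is the image of A, and A
consists exactly of the elements of A' congruent to an element of A modulo every maximal ideal of A'
(the displayed inclusion; the reverse inclusion is trivial). (The inequality δ ≥ branches − 1 of the
published statement holds for every reduced Nagata local ring of dimension one and is not restated.) -/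
theorem result (A : Type u) [CommRing A] [HenselianLocalRing A]
    [IsSepClosed (IsLocalRing.ResidueField A)] [IsReduced A] (hN : CAlg.IsNagata A) (hdim : ringKrullDim A = 1)
    (heq : Curv2.deltaInv A + 1 = Brnch.numGeomBranches A) :
    (∀ m' : MaximalSpectrum ↥(integralClosure A (FractionRing A)),
        (∃ _ : IsDomain (Localization.AtPrime m'.asIdeal), IsDiscreteValuationRing (Localization.AtPrime m'.asIdeal)) ∧
        Function.Surjective (⇑(IsLocalRing.residue (Localization.AtPrime m'.asIdeal)) ∘
          ⇑(algebraMap ↥(integralClosure A (FractionRing A)) (Localization.AtPrime m'.asIdeal)) ∘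
          ⇑(algebraMap A ↥(integralClosure A (FractionRing A))))) ∧
    ∀ a' : ↥(integralClosure A (FractionRing A)),
      (∃ a : A, ∀ m' : MaximalSpectrum ↥(integralClosure A (FractionRing A)),
          a' - algebraMap A _ a ∈ m'.asIdeal) →
      a' ∈ (algebraMap A ↥(integralClosure A (FractionRing A))).range := by
  classical
  have hNN : IsNoetherianRing A := hN.1
  obtain ⟨hfinB, hloc, hδ⟩ := S7652.result A hN hdim
  let B := ↥(integralClosure A (FractionRing A))
  let R := LinearMap.range (Algebra.linearMap A B)
  have : Module.Finite A B := hfinB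
  have : IsNoetherianRing B := IsNoetherianRing.of_finite A B
  have := finite_maximalSpectrum (A := A) (B := B)
  have := Fintype.ofFinite (MaximalSpectrum B)
  -- the number of branches is the number of maximal ideals
  have hsurjκ : ∀ m : MaximalSpectrum B, Algebra.IsIntegral A B := fun _ => Algebra.IsIntegral.of_finite A B
  let e := normRedEquiv A (FractionRing A)
  let Φ := S7657.maxEquiv e.symm
  have key : ∀ n : MaximalSpectrum (CAlg2.normRed A),
      letI := (resAlg (A := A) (Φ n)).toAlgebra
      Nonempty (Brnch.Emb A n ≃ ((B ⧸ (Φ n).asIdeal) →ₐ[ResidueField A] AlgebraicClosure (ResidueField A))) := by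
    intro n
    refine ⟨S7657.embEquiv n ((Ideal.Quotient.mk (Φ n).asIdeal).comp e.toRingHom)
      (Ideal.Quotient.mk_surjective.comp e.surjective) ?_ (resAlg (A := A) (Φ n)) fun o => ?_⟩
    · rw [← RingHom.comap_ker, Ideal.mk_ker]
      exact Ideal.ext fun a => by
        show e.symm (e a) ∈ n.asIdeal ↔ _
        rw [e.symm_apply_apply]
    · show Ideal.Quotient.mk _ (e _) = _
      rw [normRedEquiv_mk]; rfl
  let β : MaximalSpectrum B → Type u := fun m =>
    letI := (resAlg (A := A) m).toAlgebra
    (B ⧸ m.asIdeal) →ₐ[ResidueField A] AlgebraicClosure (ResidueField A)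
  have hβ : ∀ n : MaximalSpectrum B, ENat.card (β n) = 1 := fun n => by
    letI := (resAlg (A := A) n).toAlgebra
    haveI := n.isMaximal
    letI := Ideal.Quotient.field n.asIdeal
    haveI : IsScalarTower A (ResidueField A) (B ⧸ n.asIdeal) := IsScalarTower.of_algebraMap_eq fun _ => rfl
    haveI : Module.Finite (ResidueField A) (B ⧸ n.asIdeal) := Module.Finite.of_restrictScalars_finite A _ _
    show ENat.card ((B ⧸ n.asIdeal) →ₐ[ResidueField A] AlgebraicClosure (ResidueField A)) = 1
    rw [ENat.card_eq_coe_natCard,
      ← Field.finSepDegree_eq_of_isAlgClosed (ResidueField A) (B ⧸ n.asIdeal) (AlgebraicClosure (ResidueField A)),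
      finSepDegree_eq_one, Nat.cast_one]
  let N := Fintype.card (MaximalSpectrum B)
  have hbr : Brnch.numGeomBranches A = (N : ℕ∞) := by
    rw [Brnch.numGeomBranches, if_pos (minimalPrimes.finite_of_isNoetherianRing A)]
    refine (ENat.card_congr (Equiv.sigmaCongr (β₂ := β) Φ fun n => (key n).some)).trans ?_
    have : ∀ n, Unique (β n) := fun n => by
      have h1 := ENat.card_le_one_iff_subsingleton (β n) |>.1 (hβ n).le
      have h2 : Nonempty (β n) := (isEmpty_or_nonempty (β n)).resolve_left fun he => by
        have := hβ n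
        rw [(ENat.card_eq_zero_iff_empty _).2 he] at this
        exact zero_ne_one this
      exact @uniqueOfSubsingleton _ h1 h2.some
    rw [ENat.card_congr (Equiv.sigmaUnique (MaximalSpectrum B) β), ENat.card_eq_coe_fintype_card]
  have hle := length_pi_le (A := A) (B := B)
  rw [show Module.length A (B ⧸ LinearMap.range (Algebra.linearMap A B)) + 1 = (N : ℕ∞) from heq.trans hbr,
    Module.length_pi_of_fintype] at hle
  have hpos : ∀ m : MaximalSpectrum B, 1 ≤ Module.length A (B ⧸ m.asIdeal) := fun m => by
    have := m.isMaximal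
    have : Nontrivial (B ⧸ m.asIdeal) := Ideal.Quotient.nontrivial_iff.2 m.isMaximal.ne_top
    exact Order.one_le_iff_pos.2 Module.length_pos
  have hone : ∀ m : MaximalSpectrum B, Module.length A (B ⧸ m.asIdeal) = 1 := by
    intro m
    refine le_antisymm ?_ (hpos m)
    by_contra hc
    rw [not_le] at hc
    have h2 : (∑ i : MaximalSpectrum B, (1 : ℕ∞)) + 1 ≤
        ∑ i : MaximalSpectrum B, Module.length A (B ⧸ i.asIdeal) := by
      rw [← Finset.add_sum_erase _ _ (Finset.mem_univ m), ← Finset.add_sum_erase _ _ (Finset.mem_univ m),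
        add_right_comm]
      exact add_le_add (Order.add_one_le_of_lt hc) (Finset.sum_le_sum fun i _ => hpos i)
    have h3 := h2.trans hle
    simp only [Finset.sum_const, Finset.card_univ, nsmul_one] at h3
    exact absurd h3 (by exact_mod_cast Nat.not_succ_le_self N)
  have hsurj : ∀ (m : MaximalSpectrum B) (b : B), ∃ a : A, b - algebraMap A B a ∈ m.asIdeal := by
    intro m b
    have := m.isMaximal
    obtain ⟨a, ha⟩ := surjective_of_length_le_one ((m.asIdeal.mkQ.restrictScalars A).comp (Algebra.linearMap A B))
      (fun h => m.isMaximal.ne_top ((Ideal.eq_top_iff_one _).2 (by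
        rw [← map_one (algebraMap A B)]; exact (Submodule.Quotient.mk_eq_zero _).1 h))) (hone m).le
      (Submodule.Quotient.mk b)
    exact ⟨a, (Submodule.Quotient.eq _).1 ha.symm⟩
  refine ⟨fun m => ⟨?_, ?_⟩, fun a' ha' => ?_⟩
  · have := m.isMaximal
    obtain ⟨hdom, hicl⟩ := hloc ⟨m.asIdeal, inferInstance⟩
    let L := Localization.AtPrime m.asIdeal
    have : IsDomain L := hdom
    have : IsIntegrallyClosed L := hicl
    have : Algebra.IsIntegral A B := Algebra.IsIntegral.of_finite A B
    have : Ring.KrullDimLE 1 A := Ring.krullDimLE_iff.2 hdim.le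
    have : IsNoetherianRing L := IsLocalization.isNoetherianRing m.asIdeal.primeCompl L inferInstance
    have hmA : m.asIdeal.comap (algebraMap A B) = maximalIdeal A :=
      IsLocalRing.eq_maximalIdeal (Ideal.isMaximal_comap_of_isIntegral_of_isMaximal m.asIdeal)
    obtain ⟨d, hdm, hd⟩ := exists_regular A hdim
    have hdne : algebraMap B L (algebraMap A B d) ≠ 0 := fun h => by
      obtain ⟨u, hu⟩ := (IsLocalization.map_eq_zero_iff m.asIdeal.primeCompl L _).1 h
      refine u.2 ?_
      have h1 : (((u : B) : FractionRing A)) * algebraMap A (FractionRing A) d = 0 :=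
        congrArg Subtype.val hu
      rw [((IsLocalization.map_units (FractionRing A) ⟨d, hd⟩).mul_left_eq_zero)] at h1
      rw [show (u : B) = 0 from Subtype.ext h1]
      exact zero_mem _
    have hdP : algebraMap B L (algebraMap A B d) ∈ maximalIdeal L :=
      (IsLocalization.AtPrime.to_map_mem_maximal_iff L m.asIdeal _).2 (hmA.ge hdm)
    have hnf : ¬ IsField L := fun hF => hdne (by
      rw [IsLocalRing.isField_iff_maximalIdeal_eq.1 hF] at hdP
      simpa using hdP)
    refine ⟨hdom, ((IsDiscreteValuationRing.TFAE L hnf).out 0 3 (a := IsDiscreteValuationRing L)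
      (b := IsIntegrallyClosed L ∧ ∃! P : Ideal L, P ≠ ⊥ ∧ P.IsPrime)).2 ⟨hicl, maximalIdeal L,
      ⟨fun h => hdne (by simpa [h] using hdP), inferInstance⟩, ?_⟩⟩
    rintro P ⟨hP0, hP⟩
    refine IsLocalRing.eq_maximalIdeal ?_
    let Q := P.comap (algebraMap B L)
    let Q₀ := (⊥ : Ideal L).comap (algebraMap B L)
    have : Q₀.IsPrime := Ideal.comap_isPrime _ _
    have : Q.IsPrime := Ideal.comap_isPrime _ _
    have hlt : Q₀ < Q := by
      refine lt_of_le_of_ne (Ideal.comap_mono bot_le) fun h => hP0 ?_
      rw [← IsLocalization.map_comap m.asIdeal.primeCompl L P]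
      exact (congrArg (Ideal.map (algebraMap B L)) h.symm).trans (IsLocalization.map_comap m.asIdeal.primeCompl L ⊥)
    have hlt' : Q₀.comap (algebraMap A B) < Q.comap (algebraMap A B) := Ideal.IsIntegral.comap_lt_comap hlt
    have hQm : (Q.comap (algebraMap A B)).IsMaximal :=
      (Ring.krullDimLE_one_iff.1 inferInstance _ (Ideal.comap_isPrime _ _)).resolve_left fun h =>
        absurd (h.2 ⟨Ideal.comap_isPrime _ _, bot_le⟩ hlt'.le) (not_le_of_gt hlt')
    have hQmax : Q.IsMaximal := Ideal.IsIntegral.isMaximal_of_isMaximal_comap Q hQm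
    have hQm' : Q = m.asIdeal := hQmax.eq_of_le m.isMaximal.ne_top fun x hx => by
      by_contra hxm
      exact hP.ne_top (Ideal.eq_top_of_isUnit_mem _ hx (IsLocalization.map_units L (⟨x, hxm⟩ : m.asIdeal.primeCompl)))
    have hPmax : P = maximalIdeal L := by
      rw [← IsLocalization.map_comap m.asIdeal.primeCompl L P]
      exact (congrArg (Ideal.map (algebraMap B L)) hQm').trans (IsLocalization.AtPrime.map_eq_maximalIdeal m.asIdeal L)
    exact hPmax ▸ IsLocalRing.maximalIdeal.isMaximal L
  · intro y
    have := m.isMaximal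
    obtain ⟨z, rfl⟩ := residue_surjective y
    obtain ⟨b, s, rfl⟩ := IsLocalization.exists_mk'_eq m.asIdeal.primeCompl z
    obtain ⟨c, hc⟩ := (Ideal.Quotient.maximal_ideal_iff_isField_quotient m.asIdeal).1 inferInstance |>.mul_inv_cancel
      (show Ideal.Quotient.mk m.asIdeal s ≠ 0 from fun h => s.2 (Ideal.Quotient.eq_zero_iff_mem.1 h))
    obtain ⟨c, rfl⟩ := Ideal.Quotient.mk_surjective c
    obtain ⟨a, ha⟩ := hsurj m (b * c)
    refine ⟨a, ?_⟩
    rw [← map_mul, ← map_one (Ideal.Quotient.mk m.asIdeal), Ideal.Quotient.eq] at hc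
    let S := Localization.AtPrime m.asIdeal
    show residue S (algebraMap B S (algebraMap A B a)) = residue S (IsLocalization.mk' S b s)
    refine sub_eq_zero.1 ((map_sub (residue S) _ _).symm.trans ((residue_eq_zero_iff _).2 ?_))
    have h4 : algebraMap B (Localization.AtPrime m.asIdeal) (algebraMap A B a * (s : B) - b) ∈
        maximalIdeal (Localization.AtPrime m.asIdeal) := by
      refine (IsLocalization.AtPrime.to_map_mem_maximal_iff S m.asIdeal _).2 ?_
      have e : algebraMap A B a * (s : B) - b =
          b * ((s : B) * c - 1) - (s : B) * (b * c - algebraMap A B a) := by ring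
      rw [e]
      exact sub_mem (Ideal.mul_mem_left _ _ hc) (Ideal.mul_mem_left _ _ ha)
    refine (Ideal.mul_unit_mem_iff_mem _ (IsLocalization.map_units S s)).1 ?_
    rw [hom_sub_mul (algebraMap B S) (algebraMap A B a) b s (IsLocalization.mk' S b s)
      (IsLocalization.mk'_spec S b s)]
    exact h4
  · obtain ⟨a, ha⟩ := ha'
    let P := (m : MaximalSpectrum B) → B ⧸ m.asIdeal
    let g := (modMax (A := A) (B := B)).comp (Algebra.linearMap A B)
    have hP : Module.length A P = (N : ℕ∞) := by
      rw [Module.length_pi_of_fintype]; simp only [hone, Finset.sum_const, Finset.card_univ, nsmul_one]; rfl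
    have hcok : Module.length A (B ⧸ R) ≤ Module.length A (P ⧸ LinearMap.range g) := by
      have h1 := Module.length_eq_add_of_exact (LinearMap.range g).subtype (LinearMap.range g).mkQ
        (LinearMap.range g).injective_subtype (LinearMap.range g).mkQ_surjective
        (LinearMap.exact_subtype_mkQ _)
      rw [hP, ← hbr, ← heq, add_comm (Module.length A (LinearMap.range g))] at h1
      exact (ENat.add_le_add_iff_right ENat.one_ne_top).1
        (h1.le.trans (add_le_add le_rfl (length_range_le_one (A := A) (B := B))))
    have hinj : Function.Injective (cokMap (A := A) (B := B)) := by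
      have h1 := Module.length_eq_add_of_exact (LinearMap.ker (cokMap (A := A) (B := B))).subtype
        (cokMap (A := A) (B := B)) (Submodule.injective_subtype _) cokMap_surjective
        (LinearMap.exact_subtype_ker_map _)
      rw [← LinearMap.ker_eq_bot, ← Submodule.subsingleton_iff_eq_bot, ← Module.length_eq_zero_iff (R := A)]
      have hne : Module.length A (P ⧸ LinearMap.range g) ≠ ⊤ :=
        ne_top_of_le_ne_top hδ.ne (Module.length_le_of_surjective _ cokMap_surjective)
      have h2 := h1.ge.trans hcok
      exact le_antisymm ((ENat.add_le_add_iff_right hne).1 (h2.trans (zero_add _).ge)) zero_le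
    have h0 : cokMap (A := A) (B := B) (Submodule.Quotient.mk a') = 0 := by
      show Submodule.Quotient.mk (modMax a') = 0
      rw [Submodule.Quotient.mk_eq_zero]
      exact ⟨a, funext fun m => ((Submodule.Quotient.eq _).2 (ha m)).symm⟩
    have h5 := (Submodule.Quotient.mk_eq_zero _).1 (hinj (h0.trans (map_zero _).symm))
    exact h5

end Groth.Agent.S12463
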