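import Groth.Statements.S12466
import Groth.Agent.Resolve13.SncSupport

set_option autoImplicit false
universe u
open CategoryTheory CategoryTheory.Limits AlgebraicGeometry
open Resolve

open Groth.Agent.Resolve13

namespace Groth.Agent.S12466

/-- Let X be an integral Noetherian scheme which is regular of dimension two and Z ⊂ X a closed
subscheme with ideal I ≠ 0 such that every integral closed subscheme of dimension one contained in Z
has finite normalization. Then there is a finite sequence of blowings up in closed points g : X' → X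
such that the inverse image ideal I·O_{X'} is the ideal of an effective Cartier divisor supported on
a strict normal crossings divisor, i.e. for every point p of its support there are an affine open U
∋ p, a regular system of parameters x_1, …, x_d of O_{X',p} (d = dim O_{X',p}, the x_i generating
the maximal ideal) and 1 ≤ r ≤ d such that the radical of the inverse image ideal, taken in
O_{X',p}, is generated by x_1⋯x_r. (The published statement takes X any regular scheme of dimension
two, hence only locally Noetherian, and Z any proper closed subscheme whose one-dimensional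
irreducible components have finite normalization; this row takes X integral and Noetherian. For the
disjoint union of a regular surface and a regular curve, with Z the curve, no sequence of blowings
up in closed points makes the inverse image of Z an effective Cartier divisor (the
largest-Cartier-divisor step of the proof needs every piece of X of dimension exactly two), and a
finite sequence of blowings up in single closed points can resolve Z only when X is quasi-compact,
since a non-quasi-compact regular surface may carry a curve with infinitely many singular points.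
The quasi-compactness and quasi-separatedness binders in the hypothesis on the components of Z
always hold.) -/
theorem result (X : Scheme.{u}) [IsIntegral X] [IsNoetherian X]
    (hreg : ∀ x : X, IsRegularLocalRing (X.presheaf.stalk x)) (hdim : topologicalKrullDim X = 2)
    (I : X.IdealSheafData) (hI : I ≠ ⊥)
    (hZ : ∀ (J : X.IdealSheafData) [IsIntegral J.subscheme]
      [QuasiCompact (J.subscheme.fromSpecStalk (genericPoint ↥J.subscheme))]
      [QuasiSeparated (J.subscheme.fromSpecStalk (genericPoint ↥J.subscheme))],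
      (J.support : Set X) ⊆ I.support → topologicalKrullDim ↥J.subscheme = 1 →
        IsFinite (Curv2.normalizationι J.subscheme)) :
    ∃ (X' : Scheme.{u}) (g : X' ⟶ X), Models.IsContractionSeq g ∧ BlowUp.IsEffCartierIdeal (I.comap g) ∧
      ∀ p : X', p ∈ ((I.comap g).support : Set X') →
        ∃ (U : X'.affineOpens) (hp : p ∈ (U : X'.Opens)) (d r : ℕ) (x : Fin d → X'.presheaf.stalk p),
          1 ≤ r ∧ r ≤ d ∧ ringKrullDim (X'.presheaf.stalk p) = (d : WithBot ℕ∞) ∧
          Ideal.span (Set.range x) = IsLocalRing.maximalIdeal (X'.presheaf.stalk p) ∧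
          ((I.comap g).radical.ideal U).map (X'.presheaf.germ (U : X'.Opens) p hp).hom =
            Ideal.span {∏ i : Fin d, if (i : ℕ) < r then x i else 1} := by
  classical
  have hXs : Groth.Agent.Models7.RegSurf X := ⟨inferInstance, inferInstance, inferInstance, hreg, hdim.le⟩
  have h0 := not_isClosed_generic hdim
  have hη := genericPoint_notMem_support I hI
  obtain ⟨X₁, g₁, G₁, hT₁, hreg₁⟩ := exists_regularised hXs h0 (I.support : Set X) I.support.isClosed hη
    (fun x hxS hx => by
      haveI : IsLocallyNoetherian (cI x).subscheme := LocallyOfFiniteType.isLocallyNoetherian (cI x).subschemeι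
      haveI : CompactSpace (cI x).subscheme := (cI x).subschemeι.isClosedEmbedding.compactSpace
      haveI : IsNoetherian (cI x).subscheme := {}
      haveI : IsFinite (Curv2.normalizationι (cI x).subscheme) :=
        hZ (cI x) (by rw [coe_support_cI]; exact closure_minimal (Set.singleton_subset_iff.2 hxS) I.support.isClosed)
          (topologicalKrullDim_cI_eq hXs.dim hx)
      obtain ⟨N, hN, ν, hν, hdN, hNreg, hgen, hsurj⟩ :=
        normalization_facts (cI x).subscheme (topologicalKrullDim_cI_eq hXs.dim hx)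
      haveI := hN
      haveI := hν
      refine ⟨N, hN, ν ≫ (cI x).subschemeι, inferInstance, hdN, hNreg, ?_, ?_⟩
      · rw [Scheme.Hom.comp_apply, hgen]
        exact gen_cI x
      · intro v
        obtain ⟨w, hw⟩ := hsurj v
        obtain ⟨z, hz⟩ := (cI x).subschemeι.stalkMap_surjective (ν (genericPoint N)) w
        refine ⟨z, ?_⟩
        rw [Scheme.Hom.stalkMap_comp]
        show ν.stalkMap _ ((cI x).subschemeι.stalkMap _ z) = v
        exact (congrArg _ hz).trans hw)
  haveI := hT₁.surf.integral
  haveI := hT₁.surf.noeth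
  haveI := hT₁.surf.compact
  haveI : IsNoetherian X₁ := {}
  have hη₁ : genericPoint X₁ ∉ (I.comap g₁).support := fun h => by
    have h' : genericPoint X₁ ∈ ((I.comap g₁).support : Set X₁) := h
    rw [Scheme.IdealSheafData.support_comap] at h'
    exact hη ((hT₁.generic (X' := X₁) (X := X)) ▸ h')
  obtain ⟨X₂, g₂, hX₂, hP₂, -, hc₂⟩ :=
    exists_ptSeq_effCartier hT₁.surf (I.comap g₁) (ne_bot_of_notMem _ hη₁)
  obtain ⟨G₂, hT₂⟩ := exists_tracked (isPtBlowupSeq_of_ptSeq hP₂) hT₁.surf hT₁.notClosed
  haveI := hX₂.integral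
  haveI := hX₂.noeth
  haveI := hX₂.compact
  haveI : IsNoetherian X₂ := {}
  let J := (I.comap g₁).comap g₂
  have hJsupp : ∀ x, x ∈ J.support ↔ g₁ (g₂ x) ∈ I.support := fun x => by
    show x ∈ (((I.comap g₁).comap g₂).support : Set X₂) ↔ _
    rw [Scheme.IdealSheafData.support_comap]
    show g₂ x ∈ ((I.comap g₁).support : Set X₁) ↔ _
    rw [Scheme.IdealSheafData.support_comap]
    rfl
  have hη₂ : genericPoint X₂ ∉ (J.support : Set X₂) := fun h => by
    have h' := (hJsupp _).1 h
    rw [hT₂.generic (X' := X₂) (X := X₁), hT₁.generic (X' := X₁) (X := X)] at h'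
    exact hη h'
  have hreg₂ : ∀ x ∈ (J.support : Set X₂), IsCurvePt x → IsRegCurve x := fun x hx hc =>
    hT₂.isRegCurve (S := {y | g₁ y ∈ (I.support : Set X)}) (fun y hy hyc => hreg₁ y hyc hy) hc ((hJsupp x).1 hx)
  obtain ⟨X₃, g₃, G₃, hT₃, hgood, hsep⟩ :=
    exists_separated hX₂ hT₂.notClosed (J.support : Set X₂) J.support.isClosed hη₂ hreg₂
  haveI := hT₃.surf.integral
  haveI := hT₃.surf.noeth
  let K := J.comap g₃
  have hK : I.comap (g₃ ≫ g₂ ≫ g₁) = K := by
    rw [Scheme.IdealSheafData.comap_comp, Scheme.IdealSheafData.comap_comp]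
  have hKsupp : ∀ x, x ∈ K.support ↔ g₃ x ∈ (J.support : Set X₂) := fun x => by
    show x ∈ ((J.comap g₃).support : Set X₃) ↔ _
    rw [Scheme.IdealSheafData.support_comap]
    rfl
  have hη₃ : genericPoint X₃ ∉ K.support := fun h => by
    have h' := (hKsupp _).1 h
    rw [hT₃.generic (X' := X₃) (X := X₂)] at h'
    exact hη₂ h'
  have hKc : BlowUp.IsEffCartierIdeal K := Groth.Agent.Inters29.isEffCartier_of_stk K fun x => by
    refine ⟨?_, Groth.Agent.Resolve13.stk_ne_bot _ (ne_bot_of_notMem _ hη₃) x⟩
    obtain ⟨t, -, ht⟩ := Groth.Agent.Misc15.DivDescent.exists_gen hc₂ (g₃ x)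
    refine ⟨(g₃.stalkMap x).hom t, ?_⟩
    rw [Groth.Agent.Misc15.DivDescent.stk_comap J g₃ x,
      show Groth.Agent.Misc15.DivDescent.stk J (g₃ x) = Ideal.span {t} from ht, Ideal.map_span, Set.image_singleton]
  have hseq : Models.IsContractionSeq (g₃ ≫ g₂ ≫ g₁) := by
    have h := (contractionSeq_of_ptSeq (hT₃.seq.trans (hP₂.trans hT₁.seq)) hXs).2.2 (Iso.refl X₃)
    rwa [Iso.refl_hom, Category.id_comp] at h
  have hg : ∀ x, IsCurvePt x → x ∈ K.support → Good g₃ G₃ x := fun x hx h => hgood x hx ((hKsupp x).1 h)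
  have htr : ∀ x y, IsCurvePt x → x ∈ K.support → IsCurvePt y → y ∈ K.support → x ≠ y → Transv x y := by
    intro x y hx hxK hy hyK hxy
    rcases hg x hx hxK with hxG | hxS
    · exact hT₃.transv x hxG y (hg y hy hyK) hxy
    rcases hg y hy hyK with hyG | hyS
    · exact (hT₃.transv y hyG x (hg x hx hxK) hxy.symm).symm
    exact fun q hxq hyq => (hsep x y hxS.1 ((hKsupp x).1 hxK) hyS.1 ((hKsupp y).1 hyK) hxy q hxq hyq).elim
  have htriple : ∀ x y w, IsCurvePt x → x ∈ K.support → IsCurvePt y → y ∈ K.support → IsCurvePt w → w ∈ K.support →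
      x ≠ y → x ≠ w → y ≠ w → ∀ q, x ⤳ q → y ⤳ q → w ⤳ q → False := by
    intro x y w hx hxK hy hyK hw hwK hxy hxw hyw q hxq hyq hwq
    rcases hg x hx hxK with hxG | hxS <;> rcases hg y hy hyK with hyG | hyS <;> rcases hg w hw hwK with hwG | hwS
    · exact hT₃.triple x hxG y hyG w (hg w hw hwK) hxy hxw hyw q hxq hyq hwq
    · exact hT₃.triple x hxG y hyG w (hg w hw hwK) hxy hxw hyw q hxq hyq hwq
    · exact hT₃.triple x hxG w hwG y (hg y hy hyK) hxw hxy hyw.symm q hxq hwq hyq
    · exact hsep y w hyS.1 ((hKsupp y).1 hyK) hwS.1 ((hKsupp w).1 hwK) hyw q hyq hwq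
    · exact hT₃.triple y hyG w hwG x (hg x hx hxK) hyw hxy.symm hxw.symm q hyq hwq hxq
    · exact hsep x w hxS.1 ((hKsupp x).1 hxK) hwS.1 ((hKsupp w).1 hwK) hxw q hxq hwq
    · exact hsep x y hxS.1 ((hKsupp x).1 hxK) hyS.1 ((hKsupp y).1 hyK) hxy q hxq hyq
    · exact hsep x y hxS.1 ((hKsupp x).1 hxK) hyS.1 ((hKsupp y).1 hyK) hxy q hxq hyq
  refine ⟨X₃, g₃ ≫ g₂ ≫ g₁, hseq, by rw [hK]; exact hKc, fun p hp => ?_⟩
  rw [hK] at hp ⊢
  obtain ⟨d, r, x, hr1, hrd, hd, hspan, hrad⟩ := exists_snc_local hT₃.surf K hKc hη₃
    (fun x hx hxK => (hT₃.good_curvePt (hg x hx hxK)).2) htr htriple p hp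
  obtain ⟨_, ⟨U, hU, rfl⟩, hpU, -⟩ := X₃.isBasis_affineOpens.exists_subset_of_mem_open (Set.mem_univ p) isOpen_univ
  refine ⟨⟨U, hU⟩, hpU, d, r, x, hr1, hrd, hd, hspan, ?_⟩
  letI := TopCat.Presheaf.algebra_section_stalk X₃.presheaf (⟨p, hpU⟩ : U)
  haveI := hU.isLocalization_stalk ⟨p, hpU⟩
  rw [← hrad, Groth.Agent.Misc15.DivDescent.stk_eq K ⟨U, hU⟩ hpU, Scheme.IdealSheafData.radical_ideal]
  exact IsLocalization.map_radical (hU.primeIdealOf ⟨p, hpU⟩).asIdeal.primeCompl (X₃.presheaf.stalk p) (K.ideal ⟨U, hU⟩)


end Groth.Agent.S12466
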