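import Groth.Statements.S1247
import Groth.Agent.S1245
import Groth.Agent.FlatMorDevissage.ImpurityCurve

set_option autoImplicit false
universe u
open FlatMor

namespace Groth.Agent.S1247

/-- Ring form, X = Spec B and S = Spec A affine with A Noetherian: let B be a finite type A-algebra, N a
finite B-module and p a prime of A. If there is an impurity of N above p then there is one whose
base change A → A' is of finite type and quasi-finite at the point t. -/
theorem result {A B : Type u} [CommRing A] [IsNoetherianRing A] [CommRing B] [Algebra A B] [Algebra.FiniteType A B]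
    (N : Type u) [AddCommGroup N] [Module B N] [Module.Finite B N] (p : Ideal A) [p.IsPrime]
    (h : FlatCA.HasImpurity A B N p (fun _ _ _ _ => True)) :
    FlatCA.HasImpurity A B N p (fun A' _ _ t => ∃ _ : t.IsPrime, Algebra.FiniteType A A' ∧ Algebra.QuasiFiniteAt A t) := by
  obtain ⟨A', B', N', _, _, _, _, _, _, _, _, _, _, _, _, _, _, f, t', t, _, _, P, _, himp, hfp, hmax⟩ :=
    Groth.Agent.S1245.result N p h
  have := himp.2.2.2.1
  refine Groth.Agent.FlatMorDevissage.ImpurityCurve.hasImpurity_quasiFinite N p himp
    fun r hr hle hrp => ?_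
  have hfr : (FlatCA.fiberIdeal p r).comap
      (Algebra.TensorProduct.includeRight : A' →ₐ[A] p.Fiber A').toRingHom = r :=
    Groth.Agent.FlatMorDevissage.comap_fiberIdeal p r
  have hft : (FlatCA.fiberIdeal p t).comap
      (Algebra.TensorProduct.includeRight : A' →ₐ[A] p.Fiber A').toRingHom = t :=
    Groth.Agent.FlatMorDevissage.comap_fiberIdeal p t
  have hne : FlatCA.fiberIdeal p r ≠ ⊤ := fun e => hr.ne_top (by rw [← hfr, e, Ideal.comap_top])
  have := hmax.eq_of_le hne (Ideal.map_mono hle)
  rw [← hfr, ← this, hft]

end Groth.Agent.S1247
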