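import Groth.Statements.S1248
import Groth.Agent.FlatMorDevissage.ImpurityDescend
import Groth.Agent.HenselLib.PtPrime
import Groth.Agent.HenselLib.HullFlat

set_option autoImplicit false
universe u
open FlatMor

namespace Groth.Agent.S1248

open IsLocalRing in
/-- Ring form, X = Spec B affine: let B be a finite type A-algebra, N a finite B-module and p a prime of
A. If there is an impurity of N above p whose base change ring A' is a henselization of the local
ring A_p (compatibly with A → A_p) and whose point t is the maximal ideal, then there is an impurity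
of N above p for which (A', t) is an elementary étale ring map at p. -/
theorem result {A B : Type u} [CommRing A] [CommRing B] [Algebra A B] [Algebra.FiniteType A B]
    (N : Type u) [AddCommGroup N] [Module B N] [Module.Finite B N] (p : Ideal A) [p.IsPrime]
    (h : FlatCA.HasImpurity A B N p (fun A' _ _ t => ∃ (_ : IsLocalRing A') (_ : Algebra (Localization.AtPrime p) A')
        (_ : IsScalarTower A (Localization.AtPrime p) A') (_ : IsLocalHom (algebraMap (Localization.AtPrime p) A')),
        Hensel.IsHenselization (Localization.AtPrime p) A' ∧ t = maximalIdeal A')) :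
    FlatCA.HasImpurity A B N p (fun A' _ _ t => ∃ _ : t.IsPrime, FlatCA.IsEtaleNhd A A' p t) := by
  classical
  obtain ⟨A', B', N', _, _, _, _, _, _, _, _, _, _, _, _, _, _, f, t', t, _, _, P, _, himp, _, _, _, _,
    hH, ht⟩ := h
  subst ht
  obtain ⟨e⟩ := Groth.Agent.HenselLib.PtPrime.exists_equiv_hull (R := A) p A' (hS := hH)
  obtain ⟨F, hF⟩ := Groth.Agent.FlatMorDevissage.ImpurityDescend.exists_stage_impurity N p f t' _ P himp
  obtain ⟨S, x, hx⟩ := Groth.Agent.HenselLib.exists_rep_finset F e.symm
  let φ : S.Ring →ₐ[A] A' := e.toAlgHom.comp (Groth.Agent.HenselLib.ι S)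
  obtain ⟨s, hs, hmain⟩ := hF S.Ring φ fun a ha => ⟨x a, by
    show e (Groth.Agent.HenselLib.ι S (x a)) = a
    rw [hx a ha, e.apply_symm_apply]⟩
  have hq : (maximalIdeal A').comap φ.toRingHom = RingHom.ker S.pt := by
    ext y
    show e (Groth.Agent.HenselLib.ι S y) ∈ maximalIdeal A' ↔ S.pt y = 0
    rw [mem_maximalIdeal, mem_nonunits_iff, ← Groth.Agent.HenselLib.hullPt_ι]
    constructor
    · intro h
      by_contra h0
      exact h ((Groth.Agent.HenselLib.isUnit_of_isUnit_hullPt (Ne.isUnit h0)).map e)
    · intro h0 h
      have := (h.map e.symm).map (Groth.Agent.HenselLib.hullPt A p.ResidueField)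
      rw [e.symm_apply_apply, h0] at this
      exact not_isUnit_zero this
  have : (RingHom.ker S.pt).IsPrime := RingHom.ker_isPrime _
  have hl : (RingHom.ker S.pt).LiesOver p :=
    ⟨Groth.Agent.HenselLib.PtPrime.comap_ker_point p S.pt⟩
  exact hmain (RingHom.ker S.pt) hq.le hl
    (fun hs' => hs (show s ∈ (maximalIdeal A').comap φ.toRingHom from hq.ge hs')) _
    ⟨inferInstance, inferInstance, hl,
      Groth.Agent.HenselLib.PtPrime.bijective_map_of_point p _ hl.over S.pt rfl⟩

end Groth.Agent.S1248
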