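import Groth.Statements.S12491
import Groth.Agent.CAlgH3.RegularHom
import Mathlib.RingTheory.LocalRing.Module
import Mathlib.Algebra.Module.LocalizedModule.Exact
import Mathlib.RingTheory.Localization.Module

set_option autoImplicit false
universe u
open VBPn

namespace Groth.Agent.S12491

/-- Let A be a regular local ring, k ≥ 0, and N_0, N_1, … A-modules with N_0 finitely generated and N_1,
…, N_k finitely generated and free, with linear maps d_i : N_i → N_{i+1} such that d_0 is injective
and the sequence 0 → N_0 → N_1 → ⋯ → N_k is exact. Then for every prime ideal p of A of height at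
most k the localization of N_0 at p is a free module over A_p. The published statement is for a
coherent analytic sheaf on a complex manifold that is locally a k-th syzygy sheaf and says its set
of non-free stalks has codimension greater than k; this row is the statement at one stalk, over any
regular local ring. -/
theorem result (A : Type u) [CommRing A] [IsRegularLocalRing A]
    (k : ℕ) (N : ℕ → Type u) [∀ i, AddCommGroup (N i)] [∀ i, Module A (N i)] [Module.Finite A (N 0)]
    (hfree : ∀ i, 1 ≤ i → i ≤ k → Module.Free A (N i) ∧ Module.Finite A (N i))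
    (d : ∀ i, N i →ₗ[A] N (i + 1)) (hinj : Function.Injective (d 0))
    (hex : ∀ i, i + 1 < k → LinearMap.range (d i) = LinearMap.ker (d (i + 1)))
    (p : Ideal A) [p.IsPrime] (hp : p.height ≤ k) :
    Module.Free (Localization.AtPrime p) (LocalizedModule p.primeCompl (N 0)) := by
  classical
  let R := Localization.AtPrime p
  haveI := Groth.Agent.CAlgH3.isRegularLocalRing_localization (R := A) p
  let D : ∀ i, LocalizedModule p.primeCompl (N i) →ₗ[R] LocalizedModule p.primeCompl (N (i + 1)) :=
    fun i => LocalizedModule.map p.primeCompl (d i)
  have hDinj : Function.Injective (D 0) := LocalizedModule.map_injective _ _ hinj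
  have hDex : ∀ i, i + 1 < k → Function.Exact (D i) (D (i + 1)) := fun i hi =>
    LocalizedModule.map_exact _ _ _ (LinearMap.exact_iff.2 (hex i hi).symm)
  have hfree' : ∀ i, 1 ≤ i → i ≤ k → Module.Projective R (LocalizedModule p.primeCompl (N i)) := by
    intro i h1 h2
    haveI := (hfree i h1 h2).1
    haveI : Module.Free R (LocalizedModule p.primeCompl (N i)) :=
      Module.free_of_isLocalizedModule (R := A) p.primeCompl (LocalizedModule.mkLinearMap p.primeCompl (N i))
    infer_instance
  have hs : (IsLocalRing.maximalIdeal R).spanFinrank ≤ k := by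
    have hdim : (((IsLocalRing.maximalIdeal R).spanFinrank : ℕ) : WithBot ℕ∞) = ringKrullDim R :=
      IsRegularLocalRing.spanFinrank_maximalIdeal
    rw [IsLocalization.AtPrime.ringKrullDim_eq_height p] at hdim
    have h2 : (((IsLocalRing.maximalIdeal R).spanFinrank : ℕ) : ℕ∞) ≤ k := by
      rw [show (((IsLocalRing.maximalIdeal R).spanFinrank : ℕ) : ℕ∞) = p.height from WithBot.coe_injective hdim]
      exact hp
    exact_mod_cast h2
  haveI : Module.Finite R (LocalizedModule p.primeCompl (N 0)) :=
    Module.Finite.of_isLocalizedModule p.primeCompl (LocalizedModule.mkLinearMap p.primeCompl (N 0))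
  have hall : ∀ (P : Type u) [AddCommGroup P] [Module R P], Groth.Agent.CAlgH3.PD R (k + 1) P := fun P _ _ =>
    Groth.Agent.CAlgH3.pd_mono (by omega) (Groth.Agent.CAlgH3.pd_all (R := R) P)
  have hproj : Module.Projective R (LocalizedModule p.primeCompl (N 0)) := by
    rcases Nat.eq_zero_or_pos k with rfl | hk
    · exact Groth.Agent.CAlgH3.pd_one_iff.1 (hall _)
    -- the images `range (D i)` have projective dimension `< i + 1`
    have key : ∀ j i, i + j + 1 = k → Groth.Agent.CAlgH3.PD R (i + 1) (LinearMap.range (D i)) := by
      intro j
      induction j with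
      | zero =>
        intro i hi
        haveI := hfree' (i + 1) (by omega) (by omega)
        obtain rfl : k = i + 1 := by omega
        refine (Groth.Agent.CAlgH3.pd_of_ses (LinearMap.range (D i)).subtype (LinearMap.range (D i)).mkQ
          Subtype.val_injective (Submodule.mkQ_surjective _) (LinearMap.exact_subtype_mkQ _)).2.1 ?_ (hall _)
        exact Groth.Agent.CAlgH3.pd_mono hk (Groth.Agent.CAlgH3.pd_one_iff.2 inferInstance)
      | succ j ih =>
        intro i hi
        haveI := hfree' (i + 1) (by omega) (by omega)
        have h1 := ih (i + 1) (by omega)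
        have h2 := (Groth.Agent.CAlgH3.pd_ker_iff (f := (D (i + 1)).rangeRestrict) (D (i + 1)).surjective_rangeRestrict i).1 h1
        rw [LinearMap.ker_rangeRestrict, LinearMap.exact_iff.1 (hDex i (by omega))] at h2
        exact h2
    exact Groth.Agent.CAlgH3.pd_one_iff.1
      ((Groth.Agent.CAlgH3.pd_congr (LinearEquiv.ofInjective (D 0) hDinj)).2 (key (k - 1) 0 (by omega)))
  exact Module.free_of_flat_of_isLocalRing

end Groth.Agent.S12491
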