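import Groth.Statements.S12498
import Groth.Agent.DeformSqZero.SmallExt

set_option autoImplicit false
universe u
open Deform

namespace Groth.Agent.S12498

/-- Let k be an algebraically closed field, A a local Artinian k-algebra with residue field k, and t a
nonzero element of the maximal ideal m_A annihilated by m_A, so that A → A/tA is a small extension.
Let B be a flat A-algebra (a deformation over A of its closed fibre B_0 = B/m_A B), and σ an
A-algebra automorphism of B/tB inducing the identity on B_0. Fix an A-algebra automorphism τ of B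
inducing σ (so τ induces the identity on B_0). Then the A-algebra automorphisms η of B inducing σ
correspond bijectively to the k-derivations d of B_0 through the rule η = τ + t·d, meaning η(b) =
τ(b) + t b′ for all b ∈ B and all b′ ∈ B lifting d applied to the image of b in B_0: every such η
determines a unique d, and every d comes from some such η. (The published statement phrases the
conclusion as a free and transitive action of Der_k(B_0, B_0) on the nonempty set of lifts of σ; the
condition that σ induces the identity on B_0 is expressed here through the chosen lift τ.) -/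
theorem result
    {k : Type u} [Field k] [IsAlgClosed k]
    {A : Type u} [CommRing A] [Algebra k A] [IsLocalRing A] [IsArtinianRing A]
    (hres : ∀ a : A, ∃ c : k, a - algebraMap k A c ∈ IsLocalRing.maximalIdeal A)
    (t : A) (ht : t ∈ IsLocalRing.maximalIdeal A) (ht0 : t ≠ 0)
    (htm : ∀ a ∈ IsLocalRing.maximalIdeal A, a * t = 0)
    {B : Type u} [CommRing B] [Algebra A B] [Module.Flat A B] [Algebra k B] [IsScalarTower k A B]
    (σ : (B ⧸ Ideal.span {algebraMap A B t}) ≃ₐ[A] (B ⧸ Ideal.span {algebraMap A B t}))
    (τ : B ≃ₐ[A] B)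
    (hτ : ∀ b : B, Ideal.Quotient.mk (Ideal.span {algebraMap A B t}) (τ b) =
      σ (Ideal.Quotient.mk (Ideal.span {algebraMap A B t}) b))
    (hτ0 : ∀ b : B, τ b - b ∈ (IsLocalRing.maximalIdeal A).map (algebraMap A B)) :
    (∀ η : B ≃ₐ[A] B, (∀ b : B, Ideal.Quotient.mk (Ideal.span {algebraMap A B t}) (η b) =
        σ (Ideal.Quotient.mk (Ideal.span {algebraMap A B t}) b)) →
      ∃! d : Derivation k (B ⧸ (IsLocalRing.maximalIdeal A).map (algebraMap A B))
          (B ⧸ (IsLocalRing.maximalIdeal A).map (algebraMap A B)),
        ∀ b b' : B, Ideal.Quotient.mk ((IsLocalRing.maximalIdeal A).map (algebraMap A B)) b' =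
            d (Ideal.Quotient.mk ((IsLocalRing.maximalIdeal A).map (algebraMap A B)) b) →
          η b = τ b + algebraMap A B t * b') ∧
    (∀ d : Derivation k (B ⧸ (IsLocalRing.maximalIdeal A).map (algebraMap A B))
        (B ⧸ (IsLocalRing.maximalIdeal A).map (algebraMap A B)),
      ∃ η : B ≃ₐ[A] B, (∀ b : B, Ideal.Quotient.mk (Ideal.span {algebraMap A B t}) (η b) =
          σ (Ideal.Quotient.mk (Ideal.span {algebraMap A B t}) b)) ∧
        ∀ b b' : B, Ideal.Quotient.mk ((IsLocalRing.maximalIdeal A).map (algebraMap A B)) b' =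
            d (Ideal.Quotient.mk ((IsLocalRing.maximalIdeal A).map (algebraMap A B)) b) →
          η b = τ b + algebraMap A B t * b') := by
  classical
  let m := IsLocalRing.maximalIdeal A
  let I := m.map (algebraMap A B)
  let t' := algebraMap A B t
  have ht2 : t' * t' = 0 := by rw [← map_mul, htm t ht, map_zero]
  have hann : ∀ {x : B}, t' * x = 0 ↔ x ∈ I := DeformSqZero.mul_eq_zero_iff t ht0 htm _
  have hmk : ∀ {x y : B}, t' * x = t' * y ↔ Ideal.Quotient.mk I x = Ideal.Quotient.mk I y := by
    intro x y
    rw [Ideal.Quotient.mk_eq_mk_iff_sub_mem, ← hann, mul_sub, sub_eq_zero]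
  have hτmk : ∀ b, Ideal.Quotient.mk I (τ b) = Ideal.Quotient.mk I b := fun b =>
    (Ideal.Quotient.mk_eq_mk_iff_sub_mem _ _).2 (hτ0 b)
  constructor
  · intro η hη
    have hex : ∀ b, ∃ c, η b = τ b + t' * c := fun b => by
      obtain ⟨c, hc⟩ := Ideal.mem_span_singleton.1
        ((Ideal.Quotient.mk_eq_mk_iff_sub_mem _ _).1 ((hη b).trans (hτ b).symm))
      exact ⟨c, by rw [← hc]; ring⟩
    choose c hc using hex
    have huniq : ∀ b y, η b = τ b + t' * y → Ideal.Quotient.mk I (c b) = Ideal.Quotient.mk I y :=
      fun b y hy => hmk.1 (add_left_cancel ((hc b).symm.trans hy))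
    let D : B → B ⧸ I := fun b => Ideal.Quotient.mk I (c b)
    have hDadd : ∀ a b, D (a + b) = D a + D b := fun a b =>
      (huniq _ (c a + c b) (by rw [map_add, map_add, hc, hc]; ring)).trans (map_add _ _ _)
    have hDmul : ∀ a b, D (a * b) = Ideal.Quotient.mk I a * D b + Ideal.Quotient.mk I b * D a := by
      intro a b
      refine (huniq _ (τ a * c b + τ b * c a) ?_).trans ?_
      · rw [map_mul, map_mul, hc, hc]
        linear_combination (c a * c b) * ht2
      · rw [map_add, map_mul, map_mul, hτmk, hτmk]
    have hDA : ∀ a, D (algebraMap A B a) = 0 := fun a =>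
      (huniq _ 0 (by rw [AlgEquiv.commutes, AlgEquiv.commutes, mul_zero, add_zero])).trans (map_zero _)
    have hD0 : ∀ x ∈ I, D x = 0 := by
      intro x hx
      induction hx using Submodule.span_induction with
      | mem x hx =>
        obtain ⟨a, -, rfl⟩ := hx
        exact hDA a
      | zero => simpa using hDA 0
      | add a b _ _ ha hb => rw [hDadd, ha, hb, add_zero]
      | smul r y hy hy0 =>
        have hy' : Ideal.Quotient.mk I y = 0 := Ideal.Quotient.eq_zero_iff_mem.2 hy
        rw [smul_eq_mul, hDmul, hy0, mul_zero, zero_add, hy', zero_mul]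
    have hDcongr : ∀ a b, Ideal.Quotient.mk I a = Ideal.Quotient.mk I b → D a = D b := fun a b hab => by
      conv_lhs => rw [← add_sub_cancel b a, hDadd, hD0 _ ((Ideal.Quotient.mk_eq_mk_iff_sub_mem _ _).1 hab),
        add_zero]
    let s : B ⧸ I → B := Function.surjInv Ideal.Quotient.mk_surjective
    have hs : ∀ x, Ideal.Quotient.mk I (s x) = x := Function.surjInv_eq _
    let L : (B ⧸ I) →ₗ[k] (B ⧸ I) :=
      { toFun := fun x => D (s x)
        map_add' := fun x y => by
          rw [← hDadd]
          exact hDcongr _ _ (by rw [map_add, hs, hs, hs])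
        map_smul' := fun r x => by
          have h1 : D (s (r • x)) = D (algebraMap A B (algebraMap k A r) * s x) :=
            hDcongr _ _ (by rw [hs, map_mul, hs, ← IsScalarTower.algebraMap_apply, Algebra.smul_def]; rfl)
          rw [h1, hDmul, hDA, mul_zero, add_zero, RingHom.id_apply, Algebra.smul_def,
            ← IsScalarTower.algebraMap_apply]
          rfl }
    let d : Derivation k (B ⧸ I) (B ⧸ I) := Derivation.mk' L fun x y => by
      show D (s (x * y)) = x * D (s y) + y * D (s x)
      rw [hDcongr (s (x * y)) (s x * s y) (by rw [map_mul, hs, hs, hs]), hDmul, hs, hs]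
    have hd : ∀ b, d (Ideal.Quotient.mk I b) = D b := fun b => hDcongr _ _ (hs _)
    refine ⟨d, fun b b' hb' => ?_, fun d' hd' => Derivation.ext fun x => ?_⟩
    · rw [hc b, hmk.2 ((hb'.trans (hd b)).symm)]
    · obtain ⟨b, rfl⟩ := Ideal.Quotient.mk_surjective x
      rw [hd]
      obtain ⟨b', hb'⟩ := Ideal.Quotient.mk_surjective (d' (Ideal.Quotient.mk I b))
      rw [← hb']
      exact (huniq b b' (hd' b b' hb')).symm
  · intro d
    let s : B ⧸ I → B := Function.surjInv Ideal.Quotient.mk_surjective
    have hs : ∀ x, Ideal.Quotient.mk I (s x) = x := Function.surjInv_eq _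
    have hL : ∀ x y, Ideal.Quotient.mk I y = x → t' * s x = t' * y := fun x y h => hmk.2 (by rw [hs, h])
    have hdA : ∀ a, d (Ideal.Quotient.mk I (algebraMap A B a)) = 0 := by
      intro a
      obtain ⟨r, hr⟩ := hres a
      have : Ideal.Quotient.mk I (algebraMap A B a) = algebraMap k (B ⧸ I) r := by
        show _ = Ideal.Quotient.mk I (algebraMap k B r)
        rw [Ideal.Quotient.mk_eq_mk_iff_sub_mem, IsScalarTower.algebraMap_apply k A B, ← map_sub]
        exact Ideal.mem_map_of_mem _ hr
      rw [this, Derivation.map_algebraMap]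
    have h0 : t' * s 0 = 0 := (hL 0 0 (map_zero _)).trans (mul_zero _)
    let f : B →ₐ[A] B :=
      { toFun := fun b => τ b + t' * s (d (Ideal.Quotient.mk I b))
        map_one' := by rw [map_one τ, map_one, Derivation.map_one_eq_zero, h0, add_zero]
        map_mul' := fun a b => by
          rw [hL (d (Ideal.Quotient.mk I (a * b)))
            (τ a * s (d (Ideal.Quotient.mk I b)) + τ b * s (d (Ideal.Quotient.mk I a))) (by
              rw [map_add, map_mul, map_mul, hs, hs, hτmk, hτmk, map_mul, Derivation.leibniz,
                smul_eq_mul, smul_eq_mul]), map_mul τ]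
          linear_combination -(s (d (Ideal.Quotient.mk I a)) * s (d (Ideal.Quotient.mk I b))) * ht2
        map_zero' := by rw [map_zero τ, map_zero, map_zero, h0, add_zero]
        map_add' := fun a b => by
          rw [hL (d (Ideal.Quotient.mk I (a + b)))
            (s (d (Ideal.Quotient.mk I a)) + s (d (Ideal.Quotient.mk I b))) (by
              rw [map_add, hs, hs, map_add, map_add]), map_add τ]
          ring
        commutes' := fun a => by
          rw [hdA, h0, add_zero, τ.commutes] }
    have hbij : Function.Bijective (f.comp (τ.symm : B →ₐ[A] B)) :=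
      DeformSqZero.bijective_of_sub_mem_span t (htm t ht) _ fun b => by
        refine Ideal.mem_span_singleton.2 ⟨s (d (Ideal.Quotient.mk I (τ.symm b))), ?_⟩
        show τ (τ.symm b) + t' * s (d (Ideal.Quotient.mk I (τ.symm b))) - b = _
        rw [τ.apply_symm_apply, add_sub_cancel_left]
    refine ⟨AlgEquiv.ofBijective f ((Function.Bijective.of_comp_iff _ τ.symm.bijective).1 hbij),
      fun b => ?_, fun b b' hb' => ?_⟩
    · rw [← hτ b, Ideal.Quotient.mk_eq_mk_iff_sub_mem]
      refine Ideal.mem_span_singleton.2 ⟨s (d (Ideal.Quotient.mk I b)), ?_⟩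
      show τ b + t' * s (d (Ideal.Quotient.mk I b)) - τ b = _
      rw [add_sub_cancel_left]
    · show τ b + t' * s (d (Ideal.Quotient.mk I b)) = _
      rw [hL _ b' hb']

end Groth.Agent.S12498
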