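import Groth.Statements.S1250
import Groth.Agent.FlatMorDevissage.FlatTransfer
import Groth.Agent.S1231

set_option autoImplicit false
universe u
open FlatMor

namespace Groth.Agent.S1250

/-- Given an elementary dévissage E of N at q over p in dimension n, the following are equivalent: N_q
is flat over R; G_z is flat over R'; G_y (G viewed as a D-module) is flat over R'. Also equivalent
to each other: N becomes flat over R on some basic open D(g) ∋ q of Spec S; G becomes flat over R'
on some basic open of Spec C containing z; G as a D-module becomes flat over R' on some basic open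
of Spec D containing y. -/
theorem result {R S : Type u} [CommRing R] [CommRing S] [Algebra R S] [Algebra.FiniteType R S]
    (N : Type u) [AddCommGroup N] [Module S N] [Module R N] [IsScalarTower R S N] [Module.Finite S N]
    (p : Ideal R) [p.IsPrime] (q : Ideal S) [q.IsPrime] [q.LiesOver p] (n : ℕ) (E : FlatCA.ElemDevissage R S N p q n) :
    [FlatCA.FlatAt R q N, FlatCA.FlatAt E.R' E.z E.G, FlatCA.FlatAt E.R' E.y E.G].TFAE ∧
    [∃ g : S, g ∉ q ∧ Module.Flat R (LocalizedModule (Submonoid.powers g) N),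
     ∃ g : E.C, g ∉ E.z ∧ Module.Flat E.R' (LocalizedModule (Submonoid.powers g) E.G),
     ∃ g : E.D, g ∉ E.y ∧ Module.Flat E.R' (LocalizedModule (Submonoid.powers g) E.G)].TFAE := by
  let _ : Module R E.N' := Module.compHom E.N' (algebraMap R E.S')
  have : IsScalarTower R E.S' E.N' := .of_algebraMap_smul fun _ _ => rfl
  let _ : Module E.R' E.N' := Module.compHom E.N' (algebraMap E.R' E.S')
  have : IsScalarTower E.R' E.S' E.N' := .of_algebraMap_smul fun _ _ => rfl
  have : IsScalarTower R E.R' E.N' := .of_algebraMap_smul fun r x => by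
    show algebraMap E.R' E.S' (algebraMap R E.R' r) • x = algebraMap R E.S' r • x
    rw [← IsScalarTower.algebraMap_apply]
  have : IsScalarTower E.R' E.S' E.G := .of_algebraMap_smul fun r x => by
    rw [← algebraMap_smul E.C (algebraMap E.R' E.S' r), ← IsScalarTower.algebraMap_apply,
      algebraMap_smul]
  have : Algebra.Etale R E.R' := E.etaleR.1
  have : Algebra.Etale S E.S' := E.etaleS.1
  have : Module.Finite E.D E.C := E.finiteDC
  have : Algebra.IsIntegral E.D E.C := Algebra.IsIntegral.of_finite E.D E.C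
  have hq : E.q'.comap (algebraMap S E.S') = q := E.etaleS.2.1.over.symm
  have main : ∀ (Q' : Ideal E.S') [Q'.IsPrime],
      FlatCA.FlatAt E.R' Q' E.G ↔ FlatCA.FlatAt R (Q'.comap (algebraMap S E.S')) N := by
    intro Q' _
    rw [← Groth.Agent.FlatMorDevissage.flatAt_baseChange_iff E.isBaseChange Q',
      (Groth.Agent.S1231.result (R := R) (T := E.R') (C := E.S') E.N' Q').1]
    exact Groth.Agent.FlatMorDevissage.flatAt_congr E.iso.symm
  have hz := Groth.Agent.FlatMorDevissage.flatAt_iff (R := E.R') (G := E.G)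
    (Groth.Agent.FlatMorDevissage.dividesBase_of_surjective E.surjC E.q' E.z)
  have hdiv := Groth.Agent.FlatMorDevissage.dividesBase_of_finite E.y E.z fun Q' _ h => E.uniq Q' h
  have hy := Groth.Agent.FlatMorDevissage.flatAt_iff (R := E.R') (G := E.G) hdiv
  refine ⟨?_, ?_⟩
  · tfae_have 1 ↔ 2 := by
      rw [hz, main E.q']
      simp only [hq]
    tfae_have 2 ↔ 3 := hy
    tfae_finish
  tfae_have 1 → 2 := by
    rintro ⟨g, hg, h⟩
    refine ⟨algebraMap E.S' E.C (algebraMap S E.S' g), fun hmem => hg ?_, ?_⟩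
    · rw [← hq]
      exact (Ideal.mem_of_liesOver E.z E.q' (algebraMap S E.S' g)).2 hmem
    · rw [← Submonoid.map_powers, ← Groth.Agent.FlatMorDevissage.flat_localized_algebraMap_iff,
        Groth.Agent.FlatMorDevissage.flat_away_iff]
      intro Q' _ hQ'
      exact (main Q').2 ((Groth.Agent.FlatMorDevissage.flat_away_iff g).1 h _ hQ')
  tfae_have 2 → 1 := by
    rintro ⟨gC, hgC, h⟩
    obtain ⟨g', rfl⟩ := E.surjC gC
    rw [← Submonoid.map_powers, ← Groth.Agent.FlatMorDevissage.flat_localized_algebraMap_iff,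
      Groth.Agent.FlatMorDevissage.flat_away_iff] at h
    have hopen := PrimeSpectrum.isOpenMap_comap_of_hasGoingDown_of_finitePresentation
      (R := S) (S := E.S') _ (PrimeSpectrum.isOpen_basicOpen (a := g'))
    have hqmem : (⟨q, inferInstance⟩ : PrimeSpectrum S) ∈
        PrimeSpectrum.comap (algebraMap S E.S') '' (PrimeSpectrum.basicOpen g' : Set _) :=
      ⟨⟨E.q', inferInstance⟩, fun hm => hgC ((Ideal.mem_of_liesOver E.z E.q' g').1 hm),
        PrimeSpectrum.ext hq⟩
    obtain ⟨_, ⟨g, rfl⟩, hgq, hsub⟩ :=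
      PrimeSpectrum.isTopologicalBasis_basic_opens.exists_subset_of_mem_open hqmem hopen
    refine ⟨g, hgq, (Groth.Agent.FlatMorDevissage.flat_away_iff g).2 fun Q hQ hgQ => ?_⟩
    obtain ⟨Q', hg', hQQ'⟩ := hsub (show (⟨Q, hQ⟩ : PrimeSpectrum S) ∈ PrimeSpectrum.basicOpen g
      from hgQ)
    have := (main Q'.asIdeal).1 (h Q'.asIdeal hg')
    have e : Q'.asIdeal.comap (algebraMap S E.S') = Q := congrArg PrimeSpectrum.asIdeal hQQ'
    subst e
    exact this
  tfae_have 2 → 3 := by
    rintro ⟨g, hg, h⟩
    obtain ⟨c, d, hd, hcd⟩ := hdiv g hg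
    refine ⟨d, hd, ?_⟩
    rw [Groth.Agent.FlatMorDevissage.flat_localized_algebraMap_iff (S := E.C), Submonoid.map_powers,
      Groth.Agent.FlatMorDevissage.flat_away_iff]
    intro P _ hP
    exact (Groth.Agent.FlatMorDevissage.flat_away_iff g).1 h P fun hgP =>
      hP (hcd ▸ P.mul_mem_right c hgP)
  tfae_have 3 → 2 := by
    rintro ⟨d, hd, h⟩
    rw [Groth.Agent.FlatMorDevissage.flat_localized_algebraMap_iff (S := E.C), Submonoid.map_powers] at h
    exact ⟨_, fun hm => hd ((Ideal.mem_of_liesOver E.z E.y d).2 hm), h⟩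
  tfae_finish

end Groth.Agent.S1250
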