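import Groth.Statements.S12500
import Groth.Agent.GaGmQuot.ClassifyScheme
import Groth.Agent.S1627
import Groth.Agent.Coherent.ProjSpaceFinite
-- import your own Groth.Agent.* helpers here

set_option autoImplicit false
set_option linter.style.haveILetI false
set_option backward.isDefEq.respectTransparency.types false
universe u
open CategoryTheory AlgebraicGeometry
open Neron

namespace Groth.Agent.S12500

open CategoryTheory CategoryTheory.Limits MonObj AlgebraicGeometry in
open Groth.Agent in
/-- Let k be an algebraically closed field and G a k-group scheme whose underlying scheme is integral,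
separated and of finite type over k and has dimension one. Then either G is isomorphic to G_a as a
k-group scheme, or G is isomorphic to G_m as a k-group scheme, or G is proper over k and its group
law is commutative. (The published third alternative says G is an elliptic curve, i.e. a smooth
proper curve of genus one whose group-variety law is the elliptic-curve addition with origin the
identity; this row records properness and the commutativity that the printed proof establishes.) -/
theorem result (k : Type u) [Field k] [IsAlgClosed k]
    (G : Over (Spec (CommRingCat.of k))) [GrpObj G] [IsIntegral G.left]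
    [IsSeparated G.hom] [LocallyOfFiniteType G.hom] [QuasiCompact G.hom]
    (hdim : topologicalKrullDim ↥G.left = 1) :
    Nonempty (Grp.mk G ≅ Grp.mk (Red.Ga (Spec (CommRingCat.of k)))) ∨
      Nonempty (Grp.mk G ≅ Grp.mk (Red.Gm (Spec (CommRingCat.of k)))) ∨
      (IsProper G.hom ∧ IsCommMonObj G) := by
  by_cases hA : IsAffine G.left
  · haveI := hA
    rcases GaGmQuot.classify G hdim with h | h
    · exact Or.inl h
    · exact Or.inr (Or.inl h)
  · letI : G.left.Over (Spec (CommRingCat.of k)) := ⟨G.hom⟩
    haveI : IsSeparated (G.left ↘ Spec (CommRingCat.of k)) := ‹IsSeparated G.hom›
    haveI : LocallyOfFiniteType (G.left ↘ Spec (CommRingCat.of k)) := ‹LocallyOfFiniteType G.hom›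
    haveI : QuasiCompact (G.left ↘ Spec (CommRingCat.of k)) := ‹QuasiCompact G.hom›
    rcases Groth.Agent.S1627.result k G.left hdim with h | ⟨d, c, hc, hcs⟩
    · exact (hA h).elim
    · haveI := Coherent.isProper_projSpace_toSpec d k
      haveI : IsProper G.hom := by
        change c ≫ _ = G.hom at hcs
        rw [← hcs]; infer_instance
      haveI : GeometricallyIntegral G.hom := AbVarLib.geometricallyIntegral_of_isAlgClosed G.hom
      exact Or.inr (Or.inr ⟨inferInstance, AlgebraicGeometry.isCommMonObj_of_isProper_of_geometricallyIntegral G⟩)

end Groth.Agent.S12500
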