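import Groth.Statements.S12504
import Groth.Agent.DCat.GPDerived
import Groth.Agent.DCat.DerivedPrecompRight
import Groth.Agent.DCat.RHomExist
-- import your own Groth.Agent.* helpers here

set_option autoImplicit false
universe v u
open CategoryTheory CategoryTheory.Limits
attribute [local instance] HasDerivedCategory.standard
open CohDer

namespace Groth.Agent.S12504

/-- Let A and B be abelian categories with B a Grothendieck category, F : A → B an exact additive
functor with right adjoint G, and RG : D(B) → D(A) a right derived functor of G on the unbounded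
derived categories, i.e. a functor equipped with a natural transformation α from the composite 'G
termwise on cochain complexes, then localisation' to 'localisation, then RG' that makes (RG, α) a
right derived functor with respect to quasi-isomorphisms. Then the functor D(A) → D(B) induced by F
is left adjoint to RG (existence of an adjunction; the existence of RG itself is assumed, as a
binder). -/
theorem result
    {A : Type u} [Category.{v} A] [Abelian A] {B : Type u} [Category.{v} B] [Abelian B]
    [IsGrothendieckAbelian.{v} B]
    (F : A ⥤ B) (G : B ⥤ A) (adj : F ⊣ G) [F.Additive] [G.Additive]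
    [PreservesFiniteLimits F] [PreservesFiniteColimits F]
    (RG : DerivedCategory B ⥤ DerivedCategory A)
    (α : G.mapHomologicalComplex (ComplexShape.up ℤ) ⋙ DerivedCategory.Q ⟶ DerivedCategory.Q ⋙ RG)
    [RG.IsRightDerivedFunctor α (HomologicalComplex.quasiIso B (ComplexShape.up ℤ))] :
    Nonempty (F.mapDerivedCategory ⊣ RG) := by
  
    haveI : (G.mapHomotopyCategory (ComplexShape.up ℤ) ⋙ DerivedCategory.Qh).HasRightDerivedFunctor
        (HomotopyCategory.quasiIso B (ComplexShape.up ℤ)) :=
      Groth.Agent.DCat.hasRightDerived (Groth.Agent.DCat.kInj_resolution Groth.Agent.DCat.enoughKInj_of_isGrothendieckAbelian)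
        (Groth.Agent.DCat.kInj_isIso_map _)
    obtain ⟨⟨a⟩, -⟩ := Groth.Agent.DCat.derived_localization Groth.Agent.DCat.enoughKInj_of_isGrothendieckAbelian adj
    let Gh := G.mapHomotopyCategory (ComplexShape.up ℤ) ⋙ DerivedCategory.Qh
    let RGh := Gh.totalRightDerived DerivedCategory.Qh (HomotopyCategory.quasiIso B (ComplexShape.up ℤ))
    let eF : HomotopyCategory.quotient B (ComplexShape.up ℤ) ⋙ Gh ≅
        G.mapHomologicalComplex (ComplexShape.up ℤ) ⋙ DerivedCategory.Q :=
      (CategoryTheory.Functor.associator _ _ _).symm ≪≫
        CategoryTheory.Functor.isoWhiskerRight (G.mapHomotopyCategoryFactors (ComplexShape.up ℤ)) _ ≪≫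
        CategoryTheory.Functor.associator _ _ _ ≪≫
        CategoryTheory.Functor.isoWhiskerLeft _ (DerivedCategory.quotientCompQhIso A)
    haveI := Groth.Agent.DCat.isRightDerived_precomp (HomotopyCategory.quotient B (ComplexShape.up ℤ))
      (DerivedCategory.quotientCompQhIso B) eF (HomologicalComplex.quasiIso B (ComplexShape.up ℤ))
      (W := HomotopyCategory.quasiIso B (ComplexShape.up ℤ))
      (Gh.totalRightDerivedUnit DerivedCategory.Qh (HomotopyCategory.quasiIso B (ComplexShape.up ℤ)))
    exact ⟨a.ofNatIsoRight (CategoryTheory.Functor.rightDerivedUnique RGh RG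
      (eF.inv ≫ CategoryTheory.Functor.whiskerLeft _ (Gh.totalRightDerivedUnit DerivedCategory.Qh _) ≫
        (CategoryTheory.Functor.associator _ _ _).inv ≫
        CategoryTheory.Functor.whiskerRight (DerivedCategory.quotientCompQhIso B).hom RGh)
      α (HomologicalComplex.quasiIso B (ComplexShape.up ℤ)))⟩

end Groth.Agent.S12504

#print axioms Groth.Agent.S12504.result
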