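import Groth.Statements.S1251
import Groth.Agent.FlatMorDevissage.FPTransfer
import Mathlib.RingTheory.Etale.Basic
import Mathlib.RingTheory.Spectrum.Prime.Chevalley

set_option autoImplicit false
universe u
open FlatMor

namespace Groth.Agent.S1251

/-- Given an elementary dévissage E of N at q over p in dimension n, with S of finite presentation over
R: the finite map D → C is of finite presentation; the following are equivalent: N_q is a finitely
presented S_q-module; G_z is a finitely presented C_z-module; G_y is a finitely presented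
D_y-module. Also equivalent to each other: N is finitely presented on some basic open of Spec S
containing q; G is finitely presented on some basic open of Spec C containing z; G as a D-module is
finitely presented on some basic open of Spec D containing y. -/
theorem result {R S : Type u} [CommRing R] [CommRing S] [Algebra R S] [Algebra.FinitePresentation R S]
    (N : Type u) [AddCommGroup N] [Module S N] [Module R N] [IsScalarTower R S N] [Module.Finite S N]
    (p : Ideal R) [p.IsPrime] (q : Ideal S) [q.IsPrime] [q.LiesOver p] (n : ℕ) (E : FlatCA.ElemDevissage R S N p q n) :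
    Algebra.FinitePresentation E.D E.C ∧
    [Module.FinitePresentation (Localization.AtPrime q) (LocalizedModule q.primeCompl N),
     Module.FinitePresentation (Localization.AtPrime E.z) (LocalizedModule E.z.primeCompl E.G),
     Module.FinitePresentation (Localization.AtPrime E.y) (LocalizedModule E.y.primeCompl E.G)].TFAE ∧
    [∃ g : S, g ∉ q ∧ Module.FinitePresentation (Localization.Away g) (LocalizedModule (Submonoid.powers g) N),
     ∃ g : E.C, g ∉ E.z ∧ Module.FinitePresentation (Localization.Away g) (LocalizedModule (Submonoid.powers g) E.G),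
     ∃ g : E.D, g ∉ E.y ∧ Module.FinitePresentation (Localization.Away g) (LocalizedModule (Submonoid.powers g) E.G)].TFAE := by
  classical
  have : Algebra.Etale R E.R' := E.etaleR.1
  have : Algebra.Etale S E.S' := E.etaleS.1
  have : Module.Finite E.D E.C := E.finiteDC
  have : Algebra.IsIntegral E.D E.C := Algebra.IsIntegral.of_finite E.D E.C
  have : Module.Finite E.C E.G := E.finiteG
  have : Algebra.FinitePresentation E.S' E.C := E.fpC
  have : Algebra.FinitePresentation R E.S' := Algebra.FinitePresentation.trans R S E.S'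
  have : Algebra.FinitePresentation E.R' E.S' :=
    Algebra.FinitePresentation.of_restrict_scalars_finitePresentation R E.R' E.S'
  have : Algebra.FinitePresentation E.R' E.C := Algebra.FinitePresentation.trans E.R' E.S' E.C
  have hDsm : Algebra.FiniteType E.R' E.D := by
    have := E.smooth
    have hS : AlgebraicGeometry.Smooth (AlgebraicGeometry.Spec.map
      (CommRingCat.ofHom (algebraMap E.R' E.D))) := AlgebraicGeometry.SmoothOfRelativeDimension.smooth n _
    have := (AlgebraicGeometry.HasRingHomProperty.Spec_iff (P := @AlgebraicGeometry.Smooth)).1 hS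
    have : Algebra.Smooth E.R' E.D := RingHom.smooth_algebraMap.1 this
    infer_instance
  have hDC : Algebra.FinitePresentation E.D E.C :=
    Algebra.FinitePresentation.of_restrict_scalars_finitePresentation E.R' E.D E.C
  have : Module.FinitePresentation E.D E.C :=
    Module.FinitePresentation.of_finite_of_finitePresentation E.D E.C
  have : Module.Finite E.S' E.C := Module.Finite.of_surjective (Algebra.linearMap E.S' E.C) E.surjC
  have : Module.FinitePresentation E.S' E.C :=
    Module.FinitePresentation.of_finite_of_finitePresentation E.S' E.C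
  have hq : E.q'.comap (algebraMap S E.S') = q := E.etaleS.2.1.over.symm
  let f' : N →ₗ[S] E.N' := E.f
  have hiso : ∀ (T : Submonoid E.S'), Module.FinitePresentation (Localization T) (LocalizedModule T E.N') ↔
      Module.FinitePresentation (Localization T) (LocalizedModule T E.G) := by
    intro T
    have : Module.Finite E.S' E.G := Module.Finite.trans E.C E.G
    have : Module.Finite E.S' E.N' := Module.Finite.equiv E.iso.symm
    obtain ⟨m, π, hπ⟩ := Module.Finite.exists_fin' E.S' E.N'
    rw [Groth.Agent.FlatMorDevissage.fp_localized_iff π hπ,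
      Groth.Agent.FlatMorDevissage.fp_localized_iff (E.iso.toLinearMap ∘ₗ π) (E.iso.surjective.comp hπ),
      Groth.Agent.FlatMorDevissage.kerFG_comp_equiv]
  have hdiv := Groth.Agent.FlatMorDevissage.dividesBase_of_finite E.y E.z fun Q' _ h => E.uniq Q' h
  have hdivs := Groth.Agent.FlatMorDevissage.dividesBase_of_surjective E.surjC E.q' E.z
  have hyz : Module.FinitePresentation (Localization E.y.primeCompl) (LocalizedModule E.y.primeCompl E.G) ↔
      Module.FinitePresentation (Localization E.z.primeCompl) (LocalizedModule E.z.primeCompl E.G) := by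
    rw [Groth.Agent.FlatMorDevissage.fp_localized_tower_iff (A := E.C) (N := E.G)]
    refine Groth.Agent.FlatMorDevissage.fp_localized_congr ?_ ?_
    · rintro _ ⟨d, hd, rfl⟩
      exact ⟨1, by rw [one_mul]; exact fun hm => hd ((Ideal.mem_of_liesOver E.z E.y d).2 hm)⟩
    · intro t ht
      obtain ⟨c', d, hd, hcd⟩ := hdiv t ht
      exact ⟨c', ⟨d, hd, by rw [← hcd, mul_comm]⟩⟩
  have hqz : Module.FinitePresentation (Localization E.q'.primeCompl) (LocalizedModule E.q'.primeCompl E.N') ↔
      Module.FinitePresentation (Localization E.z.primeCompl) (LocalizedModule E.z.primeCompl E.G) := by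
    rw [hiso, Groth.Agent.FlatMorDevissage.fp_localized_tower_iff (A := E.C) (N := E.G)]
    refine Groth.Agent.FlatMorDevissage.fp_localized_congr ?_ ?_
    · rintro _ ⟨d, hd, rfl⟩
      exact ⟨1, by rw [one_mul]; exact fun hm => hd ((Ideal.mem_of_liesOver E.z E.q' d).2 hm)⟩
    · intro t ht
      obtain ⟨c', d, hd, hcd⟩ := hdivs t ht
      exact ⟨c', ⟨d, hd, by rw [← hcd, mul_comm]⟩⟩
  refine ⟨hDC, ?_, ?_⟩
  · tfae_have 1 → 2 := fun h => hqz.1
      (Groth.Agent.FlatMorDevissage.fp_localized_baseChange (T := q.primeCompl)
        (T' := E.q'.primeCompl) E.isBaseChange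
        (fun t ht hm => ht (hq ▸ hm)) h)
    tfae_have 2 → 1 := fun h => by
      refine Groth.Agent.FlatMorDevissage.fp_localized_of_baseChange E.isBaseChange (fun P _ hd => ?_) (hqz.2 h)
      have hPq : P ≤ q := fun a ha => by
        by_contra haq
        exact Set.disjoint_left.1 hd haq ha
      have : E.q'.LiesOver q := ⟨hq.symm⟩
      obtain ⟨P', hP'le, hP', hP'over⟩ := Ideal.exists_ideal_le_liesOver_of_le (p := P) (q := q) E.q' hPq
      exact ⟨P', hP', Set.disjoint_left.2 fun a ha ha' => ha (hP'le ha'), hP'over.over.symm⟩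
    tfae_have 2 ↔ 3 := hyz.symm
    tfae_finish
  tfae_have 1 → 2 := by
    rintro ⟨g, hg, h⟩
    refine ⟨algebraMap E.S' E.C (algebraMap S E.S' g),
      fun hm => hg (hq ▸ (Ideal.mem_of_liesOver E.z E.q' (algebraMap S E.S' g)).2 hm), ?_⟩
    have h1 : Module.FinitePresentation (Localization (Submonoid.powers (algebraMap S E.S' g)))
        (LocalizedModule (Submonoid.powers (algebraMap S E.S' g)) E.N') :=
      Groth.Agent.FlatMorDevissage.fp_localized_baseChange E.isBaseChange
        (fun t ht => by obtain ⟨e, rfl⟩ := ht; exact ⟨e, (map_pow _ _ _).symm⟩) h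
    rw [hiso, Groth.Agent.FlatMorDevissage.fp_localized_tower_iff (A := E.C) (N := E.G),
      Submonoid.map_powers] at h1
    exact h1
  tfae_have 2 → 1 := by
    rintro ⟨gC, hgC, h⟩
    obtain ⟨g', rfl⟩ := E.surjC gC
    have h1 : Module.FinitePresentation (Localization (Submonoid.powers g'))
        (LocalizedModule (Submonoid.powers g') E.N') := by
      rw [hiso, Groth.Agent.FlatMorDevissage.fp_localized_tower_iff (A := E.C) (N := E.G),
        Submonoid.map_powers]
      exact h
    have hopen := PrimeSpectrum.isOpenMap_comap_of_hasGoingDown_of_finitePresentation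
      (R := S) (S := E.S') _ (PrimeSpectrum.isOpen_basicOpen (a := g'))
    have hqmem : (⟨q, inferInstance⟩ : PrimeSpectrum S) ∈
        PrimeSpectrum.comap (algebraMap S E.S') '' (PrimeSpectrum.basicOpen g' : Set _) :=
      ⟨⟨E.q', inferInstance⟩, fun hm => hgC ((Ideal.mem_of_liesOver E.z E.q' g').1 hm),
        PrimeSpectrum.ext hq⟩
    obtain ⟨_, ⟨g, rfl⟩, hgq, hsub⟩ :=
      PrimeSpectrum.isTopologicalBasis_basic_opens.exists_subset_of_mem_open hqmem hopen
    refine ⟨g, hgq, Groth.Agent.FlatMorDevissage.fp_localized_of_baseChange E.isBaseChange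
      (fun P hP hd => ?_) h1⟩
    obtain ⟨Q', hg', hQQ'⟩ := hsub (show (⟨P, hP⟩ : PrimeSpectrum S) ∈ PrimeSpectrum.basicOpen g
      from Set.disjoint_left.1 hd (Submonoid.mem_powers g))
    refine ⟨Q'.asIdeal, Q'.isPrime, Set.disjoint_left.2 ?_, congrArg PrimeSpectrum.asIdeal hQQ'⟩
    rintro _ ⟨e, rfl⟩ he
    exact hg' (Q'.isPrime.mem_of_pow_mem e he)
  tfae_have 2 → 3 := by
    rintro ⟨g, hg, h⟩
    obtain ⟨c, d, hd, hcd⟩ := hdiv g hg
    refine ⟨d, hd, ?_⟩
    rw [Groth.Agent.FlatMorDevissage.fp_localized_tower_iff (A := E.C) (N := E.G), Submonoid.map_powers]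
    obtain ⟨m, π, hπ⟩ := Module.Finite.exists_fin' E.C E.G
    rw [Groth.Agent.FlatMorDevissage.fp_localized_iff π hπ] at h ⊢
    refine Groth.Agent.FlatMorDevissage.kerFG_of_dvd h ?_
    rintro _ ⟨e, rfl⟩
    exact ⟨c ^ e, ⟨e, by simp only; rw [← hcd, mul_pow, mul_comm]⟩⟩
  tfae_have 3 → 2 := by
    rintro ⟨d, hd, h⟩
    rw [Groth.Agent.FlatMorDevissage.fp_localized_tower_iff (A := E.C) (N := E.G), Submonoid.map_powers] at h
    exact ⟨_, fun hm => hd ((Ideal.mem_of_liesOver E.z E.y d).2 hm), h⟩
  tfae_finish

end Groth.Agent.S1251
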