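import Groth.Statements.S12513
import Groth.Agent.MeroLib.Noeth

set_option autoImplicit false
universe u
open Mero

namespace Groth.Agent.S12513

open Groth.Agent.MeroLib

open AlgebraicGeometry in
/-- For a scheme X and an affine open U of X, the sections of O_X over U with nonzerodivisor germ at
every point of U are exactly the nonzerodivisors of the ring O_X(U). No Noetherian hypothesis is
needed. -/
theorem result (X : Scheme.{u}) (U : X.Opens)
    (hU : IsAffineOpen U) : Mero.regSub X U = nonZeroDivisors Γ(X, U) := by
  exact regSub_eq_of_isAffineOpen hU

end Groth.Agent.S12513
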