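import Groth.Statements.S12515
import Groth.Agent.FF.Quadratic

set_option autoImplicit false
open FunFld

namespace Groth.Agent.S12515

open WithZero Groth.Agent.FF


/-- If `char k ≠ 2` and `K` has degree `2` over the rational function field `k(x)`, then `K = k(x)(y)`
for some `y` with `y² = f(x)`, `f` a squarefree polynomial over `k`. -/
theorem result (k K : Type*) [Field k] [Field K] (h2 : ringChar k ≠ 2)
    [Algebra (RatFunc k) K] (hdeg : Module.finrank (RatFunc k) K = 2) :
    ∃ (y : K) (f : Polynomial k), Squarefree f ∧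
      y ^ 2 = algebraMap (RatFunc k) K (algebraMap (Polynomial k) (RatFunc k) f) ∧
      IntermediateField.adjoin (RatFunc k) ({y} : Set K) = ⊤ := by
  classical
  have : FiniteDimensional (RatFunc k) K := Module.finite_of_finrank_pos (by omega)
  have h20 : (2 : RatFunc k) ≠ 0 := by
    rw [← map_ofNat (algebraMap k (RatFunc k)) 2]
    exact (map_ne_zero _).mpr fun h => h2 (CharP.ringChar_of_prime_eq_zero Nat.prime_two (by exact_mod_cast h))
  obtain ⟨z, hz⟩ : ∃ z : K, z ∉ Set.range (algebraMap (RatFunc k) K) := by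
    by_contra hc; push Not at hc
    have h1 : Module.finrank (RatFunc k) K ≤ 1 :=
      finrank_le_one 1 fun w => by obtain ⟨c, hc⟩ := hc w; exact ⟨c, by rw [Algebra.smul_def, mul_one, hc]⟩
    omega
  have hint := IsIntegral.of_finite (RatFunc k) z
  have hdz : (minpoly (RatFunc k) z).natDegree = 2 := by
    have h1 := minpoly.natDegree_le (A := RatFunc k) z
    have h3 := minpoly.natDegree_pos hint
    have h4 : (minpoly (RatFunc k) z).natDegree ≠ 1 := fun h => hz (minpoly.natDegree_eq_one_iff.mp h)
    omega
  set g := minpoly (RatFunc k) z with hg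
  have hev : z ^ 2 + algebraMap (RatFunc k) K (g.coeff 1) * z + algebraMap (RatFunc k) K (g.coeff 0) = 0 := by
    have h := minpoly.aeval (RatFunc k) z
    rw [Polynomial.aeval_eq_sum_range, ← hg, hdz] at h
    have hlead : g.coeff 2 = 1 := by have := (minpoly.monic hint).coeff_natDegree; rwa [← hg, hdz] at this
    rw [← h]
    simp only [Finset.sum_range_succ, Finset.sum_range_zero, Algebra.smul_def, hlead, map_one]
    ring
  set w := z + algebraMap (RatFunc k) K (g.coeff 1 / 2)
  set r := (g.coeff 1 / 2) ^ 2 - g.coeff 0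
  have h20K : (2 : K) ≠ 0 := by rw [← map_ofNat (algebraMap (RatFunc k) K) 2]; exact (map_ne_zero _).mpr h20
  have hw : w ^ 2 = algebraMap (RatFunc k) K r := by
    simp only [w, r, map_sub, map_pow, map_div₀, map_ofNat]
    field_simp
    linear_combination 4 * hev
  have hwne : w ∉ Set.range (algebraMap (RatFunc k) K) := fun ⟨c, hc⟩ =>
    hz ⟨c - g.coeff 1 / 2, by rw [map_sub, hc]; simp [w]⟩
  have hr0 : r ≠ 0 := fun h => hwne ⟨0, by
    rw [h, map_zero, sq_eq_zero_iff] at hw
    rw [map_zero, hw]⟩
  have hn0 : r.num * r.denom ≠ 0 := mul_ne_zero (RatFunc.num_ne_zero hr0) r.denom_ne_zero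
  obtain ⟨s, q, hq, hsq⟩ : ∃ s q : Polynomial k, Squarefree q ∧ r.num * r.denom = s ^ 2 * q := by
    generalize r.num * r.denom = n at hn0 ⊢
    induction hdn : n.natDegree using Nat.strong_induction_on generalizing n with
    | _ d ih =>
      by_cases hsf : Squarefree n
      · exact ⟨1, n, hsf, by ring⟩
      · rw [Squarefree] at hsf
        push Not at hsf
        obtain ⟨a, ⟨c, hc⟩, ha⟩ := hsf
        have hc0 : c ≠ 0 := fun e => hn0 (by rw [hc, e, mul_zero])
        have ha0 : a ≠ 0 := fun e => hn0 (by rw [hc, e]; ring)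
        have hadeg : 0 < a.natDegree := by
          by_contra h
          exact ha (Polynomial.isUnit_iff_degree_eq_zero.mpr (by
            rw [Polynomial.degree_eq_natDegree ha0, show a.natDegree = 0 by omega]; rfl))
        have hlt : c.natDegree < d := by
          rw [← hdn, hc, Polynomial.natDegree_mul (mul_ne_zero ha0 ha0) hc0, Polynomial.natDegree_mul ha0 ha0]
          omega
        obtain ⟨s, q, hq, h⟩ := ih _ hlt c hc0 rfl
        exact ⟨a * s, q, hq, by rw [hc, h]; ring⟩
  have hs0 : s ≠ 0 := fun e => hn0 (by rw [hsq, e]; ring)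
  set c := algebraMap (Polynomial k) (RatFunc k) r.denom / algebraMap (Polynomial k) (RatFunc k) s
  have hc0 : c ≠ 0 := div_ne_zero (ι_ne_zero r.denom_ne_zero) (ι_ne_zero hs0)
  refine ⟨w * algebraMap (RatFunc k) K c, q, hq, ?_, ?_⟩
  · rw [mul_pow, hw, ← map_pow, ← map_mul]
    congr 1
    have h1 := congrArg (algebraMap (Polynomial k) (RatFunc k)) hsq
    rw [map_mul, map_mul, map_pow] at h1
    conv_lhs => rw [← RatFunc.num_div_denom r]
    have := ι_ne_zero (k := k) r.denom_ne_zero
    have := ι_ne_zero (k := k) hs0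
    simp only [c]
    field_simp
    linear_combination h1
  · have hm : w * algebraMap (RatFunc k) K c ∉ Set.range (algebraMap (RatFunc k) K) := fun ⟨u, hu⟩ =>
      hwne ⟨u / c, by rw [map_div₀, hu, mul_div_assoc, div_self ((map_ne_zero _).mpr hc0), mul_one]⟩
    rcases (IntermediateField.isSimpleOrder_of_finrank_prime (RatFunc k) K (hdeg ▸ Nat.prime_two)).eq_bot_or_eq_top
      (IntermediateField.adjoin (RatFunc k) ({w * algebraMap (RatFunc k) K c} : Set K)) with h | h
    · exact absurd (IntermediateField.mem_bot.mp (IntermediateField.adjoin_simple_eq_bot_iff.mp h)) hm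
    · exact h

end Groth.Agent.S12515
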