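import Groth.Statements.S12516
import Groth.Agent.FF.Quadratic

set_option autoImplicit false
open FunFld

namespace Groth.Agent.S12516

open WithZero Groth.Agent.FF


/-- Let `char k ≠ 2`, `K` of degree `2` over `k(x)`, `y ∈ K` with `y² = f(x)` for a squarefree
polynomial `f` of degree `≥ 1`, and `P∞` the place of `k(x)` at which `x` has a pole. If `deg f` is
odd there is a unique place of `K` above `P∞`; it has ramification index `2` and degree `1`. If `deg
f` is even, every place of `K` above `P∞` is unramified and the conorm of `P∞` has degree `2` (so it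
is one place of degree `2` or the sum of two places of degree `1`). -/
theorem result (k K : Type*) [Field k] [Field K] (h2 : ringChar k ≠ 2) [Algebra k K]
    [Algebra (RatFunc k) K] [IsScalarTower k (RatFunc k) K]
    (hdeg : Module.finrank (RatFunc k) K = 2) (y : K) (f : Polynomial k) (hf : Squarefree f)
    (hd : 1 ≤ f.natDegree)
    (heq : y ^ 2 = algebraMap (RatFunc k) K (algebraMap (Polynomial k) (RatFunc k) f))
    (Pinf : FunFld.Place k (RatFunc k)) (hinf : Pinf.ord (RatFunc.X : RatFunc k) < 0) :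
    (Odd f.natDegree → (∃! P : FunFld.Place k K, FunFld.IsOver P Pinf) ∧
      ∀ P : FunFld.Place k K, FunFld.IsOver P Pinf → FunFld.IsOverWith P Pinf 2 ∧ P.deg = 1) ∧
    (Even f.natDegree → (FunFld.conorm K (Finsupp.single Pinf 1)).deg = 2 ∧
      ∀ P : FunFld.Place k K, FunFld.IsOver P Pinf → FunFld.IsOverWith P Pinf 1) := by
  have : FiniteDimensional (RatFunc k) K := Module.finite_of_finrank_pos (by omega)
  have hX0 : (RatFunc.X : RatFunc k) ≠ 0 := RatFunc.X_ne_zero
  obtain ⟨hdeg1, hordg⟩ := infinite_place Pinf fun h => by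
    have := (val_le_one_iff Pinf hX0).mp h; omega
  have hordf := hordg f hf.ne_zero
  constructor
  · intro hodd
    have h := ramified_of_odd (K' := K) isFF'_ratFunc hdeg (P := Pinf) fun Q e he => by
      have h1 := ow_ord_eq he (algebraMap (Polynomial k) (RatFunc k) f)
      rw [← heq, ord_pow', hordf] at h1
      obtain ⟨m, hm⟩ := hodd
      rw [hm] at h1
      push_cast at h1
      have h3 : (e : ℤ) * -(2 * (m : ℤ) + 1) = -(2 * ((e : ℤ) * m)) - e := by ring
      rw [h3] at h1
      exact Nat.even_iff.mpr (by omega)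
    exact ⟨h.1, fun P hP => ⟨(h.2 P hP).1, (h.2 P hP).2.trans hdeg1⟩⟩
  intro heven
  obtain ⟨m, hm⟩ := heven
  refine ⟨by rw [deg_conorm isFF'_ratFunc, hdeg, deg_single, hdeg1]; norm_num, fun P hP => ?_⟩
  set z := y / algebraMap (RatFunc k) K (RatFunc.X ^ m) with hz
  set g := algebraMap (Polynomial k) (RatFunc k) f / RatFunc.X ^ (2 * m) with hg
  have hzsq : z ^ 2 = algebraMap (RatFunc k) K g := by
    rw [hz, hg, div_pow, heq, map_div₀, ← map_pow, ← pow_mul, mul_comm m 2]
  have hvg : Pinf.1 g = 1 := by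
    rw [hg, map_div₀, map_pow, val_eq_exp_neg_ord Pinf (ι_ne_zero hf.ne_zero), val_eq_exp_neg_ord Pinf hX0, hordf,
      show Pinf.ord (RatFunc.X : RatFunc k) = -1 by rw [← RatFunc.algebraMap_X, hordg _ Polynomial.X_ne_zero]; simp,
      ← exp_nsmul, ← exp_sub, ← exp_zero]
    congr 1
    simp [hm]
    ring
  have hzne : z ∉ Set.range (algebraMap (RatFunc k) K) := by
    rintro ⟨r, hr⟩
    refine not_square hf hd (r * RatFunc.X ^ m) ((algebraMap (RatFunc k) K).injective ?_)
    rw [← heq, mul_pow, map_mul, map_pow, hr, hz, div_pow, ← map_pow (algebraMap (RatFunc k) K),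
      div_mul_cancel₀]
    exact (map_ne_zero _).mpr (pow_ne_zero _ (pow_ne_zero _ hX0))
  refine unramified_of_approx isFF'_ratFunc hdeg hzne (fun he N => ?_) hP
  have hvz : P.1 z = 1 := by
    have h1 : P.1 z ^ 2 = 1 := by rw [← map_pow, hzsq, he, hvg, one_pow]
    exact (pow_eq_one_iff_of_nonneg zero_le two_ne_zero).mp h1
  obtain ⟨a, -, ha⟩ := exists_residue_approx isFF'_ratFunc hdeg he hvz.le
  have hva : P.1 (algebraMap (RatFunc k) K a) = 1 := by
    have h1 := Valuation.map_sub_eq_of_lt_left P.1 (x := z) (y := z - algebraMap (RatFunc k) K a) (by rw [hvz]; exact ha)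
    rwa [sub_sub_cancel, hvz] at h1
  have hva' : Pinf.1 a = 1 := by
    rw [he] at hva
    exact (pow_eq_one_iff_of_nonneg zero_le two_ne_zero).mp hva
  have hu : Pinf.1 (2 * a) = 1 := by
    rw [map_mul, hva', mul_one, ← map_ofNat (algebraMap k (RatFunc k)) 2]
    refine val_algebraMap Pinf fun h => h2 ?_
    exact CharP.ringChar_of_prime_eq_zero Nat.prime_two (by exact_mod_cast h)
  obtain ⟨b, hb⟩ := exists_approx_root ⟨2, he⟩ (u := 2 * a) (g := g - a ^ 2) ha hu
    (by rw [map_sub, map_mul, map_ofNat, map_pow, ← hzsq]; ring) N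
  exact ⟨a + b, by rwa [map_add, sub_add_eq_sub_sub]⟩

end Groth.Agent.S12516
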