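import Groth.Statements.S12517
import Groth.Agent.FF.Quadratic

set_option autoImplicit false
open FunFld

namespace Groth.Agent.S12517

open WithZero Groth.Agent.FF


/-- If `k` is perfect of characteristic `2` and `K` is a separable extension of degree `2` of the
rational function field `k(x)`, then `K = k(x)(y)` for some `y` with `y² + y = f(x)`, `f ∈ k(x)`.
The correspondence between such extensions and cosets of `{a² + a}` in `k(x)` is not stated. -/
theorem result (k K : Type*) [Field k] [Field K] [PerfectField k]
    (h2 : ringChar k = 2) [Algebra (RatFunc k) K] (hdeg : Module.finrank (RatFunc k) K = 2)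
    [Algebra.IsSeparable (RatFunc k) K] :
    ∃ (y : K) (f : RatFunc k), y ^ 2 + y = algebraMap (RatFunc k) K f ∧
      IntermediateField.adjoin (RatFunc k) ({y} : Set K) = ⊤ := by
  have : FiniteDimensional (RatFunc k) K := Module.finite_of_finrank_pos (by omega)
  obtain ⟨z, hz⟩ := Field.exists_primitive_element (RatFunc k) K
  have hint := IsIntegral.of_finite (RatFunc k) z
  have hdz : (minpoly (RatFunc k) z).natDegree = 2 := by
    rw [← IntermediateField.adjoin.finrank hint, hz, IntermediateField.finrank_top', hdeg]
  set g := minpoly (RatFunc k) z with hg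
  have hm := minpoly.monic hint
  have h20 : (2 : RatFunc k) = 0 := by
    have := ringChar.Nat.cast_ringChar (R := k)
    rw [h2] at this
    rw [← map_ofNat (algebraMap k (RatFunc k)) 2, show (2 : k) = 0 by exact_mod_cast this, map_zero]
  have h20K : (2 : K) = 0 := by rw [← map_ofNat (algebraMap (RatFunc k) K) 2, h20, map_zero]
  have hev : z ^ 2 + algebraMap (RatFunc k) K (g.coeff 1) * z + algebraMap (RatFunc k) K (g.coeff 0) = 0 := by
    have h := minpoly.aeval (RatFunc k) z
    rw [Polynomial.aeval_eq_sum_range, ← hg, hdz] at h
    have hlead : g.coeff 2 = 1 := by have := hm.coeff_natDegree; rwa [← hg, hdz] at this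
    rw [← h]
    simp only [Finset.sum_range_succ, Finset.sum_range_zero, Algebra.smul_def, hlead, map_one]
    ring
  have h1 : g.coeff 1 ≠ 0 := by
    intro h0
    have hsep : g.Separable := Algebra.IsSeparable.isSeparable (RatFunc k) z
    have hder : Polynomial.derivative g = 0 := by
      ext n
      rw [Polynomial.coeff_derivative, Polynomial.coeff_zero]
      match n with
      | 0 => rw [h0, zero_mul]
      | 1 => exact mul_eq_zero_of_right _ (by norm_num; exact h20)
      | n + 2 => rw [Polynomial.coeff_eq_zero_of_natDegree_lt (by omega), zero_mul]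
    have := isCoprime_zero_right.mp (hder ▸ hsep : IsCoprime g 0)
    have := Polynomial.natDegree_eq_zero_of_isUnit this
    omega
  have h1' : algebraMap (RatFunc k) K (g.coeff 1) ≠ 0 := (map_ne_zero _).mpr h1
  refine ⟨z / algebraMap (RatFunc k) K (g.coeff 1), g.coeff 0 / g.coeff 1 ^ 2, ?_, ?_⟩
  · rw [map_div₀, map_pow]
    field_simp
    linear_combination hev - (algebraMap (RatFunc k) K (g.coeff 0)) * h20K
  · refine eq_top_iff.mpr (hz ▸ IntermediateField.adjoin_simple_le_iff.mpr ?_)
    have h := mul_mem (IntermediateField.mem_adjoin_simple_self (RatFunc k) (z / algebraMap (RatFunc k) K (g.coeff 1)))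
      ((IntermediateField.adjoin (RatFunc k) ({z / algebraMap (RatFunc k) K (g.coeff 1)} : Set K)).algebraMap_mem (g.coeff 1))
    rwa [div_mul_cancel₀ _ h1'] at h

end Groth.Agent.S12517
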