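import Groth.Statements.S12518
import Groth.Agent.FF.Quadratic
import Groth.Agent.S12517

set_option autoImplicit false
open FunFld

namespace Groth.Agent.S12518

open WithZero Groth.Agent.FF


/-- If `k` is perfect of characteristic `2` and `K` is a separable extension of degree `2` of `k(x)`,
then `K = k(x)(y)` for some `y` with `y² + y = f(x)` such that every pole of `f`, at any place of
`k(x)/k` including the infinite one, has odd order. -/
theorem result (k K : Type*) [Field k] [Field K] [PerfectField k] (h2 : ringChar k = 2)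
    [Algebra k K] [Algebra (RatFunc k) K] [IsScalarTower k (RatFunc k) K]
    (hdeg : Module.finrank (RatFunc k) K = 2) [Algebra.IsSeparable (RatFunc k) K] :
    ∃ (y : K) (f : RatFunc k), y ^ 2 + y = algebraMap (RatFunc k) K f ∧
      IntermediateField.adjoin (RatFunc k) ({y} : Set K) = ⊤ ∧
      ∀ P : FunFld.Place k (RatFunc k), P.ord f < 0 → Odd (P.ord f) := by
  classical
  obtain ⟨y, f, hy, htop⟩ := Groth.Agent.S12517.result k K h2 hdeg
  have : FiniteDimensional (RatFunc k) K := Module.finite_of_finrank_pos (by omega)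
  have hF := isFunctionField_ratFunc (k := k)
  have h20 : (2 : k) = 0 := by
    have := ringChar.Nat.cast_ringChar (R := k)
    rw [h2] at this; exact_mod_cast this
  have : CharP k 2 := h2 ▸ ringChar.charP k
  have h20K : (2 : K) = 0 := by
    rw [← map_ofNat (algebraMap (RatFunc k) K) 2, ← map_ofNat (algebraMap k (RatFunc k)) 2, h20, map_zero, map_zero]
  have hg0 : FunFld.genus k (RatFunc k) = 0 :=
    (genus_zero_of_adjoin_eq_top hF RatFunc.adjoin_X (transcendental_of_adjoin_eq_top hF RatFunc.adjoin_X)).choose_spec.2.2.2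
  have step : ∀ (P : FunFld.Place k (RatFunc k)) (f : RatFunc k), P.ord f < 0 → Even (P.ord f) →
      ∃ a : RatFunc k, poles (k := k) (f + a ^ 2 + a) ≤ poles (k := k) f ∧ poles (k := k) (f + a ^ 2 + a) ≠ poles (k := k) f := by
    intro P f hneg heven
    have hf0 : f ≠ 0 := fun e => by rw [e, ord_zero] at hneg; omega
    obtain ⟨m', hm'⟩ := heven
    obtain ⟨m, hm⟩ : ∃ m : ℕ, -m' = (m : ℤ) + 1 := ⟨(-m' - 1).toNat, by omega⟩
    obtain ⟨t, ht0, ht⟩ := exists_uniformizer P
    have hfd := finiteDimensional_residue hF P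
    have : Algebra.IsAlgebraic k (IsLocalRing.ResidueField P.O) := ⟨fun x => (@IsIntegral.of_finite _ _ _ _ _ hfd x).isAlgebraic⟩
    have := Algebra.IsAlgebraic.perfectField (K := k) (L := IsLocalRing.ResidueField P.O)
    have := charP_of_injective_algebraMap (algebraMap k (IsLocalRing.ResidueField P.O)).injective 2
    set D := Finsupp.single P ((m : ℤ) + 1) with hD
    set E := Finsupp.single P (m : ℤ) with hE
    have hmem : ∀ a ∈ FunFld.L D, P.1 (a * t ^ (m + 1)) ≤ 1 := fun a ha => by
      have := ha P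
      rw [hD, Finsupp.single_eq_same] at this
      rw [map_mul, map_pow, ht, ← exp_nsmul]
      refine (mul_le_mul_left this _).trans_eq ?_
      rw [← exp_add, ← exp_zero]; congr 1; simp
    let ψ : FunFld.L D →ₗ[k] IsLocalRing.ResidueField P.O :=
      { toFun := fun a => IsLocalRing.residue P.O ⟨(a : RatFunc k) * t ^ (m + 1), (mem_O P).mpr (hmem _ a.2)⟩
        map_add' := fun a b => by
          rw [← map_add]; congr 1; exact Subtype.ext (add_mul _ _ _)
        map_smul' := fun c a => by
          refine Eq.trans ?_ (smul_residue P c ⟨(a : RatFunc k) * t ^ (m + 1), (mem_O P).mpr (hmem _ a.2)⟩).symm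
          congr 1; exact Subtype.ext (smul_mul_assoc c _ _) }
    have hker : (LinearMap.ker ψ).map (FunFld.L D).subtype = FunFld.L E := by
      ext a
      constructor
      · rintro ⟨⟨a, ha⟩, hz, rfl⟩ R
        have h1 := (residue_eq_zero_iff P).mp hz
        rcases eq_or_ne R P with rfl | hR
        · rcases eq_or_ne a 0 with rfl | ha0
          · simp
          · rw [hE, Finsupp.single_eq_same]
            change R.1 (a * t ^ (m + 1)) < 1 at h1
            have h2' := (val_lt_one_iff R (mul_ne_zero ha0 (pow_ne_zero _ ht0))).mp h1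
            rw [ord_mul R ha0 (pow_ne_zero _ ht0), ord_pow', ord_eq_of_val R ht] at h2'
            refine (val_le_exp_iff R ha0).mpr ?_
            push_cast at h2'
            omega
        · have := ha R
          rwa [hD, Finsupp.single_eq_of_ne hR, ← Finsupp.single_eq_of_ne (b := (m : ℤ)) hR, ← hE] at this
      · intro ha
        refine ⟨⟨a, L_mono (Finsupp.single_mono (by omega)) ha⟩, ?_, rfl⟩
        refine (residue_eq_zero_iff P).mpr ?_
        have := ha P
        rw [hE, Finsupp.single_eq_same] at this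
        show P.1 (a * t ^ (m + 1)) < 1
        rw [map_mul, map_pow, ht, ← exp_nsmul]
        refine lt_of_le_of_lt (mul_le_mul_left this _) ?_
        rw [← exp_add, ← exp_zero, exp_lt_exp]; simp
    have hdegP := deg_pos hF P
    have hsurj : Function.Surjective ψ := by
      have := finiteDimensional_L hF D
      have hrn := LinearMap.finrank_range_add_finrank_ker ψ
      have hk : Module.finrank k (LinearMap.ker ψ) = FunFld.ell E := by
        rw [FunFld.ell, ← hker, Submodule.finrank_map_subtype_eq]
      have hlD := ell_eq_of_deg_large hF (D := D) (by rw [hg0, hD, deg_single]; push_cast; nlinarith)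
      have hlE := ell_eq_of_deg_large hF (D := E) (by rw [hg0, hE, deg_single]; push_cast; nlinarith)
      rw [hg0, hD, deg_single, ← hD] at hlD
      rw [hg0, hE, deg_single, ← hE] at hlE
      have hrange : Module.finrank k (LinearMap.range ψ) = P.deg := by
        rw [hk] at hrn
        change _ = FunFld.ell D at hrn
        have hexp : ((m : ℤ) + 1) * P.deg = (m : ℤ) * P.deg + P.deg := by ring
        omega
      exact LinearMap.range_eq_top.mp (Submodule.eq_top_of_finrank_eq hrange)
    have hft : P.1 (f * t ^ (2 * (m + 1))) ≤ 1 := by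
      rw [map_mul, map_pow, ht, val_eq_exp_neg_ord P hf0, ← exp_nsmul, ← exp_add, ← exp_zero, exp_le_exp]
      push_cast [nsmul_eq_mul]; omega
    obtain ⟨σ, hσ⟩ := (frobeniusEquiv (IsLocalRing.ResidueField P.O) 2).surjective
      (IsLocalRing.residue P.O ⟨f * t ^ (2 * (m + 1)), (mem_O P).mpr hft⟩)
    obtain ⟨⟨a, ha⟩, haσ⟩ := hsurj σ
    refine ⟨a, ?_⟩
    have hchar2 : (2 : RatFunc k) = 0 := by rw [← map_ofNat (algebraMap k (RatFunc k)) 2, h20, map_zero]
    have haP := ha P
    rw [hD, Finsupp.single_eq_same] at haP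
    have hsmallP : P.1 ((f + a ^ 2 + a) * t ^ (2 * (m + 1))) < 1 := by
      have h1 : P.1 ((f + a ^ 2) * t ^ (2 * (m + 1))) < 1 := by
        have hmem' : P.1 ((a * t ^ (m + 1)) ^ 2) ≤ 1 := by rw [map_pow]; exact pow_le_one' (hmem a ha) 2
        have hres : IsLocalRing.residue P.O (⟨f * t ^ (2 * (m + 1)), (mem_O P).mpr hft⟩ + ⟨(a * t ^ (m + 1)) ^ 2, (mem_O P).mpr hmem'⟩) = 0 := by
          rw [map_add, ← hσ, frobeniusEquiv_apply, frobenius_def,
            show (⟨(a * t ^ (m + 1)) ^ 2, (mem_O P).mpr hmem'⟩ : P.O) = ⟨a * t ^ (m + 1), (mem_O P).mpr (hmem a ha)⟩ ^ 2 from Subtype.ext rfl,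
            map_pow, show IsLocalRing.residue P.O ⟨a * t ^ (m + 1), (mem_O P).mpr (hmem a ha)⟩ = σ from haσ]
          exact CharTwo.add_self_eq_zero _
        have := (residue_eq_zero_iff P).mp hres
        change P.1 (f * t ^ (2 * (m + 1)) + (a * t ^ (m + 1)) ^ 2) < 1 at this
        rwa [show (f + a ^ 2) * t ^ (2 * (m + 1)) = f * t ^ (2 * (m + 1)) + (a * t ^ (m + 1)) ^ 2 by ring]
      rw [add_mul]
      refine P.1.map_add_lt h1 ?_
      rw [map_mul, map_pow, ht, ← exp_nsmul]
      refine lt_of_le_of_lt (mul_le_mul_left haP _) ?_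
      rw [← exp_add, ← exp_zero, exp_lt_exp]
      push_cast [nsmul_eq_mul]; omega
    have hle : ∀ R, R ≠ P → R.1 a ≤ 1 := fun R hR => by
      have := ha R
      rwa [hD, Finsupp.single_eq_of_ne hR, exp_zero] at this
    have hPlt : poles (k := k) (f + a ^ 2 + a) P < poles (k := k) f P := by
      rw [poles_apply hF, poles_apply hF]
      rcases eq_or_ne (f + a ^ 2 + a) 0 with h0 | h0
      · rw [h0, ord_zero]; omega
      have := (val_lt_one_iff P (mul_ne_zero h0 (pow_ne_zero _ ht0))).mp hsmallP
      rw [ord_mul P h0 (pow_ne_zero _ ht0), ord_pow', ord_eq_of_val P ht] at this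
      push_cast at this
      omega
    refine ⟨fun R => ?_, fun h => (ne_of_lt hPlt) (by rw [h])⟩
    rcases eq_or_ne R P with rfl | hR
    · exact hPlt.le
    · rw [poles_apply hF, poles_apply hF]
      rcases eq_or_ne (f + a ^ 2 + a) 0 with h0 | h0
      · rw [h0, ord_zero]; omega
      have hA : R.1 (a ^ 2 + a) ≤ 1 :=
        (R.1.map_add _ _).trans (max_le (by rw [map_pow]; exact pow_le_one' (hle R hR) 2) (hle R hR))
      rcases le_or_gt (R.1 f) 1 with hfR | hfR
      · have h1 : R.1 (f + a ^ 2 + a) ≤ 1 := by rw [add_assoc]; exact (R.1.map_add _ _).trans (max_le hfR hA)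
        have := (val_le_one_iff R h0).mp h1
        have := (val_le_one_iff R hf0).mp hfR
        omega
      · have h1 : R.1 (f + a ^ 2 + a) = R.1 f := by
          rw [add_assoc]; exact Valuation.map_add_eq_of_lt_left R.1 (lt_of_le_of_lt hA hfR)
        simp only [FunFld.Place.ord, h1]; omega
  have main : ∀ n : ℕ, ∀ (y : K) (f : RatFunc k), ((poles (k := k) f).deg).toNat = n → y ^ 2 + y = algebraMap (RatFunc k) K f →
      ∃ (y' : K) (f' : RatFunc k), y' ^ 2 + y' = algebraMap (RatFunc k) K f' ∧ (∃ a : RatFunc k, y' = y + algebraMap (RatFunc k) K a) ∧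
        ∀ P : FunFld.Place k (RatFunc k), P.ord f' < 0 → Odd (P.ord f') := by
    intro n
    induction n using Nat.strong_induction_on with
    | _ n ih =>
      intro y f hn hy
      by_cases hall : ∀ P : FunFld.Place k (RatFunc k), P.ord f < 0 → Odd (P.ord f)
      · exact ⟨y, f, hy, ⟨0, by simp⟩, hall⟩
      push Not at hall
      obtain ⟨P, hneg, hodd⟩ := hall
      obtain ⟨a, hle, hne⟩ := step P f hneg (Int.not_odd_iff_even.mp hodd)
      have hlt : (poles (k := k) (f + a ^ 2 + a)).deg < (poles (k := k) f).deg :=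
        lt_of_le_of_ne (deg_mono hle) fun h => hne (eq_of_le_of_deg_le hF hle h.ge)
      have h0 := deg_nonneg (poles_nonneg (k := k) (f + a ^ 2 + a))
      obtain ⟨y', f', h1, ⟨b, hb⟩, h3⟩ := ih ((poles (k := k) (f + a ^ 2 + a)).deg).toNat (by omega)
        (y + algebraMap (RatFunc k) K a) (f + a ^ 2 + a) rfl (by
          rw [map_add, map_add, map_pow, ← hy]
          linear_combination (y * algebraMap (RatFunc k) K a) * h20K)
      exact ⟨y', f', h1, ⟨a + b, by rw [hb, map_add, add_assoc]⟩, h3⟩
  obtain ⟨y', f', h1, ⟨a, ha⟩, h3⟩ := main _ y f rfl hy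
  refine ⟨y', f', h1, ?_, h3⟩
  refine eq_top_iff.mpr (htop ▸ IntermediateField.adjoin_simple_le_iff.mpr ?_)
  have h := sub_mem (IntermediateField.mem_adjoin_simple_self (RatFunc k) y')
    ((IntermediateField.adjoin (RatFunc k) ({y'} : Set K)).algebraMap_mem a)
  rwa [ha, add_sub_cancel_right, ← ha] at h

end Groth.Agent.S12518
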