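import Groth.Statements.S1252
import Groth.Agent.FlatMorDevissage.ExistsChain

set_option autoImplicit false
universe u
open FlatMor

set_option backward.isDefEq.respectTransparency false
attribute [local instance] Algebra.TensorProduct.rightAlgebra

namespace Groth.Agent.S1252

/-- Existence of a complete dévissage after étale localization, in affine algebraic form. Let S be a
finite type R-algebra, N a finite S-module, p a prime of R and q a prime of S over p such that the
point of the fibre ring S ⊗_R κ(p) given by q lies in the support of the fibre module N ⊗_R κ(p) (a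
condition the published statement leaves implicit). Then there are an étale R-algebra R' with a
prime p' over p and an étale S-algebra S' with a prime q' over q, both with trivial residue field
extensions, and a compatible R'-algebra structure on S' with q' lying over p', such that for the
base change N' of N to S' (any module N' with an S-linear map N → N' exhibiting it as the base
change), N'/S'/R' admits a complete dévissage at q' (FlatCA.HasCompleteDevissageAt). -/
theorem result {R S : Type u} [CommRing R] [CommRing S] [Algebra R S] [Algebra.FiniteType R S]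
    (N : Type u) [AddCommGroup N] [Module S N] [Module R N] [IsScalarTower R S N] [Module.Finite S N]
    (p : Ideal R) [p.IsPrime] (q : Ideal S) [q.IsPrime] [q.LiesOver p]
    (hsupp : ∃ x ∈ Module.support (p.Fiber S) (FlatCA.fiberMod p S N), x.asIdeal = FlatCA.fiberIdeal p q) :
    ∃ (R' S' : Type u) (_ : CommRing R') (_ : CommRing S') (_ : Algebra R R') (_ : Algebra S S') (_ : Algebra R' S')
      (_ : Algebra R S') (_ : IsScalarTower R R' S') (_ : IsScalarTower R S S')
      (p' : Ideal R') (q' : Ideal S') (_ : p'.IsPrime) (_ : q'.IsPrime),
      FlatCA.IsEtaleNhd R R' p p' ∧ FlatCA.IsEtaleNhd S S' q q' ∧ q'.LiesOver p' ∧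
      ∀ (N' : Type u) [AddCommGroup N'] [Module S' N'] [Module S N'] [IsScalarTower S S' N']
        (f : N →ₗ[S] N'), IsBaseChange S' f → FlatCA.HasCompleteDevissageAt R' S' N' p' q' := by
  obtain ⟨x, hx, hxq⟩ := hsupp
  obtain ⟨n, hd⟩ : ∃ n : ℕ, ∀ w : PrimeSpectrum S, EGA43.FibDepth.trd R w ≤ n := by
    obtain ⟨s, f, hf⟩ := Algebra.FiniteType.iff_quotient_mvPolynomial''.1 ‹Algebra.FiniteType R S›
    refine ⟨s, fun w => ?_⟩
    rw [← EGA43.FibDepth.trd_comap_of_surjectiveOnStalks f (RingHom.surjectiveOnStalks_of_surjective hf) w]
    exact EGA43.FibDepth.trd_mvPolynomial_le _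
  have hNq : Module.annihilator S N ≤ q := by
    have h := (FlatMorDevissage.mem_support_fiberMod_iff N p x).1 hx
    refine h.trans fun a ha => ?_
    obtain ⟨Q, hQ⟩ := EGA43.FibDepth.exists_prime_over (A := R) (p := p) (p.Fiber S)
      ⟨q, inferInstance⟩ (q.over_def p)
    have h1 : x.asIdeal ≤ Q.asIdeal := by
      rw [hxq]
      refine Ideal.map_le_iff_le_comap.2 fun b hb => ?_
      have : b ∈ (⟨q, inferInstance⟩ : PrimeSpectrum S).asIdeal := hb
      rw [← hQ] at this
      exact this
    have := Ideal.comap_mono (f := algebraMap S (p.Fiber S)) h1 ha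
    rw [← PrimeSpectrum.comap_asIdeal, hQ] at this
    exact this
  obtain ⟨R', S', _, _, _, _, _, _, _, _, p', q', _, _, hR, hS, ho, hch⟩ :=
    FlatMorDevissage.exists_hasChainNhd n N p q (fun w _ _ _ => hd w) hNq
  exact ⟨R', S', inferInstance, inferInstance, inferInstance, inferInstance, inferInstance,
    inferInstance, inferInstance, inferInstance, p', q', ‹_›, ‹_›, hR, hS, ho,
    fun N' _ _ _ _ f hf => (hch N' f hf).hasCompleteDevissageAt⟩

end Groth.Agent.S1252
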