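import Groth.Statements.S12520
import Groth.Agent.FF.GeometricSub

set_option autoImplicit false
universe u v
open FunFld

namespace Groth.Agent.S12520

/-- For a geometric function field of one variable `K/k` of characteristic `p > 0` and a geometric
function field `K₀/k₀` with `K₀ ⊆ K` of finite index (and `k₀ ⊆ k` compatibly), the map `Ω_{K₀/k₀} →
Ω_{K/k}` induced by the inclusion vanishes when `K₀ ⊆ kK^p` and is injective otherwise. -/
theorem result (k₀ k : Type u) (K₀ K : Type v) [Field k₀] [Field k] [Field K₀] [Field K]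
    [Algebra k₀ k] [Algebra k₀ K₀] [Algebra k₀ K] [Algebra k K] [Algebra K₀ K]
    [IsScalarTower k₀ k K] [IsScalarTower k₀ K₀ K] [FiniteDimensional K₀ K]
    (p : ℕ) [Fact p.Prime] [CharP K p]
    (hK : FunFld.IsFunctionField k K) (hg : FunFld.IsGeometric k K)
    (hK₀ : FunFld.IsFunctionField k₀ K₀) (hg₀ : FunFld.IsGeometric k₀ K₀) :
    (Set.range (algebraMap K₀ K) ⊆ ↑(IntermediateField.adjoin k (Set.range fun y : K => y ^ p)) →
      KaehlerDifferential.map k₀ k K₀ K = 0) ∧
    (¬ Set.range (algebraMap K₀ K) ⊆ ↑(IntermediateField.adjoin k (Set.range fun y : K => y ^ p)) →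
      Function.Injective (KaehlerDifferential.map k₀ k K₀ K)) := by
  classical
  constructor
  · intro hsub
    refine LinearMap.ext fun w => ?_
    have hw : w ∈ Submodule.span K₀ (Set.range (KaehlerDifferential.D k₀ K₀)) := by
      rw [KaehlerDifferential.span_range_derivation]; trivial
    induction hw using Submodule.span_induction with
    | mem y hy =>
      obtain ⟨z, rfl⟩ := hy
      rw [KaehlerDifferential.map_D, LinearMap.zero_apply]
      exact (Groth.Agent.FF.mem_powField_iff p hK hg _).mp (hsub ⟨z, rfl⟩)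
    | zero => simp
    | add a b _ _ ha hb => simp [ha, hb]
    | smul r a _ ha => simp [ha]
  · intro hsub
    obtain ⟨_, ⟨a, rfl⟩, ha⟩ := Set.not_subset.mp hsub
    have hne : KaehlerDifferential.map k₀ k K₀ K (KaehlerDifferential.D k₀ K₀ a) ≠ 0 := by
      rw [KaehlerDifferential.map_D]
      exact fun h => ha ((Groth.Agent.FF.mem_powField_iff p hK hg _).mpr h)
    have hD : KaehlerDifferential.D k₀ K₀ a ≠ 0 := fun h => hne (by rw [h, map_zero])
    refine (injective_iff_map_eq_zero _).mpr fun w hw => ?_
    obtain ⟨c, rfl⟩ := exists_smul_eq_of_finrank_eq_one (Groth.Agent.FF.finrank_kaehler hK₀ hg₀) hD w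
    rw [map_smul, ← IsScalarTower.algebraMap_smul K c, smul_eq_zero] at hw
    rw [(map_eq_zero_iff _ (algebraMap K₀ K).injective).mp (hw.resolve_right hne), zero_smul]

end Groth.Agent.S12520
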