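import Groth.Statements.S12526
import Groth.Agent.S10981
import Groth.Agent.S10971
import Groth.Agent.FF.Basic
import Mathlib.RingTheory.DedekindDomain.Dvr

-- import your own Groth.Agent.* helpers here

set_option autoImplicit false
universe u v
open FunFld

set_option backward.isDefEq.respectTransparency.types false
namespace Groth.Agent.S12526

open WithZero FunFld Groth.Agent.FF in
open scoped Classical in
theorem isPrincipalIdealRing_placeRing {k : Type*} {K : Type*} [Field k] [Field K] [Algebra k K] (Q : FunFld.Place k K) : IsPrincipalIdealRing Q.O := by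
  refine ⟨fun I => ?_⟩
  rcases eq_or_ne I ⊥ with rfl | hI
  · exact ⟨⟨0, by simp⟩⟩
  obtain ⟨a₀, ha₀, ha₀'⟩ := Submodule.exists_mem_ne_zero_of_ne_bot hI
  have hex : ∃ n : ℕ, ∃ a ∈ I, (a : K) ≠ 0 ∧ Q.ord (a : K) = n := by
    have h0 : (a₀ : K) ≠ 0 := fun h => ha₀' (Subtype.ext h)
    have := (val_le_one_iff Q h0).mp ((mem_O (P := Q)).mp a₀.2)
    exact ⟨(Q.ord (a₀ : K)).toNat, a₀, ha₀, h0, (Int.toNat_of_nonneg this).symm⟩
  obtain ⟨a, ha, ha0, hmin⟩ := Nat.find_spec hex
  refine ⟨⟨a, le_antisymm (fun b hb => ?_) (by rw [Submodule.span_singleton_le_iff_mem]; exact ha)⟩⟩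
  rcases eq_or_ne (b : K) 0 with hb0 | hb0
  · rw [show b = 0 from Subtype.ext hb0]; exact zero_mem _
  have hbn := (val_le_one_iff Q hb0).mp ((mem_O (P := Q)).mp b.2)
  have hle : Nat.find hex ≤ (Q.ord (b : K)).toNat :=
    Nat.find_min' hex ⟨b, hb, hb0, (Int.toNat_of_nonneg hbn).symm⟩
  have hv : Q.1 ((b : K) / a) ≤ 1 := by
    rw [map_div₀, div_le_one₀ (zero_lt_iff.mpr ((map_ne_zero Q.1).mpr ha0)), val_eq_exp_neg_ord Q hb0,
      val_eq_exp_neg_ord Q ha0, exp_le_exp, hmin]
    omega
  exact Submodule.mem_span_singleton.mpr ⟨⟨_, (mem_O (P := Q)).mpr hv⟩, Subtype.ext (div_mul_cancel₀ _ ha0)⟩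

theorem ne_zero_induction {R : Type*} [CommRing R] [IsDomain R] [IsPrincipalIdealRing R]
    {P : ∀ x : R, x ≠ 0 → Prop} (x : R) (hx : x ≠ 0) (unit : ∀ (u : R) (h : IsUnit u), P u h.ne_zero)
    (prime_mul : ∀ (p a : R) (hp : Prime p) (ha : a ≠ 0), P a ha → P (p * a) (mul_ne_zero hp.ne_zero ha)) :
    P x hx := by
  induction x using UniqueFactorizationMonoid.induction_on_prime with
  | h₁ => exact absurd rfl hx
  | h₂ u hu => exact unit u hu
  | h₃ a p ha hp ih => exact prime_mul p a hp ha (ih ha)

/-- Let `K/k` be a geometric function field of one variable, `P` a place of `K`, `k'/k` finite and `K' =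
k' ⊗_k K`; let `R` be the integral closure of `O_P` in `K'` and `R̃ = k' ⊗_k O_P = O_P[k']`. Then
`R/R̃` is finite-dimensional over `k`, and `R̃` contains a nonzero ideal of `R`. -/
theorem result (k k' : Type u) (K K' : Type v) [Field k] [Field k'] [Field K] [Field K']
    [Algebra k k'] [FiniteDimensional k k'] [Algebra k K] [Algebra K K'] [Algebra k' K'] [Algebra k K']
    [IsScalarTower k k' K'] [IsScalarTower k K K']
    (h : Function.Bijective (Algebra.TensorProduct.productMap
      (IsScalarTower.toAlgHom k k' K') (IsScalarTower.toAlgHom k K K')))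
    (hK : FunFld.IsFunctionField k K) (hg : FunFld.IsGeometric k K)
    (P : FunFld.Place k K) [Algebra P.O K'] [IsScalarTower P.O K K'] :
    (∃ V : Submodule k K', FiniteDimensional k V ∧ ∀ r ∈ integralClosure P.O K',
        ∃ s ∈ Algebra.adjoin P.O (Set.range (algebraMap k' K')), r - s ∈ V) ∧
    (∃ c ∈ integralClosure P.O K', c ≠ 0 ∧ ∀ r ∈ integralClosure P.O K',
        c * r ∈ Algebra.adjoin P.O (Set.range (algebraMap k' K'))) := by
  classical
  obtain ⟨hk'Kfin, hR⟩ : FiniteDimensional K K' ∧ True := by
    refine ⟨?_, trivial⟩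
    let b := Module.finBasis k k'
    refine ⟨⟨Finset.univ.image fun i => algebraMap k' K' (b i), ?_⟩⟩
    rw [eq_top_iff]
    rintro z -
    obtain ⟨t, rfl⟩ := h.2 z
    induction t with
    | zero => simp
    | add x y hx hy => rw [map_add]; exact add_mem hx hy
    | tmul a x =>
      rw [Algebra.TensorProduct.productMap_apply_tmul, ← b.sum_repr a, map_sum, Finset.sum_mul]
      refine Submodule.sum_mem _ fun i _ => ?_
      rw [map_smul]
      have : (b.repr a i) • algebraMap k' K' (b i) * algebraMap K K' x =
          (b.repr a i • x) • algebraMap k' K' (b i) := by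
        simp only [Algebra.smul_def, map_mul, ← IsScalarTower.algebraMap_apply]
        ring
      simp only [IsScalarTower.coe_toAlgHom'] at *
      rw [this]
      exact Submodule.smul_mem _ _ (Submodule.subset_span (by simp))
  haveI := hk'Kfin
  haveI : Module.Finite P.O (integralClosure P.O K') := Groth.Agent.S10981.result k K hK P K'
  haveI : FiniteDimensional k (IsLocalRing.ResidueField P.O) := Groth.Agent.S10971.result k K hK P
  haveI : IsScalarTower k P.O K := IsScalarTower.of_algebraMap_eq fun _ => rfl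
  haveI : IsScalarTower k P.O K' := IsScalarTower.of_algebraMap_eq fun c => by
    rw [IsScalarTower.algebraMap_apply P.O K K', IsScalarTower.algebraMap_apply k K K']
    rfl
  haveI : IsPrincipalIdealRing P.O := isPrincipalIdealRing_placeRing P
  let S := Algebra.adjoin P.O (Set.range (algebraMap k' K'))
  have hmem : ∀ z : K', ∃ d : P.O, d ≠ 0 ∧ d • z ∈ S := by
    intro z
    obtain ⟨t, rfl⟩ := h.2 z
    induction t with
    | zero => exact ⟨1, one_ne_zero, by simp⟩
    | add x y hx hy =>
      obtain ⟨d, hd, hx⟩ := hx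
      obtain ⟨e, he, hy⟩ := hy
      refine ⟨d * e, mul_ne_zero hd he, ?_⟩
      rw [map_add, smul_add]
      exact add_mem (by rw [mul_comm, mul_smul]; exact S.smul_mem hx e) (by rw [mul_smul]; exact S.smul_mem hy d)
    | tmul a x =>
      obtain ⟨y, d, hd, hxy⟩ := IsFractionRing.div_surjective (A := P.O) x
      refine ⟨d, nonZeroDivisors.ne_zero hd, ?_⟩
      rw [Algebra.TensorProduct.productMap_apply_tmul, Algebra.smul_def]
      simp only [IsScalarTower.coe_toAlgHom']
      have hd0 : algebraMap P.O K d ≠ 0 :=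
        IsFractionRing.to_map_ne_zero_of_mem_nonZeroDivisors hd
      have : algebraMap P.O K' d * (algebraMap k' K' a * algebraMap K K' x) =
          algebraMap P.O K' y * algebraMap k' K' a := by
        rw [IsScalarTower.algebraMap_apply P.O K K' d, IsScalarTower.algebraMap_apply P.O K K' y, ← hxy,
          map_div₀]
        rw [mul_left_comm, mul_div_cancel₀ _ ((map_ne_zero (algebraMap K K')).2 hd0), mul_comm]
      rw [this]
      exact mul_mem (S.algebraMap_mem y) (Algebra.subset_adjoin ⟨a, rfl⟩)
  obtain ⟨s, hs⟩ := (Module.Finite.fg_top : (⊤ : Submodule P.O (integralClosure P.O K')).FG)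
  choose d hd hdS using hmem
  let D := ∏ r ∈ s, d r.1
  have hD : D ≠ 0 := Finset.prod_ne_zero_iff.2 fun r _ => hd r.1
  have hDR : ∀ r ∈ integralClosure P.O K', D • r ∈ S := by
    have key : ∀ r : integralClosure P.O K', D • (r : K') ∈ S := by
      intro r
      have hr : r ∈ Submodule.span P.O (s : Set (integralClosure P.O K')) := hs ▸ trivial
      induction hr using Submodule.span_induction with
      | mem x hx =>
        obtain ⟨q, hq⟩ := Finset.dvd_prod_of_mem (fun r => d r.1) (Finset.mem_coe.1 hx)
        rw [show D = q * d x.1 from hq.trans (mul_comm _ _), mul_smul]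
        exact S.smul_mem (hdS x.1) q
      | zero => simp
      | add x y _ _ hx hy => simpa [smul_add] using add_mem hx hy
      | smul a x _ hx =>
        have : D • ((a • x : integralClosure P.O K') : K') = a • (D • (x : K')) := by
          rw [smul_comm]; rfl
        rw [this]
        exact S.smul_mem hx a
    exact fun r hr => key ⟨r, hr⟩
  obtain ⟨W, hWfin, hW⟩ : ∃ W : Submodule k P.O, W.FG ∧ ∀ a : P.O, ∃ w ∈ W, D ∣ a - w := by
    clear hDR
    generalize D = x at hD ⊢
    induction x, hD using Groth.Agent.S12526.ne_zero_induction with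
    | unit u hu => exact ⟨⊥, Submodule.fg_bot, fun a => ⟨0, zero_mem _, hu.dvd⟩⟩
    | prime_mul p x hp hx0 ih =>
      obtain ⟨W, hWfg, hW⟩ := ih
      have hmax : IsLocalRing.maximalIdeal P.O = Ideal.span {p} :=
        (IsLocalRing.eq_maximalIdeal (PrincipalIdealRing.isMaximal_of_irreducible hp.irreducible)).symm
      obtain ⟨t, ht⟩ := (Module.Finite.fg_top : (⊤ : Submodule k (IsLocalRing.ResidueField P.O)).FG)
      choose σ hσ using (IsLocalRing.residue_surjective (R := P.O))
      refine ⟨Submodule.span k ((σ '' ↑t : Set P.O)) ⊔ W.map (LinearMap.mulLeft k p),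
        ((Submodule.fg_span (t.finite_toSet.image σ))).sup (hWfg.map _), fun a => ?_⟩
      let ρ : P.O →ₗ[k] IsLocalRing.ResidueField P.O :=
        { toFun := IsLocalRing.residue P.O
          map_add' := map_add _
          map_smul' := fun c b => by
            rw [Algebra.smul_def, map_mul, RingHom.id_apply]
            exact (Algebra.smul_def c (IsLocalRing.residue P.O b)).symm }
      obtain ⟨w₀, hw₀, hw₀r⟩ : ∃ w₀ ∈ Submodule.span k ((σ '' ↑t : Set P.O)), ρ w₀ = ρ a := by
        have hle : Submodule.map ρ (Submodule.span k (σ '' ↑t)) = ⊤ := by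
          rw [Submodule.map_span, ← Set.image_comp, ← ht]
          congr 1
          exact (Set.image_congr fun r _ => hσ r).trans (Set.image_id _)
        exact Submodule.mem_map.1 (hle ▸ trivial : ρ a ∈ _)
      obtain ⟨b, hb⟩ : p ∣ a - w₀ := by
        rw [← Ideal.mem_span_singleton, ← hmax, ← IsLocalRing.residue_eq_zero_iff, map_sub]
        exact sub_eq_zero.2 hw₀r.symm
      obtain ⟨w, hw, hbw⟩ := hW b
      refine ⟨w₀ + p * w, add_mem (Submodule.mem_sup_left hw₀) (Submodule.mem_sup_right ⟨w, hw, rfl⟩), ?_⟩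
      rw [show a - (w₀ + p * w) = p * (b - w) by rw [mul_sub, ← hb]; ring]
      exact mul_dvd_mul_left p hbw
  obtain ⟨w, hw⟩ := hWfin
  refine ⟨⟨Submodule.span k (Set.image2 (fun (a : P.O) (r : integralClosure P.O K') => a • (r : K')) ↑w ↑s),
    Module.Finite.iff_fg.2 (Submodule.fg_span (Set.Finite.image2 _ w.finite_toSet s.finite_toSet)), fun r hr => ?_⟩,
    algebraMap P.O K' D, Subalgebra.algebraMap_mem _ D, ?_, fun r hr => ?_⟩
  · have key : ∀ r : integralClosure P.O K', ∃ x ∈ S, (r : K') - x ∈
        Submodule.span k (Set.image2 (fun (a : P.O) (r : integralClosure P.O K') => a • (r : K')) ↑w ↑s) := by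
      intro r
      have hr : r ∈ Submodule.span P.O (s : Set (integralClosure P.O K')) := hs ▸ trivial
      obtain ⟨c, rfl⟩ := Submodule.mem_span_finset'.1 hr
      choose e he hDe using fun i => hW (c i)
      choose q hq using hDe
      refine ⟨∑ i, q i • (D • ((i.1 : integralClosure P.O K') : K')), sum_mem fun i _ => S.smul_mem (hDR _ i.1.2) _, ?_⟩
      rw [AddSubmonoidClass.coe_finset_sum, ← Finset.sum_sub_distrib]
      refine Submodule.sum_mem _ fun i _ => ?_
      have hci : (((c i) • i.1 : integralClosure P.O K') : K') - q i • (D • ((i.1 : integralClosure P.O K') : K')) =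
          e i • ((i.1 : integralClosure P.O K') : K') := by
        rw [smul_smul, mul_comm, ← hq i]
        show c i • _ - _ = _
        rw [← sub_smul, sub_sub_cancel]
      rw [hci]
      have : e i ∈ Submodule.span k (w : Set P.O) := hw ▸ he i
      clear hci
      generalize e i = z at this ⊢
      induction this using Submodule.span_induction with
      | mem x hx => exact Submodule.subset_span ⟨x, hx, i.1, i.2, rfl⟩
      | zero =>
        rw [Algebra.smul_def, map_zero, zero_mul]
        exact zero_mem _
      | add x y _ _ hx hy => rw [add_smul]; exact add_mem hx hy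
      | smul a x _ hx => rw [smul_assoc]; exact Submodule.smul_mem _ _ hx
    obtain ⟨x, hx, hxv⟩ := key ⟨r, hr⟩
    exact ⟨x, hx, hxv⟩
  · rw [IsScalarTower.algebraMap_apply P.O K K']
    exact (map_ne_zero _).2 (fun h0 => hD (Subtype.ext h0))
  · rw [← Algebra.smul_def]
    exact hDR r hr

end Groth.Agent.S12526
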