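import Groth.Statements.S1253
import Groth.Agent.FlatMorDevissage.CompleteFree

set_option autoImplicit false
universe u
open FlatMor

namespace Groth.Agent.S1253

open IsLocalRing in
/-- Let R be a local ring, S a finitely presented R-algebra, N a finite S-module and q a prime of S over
𝔪_R with N_q flat over R. If N/S/R admits a complete dévissage at q, then N is of finite
presentation over S and free over R; more precisely N is R-isomorphic to the product over the steps
of the dévissage of the free modules B_i^{r_i}, with B_i and r_i the dévissage's own smooth algebras
and ranks. -/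
theorem result {R S : Type u} [CommRing R] [IsLocalRing R] [CommRing S] [Algebra R S] [Algebra.FinitePresentation R S]
    (N : Type u) [AddCommGroup N] [Module S N] [Module R N] [IsScalarTower R S N] [Module.Finite S N]
    (q : Ideal S) [q.IsPrime] [q.LiesOver (maximalIdeal R)] (hflat : FlatCA.FlatAt R q N)
    (D : FlatCA.CompleteDevissage R S N (maximalIdeal R)) (hD : Nonempty (FlatCA.CompleteDevissageAt R S N (maximalIdeal R) q D)) :
    Module.FinitePresentation S N ∧ Module.Free R N ∧
      Nonempty (N ≃ₗ[R] (∀ i : Fin D.n, Fin (D.r i) → D.B i)) := by
  obtain ⟨hD⟩ := hD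
  exact ⟨Groth.Agent.FlatMorDevissage.finitePresentation_of_flatAt D hD hflat,
    Groth.Agent.FlatMorDevissage.exists_equiv_free D hD hflat⟩

end Groth.Agent.S1253
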