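import Groth.Statements.S12532
import Groth.Agent.FF.LocRing
import Mathlib.GroupTheory.CosetCover
import Groth.Agent.FF.DiffDegree

set_option autoImplicit false
open FunFld

namespace Groth.Agent.S12532

open WithZero Groth.Agent.FF


/-- Over an algebraically closed field `k`, let `φ = (φ₀, …, φₙ)`, `n ≥ 1`, be a birational projective
map of the function field `K/k` and `P` a place with image point `a = φ(P)`. Then for some `N`,
every `z ∈ K` with `ord_Q z ≥ N` at all places `Q` over `a` belongs to the local ring `O_a` of `φ`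
at `P` (quotients of polynomials in the ratios `φᵢ/φⱼ` with denominator a unit at `P`). (The
published statement asserts that each nonzero ideal of `O_a` includes some nonzero ideal of the
integral closure `R_a`, with `R_a/I` finite-dimensional; this row states the inclusion the printed
proof establishes, from which those follow.) -/
theorem result (k K : Type*) [Field k] [IsAlgClosed k] [Field K] [Algebra k K]
    (hK : FunFld.IsFunctionField k K) {n : ℕ} (hn : 1 ≤ n)
    (φ : Fin (n + 1) → K) (hφ : LinearIndependent k φ)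
    (hbir : IntermediateField.adjoin k (Set.range fun i => φ i / φ 0) = ⊤) (P : FunFld.Place k K) :
    ∃ N : ℕ, ∀ z : K, (∀ Q : FunFld.Place k K, FunFld.SameImage φ P Q → Q.1 z ≤ WithZero.exp (-(N : ℤ))) →
      FunFld.InLocRing φ P z := by
  classical
  have hne : ∃ i, φ i ≠ 0 := ⟨0, hφ.ne_zero 0⟩
  obtain ⟨j, hj⟩ := exists_isMax hne P
  set r : Fin (n + 1) → K := fun i => φ i / φ j with hr
  set R := ratioAlg k φ j with hR
  have hrR : ∀ i, r i ∈ R := fun i => Algebra.subset_adjoin ⟨i, rfl⟩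
  -- `K` is the fraction field of the ratios
  have hgen : IntermediateField.adjoin k (Set.range r) = ⊤ := by
    rw [eq_top_iff, ← hbir, IntermediateField.adjoin_le_iff]
    rintro z ⟨i, rfl⟩
    show φ i / φ 0 ∈ IntermediateField.adjoin k (Set.range r)
    rw [show φ i / φ 0 = r i / r 0 by simp [hr, div_div_div_cancel_right₀ hj.1]]
    exact div_mem (IntermediateField.subset_adjoin k _ ⟨i, rfl⟩) (IntermediateField.subset_adjoin k _ ⟨0, rfl⟩)
  have hfrac : ∀ z : K, ∃ c ∈ R, c ≠ 0 ∧ c * z ∈ R := fun z => by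
    have hz : z ∈ IntermediateField.adjoin k (Set.range r) := hgen ▸ trivial
    obtain ⟨a, ha, b, hb, rfl⟩ := IntermediateField.mem_adjoin_iff_div.mp hz
    rcases eq_or_ne b 0 with rfl | hb0
    · exact ⟨1, one_mem _, one_ne_zero, by simp⟩
    · exact ⟨b, hb, hb0, by rwa [mul_div_cancel₀ _ hb0]⟩
  -- an element of the span with a pole at every place at infinity
  have hpole : ∀ z : K, {Q : FunFld.Place k K | 1 < Q.1 z}.Finite := fun z => by
    refine (finite_support_ord hK z).subset fun Q hQ => ?_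
    simp only [Set.mem_setOf_eq] at hQ
    intro h
    rcases eq_or_ne z 0 with rfl | hz
    · rw [map_zero] at hQ; exact not_lt_zero hQ
    · exact not_lt.mpr ((val_le_one_iff Q hz).mpr h.ge) hQ
  set S : Set (FunFld.Place k K) := ⋃ i, {Q | 1 < Q.1 (r i)} with hS
  have hSfin : S.Finite := Set.finite_iUnion fun i => hpole _
  let W : Submodule k K := Submodule.span k (Set.range r)
  let p : S → Subspace k W := fun Q => (valSub Q.1).toSubmodule.comap W.subtype
  have := hSfin.to_subtype
  obtain ⟨⟨x, hxW⟩, hx⟩ : ∃ x : W, ∀ Q : S, x ∉ p Q := by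
    by_contra hcon
    push Not at hcon
    obtain ⟨Q, hQ⟩ := Subspace.exists_eq_top_of_iUnion_eq_univ (p := p)
      (Set.eq_univ_of_forall fun x => Set.mem_iUnion.mpr (hcon x))
    obtain ⟨i, hi⟩ := Set.mem_iUnion.mp Q.2
    have : (⟨r i, Submodule.subset_span ⟨i, rfl⟩⟩ : W) ∈ p Q := hQ ▸ Submodule.mem_top
    exact not_lt.mpr this (show 1 < Q.1.1 (r i) from hi)
  have hxR : x ∈ R := by
    have : W ≤ Subalgebra.toSubmodule R := Submodule.span_le.mpr (by rintro _ ⟨i, rfl⟩; exact hrR i)
    exact this hxW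
  have hxS : ∀ Q ∈ S, 1 < Q.1 x := fun Q hQ => not_le.mp (hx ⟨Q, hQ⟩)
  have hRfin : ∀ (Q : FunFld.Place k K), Q ∉ S → ∀ z ∈ R, Q.1 z ≤ 1 := by
    intro Q hQ z hz
    have : R ≤ valSub Q := Algebra.adjoin_le (by
      rintro _ ⟨i, rfl⟩
      show Q.1 (r i) ≤ 1
      exact not_lt.mp fun hlt => hQ (Set.mem_iUnion.mpr ⟨i, hlt⟩))
    exact this hz
  have hxtr : Transcendental k x := by
    refine transcendental_of_not_mem hK ?_
    rintro ⟨c, hc⟩
    -- then there is no place at infinity, and all ratios are constant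
    have hSempty : S = ∅ := Set.eq_empty_of_forall_notMem fun Q hQ => by
      have h1 := hxS Q hQ
      rw [← hc] at h1
      exact not_lt.mpr (Q.2.1 c) h1
    obtain ⟨i, hi⟩ : ∃ i, ∀ c : k, r i ≠ algebraMap k K c := by
      by_contra hc'
      push Not at hc'
      choose c hc using hc'
      obtain ⟨a, b, hab⟩ : ∃ a b : Fin (n + 1), a ≠ b := ⟨0, Fin.last n, by simp [Fin.ext_iff]; omega⟩
      obtain ⟨a, ha⟩ : ∃ a, a ≠ j := ⟨if a = j then b else a, by split_ifs with h <;> grind⟩
      have := hφ.ne_zero j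
      refine (linearIndependent_iff'.mp hφ {a, j} (fun l => if l = a then 1 else -(c a)) ?_ a (by simp)).symm.trans
        (by simp) |> zero_ne_one
      rw [Finset.sum_pair ha, if_pos rfl, if_neg ha.symm, one_smul, Algebra.smul_def, map_neg, ← hc a, hr]
      field_simp
      ring
    obtain ⟨Q, hQ⟩ := exists_val_lt_one hK (z := (r i)⁻¹) (transcendental_of_not_mem hK fun ⟨d, hd⟩ => hi d⁻¹ (by rw [map_inv₀, hd, inv_inv]))
    have hlt : 1 < Q.1 (r i) := by
      have h0 : r i ≠ 0 := fun e => hi 0 (by rw [e, map_zero])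
      rwa [map_inv₀, inv_lt_one₀ (zero_lt_iff.mpr ((map_ne_zero Q.1).mpr h0))] at hQ
    have : Q ∈ S := Set.mem_iUnion.mpr ⟨i, hlt⟩
    rw [hSempty] at this
    exact this
  have hx0 : x ≠ 0 := fun e => hxtr (e ▸ isAlgebraic_zero)
  obtain ⟨ι, hι, d, b, hbd, hspan, -⟩ := exists_reduced_basis hK hxtr
  choose cb hcbR hcb0 hcb using fun s => hfrac (b s)
  set c := ∏ s, cb s with hc
  have hc0 : c ≠ 0 := Finset.prod_ne_zero_iff.mpr fun s _ => hcb0 s
  have hcB : ∀ z : K, (∀ Q : FunFld.Place k K, Q ∉ S → Q.1 z ≤ 1) → c * z ∈ R := by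
    intro z hz
    obtain ⟨m, hm⟩ : ∃ m : ℕ, z ∈ bnd (k := k) x m := by
      obtain ⟨B, hB⟩ : ∃ B : ℕ, ∀ Q : FunFld.Place k K, -Q.ord z ≤ B :=
        ⟨(finite_support_ord hK z).toFinset.sup fun Q => (-Q.ord z).toNat, fun Q => by
          by_cases hQ : Q.ord z = 0
          · omega
          · have := Finset.le_sup (f := fun Q : FunFld.Place k K => (-Q.ord z).toNat)
              (show Q ∈ (finite_support_ord hK z).toFinset by simpa using hQ)
            omega⟩
      refine ⟨B, (mem_bnd hK hx0).mpr ⟨fun Q hQ => hz Q fun hQS => not_lt.mpr hQ (hxS Q hQS), fun Q hQ => ?_⟩⟩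
      rcases eq_or_ne z 0 with rfl | hz0
      · rw [map_zero]; exact zero_le
      · rw [val_le_exp_iff Q hz0]
        have h1 : ¬ (0 ≤ Q.ord x) := fun h' => not_lt.mpr ((val_le_one_iff Q hx0).mpr h') hQ
        have h2 := hB Q
        have h3 : (B : ℤ) ≤ (B : ℤ) * -Q.ord x := le_mul_of_one_le_right (by positivity) (by omega)
        omega
    obtain ⟨q, -, hq⟩ := hspan m z hm
    rw [← hq, Finset.mul_sum]
    refine Subalgebra.sum_mem _ fun s _ => ?_
    have hqR : Polynomial.aeval x (q s) ∈ R := by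
      exact (Algebra.adjoin_le (Set.singleton_subset_iff.mpr hxR)) (Polynomial.aeval_mem_adjoin_singleton k x)
    rw [mul_left_comm]
    refine R.mul_mem hqR ?_
    rw [hc, ← Finset.mul_prod_erase _ _ (Finset.mem_univ s), mul_comm (cb s), mul_assoc]
    exact R.mul_mem (Subalgebra.prod_mem _ fun t _ => hcbR t) (hcb s)
  -- the bound
  obtain ⟨N, hN⟩ : ∃ N : ℕ, ∀ Q : FunFld.Place k K, Q.ord c ≤ N :=
    ⟨(finite_support_ord hK c).toFinset.sup fun Q => (Q.ord c).toNat, fun Q => by
      by_cases hQ : Q.ord c = 0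
      · omega
      · have := Finset.le_sup (f := fun Q : FunFld.Place k K => (Q.ord c).toNat)
          (show Q ∈ (finite_support_ord hK c).toFinset by simpa using hQ)
        omega⟩
  refine ⟨N, fun z hz => ?_⟩
  set T : Finset (FunFld.Place k K) := (hpole (z / c)).toFinset.filter fun Q => Q ∉ S
  have hsep : ∀ Q ∈ T, ∃ e ∈ R, P.1 e = 1 ∧ Q.1 e < 1 := by
    intro Q hQ
    simp only [T, Finset.mem_filter, Set.Finite.mem_toFinset, Set.mem_setOf_eq] at hQ
    have hQle : ∀ i, Q.1 (r i) ≤ 1 := fun i => not_lt.mp fun hlt => hQ.2 (Set.mem_iUnion.mpr ⟨i, hlt⟩)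
    by_contra hcon
    push Not at hcon
    have hsame : FunFld.SameImage φ P Q := by
      refine ⟨j, hj.1, hj.2, fun i => ?_, fun i => ?_⟩
      · have := hQle i
        rwa [hr, map_div₀, div_le_one₀ (zero_lt_iff.mpr ((map_ne_zero Q.1).mpr hj.1))] at this
      obtain ⟨a, ha⟩ := exists_const_near hK Q (hQle i)
      refine ⟨a, ?_, ha⟩
      have he : r i - algebraMap k K a ∈ R := sub_mem (hrR i) (Subalgebra.algebraMap_mem _ a)
      exact lt_of_le_of_ne (hj.val_le_one he) fun h => not_lt.mpr (hcon _ he h) ha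
    have h1 : Q.1 (z / c) ≤ 1 := by
      rw [map_div₀, div_le_one₀ (zero_lt_iff.mpr ((map_ne_zero Q.1).mpr hc0)), val_eq_exp_neg_ord Q hc0]
      exact (hz Q hsame).trans (exp_le_exp.mpr (by linarith [hN Q]))
    exact not_lt.mpr h1 hQ.1
  choose! e heR heP heQ using hsep
  set M : ℕ := T.sup fun Q => (-Q.ord (z / c)).toNat
  set w := ∏ Q ∈ T, e Q ^ M with hw
  have hwR : w ∈ R := Subalgebra.prod_mem _ fun Q hQ => pow_mem (heR Q hQ) _
  have hwP : P.1 w = 1 := by
    rw [hw, map_prod]; exact Finset.prod_eq_one fun Q hQ => by rw [map_pow, heP Q hQ, one_pow]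
  refine inLocRing_of_max hj (hcB (z / c * w) fun Q hQ => ?_) hwR hwP ?_
  · have hwle : Q.1 w ≤ 1 := hRfin Q hQ w hwR
    rw [map_mul]
    by_cases hQT : Q ∈ T
    · obtain ⟨w', hw'⟩ : e Q ^ M ∣ w := Finset.dvd_prod_of_mem (fun Q => e Q ^ M) hQT
      have hQ1 : 1 < Q.1 (z / c) := by simpa [T] using (Finset.mem_filter.mp hQT).1
      have hzc : z / c ≠ 0 := fun h => by rw [h, map_zero] at hQ1; exact not_lt_zero hQ1
      have hsup := Finset.le_sup (f := fun Q : FunFld.Place k K => (-Q.ord (z / c)).toNat) hQT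
      have hrest : Q.1 (∏ R' ∈ T.erase Q, e R' ^ M) ≤ 1 :=
        hRfin Q hQ _ (Subalgebra.prod_mem _ fun R' hR' => pow_mem (heR R' (Finset.mem_of_mem_erase hR')) _)
      rw [hw, ← Finset.mul_prod_erase _ _ hQT, map_mul, map_pow, val_eq_exp_neg_ord Q hzc, ← mul_assoc]
      refine mul_le_one' ?_ hrest
      refine (mul_le_mul' le_rfl (pow_le_pow_left₀ zero_le (val_le_of_lt_one Q (heQ Q hQT)) M)).trans ?_
      rw [← exp_nsmul, ← exp_add, ← exp_zero, exp_le_exp]
      simp only [M] at hsup ⊢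
      simp
      omega
    · refine mul_le_one' (not_lt.mp fun hlt => hQT ?_) hwle
      rw [map_div₀] at hlt
      simp only [T, Finset.mem_filter, Set.Finite.mem_toFinset]
      exact ⟨show 1 < Q.1 (z / c) by rwa [map_div₀], hQ⟩
  · field_simp

end Groth.Agent.S12532
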