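import Groth.Statements.S12535
import Groth.Agent.FF.Quadratic

set_option autoImplicit false
open FunFld

namespace Groth.Agent.S12535

open WithZero Groth.Agent.FF


/-- Let `char k ≠ 2`, `K` of degree `2` over `k(x)`, and `y ∈ K` with `y² = f(x)`, `f` a squarefree
polynomial of degree `≥ 1`. Then a place `P` of `K` is a zero of `y` exactly when it lies over a
finite place of `k(x)` where `f` has a zero, and in that case `ord_P(y) = 1`: the divisor of zeros
of `y` is `Σ P_i`, one place over each irreducible factor of `f`, with multiplicity one. -/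
theorem result (k K : Type*) [Field k] [Field K] (h2 : ringChar k ≠ 2) [Algebra k K]
    [Algebra (RatFunc k) K] [IsScalarTower k (RatFunc k) K]
    (hdeg : Module.finrank (RatFunc k) K = 2) (y : K) (f : Polynomial k) (hf : Squarefree f)
    (hd : 1 ≤ f.natDegree)
    (heq : y ^ 2 = algebraMap (RatFunc k) K (algebraMap (Polynomial k) (RatFunc k) f)) (P : FunFld.Place k K) :
    (0 < P.ord y → P.ord y = 1) ∧
    (0 < P.ord y ↔ ∃ P₀ : FunFld.Place k (RatFunc k), FunFld.IsOver P P₀ ∧ 0 ≤ P₀.ord (RatFunc.X : RatFunc k) ∧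
      0 < P₀.ord (algebraMap (Polynomial k) (RatFunc k) f)) := by
  have : FiniteDimensional (RatFunc k) K := Module.finite_of_finrank_pos (by omega)
  have hy0 : y ≠ 0 := fun h => by
    rw [h, zero_pow two_ne_zero, eq_comm, map_eq_zero] at heq
    exact ι_ne_zero hf.ne_zero heq
  have key : ∀ (P₀ : FunFld.Place k (RatFunc k)) (e : ℕ), FunFld.IsOverWith P P₀ e →
      2 * P.ord y = e * P₀.ord (algebraMap (Polynomial k) (RatFunc k) f) := fun P₀ e he => by
    rw [← ow_ord_eq he, ← heq, ord_pow']; norm_num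
  have hX0 : (RatFunc.X : RatFunc k) ≠ 0 := RatFunc.X_ne_zero
  obtain ⟨P₀, e, hepos, he⟩ := exists_isOverWith (K := RatFunc k) isFF'_ratFunc P
  have h2y := key P₀ e he
  have hfin : 0 < P.ord y → 0 ≤ P₀.ord (RatFunc.X : RatFunc k) ∧ 0 < P₀.ord (algebraMap (Polynomial k) (RatFunc k) f) := by
    intro hpos
    have h0 : 0 < P₀.ord (algebraMap (Polynomial k) (RatFunc k) f) := by
      by_contra hc
      have : (e : ℤ) * P₀.ord (algebraMap (Polynomial k) (RatFunc k) f) ≤ 0 :=
        mul_nonpos_of_nonneg_of_nonpos (by positivity) (not_lt.mp hc)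
      omega
    refine ⟨?_, h0⟩
    by_contra hX
    rw [(infinite_place P₀ fun h => hX ((val_le_one_iff P₀ hX0).mp h)).2 f hf.ne_zero] at h0
    omega
  refine ⟨fun hpos => ?_, fun hpos => ⟨P₀, ⟨e, he⟩, hfin hpos⟩, ?_⟩
  · obtain ⟨h1, h2'⟩ := hfin hpos
    have h3 := (ord_squarefree_le_one P₀ ((val_le_one_iff P₀ hX0).mpr h1) hf).2
    have := ramIdx_le_two isFF'_ratFunc hdeg he
    rw [show P₀.ord (algebraMap (Polynomial k) (RatFunc k) f) = 1 by omega, mul_one] at h2y
    omega
  · rintro ⟨P₁, ⟨e₁, he₁⟩, -, h3⟩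
    have := key P₁ e₁ he₁
    have : 0 < (e₁ : ℤ) * P₁.ord (algebraMap (Polynomial k) (RatFunc k) f) :=
      mul_pos (by exact_mod_cast ow_pos he₁) h3
    omega

end Groth.Agent.S12535
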