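import Groth.Statements.S12536
import Groth.Agent.DualLib.HomToDualizing
import Groth.Agent.DualLib.Nonvanishing
import Groth.Agent.DualLib.RelDualizingModule
import Groth.Agent.EulerLib.StabBasic
import Groth.Agent.Coherent.Affineness

set_option autoImplicit false
universe u
open CategoryTheory CategoryTheory.Limits AlgebraicGeometry Opposite
attribute [local instance] HasDerivedCategory.standard
open Dual3

namespace Groth.Agent.S12536

open Groth.Agent Groth.Agent.Coherent in
theorem eq_zero_section {k : Type u} [Field k] {X : Scheme.{u}} [X.Over (Spec (CommRingCat.of k))]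
    [IsProper (X ↘ Spec (CommRingCat.of k))] (hd : topologicalKrullDim X ≤ (1 : ℕ)) {A : DCoh.D X}
    (hA : Groth.Agent.Dual22Lib.RepLib.RepObj (X ↘ Spec (CommRingCat.of k)) (Groth.Agent.DualLib.DualCoh.PS k) A)
    (x : X) (hx : IsClosed ({x} : Set X))
    (t : Γ(DCoh.HD A (-(1 : ℤ)), ⊤))
    (ht : resM (DCoh.HD A (-(1 : ℤ))) (le_top : (⟨{x}ᶜ, hx.isOpen_compl⟩ : X.Opens) ≤ ⊤) t = 0) : t = 0 := by
  haveI := EulerLib.isNoetherian_of_proper (k := k) (X := X)
  haveI := Groth.Agent.DCat.hasRpush (X ↘ Spec (CommRingCat.of k))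
  let ω := DCoh.HD A (-(1 : ℤ))
  let V' : X.Opens := ⟨{x}ᶜ, hx.isOpen_compl⟩
  have hA1 : DCoh.IsCohD A := DualLib.DualCoh.isCohD_rep k X hA
  let φ : Coh.structureModule X ⟶ ω := unitDesc ω t
  let M := CategoryTheory.Abelian.image φ
  have hMc : Coh.IsCoh M := EulerLib.isCoh_image φ (isCoh_structureModule X) (hA1 _)
  haveI : Coh.IsQCoh M := hMc.1
  haveI := DCat.PullPerf.preservesFiniteLimits_restrict V'.ι
  let G := Scheme.Modules.restrictFunctor V'.ι
  have hφ : G.map φ = 0 := by
    refine Scheme.Modules.hom_ext _ _ fun W => ?_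
    ext r
    show φ.app (V'.ι ''ᵁ W) r = 0
    have hle : V'.ι ''ᵁ W ≤ V' := by
      rintro _ ⟨y, -, rfl⟩
      exact y.2
    refine (app_unit φ r).trans ?_
    rw [unitVal_unitDesc, ← resM_resM ω (le_top : V' ≤ ⊤) hle t, ht]
    simp
  have hz : IsZero (G.obj M) := by
    refine (IsZero.iff_id_eq_zero _).2 ?_
    rw [← cancel_epi (G.map (CategoryTheory.Abelian.factorThruImage φ)), ← cancel_mono (G.map (CategoryTheory.Abelian.image.ι φ))]
    rw [Category.comp_id, comp_zero, zero_comp, ← G.map_comp, CategoryTheory.Abelian.image.fac]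
    exact hφ
  have hsupp : CohB1.support M ⊆ {x} := fun y hy => by
    by_contra hne
    exact DualLib.Nonvanish.not_isZero_restrict M V' y hne (not_subsingleton_iff_nontrivial.1 hy) hz
  have hH := subsingleton_HH_of_support_finite M {x} (Set.finite_singleton x) (fun z hz' => hz' ▸ hx) hsupp 1 one_pos
  have h0 := DualLib.DualCoh.eq_zero_of_hom_rep (d := 1) hd hA M hH
    (CategoryTheory.Abelian.image.ι φ ≫ (DualLib.Nonvanish.hdShift A (-(1 : ℤ))).inv)
  rw [Preadditive.IsIso.comp_right_eq_zero] at h0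
  have hφ0 : φ = 0 := by rw [← CategoryTheory.Abelian.image.fac φ, h0, comp_zero]
  have h1 := unitVal_unitDesc ω t ⊤
  rw [show unitDesc ω t = φ from rfl, hφ0, resM_refl] at h1
  exact h1.symm


/-- Let `X` be proper and reduced over a field `k`, of pure dimension `1`, with dualizing module `ω =
H^{-1}(a(O))` (`a` right adjoint to `Rf_*` on `D_QCoh`, `O` the structure sheaf of `Spec k` in
degree `0`), and let `U ⊆ X` be an open subscheme containing every non-closed point. Then `ω →
j_*(ω|_U)` is injective: for every open `V`, restriction of sections `ω(V) → ω(V ∩ U)` is injective.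
(The published statement takes `U` to be the dense open smooth locus of a generically smooth `X`;
this row allows any open `U` containing the generic points, which is what the printed proof uses:
the kernel is supported at finitely many closed points.) -/
theorem result (k : Type u) [Field k] (X : Scheme.{u}) (f : X ⟶ Spec (CommRingCat.of k))
    [IsProper f] [IsReduced X]
    (hdim : ∀ Z ∈ irreducibleComponents X, topologicalKrullDim ↥Z = (1 : WithBot ℕ∞))
    [DCoh.HasRpush f] (hf : DCoh.RpushPreservesQCoh f)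
    (a : DCoh.DQCoh (Spec (CommRingCat.of k)) ⥤ DCoh.DQCoh X) (adj : DCoh.RpushQ f hf ⊣ a)
    (O : DCoh.DQCoh (Spec (CommRingCat.of k)))
    (hO : Nonempty (O.obj ≅ DCoh.inD (Spec (CommRingCat.of k)) (Coh.structureModule (Spec (CommRingCat.of k)))))
    (U : X.Opens) (hU : ∀ x : X, ¬ IsClosed ({x} : Set X) → x ∈ U) (V : X.Opens) :
    Function.Injective ((DCoh.HD (a.obj O).obj (-(1 : ℤ))).presheaf.map (homOfLE (inf_le_left : V ⊓ U ≤ V)).op) := by
  letI : X.Over (Spec (CommRingCat.of k)) := ⟨f⟩
  haveI : IsProper (X ↘ Spec (CommRingCat.of k)) := ‹IsProper f›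
  haveI := Groth.Agent.EulerLib.isNoetherian_of_proper (k := k) (X := X)
  have hd : topologicalKrullDim X ≤ (1 : ℕ) :=
    Groth.Agent.DualLib.RelMod.dim_le_of_components (n := 1) rfl hdim
  have hA := Groth.Agent.DualLib.DualCoh.repObj_of_adj f rfl hf a adj O hO
  let ω := DCoh.HD (a.obj O).obj (-(1 : ℤ))
  rw [injective_iff_map_eq_zero]
  intro s hs
  refine TopCat.Presheaf.section_ext (⟨ω.presheaf, ω.isSheaf⟩ : TopCat.Sheaf Ab X) V s 0 fun x hxV => ?_
  rw [map_zero]
  by_cases hxU : x ∈ U
  · refine (TopCat.Presheaf.germ_res_apply ω.presheaf (homOfLE (inf_le_left : V ⊓ U ≤ V)) x ⟨hxV, hxU⟩ s).symm.trans ?_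
    rw [hs, map_zero]
  have hxc : IsClosed ({x} : Set X) := not_not.1 fun h => hxU (hU x h)
  let T : Set X := (U : Set X)ᶜ
  haveI : QuasiSober T := U.isOpen.isClosed_compl.isClosedEmbedding_subtypeVal.quasiSober
  have hT : T.Finite := by
    haveI : Finite T := by
      refine Set.finite_univ_iff.1 ?_
      refine Set.Finite.subset ((TopologicalSpace.NoetherianSpace.finite_irreducibleComponents (α := T)).biUnion
        (t := fun C => C) fun C hC => ?_) fun z _ =>
        Set.mem_biUnion (irreducibleComponent_mem_irreducibleComponents z) mem_irreducibleComponent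
      obtain ⟨η, hη⟩ := QuasiSober.sober hC.1 (isClosed_of_mem_irreducibleComponents C hC)
      have hcl : IsClosed ({η.1} : Set X) := not_not.1 fun h => η.2 (hU η.1 h)
      have hcl' : IsClosed ({η} : Set T) := by
        have h := hcl.preimage (continuous_subtype_val (p := fun y => y ∈ T))
        rwa [show Subtype.val ⁻¹' ({η.1} : Set X) = ({η} : Set T) from Set.ext fun y => Subtype.ext_iff.symm] at h
      rw [← hη.def, hcl'.closure_eq]
      exact Set.finite_singleton η
    exact Set.toFinite T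
  have hTx : IsClosed (T \ {x}) := by
    rw [← Set.biUnion_of_singleton (T \ {x})]
    exact hT.sdiff.isClosed_biUnion fun z hz => not_not.1 fun h => hz.1 (hU z h)
  let W₁ : X.Opens := ⟨(V : Set X) ∩ (T \ {x})ᶜ, V.isOpen.inter hTx.isOpen_compl⟩
  let V' : X.Opens := ⟨{x}ᶜ, hxc.isOpen_compl⟩
  have htop : W₁ ⊔ V' = ⊤ := top_unique fun y _ => by
    by_cases hy : y = x
    · exact Or.inl ⟨hy ▸ hxV, fun h => h.2 hy⟩
    · exact Or.inr hy
  have hW₁ : W₁ ≤ V := Set.inter_subset_left
  have hint : W₁ ⊓ V' ≤ V ⊓ U := fun y hy => ⟨hW₁ hy.1, not_not.1 fun h => hy.1.2 ⟨h, hy.2⟩⟩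
  obtain ⟨t, ht₁, ht₂⟩ := Groth.Agent.Coherent.exists_glue ω htop (Groth.Agent.Coherent.resM ω hW₁ s) 0 (by
    rw [map_zero, Groth.Agent.Coherent.resM_resM,
      ← Groth.Agent.Coherent.resM_resM ω (inf_le_left : V ⊓ U ≤ V) hint s]
    have h0 : Groth.Agent.Coherent.resM ω (inf_le_left : V ⊓ U ≤ V) s = 0 := hs
    rw [h0, map_zero])
  have h0 := eq_zero_section hd hA x hxc t ht₂
  rw [h0, map_zero] at ht₁
  have hxW : x ∈ W₁ := ⟨hxV, fun h => h.2 rfl⟩
  refine (TopCat.Presheaf.germ_res_apply ω.presheaf (homOfLE hW₁) x hxW s).symm.trans ?_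
  refine (congrArg (ω.presheaf.germ W₁ x hxW) ht₁.symm).trans (map_zero _)

end Groth.Agent.S12536
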