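import Groth.Statements.S1254
import Groth.Agent.FlatMorDevissage.Spread

set_option autoImplicit false
universe u
open FlatMor

namespace Groth.Agent.S1254

/-- Let S be a finitely presented R-algebra, N a finitely presented S-module which is flat over R, and 𝔯
a prime of R such that N/S/R admits a complete dévissage over 𝔯. Then for some f ∈ R outside 𝔯 the
localization N_f is projective over R_f, and is R_f-isomorphic to a finite product of free modules
B_i^{r_i} over smooth R_f-algebras B_i whose fibres are geometrically irreducible. -/
theorem result {R S : Type u} [CommRing R] [CommRing S] [Algebra R S] [Algebra.FinitePresentation R S]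
    (N : Type u) [AddCommGroup N] [Module S N] [Module R N] [IsScalarTower R S N] [Module.FinitePresentation S N] [Module.Flat R N]
    (rr : Ideal R) [rr.IsPrime] (D : FlatCA.CompleteDevissage R S N rr) :
    ∃ f : R, f ∉ rr ∧
      Module.Projective (Localization.Away f) (LocalizedModule (Submonoid.powers f) N) ∧
      ∃ (k : ℕ) (B : Fin k → Type u) (_ : ∀ i, CommRing (B i)) (_ : ∀ i, Algebra (Localization.Away f) (B i)) (r : Fin k → ℕ),
        (∀ i, Algebra.Smooth (Localization.Away f) (B i) ∧ FlatCA.GeomIrredFibres (Localization.Away f) (B i)) ∧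
        Nonempty (LocalizedModule (Submonoid.powers f) N ≃ₗ[Localization.Away f] (∀ i, Fin (r i) → B i)) := by
  classical
  have hflat : ∀ (L : Type u) [CommRing L] [Algebra R L], IsUnit (algebraMap R L 1) →
      Module.Flat L (TensorProduct R L N) := fun L _ _ _ => inferInstance
  obtain ⟨f, hf, -, hproj⟩ := FlatMorDevissage.exists_projective D
    (fun h => ‹rr.IsPrime›.ne_top ((Ideal.eq_top_iff_one rr).2 h)) hflat
  let L := Localization.Away f
  obtain ⟨hP, ⟨e⟩⟩ := hproj L (IsLocalization.Away.algebraMap_isUnit f)
  let e₀ : LocalizedModule (Submonoid.powers f) N ≃ₗ[L] TensorProduct R L N :=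
    LocalizedModule.equivTensorProduct (Submonoid.powers f) N
  refine ⟨f, hf, Module.Projective.of_equiv e₀.symm, D.n, fun i => TensorProduct R L (D.B i),
    inferInstance, inferInstance, fun i => D.r i, fun i => ⟨?_, ?_⟩, ⟨?_⟩⟩
  · have := D.smooth i i.2
    infer_instance
  · exact CategoryTheory.MorphismProperty.of_isPullback
      (P := @AlgebraicGeometry.GeometricallyIrreducible)
      (AlgebraicGeometry.isPullback_SpecMap_of_isPushout _ _ _ _
        (CommRingCat.isPushout_tensorProduct R L (D.B i))).flip (D.geomIrred i i.2)
  · exact e₀.trans (e.trans (LinearEquiv.piCongrRight fun i =>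
      TensorProduct.piRight R L L fun _ : Fin (D.r i) => D.B i))

end Groth.Agent.S1254
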