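import Groth.Statements.S12540
import Groth.Agent.GrpQLib.AffineGroupQuot
import Groth.Agent.FlatMorThick.Affine
import Groth.Agent.Et18.Descent
import Groth.Agent.FlatMorWeight.Chevalley
import Groth.Agent.RedSepLib.Immersion

set_option backward.isDefEq.respectTransparency.types false

set_option autoImplicit false
universe u
open CategoryTheory MonoidalCategory CartesianMonoidalCategory MonObj GrpObj AlgebraicGeometry
open AlgGrp

namespace Groth.Agent.S12540

/-- Over an algebraically closed field k, let G be an algebraic group (a smooth k-group scheme of finite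
type), h : H → G a closed subgroup scheme, and h' : H' → H a closed subgroup scheme of H which is
reduced with the same underlying space as H (the reduced subgroup scheme H_red; it is a subgroup of
G through h' ≫ h). Let X, with its G-action and base point, be the quotient G/H, and X' the quotient
G/H' (each locally of finite type over k, with flat surjective orbit map identifying G × H with G
×_X G, respectively G × H' with G ×_{X'} G). Then X is affine if and only if X' is affine. (The
published statement adds the same equivalence with the identity component of H_red; that clause is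
not stated here.) -/
theorem result (k : Type u) [Field k] [IsAlgClosed k]
    (G : Over (Spec (CommRingCat.of k))) [GrpObj G] [Smooth G.hom] [QuasiCompact G.hom]
    (H : Over (Spec (CommRingCat.of k))) [GrpObj H] (h : H ⟶ G) [IsMonHom h] [IsClosedImmersion h.left]
    (H' : Over (Spec (CommRingCat.of k))) [GrpObj H'] (h' : H' ⟶ H) [IsMonHom h'] [IsClosedImmersion h'.left]
    [Surjective h'.left] [IsReduced H'.left]
    (X : Over (Spec (CommRingCat.of k))) (a : AlgGrp.Action G X) (o : 𝟙_ (Over (Spec (CommRingCat.of k))) ⟶ X)
    (hX : AGF.IsQuotient h X a o)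
    (X' : Over (Spec (CommRingCat.of k))) (a' : AlgGrp.Action G X') (o' : 𝟙_ (Over (Spec (CommRingCat.of k))) ⟶ X')
    (hX' : AGF.IsQuotient (h' ≫ h) X' a' o') :
    IsAffine X.left ↔ IsAffine X'.left := by
  obtain ⟨hlft, hflat, hsurj, hsq⟩ := hX
  obtain ⟨hlft', hflat', hsurj', hsq'⟩ := hX'
  haveI := hlft; haveI := hlft'
  set p := a.orbitMap o with hp
  set p' := a'.orbitMap o' with hp'
  haveI : Flat p.left := hflat
  haveI : Surjective p.left := hsurj
  haveI : Flat p'.left := hflat'
  haveI : Surjective p'.left := hsurj'
  haveI : IsLocallyNoetherian X.left := LocallyOfFiniteType.isLocallyNoetherian X.hom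
  haveI : IsLocallyNoetherian X'.left := LocallyOfFiniteType.isLocallyNoetherian X'.hom
  haveI : CompactSpace G.left := QuasiCompact.compactSpace_of_compactSpace G.hom
  haveI : LocallyOfFiniteType p.left := by
    have : LocallyOfFiniteType (p.left ≫ X.hom) := by rw [Over.w p]; infer_instance
    exact locallyOfFiniteType_of_comp _ X.hom
  haveI : LocallyOfFiniteType p'.left := by
    have : LocallyOfFiniteType (p'.left ≫ X'.hom) := by rw [Over.w p']; infer_instance
    exact locallyOfFiniteType_of_comp _ X'.hom
  haveI : CompactSpace X.left := ⟨by rw [← p.left.surjective.range_eq]; exact isCompact_range p.left.continuous⟩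
  haveI : QuasiSeparatedSpace X.left := inferInstance
  haveI : QuasiCompact p.left := inferInstance
  -- the quotient map factors
  obtain ⟨u, hu⟩ : ∃ u : X' ⟶ X, p' ≫ u = p := by
    refine Groth.Agent.GrpQLib.exists_desc_fppf p' p fun {W} x y hxy => ?_
    let l := hsq'.lift x y hxy
    have hl1 : l ≫ fst G H' = x := hsq'.lift_fst _ _ _
    have hl2 : l ≫ (G ◁ (h' ≫ h)) ≫ μ[G] = y := hsq'.lift_snd _ _ _
    have e := congrArg ((l ≫ (G ◁ h')) ≫ ·) hsq.w
    simp only [Category.assoc, whiskerLeft_fst_assoc] at e
    rw [reassoc_of% hl1] at e
    rw [e, ← hl2]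
    simp only [Category.assoc, MonoidalCategory.whiskerLeft_comp]
  have hul : p'.left ≫ u.left = p.left := congrArg CommaMorphism.left hu
  haveI : Surjective u.left := by
    have : Surjective (p'.left ≫ u.left) := by rw [hul]; infer_instance
    exact Surjective.of_comp p'.left u.left
  haveI : LocallyOfFiniteType u.left := by
    have : LocallyOfFiniteType (u.left ≫ X.hom) := by rw [Over.w u]; infer_instance
    exact locallyOfFiniteType_of_comp _ X.hom
  -- finiteness after pulling back along the orbit map
  have hfin : IsFinite u.left := by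
    haveI := Groth.Agent.Et18.descends_isFinite.{u}
    refine MorphismProperty.of_pullback_snd_of_descendsAlong (P := @IsFinite) (Q := Groth.Agent.Et18.FPQC) (f := u.left) (g := p.left) ⟨⟨inferInstance, inferInstance⟩, inferInstance⟩ ?_
    let P := Limits.pullback u.left p.left
    let π : P ⟶ G.left := Limits.pullback.snd u.left p.left
    let σ : G.left ⟶ P := Limits.pullback.lift p'.left (𝟙 _) (by rw [hul, Category.id_comp])
    have hσπ : σ ≫ π = 𝟙 _ := Limits.pullback.lift_snd _ _ _
    haveI hσs : Surjective σ := by
      refine ⟨fun z => ?_⟩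
      let x'pt := (Limits.pullback.fst u.left p.left).base z
      obtain ⟨g₁, hg₁⟩ := p'.left.surjective x'pt
      obtain ⟨q, hq1, hq2⟩ := Scheme.Pullback.exists_preimage_pullback (f := p'.left)
        (g := Limits.pullback.fst u.left p.left) g₁ z hg₁
      let Q := Limits.pullback p'.left (Limits.pullback.fst u.left p.left)
      let T₀ := Spec (Q.residueField q)
      let a₁ : T₀ ⟶ G.left := Q.fromSpecResidueField q ≫ Limits.pullback.fst _ _
      let b₁ : T₀ ⟶ G.left := (Q.fromSpecResidueField q ≫ Limits.pullback.snd _ _) ≫ π
      let T : Over (Spec (CommRingCat.of k)) := Over.mk (a₁ ≫ G.hom)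
      haveI : IsReduced T.left := inferInstanceAs (IsReduced (Spec (Q.residueField q)))
      have hb : b₁ ≫ p.left = a₁ ≫ p.left := by
        simp only [a₁, b₁, π, Category.assoc]
        rw [← Limits.pullback.condition (f := u.left) (g := p.left), ← Limits.pullback.condition_assoc, hul]
      let A : T ⟶ G := Over.homMk a₁ rfl
      let B : T ⟶ G := Over.homMk b₁ (by
        show b₁ ≫ G.hom = a₁ ≫ G.hom
        rw [← Over.w p, ← Category.assoc, hb, Category.assoc])
      let l := hsq.lift A B (Over.OverMorphism.ext hb.symm)
      obtain ⟨m, hm⟩ := Groth.Agent.RedSepLib.exists_lift_of_range_subset (l ≫ snd G H).left h'.left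
        (by rw [h'.left.surjective.range_eq]; exact Set.subset_univ _)
      let M : T ⟶ H' := Over.homMk m (by rw [← Over.w h', ← Category.assoc, hm, Over.w])
      have hM : M ≫ h' = l ≫ snd G H := Over.OverMorphism.ext hm
      have hl1 : l ≫ fst G H = A := hsq.lift_fst _ _ _
      have hl2 : l ≫ (G ◁ h) ≫ μ[G] = B := hsq.lift_snd _ _ _
      have e1 : lift A M ≫ (G ◁ (h' ≫ h)) ≫ μ[G] = B := by
        rw [← hl2, ← hl1, ← Category.assoc, ← Category.assoc l, lift_whiskerLeft, ← Category.assoc M, hM]
        congr 1
        ext <;> simp
      have e2 : A ≫ p' = B ≫ p' := by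
        have e := congrArg (lift A M ≫ ·) hsq'.w
        simp only [lift_fst_assoc] at e
        rw [e, ← Category.assoc, e1]
      obtain ⟨t⟩ : Nonempty T₀ := inferInstanceAs (Nonempty (PrimeSpectrum (Q.residueField q)))
      have ht : (Q.fromSpecResidueField q).base t = q := (Q.range_fromSpecResidueField q).le ⟨t, rfl⟩
      refine ⟨b₁.base t, ?_⟩
      have e3 : b₁ ≫ σ = Q.fromSpecResidueField q ≫ Limits.pullback.snd _ _ := by
        refine Limits.pullback.hom_ext ?_ ?_
        · simp only [σ, Category.assoc, Limits.pullback.lift_fst]
          rw [← Limits.pullback.condition, ← Category.assoc]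
          exact (congrArg CommaMorphism.left e2).symm
        · simp only [σ, b₁, π, Category.assoc, Limits.pullback.lift_snd, Category.comp_id]
      show (b₁ ≫ σ).base t = z
      rw [e3, Scheme.Hom.comp_apply, ht, hq2]
    haveI : IsImmersion σ := by
      have : IsImmersion (σ ≫ π) := by rw [hσπ]; infer_instance
      exact IsImmersion.of_comp σ π
    haveI : IsClosedImmersion σ :=
      IsClosedImmersion.of_isPreimmersion σ (by rw [σ.surjective.range_eq]; exact isClosed_univ)
    haveI : IsAffineHom (σ ≫ π) := by rw [hσπ]; infer_instance
    haveI : IsAffineHom π := Groth.Agent.FlatMorThick.isAffineHom_of_comp_surjective σ π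
    haveI : UniversallyClosed (σ ≫ π) := by rw [hσπ]; infer_instance
    haveI : UniversallyClosed π := UniversallyClosed.of_comp_surjective σ π
    haveI : IsProper π := {}
    exact IsFinite.iff_isProper_and_isAffineHom.2 ⟨inferInstance, inferInstance⟩
  constructor
  · intro hXaff
    exact isAffine_of_isAffineHom u.left
  · intro hX'aff
    exact Groth.Agent.FlatMorWeight.isAffine_of_finite_surjective u.left

end Groth.Agent.S12540
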