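import Groth.Statements.S19603
import Groth.Agent.HopfLib.LinearAction

set_option autoImplicit false
universe u
open GIT

namespace Groth.Agent.S19603

/-- For the whole projective space U = P(V), let k be an algebraically closed field of arbitrary
characteristic and G = Spec A a linearly reductive affine algebraic group acting linearly on affine
ι-space, and let v be a vector. Then some invariant homogeneous polynomial of positive degree is
non-zero at v (the point of v is semistable) if and only if the origin is not in the closure of the
orbit of v. -/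
theorem result (k : Type u) [Field k] [IsAlgClosed k]
    (A : Type u) [CommRing A] [HopfAlgebra k A] [Algebra.FiniteType k A] (hG : HopfRep.IsLinearlyReductive k A)
    (ι : Type u) [Fintype ι] [HopfRep.Comod k A (MvPolynomial ι k)] [GLin.IsCoactAlg k A (MvPolynomial ι k)]
    (hlin : GLin.IsLinear k A ι) (v : ι → k) :
    GLin.IsSemistableVec k A v ↔
      ¬ GLin.InOrbitClosure k A (GLin.vecPt k ι v) (GLin.vecPt k ι (fun _ => (0 : k))) := by
  classical
  constructor
  · intro hss horig
    refine hss fun F hF d hd hhom => ?_
    have h := Groth.Agent.HopfLib.apply_eq_of_inOrbitClosure horig hF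
    change MvPolynomial.eval (fun _ => (0 : k)) F = MvPolynomial.eval v F at h
    rw [← h, Groth.Agent.HopfLib.eval_zero_of_isHomogeneous hd hhom]
  · intro horig hnull
    refine horig ?_
    obtain ⟨z, h1, h2⟩ := (Groth.Agent.HopfLib.comp_invariants_eq_iff hG (GLin.vecPt k ι v)
      (GLin.vecPt k ι (fun _ => (0 : k)))).1 (AlgHom.ext fun ⟨F, hF⟩ => by
        change MvPolynomial.eval v F = MvPolynomial.eval (fun _ => (0 : k)) F
        conv_lhs => rw [← MvPolynomial.sum_homogeneousComponent F]
        conv_rhs => rw [← MvPolynomial.sum_homogeneousComponent F]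
        rw [map_sum, map_sum]
        refine Finset.sum_congr rfl fun e _ => ?_
        rcases Nat.eq_zero_or_pos e with rfl | he
        · rw [MvPolynomial.homogeneousComponent_zero, MvPolynomial.eval_C, MvPolynomial.eval_C]
        · rw [hnull _ (Groth.Agent.HopfLib.homogeneousComponent_mem_invariants hlin e hF) e he
              (MvPolynomial.homogeneousComponent_isHomogeneous e F),
            Groth.Agent.HopfLib.eval_zero_of_isHomogeneous he
              (MvPolynomial.homogeneousComponent_isHomogeneous e F)])
    refine Groth.Agent.HopfLib.inOrbitClosure_trans h1 ?_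
    have hfix : Groth.Agent.HopfLib.IsClosedPtOrbit k A (GLin.vecPt k ι (fun _ => (0 : k))) := by
      intro w hw
      refine ⟨Bialgebra.counitAlgHom k A, ?_⟩
      have hw0 : ∀ i, w (MvPolynomial.X i) = 0 := fun i => hw (RingHom.mem_ker.2 (by
        obtain ⟨m, hm⟩ := hlin i
        rw [Groth.Agent.HopfLib.orbitHom_eq_cf, Groth.Agent.HopfLib.cf_apply, hm, map_sum]
        exact Finset.sum_eq_zero fun j _ => by simp [GLin.vecPt]))
      refine MvPolynomial.algHom_ext fun i => ?_
      rw [Groth.Agent.HopfLib.actPt_eq, AlgHom.comp_apply, Bialgebra.counitAlgHom_apply,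
        Groth.Agent.HopfLib.counit_orbitHom, hw0]
      simp [GLin.vecPt]
    exact hfix.mem_closure h2

end Groth.Agent.S19603
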