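import Groth.Statements.S12545
import Groth.Agent.S12544

set_option backward.isDefEq.respectTransparency.types false
open Groth.Agent.S12544 (coeff_toLaurent_nat coeff_toLaurent_neg coeff_T_mul exists_toLaurent_eq)

set_option autoImplicit false
universe u
open TensorProduct LaurentPolynomial
open GIT

namespace Groth.Agent.S12545

/-- Let a commutative bialgebra A over a field k coact linearly on affine ι-space, let λ be a
one-parameter subgroup (a bialgebra map to the Laurent polynomial ring) and v ≠ 0 a vector; write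
μ(v, λ) = m when t^m · (v moved by λ(t)) extends to the affine line with non-zero value at t = 0.
Then v moved by λ(t) has no limit as t → 0 exactly when μ(v, λ) > 0, has a limit different from the
origin exactly when μ(v, λ) = 0, and tends to the origin exactly when μ(v, λ) < 0. -/
theorem result (k : Type u) [Field k] (A : Type u) [CommRing A] [Bialgebra k A]
    (ι : Type u) [Fintype ι] [HopfRep.Comod k A (MvPolynomial ι k)] [GLin.IsCoactAlg k A (MvPolynomial ι k)]
    (hlin : GLin.IsLinear k A ι) (lam : A →ₐc[k] k[T;T⁻¹]) (v : ι → k) (hv : v ≠ 0) :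
    (¬ GLin.HasLimit k A lam (GLin.vecPt k ι v) ↔ ∃ m : ℤ, GLin.IsMu k A lam v m ∧ 0 < m) ∧
      ((GLin.HasLimit k A lam (GLin.vecPt k ι v) ∧
          ¬ GLin.IsLimit k A lam (GLin.vecPt k ι v) (GLin.vecPt k ι (fun _ => (0 : k)))) ↔
        GLin.IsMu k A lam v 0) ∧
      (GLin.IsLimit k A lam (GLin.vecPt k ι v) (GLin.vecPt k ι (fun _ => (0 : k))) ↔
        ∃ m : ℤ, GLin.IsMu k A lam v m ∧ m < 0) := by
  classical
  let f : ι → k[T;T⁻¹] := fun i => GLin.lamOrbit k A lam (GLin.vecPt k ι v) (MvPolynomial.X i)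
  have hmu : ∀ m : ℤ, GLin.IsMu k A lam v m ↔
      (∀ i e, (f i).coeff e ≠ 0 → 0 ≤ m + e) ∧ ∃ i, (f i).coeff (-m) ≠ 0 := by
    intro m
    have hX : ∀ i, GLin.shiftedOrbit k A lam v m (MvPolynomial.X i) = T m * f i := fun i =>
      MvPolynomial.aeval_X _ i
    constructor
    · rintro ⟨h, hh, hne⟩
      have hi : ∀ i, Polynomial.toLaurent (h (MvPolynomial.X i)) = T m * f i := fun i =>
        (congrArg (fun φ : MvPolynomial ι k →ₐ[k] k[T;T⁻¹] => φ (MvPolynomial.X i)) hh).trans (hX i)
      refine ⟨fun i e he => ?_, ?_⟩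
      · by_contra hc
        apply he
        have h1 := coeff_toLaurent_neg (h (MvPolynomial.X i)) (m + e) (by omega)
        rwa [hi, coeff_T_mul, add_sub_cancel_left] at h1
      · by_contra hc
        push Not at hc
        refine hne (MvPolynomial.algHom_ext fun i => ?_)
        rw [AlgHom.comp_apply, MvPolynomial.aeval_X, Polynomial.coe_aeval_eq_eval,
          ← Polynomial.coeff_zero_eq_eval_zero, ← coeff_toLaurent_nat, hi, coeff_T_mul, Nat.cast_zero, zero_sub]
        exact hc i
    · rintro ⟨hpos, i₀, hi₀⟩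
      choose p hp using fun i => exists_toLaurent_eq (T m * f i) fun e he => by
        rw [coeff_T_mul]
        by_contra hc
        have := hpos i (e - m) hc
        omega
      refine ⟨MvPolynomial.aeval p, MvPolynomial.algHom_ext fun i => ?_, fun heq => hi₀ ?_⟩
      · rw [AlgHom.comp_apply, MvPolynomial.aeval_X, hX]
        exact hp i
      · have h1 := congrArg (fun φ : MvPolynomial ι k →ₐ[k] k => φ (MvPolynomial.X i₀)) heq
        simp only [AlgHom.comp_apply, MvPolynomial.aeval_X, Polynomial.coe_aeval_eq_eval,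
          ← Polynomial.coeff_zero_eq_eval_zero] at h1
        rw [← coeff_toLaurent_nat, hp, coeff_T_mul, Nat.cast_zero, zero_sub] at h1
        exact h1
  have hX' : ∀ i, GLin.lamOrbit k A lam (GLin.vecPt k ι v) (MvPolynomial.X i) = f i := fun i => rfl
  have hlim : GLin.HasLimit k A lam (GLin.vecPt k ι v) ↔ ∀ i e, e < 0 → (f i).coeff e = 0 := by
    constructor
    · rintro ⟨h, hh⟩ i e he
      have h1 : Polynomial.toLaurent (h (MvPolynomial.X i)) = f i :=
        congrArg (fun φ : MvPolynomial ι k →ₐ[k] k[T;T⁻¹] => φ (MvPolynomial.X i)) hh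
      rw [← h1]
      exact coeff_toLaurent_neg _ e he
    · intro h
      choose p hp using fun i => exists_toLaurent_eq (f i) (h i)
      refine ⟨MvPolynomial.aeval p, MvPolynomial.algHom_ext fun i => ?_⟩
      rw [AlgHom.comp_apply, MvPolynomial.aeval_X]
      exact hp i
  have hzero : GLin.IsLimit k A lam (GLin.vecPt k ι v) (GLin.vecPt k ι (fun _ => (0 : k))) ↔
      ∀ i e, e ≤ 0 → (f i).coeff e = 0 := by
    constructor
    · rintro ⟨h, hh, h0⟩ i e he
      have h1 : Polynomial.toLaurent (h (MvPolynomial.X i)) = f i :=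
        congrArg (fun φ : MvPolynomial ι k →ₐ[k] k[T;T⁻¹] => φ (MvPolynomial.X i)) hh
      rw [← h1]
      rcases lt_or_eq_of_le he with he | he
      · exact coeff_toLaurent_neg _ e he
      · have h2 := congrArg (fun φ : MvPolynomial ι k →ₐ[k] k => φ (MvPolynomial.X i)) h0
        simp only [AlgHom.comp_apply, GLin.vecPt, MvPolynomial.aeval_X, Polynomial.coe_aeval_eq_eval,
          ← Polynomial.coeff_zero_eq_eval_zero] at h2
        rw [he, show (0 : ℤ) = ((0 : ℕ) : ℤ) from rfl, coeff_toLaurent_nat]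
        exact h2
    · intro h
      obtain ⟨g, hg⟩ := hlim.2 fun i e he => h i e he.le
      refine ⟨g, hg, MvPolynomial.algHom_ext fun i => ?_⟩
      have h1 : Polynomial.toLaurent (g (MvPolynomial.X i)) = f i :=
        congrArg (fun φ : MvPolynomial ι k →ₐ[k] k[T;T⁻¹] => φ (MvPolynomial.X i)) hg
      simp only [AlgHom.comp_apply, GLin.vecPt, MvPolynomial.aeval_X, Polynomial.coe_aeval_eq_eval,
        ← Polynomial.coeff_zero_eq_eval_zero]
      rw [← coeff_toLaurent_nat, h1]
      exact h i _ le_rfl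
  obtain ⟨m, hm, huniq⟩ := Groth.Agent.S12544.result k A ι hlin lam v hv
  obtain ⟨hpos, i₀, hi₀⟩ := (hmu m).1 hm
  have key1 : GLin.HasLimit k A lam (GLin.vecPt k ι v) ↔ m ≤ 0 := by
    rw [hlim]
    refine ⟨fun h => ?_, fun h i e he => ?_⟩
    · by_contra hc
      exact hi₀ (h i₀ (-m) (by omega))
    · by_contra hc
      have := hpos i e hc
      omega
  have key2 : GLin.IsLimit k A lam (GLin.vecPt k ι v) (GLin.vecPt k ι (fun _ => (0 : k))) ↔ m < 0 := by
    rw [hzero]
    refine ⟨fun h => ?_, fun h i e he => ?_⟩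
    · by_contra hc
      exact hi₀ (h i₀ (-m) (by omega))
    · by_contra hc
      have := hpos i e hc
      omega
  refine ⟨⟨fun h => ⟨m, hm, ?_⟩, fun ⟨m', hm', hlt⟩ h => ?_⟩, ⟨fun h => ?_, fun h => ?_⟩,
    ⟨fun h => ⟨m, hm, key2.1 h⟩, fun ⟨m', hm', hlt⟩ => key2.2 (huniq m' hm' ▸ hlt)⟩⟩
  · rw [key1] at h
    omega
  · have := key1.1 h
    rw [huniq m' hm'] at hlt
    omega
  · have h1 := key1.1 h.1
    have h2 := key2.not.1 h.2
    have h3 : m = 0 := by omega
    exact h3 ▸ hm
  · have h3 : (0 : ℤ) = m := huniq 0 h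
    exact ⟨key1.2 (by omega), key2.not.2 (by omega)⟩

end Groth.Agent.S12545
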