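import Groth.Statements.S12549
import Mathlib.Tactic.FieldSimp
import Mathlib.Tactic.LinearCombination
import Mathlib.Tactic.Linarith
import Mathlib.Tactic.Ring
import Mathlib.Tactic.NormNum
import Mathlib.Tactic.Positivity


set_option autoImplicit false
universe u
open GIT

namespace Groth.Agent.S12549

/-- Let g ≥ 1 and n ≥ 2g, and let e_0, …, e_n be natural numbers with e_0 = 0, e_n = n + g, e_0 ≤ … ≤
e_n, e_i ≤ i for i ≤ n − g and e_i ≤ i + g for all i. Then for all real r_0 ≥ r_1 ≥ … ≥ r_n with Σ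
r_i = 0, not all zero, some chain 0 = c_0 < c_1 < … < c_μ = n has Σ_j (e_(c_(j+1)) − e_(c_j)) ·
(r_(c_(j+1)) + r_(c_j)) < 0. -/
theorem result (n g : ℕ) (hg : 1 ≤ g) (hn : 2 * g ≤ n)
    (e : Fin (n + 1) → ℕ) (he0 : e 0 = 0) (hen : e (Fin.last n) = n + g) (hmono : Monotone e)
    (hle : ∀ i : Fin (n + 1), (i : ℕ) ≤ n - g → e i ≤ (i : ℕ)) (hle' : ∀ i : Fin (n + 1), e i ≤ (i : ℕ) + g)
    (r : Fin (n + 1) → ℝ) (hanti : Antitone r) (hsum : ∑ i, r i = 0) (hr : r ≠ 0) :
    ∃ (μ : ℕ) (c : Fin (μ + 1) → Fin (n + 1)), StrictMono c ∧ c 0 = 0 ∧ c (Fin.last μ) = Fin.last n ∧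
      ∑ j : Fin μ, ((e (c j.succ) : ℝ) - (e (c j.castSucc) : ℝ)) * (r (c j.succ) + r (c j.castSucc)) < 0 := by
  classical
  let a₀ : ℕ := n - g + 1
  let f : Fin (n + 1) → ℕ := fun i => if (i : ℕ) ≤ n - g then (i : ℕ) else (i : ℕ) + g
  have hef : ∀ i, e i ≤ f i := by
    intro i; dsimp only [f]; split_ifs with h
    · exact hle i h
    · exact hle' i
  have hfmono : StrictMono f := by
    intro i j hij
    have hij' : (i : ℕ) < (j : ℕ) := hij
    dsimp only [f]; split_ifs <;> omega
  have hfn : f (Fin.last n) = n + g := by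
    dsimp only [f]; rw [if_neg (by simp only [Fin.val_last]; omega)]; simp
  have hf0 : f 0 = 0 := by simp [f]
  set x : Fin (n + 1) → ℝ := fun i => (f i : ℝ) with hx
  have hxmono : StrictMono x := fun i j h => by
    simpa [hx] using hfmono h
  set L := Fin.last n with hL
  -- the lower convex envelope, built from the right
  have env : ∀ (d : ℕ) (a : Fin (n + 1)), n - (a : ℕ) = d →
      ∃ (μ : ℕ) (c : Fin (μ + 1) → Fin (n + 1)) (w : Fin (n + 1) → ℝ),
        StrictMono c ∧ c 0 = a ∧ c (Fin.last μ) = L ∧ (∀ t, 0 ≤ w t) ∧ (∀ t, t ≤ a → w t = 0) ∧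
        (∀ i, a ≤ i → r L + ∑ t, w t * max (x t - x i) 0 ≤ r i) ∧
        r L + ∑ t, w t * (x t - x a) = r a ∧
        ∑ j : Fin μ, (x (c j.succ) - x (c j.castSucc)) * (r (c j.succ) + r (c j.castSucc)) =
          2 * r L * (x L - x a) + ∑ t, w t * (x t - x a) ^ 2 ∧
        ((a = L ∧ ∀ t, w t = 0) ∨ ∃ b, a < b ∧ r b - r a = -(∑ t, w t) * (x b - x a)) := by
    intro d
    induction d using Nat.strong_induction_on with
    | _ d ih =>
      intro a had
      by_cases haL : a = L
      · subst haL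
        refine ⟨0, fun _ => L, 0, fun i j h => absurd h (by omega), rfl, rfl,
          by simp, by simp, ?_, by simp, by simp, Or.inl ⟨rfl, by simp⟩⟩
        intro i hi
        rw [show i = L from le_antisymm (Fin.le_last i) hi]; simp
      have haL' : a < L := lt_of_le_of_ne (Fin.le_last a) haL
      obtain ⟨b, hb, hbmin⟩ := Finset.exists_min_image (Finset.univ.filter fun i => a < i)
        (fun i => (r i - r a) / (x i - x a)) ⟨L, by simp [haL']⟩
      simp only [Finset.mem_filter, Finset.mem_univ, true_and] at hb hbmin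
      set s := (r b - r a) / (x b - x a) with hs
      have hd : 0 < x b - x a := sub_pos.2 (hxmono hb)
      have hsb : r b - r a = s * (x b - x a) := by rw [hs]; field_simp
      have hline : ∀ i, a < i → s * (x i - x a) ≤ r i - r a := fun i hi => by
        have := hbmin i hi
        rwa [le_div_iff₀ (sub_pos.2 (hxmono hi))] at this
      obtain ⟨μ, c, w, hc, hc0, hcl, hw0, hwb, habove, hat, hS, hfirst⟩ :=
        ih (n - (b : ℕ)) (by
          have hab : (a : ℕ) < (b : ℕ) := hb
          have : (b : ℕ) ≤ n := Nat.lt_succ_iff.1 b.2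
          omega) b rfl
      have hδ : 0 ≤ -s - ∑ t, w t := by
        rcases hfirst with ⟨-, hw⟩ | ⟨b', hb', hslope⟩
        · have : s ≤ 0 := div_nonpos_of_nonpos_of_nonneg (sub_nonpos.2 (hanti hb.le)) hd.le
          simp [hw, this]
        · have h1 := hline b' (hb.trans hb')
          have h2 : 0 < x b' - x b := sub_pos.2 (hxmono hb')
          nlinarith
      clear_value s
      set δ := -s - ∑ t, w t with hδdef
      let w' : Fin (n + 1) → ℝ := fun t => w t + if t = b then δ else 0
      have hsum' : ∀ φ : Fin (n + 1) → ℝ, ∑ t, w' t * φ t = (∑ t, w t * φ t) + δ * φ b := by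
        intro φ; simp [w', add_mul, Finset.sum_add_distrib]
      have hshift : ∀ y : ℝ, ∑ t, w t * (x t - y) =
          (∑ t, w t * (x t - x b)) + (∑ t, w t) * (x b - y) := by
        intro y
        rw [Finset.sum_mul, ← Finset.sum_add_distrib]
        exact Finset.sum_congr rfl fun t _ => by ring
      refine ⟨μ + 1, Fin.cons a c, w', ?_, by simp, ?_, ?_, ?_, ?_, ?_, ?_, Or.inr ⟨b, hb, ?_⟩⟩
      · refine Fin.strictMono_iff_lt_succ.2 fun i => ?_
        refine Fin.cases ?_ (fun i => ?_) i
        · simpa [hc0] using hb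
        · rw [Fin.cons_succ, Fin.castSucc_succ, Fin.cons_succ]
          exact hc Fin.castSucc_lt_succ
      · rw [← Fin.succ_last, Fin.cons_succ, hcl]
      · intro t
        exact add_nonneg (hw0 t) (by split_ifs <;> linarith)
      · intro t ht
        have htb : t < b := lt_of_le_of_lt ht hb
        simp [w', hwb t htb.le, htb.ne]
      · intro i hi
        rw [hsum']
        rcases le_or_gt b i with hbi | hib
        · rw [max_eq_right (sub_nonpos.2 (hxmono.monotone hbi)), mul_zero, add_zero]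
          exact habove i hbi
        · have h1 : ∑ t, w t * max (x t - x i) 0 = ∑ t, w t * (x t - x i) := by
            refine Finset.sum_congr rfl fun t _ => ?_
            rcases le_or_gt t b with ht | ht
            · simp [hwb t ht]
            · rw [max_eq_left (sub_nonneg.2 (hxmono.monotone (hib.trans ht).le))]
          rw [h1, max_eq_left (sub_nonneg.2 (hxmono.monotone hib.le)), hshift]
          rcases eq_or_lt_of_le hi with rfl | hai
          · rw [hδdef]; nlinarith [hat, hsb]
          · have := hline i hai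
            rw [hδdef]; nlinarith [hat, hsb, this]
      · rw [hsum', hshift, hδdef]
        linear_combination hat + hsb
      · rw [Fin.sum_univ_succ]
        simp only [Fin.cons_succ, Fin.castSucc_zero, Fin.cons_zero, Fin.castSucc_succ, hc0]
        rw [hS, hsum']
        have h1 : ∑ t, w t * (x t - x a) ^ 2 = (∑ t, w t * (x t - x b) ^ 2)
            + 2 * (x b - x a) * (∑ t, w t * (x t - x b)) + (x b - x a) ^ 2 * (∑ t, w t) := by
          rw [Finset.mul_sum, Finset.mul_sum, ← Finset.sum_add_distrib, ← Finset.sum_add_distrib]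
          exact Finset.sum_congr rfl fun t _ => by ring
        rw [h1, hδdef]
        linear_combination (-2 * (x b - x a)) * hat - (x b - x a) * hsb
      · have : ∑ t, w' t = -s := by
          simp [w', Finset.sum_add_distrib, hδdef]
        rw [this, neg_neg, hsb]
  obtain ⟨μ, c, w, hc, hc0, hcl, hw0, -, habove, hat, hS, -⟩ := env (n - ((0 : Fin (n + 1)) : ℕ)) 0 rfl
  have hx0 : x 0 = 0 := by simp [hx, hf0]
  have hxL : x L = ((n + g : ℕ) : ℝ) := by simp [hx, hfn]
  -- some weight is positive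
  have hwne : ∃ t, 0 < t ∧ 0 < w t := by
    by_contra hne
    push Not at hne
    have h0 : ∑ t, w t * (x t - x 0) = 0 := Finset.sum_eq_zero fun t _ => by
      rcases eq_or_ne t 0 with rfl | ht
      · simp
      · rw [le_antisymm (hne t (Fin.pos_iff_ne_zero.2 ht)) (hw0 t), zero_mul]
    have hcst : ∀ i, r i = r 0 := fun i =>
      le_antisymm (hanti (Fin.zero_le i)) (by
        have := hanti (Fin.le_last i)
        rw [← hL] at this
        linarith)
    apply hr
    have : ((n : ℝ) + 1) * r 0 = 0 := by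
      rw [← hsum, Finset.sum_congr rfl fun i _ => hcst i]
      simp
    funext i
    rw [hcst i]
    simpa [show ((n : ℝ) + 1) ≠ 0 by positivity] using this
  -- the key numerical inequality
  have hK : ∀ t : Fin (n + 1), 0 < t →
      ((n : ℝ) + 1) * x t ^ 2 < 2 * ((n : ℝ) + g) * ∑ i, max (x t - x i) 0 := by
    intro t ht
    have hsumlt : ∀ m : ℕ, m ≤ n - g + 1 ∨ m ≤ n + 1 →
        2 * (∑ i ∈ Finset.range m, (((if i ≤ n - g then i else i + g : ℕ) : ℕ) : ℝ)) =
          (m : ℝ) * ((m : ℝ) - 1) + 2 * g * ((m - a₀ : ℕ) : ℝ) := by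
      intro m _
      induction m with
      | zero => simp
      | succ m ihm =>
        rw [Finset.sum_range_succ, mul_add, ihm (Or.inr (by omega))]
        split_ifs with h
        · rw [show m + 1 - a₀ = 0 by omega, show m - a₀ = 0 by omega]; push_cast; ring
        · rw [show m + 1 - a₀ = (m - a₀) + 1 by omega]; push_cast; ring
    have hK0 : ∑ i, max (x t - x i) 0 =
        ∑ i ∈ Finset.range (t : ℕ), (x t - ((if i ≤ n - g then i else i + g : ℕ) : ℝ)) := by
      rw [← Finset.sum_filter_add_sum_filter_not Finset.univ (fun i => i < t),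
        Finset.sum_eq_zero (s := Finset.univ.filter fun i => ¬i < t) (fun i hi => by
          have : t ≤ i := not_lt.1 (Finset.mem_filter.1 hi).2
          exact max_eq_right (sub_nonpos.2 (hxmono.monotone this))), add_zero]
      refine Finset.sum_bij (fun i _ => (i : ℕ)) ?_ ?_ ?_ ?_
      · intro i hi; exact Finset.mem_range.2 (Finset.mem_filter.1 hi).2
      · intro i _ j _ h; exact Fin.ext h
      · intro i hi
        have hit := Finset.mem_range.1 hi
        exact ⟨⟨i, hit.trans t.2⟩, Finset.mem_filter.2 ⟨Finset.mem_univ _, hit⟩, rfl⟩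
      · intro i hi
        rw [max_eq_left (sub_nonneg.2 (hxmono.monotone (Finset.mem_filter.1 hi).2.le))]
    have htn : (t : ℕ) ≤ n := Nat.lt_succ_iff.1 t.2
    have htpos : (1 : ℝ) ≤ ((t : ℕ) : ℝ) := by exact_mod_cast (Fin.lt_def.1 ht : 0 < (t : ℕ))
    rw [hK0, Finset.sum_sub_distrib, Finset.sum_const, Finset.card_range, nsmul_eq_mul, mul_sub]
    have hsl := hsumlt (t : ℕ) (Or.inr (by omega))
    have hg' : (1 : ℝ) ≤ g := by exact_mod_cast hg
    have hn' : (2 : ℝ) * g ≤ n := by exact_mod_cast hn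
    have htn' : ((t : ℕ) : ℝ) ≤ n := by exact_mod_cast htn
    by_cases h : (t : ℕ) ≤ n - g
    · have hxt : x t = ((t : ℕ) : ℝ) := by simp [hx, f, h]
      rw [show (t : ℕ) - a₀ = 0 by omega, Nat.cast_zero, mul_zero, add_zero] at hsl
      rw [hxt]
      set T := ((t : ℕ) : ℝ)
      set Sg := ∑ i ∈ Finset.range (t : ℕ), ((if i ≤ n - g then i else i + g : ℕ) : ℝ)
      have h1 : 0 ≤ ((g : ℝ) - 1) * T ^ 2 := mul_nonneg (by linarith) (sq_nonneg _)
      have h2 : 0 < ((n : ℝ) + g) * T := mul_pos (by linarith) (by linarith)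
      have h3 : 2 * Sg = T * (T - 1) := hsl
      linear_combination h1 + h2 + ((n : ℝ) + g) * h3
    · have hxt : x t = ((t : ℕ) : ℝ) + g := by
        simp only [hx, f, if_neg h]; push_cast; ring
      have hsub : (((t : ℕ) - a₀ : ℕ) : ℝ) = ((t : ℕ) : ℝ) - ((n : ℝ) - g + 1) := by
        rw [Nat.cast_sub (by omega : a₀ ≤ (t : ℕ)), show a₀ = n - g + 1 from rfl]
        push_cast [Nat.cast_sub (by omega : g ≤ n)]
        ring
      rw [hsub] at hsl
      rw [hxt]
      set T := ((t : ℕ) : ℝ)
      set N := (n : ℝ) + g with hN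
      have hD : ((n : ℝ) + 1) * (T + g) ^ 2 < N * (T * (T + 1) + 2 * g * ((n : ℝ) - g + 1)) := by
        have hid : N * (T * (T + 1) + 2 * g * ((n : ℝ) - g + 1)) - ((n : ℝ) + 1) * (T + g) ^ 2 =
            ((n : ℝ) - T) * ((n : ℝ) + g + ((g : ℝ) - 1) * ((n : ℝ) - T)) +
              N * g * ((n : ℝ) - 2 * g + 1) := by
          rw [hN]; ring
        have hg1 : 0 ≤ (g : ℝ) - 1 := by linarith
        have hnT : 0 ≤ (n : ℝ) - T := by linarith
        have hpos : 0 < N * g * ((n : ℝ) - 2 * g + 1) := by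
          refine mul_pos (mul_pos ?_ ?_) ?_ <;> linarith
        have : 0 ≤ ((n : ℝ) - T) * ((n : ℝ) + g + ((g : ℝ) - 1) * ((n : ℝ) - T)) :=
          mul_nonneg hnT (add_nonneg (by positivity) (mul_nonneg hg1 hnT))
        linarith
      rw [hN] at hD
      linear_combination hD + ((n : ℝ) + g) * hsl
  -- conclusion
  have hineq : (∑ t, w t * ∑ i, max (x t - x i) 0) ≤ -(((n : ℝ) + 1) * r L) := by
    have h1 : ∑ i : Fin (n + 1), (r L + ∑ t, w t * max (x t - x i) 0) ≤ ∑ i, r i :=
      Finset.sum_le_sum fun i _ => habove i (Fin.zero_le i)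
    rw [hsum, Finset.sum_add_distrib, Finset.sum_comm] at h1
    simp only [← Finset.mul_sum, Finset.sum_const, Finset.card_univ, Fintype.card_fin,
      nsmul_eq_mul, Nat.cast_add, Nat.cast_one] at h1
    linarith
  have hneg : 2 * r L * (x L - x 0) + ∑ t, w t * (x t - x 0) ^ 2 < 0 := by
    rw [hxL, hx0]; push_cast
    simp only [sub_zero]
    have hlt : ((n : ℝ) + 1) * ∑ t, w t * x t ^ 2 <
        2 * ((n : ℝ) + g) * ∑ t, w t * ∑ i, max (x t - x i) 0 := by
      rw [Finset.mul_sum, Finset.mul_sum]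
      obtain ⟨t₀, ht₀, hw₀⟩ := hwne
      refine Finset.sum_lt_sum (fun t _ => ?_) ⟨t₀, Finset.mem_univ _, ?_⟩
      · rcases eq_or_lt_of_le (Fin.zero_le t) with rfl | ht
        · rw [hx0]; simp only [ne_eq, OfNat.ofNat_ne_zero, not_false_eq_true, zero_pow, mul_zero]
          exact mul_nonneg (by positivity)
            (mul_nonneg (hw0 _) (Finset.sum_nonneg fun i _ => le_max_right _ _))
        · nlinarith [hK t ht, hw0 t]
      · nlinarith [hK t₀ ht₀, hw₀]
    have hN0 : (0 : ℝ) ≤ 2 * ((n : ℝ) + g) := by positivity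
    have := mul_le_mul_of_nonneg_left hineq hN0
    nlinarith
  refine ⟨μ, c, hc, hc0, hcl, ?_⟩
  refine lt_of_le_of_lt ?_ (hS ▸ hneg)
  -- monotonicity in `e`
  have key : ∀ (μ : ℕ) (c : Fin (μ + 1) → Fin (n + 1)), StrictMono c → c (Fin.last μ) = L →
      ∑ j : Fin μ, ((e (c j.succ) : ℝ) - (e (c j.castSucc) : ℝ)) *
        (r (c j.succ) + r (c j.castSucc)) ≤
      (∑ j : Fin μ, (x (c j.succ) - x (c j.castSucc)) * (r (c j.succ) + r (c j.castSucc))) +
        2 * r (c 0) * (x (c 0) - e (c 0)) := by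
    intro μ
    induction μ with
    | zero =>
      intro c _ hl
      have h0 : c 0 = L := hl
      simp [hx, h0, hfn, hen]
    | succ μ ihμ =>
      intro c hc hl
      have := ihμ (fun j => c j.succ) (hc.comp (Fin.strictMono_succ)) (by simpa using hl)
      rw [Fin.sum_univ_succ, Fin.sum_univ_succ]
      simp only [Fin.castSucc_zero, Fin.castSucc_succ] at this ⊢
      have h1 : r (c (Fin.succ 0)) ≤ r (c 0) := hanti (hc (Fin.succ_pos _)).le
      have h2 : (e (c (Fin.succ 0)) : ℝ) ≤ x (c (Fin.succ 0)) := by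
        simpa [hx] using hef (c (Fin.succ 0))
      have h3 : (e (c 0) : ℝ) ≤ x (c 0) := by simpa [hx] using hef (c 0)
      nlinarith [mul_nonneg (sub_nonneg.2 h1) (sub_nonneg.2 h2),
        mul_nonneg (sub_nonneg.2 h1) (sub_nonneg.2 h3)]
  have := key μ c hc hcl
  rwa [hc0, hx0, he0, Nat.cast_zero, sub_zero, mul_zero, add_zero] at this

end Groth.Agent.S12549
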