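import Groth.Statements.S12550
import Mathlib.LinearAlgebra.FiniteDimensional.Lemmas
import Mathlib.Tactic

set_option autoImplicit false
universe u
open GIT

namespace Groth.Agent.S12550

/-- Let V be a finite-dimensional vector space over a field K and x_0, …, x_m non-zero vectors, a
configuration of m + 1 points of the projective space P(V). If for every subspace L with 0 ≠ L ≠ V
the number of indices i with x_i ∈ L, multiplied by dim V, is less than dim L · (m + 1) (the
configuration is stable), then no two proper subspaces L', L'' with L' ∩ L'' = 0 contain between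
them all the x_i. -/
theorem result (K : Type u) [Field K]
    (V : Type u) [AddCommGroup V] [Module K V] [FiniteDimensional K V]
    (m : ℕ) (x : Fin (m + 1) → V) (hx : ∀ i, x i ≠ 0)
    (hst : ∀ L : Submodule K V, L ≠ ⊥ → L ≠ ⊤ →
      Set.ncard {i : Fin (m + 1) | x i ∈ L} * Module.finrank K V < Module.finrank K L * (m + 1)) :
    ¬ ∃ L' L'' : Submodule K V, L' ≠ ⊤ ∧ L'' ≠ ⊤ ∧ Disjoint L' L'' ∧ ∀ i, x i ∈ L' ∨ x i ∈ L'' := by
  rintro ⟨L', L'', h', h'', hd, hcov⟩
  have hL : ∀ L : Submodule K V, L ≠ ⊤ →
      Set.ncard {i : Fin (m + 1) | x i ∈ L} * Module.finrank K V ≤ Module.finrank K L * (m + 1) ∧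
      (L ≠ ⊥ → Set.ncard {i : Fin (m + 1) | x i ∈ L} * Module.finrank K V < Module.finrank K L * (m + 1)) := by
    intro L hL
    refine ⟨?_, fun h => hst L h hL⟩
    by_cases h : L = ⊥
    · subst h
      simp [hx]
    · exact (hst L h hL).le
  have hu : m + 1 ≤ Set.ncard {i : Fin (m + 1) | x i ∈ L'} + Set.ncard {i : Fin (m + 1) | x i ∈ L''} := by
    refine le_trans ?_ (Set.ncard_union_le _ _)
    rw [show ({i : Fin (m + 1) | x i ∈ L'} ∪ {i | x i ∈ L''}) = Set.univ from Set.eq_univ_of_forall hcov,
      Set.ncard_univ, Nat.card_eq_fintype_card, Fintype.card_fin]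
  have hdim : Module.finrank K L' + Module.finrank K L'' ≤ Module.finrank K V := by
    rw [← Submodule.finrank_sup_add_finrank_inf_eq, disjoint_iff.1 hd, finrank_bot, add_zero]
    exact Submodule.finrank_le _
  have hne : L' ≠ ⊥ ∨ L'' ≠ ⊥ := by
    by_contra h
    push Not at h
    obtain ⟨rfl, rfl⟩ := h
    rcases hcov 0 with h | h <;> exact hx 0 (by simpa using h)
  have a := hL L' h'
  have b := hL L'' h''
  rcases hne with h | h
  · nlinarith [a.2 h, b.1]
  · nlinarith [b.2 h, a.1]

end Groth.Agent.S12550
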