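import Groth.Statements.S12553
import Mathlib.RingTheory.Coalgebra.GroupLike
import Mathlib.RingTheory.Bialgebra.GroupLike
import Mathlib.Algebra.Polynomial.Laurent
open scoped LaurentPolynomial TensorProduct

set_option autoImplicit false
universe u
open TensorProduct LaurentPolynomial
open GIT

namespace Groth.Agent.S12553

/-- Let k be a field and T = Spec A a diagonalizable affine group (A a commutative Hopf algebra spanned
by its group-like elements, e.g. a torus) acting linearly on affine ι-space. Then there are finitely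
many characters χ_1, …, χ_N of T (group-like elements of A) such that every vector v ≠ 0 has a
non-empty set I of indices for which, for every one-parameter subgroup λ of T with λ(χ_j) = t^(e_j),
the numerical function μ(v, λ) (the m for which t^m · (v moved by λ(t)) tends to a non-zero vector)
equals the maximum of −e_j over j ∈ I: μ is the maximum of finitely many linear functionals on
one-parameter subgroups. (The published proposition concerns a maximal torus of a reductive group
acting on a proper scheme with an ample linearised invertible sheaf; this row is the case of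
projective space with the hyperplane bundle, for any diagonalizable group acting linearly, stated on
the affine cone.) -/
theorem result (k : Type u) [Field k]
    (A : Type u) [CommRing A] [HopfAlgebra k A] (hdiag : HopfRep.IsDiagonalizable k A)
    (ι : Type u) [Fintype ι] [HopfRep.Comod k A (MvPolynomial ι k)] [GLin.IsCoactAlg k A (MvPolynomial ι k)]
    (hlin : GLin.IsLinear k A ι) :
    ∃ (N : ℕ) (χ : Fin N → A), (∀ j, IsGroupLikeElem k (χ j)) ∧
      ∀ v : ι → k, v ≠ 0 → ∃ I : Finset (Fin N), I.Nonempty ∧
        ∀ (lam : A →ₐc[k] k[T;T⁻¹]) (e : Fin N → ℤ), (∀ j, lam (χ j) = LaurentPolynomial.T (e j)) →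
          ∀ m : ℤ, GLin.IsMu k A lam v m ↔ ((∀ j ∈ I, -e j ≤ m) ∧ ∃ j ∈ I, m = -e j) := by
  classical
  choose mm hmm using hlin
  have hspan : ⊤ ≤ Submodule.span k (Set.range (GroupLike.val : GroupLike k A → A)) := by
    rw [← (show Submodule.span k {a : A | IsGroupLikeElem k a} = ⊤ from hdiag)]
    exact Submodule.span_mono fun a ha => ⟨⟨a, ha⟩, rfl⟩
  let b : Module.Basis (GroupLike k A) k A :=
    Module.Basis.mk (linearIndep_groupLikeVal (R := k) (A := A)) hspan
  have hbapp : ∀ g, b g = g.val := fun g => Module.Basis.mk_apply _ _ g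
  let M : GroupLike k A → ι → ι → k := fun g i l => b.repr (mm i l) g
  let S : Finset (GroupLike k A) :=
    Finset.univ.biUnion fun p : ι × ι => (b.repr (mm p.1 p.2)).support
  have hS : ∀ g i l, g ∉ S → M g i l = 0 := fun g i l hg => by
    by_contra h
    exact hg (Finset.mem_biUnion.2 ⟨(i, l), Finset.mem_univ _, Finsupp.mem_support_iff.2 h⟩)
  have hexp : ∀ i l, mm i l = ∑ g ∈ S, M g i l • g.val := fun i l => by
    conv_lhs => rw [← b.linearCombination_repr (mm i l)]
    rw [Finsupp.linearCombination_apply, Finsupp.sum_of_support_subset (s := S)]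
    · simp only [hbapp, M]
    · exact fun g hg => Finset.mem_biUnion.2 ⟨(i, l), Finset.mem_univ _, hg⟩
    · simp
  -- coordinate of a linear form
  have hcoef : ∀ j l : ι, MvPolynomial.lcoeff k (Finsupp.single l 1) (MvPolynomial.X j : MvPolynomial ι k) =
      if j = l then 1 else 0 := fun j l => by
    simp [MvPolynomial.lcoeff_apply, MvPolynomial.coeff_X', Finsupp.single_left_inj one_ne_zero]
  -- the projectors
  have horth : ∀ g h i l, ∑ j, M g i j * M h j l = if g = h then M g i l else 0 := by
    intro g h i l
    have hco := LinearMap.congr_fun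
      (HopfRep.Comod.coassoc (k := k) (A := A) (V := MvPolynomial ι k)) (MvPolynomial.X i)
    let ψ : MvPolynomial ι k ⊗[k] (A ⊗[k] A) →ₗ[k] k :=
      (TensorProduct.lid k k).toLinearMap ∘ₗ TensorProduct.map (MvPolynomial.lcoeff k (Finsupp.single l 1))
        ((TensorProduct.lid k k).toLinearMap ∘ₗ TensorProduct.map (b.coord h) (b.coord g))
    have hψ := congrArg ψ hco
    simp only [LinearMap.comp_apply, hmm, map_sum, LinearMap.rTensor_tmul, LinearMap.lTensor_tmul,
      TensorProduct.sum_tmul, LinearEquiv.coe_coe, TensorProduct.assoc_tmul, ψ, TensorProduct.map_tmul,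
      hcoef, TensorProduct.lid_tmul, smul_eq_mul, ite_mul, one_mul, zero_mul, Finset.sum_ite_eq',
      Finset.mem_univ, if_true, Module.Basis.coord_apply] at hψ
    rw [show CoalgebraStruct.comul (R := k) (mm i l) = ∑ x ∈ S, M x i l • (x.val ⊗ₜ[k] x.val) by
      conv_lhs => rw [hexp i l]
      simp only [map_sum, map_smul]
      exact Finset.sum_congr rfl fun x _ => by rw [x.isGroupLikeElem_val.comul_eq_tmul_self]] at hψ
    simp only [map_sum, map_smul, TensorProduct.map_tmul, TensorProduct.lid_tmul, LinearMap.comp_apply,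
      LinearEquiv.coe_coe, smul_eq_mul, Module.Basis.coord_apply] at hψ
    have hbv : ∀ x y : GroupLike k A, b.repr x.val y = if x = y then 1 else 0 := fun x y => by
      rw [← hbapp, Module.Basis.repr_self, Finsupp.single_apply]
    simp only [hbv, mul_ite, mul_one, mul_zero, Finset.sum_ite_eq'] at hψ
    calc ∑ j, M g i j * M h j l = ∑ j, b.repr (mm j l) h * b.repr (mm i j) g :=
          Finset.sum_congr rfl fun j _ => mul_comm _ _
      _ = _ := hψ
      _ = _ := by
        by_cases hgh : g = h
        · subst hgh
          by_cases hg : g ∈ S <;> simp [hg, hS g i l]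
        · simp [hgh, Ne.symm hgh]
  have hsum : ∀ i l, ∑ g ∈ S, M g i l = if i = l then 1 else 0 := by
    intro i l
    have hco := LinearMap.congr_fun
      (HopfRep.Comod.counit_comp (k := k) (A := A) (V := MvPolynomial ι k)) (MvPolynomial.X i)
    have hψ := congrArg ((TensorProduct.lid k k).toLinearMap ∘ₗ
      TensorProduct.map (MvPolynomial.lcoeff k (Finsupp.single l 1)) LinearMap.id) hco
    simp only [LinearMap.comp_apply, hmm, map_sum, LinearMap.lTensor_tmul, LinearMap.flip_apply,
      TensorProduct.mk_apply, TensorProduct.map_tmul, hcoef, LinearEquiv.coe_coe, TensorProduct.lid_tmul,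
      LinearMap.id_apply, smul_eq_mul, ite_mul, one_mul, zero_mul, Finset.sum_ite_eq', Finset.mem_univ,
      if_true, mul_one] at hψ
    rw [← hψ]
    conv_rhs => rw [hexp i l]
    simp [map_sum, fun x : GroupLike k A => x.isGroupLikeElem_val.counit_eq_one]
  -- enumerate the characters
  let en := S.equivFin
  refine ⟨S.card, fun j => (en.symm j).1.val, fun j => (en.symm j).1.isGroupLikeElem_val, fun v hv => ?_⟩
  let w : GroupLike k A → ι → k := fun g i => ∑ j, M g i j * v j
  have hw : ∀ g h i, ∑ l, M g i l * w h l = if g = h then w g i else 0 := fun g h i => by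
    simp only [w, Finset.mul_sum]
    rw [Finset.sum_comm]
    simp only [← mul_assoc, ← Finset.sum_mul, horth, ite_mul, zero_mul, Finset.sum_ite_irrel,
      Finset.sum_const_zero]
  let I := Finset.univ.filter fun j : Fin S.card => ∃ i, w (en.symm j).1 i ≠ 0
  have hv' : ∀ i, ∑ g ∈ S, w g i = v i := fun i => by
    simp only [w]
    rw [Finset.sum_comm]
    simp [← Finset.sum_mul, hsum]
  refine ⟨I, ?_, fun lam e he m => ?_⟩
  · obtain ⟨i, hi⟩ := Function.ne_iff.1 hv
    rw [← hv' i] at hi
    obtain ⟨g, hg, hgi⟩ := Finset.exists_ne_zero_of_sum_ne_zero hi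
    exact ⟨en ⟨g, hg⟩, Finset.mem_filter.2 ⟨Finset.mem_univ _, i, by simpa using hgi⟩⟩
  -- the coefficient of `T ^ n` of the moved point
  let W : ℤ → ι → k := fun n i => ∑ j, if e j = n then w (en.symm j).1 i else 0
  have hL : ∀ i, GLin.lamOrbit k A lam (GLin.vecPt k ι v) (MvPolynomial.X i) =
      ∑ j, LaurentPolynomial.C (w (en.symm j).1 i) * LaurentPolynomial.T (e j) := by
    intro i
    simp only [GLin.lamOrbit, GLin.orbitHom, AlgHom.comp_apply, GLin.coactAlgHom_apply, hmm, map_sum,
      Algebra.TensorProduct.map_tmul, AlgEquiv.coe_toAlgHom, Algebra.TensorProduct.lid_tmul,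
      GLin.vecPt, MvPolynomial.aeval_X, AlgHom.id_apply]
    rw [Finset.sum_congr rfl fun l _ => show (lam : A →ₐ[k] k[T;T⁻¹]) (v l • mm i l) =
        ∑ j, LaurentPolynomial.C (M (en.symm j).1 i l * v l) * LaurentPolynomial.T (e j) from ?_,
      Finset.sum_comm]
    · simp only [w, map_sum, Finset.sum_mul]
    · rw [hexp i l, ← Finset.sum_coe_sort, ← en.symm.sum_comp, map_smul, map_sum, Finset.smul_sum]
      refine Finset.sum_congr rfl fun j _ => ?_
      rw [map_smul, smul_smul, show (lam : A →ₐ[k] k[T;T⁻¹]) (en.symm j).1.val = LaurentPolynomial.T (e j) from he j,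
        mul_comm (v l), Algebra.smul_def]
      rfl
  have hshift : ∀ i n, (GLin.shiftedOrbit k A lam v m (MvPolynomial.X i)).coeff n = W (n - m) i := by
    intro i n
    rw [GLin.shiftedOrbit, MvPolynomial.aeval_X, hL, Finset.mul_sum, AddMonoidAlgebra.coeff_sum,
      Finsupp.finsetSum_apply]
    refine Finset.sum_congr rfl fun j _ => ?_
    rw [show LaurentPolynomial.T m * (LaurentPolynomial.C (w (en.symm j).1 i) * LaurentPolynomial.T (e j)) =
      LaurentPolynomial.C (w (en.symm j).1 i) * LaurentPolynomial.T (m + e j) by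
        rw [LaurentPolynomial.T_add]; ring, ← LaurentPolynomial.single_eq_C_mul_T,
      AddMonoidAlgebra.coeff_single, Finsupp.single_apply]
    exact if_congr ⟨fun h => by omega, fun h => by omega⟩ rfl rfl
  have hW : ∀ n, (∀ i, W n i = 0) ↔ ∀ j ∈ I, e j ≠ n := by
    intro n
    constructor
    · intro h j hj hjn
      obtain ⟨i, hi⟩ := (Finset.mem_filter.1 hj).2
      apply hi
      have h0 : ∑ l, M (en.symm j).1 i l * W n l = 0 := by simp [h]
      simp only [W, Finset.mul_sum, mul_ite, mul_zero] at h0
      rw [Finset.sum_comm] at h0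
      simp only [Finset.sum_ite_irrel, Finset.sum_const_zero, hw] at h0
      rw [Finset.sum_eq_single j] at h0
      · simpa [hjn] using h0
      · intro j' _ hne
        rw [if_neg (fun h' : (en.symm j).1 = (en.symm j').1 => hne (en.symm.injective (Subtype.ext h')).symm),
          ite_self]
      · exact fun h' => absurd (Finset.mem_univ j) h'
    · intro h i
      refine Finset.sum_eq_zero fun j _ => ?_
      split_ifs with hjn
      · by_contra hne
        exact h j (Finset.mem_filter.2 ⟨Finset.mem_univ j, i, hne⟩) hjn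
      · rfl
  have hcoeP : ∀ (P : Polynomial k) (a : ℕ), P.toLaurent.coeff (a : ℤ) = P.coeff a := fun P a => by
    rw [LaurentPolynomial.coeff_toLaurent]
    exact Finsupp.mapDomain_apply Nat.castEmbedding.injective _ _
  have hneg : ∀ (P : Polynomial k) (n : ℤ), n < 0 → P.toLaurent.coeff n = 0 := fun P n hn => by
    rw [LaurentPolynomial.coeff_toLaurent]
    exact Finsupp.mapDomain_notin_range _ _ fun ⟨a, ha⟩ => by
      have : (0 : ℤ) ≤ n := ha ▸ Int.natCast_nonneg a
      omega
  constructor
  · rintro ⟨h, hh, hne⟩
    have hX : ∀ i, GLin.shiftedOrbit k A lam v m (MvPolynomial.X i) =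
        Polynomial.toLaurent (h (MvPolynomial.X i)) := fun i => by rw [← hh]; rfl
    have h1 : ∀ j ∈ I, -e j ≤ m := fun j hj => by
      by_contra hlt
      refine (hW (e j)).1 (fun i => ?_) j hj rfl
      rw [show e j = (e j + m) - m by ring, ← hshift, hX, hneg _ _ (by omega)]
    refine ⟨h1, ?_⟩
    by_contra hcon
    push Not at hcon
    refine hne (MvPolynomial.algHom_ext fun i => ?_)
    rw [AlgHom.comp_apply, MvPolynomial.aeval_X, 
      ← Polynomial.coeff_zero_eq_aeval_zero, ← hcoeP, ← hX, Nat.cast_zero, hshift]
    exact (hW _).2 (fun j hj hjn => hcon j hj (by omega)) i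
  · rintro ⟨h1, j₀, hj₀, hm⟩
    have hnonneg : ∀ i (n : ℤ), n < 0 → (GLin.shiftedOrbit k A lam v m (MvPolynomial.X i)).coeff n = 0 :=
      fun i n hn => by
        rw [hshift]
        exact (hW _).2 (fun j hj hjn => by have := h1 j hj; omega) i
    have hP : ∀ i, ∃ P : Polynomial k, P.toLaurent = GLin.shiftedOrbit k A lam v m (MvPolynomial.X i) := by
      intro i
      refine ⟨∑ n ∈ (GLin.shiftedOrbit k A lam v m (MvPolynomial.X i)).coeff.support,
        Polynomial.monomial n.toNat ((GLin.shiftedOrbit k A lam v m (MvPolynomial.X i)).coeff n), ?_⟩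
      conv_rhs => rw [← AddMonoidAlgebra.sum_coeff_single (GLin.shiftedOrbit k A lam v m (MvPolynomial.X i))]
      rw [map_sum, Finsupp.sum]
      refine Finset.sum_congr rfl fun n hn => ?_
      have h0n : 0 ≤ n := by
        by_contra hlt
        exact Finsupp.mem_support_iff.1 hn (hnonneg i n (by omega))
      rw [← Polynomial.C_mul_X_pow_eq_monomial, Polynomial.toLaurent_C_mul_X_pow,
        Int.toNat_of_nonneg h0n, LaurentPolynomial.single_eq_C_mul_T]
    choose P hP using hP
    refine ⟨MvPolynomial.aeval P, MvPolynomial.algHom_ext fun i => ?_, fun hz => ?_⟩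
    · rw [AlgHom.comp_apply, MvPolynomial.aeval_X]
      exact hP i
    · refine (hW (-m)).1 (fun i => ?_) j₀ hj₀ (by omega)
      have hzi := congrArg (fun f : MvPolynomial ι k →ₐ[k] k => f (MvPolynomial.X i)) hz
      simp only [AlgHom.comp_apply, MvPolynomial.aeval_X] at hzi
      rw [← Polynomial.coeff_zero_eq_aeval_zero] at hzi
      rw [show -m = ((0 : ℕ) : ℤ) - m by simp, ← hshift, ← hP, hcoeP]
      exact hzi

end Groth.Agent.S12553
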