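import Groth.Statements.S6485
import Mathlib

set_option autoImplicit false
universe u
open IntMult

namespace Groth.Agent.S6485

/-- Let k be a field and n ≥ 1. Then the determinant of the generic matrix (x_{ij})_{1 ≤ i, j ≤ n} is an
irreducible element of the polynomial ring k[x_{ij}] (Mathlib's Matrix.mvPolynomialX is the generic
matrix over MvPolynomial (Fin n × Fin n) k). -/
theorem result (k : Type u) [Field k] (n : ℕ) (hn : 1 ≤ n) : Irreducible (Matrix.mvPolynomialX (Fin n) (Fin n) k).det := by
  classical
  have main : ∀ m : ℕ, Irreducible (Matrix.mvPolynomialX (Fin (m + 1)) (Fin (m + 1)) k).det := by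
    intro m
    induction m with
    | zero =>
      have h1 : (Matrix.mvPolynomialX (Fin 1) (Fin 1) k).det =
          1 * MvPolynomial.X ((0 : Fin 1), (0 : Fin 1)) + 0 := by
        simp [Matrix.det_fin_one, Matrix.mvPolynomialX_apply]
      rw [h1]
      exact MvPolynomial.irreducible_mul_X_add 1 0 _ one_ne_zero (by simp) (by simp) isRelPrime_one_left
    | succ m ih =>
      set X' := Matrix.mvPolynomialX (Fin (m + 2)) (Fin (m + 2)) k with hX'
      set M := (X'.submatrix Fin.succ Fin.succ).det with hM
      set o : Fin (m + 2) × Fin (m + 2) := (0, 0) with ho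
      set g := ∑ j : Fin (m + 1), (-1 : MvPolynomial (Fin (m + 2) × Fin (m + 2)) k) ^ ((j.succ : Fin (m + 2)) : ℕ) *
        X' 0 j.succ * (X'.submatrix Fin.succ (Fin.succAbove j.succ)).det with hg
      have hdet : X'.det = M * MvPolynomial.X o + g := by
        rw [Matrix.det_succ_row_zero, Fin.sum_univ_succ, hg, hM, ho]
        simp [hX', Matrix.mvPolynomialX_apply]
        ring
      have hsub : ∀ c : Fin (m + 1) → Fin (m + 2),
          (X'.submatrix Fin.succ c).det ∈ MvPolynomial.supported k {x | x ≠ o} := by
        intro c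
        rw [Matrix.det_apply]
        refine Subalgebra.sum_mem _ fun σ _ => ?_
        rw [Units.smul_def]
        refine Subalgebra.zsmul_mem _ (Subalgebra.prod_mem _ fun i _ => ?_) _
        rw [MvPolynomial.supported_eq_adjoin_X]
        exact Algebra.subset_adjoin ⟨((σ i).succ, c i), by simp [ho, Fin.succ_ne_zero], rfl⟩
      have hgsup : g ∈ MvPolynomial.supported k {x | x ≠ o} := by
        rw [hg]
        refine Subalgebra.sum_mem _ fun j _ => Subalgebra.mul_mem _ (Subalgebra.mul_mem _
          (Subalgebra.pow_mem _ (Subalgebra.neg_mem _ (Subalgebra.one_mem _)) _) ?_) (hsub _)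
        rw [MvPolynomial.supported_eq_adjoin_X]
        exact Algebra.subset_adjoin ⟨(0, j.succ), by simp [ho, Fin.succ_ne_zero], rfl⟩
      have hMr : M = MvPolynomial.rename (Prod.map Fin.succ Fin.succ)
          (Matrix.mvPolynomialX (Fin (m + 1)) (Fin (m + 1)) k).det := by
        rw [hM, AlgHom.map_det]
        congr 1
        ext a b
        simp [hX', Matrix.mvPolynomialX_apply]
      have hMne : M ≠ 0 := by
        rw [hMr, ne_eq, map_eq_zero_iff _ (MvPolynomial.rename_injective _ (Fin.succ_injective _ |>.prodMap (Fin.succ_injective _)))]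
        exact ih.ne_zero
      have hio : ∀ f ∈ MvPolynomial.supported k {x | x ≠ o}, o ∉ f.vars := fun f hf h =>
        (MvPolynomial.mem_supported.1 hf h) rfl
      rw [hdet]
      refine MvPolynomial.irreducible_mul_X_add M g o hMne (hio _ (hsub _)) (hio _ hgsup) ?_
      intro d hdM hdg
      obtain ⟨c, hc⟩ := hdM
      by_contra hd
      obtain ⟨d', hd'⟩ : ∃ d', d = MvPolynomial.rename (Prod.map Fin.succ Fin.succ) d' := by
        have hdne : d ≠ 0 := left_ne_zero_of_mul (hc ▸ hMne)
        have hcne : c ≠ 0 := right_ne_zero_of_mul (hc ▸ hMne)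
        obtain ⟨q, hq⟩ := MvPolynomial.exists_rename_eq_of_vars_subset_range d
          (Prod.map Fin.succ Fin.succ : Fin (m + 1) × Fin (m + 1) → Fin (m + 2) × Fin (m + 2))
          (Fin.succ_injective _ |>.prodMap (Fin.succ_injective _)) (by
            intro x hx
            have hxd : x ∈ M.vars := by
              rw [Finset.mem_coe, MvPolynomial.mem_vars_iff_degreeOf_ne_zero] at hx
              rw [MvPolynomial.mem_vars_iff_degreeOf_ne_zero]
              rw [hc, MvPolynomial.degreeOf_mul_eq hdne hcne]
              omega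
            rw [hMr] at hxd
            obtain ⟨y, -, rfl⟩ := Finset.mem_image.1 (MvPolynomial.vars_rename _ _ hxd)
            exact ⟨y, rfl⟩)
        exact ⟨q, hq.symm⟩
      let swap : Equiv.Perm (Fin (m + 2)) := Equiv.swap 0 1
      let pt : Fin (m + 2) × Fin (m + 2) → k := fun x => swap.permMatrix k x.1 x.2
      have hev : MvPolynomial.eval pt X'.det ≠ 0 := by
        rw [hX', RingHom.map_det, RingHom.mapMatrix_apply,
          show (Matrix.mvPolynomialX (Fin (m + 2)) (Fin (m + 2)) k).map ⇑(MvPolynomial.eval pt) = swap.permMatrix k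
            from Matrix.ext fun i j => by simp [Matrix.mvPolynomialX_apply, pt], Matrix.det_permutation]
        simp [swap]
      have hM0 : MvPolynomial.eval pt M = 0 := by
        rw [hM, RingHom.map_det]
        refine Matrix.det_eq_zero_of_row_eq_zero 0 fun j => ?_
        simp [hX', Matrix.mvPolynomialX_apply, pt, swap, Equiv.Perm.permMatrix, Fin.succ_ne_zero,
          (Fin.succ_ne_zero j).symm]
      have hdM' : d' ∣ (Matrix.mvPolynomialX (Fin (m + 1)) (Fin (m + 1)) k).det := by
        have hh : d ∣ M := ⟨c, hc⟩
        rw [hd', hMr] at hh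
        have := map_dvd (MvPolynomial.killCompl (R := k)
          (Fin.succ_injective (m + 1) |>.prodMap (Fin.succ_injective (m + 1)))) hh
        rwa [MvPolynomial.killCompl_rename_app, MvPolynomial.killCompl_rename_app] at this
      have hdd : M ∣ g := by
        rcases ih.isUnit_or_isUnit hdM'.choose_spec with hu | hu
        · exact absurd (hd' ▸ hu.map _) hd
        · refine Dvd.dvd.trans ?_ hdg
          have hass : Associated (Matrix.mvPolynomialX (Fin (m + 1)) (Fin (m + 1)) k).det d' :=
            (Associated.of_eq hdM'.choose_spec).trans (associated_mul_unit_left d' _ hu)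
          rw [hd', hMr]
          exact map_dvd _ hass.dvd
      obtain ⟨t, ht⟩ := hdd
      apply hev
      rw [hdet, map_add, map_mul, ht, map_mul, hM0, zero_mul, zero_mul, add_zero]
  obtain ⟨m, rfl⟩ := Nat.exists_eq_add_of_le' hn
  exact main m
end Groth.Agent.S6485
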