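import Groth.Statements.S1256
import Groth.Agent.FlatMorDevissage.Cover
import Groth.Agent.FlatMorDevissage.ZeroDevissage

set_option autoImplicit false
universe u
open FlatMor TensorProduct

set_option backward.isDefEq.respectTransparency false

namespace Groth.Agent.S1256

/-- Ring form, X = Spec B and S = Spec A affine: let B be a finite type A-algebra, N a finite B-module
and p a prime of A. Then there is an étale A-algebra A' with a prime p' over p having the same
residue field such that, for the base changes B_{A'}, N_{A'} (any models), there are finitely many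
étale B_{A'}-algebras C_i with base changes N_i of N_{A'}, each N_i/C_i/A' admitting a complete
dévissage over p', such that every prime of B_{A'} over p' is the contraction of a prime of some
C_i. -/
theorem result {A B : Type u} [CommRing A] [CommRing B] [Algebra A B] [Algebra.FiniteType A B]
    (N : Type u) [AddCommGroup N] [Module B N] [Module.Finite B N] (p : Ideal A) [p.IsPrime] :
    ∃ (A' : Type u) (_ : CommRing A') (_ : Algebra A A') (p' : Ideal A') (_ : p'.IsPrime), FlatCA.IsEtaleNhd A A' p p' ∧
      ∀ (BA NA : Type u) [CommRing BA] [Algebra B BA] [Algebra A' BA] [Algebra A BA] [IsScalarTower A B BA] [IsScalarTower A A' BA]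
        [Algebra.IsPushout A B A' BA]
        [AddCommGroup NA] [Module BA NA] [Module B NA] [IsScalarTower B BA NA]
        (fA : N →ₗ[B] NA), IsBaseChange BA fA →
        ∃ (k : ℕ) (C : Fin k → Type u) (_ : ∀ i, CommRing (C i)) (_ : ∀ i, Algebra BA (C i)) (_ : ∀ i, Algebra A' (C i))
          (_ : ∀ i, IsScalarTower A' BA (C i))
          (Nc : Fin k → Type u) (_ : ∀ i, AddCommGroup (Nc i)) (_ : ∀ i, Module (C i) (Nc i)) (_ : ∀ i, Module BA (Nc i))
          (_ : ∀ i, IsScalarTower BA (C i) (Nc i)) (g : ∀ i, NA →ₗ[BA] Nc i),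
          (∀ i, Algebra.Etale BA (C i) ∧ IsBaseChange (C i) (g i) ∧ Nonempty (FlatCA.CompleteDevissage A' (C i) (Nc i) p')) ∧
          ∀ (Q : Ideal BA) [Q.IsPrime], Q.LiesOver p' → ∃ (i : Fin k) (Q' : Ideal (C i)), Q'.IsPrime ∧ Q'.comap (algebraMap BA (C i)) = Q := by
  obtain ⟨A', _, _, p', _, k, C, _, _, _, _, _, _, hR, hC, hcov⟩ :=
    FlatMorDevissage.exists_chain_cover (R := A) (S := B) N p
  refine ⟨A', inferInstance, inferInstance, p', inferInstance, hR, ?_⟩
  intro BA NA _ _ _ _ _ _ _ _ _ _ _ fA hfA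
  have := hR.1
  have : Algebra.IsPushout A A' B BA := Algebra.IsPushout.symm ‹_›
  have hBA : Algebra.Etale B BA :=
    Algebra.Etale.of_equiv (Algebra.IsPushout.equiv A B A' BA)
  let θ : ∀ i, BA →ₐ[A] C i := fun i => Algebra.pushoutDesc BA (IsScalarTower.toAlgHom A B (C i))
    (IsScalarTower.toAlgHom A A' (C i)) fun _ _ => mul_comm _ _
  let aC : ∀ i, Algebra BA (C i) := fun i => (θ i).toRingHom.toAlgebra
  have tB : ∀ i, IsScalarTower B BA (C i) := fun i => .of_algebraMap_eq fun b => by
    show _ = θ i (algebraMap B BA b)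
    simp only [θ, Algebra.pushoutDesc_left]
    rfl
  have tA : ∀ i, IsScalarTower A' BA (C i) := fun i => .of_algebraMap_eq fun b => by
    show _ = θ i (algebraMap A' BA b)
    simp only [θ, Algebra.pushoutDesc_right]
    rfl
  refine ⟨k, C, inferInstance, aC, inferInstance, tA, fun i => C i ⊗[BA] NA, inferInstance,
    inferInstance, inferInstance, inferInstance, fun i => TensorProduct.mk BA (C i) NA 1,
    fun i => ?_, fun Q _ hQ => ?_⟩
  · obtain ⟨hCe, hCp⟩ := hC i
    refine ⟨Algebra.Etale.of_restrictScalars B _ _, TensorProduct.isBaseChange BA NA (C i), ?_⟩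
    rcases hCp (C i ⊗[BA] NA) ((TensorProduct.mk BA (C i) NA 1).restrictScalars B ∘ₗ fA)
      (hfA.comp (TensorProduct.isBaseChange BA NA (C i))) with h | ⟨q', _, hq', hch⟩
    · exact FlatMorDevissage.nonempty_completeDevissage_of_subsingleton A' (C i) (C i ⊗[BA] NA) p'
    · obtain ⟨D, -⟩ := hch.hasCompleteDevissageAt
      exact ⟨D⟩
  · obtain ⟨he, ho, hb⟩ := id hR
    have hq : (Q.comap (algebraMap B BA)).LiesOver p := ⟨by
      rw [Ideal.under, Ideal.comap_comap, ← IsScalarTower.algebraMap_eq,
        IsScalarTower.algebraMap_eq A A' BA, ← Ideal.comap_comap]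
      exact ho.over.trans (congrArg _ hQ.over)⟩
    obtain ⟨i, Q', hQ', hQ'p, hQ'q⟩ := hcov _ hq
    have : (Q'.comap (algebraMap BA (C i))).LiesOver p' := ⟨by
      rw [Ideal.under, Ideal.comap_comap, ← IsScalarTower.algebraMap_eq]
      exact hQ'p.over⟩
    refine ⟨i, Q', hQ', FlatMorDevissage.eq_of_isPushout (S := B) p p' hb _ _ ?_⟩
    rw [Ideal.comap_comap, ← IsScalarTower.algebraMap_eq]
    exact hQ'q

end Groth.Agent.S1256
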