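import Groth.Statements.S12577
import Groth.Agent.CommAlg4.DiffExpGalois
-- import your own Groth.Agent.* helpers here

set_option autoImplicit false
universe u v w
set_option backward.isDefEq.respectTransparency false
open FunFld

namespace Groth.Agent.S12577

/-- For a place `Q` of a finite Galois extension `K'` of a geometric function field of one variable
`K/k`, lying over `P` with ramification index `e`, both places with Laurent expansions over `k` in
local parameters (separable places), the different exponent is `d(Q|P) = ∑_{i ≥ 1} (|G_i| - 1)`,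
where `G_i` is the `i`-th ramification group (automorphisms moving every element of `O_Q` by
something of valuation at least `i`); `d(Q|P)` is computed on `dx`. -/
theorem result (k : Type u) (K K' : Type v) [Field k] [Field K] [Field K'] [Algebra k K] [Algebra K K'] [Algebra k K']
    [IsScalarTower k K K'] [FiniteDimensional K K'] (hK : FunFld.IsFunctionField k K) (hg : FunFld.IsGeometric k K)
    [IsGalois K K']
    (F F' : Type w) [Field F] [Algebra k F] [Field F'] [Algebra k F']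
    (P : FunFld.Place k K) (Q : FunFld.Place k K') (e : ℕ) (he : FunFld.IsOverWith Q P e)
    (φ : K →ₐ[k] LaurentSeries F) (hφ : LocRes.IsExpansionAt P.1 φ)
    (ψ : K' →ₐ[k] LaurentSeries F') (hψ : LocRes.IsExpansionAt Q.1 ψ)
    (x : K) (hx : LocRes.vDiff φ 1 x ≠ 0) (hx' : LocRes.vDiff ψ 1 (algebraMap K K' x) ≠ 0) :
    (Function.support fun i : ℕ => (Nat.card {σ : K' ≃ₐ[K] K' //
        ∀ z : K', Q.1 z ≤ 1 → Q.1 (σ z - z) ≤ WithZero.exp (-(i : ℤ))} : ℤ) - 1).Finite ∧
    LocRes.diffExp φ ψ e x = ∑ᶠ i : ℕ, if 1 ≤ i then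
      (Nat.card {σ : K' ≃ₐ[K] K' // ∀ z : K', Q.1 z ≤ 1 → Q.1 (σ z - z) ≤ WithZero.exp (-(i : ℤ))} : ℤ) - 1
      else 0 := by
  classical
  obtain ⟨t, ht, hDt⟩ := Groth.Agent.FF.exists_val_exp_neg_one hφ
  have hDt0 : LocRes.D F (φ t) ≠ 0 := fun h => by rw [h, map_zero] at hDt; exact zero_ne_one hDt
  have htK := Groth.Agent.FF.D_ne_zero_of_exp φ hDt0
  obtain ⟨-, hne⟩ := Groth.Agent.FF.diffExp_eq hK hg he hφ hψ hx hx' ht
  haveI := Groth.Agent.CommAlg4.DiffExpGalois.finite_and_separable_residue hK hg hψ htK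
    (fun h => hne (by rw [h, map_zero]))
  obtain ⟨s, hs⟩ := hψ.2.2
  let I : Finset (K' ≃ₐ[K] K') := Finset.univ.filter fun σ => σ ∈ Groth.Agent.FF.inertiaG K Q
  have hI : ∀ σ, σ ∈ I ↔ σ ∈ Groth.Agent.FF.inertiaG K Q := fun σ => by simp [I]
  have hd := Groth.Agent.CommAlg4.DiffExpGalois.diffExp_eq_sum hK hg he hφ hψ hx hx' hs I hI
  set o : (K' ≃ₐ[K] K') → ℤ := fun σ => Q.ord (σ s - s) with ho
  have hmove : ∀ σ ∈ I.erase 1, σ s - s ≠ 0 := fun σ hσ h => by
    obtain ⟨hσ1, hσI⟩ := Finset.mem_erase.mp hσ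
    refine hσ1 (AlgEquiv.ext fun z => ?_)
    have hint : ∀ z, Q.1 z ≤ 1 → σ z = z := fun z hz => by
      by_contra hzne
      obtain ⟨m, hm⟩ : ∃ m : ℤ, Q.1 (σ z - z) = WithZero.exp m :=
        ⟨_, (WithZero.exp_log ((map_ne_zero Q.1).mpr (sub_ne_zero.mpr hzne))).symm⟩
      have h2 := (Groth.Agent.FF.sub_le_iff_uniformizer hK.1 ((hI σ).mp hσI) hs ((-m).toNat + 1)).mpr
        (by rw [h, map_zero]; exact zero_le) z hz
      rw [hm, WithZero.exp_le_exp] at h2
      omega
    rcases le_total (Q.1 z) 1 with hz | hz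
    · exact hint z hz
    · have h2 := hint z⁻¹ (by rw [map_inv₀]; exact inv_le_one_of_one_le₀ hz)
      rw [map_inv₀, inv_inj] at h2
      exact h2
  have hmem : ∀ i : ℕ, 1 ≤ i → ∀ σ : K' ≃ₐ[K] K',
      (∀ z : K', Q.1 z ≤ 1 → Q.1 (σ z - z) ≤ WithZero.exp (-(i : ℤ))) ↔ σ = 1 ∨ (σ ∈ I.erase 1 ∧ (i : ℤ) ≤ o σ) := fun i hi σ => by
    rcases eq_or_ne σ 1 with rfl | hσ1
    · simp
    simp only [Finset.mem_erase, ne_eq, hσ1, not_false_eq_true, true_and, false_or]
    constructor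
    · intro h
      have hσ := Groth.Agent.FF.mem_inertia_of_le hi h
      refine ⟨(hI σ).mpr hσ, ?_⟩
      have h1 := (Groth.Agent.FF.sub_le_iff_uniformizer hK.1 hσ hs i).mp h
      rw [Groth.Agent.FF.val_eq_exp_neg_ord Q (hmove σ (Finset.mem_erase.mpr ⟨hσ1, (hI σ).mpr hσ⟩)),
        WithZero.exp_le_exp] at h1
      simp only [ho]; omega
    · rintro ⟨hσI, hio⟩
      refine (Groth.Agent.FF.sub_le_iff_uniformizer hK.1 ((hI σ).mp hσI) hs i).mpr ?_
      rw [Groth.Agent.FF.val_eq_exp_neg_ord Q (hmove σ (Finset.mem_erase.mpr ⟨hσ1, hσI⟩)), WithZero.exp_le_exp]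
      simp only [ho] at hio; omega
  have hcard : ∀ i : ℕ, 1 ≤ i → (Nat.card {σ : K' ≃ₐ[K] K' //
      ∀ z : K', Q.1 z ≤ 1 → Q.1 (σ z - z) ≤ WithZero.exp (-(i : ℤ))} : ℤ) - 1 =
        ∑ σ ∈ I.erase 1, (if (i : ℤ) ≤ o σ then (1 : ℤ) else 0) := fun i hi => by
    have e : (Finset.univ.filter fun σ : K' ≃ₐ[K] K' =>
        ∀ z : K', Q.1 z ≤ 1 → Q.1 (σ z - z) ≤ WithZero.exp (-(i : ℤ))) =
          insert 1 ((I.erase 1).filter fun σ => (i : ℤ) ≤ o σ) := by
      ext σ
      simp only [Finset.mem_filter, Finset.mem_univ, true_and, Finset.mem_insert]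
      exact hmem i hi σ
    rw [Nat.card_eq_fintype_card, Fintype.card_subtype, e, Finset.card_insert_of_notMem (by simp), Finset.sum_boole]
    push_cast
    ring
  set N : ℕ := (I.erase 1).sup fun σ => (o σ).toNat with hN
  have hlarge : ∀ i : ℕ, N + 1 ≤ i → ∑ σ ∈ I.erase 1, (if (i : ℤ) ≤ o σ then (1 : ℤ) else 0) = 0 := fun i hi =>
    Finset.sum_eq_zero fun σ hσ => by
      have := Finset.le_sup (f := fun σ => (o σ).toNat) hσ
      have := Int.self_le_toNat (o σ)
      rw [if_neg]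
      omega
  have ho1 : ∀ σ ∈ I.erase 1, 0 ≤ o σ := fun σ hσ => by
    have h1 : Q.1 (σ s - s) < 1 := (hI σ).mp (Finset.mem_of_mem_erase hσ) s (by
      rw [hs, ← WithZero.exp_zero, WithZero.exp_le_exp]; omega)
    rw [Groth.Agent.FF.val_eq_exp_neg_ord Q (hmove σ hσ), ← WithZero.exp_zero, WithZero.exp_lt_exp] at h1
    simp only [ho]; omega
  refine ⟨(Finset.range (N + 1)).finite_toSet.subset fun i hi => ?_, ?_⟩
  · by_contra hc
    simp only [Finset.coe_range, Set.mem_Iio, not_lt] at hc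
    exact hi ((hcard i (by omega)).trans (hlarge i hc))
  · rw [hd, finsum_eq_sum_of_support_subset _ (s := Finset.Icc 1 N) (fun i hi => by
      rw [Function.mem_support] at hi
      simp only [Finset.coe_Icc, Set.mem_Icc]
      by_cases h1 : 1 ≤ i
      · rw [if_pos h1, hcard i h1] at hi
        exact ⟨h1, by_contra fun h2 => hi (hlarge i (by omega))⟩
      · exact absurd (if_neg h1) hi),
      Finset.sum_congr rfl (g := fun i : ℕ => ∑ σ ∈ I.erase 1, (if (i : ℤ) ≤ o σ then (1 : ℤ) else 0)) (fun i hi => by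
        rw [if_pos (Finset.mem_Icc.mp hi).1, hcard i (Finset.mem_Icc.mp hi).1]),
      Finset.sum_comm]
    refine Finset.sum_congr rfl fun σ hσ => ?_
    rw [Finset.sum_boole]
    have hle := Finset.le_sup (f := fun σ => (o σ).toNat) hσ
    rw [show (Finset.Icc 1 N).filter (fun i : ℕ => (i : ℤ) ≤ o σ) = Finset.Icc 1 (o σ).toNat from by
      ext i
      simp only [Finset.mem_filter, Finset.mem_Icc]
      have := ho1 σ hσ
      omega, Nat.card_Icc]
    have := ho1 σ hσ
    change o σ = _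
    omega

end Groth.Agent.S12577
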