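import Groth.Statements.S12587
import Groth.Agent.CommAlg4.ASDiff
-- import your own Groth.Agent.* helpers here

set_option autoImplicit false
universe u v w
open FunFld

namespace Groth.Agent.S12587

set_option backward.isDefEq.respectTransparency false
set_option synthInstance.maxHeartbeats 100000
open Groth.Agent.FF Groth.Agent.CommAlg4.ASchar2 WithZero

/-- For `k` perfect of characteristic `2` and `K = k(x, y)` with `y² + y = f(x)`, all poles of `f` of
odd order `2d_i - 1` at `p_i`, and `q = ∏ p_i^{d_i}` over the finite poles, the forms `x^i dx/q(x)`,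
`0 ≤ i < g`, are a `k`-basis of the regular differential forms; regularity read through Laurent
expansions over `k` at every place; `q` is pinned up to a constant by its orders at the finite
places. -/
theorem result (k : Type u) (K : Type v) [Field k] [Field K] [Algebra k K] [Algebra (RatFunc k) K] [IsScalarTower k (RatFunc k) K]
    (hK : FunFld.IsFunctionField k K) (hdeg : Module.finrank (RatFunc k) K = 2) [PerfectField k] (h2 : ringChar k = 2)
    [Algebra.IsSeparable (RatFunc k) K]
    (y : K) (hy : y ∉ Set.range (algebraMap (RatFunc k) K)) (f : RatFunc k)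
    (heq : y ^ 2 + y = algebraMap (RatFunc k) K f)
    (hodd : ∀ p : FunFld.Place k (RatFunc k), 1 < p.1 f → Odd (p.ord f))
    (q : Polynomial k) (hq0 : q ≠ 0)
    (hq : ∀ p : FunFld.Place k (RatFunc k), p.1 RatFunc.X ≤ 1 →
      p.ord (algebraMap (Polynomial k) (RatFunc k) q) = if 1 < p.1 f then (1 - p.ord f) / 2 else 0)
    (F : FunFld.Place k K → Type w) [∀ P, Field (F P)] [∀ P, Algebra k (F P)] [∀ P, FiniteDimensional k (F P)]
    (φ : ∀ P, K →ₐ[k] LaurentSeries (F P)) (hφ : ∀ P, LocRes.IsExpansionAt P.1 (φ P)) :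
    (∀ i : ℕ, i < FunFld.genus k K → ∀ P,
      LocRes.vDiff (φ P) (algebraMap (RatFunc k) K (RatFunc.X ^ i / algebraMap (Polynomial k) (RatFunc k) q))
        (algebraMap (RatFunc k) K RatFunc.X) ≤ 1) ∧
    ∀ z : K, (∀ P, LocRes.vDiff (φ P) z (algebraMap (RatFunc k) K RatFunc.X) ≤ 1) →
      ∃ a : Polynomial k, a.degree < (FunFld.genus k K : WithBot ℕ) ∧
        z = algebraMap (RatFunc k) K (algebraMap (Polynomial k) (RatFunc k) a / algebraMap (Polynomial k) (RatFunc k) q) := by
  classical
  have hR := isFunctionField_ratFunc (k := k)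
  have key : ∀ w : K, (∀ P, LocRes.vDiff (φ P) w (algebraMap (RatFunc k) K RatFunc.X) ≤ 1) ↔
      ∃ a : Polynomial k, a.degree < (FunFld.genus k K : WithBot ℕ) ∧
        w = algebraMap (RatFunc k) K (algebraMap (Polynomial k) (RatFunc k) a / algebraMap (Polynomial k) (RatFunc k) q) := by
    have hf0 : f ≠ 0 := fun h => by
      have h1 : y * (y + 1) = 0 := by rw [mul_add, ← sq, mul_one, heq, h, map_zero]
      rcases mul_eq_zero.mp h1 with h2 | h2
      · exact hy ⟨0, by rw [map_zero, h2]⟩
      · exact hy ⟨-1, by rw [map_neg, map_one]; exact (eq_neg_of_add_eq_zero_left h2).symm⟩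
    have hbad : ∀ p : FunFld.Place k (RatFunc k), 1 < p.1 f ↔ p.ord f < 0 := fun p => by
      rw [← not_le, val_le_one_iff p hf0, not_le]
    have d : Data k K y f := ⟨h2, hdeg, hy, heq, fun p hp => hodd p ((hbad p).mpr hp)⟩
    intro w
    rw [d.regular_iff hK F φ hφ]
    let Ψ : Polynomial.degreeLT k (FunFld.genus k K) →ₗ[k] RatFunc k :=
      (LinearMap.mulRight k (algebraMap (Polynomial k) (RatFunc k) q)⁻¹).comp
        ((IsScalarTower.toAlgHom k (Polynomial k) (RatFunc k)).toLinearMap.comp
          (Polynomial.degreeLT k (FunFld.genus k K)).subtype)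
    have hΨ : ∀ a, Ψ a = algebraMap (Polynomial k) (RatFunc k) a.1 / algebraMap (Polynomial k) (RatFunc k) q :=
      fun a => (div_eq_mul_inv _ _).symm
    have hinj : Function.Injective Ψ := fun a b h => by
      rw [hΨ, hΨ, div_left_inj' (ι_ne_zero hq0)] at h
      exact Subtype.ext (IsFractionRing.injective (Polynomial k) (RatFunc k) h)
    obtain ⟨Pinf, hPd, hPinf, hPuniq, -⟩ := genus_zero_of_adjoin_eq_top hR RatFunc.adjoin_X
      (transcendental_of_adjoin_eq_top hR RatFunc.adjoin_X)
    have hfin : ∀ p : FunFld.Place k (RatFunc k), p ≠ Pinf → p.1 RatFunc.X ≤ 1 := fun p hp =>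
      (val_le_one_iff p RatFunc.X_ne_zero).mpr (hPuniq p hp)
    have hinfX : ¬ Pinf.1 RatFunc.X ≤ 1 := fun h => by
      have := (val_le_one_iff Pinf RatFunc.X_ne_zero).mp h; omega
    have hordinf := (infinite_place Pinf hinfX).2
    have hdq : wt f Pinf + q.natDegree = (FunFld.genus k K : ℤ) + 1 := by
      have e : wDiv f - FunFld.div k (algebraMap (Polynomial k) (RatFunc k) q) =
          Finsupp.single Pinf (wt f Pinf + q.natDegree) := by
        ext p
        rw [Finsupp.sub_apply, wDiv_apply, div_apply hR]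
        by_cases hp : p = Pinf
        · subst hp; rw [Finsupp.single_eq_same, hordinf q hq0]; ring
        · rw [Finsupp.single_eq_of_ne hp, hq p (hfin p hp), wt]
          simp only [hbad]
          split_ifs <;> ring
      have h1 := congrArg FunFld.Divisor.deg e
      rw [deg_sub, deg_div_eq_zero hR, deg_single, hPd, sub_zero] at h1
      have h3 := d.genus_eq hK
      push_cast at h1
      linarith
    have hle : LinearMap.range Ψ ≤ FunFld.L (diffDiv f) := by
      rintro _ ⟨⟨a, ha⟩, rfl⟩
      rw [hΨ]
      rcases eq_or_ne a 0 with rfl | ha0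
      · simp
      intro p
      rw [diffDiv, Finsupp.sub_apply, Finsupp.smul_apply, poles_apply hR, wDiv_apply, smul_eq_mul,
        val_le_exp_iff p (div_ne_zero (ι_ne_zero ha0) (ι_ne_zero hq0)), div_eq_mul_inv,
        ord_mul p (ι_ne_zero ha0) (inv_ne_zero (ι_ne_zero hq0)), ord_inv]
      by_cases hp : p = Pinf
      · subst hp
        have h1 := (Polynomial.natDegree_lt_iff_degree_lt ha0).mpr (Polynomial.mem_degreeLT.mp ha)
        rw [hordinf a ha0, hordinf q hq0, hPinf, max_eq_left (by norm_num)]
        omega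
      · have h1 := (val_le_one_iff p (ι_ne_zero ha0)).mp (val_poly_le_one p (hfin p hp) a)
        rw [hq p (hfin p hp), max_eq_right (by have := hPuniq p hp; omega), wt]
        simp only [hbad]
        split_ifs <;> omega
    haveI := finiteDimensional_L hR (diffDiv f)
    have heqL : LinearMap.range Ψ = FunFld.L (diffDiv f) := by
      refine Submodule.eq_of_le_of_finrank_le hle ?_
      rw [LinearMap.finrank_range_of_inj hinj, (Polynomial.degreeLTEquiv k _).finrank_eq, Module.finrank_fin_fun]
      exact (d.ell_diffDiv hK).le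
    constructor
    · rintro ⟨a, ha, rfl⟩
      rw [← heqL] at ha
      obtain ⟨c, rfl⟩ := ha
      exact ⟨c.1, Polynomial.mem_degreeLT.mp c.2, by rw [hΨ]⟩
    · rintro ⟨a, ha, rfl⟩
      exact ⟨_, hle ⟨⟨a, Polynomial.mem_degreeLT.mpr ha⟩, hΨ _⟩, rfl⟩
  refine ⟨fun i hi => (key _).mpr ⟨Polynomial.X ^ i, ?_, ?_⟩, fun z hz => (key z).mp hz⟩
  · rw [Polynomial.degree_X_pow]; exact_mod_cast hi
  · rw [map_pow (algebraMap (Polynomial k) (RatFunc k)), RatFunc.algebraMap_X]

end Groth.Agent.S12587
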