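import Groth.Statements.S12588
import Groth.Agent.FF.Quadratic
import Groth.Agent.FF.DiffExp

set_option autoImplicit false
universe u v w
open FunFld

namespace Groth.Agent.S12588

open WithZero Groth.Agent.FF


/-- For `k` perfect of characteristic `2`, `K` separable of degree `2` over `k(x)` with `y² + y = f(x)`,
and a place `p` of `k(x)` where `f` has a pole whose order `2d - 1` is odd: a place `P` of `K` above
`p` with ramification index `e` (necessarily `e = 2`, `P` unique) has different exponent `d(P|p) =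
2d = 1 - ord_p(f)`; the exponent is computed on `dz` through Laurent expansions over `k` at `p` and
`P`. -/
theorem result (k : Type u) (K : Type v) [Field k] [Field K] [Algebra k K] [Algebra (RatFunc k) K] [IsScalarTower k (RatFunc k) K]
    (hK : FunFld.IsFunctionField k K) (hdeg : Module.finrank (RatFunc k) K = 2) [PerfectField k] (h2 : ringChar k = 2)
    [Algebra.IsSeparable (RatFunc k) K]
    (y : K) (hy : y ∉ Set.range (algebraMap (RatFunc k) K)) (f : RatFunc k)
    (heq : y ^ 2 + y = algebraMap (RatFunc k) K f)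
    (p : FunFld.Place k (RatFunc k)) (hp : 1 < p.1 f) (hodd : Odd (p.ord f))
    (P : FunFld.Place k K) (e : ℕ) (he : FunFld.IsOverWith P p e)
    (F F' : Type w) [Field F] [Algebra k F] [Field F'] [Algebra k F']
    (φ : RatFunc k →ₐ[k] LaurentSeries F) (hφ : LocRes.IsExpansionAt p.1 φ)
    (ψ : K →ₐ[k] LaurentSeries F') (hψ : LocRes.IsExpansionAt P.1 ψ)
    (z : RatFunc k) (hz : LocRes.vDiff φ 1 z ≠ 0) (hz' : LocRes.vDiff ψ 1 (algebraMap (RatFunc k) K z) ≠ 0) :
    LocRes.diffExp φ ψ e z = 1 - p.ord f := by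
  have : FiniteDimensional (RatFunc k) K := Module.finite_of_finrank_pos (by omega)
  have hK0 := isFunctionField_ratFunc (k := k)
  have hsep : Algebra.IsSeparable (IntermediateField.adjoin k ({(RatFunc.X : RatFunc k)} : Set (RatFunc k))) (RatFunc k) := by
    rw [RatFunc.adjoin_X]
    exact ⟨fun x => isSeparable_algebraMap (⟨x, trivial⟩ : (⊤ : IntermediateField k (RatFunc k)))⟩
  have hg0 := isGeometric_of_separating hK0 (transcendental_of_adjoin_eq_top hK0 RatFunc.adjoin_X)
  have hf0 : f ≠ 0 := fun h => by rw [h, map_zero] at hp; exact not_lt_zero hp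
  have hbig : 1 < P.1 y := by
    by_contra hc
    have hle : P.1 (algebraMap (RatFunc k) K f) ≤ 1 := by
      rw [← heq]
      exact (P.1.map_add _ _).trans (max_le (by rw [map_pow]; exact pow_le_one' (not_lt.mp hc) 2) (not_lt.mp hc))
    exact not_lt.mpr ((ow_le_one_iff he f).mp hle) hp
  have hsum : P.1 (algebraMap (RatFunc k) K f) = P.1 y ^ 2 := by
    rw [← heq, Valuation.map_add_eq_of_lt_left P.1 ?_, map_pow]
    rw [map_pow, sq]
    calc P.1 y = 1 * P.1 y := (one_mul _).symm
      _ < P.1 y * P.1 y := mul_lt_mul_of_pos_right hbig (lt_trans zero_lt_one hbig)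
  have h1 := ow_ord_eq he f
  rw [FunFld.Place.ord, hsum, log_pow, nsmul_eq_mul] at h1
  push_cast at h1
  have he2 : e = 2 := by
    have hle := ramIdx_le_two isFF'_ratFunc hdeg he
    have hpos := ow_pos he
    have h3 : Even ((e : ℤ) * p.ord f) := ⟨-log (P.1 y), by linarith⟩
    rcases Int.even_mul.mp h3 with h | h
    · obtain ⟨r, hr⟩ := h; omega
    · exact absurd h (Int.not_even_iff_odd.mpr hodd)
  subst he2
  set m := p.ord f with hm
  have hvy : P.1 y = exp (-m) := by
    rw [← exp_log (lt_trans zero_lt_one hbig).ne']; congr 1; omega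
  have hmF : ∀ (L : Type w) [Field L] [Algebra k L], (m : L) ≠ 0 ∧ (2 : L) = 0 := fun L _ _ => by
    have h20 : (2 : k) = 0 := by
      have := ringChar.Nat.cast_ringChar (R := k)
      rw [h2] at this; exact_mod_cast this
    have h2L : (2 : L) = 0 := by rw [← map_ofNat (algebraMap k L) 2, h20, map_zero]
    obtain ⟨r, hr⟩ := hodd
    refine ⟨?_, h2L⟩
    rw [hr]; push_cast; rw [h2L, zero_mul, zero_add]; exact one_ne_zero
  obtain ⟨t, ht, hDt⟩ := exists_val_exp_neg_one hφ
  obtain ⟨hd, hne⟩ := diffExp_eq hK0 hg0 he hφ hψ hz hz' ht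
  rw [hd]
  have hDt0 : LocRes.D F (φ t) ≠ 0 := fun h => by rw [h, map_zero] at hDt; exact zero_ne_one hDt
  obtain ⟨c, hc⟩ := exists_smul_D hK0 hg0 (D_ne_zero_of_exp φ hDt0) f
  have hvc : p.1 c = exp (-(m - 1)) := by
    have h := valued_D_eq_of_ord (T := φ f) (m := m) (by rw [hφ.1, val_eq_exp_neg_ord p hf0]) (hmF F).1
    rwa [D_rel φ hc, map_mul, hDt, mul_one, hφ.1] at h
  have h4 := valued_D_eq_of_ord (T := ψ y) (m := m) (by rw [hψ.1, hvy]) (hmF F').1
  have h5 : LocRes.D F' (ψ (algebraMap (RatFunc k) K f)) = LocRes.D F' (ψ y) := by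
    rw [← heq, map_add ψ, map_pow ψ, map_add, sq, Derivation.leibniz, ← two_smul (LaurentSeries F')]
    have : (2 : LaurentSeries F') = 0 := by
      rw [← map_ofNat (HahnSeries.C : F' →+* LaurentSeries F') 2, (hmF F').2, map_zero]
    rw [this, zero_smul, zero_add]
  rw [← h5, D_rel_above ψ hc, map_mul, hψ.1, he c, hvc, ← exp_nsmul, ← exp_log hne, ← exp_add, exp_inj,
    nsmul_eq_mul] at h4
  push_cast at h4
  omega

end Groth.Agent.S12588
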