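import Groth.Statements.S12591
import Groth.Agent.CommAlg4.ConstExtSplit
-- import your own Groth.Agent.* helpers here

set_option autoImplicit false
universe u v
open FunFld

namespace Groth.Agent.S12591

/-- Every place `P` of a geometric function field of one variable `K/k` has a splitting field of finite
degree over `k`: a finite extension `k'` such that every place of `k' ⊗_k K` above `P` has degree
one over `k'`. (The finiteness of the set of singular places and the existence of a purely
inseparable `k'` making `k' ⊗_k K` nonsingular are not stated here.) -/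
theorem result (k : Type u) (K : Type v) [Field k] [Field K] [Algebra k K]
    (hK : FunFld.IsFunctionField k K) (hg : FunFld.IsGeometric k K) (P : FunFld.Place k K) :
    ∃ (k' : Type u) (_ : Field k') (_ : Algebra k k'), FiniteDimensional k k' ∧
      ∀ (K' : Type v) [Field K'] [Algebra K K'] [Algebra k' K'] [Algebra k K']
        [IsScalarTower k k' K'] [IsScalarTower k K K'],
        Function.Bijective (Algebra.TensorProduct.productMap
          (IsScalarTower.toAlgHom k k' K') (IsScalarTower.toAlgHom k K K')) →
        ∀ Q : FunFld.Place k' K', P.1.HasExtension Q.1 → Q.deg = 1 := by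
  obtain ⟨x, m, hm, hx, hord⟩ := Groth.Agent.FF.exists_poles_eq_single' hK.1 P
  obtain ⟨k', hf, ha, hfd, hk'⟩ := Groth.Agent.CommAlg4.ConstExt.exists_split hK hg hx
  refine ⟨k', hf, ha, hfd, fun K' _ _ _ _ _ _ h Q hQ => hk' K' h Q ?_⟩
  rw [← not_le, Valuation.HasExtension.val_map_le_one_iff (vA := Q.1) (vR := P.1)]
  intro hle
  have h0 := hord P
  rw [Finsupp.single_eq_same] at h0
  have hx0 : x ≠ 0 := fun h' => hx (h' ▸ isAlgebraic_zero)
  have := (Groth.Agent.FF.val_le_one_iff P hx0).1 hle
  omega

end Groth.Agent.S12591
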