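import Groth.Statements.S12593
import Groth.Agent.FF.Extension
-- import your own Groth.Agent.* helpers here

set_option autoImplicit false
universe u v
open FunFld

namespace Groth.Agent.S12593

/-- Every divisor of `K̄ = k̄ ⊗_k K`, for a geometric function field of one variable `K/k`, is defined
over a finite extension `k'` of `k`; stated for a single place `Q` of `K̄/k̄`: for some finite `k' ⊆
k̄`, the field `K' = k'K ⊆ K̄` contains a local parameter at `Q` and `Q` is the only place of `K̄`
above its restriction to `K'` (so `Q` is the conorm of the point `Q ∩ K'`). -/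
theorem result (k kbar : Type u) (K Kbar : Type v) [Field k] [Field kbar] [Field K] [Field Kbar]
    [Algebra k kbar] [IsAlgClosure k kbar] [Algebra k K] [Algebra K Kbar] [Algebra kbar Kbar] [Algebra k Kbar]
    [IsScalarTower k kbar Kbar] [IsScalarTower k K Kbar]
    (h : Function.Bijective (Algebra.TensorProduct.productMap
      (IsScalarTower.toAlgHom k kbar Kbar) (IsScalarTower.toAlgHom k K Kbar)))
    (hK : FunFld.IsFunctionField k K) (hg : FunFld.IsGeometric k K) (Q : FunFld.Place kbar Kbar) :
    ∃ k' : IntermediateField k kbar, FiniteDimensional k k' ∧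
      (∃ z ∈ Algebra.adjoin K (Set.range fun c : k' => algebraMap kbar Kbar c), Q.1 z = WithZero.exp (-1)) ∧
      ∀ Q' : FunFld.Place kbar Kbar,
        (∃ e : ℕ, ∀ z ∈ Algebra.adjoin K (Set.range fun c : k' => algebraMap kbar Kbar c), Q'.1 z = Q.1 z ^ e) → Q' = Q := by
  classical
  haveI : Algebra.IsAlgebraic k kbar := IsAlgClosure.isAlgebraic
  obtain ⟨x, hx, hfd⟩ := hK.1
  set xb := algebraMap K Kbar x with hxb
  let L : IntermediateField kbar Kbar := IntermediateField.adjoin kbar {xb}
  have hmap : ∀ r ∈ IntermediateField.adjoin k ({x} : Set K), algebraMap K Kbar r ∈ L := by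
    intro r hr
    induction hr using IntermediateField.adjoin_induction with
    | mem a ha =>
      rw [Set.mem_singleton_iff] at ha
      subst ha
      exact IntermediateField.mem_adjoin_simple_self _ _
    | algebraMap c =>
      rw [← IsScalarTower.algebraMap_apply k K Kbar, IsScalarTower.algebraMap_apply k kbar Kbar]
      exact L.algebraMap_mem _
    | add a b _ _ ha hb => rw [map_add]; exact add_mem ha hb
    | inv a _ ha => rw [map_inv₀]; exact inv_mem ha
    | mul a b _ _ ha hb => rw [map_mul]; exact mul_mem ha hb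
  have hFF : Groth.Agent.FF.IsFF' kbar Kbar := by
    refine ⟨xb, fun halg => hx ((isAlgebraic_algebraMap_iff (algebraMap K Kbar).injective).mp
      (IsAlgebraic.restrictScalars k halg)), ?_⟩
    show FiniteDimensional L Kbar
    let ω := Module.finBasis (IntermediateField.adjoin k ({x} : Set K)) K
    refine Module.Finite.of_surjective (Fintype.linearCombination L fun i => algebraMap K Kbar (ω i)) fun z => ?_
    obtain ⟨t, rfl⟩ := h.2 z
    induction t using TensorProduct.induction_on with
    | zero => exact ⟨0, by simp⟩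
    | tmul c a =>
      refine ⟨fun i => ⟨algebraMap kbar Kbar c * algebraMap K Kbar (ω.repr a i : K),
        mul_mem (L.algebraMap_mem c) (hmap _ (ω.repr a i).2)⟩, ?_⟩
      simp only [Fintype.linearCombination_apply, Algebra.TensorProduct.productMap_apply_tmul,
        IsScalarTower.coe_toAlgHom', IntermediateField.smul_def, smul_eq_mul]
      conv_rhs => rw [← ω.sum_repr a, map_sum, Finset.mul_sum]
      refine Finset.sum_congr rfl fun i _ => ?_
      rw [IntermediateField.smul_def, smul_eq_mul, map_mul]
      ring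
    | add a b ha hb =>
      obtain ⟨f, hf⟩ := ha
      obtain ⟨g, hg⟩ := hb
      exact ⟨f + g, by rw [map_add, hf, hg, map_add]⟩
  have hcoef : ∀ z : Kbar, ∃ s : Finset kbar, z ∈ Algebra.adjoin K ((algebraMap kbar Kbar) '' (s : Set kbar)) := by
    intro z
    obtain ⟨t, rfl⟩ := h.2 z
    induction t using TensorProduct.induction_on with
    | zero => exact ⟨∅, by rw [map_zero]; exact zero_mem _⟩
    | tmul c a =>
      refine ⟨{c}, ?_⟩
      rw [Algebra.TensorProduct.productMap_apply_tmul]
      exact mul_mem (Algebra.subset_adjoin ⟨c, by simp, rfl⟩) (Subalgebra.algebraMap_mem _ a)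
    | add a b ha hb =>
      obtain ⟨s, hs⟩ := ha
      obtain ⟨r, hr⟩ := hb
      refine ⟨s ∪ r, ?_⟩
      rw [map_add]
      exact add_mem (Algebra.adjoin_mono (Set.image_mono (by simp)) hs)
        (Algebra.adjoin_mono (Set.image_mono (by simp)) hr)
  obtain ⟨w, hw⟩ := Q.2.2 (WithZero.exp (-1 : ℤ))
  obtain ⟨z, m, hm, -, hz⟩ := Groth.Agent.FF.exists_poles_eq_single' hFF Q
  obtain ⟨sw, hsw⟩ := hcoef w
  obtain ⟨sz, hsz⟩ := hcoef z
  let k1 : IntermediateField k kbar := IntermediateField.adjoin k ((sw ∪ sz : Finset kbar) : Set kbar)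
  have hle : ∀ s : Finset kbar, s ⊆ sw ∪ sz →
      Algebra.adjoin K ((algebraMap kbar Kbar) '' (s : Set kbar)) ≤
        Algebra.adjoin K (Set.range fun c : k1 => algebraMap kbar Kbar c) := by
    intro s hs
    refine Algebra.adjoin_mono ?_
    rintro _ ⟨c, hc, rfl⟩
    exact ⟨⟨c, IntermediateField.subset_adjoin k _ (Finset.mem_coe.2 (hs hc))⟩, rfl⟩
  refine ⟨k1, IntermediateField.finiteDimensional_adjoin fun c _ => Algebra.IsIntegral.isIntegral c,
    ⟨w, hle sw Finset.subset_union_left hsw, hw⟩, fun Q' hQ' => ?_⟩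
  obtain ⟨e, he⟩ := hQ'
  have he0 : e ≠ 0 := by
    rintro rfl
    have h0 := he 0 (zero_mem _)
    simp at h0
  by_contra hne
  have h1 : Q'.ord z = e * Q.ord z := by
    simp only [FunFld.Place.ord, he z (hle sz Finset.subset_union_right hsz), WithZero.log_pow, nsmul_eq_mul]
    ring
  have hQ := hz Q
  have hQ'2 := hz Q'
  rw [Finsupp.single_eq_same] at hQ
  rw [Finsupp.single_eq_of_ne hne] at hQ'2
  have hneg : Q.ord z = -(m : ℤ) := by omega
  rw [h1, hneg] at hQ'2
  have : (0 : ℤ) < (e : ℤ) * m := by positivity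
  rw [mul_neg, neg_neg, max_eq_left this.le] at hQ'2
  omega

end Groth.Agent.S12593
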