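import Groth.Statements.S12596
import Groth.Agent.FF.Orders

set_option autoImplicit false
open FunFld

namespace Groth.Agent.S12596

/-- Over an algebraically closed constant field, replacing a projective map `φ` by `Aφ` for an
invertible matrix `A` over `k` does not change the `τ`-order sequence, and multiplies every
generalized Wronskian determinant `det [τ(φ) | D^(I₁) φ | ⋯ | D^(Iₙ) φ]` (Hasse derivatives taken
with `H`) by `det A`. -/
theorem result
    (k K : Type*) [Field k] [IsAlgClosed k] [Field K] [Algebra k K]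
    (hK : FunFld.IsFunctionField k K) {n : ℕ} (φ : Fin (n + 1) → K) (hφ : LinearIndependent k φ)
    (τ : K →ₐ[k] K) (s : K) (H : K →ₐ[k] PowerSeries K) (hH : LocRes.IsHasseFamily s H)
    (A : Matrix (Fin (n + 1)) (Fin (n + 1)) k) (hA : A.det ≠ 0)
    (φ' : Fin (n + 1) → K) (hφ' : ∀ i, φ' i = ∑ j, A i j • φ j) :
    (∀ J : Fin n → ℕ, FunFld.IsOrders K (FunFld.hcol τ H φ') J ↔ FunFld.IsOrders K (FunFld.hcol τ H φ) J) ∧
    ∀ I : Fin n → ℕ, (FunFld.wrMat τ H φ' I).det = algebraMap k K A.det * (FunFld.wrMat τ H φ I).det := by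
  have hB : IsUnit ((A.map (algebraMap k K)).det) := by
    rw [← RingHom.mapMatrix_apply, ← RingHom.map_det]
    exact (hA.isUnit).map _
  set B := A.map (algebraMap k K) with hBdef
  let e : (Fin (n + 1) → K) ≃ₗ[K] (Fin (n + 1) → K) :=
    LinearEquiv.ofBijective (Matrix.mulVecLin B) (by
      rw [Matrix.coe_mulVecLin]
      exact ⟨Matrix.mulVec_injective_iff_isUnit.mpr ((Matrix.isUnit_iff_isUnit_det B).mpr hB),
        Matrix.mulVec_surjective_iff_isUnit.mpr ((Matrix.isUnit_iff_isUnit_det B).mpr hB)⟩)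
  have hcol' : FunFld.hcol τ H φ' = e ∘ FunFld.hcol τ H φ := by
    funext j i
    change FunFld.hcol τ H φ' j i = ∑ l, B i l * FunFld.hcol τ H φ j l
    cases j with
    | zero => simp [FunFld.hcol, hφ', map_sum, map_smul, Algebra.smul_def, hBdef, Matrix.map_apply]
    | succ j =>
      simp only [FunFld.hcol, hφ', map_sum, map_smul, LocRes.hasseD_apply, PowerSeries.coeff_smul]
      simp [Algebra.smul_def, hBdef, Matrix.map_apply]
  refine ⟨fun J => ?_, fun I => ?_⟩
  · have hj : ∀ j, FunFld.IsJump K (FunFld.hcol τ H φ') j ↔ FunFld.IsJump K (FunFld.hcol τ H φ) j := fun j => by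
      rw [FunFld.IsJump, FunFld.IsJump, hcol', Set.image_comp, Function.comp_apply]
      rw [← LinearEquiv.coe_coe, Submodule.span_image, LinearEquiv.coe_coe, Submodule.mem_map_equiv,
        LinearEquiv.symm_apply_apply]
    simp only [FunFld.IsOrders, hj]
  · have hm : FunFld.wrMat τ H φ' I = B * FunFld.wrMat τ H φ I := by
      ext i c
      have h1 := congrFun (congrFun hcol' (Groth.Agent.FF.idx I c)) i
      rw [← Groth.Agent.FF.wrMat_col] at h1
      refine h1.trans ?_
      change ∑ l, B i l * _ = _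
      rw [← Groth.Agent.FF.wrMat_col, Matrix.mul_apply]
    rw [hm, Matrix.det_mul, hBdef, ← RingHom.mapMatrix_apply, ← RingHom.map_det]

end Groth.Agent.S12596
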