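import Groth.Statements.S12599
import Groth.Agent.FF.Orders

set_option autoImplicit false
open FunFld

namespace Groth.Agent.S12599

/-- Over an algebraically closed constant field, for a place `P` with local parameter `t`, and a
linearly independent tuple `φ = (φ₀, …, φₙ)` of functions integral at `P`, the matrix of values at
`P` of the Hasse derivatives `D_t^(j)(φᵢ)`, `j = 0, 1, …`, has rank `n + 1`: its rows are linearly
independent over the residue field. -/
theorem result
    (k K : Type*) [Field k] [IsAlgClosed k] [Field K] [Algebra k K]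
    (hK : FunFld.IsFunctionField k K) {n : ℕ} (φ : Fin (n + 1) → K) (hφ : LinearIndependent k φ)
    (P : FunFld.Place k K) (hint : ∀ i, P.1 (φ i) ≤ 1) (t : K) (ht : P.1 t = WithZero.exp (-1))
    (Ht : K →ₐ[k] PowerSeries K) (hHt : LocRes.IsHasseFamily t Ht) :
    LinearIndependent (IsLocalRing.ResidueField P.O)
      (fun i : Fin (n + 1) => fun j : ℕ => FunFld.evalP P (LocRes.hasseD Ht j (φ i))) := by
  have hle : ∀ j i, P.1 (LocRes.hasseD Ht j (φ i)) ≤ 1 := fun j i =>
    Groth.Agent.FF.val_hasseD_le hK P ht hHt (hint i) j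
  rw [Fintype.linearIndependent_iff]
  intro g hg i₀
  by_contra hne
  choose a ha using fun i => IsLocalRing.residue_surjective (g i)
  obtain ⟨j, hj⟩ := Groth.Agent.FF.exists_val_comb_eq_one hK P ht hHt hφ hint (a := fun i => (a i : K))
    (fun i => (Groth.Agent.FF.mem_O P).mp (a i).2) ⟨i₀, le_antisymm ((Groth.Agent.FF.mem_O P).mp (a i₀).2)
      (not_lt.mp fun hlt => hne (by rw [← ha i₀]; exact (Groth.Agent.FF.residue_eq_zero_iff P).mpr hlt))⟩
  have h0 := congrFun hg j
  rw [Finset.sum_apply, Pi.zero_apply] at h0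
  have h1 : IsLocalRing.residue P.O (∑ i, a i * (⟨LocRes.hasseD Ht j (φ i), (Groth.Agent.FF.mem_O P).mpr (hle j i)⟩ : P.O)) = 0 := by
    rw [map_sum, ← h0]
    refine Finset.sum_congr rfl fun i _ => ?_
    rw [map_mul, ha, Pi.smul_apply, smul_eq_mul]
    congr 1
    rw [FunFld.evalP, dif_pos (hle j i)]
  rw [Groth.Agent.FF.residue_eq_zero_iff, AddSubmonoidClass.coe_finset_sum] at h1
  exact absurd hj h1.ne

end Groth.Agent.S12599
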