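import Groth.Statements.S12602
import Groth.Agent.FF.OrdersBir

set_option autoImplicit false
open FunFld

namespace Groth.Agent.S12602

/-- Over an algebraically closed constant field, for a birational projective map `φ = (φ₀, …, φₙ)`, `n ≥
1`, with orders `j₁ < ⋯ < jₙ`, and `τ ≠ 1`, the `τ`-orders of `φ` are `(0, j₁, …, j_{m-1}, j_{m+1},
…, jₙ)` for some `m`: the jump indices of `[τ(φ) | D^(0) φ | D^(1) φ | ⋯]` after the leading column
are `0` and the `jₗ` with `l ≠ m`. -/
theorem result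
    (k K : Type*) [Field k] [IsAlgClosed k] [Field K] [Algebra k K]
    (hK : FunFld.IsFunctionField k K) {n : ℕ} (hn : 0 < n) (φ : Fin (n + 1) → K) (hφ : LinearIndependent k φ)
    (h0 : φ 0 ≠ 0) (hbir : IntermediateField.adjoin k (Set.range fun i => φ i / φ 0) = ⊤)
    (τ : K →ₐ[k] K) (hτ : τ ≠ AlgHom.id k K) (s : K) (H : K →ₐ[k] PowerSeries K) (hH : LocRes.IsHasseFamily s H)
    (J : Fin n → ℕ) (hJ : FunFld.IsOrders K (FunFld.hcol (AlgHom.id k K) H φ) J) :
    ∃ m : Fin n, ∀ j : ℕ,
      FunFld.IsJump K (FunFld.hcol τ H φ) (j + 1) ↔ (j = 0 ∨ ∃ l, l ≠ m ∧ J l = j) := by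
  classical
  let D : ℕ → Fin (n + 1) → K := fun j i => LocRes.hasseD H j (φ i)
  let S : ℕ → Submodule K (Fin (n + 1) → K) := fun m => Submodule.span K (D '' Set.Iio m)
  let v : Fin (n + 1) → K := fun i => τ (φ i)
  have hsplit : ∀ (σ : K →ₐ[k] K) m, Submodule.span K (FunFld.hcol σ H φ '' Set.Iio (m + 1)) =
      Submodule.span K {(fun i => σ (φ i))} ⊔ S m := fun σ m => by
    have hI : Set.Iio (m + 1) = {0} ∪ Nat.succ '' Set.Iio m := by
      ext i; cases i <;> simp
    rw [hI, Set.image_union, Set.image_singleton, Set.image_image, Submodule.span_union]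
    rfl
  have hS : ∀ m, S (m + 1) = S m ⊔ Submodule.span K {D m} := Groth.Agent.FF.span_Iio_succ D
  have hmono : ∀ {a b}, a ≤ b → S a ≤ S b := fun hab =>
    Submodule.span_mono (Set.image_mono fun i hi => lt_of_lt_of_le hi hab)
  have hjump : ∀ j, FunFld.IsJump K (FunFld.hcol τ H φ) (j + 1) ↔ D j ∉ Submodule.span K {v} ⊔ S j := fun j => by
    rw [FunFld.IsJump, hsplit]; rfl
  -- jumps of the Hasse columns
  have hD0 : D 0 = fun i => φ i := funext fun i => Groth.Agent.FF.hasseD_zero hH _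
  have hid : ∀ j, 0 < j → ((∃ l, J l = j) ↔ D j ∉ S j) := fun j hj => by
    rw [← Set.mem_range, hJ.2, FunFld.IsJump, hsplit]
    change D j ∉ Submodule.span K {(fun i => φ i)} ⊔ S j ↔ _
    rw [sup_eq_right.mpr]
    rw [Submodule.span_singleton_le_iff_mem, ← hD0]
    exact Submodule.subset_span ⟨0, hj, rfl⟩
  have hJpos : ∀ l, 0 < J l := fun l => Nat.pos_of_ne_zero fun h => by
    have := (hJ.2 (J l)).mp ⟨l, rfl⟩
    rw [h] at this
    exact (Groth.Agent.FF.not_isJump_one_iff h0 hbir (AlgHom.id k K) hH).mpr rfl this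
  have hv0 : v ∉ S 1 := fun hv => by
    rw [hS 0, show S 0 = ⊥ by simp [S], bot_sup_eq, Submodule.mem_span_singleton] at hv
    obtain ⟨a, ha⟩ := hv
    have ha0 : a ≠ 0 := fun h => by
      have := congrFun ha 0
      simp [v, h] at this
      exact h0 ((map_eq_zero τ).mp this.symm)
    apply hτ
    rw [← Groth.Agent.FF.not_isJump_one_iff h0 hbir τ hH, hjump, not_not, hD0]
    refine le_sup_left (b := S 0) (Submodule.mem_span_singleton.mpr ⟨a⁻¹, ?_⟩)
    rw [← ha, inv_smul_smul₀ ha0, hD0]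
  have hex : ∃ j, v ∈ S (j + 1) := by
    have : v ∈ ⨆ j, S (j + 1) := by
      have htop := Groth.Agent.FF.span_hasseD_eq_top hK hφ hH
      have hle : Submodule.span K (Set.range D) ≤ ⨆ j, S (j + 1) := Submodule.span_le.mpr (by
        rintro _ ⟨j, rfl⟩
        exact le_iSup (fun j => S (j + 1)) j (Submodule.subset_span ⟨j, Nat.lt_succ_self j, rfl⟩))
      exact hle (htop.ge trivial)
    rwa [Submodule.mem_iSup_of_directed _ (Monotone.directed_le fun a b hab => hmono (by omega))] at this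
  have hmspec := Nat.find_spec hex
  have hmin : ∀ i < Nat.find hex, v ∉ S (i + 1) := fun i hi => Nat.find_min hex hi
  have hm0 : 0 < Nat.find hex := Nat.pos_of_ne_zero fun h => hv0 (by simpa [h] using hmspec)
  have hvm : v ∉ S (Nat.find hex) := by
    have := hmin (Nat.find hex - 1) (by omega)
    rwa [Nat.sub_add_cancel hm0] at this
  have hDm : D (Nat.find hex) ∉ S (Nat.find hex) := fun h => hvm (by
    rw [hS, sup_eq_left.mpr ((Submodule.span_singleton_le_iff_mem _ _).mpr h)] at hmspec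
    exact hmspec)
  obtain ⟨m, hm⟩ := (hid _ hm0).mpr hDm
  refine ⟨m, fun j => ?_⟩
  rw [hjump]
  rcases Nat.eq_zero_or_pos j with rfl | hj
  · refine ⟨fun _ => Or.inl rfl, fun _ h => hτ ?_⟩
    rwa [← Groth.Agent.FF.not_isJump_one_iff h0 hbir τ hH, hjump, not_not]
  · rw [or_iff_right (by omega : j ≠ 0)]
    rcases lt_trichotomy j (Nat.find hex) with hlt | rfl | hgt
    · constructor
      · intro h
        obtain ⟨l, hl⟩ := (hid j hj).mpr fun hD => h (le_sup_right (a := Submodule.span K {v}) hD)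
        exact ⟨l, by rintro rfl; omega, hl⟩
      · rintro ⟨l, -, hl⟩ h
        have hD := (hid j hj).mp ⟨l, hl⟩
        obtain ⟨x, hx, y, hy, hxy⟩ := Submodule.mem_sup.mp h
        obtain ⟨a, rfl⟩ := Submodule.mem_span_singleton.mp hx
        rcases eq_or_ne a 0 with rfl | ha
        · exact hD (by rw [← hxy, zero_smul, zero_add]; exact hy)
        · refine hmin j hlt ?_
          rw [show v = a⁻¹ • (D j - y) by rw [← hxy, add_sub_cancel_right, inv_smul_smul₀ ha]]
          exact Submodule.smul_mem _ _ (sub_mem (Submodule.subset_span ⟨j, Nat.lt_succ_self j, rfl⟩) (hmono (Nat.le_succ j) hy))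
    · refine ⟨fun h => absurd ?_ h, fun ⟨l, hlm, hl⟩ => absurd (hJ.1.injective (hl.trans hm.symm)) hlm⟩
      rw [hS] at hmspec
      obtain ⟨y, hy, x, hx, hxy⟩ := Submodule.mem_sup.mp hmspec
      obtain ⟨a, rfl⟩ := Submodule.mem_span_singleton.mp hx
      have ha : a ≠ 0 := fun ha => hvm (by
        have h' := hxy
        rw [ha, zero_smul, add_zero] at h'
        exact (congrArg (· ∈ S (Nat.find hex)) h').mp hy)
      rw [← inv_smul_smul₀ ha (D (Nat.find hex)), eq_sub_iff_add_eq'.mpr hxy]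
      exact Submodule.smul_mem _ _ (sub_mem (le_sup_left (b := S _) (Submodule.mem_span_singleton_self v))
        (le_sup_right (a := Submodule.span K {v}) hy))
    · have hv : v ∈ S j := hmono (by omega) hmspec
      rw [sup_eq_right.mpr ((Submodule.span_singleton_le_iff_mem _ _).mpr hv), ← hid j hj]
      exact ⟨fun ⟨l, hl⟩ => ⟨l, by rintro rfl; omega, hl⟩, fun ⟨l, _, hl⟩ => ⟨l, hl⟩⟩

end Groth.Agent.S12602
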