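import Groth.Statements.S12604
import Groth.Agent.FF.WeierstrassPts

set_option autoImplicit false
open FunFld

namespace Groth.Agent.S12604

/-- Over an algebraically closed constant field, let `τ` be a `k`-endomorphism of the function field `K`
of genus `g`, of degree `deg τ = [K : τ(K)]`, and `φ = (φ₀, …, φₙ)` a projective map such that
`τ(φ)` is not a `K`-multiple of `φ`, with `τ`-orders `j₁, …, jₙ`. Then the number `N` of strong
fixed points of `τ` (places whose maximal ideal `τ` maps into its square) is finite and `n N ≤ (n +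
deg τ) deg φ + (2g - 2)(j₁ + ⋯ + jₙ)`, i.e. `N ≤ (1/n) deg W(φ, τ)`. -/
theorem result
    (k K : Type*) [Field k] [IsAlgClosed k] [Field K] [Algebra k K]
    (hK : FunFld.IsFunctionField k K) (τ : K →ₐ[k] K) {n : ℕ} (φ : Fin (n + 1) → K) (hφ : LinearIndependent k φ)
    (hτφ : ¬ ∃ y : K, ∀ i, τ (φ i) = y * φ i) (s : K) (H : K →ₐ[k] PowerSeries K) (hH : LocRes.IsHasseFamily s H)
    (J : Fin n → ℕ) (hJ : FunFld.IsOrders K (FunFld.hcol τ H φ) J) :
    {P : FunFld.Place k K | FunFld.IsStrongFixedPt τ P}.Finite ∧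
    (n : ℤ) * (Set.ncard {P : FunFld.Place k K | FunFld.IsStrongFixedPt τ P} : ℤ) ≤
      ((n : ℤ) + Module.finrank τ.fieldRange K) * (FunFld.mapDiv k φ).deg +
        (2 * (FunFld.genus k K : ℤ) - 2) * ∑ l, (J l : ℤ) := by
  classical
  have hn : 0 < n := Nat.pos_of_ne_zero fun h => hτφ (by
    subst h
    refine ⟨τ (φ 0) / φ 0, fun i => ?_⟩
    rw [Fin.fin_one_eq_zero i, div_mul_cancel₀ _ (hφ.ne_zero 0)])
  choose u hu0 hu using fun P : FunFld.Place k K => Groth.Agent.FF.exists_uniformizer P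
  choose Φ hΦ' using fun P : FunFld.Place k K => Groth.Agent.FF.exists_expansion hK P (hu P)
  have hΦ : ∀ P : FunFld.Place k K, LocRes.IsExpansionAt P.1 (Φ P) := fun P => (hΦ' P).1
  obtain ⟨hW0, hdeg⟩ := Groth.Agent.FF.wDiv_nonneg_and_deg hK τ hφ hH hJ hΦ
  have hge : ∀ P, FunFld.IsStrongFixedPt τ P → (n : ℤ) ≤ FunFld.wDiv τ H Φ s φ J P := fun P hP =>
    Groth.Agent.FF.strong_fixed_bound hK τ hn hφ hH hJ hΦ hP
  set W := FunFld.wDiv τ H Φ s φ J
  have hsub : {P : FunFld.Place k K | FunFld.IsStrongFixedPt τ P} ⊆ (W.support : Set (FunFld.Place k K)) :=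
    fun P hP => Finsupp.mem_support_iff.mpr (by have := hge P hP; omega)
  have hfin := W.support.finite_toSet.subset hsub
  refine ⟨hfin, le_trans ?_ (le_of_eq (hdeg.trans (by ring)))⟩
  rw [Set.ncard_eq_toFinset_card _ hfin]
  calc (n : ℤ) * (hfin.toFinset.card : ℤ) = ∑ _P ∈ hfin.toFinset, (n : ℤ) := by
        rw [Finset.sum_const, nsmul_eq_mul, mul_comm]
    _ ≤ ∑ P ∈ hfin.toFinset, W P * P.deg := Finset.sum_le_sum fun P hP => by
        rw [Groth.Agent.FF.deg_eq_one hK, Nat.cast_one, mul_one]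
        exact hge P (hfin.mem_toFinset.mp hP)
    _ ≤ ∑ P ∈ W.support, W P * P.deg := Finset.sum_le_sum_of_subset_of_nonneg
        (fun P hP => hsub (hfin.mem_toFinset.mp hP)) fun P _ _ => mul_nonneg (hW0 P) (Int.natCast_nonneg _)
    _ = W.deg := rfl

end Groth.Agent.S12604
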