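import Groth.Statements.S12610
import Groth.Agent.FF.WeierstrassPts
import Groth.Agent.S12602

set_option autoImplicit false
open FunFld

namespace Groth.Agent.S12610

/-- Over an algebraically closed constant field, for a birational projective map `φ`, a `k`-endomorphism
`τ ≠ 1` and a place `P` fixed by `τ`, the place `P` is a Weierstrass point of `φ` with respect to
`τ`: the Weierstrass divisor `W(φ, τ) = [w_s(φ, τ)] + [τ(φ)] + n[φ] + j(φ, τ)[ds]` has positive
coefficient at `P` (the divisor of `ds` read through a family of Laurent expansions). -/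
theorem result
    (k K : Type*) [Field k] [IsAlgClosed k] [Field K] [Algebra k K]
    (hK : FunFld.IsFunctionField k K) {n : ℕ} (φ : Fin (n + 1) → K) (hφ : LinearIndependent k φ)
    (h0 : φ 0 ≠ 0) (hbir : IntermediateField.adjoin k (Set.range fun i => φ i / φ 0) = ⊤)
    (τ : K →ₐ[k] K) (hτ : τ ≠ AlgHom.id k K) (P : FunFld.Place k K) (hP : FunFld.IsFixedPt τ P)
    (s : K) (H : K →ₐ[k] PowerSeries K) (hH : LocRes.IsHasseFamily s H)
    (J : Fin n → ℕ) (hJ : FunFld.IsOrders K (FunFld.hcol τ H φ) J)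
    (Φ : FunFld.Place k K → (K →ₐ[k] LaurentSeries k))
    (hΦ : ∀ P : FunFld.Place k K, LocRes.IsExpansionAt P.1 (Φ P)) :
    0 < FunFld.wDiv τ H Φ s φ J P := by
  classical
  have hn : 0 < n := Nat.pos_of_ne_zero fun h => hτ (by
    subst h
    ext x
    have hx : x ∈ IntermediateField.adjoin k (Set.range fun i => φ i / φ 0) := by rw [hbir]; trivial
    have hr : (Set.range fun i => φ i / φ 0) = {(1 : K)} := by
      ext z; simp [div_self h0, eq_comm]
    rw [hr] at hx
    obtain ⟨c, rfl⟩ := IntermediateField.mem_bot.mp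
      ((IntermediateField.adjoin_simple_le_iff.mpr (one_mem (⊥ : IntermediateField k K))) hx)
    exact τ.commutes c)
  obtain ⟨y, t, Ht, J', hy, hli, h1, hnorm, ht, hHt, hJt, hJ', hpos, -, hW⟩ :=
    Groth.Agent.FF.exists_local_data hK hφ τ hH hJ P
  rw [← hW Φ hΦ]
  refine lt_of_lt_of_le ?_ (Groth.Agent.FF.sum_le_wDiv hK P hli h1 hnorm ht hHt hJ' hP hJt hΦ).1
  obtain ⟨j, hj, -⟩ := Groth.Agent.FF.exists_orders hK hli (AlgHom.id k K) hHt
  have h0' : (y • φ) 0 ≠ 0 := mul_ne_zero hy h0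
  have hbir' : IntermediateField.adjoin k (Set.range fun i => (y • φ) i / (y • φ) 0) = ⊤ := by
    simp only [Pi.smul_apply, smul_eq_mul, mul_div_mul_left _ _ hy]
    exact hbir
  have hJ0 : 0 ∈ Set.range J := (hJt.2 0).mpr (by
    by_contra h
    exact hτ ((Groth.Agent.FF.not_isJump_one_iff h0' hbir' τ hHt).mp h))
  obtain ⟨m, hm⟩ := Groth.Agent.S12602.result k K hK hn (y • φ) hli h0' hbir' τ hτ t Ht hHt j hj
  have hle : ∀ l, J l ≤ J' l := fun l =>
    (Groth.Agent.FF.le_of_range_sdiff hJt.1 hj.1 (Groth.Agent.FF.orders_id_pos hHt hj) m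
      (fun i => (hJt.2 i).trans (hm i)) l).trans (Groth.Agent.FF.orders_id_le hK P hli h1 hnorm ht hHt hJ' hj l)
  obtain ⟨l₀, hl₀⟩ := hJ0
  refine Finset.sum_pos' (fun l _ => by have := hle l; omega) ⟨l₀, Finset.mem_univ _, ?_⟩
  have := hpos l₀
  omega

end Groth.Agent.S12610
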