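import Groth.Statements.S12611
import Groth.Agent.FF.WeierstrassPts

set_option autoImplicit false
open FunFld

namespace Groth.Agent.S12611

/-- Over an algebraically closed constant field of characteristic `0` or greater than `deg φ`, a
birational projective map `φ = (φ₀, …, φₙ)` is classical: its orders are `(1, 2, …, n)`, and for a
`k`-endomorphism `τ ≠ 1` its `τ`-orders are `(0, 1, …, n-1)`. (The published statement has no
fixed-point hypothesis for `τ ≠ 1` and is false without one: on a smooth plane cubic in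
characteristic `0`, pulling back along multiplication by `-2` gives `τ`-orders `(0, 2)`. This row
assumes `τ` has a strong fixed point — a place whose maximal ideal `τ` maps into its square — which
is what the proof uses, through the equality criterion for Wronskian orders at such a point.) -/
theorem result
    (k K : Type*) [Field k] [IsAlgClosed k] [Field K] [Algebra k K]
    (hK : FunFld.IsFunctionField k K) {n : ℕ} (φ : Fin (n + 1) → K) (hφ : LinearIndependent k φ)
    (h0 : φ 0 ≠ 0) (hbir : IntermediateField.adjoin k (Set.range fun i => φ i / φ 0) = ⊤)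
    (hchar : ringChar k = 0 ∨ (FunFld.mapDiv k φ).deg < ringChar k)
    (τ : K →ₐ[k] K) (s : K) (H : K →ₐ[k] PowerSeries K) (hH : LocRes.IsHasseFamily s H) :
    (τ = AlgHom.id k K → FunFld.IsOrders K (FunFld.hcol τ H φ) (fun l : Fin n => (l : ℕ) + 1)) ∧
    (τ ≠ AlgHom.id k K → (∃ P : FunFld.Place k K, FunFld.IsStrongFixedPt τ P) →
      FunFld.IsOrders K (FunFld.hcol τ H φ) (fun l : Fin n => (l : ℕ))) := by
  classical
  obtain ⟨J, hJ, -⟩ := Groth.Agent.FF.exists_orders hK hφ τ hH
  have hchar' : ∀ (P : FunFld.Place k K) (y t : K) (Ht : K →ₐ[k] PowerSeries K) (J' : Fin n → ℕ),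
      LinearIndependent k (y • φ) → (1 : K) ∈ Submodule.span k (Set.range (y • φ)) →
      (∀ i, P.1 ((y • φ) i) ≤ 1) → P.1 t = WithZero.exp (-1 : ℤ) → LocRes.IsHasseFamily t Ht →
      FunFld.IsOrders (IsLocalRing.ResidueField P.O) (FunFld.hcolAt P Ht (y • φ)) J' →
      (FunFld.mapDiv k (y • φ)).deg = (FunFld.mapDiv k φ).deg →
      ringChar k = 0 ∨ ∀ l, J' l < ringChar k :=
    fun P y t Ht J' hli h1 hnorm ht hHt hJ' hdeg => hchar.imp id fun h l => by
      have := Groth.Agent.FF.orders_at_le_deg hK P hli h1 hnorm ht hHt hJ' l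
      omega
  constructor
  · rintro rfl
    obtain ⟨⟨x, hx, -⟩, -⟩ := id hK
    obtain ⟨P, -⟩ := Groth.Agent.FF.exists_val_lt_one hK hx
    obtain ⟨y, t, Ht, J', hy, hli, h1, hnorm, ht, hHt, hJt, hJ', hpos, hdeg, -⟩ :=
      Groth.Agent.FF.exists_local_data hK hφ (AlgHom.id k K) hH hJ P
    have hb := Groth.Agent.FF.binomMat_standard_det_ne_zero (k := k) hJ'.1 1 le_rfl (fun _ => hpos)
      (hchar' P y t Ht J' hli h1 hnorm ht hHt hJ' hdeg)
    have h := ((Groth.Agent.FF.val_wrMat_le_and_iff hK (AlgHom.id k K) P (fun z hz => hz) ht hHt hli h1 hnorm hJ'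
      (fun l : Fin n => (l : ℕ) + 1)).2 (Or.inl fun l => Nat.succ_pos _)).mpr hb
    have hI : StrictMono (fun l : Fin n => (l : ℕ) + 1) := fun a b hab => Nat.succ_lt_succ hab
    have hle := Groth.Agent.FF.orders_le hJt hI
      ((Groth.Agent.FF.det_ne_zero_iff _ _ _ _).mp (Groth.Agent.FF.det_wrMat_ne_zero_of_val P h))
    have hge : ∀ l : Fin n, (l : ℕ) + 1 ≤ J l := by
      rintro ⟨l, hl⟩
      induction l with
      | zero => exact Groth.Agent.FF.orders_id_pos hH hJ ⟨0, hl⟩
      | succ l ih =>
        have := hJ.1 (show (⟨l, by omega⟩ : Fin n) < ⟨l + 1, hl⟩ from Nat.lt_succ_self l)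
        have := ih (by omega)
        simp only at *
        omega
    rwa [show J = fun l : Fin n => (l : ℕ) + 1 from funext fun l => le_antisymm (hle l) (hge l)] at hJ
  · rintro - ⟨P, hP⟩
    obtain ⟨y, t, Ht, J', hy, hli, h1, hnorm, ht, hHt, hJt, hJ', hpos, hdeg, -⟩ :=
      Groth.Agent.FF.exists_local_data hK hφ τ hH hJ P
    have hb := Groth.Agent.FF.binomMat_standard_det_ne_zero (k := k) hJ'.1 0 zero_le_one (fun h => absurd h zero_ne_one)
      (hchar' P y t Ht J' hli h1 hnorm ht hHt hJ' hdeg)
    have h := ((Groth.Agent.FF.val_wrMat_le_and_iff hK τ P (Groth.Agent.FF.strong_fixed hP) ht hHt hli h1 hnorm hJ'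
      (fun l : Fin n => (l : ℕ) + 0)).2 (Or.inr hP)).mpr hb
    have hI : StrictMono (fun l : Fin n => (l : ℕ) + 0) := fun a b hab => hab
    have hle := Groth.Agent.FF.orders_le hJt hI
      ((Groth.Agent.FF.det_ne_zero_iff _ _ _ _).mp (Groth.Agent.FF.det_wrMat_ne_zero_of_val P h))
    have hge : ∀ l : Fin n, (l : ℕ) ≤ J l := by
      rintro ⟨l, hl⟩
      induction l with
      | zero => exact Nat.zero_le _
      | succ l ih =>
        have := hJ.1 (show (⟨l, by omega⟩ : Fin n) < ⟨l + 1, hl⟩ from Nat.lt_succ_self l)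
        have := ih (by omega)
        simp only at *
        omega
    rwa [show J = fun l : Fin n => (l : ℕ) from funext fun l => le_antisymm (hle l) (hge l)] at hJ

end Groth.Agent.S12611
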