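import Groth.Statements.S12612
import Mathlib.RingTheory.MvPolynomial.EulerIdentity
import Mathlib.Tactic

set_option autoImplicit false
open FunFld

namespace Groth.Agent.S12612

/-- For a plane curve given by a homogeneous `f` of degree `e` with `f(1, x, y) = 0` and a change of
projective coordinates `X = AX'` (`A` invertible over `k`), with new affine coordinates `x' =
u₁/u₀`, `y' = u₂/u₀`, `z = 1/u₀ = X₀/X₀'` where `u = A⁻¹(1, x, y)ᵗ`, and `f'(X') = f(AX')`, the
differentials satisfy `dx/f̂_y = det(A) z^(e-3) dx'/f̂'_{y'}`, where `f̂_y = (∂f/∂X₂)(1, x, y)` and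
`f̂'_{y'} = (∂f'/∂X₂')(1, x', y')` are assumed nonzero. (Stated for any field `K` over `k`
containing such `x`, `y`; the published setting is a plane model of a function field over an
algebraically closed field, and the computation uses only the relation `f(1, x, y) = 0`.) -/
theorem result
    (k K : Type*) [Field k] [Field K] [Algebra k K]
    (f : MvPolynomial (Fin 3) k) (e : ℕ) (hf : f.IsHomogeneous e)
    (x y : K) (hfxy : MvPolynomial.aeval ![(1 : K), x, y] f = 0)
    (A : Matrix (Fin 3) (Fin 3) k) (hA : A.det ≠ 0)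
    (u : Fin 3 → K) (hu : ∀ i, ∑ j, algebraMap k K (A i j) * u j = ![(1 : K), x, y] i)
    (hu0 : u 0 ≠ 0)
    (hfy : MvPolynomial.aeval ![(1 : K), x, y] (MvPolynomial.pderiv 2 f) ≠ 0)
    (hfy' : MvPolynomial.aeval ![(1 : K), u 1 / u 0, u 2 / u 0]
      (MvPolynomial.pderiv 2
        (MvPolynomial.aeval (fun i : Fin 3 => ∑ j, MvPolynomial.C (A i j) * MvPolynomial.X j) f)) ≠ 0) :
    (MvPolynomial.aeval ![(1 : K), x, y] (MvPolynomial.pderiv 2 f))⁻¹ • KaehlerDifferential.D k K x =
      (algebraMap k K A.det * (u 0)⁻¹ ^ ((e : ℤ) - 3) *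
        (MvPolynomial.aeval ![(1 : K), u 1 / u 0, u 2 / u 0]
          (MvPolynomial.pderiv 2
            (MvPolynomial.aeval (fun i : Fin 3 => ∑ j, MvPolynomial.C (A i j) * MvPolynomial.X j) f)))⁻¹) •
        KaehlerDifferential.D k K (u 1 / u 0) := by
  classical
  set d := KaehlerDifferential.D k K
  set p := ![(1 : K), x, y] with hp
  set F := fun l => MvPolynomial.aeval p (MvPolynomial.pderiv l f) with hF
  set w := ![(1 : K), u 1 / u 0, u 2 / u 0] with hw
  set B := fun i : Fin 3 => ∑ j, MvPolynomial.C (A i j) * (MvPolynomial.X j : MvPolynomial (Fin 3) k) with hB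
  have heuler : F 0 + x * F 1 + y * F 2 = 0 := by
    have h := congrArg (MvPolynomial.aeval p) hf.sum_X_mul_pderiv
    simp [Fin.sum_univ_three, hfxy] at h
    simpa [hF, hp] using h
  have hdiff : F 1 • d x + F 2 • d y = 0 := by
    have h : ∀ G : MvPolynomial (Fin 3) k, d (MvPolynomial.aeval p G) =
        MvPolynomial.aeval p (MvPolynomial.pderiv 1 G) • d x + MvPolynomial.aeval p (MvPolynomial.pderiv 2 G) • d y := by
      intro G
      induction G using MvPolynomial.induction_on with
      | C c => simp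
      | add a b ha hb => simp only [map_add, ha, hb, add_smul]; abel
      | mul_X a i ha =>
        rw [map_mul, MvPolynomial.aeval_X, Derivation.leibniz, ha]
        simp only [MvPolynomial.pderiv_mul, map_add, map_mul, MvPolynomial.aeval_X, add_smul, mul_smul]
        fin_cases i <;> simp [hp, MvPolynomial.pderiv_X_of_ne, MvPolynomial.pderiv_X_self, smul_comm x, smul_comm y] <;> abel
    have h' := h f
    rw [hfxy, map_zero d] at h'
    exact h'.symm
  have hchain : ∀ (m : Fin 3) (G : MvPolynomial (Fin 3) k), MvPolynomial.pderiv m (MvPolynomial.aeval B G) =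
      ∑ l, MvPolynomial.C (A l m) * MvPolynomial.aeval B (MvPolynomial.pderiv l G) := by
    intro m G
    have hBm : ∀ i, MvPolynomial.pderiv m (B i) = MvPolynomial.C (A i m) := fun i => by
      simp only [hB, map_sum, MvPolynomial.pderiv_mul, MvPolynomial.pderiv_C, zero_mul, zero_add]
      rw [Finset.sum_eq_single m (fun j _ hj => by rw [MvPolynomial.pderiv_X_of_ne hj, mul_zero])
        (fun h => absurd (Finset.mem_univ m) h), MvPolynomial.pderiv_X_self, mul_one]
    induction G using MvPolynomial.induction_on with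
    | C c => simp
    | add a b ha hb => simp only [map_add, ha, hb, mul_add, Finset.sum_add_distrib]
    | mul_X a i ha =>
      rw [map_mul, MvPolynomial.aeval_X, MvPolynomial.pderiv_mul, ha, hBm]
      simp only [MvPolynomial.pderiv_mul, map_add, map_mul, MvPolynomial.aeval_X, mul_add, Finset.sum_add_distrib,
        Finset.sum_mul, mul_assoc]
      congr 1
      rw [Finset.sum_eq_single i (fun j _ hj => by rw [MvPolynomial.pderiv_X_of_ne (Ne.symm hj), map_zero, mul_zero, mul_zero])
        (fun h => absurd (Finset.mem_univ i) h), MvPolynomial.pderiv_X_self, map_one, mul_one, mul_comm]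
  have hBw : ∀ G : MvPolynomial (Fin 3) k, MvPolynomial.aeval w (MvPolynomial.aeval B G) =
      MvPolynomial.aeval (fun i => p i * (u 0)⁻¹) G := by
    intro G
    rw [← AlgHom.comp_apply, MvPolynomial.comp_aeval]
    congr 2
    ext i
    simp only [hB, map_sum, map_mul, MvPolynomial.aeval_C, MvPolynomial.aeval_X]
    rw [← hu i, Finset.sum_mul]
    refine Finset.sum_congr rfl fun j _ => ?_
    fin_cases j <;> simp [hw, hu0, div_eq_mul_inv, mul_assoc]
  have hsc : ∀ l, MvPolynomial.aeval (fun i => p i * (u 0)⁻¹) (MvPolynomial.pderiv l f) =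
      (u 0)⁻¹ ^ (e - 1) * F l := by
    intro l
    have hG : (MvPolynomial.pderiv l f).IsHomogeneous (e - 1) := hf.pderiv
    simp only [hF]
    rw [(MvPolynomial.pderiv l f).as_sum, map_sum, map_sum, Finset.mul_sum]
    refine Finset.sum_congr rfl fun d hd => ?_
    have h : d 0 + d 1 + d 2 = e - 1 := by
      have h := hG (MvPolynomial.mem_support_iff.mp hd)
      rw [Finsupp.weight_apply, Finsupp.sum_fintype _ _ (fun _ => by simp), Fin.sum_univ_three] at h
      simpa using h
    rw [MvPolynomial.aeval_monomial, MvPolynomial.aeval_monomial, Finsupp.prod_fintype _ _ (fun _ => pow_zero _),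
      Finsupp.prod_fintype _ _ (fun _ => pow_zero _), Fin.prod_univ_three, Fin.prod_univ_three, ← h]
    simp only [mul_pow, pow_add]
    ring
  set G2 := ∑ l, algebraMap k K (A l 2) * F l with hG2
  have hF'2 : MvPolynomial.aeval w (MvPolynomial.pderiv 2 (MvPolynomial.aeval B f)) = (u 0)⁻¹ ^ (e - 1) * G2 := by
    rw [hchain, map_sum, hG2, Finset.mul_sum]
    refine Finset.sum_congr rfl fun l _ => ?_
    rw [map_mul, MvPolynomial.aeval_C, hBw, hsc]; ring
  have he1 : 1 ≤ e := by
    by_contra h
    have he0 : e = 0 := by omega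
    have hc : f = MvPolynomial.C (f.coeff 0) := by
      refine MvPolynomial.ext _ _ fun d => ?_
      rw [MvPolynomial.coeff_C]
      split_ifs with hd
      · rw [← hd]
      · by_contra hne
        have := hf hne
        rw [he0, Finsupp.weight_apply, Finsupp.sum_fintype _ _ (fun _ => by simp)] at this
        refine hd (Finsupp.ext fun i => ?_)
        have := Finset.sum_eq_zero_iff.mp this i (Finset.mem_univ i)
        simpa using this.symm
    exact hfy (by rw [hc]; simp)
  have hzp : (u 0)⁻¹ ^ ((e : ℤ) - 3) * ((u 0)⁻¹ ^ (e - 1))⁻¹ = u 0 ^ 2 := by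
    rw [← zpow_natCast ((u 0)⁻¹) (e - 1), ← zpow_neg, ← zpow_add₀ (inv_ne_zero hu0), Nat.cast_sub he1,
      show ((e : ℤ) - 3 + -((e : ℤ) - (1 : ℕ))) = -(2 : ℕ) by push_cast; ring, zpow_neg, zpow_natCast, inv_pow, inv_inv]
  have hdu : ∀ i, d (p i) = ∑ j, algebraMap k K (A i j) • d (u j) := fun i => by
    conv_lhs => rw [show p i = ∑ j, algebraMap k K (A i j) * u j from (hu i).symm]
    rw [map_sum]
    refine Finset.sum_congr rfl fun j _ => ?_
    rw [Derivation.leibniz, Derivation.map_algebraMap, smul_zero, add_zero]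
  have hcross : F 2 • ((algebraMap k K A.det) • (u 0 • d (u 1) - u 1 • d (u 0))) = G2 • d x := by
    have h0 : d (p 0) = 0 := by simp [hp]
    have e1 : F 1 • d x = -(F 2 • d y) := eq_neg_of_add_eq_zero_left hdiff
    have e0 : F 0 • d x = F 2 • (x • d y) - F 2 • (y • d x) := by
      rw [show F 0 = -(x * F 1) - y * F 2 by linear_combination heuler, sub_smul, neg_smul, mul_smul, e1, smul_neg,
        neg_neg, mul_smul, smul_comm x, smul_comm y]
    have hGx : G2 • d x = F 2 • (algebraMap k K (A 0 2) • (p 1 • d (p 2) - p 2 • d (p 1)) +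
        algebraMap k K (A 1 2) • (p 2 • d (p 0) - p 0 • d (p 2)) +
        algebraMap k K (A 2 2) • (p 0 • d (p 1) - p 1 • d (p 0))) := by
      rw [h0, hG2, Fin.sum_univ_three, add_smul, add_smul, mul_smul, mul_smul, mul_smul, e0, e1]
      simp only [hp, Matrix.cons_val_zero, Matrix.cons_val_one, Matrix.cons_val, one_smul, smul_zero, sub_zero, zero_sub]
      module
    rw [hGx]
    congr 1
    have hp' : ∀ i, p i = ∑ j, algebraMap k K (A i j) * u j := fun i => (hu i).symm
    simp only [hdu]
    simp only [hp', Fin.sum_univ_three, Matrix.det_fin_three, map_sub, map_add, map_mul]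
    module
  have hw1 : d (u 1 / u 0) = (u 0 ^ 2)⁻¹ • (u 0 • d (u 1) - u 1 • d (u 0)) := by
    rw [Derivation.leibniz_div]
    simp [inv_pow]
  have hG0 : G2 ≠ 0 := fun h => hfy' (by rw [hF'2, h, mul_zero])
  have hF2 : F 2 ≠ 0 := hfy
  show (F 2)⁻¹ • d x = _
  rw [hF'2, hw1, smul_smul, inv_smul_eq_iff₀ hF2]
  rw [show algebraMap k K A.det * (u 0)⁻¹ ^ ((e : ℤ) - 3) * ((u 0)⁻¹ ^ (e - 1) * G2)⁻¹ * (u 0 ^ 2)⁻¹ =
      G2⁻¹ * algebraMap k K A.det by
    rw [mul_inv, show algebraMap k K A.det * (u 0)⁻¹ ^ ((e : ℤ) - 3) * (((u 0)⁻¹ ^ (e - 1))⁻¹ * G2⁻¹) * (u 0 ^ 2)⁻¹ =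
      G2⁻¹ * algebraMap k K A.det * ((u 0)⁻¹ ^ ((e : ℤ) - 3) * ((u 0)⁻¹ ^ (e - 1))⁻¹ * (u 0 ^ 2)⁻¹) by ring, hzp,
      mul_inv_cancel₀ (pow_ne_zero _ hu0), mul_one]]
  rw [smul_comm, mul_smul, eq_inv_smul_iff₀ hG0, ← hcross, smul_comm]

end Groth.Agent.S12612
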