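import Groth.Statements.S12613
import Groth.Agent.FF.AdjointPlane

set_option autoImplicit false
open FunFld

namespace Groth.Agent.S12613

open WithZero MvPolynomial LocRes Groth.Agent.FF


/-- Over an algebraically closed constant field, for a birational plane map `φ = (1 : x : y)` of degree
`e` with irreducible relation `f̂(x, y) = 0`, the adjoint divisor `Δ(φ) = (e - 3)[φ] - [dx/f̂_y]`
has nonnegative coefficient at every place `Q`, and the coefficient is `0` exactly when `φ` is
nonsingular at `Q`. The order of `dx/f̂_y` at `Q` is read through a Laurent expansion at `Q`,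
through which that differential is assumed nonzero. -/
theorem result
    (k K : Type*) [Field k] [IsAlgClosed k] [Field K] [Algebra k K]
    (hK : FunFld.IsFunctionField k K) (x y : K) (hxy : IntermediateField.adjoin k ({x, y} : Set K) = ⊤)
    (f : MvPolynomial (Fin 2) k) (hf : Irreducible f) (hfxy : MvPolynomial.aeval ![x, y] f = 0)
    (Q : FunFld.Place k K) (ΦQ : K →ₐ[k] LaurentSeries k) (hΦQ : LocRes.IsExpansionAt Q.1 ΦQ)
    (hne : LocRes.vDiff ΦQ (MvPolynomial.aeval ![x, y] (MvPolynomial.pderiv 1 f))⁻¹ x ≠ 0) :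
    0 ≤ ((FunFld.mapDiv k ![(1 : K), x, y]).deg - 3) * FunFld.mapDiv k ![(1 : K), x, y] Q -
        LocRes.ordDiff ΦQ (MvPolynomial.aeval ![x, y] (MvPolynomial.pderiv 1 f))⁻¹ x ∧
    (((FunFld.mapDiv k ![(1 : K), x, y]).deg - 3) * FunFld.mapDiv k ![(1 : K), x, y] Q -
        LocRes.ordDiff ΦQ (MvPolynomial.aeval ![x, y] (MvPolynomial.pderiv 1 f))⁻¹ x = 0 ↔
      FunFld.IsNonsingularAt ![(1 : K), x, y] Q) := by
  classical
  obtain ⟨t, ht0, ht⟩ := exists_uniformizer Q
  obtain ⟨H, hH⟩ := exists_hasse_uniformizer hK Q ht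
  set δ := hasseDer hH with hδdef
  have hδ : ∀ w, Q.1 w = exp (-1 : ℤ) → Q.1 (δ w) = 1 := by
    intro w hw
    have hc : Q.1 (w / t) = 1 := by rw [map_div₀, hw, ht, div_self exp_ne_zero]
    have hd : δ w = w / t + t * δ (w / t) := by
      conv_lhs => rw [show w = t * (w / t) by field_simp]
      rw [δ.leibniz, show δ t = 1 from hasseD_one_self hH, smul_eq_mul, smul_eq_mul, mul_one, add_comm]
    have hsmall : Q.1 (t * δ (w / t)) < 1 := by
      rw [map_mul]
      refine (mul_le_of_le_one_right' (val_hasseD_le hK Q ht hH hc.le 1)).trans_lt ?_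
      rw [ht, ← exp_zero, exp_lt_exp]; norm_num
    rw [hd, Valuation.map_add_eq_of_lt_left _ (hc.symm ▸ hsmall), hc]
  have hv := vDiff_eq hK Q ht hH ΦQ hΦQ (aeval ![x, y] (pderiv 1 f))⁻¹ x
  rw [hv] at hne
  obtain ⟨hfy, hdx⟩ := mul_ne_zero_iff.mp ((map_ne_zero Q.1).mp hne)
  replace hfy : aeval ![x, y] (pderiv 1 f) ≠ 0 := fun e => hfy (by simp [e])
  have hdx : δ x ≠ 0 := hdx
  set l := aeval ![x, y] (pderiv 1 f) / δ x with hldef
  have hl : l ≠ 0 := div_ne_zero hfy hdx
  have hy : aeval ![x, y] (pderiv 1 f) = l * δ x := by rw [hldef, div_mul_cancel₀ _ hdx]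
  have hx : aeval ![x, y] (pderiv 0 f) = -(l * δ y) := by
    have h := chain_rule δ x y f
    rw [hfxy, map_zero δ, hy] at h
    exact mul_right_cancel₀ hdx (by linear_combination (-1 : K) * h)
  have hord : LocRes.ordDiff ΦQ (aeval ![x, y] (pderiv 1 f))⁻¹ x = WithZero.log (Q.1 l) := by
    rw [LocRes.ordDiff, hv, show hasseD H 1 x = δ x from rfl, hldef, ← WithZero.log_inv, ← map_inv₀, mul_inv,
      inv_inv, div_eq_mul_inv]
  have hdeg := (plane_degree hK hxy hf hfxy).1
  have hne' : δ x ≠ 0 ∨ δ y ≠ 0 := Or.inl hdx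
  rw [hord, hdeg]
  have hlv : Q.1 l ≠ 0 := (map_ne_zero Q.1).mpr hl
  have hD := mapDiv_plane_apply hK x y Q
  have finish : ∀ (z : K) (D : ℤ), Q.1 z = exp D →
      (Q.1 (l * z⁻¹ ^ ((f.totalDegree : ℤ) - 3)) ≤ 1 ∧
        (Q.1 (l * z⁻¹ ^ ((f.totalDegree : ℤ) - 3)) = 1 ↔ FunFld.IsNonsingularAt ![(1 : K), x, y] Q)) →
      0 ≤ ((f.totalDegree : ℤ) - 3) * D - WithZero.log (Q.1 l) ∧
        (((f.totalDegree : ℤ) - 3) * D - WithZero.log (Q.1 l) = 0 ↔ FunFld.IsNonsingularAt ![(1 : K), x, y] Q) := by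
    intro z D hz h
    have e : Q.1 (l * z⁻¹ ^ ((f.totalDegree : ℤ) - 3)) =
        exp (WithZero.log (Q.1 l) + ((f.totalDegree : ℤ) - 3) * (-D)) := by
      rw [map_mul, map_zpow₀, map_inv₀, hz, ← exp_neg, ← exp_zsmul, exp_add, exp_log hlv, smul_eq_mul]
    rw [e] at h
    obtain ⟨h1, h2⟩ := h
    have h1' := exp_le_exp.mp (h1.trans exp_zero.symm.le)
    refine ⟨by linarith, ⟨fun h3 => h2.mp ((congrArg exp ?_).trans exp_zero), fun h3 => ?_⟩⟩
    · linarith
    · have h4 := exp_inj.mp ((h2.mpr h3).trans exp_zero.symm)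
      linarith
  by_cases haff : Q.1 x ≤ 1 ∧ Q.1 y ≤ 1
  · have hD0 : FunFld.mapDiv k ![(1 : K), x, y] Q = 0 := by
      have h1 : 0 ≤ Q.ord x := by
        rcases eq_or_ne x 0 with rfl | h
        · simp [FunFld.Place.ord]
        · exact (val_le_one_iff Q h).mp haff.1
      have h2 : 0 ≤ Q.ord y := by
        rcases eq_or_ne y 0 with rfl | h
        · simp [FunFld.Place.ord]
        · exact (val_le_one_iff Q h).mp haff.2
      omega
    have hk := ker_eq_span x y (exists_not_range_of_adjoin hK hxy) hf hfxy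
    have hker : ∀ G, aeval ![x, y] G = 0 → f ∣ G := fun G hG =>
      Ideal.mem_span_singleton.mp (hk ▸ (RingHom.mem_ker.mpr hG : G ∈ RingHom.ker _))
    obtain ⟨h1, h2⟩ := adjoint_affine hK hδ haff.1 haff.2 hxy hfxy hker hl hy hx hne'
    rw [hD0]
    refine finish 1 0 (by rw [map_one, exp_zero]) ⟨by simpa using h1, ?_⟩
    rw [inv_one, one_zpow, mul_one]
    refine h2.trans (isNonsingularAt_iff_locFull (j := (0 : Fin 3)) ⟨by simp, fun i => ?_⟩ ?_).symm
    · fin_cases i <;> simp [haff.1, haff.2]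
    · refine le_antisymm (Algebra.adjoin_le ?_) (Algebra.adjoin_le ?_)
      · rintro z ⟨i, rfl⟩
        fin_cases i
        · simp
        · simpa using Algebra.subset_adjoin (R := k) (show x ∈ ({x, y} : Set K) from Or.inl rfl)
        · simpa using Algebra.subset_adjoin (R := k) (show y ∈ ({x, y} : Set K) from Or.inr rfl)
      · rintro z (rfl | rfl)
        · exact Algebra.subset_adjoin ⟨1, by simp⟩
        · exact Algebra.subset_adjoin ⟨2, by simp⟩
  rw [not_and_or, not_le, not_le] at haff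
  by_cases hxyle : Q.1 y ≤ Q.1 x
  · have h1 : 1 < Q.1 x := haff.elim id (fun h => h.trans_le hxyle)
    have hx0 : x ≠ 0 := fun e => by rw [e, map_zero] at h1; exact not_lt.mpr zero_le h1
    refine finish x _ ?_ (adjoint_infinite hK hδ h1 hxyle hxy hf hfxy hl hy hx hne')
    rw [val_eq_exp_neg_ord Q hx0, exp_inj, hD]
    have a1 : Q.ord x < 0 := not_le.mp fun h => not_le.mpr h1 ((val_le_one_iff Q hx0).mpr h)
    rcases eq_or_ne y 0 with rfl | hy0
    · have h0 : Q.ord (0 : K) = 0 := by simp [FunFld.Place.ord]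
      omega
    · rw [val_eq_exp_neg_ord Q hx0, val_eq_exp_neg_ord Q hy0, exp_le_exp] at hxyle; omega
  · have hle := (not_le.mp hxyle).le
    have h1 : 1 < Q.1 y := haff.elim (fun h => h.trans (not_le.mp hxyle)) id
    have hy0 : y ≠ 0 := fun e => by rw [e, map_zero] at h1; exact not_lt.mpr zero_le h1
    let sw : MvPolynomial (Fin 2) k ≃ₐ[k] MvPolynomial (Fin 2) k := renameEquiv k (Equiv.swap 0 1)
    have hsw : ∀ G : MvPolynomial (Fin 2) k, sw G = aeval ![(X 1 : MvPolynomial (Fin 2) k), X 0] G := fun G => by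
      have : (sw : MvPolynomial (Fin 2) k →ₐ[k] MvPolynomial (Fin 2) k) = aeval ![X 1, X 0] :=
        algHom_ext fun i => by fin_cases i <;> simp [sw]
      exact AlgHom.congr_fun this G
    set f' := aeval ![(X 1 : MvPolynomial (Fin 2) k), X 0] f with hf'
    have hirr : Irreducible f' := by
      rw [hf', ← hsw]; exact hf.map (f := sw)
    have hgen : IntermediateField.adjoin k ({y, x} : Set K) = ⊤ := by rw [Set.pair_comm]; exact hxy
    have hrel : aeval ![y, x] f' = 0 := by rw [hf', aeval_swap]; exact hfxy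
    have hmd : FunFld.mapDiv k ![(1 : K), y, x] = FunFld.mapDiv k ![(1 : K), x, y] := Finsupp.ext fun R => by
      rw [mapDiv_plane_apply hK, mapDiv_plane_apply hK, max_comm (-R.ord y)]
    have he : f'.totalDegree = f.totalDegree := by
      have a := (plane_degree hK hgen hirr hrel).1
      rw [hmd, hdeg] at a
      exact_mod_cast a.symm
    have key := adjoint_infinite hK hδ h1 hle hgen hirr hrel (l := -l) (neg_ne_zero.mpr hl)
      (by rw [hf', (pderiv_swap f).2, aeval_swap, hx]; ring)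
      (by rw [hf', (pderiv_swap f).1, aeval_swap, hy]; ring) hne'.symm
    rw [he, neg_mul, Q.1.map_neg] at key
    have hns : FunFld.IsNonsingularAt ![(1 : K), y, x] Q ↔ FunFld.IsNonsingularAt ![(1 : K), x, y] Q := by
      have hs1 : ratioAlg k ![(1 : K), y, x] (1 : Fin 3) = Algebra.adjoin k ({y⁻¹, x / y} : Set K) := by
        refine le_antisymm (Algebra.adjoin_le ?_) (Algebra.adjoin_le ?_)
        · rintro z ⟨i, rfl⟩
          fin_cases i
          · simpa using Algebra.subset_adjoin (R := k) (show y⁻¹ ∈ ({y⁻¹, x / y} : Set K) from Or.inl rfl)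
          · simp [hy0]
          · simpa using Algebra.subset_adjoin (R := k) (show x / y ∈ ({y⁻¹, x / y} : Set K) from Or.inr rfl)
        · rintro z (rfl | rfl)
          · exact Algebra.subset_adjoin ⟨0, by simp⟩
          · exact Algebra.subset_adjoin ⟨2, by simp⟩
      have hs2 : ratioAlg k ![(1 : K), x, y] (2 : Fin 3) = Algebra.adjoin k ({y⁻¹, x / y} : Set K) := by
        refine le_antisymm (Algebra.adjoin_le ?_) (Algebra.adjoin_le ?_)
        · rintro z ⟨i, rfl⟩
          fin_cases i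
          · simpa using Algebra.subset_adjoin (R := k) (show y⁻¹ ∈ ({y⁻¹, x / y} : Set K) from Or.inl rfl)
          · simpa using Algebra.subset_adjoin (R := k) (show x / y ∈ ({y⁻¹, x / y} : Set K) from Or.inr rfl)
          · simp [hy0]
        · rintro z (rfl | rfl)
          · exact Algebra.subset_adjoin ⟨0, by simp⟩
          · exact Algebra.subset_adjoin ⟨1, by simp⟩
      rw [isNonsingularAt_iff_locFull (j := (1 : Fin 3)) ⟨by simpa using hy0, fun i => by fin_cases i <;> simp [h1.le, hle]⟩ hs1,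
        isNonsingularAt_iff_locFull (j := (2 : Fin 3)) ⟨by simpa using hy0, fun i => by fin_cases i <;> simp [h1.le, hle]⟩ hs2]
    rw [hns] at key
    refine finish y _ ?_ key
    rw [val_eq_exp_neg_ord Q hy0, exp_inj, hD]
    have a1 : Q.ord y < 0 := not_le.mp fun h => not_le.mpr h1 ((val_le_one_iff Q hy0).mpr h)
    rcases eq_or_ne x 0 with rfl | hx0
    · exact absurd (map_zero δ) hdx
    · rw [val_eq_exp_neg_ord Q hx0, val_eq_exp_neg_ord Q hy0, exp_le_exp] at hle; omega

end Groth.Agent.S12613
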