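import Groth.Statements.S12616
import Groth.Agent.S12612
import Groth.Agent.FF.DiffChange
import Groth.Agent.FF.PlaneModel
import Groth.Agent.FF.WeilRH

set_option autoImplicit false
open FunFld

namespace Groth.Agent.S12616

open WithZero Groth.Agent.FF LocRes in
theorem exp_mapDiv_plane {k K : Type*} [Field k] [Field K] [Algebra k K] (hK : IsFunctionField k K) (x y : K)
    (P : Place k K) : exp (mapDiv k ![(1 : K), x, y] P) = max 1 (max (P.1 x) (P.1 y)) := by
  have h : ∀ z : K, max 1 (P.1 z) = exp (max 0 (-P.ord z)) := fun z => by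
    rcases eq_or_ne z 0 with rfl | hz
    · simp [Place.ord]
    · rw [val_eq_exp_neg_ord P hz, ← exp_zero]
      rcases le_total (0 : ℤ) (-P.ord z) with h | h
      · rw [max_eq_right h, max_eq_right (exp_le_exp.mpr h)]
      · rw [max_eq_left h, max_eq_left (exp_le_exp.mpr h)]
  rw [mapDiv_plane_apply hK, show max 1 (max (P.1 x) (P.1 y)) = max (max 1 (P.1 x)) (max 1 (P.1 y)) by
    rw [max_max_max_comm, max_self], h, h]
  rw [show max 0 (max (-P.ord x) (-P.ord y)) = max (max 0 (-P.ord x)) (max 0 (-P.ord y)) by omega]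
  rcases le_total (max 0 (-P.ord x)) (max 0 (-P.ord y)) with h | h <;>
    simp only [max_eq_right, max_eq_left, h, exp_le_exp.mpr h]

open WithZero LocRes Groth.Agent.FF


/-- Over an algebraically closed constant field, the adjoint divisor `Δ(φ) = (e - 3)[φ] - [dx/f̂_y]` of
an effective plane map `φ = (1 : x : y)` of degree `e`, with a homogeneous relation `f` of the same
degree `e` satisfying `f(1, x, y) = 0`, depends only on the equivalence class of `φ`: it is
unchanged under a change of projective coordinates `X = AX'`, with `x' = u₁/u₀`, `y' = u₂/u₀`, `u =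
A⁻¹(1, x, y)ᵗ`, `f'(X') = f(AX')`. Here `dx ≠ 0`, both `f̂_y` and `f̂'_{y'}` are nonzero, and
divisors of differentials are read through a family of Laurent expansions. (The published statement
takes `f` to be the minimal relation of `x` and `y` for a plane model `K = k(x, y)`, where the
degree of the map equals the degree of `f`; this row assumes only that `f` is homogeneous of degree
equal to the degree of the map, which is all the change-of-coordinates computation uses — when the
two degrees differ the two sides differ by a multiple of the divisor of `u₀`.) -/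
theorem result
    (k K : Type*) [Field k] [IsAlgClosed k] [Field K] [Algebra k K]
    (hK : FunFld.IsFunctionField k K) (f : MvPolynomial (Fin 3) k) (e : ℕ) (hf : f.IsHomogeneous e)
    (x y : K) (hfxy : MvPolynomial.aeval ![(1 : K), x, y] f = 0)
    (hdx : KaehlerDifferential.D k K x ≠ 0)
    (he : (FunFld.mapDiv k ![(1 : K), x, y]).deg = e)
    (A : Matrix (Fin 3) (Fin 3) k) (hA : A.det ≠ 0)
    (u : Fin 3 → K) (hu : ∀ i, ∑ j, algebraMap k K (A i j) * u j = ![(1 : K), x, y] i)
    (hu0 : u 0 ≠ 0)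
    (hfy : (MvPolynomial.aeval ![(1 : K), x, y] (MvPolynomial.pderiv 2 f)) ≠ 0)
    (hfy' : (MvPolynomial.aeval ![(1 : K), u 1 / u 0, u 2 / u 0] (MvPolynomial.pderiv 2 (MvPolynomial.aeval (fun i : Fin 3 => ∑ j, MvPolynomial.C (A i j) * MvPolynomial.X j) f))) ≠ 0)
    (Φ : FunFld.Place k K → (K →ₐ[k] LaurentSeries k))
    (hΦ : ∀ P : FunFld.Place k K, LocRes.IsExpansionAt P.1 (Φ P)) :
    ((FunFld.mapDiv k ![(1 : K), x, y]).deg - 3) • FunFld.mapDiv k ![(1 : K), x, y] -
        FunFld.divDiff Φ (MvPolynomial.aeval ![(1 : K), x, y] (MvPolynomial.pderiv 2 f))⁻¹ x =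
      ((FunFld.mapDiv k ![(1 : K), u 1 / u 0, u 2 / u 0]).deg - 3) •
          FunFld.mapDiv k ![(1 : K), u 1 / u 0, u 2 / u 0] -
        FunFld.divDiff Φ (MvPolynomial.aeval ![(1 : K), u 1 / u 0, u 2 / u 0] (MvPolynomial.pderiv 2 (MvPolynomial.aeval (fun i : Fin 3 => ∑ j, MvPolynomial.C (A i j) * MvPolynomial.X j) f)))⁻¹ (u 1 / u 0) := by
  classical
  obtain ⟨s, hs, hsf, hss⟩ := exists_separating hK
  obtain ⟨H, hH⟩ := exists_hasse (t := s) hs
  set δ := hasseDer hH with hδ
  have hD : ∀ v, KaehlerDifferential.D k K v = δ v • KaehlerDifferential.D k K s := by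
    have he : KaehlerDifferential.D k K =
        (LinearMap.toSpanSingleton K _ (KaehlerDifferential.D k K s)).compDer δ := by
      refine derivation_ext_separable (x := s) _ _ ?_
      change KaehlerDifferential.D k K s = hasseD H 1 s • KaehlerDifferential.D k K s
      rw [hasseD_one_self hH, one_smul]
    exact fun v => Derivation.congr_fun he v
  have hdx' : δ x ≠ 0 := fun h => hdx (by rw [hD, h, zero_smul])
  set x' := u 1 / u 0 with hx'
  set y' := u 2 / u 0 with hy'
  set a := MvPolynomial.aeval ![(1 : K), x, y] (MvPolynomial.pderiv 2 f)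
  set a' := MvPolynomial.aeval ![(1 : K), x', y'] (MvPolynomial.pderiv 2 (MvPolynomial.aeval (fun i : Fin 3 => ∑ j, MvPolynomial.C (A i j) * MvPolynomial.X j) f))
  have hid : a⁻¹ * δ x = algebraMap k K A.det * (u 0)⁻¹ ^ ((e : ℤ) - 3) * a'⁻¹ * δ x' := by
    have h := congrArg δ.liftKaehlerDifferential (S12612.result k K f e hf x y hfxy A hA u hu hu0 hfy hfy')
    rw [map_smul, map_smul, Derivation.liftKaehlerDifferential_comp_D, Derivation.liftKaehlerDifferential_comp_D] at h
    exact h
  have hc : algebraMap k K A.det ≠ 0 := (map_ne_zero _).mpr hA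
  have hz : a⁻¹ * δ x ≠ 0 := mul_ne_zero (inv_ne_zero hfy) hdx'
  have hw : a'⁻¹ * δ x' ≠ 0 := fun h => hz (by rw [hid, mul_assoc, h, mul_zero])
  have hz' : a⁻¹ * hasseD H 1 x ≠ 0 := hz
  have hw' : a'⁻¹ * hasseD H 1 x' ≠ 0 := hw
  have hmap : FunFld.mapDiv k ![(1 : K), x, y] = FunFld.mapDiv k ![(1 : K), x', y'] - FunFld.div k (u 0) := by
    refine Finsupp.ext fun P => exp_injective (M := ℤ) ?_
    rw [Finsupp.sub_apply, div_apply hK, sub_eq_add_neg, exp_add, ← val_eq_exp_neg_ord P hu0,
      exp_mapDiv_plane hK, exp_mapDiv_plane hK]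
    have hu0' : 0 < P.1 (u 0) := zero_lt_iff.mpr ((map_ne_zero P.1).mpr hu0)
    have hR : max 1 (max (P.1 x') (P.1 y')) * P.1 (u 0) = max (P.1 (u 0)) (max (P.1 (u 1)) (P.1 (u 2))) := by
      rw [max_mul, max_mul, one_mul, ← map_mul, ← map_mul, hx', hy', div_mul_cancel₀ _ hu0, div_mul_cancel₀ _ hu0]
    rw [hR]
    have hAv : ∀ c : k, P.1 (algebraMap k K c) ≤ 1 := P.2.1
    have hub : ∀ i, P.1 (u i) ≤ max (P.1 (u 0)) (max (P.1 (u 1)) (P.1 (u 2))) := fun i => by
      fin_cases i <;> simp
    have hpb : ∀ i, P.1 (![(1 : K), x, y] i) ≤ max 1 (max (P.1 x) (P.1 y)) := fun i => by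
      fin_cases i <;> simp
    refine le_antisymm ?_ ?_
    · have h : ∀ i, P.1 (![(1 : K), x, y] i) ≤ max (P.1 (u 0)) (max (P.1 (u 1)) (P.1 (u 2))) := fun i => by
        rw [← hu i]
        exact P.1.map_sum_le fun j _ => by rw [map_mul]; exact (mul_le_of_le_one_left' (hAv _)).trans (hub j)
      exact max_le (by simpa using h 0) (max_le (by simpa using h 1) (by simpa using h 2))
    · have h : ∀ i, P.1 (u i) ≤ max 1 (max (P.1 x) (P.1 y)) := fun i => by
        have e2 : u = ((A.map (algebraMap k K))⁻¹).mulVec ![(1 : K), x, y] := by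
          have hA' : IsUnit (A.map (algebraMap k K)).det := by
            rw [show (A.map (algebraMap k K)).det = algebraMap k K A.det from ((algebraMap k K).map_det A).symm]; exact isUnit_iff_ne_zero.mpr hc
          have e1 : (A.map (algebraMap k K)).mulVec u = ![(1 : K), x, y] := _root_.funext fun i => hu i
          rw [← e1, Matrix.mulVec_mulVec, Matrix.nonsing_inv_mul _ hA', Matrix.one_mulVec]
        have e3 : (A.map (algebraMap k K))⁻¹ = (A⁻¹).map (algebraMap k K) := by
          refine Matrix.inv_eq_left_inv ?_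
          rw [← Matrix.map_mul, Matrix.nonsing_inv_mul _ (isUnit_iff_ne_zero.mpr hA), Matrix.map_one _ (map_zero _) (map_one _)]
        rw [congrFun e2 i, e3]
        rw [Matrix.mulVec, dotProduct]
        refine P.1.map_sum_le (g := max 1 (max (P.1 x) (P.1 y))) fun j _ => ?_
        rw [map_mul]; exact (mul_le_of_le_one_left' (hAv _)).trans (hpb j)
      exact max_le (h 0) (max_le (h 1) (h 2))
  have he' : (FunFld.mapDiv k ![(1 : K), x', y']).deg = e := by
    have h1 := congrArg FunFld.Divisor.deg hmap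
    rw [he, deg_sub, deg_div_eq_zero hK, sub_zero] at h1
    exact h1.symm
  rw [divDiff_eq_div_add hK hH Φ hΦ _ _ hz', divDiff_eq_div_add hK hH Φ hΦ _ _ hw', he, he', hmap]
  refine Finsupp.ext fun P => ?_
  simp only [Finsupp.sub_apply, Finsupp.add_apply, Finsupp.smul_apply, div_apply hK, smul_eq_mul]
  rw [show a⁻¹ * hasseD H 1 x = algebraMap k K A.det * (u 0)⁻¹ ^ ((e : ℤ) - 3) * (a'⁻¹ * hasseD H 1 x') from
    hid.trans (mul_assoc _ _ _), ord_mul P (mul_ne_zero hc (zpow_ne_zero _ (inv_ne_zero hu0))) hw',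
    ord_mul P hc (zpow_ne_zero _ (inv_ne_zero hu0)), inv_zpow', ord_mul_zpow_aux P hu0,
    ord_eq_of_val P (x := algebraMap k K A.det) (n := 0) (by rw [val_algebraMap P hA, neg_zero, exp_zero])]
  ring

end Groth.Agent.S12616
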