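import Groth.Statements.S12621
import Mathlib
import Groth.Agent.LocResLib.Basic

set_option autoImplicit false
universe u v w
open LocRes

namespace Groth.Agent.S12621

/-- For a `k`-algebra homomorphism `φ : K → F((X))` from a field into formal Laurent series over a
field, an element `f` of `K` and a nonzero integer `n`, the residue of `f^(n-1) df` read through `φ`
— the `X⁻¹`-coefficient of `φ(f)^(n-1) · (φ f)′` — vanishes, in every characteristic (also when the
characteristic divides `n`). (The published statement is for the intrinsic residue of a complete
field with a perfect coefficient field; read through an expansion it is this identity of Laurent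
series, and no property of `φ` is needed.) -/
theorem result {k : Type u} {K : Type v} {F : Type w} [CommRing k] [Field K] [Field F]
    [Algebra k K] [Algebra k F]
    (φ : K →ₐ[k] LaurentSeries F) (f : K) (n : ℤ) (hn : n ≠ 0) :
    LocRes.resExp φ (f ^ (n - 1)) f = 0 := by
  open Groth.Agent.LocResLib in
    rw [LocRes.resExp, map_zpow₀]
    exact res_zpow_mul_D (φ f) n hn
end Groth.Agent.S12621
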