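import Groth.Statements.S12627
import Groth.Agent.AbVarLib.CurveTangent
import Groth.Agent.AbVarLib.HomDim
import Groth.Agent.AbVarLib.GeomIntegralSmooth
import Groth.Agent.AbVarLib.AlgClosedIntegral
import Mathlib.AlgebraicGeometry.Group.Abelian

set_option autoImplicit false
set_option linter.style.haveILetI false
universe u
open CategoryTheory CategoryTheory.Limits MonoidalCategory CartesianMonoidalCategory MonObj GrpObj AlgebraicGeometry
open AbVar

namespace Groth.Agent.S12627

open Groth.Agent.AbVarLib Groth.Agent.LieSLib

/-- A homomorphism of group curves is trivial or surjective. -/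
theorem eq_one_or_surjective {k : Type u} [Field k] [IsAlgClosed k] {E₁ E₂ : Over (Spec (CommRingCat.of k))}
    [GrpObj E₁] [IsProper E₁.hom] [IsIntegral E₁.left] [GrpObj E₂] [IsProper E₂.hom] [IsIntegral E₂.left]
    (hE₂ : topologicalKrullDim E₂.left = 1) (f : E₁ ⟶ E₂) [IsMonHom f] : f = 1 ∨ Surjective f.left := by
  have := Groth.Agent.AbVarLib.isProper_left f
  by_cases hs : Surjective f.left
  · exact Or.inr hs
  left
  let pt : Spec (CommRingCat.of k) := IsLocalRing.closedPoint k
  let c := (η[E₂]).left.base pt
  have hne : f.left.base (genericPoint E₁.left) ≠ genericPoint E₂.left := fun h => hs ⟨fun y => by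
    have hr : IsClosed (Set.range f.left) := f.left.isClosedMap.isClosed_range
    exact hr.closure_subset_iff.2 (Set.singleton_subset_iff.2 ⟨_, h⟩)
      (((genericPoint_spec E₂.left).specializes trivial).mem_closure)⟩
  let p := f.left.base (genericPoint E₁.left)
  have hc : IsClosed ({c} : Set E₂.left) := ((pointEquivClosedPoint E₂.hom) ⟨(η[E₂]).left, Over.w η[E₂]⟩).2
  have hpc : p ⤳ c := by
    have h1 : (η[E₁] ≫ f).left.base pt = c := by rw [IsMonHom.one_hom]
    rw [← h1]
    exact ((genericPoint_spec E₁.left).specializes (y := (η[E₁]).left.base pt) trivial).map f.left.continuous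
  have hp : p = c := by
    by_contra hpne
    have hlt1 : c < p := lt_of_le_not_ge (Scheme.le_iff_specializes.2 hpc)
      fun h => hpne (hpc.antisymm (Scheme.le_iff_specializes.1 h)).eq
    have h2 : genericPoint E₂.left ⤳ p := (genericPoint_spec E₂.left).specializes trivial
    have hlt2 : p < genericPoint E₂.left := lt_of_le_not_ge (Scheme.le_iff_specializes.2 h2)
      fun h => hne ((Scheme.le_iff_specializes.1 h).antisymm h2).eq
    have hge : (2 : ℕ∞) ≤ Order.coheight c :=
      calc (2 : ℕ∞) = 0 + 1 + 1 := by norm_num
        _ ≤ Order.coheight (genericPoint E₂.left) + 1 + 1 := by gcongr; exact zero_le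
        _ ≤ Order.coheight p + 1 := by gcongr; exact Order.coheight_add_one_le hlt2
        _ ≤ _ := Order.coheight_add_one_le hlt1
    have hle : (Order.coheight c : WithBot ℕ∞) ≤ 1 := by
      refine le_trans (Order.coheight_le_krullDim c) ?_
      rw [← Order.krullDim_eq_of_orderIso (irreducibleSetEquivPoints (α := E₂.left))]
      exact hE₂.le
    exact absurd (hge.trans (by exact_mod_cast hle)) (by norm_num)
  have hall : ∀ x, f.left.base x = c := fun x => by
    have h := ((genericPoint_spec E₁.left).specializes (y := x) trivial).map f.left.continuous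
    exact Set.mem_singleton_iff.1 (hc.closure_subset_iff.2 (Set.singleton_subset_iff.2 hp) h.mem_closure)
  haveI : LocallyOfFiniteType (f.left ≫ E₂.hom) := by rw [Over.w f]; infer_instance
  refine Over.OverMorphism.ext (ext_of_apply_eq E₂.hom Set.univ isOpen_univ.isLocallyClosed dense_univ
    (fun x _ _ => ?_) (by rw [Over.w, Over.w]))
  rw [hall x, Hom.one_def]
  show c = (η[E₂]).left.base ((toUnit E₁).left.base x)
  rw [show (toUnit E₁).left.base x = pt from
    @Subsingleton.elim _ (inferInstanceAs (Subsingleton (PrimeSpectrum k))) _ _]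


/-- Let `k` be an algebraically closed field and `E₁`, `E₂` elliptic curves over `k`, i.e. group schemes
over `Spec k` whose underlying schemes are proper, smooth, integral and one-dimensional. If `φ, φ' :
E₁ → E₂` are homomorphisms with `φ` finite, surjective and étale (a separable isogeny) and `φ'` not
étale (the zero homomorphism or an inseparable isogeny), then their sum under the group law of `E₂`
— the composite of `(φ, φ')` with the multiplication of `E₂` — is finite, surjective and étale, i.e.
again a separable isogeny. (The published statement is for arbitrary morphisms `φ, φ'` and takes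
`φ'` inseparable; this row takes homomorphisms, the case its proof treats — a morphism of elliptic
curves is a homomorphism followed by a translation, which changes neither the hypotheses nor the
conclusion — and allows `φ'` to be the zero map, that case being immediate.) -/
theorem result (k : Type u) [Field k] [IsAlgClosed k]
    (E₁ E₂ : Over (Spec (CommRingCat.of k)))
    [GrpObj E₁] [IsProper E₁.hom] [Smooth E₁.hom] [IsIntegral E₁.left] (hE₁ : topologicalKrullDim E₁.left = 1)
    [GrpObj E₂] [IsProper E₂.hom] [Smooth E₂.hom] [IsIntegral E₂.left] (hE₂ : topologicalKrullDim E₂.left = 1)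
    (φ φ' : E₁ ⟶ E₂) [IsMonHom φ] [IsMonHom φ'] [IsFinite φ.left] [Surjective φ.left] [Etale φ.left]
    (hφ' : ¬ Etale φ'.left) :
    IsFinite (φ * φ').left ∧ Surjective (φ * φ').left ∧ Etale (φ * φ').left := by
  haveI := Groth.Agent.AbVarLib.geometricallyIntegral_of_isAlgClosed E₁.hom
  haveI := Groth.Agent.AbVarLib.geometricallyIntegral_of_isAlgClosed E₂.hom
  haveI : IsCommMonObj E₂ := isCommMonObj_of_isProper_of_geometricallyIntegral E₂
  haveI : IsMonHom (φ * φ') := by rw [Hom.mul_def]; infer_instance
  have hdim : topologicalKrullDim E₁.left = topologicalKrullDim E₂.left := hE₁.trans hE₂.symm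
  have hint : IrreducibleSpace E₁.left := inferInstance
  obtain ⟨w₀, hw₀, hw₀ne⟩ := Groth.Agent.AlgGrpLib.exists_tangent_ne_one E₁ (by rw [hE₁]; exact zero_lt_one)
  have hφw : w₀ ≫ φ ≠ 1 := fun h =>
    hw₀ne (Groth.Agent.AlgGrpLib.eq_one_of_comp_eq_one E₁ φ (IsMonHom.one_hom φ) w₀ hw₀ h)
  -- non-étale homomorphisms kill every tangent vector
  have hkill : ∀ (f : E₁ ⟶ E₂) [IsMonHom f], ¬ Etale f.left → w₀ ≫ f = 1 := by
    intro f _ hf
    rcases eq_one_or_surjective hE₂ f with h | h
    · rw [h, MonObj.comp_one]
    · obtain ⟨hfin, hflat⟩ := Groth.Agent.AbVarLib.isFinite_and_flat_of_surjective f hdim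
      obtain ⟨w, hw, hwne, hwf⟩ := exists_tangent_of_not_etale f hf
      obtain ⟨r, hr⟩ := tangent_proportional hE₁.le w₀ w hw₀ hw hwne
      rw [hr, Category.assoc, hwf, MonObj.comp_one]
  have hmul : w₀ ≫ (φ * φ') ≠ 1 := by
    rw [MonObj.comp_mul, hkill φ' hφ', _root_.mul_one]
    exact hφw
  have hsurj : Surjective (φ * φ').left := by
    rcases eq_one_or_surjective hE₂ (φ * φ') with h | h
    · exact absurd (by rw [h, MonObj.comp_one]) hmul
    · exact h
  refine ⟨(Groth.Agent.AbVarLib.isFinite_and_flat_of_surjective (φ * φ') hdim).1, hsurj, ?_⟩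
  by_contra hne
  exact hmul (hkill (φ * φ') hne)

end Groth.Agent.S12627
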