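import Groth.Statements.S12631
import Groth.Agent.Residue24.WeilDiff
-- import your own Groth.Agent.* helpers here

set_option autoImplicit false
universe u v w
open FunFld

set_option backward.isDefEq.respectTransparency.types false
namespace Groth.Agent.S12631

/-- Let `K/k` be a geometric function field of one variable of genus one all of whose places carry a
Laurent expansion over `k` in a local parameter (so every place is separable), and `v ∈ K` with `dv
≠ 0`. Then there is a nonzero `u ∈ K` whose differential `u dv` has divisor zero — the order of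
`φ_P(u) · (φ_P v)′` is `0` at every place `P` — and such a `u` is unique up to a factor from `k`.
(The published statement concerns elliptic curves over algebraically closed fields; this row is the
form for any constant field under the stated separability of all places.) -/
theorem result (k : Type u) (K : Type v) [Field k] [Field K] [Algebra k K]
    (hK : FunFld.IsFunctionField k K) (hg : FunFld.IsGeometric k K) (h1 : FunFld.genus k K = 1)
    (F : FunFld.Place k K → Type w) [∀ P, Field (F P)] [∀ P, Algebra k (F P)] [∀ P, FiniteDimensional k (F P)]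
    (φ : ∀ P, K →ₐ[k] LaurentSeries (F P)) (hφ : ∀ P, LocRes.IsExpansionAt P.1 (φ P))
    (v : K) (hv : KaehlerDifferential.D k K v ≠ 0) :
    (∃ u : K, u ≠ 0 ∧ ∀ P, LocRes.vDiff (φ P) u v = 1) ∧
      ∀ u u' : K, u ≠ 0 → (∀ P, LocRes.vDiff (φ P) u v = 1) → (∀ P, LocRes.vDiff (φ P) u' v = 1) →
        ∃ c : k, u' = c • u := by
  have hfr : Module.finrank k (FunFld.WD (0 : FunFld.Divisor k K)) = 1 := by
    have h2 := (Groth.Agent.FF.finrank_WD' hK 0).2
    have h3 := (Groth.Agent.FF.finrank_L_zero hK).2
    simp only [Groth.Agent.FF.defect, Groth.Agent.FF.deg_zero, h3, h1] at h2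
    omega
  have hmem : ∀ u : K, (∀ P, LocRes.vDiff (φ P) u v = 1) →
      Groth.Agent.Residue24.resForm hφ hK v u ∈ FunFld.WD (0 : FunFld.Divisor k K) := fun u hu =>
    Groth.Agent.Residue24.resForm_mem_WD hφ hK fun P => by simp [hu P]
  constructor
  · have : Nontrivial (FunFld.WD (0 : FunFld.Divisor k K)) := Module.nontrivial_of_finrank_pos (R := k) (by omega)
    obtain ⟨ω, hω⟩ := exists_ne (0 : FunFld.WD (0 : FunFld.Divisor k K))
    obtain ⟨u, hu⟩ := Groth.Agent.Residue24.resForm_surjective hφ hK hg hv ⟨0, ω.2⟩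
    have hu0 : u ≠ 0 := fun h => hω (Subtype.ext (by rw [← hu, h, map_zero]; rfl))
    obtain ⟨C, hC1, hC2⟩ := Groth.Agent.Residue24.exists_divisor hφ hK hg hu0 hv
    have hle : (0 : FunFld.Divisor k K) ≤ C := (hC2 0).mp (hu ▸ ω.2)
    have hdeg := (Groth.Agent.FF.ell_canonical hK ⟨_, Groth.Agent.Residue24.resForm_ne_zero hφ hK hg hu0 hv, hC2⟩).2
    have hC0 : (0 : FunFld.Divisor k K) = C :=
      Groth.Agent.FF.eq_of_le_of_deg_le hK hle (by rw [hdeg, Groth.Agent.FF.deg_zero, h1]; omega)
    refine ⟨u, hu0, fun P => ?_⟩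
    have h := hC1 P
    rw [← hC0, Finsupp.zero_apply, LocRes.ordDiff] at h
    rw [← WithZero.exp_log (Groth.Agent.Residue24.vDiff_ne_zero hK hg (hφ P) hu0 hv),
      show WithZero.log (LocRes.vDiff (φ P) u v) = 0 by omega, WithZero.exp_zero]
  · intro u u' hu0 hu hu'
    obtain ⟨c, hc⟩ := exists_smul_eq_of_finrank_eq_one hfr
      (x := (⟨_, hmem u hu⟩ : FunFld.WD (0 : FunFld.Divisor k K)))
      (fun h => Groth.Agent.Residue24.resForm_ne_zero hφ hK hg hu0 hv (congrArg Subtype.val h)) ⟨_, hmem u' hu'⟩
    refine ⟨c, Groth.Agent.Residue24.resForm_injective hφ hK hg hv ?_⟩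
    rw [map_smul]
    exact (congrArg Subtype.val hc).symm

end Groth.Agent.S12631
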