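import Groth.Statements.S1265
import Groth.Agent.CAlgMisc2.FlatNil
import Groth.Agent.FlatMor12.FlatteningIdeal

set_option autoImplicit false
universe u
open FlatMor

namespace Groth.Agent.S1265

/-- Ring form, stated for X = Spec B affine: let A be an Artinian ring, B an A-algebra and N a B-module.
Then there is an ideal I of A such that for every A-algebra A', with B' = B ⊗_A A' and N' the base
change of N (any models), N' is flat over A' if and only if IA' = 0. -/
theorem result {A B : Type u} [CommRing A] [IsArtinianRing A] [CommRing B] [Algebra A B]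
    (N : Type u) [AddCommGroup N] [Module B N] [Module A N] [IsScalarTower A B N] :
    ∃ I : Ideal A, ∀ (A' B' N' : Type u) [CommRing A'] [CommRing B'] [Algebra A A'] [Algebra B B'] [Algebra A' B'] [Algebra A B']
      [IsScalarTower A B B'] [IsScalarTower A A' B'] [Algebra.IsPushout A B A' B']
      [AddCommGroup N'] [Module B' N'] [Module B N'] [IsScalarTower B B' N'] [Module A' N'] [IsScalarTower A' B' N']
      (f : N →ₗ[B] N'), IsBaseChange B' f →
      (Module.Flat A' N' ↔ I.map (algebraMap A A') = ⊥) := by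
  open TensorProduct in
  let T : Set (Ideal A) := {J | Module.Flat (A ⧸ J) ((A ⧸ J) ⊗[A] N)}
  have hflat : ∀ (R : Type u) [CommRing R] [IsArtinianRing R] [IsReduced R] (M : Type u) [AddCommGroup M] [Module R M],
      Module.Flat R M := fun R _ _ _ M _ _ => by
    have := IsArtinianRing.isSemisimpleRing_of_isReduced R
    have := Module.projective_of_isSemisimpleRing R M
    exact inferInstance
  have hT : T.Nonempty := ⟨⊤, by
    have : Subsingleton (A ⧸ (⊤ : Ideal A)) := Ideal.Quotient.subsingleton_iff.2 rfl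
    have : Subsingleton ((A ⧸ (⊤ : Ideal A)) ⊗[A] N) := Module.subsingleton (A ⧸ (⊤ : Ideal A)) _
    exact (inferInstance : Module.Flat (A ⧸ (⊤ : Ideal A)) ((A ⧸ (⊤ : Ideal A)) ⊗[A] N))⟩
  obtain ⟨I, hI, hmin⟩ := WellFounded.has_min
    (IsWellFounded.wf : WellFounded ((· < ·) : Ideal A → Ideal A → Prop)) T hT
  have hleast : ∀ J ∈ T, I ≤ J := fun J hJ => by
    by_contra h
    exact hmin (I ⊓ J) (Groth.Agent.FlatMor12.FlatteningIdeal.flat_of_quotFlat
      (Groth.Agent.FlatMor12.FlatteningIdeal.quotFlat_inf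
        ((Groth.Agent.FlatMor12.FlatteningIdeal.quotFlat_iff I).2 hI)
        ((Groth.Agent.FlatMor12.FlatteningIdeal.quotFlat_iff J).2 hJ))) (inf_lt_left.2 h)
  refine ⟨I, fun A' B' N' _ _ _ _ _ _ _ _ _ _ _ _ _ _ _ f hf => ?_⟩
  have : Algebra.IsPushout A A' B B' := Algebra.IsPushout.symm ‹Algebra.IsPushout A B A' B'›
  let e : A' ⊗[A] N ≃ₗ[A'] N' :=
    (Algebra.IsPushout.cancelBaseChange A A' B B' N).symm.trans (hf.equiv.restrictScalars A')
  rw [← Module.Flat.equiv_iff e, Ideal.map_eq_bot_iff_le_ker]
  constructor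
  · intro hA'
    let J := RingHom.ker (algebraMap A A')
    let R := A ⧸ J
    let φ : R →+* A' := RingHom.kerLift (algebraMap A A')
    let _ : Algebra R A' := φ.toAlgebra
    have : IsScalarTower A R A' := .of_algebraMap_eq fun a => rfl
    have : Module.Flat A' (A' ⊗[R] (R ⊗[A] N)) :=
      Module.Flat.of_linearEquiv (TensorProduct.AlgebraTensorModule.cancelBaseChange A R A' A' N)
    refine hleast J (show Module.Flat R (R ⊗[A] N) from ?_)
    refine Groth.Agent.CAlgMisc2.flat_of_flat_baseChange_of_nilpotent (R' := A')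
      (RingHom.kerLift_injective _) (nilradical R) IsArtinianRing.isNilpotent_nilradical
      ((Groth.Agent.FlatMor12.FlatteningIdeal.quotFlat_iff _).2 ?_)
    have : IsReduced (R ⧸ nilradical R) :=
      (Ideal.isRadical_iff_quotient_reduced _).1 (Ideal.radical_isRadical _)
    exact hflat _ _
  · intro hle
    let φ : A ⧸ I →+* A' := Ideal.Quotient.lift I (algebraMap A A') fun a ha => hle ha
    let _ : Algebra (A ⧸ I) A' := φ.toAlgebra
    have : IsScalarTower A (A ⧸ I) A' := .of_algebraMap_eq fun a => rfl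
    have : Module.Flat (A ⧸ I) ((A ⧸ I) ⊗[A] N) := hI
    exact Module.Flat.of_linearEquiv
      (TensorProduct.AlgebraTensorModule.cancelBaseChange A (A ⧸ I) A' A' N).symm

end Groth.Agent.S1265
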