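import Groth.Statements.S12665
import Groth.Agent.CycLib28.PB.Ops.Whitney

set_option autoImplicit false
universe u
open CategoryTheory CategoryTheory.Limits AlgebraicGeometry
open Cyc

namespace Groth.Agent.S12665

/-- For a short exact sequence 0 → E₁ → E → E₂ → 0 of finite locally free modules of ranks r₁, r₁ + r₂,
r₂ on X, c(E) = c(E₁) c(E₂), that is c_j(E) ∩ α ∼_rat Σ_{a+b=j} c_a(E₁) ∩ (c_b(E₂) ∩ α) for every
k-cycle α and every j; the inner caps are represented by a tuple for E₂ over α and, for each of its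
components, a tuple for E₁ over it. Setting: (X, δ) with Cyc.IsSetup stands for a scheme locally of
finite type over the base (S, δ) (X locally Noetherian with universally catenary local rings, δ a
dimension function); (p : P → X, O_P(1), q) is the projective bundle of E given by its universal
property (KRR.IsProjBundle), p is proper and δP is the induced dimension function (Cyc.DeltaCompat);
a tuple γ with Cyc.IsChernCap represents (c_0(E) ∩ α, …, c_r(E) ∩ α) through the defining relation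
Σ_i (-1)^i c_1(O_P(1))^i ∩ p^*(γ_{r-i}) ∼_rat 0 on P, and classes are compared up to rational
equivalence of representing cycles. -/
theorem result (X : Scheme.{u}) (δ : X → ℤ) (hX : Cyc.IsSetup X δ) (r₁ r₂ : ℕ) (E₁ : X.Modules) (hP₁E : FlatMod.IsFinLocFreeOfRank r₁ E₁) (P₁ : Scheme.{u}) (p₁ : P₁ ⟶ X) (O₁ : P₁.Modules) (q₁ : (Scheme.Modules.pullback p₁).obj E₁ ⟶ O₁) (hP₁ : KRR.IsProjBundle p₁ E₁ O₁ q₁) [IsProper p₁] (δ₁ : P₁ → ℤ) (hP₁s : Cyc.IsSetup P₁ δ₁) (hδ₁ : Cyc.DeltaCompat p₁ δ₁ δ) (E : X.Modules) (hPE : FlatMod.IsFinLocFreeOfRank (r₁ + r₂) E) (P : Scheme.{u}) (p : P ⟶ X) (O1 : P.Modules) (q : (Scheme.Modules.pullback p).obj E ⟶ O1) (hP : KRR.IsProjBundle p E O1 q) [IsProper p] (δP : P → ℤ) (hPs : Cyc.IsSetup P δP) (hδ : Cyc.DeltaCompat p δP δ) (E₂ : X.Modules) (hP₂E : FlatMod.IsFinLocFreeOfRank r₂ E₂) (P₂ : Scheme.{u}) (p₂ : P₂ ⟶ X) (O₂ : P₂.Modules) (q₂ : (Scheme.Modules.pullback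 p₂).obj E₂ ⟶ O₂) (hP₂ : KRR.IsProjBundle p₂ E₂ O₂ q₂) [IsProper p₂] (δ₂ : P₂ → ℤ) (hP₂s : Cyc.IsSetup P₂ δ₂) (hδ₂ : Cyc.DeltaCompat p₂ δ₂ δ) (a : E₁ ⟶ E) (b : E ⟶ E₂) (hab : a ≫ b = 0) (hex : (ShortComplex.mk a b hab).ShortExact) (k : ℤ) (α : AlgebraicCycle X ℤ) (hα : α ∈ Cyc.Zk X δ k) (γ₂ : Fin (r₂ + 1) → AlgebraicCycle X ℤ) (hγ₂ : Cyc.IsChernCap p₂ δ δ₂ O₂ r₂ k α γ₂) (ε : Fin (r₂ + 1) → Fin (r₁ + 1) → AlgebraicCycle X ℤ) (hε : ∀ b : Fin (r₂ + 1), Cyc.IsChernCap p₁ δ δ₁ O₁ r₁ (k - ((b : ℕ) : ℤ)) (γ₂ b) (ε b)) (γ : Fin (r₁ + r₂ + 1) → AlgebraicCycle X ℤ) (hγ : Cyc.IsChernCap p δ δP O1 (r₁ + r₂) k α γ) (j : Fin (r₁ + r₂ + 1)) : Cyc.RatEquiv δ (k - ((j : ℕ) : ℤ)) (γ j) (∑ a : Fin (r₁ + 1), ∑ b : Fin (r₂ + 1), if (a : ℕ) + (b : ℕ) = (j : ℕ) then ε b a else 0) := by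
  classical
  haveI := hX.1
  have hW := Groth.Agent.CycLib28.PB.Ops.whitney r₁ hX (n := r₁ + r₂) (c := r₂) rfl hP₁E hPE hP₂E hex
  have h := congrArg (fun f => f.coeff (j : ℕ)) hW
  simp only [Groth.Agent.CycLib28.PB.Ops.coeff_cPoly, Groth.Agent.CycLib28.PB.Ops.cPoly, Finset.sum_mul,
    Finset.mul_sum, Polynomial.monomial_mul_monomial, Polynomial.finsetSum_coeff, Polynomial.coeff_monomial] at h
  have hj : (∑ x : Fin (r₁ + r₂ + 1), if (x : ℕ) = (j : ℕ) then Groth.Agent.CycLib28.PB.Ops.chern δ E (r₁ + r₂) x else 0)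
      = Groth.Agent.CycLib28.PB.Ops.chern δ E (r₁ + r₂) j := by
    rw [Finset.sum_eq_single j]
    · exact if_pos rfl
    · exact fun i _ hi => if_neg fun e => hi (Fin.ext e)
    · exact fun e => absurd (Finset.mem_univ j) e
  try rw [hj] at h
  have h' := DFunLike.congr_fun h (Groth.Agent.CycLib28.PB.Ops.cls δ k α)
  rw [Groth.Agent.CycLib28.PB.Ops.chern_cls hX hPE hP hPs hδ hα hγ j] at h'
  have hmem : ∀ (a : Fin (r₁ + 1)) (b : Fin (r₂ + 1)),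
      (if (a : ℕ) + (b : ℕ) = (j : ℕ) then ε b a else 0) ∈ Cyc.Zk X δ (k - ((j : ℕ) : ℤ)) := by
    intro a b
    split_ifs with hab'
    · have hm := (hε b).2.1 a
      rwa [show k - ((b : ℕ) : ℤ) - ((a : ℕ) : ℤ) = k - ((j : ℕ) : ℤ) by omega] at hm
    · exact fun x _ => rfl
  refine (Groth.Agent.CycLib28.PB.Ops.cls_eq_iff hX.2.2 (hγ.2.1 j)
    ((ChowOps.zk X δ _).sum_mem fun a _ => (ChowOps.zk X δ _).sum_mem fun b _ => hmem a b)).1 ?_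
  have hsum : ∀ {n : ℕ} (f : Fin n → AddMonoid.End (Groth.Agent.CycLib28.PB.Ops.CHT X δ))
      (x : Groth.Agent.CycLib28.PB.Ops.CHT X δ), (∑ i, f i) x = ∑ i, f i x :=
    fun f x => AddMonoidHom.finsetSum_apply (M := Groth.Agent.CycLib28.PB.Ops.CHT X δ)
      (N := Groth.Agent.CycLib28.PB.Ops.CHT X δ) f Finset.univ x
  simp only [hsum] at h'
  have hin : ∀ a : Fin (r₁ + 1), (∑ b : Fin (r₂ + 1), if (a : ℕ) + (b : ℕ) = (j : ℕ) then ε b a else 0) ∈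
      Cyc.Zk X δ (k - ((j : ℕ) : ℤ)) := fun a => (ChowOps.zk X δ (k - ((j : ℕ) : ℤ))).sum_mem fun b _ => hmem a b
  refine Eq.trans ?_ (Groth.Agent.CycLib28.PB.Ops.cls_sum (δ := δ) (k := k - ((j : ℕ) : ℤ))
    (Finset.univ : Finset (Fin (r₁ + 1)))
    (a := fun a => ∑ b : Fin (r₂ + 1), if (a : ℕ) + (b : ℕ) = (j : ℕ) then ε b a else 0) fun a _ => hin a).symm
  rw [h', Finset.sum_comm]
  refine Finset.sum_congr rfl fun a _ => ?_
  refine Eq.trans ?_ (Groth.Agent.CycLib28.PB.Ops.cls_sum (δ := δ) (k := k - ((j : ℕ) : ℤ))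
    (Finset.univ : Finset (Fin (r₂ + 1)))
    (a := fun b : Fin (r₂ + 1) => if (a : ℕ) + (b : ℕ) = (j : ℕ) then ε b a else 0) fun b _ => hmem a b).symm
  refine Finset.sum_congr rfl fun b _ => ?_
  by_cases hab' : (a : ℕ) + (b : ℕ) = (j : ℕ)
  · rw [if_pos hab', if_pos hab']
    show Groth.Agent.CycLib28.PB.Ops.chern δ E₁ r₁ a (Groth.Agent.CycLib28.PB.Ops.chern δ E₂ r₂ b _) = _
    rw [Groth.Agent.CycLib28.PB.Ops.chern_cls hX hP₂E hP₂ hP₂s hδ₂ hα hγ₂ b,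
      Groth.Agent.CycLib28.PB.Ops.chern_cls hX hP₁E hP₁ hP₁s hδ₁ (hγ₂.2.1 b) (hε b) a,
      show k - ((b : ℕ) : ℤ) - ((a : ℕ) : ℤ) = k - ((j : ℕ) : ℤ) by omega]
  · rw [if_neg hab', if_neg hab', Groth.Agent.CycLib28.PB.Ops.cls_zero]
    rfl
end Groth.Agent.S12665
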