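import Groth.Statements.S12666
import Groth.Agent.CycLib28.PB.Ops.TensorCalc

set_option autoImplicit false
universe u
open CategoryTheory CategoryTheory.Limits AlgebraicGeometry
open Cyc

namespace Groth.Agent.S12666

/-- For E finite locally free of rank r and L invertible on X, c_i(E ⊗ L) = Σ_{j=0}^{i} C(r-i+j, j)
c_{i-j}(E) c_1(L)^j for i ≤ r, as cap operations on every k-cycle α: c_i(E ⊗ L) ∩ α ∼_rat Σ_j
C(r-i+j, j) c_1(L)^j ∩ (c_{i-j}(E) ∩ α), where c_1(L)^j ∩ - is the j-fold iterated cap on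
coefficient functions with any nonzero rational sections (Cyc.c1PowFun) and E ⊗ L is the tensor
product of O_X-modules (CohB1.tensorMod). Setting: (X, δ) with Cyc.IsSetup stands for a scheme
locally of finite type over the base (S, δ) (X locally Noetherian with universally catenary local
rings, δ a dimension function); (p : P → X, O_P(1), q) is the projective bundle of E given by its
universal property (KRR.IsProjBundle), p is proper and δP is the induced dimension function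
(Cyc.DeltaCompat); a tuple γ with Cyc.IsChernCap represents (c_0(E) ∩ α, …, c_r(E) ∩ α) through the
defining relation Σ_i (-1)^i c_1(O_P(1))^i ∩ p^*(γ_{r-i}) ∼_rat 0 on P, and classes are compared up
to rational equivalence of representing cycles. -/
theorem result (X : Scheme.{u}) (δ : X → ℤ) (hX : Cyc.IsSetup X δ) (r : ℕ) (E : X.Modules) (hPE : FlatMod.IsFinLocFreeOfRank r E) (P : Scheme.{u}) (p : P ⟶ X) (O1 : P.Modules) (q : (Scheme.Modules.pullback p).obj E ⟶ O1) (hP : KRR.IsProjBundle p E O1 q) [IsProper p] (δP : P → ℤ) (hPs : Cyc.IsSetup P δP) (hδ : Cyc.DeltaCompat p δP δ) (L : X.Modules) (hL : PicF.IsInvertible L) (hP'E : FlatMod.IsFinLocFreeOfRank r (CohB1.tensorMod E L)) (P' : Scheme.{u}) (p' : P' ⟶ X) (O1' : P'.Modules) (q' : (Scheme.Modules.pullback p').obj (CohB1.tensorMod E L) ⟶ O1') (hP' : KRR.IsProjBundle p' (CohB1.tensorMod E L) O1' q') [IsProper p'] (δP' : P' → ℤ) (hPs' : Cyc.IsSetup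 P' δP') (hδ' : Cyc.DeltaCompat p' δP' δ) (k : ℤ) (α : AlgebraicCycle X ℤ) (hα : α ∈ Cyc.Zk X δ k) (γ : Fin (r + 1) → AlgebraicCycle X ℤ) (hγ : Cyc.IsChernCap p δ δP O1 r k α γ) (γ' : Fin (r + 1) → AlgebraicCycle X ℤ) (hγ' : Cyc.IsChernCap p' δ δP' O1' r k α γ') (t : ℕ → (ξ : X) → Cyc.secFibre L ξ) (ht : ∀ m ξ, t m ξ ≠ 0) (i : Fin (r + 1)) (ζ : Fin (r + 1) → AlgebraicCycle X ℤ) (hζ : ∀ j : Fin (r + 1), (j : ℕ) ≤ (i : ℕ) → ⇑(ζ j) = Cyc.c1PowFun δ L t j ⇑(γ ⟨(i : ℕ) - (j : ℕ), Nat.lt_of_le_of_lt (Nat.sub_le _ _) i.isLt⟩)) : Cyc.RatEquiv δ (k - ((i : ℕ) : ℤ)) (γ' i) (∑ j : Fin (r + 1), if (j : ℕ) ≤ (i : ℕ) then ((Nat.choose (r - i + j) j : ℕ) : ℤ) • ζ j else 0) := by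
  classical
  haveI := hX.1
  have hmem : ∀ j : Fin (r + 1), (j : ℕ) ≤ (i : ℕ) → ζ j ∈ Cyc.Zk X δ (k - ((i : ℕ) : ℤ)) := by
    intro j hj
    obtain ⟨d, hd, hdk⟩ := Groth.Agent.CycLib28.PB.exists_pow_cycles hX.2.2 hL _ (hγ.2.1 ⟨(i : ℕ) - (j : ℕ), Nat.lt_of_le_of_lt (Nat.sub_le _ _) i.isLt⟩) t ht
      (fun m => Cyc.c1PowFun δ L t m ⇑(γ ⟨(i : ℕ) - (j : ℕ), Nat.lt_of_le_of_lt (Nat.sub_le _ _) i.isLt⟩)) rfl (fun _ => rfl) j
    rw [show ζ j = d from DFunLike.coe_injective ((hζ j hj).trans hd.symm)]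
    convert hdk using 2
    simp only
    push_cast [Nat.cast_sub hj]
    ring
  have hmem' : ∀ j : Fin (r + 1), (if (j : ℕ) ≤ (i : ℕ) then ((Nat.choose (r - i + j) j : ℕ) : ℤ) • ζ j else 0) ∈
      Cyc.Zk X δ (k - ((i : ℕ) : ℤ)) := by
    intro j
    split_ifs with hj
    · exact (ChowOps.zk X δ _).zsmul_mem (hmem j hj) _
    · exact (ChowOps.zk X δ _).zero_mem
  refine (Groth.Agent.CycLib28.PB.Ops.cls_eq_iff hX.2.2 (hγ'.2.1 i)
    ((ChowOps.zk X δ _).sum_mem fun j _ => hmem' j)).1 ?_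
  rw [← Groth.Agent.CycLib28.PB.Ops.coeff_cPoly_cls hX hP'E hP' hPs' hδ' hα hγ' i.isLt,
    Groth.Agent.CycLib28.PB.Ops.cls_sum _ (fun j _ => hmem' j),
    Groth.Agent.CycLib28.PB.Ops.cPoly_tensor_line r hX hPE hL,
    Groth.Agent.CycLib28.PB.Ops.coeff_tw_of_le _ (fun n hn => Groth.Agent.CycLib28.PB.Ops.coeff_cPoly_of_lt E hn)]
  rw [← Finset.sum_range_reflect, Nat.add_sub_cancel]
  let g : ℕ → Groth.Agent.CycLib28.PB.Ops.CHT X δ := fun j => if hj : j ≤ (i : ℕ) then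
    (r - i + j).choose j • (Groth.Agent.CycLib28.PB.Ops.c1 δ L ^ j)
      ((Groth.Agent.CycLib28.PB.Ops.cPoly δ E r).coeff ((i : ℕ) - j) (Groth.Agent.CycLib28.PB.Ops.cls δ k α)) else 0
  erw [AddMonoidHom.finsetSum_apply]
  refine Eq.trans (b := ∑ j ∈ Finset.range ((i : ℕ) + 1), g j) (Finset.sum_congr rfl fun j hj => ?_) ?_
  · rw [Finset.mem_range] at hj
    simp only [g]
    rw [dif_pos (by omega : j ≤ (i : ℕ)), show (i : ℕ) - ((i : ℕ) - j) = j by omega,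
      show r - ((i : ℕ) - j) = r - i + j by omega,
      ((Groth.Agent.CycLib28.PB.Ops.commute_c1_coeff hX hPE hL _).pow_left j).eq.symm]
    rfl
  rw [Finset.sum_subset (Finset.range_mono (show (i : ℕ) + 1 ≤ r + 1 by omega)) (fun j _ hj => dif_neg (by
    rw [Finset.mem_range] at hj; omega)), ← Fin.sum_univ_eq_sum_range g (r + 1)]
  refine Finset.sum_congr rfl fun j _ => ?_
  simp only [g]
  split_ifs with hj
  · rw [Groth.Agent.CycLib28.PB.Ops.cls_zsmul (hmem j hj), natCast_zsmul,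
      Groth.Agent.CycLib28.PB.Ops.coeff_cPoly_cls hX hPE hP hPs hδ hα hγ
        (Nat.lt_of_le_of_lt (Nat.sub_le _ _) i.isLt),
      Groth.Agent.CycLib28.PB.Ops.c1_pow_cls hX.2.2 hL (hγ.2.1 _) ht (j : ℕ) (ζ j) (hζ j hj)]
    congr 2
    simp only
    push_cast [Nat.cast_sub hj]
    ring
  · rw [Groth.Agent.CycLib28.PB.Ops.cls_zero]
end Groth.Agent.S12666
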