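import Groth.Statements.S12669
import Groth.Agent.CycLib28.PB.Ops.TensorCalc2

set_option autoImplicit false
universe u
open CategoryTheory CategoryTheory.Limits AlgebraicGeometry
open Cyc

namespace Groth.Agent.S12669

/-- For E, F finite locally free of ranks r, s on X, c_2(E ⊗ F) = r c_2(F) + s c_2(E) + C(r,2) c_1(F)^2
+ (rs - 1) c_1(F) c_1(E) + C(s,2) c_1(E)^2, as cap operations on every k-cycle α; products of
classes are iterated caps represented by nested tuples (a tuple for F, resp. E, over the first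
component of a tuple for F; a tuple for E over the first component of a tuple for E), c_2 of a
module of rank < 2 is 0, and E ⊗ F (CohB1.tensorMod, rank rs) enters through its own projective
bundle. Stated for r, s ≥ 1. Setting: (X, δ) with Cyc.IsSetup stands for a scheme locally of finite
type over the base (S, δ) (X locally Noetherian with universally catenary local rings, δ a dimension
function); (p : P → X, O_P(1), q) is the projective bundle of E given by its universal property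
(KRR.IsProjBundle), p is proper and δP is the induced dimension function (Cyc.DeltaCompat); a tuple
γ with Cyc.IsChernCap represents (c_0(E) ∩ α, …, c_r(E) ∩ α) through the defining relation Σ_i
(-1)^i c_1(O_P(1))^i ∩ p^*(γ_{r-i}) ∼_rat 0 on P, and classes are compared up to rational
equivalence of representing cycles. -/
theorem result (X : Scheme.{u}) (δ : X → ℤ) (hX : Cyc.IsSetup X δ) (r s : ℕ) (hr : 1 ≤ r) (hs : 1 ≤ s) (E : X.Modules) (hPE : FlatMod.IsFinLocFreeOfRank r E) (P : Scheme.{u}) (p : P ⟶ X) (O1 : P.Modules) (q : (Scheme.Modules.pullback p).obj E ⟶ O1) (hP : KRR.IsProjBundle p E O1 q) [IsProper p] (δP : P → ℤ) (hPs : Cyc.IsSetup P δP) (hδ : Cyc.DeltaCompat p δP δ) (F : X.Modules) (hQE : FlatMod.IsFinLocFreeOfRank s F) (Q : Scheme.{u}) (p' : Q ⟶ X) (O1' : Q.Modules) (q' : (Scheme.Modules.pullback p').obj F ⟶ O1') (hQ : KRR.IsProjBundle p' F O1'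 q') [IsProper p'] (δQ : Q → ℤ) (hQs : Cyc.IsSetup Q δQ) (hδ' : Cyc.DeltaCompat p' δQ δ) (hTE : FlatMod.IsFinLocFreeOfRank (r * s) (CohB1.tensorMod E F)) (T : Scheme.{u}) (p'' : T ⟶ X) (O1'' : T.Modules) (q'' : (Scheme.Modules.pullback p'').obj (CohB1.tensorMod E F) ⟶ O1'') (hT : KRR.IsProjBundle p'' (CohB1.tensorMod E F) O1'' q'') [IsProper p''] (δT : T → ℤ) (hTs : Cyc.IsSetup T δT) (hδ'' : Cyc.DeltaCompat p'' δT δ) (k : ℤ) (α : AlgebraicCycle X ℤ) (hα : α ∈ Cyc.Zk X δ k) (ε : Fin (r + 1) → AlgebraicCycle X ℤ) (hε : Cyc.IsChernCap p δ δP O1 r k α ε) (φ : Fin (s + 1) → AlgebraicCycle X ℤ) (hφ : Cyc.IsChernCap p' δ δQ O1' s k α φ) (τ : Fin (r * s + 1) → AlgebraicCycle X ℤ) (hτ : Cyc.IsChernCap p'' δ δT O1'' (r * s) k α τ) (φφ : Fin (s + 1) → AlgebraicCycle X ℤ) (hφφ : Cyc.IsChernCap p' δ δQ O1' s (k - 1) (φ ⟨1, Nat.lt_succ_of_le hs⟩) φφ) (εφ : Fin (r + 1) → AlgebraicCycle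 X ℤ) (hεφ : Cyc.IsChernCap p δ δP O1 r (k - 1) (φ ⟨1, Nat.lt_succ_of_le hs⟩) εφ) (εε : Fin (r + 1) → AlgebraicCycle X ℤ) (hεε : Cyc.IsChernCap p δ δP O1 r (k - 1) (ε ⟨1, Nat.lt_succ_of_le hr⟩) εε) : Cyc.RatEquiv δ (k - 2) (if h2 : 2 ≤ r * s then τ ⟨2, Nat.lt_succ_of_le h2⟩ else 0) (((r : ℕ) : ℤ) • (if h2 : 2 ≤ s then φ ⟨2, Nat.lt_succ_of_le h2⟩ else 0) + ((s : ℕ) : ℤ) • (if h2 : 2 ≤ r then ε ⟨2, Nat.lt_succ_of_le h2⟩ else 0) + ((Nat.choose r 2 : ℕ) : ℤ) • φφ ⟨1, Nat.lt_succ_of_le hs⟩ + (((r * s : ℕ) : ℤ) - 1) • εφ ⟨1, Nat.lt_succ_of_le hr⟩ + ((Nat.choose s 2 : ℕ) : ℤ) • εε ⟨1, Nat.lt_succ_of_le hr⟩) := by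
  classical
  haveI := hX.1
  have mem : ∀ {n : ℕ} (γ : Fin (n + 1) → AlgebraicCycle X ℤ) {e : ℤ}, (∀ j : Fin (n + 1), γ j ∈ Cyc.Zk X δ (e - ((j : ℕ) : ℤ))) →
      ∀ h : 1 < n + 1, γ ⟨1, h⟩ ∈ Cyc.Zk X δ (e - 1) := fun γ e hh h => by simpa using hh ⟨1, h⟩
  have mem2 : ∀ {n : ℕ} (γ : Fin (n + 1) → AlgebraicCycle X ℤ), (∀ j : Fin (n + 1), γ j ∈ Cyc.Zk X δ (k - ((j : ℕ) : ℤ))) →
      (if h2 : 2 ≤ n then γ ⟨2, Nat.lt_succ_of_le h2⟩ else 0) ∈ Cyc.Zk X δ (k - 2) := fun γ hh => by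
    split_ifs with h2
    · simpa using hh ⟨2, Nat.lt_succ_of_le h2⟩
    · exact (ChowOps.zk X δ _).zero_mem
  have hr1 : 1 < r + 1 := Nat.lt_succ_of_le hr
  have hs1 : 1 < s + 1 := Nat.lt_succ_of_le hs
  have z1 := (ChowOps.zk X δ (k - 2)).zsmul_mem (mem2 φ hφ.2.1) ((r : ℕ) : ℤ)
  have z2 := (ChowOps.zk X δ (k - 2)).zsmul_mem (mem2 ε hε.2.1) ((s : ℕ) : ℤ)
  have m3 : φφ ⟨1, hs1⟩ ∈ Cyc.Zk X δ (k - 2) := by convert mem φφ hφφ.2.1 hs1 using 2; ring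
  have m4 : εφ ⟨1, hr1⟩ ∈ Cyc.Zk X δ (k - 2) := by convert mem εφ hεφ.2.1 hr1 using 2; ring
  have m5 : εε ⟨1, hr1⟩ ∈ Cyc.Zk X δ (k - 2) := by convert mem εε hεε.2.1 hr1 using 2; ring
  have z3 := (ChowOps.zk X δ (k - 2)).zsmul_mem m3 ((Nat.choose r 2 : ℕ) : ℤ)
  have z4 := (ChowOps.zk X δ (k - 2)).zsmul_mem m4 (((r * s : ℕ) : ℤ) - 1)
  have z5 := (ChowOps.zk X δ (k - 2)).zsmul_mem m5 ((Nat.choose s 2 : ℕ) : ℤ)
  have w12 := (ChowOps.zk X δ (k - 2)).add_mem z1 z2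
  have w13 := (ChowOps.zk X δ (k - 2)).add_mem w12 z3
  have w14 := (ChowOps.zk X δ (k - 2)).add_mem w13 z4
  refine (Groth.Agent.CycLib28.PB.Ops.cls_eq_iff hX.2.2 (mem2 τ hτ.2.1) ((ChowOps.zk X δ _).add_mem w14 z5)).1 ?_
  rw [Groth.Agent.CycLib28.PB.Ops.cls_add w14 z5, Groth.Agent.CycLib28.PB.Ops.cls_add w13 z4,
    Groth.Agent.CycLib28.PB.Ops.cls_add w12 z3, Groth.Agent.CycLib28.PB.Ops.cls_add z1 z2,
    Groth.Agent.CycLib28.PB.Ops.cls_zsmul (mem2 φ hφ.2.1), Groth.Agent.CycLib28.PB.Ops.cls_zsmul (mem2 ε hε.2.1),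
    Groth.Agent.CycLib28.PB.Ops.cls_zsmul m3, Groth.Agent.CycLib28.PB.Ops.cls_zsmul m4,
    Groth.Agent.CycLib28.PB.Ops.cls_zsmul m5]
  have e2 : ∀ {n : ℕ} (γ : Fin (n + 1) → AlgebraicCycle X ℤ) {G : X.Modules} (hG : FlatMod.IsFinLocFreeOfRank n G)
      {W : Scheme.{u}} {π : W ⟶ X} [IsProper π] {OW : W.Modules} {qW : (Scheme.Modules.pullback π).obj G ⟶ OW}
      (hW : KRR.IsProjBundle π G OW qW) {δW : W → ℤ} (hWs : Cyc.IsSetup W δW) (hδW : Cyc.DeltaCompat π δW δ)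
      (hh : Cyc.IsChernCap π δ δW OW n k α γ),
      Groth.Agent.CycLib28.PB.Ops.cls δ (k - 2) (if h2 : 2 ≤ n then γ ⟨2, Nat.lt_succ_of_le h2⟩ else 0) =
        (Groth.Agent.CycLib28.PB.Ops.cPoly δ G n).coeff 2 (Groth.Agent.CycLib28.PB.Ops.cls δ k α) := by
    intro n γ G hG W π _ OW qW hW δW hWs hδW hh
    split_ifs with h2
    · rw [Groth.Agent.CycLib28.PB.Ops.coeff_cPoly_cls hX hG hW hWs hδW hα hh (Nat.lt_succ_of_le h2), Nat.cast_two]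
    · rw [Groth.Agent.CycLib28.PB.Ops.coeff_cPoly_of_lt G (by omega), Groth.Agent.CycLib28.PB.Ops.cls_zero]
      rfl
  have ef := Groth.Agent.CycLib28.PB.Ops.coeff_cPoly_cls hX hQE hQ hQs hδ' hα hφ hs1
  have ee := Groth.Agent.CycLib28.PB.Ops.coeff_cPoly_cls hX hPE hP hPs hδ hα hε hr1
  rw [Nat.cast_one] at ef ee
  have k2 : k - 1 - 1 = k - 2 := by ring
  have eff := Groth.Agent.CycLib28.PB.Ops.coeff_cPoly_cls hX hQE hQ hQs hδ' (mem φ hφ.2.1 hs1) hφφ hs1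
  have eef := Groth.Agent.CycLib28.PB.Ops.coeff_cPoly_cls hX hPE hP hPs hδ (mem φ hφ.2.1 hs1) hεφ hr1
  have eee := Groth.Agent.CycLib28.PB.Ops.coeff_cPoly_cls hX hPE hP hPs hδ (mem ε hε.2.1 hr1) hεε hr1
  rw [Nat.cast_one, k2] at eff eef eee
  rw [e2 φ hQE hQ hQs hδ' hφ, e2 ε hPE hP hPs hδ hε, e2 τ hTE hT hTs hδ'' hτ, ← eff, ← eef, ← eee, ← ef, ← ee]
  have h := DFunLike.congr_fun (Groth.Agent.CycLib28.PB.Ops.coeff_two_tensor r hX hPE hQE)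
    (Groth.Agent.CycLib28.PB.Ops.cls δ k α)
  rw [Nat.cast_mul]
  exact h
end Groth.Agent.S12669
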