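import Groth.Statements.S1267
import Groth.Agent.CAlgMisc2.FlatNil

set_option autoImplicit false
universe u
open FlatMor

namespace Groth.Agent.S1267

open scoped TensorProduct

/-- Let A be a local ring, I an ideal, U a quasi-compact open subset of Spec A and M an A-module such
that M/IM is flat over A/I and M_p is flat over A for all p in U. Let I₂ be the kernel of I → Γ(U,
I/I²), that is the set of x ∈ I such that for every p ∈ U some s outside p has s·x ∈ I². Then M/I₂M
is flat over A/I₂. -/
theorem result {A : Type u} [CommRing A] [IsLocalRing A] (I : Ideal A)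
    (U : Set (PrimeSpectrum A)) (hU : IsOpen U) (hUc : IsCompact U)
    (M : Type u) [AddCommGroup M] [Module A M]
    [Module.Flat (A ⧸ I) (M ⧸ (I • ⊤ : Submodule A M))]
    (hflat : ∀ p ∈ U, Module.Flat A (LocalizedModule p.asIdeal.primeCompl M))
    (I₂ : Ideal A) (hI₂ : ∀ x : A, x ∈ I₂ ↔ x ∈ I ∧ ∀ p ∈ U, ∃ s : A, s ∉ p.asIdeal ∧ s * x ∈ I ^ 2) :
    Module.Flat (A ⧸ I₂) (M ⧸ (I₂ • ⊤ : Submodule A M)) := by
  classical
  have hq : _root_.Groth.Agent.FlatCrit.QuotFlat A M I :=
    _root_.Groth.Agent.FlatCrit.quotFlat_of_flat I (Module.Flat.of_linearEquiv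
      ((TensorProduct.quotTensorEquivQuotSMul M I).extendScalarsOfSurjective Ideal.Quotient.mk_surjective))
  have hle : ∀ x ∈ I₂, x ∈ I := fun x hx => ((hI₂ x).1 hx).1
  suffices h : Module.Flat (A ⧸ I₂) ((A ⧸ I₂) ⊗[A] M) from
    Module.Flat.of_linearEquiv
      ((TensorProduct.quotTensorEquivQuotSMul M I₂).extendScalarsOfSurjective
        Ideal.Quotient.mk_surjective).symm
  refine _root_.Groth.Agent.CAlgMisc2.flat_baseChange_of_injective (A ⧸ I₂) fun N => ?_
  let J : Submodule A (A ⧸ I₂) := Submodule.map I₂.mkQ I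
  have hkill : ∀ r ∈ I, ∀ x : J, r • x = 0 := by
    rintro r hr ⟨_, a, ha, rfl⟩
    apply Subtype.ext
    show r • I₂.mkQ a = 0
    rw [← map_smul, Submodule.mkQ_apply, Submodule.Quotient.mk_eq_zero, hI₂]
    refine ⟨I.smul_mem r ha, fun p _ => ⟨1, fun h => p.2.ne_top ((Ideal.eq_top_iff_one _).2 h), ?_⟩⟩
    rw [one_mul, sq, smul_eq_mul]
    exact Ideal.mul_mem_mul hr ha
  refine _root_.Groth.Agent.CAlgMisc2.rTensor_injective_step hq (N.subtype.restrictScalars A) J
    ?_ (hq _ hkill ?_) ?_
  · intro r hr t
    obtain ⟨t, rfl⟩ := Submodule.Quotient.mk_surjective _ t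
    exact ⟨r • t, I.mul_mem_right t hr, rfl⟩
  · intro x y h
    exact Subtype.ext (Subtype.ext (congrArg Subtype.val h :))
  rw [injective_iff_map_eq_zero]
  intro z hz
  -- the kernel vanishes at the points of `U`
  have hloc : ∀ p ∈ U, ∃ s : A, s ∉ p.asIdeal ∧ s • z = 0 := by
    intro p hp
    haveI := hflat p hp
    let ι := LocalizedModule.mkLinearMap p.asIdeal.primeCompl M
    let L : J ⊗[A] M →ₗ[A] J ⊗[A] LocalizedModule p.asIdeal.primeCompl M := ι.lTensor J
    have hL0 : L z = 0 := by
      apply (injective_iff_map_eq_zero _).mp (Module.Flat.rTensor_preserves_injective_linearMap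
        (M := LocalizedModule p.asIdeal.primeCompl M) J.subtype Subtype.val_injective)
      rw [← LinearMap.comp_apply, LinearMap.rTensor_comp_lTensor, ← LinearMap.lTensor_comp_rTensor,
        LinearMap.comp_apply, hz, map_zero]
    haveI : IsLocalizedModule p.asIdeal.primeCompl L := by
      have h : L = ((TensorProduct.comm A _ J).toLinearMap ∘ₗ ι.rTensor J) ∘ₗ
          (TensorProduct.comm A J M).toLinearMap := by
        ext a m; rfl
      haveI : IsLocalizedModule p.asIdeal.primeCompl (ι.rTensor J) :=
        IsLocalizedModule.rTensor (R := A) (A := A) (N := J) p.asIdeal.primeCompl ι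
      rw [h]
      infer_instance
    obtain ⟨s, hs⟩ := (IsLocalizedModule.eq_iff_exists p.asIdeal.primeCompl L).mp
      (hL0.trans (map_zero L).symm)
    exact ⟨s, s.2, by simpa [Submonoid.smul_def] using hs⟩
  -- a finite cover of `U` by basic opens
  obtain ⟨G, hG, hU'⟩ : ∃ G : Set A, G.Finite ∧ U = ⋃ g ∈ G, (PrimeSpectrum.basicOpen g : Set _) :=
    (isCompact_open_iff_eq_finite_iUnion_of_isTopologicalBasis
      (fun g : A => (PrimeSpectrum.basicOpen g : Set (PrimeSpectrum A)))
      PrimeSpectrum.isTopologicalBasis_basic_opens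
      (fun g => PrimeSpectrum.isCompact_basicOpen g) U).1 ⟨hUc, hU⟩
  haveI := hG.fintype
  have hpow : ∀ g : G, ∃ n : ℕ, (g : A) ^ n • z = 0 := by
    intro g
    let an : Ideal A := LinearMap.ker (LinearMap.toSpanSingleton A _ z)
    have : (g : A) ∈ an.radical := by
      rw [Ideal.radical_eq_sInf, Submodule.mem_sInf]
      rintro P ⟨hP, hPp⟩
      by_contra hg
      obtain ⟨s, hs, hsz⟩ := hloc ⟨P, hPp⟩ (by rw [hU']; exact Set.mem_biUnion g.2 hg)
      exact hs (hP hsz)
    exact this
  let φ : J →ₗ[A] (g : G) → LocalizedModule (Submonoid.powers (g : A)) J :=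
    LinearMap.pi fun g => LocalizedModule.mkLinearMap _ J
  have hφ : Function.Injective φ := by
    rw [injective_iff_map_eq_zero]
    rintro ⟨_, a, ha, rfl⟩ h
    apply Subtype.ext
    show I₂.mkQ a = 0
    rw [Submodule.mkQ_apply, Submodule.Quotient.mk_eq_zero, hI₂]
    refine ⟨ha, fun p hp => ?_⟩
    rw [hU', Set.mem_iUnion₂] at hp
    obtain ⟨g, hgG, hgp⟩ := hp
    obtain ⟨⟨_, n, rfl⟩, hn⟩ := (IsLocalizedModule.eq_iff_exists (Submonoid.powers g)
      (LocalizedModule.mkLinearMap (Submonoid.powers g) J)).mp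
      ((congrFun h ⟨g, hgG⟩).trans (map_zero _).symm)
    have hmem : g ^ n * a ∈ I₂ := by
      have h' : g ^ n • I₂.mkQ a = 0 := by simpa [Submonoid.smul_def] using congrArg Subtype.val hn
      rwa [← map_smul, Submodule.mkQ_apply, Submodule.Quotient.mk_eq_zero] at h'
    have hpU : p ∈ U := by rw [hU']; exact Set.mem_biUnion hgG hgp
    obtain ⟨s, hs, hs'⟩ := ((hI₂ _).1 hmem).2 p hpU
    exact ⟨s * g ^ n, fun hm => (p.2.mem_or_mem hm).elim hs fun h => hgp (p.2.mem_of_pow_mem n h),
      by rwa [mul_assoc]⟩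
  have hkill' : ∀ r ∈ I, ∀ b : (g : G) → LocalizedModule (Submonoid.powers (g : A)) J, r • b = 0 := by
    intro r hr b
    funext g
    show r • b g = 0
    induction b g using LocalizedModule.induction_on with
    | _ m s => rw [LocalizedModule.smul'_mk, hkill r hr m, LocalizedModule.zero_mk]
  have hh := @hq J ((g : G) → LocalizedModule (Submonoid.powers (g : A)) J) _ _ _ _ φ
  apply (injective_iff_map_eq_zero _).mp (hh hkill' hφ)
  · have key : ∀ g : G, (LocalizedModule.mkLinearMap (Submonoid.powers (g : A)) J).rTensor M z = 0 := by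
      intro g
      obtain ⟨n, hn⟩ := hpow g
      have hu : IsUnit (algebraMap A (Module.End A (LocalizedModule (Submonoid.powers (g : A)) J))
          ((g : A) ^ n)) :=
        IsLocalizedModule.map_units (LocalizedModule.mkLinearMap (Submonoid.powers (g : A)) J)
          (⟨_, n, rfl⟩ : Submonoid.powers (g : A))
      set w := (LocalizedModule.mkLinearMap (Submonoid.powers (g : A)) J).rTensor M z with hw
      have h0 : ((g : A) ^ n) • w = 0 := by rw [hw, ← map_smul, hn, map_zero]
      have he : (algebraMap A (Module.End A (LocalizedModule (Submonoid.powers (g : A)) J))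
          ((g : A) ^ n)).rTensor M w = ((g : A) ^ n) • w := by
        induction w using TensorProduct.induction_on with
        | zero => simp
        | add a b ha hb => simp only [map_add, smul_add, ha, hb]
        | tmul a b => rw [LinearMap.rTensor_tmul, Module.algebraMap_end_apply, TensorProduct.smul_tmul']
      have hinj : Function.Injective ((algebraMap A (Module.End A (LocalizedModule
          (Submonoid.powers (g : A)) J)) ((g : A) ^ n)).rTensor M) :=
        ((LinearEquiv.ofBijective _ ((Module.End.isUnit_iff _).mp hu)).rTensor M).injective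
      exact hinj ((he.trans h0).trans (LinearMap.map_zero _).symm)
    have hid : φ = ∑ g : G, (LinearMap.single A _ g).comp
        (LocalizedModule.mkLinearMap (Submonoid.powers (g : A)) J) := by
      refine LinearMap.ext fun x => funext fun g => ?_
      simp [φ, Finset.sum_apply]
    rw [hid, ← LinearMap.coe_rTensorHom, map_sum, LinearMap.sum_apply]
    refine Finset.sum_eq_zero fun g _ => ?_
    rw [LinearMap.coe_rTensorHom, LinearMap.rTensor_comp, LinearMap.comp_apply, key g, map_zero]

end Groth.Agent.S1267
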