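import Groth.Statements.S12671
import Groth.Agent.CycLib28.PB.Ops.Filtration

set_option autoImplicit false
universe u
open CategoryTheory CategoryTheory.Limits AlgebraicGeometry
open Cyc

namespace Groth.Agent.S12671

/-- Let E be a locally free O_X-module of rank r with a filtration 0 = E_0 ⊂ E_1 ⊂ … ⊂ E_r = E such that
E_i/E_{i-1} ≅ L_i is invertible for i = 1, …, r. Then c(E) = Π_i (1 + c_1(L_i)), that is c_p(E) ∩ α
∼_rat Σ_{I ⊆ {1,…,r}, |I| = p} (Π_{i ∈ I} c_1(L_i)) ∩ α for every k-cycle α, where the product over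
I is the iterated cap applied in increasing order of i on coefficient functions with any nonzero
rational sections (Cyc.c1CapFun); the filtration is given by short exact sequences 0 → E_{i-1} → E_i
→ L_i → 0 with E_0 = 0 and E_r ≅ E. Setting: (X, δ) with Cyc.IsSetup stands for a scheme locally of
finite type over the base (S, δ) (X locally Noetherian with universally catenary local rings, δ a
dimension function); (p : P → X, O_P(1), q) is the projective bundle of E given by its universal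
property (KRR.IsProjBundle), p is proper and δP is the induced dimension function (Cyc.DeltaCompat);
a tuple γ with Cyc.IsChernCap represents (c_0(E) ∩ α, …, c_r(E) ∩ α) through the defining relation
Σ_i (-1)^i c_1(O_P(1))^i ∩ p^*(γ_{r-i}) ∼_rat 0 on P, and classes are compared up to rational
equivalence of representing cycles. -/
theorem result (X : Scheme.{u}) (δ : X → ℤ) (hX : Cyc.IsSetup X δ) (r : ℕ) (E : X.Modules) (hPE : FlatMod.IsFinLocFreeOfRank r E) (P : Scheme.{u}) (p : P ⟶ X) (O1 : P.Modules) (q : (Scheme.Modules.pullback p).obj E ⟶ O1) (hP : KRR.IsProjBundle p E O1 q) [IsProper p] (δP : P → ℤ) (hPs : Cyc.IsSetup P δP) (hδ : Cyc.DeltaCompat p δP δ) (M : Fin (r + 1) → X.Modules) (h0 : IsZero (M 0)) (e : M (Fin.last r) ≅ E) (L : Fin r → X.Modules) (hL : ∀ i, PicF.IsInvertible (L i)) (a : ∀ i : Fin r, M (Fin.castSucc i) ⟶ M (Fin.succ i)) (b : ∀ i : Fin r, M (Fin.succ i) ⟶ L i) (hab : ∀ i, a i ≫ b i = 0) (hex : ∀ i, (ShortComplex.mk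 (a i) (b i) (hab i)).ShortExact) (k : ℤ) (α : AlgebraicCycle X ℤ) (hα : α ∈ Cyc.Zk X δ k) (γ : Fin (r + 1) → AlgebraicCycle X ℤ) (hγ : Cyc.IsChernCap p δ δP O1 r k α γ) (t : (i : Fin r) → (ξ : X) → Cyc.secFibre (L i) ξ) (ht : ∀ i ξ, t i ξ ≠ 0) (κ : Finset (Fin r) → AlgebraicCycle X ℤ) (hκ0 : κ ∅ = α) (hκ : ∀ (I : Finset (Fin r)) (i : Fin r), (∀ i' ∈ I, i' < i) → ⇑(κ (insert i I)) = Cyc.c1CapFun δ (L i) ⇑(κ I) (t i)) (n : Fin (r + 1)) : Cyc.RatEquiv δ (k - ((n : ℕ) : ℤ)) (γ n) (∑ I ∈ Finset.powersetCard n Finset.univ, κ I) := by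
  classical
  haveI := hX.1
  open Groth.Agent.CycLib28.PB.Ops in
  obtain ⟨hmem, hcoef⟩ := cPoly_filtration_coeff M h0 hL hex hX hα t ht κ hκ0 hκ
  have h := hcoef (Fin.last r) (n : ℕ)
  rw [show (Finset.univ.filter fun j : Fin r => (j : ℕ) < (Fin.last r : Fin (r + 1))) = Finset.univ by
    ext j; simp] at h
  have hM : FlatMod.IsFinLocFreeOfRank r (M (Fin.last r)) := by
    simpa using Groth.Agent.CycLib28.PB.Ops.rank_filtration M h0 hL hex (Fin.last r)
  simp only [Fin.val_last] at h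
  rw [Groth.Agent.CycLib28.PB.Ops.cPoly_iso hX hPE hM e, Groth.Agent.CycLib28.PB.Ops.coeff_cPoly,
    Groth.Agent.CycLib28.PB.Ops.chern_cls hX hPE hP hPs hδ hα hγ n] at h
  have hm : ∀ I ∈ Finset.powersetCard (n : ℕ) (Finset.univ : Finset (Fin r)),
      κ I ∈ Cyc.Zk X δ (k - ((n : ℕ) : ℤ)) := fun I hI => (Finset.mem_powersetCard.1 hI).2 ▸ hmem I
  rw [← Groth.Agent.CycLib28.PB.Ops.cls_sum _ hm] at h
  exact (Groth.Agent.CycLib28.PB.Ops.cls_eq_iff hX.2.2 (hγ.2.1 n)
    ((ChowOps.zk X δ (k - ((n : ℕ) : ℤ))).sum_mem hm)).1 h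
end Groth.Agent.S12671
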