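import Groth.Statements.S12676
import Groth.Agent.CycLib28.GraphPullMain

set_option autoImplicit false
universe u
open CategoryTheory CategoryTheory.Limits AlgebraicGeometry
attribute [local instance] HasDerivedCategory.standard
open IntMult

namespace Groth.Agent.S12676

/-- Let f : X → Y be a morphism of nonsingular projective varieties over an algebraically closed field
and define f^*α = pr_{X,*}(Γ_f · pr_Y^*α) on Chow groups, with Γ_f ⊂ X × Y the graph and · the
intersection product of the nonsingular projective variety X × Y. If f is flat, f^*α agrees with the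
flat pullback of α (relative dimension dim X - dim Y). Here X, Y and X × Y are nonsingular varieties
over the algebraically closed field K (smooth, separated, quasi-compact, integral) embedded as
closed subschemes of projective spaces over K, with dimension functions the transcendence degree
(Cyc.IsSetup, Cyc.DeltaCompat to Spec K with value 0) and dimensions pinned at the generic points;
the product on CH_*(X × Y) is any mul with ChowOps.IsChowMul (it agrees with the Tor-formula product
IntMult.interProd on properly meeting cycles, which determines it); [Γ_f] is the prime cycle of the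
image of the generic point of X under the graph morphism, pr_Y^* and f^* are coefficientwise flat
pullbacks (Cyc.pullFun), pr_{X,*} is the proper pushforward of a representing cycle, and the two
sides are compared up to rational equivalence on X. (Parts (1)–(3) of the published statement — f^*
is a ring map, functoriality, projection formula — are not stated here.) -/
theorem result (K : Type u) [Field K] [IsAlgClosed K] (X : Scheme.{u}) (fX : X ⟶ Spec (CommRingCat.of K)) [Smooth fX] [IsSeparated fX] [QuasiCompact fX] [IsIntegral X] (δX : X → ℤ) (hX : Cyc.IsSetup X δX) (hδX : Cyc.DeltaCompat fX δX (fun _ => 0)) (dX : ℕ) (hdX : δX (genericPoint X) = dX) (NX : ℕ) (ιX : X ⟶ CohB1.ProjSpace NX K) [IsClosedImmersion ιX] (hιX : ιX ≫ CohB1.ProjSpace.toSpec NX K = fX) (Y : Scheme.{u}) (fY : Y ⟶ Spec (CommRingCat.of K)) [Smooth fY] [IsSeparated fY] [QuasiCompact fY] [IsIntegral Y] (δY : Y → ℤ) (hY : Cyc.IsSetup Y δY) (hδY : Cyc.DeltaCompat fY δY (fun _ => 0)) (dY : ℕ) (hdY : δY (genericPoint Y) =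 dY) (NY : ℕ) (ιY : Y ⟶ CohB1.ProjSpace NY K) [IsClosedImmersion ιY] (hιY : ιY ≫ CohB1.ProjSpace.toSpec NY K = fY) (f : X ⟶ Y) (hf : f ≫ fY = fX) [Flat f] [IsIntegral (pullback fX fY)] (δW : ↥(pullback fX fY) → ℤ) (hW : Cyc.IsSetup (pullback fX fY) δW) (hδW : Cyc.DeltaCompat (pullback.fst fX fY ≫ fX) δW (fun _ => 0)) (hdW : δW (genericPoint ↥(pullback fX fY)) = (dX : ℤ) + (dY : ℤ)) (NW : ℕ) (ιW : (pullback fX fY) ⟶ CohB1.ProjSpace NW K) [IsClosedImmersion ιW] (hιW : ιW ≫ CohB1.ProjSpace.toSpec NW K = pullback.fst fX fY ≫ fX) (mul : (r s : ℤ) → ChowOps.CH (pullback fX fY) δW r → ChowOps.CH (pullback fX fY) δW s → ChowOps.CH (pullback fX fY) δW (r + s - ((dX : ℤ) + (dY : ℤ)))) (hmul : ChowOps.IsChowMul (pullback fX fY) δW ((dX : ℤ) + (dY : ℤ)) mul) (γ : AlgebraicCycle (pullback fX fY) ℤ) (hγ : ⇑γ = Set.indicator {(pullback.lift (𝟙 X) f (Eq.trans (Category.id_comp fX) hf.symm)) (genericPoint X)} 1) (hγk : γ ∈ Cyc.Zk (pullback fX fY) δW (dX : ℤ)) (k : ℤ) (α : AlgebraicCycle Y ℤ) (hα : α ∈ Cyc.Zk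 Y δY k) (αW : AlgebraicCycle (pullback fX fY) ℤ) (hαW : ⇑αW = Cyc.pullFun (pullback.snd fX fY) δW δY (dX : ℤ) ⇑α) (hαWk : αW ∈ Cyc.Zk (pullback fX fY) δW (k + dX)) (ζ : AlgebraicCycle (pullback fX fY) ℤ) (hζk : ζ ∈ Cyc.Zk (pullback fX fY) δW ((dX : ℤ) + (k + dX) - ((dX : ℤ) + (dY : ℤ)))) (hζ : ChowOps.cl ζ hζk = mul (dX : ℤ) (k + dX) (ChowOps.cl γ hγk) (ChowOps.cl αW hαWk)) (αX : AlgebraicCycle X ℤ) (hαX : ⇑αX = Cyc.pullFun f δX δY ((dX : ℤ) - (dY : ℤ)) ⇑α) : Cyc.RatEquiv δX (k + dX - dY) (AlgebraicCycle.map (pullback.fst fX fY) δW δX ζ) αX := by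
  haveI : IsProper (CohB1.ProjSpace.toSpec NY K) := Groth.Agent.CurveLib.isProper_projSpace K NY
  haveI : IsProper fY := hιY ▸ inferInstance
  exact CycLib28.GraphPull.graphPull_flat K X Y fX δX hX hδX dX hdX fY δY hY dY hdY f hf δW hW hδW hdW mul hmul γ hγ hγk
    k α hα αW hαW hαWk ζ hζk hζ αX hαX
end Groth.Agent.S12676
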