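import Groth.Statements.S1268
import Groth.Agent.FlatMorDevissage.OpenNhd

set_option autoImplicit false
universe u
open FlatMor

namespace Groth.Agent.S1268

open AlgebraicGeometry CategoryTheory TensorProduct in
/-- Ring form, X = Spec S and S = Spec R affine: let S be a finitely presented R-algebra, N a finitely
presented S-module and q a prime of S over p with N_q flat over R. Then there is an étale R-algebra
R' with a prime p' over p having the same residue field such that, for the base changes S', N' of S,
N to R' (any models), there is an S'-algebra C with Spec C → Spec S' an open immersion (an affine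
open U' of X ×_S S'), containing a point lying over both q and p' (there is exactly one such point
of X ×_S S'), such that C ⊗_{S'} N' (the sections of the pulled-back module over U') is a projective
R'-module. -/
theorem result {R S : Type u} [CommRing R] [CommRing S] [Algebra R S] [Algebra.FinitePresentation R S]
    (N : Type u) [AddCommGroup N] [Module S N] [Module R N] [IsScalarTower R S N] [Module.FinitePresentation S N]
    (p : Ideal R) [p.IsPrime] (q : Ideal S) [q.IsPrime] [q.LiesOver p] (hflat : FlatCA.FlatAt R q N) :
    ∃ (R' : Type u) (_ : CommRing R') (_ : Algebra R R') (p' : Ideal R') (_ : p'.IsPrime), FlatCA.IsEtaleNhd R R' p p' ∧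
      ∀ (S' N' : Type u) [CommRing S'] [Algebra R S'] [Algebra S S'] [Algebra R' S'] [IsScalarTower R S S'] [IsScalarTower R R' S']
        [Algebra.IsPushout R S R' S']
        [AddCommGroup N'] [Module S' N'] [Module S N'] [IsScalarTower S S' N']
        (f : N →ₗ[S] N'), IsBaseChange S' f →
        ∃ (C : Type u) (_ : CommRing C) (_ : Algebra S' C) (_ : Algebra R' C) (_ : IsScalarTower R' S' C)
          (x' : Ideal C) (_ : x'.IsPrime),
          IsOpenImmersion (Spec.map (CommRingCat.ofHom (algebraMap S' C))) ∧
          (x'.comap (algebraMap S' C)).LiesOver q ∧ (x'.comap (algebraMap S' C)).LiesOver p' ∧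
          Module.Projective R' (RestrictScalars R' C (C ⊗[S'] N')) := by
  obtain ⟨R', _, _, p', _, hR, hmain⟩ := FlatMorDevissage.exists_projective_open_nhd N p q hflat
  refine ⟨R', inferInstance, inferInstance, p', inferInstance, hR, ?_⟩
  intro S' N' _ _ _ _ _ _ _ _ _ _ _ f hf
  obtain ⟨g, Q, hQ, hgQ, hQq, hQp, hproj⟩ := hmain S'
  let C := Localization.Away g
  have hd : Disjoint (Submonoid.powers g : Set S') (Q : Set S') := by
    rw [Set.disjoint_left]
    rintro _ ⟨e, rfl⟩ he
    exact hgQ (hQ.mem_of_pow_mem e he)
  have hx := IsLocalization.isPrime_of_isPrime_disjoint (Submonoid.powers g) C Q hQ hd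
  have hxQ : (Q.map (algebraMap S' C)).comap (algebraMap S' C) = Q :=
    IsLocalization.under_map_of_isPrime_disjoint (Submonoid.powers g) C hQ hd
  refine ⟨C, inferInstance, inferInstance, inferInstance, inferInstance, Q.map (algebraMap S' C), hx,
    IsOpenImmersion.of_isLocalization g, hxQ.symm ▸ hQq, hxQ.symm ▸ hQp, ?_⟩
  have : Module.Projective R' (C ⊗[S'] N') :=
    Module.Projective.of_equiv ((hf.tensorEquiv C).restrictScalars R').symm
  let e := RestrictScalars.addEquiv R' C (C ⊗[S'] N')
  exact Module.Projective.of_equiv (M := C ⊗[S'] N') (e.symm.toLinearEquiv fun a m => by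
    apply e.injective
    rw [AddEquiv.apply_symm_apply, RestrictScalars.addEquiv_map_smul, AddEquiv.apply_symm_apply,
      algebraMap_smul])

end Groth.Agent.S1268
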