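import Groth.Prelude.Def_RelProj4
import Groth.Prelude.Def_Pic
import Groth.Prelude.Def_LCI2
import Groth.Prelude.Def_CohB1
import Mathlib.AlgebraicGeometry.Morphisms.UnderlyingMap
import Mathlib.AlgebraicGeometry.Morphisms.Immersion
import Mathlib.AlgebraicGeometry.Morphisms.ClosedImmersion
import Mathlib.AlgebraicGeometry.Morphisms.SchemeTheoreticallyDominant
import Mathlib.AlgebraicGeometry.Morphisms.FinitePresentation
import Mathlib.AlgebraicGeometry.Morphisms.QuasiSeparated
import Mathlib.RingTheory.FinitePresentation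
import Groth.Agent.CAlgSmall.QAmple

set_option autoImplicit false
universe u
namespace CategoryTheory
end CategoryTheory
namespace CategoryTheory.Limits
end CategoryTheory.Limits
namespace AlgebraicGeometry
end AlgebraicGeometry
namespace TopologicalSpace
end TopologicalSpace
namespace Opposite
end Opposite
open CategoryTheory CategoryTheory.Limits AlgebraicGeometry TopologicalSpace Opposite
open scoped HomogeneousIdeal
noncomputable section
namespace Variety
end Variety
open Variety

namespace Groth.Agent.S12683

/-- Let X be a quasi-compact scheme, L an ample invertible O_X-module with graded symmetric algebra 𝒮L =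
⊕_{d≥0} L^{⊗d} (whose relative Proj PL, given with its charts, is identified with X by its structure
morphism), f : X → Y a quasi-compact morphism to an AFFINE scheme Y, 𝒜 a quasi-coherent graded
O_Y-algebra given with a graded f-morphism u : 𝒜 → f_*𝒮L which is bijective on global sections — so
that Γ(Y, 𝒜) is the graded ring Γ(X, 𝒮L) = ⊕_d Γ(X, L^{⊗d}) and P = Proj(𝒜) (given with its charts)
is its homogeneous spectrum — and r : G(σ) → P the canonical morphism on its open of definition G(σ)
⊆ PL. Then r is everywhere defined (G(σ) is all of PL) and is a quasi-compact, scheme-theoretically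
dominant open immersion. (The published statement forms the homogeneous spectrum of the graded ring
⊕_d Γ(X, L^{⊗d}) itself, over the spectrum of Γ(X, O_X); any affine Y under X gives the same graded
ring, the same homogeneous spectrum and the same morphism. It also assumes X quasi-separated, which
already follows from ampleness, since the opens X_s are affine with affine pairwise intersections;
only quasi-compactness is assumed here.) -/
theorem result {X Y P PL : Scheme.{u}} [CompactSpace X]
    (f : X ⟶ Y) [QuasiCompact f] (hY : IsAffineOpen (⊤ : Y.Opens))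
    (L : X.Modules) (hL : PicF.IsInvertible L) (hLq : Coh.IsQCoh L)
    (𝒮L : RelProj.QCGrAlg X) (jL : L ⟶ 𝒮L.toModule) (hjL : RelProj.IsGrSymAlg L 𝒮L jL)
    (pL : PL ⟶ X) (chartL : ∀ (U : X.Opens) (hU : IsAffineOpen U), (((pL ⁻¹ᵁ U : PL.Opens) : Scheme.{u}) ≅ Proj (𝒮L.deg U hU)))
    (hPL : RelProj.IsRelProj 𝒮L pL chartL)
    (hLa : CohB1.IsAmple L)
    (𝒜 : RelProj.QCGrAlg Y) (u : RelProj.QGrHom f 𝒜 𝒮L)
    (p : P ⟶ Y) (chart : ∀ (U : Y.Opens) (hU : IsAffineOpen U), (((p ⁻¹ᵁ U : P.Opens) : Scheme.{u}) ≅ Proj (𝒜.deg U hU)))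
    (hP : RelProj.IsRelProj 𝒜 p chart)
    (r : ((RelProj.domQ u pL chartL : PL.Opens) : Scheme.{u}) ⟶ P)
    (hr : RelProj.IsProjQMapOn u p chart pL chartL (RelProj.domQ u pL chartL) r)
    (hu : Function.Bijective (u.app ⊤).hom) :
    RelProj.domQ u pL chartL = ⊤ ∧ IsOpenImmersion r ∧ QuasiCompact r ∧ IsSchemeTheoreticallyDominant r := by
  have := Groth.Agent.QProj.isIso_line hjL hPL hL hLq
  have := hLq
  have : CompactSpace (f ⁻¹ᵁ ⊤ : Scheme.{u}) :=
    isCompact_iff_compactSpace.1 (QuasiCompact.isCompact_preimage (f := f) _ (isOpen_univ) hY.isCompact)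
  obtain ⟨h1, h2⟩ := Groth.Agent.CAlgSmall.QAmple.isOpenImmersion_of_isAmple hjL hL u hP hPL hr fun x =>
    ⟨⊤, hY, trivial, hu, Groth.Agent.AmpleLib.isAmple_pullback_of_isOpenImmersion (f ⁻¹ᵁ ⊤).ι hLa⟩
  have hs : Surjective (RelProj.domQ u pL chartL).ι := ⟨fun z => ⟨⟨z, h1.ge (Set.mem_univ z)⟩, rfl⟩⟩
  have : IsIso (RelProj.domQ u pL chartL).ι := (isIso_iff_isOpenImmersion_and_surjective _).2 ⟨inferInstance, hs⟩
  have : IsSeparated p := Groth.Agent.ProjLib.isSeparated_relProj hP
  have : QuasiCompact (r ≫ p) := by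
    rw [Groth.Agent.QProj.qMap_comp u hP hPL hr]; infer_instance
  have : QuasiCompact r := QuasiCompact.of_comp r p
  exact ⟨h1, h2, this, Groth.Agent.CAlgSmall.QAmple.isSchemeTheoreticallyDominant_of_injective hjL hL u hP hPL hr hY hu.1⟩

end Groth.Agent.S12683
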