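import Groth.Statements.S12685
import Groth.Agent.RPQ28.FT

set_option autoImplicit false
set_option linter.style.haveILetI false
set_option backward.isDefEq.respectTransparency false
universe u
open CategoryTheory CategoryTheory.Limits AlgebraicGeometry TopologicalSpace Opposite
open scoped HomogeneousIdeal
noncomputable section
open Divisors

namespace Groth.Agent.S12685

/-- Let S be a quasi-compact and quasi-separated scheme, 𝒜 a quasi-coherent graded O_S-algebra, p : P =
Proj(𝒜) → S its relative homogeneous spectrum (given with its charts), assumed quasi-compact, and i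
: Z → P a closed immersion of finite presentation. Then there are an integer d > 0, a quasi-coherent
O_S-module F of finite type with a map ι : F → 𝒜 landing in degree d over every affine open, a
quasi-coherent graded O_S-algebra ℬ with a graded homomorphism φ : 𝒜 → ℬ which is surjective over
every affine open U with kernel the ideal of 𝒜(U) generated by the image of F(U) — so that ℬ = 𝒜/F𝒜
— a relative Proj PB = Proj(ℬ) → S with its charts, the everywhere-defined morphism h = Proj(φ) : PB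
→ P and an isomorphism e : PB ≅ Z with e followed by i equal to h. -/
theorem result {S P Z : Scheme.{u}}
    [CompactSpace S] [QuasiSeparatedSpace S] (𝒜 : RelProj.QCGrAlg S)
    (p : P ⟶ S) (chart : ∀ (U : S.Opens) (hU : IsAffineOpen U), (((p ⁻¹ᵁ U : P.Opens) : Scheme.{u}) ≅ Proj (𝒜.deg U hU))) (hP : RelProj.IsRelProj 𝒜 p chart) [QuasiCompact p]
    (i : Z ⟶ P) [IsClosedImmersion i] [LocallyOfFinitePresentation i] :
    ∃ (d : ℕ) (_ : 0 < d) (F : S.Modules) (_ : Coh.IsQCoh F) (_ : CohB1.IsFT F) (ι : F ⟶ 𝒜.toModule)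
      (_ : ∀ (U : S.Opens) (hU : IsAffineOpen U) (x : Γ(F, U)), (ι.app U) x ∈ 𝒜.deg U hU d)
      (ℬ : RelProj.QCGrAlg S) (φ : 𝒜.toQCAlg ⟶ ℬ.toQCAlg) (hφ : RelProj.IsGradedHom φ) (PB : Scheme.{u})
      (pB : PB ⟶ S) (chartB : ∀ (U : S.Opens) (hU : IsAffineOpen U), (((pB ⁻¹ᵁ U : PB.Opens) : Scheme.{u}) ≅ Proj (ℬ.deg U hU)))
      (h : PB ⟶ P) (e : PB ≅ Z),
      (∀ (U : S.Opens), IsAffineOpen U → Function.Surjective (φ.hom.app (op U)).hom ∧
          RingHom.ker (φ.hom.app (op U)).hom = (Ideal.span (Set.range (ι.app U)) : Ideal (𝒜.presheaf.obj (op U)))) ∧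
        RelProj.IsRelProj ℬ pB chartB ∧ RelProj.IsProjQMap (RelProj.QGrHom.ofHom φ hφ) p chart pB chartB h ∧
        e.hom ≫ i = h := by
  obtain ⟨κ, _, Uk, dk, hdk, fk, hfk, hcov, d, hd, J, hJ, W, s, hs, hsI, hgen⟩ := RPQ28.exists_seeds 𝒜 p chart i
  obtain ⟨F, hF, hFT, ι, hι, ℬ, φ, hφ, PB, pB, chartB, h, e, hmain, -, -⟩ :=
    RPQ28.exists_of_seeds 𝒜 p chart hP i Uk dk hdk fk hfk hcov d W s hs hsI hgen
  exact ⟨d, hd, F, hF, hFT, ι, hι, ℬ, φ, hφ, PB, pB, chartB, h, e, hmain⟩

end Groth.Agent.S12685
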