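import Groth.Statements.S1269
import Groth.Agent.FlatMorDevissage.LocalOpen

set_option autoImplicit false
universe u
open FlatMor

namespace Groth.Agent.S1269

open AlgebraicGeometry CategoryTheory TensorProduct in
/-- Ring form, X = Spec S and S = Spec R affine: let S be a finite type R-algebra, N a finite S-module
and q a prime of S over p with N_q flat over R. Then there is an étale R-algebra R' with a prime p'
over p having the same residue field such that, writing A for the local ring of R' at p' and S_A,
N_A for the base changes (any models), there is an S_A-algebra C with Spec C → Spec S_A an open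
immersion (an affine open U'), containing a point lying over q and over the maximal ideal of A, such
that C ⊗_{S_A} N_A is a free A-module. -/
theorem result {R S : Type u} [CommRing R] [CommRing S] [Algebra R S] [Algebra.FiniteType R S]
    (N : Type u) [AddCommGroup N] [Module S N] [Module R N] [IsScalarTower R S N] [Module.Finite S N]
    (p : Ideal R) [p.IsPrime] (q : Ideal S) [q.IsPrime] [q.LiesOver p] (hflat : FlatCA.FlatAt R q N) :
    ∃ (R' : Type u) (_ : CommRing R') (_ : Algebra R R') (p' : Ideal R') (_ : p'.IsPrime), FlatCA.IsEtaleNhd R R' p p' ∧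
      ∀ (SA NA : Type u) [CommRing SA] [Algebra R SA] [Algebra S SA] [Algebra (Localization.AtPrime p') SA]
        [IsScalarTower R S SA] [IsScalarTower R (Localization.AtPrime p') SA]
        [Algebra.IsPushout R S (Localization.AtPrime p') SA]
        [AddCommGroup NA] [Module SA NA] [Module S NA] [IsScalarTower S SA NA]
        (f : N →ₗ[S] NA), IsBaseChange SA f →
        ∃ (C : Type u) (_ : CommRing C) (_ : Algebra SA C) (_ : Algebra (Localization.AtPrime p') C)
          (_ : IsScalarTower (Localization.AtPrime p') SA C) (x' : Ideal C) (_ : x'.IsPrime),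
          IsOpenImmersion (Spec.map (CommRingCat.ofHom (algebraMap SA C))) ∧
          (x'.comap (algebraMap SA C)).LiesOver q ∧
          (x'.comap (algebraMap SA C)).LiesOver (IsLocalRing.maximalIdeal (Localization.AtPrime p')) ∧
          Module.Free (Localization.AtPrime p') (RestrictScalars (Localization.AtPrime p') C (C ⊗[SA] NA)) := by
  obtain ⟨R', _, _, p', _, hR, hmain⟩ := FlatMorDevissage.exists_free_open_local N p q hflat
  refine ⟨R', inferInstance, inferInstance, p', inferInstance, hR, ?_⟩
  intro SA NA _ _ _ _ _ _ _ _ _ _ _ f hf
  obtain ⟨g, Q, hQ, hgQ, hQq, hQm, hfree⟩ := hmain SA NA f hf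
  let C := Localization.Away g
  have hd : Disjoint (Submonoid.powers g : Set SA) (Q : Set SA) := by
    rw [Set.disjoint_left]
    rintro _ ⟨e, rfl⟩ he
    exact hgQ (hQ.mem_of_pow_mem e he)
  have hx := IsLocalization.isPrime_of_isPrime_disjoint (Submonoid.powers g) C Q hQ hd
  have hxQ : (Q.map (algebraMap SA C)).comap (algebraMap SA C) = Q :=
    IsLocalization.under_map_of_isPrime_disjoint (Submonoid.powers g) C hQ hd
  refine ⟨C, inferInstance, inferInstance, inferInstance, inferInstance, Q.map (algebraMap SA C), hx,
    IsOpenImmersion.of_isLocalization g, hxQ.symm ▸ hQq, hxQ.symm ▸ hQm, ?_⟩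
  let e := RestrictScalars.addEquiv (Localization.AtPrime p') C (C ⊗[SA] NA)
  exact Module.Free.of_equiv (M := C ⊗[SA] NA) (e.symm.toLinearEquiv fun a m => by
    apply e.injective
    rw [AddEquiv.apply_symm_apply, RestrictScalars.addEquiv_map_smul, AddEquiv.apply_symm_apply,
      algebraMap_smul])

end Groth.Agent.S1269
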