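import Groth.Statements.S12690
import Groth.Agent.RPQ28.FT

set_option autoImplicit false
set_option linter.style.haveILetI false
set_option backward.isDefEq.respectTransparency.types false
set_option maxHeartbeats 1000000
universe u
open CategoryTheory CategoryTheory.Limits AlgebraicGeometry TopologicalSpace Opposite
open scoped HomogeneousIdeal
noncomputable section
open Divisors

namespace Groth.Agent.S12690

/-- Assume S is a quasi-separated, quasi-compact scheme and 𝒜 is a quasi-coherent graded O_S-algebra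
each of whose graded pieces 𝒜_n is a finite type O_S-module (concretely, for every affine open W
there is a finite set of elements of 𝒜_n(W) spanning it over Γ(W, O_S)). Write p : P = Proj(𝒜) → S
for its relative homogeneous spectrum (supplied together with its charts) and suppose p is
quasi-compact. Consider a closed immersion i : Z → P of finite presentation, and a quasi-compact
open U ⊆ S not meeting p(i(Z)). Then one can find an integer d > 0; a quasi-coherent finite type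
O_S-module F together with ι : F → 𝒜 whose image lies in degree d over each affine open; a
quasi-coherent graded O_S-algebra ℬ and a graded homomorphism φ : 𝒜 → ℬ which, on every affine open
W, is surjective with kernel equal to the ideal spanned by the image of F(W) — i.e. ℬ = 𝒜/F𝒜; a
relative Proj PB = Proj(ℬ) → S equipped with charts; the morphism h = Proj(φ) : PB → P, defined
everywhere; and an isomorphism e : PB ≅ Z whose composite with i is h. Furthermore, for each affine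
open W contained in U, the image of F(W) exhausts 𝒜_d(W) (so 𝒜_d/F has support avoiding U). -/
theorem result {S P Z : Scheme.{u}}
    [CompactSpace S] [QuasiSeparatedSpace S] (𝒜 : RelProj.QCGrAlg S)
    (hft : ∀ (W : S.Opens) (hW : IsAffineOpen W) (n : ℕ), ∃ s : Finset (𝒜.presheaf.obj (op W)),
      (↑s : Set (𝒜.presheaf.obj (op W))) ⊆ (𝒜.deg W hW n : AddSubgroup (𝒜.presheaf.obj (op W))) ∧
        ∀ x ∈ 𝒜.deg W hW n, ∃ c : (𝒜.presheaf.obj (op W)) → Γ(S, W),
          x = ∑ g ∈ s, (𝒜.str.app (op W)).hom (c g) * g)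
    (p : P ⟶ S) (chart : ∀ (U : S.Opens) (hU : IsAffineOpen U), (((p ⁻¹ᵁ U : P.Opens) : Scheme.{u}) ≅ Proj (𝒜.deg U hU))) (hP : RelProj.IsRelProj 𝒜 p chart) [QuasiCompact p]
    (i : Z ⟶ P) [IsClosedImmersion i] [LocallyOfFinitePresentation i]
    (U : S.Opens) (hUc : IsCompact (U : Set S)) (hUZ : Disjoint (U : Set S) (Set.range (i ≫ p).base)) :
    ∃ (d : ℕ) (_ : 0 < d) (F : S.Modules) (_ : Coh.IsQCoh F) (_ : CohB1.IsFT F) (ι : F ⟶ 𝒜.toModule)
      (_ : ∀ (W : S.Opens) (hW : IsAffineOpen W) (x : Γ(F, W)), (ι.app W) x ∈ 𝒜.deg W hW d)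
      (ℬ : RelProj.QCGrAlg S) (φ : 𝒜.toQCAlg ⟶ ℬ.toQCAlg) (hφ : RelProj.IsGradedHom φ) (PB : Scheme.{u})
      (pB : PB ⟶ S) (chartB : ∀ (U : S.Opens) (hU : IsAffineOpen U), (((pB ⁻¹ᵁ U : PB.Opens) : Scheme.{u}) ≅ Proj (ℬ.deg U hU)))
      (h : PB ⟶ P) (e : PB ≅ Z),
      (∀ (W : S.Opens), IsAffineOpen W → Function.Surjective (φ.hom.app (op W)).hom ∧
          RingHom.ker (φ.hom.app (op W)).hom = (Ideal.span (Set.range (ι.app W)) : Ideal (𝒜.presheaf.obj (op W)))) ∧
        RelProj.IsRelProj ℬ pB chartB ∧ RelProj.IsProjQMap (RelProj.QGrHom.ofHom φ hφ) p chart pB chartB h ∧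
        e.hom ≫ i = h ∧
        ∀ (W : S.Opens) (hW : IsAffineOpen W), W ≤ U →
          ((𝒜.deg W hW d : AddSubgroup (𝒜.presheaf.obj (op W))) : Set (𝒜.presheaf.obj (op W))) ⊆
            Set.range (fun x : Γ(F, W) => ((ι.app W) x : 𝒜.presheaf.obj (op W))) := by
  classical
  obtain ⟨κ, _, Uk, dk, hdk, fk, hfk, hcov, d, hd, J, hJ, W, s, hs, hsI, hgen⟩ := RPQ28.exists_seeds 𝒜 p chart i
  have htop : ∀ (V : S.Opens) (hV : IsAffineOpen V), V ≤ U → RPQ28.idealAt chart i.ker V hV = ⊤ := by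
    intro V hV hVU
    refine eq_top_iff.2 fun a _ => (RPQ28.mem_idealAt i.ker).2 fun c hc f hf => ?_
    rw [show RPQ28.kid chart i.ker V hV hc hf = ⊤ from RPQ28.ideal1_eq_top i _ fun z => ?_, RPQ28.mem_sat_iff,
      show RPQ28.ext (⊤ : Ideal (HomogeneousLocalization.Away (𝒜.deg V hV) f)) = ⊤ from Ideal.map_top _]
    · trivial
    · rintro ⟨y, hy⟩
      have h1 : p (i z) ∈ V := by
        rw [← hy]
        exact (((chart V hV).inv) (Proj.awayι (𝒜.deg V hV) f hf hc y)).2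
      exact Set.disjoint_left.1 hUZ (hVU h1) ⟨z, rfl⟩
  obtain ⟨T, hT, hTcov⟩ := isCompact_iff_finite_and_eq_biUnion_affineOpens.1 hUc
  have := hT.to_subtype
  choose gs hgs hgsc using fun V : T => hft V.1.1 V.1.2 d
  let J₂ := Σ V : T, {x // x ∈ gs V}
  have hTU : ∀ V : T, V.1.1 ≤ U := fun V x hx => by
    rw [hTcov]
    simp only [Opens.mem_iSup]
    exact ⟨V.1, V.2, hx⟩
  let W' : J ⊕ J₂ → S.affineOpens := Sum.elim W fun j => j.1.1
  let s' : ∀ j : J ⊕ J₂, 𝒜.presheaf.obj (op (W' j).1) := fun j => match j with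
    | Sum.inl j => s j
    | Sum.inr j => j.2.1
  have hs' : ∀ j, s' j ∈ 𝒜.deg (W' j).1 (W' j).2 d := fun j => match j with
    | Sum.inl j => hs j
    | Sum.inr j => hgs j.1 j.2.2
  have hsI' : ∀ j, s' j ∈ RPQ28.idealAt chart i.ker (W' j).1 (W' j).2 := fun j => match j with
    | Sum.inl j => hsI j
    | Sum.inr j => by
      show j.2.1 ∈ RPQ28.idealAt chart i.ker j.1.1.1 j.1.1.2
      rw [htop _ _ (hTU j.1)]; trivial
  obtain ⟨F, hF, hFT, ι, hι, ℬ, φ, hφ, PB, pB, chartB, h, e, ⟨h1, h2, h3, h4⟩, hseed, hloc⟩ :=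
    RPQ28.exists_of_seeds 𝒜 p chart hP i Uk dk hdk fk hfk hcov d W' s' hs' hsI'
      fun I hI => hgen I fun j => hI (Sum.inl j)
  refine ⟨d, hd, F, hF, hFT, ι, hι, ℬ, φ, hφ, PB, pB, chartB, h, e, h1, h2, h3, h4, fun V hV hVU b hb => ?_⟩
  -- over the members of the cover everything of degree `d` is hit
  have hfull : ∀ (A : T) (a : 𝒜.presheaf.obj (op A.1.1)), a ∈ 𝒜.deg A.1.1 A.1.2 d →
      ∃ x : Γ(F, A.1.1), (show 𝒜.presheaf.obj (op A.1.1) from ι.app A.1.1 x) = a := by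
    intro A a ha
    obtain ⟨c, hc⟩ := hgsc A a ha
    have hseedA : ∀ g : {x // x ∈ gs A}, ∃ x : Γ(F, A.1.1),
        (show 𝒜.presheaf.obj (op A.1.1) from ι.app A.1.1 x) = g.1 := fun g => hseed (Sum.inr ⟨A, g⟩)
    choose xs hxs using hseedA
    refine ⟨∑ g : {x // x ∈ gs A}, c g.1 • xs g, ?_⟩
    refine Eq.trans ?_ hc.symm
    rw [← Finset.sum_coe_sort (gs A)]
    refine (map_sum (ι.app A.1.1).hom _ _).trans (Finset.sum_congr rfl fun g _ => ?_)
    refine (Scheme.Modules.Hom.app_smul ι _ _).trans ?_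
    exact congrArg ((𝒜.str.app (op A.1.1)).hom (c g.1) * ·) (hxs g)
  obtain ⟨x, hx⟩ := hloc V hV b hb (by rw [htop V hV hVU]; trivial) fun y hy => by
    have h5 : y ∈ U := hVU hy
    rw [hTcov] at h5
    simp only [Opens.mem_iSup] at h5
    obtain ⟨A, hAT, hyA⟩ := h5
    obtain ⟨W₀, hW₀, hyW₀, hW₀A, hW₀V, -, ⟨r, hr⟩, -⟩ := QProj.exists_common_basic A.2 hV ⊤ hyA hy trivial
    subst hr
    obtain ⟨M, ιM, hM, -, hMdeg⟩ := RelVALib.exists_degPiece 𝒜 d
    obtain ⟨m₀, hm₀⟩ := (hMdeg _ (A.2.basicOpen r)).2 (𝒜.presheaf.map (homOfLE hW₀V).op b)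
      (𝒜.map_mem hV (A.2.basicOpen r) hW₀V hb)
    haveI := hM
    obtain ⟨N, t, ht⟩ := Coherent.qcoh_exists_pow_smul A.2 M r m₀
    obtain ⟨z, hz⟩ := hfull ⟨A, hAT⟩ _ ((hMdeg _ A.2).1 t)
    obtain ⟨v, hv⟩ := (Coherent.isUnit_res_pow r (S.basicOpen_le r) le_rfl N).exists_left_inv
    refine ⟨S.basicOpen r, hW₀V, hyW₀, v • Coherent.resM F (S.basicOpen_le r) z, ?_⟩
    rw [Scheme.Modules.Hom.app_smul, Coherent.app_resM]
    have h6 : Coherent.resM 𝒜.toModule (S.basicOpen_le r) (ι.app A.1 z) =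
        (S.presheaf.map (homOfLE (S.basicOpen_le r)).op (r ^ N)) • ιM.app _ m₀ := by
      have h7 : ι.app A.1 z = ιM.app A.1 t := hz
      rw [h7, ← Coherent.app_resM, ht, Scheme.Modules.Hom.app_smul]
    rw [h6, smul_smul, hv, one_smul]
    exact hm₀
  exact ⟨x, hx⟩

end Groth.Agent.S12690
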