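import Groth.Prelude.Def_RelProj4
import Groth.Prelude.Def_Pic
import Groth.Prelude.Def_LCI2
import Groth.Prelude.Def_CohB1
import Mathlib.AlgebraicGeometry.Morphisms.UnderlyingMap
import Mathlib.AlgebraicGeometry.Morphisms.Immersion
import Mathlib.AlgebraicGeometry.Morphisms.ClosedImmersion
import Mathlib.AlgebraicGeometry.Morphisms.SchemeTheoreticallyDominant
import Mathlib.AlgebraicGeometry.Morphisms.FinitePresentation
import Mathlib.AlgebraicGeometry.Morphisms.QuasiSeparated
import Mathlib.RingTheory.FinitePresentation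
import Groth.Agent.CAlgSmall.QVery

set_option autoImplicit false
universe u
namespace CategoryTheory
end CategoryTheory
namespace CategoryTheory.Limits
end CategoryTheory.Limits
namespace AlgebraicGeometry
end AlgebraicGeometry
namespace TopologicalSpace
end TopologicalSpace
namespace Opposite
end Opposite
open CategoryTheory CategoryTheory.Limits AlgebraicGeometry TopologicalSpace Opposite
open scoped HomogeneousIdeal
noncomputable section
namespace Mor
end Mor
open Mor

namespace Groth.Agent.S12691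

/-- Let f : X → Y be a quasi-compact morphism, L an invertible O_X-module with graded symmetric algebra
𝒮L = ⊕_{n≥0} L^{⊗n} (whose relative Proj PL, given with its charts, is identified with X by its
structure morphism), 𝒜 a quasi-coherent graded O_Y-algebra generated in degree one over O_Y (its
degree-zero part is the image of O_Y and degrees zero and one generate it), u : 𝒜 → f_*𝒮L a graded
f-morphism (adjoint to a homomorphism of graded algebras ψ : f^*𝒜 → ⊕ L^{⊗n}) whose degree-one part
f^*𝒜_1 → L is surjective — every point of X has an affine neighbourhood V over which the image of a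
single degree-one section of 𝒜 generates L — P = Proj(𝒜) → Y with its charts, and r = r_{L,ψ} : U(ψ)
→ P the induced morphism on its open of definition U(ψ) ⊆ PL. If r is an immersion, then L is very
ample relative to f (isomorphic to the inverse image of O(1) along a Y-immersion into the projective
bundle of a quasi-coherent O_Y-module). -/
theorem result {X Y P PL : Scheme.{u}} (f : X ⟶ Y) [QuasiCompact f]
    (L : X.Modules) (hL : PicF.IsInvertible L) (hLq : Coh.IsQCoh L)
    (𝒮L : RelProj.QCGrAlg X) (jL : L ⟶ 𝒮L.toModule) (hjL : RelProj.IsGrSymAlg L 𝒮L jL)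
    (pL : PL ⟶ X) (chartL : ∀ (U : X.Opens) (hU : IsAffineOpen U), (((pL ⁻¹ᵁ U : PL.Opens) : Scheme.{u}) ≅ Proj (𝒮L.deg U hU)))
    (hPL : RelProj.IsRelProj 𝒮L pL chartL)
    (𝒜 : RelProj.QCGrAlg Y) (h1 : 𝒜.IsGenDegOne)
    (h0 : ∀ (U : Y.Opens) (hU : IsAffineOpen U),
      ((𝒜.deg U hU 0 : AddSubgroup (𝒜.presheaf.obj (op U))) : Set (𝒜.presheaf.obj (op U))) = Set.range (𝒜.str.app (op U)).hom)
    (u : RelProj.QGrHom f 𝒜 𝒮L)
    (hsurj : ∀ x : X, ∃ (U : Y.Opens) (hU : IsAffineOpen U) (e : 𝒜.presheaf.obj (op U)) (_ : e ∈ 𝒜.deg U hU 1)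
        (V : X.Opens) (hV : IsAffineOpen V) (hVU : V ≤ f ⁻¹ᵁ U), x ∈ V ∧
          ((𝒮L.deg V hV 1 : AddSubgroup (𝒮L.presheaf.obj (op V))) : Set (𝒮L.presheaf.obj (op V))) ⊆
            (Ideal.span {(u.appLE U V hVU).hom e} : Set (𝒮L.presheaf.obj (op V))))
    (p : P ⟶ Y) (chart : ∀ (U : Y.Opens) (hU : IsAffineOpen U), (((p ⁻¹ᵁ U : P.Opens) : Scheme.{u}) ≅ Proj (𝒜.deg U hU)))
    (hP : RelProj.IsRelProj 𝒜 p chart)
    (r : ((RelProj.domQ u pL chartL : PL.Opens) : Scheme.{u}) ⟶ P)
    (hr : RelProj.IsProjQMapOn u p chart pL chartL (RelProj.domQ u pL chartL) r)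
    (himm : IsImmersion r) :
    RelProj.IsRelVeryAmple f L := by
  have := Groth.Agent.QProj.isIso_line hjL hPL hL hLq
  have := hLq
  have := himm
  refine Groth.Agent.CAlgSmall.QVery.isRelVeryAmple_of_immersion hjL hL u hP hPL hr h1 h0 fun x => ?_
  obtain ⟨U, hU, e, he, V, hV, hVU, hxV, hspan⟩ := hsurj x
  obtain ⟨XT, hXT⟩ := Groth.Agent.QProj.exists_isSOpen u hPL hU (s := e) (chartL := chartL)
  refine ⟨U, hU, e, he, XT, hXT, ?_⟩
  have hz : pL ((inv pL) x) ∈ V := by rw [Groth.Agent.QProj.pL_inv_apply]; exact hxV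
  have h2 := (hXT.mem_iff V hV hVU _ hz).2 (Groth.Agent.QProj.mem_nz_of_span hjL hPL V hV 1 hspan hz)
  rwa [Groth.Agent.QProj.pL_inv_apply] at h2

end Groth.Agent.S12691
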