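import Groth.Statements.S12692
import Groth.Agent.CAlgSmall.QAmple

set_option autoImplicit false
universe u
open CategoryTheory CategoryTheory.Limits AlgebraicGeometry TopologicalSpace Opposite
open scoped HomogeneousIdeal
noncomputable section
open Coh

namespace Groth.Agent.S12692

/-- Let X be a quasi-compact scheme, L an invertible O_X-module with graded symmetric algebra 𝒮L =
⊕_{d≥0} L^{⊗d} (whose relative Proj PL, given with its charts, is identified with X by its structure
morphism), f : X → Y a quasi-compact morphism to an AFFINE scheme Y, 𝒜 a quasi-coherent graded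
O_Y-algebra given with a graded f-morphism u : 𝒜 → f_*𝒮L which is bijective on global sections — so
that Γ(Y, 𝒜) is the graded ring S = ⊕_d Γ(X, L^{⊗d}) and P = Proj(𝒜) (given with its charts) is
Proj(S) — and r : G(u) → P the canonical morphism on its open of definition G(u) ⊆ PL. If G(u) is
all of PL (that is, every point of X lies in an open X_s for some homogeneous s ∈ S_+), then r is
quasi-compact and has dense image. (The published statement forms the homogeneous spectrum of the
graded ring S itself, with no base scheme; any affine Y under X gives the same graded ring, the same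
homogeneous spectrum and the same morphism.) -/
theorem result {X Y P PL : Scheme.{u}} [CompactSpace X]
    (f : X ⟶ Y) [QuasiCompact f] (hY : IsAffineOpen (⊤ : Y.Opens))
    (L : X.Modules) (hL : PicF.IsInvertible L) (hLq : Coh.IsQCoh L)
    (𝒮L : RelProj.QCGrAlg X) (jL : L ⟶ 𝒮L.toModule) (hjL : RelProj.IsGrSymAlg L 𝒮L jL)
    (pL : PL ⟶ X) (chartL : ∀ (U : X.Opens) (hU : IsAffineOpen U), (((pL ⁻¹ᵁ U : PL.Opens) : Scheme.{u}) ≅ Proj (𝒮L.deg U hU)))
    (hPL : RelProj.IsRelProj 𝒮L pL chartL)
    (𝒜 : RelProj.QCGrAlg Y) (u : RelProj.QGrHom f 𝒜 𝒮L)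
    (p : P ⟶ Y) (chart : ∀ (U : Y.Opens) (hU : IsAffineOpen U), (((p ⁻¹ᵁ U : P.Opens) : Scheme.{u}) ≅ Proj (𝒜.deg U hU)))
    (hP : RelProj.IsRelProj 𝒜 p chart)
    (r : ((RelProj.domQ u pL chartL : PL.Opens) : Scheme.{u}) ⟶ P)
    (hr : RelProj.IsProjQMapOn u p chart pL chartL (RelProj.domQ u pL chartL) r)
    (hu : Function.Bijective (u.app ⊤).hom)
    (htop : RelProj.domQ u pL chartL = ⊤) :
    QuasiCompact r ∧ IsDominant r := by
  have := Groth.Agent.QProj.isIso_line hjL hPL hL hLq
  have := hLq
  have hs : Surjective (RelProj.domQ u pL chartL).ι := ⟨fun z => ⟨⟨z, htop.ge (Set.mem_univ z)⟩, rfl⟩⟩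
  have : IsIso (RelProj.domQ u pL chartL).ι := (isIso_iff_isOpenImmersion_and_surjective _).2 ⟨inferInstance, hs⟩
  have : IsSeparated p := Groth.Agent.ProjLib.isSeparated_relProj hP
  have : QuasiCompact (r ≫ p) := by
    rw [Groth.Agent.QProj.qMap_comp u hP hPL hr]; infer_instance
  have : QuasiCompact r := QuasiCompact.of_comp r p
  have := Groth.Agent.CAlgSmall.QAmple.isSchemeTheoreticallyDominant_of_injective hjL hL u hP hPL hr hY hu.1
  exact ⟨inferInstance, inferInstance⟩

end Groth.Agent.S12692
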