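import Groth.Statements.S12693
import Groth.Agent.VanImm6.Chart

set_option autoImplicit false
universe u
open CategoryTheory CategoryTheory.Limits AlgebraicGeometry TopologicalSpace Opposite
open scoped HomogeneousIdeal
noncomputable section
open Variety

namespace Groth.Agent.S12693

/-- Let k be a field, X a scheme proper over k, L an ample invertible O_X-module, i : Z → X a closed
immersion and U the open complement of its image. Then there is an integer n₀ such that for every n
≥ n₀: the subspace V_n of those global sections of L^{⊗n} whose inverse image on Z vanishes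
generates the restriction of L^{⊗n} to U, and the canonical k-morphism U → P(V_n) is an immersion —
stated through a basis: for every k-linearly independent family s_0, …, s_r of V_n spanning V_n over
k (scalars acting through k → Γ(X, O_X)), every k-morphism φ from U to projective r-space over k
together with an isomorphism φ^*O(1) ≅ L^{⊗n}|_U carrying the inverse image of the coordinate T_j to
s_j|_U for each j is an immersion. -/
theorem result {k : Type u} [Field k] {X Z : Scheme.{u}}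
    (f : X ⟶ Spec (CommRingCat.of k)) [IsProper f] (L : X.Modules) (hLa : CohB1.IsAmple L)
    (i : Z ⟶ X) [IsClosedImmersion i] (U : X.Opens) (hU : (U : Set X) = (Set.range i.base)ᶜ) :
    ∃ n₀ : ℕ, ∀ n : ℕ, n₀ ≤ n →
      ProjUP.GeneratedBy ((CohB1.tensorPow L n).restrict U.ι)
        (fun v : {s : ProjUP.Γm (CohB1.tensorPow L n) // ProjUP.pullSec i (CohB1.tensorPow L n) s = 0} =>
          ((CohB1.tensorPow L n).restrictAppIso U.ι ⊤).inv (((CohB1.tensorPow L n).presheaf.map (homOfLE le_top).op) v.1)) ∧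
      ∀ (r : ℕ) (s : Fin (r + 1) → ProjUP.Γm (CohB1.tensorPow L n)),
        (∀ j, ProjUP.pullSec i (CohB1.tensorPow L n) (s j) = 0) →
        (∀ c : Fin (r + 1) → k, (∑ j, ProjUP.toGlobal f (c j) • s j) = 0 → c = 0) →
        (∀ v : ProjUP.Γm (CohB1.tensorPow L n), ProjUP.pullSec i (CohB1.tensorPow L n) v = 0 →
          ∃ c : Fin (r + 1) → k, v = ∑ j, ProjUP.toGlobal f (c j) • s j) →
        ∀ (φ : (U : Scheme.{u}) ⟶ CohB1.ProjSpace r k) (_ : φ ≫ CohB1.ProjSpace.toSpec r k = U.ι ≫ f)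
          (τ : (Scheme.Modules.pullback φ).obj (Twist.twistProjSpace r k 1) ≅ (CohB1.tensorPow L n).restrict U.ι)
          (_ : ∀ j, τ.hom.app ⊤ (ProjUP.pullSec φ (Twist.twistProjSpace r k 1) (ProjUP.coord r k j)) =
            ((CohB1.tensorPow L n).restrictAppIso U.ι ⊤).inv (((CohB1.tensorPow L n).presheaf.map (homOfLE le_top).op) (s j))),
          IsImmersion φ := by
  classical
  have hL := hLa.1
  have hUZ : ∀ z : Z, i z ∉ U := fun z h => (hU.le h) ⟨z, rfl⟩
  haveI : IsLocallyNoetherian X := LocallyOfFiniteType.isLocallyNoetherian f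
  haveI : CompactSpace X := QuasiCompact.compactSpace_of_compactSpace f
  haveI : IsNoetherian X := { }
  choose V hxV hVU hVaff n₁ hn₁ using fun x : U =>
    Groth.Agent.VanImm6.exists_chart f hLa i U hUZ x.2
  obtain ⟨T, hT⟩ := (TopologicalSpace.NoetherianSpace.isCompact (U : Set X)).elim_finite_subcover
    (fun x : U => (V x : Set X)) (fun x => (V x).2) fun x hx => Set.mem_iUnion.2 ⟨⟨x, hx⟩, hxV _⟩
  refine ⟨T.sup n₁, fun n hn => ?_⟩
  let M := CohB1.tensorPow L n
  let J := {x : U // x ∈ T}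
  have hJ : ∀ y : U, ∃ x : J, y.1 ∈ V x.1 := fun y => by
    obtain ⟨x, hx, hy⟩ := Set.mem_iUnion₂.1 (hT y.2)
    exact ⟨⟨x, hx⟩, hy⟩
  choose t ht0 htV S hS hSv using fun x : J => hn₁ x.1 n ((Finset.le_sup x.2).trans hn)
  refine ⟨Groth.Agent.VanImm6.generatedBy_of_cover _ _ fun y => ?_, ?_⟩
  · obtain ⟨x, hy⟩ := hJ y
    exact ⟨⟨t x, ht0 x⟩, (Groth.Agent.VanImm6.glocus_resSec U M (t x)).ge ((htV x).ge hy)⟩
  intro r s hs _ hspan φ hφ τ hτ
  let q : (U : Scheme.{u}) ⟶ Spec (CommRingCat.of k) := U.ι ≫ f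
  let σ : Fin (r + 1) → Γ(M.restrict U.ι, ⊤) := fun j => Groth.Agent.VanImm6.resSec U M (s j)
  have hsum : ∀ v : Γ(M, ⊤), Groth.Agent.PicLib.pullSec i v = 0 →
      ∃ c : Fin (r + 1) → k, Groth.Agent.VanImm6.resSec U M v = ∑ j, ProjUP.toGlobal q (c j) • σ j := by
    intro v hv
    obtain ⟨c, rfl⟩ := hspan v hv
    refine ⟨c, (Groth.Agent.VanImm6.resSec_sum U M _ _).trans (Finset.sum_congr rfl fun j _ => ?_)⟩
    refine (Groth.Agent.VanImm6.resSec_smul U M _ _).trans ?_
    congr 1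
  choose a ha using fun x : J => hsum (t x) (ht0 x)
  have hN : PicF.IsInvertible (M.restrict U.ι) :=
    Groth.Agent.AmpleLib.glocus_isInvertible_of_iso (Groth.Agent.AmpleLib.restrictIsoPullback U.ι M).symm
      (PicLoc.isInvertible_pullback U.ι (Groth.Agent.AmpleLib.isInvertible_tensorPow hL n))
  obtain ⟨τ', hτ'⟩ := Groth.Agent.VanImm6.exists_iso_linForm q hN σ φ hφ τ hτ fun y => by
    obtain ⟨x, hy⟩ := hJ y
    exact ⟨a x, by rw [← ha x, Groth.Agent.VanImm6.glocus_resSec, htV x]; exact hy⟩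
  have hpre : ∀ x : J, φ ⁻¹ᵁ Proj.basicOpen (CohB1.polyGrading r k) (Groth.Agent.UPLib.linForm r (a x)) =
      U.ι ⁻¹ᵁ V x.1 := fun x => by
    rw [← htV x, ← Groth.Agent.VanImm6.glocus_resSec, ha x, ← hτ' (a x), Groth.Agent.AmpleLib.glocus_map_iso]
    exact (Groth.Agent.UPLib.preimage_basicOpen_eq
      (Groth.Agent.UPLib.adjoin_one_eq_top (Groth.Agent.UPLib.linForm_mem (R := k) r) (Groth.Agent.UPLib.isSymmetricAlgebra_linForm r)) φ
      (Groth.Agent.UPLib.linForm_mem r (a x))).symm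
  let Vc : J → (CohB1.ProjSpace r k).Opens := fun x => Groth.Agent.PnEmb.chartOpenOf r k (a x)
  refine Groth.Agent.PnEmb.isImmersion_of_charts φ Vc
    (fun x => Proj.isAffineOpen_basicOpen (CohB1.polyGrading r k) _ (Groth.Agent.UPLib.linForm_mem r (a x)) one_pos)
    (fun x => (show φ ⁻¹ᵁ Vc x = U.ι ⁻¹ᵁ V x.1 from hpre x) ▸
      (hVaff x.1).preimage_of_isOpenImmersion U.ι (by simpa using hVU x.1)) ?_ ?_
  · intro x
    refine Groth.Agent.VanImm6.surjective_app_chart U M f φ hφ τ' (hVU x.1) (S x) (hS x) (t x) (htV x) (a x)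
      ((hτ' (a x)).trans (ha x).symm) (fun c hc => ?_) (Vc x) rfl (hpre x)
    obtain ⟨v, hv0, hv⟩ := hSv x c hc
    obtain ⟨b, hb⟩ := hsum v hv0
    exact ⟨v, b, hv, (hτ' b).trans hb.symm⟩
  · intro y
    obtain ⟨x, hy⟩ := hJ y
    exact ⟨x, (hpre x).ge hy⟩

end Groth.Agent.S12693
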