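import Groth.Statements.S12708
import Groth.Agent.ArtFunLib.Functor
import Mathlib.RingTheory.Length
-- import your own Groth.Agent.* helpers here

set_option autoImplicit false
universe u v
open CategoryTheory
open ArtFun

namespace Groth.Agent.S12708

/-- For Λ Noetherian with a finite map to a field k, A a local Λ-algebra whose residue field is k
(through a surjective Λ-algebra map A → k) and M an A-module, the length of M over Λ equals the
degree of k over the image of Λ times the length of M over A. The degree is written as the length of
k as a Λ-module, which is the same number; lengths are in ℕ∞. -/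
theorem result {Λ : Type u} {k : Type u} [CommRing Λ] [Field k] [Algebra Λ k]
    [IsNoetherianRing Λ] [Module.Finite Λ k]
    (A : Type u) [CommRing A] [Algebra Λ A] [IsLocalRing A] [Algebra A k] [IsScalarTower Λ A k]
    (hres : Function.Surjective (algebraMap A k))
    (M : Type v) [AddCommGroup M] [Module A M] [Module Λ M] [IsScalarTower Λ A M] :
    Module.length Λ k * Module.length A M = Module.length Λ M := by
  have hm : RingHom.ker (algebraMap A k) = IsLocalRing.maximalIdeal A :=
    IsLocalRing.eq_maximalIdeal (RingHom.ker_isMaximal_of_surjective _ hres)
  let e : (A ⧸ IsLocalRing.maximalIdeal A) ≃ₗ[Λ] k :=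
    ((Ideal.quotientEquivAlgOfEq Λ hm.symm).trans
      (Ideal.quotientKerAlgEquivOfSurjective (f := IsScalarTower.toAlgHom Λ A k) hres)).toLinearEquiv
  by_cases h : IsFiniteLength A M
  · obtain ⟨s, hs_bot, hs_top⟩ := isFiniteLength_iff_exists_compositionSeries.mp h
    rw [← Module.length_compositionSeries s hs_bot hs_top]
    suffices key : ∀ i, Module.length Λ (s i) = Module.length Λ k * i by
      have h2 := key (Fin.last s.length)
      rw [show s (Fin.last s.length) = ⊤ from hs_top, Fin.val_last] at h2
      rw [← h2]
      exact ((Submodule.topEquiv (R := A) (M := M)).restrictScalars Λ).length_eq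
    intro i
    induction i using Fin.induction with
    | zero =>
      have : Subsingleton (s 0 : Submodule A M) := by
        rw [show s 0 = ⊥ from hs_bot]; infer_instance
      simp
    | succ i hi =>
      have hcov : s i.castSucc ⋖ s i.succ := s.step i
      let f := Submodule.inclusion hcov.le
      have key : IsSimpleModule A (s i.succ ⧸ LinearMap.range f) := by
        rwa [Submodule.range_inclusion, ← covBy_iff_quot_is_simple hcov.le]
      obtain ⟨m, hm', ⟨e'⟩⟩ := isSimpleModule_iff_quot_maximal.mp key
      obtain rfl := IsLocalRing.eq_maximalIdeal hm'
      let g := (e.toLinearMap ∘ₗ (e'.toLinearMap ∘ₗ (LinearMap.range f).mkQ).restrictScalars Λ)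
      rw [Module.length_eq_add_of_exact (f.restrictScalars Λ) g (Submodule.inclusion_injective hcov.le)
        (e.surjective.comp (e'.surjective.comp (Submodule.mkQ_surjective _))) ?_, hi]
      · simp only [Fin.coe_castSucc, Fin.val_succ, Nat.cast_add, Nat.cast_one, mul_add, mul_one]
      · intro x
        constructor
        · intro hx
          have : e' (Submodule.Quotient.mk x) = 0 := e.injective (hx.trans (map_zero e).symm)
          exact (Submodule.Quotient.mk_eq_zero _).1 (e'.injective (this.trans (map_zero e').symm))
        · rintro ⟨y, rfl⟩
          have h0 : Submodule.Quotient.mk (p := LinearMap.range f) (f y) = 0 :=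
            (Submodule.Quotient.mk_eq_zero _).2 ⟨y, rfl⟩
          change e (e' (Submodule.Quotient.mk (f y))) = 0
          rw [h0, map_zero, map_zero]
  · have h' : ¬ IsFiniteLength Λ M := by
      contrapose! h
      rw [isFiniteLength_iff_isNoetherian_isArtinian] at h ⊢
      exact h.imp (isNoetherian_of_tower Λ) (isArtinian_of_tower Λ)
    rw [← Module.length_ne_top_iff, not_ne_iff] at h h'
    rw [h, h', ENat.mul_top]
    exact (Module.length_pos (R := Λ) (M := k)).ne'

end Groth.Agent.S12708
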