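import Groth.Statements.S12711
import Groth.Agent.ArtFunLib.Functor
-- import your own Groth.Agent.* helpers here

set_option autoImplicit false
universe u v
open CategoryTheory
open ArtFun ArtFun.Art

namespace Groth.Agent.S12711

/-- If B together with p₁ : B → A₁ and p₂ : B → A₂ is the fibre product A₁ ×_A A₂ in the category of
Artinian local Λ-algebras with residue field k, and f₂ : A₂ → A is a small extension, then the
projection p₁ : B → A₁ is a small extension. -/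
theorem result {Λ : Type u} {k : Type u} [CommRing Λ] [Field k] [Algebra Λ k]
    [IsNoetherianRing Λ] [Module.Finite Λ k]
    {B A A₁ A₂ : ArtFun.Art Λ k} {p₁ : B ⟶ A₁} {p₂ : B ⟶ A₂} {f₁ : A₁ ⟶ A} {f₂ : A₂ ⟶ A}
    (h : ArtFun.Art.IsFibreProd p₁ p₂ f₁ f₂) (hf₂ : ArtFun.Art.IsSmallExt f₂) :
    ArtFun.Art.IsSmallExt p₁ := by
  have hker : ∀ b, b ∈ RingHom.ker p₁.toAlgHom → p₂ b ∈ RingHom.ker f₂.toAlgHom := fun b hb => by
    rw [RingHom.mem_ker] at hb ⊢
    rw [← h.w_apply, hb, map_zero]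
  obtain ⟨t, ht⟩ := hf₂.2.2.1
  have ht0 : f₂ t = 0 := RingHom.mem_ker.1 (ht ▸ Submodule.mem_span_singleton_self t)
  obtain ⟨b₀, hb₀, hb₀'⟩ := h.surj 0 t (by rw [map_zero, ht0])
  refine ⟨ArtFunLib.IsFibreProd.surjective_fst h hf₂.1, ?_, ⟨⟨b₀, ?_⟩⟩, ?_⟩
  · intro hbot
    apply hf₂.2.1
    have : b₀ ∈ (⊥ : Ideal B) := hbot ▸ RingHom.mem_ker.2 hb₀
    rw [Ideal.mem_bot] at this
    rw [this, map_zero] at hb₀'
    rw [ht, ← hb₀']
    exact Submodule.span_singleton_eq_bot.2 rfl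
  · apply le_antisymm
    · intro b hb
      have : p₂ b ∈ Submodule.span A₂ {t} := ht ▸ hker b hb
      obtain ⟨c, hc⟩ := Submodule.mem_span_singleton.1 this
      obtain ⟨a₁, ha₁⟩ := A₁.res_surjective (A₂.res c)
      obtain ⟨r, hr⟩ := ArtFunLib.IsFibreProd.surjective_fst h hf₂.1 a₁
      refine Submodule.mem_span_singleton.2 ⟨r, h.inj _ _ ?_ ?_⟩
      · rw [smul_eq_mul, map_mul, hb₀, mul_zero, RingHom.mem_ker.1 hb]
      · rw [smul_eq_mul, map_mul, hb₀', ← hc, smul_eq_mul, ← sub_eq_zero, ← sub_mul]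
        refine ArtFunLib.mul_eq_zero_of_semismall hf₂.isSemismallExt ((A₂.mem_maximalIdeal_iff _).2 ?_) ht0
        rw [map_sub, ArtFun.Art.res_app p₂ r, ← ArtFun.Art.res_app p₁ r, hr, ha₁, sub_self]
    · rw [Submodule.span_le, Set.singleton_subset_iff]
      exact RingHom.mem_ker.2 hb₀
  · rw [eq_bot_iff, Ideal.mul_le]
    intro a ha b hb
    refine h.inj _ _ ?_ ?_
    · rw [map_mul, RingHom.mem_ker.1 hb, mul_zero, map_zero]
    · rw [map_mul, map_zero]
      exact ArtFunLib.mul_eq_zero_of_semismall hf₂.isSemismallExt (ArtFunLib.map_mem_max p₂ ha)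
        (RingHom.mem_ker.1 (hker b hb))

end Groth.Agent.S12711
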