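import Groth.Statements.S12712
import Groth.Agent.ArtFunLib.Functor
import Mathlib.Dynamics.Newton
import Mathlib.FieldTheory.Separable
-- import your own Groth.Agent.* helpers here

set_option autoImplicit false
universe u v
open CategoryTheory
open ArtFun ArtFun.Art

namespace Groth.Agent.S12712

/-- If k is separable over the image of Λ → k, then for any two morphisms f₁ : A₁ → A and f₂ : A₂ → A in
the category of Artinian local Λ-algebras with residue field k the set-theoretic fibre product A₁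
×_A A₂ is again an object of the category. -/
theorem result {Λ : Type u} {k : Type u} [CommRing Λ] [Field k] [Algebra Λ k]
    [IsNoetherianRing Λ] [Module.Finite Λ k]
    [Algebra.IsSeparable (↥(algebraMap Λ k).range) k]
    {A A₁ A₂ : ArtFun.Art Λ k} (f₁ : A₁ ⟶ A) (f₂ : A₂ ⟶ A) :
    ∃ (B : ArtFun.Art Λ k) (p₁ : B ⟶ A₁) (p₂ : B ⟶ A₂), ArtFun.Art.IsFibreProd p₁ p₂ f₁ f₂ := by
  refine ArtFunLib.exists_fibreProd_of_residue f₁ f₂ fun c => ?_
  let K := (algebraMap Λ k).range
  let φ : Λ →+* ↥K := (algebraMap Λ k).rangeRestrict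
  obtain ⟨G, hG⟩ := Polynomial.map_surjective φ (algebraMap Λ k).rangeRestrict_surjective (minpoly (↥K) c)
  have hsep : (minpoly (↥K) c).Separable := Algebra.IsSeparable.isSeparable (↥K) c
  have hGc : ∀ P : Polynomial Λ, Polynomial.aeval c P = Polynomial.aeval c (P.map φ) := fun P => by
    rw [Polynomial.aeval_def, Polynomial.aeval_def, Polynomial.eval₂_map]
    rfl
  have hroot : Polynomial.aeval c G = 0 := by rw [hGc, hG, minpoly.aeval]
  have hder : Polynomial.aeval c (Polynomial.derivative G) ≠ 0 := by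
    rw [hGc, ← Polynomial.derivative_map, hG]
    exact hsep.aeval_derivative_ne_zero (minpoly.aeval _ _)
  have hnil : ∀ (X : ArtFun.Art Λ k) (a : X), X.res a = 0 → IsNilpotent a := fun X a ha => by
    obtain ⟨n, hn⟩ := ArtFunLib.maximalIdeal_nilpotent X
    refine ⟨n, ?_⟩
    have := Ideal.pow_mem_pow ((X.mem_maximalIdeal_iff a).2 ha) n
    rwa [hn, Ideal.mem_bot] at this
  have key : ∀ (X : ArtFun.Art Λ k), ∃ r : X, X.res r = c ∧ Polynomial.aeval r G = 0 ∧
      ∀ r' : X, X.res r' = c → Polynomial.aeval r' G = 0 → r' = r := fun X => by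
    obtain ⟨x, hx⟩ := X.res_surjective c
    have h1 : IsNilpotent (Polynomial.aeval x G) := hnil X _ (by
      rw [← Polynomial.aeval_algHom_apply, hx, hroot])
    have h2 : IsUnit (Polynomial.aeval x (Polynomial.derivative G)) := by
      by_contra hu
      apply hder
      have := (X.mem_maximalIdeal_iff _).1 ((IsLocalRing.mem_maximalIdeal _).2 hu)
      rwa [← Polynomial.aeval_algHom_apply, hx] at this
    obtain ⟨r, ⟨hr, hr'⟩, huniq⟩ := Polynomial.existsUnique_nilpotent_sub_and_aeval_eq_zero h1 h2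
    refine ⟨r, ?_, hr', fun r' e e' => huniq r' ⟨hnil X _ (by rw [map_sub, hx, e, sub_self]), e'⟩⟩
    have := (hr.map X.res).eq_zero
    rw [map_sub, hx, sub_eq_zero] at this
    exact this.symm
  obtain ⟨r, -, -, hu⟩ := key A
  obtain ⟨r₁, h₁, h₁', -⟩ := key A₁
  obtain ⟨r₂, h₂, h₂', -⟩ := key A₂
  exact ⟨r₁, r₂, (hu _ (by rw [ArtFun.Art.res_app, h₁]) (by rw [Polynomial.aeval_algHom_apply, h₁', map_zero])).trans
    (hu _ (by rw [ArtFun.Art.res_app, h₂]) (by rw [Polynomial.aeval_algHom_apply, h₂', map_zero])).symm, h₁⟩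

end Groth.Agent.S12712
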