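import Groth.Statements.S12713
import Groth.Agent.ArtFunLib.Torsor
-- import your own Groth.Agent.* helpers here

set_option autoImplicit false
universe u v
open CategoryTheory
open ArtFun ArtFun.Art

namespace Groth.Agent.S12713

/-- A small extension f : B → A in the category of Artinian local Λ-algebras with residue field k is not
an essential surjection (some morphism g : C → B is non-surjective although the composite C → A is
surjective) if and only if f has a section A → B in the category. -/
theorem result {Λ : Type u} {k : Type u} [CommRing Λ] [Field k] [Algebra Λ k]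
    [IsNoetherianRing Λ] [Module.Finite Λ k]
    {A B : ArtFun.Art Λ k} (f : B ⟶ A) (hf : ArtFun.Art.IsSmallExt f) :
    (∃ (C : ArtFun.Art Λ k) (g : C ⟶ B), Function.Surjective (g ≫ f) ∧ ¬ Function.Surjective g) ↔
      ∃ s : A ⟶ B, s ≫ f = 𝟙 A := by
  constructor
  · rintro ⟨C, g, hs, hg⟩
    have key : ∀ c, f (g c) = 0 → g c = 0 := fun c hc => by
      by_contra hne
      apply hg
      intro b
      obtain ⟨t, ht⟩ := hf.2.2.1
      have ht0 : f t = 0 := RingHom.mem_ker.1 (ht ▸ Submodule.mem_span_singleton_self t)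
      obtain ⟨c₀, hc₀⟩ := hs (f b)
      have h1 : b - g c₀ ∈ Submodule.span B {t} :=
        ht ▸ RingHom.mem_ker.2 (by rw [map_sub, sub_eq_zero]; exact hc₀.symm)
      have h2 : g c ∈ Submodule.span B {t} := ht ▸ RingHom.mem_ker.2 hc
      obtain ⟨r, hr⟩ := Submodule.mem_span_singleton.1 h1
      obtain ⟨s, hsc⟩ := Submodule.mem_span_singleton.1 h2
      have hs0 : B.res s ≠ 0 := fun h0 => hne (by
        rw [← hsc, smul_eq_mul]
        exact ArtFunLib.mul_eq_zero_of_semismall hf.isSemismallExt ((B.mem_maximalIdeal_iff _).2 h0) ht0)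
      obtain ⟨d, hd⟩ := C.res_surjective (B.res r / B.res s)
      refine ⟨c₀ + d * c, ?_⟩
      have : g d * s * t = r * t := by
        rw [← sub_eq_zero, ← sub_mul]
        refine ArtFunLib.mul_eq_zero_of_semismall hf.isSemismallExt ((B.mem_maximalIdeal_iff _).2 ?_) ht0
        rw [map_sub, map_mul, ArtFun.Art.res_app g d, hd, div_mul_cancel₀ _ hs0, sub_self]
      rw [smul_eq_mul] at hr hsc
      rw [map_add, map_mul, ← hsc, ← mul_assoc, this, hr, add_sub_cancel]
    choose σ hσ using hs
    have hwd : ∀ c c', f (g c) = f (g c') → g c = g c' := fun c c' e =>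
      sub_eq_zero.1 (by rw [← map_sub]; exact key _ (by rw [map_sub, map_sub, e, sub_self]))
    refine ⟨⟨{ toFun := fun a => g (σ a)
               map_one' := ?_
               map_mul' := ?_
               map_zero' := ?_
               map_add' := ?_
               commutes' := ?_ }, AlgHom.ext fun a => ?_⟩, ArtFunLib.hom_ext_apply fun a => hσ a⟩
    · rw [← map_one g.toAlgHom]; exact hwd _ _ ((hσ 1).trans (by simp))
    · intro x y; rw [← map_mul g.toAlgHom]; exact hwd _ _ ((hσ _).trans (by rw [map_mul g.toAlgHom, map_mul f.toAlgHom]; exact (congrArg₂ (· * ·) (hσ x) (hσ y)).symm))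
    · rw [← map_zero g.toAlgHom]; exact hwd _ _ ((hσ 0).trans (by simp))
    · intro x y; rw [← map_add g.toAlgHom]; exact hwd _ _ ((hσ _).trans (by rw [map_add g.toAlgHom, map_add f.toAlgHom]; exact (congrArg₂ (· + ·) (hσ x) (hσ y)).symm))
    · intro r; rw [← g.toAlgHom.commutes r]; exact hwd _ _ ((hσ _).trans (by simp))
    · exact ((ArtFun.Art.res_app f _).symm.trans (congrArg A.res (hσ a)))
  · rintro ⟨s, hs⟩
    refine ⟨A, s, fun a => ⟨a, by rw [hs]; rfl⟩, fun h => hf.2.1 (eq_bot_iff.2 fun x hx => ?_)⟩
    obtain ⟨a, rfl⟩ := h x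
    have : a = 0 := by
      have e := RingHom.mem_ker.1 hx
      rw [← ArtFunLib.comp_apply' s f a, hs] at e
      exact e
    rw [this, map_zero]
    exact zero_mem _

end Groth.Agent.S12713
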