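import Groth.Statements.S12715
import Groth.Agent.ArtFunLib.Cotangent
import Groth.Agent.ArtFunLib.Torsor
-- import your own Groth.Agent.* helpers here

set_option autoImplicit false
universe u v
open CategoryTheory
open ArtFun

namespace Groth.Agent.S12715

/-- For Λ Noetherian with a finite map to the field k and S a complete local Noetherian Λ-algebra with
residue field k (through a surjective map S → k over Λ), the space of Λ-derivations S → k is
finite-dimensional over k. -/
theorem result {Λ : Type u} {k : Type u} [CommRing Λ] [Field k] [Algebra Λ k]
    [IsNoetherianRing Λ] [Module.Finite Λ k]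
    (S : Type u) [CommRing S] [Algebra Λ S] [IsLocalRing S] [IsNoetherianRing S]
    [IsAdicComplete (IsLocalRing.maximalIdeal S) S] [Algebra S k] [IsScalarTower Λ S k]
    (hres : Function.Surjective (algebraMap S k)) :
    Module.Finite k (Derivation Λ S k) := by
  obtain ⟨s, hs⟩ := ArtFunLib.exists_finite_determining (IsScalarTower.toAlgHom Λ S k) hres
  let φ : Derivation Λ S k →ₗ[k] (↥s → k) :=
    { toFun := fun D x => D x.1, map_add' := fun _ _ => rfl, map_smul' := fun _ _ => rfl }
  refine FiniteDimensional.of_injective φ ((injective_iff_map_eq_zero φ).2 fun D hD => ?_)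
  exact Derivation.ext fun a => congrArg (fun l : S →ₗ[Λ] k => l a) (hs D.toLinearMap
    (fun a b => by
      simp only [Derivation.coeFn_coe, Derivation.leibniz, Algebra.smul_def]
      rfl)
    (fun x hx => congrFun hD ⟨x, hx⟩))

end Groth.Agent.S12715
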