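import Groth.Statements.S12718
import Groth.Agent.ArtFunLib.PowerSeriesVersal
-- import your own Groth.Agent.* helpers here

set_option autoImplicit false
universe u v
open CategoryTheory
open ArtFun

namespace Groth.Agent.S12718

open Groth.Agent.ArtFunLib in
theorem aux {Λ : Type u} {k : Type u} [CommRing Λ] [Field k] [Algebra Λ k]
    (R S : ArtFun.CRing Λ k) [Algebra R.carrier S.carrier] [IsScalarTower Λ R.carrier S.carrier]
    (hRS : S.res.comp (IsScalarTower.toAlgHom Λ R.carrier S.carrier) = R.res) :
    ArtFun.IsVersal ((ArtFun.Family.self R.carrier R.res).along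
        (IsScalarTower.toAlgHom Λ R.carrier S.carrier) hRS) ↔
      ∃ n : ℕ, Nonempty (S.carrier ≃ₐ[R.carrier] MvPowerSeries (Fin n) R.carrier) := by
  constructor
  · intro hv
    obtain ⟨n, Φ, hΦ, hΦC⟩ := exists_iso_of_isVersal _ hRS hv
    let Φ' : MvPowerSeries (Fin n) R.carrier →ₐ[R.carrier] S.carrier :=
      { toRingHom := Φ.toRingHom
        commutes' := fun a => hΦC a }
    exact ⟨n, ⟨(AlgEquiv.ofBijective Φ' hΦ).symm⟩⟩
  · rintro ⟨n, ⟨e⟩⟩
    let e' : S.carrier →ₐ[Λ] (psRing R n).carrier :=
      { toRingHom := e.toAlgHom.toRingHom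
        commutes' := fun l => by
          show e (algebraMap Λ S.carrier l) = _
          rw [IsScalarTower.algebraMap_apply Λ R.carrier S.carrier, AlgEquiv.commutes]
          exact ((psC R n).commutes l) }
    exact isVersal_along_of_iso _ hRS e' e.bijective (AlgHom.ext fun a => e.commutes a)

/-- Let R → S be a morphism of complete local Noetherian Λ-algebras with residue field k. The induced
morphism h_S → h_R of functors on Artinian local Λ-algebras with residue field k (composition with R
→ S) is smooth if and only if S is isomorphic as an R-algebra to a power series ring R[[X₁, …, Xₙ]]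
for some n. Smoothness of h_S → h_R is written as versality of the corresponding family of h_R over
S. -/
theorem result {Λ : Type u} {k : Type u} [CommRing Λ] [Field k] [Algebra Λ k]
    [IsNoetherianRing Λ] [Module.Finite Λ k]
    (R S : ArtFun.CRing Λ k) [Algebra R.carrier S.carrier] [IsScalarTower Λ R.carrier S.carrier]
    (hRS : S.res.comp (IsScalarTower.toAlgHom Λ R.carrier S.carrier) = R.res) :
    ArtFun.IsVersal ((ArtFun.Family.self R.carrier R.res).along
        (IsScalarTower.toAlgHom Λ R.carrier S.carrier) hRS) ↔
      ∃ n : ℕ, Nonempty (S.carrier ≃ₐ[R.carrier] MvPowerSeries (Fin n) R.carrier) := by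
  exact aux R S hRS

end Groth.Agent.S12718
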