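import Groth.Statements.S12725
import Groth.Agent.ArtFunLib.Torsor
import Groth.Agent.ArtFunLib.Formal
-- import your own Groth.Agent.* helpers here

set_option autoImplicit false
universe u v
open CategoryTheory
open ArtFun

namespace Groth.Agent.S12725

/-- For functors, if F satisfies (S2) (bijectivity of F(A ×_k k[ε]) → F(A) ×_{F(k)} F(k[ε])), then for
every object E which is a square-zero extension k ⊕ V of k by a finite-dimensional vector space —
equivalently, m_E² = 0 and the augmentation E → k has a section in the category — and every fibre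
product square B = A ×_k E, the map F(B) → F(A) ×_{F(k)} F(E) is bijective. -/
theorem result {Λ : Type u} {k : Type u} [CommRing Λ] [Field k] [Algebra Λ k]
    [IsNoetherianRing Λ] [Module.Finite Λ k]
    {F : ArtFun.Art Λ k ⥤ Type v} (hF : ArtFun.Heps F)
    {E : ArtFun.Art Λ k} (hσ : Nonempty (ArtFun.Art.base Λ k ⟶ E))
    (hE : IsLocalRing.maximalIdeal E ^ 2 = ⊥)
    ⦃B A : ArtFun.Art Λ k⦄ (p' : B ⟶ A) (p'' : B ⟶ E)
    (h : ArtFun.Art.IsFibreProd p' p'' (ArtFun.Art.toBase A) (ArtFun.Art.toBase E)) :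
    Function.Bijective (ArtFun.cmp F h) := by
  classical
  suffices key : ∀ K : Ideal E, ∀ hK : K ≤ IsLocalRing.maximalIdeal E, ∀ ⦃B : ArtFun.Art Λ k⦄
      (p' : B ⟶ A) (p'' : B ⟶ ArtFun.Art.quot E K hK)
      (h : ArtFun.Art.IsFibreProd p' p'' (ArtFun.Art.toBase A) (ArtFun.Art.toBase (ArtFun.Art.quot E K hK))),
      Function.Bijective (ArtFun.cmp F h) by
    let q := ArtFun.Art.quotMk E ⊥ bot_le
    have hqi : Function.Bijective q := ⟨fun a b hab => by
      have := (ArtFunLib.quotMk_eq_iff _ a b).1 hab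
      rwa [Ideal.mem_bot, sub_eq_zero] at this, ArtFun.Art.quotMk_surjective _ _ _⟩
    have := ArtFunLib.isIso_of_bijective q hqi
    have h' : ArtFun.Art.IsFibreProd p' (p'' ≫ q) (ArtFun.Art.toBase A) (ArtFun.Art.toBase _) :=
      ⟨ArtFunLib.base_subsingleton _ _, fun a b e e' => h.inj a b e (hqi.1 e'), fun a c e => by
        obtain ⟨c, rfl⟩ := hqi.2 c
        obtain ⟨b, hb, hb'⟩ := h.surj a c (e.trans (ArtFun.Art.res_app q c))
        exact ⟨b, hb, congrArg (fun z => q z) hb'⟩⟩
    have hk := key ⊥ bot_le p' (p'' ≫ q) h'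
    refine ⟨(ArtFunLib.cmp_injective_iff h).2 fun z z' e e' => (ArtFunLib.cmp_injective_iff h').1 hk.1 _ _ e
      (by rw [← ArtFunLib.map_map, ← ArtFunLib.map_map, e']),
      (ArtFunLib.cmp_surjective_iff h).2 fun x x' e => ?_⟩
    obtain ⟨z, hz, hz'⟩ := (ArtFunLib.cmp_surjective_iff h').1 hk.2 x (F.map q x') (by
      rw [ArtFunLib.map_map F q]; rwa [ArtFunLib.toBase_comp_eq])
    exact ⟨z, hz, (ArtFunLib.map_bijective F q).1 (by rw [ArtFunLib.map_map, hz'])⟩
  intro K
  induction K using WellFoundedGT.induction with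
  | ind K ih =>
    intro hK B p' p'' h
    by_cases heq : K = IsLocalRing.maximalIdeal E
    · refine ArtFunLib.cmp_bijective_of_iso h ⟨fun a b hab => ?_, (ArtFun.Art.quot E K hK).res_surjective⟩
      obtain ⟨a, rfl⟩ := ArtFun.Art.quotMk_surjective E K hK a
      obtain ⟨b, rfl⟩ := ArtFun.Art.quotMk_surjective E K hK b
      rw [ArtFunLib.quotMk_eq_iff, heq, ArtFun.Art.mem_maximalIdeal_iff, map_sub, sub_eq_zero]
      exact hab
    obtain ⟨σ₀⟩ := hσ
    let σ : k →ₐ[Λ] E := σ₀.toAlgHom
    have hsq : ∀ a b, a ∈ IsLocalRing.maximalIdeal E → b ∈ IsLocalRing.maximalIdeal E → a * b = 0 :=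
      fun a b ha hb => by
        have := Ideal.mul_mem_mul ha hb
        rwa [← pow_two, hE, Ideal.mem_bot] at this
    have hσr : ∀ c : k, E.res (σ c) = c := fun c => ArtFun.Art.res_app σ₀ c
    -- a maximal proper subideal
    obtain ⟨J, ⟨hJ₀, hJ₁⟩, hmax⟩ := WellFounded.has_min (r := ((· > ·) : Ideal E → Ideal E → Prop))
      wellFounded_gt {J | K ≤ J ∧ J < IsLocalRing.maximalIdeal E} ⟨K, le_rfl, lt_of_le_of_ne hK heq⟩
    obtain ⟨t, ht, htJ⟩ := SetLike.exists_of_lt hJ₁
    have hgen : ∀ e ∈ IsLocalRing.maximalIdeal E, ∃ c : k, e - σ c * t ∈ J := fun e he => by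
      have hmx : J ⊔ Ideal.span {t} = IsLocalRing.maximalIdeal E := by
        by_contra hne
        exact hmax _ ⟨hJ₀.trans le_sup_left, lt_of_le_of_ne (sup_le hJ₁.le
          ((Ideal.span_singleton_le_iff_mem _).2 ht)) hne⟩ (lt_of_le_of_ne le_sup_left fun h =>
            htJ (h ▸ Ideal.mem_sup_right (Ideal.mem_span_singleton_self t)))
      rw [← hmx] at he
      obtain ⟨j, hj, w, hw, rfl⟩ := Submodule.mem_sup.1 he
      obtain ⟨a, rfl⟩ := Ideal.mem_span_singleton'.1 hw
      refine ⟨E.res a, ?_⟩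
      rw [add_sub_assoc, ← sub_mul, hsq (a - σ (E.res a)) t
        ((E.mem_maximalIdeal_iff _).2 (by rw [map_sub, hσr, sub_self])) ht, add_zero]
      exact hj
    have hcu : ∀ c : k, σ c * t ∈ J → c = 0 := fun c hc => by
      by_contra hne
      refine htJ ((Ideal.unit_mul_mem_iff_mem J ?_).1 hc)
      by_contra hu
      exact hne ((hσr c).symm.trans ((E.mem_maximalIdeal_iff _).1 ((IsLocalRing.mem_maximalIdeal _).2 hu)))
    have hmem : ∀ e : E, e - σ (E.res e) ∈ IsLocalRing.maximalIdeal E := fun e =>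
      (E.mem_maximalIdeal_iff _).2 (by rw [map_sub, hσr, sub_self])
    choose δ hδ using fun e : E => hgen _ (hmem e)
    have huniq : ∀ e c, e - σ (E.res e) - σ c * t ∈ J → δ e = c := fun e c hc => sub_eq_zero.1 (hcu _ (by
      have := sub_mem hc (hδ e)
      rw [map_sub, sub_mul]
      convert this using 1
      ring))
    let ψ : E ⟶ ArtFun.Art.dual Λ k :=
      ⟨{ toFun := fun e => (E.res e, δ e)
         map_one' := TrivSqZeroExt.ext (map_one E.res) (huniq 1 0 (by
           rw [map_one, map_one, map_zero, zero_mul, sub_zero, sub_self]; exact zero_mem _))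
         map_zero' := TrivSqZeroExt.ext (map_zero E.res) (huniq 0 0 (by
           rw [map_zero, map_zero, zero_mul, sub_zero, sub_self]; exact zero_mem _))
         map_add' := fun a b => TrivSqZeroExt.ext (map_add E.res a b) (huniq _ (δ a + δ b) (by
           convert add_mem (hδ a) (hδ b) using 1
           rw [map_add, map_add, map_add]; ring))
         map_mul' := fun a b => TrivSqZeroExt.ext (map_mul E.res a b) (by
           change δ (a * b) = E.res a • δ b + MulOpposite.op (E.res b) • δ a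
           rw [op_smul_eq_smul, smul_eq_mul, smul_eq_mul]
           refine huniq _ _ ?_
           have h0 := hsq _ _ (hmem a) (hmem b)
           have e : a * b - σ (E.res (a * b)) - σ (E.res a * δ b + E.res b * δ a) * t =
               σ (E.res b) * (a - σ (E.res a) - σ (δ a) * t) +
                 σ (E.res a) * (b - σ (E.res b) - σ (δ b) * t) := by
             rw [map_mul, map_add, map_mul, map_mul, map_mul]
             linear_combination h0
           rw [e]
           exact add_mem (J.mul_mem_left _ (hδ a)) (J.mul_mem_left _ (hδ b)))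
         commutes' := fun r => TrivSqZeroExt.ext (E.res.commutes r) (by
           change δ _ = TrivSqZeroExt.snd (algebraMap Λ (DualNumber k) r)
           rw [TrivSqZeroExt.algebraMap_eq_inl', TrivSqZeroExt.snd_inl]
           refine huniq _ 0 ?_
           rw [map_zero, zero_mul, sub_zero, AlgHom.commutes,
             σ.commutes r, sub_self]
           exact zero_mem _) }, AlgHom.ext fun e => rfl⟩
    have hψK : K ≤ RingHom.ker ψ.toAlgHom := fun e he => RingHom.mem_ker.2 (TrivSqZeroExt.ext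
      ((E.mem_maximalIdeal_iff _).1 (hK he)) (huniq e 0 (by
        rw [(E.mem_maximalIdeal_iff _).1 (hK he), map_zero, sub_zero, zero_mul, sub_zero]
        exact hJ₀ he)))
    have hL : K ⊔ Ideal.span {t} ≤ IsLocalRing.maximalIdeal E := sup_le hK ((Ideal.span_singleton_le_iff_mem _).2 ht)
    have hlt : K < K ⊔ Ideal.span {t} := lt_of_le_of_ne le_sup_left fun h =>
      htJ (hJ₀ (h ▸ Ideal.mem_sup_right (Ideal.mem_span_singleton_self t)))
    have hKL : K ≤ RingHom.ker (ArtFun.Art.quotMk E _ hL).toAlgHom := fun a ha =>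
      RingHom.mem_ker.2 ((ArtFunLib.quotMk_eq_zero_iff _ a).2 (Ideal.mem_sup_left ha))
    set q := ArtFun.Art.quotFactor hK (ArtFun.Art.quotMk E _ hL) hKL
    set ψ' := ArtFun.Art.quotFactor hK ψ hψK
    obtain ⟨B', b₁, b₂, hB'⟩ := ArtFunLib.exists_fibreProd (ArtFun.Art.toBase A)
      (ArtFun.Art.toBase (ArtFun.Art.quot E _ hL)) (ArtFun.Art.quot E _ hL).res_surjective
    obtain ⟨r, hr₁, hr₂⟩ := ArtFunLib.IsFibreProd.exists_lift hB' p' (p'' ≫ q) (ArtFunLib.base_subsingleton _ _)
    have hres2 : ∀ e : E, (ArtFun.Art.quot E K hK).res (ArtFun.Art.quotMk E K hK e) = E.res e := fun e => rfl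
    have hpair : ArtFun.Art.IsFibreProd q ψ' (ArtFun.Art.toBase _) (ArtFun.Art.toBase (ArtFun.Art.dual Λ k)) := by
      refine ⟨ArtFunLib.base_subsingleton _ _, fun x y e e' => ?_, fun x d e => ?_⟩
      · obtain ⟨a, rfl⟩ := ArtFun.Art.quotMk_surjective E K hK x
        obtain ⟨c, rfl⟩ := ArtFun.Art.quotMk_surjective E K hK y
        have h1 : a - c ∈ K ⊔ Ideal.span {t} := (ArtFunLib.quotMk_eq_iff _ a c).1 e
        obtain ⟨u, hu, w, hw, huw⟩ := Submodule.mem_sup.1 h1
        obtain ⟨z, rfl⟩ := Ideal.mem_span_singleton'.1 hw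
        refine (ArtFunLib.quotMk_eq_iff _ a c).2 ?_
        have hzc : z * t = σ (E.res z) * t := sub_eq_zero.1 (by rw [← sub_mul]; exact hsq _ _ (hmem z) ht)
        have hd : δ a - δ c = E.res z := by
          have hE0 : E.res a = E.res c := congrArg TrivSqZeroExt.fst e'
          refine sub_eq_zero.1 (hcu _ ?_)
          rw [map_sub, map_sub, sub_mul, sub_mul]
          have := add_mem (sub_mem (hδ c) (hδ a)) (hJ₀ hu)
          convert this using 1
          rw [hE0]
          linear_combination hzc - huw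
        have hz0 : E.res z = 0 := by rw [← hd, show δ a = δ c from congrArg TrivSqZeroExt.snd e', sub_self]
        rw [← huw, hzc, hz0, map_zero, zero_mul, add_zero]
        exact hu
      · obtain ⟨el, rfl⟩ := ArtFun.Art.quotMk_surjective E _ hL x
        refine ⟨ArtFun.Art.quotMk E K hK (el + σ (TrivSqZeroExt.snd d - δ el) * t), ?_, TrivSqZeroExt.ext ?_ ?_⟩
        · exact (ArtFunLib.quotMk_eq_iff hL (el + σ (TrivSqZeroExt.snd d - δ el) * t) el).2 (by
            rw [add_sub_cancel_left]
            exact Ideal.mul_mem_left _ _ (Ideal.mem_sup_right (Ideal.mem_span_singleton_self t)))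
        · change E.res _ = _
          rw [map_add, map_mul, (E.mem_maximalIdeal_iff t).1 ht, mul_zero, add_zero]
          exact e
        · refine huniq _ _ ?_
          rw [map_add, map_mul, (E.mem_maximalIdeal_iff t).1 ht, mul_zero, add_zero, map_sub]
          convert hδ el using 1
          ring_nf
    have hBd : ArtFun.Art.IsFibreProd r (p'' ≫ ψ') (ArtFun.Art.toBase B')
        (ArtFun.Art.toBase (ArtFun.Art.dual Λ k)) := by
      refine ⟨ArtFunLib.base_subsingleton _ _, fun x y e e' => h.inj x y ?_ (hpair.inj _ _ ?_ e'), fun b d e => ?_⟩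
      · rw [← hr₁, ArtFunLib.comp_apply', ArtFunLib.comp_apply', e]
      · rw [← ArtFunLib.comp_apply' p'' q, ← ArtFunLib.comp_apply' p'' q, ← hr₂, ArtFunLib.comp_apply',
          ArtFunLib.comp_apply', e]
      · obtain ⟨el, hel, hel'⟩ := hpair.surj (b₂ b) d ((ArtFun.Art.res_app b₂ b).trans e)
        obtain ⟨x, hx, hx'⟩ := h.surj (b₁ b) el ((hB'.w_apply b).trans (by
          rw [← hel]; exact ArtFun.Art.res_app q el))
        refine ⟨x, hB'.inj _ _ ?_ ?_, ?_⟩
        · rw [← ArtFunLib.comp_apply' r b₁, hr₁, hx]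
        · rw [← ArtFunLib.comp_apply' r b₂, hr₂, ArtFunLib.comp_apply', hx', hel]
        · rw [ArtFunLib.comp_apply', hx', hel']
    have hb := hF r (p'' ≫ ψ') hBd
    have hb' := ih _ hlt hL b₁ b₂ hB'
    refine ⟨(ArtFunLib.cmp_injective_iff h).2 fun z z' e e' => (ArtFunLib.cmp_injective_iff hBd).1 hb.1 _ _
      ((ArtFunLib.cmp_injective_iff hB').1 hb'.1 _ _ ?_ ?_) ?_, (ArtFunLib.cmp_surjective_iff h).2 fun x x' e => ?_⟩
    · rw [ArtFunLib.map_map, ArtFunLib.map_map, hr₁, e]
    · rw [ArtFunLib.map_map, ArtFunLib.map_map, hr₂, ← ArtFunLib.map_map, ← ArtFunLib.map_map, e']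
    · rw [← ArtFunLib.map_map, ← ArtFunLib.map_map, e']
    obtain ⟨m, hm, hm'⟩ := (ArtFunLib.cmp_surjective_iff hB').1 hb'.2 x (F.map q x')
      (by rw [ArtFunLib.map_map, ArtFunLib.toBase_comp_eq, e])
    obtain ⟨z, hz, hz'⟩ := (ArtFunLib.cmp_surjective_iff hBd).1 hb.2 m (F.map ψ' x') (by
      rw [ArtFunLib.map_map F ψ', ArtFunLib.toBase_comp_eq, ← e, ← hm, ArtFunLib.map_map, ArtFunLib.toBase_comp_eq])
    refine ⟨z, by rw [← hr₁, ← ArtFunLib.map_map, hz, hm], ?_⟩
    exact (ArtFunLib.cmp_injective_iff hpair).1 (hF _ _ hpair).1 _ _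
      (by rw [ArtFunLib.map_map F p'', ← hr₂, ← ArtFunLib.map_map, hz, hm'])
      (by rw [ArtFunLib.map_map F p'', hz'])

end Groth.Agent.S12725
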