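import Groth.Statements.S12728
import Groth.Agent.ArtFunLib.Formal
import Groth.Agent.ArtFunLib.Tangent
import Groth.Agent.ArtFunLib.Functor
-- import your own Groth.Agent.* helpers here

set_option autoImplicit false
universe u v
open CategoryTheory
open ArtFun

namespace Groth.Agent.S12728

/-- For functors, let F be a functor on Artinian local Λ-algebras with residue field k with F(k) a
point, satisfying (S1) and (S2), and ξ a family of F over a complete local Noetherian R with residue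
field k. Then ξ is versal if and only if (1) the map h_R(k[ε]) → F(k[ε]) on tangent spaces is
surjective, and (2) whenever μ : B → A is a small extension, φ : R → A, and y ∈ F(B) lies over ξ(φ),
the map φ lifts to some R → B. -/
theorem result {Λ : Type u} {k : Type u} [CommRing Λ] [Field k] [Algebra Λ k]
    [IsNoetherianRing Λ] [Module.Finite Λ k]
    {F : ArtFun.Art Λ k ⥤ Type v} (h0 : ArtFun.H0 F) (h1 : ArtFun.S1 F) (h2 : ArtFun.Heps F)
    (R : ArtFun.CRing Λ k) (ξ : ArtFun.Family R.carrier R.res F) :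
    ArtFun.IsVersal ξ ↔
      (Function.Surjective (ArtFun.TangentSpace.ofFamily ξ) ∧
        ∀ ⦃B A : ArtFun.Art Λ k⦄ (μ : B ⟶ A), ArtFun.Art.IsSmallExt μ →
          ∀ (φ : ArtFun.HomSet R.carrier R.res A) (y : F.obj B), F.map μ y = ξ.app A φ →
            ∃ ψ : ArtFun.HomSet R.carrier R.res B, ArtFun.HomSet.map μ ψ = φ) := by
  constructor
  · intro h
    refine ⟨fun θ => ?_, fun B A μ hμ φ y hy => ?_⟩
    · obtain ⟨ψ, -, hψ⟩ := h (ArtFun.Art.toBase _) (ArtFun.Art.dual Λ k).res_surjective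
        ⟨R.res, AlgHom.id_comp _⟩ θ (@Subsingleton.elim _ h0.2 _ _)
      exact ⟨ψ, hψ⟩
    · obtain ⟨ψ, hψ, -⟩ := h μ hμ.1 φ y hy
      exact ⟨ψ, hψ⟩
  · rintro ⟨hd, hl⟩ B A μ hμ
    refine ArtFunLib.surj_induction (fun A B (μ : B ⟶ A) => ∀ (φ : ArtFun.HomSet R.carrier R.res A) (y : F.obj B),
      F.map μ y = ξ.app A φ → ∃ ψ : ArtFun.HomSet R.carrier R.res B,
        ArtFun.HomSet.map μ ψ = φ ∧ ξ.app B ψ = y) ?_ ?_ ?_ μ hμ
    · intro A B e he φ y hy
      refine ⟨ArtFun.HomSet.map (inv e) φ, ?_, ?_⟩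
      · rw [ArtFunLib.HomSet.map_map, IsIso.inv_hom_id, ArtFunLib.HomSet.map_id]
      · rw [ξ.natural, ← hy, ArtFunLib.map_inv_map]
    · intro A B p hp φ y hy
      obtain ⟨ψ₀, hψ₀⟩ := hl p hp φ y hy
      obtain ⟨t, ht⟩ := hp.2.2.1
      obtain ⟨P, p₁, p₂, hP⟩ := ArtFunLib.exists_fibreProd p p hp.1
      obtain ⟨g, -, hg⟩ := ArtFunLib.exists_diff hp ht hP
      obtain ⟨w, hw, hw'⟩ := (ArtFunLib.cmp_surjective_iff hP).1 (h1 _ _ _ _ hP hp.1) (ξ.app B ψ₀) y
        (by rw [← ξ.natural, hψ₀, hy])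
      obtain ⟨θ, hθ⟩ := hd (F.map g w)
      obtain ⟨ω, hω₁, hω₂⟩ := ArtFunLib.HomSet.exists_lift hg ψ₀ θ
        (ArtFunLib.HomSet.base_eq _ _)
      have key : ξ.app P ω = w := (ArtFunLib.cmp_injective_iff hg).1 (h2 _ _ hg).1 _ _
        (by rw [← ξ.natural, hω₁, hw]) (by rw [← ξ.natural, hω₂]; exact hθ)
      refine ⟨ArtFun.HomSet.map p₂ ω, ?_, ?_⟩
      · rw [ArtFunLib.HomSet.map_map, ← hP.w, ← ArtFunLib.HomSet.map_map, hω₁, hψ₀]
      · rw [ξ.natural, key, hw']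
    · intro A B C p q _ _ hp hq φ y hy
      obtain ⟨ψ, hψ, hψ'⟩ := hq φ (F.map p y) (by rw [ArtFunLib.map_map, hy])
      obtain ⟨ω, hω, hω'⟩ := hp ψ y hψ'.symm
      exact ⟨ω, by rw [← ArtFunLib.HomSet.map_map, hω, hψ], hω'⟩

end Groth.Agent.S12728
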