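import Groth.Statements.S12731
import Groth.Agent.ArtFunLib.Cotangent
import Groth.Agent.ArtFunLib.Torsor
-- import your own Groth.Agent.* helpers here

set_option autoImplicit false
universe u v
open CategoryTheory
open ArtFun

namespace Groth.Agent.S12731

/-- For functors, if a functor F on Artinian local Λ-algebras with residue field k with F(k) a point has
a versal family over a complete local Noetherian ring with residue field k which is bijective on
tangent spaces (a hull), then F satisfies (S1) and (S2) and has finite-dimensional tangent space. -/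
theorem result {Λ : Type u} {k : Type u} [CommRing Λ] [Field k] [Algebra Λ k]
    [IsNoetherianRing Λ] [Module.Finite Λ k]
    (F : ArtFun.Art Λ k ⥤ Type v) [ArtFun.TangentStr F] (h0 : ArtFun.H0 F) (h : ArtFun.HasHull F) :
    ArtFun.S1 F ∧ ArtFun.Heps F ∧ ArtFun.Hfin F := by
  obtain ⟨P⟩ := h
  have hs := ArtFunLib.versal_surjective P.miniversal.1
    (fun y => ⟨⟨P.ring.res, AlgHom.id_comp _⟩, @Subsingleton.elim _ h0.2 _ _⟩)
  have h2 := ArtFunLib.versal_heps P.miniversal hs
  refine ⟨ArtFunLib.versal_s1 P.miniversal.1 hs, h2, ?_⟩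
  choose ψ hψ using P.miniversal.2.2
  obtain ⟨s, hdet⟩ := ArtFunLib.exists_finite_determining P.ring.res P.ring.res_surjective
  let φ : ArtFun.TangentSpace F →ₗ[k] (↥s → k) :=
    { toFun := fun θ x => TrivSqZeroExt.snd ((ψ θ).1 x.1)
      map_add' := fun θ θ' => by
        obtain ⟨χ, h₁, h₂⟩ := ArtFunLib.HomSet.exists_lift ArtFun.Art.isFibreProd_dual2 (ψ θ) (ψ θ')
          (ArtFunLib.HomSet.base_eq _ _)
        have : ψ (θ + θ') = ArtFun.HomSet.map ArtFun.Art.plus χ := P.miniversal.2.1 (by
          rw [hψ, P.family.natural]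
          refine Eq.trans ?_ (ArtFun.TangentStr.add_eq (F := F) (P.family.app _ χ))
          rw [← P.family.natural, ← P.family.natural, h₁, h₂, hψ, hψ]
          rfl)
        funext x
        rw [Pi.add_apply, this, ← h₁, ← h₂]
        rfl
      map_smul' := fun c θ => by
        have : ψ (c • θ) = ArtFun.HomSet.map (ArtFun.Art.scale c) (ψ θ) := P.miniversal.2.1 (by
          rw [hψ, P.family.natural, hψ]
          exact ArtFun.TangentStr.smul_eq (F := F) c θ)
        funext x
        rw [this]
        rfl }
  refine FiniteDimensional.of_injective φ fun θ θ' e => ?_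
  rw [← hψ θ, ← hψ θ']
  refine congrArg _ (Subtype.ext (AlgHom.ext fun r => TrivSqZeroExt.ext ?_ ?_))
  · exact (congrArg (fun g => g r) (ψ θ).2).trans (congrArg (fun g => g r) (ψ θ').2).symm
  · let δ : ArtFun.HomSet P.ring.carrier P.ring.res (ArtFun.Art.dual Λ k) → P.ring.carrier →ₗ[Λ] k := fun u =>
      { toFun := fun a => TrivSqZeroExt.snd (u.1 a)
        map_add' := fun a b => by rw [map_add]; rfl
        map_smul' := fun l a => by rw [map_smul]; rfl }
    have hδ : ∀ u a b, δ u (a * b) = P.ring.res a * δ u b + P.ring.res b * δ u a := fun u a b => by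
      change TrivSqZeroExt.snd (u.1 (a * b)) = _
      rw [map_mul, ← (congrArg (fun g => g a) u.2), ← (congrArg (fun g => g b) u.2)]
      exact (TrivSqZeroExt.snd_mul (u.1 a) (u.1 b)).trans (by rw [op_smul_eq_smul]; rfl)
    have h0' := hdet (δ (ψ θ) - δ (ψ θ')) (fun a b => by
      rw [LinearMap.sub_apply, LinearMap.sub_apply, LinearMap.sub_apply, hδ, hδ]; ring)
      (fun x hx => sub_eq_zero.2 (congrFun e ⟨x, hx⟩))
    exact sub_eq_zero.1 (congrArg (fun l : P.ring.carrier →ₗ[Λ] k => l r) h0')

end Groth.Agent.S12731
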