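import Groth.Statements.S12733
import Groth.Agent.ArtFunLib.Torsor
-- import your own Groth.Agent.* helpers here

set_option autoImplicit false
universe u v
open CategoryTheory
open ArtFun

namespace Groth.Agent.S12733

/-- Let F, G be deformation functors on Artinian local Λ-algebras with residue field k (value at k a
point, and condition (RS): the comparison map for A₁ ×_A A₂ is bijective whenever A₂ → A is
surjective). A smooth morphism φ : F → G inducing a bijection on tangent spaces is an isomorphism: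
every φ_A is bijective. -/
theorem result {Λ : Type u} {k : Type u} [CommRing Λ] [Field k] [Algebra Λ k]
    [IsNoetherianRing Λ] [Module.Finite Λ k]
    {F G : ArtFun.Art Λ k ⥤ Type v}
    (hF0 : ArtFun.H0 F) (hF : (∀ ⦃B A A' A'' : ArtFun.Art Λ k⦄ (p' : B ⟶ A') (p'' : B ⟶ A'') (f' : A' ⟶ A) (f'' : A'' ⟶ A)
        (h : ArtFun.Art.IsFibreProd p' p'' f' f''), Function.Surjective f'' → Function.Bijective (ArtFun.cmp F h)))
    (hG0 : ArtFun.H0 G) (hG : (∀ ⦃B A A' A'' : ArtFun.Art Λ k⦄ (p' : B ⟶ A') (p'' : B ⟶ A'') (f' : A' ⟶ A) (f'' : A'' ⟶ A)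
        (h : ArtFun.Art.IsFibreProd p' p'' f' f''), Function.Surjective f'' → Function.Bijective (ArtFun.cmp G h)))
    (φ : F ⟶ G) (hφ : ArtFun.IsSmooth φ) (hd : Function.Bijective (ArtFun.TangentSpace.map φ))
    (A : ArtFun.Art Λ k) : Function.Bijective (φ.app A) := by
  have weak : ∀ {F : ArtFun.Art Λ k ⥤ Type v}, (∀ ⦃B A A' A'' : ArtFun.Art Λ k⦄ (p' : B ⟶ A') (p'' : B ⟶ A'') (f' : A' ⟶ A) (f'' : A'' ⟶ A)
        (h : ArtFun.Art.IsFibreProd p' p'' f' f''), Function.Surjective f'' → Function.Bijective (ArtFun.cmp F h)) →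
      ArtFun.Hbar F ∧ ArtFun.Heps F ∧ ArtFun.HSq F := fun h =>
    ⟨fun _ _ _ _ _ _ _ _ hh hs => (h _ _ _ _ hh hs.1).2,
      fun _ _ _ _ hh => h _ _ _ _ hh (ArtFun.Art.dual Λ k).res_surjective,
      fun _ _ _ _ _ _ hh hs => h _ _ _ _ hh hs.1⟩
  obtain ⟨hF1, hF2, hF4⟩ := weak hF
  obtain ⟨hG1, hG2, hG4⟩ := weak hG
  suffices h : Function.Injective (φ.app (ArtFun.Art.base Λ k)) → Function.Injective (φ.app A) by
    refine ⟨h fun a b _ => @Subsingleton.elim _ hF0.2 a b, fun y => ?_⟩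
    obtain ⟨z, -, hz⟩ := ArtFunLib.relCmp_surjective_iff.1 (hφ (ArtFun.Art.toBase A) A.res_surjective)
      hF0.1.some y (@Subsingleton.elim _ hG0.2 _ _)
    exact ⟨z, hz⟩
  refine ArtFunLib.surj_induction
    (fun A B (_ : B ⟶ A) => Function.Injective (φ.app A) → Function.Injective (φ.app B))
    ?_ ?_ ?_ (ArtFun.Art.toBase A) A.res_surjective
  · intro A B e he hA y y' e'
    exact (ArtFunLib.map_bijective F e).1 (hA (by rw [ArtFunLib.nat_app, ArtFunLib.nat_app, e']))
  · intro A B p hp hA y y' e'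
    exact ArtFunLib.eq_of_lift_of_injective hF0 hF1 hF2 hG4 hG2 φ hd.1 hp
      (hA (by rw [ArtFunLib.nat_app, ArtFunLib.nat_app, e'])) e'
  · exact fun A B C p q _ _ hp hq h => hp (hq h)

end Groth.Agent.S12733
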