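import Groth.Statements.S12735
import Groth.Agent.ArtFunLib.Endo
-- import your own Groth.Agent.* helpers here

set_option autoImplicit false
universe u v
open CategoryTheory
open ArtFun

namespace Groth.Agent.S12735

/-- Let U be a prorepresentable functor on Artinian local Λ-algebras with residue field k and φ : U → U
an endomorphism of functors which is bijective on the tangent space U(k[ε]). Then φ is an
isomorphism: every component is bijective. -/
theorem result {Λ : Type u} {k : Type u} [CommRing Λ] [Field k] [Algebra Λ k]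
    [IsNoetherianRing Λ] [Module.Finite Λ k]
    {U : ArtFun.Art Λ k ⥤ Type v} (hU : ArtFun.IsProrepresentable U)
    (φ : U ⟶ U) (hd : Function.Bijective (ArtFun.TangentSpace.map φ)) (A : ArtFun.Art Λ k) :
    Function.Bijective (φ.app A) := by
  obtain ⟨⟨R, ξ, hξ⟩⟩ := hU
  let ψ := fun n => (Equiv.ofBijective _ (hξ (R.trunc n))).symm (φ.app _ (ξ.app _ (R.truncHom n)))
  have hψ : ∀ n, ξ.app _ (ψ n) = φ.app _ (ξ.app _ (R.truncHom n)) := fun n =>
    Equiv.apply_symm_apply (Equiv.ofBijective _ (hξ (R.trunc n))) _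
  have hcompat : ∀ n, ArtFun.HomSet.map (R.truncMap n) (ψ (n + 1)) = ψ n := fun n => by
    apply (hξ _).1
    rw [ξ.natural, hψ, hψ, ← NatTrans.naturality_apply φ, ← ξ.natural,
      ArtFun.CRing.truncMap_truncHom]
  obtain ⟨g, hg, hgn⟩ := ArtFunLib.exists_hom_of_compat R ψ hcompat
  have key : ∀ B u, (ξ.along g hg).app B u = (ξ.push φ).app B u :=
    ArtFunLib.family_ext R fun n => (ArtFunLib.truncHom_comp R hg (hgn n) ξ).trans (hψ n)
  have hgs : Function.Surjective g := by
    refine ArtFunLib.surjective_of_dual_injective g hg fun a a' e => ?_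
    refine (hξ _).1 (hd.1 ?_)
    exact (key _ a).symm.trans ((ArtFunLib.app_congr ξ e).trans (key _ a'))
  have hgb := ArtFunLib.bijective_of_surjective_endo g.toRingHom hgs
  let e := AlgEquiv.ofBijective g hgb
  refine ⟨fun x y hxy => ?_, fun z => ?_⟩
  · obtain ⟨a, rfl⟩ := (hξ A).2 x
    obtain ⟨b, rfl⟩ := (hξ A).2 y
    have h1 := (hξ A).1 ((key A a).trans (hxy.trans (key A b).symm))
    have h2 : a.1.comp g = b.1.comp g := congrArg Subtype.val h1
    exact ArtFunLib.app_congr ξ (AlgHom.ext fun r => by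
      obtain ⟨r, rfl⟩ := hgs r
      exact AlgHom.congr_fun h2 r)
  · obtain ⟨b, rfl⟩ := (hξ A).2 z
    refine ⟨ξ.app A ⟨b.1.comp e.symm.toAlgHom, AlgHom.ext fun r => ?_⟩, (key A _).symm.trans ?_⟩
    · obtain ⟨r, rfl⟩ := hgs r
      show A.res (b.1 (e.symm (e r))) = R.res (g r)
      rw [e.symm_apply_apply]
      exact (AlgHom.congr_fun b.2 r).trans (AlgHom.congr_fun hg r).symm
    · exact ArtFunLib.app_congr ξ (AlgHom.ext fun r => congrArg b.1 (e.symm_apply_apply r))

end Groth.Agent.S12735
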