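import Groth.Statements.S12737
import Groth.Agent.ArtFunLib.Completion
import Groth.Agent.ArtFunLib.FormallySmooth
-- import your own Groth.Agent.* helpers here

set_option autoImplicit false
universe u v
open CategoryTheory
open ArtFun

namespace Groth.Agent.S12737

/-- For Λ Noetherian with a finite map to the field k there is a complete local Noetherian Λ-algebra R
with residue field k whose functor h_R on Artinian local Λ-algebras with residue field k is smooth.
(The published lemma moreover pins the cotangent data of R — the first homology of the naive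
cotangent complex of k over Λ equals m_R/m_R² and Ω_{R/Λ} ⊗ k = Ω_{k/Λ}; only the existence of a
smooth R is stated here.) -/
theorem result {Λ : Type u} {k : Type u} [CommRing Λ] [Field k] [Algebra Λ k]
    [IsNoetherianRing Λ] [Module.Finite Λ k] :
    ∃ R : ArtFun.CRing Λ k, ArtFun.IsSmoothFunctor (ArtFun.hR R.carrier R.res) := by
  classical
  obtain ⟨r, a, ha⟩ := Module.Finite.exists_fin (R := Λ) (M := k)
  let T : Type u := MvPolynomial (Fin r) Λ
  let aug : T →ₐ[Λ] k := MvPolynomial.aeval a
  have haug : Function.Surjective aug := fun c => by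
    have hc : c ∈ Submodule.span Λ (Set.range a) := by rw [ha]; trivial
    induction hc using Submodule.span_induction with
    | mem x hx => obtain ⟨i, rfl⟩ := hx; exact ⟨MvPolynomial.X i, MvPolynomial.aeval_X a i⟩
    | zero => exact ⟨0, map_zero aug⟩
    | add x y _ _ hx hy =>
      obtain ⟨p, rfl⟩ := hx; obtain ⟨q, rfl⟩ := hy
      exact ⟨p + q, map_add aug p q⟩
    | smul l x _ hx => obtain ⟨p, rfl⟩ := hx; exact ⟨l • p, map_smul aug l p⟩
  have : IsNoetherianRing T := inferInstanceAs (IsNoetherianRing (MvPolynomial (Fin r) Λ))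
  obtain ⟨P, i, -, hmax, hdense, hsep, -⟩ :=
    ArtFunLib.exists_completion aug haug (IsNoetherian.noetherian _)
  refine ⟨P, ArtFunLib.isSmoothFunctor_hR_of_formallySmooth P fun A _ _ J hJ ψ hψ => ?_⟩
  obtain ⟨N, hN⟩ := hψ
  choose v hv using fun j : Fin r => Ideal.Quotient.mk_surjective (ψ (i (MvPolynomial.X j)))
  let χ₀ : T →ₐ[Λ] A := MvPolynomial.aeval v
  have h0 : ∀ t, Ideal.Quotient.mk J (χ₀ t) = ψ (i t) := fun t => by
    have e : (Ideal.Quotient.mkₐ Λ J).comp χ₀ = ψ.comp i := by
      refine MvPolynomial.algHom_ext fun j => ?_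
      show Ideal.Quotient.mk J (MvPolynomial.aeval v (MvPolynomial.X j)) = _
      rw [MvPolynomial.aeval_X, hv]
      rfl
    exact AlgHom.congr_fun e t
  let M : Ideal T := RingHom.ker (aug : T →+* k)
  have hkill : ∀ t ∈ M ^ (2 * N), χ₀ t = 0 := fun t ht => by
    have hle : Ideal.map χ₀ (M ^ N) ≤ J := Ideal.map_le_iff_le_comap.2 fun z hz => by
      show χ₀ z ∈ J
      refine Ideal.Quotient.eq_zero_iff_mem.1 ((h0 z).trans (hN _ ?_))
      rw [← hmax, ← Ideal.map_pow]
      exact Ideal.mem_map_of_mem i hz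
    have h1 : χ₀ t ∈ Ideal.map χ₀ (M ^ N) ^ 2 := by
      rw [← Ideal.map_pow, ← pow_mul, mul_comm]
      exact Ideal.mem_map_of_mem χ₀ ht
    have h2 := Ideal.pow_right_mono hle 2 h1
    rwa [hJ, Ideal.mem_bot] at h2
  choose τ hτ using hdense (2 * N)
  have huniq : ∀ y t, y - i t ∈ IsLocalRing.maximalIdeal P.carrier ^ (2 * N) → χ₀ (τ y) = χ₀ t := by
    intro y t ht
    rw [← sub_eq_zero, ← map_sub]
    refine hkill _ (hsep _ _ ?_)
    rw [map_sub, show i (τ y) - i t = (y - i t) - (y - i (τ y)) by ring]
    exact sub_mem ht (hτ y)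
  have hself : ∀ t, χ₀ (τ (i t)) = χ₀ t := fun t => huniq _ _ (by rw [sub_self]; exact zero_mem _)
  let χ : P.carrier →ₐ[Λ] A :=
    { toFun := fun y => χ₀ (τ y)
      map_one' := by rw [show (1 : P.carrier) = i 1 from (map_one i).symm, hself, map_one]
      map_zero' := by rw [show (0 : P.carrier) = i 0 from (map_zero i).symm, hself, map_zero]
      map_add' := fun y z => by
        rw [huniq (y + z) (τ y + τ z) (by
          rw [map_add, add_sub_add_comm]; exact add_mem (hτ y) (hτ z)), map_add]
      map_mul' := fun y z => by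
        rw [huniq (y * z) (τ y * τ z) (by
          rw [map_mul, show y * z - i (τ y) * i (τ z) = (y - i (τ y)) * z + i (τ y) * (z - i (τ z)) by ring]
          exact add_mem (Ideal.mul_mem_right _ _ (hτ y)) (Ideal.mul_mem_left _ _ (hτ z))), map_mul]
      commutes' := fun l => by rw [← i.commutes, hself, AlgHom.commutes] }
  refine ⟨χ, AlgHom.ext fun y => ?_⟩
  show Ideal.Quotient.mk J (χ₀ (τ y)) = ψ y
  rw [h0, eq_comm, ← sub_eq_zero, ← map_sub]
  exact hN _ (Ideal.pow_le_pow_right (by omega) (hτ y))

end Groth.Agent.S12737
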