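import Groth.Statements.S12739
import Groth.Agent.Schless.Limit
import Groth.Agent.AdicRing.System
import Groth.Agent.Schless.Family
import Mathlib.RingTheory.Ideal.Cotangent
-- import your own Groth.Agent.* helpers here

set_option autoImplicit false
universe u v
open CategoryTheory
open ArtFun

namespace Groth.Agent.S12739

/-- Let … → A₃ → A₂ → A₁ be surjective morphisms of Artinian local Λ-algebras with residue field k (Λ
Noetherian, Λ → k finite) with dim_k m_{A_n}/m_{A_n}² bounded. Then lim A_n is a complete local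
Noetherian Λ-algebra with residue field k: some such S carries compatible surjective
augmentation-preserving maps S → A_n identifying S with the set of compatible sequences, and the
kernels of S → A_n define the m_S-adic topology on S. -/
theorem result {Λ : Type u} {k : Type u} [CommRing Λ] [Field k] [Algebra Λ k]
    [IsNoetherianRing Λ] [Module.Finite Λ k]
    (A : ℕ → ArtFun.Art Λ k) (f : ∀ n, A (n + 1) ⟶ A n) (hf : ∀ n, Function.Surjective (f n))
    (d : ℕ) (hd : ∀ n, Module.finrank (IsLocalRing.ResidueField (A n)) (IsLocalRing.CotangentSpace (A n)) ≤ d) :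
    ∃ (S : ArtFun.CRing Λ k) (π : ∀ n, ArtFun.HomSet S.carrier S.res (A n)),
      (∀ n, ArtFun.HomSet.map (f n) (π (n + 1)) = π n) ∧
      (∀ n, Function.Surjective (π n).1) ∧
      (∀ a : ∀ n, A n, (∀ n, f n (a (n + 1)) = a n) → ∃! s : S.carrier, ∀ n, (π n).1 s = a n) ∧
      (∀ n, ∃ N, RingHom.ker (π N).1 ≤ IsLocalRing.maximalIdeal S.carrier ^ n) ∧
      (∀ n, ∃ N, IsLocalRing.maximalIdeal S.carrier ^ N ≤ RingHom.ker (π n).1) := by
  classical
  obtain ⟨n₀, hmax⟩ : ∃ n₀, ∀ n, Module.finrank (IsLocalRing.ResidueField (A n)) (IsLocalRing.CotangentSpace (A n)) ≤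
      Module.finrank (IsLocalRing.ResidueField (A n₀)) (IsLocalRing.CotangentSpace (A n₀)) := by
    obtain ⟨r, ⟨n₀, rfl⟩, hr⟩ := Set.exists_max_image (Set.range fun n =>
      Module.finrank (IsLocalRing.ResidueField (A n)) (IsLocalRing.CotangentSpace (A n))) id
      ((Set.finite_Iic d).subset (by rintro _ ⟨n, rfl⟩; exact hd n)) ⟨_, 0, rfl⟩
    exact ⟨n₀, fun n => hr _ ⟨n, rfl⟩⟩
  let e := Module.finrank (IsLocalRing.ResidueField (A n₀)) (IsLocalRing.CotangentSpace (A n₀))
  let bas := Module.finBasis (IsLocalRing.ResidueField (A n₀)) (IsLocalRing.CotangentSpace (A n₀))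
  choose x₀ hx₀ using fun i => Ideal.toCotangent_surjective (IsLocalRing.maximalIdeal (A n₀)) (bas i)
  obtain ⟨s, α, hα⟩ := Submodule.fg_iff_exists_fin_generating_family.1 (Module.Finite.fg_top (R := Λ) (M := k))
  choose α₀ hα₀ using fun j => (A n₀).res_surjective (α j)
  -- compatible lifts
  have hext : ∀ a : A n₀, ∃ b : ∀ n, A n, (∀ n, f n (b (n + 1)) = b n) ∧ b n₀ = a :=
    fun a => Agent.AdicRing.exists_compatible (B := fun n => (A n).carrier) n₀ (fun n b => (f n).toAlgHom b) hf a
  choose X hXc hX₀ using fun i => hext (x₀ i).1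
  choose Y hYc hY₀ using fun j => hext (α₀ j)
  let W := Fin s ⊕ Fin e
  let val : ∀ n, W → A n := fun n => Sum.elim (fun j => Y j n) (fun i => X i n)
  have hvalc : ∀ n w, f n (val (n + 1) w) = val n w := fun n w => by
    rcases w with j | i
    · exact hYc j n
    · exact hXc i n
  let π : MvPolynomial W Λ →ₐ[Λ] k := MvPolynomial.aeval (Sum.elim α fun _ => 0)
  have hval : ∀ n w, (A n).res (val n w) = Sum.elim α (fun _ => 0) w := by
    have hres : ∀ (b : ∀ n, A n), (∀ n, f n (b (n + 1)) = b n) → ∀ n, (A n).res (b n) = (A 0).res (b 0) := by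
      intro b hb n
      induction n with
      | zero => rfl
      | succ n ih => rw [← ih, ← hb n, ArtFun.Art.res_app]
    intro n w
    rw [hres (fun n => val n w) (fun n => hvalc n w) n, ← hres (fun n => val n w) (fun n => hvalc n w) n₀]
    rcases w with j | i
    · exact (congrArg (A n₀).res (hY₀ j)).trans (hα₀ j)
    · exact (congrArg (A n₀).res (hX₀ i)).trans ((ArtFun.Art.mem_maximalIdeal_iff _ _).1 (x₀ i).2)
  let q : ∀ n, ArtFun.HomSet (MvPolynomial W Λ) π (A n) := fun n =>
    ⟨MvPolynomial.aeval (val n), MvPolynomial.algHom_ext fun w => by simp [π, hval]⟩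
  have hπ : Function.Surjective π := fun c => by
    have : c ∈ Submodule.span Λ (Set.range α) := hα ▸ Submodule.mem_top
    have hle : Submodule.span Λ (Set.range α) ≤ LinearMap.range π.toLinearMap :=
      Submodule.span_le.2 (by rintro _ ⟨j, rfl⟩; exact ⟨MvPolynomial.X (Sum.inl j), by simp [π]⟩)
    exact hle this
  have hc : ∀ n, ArtFun.HomSet.map (f n) (q (n + 1)) = q n := fun n =>
    Subtype.ext (MvPolynomial.algHom_ext fun w => by simp [q, ArtFun.HomSet.map, hvalc])
  have hdown : ∀ n, n₀ ≤ n → ∃ t : A n ⟶ A n₀, ∀ i, t (X i n) = X i n₀ := by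
    intro n hn
    induction n, hn using Nat.le_induction with
    | base => exact ⟨𝟙 _, fun i => rfl⟩
    | succ n _ ih =>
      obtain ⟨t, ht⟩ := ih
      exact ⟨f n ≫ t, fun i => by rw [Agent.ArtFunLib.comp_apply', hXc, ht]⟩
  have hq : ∀ n, n₀ ≤ n → Function.Surjective (q n).1 := by
    intro n hn
    obtain ⟨t, ht⟩ := hdown n hn
    have hXm : ∀ i, X i n ∈ IsLocalRing.maximalIdeal (A n) := fun i =>
      (ArtFun.Art.mem_maximalIdeal_iff _ _).2 (hval n (Sum.inr i))
    let v : Fin e → IsLocalRing.CotangentSpace (A n) := fun i =>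
      (IsLocalRing.maximalIdeal (A n)).toCotangent ⟨X i n, hXm i⟩
    have hli : LinearIndependent (IsLocalRing.ResidueField (A n)) v := by
      rw [Fintype.linearIndependent_iff]
      intro g hg i
      choose c hc using fun i => IsLocalRing.residue_surjective (g i)
      have h1 : ∑ i, c i * X i n ∈ IsLocalRing.maximalIdeal (A n) ^ 2 := by
        have : (IsLocalRing.maximalIdeal (A n)).toCotangent (∑ i, c i • ⟨X i n, hXm i⟩) = 0 := by
          rw [map_sum, ← hg]
          refine Finset.sum_congr rfl fun i _ => ?_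
          rw [LinearMap.map_smul, ← hc]
          rfl
        rw [Ideal.toCotangent_eq_zero] at this
        simpa using this
      have h2 : ∑ i, t (c i) * (x₀ i).1 ∈ IsLocalRing.maximalIdeal (A n₀) ^ 2 := by
        have := Ideal.mem_map_of_mem t.toAlgHom h1
        rw [Ideal.map_pow] at this
        have := Ideal.pow_right_mono (Agent.ArtFunLib.map_max_le t) 2 this
        simpa [map_sum, map_mul, ht, hX₀] using this
      have h3 : ∑ i, IsLocalRing.residue (A n₀) (t (c i)) • bas i = 0 := by
        have h4 : (IsLocalRing.maximalIdeal (A n₀)).toCotangent (∑ i, t (c i) • x₀ i) = 0 := by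
          rw [Ideal.toCotangent_eq_zero]
          simpa using h2
        rw [map_sum] at h4
        rw [← h4]
        refine Finset.sum_congr rfl fun i _ => ?_
        rw [LinearMap.map_smul, hx₀]
        rfl
      have h5 := Fintype.linearIndependent_iff.1 bas.linearIndependent _ h3 i
      rw [IsLocalRing.residue_eq_zero_iff, ArtFun.Art.mem_maximalIdeal_iff, ArtFun.Art.res_app] at h5
      rw [← hc, IsLocalRing.residue_eq_zero_iff, ArtFun.Art.mem_maximalIdeal_iff, h5]
    have hspan : Submodule.span (IsLocalRing.ResidueField (A n)) (Set.range v) = ⊤ :=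
      hli.span_eq_top_of_card_eq_finrank' (by
        refine le_antisymm ?_ (by simpa [e] using hmax n)
        exact hli.fintype_card_le_finrank)
    have hgen : IsLocalRing.maximalIdeal (A n) ≤
        Ideal.map (q n).1 (RingHom.ker π) ⊔ IsLocalRing.maximalIdeal (A n) ^ 2 := by
      intro a ha
      have : (IsLocalRing.maximalIdeal (A n)).toCotangent ⟨a, ha⟩ ∈
          Submodule.span (IsLocalRing.ResidueField (A n)) (Set.range v) := hspan ▸ Submodule.mem_top
      obtain ⟨g, hg⟩ := (Submodule.mem_span_range_iff_exists_fun _).1 this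
      choose c hc using fun i => IsLocalRing.residue_surjective (g i)
      have h1 : a - ∑ i, c i * X i n ∈ IsLocalRing.maximalIdeal (A n) ^ 2 := by
        have : (IsLocalRing.maximalIdeal (A n)).toCotangent (⟨a, ha⟩ - ∑ i, c i • ⟨X i n, hXm i⟩) = 0 := by
          rw [map_sub, map_sum, ← hg, sub_eq_zero]
          refine Finset.sum_congr rfl fun i _ => ?_
          rw [LinearMap.map_smul, ← hc]
          rfl
        rw [Ideal.toCotangent_eq_zero] at this
        simpa using this
      rw [← sub_add_cancel a (∑ i, c i * X i n)]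
      refine add_mem (Ideal.mem_sup_right h1) (Ideal.mem_sup_left (Ideal.sum_mem _ fun i _ => ?_))
      refine Ideal.mul_mem_left _ _ ?_
      have : X i n = (q n).1 (MvPolynomial.X (Sum.inr i)) := by simp [q, val]
      rw [this]
      exact Ideal.mem_map_of_mem _ (RingHom.mem_ker.2 (by simp [π]))
    obtain ⟨N, hN⟩ := Agent.ArtFunLib.maximalIdeal_nilpotent (A n)
    have hle : Ideal.map (q n).1 (RingHom.ker π) ≤ IsLocalRing.maximalIdeal (A n) :=
      Ideal.map_le_iff_le_comap.2 fun p hp => Agent.Schless.hom_mem_max (q n) hp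
    have hM : IsLocalRing.maximalIdeal (A n) = Ideal.map (q n).1 (RingHom.ker π) := by
      refine le_antisymm (Submodule.le_of_le_smul_of_le_jacobson_bot (I := IsLocalRing.maximalIdeal (A n))
        (IsNoetherian.noetherian _) (IsLocalRing.jacobson_eq_maximalIdeal ⊥ bot_ne_top).ge ?_) hle
      rw [smul_eq_mul, ← pow_two]
      exact hgen
    have step : ∀ (j : ℕ) (a : A n), ∃ p, a - (q n).1 p ∈ IsLocalRing.maximalIdeal (A n) ^ j := by
      intro j
      induction j with
      | zero => exact fun a => ⟨0, by simp⟩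
      | succ j ih =>
        intro a
        obtain ⟨p, hp⟩ := ih a
        suffices ∀ b ∈ IsLocalRing.maximalIdeal (A n) ^ j,
            ∃ p, b - (q n).1 p ∈ IsLocalRing.maximalIdeal (A n) ^ (j + 1) by
          obtain ⟨p', hp'⟩ := this _ hp
          exact ⟨p + p', by rwa [map_add, ← sub_sub]⟩
        intro b hb
        rw [hM, ← Ideal.map_pow, Ideal.map] at hb
        induction hb using Submodule.span_induction with
        | mem y hy =>
          obtain ⟨p, -, rfl⟩ := hy
          exact ⟨p, by rw [sub_self]; exact zero_mem _⟩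
        | zero => exact ⟨0, by simp⟩
        | add y z _ _ hy hz =>
          obtain ⟨p, hp⟩ := hy
          obtain ⟨p', hp'⟩ := hz
          exact ⟨p + p', by rw [map_add, add_sub_add_comm]; exact add_mem hp hp'⟩
        | smul c y hy' hy =>
          obtain ⟨p, hp⟩ := hy
          obtain ⟨p₁, hp₁⟩ := hπ ((A n).res c)
          refine ⟨p₁ * p, ?_⟩
          have hcm : c - (q n).1 p₁ ∈ IsLocalRing.maximalIdeal (A n) := by
            rw [ArtFun.Art.mem_maximalIdeal_iff, map_sub, Agent.Schless.hom_res, hp₁, sub_self]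
          rw [show c • y - (q n).1 (p₁ * p) = (c - (q n).1 p₁) * y + (q n).1 p₁ * (y - (q n).1 p) by
            rw [smul_eq_mul, map_mul]; ring]
          refine add_mem ?_ (Ideal.mul_mem_left _ _ hp)
          rw [pow_succ']
          refine Ideal.mul_mem_mul hcm ?_
          rw [hM, ← Ideal.map_pow, Ideal.map]
          exact hy'
    intro a
    obtain ⟨p, hp⟩ := step N a
    rw [hN, Ideal.mem_bot, sub_eq_zero] at hp
    exact ⟨p, hp.symm⟩
  have hq' : ∀ n, Function.Surjective (q n).1 := by
    intro n
    rcases le_total n₀ n with h | h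
    · exact hq n h
    · obtain ⟨t, ht⟩ : ∃ t : A n₀ ⟶ A n, Function.Surjective t ∧ ArtFun.HomSet.map t (q n₀) = q n := by
        clear hq
        revert h
        generalize n₀ = m
        intro h
        induction m, h using Nat.le_induction with
        | base => exact ⟨𝟙 _, fun a => ⟨a, rfl⟩, Agent.ArtFunLib.HomSet.map_id _⟩
        | succ m _ ih =>
          obtain ⟨t, h1, h2⟩ := ih
          exact ⟨f m ≫ t, h1.comp (hf m), by rw [← Agent.ArtFunLib.HomSet.map_map, hc, h2]⟩
      rw [← ht.2]
      exact ht.1.comp (hq n₀ le_rfl)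
  exact Agent.Schless.exists_cring_of_system π hπ A f q hq' hc

end Groth.Agent.S12739
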