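import Groth.Statements.S12742
import Groth.Agent.ArtFunLib.Torsor
-- import your own Groth.Agent.* helpers here

set_option autoImplicit false
universe u v
open CategoryTheory
open ArtFun

namespace Groth.Agent.S12742

/-- For functors, a morphism f : F → G of deformation functors on Artinian local Λ-algebras with residue
field k (values at k a point, condition (RS) for both) is smooth if and only if (1) it is surjective
on tangent spaces and (2) for every small extension A' → A and every x ∈ F(A) whose image in G(A)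
lifts to G(A'), x lifts to F(A'). -/
theorem result {Λ : Type u} {k : Type u} [CommRing Λ] [Field k] [Algebra Λ k]
    [IsNoetherianRing Λ] [Module.Finite Λ k]
    {F G : ArtFun.Art Λ k ⥤ Type v}
    (hF0 : ArtFun.H0 F) (hF : (∀ ⦃B A A' A'' : ArtFun.Art Λ k⦄ (p' : B ⟶ A') (p'' : B ⟶ A'') (f' : A' ⟶ A) (f'' : A'' ⟶ A)
        (h : ArtFun.Art.IsFibreProd p' p'' f' f''), Function.Surjective f'' → Function.Bijective (ArtFun.cmp F h)))
    (hG0 : ArtFun.H0 G) (hG : (∀ ⦃B A A' A'' : ArtFun.Art Λ k⦄ (p' : B ⟶ A') (p'' : B ⟶ A'') (f' : A' ⟶ A) (f'' : A'' ⟶ A)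
        (h : ArtFun.Art.IsFibreProd p' p'' f' f''), Function.Surjective f'' → Function.Bijective (ArtFun.cmp G h)))
    (f : F ⟶ G) :
    ArtFun.IsSmooth f ↔
      (Function.Surjective (ArtFun.TangentSpace.map f) ∧
        ∀ ⦃A' A : ArtFun.Art Λ k⦄ (μ : A' ⟶ A), ArtFun.Art.IsSmallExt μ → ∀ x : F.obj A,
          (∃ y' : G.obj A', G.map μ y' = f.app A x) → ∃ x' : F.obj A', F.map μ x' = x) := by
  have weak : ∀ {F : ArtFun.Art Λ k ⥤ Type v}, (∀ ⦃B A A' A'' : ArtFun.Art Λ k⦄ (p' : B ⟶ A') (p'' : B ⟶ A'') (f' : A' ⟶ A) (f'' : A'' ⟶ A)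
        (h : ArtFun.Art.IsFibreProd p' p'' f' f''), Function.Surjective f'' → Function.Bijective (ArtFun.cmp F h)) →
      ArtFun.Hbar F ∧ ArtFun.Heps F ∧ ArtFun.HSq F := fun h =>
    ⟨fun _ _ _ _ _ _ _ _ hh hs => (h _ _ _ _ hh hs.1).2,
      fun _ _ _ _ hh => h _ _ _ _ hh (ArtFun.Art.dual Λ k).res_surjective,
      fun _ _ _ _ _ _ hh hs => h _ _ _ _ hh hs.1⟩
  obtain ⟨hF1, hF2, hF4⟩ := weak hF
  obtain ⟨hG1, hG2, hG4⟩ := weak hG
  constructor
  · intro hs
    refine ⟨fun θ => ?_, fun A' A μ hμ x ⟨y, hy⟩ => ?_⟩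
    · obtain ⟨z, -, hz⟩ := ArtFunLib.relCmp_surjective_iff.1
        (hs (ArtFun.Art.toBase (ArtFun.Art.dual Λ k)) (ArtFun.Art.dual Λ k).res_surjective)
        hF0.1.some θ (@Subsingleton.elim _ hG0.2 _ _)
      exact ⟨z, hz⟩
    · obtain ⟨z, hz, -⟩ := ArtFunLib.relCmp_surjective_iff.1 (hs μ hμ.1) x y hy.symm
      exact ⟨z, hz⟩
  · rintro ⟨hd, hl⟩
    refine ArtFunLib.isSmooth_of_small fun B A μ hμ => ArtFunLib.relCmp_surjective_iff.2 fun x y e => ?_
    obtain ⟨z, rfl⟩ := hl μ hμ x ⟨y, e.symm⟩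
    exact ArtFunLib.exists_lift_of_surjective hF0 hF2 hG1 hG2 f hd hμ z y e

end Groth.Agent.S12742
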