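import Groth.Statements.S12743
import Groth.Agent.ArtFunLib.Tangent
-- import your own Groth.Agent.* helpers here

set_option autoImplicit false
universe u v
open CategoryTheory
open ArtFun

namespace Groth.Agent.S12743

/-- For functors, let φ : F → G and ψ : G → H be morphisms of functors on Artinian local Λ-algebras with
residue field k, with F and G deformation functors (values at k a point, condition (RS)). If φ is
surjective on tangent spaces and the composite F → H is smooth, then φ is smooth. -/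
theorem result {Λ : Type u} {k : Type u} [CommRing Λ] [Field k] [Algebra Λ k]
    [IsNoetherianRing Λ] [Module.Finite Λ k]
    {F G H : ArtFun.Art Λ k ⥤ Type v}
    (hF0 : ArtFun.H0 F) (hF : (∀ ⦃B A A' A'' : ArtFun.Art Λ k⦄ (p' : B ⟶ A') (p'' : B ⟶ A'') (f' : A' ⟶ A) (f'' : A'' ⟶ A)
        (h : ArtFun.Art.IsFibreProd p' p'' f' f''), Function.Surjective f'' → Function.Bijective (ArtFun.cmp F h)))
    (hG0 : ArtFun.H0 G) (hG : (∀ ⦃B A A' A'' : ArtFun.Art Λ k⦄ (p' : B ⟶ A') (p'' : B ⟶ A'') (f' : A' ⟶ A) (f'' : A'' ⟶ A)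
        (h : ArtFun.Art.IsFibreProd p' p'' f' f''), Function.Surjective f'' → Function.Bijective (ArtFun.cmp G h)))
    (φ : F ⟶ G) (ψ : G ⟶ H) (hd : Function.Surjective (ArtFun.TangentSpace.map φ))
    (hs : ArtFun.IsSmooth (φ ≫ ψ)) : ArtFun.IsSmooth φ := by
  refine ArtFunLib.isSmooth_of_small fun B A μ hμ => ArtFunLib.relCmp_surjective_iff.2 fun x y e => ?_
  obtain ⟨z, hz, hz'⟩ := ArtFunLib.relCmp_surjective_iff.1 (hs μ hμ.1) x (ψ.app B y)
    (by rw [← ArtFunLib.nat_app, ← e]; rfl)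
  obtain ⟨t, ht⟩ := hμ.2.2.1
  obtain ⟨P, p₁, p₂, hP⟩ := ArtFunLib.exists_fibreProd μ μ hμ.1
  obtain ⟨g, -, hg⟩ := ArtFunLib.exists_diff hμ ht hP
  obtain ⟨w, hw, hw'⟩ := (ArtFunLib.cmp_surjective_iff hP).1 (hG _ _ _ _ hP hμ.1).2 (φ.app B z) y
    (by rw [← ArtFunLib.nat_app, hz, e])
  obtain ⟨θ, hθ⟩ := hd (G.map g w)
  obtain ⟨w', hw1, hw2⟩ := (ArtFunLib.cmp_surjective_iff hg).1
    (hF _ _ _ _ hg (ArtFun.Art.dual Λ k).res_surjective).2 z θ (ArtFunLib.base_eq hF0 _ _)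
  have key : φ.app P w' = w :=
    (ArtFunLib.cmp_injective_iff hg).1 (hG _ _ _ _ hg (ArtFun.Art.dual Λ k).res_surjective).1 _ _
      (by rw [← ArtFunLib.nat_app, hw1, hw]) (by rw [← ArtFunLib.nat_app, hw2]; exact hθ)
  refine ⟨F.map p₂ w', ?_, ?_⟩
  · rw [ArtFunLib.map_map, ← hP.w, ← ArtFunLib.map_map, hw1, hz]
  · rw [ArtFunLib.nat_app, key, hw']

end Groth.Agent.S12743
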