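import Groth.Statements.S12744
import Groth.Agent.ArtFunLib.Formal
-- import your own Groth.Agent.* helpers here

set_option autoImplicit false
universe u v
open CategoryTheory
open ArtFun

namespace Groth.Agent.S12744

/-- For functors, if η : F → G is a smooth morphism of functors on Artinian local Λ-algebras with
residue field k and F(k) → G(k) is surjective, then for every complete local Noetherian R with
residue field k the induced map on formal elements over R (compatible systems of elements over the
truncations R/m^(n+1)) is surjective. -/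
theorem result {Λ : Type u} {k : Type u} [CommRing Λ] [Field k] [Algebra Λ k]
    [IsNoetherianRing Λ] [Module.Finite Λ k]
    {F G : ArtFun.Art Λ k ⥤ Type v} (η : F ⟶ G) (hη : ArtFun.IsSmooth η)
    (h0 : Function.Surjective (η.app (ArtFun.Art.base Λ k))) (R : ArtFun.CRing Λ k) :
    Function.Surjective (fun u : ArtFun.FormalElt F R => u.map η) := by
  intro v
  have := ArtFunLib.isIso_of_bijective _ (ArtFunLib.bijective_trunc_zero R)
  obtain ⟨b, hb⟩ := h0 (G.map (ArtFun.Art.toBase _) (v.elt 0))
  have e0 : η.app _ (F.map (inv (ArtFun.Art.toBase (R.trunc 0))) b) = v.elt 0 := by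
    rw [ArtFunLib.nat_app, hb, ArtFunLib.map_inv_map]
  let T := fun n => {x : F.obj (R.trunc n) // η.app _ x = v.elt n}
  have hstep : ∀ n (x : T n), ∃ y : T (n + 1), F.map (R.truncMap n) y.1 = x.1 := fun n x => by
    obtain ⟨y, h₁, h₂⟩ := ArtFunLib.relCmp_surjective_iff.1
      (hη (R.truncMap n) (ArtFunLib.truncMap_surjective R n)) x.1 (v.elt (n + 1)) (by rw [x.2, v.compat])
    exact ⟨⟨y, h₂⟩, h₁⟩
  choose next hnext using hstep
  let seq : ∀ n, T n := fun n => Nat.rec ⟨_, e0⟩ next n
  exact ⟨⟨fun n => (seq n).1, fun n => hnext n (seq n)⟩, ArtFun.FormalElt.ext' fun n => (seq n).2⟩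

end Groth.Agent.S12744
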