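import Groth.Statements.S12747
import Groth.Agent.ArtFunLib.Torsor
-- import your own Groth.Agent.* helpers here

set_option autoImplicit false
universe u v
open CategoryTheory
open ArtFun

namespace Groth.Agent.S12747

/-- For functors, let H₁ → G, H₂ → G and q : G → F be morphisms of functors on Artinian local Λ-algebras
with residue field k where F and G are deformation functors (value at k a point, condition (RS)) and
q is injective on tangent spaces. Then the induced morphism H₁ ×_G H₂ → H₁ ×_F H₂ is smooth. (The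
published statement also assumes that infinitesimal automorphisms of G map onto those of F; for
functors that condition is empty.) -/
theorem result {Λ : Type u} {k : Type u} [CommRing Λ] [Field k] [Algebra Λ k]
    [IsNoetherianRing Λ] [Module.Finite Λ k]
    {F G H₁ H₂ : ArtFun.Art Λ k ⥤ Type v} (p₁ : H₁ ⟶ G) (p₂ : H₂ ⟶ G) (q : G ⟶ F)
    (hF0 : ArtFun.H0 F) (hF : (∀ ⦃B A A' A'' : ArtFun.Art Λ k⦄ (p' : B ⟶ A') (p'' : B ⟶ A'') (f' : A' ⟶ A) (f'' : A'' ⟶ A)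
        (h : ArtFun.Art.IsFibreProd p' p'' f' f''), Function.Surjective f'' → Function.Bijective (ArtFun.cmp F h)))
    (hG0 : ArtFun.H0 G) (hG : (∀ ⦃B A A' A'' : ArtFun.Art Λ k⦄ (p' : B ⟶ A') (p'' : B ⟶ A'') (f' : A' ⟶ A) (f'' : A'' ⟶ A)
        (h : ArtFun.Art.IsFibreProd p' p'' f' f''), Function.Surjective f'' → Function.Bijective (ArtFun.cmp G h)))
    (hq : Function.Injective (ArtFun.TangentSpace.map q)) :
    ArtFun.IsSmooth (CategoryTheory.Limits.pullback.map p₁ p₂ (p₁ ≫ q) (p₂ ≫ q) (𝟙 H₁) (𝟙 H₂) q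
      (CategoryTheory.Category.id_comp _).symm (CategoryTheory.Category.id_comp _).symm) := by
  have weak : ∀ {F : ArtFun.Art Λ k ⥤ Type v}, (∀ ⦃B A A' A'' : ArtFun.Art Λ k⦄ (p' : B ⟶ A') (p'' : B ⟶ A'') (f' : A' ⟶ A) (f'' : A'' ⟶ A)
        (h : ArtFun.Art.IsFibreProd p' p'' f' f''), Function.Surjective f'' → Function.Bijective (ArtFun.cmp F h)) →
      ArtFun.Hbar F ∧ ArtFun.Heps F ∧ ArtFun.HSq F := fun h =>
    ⟨fun _ _ _ _ _ _ _ _ hh hs => (h _ _ _ _ hh hs.1).2,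
      fun _ _ _ _ hh => h _ _ _ _ hh (ArtFun.Art.dual Λ k).res_surjective,
      fun _ _ _ _ _ _ hh hs => h _ _ _ _ hh hs.1⟩
  obtain ⟨hF1, hF2, hF4⟩ := weak hF
  obtain ⟨hG1, hG2, hG4⟩ := weak hG
  have hfst : ∀ (A : ArtFun.Art Λ k) (z : (Limits.pullback p₁ p₂).obj A),
      (Limits.pullback.fst (p₁ ≫ q) (p₂ ≫ q)).app A
        ((Limits.pullback.map p₁ p₂ (p₁ ≫ q) (p₂ ≫ q) (𝟙 H₁) (𝟙 H₂) q (Category.id_comp _).symm
          (Category.id_comp _).symm).app A z) = (Limits.pullback.fst p₁ p₂).app A z := fun A z => by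
    have e : Limits.pullback.map p₁ p₂ (p₁ ≫ q) (p₂ ≫ q) (𝟙 H₁) (𝟙 H₂) q (Category.id_comp _).symm
        (Category.id_comp _).symm ≫ Limits.pullback.fst (p₁ ≫ q) (p₂ ≫ q) = Limits.pullback.fst p₁ p₂ :=
      (Limits.pullback.lift_fst _ _ _).trans (Category.comp_id _)
    exact congrArg (fun h => h.app A z) e
  have hsnd : ∀ (A : ArtFun.Art Λ k) (z : (Limits.pullback p₁ p₂).obj A),
      (Limits.pullback.snd (p₁ ≫ q) (p₂ ≫ q)).app A
        ((Limits.pullback.map p₁ p₂ (p₁ ≫ q) (p₂ ≫ q) (𝟙 H₁) (𝟙 H₂) q (Category.id_comp _).symm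
          (Category.id_comp _).symm).app A z) = (Limits.pullback.snd p₁ p₂).app A z := fun A z => by
    have e : Limits.pullback.map p₁ p₂ (p₁ ≫ q) (p₂ ≫ q) (𝟙 H₁) (𝟙 H₂) q (Category.id_comp _).symm
        (Category.id_comp _).symm ≫ Limits.pullback.snd (p₁ ≫ q) (p₂ ≫ q) = Limits.pullback.snd p₁ p₂ :=
      (Limits.pullback.lift_snd _ _ _).trans (Category.comp_id _)
    exact congrArg (fun h => h.app A z) e
  refine ArtFunLib.isSmooth_of_small fun B A μ hμ => ArtFunLib.relCmp_surjective_iff.2 fun x y e => ?_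
  have e1 := congrArg ((Limits.pullback.fst (p₁ ≫ q) (p₂ ≫ q)).app A) e
  have e2 := congrArg ((Limits.pullback.snd (p₁ ≫ q) (p₂ ≫ q)).app A) e
  rw [hfst, ArtFunLib.nat_app] at e1
  rw [hsnd, ArtFunLib.nat_app] at e2
  have key : p₁.app B ((Limits.pullback.fst (p₁ ≫ q) (p₂ ≫ q)).app B y) =
      p₂.app B ((Limits.pullback.snd (p₁ ≫ q) (p₂ ≫ q)).app B y) := by
    refine ArtFunLib.eq_of_lift_of_injective hG0 hG1 hG2 hF4 hF2 q hq hμ ?_
      (by simpa using ArtFunLib.pb_condition (p₁ ≫ q) (p₂ ≫ q) y)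
    rw [← ArtFunLib.nat_app H₁ p₁, ← ArtFunLib.nat_app H₂ p₂, ← e1, ← e2, ArtFunLib.pb_condition]
  obtain ⟨z, hz, hz'⟩ := ArtFunLib.pb_exists p₁ p₂ _ _ key
  refine ⟨z, ArtFunLib.pb_ext p₁ p₂ ?_ ?_, ArtFunLib.pb_ext _ _ (by rw [hfst, hz]) (by rw [hsnd, hz'])⟩
  · rw [ArtFunLib.nat_app, hz, e1]
  · rw [ArtFunLib.nat_app, hz', e2]

end Groth.Agent.S12747
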