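import Groth.Statements.S12748
import Groth.Agent.ArtFunLib.PowerSeriesVersal
-- import your own Groth.Agent.* helpers here

set_option autoImplicit false
universe u v
open CategoryTheory
open ArtFun ArtFun.CRing

namespace Groth.Agent.S12748

open Groth.Agent.ArtFunLib IsLocalRing in
theorem aux {Λ : Type u} {k : Type u} [CommRing Λ] [Field k] [Algebra Λ k]
    (R' R : ArtFun.CRing Λ k) [Algebra R'.carrier R.carrier] [IsScalarTower Λ R'.carrier R.carrier]
    (hc : R.res.comp (IsScalarTower.toAlgHom Λ R'.carrier R.carrier) = R'.res)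
    (ρ : R.carrier →ₐ[R'.carrier] R'.carrier)
    (r : ℕ) (x : Fin r → R.carrier) (hxI : ∀ i, ρ (x i) = 0)
    (hspan : Ideal.span (Set.range x) ⊔ maximalIdeal R.carrier * RingHom.ker ρ = RingHom.ker ρ)
    (φ : MvPowerSeries (Fin r) R'.carrier →ₐ[R'.carrier] R.carrier) (hφ : ∀ i, φ (MvPowerSeries.X i) = x i)
    (hinv : ∃ N : ℕ, ∀ n, N ≤ n →
      ∃ g : R.carrier →ₐ[Λ] (MvPowerSeries (Fin r) R'.carrier ⧸
          maximalIdeal (MvPowerSeries (Fin r) R'.carrier) ^ n),
        ∀ s, g (φ s) = Ideal.Quotient.mk _ s) :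
    Function.Bijective φ := by
  have hker : RingHom.ker ρ ≤ maximalIdeal R.carrier := fun y hy => by
    rw [mem_maximalIdeal, mem_nonunits_iff]
    intro hu
    exact not_isUnit_zero ((RingHom.mem_ker.1 hy) ▸ hu.map ρ)
  let φ' : (psRing R' r).carrier →ₐ[Λ] R.carrier :=
    { toRingHom := φ.toRingHom
      commutes' := fun l =>
        (congrArg φ ((psC R' r).commutes l).symm).trans
          ((φ.commutes (algebraMap Λ R'.carrier l)).trans
            (IsScalarTower.algebraMap_apply Λ R'.carrier R.carrier l).symm) }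
  have hφ' : R.res.comp φ' = (psRing R' r).res := AlgHom.ext fun f₀ => by
    obtain ⟨f, rfl⟩ : ∃ f : MvPowerSeries (Fin r) R'.carrier, f = f₀ := ⟨f₀, rfl⟩
    obtain ⟨g, -, hfg⟩ := CAlgH.exists_eq_C_add_sum_X_mul f
    show R.res (φ f) = R'.res (MvPowerSeries.constantCoeff f)
    conv_lhs => rw [hfg]
    rw [map_add, map_add, map_sum, map_sum, Finset.sum_eq_zero fun i _ => ?_, add_zero]
    · exact (congrArg R.res (φ.commutes _)).trans (AlgHom.congr_fun hc _)
    · rw [map_mul, map_mul, hφ, (ArtFun.CRing.mem_maximalIdeal_iff R _).1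
        (hker (RingHom.mem_ker.2 (hxI i))), zero_mul]
  refine ⟨(injective_iff_map_eq_zero φ).2 fun s hs => ?_, ?_⟩
  · have := R'.isAdicComplete
    have hH : IsHausdorff (maximalIdeal (MvPowerSeries (Fin r) R'.carrier)) (MvPowerSeries (Fin r) R'.carrier) :=
      (CAlgH.isAdicComplete_maximalIdeal_mvPowerSeries).toIsHausdorff
    obtain ⟨N, hN⟩ := hinv
    refine hH.haus s fun n => ?_
    obtain ⟨g, hg⟩ := hN (N + n) (Nat.le_add_right N n)
    have h1 := hg s
    rw [hs, map_zero] at h1
    rw [SModEq.zero, smul_eq_mul, Ideal.mul_top]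
    exact Ideal.pow_le_pow_right (Nat.le_add_left n N) (Ideal.Quotient.eq_zero_iff_mem.1 h1.symm)
  · have := (psRing R' r).isAdicComplete
    have := R.isAdicComplete
    refine surjective_of_cotangent φ' (psRing R' r).res_surjective R.res_surjective hφ' ?_
    refine le_antisymm (sup_le (map_le_max φ' (psRing R' r).res_surjective R.res_surjective hφ')
      (Ideal.pow_le_self two_ne_zero)) fun y hy => ?_
    have hρy : y - algebraMap R'.carrier R.carrier (ρ y) ∈ RingHom.ker ρ := by
      rw [RingHom.mem_ker, map_sub, AlgHom.commutes]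
      exact sub_self _
    have h2 : R'.res (ρ y) = 0 := by
      have h3 : algebraMap R'.carrier R.carrier (ρ y) ∈ maximalIdeal R.carrier := by
        have := sub_mem hy (hker hρy)
        rwa [sub_sub_cancel] at this
      exact (AlgHom.congr_fun hc (ρ y)).symm.trans ((ArtFun.CRing.mem_maximalIdeal_iff R _).1 h3)
    rw [← sub_add_cancel y (algebraMap R'.carrier R.carrier (ρ y))]
    refine add_mem ((hspan.symm.le.trans (sup_le (le_sup_of_le_left (Ideal.span_le.2 ?_)) ?_)) hρy)
      (Ideal.mem_sup_left (φ.commutes (ρ y) ▸ Ideal.mem_map_of_mem _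
        ((ArtFun.CRing.mem_maximalIdeal_iff (psRing R' r) _).2
          ((AlgHom.congr_fun (res_comp_psC R' r) (ρ y)).trans h2))))
    · rintro _ ⟨i, rfl⟩
      exact hφ i ▸ Ideal.mem_map_of_mem _ (X_mem_max_ps R' r i)
    · exact le_sup_of_le_right ((Ideal.mul_mono_right hker).trans (pow_two (maximalIdeal R.carrier)).ge)

/-- Let R' → R be a morphism of complete local Noetherian Λ-algebras with residue field k with an
R'-algebra retraction ρ : R → R', so that R = R' ⊕ I for the ideal I = ker ρ; let x₁, …, x_r ∈ I map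
to a basis of I/m_R I and let φ : R'[[X₁, …, X_r]] → R be an R'-algebra map sending X_i to x_i. If
for all large n the induced map R'[[X]]/m^n → R/m_R^n has a left inverse — a Λ-algebra map g_n : R →
R'[[X]]/m^n with g_n ∘ φ equal to the quotient map — then φ is an isomorphism. -/
theorem result {Λ : Type u} {k : Type u} [CommRing Λ] [Field k] [Algebra Λ k]
    [IsNoetherianRing Λ] [Module.Finite Λ k]
    (R' R : ArtFun.CRing Λ k) [Algebra R'.carrier R.carrier] [IsScalarTower Λ R'.carrier R.carrier]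
    (hc : R.res.comp (IsScalarTower.toAlgHom Λ R'.carrier R.carrier) = R'.res)
    (ρ : R.carrier →ₐ[R'.carrier] R'.carrier)
    (r : ℕ) (x : Fin r → R.carrier) (hxI : ∀ i, ρ (x i) = 0)
    (hspan : Ideal.span (Set.range x) ⊔ IsLocalRing.maximalIdeal R.carrier * RingHom.ker ρ = RingHom.ker ρ)
    (hli : ∀ c : Fin r → R.carrier, (∑ i, c i * x i) ∈ IsLocalRing.maximalIdeal R.carrier * RingHom.ker ρ →
      ∀ i, c i ∈ IsLocalRing.maximalIdeal R.carrier)
    (φ : MvPowerSeries (Fin r) R'.carrier →ₐ[R'.carrier] R.carrier) (hφ : ∀ i, φ (MvPowerSeries.X i) = x i)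
    (hinv : ∃ N : ℕ, ∀ n, N ≤ n →
      ∃ g : R.carrier →ₐ[Λ] (MvPowerSeries (Fin r) R'.carrier ⧸
          IsLocalRing.maximalIdeal (MvPowerSeries (Fin r) R'.carrier) ^ n),
        ∀ s, g (φ s) = Ideal.Quotient.mk _ s) :
    Function.Bijective φ := by
  exact aux R' R hc ρ r x hxI hspan φ hφ hinv

end Groth.Agent.S12748
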