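import Groth.Statements.S1275
import Groth.Agent.FlatMorAdm.Strict

set_option autoImplicit false
universe u
open FlatMor
set_option backward.isDefEq.respectTransparency.types false

namespace Groth.Agent.S1275

open AlgebraicGeometry CategoryTheory Limits in
/-- Let S be a quasi-compact quasi-separated scheme, U ⊆ W ⊆ S quasi-compact opens, f : X → W a proper
morphism and s : U → X a morphism with f ∘ s the inclusion of U in W. Then there are a U-admissible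
blow-up b : S' → S and a morphism s' : b⁻¹(W) → X with f ∘ s' equal to the restriction of b,
extending s in the sense that on b⁻¹(U) it agrees with s composed with the restriction of b. -/
theorem result {X S : Scheme.{u}} [CompactSpace S] [QuasiSeparatedSpace S]
    (U W : S.Opens) (hUW : U ≤ W) (hU : IsCompact (U : Set S)) (hW : IsCompact (W : Set S))
    (f : X ⟶ (W : Scheme.{u})) [IsProper f] (s : (U : Scheme.{u}) ⟶ X) (hs : s ≫ f = S.homOfLE hUW) :
    ∃ (𝓘 : S.IdealSheafData) (S' : Scheme.{u}) (b : S' ⟶ S), BlowUp.IsBlowUp b 𝓘 ∧ BlowUp.IsAdmissibleFor U 𝓘 ∧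
      ∃ s' : ((b ⁻¹ᵁ W : S'.Opens) : Scheme.{u}) ⟶ X, s' ≫ f = b ∣_ W ∧
        S'.homOfLE (show b ⁻¹ᵁ U ≤ b ⁻¹ᵁ W from fun _ hx => hUW hx) ≫ s' = (b ∣_ U) ≫ s := by
  haveI : CompactSpace (W : Scheme.{u}) := isCompact_iff_compactSpace.1 hW
  haveI : CompactSpace (U : Scheme.{u}) := isCompact_iff_compactSpace.1 hU
  haveI : QuasiCompact W.ι := quasiCompact_of_compactSpace _
  have hσ : s ≫ f ≫ W.ι = U.ι := by rw [reassoc_of% hs, Scheme.homOfLE_ι]
  obtain ⟨K, S', b, hb, hadm, hint, hmain⟩ :=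
    FlatMorAdm.exists_blowUp_isOpenImmersion (f ≫ W.ι) U hU s hσ
  -- the pullback of `f` over the preimage of `W`
  let Q := IsPullback.of_hasPullback f (b ∣_ W)
  have H : IsPullback (pullback.fst f (b ∣_ W)) (pullback.snd f (b ∣_ W) ≫ (b ⁻¹ᵁ W).ι)
      (f ≫ W.ι) b := Q.paste_vert (isPullback_morphismRestrict b W)
  obtain ⟨σ', hσq, h₁, h₂, hopen⟩ := hmain _ _ _ H
  set π₂ := σ'.imageι ≫ pullback.snd f (b ∣_ W) with hπ₂
  haveI hπ : IsOpenImmersion (π₂ ≫ (b ⁻¹ᵁ W).ι) := by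
    rw [hπ₂, Category.assoc]; exact hopen
  haveI : IsOpenImmersion π₂ := IsOpenImmersion.of_comp π₂ (b ⁻¹ᵁ W).ι
  have hle : b ⁻¹ᵁ U ≤ b ⁻¹ᵁ W := fun _ hx => hUW hx
  have htop : σ'.toImage ≫ π₂ = S'.homOfLE hle := by
    rw [← cancel_mono (b ⁻¹ᵁ W).ι, Scheme.homOfLE_ι, Category.assoc, hπ₂, Category.assoc,
      Scheme.Hom.toImage_imageι_assoc]
    exact h₂
  haveI : IsIso π₂ := by
    refine FlatMorAdm.surjective_of_dense _ _ ((b ⁻¹ᵁ W).ι ⁻¹' ((b ⁻¹ᵁ U : S'.Opens) : Set S')) ?_ ?_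
    · exact (FlatMorAdm.dense_of_isDenseOpen (hint ▸ ModPairLib.isDenseOpen_interior hb.1)).preimage
        (b ⁻¹ᵁ W).ι.isOpenEmbedding.isOpenMap
    · intro x hx
      refine ⟨σ'.toImage ⟨x.1, hx⟩, ?_⟩
      show (σ'.toImage ≫ π₂) ⟨x.1, hx⟩ = x
      rw [htop]
      apply (b ⁻¹ᵁ W).ι.injective
      rw [← Scheme.Hom.comp_apply, Scheme.homOfLE_ι]
      rfl
  refine ⟨K, S', b, hb, hadm, inv π₂ ≫ σ'.imageι ≫ pullback.fst f (b ∣_ W), ?_, ?_⟩
  · rw [Category.assoc, Category.assoc, pullback.condition, ← Category.assoc σ'.imageι, ← hπ₂,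
      IsIso.inv_hom_id_assoc]
  · rw [← htop, Category.assoc, IsIso.hom_inv_id_assoc, Scheme.Hom.toImage_imageι_assoc, h₁]

end Groth.Agent.S1275
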