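import Groth.Statements.S12750
import Groth.Agent.ArtFunLib.Essential
-- import your own Groth.Agent.* helpers here

set_option autoImplicit false
universe u v
open CategoryTheory
open ArtFun ArtFun.Art

namespace Groth.Agent.S12750

/-- (1) ⇔ (3): let f : B → A be a morphism in the category of Artinian local Λ-algebras with residue
field k, and let q_B : B → B', q_A : A → A' be the quotients by m_Λ B + m_B² and m_Λ A + m_A² (m_Λ
the kernel of Λ → k), realised as surjective morphisms with these kernels, with f' : B' → A' the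
induced morphism. Then f is an essential surjection — surjective, and every morphism g into B whose
composite with f is surjective is itself surjective — if and only if f' is. (The intermediate
equivalence with the map B/m_B² → A/m_A² is the special case Λ-structure trivialised and follows by
applying this one twice.) -/
theorem result {Λ : Type u} {k : Type u} [CommRing Λ] [Field k] [Algebra Λ k]
    [IsNoetherianRing Λ] [Module.Finite Λ k]
    {A B A' B' : ArtFun.Art Λ k} (f : B ⟶ A)
    (qB : B ⟶ B') (hqB : Function.Surjective qB)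
    (hkB : RingHom.ker qB.toAlgHom = Ideal.map (algebraMap Λ B) (RingHom.ker (algebraMap Λ k)) ⊔ IsLocalRing.maximalIdeal B ^ 2)
    (qA : A ⟶ A') (hqA : Function.Surjective qA)
    (hkA : RingHom.ker qA.toAlgHom = Ideal.map (algebraMap Λ A) (RingHom.ker (algebraMap Λ k)) ⊔ IsLocalRing.maximalIdeal A ^ 2)
    (f' : B' ⟶ A') (hf' : qB ≫ f' = f ≫ qA) :
    (Function.Surjective f ∧ ∀ (C : ArtFun.Art Λ k) (g : C ⟶ B), Function.Surjective (g ≫ f) → Function.Surjective g) ↔ (Function.Surjective f' ∧ ∀ (C : ArtFun.Art Λ k) (g : C ⟶ B'), Function.Surjective (g ≫ f') → Function.Surjective g) := by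
  have hB : RingHom.ker qB.toAlgHom ≤ Groth.Agent.ArtFunLib.relSq B := hkB.le
  have hA : RingHom.ker qA.toAlgHom ≤ Groth.Agent.ArtFunLib.relSq A := hkA.le
  constructor
  · rintro ⟨hf, he⟩
    refine ⟨fun a => ?_, fun C g hg => ?_⟩
    · obtain ⟨x, rfl⟩ := hqA a
      obtain ⟨b, rfl⟩ := hf x
      exact ⟨qB b, congrArg (fun h : B ⟶ A' => h b) hf'⟩
    · obtain ⟨D, p', p'', hD⟩ := Groth.Agent.ArtFunLib.exists_fibreProd g qB hqB
      have hp' := Groth.Agent.ArtFunLib.IsFibreProd.surjective_fst hD hqB
      have h1 : Function.Surjective ((p'' ≫ f) ≫ qA) := fun a => by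
        obtain ⟨c, rfl⟩ := hg a
        obtain ⟨d, rfl⟩ := hp' c
        refine ⟨d, ?_⟩
        rw [CategoryTheory.Category.assoc, ← hf', ← CategoryTheory.Category.assoc, ← hD.w]
        rfl
      have h2 := he D p'' (Groth.Agent.ArtFunLib.surjective_of_ker_le_relSq _ qA hA h1)
      intro b'
      obtain ⟨b, rfl⟩ := hqB b'
      obtain ⟨d, rfl⟩ := h2 b
      exact ⟨p' d, congrArg (fun h : D ⟶ B' => h d) hD.w⟩
  · rintro ⟨hs, he⟩
    refine ⟨Groth.Agent.ArtFunLib.surjective_of_ker_le_relSq f qA hA ?_, fun C g hg => ?_⟩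
    · intro a
      obtain ⟨b', rfl⟩ := hs a
      obtain ⟨b, rfl⟩ := hqB b'
      exact ⟨b, (congrArg (fun h : B ⟶ A' => h b) hf').symm⟩
    · refine Groth.Agent.ArtFunLib.surjective_of_ker_le_relSq g qB hB (he C (g ≫ qB) ?_)
      intro a
      obtain ⟨x, rfl⟩ := hqA a
      obtain ⟨c, rfl⟩ := hg x
      exact ⟨c, congrArg (fun h : B ⟶ A' => h (g c)) hf'⟩

end Groth.Agent.S12750
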