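import Groth.Statements.S12751
import Groth.Agent.ArtFunLib.Essential
-- import your own Groth.Agent.* helpers here

set_option autoImplicit false
universe u v
open CategoryTheory
open scoped TensorProduct
open ArtFun ArtFun.Art

namespace Groth.Agent.S12751

/-- A morphism f : B → A in the category of Artinian local Λ-algebras with residue field k is surjective
if and only if Ω_{B/Λ} ⊗_B k → Ω_{A/Λ} ⊗_A k is surjective; by right exactness of the sequence
Ω_{B/Λ} ⊗_B A → Ω_{A/Λ} → Ω_{A/B} → 0 this surjectivity is the vanishing of Ω_{A/B} ⊗_A k, which is
how it is written here (A a B-algebra through f, k an A-module through the augmentation). -/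
theorem result {Λ : Type u} {k : Type u} [CommRing Λ] [Field k] [Algebra Λ k]
    [IsNoetherianRing Λ] [Module.Finite Λ k]
    {A B : ArtFun.Art Λ k} (f : B ⟶ A) :
    letI : Algebra B A := f.toAlgHom.toRingHom.toAlgebra
    letI : Algebra A k := A.res.toRingHom.toAlgebra
    Function.Surjective f ↔ Subsingleton (k ⊗[A] Ω[A⁄B]) := by
  letI : Algebra B A := f.toAlgHom.toRingHom.toAlgebra
  letI : Algebra A k := A.res.toRingHom.toAlgebra
  haveI : IsScalarTower Λ A k := IsScalarTower.of_algebraMap_eq fun l => (A.res.commutes l).symm
  haveI : IsScalarTower Λ B A := IsScalarTower.of_algebraMap_eq fun l => (f.toAlgHom.commutes l).symm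
  show Function.Surjective f ↔ Subsingleton (k ⊗[A] Ω[A⁄B])
  constructor
  · intro hf
    haveI := KaehlerDifferential.subsingleton_of_surjective B A hf
    infer_instance
  · intro h
    by_contra hf
    obtain ⟨D, hD, hDf⟩ := Groth.Agent.ArtFunLib.exists_derivation_of_not_surjective f rfl hf
    letI : Algebra B k := B.res.toRingHom.toAlgebra
    haveI : IsScalarTower B A k := IsScalarTower.of_algebraMap_eq fun b => (ArtFun.Art.res_app f b).symm
    let D' : Derivation B A k :=
      Derivation.mk' { toFun := D
                       map_add' := D.map_add
                       map_smul' := fun b a => by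
                         rw [Algebra.smul_def, Derivation.leibniz, RingHom.id_apply,
                           show D (algebraMap B A b) = 0 from hDf b, smul_zero, add_zero,
                           algebraMap_smul] }
        (fun a b => D.leibniz a b)
    refine hD (Derivation.ext fun a => ?_)
    have h1 : D'.liftKaehlerDifferential (KaehlerDifferential.D B A a) = D a :=
      D'.liftKaehlerDifferential_comp_D a
    have h2 : D'.liftKaehlerDifferential.liftBaseChange k ((1 : k) ⊗ₜ[A] KaehlerDifferential.D B A a) =
        D a := by
      rw [LinearMap.liftBaseChange_tmul, one_smul, h1]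
    rw [← h2, @Subsingleton.elim _ h ((1 : k) ⊗ₜ[A] KaehlerDifferential.D B A a) 0, map_zero]
    rfl

end Groth.Agent.S12751
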