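import Groth.Statements.S12752
import Groth.Agent.ArtFunLib.Essential
import Groth.Agent.S12751
-- import your own Groth.Agent.* helpers here

set_option autoImplicit false
universe u v
open CategoryTheory
open scoped TensorProduct
open ArtFun ArtFun.Art

namespace Groth.Agent.S12752

open Groth.Agent.ArtFunLib in
theorem finrank_eq {Λ : Type u} {k : Type u} [CommRing Λ] [Field k] [Algebra Λ k]
    (B : ArtFun.Art Λ k) [Algebra B k] (hB : algebraMap B k = (B.res : B →+* k)) [IsScalarTower Λ B k] :
    Module.finrank k (k ⊗[B] Ω[B⁄Λ]) = Module.finrank k (Derivation Λ B k) := by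
  rw [← Subspace.dual_finrank_eq (K := k) (V := k ⊗[B] Ω[B⁄Λ])]
  let e : (Ω[B⁄Λ] →ₗ[B] k) ≃ₗ[k] Derivation Λ B k :=
    { (KaehlerDifferential.linearMapEquivDerivation Λ B (M := k)) with
      map_smul' := fun c l => Derivation.ext fun b => rfl }
  exact ((LinearMap.liftBaseChangeEquiv k (R := B) (M := Ω[B⁄Λ]) (N := k)).symm.trans e).finrank_eq

open Groth.Agent.ArtFunLib in
theorem finite_der {Λ : Type u} {k : Type u} [CommRing Λ] [Field k] [Algebra Λ k] [Module.Finite Λ k]
    (B : ArtFun.Art Λ k) [Algebra B k] (hB : algebraMap B k = (B.res : B →+* k)) [IsScalarTower Λ B k] :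
    Module.Finite k (Derivation Λ B k) := by
  obtain ⟨s, hs⟩ := exists_finite_determining B.res B.res_surjective
  let ev : Derivation Λ B k →ₗ[k] (↥s → k) :=
    { toFun := fun D x => D x.1, map_add' := fun _ _ => rfl, map_smul' := fun _ _ => rfl }
  refine Module.Finite.of_injective ev ((injective_iff_map_eq_zero ev).2 fun D hD => ?_)
  exact Derivation.ext fun b => LinearMap.congr_fun
    (hs (D : B →ₗ[Λ] k) (derivation_smul_res hB D) fun x hx => congrFun hD ⟨x, hx⟩) b

open Groth.Agent.ArtFunLib in
theorem aux {Λ : Type u} {k : Type u} [CommRing Λ] [Field k] [Algebra Λ k]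
    [IsNoetherianRing Λ] [Module.Finite Λ k]
    {A B : ArtFun.Art Λ k} (f : B ⟶ A) [Algebra B k] [Algebra A k]
    (hB : algebraMap B k = (B.res : B →+* k)) (hA : algebraMap A k = (A.res : A →+* k))
    [IsScalarTower Λ B k] [IsScalarTower Λ A k] :
    IsEssential f ↔ (Function.Surjective f ∧
        Module.finrank k (k ⊗[B] Ω[B⁄Λ]) = Module.finrank k (k ⊗[A] Ω[A⁄Λ])) := by
  rw [finrank_eq B hB, finrank_eq A hA]
  have := finite_der B hB
  have := finite_der A hA
  refine ⟨fun he => ⟨he.1, ?_⟩, fun ⟨hf, hd⟩ => (isEssential_iff_derivation f hf hB).2 ?_⟩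
  all_goals
    let T : Derivation Λ A k →ₗ[k] Derivation Λ B k :=
      { toFun := fun D => Derivation.mk' ((D : A →ₗ[Λ] k).comp f.toAlgHom.toLinearMap) fun a b => by
          show D (f (a * b)) = a • D (f b) + b • D (f a)
          rw [map_mul, derivation_smul_res hA, ArtFun.Art.res_app, ArtFun.Art.res_app, Algebra.smul_def,
            Algebra.smul_def, hB]
          rfl
        map_add' := fun _ _ => rfl
        map_smul' := fun _ _ => rfl }
  · have hf := he.1
    have hinj : Function.Injective T := fun D D' h => Derivation.ext fun a => by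
      obtain ⟨b, rfl⟩ := hf a
      exact congrArg (fun E : Derivation Λ B k => E b) h
    have hkill := (isEssential_iff_derivation f hf hB).1 he
    choose sec hsec using hf
    have hsurj : Function.Surjective T := fun E => by
      have key : ∀ b, E (sec (f b)) = E b := fun b => by
        rw [← sub_eq_zero, ← map_sub]
        refine hkill E _ ?_
        rw [map_sub, hsec, sub_self]
      have kp : ∀ b a, f b = a → E (sec a) = E b := fun b a h => h ▸ key b
      refine ⟨Derivation.mk'
        { toFun := fun a => E (sec a)
          map_add' := fun a a' => (kp (sec a + sec a') _ (by rw [map_add, hsec, hsec])).trans (map_add E _ _)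
          map_smul' := fun l a => (kp (l • sec a) _ (by rw [map_smul, hsec])).trans
            (E.map_smul l _) }
        (fun a a' => ?_), Derivation.ext fun b => key b⟩
      show E (sec (a * a')) = a • E (sec a') + a' • E (sec a)
      rw [kp (sec a * sec a') (a * a') (by rw [map_mul, hsec, hsec]), derivation_smul_res hB,
        Algebra.smul_def, Algebra.smul_def, hA, ← ArtFun.Art.res_app f (sec a),
        ← ArtFun.Art.res_app f (sec a'), hsec, hsec]
      rfl
    exact (LinearEquiv.ofBijective T ⟨hinj, hsurj⟩).finrank_eq.symm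
  · have hinj : Function.Injective T := fun D D' h => Derivation.ext fun a => by
      obtain ⟨b, rfl⟩ := hf a
      exact congrArg (fun E : Derivation Λ B k => E b) h
    intro D x hx
    obtain ⟨E, rfl⟩ := (LinearMap.injective_iff_surjective_of_finrank_eq_finrank hd.symm).1 hinj D
    exact (congrArg E hx).trans (map_zero E)

/-- (a) ⇔ (c): a morphism f : B → A in the category of Artinian local Λ-algebras with residue field k is
an essential surjection (surjective, and any morphism g into B with g followed by f surjective is
surjective) if and only if the map Ω_{B/Λ} ⊗_B k → Ω_{A/Λ} ⊗_A k is an isomorphism of k-vector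
spaces. These spaces are finite-dimensional, so the isomorphism condition is written as: the map is
surjective (that is, Ω_{A/B} ⊗_A k = 0) and the two spaces have equal dimension. -/
theorem result {Λ : Type u} {k : Type u} [CommRing Λ] [Field k] [Algebra Λ k]
    [IsNoetherianRing Λ] [Module.Finite Λ k]
    {A B : ArtFun.Art Λ k} (f : B ⟶ A) :
    letI : Algebra B A := f.toAlgHom.toRingHom.toAlgebra
    letI : Algebra A k := A.res.toRingHom.toAlgebra
    letI : Algebra B k := B.res.toRingHom.toAlgebra
    (Function.Surjective f ∧ ∀ (C : ArtFun.Art Λ k) (g : C ⟶ B), Function.Surjective (g ≫ f) → Function.Surjective g) ↔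
      (Subsingleton (k ⊗[A] Ω[A⁄B]) ∧
        Module.finrank k (k ⊗[B] Ω[B⁄Λ]) = Module.finrank k (k ⊗[A] Ω[A⁄Λ])) := by
  letI : Algebra B A := f.toAlgHom.toRingHom.toAlgebra
  letI : Algebra A k := A.res.toRingHom.toAlgebra
  letI : Algebra B k := B.res.toRingHom.toAlgebra
  haveI : IsScalarTower Λ A k := IsScalarTower.of_algebraMap_eq fun l => (A.res.commutes l).symm
  haveI : IsScalarTower Λ B k := IsScalarTower.of_algebraMap_eq fun l => (B.res.commutes l).symm
  refine (aux f rfl rfl).trans (and_congr ?_ Iff.rfl)
  exact (Groth.Agent.S12751.result f)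

end Groth.Agent.S12752
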