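import Groth.Statements.S12753
import Groth.Agent.ArtFunLib.Essential
-- import your own Groth.Agent.* helpers here

set_option autoImplicit false
universe u v
open CategoryTheory
open ArtFun ArtFun.Art

namespace Groth.Agent.S12753

/-- Suppose k is separable over the image of Λ → k. A morphism f : B → A in the category of Artinian
local Λ-algebras with residue field k is an essential surjection (surjective, and any morphism g
into B with g followed by f surjective is surjective) if and only if the map of cotangent spaces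
relative to Λ, m_B/(m_Λ B + m_B²) → m_A/(m_Λ A + m_A²), is an isomorphism; surjectivity and
injectivity are written out in terms of ideals, m_Λ being the kernel of Λ → k. -/
theorem result {Λ : Type u} {k : Type u} [CommRing Λ] [Field k] [Algebra Λ k]
    [IsNoetherianRing Λ] [Module.Finite Λ k]
    [Algebra.IsSeparable (↥(algebraMap Λ k).range) k]
    {A B : ArtFun.Art Λ k} (f : B ⟶ A) :
    (Function.Surjective f ∧ ∀ (C : ArtFun.Art Λ k) (g : C ⟶ B), Function.Surjective (g ≫ f) → Function.Surjective g) ↔
      (Ideal.map (algebraMap Λ A) (RingHom.ker (algebraMap Λ k)) ⊔ Ideal.map f.toAlgHom (IsLocalRing.maximalIdeal B) ⊔ IsLocalRing.maximalIdeal A ^ 2 =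
          IsLocalRing.maximalIdeal A ∧
        ∀ b ∈ IsLocalRing.maximalIdeal B, f b ∈ Ideal.map (algebraMap Λ A) (RingHom.ker (algebraMap Λ k)) ⊔ IsLocalRing.maximalIdeal A ^ 2 →
          b ∈ Ideal.map (algebraMap Λ B) (RingHom.ker (algebraMap Λ k)) ⊔ IsLocalRing.maximalIdeal B ^ 2) := by
  rw [← Groth.Agent.ArtFunLib.surjective_art_iff]
  constructor
  · intro he
    refine ⟨he.1, fun b hb hfb => ?_⟩
    have hmap : (Groth.Agent.ArtFunLib.relSq A) ≤ Ideal.map f.toAlgHom (Groth.Agent.ArtFunLib.relSq B) := by
      unfold Groth.Agent.ArtFunLib.relSq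
      rw [Ideal.map_sup, Ideal.map_pow, Groth.Agent.ArtFunLib.map_max_eq_of_surjective f he.1,
        ← Ideal.map_coe f.toAlgHom (Ideal.map (algebraMap Λ B) _), Ideal.map_map, AlgHom.comp_algebraMap]
    obtain ⟨n, hn, hfn⟩ := (Ideal.mem_map_iff_of_surjective _ he.1).1 (hmap hfb)
    rw [← sub_add_cancel b n]
    refine add_mem (Groth.Agent.ArtFunLib.ker_le_relSq_of_isEssential he ?_) hn
    rw [RingHom.mem_ker, map_sub, hfn, sub_self]
  · rintro ⟨hf, h⟩
    exact Groth.Agent.ArtFunLib.isEssential_of_ker_le f hf fun b hb =>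
      h b (Groth.Agent.ArtFunLib.ker_le_max f hb) ((RingHom.mem_ker.1 hb).symm ▸ zero_mem _)

end Groth.Agent.S12753
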