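import Groth.Statements.S12754
import Mathlib.CategoryTheory.Linear.LinearFunctor
import Mathlib.LinearAlgebra.FiniteDimensional.Lemmas
-- import your own Groth.Agent.* helpers here

set_option autoImplicit false
universe u
open CategoryTheory
open ArtFun

namespace Groth.Agent.S12754

/-- A K-linear functor L from finite-dimensional K-vector spaces to K-vector spaces (K a field) is
isomorphic to the functor V ↦ L(K) ⊗_K V. (Existence of an isomorphism of functors, which is how the
published statement reads; the natural choice sends x ⊗ v to L(f_v)(x) with f_v : K → V, 1 ↦ v.) -/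
theorem result (K : Type u) [Field K]
    (L : FGModuleCat.{u} K ⥤ ModuleCat.{u} K) [L.Additive] [Functor.Linear K L] :
    Nonempty (L ≅ (ModuleCat.isFG.{u} K).ι ⋙ MonoidalCategory.tensorLeft (L.obj (FGModuleCat.of K K))) := by
  classical
  let e : ∀ (V : FGModuleCat.{u} K), V → (FGModuleCat.of K K ⟶ V) := fun V v =>
    FGModuleCat.ofHom (LinearMap.toSpanSingleton K V v)
  let τ : ∀ V : FGModuleCat.{u} K,
      TensorProduct K (L.obj (FGModuleCat.of K K)) V →ₗ[K] L.obj V := fun V =>
    TensorProduct.lift (LinearMap.mk₂ K (fun x v => (L.map (e V v)).hom x)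
      (fun x y v => map_add _ x y) (fun c x v => map_smul _ c x)
      (fun x v w => by
        rw [show e V (v + w) = e V v + e V w from by
          apply FGModuleCat.hom_ext
          exact LinearMap.ext fun a => smul_add a v w, L.map_add]; rfl)
      (fun c x v => by
        rw [show e V (c • v) = c • e V v from by
          apply FGModuleCat.hom_ext
          exact LinearMap.ext fun a => smul_comm a c v, L.map_smul]; rfl))
  have hτ : ∀ (V : FGModuleCat.{u} K) (x : L.obj (FGModuleCat.of K K)) (v : V), τ V (x ⊗ₜ v) = (L.map (e V v)).hom x :=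
    fun V x v => rfl
  have hnat : ∀ {V W : FGModuleCat.{u} K} (f : V ⟶ W),
      (τ W).comp (LinearMap.lTensor _ f.hom.hom) = (L.map f).hom.comp (τ V) := fun {V W} f =>
    TensorProduct.ext' fun x v => by
      change τ W (x ⊗ₜ f.hom v) = (L.map f).hom (τ V (x ⊗ₜ v))
      rw [hτ, hτ, show e W (f.hom v) = e V v ≫ f from by
        apply FGModuleCat.hom_ext
        exact LinearMap.ext fun a => (map_smul f.hom.hom a v).symm, L.map_comp]
      rfl
  have hbij : ∀ V, Function.Bijective (τ V) := fun V => by
    let b := Module.finBasis K V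
    let pr : Fin (Module.finrank K V) → (V ⟶ FGModuleCat.of K K) := fun i => FGModuleCat.ofHom (b.coord i)
    have hid : 𝟙 V = ∑ i, pr i ≫ e V (b i) := by
      apply FGModuleCat.hom_ext
      apply LinearMap.ext
      intro v
      change v = ((ModuleCat.isFG.{u} K).ι.map (∑ i, pr i ≫ e V (b i))).hom v
      rw [Functor.map_sum, ModuleCat.hom_sum, LinearMap.sum_apply]
      exact (b.sum_repr v).symm
    refine ⟨?_, fun y => ⟨∑ i, (L.map (pr i)).hom y ⊗ₜ b i, ?_⟩⟩
    · let ρ : L.obj V →ₗ[K] TensorProduct K (L.obj (FGModuleCat.of K K)) V :=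
        ∑ i, ((TensorProduct.mk K (L.obj (FGModuleCat.of K K)) V).flip (b i)).comp (L.map (pr i)).hom
      have : ρ.comp (τ V) = LinearMap.id := TensorProduct.ext' fun x v => by
        rw [LinearMap.comp_apply, hτ, LinearMap.id_apply]
        simp only [ρ, LinearMap.sum_apply, LinearMap.comp_apply, LinearMap.flip_apply, TensorProduct.mk_apply]
        conv_rhs => rw [← b.sum_repr v, TensorProduct.tmul_sum]
        refine Finset.sum_congr rfl fun i _ => ?_
        have h1 : e V v ≫ pr i = b.repr v i • 𝟙 (FGModuleCat.of K K) := by
          apply FGModuleCat.hom_ext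
          refine LinearMap.ext fun a => ?_
          change b.coord i (a • v) = b.repr v i • a
          rw [map_smul, smul_eq_mul, smul_eq_mul, mul_comm]
          rfl
        have h2 : (L.map (pr i)).hom ((L.map (e V v)).hom x) = b.repr v i • x := by
          change (L.map (e V v) ≫ L.map (pr i)).hom x = _
          rw [← L.map_comp, h1, L.map_smul, L.map_id]
          rfl
        rw [h2, TensorProduct.smul_tmul]
      exact Function.LeftInverse.injective fun z => LinearMap.congr_fun this z
    · rw [map_sum]
      simp only [hτ]
      conv_rhs => rw [show y = (L.map (𝟙 V)).hom y by rw [L.map_id]; rfl, hid, L.map_sum]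
      simp only [L.map_comp, ModuleCat.hom_sum, LinearMap.sum_apply]
      rfl
  refine ⟨(NatIso.ofComponents (fun V => (LinearEquiv.ofBijective (τ V) (hbij V)).toModuleIso) ?_).symm⟩
  intro V W f
  apply ModuleCat.hom_ext
  exact hnat f

end Groth.Agent.S12754
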