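import Groth.Statements.S12757
import Groth.Agent.ArtFunLib.Endo
-- import your own Groth.Agent.* helpers here

set_option autoImplicit false
universe u v
open CategoryTheory
open ArtFun

namespace Groth.Agent.S12757

/-- For functors, let F be a functor on Artinian local Λ-algebras with residue field k with F(k) a
point. A versal family of F over a complete local Noetherian R with residue field k which is
bijective on tangent spaces (a hull; bijectivity implies bijectivity on orbits of the derivations of
k) is minimal: every morphism of coefficient rings R' → R along which some formal element over R'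
pushes forward to the formal element of the family is surjective. -/
theorem result {Λ : Type u} {k : Type u} [CommRing Λ] [Field k] [Algebra Λ k]
    [IsNoetherianRing Λ] [Module.Finite Λ k]
    {F : ArtFun.Art Λ k ⥤ Type v} (h0 : ArtFun.H0 F) (P : ArtFun.Hull F) :
    P.family.IsMinimalVersal := by
  refine ⟨P.miniversal.1, fun R' u f hf hu => ?_⟩
  have hb : Function.Surjective (P.family.app (ArtFun.Art.base Λ k)) := fun y =>
    ⟨⟨P.ring.res, AlgHom.id_comp _⟩, @Subsingleton.elim _ h0.2 _ _⟩
  obtain ⟨h, hh, hhu⟩ := ArtFunLib.exists_along_eq R' P.family P.miniversal.1 hb u
  have e : (P.family.along (f.comp h) (by rw [← AlgHom.comp_assoc, hf, hh])).toFormalElt =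
      P.family.toFormalElt := (ArtFunLib.push_eq_along P.family h hh f hf u hhu).trans hu
  exact Function.Surjective.of_comp (g := h)
    (ArtFunLib.surjective_of_along_eq P.family P.miniversal.2.1 _ _ e)

end Groth.Agent.S12757
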