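import Groth.Statements.S12758
import Groth.Agent.ArtFunLib.Endo
-- import your own Groth.Agent.* helpers here

set_option autoImplicit false
universe u v
open CategoryTheory
open ArtFun

namespace Groth.Agent.S12758

/-- For functors, two minimal versal families of a functor F on Artinian local Λ-algebras with residue
field k with F(k) a point — over complete local Noetherian coefficient rings R₁, R₂ with residue
field k — are isomorphic: there is an isomorphism R₁ ≅ R₂ over Λ, compatible with the augmentations,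
along which the formal element of the first family pushes forward to that of the second. -/
theorem result {Λ : Type u} {k : Type u} [CommRing Λ] [Field k] [Algebra Λ k]
    [IsNoetherianRing Λ] [Module.Finite Λ k]
    {F : ArtFun.Art Λ k ⥤ Type v} (h0 : ArtFun.H0 F) {R₁ R₂ : ArtFun.CRing Λ k}
    (ξ₁ : ArtFun.Family R₁.carrier R₁.res F) (ξ₂ : ArtFun.Family R₂.carrier R₂.res F)
    (h₁ : ξ₁.IsMinimalVersal) (h₂ : ξ₂.IsMinimalVersal) :
    ∃ (e : R₁.carrier ≃ₐ[Λ] R₂.carrier) (he : R₂.res.comp (e : R₁.carrier →ₐ[Λ] R₂.carrier) = R₁.res),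
      (ξ₁.along (e : R₁.carrier →ₐ[Λ] R₂.carrier) he).toFormalElt = ξ₂.toFormalElt := by
  have hb : ∀ (R : ArtFun.CRing Λ k) (ξ : ArtFun.Family R.carrier R.res F),
      Function.Surjective (ξ.app (ArtFun.Art.base Λ k)) := fun R ξ y =>
    ⟨⟨R.res, AlgHom.id_comp _⟩, @Subsingleton.elim _ h0.2 _ _⟩
  have key : ∀ (A B : ArtFun.CRing Λ k) (ξ : ArtFun.Family A.carrier A.res F)
      (η : ArtFun.Family B.carrier B.res F), ξ.IsMinimalVersal → η.IsMinimalVersal →
      ∃ (f : A.carrier →ₐ[Λ] B.carrier) (hf : B.res.comp f = A.res),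
        (ξ.along f hf).toFormalElt = η.toFormalElt ∧ Function.Surjective f := by
    intro A B ξ η hξ hη
    obtain ⟨f, hf, hfu⟩ := ArtFunLib.exists_along_eq B ξ hξ.1 (hb A ξ) η.toFormalElt
    have e : (ξ.along f hf).toFormalElt = η.toFormalElt := ArtFun.FormalElt.ext' hfu
    refine ⟨f, hf, e, hη.2 A ξ.toFormalElt f hf ?_⟩
    rw [← ArtFunLib.push_eq_along ξ (AlgHom.id Λ A.carrier) (AlgHom.comp_id _) f hf ξ.toFormalElt
      (fun n => rfl), ← e]
    rfl
  obtain ⟨f, hf, hfu, hfs⟩ := key R₁ R₂ ξ₁ ξ₂ h₁ h₂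
  obtain ⟨g, hg, -, hgs⟩ := key R₂ R₁ ξ₂ ξ₁ h₂ h₁
  have hinj : Function.Injective f := Function.Injective.of_comp (f := g)
    (ArtFunLib.bijective_of_surjective_endo (g.toRingHom.comp f.toRingHom) (hgs.comp hfs)).1
  exact ⟨AlgEquiv.ofBijective f ⟨hinj, hfs⟩, hf, hfu⟩

end Groth.Agent.S12758
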