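import Groth.Statements.S1276
import Groth.Agent.FlatCrit.SupportBC

set_option autoImplicit false
universe u
open FlatMor

namespace Groth.Agent.S1276

/-- Let B be a finite type A-algebra, N a finite B-module and p a prime of A. Then there is a finitely
generated ideal J of B annihilating N (so N is a module on the finitely presented closed subscheme
V(J) of Spec B) such that a point of the fibre Spec(κ(p) ⊗ B) lies in V(J) if and only if it lies in
the support of the fibre module of N. -/
theorem result {A B : Type u} [CommRing A] [CommRing B] [Algebra A B] [Algebra.FiniteType A B]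
    (N : Type u) [AddCommGroup N] [Module B N] [Module A N] [IsScalarTower A B N] [Module.Finite B N] (p : Ideal A) [p.IsPrime] :
    ∃ J : Ideal B, J.FG ∧ J ≤ Module.annihilator B N ∧
      ∀ x : PrimeSpectrum (p.Fiber B), FlatCA.fiberIdeal p J ≤ x.asIdeal ↔ x ∈ Module.support (p.Fiber B) (FlatCA.fiberMod p B N) := by
  letI : Algebra B (p.Fiber B) := Algebra.TensorProduct.rightAlgebra
  haveI : IsNoetherianRing (p.Fiber B) := Algebra.FiniteType.isNoetherianRing p.ResidueField _
  set I := Module.annihilator B N with hI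
  obtain ⟨M, ⟨J, hJfg, hJI, rfl⟩, hmax⟩ := set_has_maximal_iff_noetherian.2
    (inferInstance : IsNoetherianRing (p.Fiber B))
    {M : Ideal (p.Fiber B) | ∃ J : Ideal B, J.FG ∧ J ≤ I ∧ J.map (algebraMap B (p.Fiber B)) = M}
    ⟨_, ⊥, Submodule.fg_bot, bot_le, rfl⟩
  have hIJ : I.map (algebraMap B (p.Fiber B)) = J.map (algebraMap B (p.Fiber B)) := by
    refine le_antisymm (Ideal.map_le_iff_le_comap.2 fun a ha => ?_) (Ideal.map_mono hJI)
    have h1 : J.map (algebraMap B (p.Fiber B)) =
        (J ⊔ Ideal.span {a}).map (algebraMap B (p.Fiber B)) := by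
      refine eq_of_le_of_not_lt (Ideal.map_mono le_sup_left) ?_
      exact hmax _ ⟨_, Submodule.FG.sup hJfg (Submodule.fg_span_singleton a),
        sup_le hJI (by rw [Ideal.span_singleton_le_iff_mem]; exact ha), rfl⟩
    rw [Ideal.mem_comap, h1]
    exact Ideal.mem_map_of_mem _ (le_sup_right (α := Ideal B) (Ideal.mem_span_singleton_self a))
  refine ⟨J, hJfg, hJI, fun x => ?_⟩
  show J.map (algebraMap B (p.Fiber B)) ≤ x.asIdeal ↔
    x ∈ Module.support (p.Fiber B) (TensorProduct B (p.Fiber B) N)
  rw [FlatCrit.mem_support_baseChange_iff, Module.mem_support_iff_of_finite, ← hIJ,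
    Ideal.map_le_iff_le_comap, PrimeSpectrum.comap_asIdeal]

end Groth.Agent.S1276
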