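import Groth.Statements.S12762
import Groth.Agent.Stk19b.Boot.Corollaries

set_option autoImplicit false
open CategoryTheory AlgebraicGeometry
universe u
open AlgSt

set_option backward.isDefEq.respectTransparency.types false
set_option backward.isDefEq.respectTransparency false

open CategoryTheory.Limits FibCat Groth.Agent.Stk19 Groth.Agent.Stk19b
namespace Groth.Agent.S12762


/-- (2) ⇔ (3): a 1-morphism `f : 𝒳 ⟶ 𝒴` of algebraic stacks over `S` is faithful (equivalently, faithful
on every fibre category) if and only if it is representable by algebraic spaces. -/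
theorem result {S : Scheme.{u}} {𝒳 𝒴 : AlgSt.Cat S}
    (h𝒳 : AlgSt.IsAlgStack Scheme.fppfPrecoverage 𝒳) (h𝒴 : AlgSt.IsAlgStack Scheme.fppfPrecoverage 𝒴) (f : 𝒳 ⥤ᵇ 𝒴) :
    f.toFunctor.Faithful ↔ AlgSt.RepByAlgSp1 f := by
  exact faithful_iff_rep1 h𝒳 h𝒴 f

end Groth.Agent.S12762
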