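import Groth.Statements.S12769
import Groth.Agent.Stk19.AlgSt.Diag
import Groth.Agent.Stk19.RelStack

set_option autoImplicit false
open CategoryTheory AlgebraicGeometry
universe u
open AlgSt

namespace Groth.Agent.S12769

/-- Let `f : 𝒳 ⟶ 𝒵` and `g : 𝒴 ⟶ 𝒵` be 1-morphisms of categories fibred in groupoids over `(Sch/S)`.
Suppose `𝒴` is a stack in groupoids (fppf topology) and `f` is representable by algebraic spaces;
then `𝒳 ×_𝒵 𝒴` is a stack in groupoids. -/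
theorem result {S : Scheme.{u}} {𝒳 𝒴 𝒵 : AlgSt.Cat S}
    (h𝒳 : FibCat.IsFibGrpd 𝒳.p) (h𝒵 : FibCat.IsFibGrpd 𝒵.p) (h𝒴 : Stk.IsStack (QuotSh.J Scheme.fppfPrecoverage S) 𝒴)
    (f : 𝒳 ⥤ᵇ 𝒵) (g : 𝒴 ⥤ᵇ 𝒵) (hf : AlgSt.RepByAlgSp1 f) :
    Stk.IsStack (QuotSh.J Scheme.fppfPrecoverage S) (FibCat.fp f g) := by
  have hr := Groth.Agent.Stk19.repByAlgSp1_fpSnd g hf
  have hg := Groth.Agent.Stk19.fibGrpd_fp h𝒳 h𝒴.1 h𝒵 f g
  have := Groth.Agent.Stk19.faithful_of_repByAlgSp1 hg h𝒴.1 hr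
  exact Groth.Agent.Stk19.isStack_of_relative _ hg h𝒴 _ fun U y => Groth.Agent.Stk19.isStack_of_repByAlgSp (hr U y)

end Groth.Agent.S12769
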