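import Groth.Statements.S1277
import Groth.Agent.FlatMorDevissage.LocalExt

set_option autoImplicit false
universe u
open FlatMor

namespace Groth.Agent.S1277

open IsLocalRing in
/-- Let A be a local ring, A → B a local homomorphism of local rings, B → C a flat local homomorphism of
local rings, M a B-module and N = M ⊗_B C. For every local homomorphism of local rings A → A', with
base changes B' = B ⊗_A A', M', C' = C ⊗_A A', N' (any models): M' is flat over A' at every prime of
B' containing 𝔪_{A'}B' + 𝔪_B B' if and only if N' is flat over A' at every prime of C' containing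
𝔪_{A'}C' + 𝔪_C C'. -/
theorem result {A B C : Type u} [CommRing A] [IsLocalRing A] [CommRing B] [IsLocalRing B] [CommRing C] [IsLocalRing C]
    [Algebra A B] [IsLocalHom (algebraMap A B)] [Algebra B C] [IsLocalHom (algebraMap B C)] [Algebra A C] [IsScalarTower A B C] [Module.Flat B C]
    (M : Type u) [AddCommGroup M] [Module B M] (N : Type u) [AddCommGroup N] [Module C N] [Module B N] [IsScalarTower B C N]
    (g : M →ₗ[B] N) (hg : IsBaseChange C g)
    (A' : Type u) [CommRing A'] [IsLocalRing A'] [Algebra A A'] [IsLocalHom (algebraMap A A')]
    (B' M' : Type u) [CommRing B'] [Algebra B B'] [Algebra A' B'] [Algebra A B'] [IsScalarTower A B B'] [IsScalarTower A A' B']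
        [Algebra.IsPushout A B A' B']
        [AddCommGroup M'] [Module B' M'] [Module B M'] [IsScalarTower B B' M'] [Module A' M'] [IsScalarTower A' B' M']
        (fB : M →ₗ[B] M') (hfB : IsBaseChange B' fB)
    (C' N' : Type u) [CommRing C'] [Algebra C C'] [Algebra A' C'] [Algebra A C'] [IsScalarTower A C C'] [IsScalarTower A A' C']
        [Algebra.IsPushout A C A' C']
        [AddCommGroup N'] [Module C' N'] [Module C N'] [IsScalarTower C C' N'] [Module A' N'] [IsScalarTower A' C' N']
        (fC : N →ₗ[C] N') (hfC : IsBaseChange C' fC) :
    FlatCA.FlatAboveClosedPoints B A' B' M' ↔ FlatCA.FlatAboveClosedPoints C A' C' N' := by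
  let _ : Algebra B C' := ((algebraMap C C').comp (algebraMap B C)).toAlgebra
  have : IsScalarTower B C C' := IsScalarTower.of_algebraMap_eq fun _ => rfl
  obtain ⟨iA, hB, hA, hP⟩ :=
    Groth.Agent.FlatMorDevissage.LocalExt.exists_algebra (A := A) (B := B) (C := C) (A' := A') (B' := B') (C' := C')
  let _ : Module B' N' := Module.compHom N' (algebraMap B' C')
  have t1 : IsScalarTower B' C' N' := IsScalarTower.of_algebraMap_smul fun _ _ => rfl
  have t2 : IsScalarTower A' B' N' := IsScalarTower.of_algebraMap_smul fun a x => by
    show algebraMap B' C' (algebraMap A' B' a) • x = _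
    rw [← IsScalarTower.algebraMap_apply, algebraMap_smul]
  let _ : Module B N' := Module.compHom N' (algebraMap B C')
  have t3 : IsScalarTower B C N' := IsScalarTower.of_algebraMap_smul fun b x => by
    show algebraMap B C b • x = algebraMap B C' b • x
    rw [IsScalarTower.algebraMap_apply B C C']
    exact (algebraMap_smul C' _ x).symm
  have t4 : IsScalarTower B B' N' := IsScalarTower.of_algebraMap_smul fun b x => by
    show algebraMap B' C' (algebraMap B B' b) • x = algebraMap B C' b • x
    rw [← IsScalarTower.algebraMap_apply]
  have t5 : IsScalarTower B C' N' := IsScalarTower.of_algebraMap_smul fun _ _ => rfl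
  let h := hfB.lift ((fC.restrictScalars B).comp g)
  have hφ : IsBaseChange C' h := IsBaseChange.of_comp hfB (by
    rw [IsBaseChange.lift_comp]
    exact hg.comp hfC)
  exact Groth.Agent.FlatMorDevissage.LocalExt.flatAbove_iff_of_flat hφ

end Groth.Agent.S1277
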