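import Groth.Statements.S12772
import Groth.Agent.Stk19.AlgSt.AlgMisc

set_option autoImplicit false
open CategoryTheory AlgebraicGeometry
universe u
open AlgSt

namespace Groth.Agent.S12772

/-- Every category fibred in groupoids over `(Sch/S)` that is representable by an algebraic space is in
fact a Deligne-Mumford stack over `S`. (In particular the category of sections of an algebraic space
over `S`, and the category of schemes over a given scheme over `S`, are Deligne-Mumford stacks.) -/
theorem result {S : Scheme.{u}} {𝒳 : AlgSt.Cat S}
    (h𝒳 : FibCat.IsFibGrpd 𝒳.p) (hr : AlgSt.RepByAlgSp 𝒳) :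
    AlgSt.IsDM Scheme.fppfPrecoverage 𝒳 := by
  exact Stk19.isDM_of_repByAlgSp hr

end Groth.Agent.S12772
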