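import Groth.Statements.S12773
import Groth.Agent.Stk19b.Gerbe.Flat

set_option autoImplicit false
open CategoryTheory AlgebraicGeometry
universe u
open AlgSt

set_option backward.isDefEq.respectTransparency.types false
set_option backward.isDefEq.respectTransparency false

namespace Groth.Agent.S12773


/-- Let `f : 𝒳 ⟶ 𝒴` be a 1-morphism of algebraic stacks over `S`, `V` a scheme over `S` and `y : (Sch/V)
⟶ 𝒴` surjective and smooth. Then there are a scheme `U` over `S`, a morphism `a : U ⟶ V` and a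
surjective smooth `x : (Sch/U) ⟶ 𝒳` such that the square 2-commutes: `f ∘ x ≅ y ∘ a`. -/
theorem result {S : Scheme.{u}} {𝒳 𝒴 : AlgSt.Cat S}
    (h𝒳 : AlgSt.IsAlgStack Scheme.fppfPrecoverage 𝒳) (h𝒴 : AlgSt.IsAlgStack Scheme.fppfPrecoverage 𝒴)
    (f : 𝒳 ⥤ᵇ 𝒴) (V : Over S) (y : FibCat.overCat V ⥤ᵇ 𝒴)
    (hy : AlgSt.RepByAlgSpWith (AlgSp.LocP @Smooth) y) (hy' : AlgSt.RepByAlgSpWith AlgSp.IsSurjectiveMor y) :
    ∃ (U : Over S) (a : U ⟶ V) (x : FibCat.overCat U ⥤ᵇ 𝒳),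
      AlgSt.RepByAlgSpWith (AlgSp.LocP @Smooth) x ∧ AlgSt.RepByAlgSpWith AlgSp.IsSurjectiveMor x ∧
        Nonempty (BasedFunctor.comp x f ≅ BasedFunctor.comp (AlgSt.overMap a) y) := by
  have hV := Groth.Agent.Stk19b.isAlgStack_overCat V
  have hN := Groth.Agent.Stk19.isAlgStack_fp h𝒴.isStack h𝒴.diag hV h𝒳 y f
  obtain ⟨U, x₀, hx, hxs⟩ := hN.atlas
  have hsnd := Groth.Agent.Stk19.with_equiv_comp (Groth.Agent.Stk19.isEquivOver_fpSwap y f)
    (Groth.Agent.Stk19.repByAlgSpWith_fpFst f hy)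
  have hsnds := Groth.Agent.Stk19.with_equiv_comp (Groth.Agent.Stk19.isEquivOver_fpSwap y f)
    (Groth.Agent.Stk19.repByAlgSpWith_fpFst f hy')
  have hxS : AlgSt.RepByAlgSpWith (AlgSp.LocP @Smooth) (BasedFunctor.comp x₀ (FibCat.fpSnd y f)) :=
    Groth.Agent.Stk19.with_comp_locP Groth.Agent.AlgSpLib.etLocal_smooth hN.isStack.1 hx hsnd
  obtain ⟨a, ⟨ia⟩⟩ := Groth.Agent.Stk19.exists_overMap_iso (BasedFunctor.comp x₀ (FibCat.fpFst y f))
  refine ⟨U, a, BasedFunctor.comp x₀ (FibCat.fpSnd y f), hxS,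
    Groth.Agent.Stk19.with_surjective_of_ofChart h𝒳.isStack.1 (Groth.Agent.Stk19.repByAlgSp1_of_with hxS)
      fun p => ?_, ⟨(Stk.restr x₀ _).mapIso (FibCat.fpIso y f).symm ≪≫ (Groth.Agent.Stk19.postB _ y).mapIso ia⟩⟩
  obtain ⟨v, rfl⟩ := Groth.Agent.Stk19.isSurjective_of_with h𝒳.isStack.1 hsnds p
  obtain ⟨u, rfl⟩ := Groth.Agent.Stk19.ofChart_surjective hN.isStack.1 hxs v
  exact ⟨u, (Groth.Agent.Stk19.map_ofChart x₀ (FibCat.fpSnd y f) u).symm⟩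

end Groth.Agent.S12773
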