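import Groth.Statements.S1278
import Groth.Agent.FlatMorDevissage.LocalExt

set_option autoImplicit false
universe u
open FlatMor

namespace Groth.Agent.S1278

open IsLocalRing in
/-- Let A be a local ring and B → C a finite local homomorphism of local A-algebras (A → B local), and N
a C-module, viewed also as a B-module. For every local homomorphism of local rings A → A', with base
changes B', C' of B, C and base changes M' (of N over B') and N' (of N over C'): M' is flat over A'
at every prime of B' containing 𝔪_{A'}B' + 𝔪_B B' if and only if N' is flat over A' at every prime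
of C' containing 𝔪_{A'}C' + 𝔪_C C'. -/
theorem result {A B C : Type u} [CommRing A] [IsLocalRing A] [CommRing B] [IsLocalRing B] [CommRing C] [IsLocalRing C]
    [Algebra A B] [IsLocalHom (algebraMap A B)] [Algebra B C] [IsLocalHom (algebraMap B C)] [Algebra A C] [IsScalarTower A B C] [Module.Finite B C]
    (N : Type u) [AddCommGroup N] [Module C N] [Module B N] [IsScalarTower B C N]
    (A' : Type u) [CommRing A'] [IsLocalRing A'] [Algebra A A'] [IsLocalHom (algebraMap A A')]
    (B' M' : Type u) [CommRing B'] [Algebra B B'] [Algebra A' B'] [Algebra A B'] [IsScalarTower A B B'] [IsScalarTower A A' B']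
        [Algebra.IsPushout A B A' B']
        [AddCommGroup M'] [Module B' M'] [Module B M'] [IsScalarTower B B' M'] [Module A' M'] [IsScalarTower A' B' M']
        (fB : N →ₗ[B] M') (hfB : IsBaseChange B' fB)
    (C' N' : Type u) [CommRing C'] [Algebra C C'] [Algebra A' C'] [Algebra A C'] [IsScalarTower A C C'] [IsScalarTower A A' C']
        [Algebra.IsPushout A C A' C']
        [AddCommGroup N'] [Module C' N'] [Module C N'] [IsScalarTower C C' N'] [Module A' N'] [IsScalarTower A' C' N']
        (fC : N →ₗ[C] N') (hfC : IsBaseChange C' fC) :
    FlatCA.FlatAboveClosedPoints B A' B' M' ↔ FlatCA.FlatAboveClosedPoints C A' C' N' := by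
  let _ : Algebra B C' := ((algebraMap C C').comp (algebraMap B C)).toAlgebra
  have : IsScalarTower B C C' := IsScalarTower.of_algebraMap_eq fun _ => rfl
  obtain ⟨iA, hB, hA, hP⟩ :=
    Groth.Agent.FlatMorDevissage.LocalExt.exists_algebra (A := A) (B := B) (C := C) (A' := A') (B' := B') (C' := C')
  let _ : Module B' N' := Module.compHom N' (algebraMap B' C')
  have t1 : IsScalarTower B' C' N' := IsScalarTower.of_algebraMap_smul fun _ _ => rfl
  have t2 : IsScalarTower A' B' N' := IsScalarTower.of_algebraMap_smul fun a x => by
    show algebraMap B' C' (algebraMap A' B' a) • x = _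
    rw [← IsScalarTower.algebraMap_apply, algebraMap_smul]
  let _ : Module B N' := Module.compHom N' (algebraMap B C')
  have t3 : IsScalarTower B C N' := IsScalarTower.of_algebraMap_smul fun b x => by
    show algebraMap B C b • x = algebraMap B C' b • x
    rw [IsScalarTower.algebraMap_apply B C C']
    exact (algebraMap_smul C' _ x).symm
  have t4 : IsScalarTower B B' N' := IsScalarTower.of_algebraMap_smul fun b x => by
    show algebraMap B' C' (algebraMap B B' b) • x = algebraMap B C' b • x
    rw [← IsScalarTower.algebraMap_apply]
  have : Algebra.IsPushout B B' C C' := hP.symm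
  have hN : IsBaseChange B' (fC.restrictScalars B) :=
    IsBaseChange.of_equiv ((Algebra.IsPushout.cancelBaseChange B B' C C' N).symm ≪≫ₗ
      hfC.equiv.restrictScalars B') fun m => by
        simp only [LinearEquiv.trans_apply, Algebra.IsPushout.cancelBaseChange_symm_tmul, map_one]
        exact (hfC.equiv_tmul 1 m).trans (one_smul _ _)
  let e : M' ≃ₗ[B'] N' := hfB.equiv.symm.trans hN.equiv
  refine Iff.trans ?_ (Groth.Agent.FlatMorDevissage.LocalExt.flatAbove_iff_of_finite (B := B) (C := C) (A' := A') (B' := B') (C' := C') (N' := N'))
  exact forall_congr' fun q => forall_congr' fun _ => imp_congr_right fun _ =>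
    Groth.Agent.FlatMorDevissage.flatAt_congr e

end Groth.Agent.S1278
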