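import Groth.Statements.S1279
import Groth.Agent.BlowUpLib.Separate
import Groth.Agent.BlowUpLib.Exists

set_option autoImplicit false
universe u
open FlatMor
set_option backward.isDefEq.respectTransparency false

namespace Groth.Agent.S1279

open AlgebraicGeometry CategoryTheory Limits Topology in
/-- Let X be a quasi-compact and quasi-separated scheme, U ⊆ X a quasi-compact open, and T₁, T₂ ⊆ U
disjoint subsets which are closed and constructible in U. Then there is a U-admissible blow-up b :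
X' → X such that the closures in X' of the preimages of T₁ and T₂ are disjoint. (Part (1), about
strict transforms of closed subschemes, is not stated.) -/
theorem result {X : Scheme.{u}} [CompactSpace X] [QuasiSeparatedSpace X]
    (U : X.Opens) (hU : IsCompact (U : Set X)) (T₁ T₂ : Set U)
    (h₁ : IsClosed T₁) (h₂ : IsClosed T₂) (c₁ : IsConstructible T₁) (c₂ : IsConstructible T₂) (hd : Disjoint T₁ T₂) :
    ∃ (𝓘 : X.IdealSheafData) (X' : Scheme.{u}) (b : X' ⟶ X), BlowUp.IsBlowUp b 𝓘 ∧ BlowUp.IsAdmissibleFor U 𝓘 ∧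
      Disjoint (closure (b.base ⁻¹' (Subtype.val '' T₁))) (closure (b.base ⁻¹' (Subtype.val '' T₂))) := by
  classical
  haveI : CompactSpace U := isCompact_iff_compactSpace.1 hU
  -- constructible subsets of a compact space are compact
  have hcpt : ∀ T : Set U, IsConstructible T → IsCompact T := by
    intro T hT
    induction T, hT using BooleanSubalgebra.closure_sdiff_sup_induction with
    | isSublattice =>
      exact ⟨fun s hs t ht ↦ ⟨hs.1.union ht.1, hs.2.union ht.2⟩,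
        fun s hs t ht ↦ ⟨hs.1.inter ht.1, hs.2.inter_isOpen ht.2 ht.1⟩⟩
    | bot_mem => exact ⟨isOpen_empty, .empty⟩
    | top_mem => exact ⟨isOpen_univ, .univ⟩
    | sdiff V hV W hW => exact hV.2.isCompact.diff hW.1
    | sup s _ t _ hs ht => exact hs.union ht
  -- finite type ideals cutting out `Tᵢ` on `U`
  have hext : ∀ T : Set U, IsClosed T → IsConstructible T → ∃ I : X.IdealSheafData,
      BlowUp.IsFiniteTypeIdeal I ∧ (I.support : Set X) = (Subtype.val '' Tᶜ)ᶜ := by
    intro T hT hc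
    refine BlowUpLib.exists_finiteType_support_eq _
      (U.isOpen.isOpenMap_subtype_val _ hT.isOpen_compl).isClosed_compl ?_
    rw [compl_compl]
    exact (hcpt _ hc.compl).image continuous_subtype_val
  obtain ⟨I₁, hf₁, hs₁⟩ := hext T₁ h₁ c₁
  obtain ⟨I₂, hf₂, hs₂⟩ := hext T₂ h₂ c₂
  have hadm : BlowUp.IsAdmissibleFor U (I₁ ⊔ I₂) := by
    refine ⟨fun V => ?_, Set.disjoint_left.2 fun x hx hxU => ?_⟩
    · rw [Scheme.IdealSheafData.ideal_sup, Pi.sup_apply]
      exact Submodule.FG.sup (hf₁ V) (hf₂ V)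
    · rw [Scheme.IdealSheafData.support_sup] at hx
      obtain ⟨hx₁, hx₂⟩ := hx
      rw [hs₁] at hx₁
      rw [hs₂] at hx₂
      refine Set.disjoint_left.1 hd (show (⟨x, hxU⟩ : U) ∈ T₁ from ?_) ?_
      · exact not_not.1 fun h => hx₁ ⟨_, h, rfl⟩
      · exact not_not.1 fun h => hx₂ ⟨_, h, rfl⟩
  obtain ⟨X', b, hb⟩ := BlowUpLib.exists_isBlowUp (I := I₁ ⊔ I₂)
  refine ⟨I₁ ⊔ I₂, X', b, hb, hadm, Set.disjoint_left.2 fun z hz₁ hz₂ => ?_⟩
  obtain ⟨_, ⟨W₀, hW₀, rfl⟩, hzW, -⟩ := X.isBasis_affineOpens.exists_subset_of_mem_open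
    (show b z ∈ (⊤ : X.Opens) from trivial) (⊤ : X.Opens).isOpen
  let W : X.affineOpens := ⟨W₀, hW₀⟩
  obtain ⟨a, has, haloc⟩ := BlowUpLib.exists_mem_locus b hb.1 W (show z ∈ b ⁻¹ᵁ W.1 from hzW)
    ((I₁.ideal W : Set Γ(X, W.1)) ∪ (I₂.ideal W : Set Γ(X, W.1)))
    (by rw [Ideal.span_union, Ideal.span_eq, Ideal.span_eq, Scheme.IdealSheafData.ideal_sup]; rfl)
  obtain ⟨W', hzW', eW, hgen⟩ := BlowUpLib.mem_locus.1 haloc
  -- the preimage of a closed set containing a generator misses the chart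
  have key : ∀ (T : Set U) (I : X.IdealSheafData), (I.support : Set X) = (Subtype.val '' Tᶜ)ᶜ →
      a ∈ I.ideal W → ∀ x ∈ W'.1, b x ∉ Subtype.val '' T := by
    rintro T I hI haI x hx ⟨t, ht, htx⟩
    have h1 : b x ∈ (I.support : Set X) := by
      rw [hI, ← htx]
      rintro ⟨t', ht', he⟩
      exact ht' (Subtype.val_injective he ▸ ht)
    have h2 : (b.appLE W.1 W'.1 eW).hom a ∈ BlowUpLib.prm x hx :=
      (BlowUpLib.appLE_mem_prm b eW hx).2 ((BlowUpLib.mem_support_iff_le_prm I W (eW hx)).1 h1 haI)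
    have h3 : b x ∈ ((I₁ ⊔ I₂).support : Set X) := by
      refine (BlowUpLib.mem_support_iff_le_prm _ W (eW hx)).2 fun c hc => ?_
      obtain ⟨c', hc'⟩ := Ideal.mem_span_singleton'.1
        (hgen.le (ProjLib.map_ideal_le_comap_ideal _ b W W' eW (Ideal.mem_map_of_mem _ hc)))
      rw [← BlowUpLib.appLE_mem_prm b eW hx]
      exact hc' ▸ Ideal.mul_mem_left _ c' h2
    exact Set.disjoint_left.1 hadm.2 h3 (htx ▸ t.2)
  rcases has with ha | ha
  · obtain ⟨x, hx, hxT⟩ := mem_closure_iff.1 hz₁ W'.1 W'.1.isOpen hzW'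
    exact key T₁ I₁ hs₁ ha x hx hxT
  · obtain ⟨x, hx, hxT⟩ := mem_closure_iff.1 hz₂ W'.1 W'.1.isOpen hzW'
    exact key T₂ I₂ hs₂ ha x hx hxT

end Groth.Agent.S1279
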