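import Groth.Statements.S12790
import Groth.Agent.Stk19.ProdMap

set_option autoImplicit false
open CategoryTheory CategoryTheory.Limits
universe v u
open FibCat

namespace Groth.Agent.S12790

/-- For representable 1-morphisms `f₁ : 𝒳₁ ⟶ 𝒴₁`, `f₂ : 𝒳₂ ⟶ 𝒴₂` of categories over `C`, the product `f₁
× f₂ : 𝒳₁ × 𝒳₂ ⟶ 𝒴₁ × 𝒴₂` (products over `C`; the functor induced on 2-fibre products, for any
choice of the 2-isomorphism `e` filling the square) is a representable 1-morphism. (The published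
statement is for categories fibred in groupoids over schemes over a base; this row is stated for
categories over any base category.) -/
theorem result {C : Type u} [Category.{v} C] {𝒳₁ 𝒳₂ 𝒴₁ 𝒴₂ : BasedCategory.{v, max u v} C}
    (f₁ : 𝒳₁ ⥤ᵇ 𝒴₁) (f₂ : 𝒳₂ ⥤ᵇ 𝒴₂) (hf₁ : FibCat.IsRepresentable1 f₁) (hf₂ : FibCat.IsRepresentable1 f₂)
    (e : BasedFunctor.comp (BasedFunctor.comp (FibCat.fpFst (FibCat.toSelf 𝒳₁) (FibCat.toSelf 𝒳₂)) f₁) (FibCat.toSelf 𝒴₁) ≅ BasedFunctor.comp (BasedFunctor.comp (FibCat.fpSnd (FibCat.toSelf 𝒳₁) (FibCat.toSelf 𝒳₂)) f₂) (FibCat.toSelf 𝒴₂)) :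
    FibCat.IsRepresentable1 (FibCat.fpLift (BasedFunctor.comp (FibCat.fpFst (FibCat.toSelf 𝒳₁) (FibCat.toSelf 𝒳₂)) f₁) (BasedFunctor.comp (FibCat.fpSnd (FibCat.toSelf 𝒳₁) (FibCat.toSelf 𝒳₂)) f₂) e) := by
  have h₁ := (Stk19.isRepresentable1_iff_of_equiv (f := FibCat.fpFst (FibCat.fpFst (FibCat.toSelf 𝒴₁) (FibCat.toSelf 𝒳₂)) f₁) (f' := Stk19.prodMapB f₁ (BasedFunctor.id 𝒳₂)) (a := Stk19.prodLeft f₁ 𝒳₂) (b := BasedFunctor.id _) (Stk19.isEquivOver_prodLeft f₁ 𝒳₂) (Stk19.isEquivOver_id _) (Iso.refl _)).1 (Stk19.isRepresentable1_fpFst _ hf₁)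
  have h₂ := (Stk19.isRepresentable1_iff_of_equiv (f := FibCat.fpFst (FibCat.fpSnd (FibCat.toSelf 𝒴₁) (FibCat.toSelf 𝒴₂)) f₂) (f' := Stk19.prodMapB (BasedFunctor.id 𝒴₁) f₂) (a := Stk19.prodRight f₂ 𝒴₁) (b := BasedFunctor.id _) (Stk19.isEquivOver_prodRight f₂ 𝒴₁) (Stk19.isEquivOver_id _) (Iso.refl _)).1 (Stk19.isRepresentable1_fpFst _ hf₂)
  exact (Stk19.isRepresentable1_iff_of_equiv (f := BasedFunctor.comp (Stk19.prodMapB f₁ (BasedFunctor.id 𝒳₂)) (Stk19.prodMapB (BasedFunctor.id 𝒴₁) f₂)) (f' := FibCat.fpLift (BasedFunctor.comp (FibCat.fpFst (FibCat.toSelf 𝒳₁) (FibCat.toSelf 𝒳₂)) f₁) (BasedFunctor.comp (FibCat.fpSnd (FibCat.toSelf 𝒳₁) (FibCat.toSelf 𝒳₂)) f₂) e) (a := BasedFunctor.id _) (b := BasedFunctor.id _) (Stk19.isEquivOver_id _) (Stk19.isEquivOver_id _) (Stk19.prodMapIso f₁ f₂ e ≪≫ (Stk19.prodMapFactor f₁ f₂).symm)).1 (Stk19.isRepresentable1_comp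 h₁ h₂)

end Groth.Agent.S12790
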