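import Groth.Statements.S12791
import Groth.Agent.Stk19b.Boot.Corollaries

set_option autoImplicit false
open CategoryTheory AlgebraicGeometry
universe u
open AlgSt

set_option backward.isDefEq.respectTransparency.types false
set_option backward.isDefEq.respectTransparency false

open CategoryTheory.Limits FibCat Groth.Agent.Stk19 Groth.Agent.Stk19b
namespace Groth.Agent.S12791


/-- (2) ⇔ (3): for an algebraic stack `𝒳` over `S`, the canonical 1-morphism `I_𝒳 ⟶ 𝒳` from the inertia
is an equivalence over `(Sch/S)` if and only if `𝒳` is representable by an algebraic space. -/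
theorem result {S : Scheme.{u}} {𝒳 : AlgSt.Cat S}
    (h𝒳 : AlgSt.IsAlgStack Scheme.fppfPrecoverage 𝒳) :
    FibCat.IsEquivOver (FibCat.inertiaToBase (FibCat.toSelf 𝒳)) ↔ AlgSt.RepByAlgSp 𝒳 := by
  rw [inertia_equiv_iff _ h𝒳.isStack.1 fibGrpd_selfOver]
  exact ⟨fun h => repByAlgSp_of_setoid h𝒳 (fibSetoid_of_inertia h𝒳.isStack.1 ((inertia_equiv_iff _ h𝒳.isStack.1 fibGrpd_selfOver).2 h)),
    fun h => faithful_of_setoid _ (setoid_of_repByAlgSp h) fibGrpd_selfOver⟩

end Groth.Agent.S12791
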