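import Groth.Statements.S1280
import Groth.Agent.FlatMorAdm.Compactify

set_option autoImplicit false
universe u
open FlatMor
set_option backward.isDefEq.respectTransparency.types false

namespace Groth.Agent.S1280

open AlgebraicGeometry CategoryTheory Limits in
/-- Let S be a Noetherian scheme and U → S separated and of finite type. Suppose U = U₁ ∪ U₂ with U₁ ∩
U₂ dense in U, and that each U_i has a compactification over S (a quasi-compact open immersion over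
S into a scheme proper over S). Then U has a compactification over S. -/
theorem result {U S : Scheme.{u}} [IsNoetherian S] (g : U ⟶ S) [IsSeparated g] [LocallyOfFiniteType g] [QuasiCompact g]
    (U₁ U₂ : U.Opens) (hcov : U₁ ⊔ U₂ = ⊤) (hdense : Dense ((U₁ ⊓ U₂ : U.Opens) : Set U))
    (h₁ : ∃ (Y : Scheme.{u}) (j : (U₁ : Scheme.{u}) ⟶ Y) (p : Y ⟶ S), IsOpenImmersion j ∧ QuasiCompact j ∧ IsProper p ∧ j ≫ p = U₁.ι ≫ g)
    (h₂ : ∃ (Y : Scheme.{u}) (j : (U₂ : Scheme.{u}) ⟶ Y) (p : Y ⟶ S), IsOpenImmersion j ∧ QuasiCompact j ∧ IsProper p ∧ j ≫ p = U₂.ι ≫ g) :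
    ∃ (Y : Scheme.{u}) (j : U ⟶ Y) (p : Y ⟶ S), IsOpenImmersion j ∧ QuasiCompact j ∧ IsProper p ∧ j ≫ p = g := by
  obtain ⟨Y₁, j₁, p₁, hj₁, -, hp₁, e₁⟩ := h₁
  obtain ⟨Y₂, j₂, p₂, hj₂, -, hp₂, e₂⟩ := h₂
  exact FlatMorAdm.exists_compactification_of_two g U₁ U₂ hcov hdense j₁ p₁ e₁ j₂ p₂ e₂

end Groth.Agent.S1280
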