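import Groth.Statements.S12801
import Groth.Agent.Stk19.Restricted

set_option autoImplicit false
open CategoryTheory
universe v₂ u₂ v u
open Stk

namespace Groth.Agent.S12801

/-- Let `p : 𝒳 ⥤ C` make `𝒳` fibred in groupoids over `C` and let `J` be a Grothendieck topology on `C`.
A sieve `S` on an object `x` of `𝒳` belongs to the topology on `𝒳` generated by the sieves whose
image under `p` generates a covering sieve if and only if the image of `S` under `p` generates a
covering sieve of `p x`: the sieves whose image covers already satisfy the axioms of a topology (the
topology on `𝒳` inherited from `C`). (The published statement is for a fibred category, with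
coverings the families of strongly cartesian morphisms `{x_i ⟶ x}` such that `{p x_i ⟶ p x}` is a
covering; this row is the case of a category fibred in groupoids, where every morphism is strongly
cartesian, in sieve form.) -/
theorem result {C : Type u} [Category.{v} C] {𝒳 : Type u₂} [Category.{v₂} 𝒳] (p : 𝒳 ⥤ C)
    (hp : FibCat.IsFibGrpd p) (J : GrothendieckTopology C) {x : 𝒳} (S : Sieve x) :
    S ∈ p.restrictedTopology J x ↔ S.functorPushforward p ∈ J (p.obj x) := by
  exact Stk19.mem_restricted_iff hp J S

end Groth.Agent.S12801
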