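import Groth.Statements.S12807
import Groth.Agent.Stk19.Misc

set_option autoImplicit false
open CategoryTheory CategoryTheory.Limits
universe v₃ u₃ v₂ u₂ v u
open FibCat

namespace Groth.Agent.S12807

/-- Let `u : C ⥤ D` be a functor and `𝒮` a category over `D` whose structure functor is a fibred
category. Then the 2-fibre product `C ×_D 𝒮` of `u` and the structure functor (triples `(U, y, u U ≅
p y)`), with its first projection, is a fibred category over `C`. (The published statement uses the
strict fibre product, pairs with `u U = p y`; for `𝒮` fibred over `D` it is equivalent over `C` to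
the 2-fibre product used here.) -/
theorem result {C : Type u} [Category.{v} C] {D : Type u₂} [Category.{v₂} D] (u : C ⥤ D)
    (𝒮 : BasedCategory.{v₃, u₃} D) [𝒮.p.IsFibered] :
    (CategoricalPullback.π₁ u 𝒮.p).IsFibered := by
  exact Groth.Agent.Stk19.fibered_pullback_fst u 𝒮

end Groth.Agent.S12807
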