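import Groth.Statements.S1281
import Groth.Agent.FlatMorAdm.Common

set_option autoImplicit false
universe u
open FlatMor
set_option backward.isDefEq.respectTransparency.types false

namespace Groth.Agent.S1281

open AlgebraicGeometry CategoryTheory Limits in
/-- Let S be quasi-compact and quasi-separated and let j₁ : U → X₁, j₂ : U → X₂ be open immersions over
S, with U, X₁, X₂ separated and of finite type over S. Then there are a scheme X separated and of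
finite type over S, blow-ups b_i : X_i' → X_i in finite type quasi-coherent ideals with support
disjoint from the image of U, open immersions X_i' → X over S, and lifts U → X_i' of j_i, such that
the two composites U → X_i' → X agree. -/
theorem result {U X₁ X₂ S : Scheme.{u}} [CompactSpace S] [QuasiSeparatedSpace S]
    (gU : U ⟶ S) (g₁ : X₁ ⟶ S) (g₂ : X₂ ⟶ S)
    [IsSeparated gU] [LocallyOfFiniteType gU] [QuasiCompact gU]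
    [IsSeparated g₁] [LocallyOfFiniteType g₁] [QuasiCompact g₁]
    [IsSeparated g₂] [LocallyOfFiniteType g₂] [QuasiCompact g₂]
    (j₁ : U ⟶ X₁) (j₂ : U ⟶ X₂) [IsOpenImmersion j₁] [IsOpenImmersion j₂] (hj₁ : j₁ ≫ g₁ = gU) (hj₂ : j₂ ≫ g₂ = gU) :
    ∃ (X : Scheme.{u}) (q : X ⟶ S) (_ : IsSeparated q) (_ : LocallyOfFiniteType q) (_ : QuasiCompact q)
      (𝓘₁ : X₁.IdealSheafData) (𝓘₂ : X₂.IdealSheafData) (X₁' X₂' : Scheme.{u}) (b₁ : X₁' ⟶ X₁) (b₂ : X₂' ⟶ X₂)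
      (o₁ : X₁' ⟶ X) (o₂ : X₂' ⟶ X) (u₁ : U ⟶ X₁') (u₂ : U ⟶ X₂'),
      BlowUp.IsBlowUp b₁ 𝓘₁ ∧ BlowUp.IsAdmissibleFor j₁.opensRange 𝓘₁ ∧
      BlowUp.IsBlowUp b₂ 𝓘₂ ∧ BlowUp.IsAdmissibleFor j₂.opensRange 𝓘₂ ∧
      IsOpenImmersion o₁ ∧ IsOpenImmersion o₂ ∧ o₁ ≫ q = b₁ ≫ g₁ ∧ o₂ ≫ q = b₂ ≫ g₂ ∧
      u₁ ≫ b₁ = j₁ ∧ u₂ ≫ b₂ = j₂ ∧ u₁ ≫ o₁ = u₂ ≫ o₂ := by
  haveI : CompactSpace U := QuasiCompact.compactSpace_of_compactSpace gU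
  obtain ⟨X, q, h1, h2, h3, I₁, I₂, X₁', X₂', b₁, b₂, o₁, o₂, u₁, u₂, hb₁, ha₁, hb₂, ha₂, ho₁, ho₂,
    hoq₁, hoq₂, hu₁, hu₂, huo, -⟩ :=
    FlatMorAdm.exists_common_target g₁ g₂ j₁ j₂ (hj₁.trans hj₂.symm)
  exact ⟨X, q, h1, h2, h3, I₁, I₂, X₁', X₂', b₁, b₂, o₁, o₂, u₁, u₂, hb₁, ha₁, hb₂, ha₂, ho₁, ho₂,
    hoq₁, hoq₂, hu₁, hu₂, huo⟩

end Groth.Agent.S1281
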