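import Groth.Statements.S1282
import Groth.Agent.FlatMorAdm.Strict
import Groth.Agent.ModPairLib.LocPullback

set_option autoImplicit false
universe u
open FlatMor
set_option backward.isDefEq.respectTransparency.types false

namespace Groth.Agent.S1282

open AlgebraicGeometry CategoryTheory Limits in
/-- Let f : X → Y be a proper morphism with X and Y quasi-compact and quasi-separated, V ⊆ Y a
quasi-compact open, and T ⊆ V a subset closed in V such that f is an isomorphism over some open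
neighbourhood of T inside V. Then there is a V-admissible blow-up b : Y' → Y such that, over some
open W' of Y' containing the closure of b⁻¹(T), the strict transform X'' → Y' of f (X'' the closed
subscheme of X ×_Y Y' cut out by the functions locally killed by a power of the pulled-back
exceptional ideal) restricts to an isomorphism. -/
theorem result {X Y : Scheme.{u}} [CompactSpace X] [QuasiSeparatedSpace X] [CompactSpace Y] [QuasiSeparatedSpace Y]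
    (f : X ⟶ Y) [IsProper f] (V : Y.Opens) (hV : IsCompact (V : Set Y)) (T : Set Y) (hTV : T ⊆ V)
    (hT : IsClosed (Subtype.val ⁻¹' T : Set V))
    (hiso : ∃ W : Y.Opens, T ⊆ W ∧ W ≤ V ∧ IsIso (f ∣_ W)) :
    ∃ (𝓘 : Y.IdealSheafData) (Y' : Scheme.{u}) (b : Y' ⟶ Y), BlowUp.IsBlowUp b 𝓘 ∧ BlowUp.IsAdmissibleFor V 𝓘 ∧
      ∀ (X' : Scheme.{u}) (p₁ : X' ⟶ X) (p₂ : X' ⟶ Y'), IsPullback p₁ p₂ f b →
      ∀ (𝒥 : X'.IdealSheafData),
        (∀ (W : X'.affineOpens) (a : Γ(X', W.1)), a ∈ 𝒥.ideal W ↔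
          BlowUp.KilledByPowerNear ((𝓘.comap f).comap p₁) (Coh.structureModule X') W a) →
        ∃ W' : Y'.Opens, closure (b.base ⁻¹' T) ⊆ W' ∧ IsIso ((𝒥.subschemeι ≫ p₂) ∣_ W') := by
  classical
  obtain ⟨W₀, hTW₀, hW₀V, hW₀iso⟩ := hiso
  -- a quasi-compact neighbourhood of `T` over which `f` is an isomorphism
  haveI : CompactSpace (V : Scheme.{u}) := isCompact_iff_compactSpace.1 hV
  have hTc : IsCompact T := by
    have h := hT.isCompact.image continuous_subtype_val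
    have e : Subtype.val '' (Subtype.val ⁻¹' T : Set V) = T :=
      Set.image_preimage_eq_of_subset fun x hx => ⟨⟨x, hTV hx⟩, rfl⟩
    exact e ▸ h
  have hnbhd : ∀ (A : Set Y) (O : Y.Opens), IsCompact A → A ⊆ O →
      ∃ N : Y.Opens, A ⊆ N ∧ N ≤ O ∧ IsCompact (N : Set Y) := by
    intro A O hA hAO
    choose P hP hle using fun a : A => BlowUpLib.exists_affine_mem_le (hAO a.2)
    obtain ⟨s, hs⟩ := hA.elim_finite_subcover (fun a : A => ((P a).1 : Set Y))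
      (fun a => (P a).1.2) (fun a ha => Set.mem_iUnion.2 ⟨⟨a, ha⟩, hP ⟨a, ha⟩⟩)
    refine ⟨s.sup fun a => (P a).1, ?_, Finset.sup_le fun a _ => hle a, ?_⟩
    · refine hs.trans ?_
      intro x hx
      obtain ⟨a, ha, hxa⟩ := Set.mem_iUnion₂.1 hx
      exact (Finset.le_sup (f := fun a => (P a).1) ha) hxa
    · rw [TopologicalSpace.Opens.coe_finset_sup, Finset.sup_set_eq_biUnion]
      exact s.finite_toSet.isCompact_biUnion fun a _ => (P a).2.isCompact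
  obtain ⟨W, hTW, hWW₀, hWc⟩ := hnbhd T W₀ hTc hTW₀
  have hWV : W ≤ V := hWW₀.trans hW₀V
  haveI hWiso : IsIso (f ∣_ W) := ModPairLib.isIso_restrict_mono hWW₀
  -- separate `T` from `V ∖ W`
  have hsepc : IsCompact ((V : Set Y) \ (W : Set Y)) := hV.diff W.2
  have hTcl : ∀ x ∈ closure T, x ∈ V → x ∈ T := by
    intro x hx hxV
    have : (⟨x, hxV⟩ : V) ∈ closure (Subtype.val ⁻¹' T : Set V) := by
      refine closure_subtype.2 ?_
      have e : Subtype.val '' (Subtype.val ⁻¹' T : Set V) = T :=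
        Set.image_preimage_eq_of_subset fun y hy => ⟨⟨y, hTV hy⟩, rfl⟩
      exact e.symm ▸ hx
    exact hT.closure_eq.le this
  obtain ⟨N, hN, hNle, hNc⟩ := hnbhd _ (V ⊓ ⟨(closure T)ᶜ, isClosed_closure.isOpen_compl⟩) hsepc
    (fun x hx => ⟨hx.1, fun h => hx.2 (hTW (hTcl x h hx.1))⟩)
  obtain ⟨I₁, hI₁, hs₁⟩ := BlowUpLib.exists_finiteType_support_eq (N : Set Y)ᶜ N.2.isClosed_compl
    (by rwa [compl_compl])
  obtain ⟨I₂, hI₂, hs₂⟩ := BlowUpLib.exists_finiteType_support_eq (W : Set Y)ᶜ W.2.isClosed_compl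
    (by rwa [compl_compl])
  obtain ⟨M, hM, hMs⟩ := BlowUpLib.exists_finiteType_support_eq (V : Set Y)ᶜ V.2.isClosed_compl
    (by rwa [compl_compl])
  have hft : ∀ {I J : Y.IdealSheafData}, BlowUp.IsFiniteTypeIdeal I → BlowUp.IsFiniteTypeIdeal J →
      BlowUp.IsFiniteTypeIdeal (I * J) := by
    intro I J hI hJ P
    rw [Scheme.IdealSheafData.ideal_mul, Pi.mul_apply]
    exact (hI P).mul (hJ P)
  have hsepft : BlowUp.IsFiniteTypeIdeal (I₁ ⊔ I₂) := fun P => by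
    rw [Scheme.IdealSheafData.ideal_sup, Pi.sup_apply]
    exact Submodule.FG.sup (hI₁ P) (hI₂ P)
  have hsepV : ∀ x ∈ ((I₁ ⊔ I₂).support : Set Y), x ∉ V := by
    intro x hx hxV
    rw [Scheme.IdealSheafData.support_sup] at hx
    have h1 : x ∉ N := hs₁.le hx.1
    have h2 : x ∉ W := hs₂.le hx.2
    exact h1 (hN ⟨hxV, h2⟩)
  obtain ⟨Y₁, b₁, hb₁⟩ := BlowUpLib.exists_isBlowUp (I := I₁ ⊔ I₂)
  haveI : IsProper b₁ := BlowUpLib.isProper_of_isBlowUp hb₁ hsepft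
  haveI : CompactSpace Y₁ := QuasiCompact.compactSpace_of_compactSpace b₁
  haveI : QuasiSeparatedSpace Y₁ := quasiSeparatedSpace_of_quasiSeparated b₁
  set B : Set Y₁ := closure (b₁ ⁻¹' ((V : Set Y) \ (W : Set Y))) with hB
  have hdisj : Disjoint (closure (b₁ ⁻¹' T)) B := by
    rw [Set.disjoint_left]
    intro z hz₁ hz₂
    obtain ⟨P, hzP, -⟩ := BlowUpLib.exists_affine_mem_le (show b₁ z ∈ (⊤ : Y.Opens) from trivial)
    obtain ⟨a, has, haloc⟩ := BlowUpLib.exists_mem_locus b₁ hb₁.1 P (show z ∈ b₁ ⁻¹ᵁ P.1 from hzP)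
      ((I₁.ideal P : Set Γ(Y, P.1)) ∪ (I₂.ideal P : Set Γ(Y, P.1)))
      (by rw [Ideal.span_union, Ideal.span_eq, Ideal.span_eq, Scheme.IdealSheafData.ideal_sup]; rfl)
    obtain ⟨P', hzP', eP, hgen⟩ := BlowUpLib.mem_locus.1 haloc
    have key : ∀ (I : Y.IdealSheafData), a ∈ I.ideal P → ∀ x ∈ P'.1, b₁ x ∈ V →
        b₁ x ∉ (I.support : Set Y) := by
      intro I haI x hx hxV hxI
      have h2 : (b₁.appLE P.1 P'.1 eP).hom a ∈ BlowUpLib.prm x hx :=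
        (BlowUpLib.appLE_mem_prm b₁ eP hx).2 ((BlowUpLib.mem_support_iff_le_prm I P (eP hx)).1 hxI haI)
      refine hsepV _ ((BlowUpLib.mem_support_iff_le_prm _ P (eP hx)).2 fun c hc => ?_) hxV
      obtain ⟨c', hc'⟩ := Ideal.mem_span_singleton'.1
        (hgen.le (ProjLib.map_ideal_le_comap_ideal _ b₁ P P' eP (Ideal.mem_map_of_mem _ hc)))
      rw [← BlowUpLib.appLE_mem_prm b₁ eP hx]
      exact hc' ▸ Ideal.mul_mem_left _ c' h2
    rcases has with ha | ha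
    · obtain ⟨x, hx, hxT⟩ := mem_closure_iff.1 hz₁ P'.1 P'.1.isOpen hzP'
      refine key I₁ ha x hx (hTV hxT) (hs₁.ge fun hxN => ?_)
      exact (hNle hxN).2 (subset_closure hxT)
    · obtain ⟨x, hx, hxB⟩ := mem_closure_iff.1 hz₂ P'.1 P'.1.isOpen hzP'
      exact key I₂ ha x hx hxB.1 (hs₂.ge hxB.2)
  -- a quasi-compact open around the closure of `T`, meeting the preimage of `V` in that of `W`
  have hW₁c : IsCompact (b₁ ⁻¹' (W : Set Y)) := QuasiCompact.isCompact_preimage _ W.2 hWc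
  have hW₁B : b₁ ⁻¹' (W : Set Y) ⊆ Bᶜ := by
    intro x hx hxB
    obtain ⟨y, hy1, hy2⟩ := mem_closure_iff.1 hxB _ (W.2.preimage b₁.continuous) hx
    exact hy2.2 hy1
  obtain ⟨X₂, hX₂, hX₂B, hX₂c⟩ : ∃ N : Y₁.Opens,
      closure (b₁ ⁻¹' T) ∪ b₁ ⁻¹' (W : Set Y) ⊆ N ∧ (N : Set Y₁) ⊆ Bᶜ ∧ IsCompact (N : Set Y₁) := by
    have hA : IsCompact (closure (b₁ ⁻¹' T) ∪ b₁ ⁻¹' (W : Set Y)) :=
      isClosed_closure.isCompact.union hW₁c
    have hAB : closure (b₁ ⁻¹' T) ∪ b₁ ⁻¹' (W : Set Y) ⊆ Bᶜ :=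
      Set.union_subset hdisj.subset_compl_right hW₁B
    choose P hP hle using fun a : (closure (b₁ ⁻¹' T) ∪ b₁ ⁻¹' (W : Set Y) : Set Y₁) =>
      BlowUpLib.exists_affine_mem_le
        (show a.1 ∈ (⟨Bᶜ, isClosed_closure.isOpen_compl⟩ : Y₁.Opens) from hAB a.2)
    obtain ⟨s, hs⟩ := hA.elim_finite_subcover (fun a => ((P a).1 : Set Y₁))
      (fun a => (P a).1.2) (fun a ha => Set.mem_iUnion.2 ⟨⟨a, ha⟩, hP ⟨a, ha⟩⟩)
    refine ⟨s.sup fun a => (P a).1, ?_, ?_, ?_⟩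
    · intro x hx
      obtain ⟨a, ha, hxa⟩ := Set.mem_iUnion₂.1 (hs hx)
      exact (Finset.le_sup (f := fun a => (P a).1) ha) hxa
    · exact Finset.sup_le (a := (⟨Bᶜ, isClosed_closure.isOpen_compl⟩ : Y₁.Opens)) fun a _ => hle a
    · rw [TopologicalSpace.Opens.coe_finset_sup, Finset.sup_set_eq_biUnion]
      exact s.finite_toSet.isCompact_biUnion fun a _ => (P a).2.isCompact
  have hX₂V : ∀ x ∈ X₂, b₁ x ∈ V → b₁ x ∈ W := fun x hx hxV => by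
    by_contra h
    exact hX₂B hx (subset_closure ⟨hxV, h⟩)
  haveI : CompactSpace (X₂ : Scheme.{u}) := isCompact_iff_compactSpace.1 hX₂c
  haveI : CompactSpace (W : Scheme.{u}) := isCompact_iff_compactSpace.1 hWc
  -- the ideal making the strict transform an open immersion, and its `V`-admissible enlargement
  obtain ⟨K₀, hK₀, hK₀d, hopen⟩ := FlatMorAdm.exists_isOpenImmersion f W hWc
    (inv (f ∣_ W) ≫ (f ⁻¹ᵁ W).ι) (by rw [Category.assoc, ← morphismRestrict_ι, IsIso.inv_hom_id_assoc])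
  have hK₀I₂s : ((K₀ * I₂).support : Set Y) = (W : Set Y)ᶜ := by
    rw [Scheme.IdealSheafData.support_mul]
    refine Set.Subset.antisymm ?_ fun x hx => Or.inr (hs₂.ge hx)
    rintro x (hx | hx)
    · exact fun h => Set.disjoint_left.1 hK₀d hx h
    · exact hs₂.le hx
  have hle₁ : b₁ ⁻¹ᵁ W ≤ X₂ := fun x hx => hX₂ (Or.inr hx)
  haveI : CompactSpace ((b₁ ⁻¹ᵁ W : Y₁.Opens) : Scheme.{u}) := isCompact_iff_compactSpace.1 hW₁c
  haveI : QuasiSeparatedSpace (X₂ : Scheme.{u}) := quasiSeparatedSpace_of_quasiSeparated X₂.ι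
  haveI : QuasiCompact (Y₁.homOfLE hle₁) := quasiCompact_of_compactSpace _
  obtain ⟨K₁, hK₁, hK₁s, heps⟩ := FlatMorAdm.exists_eps (X₂.ι ≫ b₁) (Y₁.homOfLE hle₁) V hV
    (K₀ * I₂) (hft hK₀ hI₂)
    (fun y => by
      rw [hK₀I₂s, ← Scheme.Hom.comp_apply, Scheme.homOfLE_ι_assoc]
      exact not_not.2 y.2)
    (fun z _ hz hzV => hK₀I₂s.le hz (hX₂V z.1 z.2 hzV))
  have hKs : (((K₁ * (I₁ ⊔ I₂)) * M).support : Set Y) = (V : Set Y)ᶜ := by
    rw [Scheme.IdealSheafData.support_mul, Scheme.IdealSheafData.support_mul]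
    refine Set.Subset.antisymm ?_ fun x hx => Or.inr (hMs.ge hx)
    rintro x ((hx | hx) | hx)
    · exact (hK₁s hx).2
    · exact hsepV x hx
    · exact hMs.le hx
  obtain ⟨Y', b, hb⟩ := BlowUpLib.exists_isBlowUp (I := (K₁ * (I₁ ⊔ I₂)) * M)
  refine ⟨(K₁ * (I₁ ⊔ I₂)) * M, Y', b, hb, ⟨hft (hft hK₁ hsepft) hM, ?_⟩, ?_⟩
  · rw [hKs]
    exact disjoint_compl_left
  intro X' p₁ p₂ H 𝒥 h𝒥
  have hint : ModPair.interior (((K₁ * (I₁ ⊔ I₂)) * M).comap b) = b ⁻¹ᵁ V := by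
    rw [ModPairLib.interior_comap]
    have : ModPair.interior ((K₁ * (I₁ ⊔ I₂)) * M) = V := by
      ext x
      show x ∈ (((K₁ * (I₁ ⊔ I₂)) * M).support : Set Y)ᶜ ↔ _
      rw [hKs, compl_compl]
    rw [this]
  have hc₁ : BlowUp.IsEffCartierIdeal ((I₁ ⊔ I₂).comap b) := by
    have := hb.1
    rw [ModPairLib.comap_mul, ModPairLib.comap_mul] at this
    exact SDiv28.isEffCartier_right_of_mul (SDiv28.isEffCartier_left_of_mul this)
  have hcK : BlowUp.IsEffCartierIdeal (K₁.comap b) := by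
    have := hb.1
    rw [ModPairLib.comap_mul, ModPairLib.comap_mul] at this
    exact SDiv28.isEffCartier_left_of_mul (SDiv28.isEffCartier_left_of_mul this)
  obtain ⟨h, hh, -⟩ := hb₁.2 Y' b hc₁
  have hh' : ∀ y, b₁ (h y) = b y := fun y => by rw [← Scheme.Hom.comp_apply, hh]
  let O : Y'.Opens := h ⁻¹ᵁ X₂
  have hOV : ∀ x ∈ O, b x ∈ V → b x ∈ W := fun x hx hxV => by
    have hx' : h x ∈ X₂ := hx
    have := hX₂V (h x) hx'
    rw [hh'] at this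
    exact this hxV
  have hdense : Dense ((b ⁻¹ᵁ V : Y'.Opens) : Set Y') :=
    FlatMorAdm.dense_of_isDenseOpen (hint ▸ ModPairLib.isDenseOpen_interior hb.1)
  -- `K₀ * I₂` is invertible on `O`
  have hO : BlowUp.IsEffCartierIdeal ((K₀ * I₂).comap (O.ι ≫ b)) := by
    refine FlatMor12.BlowUpDisjoint.isEffCartierIdeal_of_cover _ fun y => ?_
    obtain ⟨O₁, hyO₁, hO₁⟩ := heps Y' (h ⁻¹ᵁ X₂ : Y'.Opens) b (h ∣_ X₂) O.ι
      (by rw [morphismRestrict_ι_assoc, hh]) hcK y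
      (by
        refine mem_closure_iff.2 fun G hG hyG => ?_
        obtain ⟨G', hG', rfl⟩ := isOpen_induced_iff.1 hG
        obtain ⟨w, ⟨hwG, hwO⟩, hwV⟩ := mem_closure_iff.1 (hdense y.1) (G' ∩ (O : Set Y'))
          (hG'.inter O.2) ⟨hyG, y.2⟩
        refine ⟨⟨w, hwO⟩, hwG, ⟨h w, show b₁ (h w) ∈ W by rw [hh']; exact hOV w hwO hwV⟩, ?_⟩
        apply X₂.ι.injective
        show X₂.ι (Y₁.homOfLE hle₁ _) = X₂.ι ((h ∣_ X₂) _)
        simp only [← Scheme.Hom.comp_apply, Scheme.homOfLE_ι, morphismRestrict_ι]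
        rfl)
    refine ⟨(O.ι ⁻¹ᵁ O₁ : Scheme.Opens O.toScheme), (O.ι ⁻¹ᵁ O₁).ι, inferInstance, ?_, ?_⟩
    · rw [Scheme.Opens.range_ι]
      exact hyO₁
    · have hfac : (O.ι ⁻¹ᵁ O₁).ι ≫ O.ι ≫ b = (O.ι ∣_ O₁) ≫ O₁.ι ≫ b := by
        rw [morphismRestrict_ι_assoc]
      rw [← Scheme.IdealSheafData.comap_comp, hfac, Scheme.IdealSheafData.comap_comp]
      exact FlatMor12.BlowUpDisjoint.isEffCartierIdeal_comap _ hO₁ _
  have hcK₀ : BlowUp.IsEffCartierIdeal (K₀.comap (O.ι ≫ b)) := by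
    have := hO
    rw [ModPairLib.comap_mul] at this
    exact SDiv28.isEffCartier_left_of_mul this
  have hdW : Dense (((O.ι ≫ b) ⁻¹ᵁ W : Scheme.Opens O.toScheme) : Set O.toScheme) := by
    refine FlatMorAdm.dense_of_isDenseOpen ?_
    have := ModPairLib.isDenseOpen_interior hO
    rw [ModPairLib.interior_comap] at this
    have hW' : ModPair.interior (K₀ * I₂) = W := by
      ext x
      show x ∈ ((K₀ * I₂).support : Set Y)ᶜ ↔ _
      rw [hK₀I₂s, compl_compl]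
    rwa [hW'] at this
  -- the strict transform over `O`
  have H' : IsPullback ((p₂ ⁻¹ᵁ O).ι ≫ p₁) (p₂ ∣_ O) f (O.ι ≫ b) :=
    (isPullback_morphismRestrict p₂ O).flip.paste_horiz H
  haveI : QuasiCompact W.ι := quasiCompact_of_compactSpace _
  haveI : QuasiCompact ((O.ι ≫ b) ⁻¹ᵁ W).ι := MorphismProperty.of_isPullback (P := @QuasiCompact.{u})
    (isPullback_morphismRestrict (O.ι ≫ b) W) ‹_›
  haveI : IsProper (p₂ ∣_ O) := MorphismProperty.of_isPullback (P := @IsProper.{u}) H' ‹_›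
  let σ := H'.lift (((O.ι ≫ b) ∣_ W) ≫ inv (f ∣_ W) ≫ (f ⁻¹ᵁ W).ι) ((O.ι ≫ b) ⁻¹ᵁ W).ι (by
    rw [Category.assoc, Category.assoc, ← morphismRestrict_ι f, IsIso.inv_hom_id_assoc,
      morphismRestrict_ι])
  have h₁ : σ ≫ (p₂ ⁻¹ᵁ O).ι ≫ p₁ = ((O.ι ≫ b) ∣_ W) ≫ inv (f ∣_ W) ≫ (f ⁻¹ᵁ W).ι :=
    H'.lift_fst _ _ _
  have h₂ : σ ≫ (p₂ ∣_ O) = ((O.ι ≫ b) ⁻¹ᵁ W).ι := H'.lift_snd _ _ _
  haveI : QuasiCompact (σ ≫ (p₂ ∣_ O)) := by rw [h₂]; infer_instance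
  haveI : QuasiCompact σ := QuasiCompact.of_comp σ (p₂ ∣_ O)
  haveI := hopen O (p₂ ⁻¹ᵁ O : X'.Opens) (O.ι ≫ b) _ _ H' σ h₁ h₂ hcK₀
  haveI : IsIso (σ.imageι ≫ (p₂ ∣_ O)) := by
    refine FlatMorAdm.surjective_of_dense _ _ _ hdW ?_
    intro x hx
    refine ⟨σ.toImage ⟨x, hx⟩, ?_⟩
    rw [← Scheme.Hom.comp_apply, Scheme.Hom.toImage_imageι_assoc, h₂]
    rfl
  refine ⟨O, ?_, ?_⟩
  · intro x hx
    refine hX₂ (Or.inl (closure_mono ?_ (image_closure_subset_closure_image h.continuous ⟨x, hx, rfl⟩)))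
    rintro _ ⟨y, hy, rfl⟩
    show b₁ (h y) ∈ T
    rw [hh']
    exact hy
  -- compare with the given strict transform
  have hV0 : ModPair.interior ((((K₁ * (I₁ ⊔ I₂)) * M).comap f).comap p₁) = p₂ ⁻¹ᵁ (b ⁻¹ᵁ V) := by
    rw [← Scheme.IdealSheafData.comap_comp, H.w, Scheme.IdealSheafData.comap_comp,
      ModPairLib.interior_comap, hint]
  haveI : QuasiCompact V.ι := quasiCompact_of_compactSpace _
  haveI : QuasiCompact (b ⁻¹ᵁ V).ι := MorphismProperty.of_isPullback (P := @QuasiCompact.{u})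
    (isPullback_morphismRestrict b V) ‹_›
  haveI hqc : QuasiCompact (p₂ ⁻¹ᵁ (b ⁻¹ᵁ V)).ι := MorphismProperty.of_isPullback (P := @QuasiCompact.{u})
    (isPullback_morphismRestrict p₂ (b ⁻¹ᵁ V)) ‹_›
  haveI : QuasiCompact (ModPair.interior ((((K₁ * (I₁ ⊔ I₂)) * M).comap f).comap p₁)).ι := by
    rw [hV0]; exact hqc
  have hJ : 𝒥 = (p₂ ⁻¹ᵁ (b ⁻¹ᵁ V)).ι.ker := by
    rw [FlatMorAdm.eq_ker_of_killedByPowerNear _ 𝒥 (FlatMorAdm.isFiniteType_comap _ _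
      (FlatMorAdm.isFiniteType_comap _ _ (hft (hft hK₁ hsepft) hM))) h𝒥, hV0]
  subst hJ
  set ι₀ := (p₂ ⁻¹ᵁ (b ⁻¹ᵁ V)).ι
  set i := ι₀.ker.subschemeι ∣_ (p₂ ⁻¹ᵁ O)
  haveI : IsClosedImmersion i := MorphismProperty.of_isPullback (P := @IsClosedImmersion.{u})
    (isPullback_morphismRestrict ι₀.ker.subschemeι (p₂ ⁻¹ᵁ O)).flip inferInstance
  have hi : i.ker = (ι₀ ∣_ (p₂ ⁻¹ᵁ O)).ker := by
    refine Scheme.IdealSheafData.ext (funext fun P => ?_)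
    rw [Scheme.ker_morphismRestrict_ideal, Scheme.ker_morphismRestrict_ideal,
      Scheme.IdealSheafData.ker_subschemeι]
  have hOW : ∀ y, (ι₀ ∣_ (p₂ ⁻¹ᵁ O) ≫ (p₂ ∣_ O)) y ∈ (O.ι ≫ b) ⁻¹ᵁ W := by
    intro y
    let z : Y' := ((ι₀ ∣_ (p₂ ⁻¹ᵁ O) ≫ (p₂ ∣_ O)) y).1
    refine hOV z ((ι₀ ∣_ (p₂ ⁻¹ᵁ O) ≫ (p₂ ∣_ O)) y).2 ?_
    have : z = p₂ (ι₀ y.1) := by
      show O.ι ((ι₀ ∣_ (p₂ ⁻¹ᵁ O) ≫ (p₂ ∣_ O)) y) = _
      rw [← Scheme.Hom.comp_apply, Category.assoc, morphismRestrict_ι, morphismRestrict_ι_assoc]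
      rfl
    rw [this]
    exact y.1.2
  let r := IsOpenImmersion.lift ((O.ι ≫ b) ⁻¹ᵁ W).ι (ι₀ ∣_ (p₂ ⁻¹ᵁ O) ≫ (p₂ ∣_ O)) (by
    rw [Scheme.Opens.range_ι]
    rintro _ ⟨y, rfl⟩
    exact hOW y)
  have hr : r ≫ ((O.ι ≫ b) ⁻¹ᵁ W).ι = ι₀ ∣_ (p₂ ⁻¹ᵁ O) ≫ (p₂ ∣_ O) := IsOpenImmersion.lift_fac _ _ _
  have hrσ : r ≫ σ = ι₀ ∣_ (p₂ ⁻¹ᵁ O) := by
    apply H'.hom_ext
    · rw [Category.assoc, h₁]
      have hm : Set.range ((ι₀ ∣_ (p₂ ⁻¹ᵁ O)) ≫ (p₂ ⁻¹ᵁ O).ι ≫ p₁) ⊆ Set.range (f ⁻¹ᵁ W).ι := by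
        rw [Scheme.Opens.range_ι]
        rintro _ ⟨y, rfl⟩
        show f (((ι₀ ∣_ (p₂ ⁻¹ᵁ O)) ≫ (p₂ ⁻¹ᵁ O).ι ≫ p₁) y) ∈ W
        rw [← Scheme.Hom.comp_apply, Category.assoc, Category.assoc, H.w,
          ← morphismRestrict_ι_assoc p₂ O]
        exact hOW y
      let l := IsOpenImmersion.lift (f ⁻¹ᵁ W).ι _ hm
      have hl : l ≫ (f ⁻¹ᵁ W).ι = _ := IsOpenImmersion.lift_fac _ _ hm
      have hl' : l ≫ (f ∣_ W) = r ≫ ((O.ι ≫ b) ∣_ W) := by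
        rw [← cancel_mono W.ι, Category.assoc, Category.assoc, morphismRestrict_ι,
          morphismRestrict_ι, reassoc_of% hl, reassoc_of% hr, H.w, ← morphismRestrict_ι_assoc p₂ O]
      rw [← reassoc_of% hl', IsIso.hom_inv_id_assoc, hl]
    · rw [Category.assoc, h₂, hr]
  have hσr : Set.range σ ⊆ Set.range (ι₀ ∣_ (p₂ ⁻¹ᵁ O)) := by
    rintro _ ⟨x, rfl⟩
    have hxO : p₂ ((p₂ ⁻¹ᵁ O).ι (σ x)) = x.1.1 := by
      rw [← Scheme.Hom.comp_apply, ← Scheme.Hom.comp_apply, ← morphismRestrict_ι,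
        ← Category.assoc, h₂]
      rfl
    have hxV : p₂ ((p₂ ⁻¹ᵁ O).ι (σ x)) ∈ b ⁻¹ᵁ V := by
      rw [hxO]
      exact hWV x.2
    refine ⟨⟨⟨_, hxV⟩, (σ x).2⟩, ?_⟩
    apply (p₂ ⁻¹ᵁ O).ι.injective
    rw [← Scheme.Hom.comp_apply, morphismRestrict_ι]
    rfl
  have hker : i.ker = σ.ker := by
    rw [hi]
    refine le_antisymm ?_ ?_
    · conv_rhs => rw [← IsOpenImmersion.lift_fac _ σ hσr]
      exact Scheme.Hom.le_ker_comp _ _
    · conv_rhs => rw [← hrσ]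
      exact Scheme.Hom.le_ker_comp _ _
  have hk2 : σ.imageι.ker = i.ker := by rw [hker, Scheme.IdealSheafData.ker_subschemeι]
  let l := IsClosedImmersion.lift σ.imageι i hk2.le
  haveI : IsIso l := IsClosedImmersion.isIso_lift σ.imageι i hk2
  have hl : l ≫ σ.imageι = i := IsClosedImmersion.lift_fac _ _ _
  rw [morphismRestrict_comp]
  show IsIso (i ≫ (p₂ ∣_ O))
  rw [← hl, Category.assoc]
  infer_instance

end Groth.Agent.S1282
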