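import Groth.Statements.S1283
import Groth.Agent.FlatMorAdm.Strict

set_option autoImplicit false
universe u
open FlatMor
set_option backward.isDefEq.respectTransparency.types false

namespace Groth.Agent.S1283

open AlgebraicGeometry CategoryTheory Limits in
/-- Let φ : X → S be separated and of finite type with S quasi-compact and quasi-separated, and U ⊆ S a
quasi-compact open over which φ is an isomorphism. Then there is a U-admissible blow-up b : S' → S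
such that the strict transform X'' of X (the closed subscheme of X ×_S S' cut out by the functions
locally killed by a power of the pulled-back exceptional ideal) maps to S' by an open immersion. -/
theorem result {X S : Scheme.{u}} [CompactSpace S] [QuasiSeparatedSpace S]
    (φ : X ⟶ S) [IsSeparated φ] [LocallyOfFiniteType φ] [QuasiCompact φ] (U : S.Opens) (hU : IsCompact (U : Set S)) [IsIso (φ ∣_ U)] :
    ∃ (𝓘 : S.IdealSheafData) (S' : Scheme.{u}) (b : S' ⟶ S), BlowUp.IsBlowUp b 𝓘 ∧ BlowUp.IsAdmissibleFor U 𝓘 ∧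
      ∀ (X' : Scheme.{u}) (p₁ : X' ⟶ X) (p₂ : X' ⟶ S'), IsPullback p₁ p₂ φ b →
      ∀ (𝒥 : X'.IdealSheafData),
        (∀ (W : X'.affineOpens) (a : Γ(X', W.1)), a ∈ 𝒥.ideal W ↔
          BlowUp.KilledByPowerNear ((𝓘.comap φ).comap p₁) (Coh.structureModule X') W a) →
        IsOpenImmersion (𝒥.subschemeι ≫ p₂) := by
  haveI : CompactSpace (U : Scheme.{u}) := isCompact_iff_compactSpace.1 hU
  obtain ⟨K, S', b, hb, hadm, hint, hmain⟩ := FlatMorAdm.exists_blowUp_isOpenImmersion φ U hU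
    (inv (φ ∣_ U) ≫ (φ ⁻¹ᵁ U).ι) (by rw [Category.assoc, ← morphismRestrict_ι, IsIso.inv_hom_id_assoc])
  refine ⟨K, S', b, hb, hadm, fun X' p₁ p₂ H 𝒥 h𝒥 => ?_⟩
  obtain ⟨σ', hσq, h₁, h₂, hopen⟩ := hmain X' p₁ p₂ H
  set E := (K.comap φ).comap p₁ with hEdef
  have hV : ModPair.interior E = p₂ ⁻¹ᵁ (b ⁻¹ᵁ U) := by
    rw [hEdef, ← Scheme.IdealSheafData.comap_comp, H.w, Scheme.IdealSheafData.comap_comp,
      ModPairLib.interior_comap, hint]
  have hE : BlowUp.IsFiniteTypeIdeal E :=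
    FlatMorAdm.isFiniteType_comap _ _ (FlatMorAdm.isFiniteType_comap _ _ hadm.1)
  haveI hqc : QuasiCompact (p₂ ⁻¹ᵁ (b ⁻¹ᵁ U)).ι := by
    haveI : QuasiCompact U.ι := quasiCompact_of_compactSpace _
    haveI : QuasiCompact (b ⁻¹ᵁ U).ι := MorphismProperty.of_isPullback (P := @QuasiCompact.{u})
      (isPullback_morphismRestrict b U) ‹_›
    exact MorphismProperty.of_isPullback (P := @QuasiCompact.{u})
      (isPullback_morphismRestrict p₂ (b ⁻¹ᵁ U)) ‹_›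
  haveI : QuasiCompact (ModPair.interior E).ι := by rw [hV]; exact hqc
  -- the section identifies the preimage of `U` with the complement of the exceptional divisor
  have hr : (p₂ ⁻¹ᵁ (b ⁻¹ᵁ U)).ι = (p₂ ∣_ (b ⁻¹ᵁ U)) ≫ σ' := by
    apply H.hom_ext
    · have hm : Set.range ((p₂ ⁻¹ᵁ (b ⁻¹ᵁ U)).ι ≫ p₁) ⊆ Set.range (φ ⁻¹ᵁ U).ι := by
        rw [Scheme.Opens.range_ι]
        rintro _ ⟨y, rfl⟩
        show φ (p₁ ((p₂ ⁻¹ᵁ (b ⁻¹ᵁ U)).ι y)) ∈ U
        rw [← Scheme.Hom.comp_apply, H.w]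
        exact y.2
      let l := IsOpenImmersion.lift (φ ⁻¹ᵁ U).ι ((p₂ ⁻¹ᵁ (b ⁻¹ᵁ U)).ι ≫ p₁) hm
      have hl : l ≫ (φ ⁻¹ᵁ U).ι = (p₂ ⁻¹ᵁ (b ⁻¹ᵁ U)).ι ≫ p₁ := IsOpenImmersion.lift_fac _ _ _
      have hl' : l ≫ (φ ∣_ U) = (p₂ ∣_ (b ⁻¹ᵁ U)) ≫ (b ∣_ U) := by
        rw [← cancel_mono U.ι, Category.assoc, Category.assoc, morphismRestrict_ι,
          morphismRestrict_ι, reassoc_of% hl, H.w, morphismRestrict_ι_assoc]
      rw [Category.assoc, h₁, ← reassoc_of% hl', IsIso.hom_inv_id_assoc, hl]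
    · rw [Category.assoc, h₂, morphismRestrict_ι]
  have hs : Set.range σ' ⊆ Set.range (p₂ ⁻¹ᵁ (b ⁻¹ᵁ U)).ι := by
    rw [Scheme.Opens.range_ι]
    rintro _ ⟨y, rfl⟩
    show p₂ (σ' y) ∈ b ⁻¹ᵁ U
    rw [← Scheme.Hom.comp_apply, h₂]
    exact y.2
  have hker : 𝒥 = σ'.ker := by
    rw [FlatMorAdm.eq_ker_of_killedByPowerNear E 𝒥 hE h𝒥]
    have : (ModPair.interior E).ι.ker = (p₂ ⁻¹ᵁ (b ⁻¹ᵁ U)).ι.ker := by rw [hV]
    rw [this]
    refine le_antisymm ?_ ?_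
    · conv_rhs => rw [← IsOpenImmersion.lift_fac _ σ' hs]
      exact Scheme.Hom.le_ker_comp _ _
    · conv_rhs => rw [hr]
      exact Scheme.Hom.le_ker_comp _ _
  subst hker
  exact hopen

end Groth.Agent.S1283
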