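import Groth.Statements.S12833
import Groth.Agent.InjLift19.Geom

set_option autoImplicit false
universe u
open CategoryTheory AlgebraicGeometry
open AlgSt

set_option backward.isDefEq.respectTransparency.types false
set_option backward.isDefEq.respectTransparency false

namespace Groth.Agent.S12833


/-- Let `f : 𝒳 ⟶ 𝒴` be a morphism of algebraic stacks over `S` whose diagonal is surjective on points
(for morphisms of algebraic stacks this is the same as universally injective; the published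
statement assumes the latter), `k` an algebraically closed field and `y : Spec k ⟶ 𝒴` whose point
lies in the image of `|𝒳| → |𝒴|`. Then `y` itself lifts: there is `x : Spec k ⟶ 𝒳` with `f ∘ x ≅ y`,
no field extension being needed. -/
theorem result {S : Scheme.{u}} {𝒳 𝒴 : AlgSt.Cat S}
    (h𝒳 : AlgSt.IsAlgStack Scheme.fppfPrecoverage 𝒳) (h𝒴 : AlgSt.IsAlgStack Scheme.fppfPrecoverage 𝒴) (f : 𝒳 ⥤ᵇ 𝒴) (hΔ : AlgSt.IsSurjective (FibCat.diag f))
    (k : Type u) [Field k] [IsAlgClosed k] (s : Spec (CommRingCat.of k) ⟶ S) (y : 𝒴.obj)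
    (hy : 𝒴.p.obj y = Over.mk s)
    (h : AlgSt.Points.mk ⟨k, s, y, hy⟩ ∈ Set.range (AlgSt.Points.map f)) :
    ∃ (x : 𝒳.obj) (φ : f.obj x ⟶ y), 𝒳.p.obj x = Over.mk s ∧ 𝒴.p.IsHomLift (𝟙 (Over.mk s)) φ := by
  have hT := Stk19.isAlgStack_overCat (Over.mk s)
  obtain ⟨z, iz, hiz⟩ := Stk19.exists_classifying h𝒴.isStack.1 y hy
  have hZ := Stk19.isAlgStack_fp h𝒴.isStack h𝒴.diag hT h𝒳 z f
  have hΔZ := Stk19.isSurjective_diag_fpFst h𝒳 h𝒴 hT z hΔ
  obtain ⟨a, ha⟩ := h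
  let o : (FibCat.overCat (Over.mk s)).obj := Over.mk (𝟙 (Over.mk s))
  have hpt : AlgSt.Points.map z (AlgSt.Points.mk ⟨k, s, o, rfl⟩) = AlgSt.Points.map f a := by
    rw [ha]
    refine AlgSt.Points.sound ⟨⟨k, s, z.obj o, z.w_obj o⟩, 𝟙 _, iz.hom, ?_⟩
    trivial
  obtain ⟨q, -, -⟩ := Stk19.exists_points_fp h𝒳.isStack.1 h𝒴.isStack.1 hT.isStack.1 f z _ a hpt
  obtain ⟨U, x, hx, hxs⟩ := hZ.atlas
  obtain ⟨Q, -⟩ := Stk19.isSurjective_of_with hZ.isStack.1 hxs q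
  obtain ⟨P, -⟩ := AlgSt.Points.mk_surjective Q
  have hne : Nonempty ↥U.left :=
    ⟨(eqToHom P.lies.symm ≫ P.obj.hom).left (IsLocalRing.closedPoint P.K)⟩
  obtain ⟨σ, hσ⟩ := InjLift19.exists_rational hZ (FibCat.fpFst z f) hΔZ x hx hne
  let b := x.obj (Over.mk σ)
  have eb : (FibCat.overCat (Over.mk s)).p.obj b.obj.fst = Over.mk s := x.w_obj (Over.mk σ)
  have hv : (FibCat.overCat (Over.mk s)).p.IsHomLift (𝟙 (Over.mk s)) (Stk19.toId b.obj.fst) :=
    IsHomLift.of_fac' _ _ _ eb rfl (by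
      show b.obj.fst.hom = _
      rw [show b.obj.fst.hom = eqToHom eb from hσ]
      simp)
  refine ⟨b.obj.snd, b.obj.iso.inv ≫ z.map (Stk19.toId b.obj.fst) ≫ iz.hom,
    ((Stk19.fp_base_eq b).trans eb : _), Stk19.vert_comp 𝒴.p _ _ ?_ (Stk19.vert_comp 𝒴.p _ _ ?_ hiz)⟩
  · exact Stk19.vert_inv 𝒴.p _ (Stk19.vert_change 𝒴.p _ b.property ((z.w_obj _).trans eb))
  · exact BasedFunctor.preserves_isHomLift z (𝟙 (Over.mk s)) (Stk19.toId b.obj.fst)

end Groth.Agent.S12833
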