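import Groth.Statements.S1285
import Groth.Agent.FlatMorDevissage.FibreSupport

set_option autoImplicit false
universe u
open FlatMor

namespace Groth.Agent.S1285

/-- Let (C, D, G) be a one-step dévissage of N/S/R over the prime p (see FlatCA.IsOneStepDevissage), and
suppose pD is prime (the generic point of the fibre of Spec D). Then there are r > 0 and a D-linear
map α from D^r to G which becomes bijective after base change to the residue field of pD; moreover
for every such α the support of the fibre module over p of the cokernel of α has dimension strictly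
less than that of the fibre module of N. -/
theorem result {R S : Type u} [CommRing R] [CommRing S] [Algebra R S] [Algebra.FiniteType R S]
    (N : Type u) [AddCommGroup N] [Module S N] [Module R N] [IsScalarTower R S N] [Module.Finite S N] (p : Ideal R) [p.IsPrime]
    (C D G : Type u) [CommRing C] [CommRing D] [Algebra S C] [Algebra R C] [IsScalarTower R S C]
    [Algebra R D] [Algebra D C] [IsScalarTower R D C] [AddCommGroup G] [Module C G] [Module S G] [IsScalarTower S C G]
    [Module D G] [IsScalarTower D C G] [Module R G] [IsScalarTower R D G]
    (n : ℕ) (h : FlatCA.IsOneStepDevissage R S N p C D G n) [(p.map (algebraMap R D)).IsPrime] :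
    (∃ (r : ℕ) (α : (Fin r → D) →ₗ[D] G), 0 < r ∧ Function.Bijective (α.baseChange (p.map (algebraMap R D)).ResidueField)) ∧
    ∀ (r : ℕ) (α : (Fin r → D) →ₗ[D] G), Function.Bijective (α.baseChange (p.map (algebraMap R D)).ResidueField) →
      Module.supportDim (p.Fiber D) (FlatCA.fiberMod p D (G ⧸ LinearMap.range α)) < (n : WithBot ℕ∞) := by
  classical
  obtain ⟨⟨e⟩, hsurj, -, hDC, hCG, hsm, -, hdim⟩ := h
  have : Module.Finite D C := hDC
  have : Module.Finite C G := hCG
  have : Module.Finite D G := Module.Finite.trans C G
  have : Algebra.IsIntegral D C := Algebra.IsIntegral.of_finite D C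
  have : Algebra.IsIntegral S C :=
    ⟨fun c => by obtain ⟨a, rfl⟩ := hsurj c; exact isIntegral_algebraMap⟩
  let P := p.map (algebraMap R D)
  have hle := Groth.Agent.FlatMorDevissage.krullDim_primesOverGE_le (p := p) hsm
  have hG : Module.annihilator D G ≤ P := by
    by_contra hc
    refine (Groth.Agent.FlatMorDevissage.krullDim_primesOverGE_lt hle hc).ne ?_
    rw [← hdim, Groth.Agent.FlatMorDevissage.supportDim_fiberMod, e.annihilator_eq,
      Groth.Agent.FlatMorDevissage.annihilator_eq_comap (B := S) (A := C) (G := G),
      Groth.Agent.FlatMorDevissage.annihilator_eq_comap (B := D) (A := C) (G := G),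
      Groth.Agent.FlatMorDevissage.krullDim_primesOverGE_comap,
      Groth.Agent.FlatMorDevissage.krullDim_primesOverGE_comap]
  have hz : ∀ z : PrimeSpectrum P.ResidueField,
      (PrimeSpectrum.comap (algebraMap D P.ResidueField) z).asIdeal = P := fun z => by
    have : z.asIdeal = ⊥ := (Ideal.eq_bot_or_top z.asIdeal).resolve_right z.isPrime.ne_top
    rw [PrimeSpectrum.comap_asIdeal, this, ← RingHom.ker_eq_comap_bot,
      Ideal.ker_algebraMap_residueField]
  refine ⟨?_, fun r α hα => ?_⟩
  · let K := P.ResidueField
    let M := TensorProduct D K G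
    let S₀ : Set M := Set.range fun g : G => (1 : K) ⊗ₜ[D] g
    have hspan : Submodule.span K S₀ = ⊤ := by
      refine top_le_iff.1 fun x _ => ?_
      induction x using TensorProduct.induction_on with
      | zero => exact zero_mem _
      | tmul a g =>
        have hag : a ⊗ₜ[D] g = a • ((1 : K) ⊗ₜ[D] g) := by
          rw [TensorProduct.smul_tmul', smul_eq_mul, mul_one]
        rw [hag]
        exact Submodule.smul_mem _ _ (Submodule.subset_span ⟨g, rfl⟩)
      | add x y hx hy => exact add_mem (hx trivial) (hy trivial)
    obtain ⟨t, htS, hts, hli⟩ := exists_linearIndependent K S₀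
    let bt : Module.Basis t K M := Module.Basis.mk hli (by rw [Subtype.range_coe_subtype, Set.setOf_mem_eq, hts, hspan])
    have : Finite t := Module.Finite.finite_basis bt
    let b : Module.Basis (Fin (Nat.card t)) K M := bt.reindex (Finite.equivFin t)
    choose g hg using fun i => htS ((Finite.equivFin t).symm i).2
    refine ⟨Nat.card t, (Pi.basisFun D (Fin (Nat.card t))).constr ℕ g, ?_, ?_⟩
    · rw [Nat.pos_iff_ne_zero]
      intro h0
      have hsub : Subsingleton M := by
        have : IsEmpty (Fin (Nat.card t)) := by rw [h0]; infer_instance
        exact b.repr.toEquiv.subsingleton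
      have := (Module.support_eq_empty_iff (R := K) (M := M)).2 hsub
      refine Set.eq_empty_iff_forall_notMem.1 this ⟨⊥, Ideal.isPrime_bot⟩
        ((Groth.Agent.FlatCrit.mem_support_baseChange_iff G _).2
          (Module.mem_support_iff_of_finite.2 ?_))
      rw [hz]
      exact hG
    · let b' := Algebra.TensorProduct.basis K (Pi.basisFun D (Fin (Nat.card t)))
      have hb : LinearMap.baseChange K ((Pi.basisFun D (Fin (Nat.card t))).constr ℕ g) =
          (b'.equiv b (Equiv.refl _)).toLinearMap := by
        refine b'.ext fun i => ?_
        rw [LinearEquiv.coe_coe, Module.Basis.equiv_apply, Algebra.TensorProduct.basis_apply,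
          LinearMap.baseChange_tmul, Module.Basis.constr_basis, Equiv.refl_apply]
        simp only [b, bt, Module.Basis.reindex_apply, Module.Basis.mk_apply]
        exact hg i
      show Function.Bijective (LinearMap.baseChange K ((Pi.basisFun D (Fin (Nat.card t))).constr ℕ g))
      rw [hb]
      exact LinearEquiv.bijective _
  · have : Module.Finite D (G ⧸ LinearMap.range α) := inferInstance
    rw [Groth.Agent.FlatMorDevissage.supportDim_fiberMod]
    refine Groth.Agent.FlatMorDevissage.krullDim_primesOverGE_lt hle fun hc => ?_
    have hsub : Subsingleton (TensorProduct D P.ResidueField (G ⧸ LinearMap.range α)) := by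
      refine subsingleton_of_forall_eq 0 fun x => ?_
      obtain ⟨y, rfl⟩ := LinearMap.lTensor_surjective P.ResidueField
        (Submodule.mkQ_surjective (LinearMap.range α)) x
      obtain ⟨z, rfl⟩ := hα.2 y
      show LinearMap.lTensor P.ResidueField (Submodule.mkQ _) (LinearMap.lTensor P.ResidueField α z) = 0
      rw [← LinearMap.lTensor_comp_apply, LinearMap.range_mkQ_comp, LinearMap.lTensor_zero,
        LinearMap.zero_apply]
    have := (Module.support_eq_empty_iff (R := P.ResidueField)
      (M := TensorProduct D P.ResidueField (G ⧸ LinearMap.range α))).2 hsub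
    refine Set.eq_empty_iff_forall_notMem.1 this ⟨⊥, Ideal.isPrime_bot⟩
      ((Groth.Agent.FlatCrit.mem_support_baseChange_iff _ _).2
        (Module.mem_support_iff_of_finite.2 ?_))
    rw [hz]
    exact hc

end Groth.Agent.S1285
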