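import Groth.Statements.S12852
import Groth.Agent.Stk19.AlgSt.SmLoc

set_option autoImplicit false
open CategoryTheory AlgebraicGeometry
universe u
open AlgSt

namespace Groth.Agent.S12852

/-- (2) ⇔ (4): suppose `P`, a property of schemes, is local for the smooth topology (for every jointly
surjective family of smooth morphisms `V_i ⟶ U`, `U` has `P` if and only if every `V_i` has `P`) and
`𝒳` an algebraic stack over `S`. Then every scheme admitting a smooth morphism to `𝒳` has `P` if and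
only if every algebraic space `U` admitting a smooth `U ⟶ 𝒳` has `P` (that is, some surjective etale
scheme chart of `U` has `P`). -/
theorem result {S : Scheme.{u}} {𝒳 : AlgSt.Cat S}
    (h𝒳 : AlgSt.IsAlgStack Scheme.fppfPrecoverage 𝒳) (P : Scheme.{u} → Prop)
    (hP : ∀ (U : Scheme.{u}) (R : Presieve U), R ∈ Scheme.precoverage @Smooth U →
      (P U ↔ ∀ ⦃V : Scheme.{u}⦄ (g : V ⟶ U), R g → P V)) :
    AlgSt.SmoothLocally P 𝒳 ↔
      ∀ (U : AlgSp.Space S) (x : AlgSt.ofSp U.obj ⥤ᵇ 𝒳),
        AlgSt.RepByAlgSpWith (AlgSp.LocP @Smooth) x → AlgSp.EtaleLocally P U.obj := by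
  refine ⟨fun h U x hx => Stk19.etaleLocally_of_smoothLocally h𝒳.isStack.1 h U hx, fun h => ?_⟩
  obtain ⟨U, x, hx, hs⟩ := h𝒳.atlas
  exact Stk19.smoothLocally_of_space_chart h𝒳 hP
    (Stk19.with_equiv_comp (Stk19.isEquivOver_toOverCat U) hx) (Stk19.with_equiv_comp (Stk19.isEquivOver_toOverCat U) hs)
    (h ⟨_, AlgSp.IsAlgSpace.yon_obj U⟩ _ (Stk19.with_equiv_comp (Stk19.isEquivOver_toOverCat U) hx))

end Groth.Agent.S12852
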