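import Groth.Statements.S12856
import Groth.Agent.Stk19.AlgSt.PointsTop

set_option autoImplicit false
open CategoryTheory AlgebraicGeometry
universe u
open AlgSt

namespace Groth.Agent.S12856

/-- (2) ⇔ (4): an algebraic stack `𝒳` over `S` admits a surjective smooth morphism from an affine scheme
if and only if it admits a surjective smooth morphism from a quasi-compact algebraic space. -/
theorem result {S : Scheme.{u}} {𝒳 : AlgSt.Cat S}
    (h𝒳 : AlgSt.IsAlgStack Scheme.fppfPrecoverage 𝒳) :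
    AlgSt.IsQuasiCompact 𝒳 ↔
      ∃ (U : AlgSp.Space S) (x : AlgSt.ofSp U.obj ⥤ᵇ 𝒳), AlgSp.IsQuasiCompactSp U.obj ∧
        AlgSt.RepByAlgSpWith (AlgSp.LocP @Smooth) x ∧ AlgSt.RepByAlgSpWith AlgSp.IsSurjectiveMor x := by
  constructor
  · rintro ⟨U, x, hU, h₁, h₂⟩
    refine ⟨⟨_, AlgSp.IsAlgSpace.yon_obj U⟩, BasedFunctor.comp (AlgSt.toOverCat U) x,
      Stk19.isQuasiCompactSp_yon U, ?_, ?_⟩
    · exact (Stk19.repByAlgSpWith_iff_of_square (f' := BasedFunctor.comp (AlgSt.toOverCat U) x) (f := x)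
        (Stk19.isEquivOver_toOverCat U) (Stk19.isEquivOver_id _) (Iso.refl _)).2 h₁
    · exact (Stk19.repByAlgSpWith_iff_of_square (f' := BasedFunctor.comp (AlgSt.toOverCat U) x) (f := x)
        (Stk19.isEquivOver_toOverCat U) (Stk19.isEquivOver_id _) (Iso.refl _)).2 h₂
  · rintro ⟨U, x, hU, -, hs⟩
    obtain ⟨V, c, hc, -, hV⟩ := Stk19.exists_sp_chart U
    have := hV hU
    have := Stk19.compactSpace_points_of_chart h𝒳 (BasedFunctor.comp c x) fun p => by
      obtain ⟨q, rfl⟩ := Stk19.isSurjective_of_with h𝒳.isStack.1 hs p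
      obtain ⟨t, rfl⟩ := hc q
      exact ⟨t, (Stk19.map_ofChart c x t).symm⟩
    exact Stk19.isQuasiCompact_of_compactSpace h𝒳

end Groth.Agent.S12856
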