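import Groth.Statements.S1286
import Groth.Agent.FlatMorBlowFree.Final

set_option autoImplicit false
universe u
open FlatMor

namespace Groth.Agent.S1286

open AlgebraicGeometry CategoryTheory Limits in
/-- Let S be quasi-compact and quasi-separated, U ⊆ S a quasi-compact open, f : X → S affine, of finite
presentation, flat, with geometrically integral fibres, and F a quasi-coherent O_X-module of finite
type whose restriction over U is of finite presentation and which is flat over S at every generic
point of a fibre over a point of U. Then there are a U-admissible blow-up b : S' → S and an open V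
of X' = X ×_S S' such that any strict transform of F restricts to a finite locally free O_V-module
and V → S' is surjective. -/
theorem result {X S : Scheme.{u}} [CompactSpace S] [QuasiSeparatedSpace S]
    (f : X ⟶ S) [IsAffineHom f] [LocallyOfFinitePresentation f] [Flat f] [GeometricallyIntegral f]
    (U : S.Opens) (hU : IsCompact (U : Set S))
    (F : X.Modules) (hqc : Coh.IsQCoh F) (hft : CohB1.IsFT F)
    (hfpU : CohB1.IsFP ((Scheme.Modules.pullback (f ⁻¹ᵁ U).ι).obj F))
    (hflU : ∀ x : X, f.base x ∈ U → closure ({f.asFiber x} : Set (f.fiber (f.base x))) = Set.univ → FlatMod.IsFlatOverAt f F x) :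
    ∃ (𝓘 : S.IdealSheafData) (S' : Scheme.{u}) (b : S' ⟶ S), BlowUp.IsBlowUp b 𝓘 ∧ BlowUp.IsAdmissibleFor U 𝓘 ∧
      ∀ (X' : Scheme.{u}) (p₁ : X' ⟶ X) (p₂ : X' ⟶ S'), IsPullback p₁ p₂ f b →
      ∀ (G : X'.Modules) (π : (Scheme.Modules.pullback p₁).obj F ⟶ G), BlowUp.IsStrictTransform p₁ (𝓘.comap f) F G π →
        ∃ V : X'.Opens, FlatMod.IsFinLocFree ((Scheme.Modules.pullback V.ι).obj G) ∧ Function.Surjective (V.ι ≫ p₂).base := by
  haveI := hqc
  exact Groth.Agent.FlatMorBlowFree.main f U hU F hft hfpU hflU

end Groth.Agent.S1286
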