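import Groth.Statements.S12860
import Groth.Agent.Stk19b.OpenSub.Range
import Groth.Agent.Stk19.AlgSt.Sep

set_option autoImplicit false
open CategoryTheory AlgebraicGeometry
universe u
open AlgSt

set_option backward.isDefEq.respectTransparency.types false
set_option backward.isDefEq.respectTransparency false

open CategoryTheory.Limits Groth.Agent.Stk19 Groth.Agent.Stk19b
namespace Groth.Agent.S12860


/-- Let `𝒳` be an algebraic stack over `S`, `U` an algebraic space with a surjective smooth `u : U ⟶ 𝒳`,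
and `j : V ⟶ U` an open immersion of algebraic spaces. Then there are an algebraic stack `𝒴`, an
open immersion `i : 𝒴 ⟶ 𝒳` and a surjective smooth `g : V ⟶ 𝒴` such that `i ∘ g` is 2-isomorphic to
`u ∘ j` (the compatibility is part of the published proof, which constructs `𝒴` as the image of
`V`). -/
theorem result {S : Scheme.{u}} {𝒳 : AlgSt.Cat S}
    (h𝒳 : AlgSt.IsAlgStack Scheme.fppfPrecoverage 𝒳) (U : AlgSp.Space S) (u : AlgSt.ofSp U.obj ⥤ᵇ 𝒳)
    (hu₁ : AlgSt.RepByAlgSpWith (AlgSp.LocP @Smooth) u) (hu₂ : AlgSt.RepByAlgSpWith AlgSp.IsSurjectiveMor u)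
    (V : AlgSp.Space S) (j : V ⟶ U) (hj : AlgSp.RepWith @IsOpenImmersion j.hom) :
    ∃ (𝒴 : AlgSt.Cat S) (i : 𝒴 ⥤ᵇ 𝒳) (g : AlgSt.ofSp V.obj ⥤ᵇ 𝒴),
      AlgSt.IsAlgStack Scheme.fppfPrecoverage 𝒴 ∧ AlgSt.IsOpenImm i ∧
        AlgSt.RepByAlgSpWith (AlgSp.LocP @Smooth) g ∧ AlgSt.RepByAlgSpWith AlgSp.IsSurjectiveMor g ∧
          Nonempty (BasedFunctor.comp g i ≅ BasedFunctor.comp (AlgSt.ofSpMap j.hom) u) := by
  have h := h𝒳.isStack.1
  have hV := (setoid_ofSp V.obj).1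
  have hU := (setoid_ofSp U.obj).1
  have hQ := AlgSpLib.etLocal_smooth
  have hjs : AlgSp.LocP @Smooth j.hom :=
    AlgSpLib.locP_of_repWith hQ V.property
      (AlgSpLib.RepWith.mono (fun _ _ g (_ : IsOpenImmersion g) => (inferInstance : Smooth g)) hj)
  let f : AlgSt.ofSp V.obj ⥤ᵇ 𝒳 := BasedFunctor.comp (AlgSt.ofSpMap j.hom) u
  have hf : AlgSt.RepByAlgSpWith (AlgSp.LocP @Smooth) f :=
    repByAlgSpWith_comp_desc (respSrc_locP hQ) (atlasDescent_locP hQ) (compStable_locP hQ) hV hU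
      (repByAlgSpWith_ofSpMap (pbStable_locP hQ) j.hom hjs) hu₁
  have hT : IsOpen (Set.range (AlgSt.Points.map f)) :=
    (isOpenMap_map_sp h𝒳 V (with_flat_of_smooth hf).1 (with_flat_of_smooth hf).2).isOpen_range
  let T := Set.range (AlgSt.Points.map f)
  have hY := isOpenSubstack_inSet h𝒳 hT
  let g : AlgSt.ofSp V.obj ⥤ᵇ AlgSt.fullSub 𝒳 (inSet T) :=
    { toFunctor := ObjectProperty.lift _ f.toFunctor (ptsOf_obj_subset hV h f)
      w := f.w }
  have hg : AlgSt.RepByAlgSpWith (AlgSp.LocP @Smooth) g :=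
    repByAlgSpWith_of_comp_ff g (AlgSt.subIncl 𝒳 (inSet T)) hf
  refine ⟨_, AlgSt.subIncl 𝒳 (inSet T), g, hY.2.1, hY.2.2, hg,
    with_surjective_of_isSurjective hV hY.2.1.isStack.1 (repByAlgSp1_of_with hg) fun z => ?_, ⟨Iso.refl _⟩⟩
  have hz : AlgSt.Points.map (AlgSt.subIncl 𝒳 (inSet T)) z ∈ T := by
    exact (range_subIncl_inSet T h).subset ⟨z, rfl⟩
  obtain ⟨v, hv⟩ := hz
  refine ⟨v, points_map_subIncl_injective h (fun _ _ φ hb => inSet_of_hom φ hb) ?_⟩
  rw [← hv, ← points_map_comp]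
  rfl

end Groth.Agent.S12860
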