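import Groth.Statements.S12863
import Groth.Agent.Stk19b.OpenSub.Cover

set_option autoImplicit false
open CategoryTheory AlgebraicGeometry
universe u w
open AlgSt

set_option backward.isDefEq.respectTransparency.types false
set_option backward.isDefEq.respectTransparency false

open CategoryTheory.Limits Groth.Agent.Stk19 Groth.Agent.Stk19b
namespace Groth.Agent.S12863

theorem reindex {S : Scheme.{u}} {𝒳 : AlgSt.Cat S}
    (h𝒳 : AlgSt.IsAlgStack Scheme.fppfPrecoverage 𝒳) {ι : Type w} (Q : ι → 𝒳.obj → Prop)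
    (hQ : ∀ i, AlgSt.IsOpenSubstack 𝒳 (Q i) Scheme.fppfPrecoverage)
    (hcov : ⋃ i, Set.range (AlgSt.Points.map (AlgSt.subIncl 𝒳 (Q i))) = Set.univ) :
    ∃ (κ : Type u) (T : κ → Set (AlgSt.Points 𝒳)), (∀ k, IsOpen (T k)) ∧ (∀ z, ∃ k, z ∈ T k) ∧
      ∀ k, ∃ i, Q i = inSet (T k) := by
  obtain ⟨U, x, -, hx⟩ := h𝒳.atlas
  have hm : ∀ t, ∃ i, AlgSt.Points.ofChart x t ∈ Set.range (AlgSt.Points.map (AlgSt.subIncl 𝒳 (Q i))) :=
    fun t => Set.mem_iUnion.1 (by rw [hcov]; trivial)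
  choose i hi using hm
  refine ⟨↥U.left, fun t => Set.range (AlgSt.Points.map (AlgSt.subIncl 𝒳 (Q (i t)))),
    fun t => isOpen_range_openSub h𝒳 (hQ _), fun z => ?_, fun t => ⟨i t, openSub_eq h𝒳 (hQ _)⟩⟩
  obtain ⟨t, rfl⟩ := ofChart_surjective h𝒳.isStack.1 hx z
  exact ⟨t, hi t⟩



/-- Let `𝒳` be an algebraic stack over `S` and `𝒳_i ⊂ 𝒳` a family of open substacks with `𝒳 = ⋃ 𝒳_i`
(their points exhaust `|𝒳|`). When each `𝒳_i` is an algebraic space, so is `𝒳` itself. -/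
theorem result {S : Scheme.{u}} {𝒳 : AlgSt.Cat S}
    (h𝒳 : AlgSt.IsAlgStack Scheme.fppfPrecoverage 𝒳) {ι : Type w} (Q : ι → 𝒳.obj → Prop)
    (hQ : ∀ i, AlgSt.IsOpenSubstack 𝒳 (Q i) Scheme.fppfPrecoverage)
    (hcov : ⋃ i, Set.range (AlgSt.Points.map (AlgSt.subIncl 𝒳 (Q i))) = Set.univ)
    (hsp : ∀ i, AlgSt.RepByAlgSp (AlgSt.fullSub 𝒳 (Q i))) : AlgSt.RepByAlgSp 𝒳 := by
  obtain ⟨κ, T, hT, hc, hk⟩ := reindex h𝒳 Q hQ hcov
  exact repByAlgSp_of_cover h𝒳 T hT hc fun k => (hk k).elim fun i hi => hi ▸ hsp i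

end Groth.Agent.S12863
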