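import Groth.Statements.S12867
import Groth.Agent.Stk19b.RedClosedSub

set_option autoImplicit false
open CategoryTheory AlgebraicGeometry
universe u
open AlgSt

set_option backward.isDefEq.respectTransparency.types false
set_option backward.isDefEq.respectTransparency false

open Groth.Agent
set_option backward.isDefEq.respectTransparency false
set_option backward.isDefEq.respectTransparency.types false
namespace Groth.Agent.S12867
open CategoryTheory CategoryTheory.Limits AlgebraicGeometry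


/-- Let `𝒳` be an algebraic stack over `S` and `T ⊂ |𝒳|` a closed subset. Then there is a reduced closed
substack `𝒵 ⊂ 𝒳` with `|𝒵| = T`. (The published statement also asserts uniqueness of such a
substack, whose proof is not given there; only existence is stated here.) -/
theorem result {S : Scheme.{u}} {𝒳 : AlgSt.Cat S}
    (h𝒳 : AlgSt.IsAlgStack Scheme.fppfPrecoverage 𝒳) (T : Set (AlgSt.Points 𝒳)) (hT : IsClosed T) :
    ∃ Q : 𝒳.obj → Prop, AlgSt.IsClosedSubstack 𝒳 Q Scheme.fppfPrecoverage ∧ Set.range (AlgSt.Points.map (AlgSt.subIncl 𝒳 Q)) = T ∧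
      AlgSt.SmoothLocally (fun X => IsReduced X) (AlgSt.fullSub 𝒳 Q) := by
  have h := h𝒳.isStack.1
  obtain ⟨U, u, hu, hus⟩ := h𝒳.atlas
  have hset : IsClosed (AlgSt.Points.ofChart u ⁻¹' T) := hT.preimage (Stk19.continuous_ofChart h𝒳 u)
  let I := Scheme.IdealSheafData.vanishingIdeal (⟨_, hset⟩ : TopologicalSpace.Closeds ↥U.left)
  let i := I.subschemeι
  have hi : Set.range i = AlgSt.Points.ofChart u ⁻¹' T := by
    rw [Scheme.IdealSheafData.range_subschemeι]; rfl
  have : IsReduced I.subscheme := Props12.isReduced_subscheme_vanishingIdeal _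
  let Q := Stk19b.RedClosedSub.inRed i u
  have hQ := Stk19b.RedClosedSub.inRed_of_hom i (u := u)
  have hcl : AlgSt.IsClosedImm (AlgSt.subIncl 𝒳 Q) :=
    Stk19b.SubModel.isClosedImm_subIncl h hQ fun _ y => Stk19b.RedClosedSub.exists_model h𝒳 hu hus i hi y
  have halg : AlgSt.IsAlgStack Scheme.fppfPrecoverage (AlgSt.fullSub 𝒳 Q) :=
    Stk19.isAlgStack_of_rep1 (Stk19b.fibGrpd_fullSub h hQ) h𝒳 _ (Stk19.repByAlgSp1_of_with hcl)
  -- the points of lifts of a field point
  have hpt : ∀ (p : AlgSt.FPt 𝒳) (W : Over S) (l : W ⟶ U) (_ : u.obj (Over.mk l) ⟶ p.obj) (k : ↥W.left),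
      AlgSt.Points.ofChart u (l.left k) = AlgSt.Points.mk p := by
    intro p W l φ k
    obtain ⟨q, hq, ⟨ψ⟩⟩ := Stk19b.ptsOf_mono φ (show AlgSt.Points.ofChart u (l.left k) ∈ Stk19b.ptsOf (u.obj (Over.mk l)) by
      rw [Stk19b.ptsOf_chart h u (Over.mk l)]
      exact ⟨l.left k, ⟨k, rfl⟩, rfl⟩)
    rw [← hq]
    exact AlgSt.Points.sound ⟨q, 𝟙 _, ψ, trivial⟩
  have hrange : Set.range (AlgSt.Points.map (AlgSt.subIncl 𝒳 Q)) = T := by
    ext z
    constructor
    · rintro ⟨z, rfl⟩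
      obtain ⟨p, rfl⟩ := AlgSt.Points.mk_surjective z
      obtain ⟨W, l, φ, -, hcs⟩ := Stk19b.RedClosedSub.exists_cover h𝒳 hu hus p.obj.obj
      obtain ⟨v, hv⟩ := p.obj.property W l φ
      have hne : Nonempty ↥(𝒳.p.obj p.obj.obj).left := by
        rw [show 𝒳.p.obj p.obj.obj = Over.mk p.str from (p.map (AlgSt.subIncl 𝒳 Q)).lies]
        exact inferInstanceAs (Nonempty ↥(Spec (CommRingCat.of p.K)))
      obtain ⟨k, -⟩ := hcs.surj (Classical.arbitrary ↥(𝒳.p.obj p.obj.obj).left)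
      rw [AlgSt.Points.map_mk, ← hpt (p.map (AlgSt.subIncl 𝒳 Q)) W l φ k]
      show l.left k ∈ AlgSt.Points.ofChart u ⁻¹' T
      rw [← hi, ← hv]
      exact ⟨v k, (Scheme.Hom.comp_apply v i k).symm⟩
    · intro hz
      obtain ⟨p, rfl⟩ := AlgSt.Points.mk_surjective z
      obtain ⟨W, l, φ, hc, hcs⟩ := Stk19b.RedClosedSub.exists_cover h𝒳 hu hus p.obj
      have : IsReduced (𝒳.p.obj p.obj).left := by
        rw [p.lies]
        exact inferInstanceAs (IsReduced (Spec (CommRingCat.of p.K)))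
      have : IsReduced W.left := AbSchLib.isReduced_of_smooth (Stk19b.RedClosedSub.baseOf φ).left
      have hp : Q p.obj := Stk19b.RedClosedSub.inRed_of_cover h𝒳 hu i hi φ (Stk19b.SubModel.fac_of_range i (by
        rintro _ ⟨k, rfl⟩
        rw [hi]
        show AlgSt.Points.ofChart u (l.left k) ∈ T
        rw [hpt p W l φ k]
        exact hz))
      exact ⟨AlgSt.Points.mk { K := p.K, str := p.str, obj := ⟨p.obj, hp⟩, lies := p.lies }, rfl⟩
  refine ⟨Q, ⟨⟨fun e hx => hQ e.inv hx⟩, halg, hcl⟩, hrange, fun U' x hx => ?_⟩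
  -- the chart of the substack
  let Z₀ : Over S := Over.mk (i ≫ U.hom)
  let i' : Z₀ ⟶ U := Over.homMk i
  have : Mono i' := (Over.forget S).mono_of_mono_map (inferInstanceAs (Mono i))
  have hcrit : ∀ (T' : Over S) (a : T' ⟶ U), Q (u.obj (Over.mk a)) ↔ ∃ v : T' ⟶ Z₀, v ≫ i' = a := by
    intro T' a
    constructor
    · intro hy
      obtain ⟨v, hv⟩ := hy T' a (𝟙 _)
      exact ⟨Over.homMk v (by show v ≫ i ≫ U.hom = _; rw [reassoc_of% hv, Over.w a]), Over.OverMorphism.ext hv⟩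
    · rintro ⟨v, rfl⟩
      have : IsIso (Stk19b.RedClosedSub.baseOf (𝟙 (u.obj (Over.mk (v ≫ i'))))).left := by
        rw [Stk19b.RedClosedSub.baseOf, CategoryTheory.Functor.map_id, Category.comp_id]
        exact inferInstanceAs (IsIso ((Over.forget S).map (eqToHom _)))
      exact Stk19b.RedClosedSub.inRed_of_cover h𝒳 hu i hi (𝟙 (u.obj (Over.mk (v ≫ i')))) ⟨v.left, rfl⟩
  obtain ⟨G, hG, ⟨iG⟩⟩ := Stk19b.SubModel.exists_equiv h hQ u i' hcrit
  let z := BasedFunctor.comp G (FibCat.fpSnd u (AlgSt.subIncl 𝒳 Q))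
  have hz : AlgSt.RepByAlgSpWith (AlgSp.LocP @Smooth) z :=
    (Stk19.repByAlgSpWith_iff_of_square (f := FibCat.fpSnd u (AlgSt.subIncl 𝒳 Q)) hG (Stk19.isEquivOver_id _)
      (Iso.refl _)).2 (Stk19.repByAlgSpWith_fpSnd (AlgSt.subIncl 𝒳 Q) hu)
  have kz : BasedFunctor.comp z (AlgSt.subIncl 𝒳 Q) ≅ BasedFunctor.comp (AlgSt.overMap i') u :=
    ((Stk.restr G _).mapIso (FibCat.fpIso u (AlgSt.subIncl 𝒳 Q))).symm ≪≫ (Stk19.postB _ u).mapIso iG
  obtain ⟨W, p, q, -, hq, hp, hsurj⟩ :=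
    Stk19.exists_chart_fp halg.isStack.1 z (Stk19.repByAlgSp1_of_with hx)
  have : Smooth q.left := hq AlgSpLib.etLocal_smooth hx
  have : Smooth p.left := hp AlgSpLib.etLocal_smooth hz
  have : IsReduced Z₀.left := ‹IsReduced I.subscheme›
  have : IsReduced W.left := AbSchLib.isReduced_of_smooth q.left
  have : Surjective p.left := ⟨fun s => by
    obtain ⟨t', ht'⟩ := Stk19.ofChart_surjective h hus (AlgSt.Points.map (AlgSt.subIncl 𝒳 Q) (AlgSt.Points.ofChart x s))
    obtain ⟨t, rfl⟩ : t' ∈ Set.range i := by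
      rw [hi]
      show AlgSt.Points.ofChart u t' ∈ T
      rw [ht', ← hrange]
      exact ⟨_, rfl⟩
    have e : AlgSt.Points.ofChart x s = AlgSt.Points.ofChart z t :=
      Stk19b.points_map_subIncl_injective h hQ (by
        rw [← ht', Stk19.map_ofChart, Stk19.ofChart_congr kz, Stk19.ofChart_overMap]
        rfl)
    obtain ⟨w, hw, -⟩ := hsurj s t e
    exact ⟨w, hw⟩⟩
  exact AlgSpLib.isReduced_of_flat_surjective p.left

end Groth.Agent.S12867
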