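import Groth.Statements.S1287
import Groth.Agent.FlatMorBlowFree.Step

set_option autoImplicit false
universe u
open FlatMor

namespace Groth.Agent.S1287

set_option maxHeartbeats 1000000 in
open TensorProduct in
/-- Let R be a ring, f ∈ R, r ≥ 0, S a finitely presented flat R-algebra all of whose fibre rings are
geometrically integral, and M a finite S-module such that M_f is finitely presented over S_f and
such that for every prime p of R not containing f, with q = pS, the localization M_q is free of rank
r over S_q. Then there is a finitely generated ideal I of R with V(I) = V(f) such that for every a ∈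
I, writing R' = R[I/a] for the affine blow-up algebra, S' = S ⊗_R R' and M' for the base change of M
to S' modulo its a-power torsion (any models of the base change): for every prime p' of R' there is
g ∈ S' outside p'S' with M'_g free of rank r over S'_g. -/
theorem result {R S : Type u} [CommRing R] [CommRing S] [Algebra R S] [Algebra.FinitePresentation R S] [Module.Flat R S]
    (hgi : FlatCA.GeomIntegralFibres R S) (f : R) (r : ℕ)
    (M : Type u) [AddCommGroup M] [Module S M] [Module R M] [IsScalarTower R S M] [Module.Finite S M]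
    (hfp : Module.FinitePresentation (Localization.Away (algebraMap R S f)) (LocalizedModule (Submonoid.powers (algebraMap R S f)) M))
    (hfree : ∀ (p : Ideal R) [p.IsPrime] [(p.map (algebraMap R S)).IsPrime], f ∉ p →
      Module.Free (Localization.AtPrime (p.map (algebraMap R S))) (LocalizedModule (p.map (algebraMap R S)).primeCompl M) ∧
      Module.rank (Localization.AtPrime (p.map (algebraMap R S))) (LocalizedModule (p.map (algebraMap R S)).primeCompl M) = r) :
    ∃ I : Ideal R, I.FG ∧ I.radical = (Ideal.span {f}).radical ∧ ∀ a ∈ I,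
      ∀ (S' M' : Type u) [CommRing S'] [Algebra S S'] [Algebra (BlowUp.affineAlgebra R I a) S'] [Algebra R S']
        [IsScalarTower R S S'] [IsScalarTower R (BlowUp.affineAlgebra R I a) S']
        [Algebra.IsPushout R S (BlowUp.affineAlgebra R I a) S']
        [AddCommGroup M'] [Module S' M'] [Module S M'] [IsScalarTower S S' M']
        (φ : M →ₗ[S] M'), IsBaseChange S' φ →
        ∀ (p' : Ideal (BlowUp.affineAlgebra R I a)) [p'.IsPrime],
          ∃ g : S', g ∉ p'.map (algebraMap (BlowUp.affineAlgebra R I a) S') ∧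
            Module.Free (Localization.Away g)
              (LocalizedModule (Submonoid.powers g) (M' ⧸ FlatCA.powTorsion S' (algebraMap R S' a) M')) ∧
            Module.rank (Localization.Away g)
              (LocalizedModule (Submonoid.powers g) (M' ⧸ FlatCA.powTorsion S' (algebraMap R S' a) M')) = r := by
  classical
  have hdom := Groth.Agent.FlatMorDevissage.fibresDomain_of_geomIntegral hgi
  have : Module.Projective R S := Groth.Agent.FlatMorDevissage.projective_of_fibresDomain hdom
  obtain ⟨C, hC, hCmin⟩ := Groth.Agent.FlatMorBlowFree.exists_content (R := R) (S := S)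
  obtain ⟨n, x, hx⟩ := Groth.Agent.FittLib.exists_generators S M
  have key : ∀ (p : Ideal R) [p.IsPrime], f ∉ p →
      ¬ Fitt.ideal S M r ≤ p.map (algebraMap R S) ∧
        ∀ j, j < r → ∀ d ∈ Fitt.ideal S M j, ∃ s ∉ p, s • d = 0 := by
    intro p hp hfp
    have hq := Groth.Agent.FlatMorDevissage.isPrime_map_of_fibresDomain hdom p
    obtain ⟨hF, hrk⟩ := hfree p hfp
    let A := Localization.AtPrime (p.map (algebraMap R S))
    have : Module.Finite A (LocalizedModule (p.map (algebraMap R S)).primeCompl M) :=
      Module.Finite.of_isLocalizedModule (p.map (algebraMap R S)).primeCompl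
        (LocalizedModule.mkLinearMap (p.map (algebraMap R S)).primeCompl M)
    have hfr : Module.finrank A (LocalizedModule (p.map (algebraMap R S)).primeCompl M) = r :=
      Module.finrank_eq_of_rank_eq hrk
    let b := Module.finBasisOfFinrankEq A _ hfr
    refine ⟨Groth.Agent.FittLib.not_le_of_span_localizedModule (S := (p.map (algebraMap R S)).primeCompl)
      (Set.disjoint_left.2 fun _ h1 h2 => h1 h2) b b.span_eq, fun j hj d hd => ?_⟩
    have h0 : Fitt.ideal (Localization (p.map (algebraMap R S)).primeCompl)
        (LocalizedModule (p.map (algebraMap R S)).primeCompl M) j = ⊥ :=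
      Groth.Agent.FittLib.ideal_eq_bot_of_basis b hj
    rw [Groth.Agent.FittLib.ideal_localizedModule, Ideal.map_eq_bot_iff_le_ker] at h0
    obtain ⟨⟨t, ht⟩, htd⟩ :=
      (IsLocalization.map_eq_zero_iff (p.map (algebraMap R S)).primeCompl A d).1 (h0 hd)
    exact Groth.Agent.FlatMorBlowFree.exists_smul_eq_zero_of_mul_eq_zero hdom p ht htd
  have hrad : f ∈ (⨆ d : ↥(Fitt.ideal S M r), C d).radical := by
    rw [Ideal.radical_eq_sInf, Ideal.mem_sInf]
    rintro p ⟨hle, hp⟩
    by_contra hfp
    exact (key p hfp).1 fun d hd =>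
      Ideal.map_mono ((le_iSup (fun d : ↥(Fitt.ideal S M r) => C d) ⟨d, hd⟩).trans hle) (hC d).2
  obtain ⟨N, hN⟩ := hrad
  obtain ⟨D, hND⟩ := Submodule.exists_finset_of_mem_iSup _ hN
  have hT : ∀ d : ↥(Fitt.ideal S M r), ∃ T : Set (Fin n → S), T.Finite ∧
      T ⊆ Groth.Agent.FittLib.rels S x ∧ (d : S) ∈ Groth.Agent.FittLib.minorsOf T (n - r) := fun d =>
    Groth.Agent.FittLib.exists_finite_subset_mem_minorsOf (by rw [← Groth.Agent.FittLib.ideal_eq x hx]; exact d.2)
  choose T hTfin hTrel hTd using hT
  let T₀ : Set (Fin n → S) := ⋃ d ∈ D, T d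
  obtain ⟨G, hG⟩ := Groth.Agent.FittLib.minorsOf_fg (D.finite_toSet.biUnion fun d _ => hTfin d) (n - r) (S := T₀)
  let J : Ideal R := ⨆ g : G, C g
  have hpow : f ^ N ∈ J := by
    refine (iSup₂_le fun d hd => ?_ : (⨆ d ∈ D, C (d : S)) ≤ J) hND
    have hdG : (d : S) ∈ Ideal.span (G : Set S) := hG ▸
      Groth.Agent.FittLib.minorsOf_mono (Set.subset_biUnion_of_mem (u := T) hd) _ (hTd d)
    have hle : Ideal.span (G : Set S) ≤ J.map (algebraMap R S) := Ideal.span_le.2 fun g hg =>
      Ideal.map_mono (le_iSup (fun g : G => C g) ⟨g, hg⟩) (hC g).2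
    haveI : Algebra.IsPushout R R S S := ⟨IsBaseChange.ofEquiv (LinearEquiv.refl R S)⟩
    simpa using hCmin d R S J (hle hdG)
  refine ⟨Ideal.span {f} * J, Submodule.FG.mul (Submodule.fg_span_singleton f)
    (Submodule.fg_iSup _ fun g => (hC g).1), ?_, ?_⟩
  · rw [Ideal.radical_mul, inf_eq_left, Ideal.radical_le_radical_iff, Ideal.span_le, Set.singleton_subset_iff]
    exact ⟨N, hpow⟩
  intro a ha S' M' _ _ _ _ _ _ _ _ _ _ _ φ hφ p' hp'
  obtain ⟨b₀, hb₀, rfl⟩ := Ideal.mem_span_singleton_mul.1 ha
  haveI hpo : Algebra.IsPushout R (BlowUp.affineAlgebra R (Ideal.span {f} * J) (f * b₀)) S S' :=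
    Algebra.IsPushout.symm inferInstance
  exact Groth.Agent.FlatMorBlowFree.final hdom C hC hCmin J T₀ (Set.iUnion₂_subset fun d _ => hTrel d) hx r G hG
    (fun j hj d hd => Groth.Agent.FlatMorBlowFree.exists_pow_smul_eq_zero (f := f) fun p hp hfp => (key p hfp).2 j hj d hd)
    (Groth.Agent.FittLib.self_mem_nonZeroDivisors_blowup AlgEquiv.refl)
    (Groth.Agent.FittLib.map_le_span_blowup AlgEquiv.refl) le_rfl le_rfl hb₀ φ hφ p'

end Groth.Agent.S1287
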