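import Groth.Statements.S12878
import Groth.Agent.Stk19b.OpenSub.Range
import Groth.Agent.Stk19.AlgSt.Diag
import Groth.Agent.Stk19.AlgSt.Mono

set_option autoImplicit false
open CategoryTheory AlgebraicGeometry
universe u
open AlgSt

set_option backward.isDefEq.respectTransparency.types false
set_option backward.isDefEq.respectTransparency false

open CategoryTheory.Limits FibCat Groth.Agent.Stk19 Groth.Agent.Stk19b
namespace Groth.Agent.S12878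

theorem vert_preimage {S : Scheme.{u}} {𝒵 𝒳 : AlgSt.Cat S} (h𝒵 : IsFibGrpd 𝒵.p) (h𝒳 : IsFibGrpd 𝒳.p)
    (i : 𝒵 ⥤ᵇ 𝒳) {y : 𝒳.obj} {z : 𝒵.obj} (e : i.obj z ≅ y) :
    ∃ (z' : 𝒵.obj) (e' : i.obj z' ≅ y), 𝒳.p.IsHomLift (𝟙 (𝒳.p.obj y)) e'.hom := by
  obtain ⟨z', φ, hd, hφ⟩ := fibGrpd_lift h𝒵 z (𝒳.p.map e.inv ≫ eqToHom (i.w_obj z))
  have : IsIso (𝒵.p.map φ) := by rw [hφ]; infer_instance
  have := fibGrpd_isIso h𝒵 φ
  refine ⟨z', i.toFunctor.mapIso (asIso φ) ≪≫ e, vert_change 𝒳.p _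
    (vert_of_map_eq 𝒳.p (h := (i.w_obj z').trans hd) ?_) ((i.w_obj z').trans hd)⟩
  show 𝒳.p.map (i.map φ ≫ e.hom) = _
  rw [𝒳.p.map_comp, based_map i φ, hφ]
  simp [← Functor.map_comp]



/-- Let `i : 𝒵 ⟶ 𝒳` be an immersion of algebraic stacks over `S`. Then there is a unique locally closed
substack `𝒳' ⊂ 𝒳` (a predicate on objects closed under isomorphisms, with algebraic full subcategory
and immersion inclusion) such that `i` is 2-isomorphic to an equivalence `𝒵 ⟶ 𝒳'` over `(Sch/S)`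
followed by the inclusion `𝒳' ⟶ 𝒳`; moreover `𝒳'` is closed (resp. open) as a substack whenever `i`
is a closed (resp. open) immersion. -/
theorem result {S : Scheme.{u}} {𝒵 𝒳 : AlgSt.Cat S}
    (h𝒵 : AlgSt.IsAlgStack Scheme.fppfPrecoverage 𝒵) (h𝒳 : AlgSt.IsAlgStack Scheme.fppfPrecoverage 𝒳) (i : 𝒵 ⥤ᵇ 𝒳) (hi : AlgSt.IsImm i) :
    ∃ Q : 𝒳.obj → Prop,
      (AlgSt.IsLocClosedSubstack 𝒳 Q Scheme.fppfPrecoverage ∧
        (∃ i' : 𝒵 ⥤ᵇ AlgSt.fullSub 𝒳 Q, FibCat.IsEquivOver i' ∧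
          Nonempty (BasedFunctor.comp i' (AlgSt.subIncl 𝒳 Q) ≅ i)) ∧
        (AlgSt.IsClosedImm i → AlgSt.IsClosedSubstack 𝒳 Q Scheme.fppfPrecoverage) ∧
        (AlgSt.IsOpenImm i → AlgSt.IsOpenSubstack 𝒳 Q Scheme.fppfPrecoverage)) ∧
      ∀ Q' : 𝒳.obj → Prop, AlgSt.IsLocClosedSubstack 𝒳 Q' Scheme.fppfPrecoverage →
        (∃ i' : 𝒵 ⥤ᵇ AlgSt.fullSub 𝒳 Q', FibCat.IsEquivOver i' ∧
          Nonempty (BasedFunctor.comp i' (AlgSt.subIncl 𝒳 Q') ≅ i)) → Q' = Q := by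
  have hm : AlgSt.RepByAlgSpWith (MorphismProperty.monomorphisms (AlgSp.Sp S)) i :=
    repByAlgSpWith_mono (fun _ _ _ _ ha => show Mono _ from
      AlgSpLib.mono_of_repWith (fun _ _ g (_ : IsImmersion g) => (inferInstance : Mono g)) ha) hi
  have hg := h𝒵.isStack.1
  have hx := h𝒳.isStack.1
  obtain ⟨_, _⟩ := fullyFaithful_of_mono hg hx hm
  let Q : 𝒳.obj → Prop := fun y => ∃ z, Nonempty (i.obj z ≅ y)
  have hQ : ObjectProperty.IsClosedUnderIsomorphisms Q := ⟨fun e ⟨z, ⟨e'⟩⟩ => ⟨z, ⟨e' ≪≫ e⟩⟩⟩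
  let i' : 𝒵 ⥤ᵇ AlgSt.fullSub 𝒳 Q :=
    { toFunctor := ObjectProperty.lift _ i.toFunctor fun z => ⟨z, ⟨Iso.refl _⟩⟩
      w := i.w }
  have hi' : FibCat.IsEquivOver i' := by
    refine EqvData.isEquivOver ⟨⟨fun {a b} m => ?_⟩, ⟨fun {a b} f f' hff => ?_⟩, fun η => ?_⟩
    · obtain ⟨k, hk⟩ := i.toFunctor.map_surjective m.hom
      exact ⟨k, ObjectProperty.hom_ext _ hk⟩
    · exact i.toFunctor.map_injective (congrArg (fun m => m.hom) hff :)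
    · obtain ⟨z, ⟨e⟩⟩ := η.property
      obtain ⟨z', e', he'⟩ := vert_preimage hg hx i e
      exact ⟨z', ObjectProperty.isoMk _ e', (BasedFunctor.isHomLift_iff (AlgSt.subIncl 𝒳 Q) _ _).1 he'⟩
  have hA : AlgSt.IsAlgStack Scheme.fppfPrecoverage (AlgSt.fullSub 𝒳 Q) := (isAlgStack_iff_of_equiv hi').1 h𝒵
  have key : ∀ {P : MorphismProperty (AlgSp.Sp S)}, AlgSt.RepByAlgSpWith P i →
      AlgSt.RepByAlgSpWith P (AlgSt.subIncl 𝒳 Q) := fun h =>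
    (repByAlgSpWith_iff_of_square (f := AlgSt.subIncl 𝒳 Q) (f' := i) hi' (isEquivOver_id _) (Iso.refl _)).1 h
  refine ⟨Q, ⟨⟨hQ, hA, key hi⟩, ⟨i', hi', ⟨Iso.refl _⟩⟩, fun h => ⟨hQ, hA, key h⟩, fun h => ⟨hQ, hA, key h⟩⟩, ?_⟩
  rintro Q' hQ' ⟨j, hj, ⟨α⟩⟩
  funext y
  refine propext ⟨fun hy => ?_, fun ⟨z, ⟨e⟩⟩ => ?_⟩
  · obtain ⟨z, e, -⟩ := (EqvData.of_isEquivOver hj).surj ⟨y, hy⟩
    exact ⟨z, ⟨(appIso α z).symm ≪≫ (AlgSt.subIncl 𝒳 Q').toFunctor.mapIso e⟩⟩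
  · exact hQ'.1.of_iso ((appIso α z) ≪≫ e) (j.obj z).property

end Groth.Agent.S12878
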