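import Groth.Statements.S1288
import Groth.Agent.FlatMorAdm.Strict

set_option autoImplicit false
universe u
open FlatMor
set_option backward.isDefEq.respectTransparency.types false

namespace Groth.Agent.S1288

open AlgebraicGeometry CategoryTheory Limits in
/-- Let S be quasi-compact and quasi-separated, g : U → S separated and of finite type, V ⊆ U a
quasi-compact open, and j : V → Y a quasi-compact open immersion over S into a scheme Y proper over
S. Then there are a blow-up b : Y' → Y in a finite type ideal with support disjoint from j(V), an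
open V' of Y' containing b⁻¹(j(V)), and a proper morphism h : V' → U which extends V → U: on
b⁻¹(j(V)) it is the identification with V followed by the inclusion of V in U. -/
theorem result {U S Y : Scheme.{u}} [CompactSpace S] [QuasiSeparatedSpace S]
    (g : U ⟶ S) [IsSeparated g] [LocallyOfFiniteType g] [QuasiCompact g]
    (V : U.Opens) (hV : IsCompact (V : Set U)) (j : (V : Scheme.{u}) ⟶ Y) [IsOpenImmersion j] [QuasiCompact j]
    (πY : Y ⟶ S) [IsProper πY] (hj : j ≫ πY = V.ι ≫ g) :
    ∃ (𝓘 : Y.IdealSheafData) (Y' : Scheme.{u}) (b : Y' ⟶ Y), BlowUp.IsBlowUp b 𝓘 ∧ BlowUp.IsAdmissibleFor j.opensRange 𝓘 ∧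
      ∃ (V' : Y'.Opens) (hle : b ⁻¹ᵁ j.opensRange ≤ V') (h : (V' : Scheme.{u}) ⟶ U),
        IsProper h ∧
        ∃ k : ((b ⁻¹ᵁ j.opensRange : Y'.Opens) : Scheme.{u}) ⟶ V,
          k ≫ j = (b ∣_ j.opensRange) ≫ j.opensRange.ι ∧ Y'.homOfLE hle ≫ h = k ≫ V.ι := by
  haveI : CompactSpace Y := QuasiCompact.compactSpace_of_compactSpace πY
  haveI : QuasiSeparatedSpace Y := quasiSeparatedSpace_of_quasiSeparated πY
  haveI : CompactSpace (V : Scheme.{u}) := isCompact_iff_compactSpace.1 hV
  have hUc : IsCompact (j.opensRange : Set Y) := isCompact_range j.continuous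
  let σ : (j.opensRange : Scheme.{u}) ⟶ pullback πY g :=
    pullback.lift j.opensRange.ι (j.isoOpensRange.inv ≫ V.ι)
      (by rw [Category.assoc, ← hj, Scheme.Hom.isoOpensRange_inv_comp_assoc])
  obtain ⟨K, Y', b, hb, hadm, hint, hmain⟩ := FlatMorAdm.exists_blowUp_isOpenImmersion
    (pullback.fst πY g) j.opensRange hUc σ (pullback.lift_fst _ _ _)
  haveI : IsProper b := BlowUpLib.isProper_of_isBlowUp hb hadm.1
  obtain ⟨σ', hσq, h₁, h₂, hopen⟩ := hmain _ _ _ (IsPullback.of_hasPullback (pullback.fst πY g) b)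
  set π := σ'.imageι ≫ pullback.snd (pullback.fst πY g) b with hπdef
  have htop : σ'.toImage ≫ π = (b ⁻¹ᵁ j.opensRange).ι := by
    rw [hπdef, Scheme.Hom.toImage_imageι_assoc, h₂]
  have hle : b ⁻¹ᵁ j.opensRange ≤ π.opensRange := by
    intro x hx
    refine ⟨σ'.toImage ⟨x, hx⟩, ?_⟩
    show (σ'.toImage ≫ π) ⟨x, hx⟩ = x
    rw [htop]
    rfl
  have htop' : Y'.homOfLE hle ≫ π.isoOpensRange.inv = σ'.toImage := by
    rw [← cancel_mono π, Category.assoc, Scheme.Hom.isoOpensRange_inv_comp, Scheme.homOfLE_ι, htop]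
  refine ⟨K, Y', b, hb, hadm, π.opensRange, hle,
    π.isoOpensRange.inv ≫ σ'.imageι ≫ pullback.fst (pullback.fst πY g) b ≫ pullback.snd πY g,
    inferInstance, (b ∣_ j.opensRange) ≫ j.isoOpensRange.inv, ?_, ?_⟩
  · rw [Category.assoc, Scheme.Hom.isoOpensRange_inv_comp]
  · rw [reassoc_of% htop', Scheme.Hom.toImage_imageι_assoc, reassoc_of% h₁, pullback.lift_snd,
      Category.assoc]

end Groth.Agent.S1288
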