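import Groth.Prelude.Def_ModSite2
import Groth.Prelude.Def_SpSeq
import Groth.Agent.HTop16.HZLocalGlobal

set_option autoImplicit false
universe u
namespace CategoryTheory
end CategoryTheory
namespace CategoryTheory.Limits
end CategoryTheory.Limits
open CategoryTheory CategoryTheory.Limits
namespace ModSite
end ModSite
open ModSite

namespace Groth.Agent.S12889

/-- On a small ringed site (C, J, O) with O commutative, let U be an object with Z the closed complement
of the open it generates, and M an O-module. There is an E₂ spectral sequence of abelian groups with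
E₂^{p,q} ≅ H^p(C, ℋ^q_Z(M)) for p, q ≥ 0 (and 0 otherwise), bounded, abutting with finite
filtrations to H^n_Z(M) (n ≥ 0; 0 for n < 0); here ℋ^q_Z are the right derived functors of sections
with support on O-modules, H^p(C, -) is the cohomology of the site with values in the underlying
abelian sheaf, and H^n_Z(M) are the Ext groups out of ℤ/ℤ_U into the underlying abelian sheaf.
(Existence only: the E₂ identifications and the abutment are some isomorphisms. The direct image
along the localisation at U and injective resolutions of O-modules are the stated instance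
hypotheses, both true.) -/
theorem result {C : Type u} [SmallCategory C] {J : GrothendieckTopology C}
    (O : Sheaf J CommRingCat.{u}) (U : C) (M : ModSite.Mod O)
    [ModSite.HasPushOver O U] [HasInjectiveResolutions (ModSite.Mod O)] :
    ∃ (E : E₂CohomologicalSpectralSequence AddCommGrpCat.{u})
      (a : SpSeq.Abutment E (fun n : ℤ =>
        if 0 ≤ n then AddCommGrpCat.of (ModSite.HZ U M n.toNat) else AddCommGrpCat.of PUnit.{u + 1})),
      (∀ n : ℤ, a.IsFinite n) ∧ SpSeq.IsBounded E ∧
      ∀ p q : ℤ, Nonempty ((E.page 2 le_rfl).X (p, q) ≅
        (if 0 ≤ p ∧ 0 ≤ q then AddCommGrpCat.of (ModSite.HC O ((ModSite.HZsh O U q.toNat).obj M) p.toNat)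
          else AddCommGrpCat.of PUnit.{u + 1})) := by
  classical
  refine Groth.Agent.HTop16.HZLocalGlobal.exists_spectralSequence U M (fun n => ?_) (fun n hn => ?_) (fun p q => ?_) (fun p q h => ?_)
  · exact Groth.Agent.SpecSeq.nonempty_iso_if (by omega) (Iso.refl _)
  · exact Groth.Agent.SpecSeq.isZero_if (by omega) (AddCommGrpCat.isZero_of_subsingleton _)
  · exact Groth.Agent.SpecSeq.nonempty_iso_if ⟨by omega, by omega⟩ (Iso.refl _)
  · exact Groth.Agent.SpecSeq.isZero_if h (AddCommGrpCat.isZero_of_subsingleton _)

end Groth.Agent.S12889
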