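import Groth.Statements.S12894
import Groth.Agent.EtConn.BaseChange
import Groth.Agent.Et18.H0Lift.SepFieldBC
import Groth.Agent.Et18.H0Lift.BaseChangeSets
import Groth.Agent.HenselLib.HensBase
import Mathlib.RingTheory.Spectrum.Prime.Topology


set_option autoImplicit false
universe u
open CategoryTheory CategoryTheory.Limits AlgebraicGeometry
open CohProp

namespace Groth.Agent.S12894

open Groth.Agent.Et18.H0Lift

theorem isField_stalk_specField {k : Type u} [Field k] (p : Spec (CommRingCat.of k)) :
    IsField ((Spec (CommRingCat.of k)).presheaf.stalk p) :=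
  PrimeSpectrum.subsingleton_iff_isField_of_isReduced.1
    ⟨fun a b => ((Spec (CommRingCat.of k)).fromSpecStalk p).isEmbedding.injective
      (Subsingleton.elim (α := PrimeSpectrum k) _ _)⟩

theorem flat_to_specField {k : Type u} [Field k] {Z : Scheme.{u}} (g : Z ⟶ Spec (CommRingCat.of k)) : Flat g := by
  refine (Flat.iff_flat_stalkMap g).2 fun x => ?_
  letI := (isField_stalk_specField (g x)).toField
  algebraize [(g.stalkMap x).hom]
  exact inferInstanceAs (Module.Flat ((Spec (CommRingCat.of k)).presheaf.stalk (g x)) (Z.presheaf.stalk x))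

theorem isField_strictHenselization (R S : Type u) [CommRing R] [IsLocalRing R] [CommRing S] [IsLocalRing S]
    [Algebra R S] [IsLocalHom (algebraMap R S)] [Hensel.IsStrictHenselization R S] (h : IsField R) : IsField S := by
  rw [IsLocalRing.isField_iff_maximalIdeal_eq] at h ⊢
  rw [← Groth.Agent.HenselLib.HensBase.map_maximalIdeal_of_isStrictHenselization R S, h, Ideal.map_bot]

theorem connectedSpace_local (A : Type u) [CommRing A] [IsLocalRing A] :
    ConnectedSpace (PrimeSpectrum A) := by
  haveI : PreconnectedSpace (PrimeSpectrum A) := Groth.Agent.CAlgH3.preconnectedSpace_of_idempotents fun e he => by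
    rcases IsLocalRing.isUnit_or_isUnit_one_sub_self e with hu | hu
    · exact Or.inr (hu.mul_left_cancel (he.eq.trans (mul_one e).symm))
    · exact Or.inl (hu.mul_left_cancel (by rw [mul_zero, sub_mul, one_mul, he.eq, sub_self]))
  exact { toNonempty := ⟨⟨IsLocalRing.maximalIdeal A, inferInstance⟩⟩ }

theorem isSepClosed_of_residueField (K : Type u) [Field K] [IsSepClosed (IsLocalRing.ResidueField K)] :
    IsSepClosed K := by
  let e := RingEquiv.ofBijective (IsLocalRing.residue K)
    ⟨RingHom.injective _, IsLocalRing.residue_surjective⟩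
  refine IsSepClosed.of_exists_root _ fun p _ hp hs => ?_
  obtain ⟨x, hx⟩ := IsSepClosed.exists_eval₂_eq_zero e.toRingHom p
    (fun h0 => hp.degree_pos.ne' h0) hs
  refine ⟨e.symm x, e.injective ?_⟩
  rw [map_zero]
  refine Eq.trans ?_ hx
  refine (Polynomial.hom_eval₂ p (RingHom.id _) e.toRingHom (e.symm x)).trans ?_
  simp

end Groth.Agent.S12894

namespace Groth.Agent.S12894

/-- Let k be a field and f : X → Spec k a quasi-compact and quasi-separated morphism. Then for every
sheaf of sets F on the small étale site of X the pair (F, f) is cohomologically proper in dimension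
≤ 0: for every morphism of schemes g : Y' → Spec k and every cartesian square exhibiting X' as X ×_k
Y', with projections h : X' → X and f' : X' → Y', the base-change map g^* f_* F → f'_* h^* F is an
isomorphism. -/
theorem result (k : Type u) [Field k] (X : Scheme.{u})
    (f : X ⟶ Spec (CommRingCat.of k)) [QuasiCompact f] [QuasiSeparated f] (F : EtDesc.Sh X) :
    CohProp.IsCohPropSet (𝟙 (Spec (CommRingCat.of k))) f F := by
  open Groth.Agent.Et18.H0Lift in
  intro S' Y' X' p g q' h f' _ sq
  refine isIso_baseChange0Sh_of_ab f g f' h sq.w (fun G => ?_) F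
  have : Flat g := S12894.flat_to_specField g
  refine Groth.Agent.EtConn.isIso_baseChange0_of_strictConn sq G fun x RS i1 i2 i3 i4 i5 RX j1 j2 j3 j4 j5 ψ _ _ => ?_
  have hF : IsField RS := S12894.isField_strictHenselization _ RS (S12894.isField_stalk_specField (g x))
  letI := hF.toField
  haveI : IsSepClosed (IsLocalRing.ResidueField RS) :=
    (inferInstance : Hensel.IsStrictHenselization ((Spec (CommRingCat.of k)).presheaf.stalk (g x)) RS).isSepClosure.sep_closed
  haveI : IsSepClosed RS := S12894.isSepClosed_of_residueField RS
  haveI : ConnectedSpace ↥(Spec (CommRingCat.of RX)) := S12894.connectedSpace_local RX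
  exact connFibres_to_sepClosed (k := RS) (Spec.map (CommRingCat.ofHom ψ))


end Groth.Agent.S12894
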