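import Groth.Statements.S12899
import Groth.Agent.DCat.FlatGlue
-- import your own Groth.Agent.* helpers here

set_option autoImplicit false
universe u
open CategoryTheory CategoryTheory.Limits
attribute [local instance] HasDerivedCategory.standard
open DRing

namespace Groth.Agent.S12899

lemma amp_inD {B : Type u} [CommRing B] (N : Type u) [AddCommGroup N] [Module B N] (hN : Module.Flat B N)
    (K : Dual.D B) (e : K ≅ Dual.inD B N) : DRing.HasTorAmplitudeIn B 0 0 K :=
  ⟨(HomologicalComplex.single (ModuleCat.{u} B) (ComplexShape.up ℤ) 0).obj (ModuleCat.of B N),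
    fun i hi => HomologicalComplex.isZero_single_obj_X _ _ _ _ (by omega),
    fun i => by
      by_cases h : i = 0
      · subst h
        exact Module.Flat.of_linearEquiv
          (HomologicalComplex.singleObjXSelf (ComplexShape.up ℤ) 0 (ModuleCat.of B N)).toLinearEquiv
      · haveI := ModuleCat.subsingleton_of_isZero
          (HomologicalComplex.isZero_single_obj_X (ComplexShape.up ℤ) 0 (ModuleCat.of B N) i h)
        infer_instance,
    ⟨e.symm⟩⟩

/-- Let R be a commutative ring, f ∈ R and M an object of D(R) such that (1) H^i(M) = 0 for i &gt; 0,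
(2) in D(R_f), M ⊗^L_R R_f is isomorphic to a flat R_f-module concentrated in degree 0, and (3) in
D(R/fR), M ⊗^L_R R/fR is isomorphic to a flat R/fR-module concentrated in degree 0. Then, in D(R), M
itself is isomorphic to a flat R-module concentrated in degree 0. (The derived base change functors
along R → R_f and R → R/fR are the stated instance hypotheses, both true.) -/
theorem result {R : Type u} [CommRing R] (f : R) (M : Dual.D R)
    [DRing.HasLBaseChange (algebraMap R (Localization.Away f))]
    [DRing.HasLBaseChange (Ideal.Quotient.mk (Ideal.span ({f} : Set R)))]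
    (h1 : ∀ i : ℤ, 0 < i → Subsingleton (Dual.HD R M i))
    (h2 : ∃ (N : Type u) (_ : AddCommGroup N) (_ : Module (Localization.Away f) N),
      Module.Flat (Localization.Away f) N ∧
        Nonempty ((DRing.LBaseChange (algebraMap R (Localization.Away f))).obj M ≅ Dual.inD (Localization.Away f) N))
    (h3 : ∃ (N : Type u) (_ : AddCommGroup N) (_ : Module (R ⧸ Ideal.span ({f} : Set R)) N),
      Module.Flat (R ⧸ Ideal.span ({f} : Set R)) N ∧
        Nonempty ((DRing.LBaseChange (Ideal.Quotient.mk (Ideal.span ({f} : Set R)))).obj M ≅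
          Dual.inD (R ⧸ Ideal.span ({f} : Set R)) N)) :
    ∃ (N : Type u) (_ : AddCommGroup N) (_ : Module R N), Module.Flat R N ∧ Nonempty (M ≅ Dual.inD R N) := by
    obtain ⟨N₂, _, _, hN₂, ⟨e₂⟩⟩ := h2
    obtain ⟨N₃, _, _, hN₃, ⟨e₃⟩⟩ := h3
    obtain ⟨E, hE, hEf, ⟨e⟩⟩ := Groth.Agent.DCat.FlatGlue.exists_flat f M h1 (amp_inD N₂ hN₂ _ e₂) (amp_inD N₃ hN₃ _ e₃)
    haveI : CochainComplex.IsStrictlyGE E 0 :=
      CochainComplex.isStrictlyGE_iff _ _ |>.2 fun i hi => hE i (Or.inl hi)
    haveI : CochainComplex.IsStrictlyLE E 0 :=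
      CochainComplex.isStrictlyLE_iff _ _ |>.2 fun i hi => hE i (Or.inr hi)
    obtain ⟨N, ⟨g⟩⟩ := CochainComplex.exists_iso_single E 0
    refine ⟨N, inferInstance, inferInstance, ?_, ⟨e.symm ≪≫ DerivedCategory.Q.mapIso g⟩⟩
    haveI := hEf 0
    let g₀ : E.X 0 ≅ N := (HomologicalComplex.eval _ _ 0).mapIso g ≪≫
      (HomologicalComplex.singleObjXSelf (ComplexShape.up ℤ) 0 N : _)
    exact Module.Flat.of_linearEquiv g₀.toLinearEquiv.symm

end Groth.Agent.S12899

#print axioms Groth.Agent.S12899.result
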