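import Groth.Statements.S12900

set_option backward.isDefEq.respectTransparency false
set_option backward.isDefEq.respectTransparency.types false

set_option autoImplicit false
universe v₁ v₂ u₁ u₂
open CategoryTheory
open FibCat

namespace Groth.Agent.S12900

open CategoryTheory.Functor CategoryTheory.Pseudofunctor CategoryTheory.Pseudofunctor.CoGrothendieck Opposite

namespace Aux

variable {𝒮 : Type u₁} [Category.{v₁} 𝒮] {𝒳 : Type u₂} [Category.{v₂} 𝒳]
    {p : 𝒳 ⥤ 𝒮} (K : FibCat.Cleavage p) (hK : K.IsSplitting)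

theorem eqToHom_val {S : 𝒮} {a b : p.Fiber S} (h : a = b) :
    Fiber.fiberInclusion.map (eqToHom h) = eqToHom (congrArg Subtype.val h) := by
  subst h; rfl

theorem lift_congr {R S : 𝒮} {f f' : R ⟶ S} (e : f = f') {a : 𝒳} (ha : p.obj a = S) :
    K.lift ha f = eqToHom (by rw [e]) ≫ K.lift ha f' := by
  subst e; simp

include hK in
theorem inverseImage_id (S : 𝒮) : K.inverseImage (𝟙 S) = 𝟭 (p.Fiber S) := by
  have ho : ∀ a : p.Fiber S, (K.inverseImage (𝟙 S)).obj a = a := fun a =>
    Subtype.ext ((@hK.1 S a.1 a.2).choose)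
  refine CategoryTheory.Functor.ext ho fun a b m => Fiber.hom_ext ?_
  obtain ⟨h₁, e₁⟩ := @hK.1 S a.1 a.2
  obtain ⟨h₂, e₂⟩ := @hK.1 S b.1 b.2
  haveI : p.IsHomLift (𝟙 S) (eqToHom h₁ ≫ Fiber.fiberInclusion.map m ≫ eqToHom h₂.symm) := inferInstance
  rw [Fiber.fiberInclusion.map_comp, Fiber.fiberInclusion.map_comp, eqToHom_val, eqToHom_val]
  refine (IsCartesian.map_uniq p (𝟙 S) (K.lift b.2 (𝟙 S)) _ (eqToHom h₁ ≫ Fiber.fiberInclusion.map m ≫ eqToHom h₂.symm) ?_).symm
  rw [e₂, e₁]
  simp

include hK in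
theorem inverseImage_comp {S T U : 𝒮} (f : T ⟶ S) (g : U ⟶ T) :
    K.inverseImage (g ≫ f) = K.inverseImage f ⋙ K.inverseImage g := by
  have ho : ∀ a : p.Fiber S, (K.inverseImage (g ≫ f)).obj a = (K.inverseImage f ⋙ K.inverseImage g).obj a := fun a =>
    Subtype.ext ((@hK.2 S T U f g a.1 a.2).choose.symm)
  refine CategoryTheory.Functor.ext ho fun a b m => Fiber.hom_ext ?_
  obtain ⟨h₁, e₁⟩ := @hK.2 S T U f g a.1 a.2
  obtain ⟨h₂, e₂⟩ := @hK.2 S T U f g b.1 b.2
  rw [Fiber.fiberInclusion.map_comp, Fiber.fiberInclusion.map_comp, eqToHom_val, eqToHom_val]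
  let w := Fiber.fiberInclusion.map ((K.inverseImage g).map ((K.inverseImage f).map m))
  haveI : p.IsHomLift (𝟙 U) (eqToHom h₁.symm ≫ w ≫ eqToHom h₂) := inferInstance
  refine (IsCartesian.map_uniq p (g ≫ f) (K.lift b.2 (g ≫ f)) _ (eqToHom h₁.symm ≫ w ≫ eqToHom h₂) ?_).symm
  have w1 : w ≫ K.lift (K.obj_proj b.2 f) g = K.lift (K.obj_proj a.2 f) g ≫ Fiber.fiberInclusion.map ((K.inverseImage f).map m) :=
    IsCartesian.fac p g _ _
  have w2 : Fiber.fiberInclusion.map ((K.inverseImage f).map m) ≫ K.lift b.2 f = K.lift a.2 f ≫ Fiber.fiberInclusion.map m :=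
    IsCartesian.fac p f _ _
  rw [Category.assoc, Category.assoc, ← e₂, reassoc_of% w1, w2, reassoc_of% e₁, eqToHom_trans_assoc, eqToHom_refl,
    Category.id_comp]

/-- The strict functor of the fibres. -/
noncomputable def F : 𝒮ᵒᵖ ⥤ Cat.{v₂, u₂} where
  obj S := Cat.of (p.Fiber S.unop)
  map f := (K.inverseImage f.unop).toCatHom
  map_id S := Cat.Hom.ext (inverseImage_id K hK S.unop)
  map_comp f g := Cat.Hom.ext (inverseImage_comp K hK f.unop g.unop)

abbrev G : Type _ := CoGrothendieck (F K hK).toPseudofunctor'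

abbrev fib (X : G K hK) : p.Fiber X.base := X.fiber

abbrev fibMap {X Y : G K hK} (m : X ⟶ Y) : fib K hK X ⟶ (K.inverseImage m.base).obj (fib K hK Y) := m.fiber

/-- The underlying morphism. -/
noncomputable def val {X Y : G K hK} (m : X ⟶ Y) : (fib K hK X).1 ⟶ (fib K hK Y).1 :=
  Fiber.fiberInclusion.map (fibMap K hK m) ≫ K.lift (fib K hK Y).2 m.base

theorem hom_ext {X Y : G K hK} {m m' : X ⟶ Y} (hb : m.base = m'.base) (hv : val K hK m = val K hK m') : m = m' := by
  obtain ⟨f, φ⟩ := m
  obtain ⟨f', φ'⟩ := m'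
  obtain rfl : f = f' := hb
  change fib K hK X ⟶ (K.inverseImage f).obj (fib K hK Y) at φ φ'
  have : Fiber.fiberInclusion.map φ = Fiber.fiberInclusion.map φ' :=
    IsCartesian.ext p f (K.lift (fib K hK Y).2 f) _ _ hv
  obtain rfl : φ = φ' := Fiber.hom_ext this
  rfl

theorem val_id (X : G K hK) : val K hK (𝟙 X) = 𝟙 _ := by
  obtain ⟨h, e⟩ := @hK.1 X.base (fib K hK X).1 (fib K hK X).2
  show Fiber.fiberInclusion.map (((F K hK).toPseudofunctor'.mapId ⟨op X.base⟩).inv.toNatTrans.app X.fiber) ≫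
    K.lift (fib K hK X).2 (𝟙 X.base) = _
  rw [Functor.toPseudofunctor'_mapId, eqToIso.inv, Cat.Hom₂.eqToHom_toNatTrans, eqToHom_app]
  erw [eqToHom_val]
  rw [e]
  exact eqToHom_trans _ _

theorem val_comp {X Y Z : G K hK} (m : X ⟶ Y) (n : Y ⟶ Z) : val K hK (m ≫ n) = val K hK m ≫ val K hK n := by
  obtain ⟨h, e⟩ := @hK.2 Z.base Y.base X.base n.base m.base (fib K hK Z).1 (fib K hK Z).2
  have hfib : Fiber.fiberInclusion.map (fibMap K hK (m ≫ n)) =
      Fiber.fiberInclusion.map (fibMap K hK m) ≫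
        Fiber.fiberInclusion.map ((K.inverseImage m.base).map (fibMap K hK n)) ≫ eqToHom h := by
    show Fiber.fiberInclusion.map (fibMap K hK m ≫ (K.inverseImage m.base).map (fibMap K hK n) ≫
      ((F K hK).toPseudofunctor'.mapComp n.base.op.toLoc m.base.op.toLoc).inv.toNatTrans.app Z.fiber) = _
    rw [Functor.toPseudofunctor'_mapComp, eqToIso.inv, Cat.Hom₂.eqToHom_toNatTrans, eqToHom_app]
    erw [Functor.map_comp, Functor.map_comp, eqToHom_val]
  show Fiber.fiberInclusion.map (fibMap K hK (m ≫ n)) ≫ K.lift (fib K hK Z).2 (m.base ≫ n.base) =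
    (Fiber.fiberInclusion.map (fibMap K hK m) ≫ _) ≫ Fiber.fiberInclusion.map (fibMap K hK n) ≫ _
  have w1 : Fiber.fiberInclusion.map ((K.inverseImage m.base).map (fibMap K hK n)) ≫
      K.lift (K.obj_proj (fib K hK Z).2 n.base) m.base =
      K.lift (fib K hK Y).2 m.base ≫ Fiber.fiberInclusion.map (fibMap K hK n) := IsCartesian.fac p m.base _ _
  rw [hfib, Category.assoc, Category.assoc, Category.assoc, ← e, reassoc_of% w1]

theorem map_val {X Y : G K hK} (m : X ⟶ Y) :
    p.map (val K hK m) = eqToHom (fib K hK X).2 ≫ m.base ≫ eqToHom (fib K hK Y).2.symm := by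
  haveI : p.IsHomLift m.base (val K hK m) := by
    unfold val; infer_instance
  exact IsHomLift.fac' p m.base (val K hK m)

/-- The comparison functor to the strict model. -/
noncomputable def Ψ : G K hK ⥤ 𝒳 where
  obj X := (fib K hK X).1
  map m := val K hK m
  map_id X := val_id K hK X
  map_comp m n := val_comp K hK m n

/-- The arrow of the strict model over an arrow. -/
noncomputable def homOf {a b : 𝒳} (φ : a ⟶ b) :
    (⟨p.obj a, (⟨a, rfl⟩ : p.Fiber (p.obj a))⟩ : G K hK) ⟶ ⟨p.obj b, (⟨b, rfl⟩ : p.Fiber (p.obj b))⟩ where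
  base := p.map φ
  fiber := Fiber.homMk p (p.obj a) (IsCartesian.map p (p.map φ) (K.lift rfl (p.map φ)) φ)

theorem val_homOf {a b : 𝒳} (φ : a ⟶ b) : val K hK (homOf K hK φ) = φ :=
  IsCartesian.fac p (p.map φ) (K.lift rfl (p.map φ)) φ

/-- The inverse functor. -/
noncomputable def Φ : 𝒳 ⥤ G K hK where
  obj a := ⟨p.obj a, (⟨a, rfl⟩ : p.Fiber (p.obj a))⟩
  map φ := homOf K hK φ
  map_id a := hom_ext K hK (p.map_id a) ((val_homOf K hK (𝟙 a)).trans (val_id K hK ⟨p.obj a, (⟨a, rfl⟩ : p.Fiber (p.obj a))⟩).symm)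
  map_comp φ ψ := hom_ext K hK (p.map_comp φ ψ) ((val_homOf K hK _).trans (by
    rw [val_comp, val_homOf, val_homOf]))

theorem Φ_Ψ : Φ K hK ⋙ Ψ K hK = 𝟭 𝒳 :=
  CategoryTheory.Functor.ext (fun _ => rfl) fun a b φ => by
    rw [eqToHom_refl, eqToHom_refl, Category.id_comp, Category.comp_id]
    exact val_homOf K hK φ

theorem Ψ_Φ : Ψ K hK ⋙ Φ K hK = 𝟭 _ := by
  have key : ∀ (U : 𝒮) (a : p.Fiber U), (Φ K hK).obj a.1 = (⟨U, a⟩ : G K hK) := by
    rintro U ⟨a, h⟩
    subst h
    rfl
  have hobj : ∀ X : G K hK, (Φ K hK).obj ((Ψ K hK).obj X) = X := fun X => key X.base (fib K hK X)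
  have hb : ∀ {X Y : G K hK} (h : X = Y), (eqToHom h).base = eqToHom (congrArg (fun Z : G K hK => Z.base) h) := by
    rintro X Y rfl; rfl
  refine CategoryTheory.Functor.ext hobj fun X Y m => hom_ext K hK ?_ ?_
  · rw [CoGrothendieck.categoryStruct_comp_base, CoGrothendieck.categoryStruct_comp_base, hb, hb]
    exact map_val K hK m
  · rw [val_comp, val_comp]
    refine (val_homOf K hK (val K hK m)).trans ?_
    have hv : ∀ {X Y : G K hK} (h : X = Y), val K hK (eqToHom h) = eqToHom (congrArg (fun Z => (fib K hK Z).1) h) := by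
      rintro X Y rfl; simpa using val_id K hK X
    rw [hv, hv]
    exact ((Category.id_comp _).trans (Category.comp_id _)).symm

end Aux

/-- Let p : 𝒳 → 𝒮 be a fibred category and K a cleavage of p which is a splitting (the chosen transport
morphism over each identity is the identity, and the composite of two chosen transport morphisms is
the chosen transport morphism of the composite). Then 𝒳 is split: there are a strict functor F : 𝒮ᵒᵖ
→ Cat and an isomorphism of categories over 𝒮 between 𝒳 and the category of pairs (U, x) with x an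
object of F(U) built from F, i.e. functors Φ and Ψ inverse to each other on the nose with Φ followed
by the projection equal to p. (The published statement is an equivalence whose if-half assumes only
that, for some choice of pullbacks, the pullback functors (f ∘ g)^* and g^* ∘ f^* are equal; that
half fails: for the functor between one-object categories induced by reduction modulo 2 from the
integers to ℤ/2, a fibred category whose only fibre is the one-object category of the even integers,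
every choice of pullbacks has all pullback functors equal to the identity functor, yet the category
is not split, since an isomorphism with the category of a strict functor would give a homomorphic
section of ℤ → ℤ/2. This row assumes instead that the chosen transport morphisms are normalised and
closed under composition, and states only that implication.) -/
theorem result {𝒮 : Type u₁} [Category.{v₁} 𝒮] {𝒳 : Type u₂} [Category.{v₂} 𝒳]
    (p : 𝒳 ⥤ 𝒮) [p.IsFibered] (K : FibCat.Cleavage p) (hK : K.IsSplitting) :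
    ∃ (F : 𝒮ᵒᵖ ⥤ Cat.{v₂, u₂})
      (Φ : 𝒳 ⥤ Pseudofunctor.CoGrothendieck F.toPseudofunctor')
      (Ψ : Pseudofunctor.CoGrothendieck F.toPseudofunctor' ⥤ 𝒳),
      Φ ⋙ Ψ = 𝟭 𝒳 ∧ Ψ ⋙ Φ = 𝟭 _ ∧ Φ ⋙ Pseudofunctor.CoGrothendieck.forget F.toPseudofunctor' = p := by
  exact ⟨Aux.F K hK, Aux.Φ K hK, Aux.Ψ K hK, Aux.Φ_Ψ K hK, Aux.Ψ_Φ K hK,
    CategoryTheory.Functor.ext (fun _ => rfl) fun _ _ _ => ((Category.id_comp _).trans (Category.comp_id _)).symm⟩

end Groth.Agent.S12900
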