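import Groth.Statements.S12901
import Groth.Agent.S0056
import Groth.Agent.S11778
import Groth.Agent.FSchLib.Systems

set_option autoImplicit false
set_option backward.isDefEq.respectTransparency false
set_option backward.isDefEq.respectTransparency.types false
universe u
open CategoryTheory AlgebraicGeometry
open FSch

namespace Groth.Agent.S12901

/-- Closed immersions with the same kernel have isomorphic sources. -/
theorem exists_iso_of_ker_eq {Z₁ Z₂ X : Scheme.{u}} (i₁ : Z₁ ⟶ X) (i₂ : Z₂ ⟶ X) [IsClosedImmersion i₁]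
    [IsClosedImmersion i₂] (h : i₁.ker = i₂.ker) : ∃ e : Z₁ ≅ Z₂, e.hom ≫ i₂ = i₁ :=
  haveI : IsIso (IsClosedImmersion.lift i₂ i₁ h.ge) := IsClosedImmersion.isIso_lift i₂ i₁ h.symm
  ⟨asIso (IsClosedImmersion.lift i₂ i₁ h.ge), IsClosedImmersion.lift_fac _ _ _⟩


/-- Let A be a complete Noetherian local ring with maximal ideal m, and 𝔛 a formal scheme proper and
flat over A, presented as an adic system X_0 → X_1 → ⋯ over the thickenings Spec(A/m^{n+1}) (the
structure morphism is adic with proper level 0, and every level X_n → Spec(A/m^{n+1}) is flat). If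
X_0 is projective (it carries an ample invertible sheaf) and H^2(X_0, O_{X_0}) = 0, then 𝔛 is the
m-adic completion of a projective A-scheme: there are a proper A-scheme X carrying an ample
invertible sheaf and an isomorphism of systems, over the base, between 𝔛 and the completion of X
along the pulled-back ideal. -/
theorem result (A : Type u) [CommRing A] [IsLocalRing A]
    [IsNoetherianRing A] [IsAdicComplete (IsLocalRing.maximalIdeal A) A]
    (𝔛 : FSch.Sys.{u}) (f : 𝔛 ⟶ FSch.completionAlong (Spec (CommRingCat.of A)) (FSch.idealSpec A (IsLocalRing.maximalIdeal A)))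
    (hf : FSch.IsProperHom f) (hflat : ∀ n : ℕ, Flat ((f : FSch.Hom _ _).app n))
    (hproj : ∃ L₀ : (𝔛.X 0).Modules, CohB1.IsAmple L₀)
    (hH2 : Subsingleton (Coh.HH (𝔛.X 0) (Coh.structureModule (𝔛.X 0)) 2)) :
    ∃ (X : Scheme.{u}) (g : X ⟶ (Spec (CommRingCat.of A))) (L : X.Modules), IsProper g ∧ CohB1.IsAmple L ∧
      ∃ (h : FSch.PowCompat g ((FSch.idealSpec A (IsLocalRing.maximalIdeal A)).comap g) (FSch.idealSpec A (IsLocalRing.maximalIdeal A)))
        (e : 𝔛 ≅ FSch.completionAlong X ((FSch.idealSpec A (IsLocalRing.maximalIdeal A)).comap g)),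
        e.hom ≫ FSch.completionMap g ((FSch.idealSpec A (IsLocalRing.maximalIdeal A)).comap g) (FSch.idealSpec A (IsLocalRing.maximalIdeal A)) h = f := by
  obtain ⟨L₀, hL₀⟩ := hproj
  let S := Spec (CommRingCat.of A)
  let 𝔪 := IsLocalRing.maximalIdeal A
  let K := FSch.idealSpec A 𝔪
  haveI hci : ∀ n, IsClosedImmersion (CohB1.specQuot 𝔪 n) := fun n =>
    IsClosedImmersion.spec_of_surjective _ Ideal.Quotient.mk_surjective
  choose σ hσ using fun n => exists_iso_of_ker_eq (CohB1.specQuot 𝔪 n) (K ^ (n + 1)).subschemeι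
    ((FSchLib.ker_specQuot A 𝔪 n).trans (Scheme.IdealSheafData.ker_subschemeι _).symm)
  have hσt : ∀ n, (σ n).hom ≫ (FSch.completionAlong S K).ι n = CohB1.specQuotTrans 𝔪 n ≫ (σ (n + 1)).hom := fun n => by
    rw [← cancel_mono (K ^ (n + 1 + 1)).subschemeι, Category.assoc, Category.assoc, hσ]
    show (σ n).hom ≫ Scheme.IdealSheafData.inclusion _ ≫ _ = _
    rw [Scheme.IdealSheafData.inclusion_subschemeι, hσ, CohB1.specQuotTrans_specQuot]
  let p : ∀ n, 𝔛.X n ⟶ Spec (CommRingCat.of (A ⧸ 𝔪 ^ (n + 1))) := fun n => (f : FSch.Hom _ _).app n ≫ (σ n).inv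
  have hcart : ∀ n, IsPullback (𝔛.ι n) (p n) (p (n + 1)) (CohB1.specQuotTrans 𝔪 n) := fun n => by
    refine (hf.1 n).of_iso (Iso.refl _) (Iso.refl _) (σ n).symm (σ (n + 1)).symm (by simp) (by simp [p]) (by simp [p]) ?_
    rw [Iso.symm_hom, Iso.symm_hom, Iso.comp_inv_eq, Category.assoc, Iso.eq_inv_comp, hσt]
  haveI : IsProper ((f : FSch.Hom _ _).app 0) := hf.2
  haveI hp0 : IsProper (p 0) := inferInstanceAs (IsProper (_ ≫ _))
  have hfl : ∀ n, Flat (p n) := fun n => haveI := hflat n; inferInstanceAs (Flat (_ ≫ _))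
  haveI : (𝔛.X 0).IsSeparated := ⟨by rw [← Limits.terminal.comp_from (p 0)]; infer_instance⟩
  obtain ⟨L, hL, ⟨eL⟩, φ⟩ := S11778.result A 𝔛.X p 𝔛.ι hcart hfl hH2 L₀ hL₀.1
  obtain ⟨Y, g, M, e, hg, -, hMa, he, hec, -⟩ := S0056.result A 𝔪 𝔛.X p 𝔛.ι hcart hp0 L hL φ
    (AmpleLib.isAmple_of_iso eL.symm hL₀)
  haveI : ∀ n, IsClosedImmersion (e n) := fun n =>
    MorphismProperty.of_isPullback (P := @IsClosedImmersion) (he n).flip (hci n)
  have hker : ∀ n, (e n).ker = (K.comap g) ^ (n + 1) := fun n => by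
    rw [FSchLib.ker_of_isPullback (he n), FSchLib.ker_specQuot, FSchLib.comap_pow]
  choose ε hε using fun n => exists_iso_of_ker_eq (e n) ((K.comap g) ^ (n + 1)).subschemeι
    ((hker n).trans (Scheme.IdealSheafData.ker_subschemeι _).symm)
  have hεt : ∀ n, (ε n).hom ≫ (FSch.completionAlong Y (K.comap g)).ι n = 𝔛.ι n ≫ (ε (n + 1)).hom := fun n => by
    rw [← cancel_mono ((K.comap g) ^ (n + 1 + 1)).subschemeι, Category.assoc, Category.assoc, hε]
    show (ε n).hom ≫ Scheme.IdealSheafData.inclusion _ ≫ _ = _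
    rw [Scheme.IdealSheafData.inclusion_subschemeι, hε, hec]
  have hpow : FSch.PowCompat g (K.comap g) K := fun n => (FSchLib.comap_pow g K (n + 1)).le
  let E : 𝔛 ≅ FSch.completionAlong Y (K.comap g) :=
    { hom := (⟨fun n => (ε n).hom, hεt⟩ : FSch.Hom _ _)
      inv := (⟨fun n => (ε n).inv, fun n => by
        rw [Iso.inv_comp_eq, ← Category.assoc, hεt, Category.assoc, Iso.hom_inv_id, Category.comp_id]⟩ : FSch.Hom _ _)
      hom_inv_id := FSch.Hom.ext (funext fun n => (ε n).hom_inv_id)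
      inv_hom_id := FSch.Hom.ext (funext fun n => (ε n).inv_hom_id) }
  refine ⟨Y, g, M, hg, hMa, hpow, E, FSch.Hom.ext (funext fun n => ?_)⟩
  show (ε n).hom ≫ Scheme.IdealSheafData.subschemeMap _ _ g (Scheme.IdealSheafData.le_map_iff_comap_le.mpr (hpow n)) = (f : FSch.Hom _ _).app n
  rw [← cancel_mono (K ^ (n + 1)).subschemeι, Category.assoc, Scheme.IdealSheafData.subschemeMap_subschemeι,
    ← Category.assoc, hε, (he n).w, ← hσ n]
  simp [p]

end Groth.Agent.S12901
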