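import Groth.Statements.S12902
import Groth.Agent.Coherent.QcohOps
import Groth.Agent.EGA43.InjFibre.Scheme

set_option autoImplicit false
universe u
open CategoryTheory CategoryTheory.Limits AlgebraicGeometry
open Coherent

open CategoryTheory AlgebraicGeometry Groth.Agent
set_option backward.isDefEq.respectTransparency false
set_option backward.isDefEq.respectTransparency.types false

namespace Groth.Agent.S12902

/-- Let X be a scheme, j : U → X a quasi-compact open immersion, Z the closed complement of U, and F a
quasi-coherent O_X-module. Then the subsheaf Γ_Z(F) ⊆ F of sections supported in Z (the kernel of F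
→ j_*(F|_U)) is a quasi-coherent O_X-module. -/
theorem result {U X : Scheme.{u}} (j : U ⟶ X) [IsOpenImmersion j] [QuasiCompact j]
    (F : X.Modules) (hF : Coh.IsQCoh F) :
    Coh.IsQCoh ((DCoh.gammaZ j).obj F) := by
  haveI := hF
  haveI hp : Coh.IsQCoh ((Scheme.Modules.pullback j).obj F) := EGA43.InjFibre.isQCoh_pullback j F
  haveI : Coh.IsQCoh (F.restrict j) :=
    (Scheme.Modules.restrictFunctorIsoPullback j).app F |>.symm |> fun e => Coherent.isQCoh_of_iso e
  haveI : Coh.IsQCoh ((Scheme.Modules.restrictFunctor j ⋙ Scheme.Modules.pushforward j).obj F) :=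
    Coherent.isQCoh_push j (F.restrict j)
  haveI : Coh.IsQCoh ((𝟭 X.Modules).obj F) := hF
  exact Coherent.isQCoh_kernel ((Scheme.Modules.restrictAdjunction j).unit.app F)

end Groth.Agent.S12902
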