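import Groth.Statements.S12903
import Groth.Agent.QCohLoc.Basic
import Groth.Agent.Coherent.QcohOps
import Groth.Agent.AmpleLib.Power

set_option autoImplicit false
universe u
open CategoryTheory CategoryTheory.Limits AlgebraicGeometry Opposite
open Coherent

open CategoryTheory CategoryTheory.Limits AlgebraicGeometry Opposite TopologicalSpace Groth.Agent
set_option backward.isDefEq.respectTransparency false
set_option backward.isDefEq.respectTransparency.types false

namespace Groth.Agent.S12903

/-- Let X be a scheme, j : U → X a quasi-compact open immersion with closed complement Z, F a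
quasi-coherent O_X-module, V an affine open of X and I a finitely generated ideal of Γ(V, O_X)
cutting out Z ∩ V (a point of V lies outside U if and only if it lies in no basic open X_f with f ∈
I). Then a section s of F over V belongs to the subsheaf Γ_Z(F) of sections supported in Z (the
kernel of F → j_*(F|_U)) if and only if I^n s = 0 for some n. -/
theorem result {U X : Scheme.{u}} (j : U ⟶ X) [IsOpenImmersion j] [QuasiCompact j]
    (F : X.Modules) (hF : Coh.IsQCoh F) (V : X.Opens) (hV : IsAffineOpen V)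
    (I : Ideal (X.ringCatSheaf.obj.obj (op V))) (hI : I.FG)
    (hZ : ∀ x : X, x ∈ V → (x ∉ Set.range j.base ↔ ∀ f ∈ I, x ∉ X.basicOpen (f : Γ(X, V))))
    (s : F.val.obj (op V)) :
    s ∈ Set.range ((((CxOX.gammaZι j).app F).val.app (op V)).hom) ↔ ∃ n : ℕ, ∀ a ∈ I ^ n, a • s = 0 := by
  haveI : F.IsQuasicoherent := hF
  let φ := (Scheme.Modules.restrictAdjunction j).unit.app F
  let G := Scheme.Modules.toPresheaf X ⋙ (evaluation X.Opensᵒᵖ Ab).obj (op V)
  haveI : G.PreservesZeroMorphisms := ⟨fun _ _ => rfl⟩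
  haveI : PreservesLimit (parallelPair φ 0) G := by
    haveI : PreservesLimit (parallelPair φ 0 ⋙ Scheme.Modules.toPresheaf X) ((evaluation X.Opensᵒᵖ Ab).obj (op V)) :=
      evaluation_preservesLimit _ _
    exact comp_preservesLimit _ _
  have hex : ((ShortComplex.mk (kernel.ι φ) φ (kernel.condition φ)).map G).Exact :=
    ((ShortComplex.mk (kernel.ι φ) φ (kernel.condition φ)).map G).exact_of_f_is_kernel
      (isLimitForkMapOfIsLimit' G (kernel.condition φ) (kernelIsKernel φ))
  have key : s ∈ Set.range ((((CxOX.gammaZι j).app F).val.app (op V)).hom) ↔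
      F.presheaf.map (homOfLE (j.image_preimage_le V)).op (show Γ(F, V) from s) = 0 := by
    constructor
    · rintro ⟨t, rfl⟩
      have e : ((kernel.ι φ) ≫ φ).app V (show Γ(kernel φ, V) from t) = 0 := by rw [kernel.condition φ]; rfl
      exact e
    · intro h
      obtain ⟨t, ht⟩ := (ShortComplex.ab_exact_iff _).1 hex (show Γ(F, V) from s) h
      exact ⟨t, ht⟩
  rw [key]
  have hle : ∀ a ∈ I, X.basicOpen (a : Γ(X, V)) ≤ j ''ᵁ j ⁻¹ᵁ V := fun a ha y hy => by
    have hyV : y ∈ V := X.basicOpen_le _ hy
    obtain ⟨u, rfl⟩ : y ∈ Set.range j.base := by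
      by_contra hn
      exact (hZ y hyV).1 hn a ha hy
    exact ⟨u, hyV, rfl⟩
  constructor
  · intro h
    have hrad : ∀ a ∈ I, a ∈ (Submodule.span Γ(X, V) {(show Γ(F, V) from s)}).annihilator.radical := fun a ha => by
      obtain ⟨n, hn⟩ := QCohLoc.exists_pow_smul_eq_zero F hV (a : Γ(X, V)) (show Γ(F, V) from s) (by
        have e := congrArg (F.presheaf.map (homOfLE (hle a ha)).op) h
        rw [map_zero, ← ConcreteCategory.comp_apply, ← Functor.map_comp] at e
        exact e)
      exact ⟨n, (Submodule.mem_annihilator_span_singleton _ _).2 hn⟩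
    obtain ⟨n, hn⟩ := Ideal.exists_pow_le_of_le_radical_of_fg (I := (show Ideal Γ(X, V) from I)) hrad hI
    exact ⟨n, fun a ha => (Submodule.mem_annihilator_span_singleton _ _).1 (hn ha)⟩
  · rintro ⟨n, hn⟩
    refine AmpleLib.sec_ext F _ _ fun y hy => ?_
    obtain ⟨u, huV, rfl⟩ := hy
    obtain ⟨a, ha, hya⟩ : ∃ a ∈ I, j.base u ∈ X.basicOpen (a : Γ(X, V)) := by
      by_contra hn'
      push Not at hn'
      exact (hZ (j.base u) huV).2 hn' ⟨u, rfl⟩
    refine ⟨X.basicOpen (a : Γ(X, V)), hle a ha, hya, ?_⟩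
    have hu : IsUnit (X.presheaf.map (homOfLE (X.basicOpen_le (a : Γ(X, V)))).op (a : Γ(X, V))) :=
      RingedSpace.isUnit_res_basicOpen X.toRingedSpace (a : Γ(X, V))
    rw [map_zero, ← ConcreteCategory.comp_apply, ← Functor.map_comp]
    show F.presheaf.map (homOfLE (X.basicOpen_le (a : Γ(X, V)))).op (show Γ(F, V) from s) = 0
    refine (hu.pow n).smul_left_cancel.1 (Eq.trans ?_ (smul_zero _).symm)
    erw [← map_pow]
    refine Eq.trans (Scheme.Modules.map_smul F (homOfLE (X.basicOpen_le (a : Γ(X, V)))) ((a : Γ(X, V)) ^ n) (show Γ(F, V) from s)).symm ?_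
    exact (congrArg _ (hn _ (Ideal.pow_mem_pow ha n))).trans (map_zero _)

end Groth.Agent.S12903
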