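import Groth.Statements.S12909
import Groth.Agent.HilbertBurch5.Basic

set_option autoImplicit false
universe u
open CAlgX

namespace Groth.Agent.S12909

/-- Let R be a Noetherian ring and I a nonzero ideal with a finite free resolution 0 → R^{n_e} → … →
R^{n_1} → R^{n_0} → I → 0 with e ≥ 1: the map R^{n_{i+1}} → R^{n_i} is the matrix A_i, the map π :
R^{n_0} → R is linear with image I, the kernel of π is the image of A_0, the kernel of A_i is the
image of A_{i+1} for 0 ≤ i ≤ e - 2, and A_{e-1} is injective. Then I contains a non-zero-divisor of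
R. (The hypothesis that I is nonzero is implicit in the published statement: the zero ideal of a
domain has a finite free resolution and contains no non-zero-divisor.) -/
theorem result {R : Type u} [CommRing R] [IsNoetherianRing R]
    (e : ℕ) (he : 1 ≤ e) (n : ℕ → ℕ) (A : (i : ℕ) → Matrix (Fin (n i)) (Fin (n (i + 1))) R)
    (π : (Fin (n 0) → R) →ₗ[R] R) (hI : LinearMap.range π ≠ ⊥)
    (h0 : LinearMap.ker π = LinearMap.range (A 0).mulVecLin)
    (hA : ∀ i, i + 2 ≤ e → LinearMap.ker (A i).mulVecLin = LinearMap.range (A (i + 1)).mulVecLin)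
    (hlast : LinearMap.ker (A (e - 1)).mulVecLin = ⊥) :
    ∃ x : R, x ∈ LinearMap.range π ∧ x ∈ nonZeroDivisors R := by
  classical
  haveI : Nontrivial R := by
    rcases subsingleton_or_nontrivial R with hR | hR
    · exact absurd (Subsingleton.elim _ _) hI
    · exact hR
  let g : Fin (n 0) → R := fun j => π (Pi.single j 1)
  have hπ : π = Fintype.linearCombination R g := by
    apply LinearMap.pi_ext'
    intro i
    ext
    simp [g, Fintype.linearCombination_apply_single]
  have hrange : LinearMap.range π = Ideal.span (Set.range g) := by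
    rw [hπ, Fintype.range_linearCombination]
  let A' := HilbertBurch5.consA g A
  have hker0 : LinearMap.ker (A' 0).mulVecLin = LinearMap.range (A 0).mulVecLin := by
    refine Eq.trans ?_ h0
    ext z
    rw [hπ]
    exact HilbertBurch5.consA_zero_mulVec g A z
  have hzero : ∀ {a b c : ℕ} (M : Matrix (Fin a) (Fin b) R) (N : Matrix (Fin b) (Fin c) R),
      LinearMap.ker M.mulVecLin = LinearMap.range N.mulVecLin → M * N = 0 := by
    intro a b c M N h
    refine Matrix.toLin'.injective (LinearMap.ext fun v => ?_)
    rw [map_zero, Matrix.toLin'_apply, ← Matrix.mulVec_mulVec]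
    have : N.mulVecLin v ∈ LinearMap.ker M.mulVecLin := h ▸ ⟨v, rfl⟩
    exact this
  have hA' : ∀ i, i + 2 ≤ e + 1 → A' i * A' (i + 1) = 0 := fun i hi => match i with
    | 0 => hzero _ _ hker0
    | i + 1 => hzero (A i) (A (i + 1)) (hA i (by omega))
  have hex : CAlgH3.BECriterion.IsExact A' (e + 1) := by
    refine (CAlgH3.BECriterion.isExact_iff A' (e + 1) (by omega) hA').2 ⟨?_, fun i hi => match i with
      | 0 => hker0
      | i + 1 => hA i (by omega)⟩
    obtain ⟨e', rfl⟩ : ∃ e', e = e' + 1 := ⟨e - 1, by omega⟩
    exact hlast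
  obtain ⟨-, x, hx, hxr⟩ := HilbertBurch5.exists_regular_mem_range e n g A hA' hex (hrange ▸ hI)
  exact ⟨x, hrange ▸ hx, hxr⟩
end Groth.Agent.S12909
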