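import Groth.Statements.S12911
import Groth.Agent.CAlgH3.EN.Reg
import Groth.Agent.CAlgH3.EN.Fitt
-- import your own Groth.Agent.* helpers here

set_option autoImplicit false
set_option backward.isDefEq.respectTransparency.types false
universe u
open CategoryTheory CategoryTheory.Limits AlgebraicGeometry
open Variety
open Groth.Agent.CAlgH3.EN Groth.Agent.Coherent Groth.Agent.AmpleLib

namespace Groth.Agent.S12911

/-- Let k be a field and φ : O(-1)^n → O^m a morphism of modules on P^r_k, that is an m × n matrix of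
linear forms; let F be its cokernel and I = Fitt_0(F) the zeroth Fitting ideal sheaf of F, the
quasi-coherent ideal sheaf generated locally by the m × m minors of φ. If the closed subset of P^r_k
cut out by I has Krull dimension at most 1, then I, viewed as an O-module, is m-regular: H^j(P^r_k,
I(m - j)) = 0 for 1 ≤ j ≤ r. -/
theorem result (k : Type u) [Field k] (r m n : ℕ)
    (φ : (∐ fun _ : Fin n => Twist.twistProjSpace r k (-1)) ⟶ FlatMod.freeMod (CohB1.ProjSpace r k) m)
    (hdim : topologicalKrullDim ((Fitt.sheafIdeal (cokernel φ) 0).support : Set (CohB1.ProjSpace r k)) ≤ 1) :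
    Curv2.IsMRegular k r (ClSub.idealMod (Fitt.sheafIdeal (cokernel φ) 0)) m := by
  haveI := Groth.Agent.Coherent.isProper_projSpace_toSpec r k
  haveI : IsLocallyNoetherian (CohB1.ProjSpace r k) :=
    LocallyOfFiniteType.isLocallyNoetherian (CohB1.ProjSpace.toSpec r k)
  haveI := hasFiniteBiproducts (CohB1.ProjSpace r k)
  let Φ : (⨁ fun _ : Fin n => minusOne k r) ⟶ ⨁ fun _ : Fin m => Coh.structureModule (CohB1.ProjSpace r k) :=
    (biproduct.isoCoproduct _).hom ≫ φ ≫ (biproduct.isoCoproduct _).inv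
  let q : (⨁ fun _ : Fin m => Coh.structureModule (CohB1.ProjSpace r k)) ⟶ cokernel φ :=
    (biproduct.isoCoproduct _).hom ≫ cokernel.π φ
  have hQ : Coh.IsCoh (⨁ fun _ : Fin m => Coh.structureModule (CohB1.ProjSpace r k)) :=
    isCoh_biproduct _ fun _ => isCoh_structureModule _
  have hP : Coh.IsQCoh (⨁ fun _ : Fin n => minusOne k r) :=
    isQCoh_biproduct _ fun _ => isQCoh_of_isInvertible isInvertible_minusOne
  have h : Φ ≫ q = 0 := by
    show ((biproduct.isoCoproduct _).hom ≫ φ ≫ (biproduct.isoCoproduct _).inv) ≫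
      (biproduct.isoCoproduct _).hom ≫ cokernel.π φ = 0
    simp only [Category.assoc, Iso.inv_hom_id_assoc, cokernel.condition, comp_zero]
  let e₁ := biproduct.isoCoproduct (fun _ : Fin n => minusOne k r)
  let e₂ := biproduct.isoCoproduct (fun _ : Fin m => Coh.structureModule (CohB1.ProjSpace r k))
  have hex : (ShortComplex.mk Φ q h).Exact := by
    refine ShortComplex.exact_of_iso ?_ (ShortComplex.exact_cokernel φ)
    refine ShortComplex.isoMk (S₁ := ShortComplex.mk φ (cokernel.π φ) (cokernel.condition φ))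
      (S₂ := ShortComplex.mk Φ q h) e₁.symm e₂.symm (Iso.refl _) ?_ ?_
    · show e₁.inv ≫ (e₁.hom ≫ φ ≫ e₂.inv) = φ ≫ e₂.inv
      rw [Iso.inv_hom_id_assoc]
    · show e₂.inv ≫ (e₂.hom ≫ cokernel.π φ) = cokernel.π φ ≫ 𝟙 _
      rw [Iso.inv_hom_id_assoc, Category.comp_id]
  have hC : Coh.IsCoh (cokernel φ) :=
    isCoh_cokernel φ (isQCoh_of_iso (biproduct.isoCoproduct _) (h := hP))
      (isCoh_of_iso (biproduct.isoCoproduct _) hQ)
  exact isMRegular_idealMod (coeffs Φ) (isMinorIdeal_sheafIdeal Φ isInvertible_minusOne hC.1 hC.2 q h hex) hdim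

end Groth.Agent.S12911
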