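import Groth.Statements.S12912
import Groth.Agent.CurveRR24.VeryAmple
import Groth.Agent.GrLib.Hilbert
import Groth.Agent.SerreDual.Projective
import Groth.Agent.AbVarLib.GeomIntegralSmooth

set_option autoImplicit false
universe u
open CategoryTheory CategoryTheory.Limits AlgebraicGeometry
open Curves

namespace Groth.Agent.S12912

/-- Let k be an algebraically closed field and X a curve over k (integral, proper over k, of dimension
one) with a closed immersion i : X → P^r_k over k whose image lies in no hyperplane: every nonzero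
global section of O(1) on P^r_k pulls back to a nonzero global section of i^* O(1). Then deg i^*
O(1) ≥ r. -/
theorem result (k : Type u) [Field k] [IsAlgClosed k] (r : ℕ)
    (X : Scheme.{u}) [X.Over (Spec (CommRingCat.of k))] [IsIntegral X] [IsProper (X ↘ (Spec (CommRingCat.of k)))]
    (hdim : topologicalKrullDim X = 1)
    (i : X ⟶ CohB1.ProjSpace r k) [IsClosedImmersion i]
    (hi : i ≫ CohB1.ProjSpace.toSpec r k = (X ↘ (Spec (CommRingCat.of k))))
    (hplane : ∀ s : LinSer.Sect (CohB1.ProjSpace r k) (Twist.twistProjSpace r k 1), s ≠ 0 →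
      OmegaSh.pullSect i (Twist.twistProjSpace r k 1) ⊤ s ≠ 0) :
    (r : ℤ) ≤ Curv2.deg k X ((Scheme.Modules.pullback i).obj (Twist.twistProjSpace r k 1)) 1 := by
  classical
  let P := CohB1.ProjSpace r k
  let T := Twist.twistProjSpace r k 1
  haveI := Groth.Agent.EulerLib.isNoetherian_of_proper k (X := X)
  have hL : PicF.IsInvertible ((Scheme.Modules.pullback i).obj T) :=
    PicLoc.isInvertible_pullback i (Groth.Agent.SerreDual.isInvertible_twist r k 1)
  let ρP : k →+* Γ(P, ⊤) := Groth.Agent.Coherent.baseHom k P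
  let ρX := Groth.Agent.Coherent.baseHom k X
  have hcomm : ∀ a : k, i.appTop (ρP a) = ρX a := fun a => by
    show i.appTop ((CohB1.ProjSpace.toSpec r k).appTop ((Scheme.ΓSpecIso (CommRingCat.of k)).inv a)) =
      (X ↘ Spec (CommRingCat.of k)).appTop ((Scheme.ΓSpecIso (CommRingCat.of k)).inv a)
    rw [← ConcreteCategory.comp_apply, ← Scheme.Hom.comp_appTop, hi]
  let f : Groth.Agent.Coherent.GA ρP T →ₗ[k] Groth.Agent.Coherent.GA ρX ((Scheme.Modules.pullback i).obj T) :=
    { toFun := fun s => (show Γ((Scheme.Modules.pullback i).obj T, ⊤) from Groth.Agent.PicLib.pullSec i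
        (show Γ(T, ⊤) from s))
      map_add' := fun a b => map_add _ _ _
      map_smul' := fun a b => by
        show (show Γ((Scheme.Modules.pullback i).obj T, ⊤) from Groth.Agent.PicLib.pullSec i (ρP a • (show Γ(T, ⊤) from b))) =
          ρX a • (show Γ((Scheme.Modules.pullback i).obj T, ⊤) from Groth.Agent.PicLib.pullSec i (show Γ(T, ⊤) from b))
        rw [Groth.Agent.PicLib.pullSec_smul, ← hcomm a]
        rfl }
  have hf : Function.Injective f := (injective_iff_map_eq_zero f).2 fun s hs => by
    by_contra hne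
    exact hplane (show LinSer.Sect P T from s) hne hs
  have hP : Module.finrank k (Groth.Agent.Coherent.GA ρP T) = r + 1 := by
    obtain ⟨e⟩ := Groth.Agent.Coherent.nonempty_HH_zero_twist (n := r) (R := k) 1
    rw [← (Groth.Agent.CurveRR24.hhZero k T).finrank_eq]
    show Module.finrank k (Coh.HH P (Twist.twistProjSpace r k ((1 : ℕ) : ℤ)) 0) = _
    rw [e.finrank_eq, Groth.Agent.GrLib.finrank_homogeneous]
    rw [Nat.choose_succ_self_right]
  haveI := Groth.Agent.CurveRR24.finite_HH_of_isCoh k (Groth.Agent.CurveRR24.isCoh_of_isInvertible k hL) 0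
  haveI : Module.Finite k (Groth.Agent.Coherent.GA ρX ((Scheme.Modules.pullback i).obj T)) :=
    Module.Finite.equiv (Groth.Agent.CurveRR24.hhZero k _)
  have h1 := LinearMap.finrank_le_finrank_of_injective hf
  rw [hP, ← (Groth.Agent.CurveRR24.hhZero k _).finrank_eq] at h1
  have h2 := (Groth.Agent.CurveRR24.deg_nonneg_of_section k hdim.le hL
    (Module.nontrivial_of_finrank_pos (R := k) (by omega))).2.2
  rw [Groth.Agent.CurveRR24.h0_structure k] at h2
  show (r : ℤ) ≤ Curv2.deg k X ((Scheme.Modules.pullback i).obj T) 1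
  omega

end Groth.Agent.S12912
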