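import Groth.Statements.S12913
import Groth.Agent.Clifford24.Main
import Groth.Agent.Clifford24.Sub
import Groth.Agent.CycLib28.PB.Ops.LocFree
import Groth.Agent.VB5.Twist
import Groth.Agent.OmegaLib.StalkLocal
import Groth.Agent.TFPush7.MonoTwist
import Groth.Agent.Coherent.CohOps
-- import your own Groth.Agent.* helpers here

set_option autoImplicit false
universe u
open CategoryTheory CategoryTheory.Limits AlgebraicGeometry
open Curves

set_option backward.isDefEq.respectTransparency.types false
namespace Groth.Agent.S12913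

open Groth.Agent Groth.Agent.Coherent Groth.Agent.PicLib TopologicalSpace

local notation "St" => DerSch.stalkFunctor

section
variable {X : Scheme.{u}} (k : Type u) [Field k] [X.Over (Spec (CommRingCat.of k))]

/-- Multiplication by a constant. -/
noncomputable def mu (c : k) : Coh.structureModule X ⟶ Coh.structureModule X :=
  unitDesc (Coh.structureModule X) (show Γ(X, ⊤) from baseHom k X c)

theorem mu_app (c : k) (V : X.Opens) (a : Γ(X, V)) :
    (mu k c).app V a = (a * X.presheaf.map (homOfLE (le_top : V ≤ ⊤)).op (baseHom k X c) : Γ(X, V)) :=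
  CurveRR24.unitDesc_app _ _ V a

theorem mu_comp (a b : k) : mu (X := X) k a ≫ mu k b = mu k (a * b) := by
  refine Scheme.Modules.hom_ext _ _ fun V => ConcreteCategory.hom_ext _ _ fun x => ?_
  show (mu k b).app V ((mu k a).app V x) = (mu k (a * b)).app V x
  rw [mu_app, mu_app, mu_app, map_mul, map_mul, mul_assoc]

theorem mu_one : mu (X := X) k 1 = 𝟙 _ := by
  refine Scheme.Modules.hom_ext _ _ fun V => ConcreteCategory.hom_ext _ _ fun x => ?_
  show (mu k 1).app V x = x
  rw [mu_app, map_one, map_one, mul_one]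

theorem mu_stalk (c : k) (P : X) (v : (Coh.structureModule X).presheaf.stalk P) :
    TFPush7.ringVal P ((St X P).map (mu k c) v) =
      TFPush7.ringVal P v * X.presheaf.germ ⊤ P trivial (baseHom k X c) := by
  obtain ⟨U, hPU, a, rfl⟩ := (Coh.structureModule X).presheaf.exists_germ_eq v
  refine (congrArg (TFPush7.ringVal P) (stalk_map_germ (mu k c) hPU a)).trans ?_
  rw [mu_app, TFPush7.ringVal_germ, TFPush7.ringVal_germ, map_mul, TopCat.Presheaf.germ_res_apply]

variable [IsProper (X ↘ Spec (CommRingCat.of k))] [IsIntegral X] [IsAlgClosed k] [IsNoetherian X] [JacobsonSpace X]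

include k in
/-- Jointly monic functionals on a bundle without sections: some combination is nonzero and not epi. -/
theorem exists_not_epi {r : ℕ} {N : X.Modules} (hN : FlatMod.IsFinLocFreeOfRank (r + 1) N)
    {m : ℕ} (g : Fin m → (N ⟶ Coh.structureModule X))
    (hmono : ∀ {T : X.Modules} (w : T ⟶ N), (∀ i, w ≫ g i = 0) → w = 0)
    (h0 : ∀ s : LinSer.Sect X N, s = 0) :
    ∃ q : N ⟶ Coh.structureModule X, q ≠ 0 ∧ ¬ Epi q := by
  classical
  by_contra hcon
  push Not at hcon
  let P' : ℕ → Prop := fun n => ∃ S : Finset (Fin m), S.card = n ∧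
    ∀ (T : X.Modules) (w : T ⟶ N), (∀ i ∈ S, w ≫ g i = 0) → w = 0
  have hex : ∃ n, P' n := ⟨_, Finset.univ, rfl, fun T w h => hmono w fun i => h i (Finset.mem_univ i)⟩
  obtain ⟨S, hcard, hS⟩ := Nat.find_spec hex
  have hne : ∀ c : Fin m → k, (∃ i ∈ S, c i ≠ 0) → (∑ i ∈ S, g i ≫ mu k (c i)) ≠ 0 := by
    rintro c ⟨i₀, hi₀, hci⟩ hzero
    refine Nat.find_min hex (m := (S.erase i₀).card) ?_ ⟨_, rfl, fun T w hw => hS T w fun i hi => ?_⟩
    · rw [← hcard]
      exact Finset.card_erase_lt_of_mem hi₀
    · by_cases hii : i = i₀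
      · subst hii
        have h1 := congrArg (fun φ => w ≫ φ) hzero
        simp only [Preadditive.comp_sum, comp_zero] at h1
        rw [Finset.sum_eq_single i
          (fun j hj hji => by rw [← Category.assoc, hw j (Finset.mem_erase.2 ⟨hji, hj⟩), zero_comp])
          (fun h => absurd hi₀ h)] at h1
        have h2 := congrArg (· ≫ mu k (c i)⁻¹) h1
        simp only [Category.assoc, mu_comp, zero_comp, mul_inv_cancel₀ hci, mu_one, Category.comp_id] at h2
        exact h2
      · exact hw i (Finset.mem_erase.2 ⟨hii, hi⟩)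
  let G : N ⟶ freeMod X (ULift.{u} ↥S) := ∑ i : ULift.{u} ↥S, g i.down.1 ≫ freeInj i
  have hG : ∀ i, G ≫ freeProj i = g i.down.1 := fun i => by
    simp only [G, Preadditive.sum_comp, Category.assoc, freeInj_freeProj]
    rw [Finset.sum_eq_single i (fun j _ hj => by rw [if_neg hj, comp_zero])
      (fun h => absurd (Finset.mem_univ i) h), if_pos rfl, Category.comp_id]
  haveI : Mono G := Preadditive.mono_of_cancel_zero _ fun {T} w hw => hS T w fun i hi => by
    rw [← hG ⟨⟨i, hi⟩⟩, ← Category.assoc, hw, zero_comp]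
  have hSne : S.Nonempty := by
    rw [Finset.nonempty_iff_ne_empty]
    rintro rfl
    refine Clifford24.not_isZero_of_rank_pos r.succ_pos hN ?_
    rw [IsZero.iff_id_eq_zero]
    exact hS N (𝟙 N) (by simp)
  -- surjectivity at closed points
  have hsurj : ∀ P : X, IsClosed ({P} : Set X) → Function.Surjective ((St X P).map G) := by
    intro P hP
    let R := X.presheaf.stalk P
    let φ : k →+* R := (X.presheaf.germ ⊤ P trivial).hom.comp (baseHom k X)
    have hres : ∀ x : R, ∃ c : k, x - φ c ∈ IsLocalRing.maximalIdeal R := by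
      intro x
      let _ := Curv2.resAlgebra k X P
      haveI := CurveRR24.finite_resField hP k
      obtain ⟨c, hc⟩ := (IsAlgClosed.algebraMap_bijective_of_isIntegral (k := k) (K := X.residueField P)).2
        (IsLocalRing.residue _ x)
      refine ⟨c, (IsLocalRing.residue_eq_zero_iff _).1 ?_⟩
      rw [map_sub, sub_eq_zero, ← hc]
      rfl
    let gi : ULift.{u} ↥S → N.presheaf.stalk P →ₗ[R] R := fun i =>
      (TFPush7.ringVal P).toLinearMap.comp ((St X P).map (g i.down.1)).hom
    let F : N.presheaf.stalk P →ₗ[R] (ULift.{u} ↥S → R) := LinearMap.pi gi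
    let res : (ULift.{u} ↥S → R) → (ULift.{u} ↥S → k) := fun v i => (hres (v i)).choose
    have hres' : ∀ v i, v i - φ (res v i) ∈ IsLocalRing.maximalIdeal R := fun v i => (hres (v i)).choose_spec
    let W : Submodule k (ULift.{u} ↥S → k) := Submodule.span k (Set.range fun z => res (F z))
    have hW : W = ⊤ := by
      by_contra hW
      obtain ⟨l, hl0, hl⟩ := Submodule.exists_dual_map_eq_bot_of_lt_top (lt_top_iff_ne_top.2 hW) inferInstance
      let c : Fin m → k := fun i => if h : i ∈ S then l (Pi.single ⟨⟨i, h⟩⟩ 1) else 0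
      have hc : ∃ i ∈ S, c i ≠ 0 := by
        by_contra hall
        push Not at hall
        refine hl0 (LinearMap.pi_ext' fun i => LinearMap.ext_ring ?_)
        have := hall i.down.1 i.down.2
        simpa [c, i.down.2] using this
      let q := ∑ i ∈ S, g i ≫ mu k (c i)
      haveI : Epi q := hcon q (hne c hc)
      obtain ⟨z, hz⟩ := (ModuleCat.epi_iff_surjective ((St X P).map q)).1 inferInstance ((TFPush7.ringVal P).symm (1 : R))
      have hqz : TFPush7.ringVal P ((St X P).map q z) = ∑ i : ↥S, gi ⟨i⟩ z * φ (c i.1) := by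
        have h1 : (St X P).map q z = ∑ i ∈ S, (St X P).map (mu k (c i)) ((St X P).map (g i) z) := by
          simp only [q, Functor.map_sum, Functor.map_comp, ModuleCat.hom_sum, LinearMap.sum_apply]
          rfl
        refine ((congrArg (TFPush7.ringVal P) h1).trans (map_sum (TFPush7.ringVal P) _ S)).trans ?_
        rw [← Finset.sum_coe_sort S]
        refine Finset.sum_congr rfl fun i _ => ?_
        exact mu_stalk k (c i.1) P _
      have hlz : l (res (F z)) = 0 := by
        have h2 : l (res (F z)) ∈ W.map l := Submodule.mem_map_of_mem (Submodule.subset_span ⟨z, rfl⟩)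
        rwa [hl, Submodule.mem_bot] at h2
      have hlin : l (res (F z)) = ∑ i : ↥S, res (F z) ⟨i⟩ * c i.1 := by
        conv_lhs => rw [pi_eq_sum_univ' (res (F z))]
        rw [map_sum, ← Equiv.ulift.symm.sum_comp]
        refine Finset.sum_congr rfl fun i _ => ?_
        rw [map_smul, smul_eq_mul]
        simp [c, i.2]
      have hm : ∑ i : ↥S, (gi ⟨i⟩ z - φ (res (F z) ⟨i⟩)) * φ (c i.1) ∈ IsLocalRing.maximalIdeal R :=
        Ideal.sum_mem _ fun i _ => Ideal.mul_mem_right _ _ (hres' (F z) ⟨i⟩)
      simp only [sub_mul, Finset.sum_sub_distrib, ← map_mul] at hm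
      rw [← map_sum φ, ← hlin, hlz, map_zero, sub_zero, ← hqz] at hm
      rw [hz, LinearEquiv.apply_symm_apply] at hm
      exact (IsLocalRing.maximalIdeal.isMaximal R).ne_top ((Ideal.eq_top_iff_one _).2 hm)
    have hFsurj : LinearMap.range F = ⊤ := by
      refine eq_top_iff.2 (Submodule.le_of_le_smul_of_le_jacobson_bot (I := IsLocalRing.maximalIdeal R)
        Module.Finite.fg_top (IsLocalRing.maximalIdeal_le_jacobson ⊥) ?_)
      intro v _
      have key : ∀ w ∈ W, (fun i => φ (w i)) ∈ LinearMap.range F ⊔ IsLocalRing.maximalIdeal R • ⊤ := by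
        intro w hw
        induction hw using Submodule.span_induction with
        | mem x hx =>
          obtain ⟨z, rfl⟩ := hx
          refine Submodule.mem_sup.2 ⟨F z, ⟨z, rfl⟩, (fun i => φ (res (F z) i)) - F z, ?_, add_sub_cancel _ _⟩
          rw [pi_eq_sum_univ' ((fun i => φ (res (F z) i)) - F z)]
          refine Submodule.sum_mem _ fun i _ => Submodule.smul_mem_smul ?_ trivial
          rw [Pi.sub_apply, ← neg_sub]
          exact neg_mem (hres' (F z) i)
        | zero => convert Submodule.zero_mem _ using 1; funext i; simp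
        | add x y _ _ hx hy =>
          convert Submodule.add_mem _ hx hy using 1
          funext i
          simp
        | smul a x _ hx =>
          convert Submodule.smul_mem _ (φ a) hx using 1
          funext i
          simp
      have h1 := key (res v) (hW ▸ trivial)
      have h2 : v - (fun i => φ (res v i)) ∈ IsLocalRing.maximalIdeal R • (⊤ : Submodule R (ULift.{u} ↥S → R)) := by
        rw [pi_eq_sum_univ' (v - fun i => φ (res v i))]
        exact Submodule.sum_mem _ fun i _ => Submodule.smul_mem_smul (hres' v i) trivial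
      simpa using Submodule.add_mem _ h1 (Submodule.mem_sup_right h2)
    intro y
    obtain ⟨z, hz⟩ : ∃ z, F z = fun i => TFPush7.ringVal P ((St X P).map (freeProj i) y) :=
      (LinearMap.range_eq_top.1 hFsurj) _
    refine ⟨z, ?_⟩
    have hid : (∑ i : ULift.{u} ↥S, freeProj i ≫ freeInj i) = 𝟙 (freeMod X (ULift.{u} ↥S)) := by
      refine freeMod_hom_ext fun j => ?_
      rw [Preadditive.comp_sum, Category.comp_id, Finset.sum_eq_single j]
      · rw [← Category.assoc, freeInj_freeProj, if_pos rfl, Category.id_comp]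
      · intro i _ hi
        rw [← Category.assoc, freeInj_freeProj, if_neg (Ne.symm hi), zero_comp]
      · simp
    have hdec : ∀ v, v = ∑ i, (St X P).map (freeInj i) ((St X P).map (freeProj (X := X) (I := ULift.{u} ↥S) i) v) :=
      fun v => by
        have h1 := congrArg (fun φ => (St X P).map φ v) hid
        simp only [CategoryTheory.Functor.map_id, Functor.map_sum, Functor.map_comp, ModuleCat.hom_sum,
          LinearMap.sum_apply] at h1
        exact h1.symm
    rw [hdec y, hdec ((St X P).map G z)]
    refine Finset.sum_congr rfl fun i _ => ?_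
    congr 1
    rw [← ConcreteCategory.comp_apply, ← Functor.map_comp, hG]
    exact (TFPush7.ringVal P).injective (congrFun hz i)
  have hQ : LocallyFinGen (cokernel G) := fun x =>
    ⟨⊤, _, inferInstance, _, trivial, genOn_of_epi (cokernel.π G)⟩
  haveI : Epi G := OmegaLib.epi_of_stalks_surjective G fun x => by
    suffices hx : x ∉ CohB1.support (cokernel G) by
      have hsub : Subsingleton ((St X x).obj (cokernel G)) := by
        by_contra h
        exact hx h
      haveI : Epi ((St X x).map G) := by
        have hz : IsZero (cokernel ((St X x).map G)) :=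
          IsZero.of_iso (ModuleCat.isZero_iff_subsingleton.2 hsub) (PreservesCokernel.iso (St X x) G).symm
        exact Preadditive.epi_of_isZero_cokernel _ hz
      exact (ModuleCat.epi_iff_surjective _).1 inferInstance
    intro hx
    obtain ⟨P, hP, hPc⟩ := nonempty_inter_closedPoints (X := X) (Z := CohB1.support (cokernel G)) ⟨x, hx⟩
      (isClosed_support _ hQ).isLocallyClosed
    haveI : Epi ((St X P).map G) := (ModuleCat.epi_iff_surjective _).2 (hsurj P hPc)
    have : Subsingleton ((St X P).obj (cokernel G)) := ModuleCat.isZero_iff_subsingleton.1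
      (IsZero.of_iso (isZero_cokernel_of_epi ((St X P).map G)) (PreservesCokernel.iso (St X P) G))
    exact hP this
  haveI : IsIso G := isIso_of_mono_of_epi G
  obtain ⟨i, hi⟩ := hSne
  have h1 := h0 ((inv G).app ⊤ (freeBasisVec (X := X) (⟨⟨i, hi⟩⟩ : ULift.{u} ↥S) ⊤))
  have h2 : freeBasisVec (X := X) (⟨⟨i, hi⟩⟩ : ULift.{u} ↥S) ⊤ = 0 := by
    have h3 := congrArg (G.app ⊤) h1
    have h5 := congrArg (fun φ => φ.app ⊤ (freeBasisVec (X := X) (⟨⟨i, hi⟩⟩ : ULift.{u} ↥S) ⊤)) (IsIso.inv_hom_id G)
    exact h5.symm.trans (h3.trans (map_zero (G.app ⊤).hom))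
  have h4 := freeCoord_basisVec (X := X) (⊤ : X.Opens) (⟨⟨i, hi⟩⟩ : ULift.{u} ↥S) ⟨⟨i, hi⟩⟩
  rw [h2, if_pos rfl] at h4
  exact one_ne_zero (h4.symm.trans (map_zero _))

variable [Smooth (X ↘ Spec (CommRingCat.of k))] [GeometricallyIntegral (X ↘ Spec (CommRingCat.of k))]

theorem core (hdim : topologicalKrullDim X = 1) (hn : ∀ x : X, IsIntegrallyClosed (X.presheaf.stalk x)) :
    ∀ (r : ℕ) (N : X.Modules), FlatMod.IsFinLocFreeOfRank r N →
    ∀ {m : ℕ} (g : Fin m → (N ⟶ Coh.structureModule X)),
    (∀ {T : X.Modules} (w : T ⟶ N), (∀ i, w ≫ g i = 0) → w = 0) → (∀ s : LinSer.Sect X N, s = 0) →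
    ∃ (M : Fin (r + 1) → X.Modules) (f : (j : Fin r) → (M j.succ ⟶ M j.castSucc)),
      Nonempty (M 0 ≅ N) ∧ IsZero (M (Fin.last r)) ∧
        ∀ j : Fin r, Mono (f j) ∧ PicF.IsInvertible (cokernel (f j)) ∧ Curv2.deg k X (cokernel (f j)) 1 < 0
  | 0, N, hN, _, g, _, _ =>
    ⟨fun _ => N, fun j => j.elim0, ⟨Iso.refl _⟩, Clifford24.isZero_of_rank_zero hN, fun j => j.elim0⟩
  | r + 1, N, hN, m, g, hmono, h0 => by
    obtain ⟨q, hq0, hqe⟩ := exists_not_epi k hN g hmono h0
    obtain ⟨I, p, j, hp, hj, hpj, hI, hpos⟩ :=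
      VB5.exists_image k hdim hn hN (PicLib.isFinLocFreeOfRank_one AmpleLib.isInvertible_structureModule) q
    haveI := hp
    haveI := hj
    obtain ⟨hle, hIf⟩ := VB5.sub_bundle hdim.le hn (PicLib.isFinLocFreeOfRank_one AmpleLib.isInvertible_structureModule) j hI
    have hg1 : VB5.grk I = 1 := le_antisymm hle (hpos hq0)
    rw [hg1] at hIf
    have hIinv : PicF.IsInvertible I := VB5.invertible_of_rank_one hIf
    have hj0 : j ≠ 0 := fun h => hq0 (by rw [← hpj, h, comp_zero])
    have hji : ¬ IsIso j := fun h => hqe (by rw [← hpj]; exact epi_comp p j)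
    have hdeg := Clifford24.deg_lt_of_hom k hdim hIinv AmpleLib.isInvertible_structureModule j hj0 hji
    rw [CurveRR24.deg_structure] at hdeg
    have hK := CycLib28.PB.Ops.isFinLocFreeOfRank_kernel_line hN hIinv p
    obtain ⟨M, f, ⟨e⟩, hz, hf⟩ := core hdim hn r (kernel p) hK (fun i => kernel.ι p ≫ g i)
      (fun {T} w hw => by
        rw [← cancel_mono (kernel.ι p), zero_comp]
        exact hmono _ fun i => by rw [Category.assoc]; exact hw i)
      (fun s => app_injective_of_mono (kernel.ι p) ⊤ ((h0 _).trans (map_zero _).symm))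
    let M' : Fin (r + 2) → X.Modules := Fin.cases N M
    let f' : (i : Fin (r + 1)) → (M' i.succ ⟶ M' i.castSucc) :=
      Fin.cases (motive := fun i => M' i.succ ⟶ M' i.castSucc) (e.hom ≫ kernel.ι p) (fun i => f i)
    refine ⟨M', f', ⟨Iso.refl _⟩, hz, Fin.cases ?_ fun i => hf i⟩
    let ec : cokernel (e.hom ≫ kernel.ι p) ≅ I := cokernelEpiComp e.hom (kernel.ι p) ≪≫
      (cokernelIsCokernel (kernel.ι p)).coconePointUniqueUpToIso
        (Abelian.epiIsCokernelOfKernel (KernelFork.ofι (kernel.ι p) (kernel.condition p)) (kernelIsKernel p))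
    refine ⟨inferInstanceAs (Mono (e.hom ≫ kernel.ι p)), ?_, ?_⟩
    · exact AmpleLib.glocus_isInvertible_of_iso ec.symm hIinv
    · exact lt_of_eq_of_lt (CurveRR24.deg_congr k ec 1) hdeg

end

/-- Let k be an algebraically closed field, C a curve over k (integral, proper over k, of dimension one,
all local rings regular), and N a locally free O_C-module of rank r which admits a monomorphism into
O_C^m for some m and has no nonzero global section. Then there is a filtration N = N_0 ⊃ N_1 ⊃ ⋯ ⊃
N_r = 0 whose successive quotients are invertible sheaves of strictly negative degree; it is given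
here as modules M_0, …, M_r with M_0 ≅ N, M_r = 0 and monomorphisms M_{j+1} → M_j whose cokernels
are invertible of negative degree. -/
theorem result (k : Type u) [Field k] [IsAlgClosed k]
    (C : Scheme.{u}) [C.Over (Spec (CommRingCat.of k))] [IsIntegral C] [IsProper (C ↘ (Spec (CommRingCat.of k)))]
    (hdim : topologicalKrullDim C = 1) (hreg : ∀ x : C, IsRegularLocalRing (C.presheaf.stalk x))
    (N : C.Modules) (r : ℕ) (hN : FlatMod.IsFinLocFreeOfRank r N) (m : ℕ) (ι : N ⟶ FlatMod.freeMod C m) [Mono ι]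
    (h0 : ∀ s : LinSer.Sect C N, s = 0) :
    ∃ (M : Fin (r + 1) → C.Modules) (f : (j : Fin r) → (M j.succ ⟶ M j.castSucc)),
      Nonempty (M 0 ≅ N) ∧ IsZero (M (Fin.last r)) ∧
        ∀ j : Fin r, Mono (f j) ∧ PicF.IsInvertible (cokernel (f j)) ∧ Curv2.deg k C (cokernel (f j)) 1 < 0 := by
  classical
  haveI := EulerLib.isNoetherian_of_proper k (X := C)
  haveI := LocallyOfFiniteType.jacobsonSpace (C ↘ Spec (CommRingCat.of k))
  obtain ⟨hsm, hgi⟩ := Clifford24.smooth_geomIntegral_of_regular (k := k) (X := C) hreg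
  have hn : ∀ x : C, IsIntegrallyClosed (C.presheaf.stalk x) := fun x => by
    haveI := hreg x
    exact CAlgH3.isIntegrallyClosed_of_regular _
  let π : Fin m → (FlatMod.freeMod C m ⟶ Coh.structureModule C) := fun i =>
    Sigma.desc fun j => if j = i then 𝟙 _ else 0
  have htot : (∑ i, π i ≫ Sigma.ι (fun _ : Fin m => Coh.structureModule C) i) = 𝟙 (FlatMod.freeMod C m) := by
    refine Sigma.hom_ext _ _ fun j => ?_
    rw [Preadditive.comp_sum, Finset.sum_eq_single j]
    · simp [π]
    · intro i _ hi
      simp [π, Ne.symm hi]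
    · simp
  refine core k hdim hn r N hN (fun i => ι ≫ π i) (fun {T} w hw => ?_) h0
  rw [← cancel_mono ι, zero_comp, ← Category.comp_id ι, ← htot, Preadditive.comp_sum, Preadditive.comp_sum]
  refine Finset.sum_eq_zero fun i _ => ?_
  rw [← Category.assoc ι, ← Category.assoc w, hw i, zero_comp]

end Groth.Agent.S12913
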