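import Groth.Statements.S12915
import Mathlib
import Groth.Agent.LatticeLib24.Dist
import Groth.Agent.GrLib.Hilbert

set_option linter.all false

set_option autoImplicit false
universe u
open CAlgX

open TensorProduct

namespace Groth.Agent.S12915

/-- Let k be a field, S = k[x_0, …, x_r], and f a nonzero homogeneous polynomial of degree m. For every
t ≥ m the image in S/(f) of the homogeneous polynomials of degree t is a k-vector space of dimension
C(t + r, r) - C(t + r - m, r). (The published clause states that the hypersurface f = 0 in P^r has
degree m; its proof computes exactly this Hilbert function, whose polynomial has leading term m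
t^(r-1)/(r-1)!, and that computation is what is stated here.) -/
theorem result (k : Type u) [Field k] (r m : ℕ)
    (f : MvPolynomial (Fin (r + 1)) k) (hf : f.IsHomogeneous m) (hf0 : f ≠ 0) (t : ℕ) (ht : m ≤ t) :
    Module.finrank k
        (Submodule.map ((Ideal.Quotient.mkₐ k (Ideal.span {f})).toLinearMap)
          (MvPolynomial.homogeneousSubmodule (Fin (r + 1)) k t)) =
      Nat.choose (t + r) r - Nat.choose (t + r - m) r := by
  classical
  set S := MvPolynomial.homogeneousSubmodule (Fin (r + 1)) k t
  set π := (Ideal.Quotient.mkₐ k (Ideal.span {f})).toLinearMap with hπ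
  set S' := MvPolynomial.homogeneousSubmodule (Fin (r + 1)) k (t - m)
  haveI : FiniteDimensional k S := by
    refine Module.finite_of_finrank_pos ?_
    rw [Groth.Agent.GrLib.finrank_homogeneous]
    exact Nat.choose_pos (by omega)
  have h1 := LinearMap.finrank_range_add_finrank_ker (π.domRestrict S)
  rw [LinearMap.range_domRestrict] at h1
  have hker : (LinearMap.ker (π.domRestrict S)).map S.subtype = S'.map (LinearMap.mulLeft k f) := by
    ext x
    simp only [Submodule.mem_map, LinearMap.mem_ker, LinearMap.mulLeft_apply]
    constructor
    · rintro ⟨⟨y, hy⟩, hy0, rfl⟩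
      have : y ∈ Ideal.span {f} := Ideal.Quotient.eq_zero_iff_mem.1 hy0
      obtain ⟨q, rfl⟩ := Ideal.mem_span_singleton'.1 this
      refine ⟨MvPolynomial.homogeneousComponent (t - m) q, MvPolynomial.homogeneousComponent_mem _ _, ?_⟩
      have e := congrArg (MvPolynomial.homogeneousComponent t) (mul_comm q f)
      rw [MvPolynomial.homogeneousComponent_of_mem hy, if_pos rfl] at e
      show f * _ = q * f
      rw [e, ← MvPolynomial.sum_homogeneousComponent q, Finset.mul_sum, map_sum, map_sum]
      rw [Finset.mul_sum]
      refine Finset.sum_congr rfl fun i _ => ?_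
      rw [MvPolynomial.homogeneousComponent_of_mem (MvPolynomial.homogeneousComponent_mem i q),
        MvPolynomial.homogeneousComponent_of_mem (hf.mul (MvPolynomial.homogeneousComponent_mem i q))]
      by_cases h : t - m = i
      · rw [if_pos h, if_pos (by omega)]
      · rw [if_neg h, if_neg (by omega), mul_zero]
    · rintro ⟨q, hq, rfl⟩
      refine ⟨⟨f * q, ?_⟩, Ideal.Quotient.eq_zero_iff_mem.2 (Ideal.mul_mem_right _ _ (Ideal.mem_span_singleton_self f)), rfl⟩
      rw [MvPolynomial.mem_homogeneousSubmodule, show t = m + (t - m) by omega]
      exact hf.mul hq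
  have h2 : Module.finrank k (LinearMap.ker (π.domRestrict S)) = Module.finrank k S' := by
    rw [(Submodule.equivMapOfInjective S.subtype S.injective_subtype _).finrank_eq, hker]
    exact ((Submodule.equivMapOfInjective _ (mul_right_injective₀ hf0) S').finrank_eq).symm
  rw [h2, Groth.Agent.GrLib.finrank_homogeneous, Groth.Agent.GrLib.finrank_homogeneous] at h1
  rw [show t + r - m = r + (t - m) by omega, show t + r = r + t by omega, ← h1, Nat.add_sub_cancel]

end Groth.Agent.S12915
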