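import Groth.Statements.S12916
import Mathlib.RingTheory.Ideal.AssociatedPrime.Localization
import Mathlib.Algebra.Module.Submodule.Union
import Groth.Agent.EGA41Lib.SemiLocalSop
import Mathlib.RingTheory.MvPolynomial.Ideal

set_option autoImplicit false
universe u
open CAlgX

namespace Groth.Agent.S12916

theorem irrelevant_le {k : Type*} [Field k] {n : ℕ} (P : Ideal (MvPolynomial (Fin n) k)) [P.IsPrime]
    (h : ∀ i, MvPolynomial.X i ∈ P) : P.IsMaximal := by
  have hmax : (RingHom.ker (MvPolynomial.constantCoeff : MvPolynomial (Fin n) k →+* k)).IsMaximal :=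
    RingHom.ker_isMaximal_of_surjective _ fun c => ⟨MvPolynomial.C c, MvPolynomial.constantCoeff_C (Fin n) c⟩
  refine hmax.eq_of_le (Ideal.IsPrime.ne_top ‹_›) ?_ ▸ hmax
  intro f hf
  have h1 : f ∈ Ideal.span ((MvPolynomial.X : Fin n → MvPolynomial (Fin n) k) '' Set.univ) := by
    rw [MvPolynomial.mem_ideal_span_X_image]
    intro m hm
    by_contra hc
    push Not at hc
    have hm0 : m = 0 := Finsupp.ext fun i => hc i (Set.mem_univ i)
    rw [MvPolynomial.mem_support_iff, hm0] at hm
    exact hm hf
  exact (Ideal.span_le.mpr (by rintro _ ⟨i, -, rfl⟩; exact h i)) h1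


/-- Let k be an infinite field, S = k[x_0, …, x_r], M a finitely generated S-module and d a natural
number. Then some nonzero homogeneous polynomial f of degree d is quasi-regular on M: the submodule
(0 :_M f) of elements of M annihilated by f has finite length. (The published statement assumes M
graded; this row assumes only that M is finitely generated.) -/
theorem result (k : Type u) [Field k] [Infinite k] (r d : ℕ)
    (M : Type u) [AddCommGroup M] [Module (MvPolynomial (Fin (r + 1)) k) M] [Module.Finite (MvPolynomial (Fin (r + 1)) k) M] :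
    ∃ f : MvPolynomial (Fin (r + 1)) k, f.IsHomogeneous d ∧ f ≠ 0 ∧
      IsFiniteLength (MvPolynomial (Fin (r + 1)) k) ↥(Submodule.torsionBy (MvPolynomial (Fin (r + 1)) k) M f) := by
  classical
  let S := MvPolynomial (Fin (r + 1)) k
  let T : Set (Ideal S) := {P | P ∈ associatedPrimes S M ∧ ¬ P.IsMaximal}
  have hT : T.Finite := (associatedPrimes.finite S M).subset fun P hP => hP.1
  have : Finite T := hT.to_subtype
  let V := MvPolynomial.homogeneousSubmodule (Fin (r + 1)) k d
  let p : Option T → Submodule k V := fun o => match o with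
    | none => ⊥
    | some P => ((P.1 : Submodule S S).restrictScalars k).comap V.subtype
  have hp : ∀ o, p o ≠ ⊤ := by
    rintro (_ | ⟨P, hP, hPm⟩) htop
    · have hX : (MvPolynomial.X 0 : S) ^ d ∈ V := by
        simpa using! (MvPolynomial.isHomogeneous_X k (0 : Fin (r + 1))).pow d
      have := htop.ge (Submodule.mem_top : (⟨_, hX⟩ : V) ∈ ⊤)
      exact pow_ne_zero d (MvPolynomial.X_ne_zero (0 : Fin (r + 1))) (congrArg Subtype.val ((Submodule.mem_bot k).mp this))
    · have : P.IsPrime := hP.isPrime
      refine hPm (irrelevant_le P fun i => ?_)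
      have hX : (MvPolynomial.X i : S) ^ d ∈ V := by
        simpa using! (MvPolynomial.isHomogeneous_X k i).pow d
      exact Ideal.IsPrime.mem_of_pow_mem ‹_› d (htop.ge (Submodule.mem_top : (⟨_, hX⟩ : V) ∈ ⊤))
  obtain ⟨f, hf⟩ := Submodule.exists_forall_notMem_of_forall_ne_top p hp
  refine ⟨f.1, f.2, fun h => hf none ((Submodule.mem_bot k).mpr (Subtype.ext h)), ?_⟩
  set N := Submodule.torsionBy S M f.1 with hN
  rw [EGA41Lib.isFiniteLength_iff_supportDim_le_zero]
  refine Order.krullDim_nonpos_iff_forall_isMax.mpr fun q => ?_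
  have hq : Module.annihilator S N ≤ q.1.asIdeal := by
    have := q.2
    rwa [Module.mem_support_iff_of_finite] at this
  obtain ⟨P, hPmin, hPq⟩ := Ideal.exists_minimalPrimes_le hq
  have hfP : f.1 ∈ P := hPmin.1.2 (Module.mem_annihilator.mpr fun x => Subtype.ext x.2)
  have hass : P ∈ associatedPrimes S M :=
    associatedPrimes.subset_of_injective (f := N.subtype) N.injective_subtype
      (Module.associatedPrimes.minimalPrimes_annihilator_subset_associatedPrimes S N hPmin)
  have hmax : P.IsMaximal := by
    by_contra hc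
    exact hf (some ⟨P, hass, hc⟩) hfP
  intro q' hq'
  have : q.1.asIdeal = q'.1.asIdeal :=
    le_antisymm hq' ((hmax.eq_of_le q'.1.isPrime.ne_top (hPq.trans hq')).ge.trans hPq)
  exact this.ge

end Groth.Agent.S12916
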