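import Groth.Statements.S12917
import Groth.Agent.CAlgH3.GrMinimal
import Groth.Agent.GrLib.RegPoly
import Mathlib
-- import your own Groth.Agent.* helpers here

set_option autoImplicit false
set_option maxHeartbeats 1000000
universe u
open CAlgX

namespace Groth.Agent.S12917

/-- Let k be a field, Z a finite set of nonzero vectors in k^3, regarded as points of the projective
plane, and I the homogeneous vanishing ideal of Z in S = k[x_0, x_1, x_2]: a polynomial belongs to I
exactly when each of its homogeneous components vanishes at every vector of Z. Then I has a free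
resolution of length one: for some t there are a (t+1) × t matrix Ψ over S, injective as a map S^t →
S^{t+1}, and an S-linear map π : S^{t+1} → S with ker π = im Ψ and im π = I. (The published
statement speaks of the minimal free resolution of I having length 1; stated here as the existence
of such a resolution.) -/
theorem result (k : Type u) [Field k]
    (Z : Finset (Fin 3 → k)) (hZ : ∀ p ∈ Z, p ≠ 0) (I : Ideal (MvPolynomial (Fin 3) k))
    (hI : ∀ f : MvPolynomial (Fin 3) k, f ∈ I ↔
      ∀ p ∈ Z, ∀ j : ℕ, MvPolynomial.eval p (MvPolynomial.homogeneousComponent j f) = 0) :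
    ∃ (t : ℕ) (Ψ : Matrix (Fin (t + 1)) (Fin t) (MvPolynomial (Fin 3) k)) (π : (Fin (t + 1) → MvPolynomial (Fin 3) k) →ₗ[MvPolynomial (Fin 3) k] MvPolynomial (Fin 3) k),
      LinearMap.ker Ψ.mulVecLin = ⊥ ∧ LinearMap.ker π = LinearMap.range Ψ.mulVecLin ∧ LinearMap.range π = I := by
  classical
  open Groth.Agent.CAlgH3 Groth.Agent.CAlgH3.GrMinimal in
  -- kernels of linear substitutions
  have hker : ∀ (c : Fin 3 → k) (s : Finset (Fin 3)) (i : Fin 3), i ∉ s →
      RingHom.ker (MvPolynomial.aeval (fun j => if j ∈ s then MvPolynomial.C (c j) * MvPolynomial.X i else MvPolynomial.X j) : (MvPolynomial (Fin 3) k) →ₐ[k] (MvPolynomial (Fin 3) k)) =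
        Ideal.span ((fun j => MvPolynomial.X j - MvPolynomial.C (c j) * MvPolynomial.X i) '' (s : Set (Fin 3))) := by
    intro c s i hi
    set θ : (MvPolynomial (Fin 3) k) →ₐ[k] (MvPolynomial (Fin 3) k) := MvPolynomial.aeval (fun j => if j ∈ s then MvPolynomial.C (c j) * MvPolynomial.X i else MvPolynomial.X j)
    have hmain : ∀ f : (MvPolynomial (Fin 3) k), f - θ f ∈ Ideal.span ((fun j => MvPolynomial.X j - MvPolynomial.C (c j) * MvPolynomial.X i) '' (s : Set (Fin 3))) := by
      intro f
      induction f using MvPolynomial.induction_on with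
      | C a => simp [θ]
      | add f g hf hg => rw [map_add, add_sub_add_comm]; exact add_mem hf hg
      | mul_X f j hf =>
        rw [map_mul, show f * MvPolynomial.X j - θ f * θ (MvPolynomial.X j) =
          (f - θ f) * MvPolynomial.X j + θ f * (MvPolynomial.X j - θ (MvPolynomial.X j)) by ring]
        refine add_mem (Ideal.mul_mem_right _ _ hf) (Ideal.mul_mem_left _ _ ?_)
        simp only [θ, MvPolynomial.aeval_X]
        split_ifs with hj
        · exact Ideal.subset_span ⟨j, hj, rfl⟩
        · simp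
    refine le_antisymm (fun f hf => ?_) (Ideal.span_le.2 ?_)
    · rw [RingHom.mem_ker] at hf
      have := hmain f
      rwa [hf, sub_zero] at this
    · rintro _ ⟨j, hj, rfl⟩
      simp only [SetLike.mem_coe, RingHom.mem_ker, θ, map_sub, map_mul, MvPolynomial.aeval_X, MvPolynomial.aeval_C,
        MvPolynomial.algebraMap_eq, if_pos (Finset.mem_coe.1 hj), if_neg hi, sub_self]
  have hX : ∀ j, (MvPolynomial.X j : (MvPolynomial (Fin 3) k)) ∈ GrSyz.stdGr k (Fin 3) 1 := fun j => by
    rw [GrSyz.mem_stdGr_iff]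
    exact MvPolynomial.isWeightedHomogeneous_X k (fun _ => (1 : ℤ)) j
  let proj := GrLib.proj (GrSyz.stdGr k (Fin 3))
  -- the line through a point
  let ψ : (Fin 3 → k) → (MvPolynomial (Fin 3) k) →+* Polynomial k := fun p =>
    (MvPolynomial.aeval (fun j => Polynomial.C (p j) * Polynomial.X) : (MvPolynomial (Fin 3) k) →ₐ[k] Polynomial k).toRingHom
  have hψc : ∀ p (f : (MvPolynomial (Fin 3) k)) (j : ℕ), (ψ p f).coeff j = MvPolynomial.eval p (MvPolynomial.homogeneousComponent j f) := by
    intro p f j
    induction f using MvPolynomial.induction_on' with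
    | monomial e a =>
      rw [MvPolynomial.homogeneousComponent_of_mem (n := Finsupp.degree e) (MvPolynomial.isHomogeneous_monomial _ rfl)]
      show (MvPolynomial.aeval (fun j => Polynomial.C (p j) * Polynomial.X) (MvPolynomial.monomial e a)).coeff j = _
      rw [MvPolynomial.aeval_monomial, Finsupp.prod]
      simp only [mul_pow, Finset.prod_mul_distrib, Finset.prod_pow_eq_pow_sum, ← map_pow, ← map_prod, Polynomial.algebraMap_eq]
      rw [← mul_assoc, ← map_mul, Polynomial.coeff_C_mul_X_pow]
      rw [show (∑ x ∈ e.support, e x) = Finsupp.degree e from rfl]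
      split_ifs with h
      · rw [MvPolynomial.eval_monomial, Finsupp.prod]
      · rw [map_zero]
    | add f g hf hg => rw [map_add, Polynomial.coeff_add, hf, hg, map_add, map_add]
  -- one point
  have hpt : ∀ p : Fin 3 → k, p ≠ 0 → PD (MvPolynomial (Fin 3) k) 3 ((MvPolynomial (Fin 3) k) ⧸ RingHom.ker (ψ p)) ∧
      (RingHom.ker (ψ p)).IsHomogeneous (GrSyz.stdGr k (Fin 3)) ∧ RingHom.ker (ψ p) ≠ ⊥ := by
    intro p hp
    obtain ⟨i, hi⟩ := Function.ne_iff.1 hp
    let c : Fin 3 → k := fun j => p j / p i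
    let l : Fin 3 → (MvPolynomial (Fin 3) k) := fun j => MvPolynomial.X j - MvPolynomial.C (c j) * MvPolynomial.X i
    obtain ⟨j₁, j₂, h12, h1i, h2i, hall⟩ : ∃ j₁ j₂ : Fin 3, j₁ ≠ j₂ ∧ j₁ ≠ i ∧ j₂ ≠ i ∧ ∀ j, j = i ∨ j = j₁ ∨ j = j₂ := by
      clear hi c l
      revert i; decide
    let θ : (MvPolynomial (Fin 3) k) →ₐ[k] (MvPolynomial (Fin 3) k) := MvPolynomial.aeval (fun j => if j ∈ ({j₁, j₂} : Finset (Fin 3)) then MvPolynomial.C (c j) * MvPolynomial.X i else MvPolynomial.X j)
    have hJ : RingHom.ker (ψ p) = Ideal.span {l j₁, l j₂} := by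
      have h0 := hker c {j₁, j₂} i (by simp [Ne.symm h1i, Ne.symm h2i])
      rw [show Ideal.span ({l j₁, l j₂} : Set (MvPolynomial (Fin 3) k)) = RingHom.ker θ by rw [h0]; simp [l, Set.image_insert_eq]]
      let ι : Polynomial k →ₐ[k] (MvPolynomial (Fin 3) k) := Polynomial.aeval (MvPolynomial.C (p i)⁻¹ * MvPolynomial.X i)
      have hθ : θ = ι.comp (MvPolynomial.aeval (fun j => Polynomial.C (p j) * Polynomial.X)) := by
        refine MvPolynomial.algHom_ext fun j => ?_
        simp only [θ, ι, AlgHom.comp_apply, MvPolynomial.aeval_X, map_mul, Polynomial.aeval_C, Polynomial.aeval_X,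
          MvPolynomial.algebraMap_eq]
        split_ifs with hj
        · simp only [c, div_eq_mul_inv, map_mul]; ring
        · obtain rfl : j = i := (hall j).resolve_right (by simpa using hj)
          rw [← mul_assoc, ← map_mul, mul_inv_cancel₀ hi, map_one, one_mul]
      ext f
      simp only [RingHom.mem_ker]
      constructor
      · intro h
        rw [hθ, AlgHom.comp_apply]
        exact (congrArg ι h).trans (map_zero ι)
      · intro h
        have h2 : ((MvPolynomial.aeval (fun j => Polynomial.C (p j) * Polynomial.X)).comp θ : (MvPolynomial (Fin 3) k) →ₐ[k] Polynomial k) =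
            MvPolynomial.aeval (fun j => Polynomial.C (p j) * Polynomial.X) := by
          refine MvPolynomial.algHom_ext fun j => ?_
          simp only [θ, AlgHom.comp_apply, MvPolynomial.aeval_X]
          split_ifs
          · simp only [map_mul, MvPolynomial.aeval_C, MvPolynomial.aeval_X, Polynomial.algebraMap_eq, c]
            rw [← mul_assoc, ← map_mul, div_mul_cancel₀ _ hi]
          · rw [MvPolynomial.aeval_X]
        show MvPolynomial.aeval (fun j => Polynomial.C (p j) * Polynomial.X) f = 0
        rw [← h2, AlgHom.comp_apply, h, map_zero]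
    have hl : ∀ j, j ≠ i → l j ≠ 0 := fun j hj h => by
      have := congrArg (MvPolynomial.coeff (Finsupp.single j 1)) h
      simp [l, MvPolynomial.coeff_X', Finsupp.single_eq_single_iff, Ne.symm hj] at this
    refine ⟨?_, ?_, ?_⟩
    · refine (pd_ker_iff (f := (RingHom.ker (ψ p)).mkQ) (Submodule.mkQ_surjective _) 1).2 ?_
      rw [Submodule.ker_mkQ]
      let g₀ : (Fin 2 → (MvPolynomial (Fin 3) k)) →ₗ[(MvPolynomial (Fin 3) k)] (MvPolynomial (Fin 3) k) := Fintype.linearCombination (MvPolynomial (Fin 3) k) ![l j₁, l j₂]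
      have hrange : LinearMap.range g₀ = RingHom.ker (ψ p) := by
        rw [hJ, Fintype.range_linearCombination]
        simp [Matrix.range_cons, Matrix.range_empty, Ideal.span, Set.pair_comm]
      let g : (Fin 2 → (MvPolynomial (Fin 3) k)) →ₗ[(MvPolynomial (Fin 3) k)] (RingHom.ker (ψ p) : Ideal (MvPolynomial (Fin 3) k)) :=
        g₀.codRestrict _ (fun v => hrange ▸ LinearMap.mem_range_self g₀ v)
      have hgs : Function.Surjective g := fun y => by
        obtain ⟨v, hv⟩ : (y : (MvPolynomial (Fin 3) k)) ∈ LinearMap.range g₀ := hrange.symm ▸ y.2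
        exact ⟨v, Subtype.ext hv⟩
      refine (pd_ker_iff hgs 0).2 (pd_one_iff.2 ?_)
      let h : (MvPolynomial (Fin 3) k) →ₗ[(MvPolynomial (Fin 3) k)] (Fin 2 → (MvPolynomial (Fin 3) k)) := LinearMap.toSpanSingleton (MvPolynomial (Fin 3) k) (Fin 2 → (MvPolynomial (Fin 3) k)) ![l j₂, -l j₁]
      have hh : Function.Injective h := (injective_iff_map_eq_zero _).2 fun a ha => by
        have := congrFun ha 0
        simp [h] at this
        exact this.resolve_right (hl j₂ h2i)
      have hr : LinearMap.range h = LinearMap.ker g := by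
        rw [show LinearMap.ker g = LinearMap.ker g₀ from LinearMap.ker_codRestrict _ _ _]
        refine le_antisymm ?_ fun v hv => ?_
        · rintro _ ⟨a, rfl⟩
          simp [h, g₀, Fintype.linearCombination_apply, Fin.sum_univ_two]
          ring
        · have hv' : v 0 * l j₁ + v 1 * l j₂ = 0 := by
            simpa [g₀, Fintype.linearCombination_apply, Fin.sum_univ_two] using hv
          have h1 := hker c {j₁} i (by simp [Ne.symm h1i])
          have hb : v 1 ∈ Ideal.span {l j₁} := by
            rw [show Ideal.span ({l j₁} : Set (MvPolynomial (Fin 3) k)) = _ from by simpa [l] using h1.symm]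
            set θ₁ : (MvPolynomial (Fin 3) k) →ₐ[k] (MvPolynomial (Fin 3) k) := MvPolynomial.aeval (fun j => if j ∈ ({j₁} : Finset (Fin 3)) then MvPolynomial.C (c j) * MvPolynomial.X i else MvPolynomial.X j)
            have e1 : θ₁ (l j₁) = 0 := by simp [θ₁, l, Ne.symm h1i]
            have e2 : θ₁ (l j₂) = l j₂ := by simp [θ₁, l, Ne.symm h1i, Ne.symm h12]
            have := congrArg θ₁ hv'
            rw [map_add, map_mul, map_mul, e1, e2, mul_zero, zero_add, map_zero] at this
            exact RingHom.mem_ker.2 (by simpa [θ₁] using (mul_eq_zero.1 this).resolve_right (hl j₂ h2i))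
          obtain ⟨a, ha⟩ := Ideal.mem_span_singleton'.1 hb
          refine ⟨-a, funext fun x => ?_⟩
          fin_cases x
          · have : (v 0 + a * l j₂) * l j₁ = 0 := by rw [← ha] at hv'; linear_combination hv'
            have h0 := (mul_eq_zero.1 this).resolve_right (hl j₁ h1i)
            simp [h]
            linear_combination -h0
          · simp [h, ← ha]
            try ring
      exact Module.Projective.of_equiv ((LinearEquiv.ofInjective h hh).trans (LinearEquiv.ofEq _ _ hr))
    · rw [hJ]
      refine Ideal.homogeneous_span _ _ ?_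
      rintro x (rfl | rfl) <;> refine ⟨1, ?_⟩ <;>
      · refine Submodule.sub_mem _ (hX _) ?_
        rw [← MvPolynomial.smul_eq_C_mul]
        exact Submodule.smul_mem _ _ (hX _)
    · rw [hJ]
      exact fun h => hl j₁ h1i (Ideal.span_eq_bot.1 h _ (by simp))
  -- all the points
  let IZ : Finset (Fin 3 → k) → Ideal (MvPolynomial (Fin 3) k) := fun Y => Y.inf fun p => RingHom.ker (ψ p)
  have hI' : I = IZ Z := by
    ext f
    rw [hI, Submodule.mem_finsetInf]
    refine forall₂_congr fun p _ => ?_
    rw [RingHom.mem_ker]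
    constructor
    · intro h
      ext j
      rw [hψc, h, Polynomial.coeff_zero]
    · intro h j
      rw [← hψc, h, Polynomial.coeff_zero]
  have hind : ∀ Y : Finset (Fin 3 → k), (∀ p ∈ Y, p ≠ 0) →
      PD (MvPolynomial (Fin 3) k) 2 (IZ Y) ∧ (IZ Y).IsHomogeneous (GrSyz.stdGr k (Fin 3)) ∧ IZ Y ≠ ⊥ := by
    intro Y
    induction Y using Finset.induction with
    | empty =>
      intro _
      refine ⟨pd_mono one_le_two (pd_one_iff.2 ?_), ?_, by simp [IZ]⟩
      · simp only [IZ, Finset.inf_empty]
        exact Module.Projective.of_equiv Submodule.topEquiv.symm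
      · simp only [IZ, Finset.inf_empty]; exact Ideal.IsHomogeneous.top _
    | @insert p Y hpY ih =>
      intro hne
      obtain ⟨h1, h2, h3⟩ := ih fun x hx => hne x (Finset.mem_insert_of_mem hx)
      obtain ⟨q1, q2, q3⟩ := hpt p (hne p (Finset.mem_insert_self _ _))
      have e : IZ (insert p Y) = RingHom.ker (ψ p) ⊓ IZ Y := Finset.inf_insert ..
      refine ⟨?_, e ▸ q2.inf h2, fun h => ?_⟩
      · rw [e]
        let f : (IZ Y) →ₗ[(MvPolynomial (Fin 3) k)] (MvPolynomial (Fin 3) k) ⧸ RingHom.ker (ψ p) := (RingHom.ker (ψ p)).mkQ ∘ₗ (IZ Y).subtype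
        have hC : PD (MvPolynomial (Fin 3) k) 3 (LinearMap.range f) := by
          refine (pd_of_ses (LinearMap.range f).subtype (LinearMap.range f).mkQ (Submodule.subtype_injective _)
            (Submodule.mkQ_surjective _) (LinearMap.exact_subtype_mkQ _)).2.1 q1 ?_
          exact pd_poly (k := k) (m := 3) _
        have hK : PD (MvPolynomial (Fin 3) k) 2 (LinearMap.ker f) := by
          exact (pd_of_ses (LinearMap.ker f).subtype f.rangeRestrict (Submodule.subtype_injective _)
            f.surjective_rangeRestrict (LinearMap.exact_iff.2 (by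
              rw [LinearMap.ker_rangeRestrict, Submodule.range_subtype]))).2.1 h1 hC
        refine (pd_congr ?_).1 hK
        refine (Submodule.equivMapOfInjective (IZ Y).subtype (Submodule.subtype_injective _) _).trans
          (LinearEquiv.ofEq _ _ ?_)
        rw [LinearMap.ker_comp, Submodule.map_comap_subtype, Submodule.ker_mkQ, inf_comm]
      · rw [e] at h
        obtain ⟨a, ha, ha0⟩ := Submodule.exists_mem_ne_zero_of_ne_bot q3
        obtain ⟨b, hb, hb0⟩ := Submodule.exists_mem_ne_zero_of_ne_bot h3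
        have hab : a * b ∈ RingHom.ker (ψ p) ⊓ IZ Y := ⟨Ideal.mul_mem_right _ _ ha, Ideal.mul_mem_left _ _ hb⟩
        rw [h, Ideal.mem_bot] at hab
        exact (mul_ne_zero ha0 hb0) hab
  obtain ⟨hpd, hhom, hne⟩ := hI' ▸ hind Z hZ
  -- the grading of the ideal
  let ℳ : ℤ → Submodule k I := fun n => (GrSyz.stdGr k (Fin 3) n).comap (I.subtype.restrictScalars k)
  let π : ℤ → I →+ I := fun g => AddMonoidHom.mk' (fun x => ⟨proj g x, hhom g x.2⟩)
    (fun x y => Subtype.ext (by simp [proj]))
  have hint : DirectSum.IsInternal ℳ := by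
    refine GrLib.isInternal_of_proj (fun n => (ℳ n).toAddSubgroup) π
      (fun g m hm => Subtype.ext (GrLib.proj_of_mem hm)) (fun g h hne m hm => Subtype.ext (GrLib.proj_of_mem_ne hm hne)) ?_
    rw [eq_top_iff]
    intro x _
    obtain ⟨s, hs⟩ : ∃ s : Finset ℤ, ∀ g, g ∉ s → proj g (x : (MvPolynomial (Fin 3) k)) = 0 :=
      ⟨(GrLib.finite_support (GrSyz.stdGr k (Fin 3)) (x : (MvPolynomial (Fin 3) k))).toFinset, fun g hg => by
        by_contra h; exact hg ((Set.Finite.mem_toFinset _).2 h)⟩
    have : x = ∑ g ∈ s, π g x := Subtype.ext (by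
      rw [AddSubmonoidClass.coe_finsetSum]; exact (GrLib.sum_proj _ _ hs).symm)
    rw [this]
    exact AddSubgroup.sum_mem _ fun g _ => AddSubgroup.mem_iSup_of_mem g (GrLib.proj_mem (GrSyz.stdGr k (Fin 3)) g (x : (MvPolynomial (Fin 3) k)))
  letI : DirectSum.Decomposition ℳ := hint.chooseDecomposition
  haveI : SetLike.GradedSMul (GrSyz.stdGr k (Fin 3)) ℳ := ⟨fun {a b} r m hr hm => by
    exact SetLike.mul_mem_graded hr hm⟩
  obtain ⟨F, hF⟩ := GrLib.exists_minimal (k := k) (m := 3) ℳ
  have hlen : F.HasLengthLE 1 :=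
    (hasLengthLE_iff F (GrLib.irrel_ne_top k 3) hF 1).2 hpd
  have hr2 : F.rk 2 = 0 := hlen 2 one_lt_two
  have hinj : LinearMap.ker (F.d 0).mulVecLin = ⊥ := by
    rw [F.exact_succ 0, LinearMap.range_eq_bot]
    exact LinearMap.ext fun v => by
      haveI : IsEmpty (Fin (F.rk (0 + 1 + 1))) := by rw [hr2]; infer_instance
      rw [Subsingleton.elim v 0, map_zero, map_zero]
  have hrank : F.rk 0 = F.rk 1 + 1 := by
    have h1 := (LinearMap.ker F.augLin).finrank_quotient_add_finrank
    rw [(F.augLin.quotKerEquivOfSurjective F.aug_surjective).finrank_eq, Module.finrank_fin_fun, F.exact_zero,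
      LinearMap.finrank_range_of_inj (LinearMap.ker_eq_bot.1 hinj), Module.finrank_fin_fun] at h1
    have h2 : Module.finrank (MvPolynomial (Fin 3) k) I = 1 := le_antisymm
      ((Submodule.finrank_le _).trans (Module.finrank_self (MvPolynomial (Fin 3) k)).le)
      (Nat.one_le_iff_ne_zero.2 fun h0 => by
        obtain ⟨a, ha, ha0⟩ := Submodule.exists_mem_ne_zero_of_ne_bot hne
        haveI : Nontrivial I := ⟨⟨⟨a, ha⟩, 0, fun h => ha0 (congrArg Subtype.val h)⟩⟩
        exact (Module.finrank_pos (R := (MvPolynomial (Fin 3) k)) (M := I)).ne' h0)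
    have h3 : F.rk 0 = 1 + F.rk (0 + 1) := h1.symm.trans (congrArg (· + F.rk (0 + 1)) h2)
    exact h3.trans (add_comm _ _)
  obtain ⟨rk₀, rk₁, d₀, aug, e0, hinj, hex, hsurj⟩ : ∃ (r₀ r₁ : ℕ) (d : Matrix (Fin r₀) (Fin r₁) (MvPolynomial (Fin 3) k)) (aug : (Fin r₀ → (MvPolynomial (Fin 3) k)) →ₗ[(MvPolynomial (Fin 3) k)] I),
      r₀ = r₁ + 1 ∧ LinearMap.ker d.mulVecLin = ⊥ ∧ LinearMap.ker aug = LinearMap.range d.mulVecLin ∧
        Function.Surjective aug :=
    ⟨_, _, F.d 0, F.augLin, hrank, hinj, F.exact_zero, F.aug_surjective⟩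
  subst e0
  refine ⟨rk₁, d₀, I.subtype ∘ₗ aug, hinj, ?_, ?_⟩
  · rw [LinearMap.ker_comp_of_ker_eq_bot _ (Submodule.ker_subtype I), hex]
  · rw [LinearMap.range_comp, LinearMap.range_eq_top.2 hsurj, Submodule.map_top, Submodule.range_subtype]

end Groth.Agent.S12917
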