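import Groth.Statements.S12918
import Groth.Agent.HopfLib.Tame

set_option autoImplicit false
universe u v w
open HopfRep

namespace Groth.Agent.S12918

/-- Let `k` be a commutative ring, `A` a commutative Hopf algebra over `k`, flat as a `k`-module and `B`
a commutative `k`-algebra with a coaction `ρ : B → B ⊗ A` that is an algebra map (an action of the
affine group scheme `Spec A` on `Spec B`). Then the action admits a total integral — a comodule map
`α : A → B`, for the regular coaction on `A`, with `α 1 = 1` — if and only if `ρ` has a left inverse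
`B ⊗ A → B` which is a comodule map for the coaction `id ⊗ Δ` on `B ⊗ A`. -/
theorem result
    (k : Type u) [CommRing k] (A : Type v) [CommRing A] [HopfAlgebra k A] [Module.Flat k A]
    (B : Type w) [CommRing B] [Algebra k B] [HopfRep.Comod k A B] [GLin.IsCoactAlg k A B] :
    (∃ α : A →ₗ[k] B, Hoch.IsComodHom A α ∧ α 1 = 1) ↔
      ∃ lam : Hoch.Ind k A B →ₗ[k] B, Hoch.IsComodHom A lam ∧ lam ∘ₗ Hoch.toInd k A B = LinearMap.id := by
  constructor
  · rintro ⟨α, hα, h1⟩
    exact ⟨_, Groth.Agent.HopfLib.isComodHom_tameLam hα,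
      LinearMap.ext fun b => Groth.Agent.HopfLib.tameLam_coact h1 b⟩
  · rintro ⟨lam, hl, hr⟩
    let i : A →ₗ[k] Hoch.Ind k A B :=
      (Hoch.Ind.equiv k A B).toLinearMap ∘ₗ TensorProduct.mk k B A 1
    have hi : Hoch.IsComodHom A i := by
      refine LinearMap.ext fun a => ?_
      change Hoch.Ind.coactAux k A B ((1 : B) ⊗ₜ[k] a) = i.rTensor A (CoalgebraStruct.comul (R := k) a)
      rw [Hoch.Ind.coactAux_tmul, show Coalgebra.comul (R := k) a = CoalgebraStruct.comul (R := k) a from rfl]
      generalize CoalgebraStruct.comul (R := k) a = t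
      induction t using TensorProduct.induction_on with
      | zero => simp; rfl
      | add p q hp hq =>
        rw [TensorProduct.tmul_add, map_add, hp, hq]
        exact (map_add (i.rTensor A) p q).symm
      | tmul x y => simp [i, Hoch.Ind.equiv]; rfl
    refine ⟨lam ∘ₗ i, Groth.Agent.HopfLib.IsComodHom.comp hl hi, ?_⟩
    have h := LinearMap.congr_fun hr (1 : B)
    refine Eq.trans ?_ h
    have hc : HopfRep.Comod.coact (k := k) (A := A) (1 : B) = (1 : B) ⊗ₜ[k] (1 : A) :=
      (GLin.IsCoactAlg.coact_one (k := k) (A := A) (R := B)).trans Algebra.TensorProduct.one_def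
    simp [i, Hoch.toInd, hc]

end Groth.Agent.S12918
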