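import Groth.Statements.S12926
import Groth.Agent.HopfLib.Comod

set_option autoImplicit false
universe u v
open HopfRep

namespace Groth.Agent.S12926

/-- Let `k` be a commutative ring and `A` a commutative bialgebra over `k`, flat as a `k`-module. If the
submodule `k · 1` of the regular comodule `A` has a complement `H` which is a subcomodule — the case
used when `A` is cosemisimple, i.e. every subcomodule of every comodule is a direct summand as a
comodule — then the trivial action of `Spec A` on `Spec k` is tame: there is a comodule map `α : A →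
k`, for the regular coaction on `A` and the trivial coaction `r ↦ r ⊗ 1` on `k`, with `α 1 = 1`. -/
theorem result
    (k : Type u) [CommRing k] (A : Type v) [CommRing A] [Bialgebra k A] [Module.Flat k A]
    (H : Submodule k A) (hH : HopfRep.IsSubcomod (k := k) (A := A) H)
    (hc : IsCompl (Submodule.span k {(1 : A)}) H) :
    ∃ α : A →ₗ[k] k, @Hoch.IsComodHom k _ A _ _ _ A _ _ _ k _ _ (HopfRep.Comod.trivial k A k) α ∧ α 1 = 1 := by
  let P : A →ₗ[k] Submodule.span k {(1 : A)} := Submodule.projectionOnto _ _ hc
  let α : A →ₗ[k] k := CoalgebraStruct.counit ∘ₗ (Submodule.span k {(1 : A)}).subtype ∘ₗ P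
  have h1 : α 1 = 1 := by
    show CoalgebraStruct.counit (R := k) ((P 1 : _) : A) = 1
    rw [show P 1 = ⟨1, Submodule.mem_span_singleton_self 1⟩ from
      Submodule.projectionOnto_apply_left hc ⟨1, Submodule.mem_span_singleton_self 1⟩]
    exact Bialgebra.counit_one
  refine ⟨α, LinearMap.ext fun a => ?_, h1⟩
  show α a ⊗ₜ[k] (1 : A) = α.rTensor A (CoalgebraStruct.comul (R := k) a)
  obtain ⟨x, hx, y, hy, rfl⟩ := Submodule.mem_sup.1
    (show a ∈ Submodule.span k {(1 : A)} ⊔ H from hc.sup_eq_top ▸ Submodule.mem_top)
  obtain ⟨c, rfl⟩ := Submodule.mem_span_singleton.1 hx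
  obtain ⟨t, ht⟩ := hH y hy
  have hy0 : ∀ z : H, α (z : A) = 0 := fun z => by
    show CoalgebraStruct.counit (R := k) ((P (z : A) : _) : A) = 0
    rw [show P (z : A) = 0 from Submodule.projectionOnto_apply_of_mem_right hc z.2, Submodule.coe_zero, map_zero]
  have h0 : α.rTensor A (CoalgebraStruct.comul (R := k) y) = 0 := by
    rw [show CoalgebraStruct.comul (R := k) y = H.subtype.rTensor A t from ht.symm,
      ← LinearMap.rTensor_comp_apply, show α ∘ₗ H.subtype = 0 from LinearMap.ext hy0]
    simp
  rw [map_add, map_add, map_add, h0, map_smul, map_smul, map_smul, Bialgebra.comul_one,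
    hy0 ⟨y, hy⟩, h1]
  simp [Algebra.TensorProduct.one_def, TensorProduct.smul_tmul', h1]

end Groth.Agent.S12926
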