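import Groth.Statements.S12929
import Groth.Agent.HopfLib.Hochschild
import Groth.Agent.HopfLib.Comod

set_option autoImplicit false
universe u v w w'
open HopfRep

namespace Groth.Agent.S12929

open TensorProduct HopfRep

/-- Let `k` be a commutative ring, `A` a commutative Hopf algebra over `k`, `M` a right `A`-comodule and
`N` a `k`-module; give `N ⊗ A` the coaction `id ⊗ Δ`. Then for every `k`-linear map `h : M → N` the
composite `(h ⊗ id_A) ∘ ρ_M : M → N ⊗ A` is a comodule map, and every comodule map `f : M → N ⊗ A`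
is of this form for exactly one `h` (which is `(id_N ⊗ ε) ∘ f`): comodule maps `M → N ⊗ A`
correspond bijectively to linear maps `M → N`. -/
theorem result
    (k : Type u) [CommRing k] (A : Type v) [CommRing A] [HopfAlgebra k A]
    (M : Type w) [AddCommGroup M] [Module k M] [HopfRep.Comod k A M]
    (N : Type w') [AddCommGroup N] [Module k N] :
    (∀ h : M →ₗ[k] N, Hoch.IsComodHom A
        ((Hoch.Ind.equiv k A N).toLinearMap ∘ₗ h.rTensor A ∘ₗ HopfRep.Comod.coact (k := k) (A := A))) ∧
      ∀ f : M →ₗ[k] Hoch.Ind k A N, Hoch.IsComodHom A f →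
        ∃! h : M →ₗ[k] N,
          f = (Hoch.Ind.equiv k A N).toLinearMap ∘ₗ h.rTensor A ∘ₗ HopfRep.Comod.coact (k := k) (A := A) := by
  have key : ∀ (h : M →ₗ[k] N) (m : M),
      (TensorProduct.rid k N) ((CoalgebraStruct.counit (R := k) (A := A)).lTensor N
        (h.rTensor A (HopfRep.Comod.coact (k := k) (A := A) m))) = h m := by
    intro h m
    rw [← LinearMap.comp_apply (LinearMap.lTensor N CoalgebraStruct.counit) (LinearMap.rTensor A h),
      LinearMap.lTensor_comp_rTensor, ← LinearMap.rTensor_comp_lTensor, LinearMap.comp_apply,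
      Groth.Agent.HopfLib.counit_coact]
    simp
  have hhom : ∀ h : M →ₗ[k] N, Hoch.IsComodHom A
      ((Hoch.Ind.equiv k A N).toLinearMap ∘ₗ h.rTensor A ∘ₗ HopfRep.Comod.coact (k := k) (A := A)) := by
    intro h
    refine LinearMap.ext fun m => ?_
    show Hoch.Ind.coactAux k A N (h.rTensor A (Comod.coact (k := k) (A := A) m)) =
      (h.rTensor A ∘ₗ Comod.coact (k := k) (A := A)).rTensor A (Comod.coact (k := k) (A := A) m)
    rw [LinearMap.rTensor_comp_apply]
    have e : ∀ x : M ⊗[k] A, Hoch.Ind.coactAux k A N (h.rTensor A x) = (h.rTensor A).rTensor A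
        ((TensorProduct.assoc k M A A).symm ((CoalgebraStruct.comul (R := k) (A := A)).lTensor M x)) := by
      intro x
      induction x using TensorProduct.induction_on with
      | zero => simp
      | add p q hp hq => simp only [map_add, hp, hq]
      | tmul x a =>
        simp only [LinearMap.rTensor_tmul, Hoch.Ind.coactAux_tmul, LinearMap.lTensor_tmul]
        show (TensorProduct.assoc k N A A).symm (h x ⊗ₜ CoalgebraStruct.comul (R := k) a) = _
        generalize CoalgebraStruct.comul (R := k) a = z
        induction z using TensorProduct.induction_on with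
        | zero => simp
        | add p q hp hq => simp only [TensorProduct.tmul_add, map_add, hp, hq]
        | tmul p q => simp
    rw [e]
    congr 1
    rw [LinearEquiv.symm_apply_eq]
    exact (Groth.Agent.HopfLib.coassoc_apply m).symm
  refine ⟨hhom, fun f hf => ?_⟩
  refine ⟨(TensorProduct.rid k N).toLinearMap ∘ₗ (CoalgebraStruct.counit (R := k) (A := A)).lTensor N ∘ₗ
      (Hoch.Ind.equiv k A N).symm.toLinearMap ∘ₗ f, LinearMap.ext fun m => ?_, fun h hh => LinearMap.ext fun m => ?_⟩
  · have h1 : Hoch.Ind.coactAux k A N ((Hoch.Ind.equiv k A N).symm (f m)) =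
        ((Hoch.Ind.equiv k A N).symm.toLinearMap ∘ₗ f).rTensor A (Comod.coact (k := k) (A := A) m) :=
      LinearMap.congr_fun hf m
    have h2 : ∀ x : N ⊗[k] A, ((TensorProduct.rid k N).toLinearMap ∘ₗ
        (CoalgebraStruct.counit (R := k) (A := A)).lTensor N).rTensor A (Hoch.Ind.coactAux k A N x) = x :=
      fun x => Groth.Agent.HopfLib.counit_rTensor_coactAux x
    show f m = ((TensorProduct.rid k N).toLinearMap ∘ₗ (CoalgebraStruct.counit (R := k) (A := A)).lTensor N ∘ₗ
      (Hoch.Ind.equiv k A N).symm.toLinearMap ∘ₗ f).rTensor A (Comod.coact (k := k) (A := A) m)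
    rw [← LinearMap.comp_assoc, LinearMap.rTensor_comp_apply, ← h1, h2]
    rfl
  · subst hh
    exact (key h m).symm

end Groth.Agent.S12929
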