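import Groth.Statements.S1293
import Groth.Agent.FlatMorDevissage.Content

set_option autoImplicit false
universe u
open FlatMor

namespace Groth.Agent.S1293

open TensorProduct in
/-- Let B be a finitely presented A-algebra, T ⊆ B a multiplicative subset and N a finitely presented
T⁻¹B-module which admits a pure spreadout (FlatCA.HasPureSpreadout). Then (1) every x ∈ N has a
content ideal, i.e. a smallest ideal I of A with x ∈ IN; and (2) every A-linear map u from N to a
flat A-module M such that u ⊗ A/𝔪 is injective for every maximal ideal 𝔪 of A is universally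
injective over A. -/
theorem result {A B : Type u} [CommRing A] [CommRing B] [Algebra A B] [Algebra.FinitePresentation A B]
    (T : Submonoid B) (N : Type u) [AddCommGroup N] [Module (Localization T) N] [Module A N] [IsScalarTower A (Localization T) N]
    [Module.FinitePresentation (Localization T) N] (h : FlatCA.HasPureSpreadout A B T N) :
    (∀ x : N, ∃ I : Ideal A, x ∈ I • (⊤ : Submodule A N) ∧ ∀ J : Ideal A, x ∈ J • (⊤ : Submodule A N) → I ≤ J) ∧
    ∀ (M : Type u) [AddCommGroup M] [Module A M] [Module.Flat A M] (u : N →ₗ[A] M),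
      (∀ (m : Ideal A) [m.IsMaximal], Function.Injective (u.lTensor (A ⧸ m))) → FlatCA.UnivInj A u := by
  obtain ⟨C, _, _, _, _, _, _, _, _, _, _, N', _, _, _, _, g, -, -, hg, hproj, hinj⟩ := h
  have hsurj : ∀ y : N, ∃ t ∈ T, ∃ n : N', algebraMap B (Localization T) t • y = g n := by
    intro y
    induction y using hg.inductionOn with
    | zero => exact ⟨1, T.one_mem, 0, by rw [smul_zero, map_zero]⟩
    | tmul n => exact ⟨1, T.one_mem, n, by rw [map_one, one_smul]⟩
    | smul s y hy =>
      obtain ⟨t, ht, n, hn⟩ := hy
      obtain ⟨⟨b, t'⟩, hs⟩ := IsLocalization.surj T s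
      refine ⟨t * t', T.mul_mem ht t'.2, algebraMap B C b • n, ?_⟩
      rw [map_smul, ← hn, map_mul, ← algebraMap_smul (Localization T) (algebraMap B C b),
        ← IsScalarTower.algebraMap_apply, ← hs, smul_smul, smul_smul]
      congr 1
      ring
    | add y y' hy hy' =>
      obtain ⟨t, ht, n, hn⟩ := hy
      obtain ⟨t', ht', n', hn'⟩ := hy'
      refine ⟨t * t', T.mul_mem ht ht', algebraMap B C t' • n + algebraMap B C t • n', ?_⟩
      rw [map_add, map_smul, map_smul, ← hn, ← hn', ← algebraMap_smul (Localization T) (algebraMap B C t'),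
        ← algebraMap_smul (Localization T) (algebraMap B C t), ← IsScalarTower.algebraMap_apply,
        ← IsScalarTower.algebraMap_apply, smul_smul, smul_smul, map_mul, smul_add,
        mul_comm (algebraMap B (Localization T) t')]
  have hscale : ∀ (r : Localization T) (y : N) (J : Ideal A),
      y ∈ J • (⊤ : Submodule A N) → r • y ∈ J • (⊤ : Submodule A N) := fun r y J hy =>
    (Submodule.map_smul'' J ⊤ ((LinearMap.lsmul (Localization T) N r).restrictScalars A)).trans_le
      (Submodule.smul_mono le_rfl le_top) (Submodule.mem_map_of_mem hy)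
  have hc : ∀ x : N, ∃ I : Ideal A, x ∈ I • (⊤ : Submodule A N) ∧
      ∀ J : Ideal A, x ∈ J • (⊤ : Submodule A N) → I ≤ J := by
    intro x
    obtain ⟨t, ht, n, hn⟩ := hsurj x
    obtain ⟨I, hI, hmin⟩ := Groth.Agent.FlatMorDevissage.exists_content_of_projective (R := A) n
    obtain ⟨r, hr⟩ := (IsLocalization.map_units (Localization T) ⟨t, ht⟩).exists_left_inv
    refine ⟨I, ?_, fun J hJ => hmin J ?_⟩
    · have hx : x = r • g n := by rw [← hn, smul_smul, hr, one_smul]
      rw [hx]
      exact hscale r _ I ((Submodule.map_smul'' I ⊤ (g.restrictScalars A)).trans_le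
        (Submodule.smul_mono le_rfl le_top) (Submodule.mem_map_of_mem (f := g.restrictScalars A) hI))
    · have h1 := hn ▸ hscale (algebraMap B (Localization T) t) x J hJ
      rw [Groth.Agent.FlatMorDevissage.mem_smul_top_iff_tmul] at h1 ⊢
      refine hinj (A ⧸ J) ?_
      rw [LinearMap.lTensor_tmul, map_zero]
      exact h1
  exact ⟨hc, fun M _ _ _ u hu =>
    (Groth.Agent.FlatMorDevissage.reflects_of_content u hc hu).univInj⟩

end Groth.Agent.S1293
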