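import Groth.Statements.S12931
import Mathlib.RingTheory.Idempotents
import Mathlib.Algebra.BigOperators.Pi
import Mathlib.Tactic

set_option autoImplicit false
universe u v w
open HopfRep

namespace Groth.Agent.S12931

/-- Let `R` be a commutative ring, `Γ` a finite set and `T` a commutative `R`-algebra which is
connected: nonzero, with no idempotents other than `0` and `1`. Then `γ ↦ (evaluation at γ : (Γ → R)
→ R → T)` is a bijection from `Γ` onto the `R`-algebra maps `(Γ → R) → T`: every such map sends
exactly one of the indicator functions to `1` and the others to `0`. (Only the bijection of sets is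
stated; when `Γ` is a group, the compatibility with the group structures on both sides is not.) -/
theorem result
    (R : Type u) [CommRing R] (Γ : Type v) [Finite Γ]
    (T : Type w) [CommRing T] [Algebra R T] [Nontrivial T]
    (hT : ∀ e : T, IsIdempotentElem e → e = 0 ∨ e = 1) :
    Function.Bijective (fun γ : Γ => (Algebra.ofId R T).comp (Pi.evalAlgHom R (fun _ : Γ => R) γ)) := by
  classical
  have := Fintype.ofFinite Γ
  constructor
  · intro a b h
    by_contra hne
    have := AlgHom.congr_fun h (Pi.single a 1)
    simp [Ne.symm hne] at this
  · intro F
    have hid : ∀ γ, F (Pi.single γ 1) = 0 ∨ F (Pi.single γ 1) = 1 := fun γ => hT _ (by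
      show _ * _ = _
      rw [← map_mul, ← Pi.single_mul, one_mul])
    have hex : ∃ γ, F (Pi.single γ 1) = 1 := by
      by_contra h
      push Not at h
      have : F 1 = 0 := by
        rw [show (1 : Γ → R) = ∑ γ, Pi.single γ 1 from (Finset.univ_sum_single _).symm, map_sum]
        exact Finset.sum_eq_zero fun γ _ => (hid γ).resolve_right (h γ)
      rw [map_one] at this
      exact one_ne_zero this
    obtain ⟨γ, hγ⟩ := hex
    refine ⟨γ, AlgHom.ext fun f => ?_⟩
    have : f * Pi.single γ 1 = algebraMap R (Γ → R) (f γ) * Pi.single γ 1 := by
      funext i
      rcases eq_or_ne i γ with rfl | h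
      · simp
      · simp [h]
    have := congrArg F this
    rw [map_mul, map_mul, hγ, mul_one, mul_one, AlgHom.commutes] at this
    rw [this]
    rfl

end Groth.Agent.S12931
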