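import Groth.Statements.S12932
import Mathlib.RingTheory.Invariant.Basic
import Mathlib.RingTheory.Ideal.GoingUp
import Mathlib.LinearAlgebra.LinearIndependent.Lemmas
import Mathlib.GroupTheory.Coset.Card
import Mathlib.FieldTheory.Fixed
import Mathlib.Tactic

set_option autoImplicit false
universe u v
open scoped BigOperators
open InvTh

namespace Groth.Agent.S12932

/-- Let `B` be a commutative ring with an action of a finite group `Γ` by ring automorphisms, and call a
prime ideal `P` of `B` tame when the order of its inertia group `{γ | γ • x - x ∈ P for all x}` is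
not divisible by the characteristic of `B/P` (its ramification group is trivial). Then every prime
of `B` is tame if and only if the trace `b ↦ Σ_γ γ • b`, which takes values in the invariant ring
`B^Γ` and is `B^Γ`-linear, is onto `B^Γ` — equivalently, some element of `B` has trace `1`. -/
theorem result
    (B : Type u) [CommRing B] (Γ : Type v) [Group Γ] [Fintype Γ] [MulSemiringAction Γ B] :
    (∃ b : B, ∑ γ : Γ, γ • b = 1) ↔
      ∀ P : Ideal B, P.IsPrime → ((Nat.card (P.inertia Γ) : ℕ) : B ⧸ P) ≠ 0 := by
  open scoped Pointwise in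
  classical
  -- modulo a prime, the trace is `|inertia|` times a sum of distinct characters
  have key : ∀ (P : Ideal B), P.IsPrime → ∀ b : B,
      Ideal.Quotient.mk P (∑ γ : Γ, γ • b) = (Nat.card (P.inertia Γ) : B ⧸ P) *
        ∑ χ ∈ Finset.univ.image (fun γ : Γ => (Ideal.Quotient.mk P).toMonoidHom.comp (MulSemiringAction.toRingHom Γ B γ).toMonoidHom), χ b := by
    intro P _ b
    rw [map_sum, ← Finset.sum_fiberwise_of_maps_to (g := fun γ : Γ => (Ideal.Quotient.mk P).toMonoidHom.comp (MulSemiringAction.toRingHom Γ B γ).toMonoidHom)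
      (fun γ _ => Finset.mem_image.2 ⟨γ, Finset.mem_univ γ, rfl⟩), Finset.mul_sum]
    refine Finset.sum_congr rfl fun χ hχ => ?_
    obtain ⟨γ₀, -, rfl⟩ := Finset.mem_image.1 hχ
    have hfib : Finset.univ.filter (fun γ : Γ => (Ideal.Quotient.mk P).toMonoidHom.comp (MulSemiringAction.toRingHom Γ B γ).toMonoidHom =
        (Ideal.Quotient.mk P).toMonoidHom.comp (MulSemiringAction.toRingHom Γ B γ₀).toMonoidHom) =
        (Finset.univ.filter (fun τ : Γ => τ ∈ P.inertia Γ)).image (fun τ => τ * γ₀) := by
      ext γ
      simp only [Finset.mem_filter, Finset.mem_univ, true_and, Finset.mem_image]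
      constructor
      · intro h
        refine ⟨γ * γ₀⁻¹, fun x => ?_, by group⟩
        have := DFunLike.congr_fun h (γ₀⁻¹ • x)
        simp only [MonoidHom.comp_apply, RingHom.toMonoidHom_eq_coe, MonoidHom.coe_coe, MulSemiringAction.toRingHom_apply, smul_inv_smul] at this
        rw [← mul_smul] at this
        exact (Ideal.Quotient.eq).1 this
      · rintro ⟨τ, hτ, rfl⟩
        refine MonoidHom.ext fun x => ?_
        simp only [MonoidHom.comp_apply, RingHom.toMonoidHom_eq_coe, MonoidHom.coe_coe, MulSemiringAction.toRingHom_apply, mul_smul]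
        exact Ideal.Quotient.eq.2 (hτ _)
    have hval : ∀ γ ∈ Finset.univ.filter (fun γ : Γ => (Ideal.Quotient.mk P).toMonoidHom.comp (MulSemiringAction.toRingHom Γ B γ).toMonoidHom =
        (Ideal.Quotient.mk P).toMonoidHom.comp (MulSemiringAction.toRingHom Γ B γ₀).toMonoidHom),
        Ideal.Quotient.mk P (γ • b) = Ideal.Quotient.mk P (γ₀ • b) := fun γ hγ => by
      simpa using DFunLike.congr_fun (Finset.mem_filter.1 hγ).2 b
    rw [Finset.sum_congr rfl hval, Finset.sum_const, hfib, Finset.card_image_of_injective _ (mul_left_injective γ₀), nsmul_eq_mul,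
      Nat.card_eq_fintype_card, Fintype.card_subtype]
    rfl
  constructor
  · rintro ⟨b, hb⟩ P hP h0
    have := key P hP b
    rw [hb, map_one, h0, zero_mul] at this
    have hnt := Ideal.Quotient.nontrivial_iff.2 hP.ne_top
    exact one_ne_zero this
  · intro htame
    by_contra hno
    push Not at hno
    let A := FixedPoints.subring B Γ
    have hinv : Algebra.IsInvariant A B Γ := ⟨fun b hb => ⟨⟨b, hb⟩, rfl⟩⟩
    have hcomm : SMulCommClass Γ A B := ⟨fun γ a b => by
      show γ • ((a : B) * b) = (a : B) * γ • b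
      rw [smul_mul', a.2 γ]⟩
    have hTmem : ∀ b : B, (∑ γ : Γ, γ • b) ∈ A := fun b δ => by
      rw [Finset.smul_sum]
      exact Fintype.sum_equiv (Equiv.mulLeft δ) _ _ fun γ => by simp [mul_smul]
    let J : Ideal A :=
      { carrier := {a | ∃ b : B, ∑ γ : Γ, γ • b = (a : B)}
        add_mem' := by
          rintro x y ⟨b, hb⟩ ⟨c, hc⟩
          exact ⟨b + c, by simp [smul_add, Finset.sum_add_distrib, hb, hc]⟩
        zero_mem' := ⟨0, by simp⟩
        smul_mem' := by
          rintro a x ⟨b, hb⟩
          exact ⟨(a : B) * b, by simp only [smul_mul', a.2 _, ← Finset.mul_sum, hb]; rfl⟩ }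
    have hJ : J ≠ ⊤ := fun h => by
      obtain ⟨b, hb⟩ : (1 : A) ∈ J := h ▸ Submodule.mem_top
      exact hno b hb
    obtain ⟨m, hm, hJm⟩ := Ideal.exists_le_maximal J hJ
    have := Algebra.IsInvariant.isIntegral A B Γ
    obtain ⟨P, hPmax, hPm⟩ := Ideal.exists_ideal_over_maximal_of_isIntegral m (fun a ha => by
      have : a = 0 := Subtype.ext ha
      rw [this]; exact zero_mem m)
    have hPp := hPmax.isPrime
    refine htame P hPp ?_
    by_contra hne
    have hdom : IsDomain (B ⧸ P) := Ideal.Quotient.isDomain P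
    have hz : ∀ b : B, (∑ χ ∈ Finset.univ.image (fun γ : Γ => (Ideal.Quotient.mk P).toMonoidHom.comp (MulSemiringAction.toRingHom Γ B γ).toMonoidHom), χ b) = 0 := fun b => by
      refine (mul_eq_zero.1 ?_).resolve_left hne
      rw [← key P hPp b, Ideal.Quotient.eq_zero_iff_mem]
      have : (⟨_, hTmem b⟩ : A) ∈ m := hJm ⟨b, rfl⟩
      rw [← hPm] at this
      exact this
    have hli := linearIndependent_monoidHom B (B ⧸ P)
    rw [linearIndependent_iff'] at hli
    have h1 := hli (Finset.univ.image (fun γ : Γ => (Ideal.Quotient.mk P).toMonoidHom.comp (MulSemiringAction.toRingHom Γ B γ).toMonoidHom)) (fun _ => 1)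
      (funext fun b => by simpa [Finset.sum_apply] using hz b) _ (Finset.mem_image.2 ⟨(1 : Γ), Finset.mem_univ _, rfl⟩)
    exact one_ne_zero h1

end Groth.Agent.S12932
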