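import Groth.Statements.S12934
import Mathlib.RingTheory.LocalRing.ResidueField.Basic
import Mathlib.GroupTheory.Sylow
import Mathlib.GroupTheory.SpecificGroups.Cyclic
import Mathlib.RingTheory.RootsOfUnity.Basic
import Mathlib.RingTheory.RootsOfUnity.PrimitiveRoots
import Mathlib.Algebra.CharP.Reduced

set_option autoImplicit false
universe u v
open InvTh

namespace Groth.Agent.S12934

/-- Let `B` be a local commutative ring with maximal ideal `m` and residue field `k`, and `Γ` a finite
group acting faithfully on `B` by ring automorphisms, such that every element of `Γ` acts trivially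
modulo `m` (the whole group is inertia) and maps each principal ideal of `B` into itself (every
ideal is stable). Let `S ⊆ Γ` be the set of `γ` with `γ b ∈ b + b m` for all `b`. Then: if `k` has
characteristic `0`, `S = {1}`; if `k` has characteristic `p > 0`, `S` is (the underlying set of) a
Sylow `p`-subgroup; every commutator of `Γ` lies in `S`, so `Γ/S` is abelian; and whenever the class
of `γ` in `Γ/S` has order `n` (`γ^n ∈ S`, no smaller positive power in `S`), `k` contains a
primitive `n`-th root of unity. (The published statement also bounds the number of generators of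
`Γ/S` by the number of generators of the monoid of principal ideals; that clause is not included.) -/
theorem result
    (B : Type u) [CommRing B] [IsLocalRing B]
    (Γ : Type v) [Group Γ] [Finite Γ] [MulSemiringAction Γ B] [FaithfulSMul Γ B]
    (hin : ∀ (γ : Γ) (b : B), γ • b - b ∈ IsLocalRing.maximalIdeal B)
    (hst : ∀ (γ : Γ) (b : B), ∃ u : B, γ • b = b * u)
    (S : Set Γ)
    (hS : ∀ γ : Γ, γ ∈ S ↔ ∀ b : B, ∃ x ∈ IsLocalRing.maximalIdeal B, γ • b = b + b * x) :
    (ringChar (IsLocalRing.ResidueField B) = 0 → S = {1}) ∧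
      (∀ (p : ℕ) [Fact p.Prime], ringChar (IsLocalRing.ResidueField B) = p →
        ∃ Q : Sylow p Γ, (Q : Set Γ) = S) ∧
      (∀ γ δ : Γ, γ * δ * γ⁻¹ * δ⁻¹ ∈ S) ∧
      (∀ (γ : Γ) (n : ℕ), 0 < n → γ ^ n ∈ S → (∀ i : ℕ, 0 < i → i < n → γ ^ i ∉ S) →
        ∃ ζ : IsLocalRing.ResidueField B, IsPrimitiveRoot ζ n) := by
  classical
  let k := IsLocalRing.ResidueField B
  let res : B →+* IsLocalRing.ResidueField B := IsLocalRing.residue B
  have hres : ∀ (γ : Γ) (b : B), res (γ • b) = res b := fun γ b => by
    rw [← sub_eq_zero, ← map_sub]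
    exact (IsLocalRing.residue_eq_zero_iff _).2 (hin γ b)
  choose u hu using hst
  -- well-definedness of the residue
  have hwd : ∀ (b : B), b ≠ 0 → ∀ v w : B, b * v = b * w → res v = res w := by
    intro b hb v w h
    rw [← sub_eq_zero, ← map_sub, IsLocalRing.residue_eq_zero_iff]
    by_contra hm
    have hunit : IsUnit (v - w) := by
      by_contra hnu; exact hm ((IsLocalRing.mem_maximalIdeal _).2 hnu)
    exact hb ((hunit.mul_left_eq_zero).1 (by rw [mul_sub, h, sub_self]))
  have hmul : ∀ (b : B), b ≠ 0 → ∀ γ δ : Γ, res (u (γ * δ) b) = res (u γ b) * res (u δ b) := by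
    intro b hb γ δ
    have e : b * u (γ * δ) b = b * (u γ b * γ • u δ b) := by
      rw [← hu, mul_smul, hu δ b, smul_mul', hu γ b, mul_assoc]
    rw [hwd b hb _ _ e, map_mul, hres]
  have hone : ∀ b : B, b ≠ 0 → res (u 1 b) = 1 := fun b hb => by
    rw [← map_one res]; exact hwd b hb _ _ (by rw [← hu, one_smul, mul_one])
  let χ : {b : B // b ≠ 0} → Γ →* IsLocalRing.ResidueField B := fun b =>
    { toFun := fun γ => res (u γ b)
      map_one' := hone b b.2
      map_mul' := hmul b b.2 }
  have hSchar : ∀ γ : Γ, γ ∈ S ↔ ∀ b, χ b γ = 1 := by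
    intro γ
    rw [hS]
    constructor
    · intro h b
      obtain ⟨x, hx, hxb⟩ := h b
      show res (u γ b) = 1
      rw [hwd b b.2 (u γ b) (1 + x) (by rw [← hu, hxb, mul_add, mul_one]), map_add, map_one,
        (IsLocalRing.residue_eq_zero_iff _).2 hx, add_zero]
    · intro h b
      by_cases hb : b = 0
      · exact ⟨0, Submodule.zero_mem _, by simp [hb]⟩
      · refine ⟨u γ b - 1, (IsLocalRing.residue_eq_zero_iff _).1 ?_, by rw [hu]; ring⟩
        have h1 : res (u γ b) = 1 := h ⟨b, hb⟩
        show res (u γ b - 1) = 0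
        rw [map_sub, map_one, h1, sub_self]
  have hunitχ : ∀ b γ, χ b γ ≠ 0 := fun b γ h => by
    have := (χ b).map_mul γ γ⁻¹
    rw [mul_inv_cancel, map_one, h, zero_mul] at this
    exact one_ne_zero this
  let H : Subgroup Γ :=
    { carrier := S
      one_mem' := (hSchar 1).2 fun b => map_one _
      mul_mem' := fun {a c} ha hc => (hSchar _).2 fun b => by
        rw [map_mul, (hSchar a).1 ha b, (hSchar c).1 hc b, mul_one]
      inv_mem' := fun {a} ha => (hSchar _).2 fun b => by
        have := (χ b).map_mul a a⁻¹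
        rwa [mul_inv_cancel, map_one, (hSchar a).1 ha b, one_mul, eq_comm] at this }
  -- elements of `S` of prime order invertible in the residue field are trivial
  have htriv : ∀ (q : ℕ), (q : IsLocalRing.ResidueField B) ≠ 0 → ∀ γ ∈ S, γ ^ q = 1 → γ = 1 := by
    intro q hq γ hγ hq1
    refine FaithfulSMul.eq_of_smul_eq_smul (α := B) fun b => ?_
    rw [one_smul, ← sub_eq_zero]
    obtain ⟨x, hx, hxb⟩ := (hS γ).1 hγ b
    set c := γ • b - b with hc
    by_contra hc0
    have hpow : ∀ i : ℕ, res (u (γ ^ i) c) = 1 := fun i => by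
      have := (hSchar (γ ^ i)).1 (pow_mem (show γ ∈ H from hγ) i) ⟨c, hc0⟩
      exact this
    have hsum : ∑ i ∈ Finset.range q, γ ^ i • c = 0 := by
      have hstep : ∀ i, γ ^ i • c = γ ^ (i + 1) • b - γ ^ i • b := fun i => by
        rw [hc, smul_sub, pow_succ, mul_smul]
      simp only [hstep]
      rw [Finset.sum_range_sub (fun i => γ ^ i • b), hq1, pow_zero, sub_self]
    simp only [hu, ← Finset.mul_sum] at hsum
    have h2 := hwd c hc0 (∑ i ∈ Finset.range q, u (γ ^ i) c) 0 (by rw [hsum, mul_zero])
    rw [map_sum, map_zero, Finset.sum_congr rfl fun i _ => hpow i] at h2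
    exact hq (by simpa using h2)
  refine ⟨fun h0 => ?_, fun p hp hchar => ?_, fun γ δ => (hSchar _).2 fun b => ?_, fun γ n hn hγn hmin => ?_⟩
  · haveI : CharZero (IsLocalRing.ResidueField B) :=
      (CharP.ringChar_zero_iff_CharZero _).1 h0
    refine Set.eq_singleton_iff_unique_mem.2 ⟨H.one_mem, fun γ hγ => ?_⟩
    exact htriv (orderOf γ) (Nat.cast_ne_zero.2 (orderOf_pos γ).ne') γ hγ (pow_orderOf_eq_one γ)
  · haveI : CharP (IsLocalRing.ResidueField B) p := ringChar.of_eq hchar
    have hpg : IsPGroup p H := by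
      refine (IsPGroup.iff_card).2 ⟨(Nat.card H).primeFactorsList.length, ?_⟩
      refine (Nat.eq_prime_pow_of_unique_prime_dvd Nat.card_pos.ne' ?_)
      intro q hq hqd
      by_contra hne
      haveI : Fact q.Prime := ⟨hq⟩
      obtain ⟨g, hg⟩ := exists_prime_orderOf_dvd_card' q hqd
      have hq0 : (q : IsLocalRing.ResidueField B) ≠ 0 := fun h => by
        rcases (Nat.dvd_prime hq).1 ((CharP.cast_eq_zero_iff _ p q).1 h) with h1 | h1
        · exact hp.out.one_lt.ne' h1
        · exact hne h1.symm
      have := htriv q hq0 g g.2 (by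
        have := pow_orderOf_eq_one g
        rw [hg] at this
        exact_mod_cast congrArg Subtype.val this)
      rw [show g = 1 from Subtype.ext this, orderOf_one] at hg
      exact hq.one_lt.ne hg
    have hnorm : H.Normal := ⟨fun a ha g => (hSchar _).2 fun b => by
      rw [map_mul, map_mul, (hSchar a).1 ha b, mul_one, ← map_mul, mul_inv_cancel, map_one]⟩
    haveI := hnorm
    have hidx : ¬ p ∣ H.index := by
      intro hd
      rw [Subgroup.index_eq_card] at hd
      obtain ⟨g, hg⟩ := exists_prime_orderOf_dvd_card' p hd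
      obtain ⟨g, rfl⟩ := QuotientGroup.mk_surjective g
      have h1 : g ^ p ∈ H := by
        rw [← QuotientGroup.eq_one_iff, QuotientGroup.mk_pow]
        rw [← hg]; exact pow_orderOf_eq_one _
      have h2 : g ∈ H := (hSchar g).2 fun b => by
        have := (hSchar _).1 h1 b
        rw [map_pow] at this
        exact frobenius_inj (IsLocalRing.ResidueField B) p (by simpa [frobenius_def] using this)
      rw [(QuotientGroup.eq_one_iff g).2 h2, orderOf_one] at hg
      exact hp.out.one_lt.ne hg
    exact ⟨hpg.toSylow hidx, rfl⟩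
  · have := map_mul (χ b) γ γ⁻¹
    rw [mul_inv_cancel, map_one] at this
    have h' := map_mul (χ b) δ δ⁻¹
    rw [mul_inv_cancel, map_one] at h'
    rw [map_mul, map_mul, map_mul]
    calc _ = (χ b γ * χ b γ⁻¹) * (χ b δ * χ b δ⁻¹) := by ring
      _ = 1 := by rw [← this, ← h', one_mul]
  · haveI : NeZero n := ⟨hn.ne'⟩
    have hroot : ∀ b, χ b γ ^ n = 1 := fun b => by
      rw [← map_pow]; exact (hSchar _).1 hγn b
    set e := Monoid.exponent (rootsOfUnity n (IsLocalRing.ResidueField B))
    have he : ∀ b, χ b γ ^ e = 1 := fun b => by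
      have hmem : Units.mk0 (χ b γ) (hunitχ b γ) ∈ rootsOfUnity n (IsLocalRing.ResidueField B) := by
        rw [mem_rootsOfUnity]; exact Units.ext (by simpa using hroot b)
      have := Monoid.pow_exponent_eq_one
        (⟨_, hmem⟩ : rootsOfUnity n (IsLocalRing.ResidueField B))
      exact congrArg (fun z : rootsOfUnity n (IsLocalRing.ResidueField B) =>
        ((z : (IsLocalRing.ResidueField B)ˣ) : IsLocalRing.ResidueField B)) this
    have hen : e ∣ n := Monoid.exponent_dvd_of_forall_pow_eq_one fun z => Subtype.ext z.2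
    have hen' : e = n := by
      refine le_antisymm (Nat.le_of_dvd hn hen) (not_lt.1 fun hlt => ?_)
      exact hmin e (Nat.pos_of_dvd_of_pos hen hn) hlt
        ((hSchar _).2 fun b => by rw [map_pow]; exact he b)
    obtain ⟨g, hg⟩ := IsCyclic.exists_ofOrder_eq_natCard
      (α := rootsOfUnity n (IsLocalRing.ResidueField B))
    refine ⟨((g : (IsLocalRing.ResidueField B)ˣ) : IsLocalRing.ResidueField B), ?_⟩
    rw [← IsCyclic.exponent_eq_card, show Monoid.exponent _ = e from rfl, hen'] at hg
    have h1 : IsPrimitiveRoot g n := by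
      have := IsPrimitiveRoot.orderOf g
      rwa [hg] at this
    exact (h1.map_of_injective (f := (rootsOfUnity n (IsLocalRing.ResidueField B)).subtype)
      Subtype.val_injective).map_of_injective (f := Units.coeHom _) Units.val_injective

end Groth.Agent.S12934
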