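import Groth.Statements.S12935
import Mathlib.RingTheory.Invariant.Basic

set_option autoImplicit false
universe u v
open InvTh

namespace Groth.Agent.S12935

/-- Let `B` be a commutative ring with an action of a finite group `Γ` by ring automorphisms, `Ω` a
normal subgroup of `Γ`, `B^Ω` the subring of `Ω`-invariants (stable under `Γ`, with the induced
action of `Γ/Ω`), and `P` a prime ideal of `B`. Then (decomposition groups) an element `γ` maps `P ∩
B^Ω` onto itself if and only if `γω` maps `P` onto itself for some `ω ∈ Ω`; and (inertia groups) `γ`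
fixes `B^Ω` modulo `P ∩ B^Ω` if and only if `γω` fixes `B` modulo `P` for some `ω ∈ Ω`. In other
words the decomposition and inertia groups of `P ∩ B^Ω` under `Γ/Ω` are the images of those of `P`.
(The published statement also asserts the same for the ramification groups, the Sylow subgroups of
the inertia groups at the residue characteristic; that clause is not included here.) -/
theorem result
    (B : Type u) [CommRing B] (Γ : Type v) [Group Γ] [Finite Γ] [MulSemiringAction Γ B]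
    (Ω : Subgroup Γ) [Ω.Normal] (P : Ideal B) [P.IsPrime] (γ : Γ) :
    ((∀ x : B, (∀ ω ∈ Ω, ω • x = x) → (x ∈ P ↔ γ • x ∈ P)) ↔
        ∃ ω ∈ Ω, ∀ x : B, x ∈ P ↔ (γ * ω) • x ∈ P) ∧
      ((∀ x : B, (∀ ω ∈ Ω, ω • x = x) → γ • x - x ∈ P) ↔
        ∃ ω ∈ Ω, ∀ x : B, (γ * ω) • x - x ∈ P) := by
  open scoped Pointwise in
  classical
  let A := FixedPoints.subring B Ω
  have hAmem : ∀ x : B, (∀ ω ∈ Ω, ω • x = x) → x ∈ A := fun x hx ω => hx ω.1 ω.2
  have hA : ∀ a : A, ∀ ω ∈ Ω, ω • (a : B) = a := fun a ω hω => a.2 ⟨ω, hω⟩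
  have hinv : Algebra.IsInvariant A B Ω := ⟨fun b hb => ⟨⟨b, hb⟩, rfl⟩⟩
  have hcomm : SMulCommClass Ω A B := ⟨fun ω a b => by
    show ω • ((a : B) * b) = (a : B) * ω • b
    rw [smul_mul', a.2 ω]⟩
  have hstab : ∀ x : B, (∀ ω ∈ Ω, ω • x = x) → ∀ ω ∈ Ω, (γ * ω) • x = γ • x := fun x hx ω hω => by
    rw [mul_smul, hx ω hω]
  have dec : (∀ x : B, (∀ ω ∈ Ω, ω • x = x) → (x ∈ P ↔ γ • x ∈ P)) →
      ∃ ω ∈ Ω, ∀ x : B, x ∈ P ↔ (γ * ω) • x ∈ P := by
    intro h
    let P' := P.comap (MulSemiringAction.toRingHom Γ B γ)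
    have : P'.IsPrime := Ideal.IsPrime.comap _
    obtain ⟨ω, hω⟩ := Algebra.IsInvariant.exists_smul_of_under_eq A B Ω P P' (by
      ext a
      exact h a (hA a))
    refine ⟨ω.1, ω.2, fun x => ?_⟩
    rw [mul_smul]
    constructor
    · intro hx
      show ω • x ∈ P'
      rw [hω]
      exact Ideal.smul_mem_pointwise_smul_iff.2 hx
    · intro hx
      have : ω • x ∈ P' := hx
      rw [hω] at this
      exact Ideal.smul_mem_pointwise_smul_iff.1 this
  refine ⟨⟨dec, fun ⟨ω, hω, h⟩ x hx => by rw [h x, hstab x hx ω hω]⟩, ⟨?_, fun ⟨ω, hω, h⟩ x hx => by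
    rw [← hstab x hx ω hω]; exact h x⟩⟩
  intro h
  obtain ⟨ω₁, hω₁, h₁⟩ := dec fun x hx => by
    have := h x hx
    constructor <;> intro hxP
    · simpa using P.add_mem this hxP
    · simpa using P.sub_mem hxP this
  let p : Ideal A := P.under A
  have hmap : P = P.map (MulSemiringAction.toRingEquiv Γ B (γ * ω₁) : B →+* B) := by
    apply le_antisymm
    · intro x hx
      have : (γ * ω₁)⁻¹ • x ∈ P := (h₁ _).2 (by rwa [smul_inv_smul])
      have := Ideal.mem_map_of_mem (MulSemiringAction.toRingEquiv Γ B (γ * ω₁) : B →+* B) this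
      rwa [RingEquiv.coe_toRingHom, MulSemiringAction.toRingEquiv_apply, smul_inv_smul] at this
    · rw [Ideal.map_le_iff_le_comap]
      exact fun x hx => (h₁ x).1 hx
  let e : (B ⧸ P) ≃+* (B ⧸ P) := Ideal.quotientEquiv P P (MulSemiringAction.toRingEquiv Γ B (γ * ω₁)) hmap
  let σ : (B ⧸ P) ≃ₐ[A ⧸ p] (B ⧸ P) := AlgEquiv.ofRingEquiv (f := e) fun a => by
    obtain ⟨a, rfl⟩ := Ideal.Quotient.mk_surjective a
    show e (Ideal.Quotient.mk P (a : B)) = Ideal.Quotient.mk P (a : B)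
    rw [Ideal.quotientEquiv_mk, Ideal.Quotient.eq]
    show (γ * ω₁) • (a : B) - a ∈ P
    rw [hstab _ (hA a) ω₁ hω₁]
    exact h a (hA a)
  obtain ⟨τ, hτ⟩ := Ideal.Quotient.stabilizerHom_surjective Ω p P σ
  refine ⟨ω₁ * (τ : Ω).1⁻¹, Ω.mul_mem hω₁ (Ω.inv_mem (τ : Ω).2), fun x => ?_⟩
  have hx := AlgEquiv.congr_fun hτ (Ideal.Quotient.mk P ((τ : Ω).1⁻¹ • x))
  change Ideal.Quotient.mk P ((τ : Ω).1 • (τ : Ω).1⁻¹ • x) = e (Ideal.Quotient.mk P _) at hx
  rw [smul_inv_smul, Ideal.quotientEquiv_mk, Ideal.Quotient.eq] at hx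
  have := P.neg_mem hx
  rw [neg_sub] at this
  rw [← mul_assoc, mul_smul (γ * ω₁)]
  exact this

end Groth.Agent.S12935
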