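import Groth.Statements.S12936
import Mathlib.RingTheory.Ideal.Operations
import Mathlib.GroupTheory.Coset.Basic
import Mathlib.Tactic

set_option autoImplicit false
universe u v
open InvTh

namespace Groth.Agent.S12936

/-- Let `B` be a commutative ring with an action of a finite group `Γ` by ring automorphisms and `P` a
maximal ideal of `B`, with decomposition group `D_P = {γ | γP = P}` and decomposition ring `D =
B^{D_P}`. Then `D = B^Γ + (P ∩ D)`: every element of `B` fixed by `D_P` is congruent modulo `P` to a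
`Γ`-invariant element. Hence the residue field of `D` at `P ∩ D` is that of `B^Γ` at `P ∩ B^Γ`; for
an arbitrary prime `P` the same equality of residue fields follows by localising at `P ∩ B^Γ`. (The
published statement prints this residue field as `k(P)`; the proof establishes the equality with the
residue field of `B^Γ` stated here.) -/
theorem result
    (B : Type u) [CommRing B] (Γ : Type v) [Group Γ] [Finite Γ] [MulSemiringAction Γ B]
    (P : Ideal B) [P.IsMaximal] (x : B)
    (hx : ∀ γ : Γ, (∀ y : B, y ∈ P ↔ γ • y ∈ P) → γ • x = x) :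
    ∃ c : B, (∀ γ : Γ, γ • c = c) ∧ x - c ∈ P := by
  classical
  have := Fintype.ofFinite Γ
  let D : Subgroup Γ :=
    { carrier := {γ | ∀ y : B, y ∈ P ↔ γ • y ∈ P}
      mul_mem' := fun {a b} ha hb y => by rw [mul_smul]; exact (hb y).trans (ha _)
      one_mem' := fun y => by rw [one_smul]
      inv_mem' := fun {a} ha y => by rw [ha (a⁻¹ • y), smul_inv_smul] }
  -- an element congruent to one modulo `P` and in every other conjugate
  have hsep : ∀ γ : Γ, γ ∉ D → ∃ e : B, e - 1 ∈ P ∧ γ • e ∈ P := by
    intro γ hγ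
    have hne : P ≠ P.comap (MulSemiringAction.toRingHom Γ B γ) := fun h => hγ fun y => by
      conv_lhs => rw [h]
      rfl
    have hmax : (P.comap (MulSemiringAction.toRingHom Γ B γ)).IsMaximal :=
      Ideal.comap_isMaximal_of_surjective _ (MulAction.surjective γ)
    have hco : P ⊔ P.comap (MulSemiringAction.toRingHom Γ B γ) = ⊤ := Ideal.IsMaximal.coprime_of_ne ‹_› hmax hne
    obtain ⟨a, ha, e, he, hae⟩ := Submodule.mem_sup.1 (hco ▸ Submodule.mem_top : (1 : B) ∈ P ⊔ P.comap (MulSemiringAction.toRingHom Γ B γ))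
    exact ⟨e, by rw [← hae, sub_add_cancel_right]; exact P.neg_mem ha, he⟩
  choose e he1 he2 using hsep
  let E : B := ∏ δ : D, (δ : Γ) • ∏ γ ∈ Finset.univ.filter (fun γ : Γ => γ ∉ D), if h : γ ∉ D then e γ h else 1
  have hE1 : E - 1 ∈ P := by
    rw [← Ideal.Quotient.eq, map_prod, map_one]
    refine Finset.prod_eq_one fun δ _ => ?_
    rw [← map_one (Ideal.Quotient.mk P), Ideal.Quotient.eq, ← smul_one (δ : Γ), ← smul_sub, ← δ.2, ← Ideal.Quotient.eq, map_prod, map_one]
    refine Finset.prod_eq_one fun γ hγ => ?_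
    rw [← map_one (Ideal.Quotient.mk P), Ideal.Quotient.eq, dif_pos (Finset.mem_filter.1 hγ).2]
    exact he1 _ _
  have hE2 : ∀ γ : Γ, γ ∉ D → γ • E ∈ P := by
    intro γ hγ
    rw [show γ • E = MulSemiringAction.toRingHom Γ B γ E from rfl, map_prod]
    refine Ideal.prod_mem _ (Finset.mem_univ (1 : D)) ?_
    simp only [MulSemiringAction.toRingHom_apply, OneMemClass.coe_one, one_smul]
    rw [show ∀ b : B, γ • b = MulSemiringAction.toRingHom Γ B γ b from fun _ => rfl, map_prod]
    refine Ideal.prod_mem _ (Finset.mem_filter.2 ⟨Finset.mem_univ γ, hγ⟩) ?_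
    rw [MulSemiringAction.toRingHom_apply, dif_pos hγ]
    exact he2 _ _
  have hED : ∀ δ ∈ D, δ • E = E := by
    intro δ hδ
    rw [show δ • E = MulSemiringAction.toRingHom Γ B δ E from rfl, map_prod]
    exact Fintype.prod_equiv (Equiv.mulLeft (⟨δ, hδ⟩ : D)) _ _ fun η => by simp [mul_smul]
  let f : Γ ⧸ D → B := Quotient.lift (fun γ : Γ => γ • (x * E)) (by
    intro a b hab
    have hab' : a⁻¹ * b ∈ D := QuotientGroup.leftRel_apply.1 hab
    have hfix : (a⁻¹ * b) • (x * E) = x * E := by rw [smul_mul', hED _ hab', hx _ hab']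
    calc a • (x * E) = a • ((a⁻¹ * b) • (x * E)) := by rw [hfix]
      _ = b • (x * E) := by rw [← mul_smul, mul_inv_cancel_left])
  refine ⟨∑ q : Γ ⧸ D, f q, fun γ => ?_, ?_⟩
  · rw [Finset.smul_sum]
    refine Fintype.sum_equiv (MulAction.toPerm γ) _ _ fun q => ?_
    induction q using Quotient.inductionOn with
    | _ a => exact (mul_smul γ a (x * E)).symm
  · rw [Finset.sum_eq_add_sum_sdiff_singleton_of_mem (Finset.mem_univ ((1 : Γ) : Γ ⧸ D)), sub_add_eq_sub_sub]
    refine P.sub_mem ?_ (Ideal.sum_mem _ fun q hq => ?_)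
    · show x - (1 : Γ) • (x * E) ∈ P
      rw [one_smul, show x - x * E = -(x * (E - 1)) by ring]
      exact P.neg_mem (P.mul_mem_left _ hE1)
    · induction q using Quotient.inductionOn with
      | _ a =>
        have ha : a ∉ D := fun h => by
          have : ((a : Γ) : Γ ⧸ D) ≠ ((1 : Γ) : Γ ⧸ D) := Finset.notMem_singleton.1 (Finset.mem_sdiff.1 hq).2
          exact this (QuotientGroup.eq.2 (by simpa using D.inv_mem h))
        show a • (x * E) ∈ P
        rw [smul_mul']
        exact P.mul_mem_left _ (hE2 a ha)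

end Groth.Agent.S12936
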