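import Groth.Statements.S12937
import Mathlib.FieldTheory.Separable
import Mathlib.FieldTheory.Minpoly.Field
import Mathlib.Algebra.Polynomial.Lifts
import Mathlib.LinearAlgebra.LinearIndependent.Defs
import Mathlib.FieldTheory.LinearDisjoint
import Mathlib.RingTheory.Invariant.Basic

set_option autoImplicit false
universe u v
open InvTh

namespace Groth.Agent.S12937

/-- Let `B` be a commutative ring with an action of a finite group `Γ` by ring automorphisms, `P` a
maximal ideal of `B`, `T = {γ | γ x - x ∈ P for all x}` its inertia group, `B^T` the inertia ring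
and `B^Γ` the ring of invariants, so that `k(P ∩ B^Γ) ⊆ k(P ∩ B^T) ⊆ k(P) = B/P`. Then `k(P ∩ B^T)`
is the largest separable extension of `k(P ∩ B^Γ)` inside `k(P)`: an element `x` of `B` is congruent
modulo `P` to a `T`-invariant element if and only if `x mod P` is a root of some polynomial with
`Γ`-invariant coefficients whose reduction modulo `P` is separable. (The published statement is for
every prime ideal `P`, as an equality of residue fields; this row takes `P` maximal, the case to
which the published proof reduces by localising at `P ∩ B^Γ`.) -/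
theorem result
    (B : Type u) [CommRing B] (Γ : Type v) [Group Γ] [Finite Γ] [MulSemiringAction Γ B]
    (P : Ideal B) [P.IsMaximal] (x : B) :
    (∃ y : B, (∀ γ : Γ, γ ∈ P.inertia Γ → γ • y = y) ∧ x - y ∈ P) ↔
      ∃ g : Polynomial B, (∀ (i : ℕ) (γ : Γ), γ • g.coeff i = g.coeff i) ∧
        (g.map (Ideal.Quotient.mk P)).Separable ∧ Polynomial.aeval x g ∈ P := by
  classical
  haveI := Fintype.ofFinite Γ
  letI : Field (B ⧸ P) := Ideal.Quotient.field P
  set π := Ideal.Quotient.mk P with hπ
  set T : Subgroup Γ := P.inertia Γ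
  have hT : ∀ t ∈ T, ∀ b, π (t • b) = π b := fun t ht b => Ideal.Quotient.eq.2 (ht b)
  -- the decomposition group
  let D : Subgroup Γ :=
    { carrier := {γ | (∀ b ∈ P, γ • b ∈ P) ∧ ∀ b ∈ P, γ⁻¹ • b ∈ P}
      one_mem' := ⟨fun b hb => by simpa using hb, fun b hb => by simpa using hb⟩
      mul_mem' := fun {a c} ha hc => ⟨fun b hb => by rw [mul_smul]; exact ha.1 _ (hc.1 b hb),
        fun b hb => by rw [mul_inv_rev, mul_smul]; exact hc.2 _ (ha.2 b hb)⟩
      inv_mem' := fun {a} ha => ⟨ha.2, fun b hb => by rw [inv_inv]; exact ha.1 b hb⟩ }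
  let bar : D → (B ⧸ P) →+* (B ⧸ P) := fun δ =>
    Ideal.quotientMap P (MulSemiringAction.toRingHom Γ B (δ : Γ)) fun b hb => δ.2.1 b hb
  have hbar : ∀ (δ : D) b, bar δ (π b) = π ((δ : Γ) • b) := fun δ b => rfl
  -- the inertia ring and its image
  let BT : Subring B := FixedPoints.subring B T
  have hBT : ∀ b, b ∈ BT ↔ ∀ t ∈ T, t • b = b := fun b =>
    ⟨fun h t ht => h ⟨t, ht⟩, fun h t => h t.1 t.2⟩
  have hnorm : ∀ (δ : D), ∀ b ∈ BT, (δ : Γ) • b ∈ BT := by
    intro δ b hb
    rw [hBT] at hb ⊢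
    intro t ht
    have hmem : (δ : Γ)⁻¹ * t * δ ∈ T := fun y => by
      rw [mul_smul, mul_smul]
      have := δ.2.2 _ (ht ((δ : Γ) • y))
      rwa [smul_sub, inv_smul_smul] at this
    conv_rhs => rw [← hb _ hmem, smul_smul]
    rw [smul_smul, ← mul_assoc, ← mul_assoc, mul_inv_cancel, one_mul]
  let L0 : Subring (B ⧸ P) := BT.map π
  have hL0 : ∀ a, a ∈ L0 ↔ ∃ b, (∀ t ∈ T, t • b = b) ∧ π b = a := fun a => by
    simp only [L0, Subring.mem_map, hBT]
  have hprodT : ∀ b : B, ∀ t ∈ T, t • (∏ s : T, (s : Γ) • b) = ∏ s : T, (s : Γ) • b := by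
    intro b t ht
    rw [Finset.smul_prod']
    exact Fintype.prod_equiv (Equiv.mulLeft (⟨t, ht⟩ : T)) _ _ fun s => (mul_smul t (s : Γ) b).symm
  let L : Subfield (B ⧸ P) :=
    { L0 with
      inv_mem' := fun a ha => by
        rcases eq_or_ne a 0 with rfl | ha0
        · simp
        obtain ⟨w, hw⟩ := Ideal.Quotient.mk_surjective a⁻¹
        have h1 : (a⁻¹) ^ Fintype.card T ∈ L0 := (hL0 _).2 ⟨_, hprodT w, by
          rw [map_prod, Finset.prod_congr rfl (fun (s : T) _ => hT s s.2 w), Finset.prod_const,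
            Finset.card_univ, hw]⟩
        obtain ⟨N, hN⟩ : ∃ N, Fintype.card T = N + 1 := ⟨_, (Nat.succ_pred Fintype.card_ne_zero).symm⟩
        rw [hN, pow_succ] at h1
        have h3 := L0.mul_mem (pow_mem ha N) h1
        rwa [← mul_assoc, ← mul_pow, mul_inv_cancel₀ ha0, one_pow, one_mul] at h3 }
  have hL : ∀ a, a ∈ L ↔ ∃ b, (∀ t ∈ T, t • b = b) ∧ π b = a := hL0
  -- every element is purely inseparable over `L`
  have hpi : ∀ b : B, ∃ (N : ℕ) (h : Polynomial L), 0 < N ∧
      h.map L.subtype = (Polynomial.X - Polynomial.C (π b)) ^ N := by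
    intro b
    let h0 : Polynomial B := ∏ s : T, (Polynomial.X - Polynomial.C ((s : Γ) • b))
    have hmap : h0.map π = (Polynomial.X - Polynomial.C (π b)) ^ Fintype.card T := by
      simp only [h0, Polynomial.map_prod, Polynomial.map_sub, Polynomial.map_X, Polynomial.map_C]
      rw [Finset.prod_congr rfl fun s _ => by rw [hT s s.2 b], Finset.prod_const, Finset.card_univ]
    have hlift : h0.map π ∈ Polynomial.lifts L.subtype := by
      rw [Polynomial.lifts_iff_coeff_lifts]
      intro i
      rw [Polynomial.coeff_map]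
      refine ⟨⟨_, (hL _).2 ⟨h0.coeff i, fun t ht => ?_, rfl⟩⟩, rfl⟩
      have : h0.map (MulSemiringAction.toRingHom Γ B t) = h0 := by
        simp only [h0, Polynomial.map_prod, Polynomial.map_sub, Polynomial.map_X, Polynomial.map_C,
          MulSemiringAction.toRingHom_apply]
        exact Fintype.prod_equiv (Equiv.mulLeft (⟨t, ht⟩ : T)) _ _ fun s => by
          rw [Equiv.coe_mulLeft, Subgroup.coe_mul, mul_smul]
      conv_rhs => rw [← this, Polynomial.coeff_map]
      rfl
    obtain ⟨h, hh⟩ := (Polynomial.mem_lifts _).1 hlift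
    exact ⟨_, h, Fintype.card_pos, hh.trans hmap⟩
  -- coset sums
  have coset : ∀ (H K : Subgroup Γ) (f : Γ → B),
      (∀ g ∈ K, ∀ h ∈ H, f (g * h) = f g) → (∀ g g' : Γ, g • f g' = f (g * g')) →
      ∀ g ∈ K, g • (∑ q : K ⧸ H.subgroupOf K, f (q.out : K)) =
        ∑ q : K ⧸ H.subgroupOf K, f (q.out : K) := by
    intro H K f hH hact g hg
    rw [Finset.smul_sum]
    refine Fintype.sum_equiv (MulAction.toPerm (⟨g, hg⟩ : K)) _ _ fun q => ?_
    obtain ⟨h, hh⟩ := QuotientGroup.mk_out_eq_mul (H.subgroupOf K) ((⟨g, hg⟩ : K) * q.out)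
    have e : ((MulAction.toPerm (⟨g, hg⟩ : K)) q) = (((⟨g, hg⟩ : K) * q.out : K) : K ⧸ H.subgroupOf K) := by
      conv_lhs => rw [← QuotientGroup.out_eq' q]
      rfl
    rw [e, hh, hact]
    exact (hH _ (mul_mem hg q.out.2) _ h.2).symm
  -- `e ≡ 1` at `P`, `D`-invariant, vanishing at the other conjugates
  have hsep : ∀ γ : Γ, ∃ b : B, b - 1 ∈ P ∧ (γ ∉ D → γ • b ∈ P) := by
    intro γ
    by_cases hγ : γ ∈ D
    · exact ⟨1, by simp, fun h => absurd hγ h⟩
    set Q : Ideal B := P.comap (MulSemiringAction.toRingHom Γ B γ)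
    haveI : Q.IsMaximal := Ideal.comap_isMaximal_of_surjective _ (MulAction.surjective γ)
    have hne : P ≠ Q := fun h => hγ ⟨fun b hb => by rw [h] at hb; exact hb, fun b hb => by
      rw [h]; show γ • γ⁻¹ • b ∈ P; rwa [smul_inv_smul]⟩
    obtain ⟨a, ha, c, hc, hac⟩ := Submodule.mem_sup.1
      ((Ideal.IsMaximal.coprime_of_ne inferInstance inferInstance hne : P ⊔ Q = ⊤) ▸
        Submodule.mem_top (x := (1 : B)))
    exact ⟨c, by rw [← hac, sub_add_cancel_right]; exact P.neg_mem ha, fun _ => hc⟩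
  choose bb hbb hbb' using hsep
  set e0 := ∏ γ : Γ, bb γ with he0
  set e := ∏ δ : D, (δ : Γ) • e0 with he
  have he0P : π e0 = 1 := by
    rw [he0, map_prod]; exact Finset.prod_eq_one fun γ _ => Ideal.Quotient.eq.2 (hbb γ)
  have heP : π e = 1 := by
    rw [he, map_prod]; exact Finset.prod_eq_one fun δ _ => by rw [← hbar, he0P, map_one]
  have heD : ∀ δ ∈ D, δ • e = e := fun δ hδ => by
    rw [he, Finset.smul_prod']
    exact Fintype.prod_equiv (Equiv.mulLeft (⟨δ, hδ⟩ : D)) _ _ fun s => (mul_smul δ (s : Γ) _).symm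
  have heQ : ∀ γ, γ ∉ D → γ • e ∈ P := fun γ hγ => by
    rw [he, Finset.smul_prod']
    refine P.prod_mem (Finset.mem_univ (1 : D)) ?_
    rw [OneMemClass.coe_one, one_smul, he0, Finset.smul_prod']
    exact P.prod_mem (Finset.mem_univ γ) (hbb' γ hγ)
  -- lifting `D`-invariant elements
  have hliftD : ∀ c, (∀ δ ∈ D, δ • c = c) → ∃ c', (∀ γ : Γ, γ • c' = c') ∧ π c' = π c := by
    intro c hc
    refine ⟨∑ q : (⊤ : Subgroup Γ) ⧸ D.subgroupOf ⊤, ((q.out : (⊤ : Subgroup Γ)) : Γ) • (c * e),
      fun γ => ?_, ?_⟩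
    · exact coset D ⊤ (fun g => g • (c * e))
        (fun g _ h hh => by rw [mul_smul, smul_mul' h, hc h hh, heD h hh])
        (fun g g' => (mul_smul g g' _).symm) γ trivial
    · rw [map_sum, Finset.sum_eq_single (QuotientGroup.mk 1)]
      · obtain ⟨h, hh⟩ := QuotientGroup.mk_out_eq_mul (D.subgroupOf ⊤) 1
        have h2 : ((h : (⊤ : Subgroup Γ)) : Γ) ∈ D := h.2
        rw [hh, one_mul, smul_mul', hc _ h2, heD _ h2, map_mul, heP, mul_one]
      · intro q _ hq
        have hnD : ((q.out : (⊤ : Subgroup Γ)) : Γ) ∉ D := fun hmem => hq (by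
          conv_lhs => rw [← QuotientGroup.out_eq' q]
          rw [QuotientGroup.eq, mul_one]
          exact Subgroup.inv_mem _ hmem)
        rw [smul_mul', map_mul, Ideal.Quotient.eq_zero_iff_mem.2 (heQ _ hnD), mul_zero]
      · simp
  constructor
  · rintro ⟨y, hy, hxy⟩
    -- trace one element of `L`
    let Q' := D ⧸ T.subgroupOf D
    have htr : ∀ c ∈ BT, ∀ δ ∈ D,
        δ • (∑ q : Q', ((q.out : D) : Γ) • c) = ∑ q : Q', ((q.out : D) : Γ) • c :=
      fun c hc => coset T D (fun g => g • c) (fun g _ h hh => by rw [mul_smul, (hBT c).1 hc h hh])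
        (fun g g' => (mul_smul g g' _).symm)
    let χ : Q' → L →* (B ⧸ P) := fun q => ((bar q.out).comp L.subtype).toMonoidHom
    have hχinj : Function.Injective χ := by
      intro q q' h
      have hq : ∀ c, (∀ t ∈ T, t • c = c) →
          π (((q.out : D) : Γ) • c) = π (((q'.out : D) : Γ) • c) := fun c hc =>
        congrArg (fun f : L →* (B ⧸ P) => f ⟨π c, (hL _).2 ⟨c, hc, rfl⟩⟩) h
      set δ : D := (q'.out)⁻¹ * q.out with hδdef
      have hfix : ∀ a : L, bar δ a = a := by
        rintro ⟨a, ha⟩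
        obtain ⟨c, hc, rfl⟩ := (hL a).1 ha
        show bar δ (π c) = π c
        rw [hbar, hδdef, Subgroup.coe_mul, mul_smul]
        have h1 := congrArg (bar (q'.out)⁻¹) (hq c hc)
        rw [hbar, hbar] at h1
        rw [h1, Subgroup.coe_inv, inv_smul_smul]
      have hmem : (δ : Γ) ∈ T := by
        intro b
        show (δ : Γ) • b - b ∈ P
        rw [← Ideal.Quotient.eq]
        show π ((δ : Γ) • b) = π b
        rw [← hbar]
        obtain ⟨N, h', hN, hh'⟩ := hpi b
        have h1 : (h'.map L.subtype).map (bar δ) = h'.map L.subtype := by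
          rw [Polynomial.map_map]
          congr 1
          exact RingHom.ext hfix
        rw [hh', Polynomial.map_pow, Polynomial.map_sub, Polynomial.map_X, Polynomial.map_C] at h1
        have h2 := congrArg (Polynomial.eval (π b)) h1
        simp only [Polynomial.eval_pow, Polynomial.eval_sub, Polynomial.eval_X, Polynomial.eval_C,
          sub_self, zero_pow hN.ne'] at h2
        exact (sub_eq_zero.1 ((pow_eq_zero_iff hN.ne').1 h2)).symm
      have : (q'.out : Q') = (q.out : Q') := QuotientGroup.eq.2 hmem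
      rw [← QuotientGroup.out_eq' q, ← QuotientGroup.out_eq' q', this]
    have hw : ∃ w ∈ BT, π (∑ q : Q', ((q.out : D) : Γ) • w) ≠ 0 := by
      by_contra hcon
      push Not at hcon
      have hli := (linearIndependent_monoidHom L (B ⧸ P)).comp χ hχinj
      have h0 : ∑ q : Q', (1 : B ⧸ P) • (χ q : L → B ⧸ P) = 0 := funext fun a => by
        obtain ⟨c, hc, hca⟩ := (hL a).1 a.2
        simp only [one_smul, Finset.sum_apply, Pi.zero_apply]
        rw [← hcon c ((hBT c).2 hc), map_sum]
        refine Finset.sum_congr rfl fun q _ => ?_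
        show bar q.out (a : B ⧸ P) = _
        rw [← hca]; rfl
      exact one_ne_zero ((Fintype.linearIndependent_iff.1 hli) (fun _ => 1) h0 (QuotientGroup.mk 1))
    obtain ⟨w, hwT, hw⟩ := hw
    set s := π (∑ q : Q', ((q.out : D) : Γ) • w) with hs
    obtain ⟨v, hvT, hv⟩ := (hL _).1 (L.inv_mem ((hL s).2
      ⟨_, fun t ht => htr w hwT t ⟨fun b hb => by
        have := P.add_mem (ht b) hb; rwa [sub_add_cancel] at this, fun b hb => by
        have := P.add_mem (T.inv_mem ht b) hb; rwa [sub_add_cancel] at this⟩, rfl⟩))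
    -- fixed elements of `L` come from invariants
    have hfixed : ∀ a ∈ L, (∀ δ : D, bar δ a = a) → ∃ c', (∀ γ : Γ, γ • c' = c') ∧ π c' = a := by
      intro a ha hfa
      obtain ⟨c, hc, rfl⟩ := (hL a).1 ha
      have hcv : c * w * v ∈ BT := BT.mul_mem (BT.mul_mem ((hBT c).2 hc) hwT) ((hBT v).2 hvT)
      obtain ⟨c', hc', hc'e⟩ := hliftD _ (htr _ hcv)
      refine ⟨c', hc', hc'e.trans ?_⟩
      have hfs : ∀ δ : D, bar δ s = s := fun δ => by rw [hs, hbar, htr w hwT δ δ.2]
      rw [map_sum, Finset.sum_congr rfl fun q _ => show π (((q.out : D) : Γ) • (c * w * v)) =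
          π c * s⁻¹ * π (((q.out : D) : Γ) • w) by
        rw [smul_mul', smul_mul', map_mul, map_mul, ← hbar q.out c, hfa, ← hbar q.out v, hv,
          map_inv₀, hfs]
        ring, ← Finset.mul_sum, ← map_sum, ← hs, mul_assoc, inv_mul_cancel₀ hw, mul_one]
    let S : Finset (B ⧸ P) := Finset.univ.image fun δ : D => π ((δ : Γ) • y)
    let g0 : Polynomial (B ⧸ P) := ∏ a ∈ S, (Polynomial.X - Polynomial.C a)
    let BΓ : Subring B := FixedPoints.subring B Γ
    have hg0 : g0 ∈ Polynomial.lifts (π.comp BΓ.subtype) := by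
      rw [Polynomial.lifts_iff_coeff_lifts]
      intro i
      have hcoef : g0.coeff i ∈ L := by
        have : g0 ∈ Polynomial.lifts L.subtype := by
          refine Subsemiring.prod_mem _ fun a ha => ?_
          obtain ⟨δ, -, rfl⟩ := Finset.mem_image.1 ha
          refine (Polynomial.mem_lifts _).2 ⟨Polynomial.X - Polynomial.C ⟨π ((δ : Γ) • y),
            (hL _).2 ⟨_, (hBT _).1 (hnorm δ y ((hBT y).2 hy)), rfl⟩⟩, by simp⟩
        obtain ⟨a, ha⟩ := (Polynomial.lifts_iff_coeff_lifts _).1 this i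
        exact ha ▸ a.2
      have hfix : ∀ δ : D, bar δ (g0.coeff i) = g0.coeff i := fun δ => by
        rw [← Polynomial.coeff_map]
        congr 1
        simp only [g0, Polynomial.map_prod, Polynomial.map_sub, Polynomial.map_X, Polynomial.map_C]
        have hinj : Function.Injective (bar δ) := (bar δ).injective
        have himg : S.image (bar δ) = S := by
          refine Finset.eq_of_subset_of_card_le (fun a ha => ?_)
            (Finset.card_image_of_injective S hinj).ge
          obtain ⟨b, hb, rfl⟩ := Finset.mem_image.1 ha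
          obtain ⟨δ', -, rfl⟩ := Finset.mem_image.1 hb
          exact Finset.mem_image.2 ⟨δ * δ', Finset.mem_univ _, by
            rw [hbar, Subgroup.coe_mul, mul_smul]⟩
        conv_rhs => rw [← himg, Finset.prod_image hinj.injOn]
      obtain ⟨c', hc', hce⟩ := hfixed _ hcoef hfix
      exact ⟨⟨c', hc'⟩, hce⟩
    obtain ⟨q, hq⟩ := (Polynomial.mem_lifts _).1 hg0
    refine ⟨q.map BΓ.subtype, fun i γ => ?_, ?_, ?_⟩
    · rw [Polynomial.coeff_map]; exact (q.coeff i).2 γ
    · rw [Polynomial.map_map, hq]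
      exact Polynomial.separable_prod_X_sub_C_iff'.2 fun a _ b _ h => h
    · rw [← Ideal.Quotient.eq_zero_iff_mem]
      rw [Polynomial.coe_aeval_eq_eval, ← Polynomial.eval_map_apply, Polynomial.map_map, hq,
        show π x = π y from Ideal.Quotient.eq.2 hxy]
      simp only [g0, Polynomial.eval_prod]
      refine Finset.prod_eq_zero (i := π y) (Finset.mem_image.2 ⟨1, Finset.mem_univ _, by simp⟩) (by simp)
  · rintro ⟨g, hg, hgs, hgx⟩
    obtain ⟨N, h, hN, hh⟩ := hpi x
    have hglift : g.map π ∈ Polynomial.lifts L.subtype := by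
      rw [Polynomial.lifts_iff_coeff_lifts]
      intro i
      rw [Polynomial.coeff_map]
      exact ⟨⟨_, (hL _).2 ⟨g.coeff i, fun t _ => hg i t, rfl⟩⟩, rfl⟩
    obtain ⟨gL, hgL⟩ := (Polynomial.mem_lifts _).1 hglift
    have hh0 : h ≠ 0 := fun e => by
      rw [e, Polynomial.map_zero] at hh
      exact pow_ne_zero N (Polynomial.X_sub_C_ne_zero _) hh.symm
    have hroot : Polynomial.aeval (π x) h = 0 := by
      rw [Polynomial.aeval_def, ← Polynomial.eval_map,
        show algebraMap L (B ⧸ P) = L.subtype from rfl, hh]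
      simp [hN.ne']
    have hgroot : Polynomial.aeval (π x) gL = 0 := by
      rw [Polynomial.aeval_def, ← Polynomial.eval_map,
        show algebraMap L (B ⧸ P) = L.subtype from rfl, hgL, Polynomial.eval_map_apply,
        ← Polynomial.coe_aeval_eq_eval]
      exact Ideal.Quotient.eq_zero_iff_mem.2 hgx
    have hm1 : ((minpoly L (π x)).map L.subtype).Separable :=
      Polynomial.Separable.of_dvd (hgL ▸ hgs) (Polynomial.map_dvd _ (minpoly.dvd L _ hgroot))
    have hm2 : (minpoly L (π x)).map L.subtype ∣ (Polynomial.X - Polynomial.C (π x)) ^ N :=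
      hh ▸ Polynomial.map_dvd _ (minpoly.dvd L _ hroot)
    obtain ⟨i, -, hi⟩ := (dvd_prime_pow (Polynomial.prime_X_sub_C (π x)) N).1 hm2
    have hint : IsIntegral L (π x) := isAlgebraic_iff_isIntegral.1 ⟨h, hh0, hroot⟩
    have hi1 : i = 1 := by
      have hs := hi.separable_iff.1 hm1 |>.squarefree
      rcases Nat.lt_or_ge i 2 with h2 | h2
      · rcases Nat.eq_zero_or_pos i with rfl | hpos
        · exfalso
          rw [pow_zero] at hi
          have := Polynomial.natDegree_eq_zero_of_isUnit (associated_one_iff_isUnit.1 hi)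
          rw [Polynomial.natDegree_map] at this
          exact (minpoly.natDegree_pos hint).ne' this
        · omega
      · exfalso
        obtain ⟨d, rfl⟩ := Nat.exists_eq_add_of_le h2
        rw [pow_add, sq] at hs
        exact Polynomial.not_isUnit_X_sub_C _ (hs _ (dvd_mul_right _ _))
    have hdeg : (minpoly L (π x)).natDegree = 1 := by
      have := Polynomial.natDegree_eq_of_degree_eq (Polynomial.degree_eq_degree_of_associated hi)
      rw [Polynomial.natDegree_map, hi1, pow_one, Polynomial.natDegree_X_sub_C] at this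
      exact this
    obtain ⟨a, ha⟩ := minpoly.natDegree_eq_one_iff.1 hdeg
    obtain ⟨y, hy, hye⟩ := (hL _).1 a.2
    exact ⟨y, fun γ hγ => hy γ hγ, Ideal.Quotient.eq.1 (ha.symm.trans hye.symm)⟩

end Groth.Agent.S12937
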