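import Groth.Statements.S1294
import Groth.Agent.FlatMorSpreadout.Tools
import Groth.Agent.EGA43.Cons.FibFlatLocus

set_option autoImplicit false
universe u
set_option maxHeartbeats 1600000
open FlatMor
open TensorProduct IsLocalRing
attribute [local instance] Algebra.TensorProduct.rightAlgebra

namespace Groth.Agent.S1294

open IsLocalRing in
/-- Let B be a finitely presented A-algebra, T ⊆ B a multiplicative subset and N a finitely presented
T⁻¹B-module. Then for every prime p of A there is a finitely generated ideal I of A_p contained in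
its maximal ideal such that, writing A₁ = A_p/I, B₁ = B ⊗_A A₁, T₁ for the image of T in B₁ and N₁
for the base change of N (a T₁⁻¹B₁-module; any models), the base-changed data admits a pure
spreadout over A₁. -/
theorem result {A B : Type u} [CommRing A] [CommRing B] [Algebra A B] [Algebra.FinitePresentation A B]
    (T : Submonoid B) (N : Type u) [AddCommGroup N] [Module (Localization T) N] [Module B N] [Module A N]
    [IsScalarTower B (Localization T) N] [IsScalarTower A (Localization T) N] [IsScalarTower A B N]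
    [Module.FinitePresentation (Localization T) N] (p : Ideal A) [p.IsPrime] :
    ∃ I : Ideal (Localization.AtPrime p), I.FG ∧ I ≤ maximalIdeal (Localization.AtPrime p) ∧
      ∀ (B₁ N₁ : Type u) [CommRing B₁] [Algebra B B₁] [Algebra (Localization.AtPrime p ⧸ I) B₁] [Algebra A B₁]
        [IsScalarTower A B B₁] [IsScalarTower A (Localization.AtPrime p ⧸ I) B₁]
        [Algebra.IsPushout A B (Localization.AtPrime p ⧸ I) B₁]
        [AddCommGroup N₁] [Module (Localization (T.map (algebraMap B B₁))) N₁] [Module (Localization.AtPrime p ⧸ I) N₁]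
        [IsScalarTower (Localization.AtPrime p ⧸ I) (Localization (T.map (algebraMap B B₁))) N₁]
        [Module B N₁] [IsScalarTower B (Localization (T.map (algebraMap B B₁))) N₁]
        [Module A N₁] [IsScalarTower A (Localization.AtPrime p ⧸ I) N₁] [IsScalarTower A B N₁]
        (h : N →ₗ[B] N₁), IsBaseChange (Localization.AtPrime p ⧸ I) (h.restrictScalars A) →
        FlatCA.HasPureSpreadout (Localization.AtPrime p ⧸ I) B₁ (T.map (algebraMap B B₁)) N₁ := by
  classical
  obtain ⟨N₀, _, _, f₀, hN₀, hf₀⟩ := Groth.Agent.FlatMorSpreadout.exists_fp_descend T N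
  let _ : Module A N₀ := Module.compHom N₀ (algebraMap A B)
  have : IsScalarTower A B N₀ := .of_algebraMap_smul fun _ _ => rfl
  -- the element inverted
  have : IsNoetherianRing (p.Fiber B) := Algebra.FiniteType.isNoetherianRing p.ResidueField _
  have : Module.Finite (p.Fiber B) (FlatCA.fiberMod p B N₀) :=
    inferInstanceAs (Module.Finite (p.Fiber B) ((p.Fiber B) ⊗[B] N₀))
  let W := (associatedPrimes.finite (p.Fiber B) (FlatCA.fiberMod p B N₀)).toFinset.image
    (Ideal.comap (algebraMap B (p.Fiber B)))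
  let pick : Ideal B → T := fun q => if h : ∃ t : T, (t : B) ∈ q then h.choose else 1
  let g : T := ∏ q ∈ W, pick q
  have havoid : ∀ (q : Ideal B) [q.IsPrime], q.LiesOver p →
      FlatCA.fiberIdeal p q ∈ associatedPrimes (p.Fiber B) (FlatCA.fiberMod p B N₀) →
      (g : B) ∉ q → ∀ t ∈ T, t ∉ q := by
    intro q _ _ hass hgq t ht htq
    have hqW : q ∈ W := Finset.mem_image.2 ⟨_, (Set.Finite.mem_toFinset _).2 hass,
      Groth.Agent.FlatMorDevissage.comap_fiberIdeal p q⟩
    have h : ∃ t : T, (t : B) ∈ q := ⟨⟨t, ht⟩, htq⟩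
    apply hgq
    have hdvd : (pick q : B) ∣ (g : B) := by
      obtain ⟨c, hc⟩ := Finset.dvd_prod_of_mem pick hqW
      exact ⟨c, congrArg Subtype.val hc⟩
    have hq : (pick q : B) ∈ q := by
      simp only [pick, dif_pos h]
      exact h.choose_spec
    exact Ideal.mem_of_dvd _ hdvd hq
  let C := Localization.Away (g : B)
  let N' := C ⊗[B] N₀
  have : Algebra.FinitePresentation B C := IsLocalization.Away.finitePresentation (g : B)
  have : Algebra.FinitePresentation A C := Algebra.FinitePresentation.trans A B C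
  -- the Noetherian model
  obtain ⟨R₀, hR₀, P₀, M₀, _, _, _, _, _, _, _, _, -, e, -, -⟩ :=
    Groth.Agent.EGA43.FlatDescent.exists_model_of_finitePresentation (A := A) (S := C) (N := N')
  let p₀ := p.comap (algebraMap R₀ A)
  let Ap := Localization.AtPrime p
  let I : Ideal Ap := p₀.map (algebraMap R₀ Ap)
  have hIm : I ≤ maximalIdeal Ap := Ideal.map_le_iff_le_comap.2 fun r hr => by
    rw [Ideal.mem_comap, IsScalarTower.algebraMap_apply R₀ A Ap]
    exact (IsLocalization.AtPrime.to_map_mem_maximal_iff Ap p _).2 hr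
  refine ⟨I, Ideal.FG.map (IsNoetherian.noetherian p₀) _, hIm, ?_⟩
  intro B₁ N₁ _ _ _ _ _ _ _ _ _ _ _ _ _ _ _ _ h hh
  have : Nontrivial (Ap ⧸ I) := Ideal.Quotient.nontrivial_iff.2 fun htop =>
    (maximalIdeal.isMaximal Ap).ne_top (top_le_iff.1 (htop ▸ hIm))
  have : IsLocalRing (Ap ⧸ I) := IsLocalRing.of_surjective' (Ideal.Quotient.mk I) Ideal.Quotient.mk_surjective
  let A₁ := Ap ⧸ I
  let T₁ := T.map (algebraMap B B₁)
  let C₁ := Localization.Away (algebraMap B B₁ (g : B))
  let L := Localization T
  let L₁ := Localization T₁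
  let _ : Algebra C C₁ := (IsLocalization.Away.map C C₁ (algebraMap B B₁) (g : B)).toAlgebra
  have : IsScalarTower B C C₁ := IsScalarTower.of_algebraMap_eq (R := B) (S := C) (A := C₁) fun b => by
    show _ = IsLocalization.Away.map C C₁ (algebraMap B B₁) (g : B) (algebraMap B C b)
    rw [IsLocalization.Away.map, IsLocalization.map_eq, ← IsScalarTower.algebraMap_apply]
  have : IsScalarTower A C C₁ := IsScalarTower.of_algebraMap_eq (R := A) (S := C) (A := C₁) fun a => by
    rw [IsScalarTower.algebraMap_apply A B C, ← IsScalarTower.algebraMap_apply B C C₁,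
      ← IsScalarTower.algebraMap_apply A B C₁]
  have hgu : IsUnit (algebraMap B L (g : B)) := IsLocalization.map_units L g
  let _ : Algebra C L := (IsLocalization.Away.lift (g : B) hgu).toAlgebra
  have : IsScalarTower B C L := IsScalarTower.of_algebraMap_eq (R := B) (S := C) (A := L) fun b =>
    (IsLocalization.Away.lift_eq (g : B) hgu b).symm
  have hgu₁ : IsUnit (algebraMap B₁ L₁ (algebraMap B B₁ (g : B))) :=
    IsLocalization.map_units L₁ (⟨_, Submonoid.mem_map_of_mem _ g.2⟩ : T₁)
  let _ : Algebra C₁ L₁ := (IsLocalization.Away.lift (algebraMap B B₁ (g : B)) hgu₁).toAlgebra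
  have : IsScalarTower B₁ C₁ L₁ := IsScalarTower.of_algebraMap_eq (R := B₁) (S := C₁) (A := L₁) fun b =>
    (IsLocalization.Away.lift_eq (algebraMap B B₁ (g : B)) hgu₁ b).symm
  have : IsScalarTower A₁ C₁ L₁ := IsScalarTower.of_algebraMap_eq (R := A₁) (S := C₁) (A := L₁) fun a => by
    rw [IsScalarTower.algebraMap_apply A₁ B₁ C₁, ← IsScalarTower.algebraMap_apply B₁ C₁ L₁,
      ← IsScalarTower.algebraMap_apply A₁ B₁ L₁]
  let _ : Algebra L L₁ := (IsLocalization.map L₁ (algebraMap B B₁)
    (show T ≤ T₁.comap (algebraMap B B₁) from Submonoid.le_comap_map T)).toAlgebra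
  have : IsScalarTower B L L₁ := IsScalarTower.of_algebraMap_eq (R := B) (S := L) (A := L₁) fun b => by
    show _ = IsLocalization.map L₁ (algebraMap B B₁) _ (algebraMap B L b)
    rw [IsLocalization.map_eq, ← IsScalarTower.algebraMap_apply]
  let _ : Algebra C L₁ := ((algebraMap C₁ L₁).comp (algebraMap C C₁)).toAlgebra
  have : IsScalarTower C C₁ L₁ := .of_algebraMap_eq' rfl
  have : IsScalarTower B C L₁ := IsScalarTower.of_algebraMap_eq (R := B) (S := C) (A := L₁) fun b => by
    rw [IsScalarTower.algebraMap_apply C C₁ L₁, ← IsScalarTower.algebraMap_apply B C C₁,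
      IsScalarTower.algebraMap_apply B B₁ C₁, ← IsScalarTower.algebraMap_apply B₁ C₁ L₁,
      ← IsScalarTower.algebraMap_apply B B₁ L₁]
  have : IsScalarTower C L L₁ := .of_algebraMap_eq' <| by
    refine IsLocalization.ringHom_ext (Submonoid.powers (g : B)) (RingHom.ext fun b => ?_)
    show algebraMap C L₁ (algebraMap B C b) = algebraMap L L₁ (algebraMap C L (algebraMap B C b))
    rw [← IsScalarTower.algebraMap_apply B C L₁, ← IsScalarTower.algebraMap_apply B C L,
      ← IsScalarTower.algebraMap_apply B L L₁]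
  have : IsScalarTower A L L₁ := IsScalarTower.of_algebraMap_eq (R := A) (S := L) (A := L₁) fun a => by
    rw [IsScalarTower.algebraMap_apply A B L, ← IsScalarTower.algebraMap_apply B L L₁,
      ← IsScalarTower.algebraMap_apply A B L₁]
  have : SMulCommClass C A₁ C₁ := ⟨fun c a x => by show c • (a • x) = a • (c • x); rw [Algebra.smul_def c, Algebra.smul_def c, mul_smul_comm]⟩
  -- pushouts
  have : IsLocalization (Algebra.algebraMapSubmonoid B₁ (Submonoid.powers (g : B))) C₁ := by
    rw [Algebra.algebraMapSubmonoid, Submonoid.map_powers]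
    exact inferInstanceAs (IsLocalization.Away (algebraMap B B₁ (g : B)) C₁)
  have : IsLocalization (Algebra.algebraMapSubmonoid B₁ T) L₁ := inferInstanceAs (IsLocalization T₁ L₁)
  have hpC : Algebra.IsPushout B C B₁ C₁ :=
    ((Algebra.isLocalization_iff_isPushout (Submonoid.powers (g : B)) C (T := B₁) (B := C₁)).1 inferInstance).symm
  have hpL : Algebra.IsPushout B L B₁ L₁ := ((Algebra.isLocalization_iff_isPushout T L (T := B₁) (B := L₁)).1 inferInstance).symm
  have hpB : Algebra.IsPushout A B A₁ B₁ := inferInstance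
  have : Algebra.IsPushout A A₁ C C₁ :=
    ((Algebra.IsPushout.comp_iff (R := A) (S := B) (R' := A₁) (S' := B₁) (T := C) (T' := C₁)).2 hpC).symm
  have : Algebra.IsPushout A A₁ L L₁ :=
    ((Algebra.IsPushout.comp_iff (R := A) (S := B) (R' := A₁) (S' := B₁) (T := L) (T' := L₁)).2 hpL).symm
  have : Algebra.FiniteType A₁ C₁ :=
    Algebra.FiniteType.equiv (Algebra.FiniteType.baseChange (A := C) A₁) (Algebra.IsPushout.equiv A A₁ C C₁)
  let N₁' := C₁ ⊗[C] N'
  -- projectivity
  have hkerI : p₀ ≤ RingHom.ker (algebraMap R₀ A₁) := fun r hr => by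
    rw [RingHom.mem_ker, IsScalarTower.algebraMap_apply R₀ Ap A₁, Ideal.Quotient.algebraMap_eq,
      Ideal.Quotient.eq_zero_iff_mem]
    exact Ideal.mem_map_of_mem _ hr
  have hunit : ∀ r ∉ p₀, IsUnit (algebraMap R₀ A₁ r) := fun r hr => by
    rw [IsScalarTower.algebraMap_apply R₀ A A₁, IsScalarTower.algebraMap_apply A Ap A₁]
    exact (IsLocalization.map_units Ap (⟨_, hr⟩ : p.primeCompl)).map _
  have := Groth.Agent.FlatMorSpreadout.projective_of_residueField (M₀ := M₀) p₀ hkerI hunit
  have : Module.Projective A₁ N₁' := Module.Projective.of_equiv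
    ((Algebra.IsPushout.cancelBaseChange A A₁ C C₁ N').trans
      ((AlgebraTensorModule.congr (LinearEquiv.refl A₁ A₁) e.symm).trans
        (AlgebraTensorModule.cancelBaseChange R₀ A A₁ A₁ M₀))).symm
  -- the maps
  let _ : Module C N := Module.compHom N (algebraMap C L)
  have : IsScalarTower C L N := .of_algebraMap_smul fun _ _ => rfl
  have : IsScalarTower B C N := .of_algebraMap_smul fun b x => by
    show algebraMap C L (algebraMap B C b) • x = b • x
    rw [← IsScalarTower.algebraMap_apply B C L, algebraMap_smul]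
  have hmk : IsBaseChange C (TensorProduct.mk B C N₀ 1) := TensorProduct.isBaseChange B N₀ C
  let g₀ : N' →ₗ[C] N := hmk.lift f₀
  have hg₀ : IsBaseChange L g₀ := hmk.of_comp (by
    rw [IsBaseChange.lift_comp]
    exact (isLocalizedModule_iff_isBaseChange T L f₀).1 hf₀)
  let _ : Module L N₁ := Module.compHom N₁ (algebraMap L L₁)
  have : IsScalarTower L L₁ N₁ := .of_algebraMap_smul fun _ _ => rfl
  have : IsScalarTower B L N₁ := .of_algebraMap_smul fun b x => by
    show algebraMap L L₁ (algebraMap B L b) • x = b • x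
    rw [← IsScalarTower.algebraMap_apply B L L₁, algebraMap_smul]
  have : IsScalarTower A L N₁ := .of_algebraMap_smul fun a x => by
    rw [IsScalarTower.algebraMap_apply A B L, algebraMap_smul, algebraMap_smul]
  let μ : N →ₗ[L] N₁ := h.extendScalarsOfIsLocalization T L
  have hμ : IsBaseChange L₁ μ :=
    (Groth.Agent.EGA43.Cons.isBaseChange_iff_of_isPushout (R := A) (R' := L) (T := A₁) (T' := L₁) μ).2 hh
  let _ : Module C₁ N₁ := Module.compHom N₁ (algebraMap C₁ L₁)
  have : IsScalarTower C₁ L₁ N₁ := .of_algebraMap_smul fun _ _ => rfl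
  have : IsScalarTower A₁ C₁ N₁ := IsScalarTower.of_algebraMap_smul (R := A₁) (A := C₁) (M := N₁) fun a x => by
    show algebraMap C₁ L₁ (algebraMap A₁ C₁ a) • x = a • x
    rw [← IsScalarTower.algebraMap_apply A₁ C₁ L₁, algebraMap_smul]
  let _ : Module C N₁ := Module.compHom N₁ (algebraMap C L₁)
  have : IsScalarTower C L₁ N₁ := .of_algebraMap_smul fun _ _ => rfl
  have : IsScalarTower C C₁ N₁ := .of_algebraMap_smul fun c x => rfl
  have : IsScalarTower C L N₁ := .of_algebraMap_smul fun c x => by
    show algebraMap L L₁ (algebraMap C L c) • x = algebraMap C L₁ c • x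
    rw [← IsScalarTower.algebraMap_apply C L L₁]
  let F : N' →ₗ[C] N₁ := (μ.restrictScalars C).comp g₀
  have hF : IsBaseChange L₁ F := hg₀.comp hμ
  have hmk₁ : IsBaseChange C₁ (TensorProduct.mk C C₁ N' 1) := TensorProduct.isBaseChange C N' C₁
  let g₁ : N₁' →ₗ[C₁] N₁ := hmk₁.lift F
  have hg₁ : IsBaseChange L₁ g₁ := hmk₁.of_comp (by rw [IsBaseChange.lift_comp]; exact hF)
  -- universal injectivity
  let T₂ := T₁.map (algebraMap B₁ C₁)
  have : IsLocalization T₂ L₁ :=
    IsLocalization.isLocalization_of_submonoid_le C₁ L₁ (Submonoid.powers (algebraMap B B₁ (g : B))) T₁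
      (Submonoid.powers_le.2 (Submonoid.mem_map_of_mem _ g.2))
  have : IsLocalizedModule T₂ g₁ := (isLocalizedModule_iff_isBaseChange T₂ L₁ g₁).2 hg₁
  have hmA₁ : (maximalIdeal A₁).comap (algebraMap A A₁) = p := by
    rw [IsScalarTower.algebraMap_eq A Ap A₁, ← Ideal.comap_comap]
    have : (maximalIdeal A₁).comap (algebraMap Ap A₁) = maximalIdeal Ap :=
      IsLocalRing.eq_maximalIdeal (Ideal.comap_isMaximal_of_surjective _ Ideal.Quotient.mk_surjective)
    rw [this]
    exact IsLocalization.AtPrime.under_maximalIdeal Ap p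
  have : (maximalIdeal A₁).LiesOver p := ⟨hmA₁.symm⟩
  have huniv : FlatCA.UnivInj A₁ (g₁.restrictScalars A₁) := by
    refine Groth.Agent.FlatMorSpreadout.univInj_of_localized T₂ g₁ fun q _ hqm hass t ht htq => ?_
    obtain ⟨_, ⟨t₀, ht₀, rfl⟩, rfl⟩ := ht
    have : Algebra.IsPushout A C A₁ C₁ := Algebra.IsPushout.symm ‹_›
    obtain ⟨hqC, hassC⟩ := Groth.Agent.FlatMorDevissage.assFibre_comap (R := A) (R₂ := A₁) (S := C)
      (S₂ := C₁) (TensorProduct.mk C C₁ N' 1) hmk₁ p (maximalIdeal A₁) q hass
    obtain ⟨hqB, hgB, hassB⟩ := Groth.Agent.FlatMorSpreadout.assFibre_comap_away (g : B)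
      (TensorProduct.mk B C N₀ 1) hmk p (q.comap (algebraMap C C₁)) hassC
    refine havoid _ hqB hassB hgB t₀ ht₀ ?_
    show algebraMap C C₁ (algebraMap B C t₀) ∈ q
    rw [← IsScalarTower.algebraMap_apply B C C₁, IsScalarTower.algebraMap_apply B B₁ C₁]
    exact htq
  exact ⟨C₁, inferInstance, inferInstance, inferInstance, inferInstance, inferInstance, inferInstance,
    inferInstance, inferInstance, inferInstance, inferInstance, N₁', inferInstance, inferInstance,
    inferInstance, inferInstance, g₁, AlgebraicGeometry.IsOpenImmersion.of_isLocalization (algebraMap B B₁ (g : B)),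
    inferInstance, hg₁, inferInstance, huniv⟩

end Groth.Agent.S1294
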