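import Groth.Statements.S1295
import Groth.Agent.FlatMorPureDescend.Setup
import Groth.Agent.FlatMor12.ApproxModule
import Groth.Agent.FlatMor12.FlatAtBC

set_option autoImplicit false
universe u
set_option maxHeartbeats 1600000
open FlatMor
open TensorProduct
attribute [local instance] Algebra.TensorProduct.rightAlgebra Groth.Agent.EGA43.FlatDescent.bcModule

namespace Groth.Agent.S1295

/-- Ring form, X = Spec B and the S_i = Spec A_i affine: let A be the colimit of a directed system of
rings (A_i), p a prime of A with contractions p_i, B a finitely presented A-algebra and N a finitely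
presented B-module which is pure along the fibre over p and flat over A at every prime of B over p.
Then for some index i there are a finitely presented A_i-algebra B_i with B ≅ B_i ⊗_{A_i} A and a
finitely presented B_i-module N_i with N ≅ N_i ⊗_{B_i} B, such that N_i is pure along the fibre over
p_i and flat over A_i at every prime of B_i over p_i. -/
theorem result {ι : Type u} [Preorder ι] (G : ι → Type u) [∀ i, CommRing (G i)]
    (g : ∀ i j, i ≤ j → G i →+* G j) {A : Type u} [CommRing A] [∀ i, Algebra (G i) A] (hcolim : FlatCA.IsDirectedColimitRing G g A)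
    {B : Type u} [CommRing B] [Algebra A B] [Algebra.FinitePresentation A B]
    (N : Type u) [AddCommGroup N] [Module B N] [Module A N] [IsScalarTower A B N] [Module.FinitePresentation B N]
    (p : Ideal A) [p.IsPrime] (hpure : FlatCA.IsPureAlong A B N p)
    (hflat : ∀ (q : Ideal B) [q.IsPrime], q.LiesOver p → FlatCA.FlatAt A q N) :
    ∃ (i : ι) (Bi Ni : Type u) (_ : CommRing Bi) (_ : Algebra (G i) Bi) (_ : Algebra Bi B) (_ : Algebra (G i) B)
      (_ : IsScalarTower (G i) A B) (_ : IsScalarTower (G i) Bi B)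
      (_ : AddCommGroup Ni) (_ : Module Bi Ni) (_ : Module (G i) Ni) (_ : IsScalarTower (G i) Bi Ni)
      (_ : Module Bi N) (_ : IsScalarTower Bi B N) (f : Ni →ₗ[Bi] N),
      Algebra.FinitePresentation (G i) Bi ∧ Algebra.IsPushout (G i) Bi A B ∧ Module.FinitePresentation Bi Ni ∧ IsBaseChange B f ∧
      FlatCA.IsPureAlong (G i) Bi Ni (p.comap (algebraMap (G i) A)) ∧
      ∀ (q : Ideal Bi) [q.IsPrime], q.LiesOver (p.comap (algebraMap (G i) A)) → FlatCA.FlatAt (G i) q Ni := by
  classical
  obtain ⟨R₀, _, _, S₀, _, _, _, _, _, _, M₀, _, _, _, _, f₀, hR₀, hS₀, hM₀, hpo₀, hf₀⟩ :=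
    Groth.Agent.FlatMor12.ApproxModule.exists_model A B N
  let _ : Module R₀ M₀ := Module.compHom M₀ (algebraMap R₀ S₀)
  have : IsScalarTower R₀ S₀ M₀ := .of_algebraMap_smul fun _ _ => rfl
  have : IsNoetherianRing R₀ := Algebra.FiniteType.isNoetherianRing ℤ R₀
  have : Algebra.FinitePresentation ℤ R₀ := Algebra.FinitePresentation.of_finiteType.1 hR₀
  have : Algebra.FinitePresentation R₀ S₀ := Algebra.FinitePresentation.of_finiteType.1 hS₀
  have : IsNoetherianRing S₀ := Algebra.FiniteType.isNoetherianRing R₀ S₀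
  have : Module.FinitePresentation S₀ M₀ := Module.finitePresentation_of_finite S₀ M₀
  -- the first stage
  let _ : ∀ i, Algebra (ULift.{u} ℤ) (G i) := fun i => ULift.algebra' ℤ _
  let _ : Algebra (ULift.{u} ℤ) R₀ := ULift.algebra' ℤ _
  let _ : Algebra (ULift.{u} ℤ) A := ULift.algebra' ℤ _
  have : IsScalarTower ℤ (ULift.{u} ℤ) R₀ := .of_algebraMap_eq' (RingHom.ext_int _ _)
  have : ∀ i, IsScalarTower (ULift.{u} ℤ) (G i) A := fun i =>
    .of_algebraMap_eq fun r => (map_intCast (algebraMap (G i) A) r.down).symm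
  have : IsNoetherianRing (ULift.{u} ℤ) := isNoetherianRing_of_ringEquiv ℤ ULift.ringEquiv.symm
  have : Algebra.FiniteType (ULift.{u} ℤ) R₀ := Algebra.FiniteType.of_restrictScalars_finiteType ℤ _ _
  have : Algebra.FinitePresentation (ULift.{u} ℤ) R₀ := Algebra.FinitePresentation.of_finiteType.1 inferInstance
  let gZ : ∀ i j, i ≤ j → G i →ₐ[ULift.{u} ℤ] G j := fun i j h =>
    { g i j h with commutes' := fun r => map_intCast (g i j h) r.down }
  obtain ⟨i₀, ψ, hψ⟩ := Groth.Agent.FlatMor12.ColimTensor.exists_lift (R := ULift.{u} ℤ) (R₀ := ULift.{u} ℤ)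
    gZ hcolim R₀ { algebraMap R₀ A with commutes' := fun r => map_intCast (algebraMap R₀ A) r.down }
  obtain ⟨hdir, -, hid, hcomp, hcompat, -, -⟩ := id hcolim
  let _ : ∀ j : {j // i₀ ≤ j}, Algebra R₀ (G j.1) := fun j => ((g i₀ j.1 j.2).comp ψ.toRingHom).toAlgebra
  have : ∀ j : {j // i₀ ≤ j}, IsScalarTower R₀ (G j.1) A := fun j => .of_algebraMap_eq fun r => by
    show _ = algebraMap (G j.1) A (g i₀ j.1 j.2 (ψ r))
    exact ((RingHom.congr_fun (hcompat i₀ j.1 j.2) (ψ r)).trans (hψ r)).symm
  let g₀ : ∀ (i j : {j // i₀ ≤ j}), i ≤ j → G i.1 →ₐ[R₀] G j.1 := fun i j h =>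
    { g i.1 j.1 h with commutes' := fun r => RingHom.congr_fun (hcomp i₀ i.1 j.1 i.2 h) (ψ r) }
  have hc₀ : FlatCA.IsDirectedColimitRing (fun j : {j // i₀ ≤ j} => G j.1)
      (fun i j h => (g₀ i j h).toRingHom) A :=
    Groth.Agent.FlatMorPureDescend.isDirectedColimit_tail hcolim i₀
  -- flatness along the fibre in the colimit
  let eB : A ⊗[R₀] S₀ ≃ₐ[A] B := Algebra.IsPushout.equiv R₀ A S₀ B
  let eN : A ⊗[R₀] M₀ ≃ₗ[A] N :=
    (Algebra.IsPushout.cancelBaseChange R₀ A S₀ B M₀).symm.trans (hf₀.equiv.restrictScalars A)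
  have heN : ∀ a m, eN (a ⊗ₜ[R₀] m) = a • f₀ m := fun a m => by
    show hf₀.equiv ((Algebra.IsPushout.cancelBaseChange R₀ A S₀ B M₀).symm (a ⊗ₜ[R₀] m)) = _
    rw [Algebra.IsPushout.cancelBaseChange_symm_tmul, IsBaseChange.equiv_tmul, algebraMap_smul]
  have hsmul : ∀ t x, eN (t • x) = eB t • eN x := fun t x => by
    induction t using TensorProduct.induction_on with
    | zero => simp
    | add u v hu hv => simp only [add_smul, map_add, hu, hv]
    | tmul a c =>
      induction x using TensorProduct.induction_on with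
      | zero => simp
      | add u v hu hv => simp only [smul_add, map_add, hu, hv]
      | tmul a' m =>
        rw [Groth.Agent.EGA43.FlatDescent.bc_smul_tmul, heN, heN, map_smul, Algebra.IsPushout.equiv_tmul,
          ← algebraMap_smul B c (f₀ m), ← algebraMap_smul B (a * a'), ← algebraMap_smul B a', smul_smul,
          smul_smul, map_mul]
        congr 1
        ring
  obtain ⟨i₁, hi₁⟩ := Groth.Agent.FlatMorPureDescend.exists_stage_flat_fibre g₀ hc₀ (S := S₀) (M := M₀) p
    fun Q _ hQ => by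
      refine Groth.Agent.FlatMorPureDescend.flatAt_transfer (N := N) eB.symm.toAlgHom eN.symm (fun b n => ?_) Q
        (hflat _ ⟨?_⟩)
      · apply eN.injective
        rw [LinearEquiv.apply_symm_apply, hsmul]
        show _ = eB (eB.symm b) • eN (eN.symm n)
        rw [AlgEquiv.apply_symm_apply, LinearEquiv.apply_symm_apply]
      · rw [Ideal.under_def, Ideal.comap_comap]
        exact hQ.symm.trans (congrArg (Ideal.comap · Q) (eB.symm.toAlgHom.comp_algebraMap).symm)
  -- the second stage
  let R := G i₁.1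
  let S := R ⊗[R₀] S₀
  let N₁ := R ⊗[R₀] M₀
  have := Groth.Agent.FlatMorPureDescend.finitePresentation_bc R₀ S₀ M₀ R
  let p₀ := p.comap (algebraMap R A)
  have : p.LiesOver p₀ := ⟨rfl⟩
  have hflat₁ : ∀ (q : Ideal S) [q.IsPrime], q.LiesOver p₀ → FlatCA.FlatAt R q N₁ :=
    fun q _ hq => hi₁ q hq.over.symm
  let _ : Algebra R B := ((algebraMap A B).comp (algebraMap R A)).toAlgebra
  have : IsScalarTower R A B := .of_algebraMap_eq' rfl
  have : IsScalarTower R₀ R B := .of_algebraMap_eq fun r => by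
    show _ = algebraMap A B (algebraMap R A (algebraMap R₀ R r))
    rw [← IsScalarTower.algebraMap_apply R₀ R A, ← IsScalarTower.algebraMap_apply R₀ A B]
  let χ : S →ₐ[R] B := Algebra.TensorProduct.lift (Algebra.ofId R B)
    (IsScalarTower.toAlgHom R₀ S₀ B) fun _ _ => .all _ _
  let _ : Algebra S B := χ.toRingHom.toAlgebra
  have : IsScalarTower R S B := .of_algebraMap_eq fun r => (χ.commutes r).symm
  have : IsScalarTower S₀ S B := .of_algebraMap_eq fun c => by
    show _ = χ ((1 : R) ⊗ₜ[R₀] c)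
    rw [Algebra.TensorProduct.lift_tmul, map_one, one_mul]
    rfl
  have : IsScalarTower R₀ S B := IsScalarTower.of_algebraMap_eq (R := R₀) (S := S) (A := B) fun r => by
    rw [IsScalarTower.algebraMap_apply R₀ S₀ B, IsScalarTower.algebraMap_apply R₀ S₀ S,
      ← IsScalarTower.algebraMap_apply S₀ S B]
  have : Algebra.IsPushout R₀ R S₀ S := inferInstance
  have : Algebra.IsPushout R A S B :=
    (Algebra.IsPushout.comp_iff (R := R₀) (S := R) (R' := S₀) (S' := S) (T := A) (T' := B)).1 hpo₀
  let _ : Module S N := Module.compHom N χ.toRingHom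
  have : IsScalarTower S B N := .of_algebraMap_smul fun _ _ => rfl
  have : IsScalarTower S₀ S N := .of_algebraMap_smul fun c x => by
    show χ (algebraMap S₀ S c) • x = c • x
    rw [← algebraMap_smul B c x, IsScalarTower.algebraMap_apply S₀ S B]
    rfl
  let _ : Module S₀ N₁ := Groth.Agent.FlatMorPureDescend.bcModuleP R₀ S₀ M₀ R
  have : IsScalarTower S₀ S N₁ := Groth.Agent.FlatMorPureDescend.isScalarTower_bc R₀ S₀ M₀ R
  have hbc := Groth.Agent.FlatMorPureDescend.isBaseChange_bcMap R₀ S₀ M₀ R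
  let f₁ : N₁ →ₗ[S] N := hbc.lift f₀
  have hf₁ : IsBaseChange B f₁ := hbc.of_comp (by rw [IsBaseChange.lift_comp]; exact hf₀)
  let _ : ∀ j : {j // i₁.1 ≤ j}, Algebra R (G j.1) := fun j => (g i₁.1 j.1 j.2).toAlgebra
  have : ∀ j : {j // i₁.1 ≤ j}, IsScalarTower R (G j.1) A := fun j => .of_algebraMap_eq fun r =>
    (RingHom.congr_fun (hcompat i₁.1 j.1 j.2) r).symm
  let g₁ : ∀ (i j : {j // i₁.1 ≤ j}), i ≤ j → G i.1 →ₐ[R] G j.1 := fun i j h =>
    { g i.1 j.1 h with commutes' := fun r => RingHom.congr_fun (hcomp i₁.1 i.1 j.1 i.2 h) r }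
  obtain ⟨k, hk⟩ := Groth.Agent.FlatMorPureDescend.exists_stage_pure g₁
    (Groth.Agent.FlatMorPureDescend.isDirectedColimit_tail hcolim i₁.1) p₀ hflat₁ p f₁ hf₁ hpure
  -- the output
  let Bi := G k.1 ⊗[R] S
  let Ni := Bi ⊗[S] N₁
  let _ : Algebra (G k.1) B := ((algebraMap A B).comp (algebraMap (G k.1) A)).toAlgebra
  have : IsScalarTower (G k.1) A B := .of_algebraMap_eq' rfl
  have : IsScalarTower R (G k.1) B := .of_algebraMap_eq fun r => by
    show _ = algebraMap A B (algebraMap (G k.1) A (algebraMap R (G k.1) r))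
    rw [← IsScalarTower.algebraMap_apply R (G k.1) A, ← IsScalarTower.algebraMap_apply R A B]
  let χk : Bi →ₐ[G k.1] B := Algebra.TensorProduct.lift (Algebra.ofId (G k.1) B)
    (IsScalarTower.toAlgHom R S B) fun _ _ => .all _ _
  let _ : Algebra Bi B := χk.toRingHom.toAlgebra
  have : IsScalarTower (G k.1) Bi B := .of_algebraMap_eq fun r => (χk.commutes r).symm
  have : IsScalarTower S Bi B := .of_algebraMap_eq fun c => by
    show _ = χk ((1 : G k.1) ⊗ₜ[R] c)
    rw [Algebra.TensorProduct.lift_tmul, map_one, one_mul]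
    rfl
  have : IsScalarTower R Bi B := IsScalarTower.of_algebraMap_eq (R := R) (S := Bi) (A := B) fun r => by
    rw [IsScalarTower.algebraMap_apply R (G k.1) Bi, ← IsScalarTower.algebraMap_apply (G k.1) Bi B,
      ← IsScalarTower.algebraMap_apply R (G k.1) B]
  have hpok : Algebra.IsPushout (G k.1) A Bi B :=
    (Algebra.IsPushout.comp_iff (R := R) (S := G k.1) (R' := S) (S' := Bi) (T := A) (T' := B)).1 ‹_›
  let _ : Module Bi N := Module.compHom N χk.toRingHom
  have : IsScalarTower Bi B N := .of_algebraMap_smul fun _ _ => rfl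
  have : IsScalarTower S Bi N := .of_algebraMap_smul fun c x => by
    show χk (algebraMap S Bi c) • x = c • x
    rw [← algebraMap_smul B c x, IsScalarTower.algebraMap_apply S Bi B]
    rfl
  let fi : N₁ →ₗ[S] Ni := TensorProduct.mk S Bi N₁ 1
  have hfi : IsBaseChange Bi fi := TensorProduct.isBaseChange S N₁ Bi
  let fk : Ni →ₗ[Bi] N := hfi.lift f₁
  have hfk : IsBaseChange B fk := hfi.of_comp (by rw [IsBaseChange.lift_comp]; exact hf₁)
  have hp : (p.comap (algebraMap (G k.1) A)).comap (algebraMap R (G k.1)) = p₀ := by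
    rw [Ideal.comap_comap, ← IsScalarTower.algebraMap_eq]
  refine ⟨k.1, Bi, Ni, inferInstance, inferInstance, inferInstance, inferInstance, inferInstance,
    inferInstance, inferInstance, inferInstance, inferInstance, inferInstance, inferInstance,
    inferInstance, fk, inferInstance, hpok.symm, inferInstance, hfk, hk, ?_⟩
  exact Groth.Agent.FlatMorPureDescend.flatAt_stage (R := R) (N := N₁) p₀ _ hp hflat₁

end Groth.Agent.S1295
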