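import Groth.Statements.S12978
import Groth.Agent.Stk19b.Boot.Corollaries

set_option autoImplicit false
universe u
open CategoryTheory AlgebraicGeometry
open AlgSt

set_option backward.isDefEq.respectTransparency.types false
set_option backward.isDefEq.respectTransparency false

open CategoryTheory.Limits FibCat Groth.Agent.Stk19 Groth.Agent.Stk19b
namespace Groth.Agent.S12978


/-- A morphism f of algebraic stacks whose diagonal is a monomorphism (representable by algebraic spaces
and a monomorphism) is representable by algebraic spaces. Together with the forward direction (a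
morphism representable by algebraic spaces has monomorphic diagonal) this characterises
representability by the first diagonal. -/
theorem result
    (S : Scheme.{u}) (𝒳 : AlgSt.Cat S) (𝒴 : AlgSt.Cat S)
    (h𝒳 : AlgSt.IsAlgStack Scheme.fppfPrecoverage 𝒳)
    (h𝒴 : AlgSt.IsAlgStack Scheme.fppfPrecoverage 𝒴)
    (f : 𝒳 ⥤ᵇ 𝒴) :
    AlgSt.IsMono (FibCat.diag f) → AlgSt.RepByAlgSp1 f := by
  intro h
  have := (ff_of_isMono h𝒳.isStack.1 (fibGrpd_fp h𝒳.isStack.1 h𝒳.isStack.1 h𝒴.isStack.1 f f) h).1
  exact (faithful_iff_rep1 h𝒳 h𝒴 f).1 ((full_diag_iff f h𝒳.isStack.1 h𝒴.isStack.1).1 this)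

end Groth.Agent.S12978
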