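import Groth.Statements.S12979
import Groth.Agent.Stk19.AlgSt.SepRep
import Groth.Agent.Stk19b.UnivClosedQcSp

set_option autoImplicit false
universe u
open CategoryTheory AlgebraicGeometry
open AlgSt

set_option backward.isDefEq.respectTransparency.types false
set_option backward.isDefEq.respectTransparency false

open Groth.Agent
namespace Groth.Agent.S12979


/-- If the first and second diagonals of a morphism f of algebraic stacks are both universally closed
(as morphisms representable by algebraic spaces), then f is separated. (The published statement is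
an equivalence; this row states the implication from the two diagonals to separatedness.) -/
theorem result
    (S : Scheme.{u}) (𝒳 : AlgSt.Cat S) (𝒴 : AlgSt.Cat S)
    (h𝒳 : AlgSt.IsAlgStack Scheme.fppfPrecoverage 𝒳)
    (h𝒴 : AlgSt.IsAlgStack Scheme.fppfPrecoverage 𝒴)
    (f : 𝒳 ⥤ᵇ 𝒴) :
    AlgSt.RepByAlgSpWith AlgSp.IsUnivClosedMor (FibCat.diag f) →
      AlgSt.RepByAlgSpWith AlgSp.IsUnivClosedMor (FibCat.diag (FibCat.diag f)) → AlgSt.IsSeparatedMor f := by
  intro h₁ h₂
  have hlft := Stk19.diag_lft h𝒳 h𝒴 f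
  have hsep : AlgSt.RepByAlgSpWith AlgSp.IsSeparatedMor (FibCat.diag f) :=
    ((Stk19.with_sep_iff (Stk19.repByAlgSp1_of_with hlft)).out 0 3).2 h₂
  have h := Stk19.repByAlgSpWith_and (Stk19.respSrc_of_baseChange Stk19.pbStable_univClosed)
    (Stk19.repByAlgSpWith_and (Stk19.respSrc_of_baseChange Stk19.pbStable_diagWith) hlft hsep) h₁
  exact Stk19.repByAlgSpWith_mono (fun X U a hX ha =>
    ⟨ha.1.2, ⟨ha.1.1, Groth.Agent.Stk19b.UnivClosedQcSp.isQuasiCompactMor_of_univClosed hX
      (AlgSp.IsAlgSpace.yon_obj U) ha.2⟩, ha.2⟩) h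

end Groth.Agent.S12979
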