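import Groth.Statements.S1298
import Groth.Agent.FlatMorGeneric.Dense

set_option autoImplicit false
universe u
open FlatMor

namespace Groth.Agent.S1298

open AlgebraicGeometry CategoryTheory Limits in
/-- Let f be of finite type with irreducible target and let Z be a closed subset of the source whose
trace on the generic fibre is nowhere dense there. Then over some nonempty open of the target every
fibre of Z is nowhere dense in the corresponding fibre of f. -/
theorem result {X Y : Scheme.{u}} (f : X ⟶ Y) [IrreducibleSpace ↑Y] [LocallyOfFiniteType f] [QuasiCompact f]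
    (Z : Set ↑X) (hZ : IsClosed Z) (h : IsNowhereDense ((f.fiberι (genericPoint ↑Y)) ⁻¹' Z)) :
    ∃ V : Y.Opens, (V : Set ↑Y).Nonempty ∧ ∀ y ∈ V, IsNowhereDense ((f.fiberι y) ⁻¹' Z) := by
  have key : ∀ y, IsNowhereDense ((f.fiberι y) ⁻¹' Z) ↔
      f ⁻¹' {y} ⊆ closure (Zᶜ ∩ f ⁻¹' {y}) := fun y => by
    rw [(hZ.preimage (f.fiberι y).continuous).isNowhereDense_iff, interior_eq_empty_iff_dense_compl,
      dense_iff_closure_eq, (f.fiberι y).isEmbedding.isInducing.closure_eq_preimage_closure_image,
      Set.preimage_eq_univ_iff, ← Set.preimage_compl, Set.image_preimage_eq_inter_range, f.range_fiberι]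
  let W : X.Opens := ⟨Zᶜ, hZ.isOpen_compl⟩
  obtain ⟨V, hV, hV'⟩ := Groth.Agent.FlatMorGeneric.exists_opens_forall_fibre_subset_closure f W
    ((key _).1 h)
  exact ⟨V, hV, fun y hy => (key y).2 (hV' y hy)⟩

end Groth.Agent.S1298
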