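import Groth.Statements.S12992
import Groth.Agent.Stk19.AlgSt.LocQThm

set_option autoImplicit false
universe u
open CategoryTheory AlgebraicGeometry
open AlgSt

namespace Groth.Agent.S12992

/-- Let P be smooth local on the source-and-target and a : F → G a morphism of algebraic spaces. Then
the associated functor of categories over the base has P read on smooth scheme charts if and only if
a has P. -/
theorem result
    (S : Scheme.{u}) (P : MorphismProperty (AlgSp.Sp S)) (hP : AlgSp.IsSmoothLocalST P)
    (F G : AlgSp.Space S) (a : F ⟶ G) :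
    AlgSt.LocQ P (AlgSt.ofSpMap a.hom) ↔ P a.hom := by
  constructor
  · exact Stk19.prop_of_locQ_ofSpMap hP a
  · intro h
    exact Stk19.locQ_of_spaces hP (Stk19.setoid_ofSp F.obj).1 (U := F) (V := G) (x := BasedFunctor.id _) (y := BasedFunctor.id _)
      (Iso.refl (AlgSt.ofSpMap a.hom))
      (Stk19.repByAlgSpWith_of_isEquivOver (Stk19.isEquivOver_id _) fun T => Stk19.locP_atlas AlgSpLib.etLocal_smooth (AlgSp.repWith_id _ T))
      (Stk19.repByAlgSpWith_of_isEquivOver (Stk19.isEquivOver_id _) Stk19.surjective_id)
      (Stk19.repByAlgSpWith_of_isEquivOver (Stk19.isEquivOver_id _) fun T => Stk19.locP_atlas AlgSpLib.etLocal_smooth (AlgSp.repWith_id _ T)) h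

end Groth.Agent.S12992
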