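import Groth.Statements.S12996
import Groth.Agent.Stk19.AlgSt.LocQThm

set_option autoImplicit false
universe u
open CategoryTheory AlgebraicGeometry
open AlgSt

namespace Groth.Agent.S12996

/-- An immersion of algebraic stacks is locally of finite type. -/
theorem result
    (S : Scheme.{u}) (𝒳 : AlgSt.Cat S) (𝒴 : AlgSt.Cat S)
    (h𝒳 : AlgSt.IsAlgStack Scheme.fppfPrecoverage 𝒳)
    (h𝒴 : AlgSt.IsAlgStack Scheme.fppfPrecoverage 𝒴)
    (f : 𝒳 ⥤ᵇ 𝒴) :
    AlgSt.IsImm f → AlgSt.LocQ (AlgSp.LocP @LocallyOfFiniteType) f := by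
  exact fun h => Stk19.locQ_of_with Stk19.smST_lft h𝒳 h𝒴 (Stk19.repByAlgSpWith_mono
    (fun X _ _ hX ha => AlgSpLib.locP_of_repWith AlgSpLib.etLocal_lft hX (AlgSpLib.RepWith.mono
      (show @IsImmersion.{u} ≤ @LocallyOfFiniteType.{u} from fun _ _ g (hg : IsImmersion g) => inferInstance) ha)) h)

end Groth.Agent.S12996
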