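import Groth.Statements.S1300
import Groth.Agent.FlatMorAssOpen.Generic
import Groth.Agent.SDiv28.SchDenseAss
import Groth.Agent.Coherent.FinitePres

set_option autoImplicit false
universe u
open FlatMor

namespace Groth.Agent.S1300

open AlgebraicGeometry CategoryTheory Limits TensorProduct

theorem res_res {X : Scheme.{u}} {A B C : X.Opens} (h : A ≤ B) (h' : B ≤ C) (s : Γ(X, C)) :
    X.presheaf.map (homOfLE h).op (X.presheaf.map (homOfLE h').op s) = X.presheaf.map (homOfLE (h.trans h')).op s := by
  rw [← ConcreteCategory.comp_apply, ← Functor.map_comp]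
  rfl

theorem isSchemeTheoreticallyDominant_iff {X : Scheme.{u}} [IsLocallyNoetherian X] (U : X.Opens) :
    IsSchemeTheoreticallyDominant U.ι ↔ CInt.IsSchematicallyDense U := by
  constructor
  · intro h V
    have e : U.ι ''ᵁ U.ι ⁻¹ᵁ V = V ⊓ U := by
      rw [Scheme.Hom.image_preimage_eq_opensRange_inf, Scheme.Opens.opensRange_ι, inf_comm]
    intro a b hab
    refine U.ι.app_injective V ?_
    rw [Scheme.Opens.ι_app]
    exact ((res_res (le_of_eq e) inf_le_left a).symm.trans (congrArg _ hab)).trans
      (res_res (le_of_eq e) inf_le_left b)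
  · intro h
    refine ⟨Scheme.IdealSheafData.ext (funext fun V => ?_)⟩
    rw [Scheme.Hom.ker_apply, Scheme.IdealSheafData.ideal_bot, Pi.bot_apply, eq_bot_iff]
    intro s hs
    rw [RingHom.mem_ker, Scheme.Opens.ι_app] at hs
    refine Ideal.mem_bot.2 (h V.1 ?_)
    have e : V.1 ⊓ U ≤ U.ι ''ᵁ U.ι ⁻¹ᵁ V.1 := le_of_eq (by
      rw [Scheme.Hom.image_preimage_eq_opensRange_inf, Scheme.Opens.opensRange_ι, inf_comm])
    refine Eq.trans ?_ (map_zero _).symm
    exact ((res_res e (U.ι.image_preimage_le V.1) s).symm.trans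
      (congrArg (X.presheaf.map (homOfLE e).op) hs)).trans (map_zero _)

open Groth.Agent.EGA43.FibDepth in
theorem dominant_iff {X Y : Scheme.{u}} (f : X ⟶ Y) [LocallyOfFiniteType f] (U : X.Opens) (y : Y) :
    IsSchemeTheoreticallyDominant (f.fiberι y ⁻¹ᵁ U).ι ↔
      ∀ x ∈ MoreMor.relAss f (Coh.structureModule X), f x = y → x ∈ U := by
  have := Groth.Agent.FlatMor12.RelAssBC.isLocallyNoetherian_fiber f y
  refine (((isSchemeTheoreticallyDominant_iff _).trans (Groth.Agent.SDiv28.isSchematicallyDense_iff _)).trans ?_).trans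
    (Groth.Agent.FlatMorAssOpen.forall_relAss_iff f (Coh.structureModule X) y (U : Set X)).symm
  refine forall_congr' fun z => imp_congr ?_ Iff.rfl
  let _ : Algebra (X.presheaf.stalk (f.fiberι y z)) ((f.fiber y).presheaf.stalk z) :=
    ((f.fiberι y).stalkMap z).hom.toAlgebra
  let e1 : ((Scheme.Modules.pullback (f.fiberι y)).obj (Coh.structureModule X)).presheaf.stalk z
      ≃ₗ[(f.fiber y).presheaf.stalk z] (f.fiber y).presheaf.stalk z ⊗[X.presheaf.stalk (f.fiberι y z)]
        (Coh.structureModule X).presheaf.stalk (f.fiberι y z) :=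
    ((ModStalk.pullbackStalkIso (f.fiberι y) z).app (Coh.structureModule X)).toLinearEquiv
  exact (LinearEquiv.isAssociatedPrime_iff (tensorUnitEquiv e1 (unitStalkEquiv (f.fiberι y z)))).symm

end Groth.Agent.S1300

namespace Groth.Agent.S1300

open AlgebraicGeometry CategoryTheory Limits in
/-- Let f be of finite type with irreducible target and let U be an open of the source whose trace on
the generic fibre is scheme theoretically dense in it (the inclusion has trivial kernel ideal
sheaf). Then over some nonempty open of the target the trace of U on every fibre is scheme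
theoretically dense in that fibre. -/
theorem result {X Y : Scheme.{u}} (f : X ⟶ Y) [IrreducibleSpace ↑Y] [LocallyOfFiniteType f] [QuasiCompact f]
    (U : X.Opens) (h : IsSchemeTheoreticallyDominant (f.fiberι (genericPoint ↑Y) ⁻¹ᵁ U).ι) :
    ∃ V : Y.Opens, (V : Set ↑Y).Nonempty ∧ ∀ y ∈ V, IsSchemeTheoreticallyDominant (f.fiberι y ⁻¹ᵁ U).ι := by
  have hq : Coh.IsQCoh (Coh.structureModule X) := Groth.Agent.Coherent.isQCoh_structureModule
  have hft : CohB1.IsFT (Coh.structureModule X) := by
    have := Groth.Agent.EGA43.FibDepth.isFP_structureModule X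
    haveI : SheafOfModules.IsFinitePresentation (R := X.ringCatSheaf) (Coh.structureModule X) := this
    exact (inferInstance : SheafOfModules.IsFiniteType (R := X.ringCatSheaf) (Coh.structureModule X))
  obtain ⟨V, hV, hiff⟩ := Groth.Agent.FlatMorAssOpen.exists_open_iff f (Coh.structureModule X) hft U
  exact ⟨V, hV, fun y hy => (dominant_iff f U y).2 ((hiff y hy).2 ((dominant_iff f U _).1 h))⟩

end Groth.Agent.S1300
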