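import Groth.Statements.S13000
import Groth.Agent.Stk19.AlgSt.LocQThm

set_option autoImplicit false
universe u
open CategoryTheory AlgebraicGeometry
open AlgSt

namespace Groth.Agent.S13000

/-- Let f : 𝒳 → 𝒴 be a morphism of algebraic stacks and W → 𝒴 a surjective, flat, locally finitely
presented morphism whose source is an algebraic space. Whenever the projection to W from W ×_𝒴 𝒳 is
locally of finite type, so is f. -/
theorem result
    (S : Scheme.{u}) (𝒳 : AlgSt.Cat S) (𝒴 : AlgSt.Cat S)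
    (h𝒳 : AlgSt.IsAlgStack Scheme.fppfPrecoverage 𝒳)
    (h𝒴 : AlgSt.IsAlgStack Scheme.fppfPrecoverage 𝒴)
    (f : 𝒳 ⥤ᵇ 𝒴)
    (W : AlgSp.Space S) (w : AlgSt.ofSp W.obj ⥤ᵇ 𝒴)
    (hw₁ : AlgSt.RepByAlgSpWith (AlgSp.LocP @Flat) w)
    (hw₂ : AlgSt.RepByAlgSpWith (AlgSp.LocP @LocallyOfFinitePresentation) w)
    (hw₃ : AlgSt.RepByAlgSpWith AlgSp.IsSurjectiveMor w) :
    AlgSt.LocQ (AlgSp.LocP @LocallyOfFiniteType) (FibCat.fpFst w f) → AlgSt.LocQ (AlgSp.LocP @LocallyOfFiniteType) f := by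
  have hW : AlgSt.IsAlgStack Scheme.fppfPrecoverage (AlgSt.ofSp W.obj) := (Stk19.isDM_ofSp W).1
  refine Stk19.locQ_of_fpFst Stk19.smST_lft h𝒳 h𝒴 hW (Stk19.isSurjective_of_with h𝒴.isStack.1 hw₃) fun G V q y e hy he i hq T k h => ?_
  have : Flat q.left := AlgSp.locP_yon_map (Stk19.good_of_with Stk19.smST_flat hw₁ y G e q he i)
  have : LocallyOfFinitePresentation q.left := AlgSp.locP_yon_map (Stk19.good_of_with Stk19.smST_lfp hw₂ y G e q he i)
  exact Stk19.descend_yon Stk19.smST_lft (Stk19.schDescent_locP AlgSpLib.etLocal_lft) q k h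

end Groth.Agent.S13000
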