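import Groth.Statements.S13001
import Groth.Agent.Stk19.AlgSt.LocQThm

set_option autoImplicit false
universe u
open CategoryTheory AlgebraicGeometry
open AlgSt

namespace Groth.Agent.S13001

/-- Let 𝒳 → 𝒴 → 𝒵 be morphisms of algebraic stacks with 𝒳 → 𝒵 locally of finite type and with 𝒳 → 𝒴
flat, surjective, locally of finite presentation and representable by algebraic spaces. In this
situation 𝒴 → 𝒵 is also locally of finite type. -/
theorem result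
    (S : Scheme.{u}) (𝒳 : AlgSt.Cat S) (𝒴 : AlgSt.Cat S) (𝒵 : AlgSt.Cat S)
    (h𝒳 : AlgSt.IsAlgStack Scheme.fppfPrecoverage 𝒳)
    (h𝒴 : AlgSt.IsAlgStack Scheme.fppfPrecoverage 𝒴)
    (h𝒵 : AlgSt.IsAlgStack Scheme.fppfPrecoverage 𝒵)
    (f : 𝒳 ⥤ᵇ 𝒴) (g : 𝒴 ⥤ᵇ 𝒵)
    (hf₁ : AlgSt.RepByAlgSpWith (AlgSp.LocP @Flat) f)
    (hf₂ : AlgSt.RepByAlgSpWith (AlgSp.LocP @LocallyOfFinitePresentation) f)
    (hf₃ : AlgSt.RepByAlgSpWith AlgSp.IsSurjectiveMor f) :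
    AlgSt.LocQ (AlgSp.LocP @LocallyOfFiniteType) (BasedFunctor.comp f g) → AlgSt.LocQ (AlgSp.LocP @LocallyOfFiniteType) g := by
  refine Stk19.locQ_of_precomp Stk19.smST_lft h𝒳 h𝒴 h𝒵 (Stk19.isSurjective_of_with h𝒴.isStack.1 hf₃) fun T W V t k x m hx hm j ht h => ?_
  have : Flat t.left := AlgSp.locP_yon_map (Stk19.good_of_with Stk19.smST_flat hf₁ x T m t hm j)
  have : LocallyOfFinitePresentation t.left := AlgSp.locP_yon_map (Stk19.good_of_with Stk19.smST_lfp hf₂ x T m t hm j)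
  exact (Stk19.locP_yon_iff AlgSpLib.etLocal_lft k).2 (AlgSpLib.lft_of_comp_fppf t.left k.left (AlgSp.locP_yon_map h))

end Groth.Agent.S13001
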