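import Groth.Statements.S13002
import Groth.Agent.Stk19.AlgSt.LocQThm
import Groth.Agent.Stk19.AlgSt.SmST

set_option autoImplicit false
universe u
open CategoryTheory AlgebraicGeometry
open AlgSt

namespace Groth.Agent.S13002

/-- If f : 𝒳 → 𝒴 and g : 𝒴 → 𝒵 are morphisms of algebraic stacks whose composite is locally of finite
type, then f itself is locally of finite type. -/
theorem result
    (S : Scheme.{u}) (𝒳 : AlgSt.Cat S) (𝒴 : AlgSt.Cat S) (𝒵 : AlgSt.Cat S)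
    (h𝒳 : AlgSt.IsAlgStack Scheme.fppfPrecoverage 𝒳)
    (h𝒴 : AlgSt.IsAlgStack Scheme.fppfPrecoverage 𝒴)
    (h𝒵 : AlgSt.IsAlgStack Scheme.fppfPrecoverage 𝒵)
    (f : 𝒳 ⥤ᵇ 𝒴) (g : 𝒴 ⥤ᵇ 𝒵) :
    AlgSt.LocQ (AlgSp.LocP @LocallyOfFiniteType) (BasedFunctor.comp f g) → AlgSt.LocQ (AlgSp.LocP @LocallyOfFiniteType) f := by
  intro h
  obtain ⟨V, z, hz, hzs⟩ := h𝒵.atlas
  obtain ⟨W₁, e₁, k₁, he₁, hes₁, ⟨i₁⟩, hx₁, hxs₁, -⟩ := Stk19.exists_charts_over h𝒴 h𝒵 g z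
  refine Stk19.locQ_of_good h𝒳 h𝒴 (hx₁ hz) (hxs₁ hzs) fun T m t hm j => ?_
  obtain ⟨e', ⟨i'⟩, he', -⟩ := Stk19.exists_composite_chart h𝒳 h𝒴 h𝒵 f g i₁ j
  have : LocallyOfFiniteType (t.left ≫ k₁.left) :=
    AlgSp.locP_yon_map (Stk19.good_of_locQ Stk19.smST_lft h𝒳 h𝒵 h hz T e' _ (he' he₁ hm) i')
  exact (Stk19.locP_yon_iff AlgSpLib.etLocal_lft t).2 (locallyOfFiniteType_of_comp t.left k₁.left)

end Groth.Agent.S13002
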