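import Groth.Statements.S13003
import Groth.Agent.Stk19.AlgSt.LocQThm

set_option autoImplicit false
universe u
open CategoryTheory AlgebraicGeometry
open AlgSt

namespace Groth.Agent.S13003

/-- Let f : 𝒳 → 𝒴 be a morphism of algebraic stacks and 𝒵 → 𝒴 a morphism of algebraic stacks that is
both flat and surjective. Whenever the projection 𝒵 ×_𝒴 𝒳 → 𝒵 is flat, f is flat too. -/
theorem result
    (S : Scheme.{u}) (𝒳 : AlgSt.Cat S) (𝒴 : AlgSt.Cat S)
    (h𝒳 : AlgSt.IsAlgStack Scheme.fppfPrecoverage 𝒳)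
    (h𝒴 : AlgSt.IsAlgStack Scheme.fppfPrecoverage 𝒴)
    (f : 𝒳 ⥤ᵇ 𝒴)
    (𝒵 : AlgSt.Cat S) (h𝒵 : AlgSt.IsAlgStack Scheme.fppfPrecoverage 𝒵) (z : 𝒵 ⥤ᵇ 𝒴)
    (hz₁ : AlgSt.LocQ (AlgSp.LocP @Flat) z) (hz₂ : AlgSt.IsSurjective z) :
    AlgSt.LocQ (AlgSp.LocP @Flat) (FibCat.fpFst z f) → AlgSt.LocQ (AlgSp.LocP @Flat) f := by
  refine Stk19.locQ_of_fpFst Stk19.smST_flat h𝒳 h𝒴 h𝒵 hz₂ fun G V q y e hy he i hq W k h => ?_
  have : Flat q.left := AlgSp.locP_yon_map (Stk19.good_of_locQ Stk19.smST_flat h𝒵 h𝒴 hz₁ hy G e q he i)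
  have sq := (IsPullback.of_hasPullback k q).map (CategoryTheory.Over.forget S)
  have : Flat (Limits.pullback.fst k q).left := MorphismProperty.of_isPullback sq.flip this
  have : Surjective (Limits.pullback.fst k q).left := MorphismProperty.of_isPullback sq.flip hq
  have : Flat (Limits.pullback.snd k q).left := AlgSp.locP_yon_map h
  have : Flat ((Limits.pullback.fst k q).left ≫ k.left) := by
    rw [← Over.comp_left, Limits.pullback.condition, Over.comp_left]
    infer_instance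
  exact (Stk19.locP_yon_iff AlgSpLib.etLocal_flat k).2 (FlatLocal.flat_of_comp (Limits.pullback.fst k q).left k.left)

end Groth.Agent.S13003
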