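import Groth.Statements.S13004
import Groth.Agent.Stk19.AlgSt.LocQThm

set_option autoImplicit false
universe u
open CategoryTheory AlgebraicGeometry
open AlgSt

namespace Groth.Agent.S13004

/-- Let 𝒳 → 𝒴 → 𝒵 be morphisms of algebraic stacks with 𝒳 → 𝒵 flat and 𝒳 → 𝒴 surjective and flat. Then 𝒴
→ 𝒵 is flat. -/
theorem result
    (S : Scheme.{u}) (𝒳 : AlgSt.Cat S) (𝒴 : AlgSt.Cat S) (𝒵 : AlgSt.Cat S)
    (h𝒳 : AlgSt.IsAlgStack Scheme.fppfPrecoverage 𝒳)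
    (h𝒴 : AlgSt.IsAlgStack Scheme.fppfPrecoverage 𝒴)
    (h𝒵 : AlgSt.IsAlgStack Scheme.fppfPrecoverage 𝒵)
    (f : 𝒳 ⥤ᵇ 𝒴) (g : 𝒴 ⥤ᵇ 𝒵)
    (hf₁ : AlgSt.LocQ (AlgSp.LocP @Flat) f) (hf₂ : AlgSt.IsSurjective f) :
    AlgSt.LocQ (AlgSp.LocP @Flat) (BasedFunctor.comp f g) → AlgSt.LocQ (AlgSp.LocP @Flat) g := by
  refine Stk19.locQ_of_precomp Stk19.smST_flat h𝒳 h𝒴 h𝒵 hf₂ fun T W V t k x m hx hm j ht h => ?_
  have : Flat t.left := AlgSp.locP_yon_map (Stk19.good_of_locQ Stk19.smST_flat h𝒳 h𝒴 hf₁ hx T m t hm j)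
  have : Flat (t.left ≫ k.left) := AlgSp.locP_yon_map h
  exact (Stk19.locP_yon_iff AlgSpLib.etLocal_flat k).2 (FlatLocal.flat_of_comp t.left k.left)

end Groth.Agent.S13004
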