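import Groth.Statements.S13006
import Groth.Agent.Stk19.AlgSt.LocQThm

set_option autoImplicit false
universe u
open CategoryTheory AlgebraicGeometry
open AlgSt

namespace Groth.Agent.S13006

/-- If a morphism f of algebraic stacks is locally of finite type then its diagonal is locally of finite
presentation. (The second assertion adds the quasi-compactness clauses on both sides.) -/
theorem result
    (S : Scheme.{u}) (𝒳 : AlgSt.Cat S) (𝒴 : AlgSt.Cat S)
    (h𝒳 : AlgSt.IsAlgStack Scheme.fppfPrecoverage 𝒳)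
    (h𝒴 : AlgSt.IsAlgStack Scheme.fppfPrecoverage 𝒴)
    (f : 𝒳 ⥤ᵇ 𝒴) :
    AlgSt.LocQ (AlgSp.LocP @LocallyOfFiniteType) f → AlgSt.LocQ (AlgSp.LocP @LocallyOfFinitePresentation) (FibCat.diag f) := by
  intro hf
  have hfp := Stk19.isAlgStack_fp h𝒴.isStack h𝒴.diag h𝒳 h𝒳 f f
  have hg := Stk19.locQ_fpFst Stk19.smST_lft (fun G W V k g hk => AlgSpLib.locP_of_isPullback AlgSpLib.etLocal_lft
    (AlgSp.IsAlgSpace.yon_obj W) (AlgSp.IsAlgSpace.yon_obj V) (AlgSp.IsAlgSpace.yon_obj _)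
    ((IsPullback.of_hasPullback k g).map (AlgSp.yon S)) hk) h𝒳 h𝒴 h𝒳 f hf
  refine Stk19.locQ_of_comp Stk19.smST_lfp h𝒳 hfp h𝒳 Stk19.smST_lft hg (fun T W V t k hk htk => ?_) ?_
  · have : LocallyOfFiniteType k.left := AlgSp.locP_yon_map hk
    have : LocallyOfFinitePresentation (t.left ≫ k.left) := AlgSp.locP_yon_map htk
    exact (Stk19.locP_yon_iff AlgSpLib.etLocal_lfp t).2 (EGA43.Limit.locallyOfFinitePresentation_of_comp t.left k.left)
  · have e : BasedFunctor.comp (FibCat.diag f) (FibCat.fpFst f f) = BasedFunctor.id 𝒳 := rfl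
    rw [e]
    exact Stk19.locQ_of_with Stk19.smST_lfp h𝒳 h𝒳
      (Stk19.repByAlgSpWith_of_isEquivOver (Stk19.isEquivOver_id _) fun T => Stk19.locP_atlas AlgSpLib.etLocal_lfp (AlgSp.repWith_id _ T))

end Groth.Agent.S13006
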