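import Groth.Statements.S13018
import Groth.Agent.Stk19.AlgSt.SmLoc
import Groth.Agent.S13017
import Groth.Agent.S12955
import Groth.Agent.S12945

set_option autoImplicit false
universe u
open CategoryTheory AlgebraicGeometry
open AlgSt

namespace Groth.Agent.S13018

/-- If j : 𝒳 → 𝒴 is an immersion of algebraic stacks and 𝒴 is Noetherian (quasi-compact, quasi-separated
and locally Noetherian) then so is 𝒳. (The published statement uses quasi-separatedness over the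
integers; this row uses quasi-separatedness over the base scheme in hypothesis and conclusion.) -/
theorem result
    (S : Scheme.{u}) (𝒳 : AlgSt.Cat S) (𝒴 : AlgSt.Cat S)
    (h𝒳 : AlgSt.IsAlgStack Scheme.fppfPrecoverage 𝒳)
    (h𝒴 : AlgSt.IsAlgStack Scheme.fppfPrecoverage 𝒴)
    (j : 𝒳 ⥤ᵇ 𝒴) (hj : AlgSt.IsImm j) :
    AlgSt.IsQuasiCompact 𝒴 → AlgSt.IsQuasiSeparatedOver 𝒴 → AlgSt.SmoothLocally (fun T ↦ IsLocallyNoetherian T) 𝒴 →
      AlgSt.IsQuasiCompact 𝒳 ∧ AlgSt.IsQuasiSeparatedOver 𝒳 ∧ AlgSt.SmoothLocally (fun T ↦ IsLocallyNoetherian T) 𝒳 := by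
  intro hq hs hn
  obtain ⟨h₁, h₂⟩ := S13017.result S 𝒳 𝒴 h𝒳 h𝒴 j hj hn
  refine ⟨Stk19.isQuasiCompact_of_surjective (Stk19.isAlgStack_fp h𝒴.isStack h𝒴.diag h𝒴 h𝒳 (BasedFunctor.id _) j) h𝒳
    (FibCat.fpSnd (BasedFunctor.id _) j) ?_ (h₂ 𝒴 h𝒴 hq (BasedFunctor.id _)), ?_, h₁⟩
  · exact Stk19.isSurjective_fpSnd h𝒴.isStack.1 h𝒴.isStack.1 h𝒳.isStack.1 _ j fun p => ⟨p, Stk19.points_map_id p⟩
  · have e : BasedFunctor.comp j (FibCat.toSelf 𝒴) = FibCat.toSelf 𝒳 := Stk19.based_ext j.w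
    have hjq : AlgSt.IsQuasiSeparatedMor j := by
      refine (S12945.result S 𝒳 𝒴 h𝒳 h𝒴 j (Stk19.repByAlgSp1_of_with hj)).2
        (Stk19.repByAlgSpWith_mono (fun X U a hX ha => ?_) hj)
      have : Mono a := AlgSpLib.mono_of_repWith (P := @IsImmersion)
        (fun _ _ g (hg : IsImmersion g) => inferInstanceAs (Mono g)) ha
      exact AlgSpLib.repWith_of_isIso @QuasiCompact _
    have := S12955.result S 𝒳 𝒴 (FibCat.selfOver (Over S)) h𝒳 h𝒴 Stk19.isAlgStack_selfOver j (FibCat.toSelf 𝒴) hjq hs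
    rw [e] at this
    exact this

end Groth.Agent.S13018
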