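import Groth.Statements.S13022
import Groth.Agent.Stk19.AlgSt.FlatCover

set_option autoImplicit false
universe u
open CategoryTheory AlgebraicGeometry
open AlgSt

namespace Groth.Agent.S13022

/-- Let f_j : 𝒳_j → 𝒳 be a family of flat, locally finitely presented morphisms of algebraic stacks
which is jointly surjective on points. Then, given any scheme U and any object x of 𝒳 lying over U,
one can find an fppf covering {U_i → U}, indices j(i) and objects x_i of 𝒳_{j(i)} over U_i with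
f_{j(i)}(x_i) ≅ x|_{U_i}. -/
theorem result
    (S : Scheme.{u}) (𝒳 : AlgSt.Cat S)
    (h𝒳 : AlgSt.IsAlgStack Scheme.fppfPrecoverage 𝒳)
    (J : Type u) (𝒳' : J → AlgSt.Cat S) (h𝒳' : ∀ j, AlgSt.IsAlgStack Scheme.fppfPrecoverage (𝒳' j))
    (f : ∀ j, 𝒳' j ⥤ᵇ 𝒳)
    (hf₁ : ∀ j, AlgSt.LocQ (AlgSp.LocP @Flat) (f j)) (hf₂ : ∀ j, AlgSt.LocQ (AlgSp.LocP @LocallyOfFinitePresentation) (f j))
    (hf₃ : ∀ p : AlgSt.Points 𝒳, ∃ j, p ∈ Set.range (AlgSt.Points.map (f j)))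
    (U : Over S) (x : FibCat.overCat U ⥤ᵇ 𝒳) :
    ∃ (ι : Type u) (V : ι → Over S) (g : ∀ i, V i ⟶ U) (c : ι → J),
      (Presieve.ofArrows (fun i ↦ (V i).left) fun i ↦ (g i).left) ∈ Scheme.fppfPrecoverage U.left ∧
      ∀ i, ∃ x' : FibCat.overCat (V i) ⥤ᵇ 𝒳' (c i),
        Nonempty (BasedFunctor.comp x' (f (c i)) ≅ BasedFunctor.comp (AlgSt.overMap (g i)) x) := by
  choose W w hw hw₁ hw₂ using fun j => Stk19.exists_chart_flat_lfp (h𝒳' j) (hf₁ j) (hf₂ j)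
  choose T p q hα hq _ hsurj using fun j =>
    Stk19.exists_chart_fp h𝒳.isStack.1 x (Stk19.repByAlgSp1_of_with (hw₁ j))
  refine ⟨J, T, q, id, Scheme.ofArrows_mem_precoverage_iff _ |>.2 ⟨fun t => ?_, fun j => ?_⟩, fun j => ?_⟩
  · obtain ⟨j, y, hy⟩ := hf₃ (AlgSt.Points.ofChart x t)
    obtain ⟨s, rfl⟩ := hw j y
    obtain ⟨r, -, hr⟩ := hsurj j s t ((Stk19.map_ofChart (w j) (f j) s).symm.trans hy)
    exact ⟨j, r, hr⟩
  · exact ⟨hq j AlgSpLib.etLocal_flat (hw₁ j), hq j AlgSpLib.etLocal_lfp (hw₂ j)⟩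
  · obtain ⟨α⟩ := hα j
    exact ⟨BasedFunctor.comp (AlgSt.overMap (p j)) (w j), ⟨α⟩⟩

end Groth.Agent.S13022
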