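import Groth.Statements.S13041
import Mathlib

set_option linter.all false

set_option autoImplicit false
universe u
open MaxMod

open TensorProduct

namespace Groth.Agent.S13041

/-- Let R be a domain with fraction field K, let A → B be a homomorphism of commutative R-algebras that
are flat over R, with B module-finite over A, such that the induced map K ⊗_R A → K ⊗_R B is
bijective. If the A-linear map Hom_A(B, A) → A evaluating at 1 is surjective, then A → B is
bijective. (The published statement concerns a finite morphism of flat schemes over a discrete
valuation ring, with locally free relative dualizing sheaves, that is an isomorphism over a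
schematically dense open and whose trace map on dualizing sheaves is surjective; this row is the
statement about rings to which the printed proof reduces it and which that proof establishes, and
the argument uses only that R is a domain.) -/
theorem result
    (R K A B : Type u) [CommRing R] [IsDomain R] [Field K] [Algebra R K] [IsFractionRing R K]
    [CommRing A] [CommRing B] [Algebra R A] [Algebra R B] [Algebra A B] [IsScalarTower R A B]
    [Module.Flat R A] [Module.Flat R B] [Module.Finite A B]
    (hK : Function.Bijective
      (Algebra.TensorProduct.map (AlgHom.id R K) (IsScalarTower.toAlgHom R A B)))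
    (htr : Function.Surjective (fun u : B →ₗ[A] A => u 1)) :
    Function.Bijective (algebraMap A B) := by
  obtain ⟨u, hu⟩ := htr 1
  simp only at hu
  have hl : ∀ a, u (algebraMap A B a) = a := fun a => by
    rw [Algebra.algebraMap_eq_smul_one, map_smul, hu, smul_eq_mul, mul_one]
  refine ⟨Function.LeftInverse.injective hl, fun b => ⟨u b, ?_⟩⟩
  have hinj : Function.Injective (fun z : B => (1 : K) ⊗ₜ[R] z) := by
    have h1 := Module.Flat.rTensor_preserves_injective_linearMap (M := B) (Algebra.linearMap R K)
      (IsFractionRing.injective R K)
    intro x y hxy
    have h2 : (Algebra.linearMap R K).rTensor B ((1 : R) ⊗ₜ x) = (Algebra.linearMap R K).rTensor B ((1 : R) ⊗ₜ y) := by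
      simpa using hxy
    simpa using congrArg (TensorProduct.lid R B) (h1 h2)
  refine hinj ?_
  obtain ⟨w, hw⟩ := hK.2 ((1 : K) ⊗ₜ[R] b)
  have hret : ∀ v, LinearMap.lTensor K (u.restrictScalars R)
      (Algebra.TensorProduct.map (AlgHom.id R K) (IsScalarTower.toAlgHom R A B) v) = v := by
    intro v
    induction v with
    | zero => simp
    | add c d hc hd => rw [map_add, map_add, hc, hd]
    | tmul c a => simp [hl]
  have : w = (1 : K) ⊗ₜ[R] u b := by
    rw [← hret w, hw]
    simp
  show (1 : K) ⊗ₜ[R] algebraMap A B (u b) = (1 : K) ⊗ₜ[R] b
  refine Eq.trans ?_ hw
  rw [this]
  simp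

end Groth.Agent.S13041
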