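import Groth.Statements.S13042
import Mathlib
import Groth.Prelude

set_option linter.all false

set_option autoImplicit false
universe u
open MaxMod

open scoped TensorProduct
open MvPolynomial

namespace Groth.Agent.S13042

theorem one_add_mul_isUnit {R Q : Type*} [CommRing R] [IsLocalRing R] [CommRing Q] [Algebra R Q] (p : ℕ) [Fact p.Prime] [CharP R p]
    (lam f : R) (hlam : lam ∈ IsLocalRing.maximalIdeal R) (W : Q) (hW : W ^ p = algebraMap R Q f) :
    IsUnit (1 + algebraMap R Q lam * W) := by
  obtain ⟨c, hc⟩ := exists_add_pow_prime_eq (Fact.out : p.Prime) 1 (algebraMap R Q lam * W)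
  have hp0 : (p : Q) = 0 := by rw [← map_natCast (algebraMap R Q), CharP.cast_eq_zero, map_zero]
  have : IsUnit ((1 + algebraMap R Q lam * W) ^ p) := by
    rw [hc, hp0, one_pow, mul_pow, hW, ← map_pow, ← map_mul, zero_mul, zero_mul, zero_mul, add_zero, ← map_one (algebraMap R Q), ← map_add]
    refine IsUnit.map _ (IsLocalRing.notMem_maximalIdeal.1 fun h => ?_)
    have hmem : lam ^ p * f ∈ IsLocalRing.maximalIdeal R := Ideal.mul_mem_right _ _ (Ideal.pow_mem_of_mem _ hlam p (Fact.out : p.Prime).pos)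
    exact (IsLocalRing.maximalIdeal.isMaximal R).ne_top ((Ideal.eq_top_iff_one _).2 (by simpa using Ideal.sub_mem _ h hmem))
  exact (isUnit_pow_iff (Fact.out : p.Prime).ne_zero).1 this

theorem char_add_pow {R Q : Type*} [CommRing R] [CommRing Q] [Algebra R Q] (p : ℕ) [Fact p.Prime] [CharP R p] (a b : Q) :
    (a + b) ^ p = a ^ p + b ^ p := by
  obtain ⟨c, hc⟩ := exists_add_pow_prime_eq (Fact.out : p.Prime) a b
  have hp0 : (p : Q) = 0 := by rw [← map_natCast (algebraMap R Q), CharP.cast_eq_zero, map_zero]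
  simp [hc, hp0]

open MvPolynomial in
/-- Let p be a prime, R a local ring of characteristic p, λ an element of the maximal ideal of R and f ∈
R. Then there is an isomorphism of R-algebras R[W₁, W₂]/(W₁^p − f, W₂^p − f) ≅ R[x, W]/(x^p, W^p −
f) with W₁ ↦ x + W + λ·x·W and W₂ ↦ W; that is, Spec R[W]/(W^p − f) with the action w ↦ x + w + λxw
is a torsor under the group scheme Spec R[x]/(x^p) with law x₁ ∘ x₂ = x₁ + x₂ + λx₁x₂. (The
published statement is over a complete discrete valuation ring of characteristic p with λ a nonzero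
nonunit, and also asserts that for f in the fraction field with negative valuation v(f) > −p·v(λ)
the torsor W^p = f extends to a torsor over R, using the coordinate 1/W; that second case fails: for
p = 2, λ = π a uniformizer and f = 1/π, every model is Spec R[π^a t] with t² = π, and none of these
is a torsor since the coaction sends t to t − π(1 + t)x. Only the case f ∈ R is stated, and the
argument there uses only that R is local of characteristic p.) -/
theorem result
    (p : ℕ) [Fact p.Prime] (R : Type u) [CommRing R] [IsLocalRing R] [CharP R p]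
    (lam f : R) (hlam : lam ∈ IsLocalRing.maximalIdeal R) :
    ∃ e : (MvPolynomial (Fin 2) R ⧸ Ideal.span {(X 0 ^ p - C f : MvPolynomial (Fin 2) R), X 1 ^ p - C f}) ≃ₐ[R]
        (MvPolynomial (Fin 2) R ⧸ Ideal.span {(X 0 ^ p : MvPolynomial (Fin 2) R), X 1 ^ p - C f}),
      e (Ideal.Quotient.mk _ (X 0)) = Ideal.Quotient.mk _ (X 0 + X 1 + C lam * X 0 * X 1) ∧
      e (Ideal.Quotient.mk _ (X 1)) = Ideal.Quotient.mk _ (X 1) := by
  set I₁ : Ideal (MvPolynomial (Fin 2) R) := Ideal.span {X 0 ^ p - C f, X 1 ^ p - C f}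
  set I₂ : Ideal (MvPolynomial (Fin 2) R) := Ideal.span {X 0 ^ p, X 1 ^ p - C f}
  set a : MvPolynomial (Fin 2) R ⧸ I₁ := Ideal.Quotient.mk I₁ (X 0)
  set b : MvPolynomial (Fin 2) R ⧸ I₁ := Ideal.Quotient.mk I₁ (X 1)
  set x : MvPolynomial (Fin 2) R ⧸ I₂ := Ideal.Quotient.mk I₂ (X 0)
  set w : MvPolynomial (Fin 2) R ⧸ I₂ := Ideal.Quotient.mk I₂ (X 1)
  have hC : ∀ (I : Ideal (MvPolynomial (Fin 2) R)) (r : R), Ideal.Quotient.mk I (C r) = algebraMap R _ r := fun I r => rfl
  have ha : a ^ p = algebraMap R _ f := by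
    rw [← map_pow, ← hC, Ideal.Quotient.eq]; exact Ideal.subset_span (Or.inl rfl)
  have hb : b ^ p = algebraMap R _ f := by
    rw [← map_pow, ← hC, Ideal.Quotient.eq]; exact Ideal.subset_span (Or.inr rfl)
  have hx : x ^ p = 0 := by
    rw [← map_pow, Ideal.Quotient.eq_zero_iff_mem]; exact Ideal.subset_span (Or.inl rfl)
  have hw : w ^ p = algebraMap R _ f := by
    rw [← map_pow, ← hC, Ideal.Quotient.eq]; exact Ideal.subset_span (Or.inr rfl)
  obtain ⟨u, hu⟩ := one_add_mul_isUnit p lam f hlam b hb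
  have hpow2 : (x + w + algebraMap R _ lam * x * w) ^ p = algebraMap R _ f := by
    rw [show x + w + algebraMap R _ lam * x * w = x * (1 + algebraMap R _ lam * w) + w by ring,
      char_add_pow (R := R) p, mul_pow, hx, hw, zero_mul, zero_add]
  let F : (MvPolynomial (Fin 2) R ⧸ I₁) →ₐ[R] (MvPolynomial (Fin 2) R ⧸ I₂) :=
    Ideal.Quotient.liftₐ I₁ (aeval ![x + w + algebraMap R _ lam * x * w, w]) fun z hz => by
      refine (Ideal.span_le (I := RingHom.ker _).2 ?_) hz
      rintro z (rfl | rfl) <;> simp [RingHom.mem_ker, hpow2, hw]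
  let G : (MvPolynomial (Fin 2) R ⧸ I₂) →ₐ[R] (MvPolynomial (Fin 2) R ⧸ I₁) :=
    Ideal.Quotient.liftₐ I₂ (aeval ![(a - b) * ↑u⁻¹, b]) fun z hz => by
      refine (Ideal.span_le (I := RingHom.ker _).2 ?_) hz
      have hab : (a - b) ^ p = 0 := by
        have := char_add_pow (R := R) p (a - b) b
        rw [sub_add_cancel, ha, hb] at this
        simpa using this.symm
      rintro z (rfl | rfl) <;> simp [RingHom.mem_ker, mul_pow, hab, hb]
  have hFa : F a = x + w + algebraMap R _ lam * x * w := by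
    show aeval ![x + w + algebraMap R _ lam * x * w, w] (X 0) = _
    simp
  have hFb : F b = w := by
    show aeval ![x + w + algebraMap R _ lam * x * w, w] (X 1) = _
    simp
  have hGx : G x = (a - b) * ↑u⁻¹ := by
    show aeval ![(a - b) * ↑u⁻¹, b] (X 0) = _
    simp
  have hGw : G w = b := by
    show aeval ![(a - b) * ↑u⁻¹, b] (X 1) = _
    simp
  have hGF : G.comp F = AlgHom.id R _ := by
    refine Ideal.Quotient.algHom_ext _ (MvPolynomial.algHom_ext fun i => ?_)
    fin_cases i
    · show G (F a) = a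
      rw [hFa, map_add, map_add, map_mul, map_mul, AlgHom.commutes, hGx, hGw]
      calc (a - b) * ↑u⁻¹ + b + algebraMap R _ lam * ((a - b) * ↑u⁻¹) * b
          = (a - b) * ((↑u⁻¹ : MvPolynomial (Fin 2) R ⧸ I₁) * (1 + algebraMap R _ lam * b)) + b := by ring
        _ = a := by rw [← hu, Units.inv_mul]; ring
    · show G (F b) = b
      rw [hFb, hGw]
  have hFG : F.comp G = AlgHom.id R _ := by
    refine Ideal.Quotient.algHom_ext _ (MvPolynomial.algHom_ext fun i => ?_)
    fin_cases i
    · show F (G x) = x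
      have hu2 : F (↑u⁻¹) * (1 + algebraMap R _ lam * w) = 1 := by
        rw [← hFb, ← AlgHom.commutes F, ← map_one F, ← map_mul, ← map_add, ← map_mul, map_one]
        rw [← hu, Units.inv_mul]; exact map_one F
      rw [hGx, map_mul, map_sub, hFa, hFb]
      calc (x + w + algebraMap R _ lam * x * w - w) * F ↑u⁻¹ = x * (F ↑u⁻¹ * (1 + algebraMap R _ lam * w)) := by ring
        _ = x := by rw [hu2, mul_one]
    · show F (G w) = w
      rw [hGw, hFb]
  refine ⟨AlgEquiv.ofAlgHom F G hFG hGF, ?_, ?_⟩
  · show F a = _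
    rw [hFa]; simp [x, w, hC]
  · exact hFb

end Groth.Agent.S13042
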