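import Groth.Statements.S13043
import Groth.Agent.SDiv28.PuncturedAffine
-- import your own Groth.Agent.* helpers here

set_option autoImplicit false
universe u
open CoPerf

namespace Groth.Agent.S13043

open AlgebraicGeometry in
/-- For a Noetherian scheme S that is separated, and a dense open subset U ⊆ S that is not empty, only
finitely many open subsets V ⊇ U have an affine inclusion morphism V → S, and among them there is
one contained in all the others (a least element for inclusion). -/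
theorem result
    (S : Scheme.{u}) [IsNoetherian S] [S.IsSeparated] (U : S.Opens)
    (hne : (U : Set S).Nonempty) (hU : Dense (U : Set S)) :
    Set.Finite {V : S.Opens | U ≤ V ∧ IsAffineHom V.ι} ∧
      ∃ V₀ : S.Opens, (U ≤ V₀ ∧ IsAffineHom V₀.ι) ∧
        ∀ V : S.Opens, U ≤ V → IsAffineHom V.ι → V₀ ≤ V := by
  classical
  haveI : Nonempty S := ⟨hne.choose⟩
  have hS : ∀ Z : Set S, IsClosed Z → ∃ G : Set S, G.Finite ∧ G ⊆ Z ∧ ∀ x ∈ Z, ∃ g ∈ G, g ⤳ x := by
    intro Z hZ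
    obtain ⟨T, hT, hTc, hTi, hTU⟩ := TopologicalSpace.NoetherianSpace.exists_finite_set_isClosed_irreducible hZ
    have hgen : ∀ t ∈ T, ∃ g, IsGenericPoint g t := fun t ht => QuasiSober.sober (hTi t ht) (hTc t ht)
    choose! g hg using hgen
    refine ⟨g '' T, hT.image g, ?_, fun x hx => ?_⟩
    · rintro _ ⟨t, ht, rfl⟩
      rw [hTU]
      exact Set.mem_sUnion_of_mem (hg t ht).mem ht
    · rw [hTU] at hx
      obtain ⟨t, ht, hxt⟩ := hx
      exact ⟨g t, ⟨t, ht, rfl⟩, (hg t ht).specializes hxt⟩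
  let T : Set S := {z | z ∉ U ∧ ∀ η : S, η ∉ U → η ⤳ z → η = z}
  have hTf : T.Finite := by
    obtain ⟨G, hG, hGU, hGg⟩ := hS (U : Set S)ᶜ U.isOpen.isClosed_compl
    refine hG.subset fun z hz => ?_
    obtain ⟨g, hg, hgz⟩ := hGg z hz.1
    exact hz.2 g (hGU hg) hgz ▸ hg
  have key : ∀ V : S.Opens, U ≤ V → IsAffineHom V.ι → ∀ x, x ∉ V → ∃ z ∈ T, z ∉ V ∧ z ⤳ x := by
    intro V hUV hV x hx
    obtain ⟨G, hG, hGV, hGg⟩ := hS (V : Set S)ᶜ V.isOpen.isClosed_compl
    obtain ⟨g, hg, hgmax⟩ := (hG.toFinset.filter fun g => g ⤳ x).exists_maximal (by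
      obtain ⟨g, hg, hgx⟩ := hGg x hx
      exact ⟨g, by simp [hg, hgx]⟩)
    simp only [Finset.mem_filter, Set.Finite.mem_toFinset] at hg
    have hmax : ∀ η : S, η ∉ V → η ⤳ g → η = g := by
      intro η hη hηg
      obtain ⟨g', hg', hg'η⟩ := hGg η hη
      have h1 : g' ⤳ g := hg'η.trans hηg
      have h2 : g' ≤ g := hgmax (by simp [hg', h1.trans hg.2]) (by rw [Scheme.le_iff_specializes]; exact h1)
      rw [Scheme.le_iff_specializes] at h2
      have h3 : g ⤳ η := h2.trans hg'η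
      exact hηg.antisymm h3 |>.eq
    refine ⟨g, ⟨fun h => hGV hg.1 (hUV h), fun η hη hηg => ?_⟩, hGV hg.1, hg.2⟩
    by_contra hne
    have h1 : (1 : WithBot ℕ∞) ≤ ringKrullDim (S.presheaf.stalk η) :=
      Groth.Agent.SDiv28.Punctured.one_le_dim U η hη (hU.closure_eq ▸ Set.mem_univ η)
    have h2 := Groth.Agent.SDiv28.Punctured.dim_le_one V g (hGV hg.1) hmax
    rw [ringKrullDim_stalk_eq_coheight] at h1 h2
    have hlt : g < η := lt_iff_le_not_ge.2 ⟨by rw [Scheme.le_iff_specializes]; exact hηg, fun h => hne (hηg.antisymm (Scheme.le_iff_specializes.1 h)).eq⟩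
    have h4 : Order.coheight η + 1 ≤ Order.coheight g := Order.coheight_add_one_le hlt
    have h5 : Order.coheight η + 1 ≤ 1 := h4.trans (WithBot.coe_le_coe.1 h2)
    have h6 : (1 : ℕ∞) + 1 ≤ 1 := le_trans (add_le_add (WithBot.coe_le_coe.1 h1) le_rfl) h5
    exact absurd h6 (by decide)
  have hfin : Set.Finite {V : S.Opens | U ≤ V ∧ IsAffineHom V.ι} := by
    refine Set.Finite.of_finite_image (f := fun V : S.Opens => {z ∈ T | z ∉ V}) (hTf.finite_subsets.subset ?_) ?_
    · rintro _ ⟨V, -, rfl⟩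
      exact fun z hz => hz.1
    · rintro V ⟨hV1, hV2⟩ W ⟨hW1, hW2⟩ h
      have h' : ∀ z, (z ∈ T ∧ z ∉ V) ↔ (z ∈ T ∧ z ∉ W) := Set.ext_iff.1 h
      refine TopologicalSpace.Opens.ext (Set.ext fun x => ?_)
      constructor
      · intro hx
        by_contra hc
        obtain ⟨z, hz, hzW, hzx⟩ := key W hW1 hW2 x hc
        exact ((h' z).2 ⟨hz, hzW⟩).2 (hzx.mem_open V.isOpen hx)
      · intro hx
        by_contra hc
        obtain ⟨z, hz, hzV, hzx⟩ := key V hV1 hV2 x hc
        exact ((h' z).1 ⟨hz, hzV⟩).2 (hzx.mem_open W.isOpen hx)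
  refine ⟨hfin, hfin.toFinset.inf id, ?_, fun V h1 h2 => Finset.inf_le (f := id) (hfin.mem_toFinset.2 ⟨h1, h2⟩)⟩
  refine Finset.inf_induction (p := fun V : S.Opens => U ≤ V ∧ IsAffineHom V.ι) ⟨le_top, inferInstanceAs (IsAffineHom S.topIso.hom)⟩
    (fun A hA B hB => ⟨le_inf hA.1 hB.1, ?_⟩) fun V hV => hfin.mem_toFinset.1 hV
  have := hA.2
  have := hB.2
  exact Groth.Agent.ModPairLib.isAffineHom_inf A B

end Groth.Agent.S13043

#print axioms Groth.Agent.S13043.result
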