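import Groth.Statements.S13044
import Mathlib
-- import your own Groth.Agent.* helpers here

set_option autoImplicit false
universe u
open MaxMod

namespace Groth.Agent.S13044

open CategoryTheory Limits AlgebraicGeometry in
/-- anchor -/
theorem anchor13044 : 0 + 0 = 0 := rfl

section Helpers

open CategoryTheory Limits AlgebraicGeometry

theorem exists_lift_of_generic {R K : Type u} [CommRing R] [IsDomain R] [Field K] [Algebra R K] [IsFractionRing R K]
    {X W Z : Scheme.{u}} (g : X ⟶ W) (i : Z ⟶ W) [IsClosedImmersion i] (s : X ⟶ Spec (CommRingCat.of R)) [Flat s]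
    (q : pullback s (Spec.map (CommRingCat.ofHom (algebraMap R K))) ⟶ Z)
    (hq : q ≫ i = pullback.fst s (Spec.map (CommRingCat.ofHom (algebraMap R K))) ≫ g) :
    ∃ c : X ⟶ Z, c ≫ i = g := by
  let j := Spec.map (CommRingCat.ofHom (algebraMap R K))
  haveI : IsDominant j := by
    refine ⟨?_⟩
    show DenseRange (PrimeSpectrum.comap (algebraMap R K))
    rw [PrimeSpectrum.denseRange_comap_iff_ker_le_nilRadical,
      (RingHom.injective_iff_ker_eq_bot _).1 (IsFractionRing.injective R K)]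
    exact bot_le
  haveI : IsSchemeTheoreticallyDominant j := IsSchemeTheoreticallyDominant.of_isDominant j
  haveI : IsClosedImmersion (pullback.fst g i) := inferInstance
  let l : pullback s j ⟶ pullback g i := pullback.lift (pullback.fst s j) q hq.symm
  have hker : (pullback.fst g i).ker = ⊥ := by
    rw [eq_bot_iff]
    refine (l.le_ker_comp (pullback.fst g i)).trans ?_
    rw [pullback.lift_fst, Scheme.Hom.ker_eq_bot]
  haveI : IsIso (pullback.fst g i) := IsClosedImmersion.isIso_iff_ker_eq_bot.mpr hker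
  exact ⟨inv (pullback.fst g i) ≫ pullback.snd g i, by rw [Category.assoc, ← pullback.condition, IsIso.inv_hom_id_assoc]⟩

end Helpers

open CategoryTheory Limits AlgebraicGeometry in
/-- Let R be a discrete valuation ring with fraction field K, let Y be a flat separated R-scheme and let
Γ → Y ×_R Y be a closed subscheme, with projections p₁, p₂ : Γ → Y, such that Γ is flat over R
(equivalently, Γ is the schematic closure of its generic fibre) and p₁, p₂ are flat. If for every
scheme T over Spec K the relation on the T-valued points of Y defined by the T-valued points of Γ is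
an equivalence relation, then for every scheme T over Spec R that relation is an equivalence
relation: Γ is a flat equivalence relation on Y. -/
theorem result
    (R K : Type u) [CommRing R] [IsDomain R] [IsDiscreteValuationRing R]
    [Field K] [Algebra R K] [IsFractionRing R K]
    (Y Γ : Scheme.{u}) (f : Y ⟶ Spec (CommRingCat.of R)) [IsSeparated f] [Flat f]
    (p₁ p₂ : Γ ⟶ Y) (h : p₁ ≫ f = p₂ ≫ f)
    (hΓ : IsClosedImmersion (pullback.lift p₁ p₂ h))
    [Flat (p₁ ≫ f)] [Flat p₁] [Flat p₂]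
    (hK : ∀ (T : Scheme.{u}) (t : T ⟶ Spec (CommRingCat.of R)),
      (∃ s : T ⟶ Spec (CommRingCat.of K), t = s ≫ Spec.map (CommRingCat.ofHom (algebraMap R K))) →
      _root_.Equivalence fun a b : {a : T ⟶ Y // a ≫ f = t} =>
        ∃ c : T ⟶ Γ, c ≫ p₁ = a.1 ∧ c ≫ p₂ = b.1) :
    ∀ (T : Scheme.{u}) (t : T ⟶ Spec (CommRingCat.of R)),
      _root_.Equivalence fun a b : {a : T ⟶ Y // a ≫ f = t} =>
        ∃ c : T ⟶ Γ, c ≫ p₁ = a.1 ∧ c ≫ p₂ = b.1 := by
  classical
  set j := Spec.map (CommRingCat.ofHom (algebraMap R K)) with hj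
  let ΔΓ : Γ ⟶ pullback f f := pullback.lift p₁ p₂ h
  haveI : IsClosedImmersion ΔΓ := hΓ
  -- reflexivity
  haveI : Flat (𝟙 Y ≫ f) := by rw [Category.id_comp]; infer_instance
  obtain ⟨e, he⟩ := exists_lift_of_generic (K := K) (pullback.lift (𝟙 Y) (𝟙 Y) rfl : Y ⟶ pullback f f) ΔΓ f
    ((hK _ (pullback.fst f j ≫ f) ⟨pullback.snd f j, pullback.condition⟩).refl ⟨pullback.fst f j, rfl⟩).choose (by
      have hc := ((hK _ (pullback.fst f j ≫ f) ⟨pullback.snd f j, pullback.condition⟩).refl ⟨pullback.fst f j, rfl⟩).choose_spec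
      apply pullback.hom_ext
      · simp only [ΔΓ, Category.assoc, pullback.lift_fst]
        simpa using hc.1
      · simp only [ΔΓ, Category.assoc, pullback.lift_snd]
        simpa using hc.2)
  have he1 : e ≫ p₁ = 𝟙 Y := by
    simpa only [ΔΓ, Category.assoc, pullback.lift_fst] using congrArg (fun m => m ≫ pullback.fst f f) he
  have he2 : e ≫ p₂ = 𝟙 Y := by
    simpa only [ΔΓ, Category.assoc, pullback.lift_snd] using congrArg (fun m => m ≫ pullback.snd f f) he
  -- symmetry
  haveI : Flat (p₁ ≫ f) := inferInstance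
  let t₁ := pullback.fst (p₁ ≫ f) j ≫ p₁ ≫ f
  obtain ⟨cs, hcs1, hcs2⟩ := (hK _ t₁ ⟨pullback.snd (p₁ ≫ f) j, pullback.condition⟩).symm
    (x := ⟨pullback.fst (p₁ ≫ f) j ≫ p₁, by simp [t₁]⟩) (y := ⟨pullback.fst (p₁ ≫ f) j ≫ p₂, by simp [t₁, h]⟩)
    ⟨pullback.fst (p₁ ≫ f) j, rfl, rfl⟩
  obtain ⟨σ, hσ⟩ := exists_lift_of_generic (K := K) (pullback.lift p₂ p₁ h.symm : Γ ⟶ pullback f f) ΔΓ (p₁ ≫ f) cs (by
    apply pullback.hom_ext
    · simp only [ΔΓ, Category.assoc, pullback.lift_fst]
      exact hcs1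
    · simp only [ΔΓ, Category.assoc, pullback.lift_snd]
      exact hcs2)
  have hs1 : σ ≫ p₁ = p₂ := by
    simpa only [ΔΓ, Category.assoc, pullback.lift_fst] using congrArg (fun m => m ≫ pullback.fst f f) hσ
  have hs2 : σ ≫ p₂ = p₁ := by
    simpa only [ΔΓ, Category.assoc, pullback.lift_snd] using congrArg (fun m => m ≫ pullback.snd f f) hσ
  -- transitivity
  let W := pullback p₂ p₁
  let sW : W ⟶ Spec (CommRingCat.of R) := pullback.fst p₂ p₁ ≫ p₁ ≫ f
  haveI : Flat (pullback.fst p₂ p₁) := inferInstance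
  haveI : Flat sW := inferInstance
  let a := pullback.fst sW j
  have hw : a ≫ pullback.fst p₂ p₁ ≫ p₂ = a ≫ pullback.snd p₂ p₁ ≫ p₁ := by rw [pullback.condition]
  obtain ⟨ct, hct1, hct2⟩ := (hK _ (a ≫ sW) ⟨pullback.snd sW j, pullback.condition⟩).trans
    (x := ⟨a ≫ pullback.fst p₂ p₁ ≫ p₁, by simp [sW]⟩) (y := ⟨a ≫ pullback.fst p₂ p₁ ≫ p₂, by simp [sW, h]⟩)
    (z := ⟨a ≫ pullback.snd p₂ p₁ ≫ p₂, by
      simp only [sW, Category.assoc]
      have := congrArg (fun m => m ≫ f) hw
      simp only [Category.assoc] at this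
      rw [← h, ← this, ← h]⟩)
    ⟨a ≫ pullback.fst p₂ p₁, Category.assoc _ _ _, Category.assoc _ _ _⟩
    ⟨a ≫ pullback.snd p₂ p₁, (Category.assoc _ _ _).trans hw.symm, Category.assoc _ _ _⟩
  obtain ⟨τ, hτ⟩ := exists_lift_of_generic (K := K)
    (pullback.lift (pullback.fst p₂ p₁ ≫ p₁) (pullback.snd p₂ p₁ ≫ p₂) (by
      rw [Category.assoc, Category.assoc, h, pullback.condition_assoc, h]) : W ⟶ pullback f f) ΔΓ sW ct (by
    apply pullback.hom_ext
    · simp only [ΔΓ, Category.assoc, pullback.lift_fst]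
      exact hct1
    · simp only [ΔΓ, Category.assoc, pullback.lift_snd]
      exact hct2)
  have ht1 : τ ≫ p₁ = pullback.fst p₂ p₁ ≫ p₁ := by
    simpa only [ΔΓ, Category.assoc, pullback.lift_fst] using congrArg (fun m => m ≫ pullback.fst f f) hτ
  have ht2 : τ ≫ p₂ = pullback.snd p₂ p₁ ≫ p₂ := by
    simpa only [ΔΓ, Category.assoc, pullback.lift_snd] using congrArg (fun m => m ≫ pullback.snd f f) hτ
  intro T t
  refine ⟨fun x => ⟨x.1 ≫ e, by rw [Category.assoc, he1, Category.comp_id], by rw [Category.assoc, he2, Category.comp_id]⟩,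
    ?_, ?_⟩
  · rintro x y ⟨c, h1, h2⟩
    exact ⟨c ≫ σ, by rw [Category.assoc, hs1, h2], by rw [Category.assoc, hs2, h1]⟩
  · rintro x y z ⟨c₁, h1, h2⟩ ⟨c₂, h3, h4⟩
    refine ⟨pullback.lift c₁ c₂ (h2.trans h3.symm) ≫ τ, ?_, ?_⟩
    · rw [Category.assoc, ht1, pullback.lift_fst_assoc, h1]
    · rw [Category.assoc, ht2, pullback.lift_snd_assoc, h4]

end Groth.Agent.S13044
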