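import Groth.Statements.S13048
import Mathlib
-- import your own Groth.Agent.* helpers here

set_option autoImplicit false
universe u
open FrobAlg

namespace Groth.Agent.S13048

/-- Let k be an algebraically closed field of characteristic p > 0 and let A be a reduced finitely
generated commutative k-algebra with connected spectrum (A ≠ 0 and 0, 1 are its only idempotents).
If x ∈ A is a p^n-th power in A for every n ≥ 0, then x lies in the image of k; that is, ⋂_n A^{p^n}
= k. (The published statement is: for an artinian local ring R of characteristic p and a flat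
R-algebra A of finite type, the maps A^ét → O(π₀(A)) → A^{p^∞/R} from the largest étale subalgebra
to the preperfection are isomorphisms. This row is the case R = k algebraically closed and A reduced
with connected spectrum, where A^ét = k and the preperfection is ⋂_n A^{p^n}; the printed proof
reduces to this case and its last step proves it.) -/
theorem result
    (p : ℕ) [Fact p.Prime] (k : Type u) [Field k] [IsAlgClosed k] [CharP k p]
    (A : Type u) [CommRing A] [Algebra k A] [Algebra.FiniteType k A] [IsReduced A] [Nontrivial A]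
    (hconn : ∀ e : A, IsIdempotentElem e → e = 0 ∨ e = 1)
    (x : A) (hx : ∀ n : ℕ, ∃ a : A, a ^ p ^ n = x) :
    x ∈ (algebraMap k A).range := by
  have : IsNoetherianRing A := Algebra.FiniteType.isNoetherianRing k A
  obtain ⟨m, hm⟩ := Ideal.exists_maximal A
  let := Ideal.Quotient.field m
  have : Algebra.FiniteType k (A ⧸ m) := inferInstance
  have : Module.Finite k (A ⧸ m) := finite_of_finite_type_of_isJacobsonRing k (A ⧸ m)
  obtain ⟨c, hc⟩ := (IsAlgClosed.algebraMap_bijective_of_isIntegral (k := k) (K := A ⧸ m)).2
    (Ideal.Quotient.mk m x)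
  refine ⟨c, ?_⟩
  set y := x - algebraMap k A c with hy
  have hyp : ∀ n : ℕ, ∃ a : A, a ^ p ^ n = y := by
    intro n
    obtain ⟨a, ha⟩ := hx n
    obtain ⟨b, hb⟩ := IsAlgClosed.exists_pow_nat_eq c (pow_pos (Fact.out : p.Prime).pos n)
    have : CharP A p := charP_of_injective_algebraMap (algebraMap k A).injective p
    exact ⟨a - algebraMap k A b, by rw [sub_pow_char_pow, ha, ← map_pow, hb]⟩
  have hym : y ∈ m := by
    rw [← Ideal.Quotient.eq_zero_iff_mem, hy, map_sub, Ideal.Quotient.mk_algebraMap, hc, sub_self]
  have key : Ideal.span {y} ⊔ (Submodule.annihilator (Ideal.span {y})) = ⊤ := by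
    by_contra h
    obtain ⟨n, hn, hle⟩ := Ideal.exists_le_maximal _ h
    have hyn : y ∈ n := hle (Ideal.mem_sup_left (Ideal.mem_span_singleton_self y))
    have h0 : algebraMap A (Localization.AtPrime n) y = 0 := by
      rw [← Ideal.mem_bot, ← Ideal.iInf_pow_eq_bot_of_isLocalRing
        (IsLocalRing.maximalIdeal (Localization.AtPrime n)) Ideal.IsPrime.ne_top']
      rw [Ideal.mem_iInf]
      intro i
      obtain ⟨a, ha⟩ := hyp i
      have han : a ∈ n := hn.isPrime.mem_of_pow_mem _ (ha ▸ hyn)
      rw [← ha, map_pow]
      refine Ideal.pow_le_pow_right (Nat.lt_pow_self (Fact.out : p.Prime).one_lt).le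
        (Ideal.pow_mem_pow ?_ _)
      exact (IsLocalization.AtPrime.to_map_mem_maximal_iff _ n a).2 han
    obtain ⟨s, hs⟩ := (IsLocalization.map_eq_zero_iff n.primeCompl _ y).1 h0
    refine s.2 (hle (Ideal.mem_sup_right ?_))
    rw [Submodule.mem_annihilator]
    intro z hz
    obtain ⟨b, rfl⟩ := Ideal.mem_span_singleton'.1 hz
    rw [smul_eq_mul, mul_left_comm, hs, mul_zero]
  have hmem : (1 : A) ∈ Ideal.span {y} ⊔ (Submodule.annihilator (Ideal.span {y})) :=
    key ▸ trivial
  obtain ⟨u, hu, a, ha, h1⟩ := Submodule.mem_sup.1 hmem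
  obtain ⟨b, rfl⟩ := Ideal.mem_span_singleton'.1 hu
  have hay : a * y = 0 :=
    Submodule.mem_annihilator.1 ha y (Ideal.mem_span_singleton_self y)
  have he : IsIdempotentElem (b * y) := by
    show b * y * (b * y) = b * y
    have : b * y * (b * y) + a * (b * y) = b * y := by rw [← add_mul, h1, one_mul]
    rwa [show a * (b * y) = b * (a * y) by ring, hay, mul_zero, add_zero] at this
  rcases hconn _ he with h | h
  · have : a = 1 := by rw [← h1, h, zero_add]
    rw [this, one_mul, hy, sub_eq_zero] at hay
    exact hay.symm
  · exact absurd (h ▸ m.mul_mem_left b hym) (Ideal.IsPrime.one_notMem inferInstance)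

end Groth.Agent.S13048
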