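import Groth.Statements.S13049
import Mathlib.RingTheory.Perfection
-- import your own Groth.Agent.* helpers here

set_option autoImplicit false
universe u
open FrobAlg

namespace Groth.Agent.S13049

/-- Let p be a prime and A a commutative ring of characteristic p whose nilradical N satisfies x^(p^e) =
0 for all x ∈ N and some fixed e (for instance A Noetherian). Then the map between the inverse-limit
perfections along the absolute Frobenius, lim (⋯ → A → A) → lim (⋯ → A/N → A/N), induced by the
projection A → A/N, is bijective. (The published argument takes A of finite type over a field, where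
the nilradical is finitely generated; this row assumes only that the nilradical is killed by one
fixed iterate of Frobenius, which is all that argument uses.) -/
theorem result
    (p : ℕ) [Fact p.Prime] (A : Type u) [CommRing A] [CharP A p]
    [CharP (A ⧸ nilradical A) p] (e : ℕ) (he : ∀ x ∈ nilradical A, x ^ p ^ e = 0) :
    Function.Bijective (Perfection.map p (Ideal.Quotient.mk (nilradical A))) := by
  have hpe : ∀ a b : A, a - b ∈ nilradical A → a ^ p ^ e = b ^ p ^ e := fun a b h => by
    have := he _ h
    rwa [sub_pow_char_pow, sub_eq_zero] at this
  refine ⟨fun f g h => Perfection.ext fun n => ?_, fun F => ?_⟩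
  · have h1 : Ideal.Quotient.mk (nilradical A) (Perfection.coeff A p (n + e) f) = Ideal.Quotient.mk (nilradical A) (Perfection.coeff A p (n + e) g) :=
      congrArg (Perfection.coeff (A ⧸ nilradical A) p (n + e)) h
    have h2 := hpe _ _ ((Ideal.Quotient.mk_eq_mk_iff_sub_mem _ _).1 h1)
    have hpow : ∀ (k : ℕ) (f : Perfection A p) (n : ℕ), Perfection.coeff A p (n + k) f ^ p ^ k = Perfection.coeff A p n f := by
      intro k
      induction k with
      | zero => intro f n; simp
      | succ k ih => intro f n; rw [pow_succ, ← Nat.add_assoc, mul_comm, pow_mul, Perfection.coeff_pow_p', ih]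
    rwa [hpow, hpow] at h2
  · choose lft hlft using fun n => Ideal.Quotient.mk_surjective (Perfection.coeff (A ⧸ nilradical A) p (n + e) F)
    refine ⟨⟨fun n => lft n ^ p ^ e, fun n => ?_⟩, Perfection.ext fun n => ?_⟩
    · change (lft (n + 1) ^ p ^ e) ^ p = lft n ^ p ^ e
      rw [← pow_mul, mul_comm, pow_mul]
      refine hpe _ _ ((Ideal.Quotient.mk_eq_mk_iff_sub_mem _ _).1 ?_)
      rw [map_pow, hlft, hlft, show n + 1 + e = n + e + 1 by omega, Perfection.coeff_pow_p']
    · change Ideal.Quotient.mk (nilradical A) (lft n ^ p ^ e) = _
      rw [map_pow, hlft]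
      have hpow : ∀ (k : ℕ) (f : Perfection (A ⧸ nilradical A) p) (n : ℕ),
          Perfection.coeff _ p (n + k) f ^ p ^ k = Perfection.coeff _ p n f := by
        intro k
        induction k with
        | zero => intro f n; simp
        | succ k ih => intro f n; rw [pow_succ, ← Nat.add_assoc, mul_comm, pow_mul, Perfection.coeff_pow_p', ih]
      exact hpow e F n

end Groth.Agent.S13049
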