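import Groth.Statements.S13051
import Groth.Agent.ZetaLib.NPts

set_option autoImplicit false
universe u
open CategoryTheory AlgebraicGeometry
open Zeta

namespace Groth.Agent.S13051

/-- For a scheme X of finite type over a finite field k, Z(X, t) = ∏ over the closed points x of (1 −
t^{deg x})^{−1}, that is ∏_{r ≥ 1} (1 − t^r)^{−a_r} with a_r the number of closed points of residue
degree r; equivalently, for every n the product Z(X, t) · ∏_{r = 1}^{n} (1 − t^r)^{a_r} is ≡ 1
modulo t^{n+1}. In particular Z(X, t) has integer coefficients. (Stated for any scheme of finite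
type over k; reducedness plays no role.) -/
theorem result {k : Type u} [Field k] [Finite k] {X : Scheme.{u}}
    (f : X ⟶ Spec (CommRingCat.of k)) [LocallyOfFiniteType f] [QuasiCompact f] :
    (∀ n : ℕ, PowerSeries.trunc (n + 1)
        (Zeta.zetaFun f * ∏ r ∈ Finset.Icc 1 n, (1 - PowerSeries.X ^ r) ^ Zeta.degCount f r) = 1) ∧
      ∀ n : ℕ, ∃ z : ℤ, PowerSeries.coeff n (Zeta.zetaFun f) = (z : ℚ) := by
  classical
  let S : ℕ → PowerSeries ℚ := fun n => (-ZetaLib.lam f) + ∑ r ∈ Finset.Icc 1 n,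
    ((Zeta.degCount f r : PowerSeries ℚ) * PowerSeries.mk fun m => if r ∣ m + 1 then (r : ℚ) else 0)
  let Q : ℕ → PowerSeries ℚ := fun n =>
    ∏ r ∈ Finset.Icc 1 n, (1 - PowerSeries.X ^ r) ^ Zeta.degCount f r
  have hode : ∀ n, PowerSeries.derivative ℚ (Zeta.zetaFun f * Q n) = -S n * (Zeta.zetaFun f * Q n) := fun n =>
    ZetaLib.ode_mul (ZetaLib.zeta_ode f).1 (WeilLib.derivative_prod _ _
      (fun r => (Zeta.degCount f r : PowerSeries ℚ) * PowerSeries.mk fun m => if r ∣ m + 1 then (r : ℚ) else 0)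
      fun r hr => ZetaLib.ode_pow (ZetaLib.ode_one_sub_X_pow (Finset.mem_Icc.1 hr).1) _)
  have hc : ∀ n, PowerSeries.constantCoeff (Zeta.zetaFun f * Q n) = 1 := fun n => by
    rw [map_mul, (ZetaLib.zeta_ode f).2, one_mul, map_prod]
    exact Finset.prod_eq_one fun r hr => by
      simp [zero_pow (Nat.one_le_iff_ne_zero.1 (Finset.mem_Icc.1 hr).1)]
  have hS : ∀ n m, m < n → PowerSeries.coeff m (S n) = 0 := by
    intro n m hm
    simp only [S, map_add, map_neg, map_sum, ZetaLib.lam, PowerSeries.coeff_mk,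
      ← map_natCast (PowerSeries.C (R := ℚ)), PowerSeries.coeff_C_mul]
    rw [neg_add_eq_zero, Zeta.nPts]
    have hd : (m + 1).divisors = (Finset.Icc 1 n).filter (· ∣ m + 1) := by
      ext r
      simp only [Nat.mem_divisors, Finset.mem_filter, Finset.mem_Icc]
      refine ⟨fun h => ⟨⟨Nat.pos_of_dvd_of_pos h.1 (by omega), ?_⟩, h.1⟩, fun h => ⟨h.2, by omega⟩⟩
      have := Nat.le_of_dvd (by omega) h.1
      omega
    rw [hd, Nat.cast_sum, Finset.sum_filter]
    refine Finset.sum_congr rfl fun r _ => ?_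
    split_ifs <;> push_cast <;> ring
  have htr : ∀ n, PowerSeries.trunc (n + 1) (Zeta.zetaFun f * Q n) = 1 := fun n =>
    ZetaLib.trunc_eq_one_of_ode (hode n) (hc n) n (hS n)
  refine ⟨htr, fun n => ?_⟩
  let q : PowerSeries ℤ := ∏ r ∈ Finset.Icc 1 n, (1 - PowerSeries.X ^ r) ^ Zeta.degCount f r
  obtain ⟨q', hq'⟩ : IsUnit q := by
    rw [PowerSeries.isUnit_iff_constantCoeff, map_prod, Finset.prod_eq_one fun r hr => by
      simp [zero_pow (Nat.one_le_iff_ne_zero.1 (Finset.mem_Icc.1 hr).1)]]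
    exact isUnit_one
  have hmap : PowerSeries.map (Int.castRingHom ℚ) q = Q n := by
    simp [q, Q, map_prod]
  have hZ : Zeta.zetaFun f = PowerSeries.map (Int.castRingHom ℚ) ((q'⁻¹ : (PowerSeries ℤ)ˣ) : PowerSeries ℤ) *
      (Zeta.zetaFun f * Q n) := by
    rw [mul_comm (Zeta.zetaFun f), ← mul_assoc, ← hmap, ← map_mul, ← hq', Units.inv_mul, map_one, one_mul]
  refine ⟨PowerSeries.coeff n ((q'⁻¹ : (PowerSeries ℤ)ˣ) : PowerSeries ℤ), ?_⟩
  rw [hZ, PowerSeries.coeff_mul, Finset.sum_eq_single (n, 0)]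
  · simp [hc]
  · rintro ⟨a, b⟩ hab hne
    rw [Finset.HasAntidiagonal.mem_antidiagonal] at hab
    have hb : b ≠ 0 := fun h => hne (by rw [h]; simp only [h, add_zero] at hab; rw [hab])
    have h1 := congrArg (fun P : Polynomial ℚ => P.coeff b) (htr n)
    simp only [PowerSeries.coeff_trunc, Polynomial.coeff_one, if_pos (show b < n + 1 by omega), if_neg hb] at h1
    simp only [h1, mul_zero]
  · simp

end Groth.Agent.S13051
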