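import Groth.Statements.S13052
import Groth.Agent.ZetaLib.NPts

set_option autoImplicit false
universe u
open CategoryTheory AlgebraicGeometry
open Zeta

namespace Groth.Agent.S13052

/-- If X is a scheme of finite type over a finite field k, Y ↪ X a closed subscheme and U = X ∖ Y its
open complement, then Z(X, t) = Z(Y, t) · Z(U, t). Here Y is any scheme with a closed immersion into
X whose image is the complement of U (its scheme structure plays no role), and Y, U are k-schemes
through X. -/
theorem result {k : Type u} [Field k] [Finite k]
    {X Y : Scheme.{u}} (f : X ⟶ Spec (CommRingCat.of k)) [LocallyOfFiniteType f] [QuasiCompact f]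
    (U : X.Opens) (i : Y ⟶ X) [IsClosedImmersion i] (hY : Set.range i.base = (U : Set X)ᶜ) :
    Zeta.zetaFun f = Zeta.zetaFun (i ≫ f) * Zeta.zetaFun (U.ι ≫ f) := by
  let Z : Bool → Scheme.{u} := fun b => bif b then Y else U.toScheme
  let g : ∀ b, Z b ⟶ X := fun b => match b with
    | true => i
    | false => U.ι
  have : ∀ b, IsImmersion (g b) := fun b => match b with
    | true => inferInstanceAs (IsImmersion i)
    | false => inferInstanceAs (IsImmersion U.ι)
  have hpart : ∀ x : X, IsClosed ({x} : Set X) → ∃! b, x ∈ Set.range (g b).base := by
    intro x _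
    have hU : Set.range U.ι.base = (U : Set X) := Scheme.Opens.range_ι U
    by_cases hx : x ∈ (U : Set X)
    · refine ⟨false, by rw [← hU] at hx; exact hx, fun b hb => ?_⟩
      cases b
      · rfl
      · exfalso
        have hb' : x ∈ Set.range i.base := hb
        rw [hY] at hb'
        exact hb' hx
    · refine ⟨true, show x ∈ Set.range i.base by rw [hY]; exact hx, fun b hb => ?_⟩
      cases b
      · exfalso
        have hb' : x ∈ Set.range U.ι.base := hb
        rw [hU] at hb'
        exact hx hb'
      · rfl
  have h := ZetaLib.zeta_eq_prod f (fun b => g b ≫ f) fun m => ZetaLib.nPts_eq_sum f Z g hpart m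
  rw [h, Fintype.prod_bool]

end Groth.Agent.S13052
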