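import Groth.Statements.S13053
import Groth.Agent.ZetaLib.ProjCount
import Groth.Agent.CurveLib.ProjLine

set_option autoImplicit false
universe u
open CategoryTheory AlgebraicGeometry
open Zeta

namespace Groth.Agent.S13053

/-- For a finite field k with q elements, Z(P^n_k, t) = 1 / ((1 − t)(1 − qt) ⋯ (1 − q^n t)); stated as
Z(P^n_k, t) · ∏_{i = 0}^{n} (1 − q^i t) = 1 in ℚ⟦t⟧. -/
theorem result (k : Type u) [Field k] [Finite k] (n : ℕ) :
    Zeta.zetaFun (CohB1.ProjSpace.toSpec n k) *
        ∏ i ∈ Finset.range (n + 1), (1 - PowerSeries.C ((Nat.card k : ℚ) ^ i) * PowerSeries.X) = 1 := by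
  have := Groth.Agent.CurveLib.isProper_projSpace (k := k) n
  have hN : ∀ m, Zeta.nPts (CohB1.ProjSpace.toSpec n k) (m + 1) =
      ∑ i ∈ Finset.range (n + 1), (Nat.card k ^ i) ^ (m + 1) := by
    intro m
    obtain ⟨k', _, _, _, hk'⟩ := ZetaLib.exists_extension k m
    have : Module.Finite k k' := Module.Finite.of_finite
    rw [← hk', ZetaLib.nPts_eq_card, ZetaLib.card_pts_projSpace, hk']
    refine Finset.sum_congr rfl fun i _ => ?_
    rw [Module.natCard_eq_pow_finrank (K := k) (V := k'), hk', ← pow_mul, ← pow_mul, mul_comm]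
  refine WeilLib.eq_of_derivative_eq (S := 0) ?_ (by simp) ?_ (by simp)
  · rw [ZetaLib.ode_mul (ZetaLib.zeta_ode _).1 (WeilLib.derivative_prod _ _
      (fun i => PowerSeries.mk fun m => ((Nat.card k : ℚ) ^ i) ^ (m + 1))
      fun i _ => ZetaLib.ode_one_sub_C_mul_X _)]
    congr 2
    refine PowerSeries.ext fun m => ?_
    simp [ZetaLib.lam, hN m]
  · rw [map_mul, (ZetaLib.zeta_ode _).2, one_mul, map_prod]
    exact Finset.prod_eq_one fun i _ => by simp

end Groth.Agent.S13053
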