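import Groth.Statements.S13054
import Groth.Agent.ZetaLib.NPts

set_option autoImplicit false
universe u
open CategoryTheory AlgebraicGeometry Limits
open Zeta

namespace Groth.Agent.S13054

/-- Let X be a scheme of finite type over a finite field k, k'/k a finite extension of degree r and X' =
X ×_{Spec k} Spec k', a k'-scheme. Then Z(X', t^r) = ∏_{i = 1}^{r} Z(X, ξ^i t) for ξ a primitive
r-th root of unity; stated in ℂ⟦t⟧ with the product over the exponents 0, …, r − 1. (Reducedness of
X plays no role.) -/
theorem result {k : Type u} [Field k] [Finite k]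
    {X : Scheme.{u}} (f : X ⟶ Spec (CommRingCat.of k)) [LocallyOfFiniteType f] [QuasiCompact f]
    (k' : Type u) [Field k'] [Algebra k k'] [Finite k'] (ξ : ℂ)
    (hξ : IsPrimitiveRoot ξ (Module.finrank k k')) :
    PowerSeries.subst ((PowerSeries.X : PowerSeries ℂ) ^ Module.finrank k k')
        (PowerSeries.map (algebraMap ℚ ℂ) (Zeta.zetaFun
          (pullback.snd f (Spec.map (CommRingCat.ofHom (algebraMap k k')))))) =
      ∏ i ∈ Finset.range (Module.finrank k k'),
        PowerSeries.rescale (ξ ^ i) (PowerSeries.map (algebraMap ℚ ℂ) (Zeta.zetaFun f)) := by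
  classical
  set r := Module.finrank k k' with hr
  have hr0 : 0 < r := by
    have : Module.Finite k k' := Module.Finite.of_finite
    exact Module.finrank_pos
  have hsub : PowerSeries.HasSubst ((PowerSeries.X : PowerSeries ℂ) ^ r) :=
    PowerSeries.HasSubst.X_pow hr0.ne'
  let L : PowerSeries ℂ := PowerSeries.map (algebraMap ℚ ℂ) (ZetaLib.lam f)
  set g := pullback.snd f (Spec.map (CommRingCat.ofHom (algebraMap k k'))) with hg
  let L' : PowerSeries ℂ := PowerSeries.map (algebraMap ℚ ℂ) (ZetaLib.lam g)
  let S : PowerSeries ℂ := -(PowerSeries.subst ((PowerSeries.X : PowerSeries ℂ) ^ r) L' *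
    PowerSeries.derivative ℂ ((PowerSeries.X : PowerSeries ℂ) ^ r))
  refine WeilLib.eq_of_derivative_eq (S := S) ?_ ?_ ?_ ?_
  · rw [PowerSeries.derivative_subst hsub, WeilLib.derivative_map, (ZetaLib.zeta_ode g).1, map_mul,
      PowerSeries.subst_mul hsub, neg_neg]
    simp only [S, L', neg_neg]
    ring
  · let T : ℕ → PowerSeries ℂ := fun i => -(PowerSeries.C (ξ ^ i) * PowerSeries.rescale (ξ ^ i) L)
    rw [WeilLib.derivative_prod _ (fun i => PowerSeries.rescale (ξ ^ i)
      (PowerSeries.map (algebraMap ℚ ℂ) (Zeta.zetaFun f))) T fun i _ => ?_]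
    · congr 2
      refine PowerSeries.ext fun m => ?_
      simp only [S, T, map_sum, map_neg, Finset.sum_neg_distrib, neg_inj, PowerSeries.derivative_pow,
        PowerSeries.derivative_X, mul_one, PowerSeries.coeff_C_mul, PowerSeries.coeff_rescale, L, L',
        PowerSeries.coeff_map, ZetaLib.lam, PowerSeries.coeff_mk, map_natCast, ← mul_assoc, ← pow_succ']
      rw [← Finset.sum_mul, PowerSeries.coeff_mul_X_pow',
        ← map_natCast (PowerSeries.C (R := ℂ)) r]
      have hgeo : (Finset.range r).sum (fun i => (ξ ^ i) ^ (m + 1)) = if r ∣ m + 1 then (r : ℂ) else 0 := by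
        split_ifs with hd
        · rw [Finset.sum_eq_card_nsmul (b := (1 : ℂ)) fun i _ => by
            rw [← pow_mul, mul_comm, pow_mul, (hξ.pow_eq_one_iff_dvd (m + 1)).2 hd, one_pow]]
          simp
        · have h1 : (Finset.range r).sum (fun i => (ξ ^ (m + 1)) ^ i) * (ξ ^ (m + 1) - 1) = 0 := by
            rw [geom_sum_mul, ← pow_mul, mul_comm, pow_mul, hξ.pow_eq_one, one_pow, sub_self]
          rw [Finset.sum_congr rfl fun i _ => show (ξ ^ i) ^ (m + 1) = (ξ ^ (m + 1)) ^ i by
            rw [← pow_mul, ← pow_mul, mul_comm]]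
          refine (mul_eq_zero.1 h1).resolve_right fun h2 => hd ?_
          exact (hξ.pow_eq_one_iff_dvd (m + 1)).1 (sub_eq_zero.1 h2)
      rw [hgeo]
      by_cases hm : r - 1 ≤ m
      · rw [if_pos hm, mul_comm _ (PowerSeries.C (r : ℂ)), PowerSeries.coeff_C_mul,
          PowerSeries.coeff_subst_X_pow hr0.ne']
        have hiff : r ∣ m - (r - 1) ↔ r ∣ m + 1 := by
          rw [show m + 1 = m - (r - 1) + r by omega]
          exact Nat.dvd_add_self_right.symm
        by_cases hd : r ∣ m + 1
        · obtain ⟨c, hc⟩ := hd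
          obtain ⟨c, rfl⟩ : ∃ c', c = c' + 1 := ⟨c - 1, by rcases c with _ | c <;> simp_all⟩
          have hdiv : m - (r - 1) = r * c := by rw [Nat.mul_succ] at hc; omega
          rw [if_pos (show r ∣ m + 1 from ⟨c + 1, hc⟩), if_pos (show r ∣ m - (r - 1) from ⟨c, hdiv⟩), hdiv,
            Nat.mul_div_cancel_left _ hr0]
          simp only [PowerSeries.coeff_map, PowerSeries.coeff_mk, map_natCast]
          rw [hg, ZetaLib.nPts_baseChange f k' c, ← hr, hc, mul_comm (c + 1) r]
        · rw [if_neg (fun h => hd (hiff.1 h)), if_neg hd, mul_zero, zero_mul]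
      · rw [if_neg hm, if_neg (fun h => hm (by have := Nat.le_of_dvd (by omega) h; omega)), zero_mul]
    · have hd : PowerSeries.derivative ℂ (PowerSeries.rescale (ξ ^ i)
          (PowerSeries.map (algebraMap ℚ ℂ) (Zeta.zetaFun f))) = PowerSeries.C (ξ ^ i) *
          PowerSeries.rescale (ξ ^ i) (PowerSeries.derivative ℂ (PowerSeries.map (algebraMap ℚ ℂ) (Zeta.zetaFun f))) := by
        refine PowerSeries.ext fun m => ?_
        simp only [PowerSeries.coeff_derivative, PowerSeries.coeff_rescale, PowerSeries.coeff_C_mul, pow_succ]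
        ring
      rw [hd, WeilLib.derivative_map, (ZetaLib.zeta_ode f).1, map_mul, map_mul]
      simp only [T, L, neg_neg]
      ring
  · rw [PowerSeries.constantCoeff_subst_X_pow hr0.ne', ← PowerSeries.coeff_zero_eq_constantCoeff_apply,
      PowerSeries.coeff_map, PowerSeries.coeff_zero_eq_constantCoeff_apply, (ZetaLib.zeta_ode g).2, map_one, map_one]
  · rw [map_prod]
    refine Finset.prod_eq_one fun i _ => ?_
    rw [← PowerSeries.coeff_zero_eq_constantCoeff_apply, PowerSeries.coeff_rescale, PowerSeries.coeff_map,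
      PowerSeries.coeff_zero_eq_constantCoeff_apply, (ZetaLib.zeta_ode f).2, map_one, pow_zero, one_mul]

end Groth.Agent.S13054
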