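import Groth.Statements.S13055
import Groth.Agent.ZetaLib.NPts

set_option autoImplicit false
universe u
open CategoryTheory AlgebraicGeometry
open Zeta

namespace Groth.Agent.S13055

/-- Let X be a scheme of finite type over a finite field k with q elements and P = a_d y^d + ⋯ + a_0 ∈
ℤ[y] with N_m = P(q^m) for every m ≥ 1 (X is of polynomial count). Then Z(X, t) = ∏_{i = 0}^{d} (1 −
q^i t)^{−a_i}; stated cleared of denominators, with the factors of positive exponent moved to the
left. -/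
theorem result {k : Type u} [Field k] [Finite k] {X : Scheme.{u}}
    (f : X ⟶ Spec (CommRingCat.of k)) [LocallyOfFiniteType f] [QuasiCompact f] (P : Polynomial ℤ)
    (hP : ∀ m : ℕ, 1 ≤ m → (Zeta.nPts f m : ℤ) = P.eval ((Nat.card k : ℤ) ^ m)) :
    Zeta.zetaFun f * ∏ i ∈ Finset.range (P.natDegree + 1),
        (1 - PowerSeries.C ((Nat.card k : ℚ) ^ i) * PowerSeries.X) ^ (P.coeff i).toNat =
      ∏ i ∈ Finset.range (P.natDegree + 1),
        (1 - PowerSeries.C ((Nat.card k : ℚ) ^ i) * PowerSeries.X) ^ (-P.coeff i).toNat := by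
  let a : ℕ → ℕ := fun i => (P.coeff i).toNat
  let b : ℕ → ℕ := fun i => (-P.coeff i).toNat
  let s : ℕ → PowerSeries ℚ := fun i => PowerSeries.mk fun m => ((Nat.card k : ℚ) ^ i) ^ (m + 1)
  have hpow : ∀ (c : ℕ → ℕ), PowerSeries.derivative ℚ (∏ i ∈ Finset.range (P.natDegree + 1),
      (1 - PowerSeries.C ((Nat.card k : ℚ) ^ i) * PowerSeries.X) ^ c i) =
        -(∑ i ∈ Finset.range (P.natDegree + 1), (c i : PowerSeries ℚ) * s i) *
        ∏ i ∈ Finset.range (P.natDegree + 1),
          (1 - PowerSeries.C ((Nat.card k : ℚ) ^ i) * PowerSeries.X) ^ c i := fun c =>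
    WeilLib.derivative_prod _ _ _ fun i _ => ZetaLib.ode_pow (ZetaLib.ode_one_sub_C_mul_X _) _
  have hc : ∀ (c : ℕ → ℕ), PowerSeries.constantCoeff (∏ i ∈ Finset.range (P.natDegree + 1),
      (1 - PowerSeries.C ((Nat.card k : ℚ) ^ i) * PowerSeries.X) ^ c i) = 1 := fun c => by
    rw [map_prod]; exact Finset.prod_eq_one fun i _ => by simp
  refine WeilLib.eq_of_derivative_eq (ZetaLib.ode_mul (ZetaLib.zeta_ode f).1 (hpow a)) ?_
    (by rw [map_mul, (ZetaLib.zeta_ode f).2, hc, one_mul]) (hc b)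
  rw [hpow b]
  congr 2
  refine PowerSeries.ext fun m => ?_
  simp only [map_add, map_neg, map_sum, ZetaLib.lam, PowerSeries.coeff_mk, s,
    ← map_natCast (PowerSeries.C (R := ℚ)), PowerSeries.coeff_C_mul]
  have h := congrArg (fun z : ℤ => (z : ℚ)) (hP (m + 1) (by omega))
  simp only [Polynomial.eval_eq_sum_range, Int.cast_natCast, Int.cast_sum, Int.cast_mul, Int.cast_pow] at h
  rw [h, eq_comm, neg_add_eq_iff_eq_add, ← Finset.sum_add_distrib]
  refine Finset.sum_congr rfl fun i _ => ?_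
  have hi : ((P.coeff i : ℤ) : ℚ) = (a i : ℚ) - (b i : ℚ) := by
    have h0 := Int.toNat_sub_toNat_neg (P.coeff i)
    exact_mod_cast h0.symm
  rw [hi, ← pow_mul, ← pow_mul, mul_comm i (m + 1)]
  ring

end Groth.Agent.S13055
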