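import Groth.Statements.S13056
import Groth.Agent.WeilLib.LogDeriv

set_option autoImplicit false
universe u v
open Zeta

namespace Groth.Agent.S13056

/-- For an endomorphism φ of a finite-dimensional vector space over a field K, det(Id − tφ) = exp(−∑_{m
≥ 1} tr(φ^m) t^m / m) as power series in t. Stated for a square matrix M, with det(1 − tM) Mathlib's
reversed characteristic polynomial, and over a field of characteristic zero (the exponential series
needs ℚ ⊆ K; this is the case in which the identity is used). -/
theorem result {K : Type u} [Field K] [CharZero K]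
    {n : Type v} [Fintype n] [DecidableEq n] (M : Matrix n n K) :
    ((M.charpolyRev : Polynomial K) : PowerSeries K) =
      PowerSeries.subst (PowerSeries.mk fun m : ℕ => -(Matrix.trace (M ^ m)) / (m : K))
        (PowerSeries.exp K) := by
  set L : PowerSeries K := PowerSeries.mk fun m : ℕ => -(Matrix.trace (M ^ m)) / (m : K) with hLdef
  have h0 : PowerSeries.constantCoeff L = 0 := by
    rw [← PowerSeries.coeff_zero_eq_constantCoeff_apply, hLdef, PowerSeries.coeff_mk, Nat.cast_zero,
      div_zero]
  have hL : PowerSeries.HasSubst L := PowerSeries.HasSubst.of_constantCoeff_zero' h0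
  have hdL : PowerSeries.derivative K L = -(WeilLib.trSeries M) := by
    refine PowerSeries.ext fun m => ?_
    rw [PowerSeries.coeff_derivative, map_neg, hLdef, WeilLib.trSeries, PowerSeries.coeff_mk,
      PowerSeries.coeff_mk]
    have : (m : K) + 1 ≠ 0 := Nat.cast_add_one_ne_zero m
    push_cast
    field_simp
  refine WeilLib.eq_of_derivative_eq (S := WeilLib.trSeries M) (WeilLib.derivative_charpolyRev M)
    ?_ (WeilLib.constantCoeff_charpolyRev M) ?_
  · rw [PowerSeries.derivative_subst hL, PowerSeries.derivative_exp, mul_comm, hdL]
  · rw [← PowerSeries.coeff_zero_eq_constantCoeff_apply, PowerSeries.coeff_subst' hL,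
      finsum_eq_single _ 0]
    · simp
    · intro d hd
      rw [PowerSeries.coeff_zero_eq_constantCoeff_apply, map_pow, h0, zero_pow hd, smul_zero]

end Groth.Agent.S13056
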