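import Groth.Statements.S13057
import Mathlib

set_option autoImplicit false
universe u
open Zeta

namespace Groth.Agent.S13057

/-- A power series f = ∑_{m ≥ 0} a_m t^m over a field L lies in L(t), i.e. f · Q = P for some
polynomials P, Q with Q ≠ 0, if and only if there are natural numbers M, N such that the vectors
(a_i, a_{i+1}, …, a_{i+N}) ∈ L^{N+1}, i ≥ M, span a proper subspace. -/
theorem result {L : Type u} [Field L]
    (f : PowerSeries L) :
    (∃ P Q : Polynomial L, Q ≠ 0 ∧ f * (Q : PowerSeries L) = (P : PowerSeries L)) ↔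
      ∃ M N : ℕ, Submodule.span L
          {v : Fin (N + 1) → L | ∃ i : ℕ, M ≤ i ∧ v = fun j : Fin (N + 1) => PowerSeries.coeff (i + (j : ℕ)) f} ≠ ⊤ := by
  classical
  constructor
  · rintro ⟨P, Q, hQ, h⟩
    refine ⟨P.natDegree + 1, Q.natDegree, fun htop => ?_⟩
    set c : Fin (Q.natDegree + 1) → L := fun j => Q.coeff (Q.natDegree - j)
    let l : (Fin (Q.natDegree + 1) → L) →ₗ[L] L := ∑ j, c j • LinearMap.proj j
    have hl : ∀ v ∈ {v : Fin (Q.natDegree + 1) → L | ∃ i : ℕ, P.natDegree + 1 ≤ i ∧ v = fun j : Fin (Q.natDegree + 1) => PowerSeries.coeff (i + (j : ℕ)) f},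
        v ∈ LinearMap.ker l := by
      rintro v ⟨i, hi, rfl⟩
      have hn := congrArg (PowerSeries.coeff (i + Q.natDegree)) h
      rw [Polynomial.coeff_coe, Polynomial.coeff_eq_zero_of_natDegree_lt (by omega), PowerSeries.coeff_mul,
        Finset.Nat.sum_antidiagonal_eq_sum_range_succ (fun a b => PowerSeries.coeff a f * PowerSeries.coeff b (Q : PowerSeries L))] at hn
      simp only [l, LinearMap.mem_ker, LinearMap.sum_apply, LinearMap.smul_apply, LinearMap.proj_apply, c, smul_eq_mul]
      rw [← hn]
      rw [Fin.sum_univ_eq_sum_range (fun j => Q.coeff (Q.natDegree - j) * PowerSeries.coeff (i + j) f)]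
      conv_rhs => rw [show (i + Q.natDegree).succ = i + (Q.natDegree + 1) by omega, Finset.sum_range_add]
      rw [Finset.sum_eq_zero (s := Finset.range i) fun x hx => by
        rw [Polynomial.coeff_coe, Polynomial.coeff_eq_zero_of_natDegree_lt (by simp at hx; omega), mul_zero], zero_add]
      refine Finset.sum_congr rfl fun x hx => ?_
      rw [Polynomial.coeff_coe, mul_comm, show i + Q.natDegree - (i + x) = Q.natDegree - x by omega]
    have hle := Submodule.span_le.mpr hl
    rw [htop] at hle
    have h1 := hle (Submodule.mem_top (x := Pi.single (0 : Fin (Q.natDegree + 1)) (1 : L)))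
    simp [l, c, Pi.single_apply] at h1
    exact hQ h1
  · rintro ⟨M, N, hne⟩
    obtain ⟨l, hl0, hl⟩ := Submodule.exists_dual_map_eq_bot_of_lt_top (lt_top_iff_ne_top.2 hne) inferInstance
    set c : Fin (N + 1) → L := fun j => l (Pi.single j 1)
    have hlin : ∀ v, l v = ∑ j, v j * c j := fun v => by
      conv_lhs => rw [← Finset.univ_sum_single v]
      rw [map_sum]
      refine Finset.sum_congr rfl fun j _ => ?_
      rw [show Pi.single j (v j) = v j • Pi.single j (1 : L) by rw [← Pi.single_smul, smul_eq_mul, mul_one], map_smul, smul_eq_mul]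
    have hrec : ∀ i, M ≤ i → ∑ j : Fin (N + 1), PowerSeries.coeff (i + (j : ℕ)) f * c j = 0 := fun i hi => by
      rw [← hlin]
      have := Submodule.mem_map_of_mem (f := l) (Submodule.subset_span (R := L) (show
        (fun j : Fin (N + 1) => PowerSeries.coeff (i + (j : ℕ)) f) ∈ {v : Fin (N + 1) → L | ∃ i : ℕ, M ≤ i ∧ v = fun j : Fin (N + 1) => PowerSeries.coeff (i + (j : ℕ)) f} from ⟨i, hi, rfl⟩))
      rwa [hl, Submodule.mem_bot] at this
    let Q : Polynomial L := ∑ j : Fin (N + 1), Polynomial.monomial (N - (j : ℕ)) (c j)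
    have hQc : ∀ n, Q.coeff n = if h : n ≤ N then c ⟨N - n, by omega⟩ else 0 := fun n => by
      simp only [Q, Polynomial.finsetSum_coeff, Polynomial.coeff_monomial]
      split_ifs with h
      · rw [Finset.sum_eq_single ⟨N - n, by omega⟩ (fun j _ hj => if_neg fun e => hj (Fin.ext (by have := j.2; simp; omega))) (by simp),
          if_pos (by simp; omega)]
      · exact Finset.sum_eq_zero fun j _ => if_neg (by omega)
    have hQ0 : Q ≠ 0 := fun e => hl0 (LinearMap.pi_ext' fun j => LinearMap.ext_ring (by
      have := congrArg (fun p => Polynomial.coeff p (N - (j : ℕ))) e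
      simp only [hQc, dif_pos (Nat.sub_le N j), Polynomial.coeff_zero] at this
      simp only [LinearMap.comp_apply, LinearMap.single_apply, LinearMap.zero_apply]
      rw [← this]
      exact congrArg c (Fin.ext (by have := j.2; simp; omega))))
    refine ⟨PowerSeries.trunc (M + N) (f * (Q : PowerSeries L)), Q, hQ0, PowerSeries.ext fun n => ?_⟩
    rw [Polynomial.coeff_coe, PowerSeries.coeff_trunc]
    split_ifs with hn
    · rfl
    rw [PowerSeries.coeff_mul, Finset.Nat.sum_antidiagonal_eq_sum_range_succ (fun a b => PowerSeries.coeff a f * PowerSeries.coeff b (Q : PowerSeries L)),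
      show n.succ = (n - N) + (N + 1) by omega, Finset.sum_range_add,
      Finset.sum_eq_zero (s := Finset.range (n - N)) fun x hx => by
        rw [Polynomial.coeff_coe, hQc, dif_neg (by simp at hx; omega), mul_zero],
      zero_add, ← hrec (n - N) (by omega),
      ← Fin.sum_univ_eq_sum_range (fun x => PowerSeries.coeff (n - N + x) f * PowerSeries.coeff (n - (n - N + x)) (Q : PowerSeries L))]
    refine Finset.sum_congr rfl fun j _ => ?_
    have := j.2
    rw [Polynomial.coeff_coe, hQc, dif_pos (by omega)]
    congr 2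
    exact Fin.ext (by simp; omega)

end Groth.Agent.S13057
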