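import Groth.Statements.S13058
import Mathlib.LinearAlgebra.Basis.VectorSpace


set_option autoImplicit false
universe u v
open Zeta

namespace Groth.Agent.S13058

/-- If L'/L is a field extension, a power series f ∈ L⟦t⟧ belongs to L(t) exactly when it belongs to
L'(t); here membership in L(t) means f · Q = P for polynomials P, Q over the field in question with
Q ≠ 0. -/
theorem result {L : Type u} {L' : Type v} [Field L] [Field L']
    [Algebra L L'] (f : PowerSeries L) :
    (∃ P Q : Polynomial L', Q ≠ 0 ∧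
        PowerSeries.map (algebraMap L L') f * (Q : PowerSeries L') = (P : PowerSeries L')) ↔
      ∃ P Q : Polynomial L, Q ≠ 0 ∧ f * (Q : PowerSeries L) = (P : PowerSeries L) := by
  classical
  constructor
  · rintro ⟨P, Q, hQ, h⟩
    obtain ⟨j, hj⟩ : ∃ j, Q.coeff j ≠ 0 := ⟨Q.natDegree, fun h => hQ (Polynomial.leadingCoeff_eq_zero.mp h)⟩
    obtain ⟨φ, hφ⟩ : ∃ φ : L' →ₗ[L] L, φ (Q.coeff j) ≠ 0 := by
      obtain ⟨φ, -, hφ⟩ := LinearMap.exists_extend_of_notMem (p := (⊥ : Submodule L L')) 0 (v := Q.coeff j) (by simp [hj]) (1 : L)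
      exact ⟨φ, by rw [hφ]; exact one_ne_zero⟩
    let P' : Polynomial L := ∑ i ∈ P.support, Polynomial.monomial i (φ (P.coeff i))
    let Q' : Polynomial L := ∑ i ∈ Q.support, Polynomial.monomial i (φ (Q.coeff i))
    have hc : ∀ (R : Polynomial L') (m : ℕ),
        (∑ i ∈ R.support, Polynomial.monomial i (φ (R.coeff i))).coeff m = φ (R.coeff m) := fun R m => by
      simp only [Polynomial.finsetSum_coeff, Polynomial.coeff_monomial, Finset.sum_ite_eq']
      split_ifs with hm
      · rfl
      · rw [Polynomial.notMem_support_iff.mp hm, map_zero]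
    refine ⟨P', Q', fun h0 => hφ ?_, ?_⟩
    · rw [← hc Q j, show (∑ i ∈ Q.support, Polynomial.monomial i (φ (Q.coeff i))) = 0 from h0]; simp
    · ext m
      have h1 := congrArg φ (congrArg (PowerSeries.coeff m) h)
      rw [PowerSeries.coeff_mul, map_sum, Polynomial.coeff_coe] at h1
      rw [PowerSeries.coeff_mul, Polynomial.coeff_coe, hc, ← h1]
      refine Finset.sum_congr rfl fun p _ => ?_
      simp only [Polynomial.coeff_coe, PowerSeries.coeff_map, Q', hc, ← Algebra.smul_def, map_smul, smul_eq_mul]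
  · rintro ⟨P, Q, hQ, h⟩
    refine ⟨P.map (algebraMap L L'), Q.map (algebraMap L L'), (Polynomial.map_ne_zero_iff (algebraMap L L').injective).mpr hQ, ?_⟩
    rw [Polynomial.polynomial_map_coe, Polynomial.polynomial_map_coe, ← map_mul, h]

end Groth.Agent.S13058
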