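import Groth.Statements.S13059
import Mathlib
import Groth.Prelude

set_option linter.all false

set_option autoImplicit false
universe u
open Zeta

universe v

open CategoryTheory MonoidalCategory

namespace Groth.Agent.S13059

theorem det_identity (K : Type u) [Field K] {ι : Type v} [Fintype ι] [DecidableEq ι] (F G : Matrix ι ι K) (c : K) (hc : c ≠ 0)
    (h : G * F = c • 1) :
    F.det • G.charpoly.reverse = ((-1) ^ Fintype.card ι * c ^ Fintype.card ι) • (c⁻¹ • F).charpoly := by
  rw [Matrix.reverse_charpoly, Polynomial.smul_eq_C_mul, Polynomial.smul_eq_C_mul, Matrix.charpoly, Matrix.charpolyRev,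
    RingHom.map_det, mul_comm, RingHom.mapMatrix_apply, ← Matrix.det_mul, Matrix.sub_mul, one_mul, smul_mul_assoc,
    ← Matrix.map_mul, h]
  rw [map_mul, map_pow, map_pow, map_neg, map_one, ← mul_pow, neg_one_mul, ← Matrix.det_smul]
  congr 1
  ext i j
  by_cases hij : i = j
  · subst hij
    simp [Matrix.charmatrix_apply, mul_sub, ← mul_assoc, ← map_mul, hc]
    ring
  · simp [Matrix.charmatrix_apply, hij, ← mul_assoc, ← map_mul, hc]

/-- Let B : V × W → K be a perfect pairing of finite-dimensional vector spaces over a field K, c ∈ K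
nonzero, and f, g endomorphisms of V, W with B(f v, g w) = c · B(v, w) for all v, w. Then det(Id − t
g) = (−1)^r c^r t^r det(f)^{−1} det(Id − c^{−1} t^{−1} f) with r the common dimension; stated
cleared of denominators as det(f) · det(Id − t g) = (−1)^r c^r · det(t Id − c^{−1} f) in K[t],
det(Id − t g) being the reverse of the characteristic polynomial of g. -/
theorem result (K : Type u) [Field K] (V W : Type u)
    [AddCommGroup V] [Module K V] [FiniteDimensional K V] [AddCommGroup W] [Module K W]
    [FiniteDimensional K W] (B : V →ₗ[K] W →ₗ[K] K) [B.IsPerfPair] (f : V →ₗ[K] V) (g : W →ₗ[K] W)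
    (c : K) (hc : c ≠ 0) (hfg : ∀ (v : V) (w : W), B (f v) (g w) = c * B v w) :
    LinearMap.det f • (LinearMap.charpoly g).reverse =
      ((-1) ^ Module.finrank K W * c ^ Module.finrank K W) • (c⁻¹ • f).charpoly := by
  classical
  let e : W ≃ₗ[K] Module.Dual K V := B.flip.toPerfPair
  let b := Module.finBasis K V
  let g' := e.conj g
  set F := LinearMap.toMatrix b b f with hF
  set G' := LinearMap.toMatrix b.dualBasis b.dualBasis g' with hG'
  have hcomp : f.dualMap ∘ₗ g' = c • LinearMap.id := by
    refine LinearMap.ext fun φ => LinearMap.ext fun v => ?_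
    obtain ⟨w, rfl⟩ := e.surjective φ
    simp only [g', LinearEquiv.conj_apply, LinearMap.comp_apply, LinearEquiv.coe_coe, LinearEquiv.symm_apply_apply,
      LinearMap.dualMap_apply, LinearMap.smul_apply, LinearMap.id_apply, smul_eq_mul]
    show B (f v) (g w) = c * B v w
    exact hfg v w
  have hmat : F.transpose * G' = c • 1 := by
    have h := congrArg (LinearMap.toMatrix b.dualBasis b.dualBasis) hcomp
    rw [LinearMap.toMatrix_comp _ b.dualBasis _, map_smul, LinearMap.toMatrix_id] at h
    rw [← h, hF, ← LinearMap.toMatrix_transpose]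
    rfl
  have hmat' : G'.transpose * F = c • 1 := by
    have := congrArg Matrix.transpose hmat
    rwa [Matrix.transpose_mul, Matrix.transpose_transpose, Matrix.transpose_smul, Matrix.transpose_one] at this
  have hcard : Fintype.card (Fin (Module.finrank K V)) = Module.finrank K W := by
    rw [Fintype.card_fin, ← Subspace.dual_finrank_eq, ← e.finrank_eq]
  have h1 : LinearMap.charpoly g = G'.transpose.charpoly := by
    rw [Matrix.charpoly_transpose, hG', LinearMap.charpoly_toMatrix, LinearEquiv.charpoly_conj]
  have h2 : (c⁻¹ • f).charpoly = (c⁻¹ • F).charpoly := by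
    rw [← LinearMap.charpoly_toMatrix _ b, map_smul]
  rw [← LinearMap.det_toMatrix b, h1, h2, ← hcard]
  exact det_identity K F G'.transpose c hc hmat'

end Groth.Agent.S13059
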