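import Groth.Statements.S13061
import Groth.Agent.ZetaAlg.Basic
import Mathlib.RingTheory.Polynomial.Vieta

set_option autoImplicit false
universe u v w
open Zeta

namespace Groth.Agent.S13061

/-- Let A be a commutative algebra over a field k, G a finite group acting on A by k-algebra
automorphisms and I ⊆ A an ideal preserved by G. If p^n is the largest power of p = char(k) dividing
|G| (with p^n = 1 when char(k) = 0), then for every G-invariant b ∈ A/I the power b^{p^n} lies in
the image of A^G → (A/I)^G. (The published statement takes A finitely generated over k, which the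
proof does not use.) -/
theorem result {k : Type u} [Field k]
    {A : Type v} [CommRing A] [Algebra k A] {G : Type w} [Group G] [Finite G]
    [MulSemiringAction G A] [SMulCommClass G k A] (I : Ideal A)
    (hI : ∀ (g : G) (a : A), a ∈ I → g • a ∈ I) (u : A) (hu : ∀ g : G, g • u - u ∈ I) :
    ∃ a : A, (∀ g : G, g • a = a) ∧
      Ideal.Quotient.mk I a =
        Ideal.Quotient.mk I u ^ (ringChar k ^ (Nat.card G).factorization (ringChar k)) := by
  classical
  haveI : Fintype G := Fintype.ofFinite G
  set p := ringChar k
  set N := Nat.card G
  set q := p ^ N.factorization p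
  have hN : N = (Finset.univ : Finset G).card := by rw [Finset.card_univ]; exact Nat.card_eq_fintype_card
  have hN0 : N ≠ 0 := Nat.card_pos.ne'
  have hc : ((N.choose q : ℕ) : k) ≠ 0 := by
    rcases CharP.char_is_prime_or_zero k p with hp | hp
    · rw [ne_eq, CharP.cast_eq_zero_iff k p]
      exact Groth.Agent.ZetaAlg.not_dvd_choose_pow p N hp hN0
    · haveI : CharP k 0 := hp ▸ ringChar.charP k
      haveI := CharP.charP_to_charZero k
      have : q = 1 := by simp [q, hp]
      rw [this, Nat.choose_one_right]
      exact_mod_cast hN0
  let S : A := ∑ t ∈ (Finset.univ : Finset G).powersetCard q, ∏ g ∈ t, g • u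
  refine ⟨((N.choose q : k))⁻¹ • S, fun h => ?_, ?_⟩
  · rw [smul_comm]
    congr 1
    simp only [S, Finset.smul_sum, Finset.smul_prod', smul_smul]
    refine Finset.sum_bij (fun t _ => t.map (Equiv.mulLeft h).toEmbedding) (fun t ht => ?_) (fun a _ b _ e => ?_)
      (fun t ht => ?_) (fun t _ => ?_)
    · simpa [Finset.mem_powersetCard] using ht
    · exact Finset.map_injective _ e
    · refine ⟨t.map (Equiv.mulLeft h⁻¹).toEmbedding, by simpa [Finset.mem_powersetCard] using ht, ?_⟩
      rw [Finset.map_map]
      convert Finset.map_refl using 2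
      ext x; simp
    · rw [Finset.prod_map]; simp
  · have hS : Ideal.Quotient.mk I S = (N.choose q : A ⧸ I) * Ideal.Quotient.mk I u ^ q := by
      simp only [S, map_sum, map_prod]
      rw [Finset.sum_congr rfl (g := fun _ => Ideal.Quotient.mk I u ^ q) fun t ht => ?_, Finset.sum_const,
        Finset.card_powersetCard, nsmul_eq_mul, ← hN]
      rw [Finset.prod_congr rfl (g := fun _ => Ideal.Quotient.mk I u) fun g _ => (Ideal.Quotient.eq.mpr (hu g)),
        Finset.prod_const, (Finset.mem_powersetCard.mp ht).2]
    rw [Algebra.smul_def, map_mul, hS, ← map_natCast (Ideal.Quotient.mk I), ← map_natCast (algebraMap k A),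
      ← mul_assoc, ← map_mul, ← map_mul, inv_mul_cancel₀ hc, map_one, map_one, one_mul]

end Groth.Agent.S13061
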