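import Groth.Statements.S13070
import Groth.Agent.ZetaLib.PointBound

set_option autoImplicit false
universe u
open CategoryTheory AlgebraicGeometry
open Zeta

namespace Groth.Agent.S13070

/-- For an arithmetic scheme X (of finite type over ℤ) of dimension r there are c_X > 0 and p₀ such that
#X(F_{p^m}) ≤ c_X p^{m(r−1)} for all primes p ≥ p₀ and m ≥ 1, and #X(F_{p^m}) ≤ c_X p^{mr} for p <
p₀ and m ≥ 1. Here #X(F) is the number of morphisms Spec F → X, and the dimension is only assumed ≤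
r. -/
theorem result {X : Scheme.{u}}
    (f : X ⟶ Spec (CommRingCat.of (ULift.{u} ℤ))) [LocallyOfFiniteType f] [QuasiCompact f] (r : ℕ)
    (hr : topologicalKrullDim X ≤ r) :
    ∃ (c : ℝ) (p₀ : ℕ), 0 < c ∧ ∀ (p m : ℕ), p.Prime → 1 ≤ m →
      ∀ (F : Type u) [Field F], Nat.card F = p ^ m →
        (p₀ ≤ p → (Nat.card (Spec (CommRingCat.of F) ⟶ X) : ℝ) ≤
            c * (p : ℝ) ^ ((m : ℝ) * ((r : ℝ) - 1))) ∧
        (p < p₀ → (Nat.card (Spec (CommRingCat.of F) ⟶ X) : ℝ) ≤ c * (p : ℝ) ^ ((m : ℝ) * r)) := by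
  classical
  have : CompactSpace X := QuasiCompact.compactSpace_of_compactSpace f
  let 𝒰 := X.affineCover.finiteSubcover
  let A : 𝒰.I₀ → CommRingCat.{u} := fun i => Γ(𝒰.X i, ⊤)
  have hft : ∀ i, Algebra.FiniteType ℤ (A i) := fun i => by
    let φ := (Scheme.ΓSpecIso (CommRingCat.of (ULift.{u} ℤ))).inv ≫ (𝒰.f i ≫ f).appTop
    have h1 : φ.hom.FiniteType := by
      have h2 : LocallyOfFiniteType (𝒰.f i ≫ f) := inferInstance
      have h3 := (HasRingHomProperty.iff_of_isAffine (P := @LocallyOfFiniteType) (f := 𝒰.f i ≫ f)).mp h2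
      rw [CommRingCat.hom_comp]
      exact h3.comp (RingHom.FiniteType.of_surjective _
        (ConcreteCategory.bijective_of_isIso (Scheme.ΓSpecIso (CommRingCat.of (ULift.{u} ℤ))).inv).2)
    let ψ : ℤ →+* A i := φ.hom.comp (ULift.ringEquiv (R := ℤ)).symm.toRingHom
    have h4 : ψ.FiniteType := h1.comp (RingHom.FiniteType.of_surjective _ (ULift.ringEquiv (R := ℤ)).symm.surjective)
    rw [RingHom.eq_intCast' ψ] at h4
    exact RingHom.finiteType_algebraMap.mp ((RingHom.eq_intCast' (algebraMap ℤ (A i))).symm ▸ h4)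
  have hdim : ∀ i, ringKrullDim (A i) ≤ r := fun i => by
    have h1 := (𝒰.f i).isOpenEmbedding.isInducing.topologicalKrullDim_le
    have h2 := ((𝒰.X i).isoSpec.inv).isOpenEmbedding.isInducing.topologicalKrullDim_le
    have h3 := (h2.trans h1).trans hr
    rw [← PrimeSpectrum.topologicalKrullDim_eq_ringKrullDim]
    exact h3
  choose N p₁ hgen using fun i => @Groth.Agent.ZetaLib.exists_bound.{u} (A i) _ (hft i) r (hdim i)
  let P₀ := ∑ i, p₁ i
  choose M hsmall using fun (ip : 𝒰.I₀ × Fin P₀) => fun (hp : Nat.Prime ip.2) =>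
    @Groth.Agent.ZetaLib.exists_bound_prime.{u} (A ip.1) _ (hft ip.1) r (hdim ip.1) ip.2 hp
  let C : ℕ := (∑ i, N i) + (∑ ip : 𝒰.I₀ × Fin P₀, if hp : Nat.Prime ip.2 then M ip hp else 0) + 1
  refine ⟨C, P₀, by positivity, fun p m hp hm F _ hF => ?_⟩
  have hfinF : Finite F := Nat.finite_of_card_ne_zero (hF ▸ pow_ne_zero _ hp.ne_zero)
  have hchar := Groth.Agent.ZetaLib.natCast_eq_zero_of_card hp (by omega) hF
  -- points factor through the affine pieces
  let g : (Σ i, Spec (CommRingCat.of F) ⟶ 𝒰.X i) → (Spec (CommRingCat.of F) ⟶ X) := fun x => x.2 ≫ 𝒰.f x.1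
  have hg : Function.Surjective g := fun h => by
    obtain ⟨i, y, hy⟩ := 𝒰.exists_eq (h (IsLocalRing.closedPoint F))
    refine ⟨⟨i, IsOpenImmersion.lift (𝒰.f i) h ?_⟩, IsOpenImmersion.lift_fac _ _ _⟩
    rintro _ ⟨z, rfl⟩
    rw [Subsingleton.elim z (IsLocalRing.closedPoint F)]
    exact ⟨y, hy⟩
  have e : ∀ i, (Spec (CommRingCat.of F) ⟶ 𝒰.X i) ≃ (A i →+* F) := fun i =>
    ((Iso.homCongr (Iso.refl _) (𝒰.X i).isoSpec).trans
      (Spec.homEquiv : (Spec (CommRingCat.of F) ⟶ Spec (A i)) ≃ (A i ⟶ CommRingCat.of F))).trans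
      (⟨fun q => q.hom, fun q => ConcreteCategory.ofHom q, fun _ => rfl, fun _ => rfl⟩ :
        (A i ⟶ CommRingCat.of F) ≃ (A i →+* F))
  have hfin : ∀ i, Finite (Spec (CommRingCat.of F) ⟶ 𝒰.X i) := fun i =>
    have := @Groth.Agent.ZetaLib.finite_ringHom (A i) _ (hft i) F _ _
    Finite.of_equiv _ (e i).symm
  have hcard : (Nat.card (Spec (CommRingCat.of F) ⟶ X) : ℝ) ≤ ∑ i, (Nat.card (A i →+* F) : ℝ) := by
    have h1 := (Nat.card_le_card_of_surjective g hg).trans_eq Nat.card_sigma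
    rw [Finset.sum_congr rfl fun i _ => Nat.card_congr (e i)] at h1
    exact_mod_cast h1
  have hq : (Nat.card F : ℝ) = (p : ℝ) ^ (m : ℝ) := by rw [hF]; push_cast; rw [Real.rpow_natCast]
  constructor
  · intro hp0
    refine hcard.trans ?_
    rw [Real.rpow_mul (Nat.cast_nonneg p), ← hq]
    refine (Finset.sum_le_sum (g := fun i => (N i : ℝ) * (Nat.card F : ℝ) ^ ((r : ℝ) - 1)) fun i hi =>
      hgen i P₀ (Finset.single_le_sum (fun j _ => Nat.zero_le (p₁ j)) hi) p hp F hchar hp0).trans ?_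
    rw [← Finset.sum_mul, ← Nat.cast_sum]
    refine mul_le_mul_of_nonneg_right (Nat.cast_le.mpr (by omega)) ?_
    exact Real.rpow_nonneg (Nat.cast_nonneg _) _
  · intro hp0
    refine hcard.trans ?_
    rw [Real.rpow_mul (Nat.cast_nonneg p), ← hq, Real.rpow_natCast]
    refine (Finset.sum_le_sum (g := fun i => (M (i, ⟨p, hp0⟩) hp : ℝ) * (Nat.card F : ℝ) ^ r) fun i hi => by
      exact_mod_cast hsmall (i, ⟨p, hp0⟩) hp F hchar).trans ?_
    rw [← Finset.sum_mul, ← Nat.cast_sum]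
    refine mul_le_mul_of_nonneg_right (Nat.cast_le.mpr ?_) (by positivity)
    have : ∑ i, M (i, ⟨p, hp0⟩) hp ≤ ∑ ip : 𝒰.I₀ × Fin P₀, if hp : Nat.Prime ip.2 then M ip hp else 0 := by
      rw [Fintype.sum_prod_type]
      refine Finset.sum_le_sum fun i _ => ?_
      refine le_trans (by rw [dif_pos hp]) (Finset.single_le_sum
        (f := fun j : Fin P₀ => if hp : Nat.Prime j then M (i, j) hp else 0) (fun _ _ => Nat.zero_le _)
        (Finset.mem_univ (⟨p, hp0⟩ : Fin P₀)))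
    omega

end Groth.Agent.S13070
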