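import Groth.Statements.S13062
import Groth.Agent.S13070
import Groth.Agent.ZetaLib.Points

set_option autoImplicit false
universe u
open CategoryTheory AlgebraicGeometry
open Zeta

namespace Groth.Agent.S13062

theorem locallyOfFiniteType_toInt (k : Type u) [Field k] [Finite k] :
    LocallyOfFiniteType (Spec.map (CommRingCat.ofHom ((Int.castRingHom k).comp (ULift.ringEquiv : ULift.{u} ℤ ≃+* ℤ).toRingHom))) := by
  refine (HasRingHomProperty.Spec_iff (P := @LocallyOfFiniteType)).2 ?_
  have h : (Int.castRingHom k).FiniteType := by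
    rw [← RingHom.eq_intCast' (algebraMap ℤ k), RingHom.finiteType_algebraMap]
    exact Algebra.FiniteType.trans (R := ℤ) (S := ℤ) inferInstance inferInstance
  exact h.comp (RingHom.FiniteType.of_surjective _ (ULift.ringEquiv : ULift.{u} ℤ ≃+* ℤ).surjective)

theorem finite_hom {k : Type u} [Field k] [Finite k] {X : Scheme.{u}}
    (f : X ⟶ Spec (CommRingCat.of k)) [LocallyOfFiniteType f] [QuasiCompact f] (F : Type u) [Field F] [Finite F] :
    Finite (Spec (CommRingCat.of F) ⟶ X) := by
  have : Finite (k →+* F) := Finite.of_injective _ DFunLike.coe_injective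
  have : ∀ σ : k →+* F, Finite {g : Spec (CommRingCat.of F) ⟶ X // g ≫ f = Spec.map (CommRingCat.ofHom σ)} := fun σ =>
    letI := σ.toAlgebra
    ZetaLib.finite_pts f F
  refine Finite.of_surjective
    (fun s : Σ σ : k →+* F, {g : Spec (CommRingCat.of F) ⟶ X // g ≫ f = Spec.map (CommRingCat.ofHom σ)} => s.2.1) fun g => ?_
  exact ⟨⟨(Spec.preimage (g ≫ f)).hom, g, (Spec.map_preimage _).symm⟩, rfl⟩


/-- If X is a variety of dimension r over a finite field k with q elements, there is a constant c_X > 0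
with #X(F_{q^e}) ≤ c_X q^{re} for every e ≥ 1. Stated for any scheme of finite type over k of
dimension at most r, with a natural-number constant. -/
theorem result {k : Type u} [Field k] [Finite k] {X : Scheme.{u}}
    (f : X ⟶ Spec (CommRingCat.of k)) [LocallyOfFiniteType f] [QuasiCompact f] (r : ℕ)
    (hr : topologicalKrullDim X ≤ r) :
    ∃ c : ℕ, ∀ (k' : Type u) [Field k'] [Algebra k k'] [Finite k'],
      SgaExt.pointCount f k' ≤ c * Nat.card k ^ (r * Module.finrank k k') := by
  let t := Spec.map (CommRingCat.ofHom ((Int.castRingHom k).comp (ULift.ringEquiv : ULift.{u} ℤ ≃+* ℤ).toRingHom))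
  have := locallyOfFiniteType_toInt k
  obtain ⟨c, p₀, hc, h⟩ := Groth.Agent.S13070.result (f ≫ t) r hr
  refine ⟨⌈c⌉₊, fun k' _ _ _ => ?_⟩
  obtain ⟨p, hp⟩ := CharP.exists k'
  have hpp : p.Prime := CharP.char_is_prime k' p
  have : Fintype k' := Fintype.ofFinite k'
  obtain ⟨m, _, hm⟩ := FiniteField.card k' p
  have hcard : Nat.card k' = p ^ (m : ℕ) := by rw [Nat.card_eq_fintype_card, hm]
  obtain ⟨h1, h2⟩ := h p m hpp m.2 k' hcard
  have hall : (Nat.card (Spec (CommRingCat.of k') ⟶ X) : ℝ) ≤ c * (p : ℝ) ^ ((m : ℝ) * r) := by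
    rcases le_or_gt p₀ p with hle | hlt
    · refine (h1 hle).trans (mul_le_mul_of_nonneg_left ?_ hc.le)
      refine Real.rpow_le_rpow_of_exponent_le (by exact_mod_cast hpp.one_le) ?_
      nlinarith [Nat.cast_nonneg (α := ℝ) (m : ℕ)]
    · exact h2 hlt
  have := finite_hom f k'
  have hle : SgaExt.pointCount f k' ≤ Nat.card (Spec (CommRingCat.of k') ⟶ X) :=
    Nat.card_le_card_of_injective _ Subtype.val_injective
  have : Module.Finite k k' := Module.Finite.of_finite
  rw [mul_comm r, pow_mul, ← Module.natCard_eq_pow_finrank (K := k) (V := k'), hcard]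
  have h3 : ((SgaExt.pointCount f k' : ℕ) : ℝ) ≤ ((⌈c⌉₊ * (p ^ (m : ℕ)) ^ r : ℕ) : ℝ) := by
    refine (Nat.cast_le.2 hle).trans (hall.trans ?_)
    push_cast
    rw [Real.rpow_mul (Nat.cast_nonneg p), Real.rpow_natCast, Real.rpow_natCast]
    exact mul_le_mul_of_nonneg_right (Nat.le_ceil c) (by positivity)
  exact_mod_cast h3

end Groth.Agent.S13062
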