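import Groth.Statements.S13065
import Mathlib
import Groth.Prelude

set_option linter.all false

set_option autoImplicit false
universe u
open Zeta

open DualNumber Pointwise

namespace Groth.Agent.S13065

/-- Let k be a finite field with q elements and characteristic p, n ≥ 2, and f ∈ k[x_0, …, x_n]
homogeneous of degree n + 1, defining the hypersurface Z ⊂ P^n_k. Then #Z(F_q) ≢ 1 (mod p) if and
only if the coefficient of (x_0 ⋯ x_n)^{q−1} in f^{q−1} is nonzero. Stated through the affine count:
#Z(F_q) ≡ 1 (mod p) exactly when p divides the number of zeros of f in k^{n+1} (as (q − 1) #Z(F_q) +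
1 is that number). -/
theorem result {k : Type u} [Field k] [Finite k] (p : ℕ)
    [CharP k p] (n : ℕ) (hn : 2 ≤ n) (f : MvPolynomial (Fin (n + 1)) k)
    (hf : f.IsHomogeneous (n + 1)) :
    p ∣ Nat.card {a : Fin (n + 1) → k // MvPolynomial.eval a f = 0} ↔
      MvPolynomial.coeff (Finsupp.equivFunOnFinite.symm fun _ : Fin (n + 1) => Nat.card k - 1)
        (f ^ (Nat.card k - 1)) = 0 := by
  classical
  haveI := Fintype.ofFinite k
  rw [Nat.card_eq_fintype_card (α := k), ← CharP.cast_eq_zero_iff k p, Nat.card_eq_fintype_card, Fintype.card_subtype]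
  set q := Fintype.card k
  have hq : 1 < q := Fintype.one_lt_card
  set g := f ^ (q - 1)
  set c := Finsupp.equivFunOnFinite.symm fun _ : Fin (n + 1) => q - 1
  have h1 : (∑ a : Fin (n + 1) → k, MvPolynomial.eval a g) = g.coeff c * (-1) ^ (n + 1) := by
    simp only [MvPolynomial.eval_eq']
    rw [Finset.sum_comm]
    have hterm : ∀ d : Fin (n + 1) →₀ ℕ, ∑ a : Fin (n + 1) → k, g.coeff d * ∏ i, a i ^ d i = g.coeff d * ∏ i, ∑ x : k, x ^ d i := fun d => by
      rw [← Finset.mul_sum, Fintype.prod_sum]
    simp only [hterm]
    have hc : ∀ i, c i = q - 1 := fun i => by simp [c]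
    have hS : (∑ x : k, x ^ (q - 1)) = -1 := by
      rw [← Finset.sum_erase_add _ _ (Finset.mem_univ (0 : k)), zero_pow (by omega), add_zero,
        Finset.sum_congr rfl fun x hx => FiniteField.pow_card_sub_one_eq_one x (Finset.ne_of_mem_erase hx)]
      rw [Finset.sum_const, Finset.card_erase_of_mem (Finset.mem_univ _), Finset.card_univ, nsmul_one, Nat.cast_sub hq.le, FiniteField.cast_card_eq_zero, Nat.cast_one, zero_sub]
    rw [Finset.sum_eq_single c]
    · simp [hc, hS]
    · intro d hd hne
      have hdeg : d.degree = (n + 1) * (q - 1) := by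
        have := (hf.pow (q - 1)) (MvPolynomial.mem_support_iff.1 hd)
        rw [Finsupp.degree_eq_weight_one]; exact this
      have : ∃ i, d i < q - 1 := by
        by_contra hcon
        push Not at hcon
        apply hne
        ext i
        rw [hc]
        have hs : ∑ i, d i = ∑ _i : Fin (n + 1), (q - 1) := by
          rw [← Finsupp.degree_eq_sum, hdeg]; simp
        exact ((Finset.sum_eq_sum_iff_of_le fun j _ => hcon j).1 hs.symm i (Finset.mem_univ i)).symm
      obtain ⟨i, hi⟩ := this
      rw [Finset.prod_eq_zero (Finset.mem_univ i) (FiniteField.sum_pow_lt_card_sub_one k _ hi), mul_zero]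
    · intro h; simp [MvPolynomial.notMem_support_iff.1 h]
  have h2 : ((Finset.univ.filter fun a : Fin (n + 1) → k => MvPolynomial.eval a f = 0).card : k) = - ∑ a : Fin (n + 1) → k, MvPolynomial.eval a g := by
    rw [Finset.card_filter, Nat.cast_sum]
    have : ∀ a : Fin (n + 1) → k, ((if MvPolynomial.eval a f = 0 then 1 else 0 : ℕ) : k) = 1 - MvPolynomial.eval a g := fun a => by
      rw [map_pow]
      split_ifs with h
      · rw [h, zero_pow (by omega)]; simp
      · rw [FiniteField.pow_card_sub_one_eq_one _ h]; simp
    simp only [this, Finset.sum_sub_distrib, Finset.sum_const, Finset.card_univ, nsmul_one]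
    rw [Fintype.card_fun, Nat.cast_pow, FiniteField.cast_card_eq_zero, zero_pow (by simp), zero_sub]
  rw [h2, h1, neg_eq_zero, mul_eq_zero]
  simp

end Groth.Agent.S13065
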