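import Groth.Statements.S13066
import Mathlib
import Groth.Prelude

set_option linter.all false

set_option autoImplicit false
universe u
open Zeta

open DualNumber Pointwise

namespace Groth.Agent.S13066

/-- Let k be a finite field with q elements and characteristic p, n ≥ 2, and f ∈ k[x_0, …, x_n]
homogeneous of degree n + 1. Then the coefficient of (x_0 ⋯ x_n)^{q−1} in f^{q−1} is nonzero if and
only if the coefficient of (x_0 ⋯ x_n)^{p−1} in f^{p−1} is nonzero. -/
theorem result {k : Type u} [Field k] [Finite k]
    (p : ℕ) [CharP k p] (n : ℕ) (hn : 2 ≤ n) (f : MvPolynomial (Fin (n + 1)) k)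
    (hf : f.IsHomogeneous (n + 1)) :
    MvPolynomial.coeff (Finsupp.equivFunOnFinite.symm fun _ : Fin (n + 1) => Nat.card k - 1)
        (f ^ (Nat.card k - 1)) ≠ 0 ↔
      MvPolynomial.coeff (Finsupp.equivFunOnFinite.symm fun _ : Fin (n + 1) => p - 1)
        (f ^ (p - 1)) ≠ 0 := by
  classical
  haveI := Fintype.ofFinite k
  obtain ⟨⟨e, he⟩, hp, hq⟩ := FiniteField.card k p
  haveI : ExpChar k p := ExpChar.prime hp
  rw [Nat.card_eq_fintype_card, hq]
  let c : ℕ → (Fin (n + 1) →₀ ℕ) := fun j => Finsupp.equivFunOnFinite.symm fun _ : Fin (n + 1) => p ^ j - 1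
  let C : ℕ → k := fun j => (f ^ (p ^ j - 1)).coeff (c j)
  have hc : ∀ j i, c j i = p ^ j - 1 := fun j i => by simp [c]
  have hp1 : 1 < p := hp.one_lt
  have hstep : ∀ j, C (j + 1) = C j ^ p * C 1 := by
    intro j
    have h1 : 1 ≤ p ^ j := Nat.one_le_pow _ _ hp.pos
    have hexp : p ^ (j + 1) - 1 = (p ^ j - 1) * p + (p - 1) := by
      rw [pow_succ, Nat.sub_mul, one_mul]
      have : p ≤ p ^ j * p := Nat.le_mul_of_pos_left _ h1
      omega
    show (f ^ (p ^ (j + 1) - 1)).coeff (c (j + 1)) = _
    rw [hexp, pow_add, pow_mul, ← MvPolynomial.map_frobenius_expand p, MvPolynomial.coeff_mul]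
    rw [Finset.sum_eq_single (p • c j, c 1)]
    · rw [MvPolynomial.coeff_map, MvPolynomial.coeff_expand_smul p hp.ne_zero, frobenius_def]
      simp [C]
    · rintro ⟨a, b⟩ hab hne
      rw [Finset.HasAntidiagonal.mem_antidiagonal] at hab
      by_cases hb : (f ^ (p - 1)).coeff b = 0
      · simp [hb]
      by_cases ha : ∀ i, p ∣ a i
      swap
      · push Not at ha
        obtain ⟨i, hi⟩ := ha
        rw [MvPolynomial.coeff_map, MvPolynomial.coeff_expand_of_not_dvd _ hi, map_zero, zero_mul]
      exfalso
      apply hne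
      have hdeg : b.degree = (n + 1) * (p - 1) := by
        have := (hf.pow (p - 1)) hb
        rw [Finsupp.degree_eq_weight_one]; exact this
      have hbi : ∀ i, p - 1 ≤ b i := fun i => by
        have h := congrArg (fun z => z i) hab
        simp only [Finsupp.add_apply, hc] at h
        rw [hexp] at h
        obtain ⟨t, ht⟩ := ha i
        rw [ht] at h
        by_contra hlt
        have : (p ^ j - 1) * p + (p - 1) = p * t + b i := h.symm
        have h3 := congrArg (· % p) this
        simp [Nat.add_mod, Nat.mul_mod_left, Nat.mul_mod_right, Nat.mod_eq_of_lt (show p - 1 < p by omega), Nat.mod_eq_of_lt (show b i < p by omega)] at h3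
        omega
      have hb1 : b = c 1 := by
        have hs : ∑ i, b i = ∑ _i : Fin (n + 1), (p - 1) := by
          rw [← Finsupp.degree_eq_sum, hdeg]; simp
        ext i
        rw [hc, pow_one]
        exact ((Finset.sum_eq_sum_iff_of_le fun j _ => hbi j).1 hs.symm i (Finset.mem_univ i)).symm
      subst hb1
      refine Prod.ext ?_ rfl
      ext i
      have h := congrArg (fun z => z i) hab
      simp only [Finsupp.add_apply, hc, pow_one] at h
      rw [hexp] at h
      simp only [Finsupp.smul_apply, hc, smul_eq_mul]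
      rw [mul_comm]; omega
    · intro h
      refine absurd (Finset.HasAntidiagonal.mem_antidiagonal.2 ?_) h
      ext i
      simp only [Finsupp.add_apply, Finsupp.smul_apply, hc, smul_eq_mul, pow_one]
      rw [hexp, mul_comm]
  have hC : ∀ j, C (j + 1) ≠ 0 ↔ C 1 ≠ 0 := by
    intro j
    induction j with
    | zero => rfl
    | succ j ih =>
      rw [hstep (j + 1)]
      simp only [ne_eq, mul_eq_zero, pow_eq_zero_iff hp.ne_zero]
      simp only [ne_eq] at ih
      tauto
  have := hC (e - 1)
  rw [Nat.sub_add_cancel he] at this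
  simpa [C, c] using this

end Groth.Agent.S13066
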