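import Groth.Statements.S13068
import Groth.Agent.Zeta24.PicDiv
import Groth.Agent.Zeta24.Genus
import Groth.Agent.Zeta24.Count
import Groth.Agent.FF.ZetaPoly
import Groth.Agent.FF.ZetaCount
import Groth.Agent.ZetaLib.Formal

set_option autoImplicit false
universe u
open CategoryTheory AlgebraicGeometry
open Zeta

namespace Groth.Agent.S13068

/-- Let X be a smooth, geometrically connected, projective curve of genus g over F_q (here: smooth
proper geometrically irreducible, of dimension one). Then Z(X, t) = f(t) / ((1 − t)(1 − qt)) with f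
∈ ℤ[t] of degree ≤ 2g, f(0) = 1 and f(1) = h, where h is the number of isomorphism classes of line
bundles of degree zero on X (the number of k-points of the Jacobian). -/
theorem result (k : Type u) [Field k] [Finite k]
    (X : Scheme.{u}) [X.Over (Spec (CommRingCat.of k))]
    (hX : Curve.IsSmoothProperCurve k X (X ↘ Spec (CommRingCat.of k)))
    [GeometricallyIrreducible (X ↘ Spec (CommRingCat.of k))] :
    ∃ P : Polynomial ℤ, P.natDegree ≤ 2 * Curv2.genus k X ∧ P.coeff 0 = 1 ∧
      P.eval 1 = Nat.card {c : PicF.Cl X // ∃ L : X.Modules, PicF.cl L = c ∧ PicF.IsInvertible L ∧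
          Curv2.deg k X L 1 = 0} ∧
      Zeta.zetaFun (X ↘ Spec (CommRingCat.of k)) *
          ((1 - PowerSeries.X) * (1 - PowerSeries.C (Nat.card k : ℚ) * PowerSeries.X)) =
        ((P.map (Int.castRingHom ℚ) : Polynomial ℚ) : PowerSeries ℚ) := by
  classical
  obtain ⟨hp, hs, hi, hdim⟩ := hX
  letI : Algebra k X.functionField := (Curv2.stalkMap k X (genericPoint X)).toAlgebra
  have hK := Zeta24.isFunctionField (k := k) hdim rfl
  set f := X ↘ Spec (CommRingCat.of k)
  have hg : Curv2.genus k X = FunFld.genus k X.functionField := Zeta24.finrank_h1 hdim rfl hK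
  obtain ⟨p, hp, hpd, hpc⟩ := FF.exists_poly hK
  refine ⟨p, by rw [hg]; exact hpd, by rw [hpc 0]; exact FF.numC_zero hK, ?_, ?_⟩
  · rw [FF.eval_one_eq_classNum hK p hp, FF.classNum_eq hK, ← Zeta24.natCard_degCl hdim rfl hK 0,
      Nat.card_congr (Zeta24.clEquiv k 0)]
  · have hz : Zeta.zetaFun f = PowerSeries.map (Int.castRingHom ℚ) (FunFld.zetaZ k X.functionField) := by
      apply PowerSeries.map_injective (algebraMap ℚ ℂ) (algebraMap ℚ ℂ).injective
      obtain ⟨h1, h0⟩ := ZetaLib.zeta_ode f
      refine FF.eq_of_theta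
        (G := PowerSeries.mk fun n => if n = 0 then 0 else (FF.NN k X.functionField n : ℂ)) ?_ ?_ ?_ ?_
      · simp
      · rw [PowerSeries.coeff_map, PowerSeries.coeff_map, PowerSeries.coeff_map,
          PowerSeries.coeff_zero_eq_constantCoeff_apply, h0]
        simp [FunFld.zetaZ, FF.effDivCount_zero hK]
      · have hG : (PowerSeries.mk fun n => if n = 0 then 0 else (FF.NN k X.functionField n : ℂ)) =
            PowerSeries.X * PowerSeries.map (algebraMap ℚ ℂ) (ZetaLib.lam f) := by
          refine PowerSeries.ext fun n => ?_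
          rcases n with _ | n
          · simp
          · rw [PowerSeries.coeff_succ_X_mul, PowerSeries.coeff_map, PowerSeries.coeff_mk, ZetaLib.lam,
              PowerSeries.coeff_mk, if_neg (Nat.succ_ne_zero n), Zeta24.nPts_eq_NN hdim rfl hK (Nat.succ_ne_zero n)]
            simp
        have hd : ∀ φ : PowerSeries ℚ, PowerSeries.derivative ℂ (PowerSeries.map (algebraMap ℚ ℂ) φ) =
            PowerSeries.map (algebraMap ℚ ℂ) (PowerSeries.derivative ℚ φ) := fun φ =>
          PowerSeries.ext fun n => by simp [PowerSeries.coeff_derivative]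
        rw [hG, FF.theta_eq, hd, h1, neg_neg, map_mul]
        ring
      · have : PowerSeries.map (algebraMap ℚ ℂ) (PowerSeries.map (Int.castRingHom ℚ) (FunFld.zetaZ k X.functionField)) =
            FF.zetaC k X.functionField := PowerSeries.ext fun n => by simp [FF.zetaC]
        rw [this]
        exact FF.theta_zetaC hK
    rw [Polynomial.polynomial_map_coe, hp, hz, FunFld.numerZ]
    simp only [map_mul, map_sub, map_one, map_natCast, PowerSeries.map_X, PowerSeries.map_C]
    ring

end Groth.Agent.S13068
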