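import Groth.Statements.S13069
import Groth.Agent.Zeta24.PicFinite

set_option autoImplicit false
universe u
open CategoryTheory AlgebraicGeometry
open Zeta

namespace Groth.Agent.S13069

/-- If X is a smooth, geometrically connected, projective curve over F_q (here: smooth proper
geometrically irreducible of dimension one over a finite field k), then all the sets Pic^m(X) of
isomorphism classes of line bundles of degree m, m ∈ ℤ, have the same finite nonzero number of
elements. -/
theorem result (k : Type u) [Field k] [Finite k]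
    (X : Scheme.{u}) [X.Over (Spec (CommRingCat.of k))]
    (hX : Curve.IsSmoothProperCurve k X (X ↘ Spec (CommRingCat.of k)))
    [GeometricallyIrreducible (X ↘ Spec (CommRingCat.of k))] (m : ℤ) :
    Finite {c : PicF.Cl X // ∃ L : X.Modules, PicF.cl L = c ∧ PicF.IsInvertible L ∧
        Curv2.deg k X L 1 = m} ∧
      Nonempty {c : PicF.Cl X // ∃ L : X.Modules, PicF.cl L = c ∧ PicF.IsInvertible L ∧
        Curv2.deg k X L 1 = m} ∧
      Nat.card {c : PicF.Cl X // ∃ L : X.Modules, PicF.cl L = c ∧ PicF.IsInvertible L ∧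
          Curv2.deg k X L 1 = m} =
        Nat.card {c : PicF.Cl X // ∃ L : X.Modules, PicF.cl L = c ∧ PicF.IsInvertible L ∧
          Curv2.deg k X L 1 = 0} := by
  classical
  obtain ⟨hp, hs, hi, hdim⟩ := hX
  obtain ⟨a, ha⟩ := Groth.Agent.Zeta24.exists_degCl_eq k hdim m
  obtain ⟨b, hb⟩ := Groth.Agent.Zeta24.exists_mul_eq_one k a
  have hbd : Groth.Agent.Zeta24.degCl k b = -m := by
    have h1 : Groth.Agent.Zeta24.degCl k (1 : Groth.Agent.EulerLib.InvCl X) = 0 := Groth.Agent.CurveRR24.deg_structure k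
    rw [← hb, Groth.Agent.Zeta24.degCl_mul k hdim.le, ha] at h1
    omega
  haveI : Finite {c : Groth.Agent.EulerLib.InvCl X // Groth.Agent.Zeta24.degCl k c = m} :=
    (Groth.Agent.Zeta24.finite_degCl k hdim m).to_subtype
  refine ⟨Finite.of_equiv _ (Groth.Agent.Zeta24.clEquiv k m), (Groth.Agent.Zeta24.clEquiv k m).nonempty_congr.1 ⟨⟨a, ha⟩⟩, ?_⟩
  rw [← Nat.card_congr (Groth.Agent.Zeta24.clEquiv k m), ← Nat.card_congr (Groth.Agent.Zeta24.clEquiv k 0)]
  exact Nat.card_congr
    { toFun := fun c => ⟨c.1 * b, by rw [Groth.Agent.Zeta24.degCl_mul k hdim.le, c.2, hbd]; omega⟩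
      invFun := fun c => ⟨c.1 * a, by rw [Groth.Agent.Zeta24.degCl_mul k hdim.le, c.2, ha]; omega⟩
      left_inv := fun c => Subtype.ext (show c.1 * b * a = c.1 by rw [mul_assoc, mul_comm b, hb, mul_one])
      right_inv := fun c => Subtype.ext (show c.1 * a * b = c.1 by rw [mul_assoc, hb, mul_one]) }

end Groth.Agent.S13069
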