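import Groth.Statements.S13071
import Mathlib
-- import your own Groth.Agent.* helpers here

set_option autoImplicit false
universe u
open CategoryTheory AlgebraicGeometry Limits
open Zeta

namespace Groth.Agent.S13071

/-- For a variety X over a perfect field k with algebraic closure k̄, the fibres of the projection π :
X_{k̄} → X are exactly the orbits of G(k̄/k) acting on X_{k̄} (σ acting as id × Spec σ). Stated for
any scheme of finite type over k; each τ_σ is pinned by τ_σ ≫ pr_1 = pr_1 and τ_σ ≫ pr_2 = pr_2 ≫
Spec σ. -/
theorem result {k : Type u} [Field k] [PerfectField k]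
    {X : Scheme.{u}} (f : X ⟶ Spec (CommRingCat.of k)) [LocallyOfFiniteType f] [QuasiCompact f]
    (τ : (AlgebraicClosure k ≃ₐ[k] AlgebraicClosure k) →
      (pullback f (Spec.map (CommRingCat.ofHom (algebraMap k (AlgebraicClosure k)))) ⟶
        pullback f (Spec.map (CommRingCat.ofHom (algebraMap k (AlgebraicClosure k))))))
    (hτ1 : ∀ σ, τ σ ≫ pullback.fst f _ = pullback.fst f _)
    (hτ2 : ∀ σ, τ σ ≫ pullback.snd f (Spec.map (CommRingCat.ofHom (algebraMap k (AlgebraicClosure k)))) =
        pullback.snd f _ ≫ Spec.map (CommRingCat.ofHom (σ : AlgebraicClosure k →+* AlgebraicClosure k)))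
    (x y : ↑(pullback f (Spec.map (CommRingCat.ofHom (algebraMap k (AlgebraicClosure k)))))) :
    (pullback.fst f (Spec.map (CommRingCat.ofHom (algebraMap k (AlgebraicClosure k))))).base x =
        (pullback.fst f (Spec.map (CommRingCat.ofHom (algebraMap k (AlgebraicClosure k))))).base y ↔
      ∃ σ, (τ σ).base x = y := by
  constructor
  · intro h
    set p := pullback.fst f (Spec.map (CommRingCat.ofHom (algebraMap k (AlgebraicClosure k)))) with hp
    obtain ⟨z, hzl, hzr⟩ := Scheme.Pullback.exists_preimage_pullback (f := p) (g := p) x y h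
    let W : Scheme.{u} := pullback p p
    let a := W.fromSpecResidueField z ≫ pullback.fst p p
    let b := W.fromSpecResidueField z ≫ pullback.snd p p
    have hab : a ≫ p = b ≫ p := by simp only [a, b, Category.assoc, pullback.condition]
    let i := Spec.preimage (a ≫ pullback.snd f _)
    let j := Spec.preimage (b ≫ pullback.snd f _)
    have hij : CommRingCat.ofHom (algebraMap k (AlgebraicClosure k)) ≫ i =
        CommRingCat.ofHom (algebraMap k (AlgebraicClosure k)) ≫ j := by
      apply Spec.map_injective
      simp only [Spec.map_comp, i, j, Spec.map_preimage, Category.assoc, ← pullback.condition]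
      exact (reassoc_of% hab) f
    letI : Algebra (AlgebraicClosure k) (W.residueField z) := i.hom.toAlgebra
    letI : Algebra k (W.residueField z) := (i.hom.comp (algebraMap k (AlgebraicClosure k))).toAlgebra
    haveI : IsScalarTower k (AlgebraicClosure k) (W.residueField z) := IsScalarTower.of_algebraMap_eq' rfl
    let J : AlgebraicClosure k →ₐ[k] W.residueField z :=
      { j.hom with commutes' := fun r => (congrArg (fun φ => φ.hom r) hij).symm }
    let σ : AlgebraicClosure k ≃ₐ[k] AlgebraicClosure k := J.restrictNormal' (AlgebraicClosure k)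
    have hσ : CommRingCat.ofHom (σ : AlgebraicClosure k →+* AlgebraicClosure k) ≫ i = j :=
      CommRingCat.hom_ext (RingHom.ext fun t => AlgHom.restrictNormal_commutes J (AlgebraicClosure k) t)
    refine ⟨σ, ?_⟩
    have hb : a ≫ τ σ = b := by
      apply pullback.hom_ext
      · rw [Category.assoc, hτ1]
        exact hab
      · rw [Category.assoc, hτ2, ← Category.assoc, ← Spec.map_preimage (a ≫ pullback.snd f _),
          ← Spec.map_comp, hσ, Spec.map_preimage]
    have hs := congrArg (fun φ => φ.base (IsLocalRing.closedPoint (W.residueField z))) hb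
    have h0 := W.fromSpecResidueField_apply z (IsLocalRing.closedPoint (W.residueField z))
    simp only [a, b, Scheme.Hom.comp_base, TopCat.coe_comp, Function.comp_apply] at hs
    rw [← hzl, ← hzr, ← h0]
    exact hs
  · rintro ⟨σ, rfl⟩
    rw [← Scheme.Hom.comp_apply, hτ1]

end Groth.Agent.S13071
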