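import Groth.Statements.S13072
import Groth.Agent.Clifford24.FrobFibre

set_option autoImplicit false
universe u
open CategoryTheory AlgebraicGeometry Limits
open Zeta

namespace Groth.Agent.S13072

/-- Case r = 1, to which the general case reduces by passing to X ×_k F_{q^r}. Let X be a variety over k
= F_q, k̄ an algebraic closure and F = Frob_{X,q} × id the induced endomorphism of X_{k̄}. A closed
subset W ⊆ X_{k̄} is of the form Y_{k̄} for a closed Y ⊆ X (i.e. W = π⁻¹(Y), π the projection) if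
and only if F(W) ⊆ W. Stated for schemes of finite type over k; F_X is pinned as the endomorphism
that is the identity on points and the q-th power on sections, F by F ≫ pr_1 = pr_1 ≫ F_X and F ≫
pr_2 = pr_2. -/
theorem result {k : Type u} [Field k] [Finite k]
    {X : Scheme.{u}} (f : X ⟶ Spec (CommRingCat.of k)) [LocallyOfFiniteType f] [QuasiCompact f]
    (FX : X ⟶ X) (hFb : FX.base = 𝟙 _) (hle : ∀ U : X.Opens, U ≤ FX ⁻¹ᵁ U)
    (hFapp : ∀ (U : X.Opens) (s : Γ(X, U)), (FX.appLE U U (hle U)).hom s = s ^ Nat.card k)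
    (F : FinFr.ext (AlgebraicClosure k) f ⟶ FinFr.ext (AlgebraicClosure k) f)
    (hF1 : F ≫ FinFr.extπ (AlgebraicClosure k) f = FinFr.extπ (AlgebraicClosure k) f ≫ FX)
    (hF2 : F ≫ FinFr.extStr (AlgebraicClosure k) f = FinFr.extStr (AlgebraicClosure k) f)
    (W : Set ↑(FinFr.ext (AlgebraicClosure k) f)) (hW : IsClosed W) :
    (∃ Y : Set X, IsClosed Y ∧ (FinFr.extπ (AlgebraicClosure k) f).base ⁻¹' Y = W) ↔
      F.base '' W ⊆ W := by
  haveI := Fintype.ofFinite k
  set φ := FiniteField.frobeniusAlgEquivOfAlgebraic k (AlgebraicClosure k)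
  have hFz : ∀ z, F z = FinFr.galAct f φ⁻¹ z := by
    intro z
    conv_rhs => rw [← Clifford24.FrobFibre.frobenius_galAct_apply f FX hle hFapp F hF1 hF2 z]
    rw [← Scheme.Hom.comp_apply, Clifford24.FrobFibre.galAct_comp, mul_inv_cancel, Clifford24.FrobFibre.galAct_one]
    rfl
  constructor
  · rintro ⟨Y, -, rfl⟩ _ ⟨z, hz, rfl⟩
    show FinFr.extπ (AlgebraicClosure k) f (F z) ∈ Y
    rw [← Scheme.Hom.comp_apply, hF1, Scheme.Hom.comp_apply,
      show FX (FinFr.extπ (AlgebraicClosure k) f z) = FinFr.extπ (AlgebraicClosure k) f z from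
        (congrArg (fun b : X.carrier ⟶ X.carrier => b (FinFr.extπ (AlgebraicClosure k) f z)) hFb).trans rfl]
    exact hz
  · intro hFW
    haveI : IsIntegralHom (FinFr.specι k (AlgebraicClosure k)) :=
      IsIntegralHom.SpecMap_iff.2 (algebraMap_isIntegral_iff.2 inferInstance)
    refine ⟨_, (FinFr.extπ (AlgebraicClosure k) f).isClosedMap W hW, ?_⟩
    refine Set.Subset.antisymm ?_ (Set.subset_preimage_image _ _)
    rintro z ⟨w, hw, hwz⟩
    obtain ⟨σ, rfl⟩ := Clifford24.FrobFibre.exists_galAct_eq f w z hwz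
    have hpow : ∀ n : ℕ, FinFr.galAct f (φ⁻¹ ^ n) w ∈ W := by
      intro n
      induction n with
      | zero => rw [pow_zero, Clifford24.FrobFibre.galAct_one]; exact hw
      | succ n ih =>
        rw [pow_succ, ← Clifford24.FrobFibre.galAct_comp, Scheme.Hom.comp_apply, ← hFz]
        exact hFW ⟨_, ih, rfl⟩
    refine Clifford24.FrobFibre.galAct_mem_of_isClosed f hW σ (Set.range fun n : ℕ => φ⁻¹ ^ n) (fun s => ?_) w ?_
    · obtain ⟨n, hn⟩ := Clifford24.FrobFibre.exists_pow_inv_eq σ s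
      exact ⟨_, ⟨n, rfl⟩, hn⟩
    · rintro _ ⟨n, rfl⟩
      exact hpow n

end Groth.Agent.S13072
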