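import Groth.Statements.S13079
import Groth.Agent.Quot24.Compose
import Groth.Agent.S2925
import Groth.Agent.S5137
import Groth.Agent.RatCurve29.Points
-- import your own Groth.Agent.* helpers here

set_option autoImplicit false
universe u
open CategoryTheory AlgebraicGeometry Limits
open Zeta

set_option backward.isDefEq.respectTransparency.types false
open Groth.Agent
namespace Groth.Agent.S13079

/-- Suppose the finite groups G and H act by algebraic k-automorphisms on schemes X and Y of finite type
over k, both admitting quotients X → X/G and Y → Y/H (equivalently, covered by invariant affine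
opens). Then X × Y has the same property for the product action of G × H and (X × Y)/(G × H) ≅ X/G ×
Y/H: the morphism X ×_k Y → X/G ×_k Y/H with components the two quotient maps is a quotient for the
product action. The product action θ and that morphism π are pinned by their composites with the
projections. -/
theorem result {k : Type u} [Field k] {G H : Type u} [Group G] [Finite G] [Group H]
    [Finite H] {X Y XG YH : Scheme.{u}} (fX : X ⟶ Spec (CommRingCat.of k))
    (fY : Y ⟶ Spec (CommRingCat.of k)) [LocallyOfFiniteType fX] [QuasiCompact fX]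
    [LocallyOfFiniteType fY] [QuasiCompact fY] (gX : XG ⟶ Spec (CommRingCat.of k))
    (gY : YH ⟶ Spec (CommRingCat.of k)) (ρ : G →* Aut X) (σ : H →* Aut Y)
    (hρ : ∀ g, (ρ g).hom ≫ fX = fX) (hσ : ∀ h, (σ h).hom ≫ fY = fY)
    (p : X ⟶ XG) (hp : p ≫ gX = fX) (q : Y ⟶ YH) (hq : q ≫ gY = fY)
    (hP : SGA1.IsQuot ρ p) (hQ : SGA1.IsQuot σ q)
    (θ : G × H →* Aut (pullback fX fY))
    (hθ1 : ∀ gh : G × H, (θ gh).hom ≫ pullback.fst fX fY = pullback.fst fX fY ≫ (ρ gh.1).hom)
    (hθ2 : ∀ gh : G × H, (θ gh).hom ≫ pullback.snd fX fY = pullback.snd fX fY ≫ (σ gh.2).hom)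
    (π : pullback fX fY ⟶ pullback gX gY) (hπ1 : π ≫ pullback.fst gX gY = pullback.fst fX fY ≫ p)
    (hπ2 : π ≫ pullback.snd gX gY = pullback.snd fX fY ≫ q) :
    SGA1.IsQuot θ π := by
  haveI := RatCurve29.flat_of_field fY
  haveI := RatCurve29.flat_of_field gX
  let P₁ := pullback gX fY
  let π₁ : pullback fX fY ⟶ P₁ := pullback.lift (pullback.fst fX fY ≫ p) (pullback.snd fX fY)
    (by rw [Category.assoc, hp, pullback.condition])
  have π₁f : π₁ ≫ pullback.fst gX fY = pullback.fst fX fY ≫ p := pullback.lift_fst _ _ _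
  have π₁s : π₁ ≫ pullback.snd gX fY = pullback.snd fX fY := pullback.lift_snd _ _ _
  let π₂ : P₁ ⟶ pullback gX gY := pullback.lift (pullback.fst gX fY) (pullback.snd gX fY ≫ q)
    (by rw [Category.assoc, hq, pullback.condition])
  have π₂f : π₂ ≫ pullback.fst gX gY = pullback.fst gX fY := pullback.lift_fst _ _ _
  have π₂s : π₂ ≫ pullback.snd gX gY = pullback.snd gX fY ≫ q := pullback.lift_snd _ _ _
  have hπ : π = π₁ ≫ π₂ := by
    apply pullback.hom_ext
    · rw [hπ1, Category.assoc, π₂f, π₁f]
    · rw [hπ2, Category.assoc, π₂s, ← Category.assoc, π₁s]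
  subst hπ
  -- first stage
  let θ₁ : G →* Aut (pullback fX fY) := θ.comp (MonoidHom.inl G H)
  have h11 : ∀ g : G, (θ₁ g).hom ≫ pullback.fst fX fY = pullback.fst fX fY ≫ (ρ g).hom := fun g => hθ1 (g, 1)
  have h12 : ∀ g : G, (θ₁ g).hom ≫ pullback.snd fX fY = pullback.snd fX fY := fun g => by
    refine (hθ2 (g, 1)).trans ?_
    rw [map_one]
    exact Category.comp_id _
  have sq₁ : IsPullback (pullback.fst fX fY) π₁ p (pullback.fst gX fY) :=
    IsPullback.of_bot (by
      rw [π₁s, hp]; exact IsPullback.of_hasPullback fX fY) π₁f.symm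
      (IsPullback.of_hasPullback gX fY)
  have hQ₁ : SGA1.IsQuot θ₁ π₁ := S5137.result ρ p hP gX fY (pullback.fst gX fY) (pullback.snd gX fY)
    (IsPullback.of_hasPullback gX fY) (pullback.fst fX fY) π₁ sq₁ θ₁ h11 (fun g => by
      apply pullback.hom_ext
      · rw [Category.assoc, π₁f, ← Category.assoc, h11, Category.assoc, hP.inv]
      · rw [Category.assoc, π₁s]
        exact h12 g)
  -- second stage
  let τf : H → (P₁ ⟶ P₁) := fun h => pullback.lift (pullback.fst gX fY) (pullback.snd gX fY ≫ (σ h).hom)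
    (by rw [Category.assoc, hσ h, pullback.condition])
  have τf1 : ∀ h, τf h ≫ pullback.fst gX fY = pullback.fst gX fY := fun h => pullback.lift_fst _ _ _
  have τf2 : ∀ h, τf h ≫ pullback.snd gX fY = pullback.snd gX fY ≫ (σ h).hom := fun h => pullback.lift_snd _ _ _
  have τfmul : ∀ a b, τf (a * b) = τf b ≫ τf a := fun a b => by
    apply pullback.hom_ext
    · rw [τf1, Category.assoc, τf1, τf1]
    · rw [τf2, Category.assoc, τf2, ← Category.assoc (τf b), τf2, Category.assoc, map_mul]
      rfl
  have τfone : τf 1 = 𝟙 _ := by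
    apply pullback.hom_ext
    · rw [τf1, Category.id_comp]
    · rw [τf2, Category.id_comp, map_one]
      exact Category.comp_id _
  let τA : H → Aut P₁ := fun h =>
    { hom := τf h
      inv := τf h⁻¹
      hom_inv_id := by rw [← τfmul, inv_mul_cancel, τfone]
      inv_hom_id := by rw [← τfmul, mul_inv_cancel, τfone] }
  let τ : H →* Aut P₁ :=
    { toFun := τA
      map_one' := Iso.ext τfone
      map_mul' := fun a b => Iso.ext (τfmul a b) }
  have sq₂ : IsPullback (pullback.snd gX fY) π₂ q (pullback.snd gX gY) :=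
    IsPullback.of_bot (by
      rw [π₂f, hq]; exact (IsPullback.of_hasPullback gX fY).flip) π₂s.symm
      (IsPullback.of_hasPullback gX gY).flip
  have hQ₂ : SGA1.IsQuot τ π₂ := S5137.result σ q hQ gY gX (pullback.snd gX gY) (pullback.fst gX gY)
    (IsPullback.of_hasPullback gX gY).flip (pullback.snd gX fY) π₂ sq₂ τ (fun h => τf2 h) (fun h => by
      show τf h ≫ π₂ = π₂
      apply pullback.hom_ext
      · rw [Category.assoc, π₂f]
        exact τf1 h
      · rw [Category.assoc, π₂s, ← Category.assoc, τf2, Category.assoc, hQ.inv])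
  refine Quot24.isQuot_comp π₁ π₂ hQ₁ hQ₂ (fun gh => ?_) (fun g => ⟨(g, 1), rfl⟩) (fun h => ⟨(1, h), ?_⟩)
  · apply pullback.hom_ext
    · rw [Category.assoc, hπ1, ← Category.assoc, hθ1, Category.assoc, hP.inv]
    · rw [Category.assoc, hπ2, ← Category.assoc, hθ2, Category.assoc, hQ.inv]
  · apply pullback.hom_ext
    · rw [Category.assoc, Category.assoc, π₁f]
      show _ = _ ≫ τf h ≫ pullback.fst gX fY
      rw [τf1, π₁f, ← Category.assoc, hθ1, map_one]
      exact congrArg (· ≫ p) (Category.comp_id _)
    · rw [Category.assoc, Category.assoc, π₁s]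
      show _ = _ ≫ τf h ≫ pullback.snd gX fY
      rw [τf2, ← Category.assoc, π₁s, hθ2]

end Groth.Agent.S13079
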