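import Groth.Statements.S13082
import Groth.Agent.SGA1Quot.GeomPoints
import Groth.Agent.SGA1Quot.ResidueField
import Groth.Agent.SGA1Quot.GeomTransitive

set_option autoImplicit false
universe u
open CategoryTheory AlgebraicGeometry Limits
open Zeta

namespace Groth.Agent.S13082

/-- Let X be a scheme of finite type over k with an action of a finite group G by algebraic
automorphisms over k admitting a quotient π : X → X/G, and W a locally closed subscheme of X on
which G induces an action. Then the canonical morphism W/G → π(W) is radicial and surjective: the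
induced morphism φ : W/G → X/G is universally injective with set-theoretic image π(W). The action on
W is pinned along the immersion j : W → X, φ by p_W ≫ φ = j ≫ π for a quotient p_W : W → W/G. -/
theorem result {k : Type u} [Field k] {G : Type u}
    [Group G] [Finite G] {X XG W WG : Scheme.{u}} (fX : X ⟶ Spec (CommRingCat.of k))
    [LocallyOfFiniteType fX] [QuasiCompact fX] (ρ : G →* Aut X) (hρ : ∀ g, (ρ g).hom ≫ fX = fX)
    (p : X ⟶ XG) (hP : SGA1.IsQuot ρ p) (j : W ⟶ X) [IsImmersion j] (ρW : G →* Aut W)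
    (hρW : ∀ g, (ρW g).hom ≫ j = j ≫ (ρ g).hom) (pW : W ⟶ WG) (hPW : SGA1.IsQuot ρW pW)
    (φ : WG ⟶ XG) (hφ : pW ≫ φ = j ≫ p) :
    UniversallyInjective φ ∧ Set.range φ.base = p.base '' Set.range j.base := by
  haveI := SGA1Quot.surjective hPW
  refine ⟨(UniversallyInjective.iff_diagonal φ).mpr ⟨fun z => ?_⟩, ?_⟩
  · obtain ⟨z₁, hz₁⟩ := (pullback.fst (pullback.fst φ φ) pW).surjective z
    obtain ⟨z₂, hz₂⟩ := (pullback.fst (pullback.fst (pullback.fst φ φ) pW ≫ pullback.snd φ φ) pW).surjective z₁
    set π₂ := pullback.fst (pullback.fst (pullback.fst φ φ) pW ≫ pullback.snd φ φ) pW with hπ₂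
    obtain ⟨t, ξ, η, hξ, hη, htz⟩ : ∃ (t : Spec (CommRingCat.of (AlgebraicClosure
        ((pullback (pullback.fst (pullback.fst φ φ) pW ≫ pullback.snd φ φ) pW).residueField z₂))) ⟶ pullback φ φ)
        (ξ η : Spec (CommRingCat.of (AlgebraicClosure
        ((pullback (pullback.fst (pullback.fst φ φ) pW ≫ pullback.snd φ φ) pW).residueField z₂))) ⟶ W),
        ξ ≫ pW = t ≫ pullback.fst φ φ ∧ η ≫ pW = t ≫ pullback.snd φ φ ∧ ∀ a, t a = z := by
      refine ⟨SGA1Quot.GeomTrans.geomPt z₂ ≫ π₂ ≫ pullback.fst (pullback.fst φ φ) pW,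
        SGA1Quot.GeomTrans.geomPt z₂ ≫ π₂ ≫ pullback.snd (pullback.fst φ φ) pW,
        SGA1Quot.GeomTrans.geomPt z₂ ≫ pullback.snd (pullback.fst (pullback.fst φ φ) pW ≫ pullback.snd φ φ) pW,
        ?_, ?_, fun a => ?_⟩
      · simp only [Category.assoc, pullback.condition]
      · simp only [hπ₂, Category.assoc, ← pullback.condition]
      · simp only [Scheme.Hom.comp_apply, SGA1Quot.GeomTrans.geomPt_apply, hz₂, hz₁]
    have hh : (ξ ≫ j) ≫ p = (η ≫ j) ≫ p := by
      rw [Category.assoc, Category.assoc, ← hφ, ← Category.assoc, ← Category.assoc, hξ, hη,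
        Category.assoc, Category.assoc, pullback.condition]
    have h3 : ∀ (x : X) (σ : X.residueField x ≅ X.residueField x),
        p.residueFieldMap x ≫ σ.hom = p.residueFieldMap x →
        ∃ g : G, X.fromSpecResidueField x ≫ (ρ g).hom = Spec.map σ.hom ≫ X.fromSpecResidueField x := by
      intro x σ hσ
      obtain ⟨g, e, hge⟩ := (SGA1Quot.residueField_normal_and_surjective hP x).2 σ hσ
      refine ⟨g, ?_⟩
      rw [hge, Spec.map_comp, Category.assoc, ← Scheme.Hom.SpecMap_residueFieldMap_fromSpecResidueField]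
      congr 1
      rw [← cancel_epi (Spec.map (X.residueFieldCongr e).hom), ← Category.assoc, ← Spec.map_comp,
        Iso.inv_hom_id, Spec.map_id, Category.id_comp]
      exact Scheme.residueFieldCongr_fromSpecResidueField e
    obtain ⟨g, hg⟩ := SGA1Quot.exists_smul_geomPoint p ρ hP.inv (fun x y => SGA1Quot.exists_smul_eq hP)
      (fun x => (SGA1Quot.residueField_normal_and_surjective hP x).1) h3 _ (ξ ≫ j) (η ≫ j) hh
    have hg' : ξ ≫ (ρW g).hom = η := by
      rw [← cancel_mono j, Category.assoc, hρW g, ← Category.assoc, hg]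
    have he : t ≫ pullback.fst φ φ = t ≫ pullback.snd φ φ := by
      rw [← hξ, ← hη, ← hg', Category.assoc, hPW.inv g]
    have ht : (t ≫ pullback.fst φ φ) ≫ pullback.diagonal φ = t := by
      apply pullback.hom_ext
      · simp
      · simp [he]
    obtain ⟨a⟩ : Nonempty (Spec (CommRingCat.of (AlgebraicClosure
        (((pullback (pullback.fst (pullback.fst φ φ) pW ≫ pullback.snd φ φ) pW)).residueField z₂)))) :=
      inferInstance
    refine ⟨(t ≫ pullback.fst φ φ) a, ?_⟩
    rw [← Scheme.Hom.comp_apply, ht]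
    exact htz a
  · ext y
    constructor
    · rintro ⟨v, rfl⟩
      obtain ⟨w, rfl⟩ := pW.surjective v
      exact ⟨j w, ⟨w, rfl⟩, by rw [← Scheme.Hom.comp_apply, ← hφ, Scheme.Hom.comp_apply]⟩
    · rintro ⟨_, ⟨w, rfl⟩, rfl⟩
      exact ⟨pW w, by rw [← Scheme.Hom.comp_apply, hφ, Scheme.Hom.comp_apply]⟩

end Groth.Agent.S13082
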