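import Groth.Statements.S13086
import Groth.Agent.S13070
import Groth.Agent.ZetaLib.EulerProd
import Groth.Agent.ZetaLib.ClosedPts
import Mathlib.Analysis.PSeries
import Mathlib.FieldTheory.Finite.GaloisField
import Mathlib.NumberTheory.LSeries.Convergence

set_option autoImplicit false
universe u
open CategoryTheory AlgebraicGeometry
open Zeta

namespace Groth.Agent.S13086
theorem finite_points {X : Scheme.{u}} (f : X ⟶ Spec (CommRingCat.of (ULift.{u} ℤ))) [LocallyOfFiniteType f]
    [QuasiCompact f] (F : Type u) [Field F] [Finite F] : Finite (Spec (CommRingCat.of F) ⟶ X) := by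
  classical
  have : CompactSpace X := QuasiCompact.compactSpace_of_compactSpace f
  let 𝒰 := X.affineCover.finiteSubcover
  have hfin : ∀ i, Finite (Spec (CommRingCat.of F) ⟶ 𝒰.X i) := fun i => by
    let A := Γ(𝒰.X i, ⊤)
    let φ := (Scheme.ΓSpecIso (CommRingCat.of (ULift.{u} ℤ))).inv ≫ (𝒰.f i ≫ f).appTop
    have h1 : φ.hom.FiniteType := by
      have h3 := (HasRingHomProperty.iff_of_isAffine (P := @LocallyOfFiniteType) (f := 𝒰.f i ≫ f)).mp inferInstance
      rw [CommRingCat.hom_comp]
      exact h3.comp (RingHom.FiniteType.of_surjective _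
        (ConcreteCategory.bijective_of_isIso (Scheme.ΓSpecIso (CommRingCat.of (ULift.{u} ℤ))).inv).2)
    let ψ : ℤ →+* A := φ.hom.comp (ULift.ringEquiv (R := ℤ)).symm.toRingHom
    have h4 : ψ.FiniteType := h1.comp (RingHom.FiniteType.of_surjective _ (ULift.ringEquiv (R := ℤ)).symm.surjective)
    rw [RingHom.eq_intCast' ψ] at h4
    have hft : Algebra.FiniteType ℤ A :=
      RingHom.finiteType_algebraMap.mp ((RingHom.eq_intCast' (algebraMap ℤ A)).symm ▸ h4)
    have := @Groth.Agent.ZetaLib.finite_ringHom A _ hft F _ _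
    exact Finite.of_equiv _ (((Iso.homCongr (Iso.refl _) (𝒰.X i).isoSpec).trans
      (Spec.homEquiv : (Spec (CommRingCat.of F) ⟶ Spec A) ≃ (A ⟶ CommRingCat.of F))).trans
      (⟨fun q => q.hom, fun q => ConcreteCategory.ofHom q, fun _ => rfl, fun _ => rfl⟩ :
        (A ⟶ CommRingCat.of F) ≃ (A →+* F))).symm
  refine Finite.of_surjective (fun x : Σ i, Spec (CommRingCat.of F) ⟶ 𝒰.X i => x.2 ≫ 𝒰.f x.1) fun h => ?_
  obtain ⟨i, y, hy⟩ := 𝒰.exists_eq (h (IsLocalRing.closedPoint F))
  refine ⟨⟨i, IsOpenImmersion.lift (𝒰.f i) h ?_⟩, IsOpenImmersion.lift_fac _ _ _⟩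
  rintro _ ⟨z, rfl⟩
  rw [Subsingleton.elim z (IsLocalRing.closedPoint F)]
  exact ⟨y, hy⟩

open scoped Classical in
theorem summable_norms {X : Scheme.{u}} (f : X ⟶ Spec (CommRingCat.of (ULift.{u} ℤ))) [LocallyOfFiniteType f]
    [QuasiCompact f] (r : ℕ) (hr : topologicalKrullDim X ≤ r) {σ : ℝ} (hσ : (r : ℝ) < σ) :
    Summable fun x : {x : X // IsClosed ({x} : Set X)} => (Nat.card (X.residueField (x : X)) : ℝ) ^ (-σ) := by
  obtain ⟨c, p₀, hc, hb⟩ := Groth.Agent.S13070.result f r hr
  let g : ℕ × ℕ → ℝ := fun v => if v.1.Prime ∧ 1 ≤ v.2 then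
    (if v.1 < p₀ then c * ((v.1 : ℝ) ^ ((r : ℝ) - σ)) ^ v.2 else c * ((v.1 : ℝ) ^ ((r : ℝ) - 1 - σ)) ^ v.2) else 0
  have hg0 : 0 ≤ g := fun v => by
    simp only [g, Pi.zero_apply]
    split_ifs <;> positivity
  have hgeo : ∀ (p : ℕ), p.Prime → ∀ a : ℝ, a < 0 → 0 ≤ (p : ℝ) ^ a ∧ (p : ℝ) ^ a < 1 ∧ (p : ℝ) ^ a ≤ (2 : ℝ) ^ a :=
    fun p hp a ha => ⟨Real.rpow_nonneg (Nat.cast_nonneg p) _,
      Real.rpow_lt_one_of_one_lt_of_neg (by exact_mod_cast hp.one_lt) ha,
      Real.rpow_le_rpow_of_nonpos two_pos (by exact_mod_cast hp.two_le) ha.le⟩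
  have ha1 : (r : ℝ) - σ < 0 := by linarith
  have ha2 : (r : ℝ) - 1 - σ < 0 := by linarith
  have hg : Summable g := by
    refine (summable_prod_of_nonneg hg0).mpr ⟨fun p => ?_, ?_⟩
    · by_cases hp : p.Prime
      · by_cases h0 : p < p₀
        · refine ((summable_geometric_of_lt_one (hgeo p hp _ ha1).1 (hgeo p hp _ ha1).2.1).mul_left c).of_nonneg_of_le
            (fun m => hg0 _) fun m => ?_
          simp only [g, hp, h0, true_and, if_true]
          split_ifs <;> first | exact le_rfl | positivity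
        · refine ((summable_geometric_of_lt_one (hgeo p hp _ ha2).1 (hgeo p hp _ ha2).2.1).mul_left c).of_nonneg_of_le
            (fun m => hg0 _) fun m => ?_
          simp only [g, hp, h0, true_and, if_false]
          split_ifs <;> first | exact le_rfl | positivity
      · simp [g, hp]
    · have hs : Summable fun p : ℕ => c * ((p : ℝ) ^ ((r : ℝ) - 1 - σ) * (1 - (2 : ℝ) ^ ((r : ℝ) - 1 - σ))⁻¹) :=
        ((Real.summable_nat_rpow.mpr (by linarith)).mul_right _).mul_left c
      refine Summable.of_norm_bounded_eventually_nat hs (Filter.eventually_atTop.mpr ⟨p₀, fun p hp₀ => ?_⟩)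
      have hnn : 0 ≤ ∑' m, g (p, m) := tsum_nonneg fun m => hg0 _
      rw [Real.norm_of_nonneg hnn]
      by_cases hp : p.Prime
      · obtain ⟨h1, h2, h3⟩ := hgeo p hp _ ha2
        set a := (p : ℝ) ^ ((r : ℝ) - 1 - σ)
        have hS := ((hasSum_geometric_of_lt_one h1 h2).mul_left a).mul_left c
        have h2' : (2 : ℝ) ^ ((r : ℝ) - 1 - σ) < 1 := Real.rpow_lt_one_of_one_lt_of_neg one_lt_two ha2
        calc ∑' m, g (p, m) = ∑' m, g (p, m + 1) := by
              have hsum : Summable fun m => g (p, m) := by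
                refine ((summable_geometric_of_lt_one h1 h2).mul_left c).of_nonneg_of_le (fun m => hg0 _) fun m => ?_
                simp only [g, hp, not_lt.mpr hp₀, true_and, if_false]
                split_ifs <;> first | exact le_rfl | positivity
              rw [hsum.tsum_eq_zero_add]
              simp [g]
          _ = c * (a * (1 - a)⁻¹) := by
              rw [← hS.tsum_eq]
              refine tsum_congr fun m => ?_
              simp only [g, hp, not_lt.mpr hp₀, Nat.le_add_left 1 m, true_and, if_true, if_false]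
              rw [pow_succ']
          _ ≤ _ := by
              refine mul_le_mul_of_nonneg_left (mul_le_mul_of_nonneg_left ?_ h1) hc.le
              exact inv_anti₀ (by linarith) (by linarith)
      · have h1 : ∀ m, g (p, m) = 0 := fun m => by simp [g, hp]
        simp only [h1, tsum_zero]
        have : 0 < 1 - (2 : ℝ) ^ ((r : ℝ) - 1 - σ) := by
          linarith [Real.rpow_lt_one_of_one_lt_of_neg one_lt_two ha2]
        positivity
  refine summable_of_sum_le (c := ∑' v, g v) (fun x => Real.rpow_nonneg (Nat.cast_nonneg _) _) fun T => ?_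
  let N : {x : X // IsClosed ({x} : Set X)} → ℕ := fun x => Nat.card (X.residueField (x : X))
  have hpp : ∀ x, ∃ p m : ℕ, p.Prime ∧ 1 ≤ m ∧ N x = p ^ m := fun x => by
    have := Groth.Agent.ZetaLib.finite_residueField f x.1 x.2
    have := Fintype.ofFinite (X.residueField (x : X))
    obtain ⟨p, hp⟩ := CharP.exists (X.residueField (x : X))
    obtain ⟨n, hp', hn⟩ := FiniteField.card (X.residueField (x : X)) p
    exact ⟨p, n, hp', n.pos, by simp only [N, Nat.card_eq_fintype_card]; exact hn⟩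
  choose P M hP hM hN using hpp
  let pr : {x : X // IsClosed ({x} : Set X)} → ℕ × ℕ := fun x => (P x, M x)
  rw [← Finset.sum_fiberwise_of_maps_to (g := pr) (fun x hx => Finset.mem_image_of_mem pr hx)]
  refine le_trans (Finset.sum_le_sum fun v hv => ?_) (hg.sum_le_tsum _ fun v _ => hg0 v)
  obtain ⟨x₀, -, rfl⟩ := Finset.mem_image.mp hv
  have hF := Groth.Agent.ZetaLib.finite_residueField f x₀.1 x₀.2
  set F := X.residueField (x₀ : X) with hFdef
  have hcardF : Nat.card F = P x₀ ^ M x₀ := hN x₀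
  have hfib : ∀ x ∈ T.filter (fun x => pr x = pr x₀), N x = P x₀ ^ M x₀ := fun x hx => by
    have := (Finset.mem_filter.mp hx).2
    simp only [pr, Prod.mk.injEq] at this
    rw [hN x, this.1, this.2]
  rw [Finset.sum_congr (s₂ := T.filter (fun x => pr x = pr x₀)) rfl (g := fun _ => ((P x₀ ^ M x₀ : ℕ) : ℝ) ^ (-σ))
    fun x hx => by rw [← hfib x hx]]
  rw [Finset.sum_const, nsmul_eq_mul]
  have hcnt : ((T.filter (fun x => pr x = pr x₀)).card : ℝ) ≤ (Nat.card (Spec (CommRingCat.of F) ⟶ X) : ℝ) ∨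
      Infinite (Spec (CommRingCat.of F) ⟶ X) := by
    rcases finite_or_infinite (Spec (CommRingCat.of F) ⟶ X) with hfin | hinf
    swap; · exact Or.inr hinf
    left
    rw [Nat.cast_le, ← Nat.card_eq_finsetCard]
    have he : ∀ x : (T.filter (fun x => pr x = pr x₀) : Finset _), Nonempty (X.residueField (x.1 : X) ≃+* F) := fun x => by
      have := Groth.Agent.ZetaLib.finite_residueField f x.1.1 x.1.2
      have := Fintype.ofFinite (X.residueField (x.1 : X))
      have := Fintype.ofFinite F
      exact ⟨FiniteField.ringEquivOfCardEq (by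
        rw [← Nat.card_eq_fintype_card, ← Nat.card_eq_fintype_card, hcardF]; exact hfib x.1 x.2)⟩
    let j : (T.filter (fun x => pr x = pr x₀) : Finset _) → (Spec (CommRingCat.of F) ⟶ X) := fun x =>
      Spec.map (CommRingCat.ofHom (he x).some.toRingHom) ≫ X.fromSpecResidueField (x.1 : X)
    refine Nat.card_le_card_of_injective j fun x y hxy => Subtype.ext (Subtype.ext ?_)
    have := congrArg (fun h : Spec (CommRingCat.of F) ⟶ X => h (IsLocalRing.closedPoint F)) hxy
    simp only [j, Scheme.Hom.comp_base, TopCat.coe_comp, Function.comp_apply] at this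
    exact (X.fromSpecResidueField_apply _ _).symm.trans (this.trans (X.fromSpecResidueField_apply _ _))
  have hcnt' : ((T.filter (fun x => pr x = pr x₀)).card : ℝ) ≤ (Nat.card (Spec (CommRingCat.of F) ⟶ X) : ℝ) := by
    rcases hcnt with h | h
    · exact h
    · exfalso
      exact (not_finite_iff_infinite.mpr h) (finite_points f F)
  have hpos : (0 : ℝ) ≤ ((P x₀ ^ M x₀ : ℕ) : ℝ) ^ (-σ) := Real.rpow_nonneg (Nat.cast_nonneg _) _
  refine (mul_le_mul_of_nonneg_right hcnt' hpos).trans ?_
  obtain ⟨hb1, hb2⟩ := hb (P x₀) (M x₀) (hP x₀) (hM x₀) F hcardF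
  have hp0 : (0 : ℝ) < (P x₀ : ℝ) := by exact_mod_cast (hP x₀).pos
  have hexp : ∀ a : ℝ, ((P x₀ : ℝ)) ^ ((M x₀ : ℝ) * a) * ((P x₀ ^ M x₀ : ℕ) : ℝ) ^ (-σ) =
      ((P x₀ : ℝ) ^ (a - σ)) ^ M x₀ := fun a => by
    rw [Nat.cast_pow, ← Real.rpow_natCast (P x₀ : ℝ) (M x₀), ← Real.rpow_mul hp0.le, ← Real.rpow_add hp0,
      ← Real.rpow_natCast _ (M x₀), ← Real.rpow_mul hp0.le]
    congr 1
    ring
  show _ ≤ g (P x₀, M x₀)
  simp only [g, hP x₀, hM x₀, and_self, if_true]
  split_ifs with h
  · rw [← hexp, ← mul_assoc]; exact mul_le_mul_of_nonneg_right (hb2 h) hpos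
  · rw [← hexp, ← mul_assoc]; exact mul_le_mul_of_nonneg_right (hb1 (not_lt.mp h)) hpos


/-- If X is an arithmetic scheme (of finite type over ℤ) of dimension r, the Dirichlet series with
nonnegative coefficients L_X(s) = Σ_{n ≥ 1} a_n n^{−s}, a_n the number of effective 0-cycles on X of
norm n, converges in the half-plane Re(s) > r and has no zeros there. The dimension is only assumed
≤ r. -/
theorem result {X : Scheme.{u}}
    (f : X ⟶ Spec (CommRingCat.of (ULift.{u} ℤ))) [LocallyOfFiniteType f] [QuasiCompact f] (r : ℕ)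
    (hr : topologicalKrullDim X ≤ r) :
    LSeries.abscissaOfAbsConv (Zeta.arithCoeff X) ≤ (r : ℝ) ∧
      ∀ s : ℂ, (r : ℝ) < s.re → LSeries (Zeta.arithCoeff X) s ≠ 0 := by
  classical
  let ι := {x : X // IsClosed ({x} : Set X)}
  let N : ι → ℕ := fun x => Nat.card (X.residueField (x : X))
  have hN : ∀ x, 2 ≤ N x := fun x => by
    have := Groth.Agent.ZetaLib.finite_residueField f x.1 x.2
    exact Finite.one_lt_card
  let e : (ι →₀ ℕ) ≃ {α : X →₀ ℕ // ∀ x ∈ α.support, IsClosed ({x} : Set X)} :=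
    { toFun := fun β => ⟨β.embDomain (Function.Embedding.subtype _), fun x hx => by
        rw [Finsupp.support_embDomain, Finset.mem_map] at hx
        obtain ⟨y, -, rfl⟩ := hx
        exact y.2⟩
      invFun := fun α => Finsupp.subtypeDomain _ α.1
      left_inv := fun β => Finsupp.ext fun y => by
        rw [Finsupp.subtypeDomain_apply]
        exact Finsupp.embDomain_apply_self (Function.Embedding.subtype _) β y
      right_inv := fun α => Subtype.ext (Finsupp.ext fun x => by
        by_cases hx : IsClosed ({x} : Set X)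
        · exact (Finsupp.embDomain_apply_self (Function.Embedding.subtype _) _ (⟨x, hx⟩ : ι)).trans
            (Finsupp.subtypeDomain_apply ..)
        · rw [Finsupp.embDomain_notin_range _ _ _ (by rintro ⟨y, rfl⟩; exact hx y.2)]
          exact (Finsupp.notMem_support_iff.mp fun h => hx (α.2 x h)).symm) }
  have ha : ∀ n, Zeta.arithCoeff X n = Nat.card {β : ι →₀ ℕ // (β.prod fun i m => N i ^ m) = n} := fun n => by
    rw [Zeta.arithCoeff, Zeta.cycleNormCount]
    congr 1
    refine Nat.card_congr (((Equiv.subtypeSubtypeEquivSubtypeInter _ _).symm.trans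
      (e.subtypeEquiv (p := fun β => (β.prod fun i m => N i ^ m) = n) fun β => ?_).symm))
    rw [show ((e β) : X →₀ ℕ) = β.embDomain (Function.Embedding.subtype _) from rfl, Finsupp.prod_embDomain]
    rfl
  have key : ∀ s : ℂ, (r : ℝ) < s.re → LSeriesSummable (Zeta.arithCoeff X) s ∧
      LSeries (Zeta.arithCoeff X) s ≠ 0 := fun s hs => by
    have h0 : (0 : ℝ) ≤ r := Nat.cast_nonneg r
    exact Groth.Agent.ZetaLib.lseries_of_norms N hN _ ha s (by linarith) (summable_norms f r hr hs)
  refine ⟨LSeries.abscissaOfAbsConv_le_of_forall_lt_LSeriesSummable fun y hy => ?_, fun s hs => (key s hs).2⟩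
  exact (key y (by simpa using hy)).1

end Groth.Agent.S13086
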