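import Groth.Statements.S13085
import Groth.Agent.S13084
import Groth.Agent.ZetaLib.NPts
import Groth.Agent.ZetaLib.LowerCount
import Groth.Agent.DimLib.Components

set_option autoImplicit false
universe u
open CategoryTheory AlgebraicGeometry
open Zeta

namespace Groth.Agent.S13085

open Groth.Agent.DimLib Groth.Agent.WeilLib Groth.Agent.ZetaLib

theorem exists_lower {k : Type u} [Field k] [Finite k]
    {Y : Scheme.{u}} (f : Y ⟶ Spec (CommRingCat.of k)) [LocallyOfFiniteType f] [QuasiCompact f] {r : ℕ}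
    (hr1 : 1 ≤ r) (hr : topologicalKrullDim Y = r) :
    ∃ (e0 : ℕ) (c : ℝ) (Q : ℕ), 0 < e0 ∧ 0 < c ∧ ∀ e, 0 < e → e0 ∣ e → Q ≤ Nat.card k ^ e →
      c * ((Nat.card k : ℝ) ^ e) ^ r ≤ Zeta.nPts f e := by
  obtain ⟨x, hx⟩ : ∃ x : Y, ptDim f x = r := by
    rw [topologicalKrullDim_eq_iSup f] at hr
    rcases isEmpty_or_nonempty Y with h | h
    · rw [iSup_of_empty] at hr
      exact absurd hr.symm (WithBot.natCast_ne_bot r)
    by_contra hne
    push Not at hne
    have hle : ∀ x, ptDim f x ≤ r - 1 := fun x => by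
      have h1 : (ptDim f x : WithBot ℕ∞) ≤ r := hr ▸ le_iSup (fun y => (ptDim f y : WithBot ℕ∞)) x
      have h2 : ptDim f x ≤ r := by exact_mod_cast h1
      have := hne x
      omega
    have h3 : (r : WithBot ℕ∞) ≤ ((r - 1 : ℕ) : WithBot ℕ∞) :=
      hr ▸ iSup_le fun x => Nat.cast_le.2 (hle x)
    have h4 : r ≤ r - 1 := by exact_mod_cast h3
    omega
  obtain ⟨A, φ, j, P, hj, hφ, e, rfl⟩ := exists_chart f x
  have hdim := ptDim_chart f φ hφ j e P
  rw [hx] at hdim
  letI : Algebra k A := φ.toAlgebra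
  haveI : Algebra.FiniteType k A := hφ
  have : P.asIdeal.IsPrime := P.isPrime
  haveI : Algebra.FiniteType k (A ⧸ P.asIdeal) :=
    Algebra.FiniteType.of_surjective (Ideal.Quotient.mkₐ k P.asIdeal) Ideal.Quotient.mk_surjective
  obtain ⟨e0, c, Q, he0, hc, hb⟩ := exists_lower_affine (k := k) (A := A ⧸ P.asIdeal) hr1 hdim
  refine ⟨e0, c, Q, he0, hc, fun n hn hdvd hQ => ?_⟩
  obtain ⟨m, rfl⟩ : ∃ m, n = m + 1 := ⟨n - 1, by omega⟩
  obtain ⟨k', _, _, _, hk'⟩ := exists_extension k m
  have hcard : Nat.card k' = Nat.card k ^ (m + 1) := by rw [Module.natCard_eq_pow_finrank (K := k), hk']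
  rw [← hk', nPts_eq_card f k', hk', show ((Nat.card k : ℝ)) ^ (m + 1) = (Nat.card k' : ℝ) by rw [hcard]; push_cast; rfl]
  refine (hb k' (hk'.symm ▸ hdvd) (hcard.symm ▸ hQ)).trans ?_
  haveI := finite_pts f k'
  let G : (A ⧸ P.asIdeal →ₐ[k] k') → Pts f k' := fun g =>
    ⟨Spec.map (CommRingCat.ofHom (g.comp (Ideal.Quotient.mkₐ k P.asIdeal)).toRingHom) ≫ j, by
      rw [Category.assoc, e, ← Spec.map_comp]
      exact congrArg (fun r => Spec.map (CommRingCat.ofHom r))
        (AlgHom.comp_algebraMap (g.comp (Ideal.Quotient.mkₐ k P.asIdeal)))⟩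
  exact_mod_cast Nat.card_le_card_of_injective G fun g g' h => by
    have h1 := congrArg CommRingCat.Hom.hom (Spec.map_injective ((cancel_mono j).1 (congrArg Subtype.val h)))
    exact Ideal.Quotient.algHom_ext k (AlgHom.coe_ringHom_injective h1)

section coeff

variable {k : Type u} [Field k] [Finite k]
    {Y : Scheme.{u}} (f : Y ⟶ Spec (CommRingCat.of k)) [LocallyOfFiniteType f]

theorem card_residueField {x : Y} (hx : IsClosed ({x} : Set Y)) :
    Nat.card (Y.residueField x) = Nat.card k ^ EGA4loc.residueDegree f x ∧ 0 < EGA4loc.residueDegree f x := by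
  have := Groth.Agent.S13084.locallyOfFiniteType_toInt k
  haveI : Finite (Y.residueField x) := ZetaLib.finite_residueField
    (f ≫ Spec.map (CommRingCat.ofHom ((Int.castRingHom k).comp (ULift.ringEquiv : ULift.{u} ℤ ≃+* ℤ).toRingHom))) x hx
  let := (baseRingHom f x).toAlgebra
  haveI : Module.Finite k (Y.residueField x) := Module.Finite.of_finite
  have h : EGA4loc.residueDegree f x = Module.finrank k (Y.residueField x) := by
    rw [residueDegree_eq_rdeg]; rfl
  rw [h]
  exact ⟨Module.natCard_eq_pow_finrank, Module.finrank_pos⟩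

include f in
theorem finite_cycles [QuasiCompact f] {n : ℕ} (hn : n ≠ 0) :
    Finite { α : Y →₀ ℕ // (∀ x ∈ α.support, IsClosed ({x} : Set Y)) ∧
      α.prod (fun x m => Nat.card (Y.residueField x) ^ m) = n } := by
  classical
  have hS : (⋃ e ∈ Finset.Icc 1 n, {x : Y | IsClosed ({x} : Set Y) ∧ EGA4loc.residueDegree f x = e}).Finite :=
    (Finset.finite_toSet _).biUnion fun e he => by
      have := finite_degSet f (X := Y) (e := e) (by have := (Finset.mem_Icc.1 he).1; omega)
      exact Set.finite_coe_iff.1 this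
  set S := ⋃ e ∈ Finset.Icc 1 n, {x : Y | IsClosed ({x} : Set Y) ∧ EGA4loc.residueDegree f x = e}
  have key : ∀ (α : Y →₀ ℕ), (∀ x ∈ α.support, IsClosed ({x} : Set Y)) →
      α.prod (fun x m => Nat.card (Y.residueField x) ^ m) = n → ∀ x, α x ≤ n ∧ (α x ≠ 0 → x ∈ S) := by
    intro α hcl hprod x
    rcases eq_or_ne (α x) 0 with h0 | h0
    · exact ⟨by omega, fun h => absurd h0 h⟩
    have hx : x ∈ α.support := Finsupp.mem_support_iff.2 h0
    obtain ⟨hc, hpos⟩ := card_residueField f (hcl x hx)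
    have hd : Nat.card (Y.residueField x) ^ α x ≤ n := Nat.le_of_dvd (Nat.pos_of_ne_zero hn)
      (hprod ▸ Finset.dvd_prod_of_mem _ hx)
    rw [hc, ← pow_mul] at hd
    have h1 := (Nat.lt_pow_self (n := EGA4loc.residueDegree f x * α x) (Finite.one_lt_card (α := k))).trans_le hd
    have h2 : EGA4loc.residueDegree f x ≤ EGA4loc.residueDegree f x * α x :=
      Nat.le_mul_of_pos_right _ (Nat.pos_of_ne_zero h0)
    have h3 : α x ≤ EGA4loc.residueDegree f x * α x := Nat.le_mul_of_pos_left _ hpos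
    exact ⟨by omega, fun _ => Set.mem_biUnion (Finset.mem_Icc.2 ⟨hpos, by omega⟩) ⟨hcl x hx, rfl⟩⟩
  haveI := hS.to_subtype
  refine Finite.of_injective (fun α (x : S) => (⟨α.1 x.1, Nat.lt_succ_of_le (key α.1 α.2.1 α.2.2 x.1).1⟩ : Fin (n + 1)))
    fun α β h => Subtype.ext (Finsupp.ext fun x => ?_)
  by_cases hx : x ∈ S
  · exact congrArg Fin.val (congrFun h ⟨x, hx⟩)
  · rw [not_not.1 fun h0 => hx ((key α.1 α.2.1 α.2.2 x).2 h0), not_not.1 fun h0 => hx ((key β.1 β.2.1 β.2.2 x).2 h0)]

theorem degCount_le_coeff [QuasiCompact f] {d : ℕ} (hd : 0 < d) :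
    (Zeta.degCount f d : ℝ) ≤ ‖Zeta.arithCoeff Y (Nat.card k ^ d)‖ := by
  rw [Zeta.arithCoeff, Complex.norm_natCast, Nat.cast_le]
  haveI := finite_cycles f (n := Nat.card k ^ d) (pow_ne_zero _ Nat.card_pos.ne')
  refine Nat.card_le_card_of_injective (fun x => ⟨Finsupp.single x.1 1, ?_, ?_⟩) ?_
  · intro y hy
    obtain rfl : y = x.1 := Finset.mem_singleton.1 (Finsupp.support_single_subset hy)
    exact x.2.1
  · rw [Finsupp.prod_single_index (h := fun x m => Nat.card (Y.residueField x) ^ m) (pow_zero _), pow_one, (card_residueField f x.2.1).1, x.2.2]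
  · intro a b h
    exact Subtype.ext (Finsupp.single_left_injective one_ne_zero (congrArg Subtype.val h))

end coeff

/-- If Y is a scheme of finite type over F_p (here: over any finite field) of dimension r, the abscissa
of convergence of the Dirichlet series L_Y(s) = Σ a_n n^{−s} (a_n = number of effective 0-cycles of
norm n; nonnegative coefficients, so convergence and absolute convergence agree) is r. -/
theorem result {k : Type u} [Field k] [Finite k]
    {Y : Scheme.{u}} (f : Y ⟶ Spec (CommRingCat.of k)) [LocallyOfFiniteType f] [QuasiCompact f] (r : ℕ)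
    (hr : topologicalKrullDim Y = r) :
    LSeries.abscissaOfAbsConv (Zeta.arithCoeff Y) = (r : ℝ) := by
  classical
  refine le_antisymm (Groth.Agent.S13084.result f r hr.le).1 ?_
  by_contra hlt
  rw [not_le] at hlt
  obtain ⟨s₀, hs₀, hs₀r⟩ := EReal.lt_iff_exists_real_btwn.1 hlt
  have hs₀r' : s₀ < r := by exact_mod_cast hs₀r
  set q := Nat.card k
  have hq : 1 < q := Finite.one_lt_card
  rcases Nat.eq_zero_or_pos r with rfl | hr1
  · -- infinitely many coefficients are `≥ 1`
    have hne : Nonempty Y := by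
      rcases isEmpty_or_nonempty Y with h | h
      · rw [topologicalKrullDim_eq_iSup f, iSup_of_empty] at hr
        exact absurd hr.symm (WithBot.natCast_ne_bot 0)
      · exact h
    obtain ⟨x, -, hx⟩ := exists_isClosed_singleton_mem f (S := Set.univ) Set.univ_nonempty
      isOpen_univ.isLocallyClosed
    obtain ⟨hc, hpos⟩ := card_residueField f hx
    have hsum : LSeriesSummable (Zeta.arithCoeff Y) 0 := LSeriesSummable_of_abscissaOfAbsConv_lt_re
      (hs₀.trans (by simpa using hs₀r))
    have hinj : Function.Injective fun m : ℕ => q ^ (EGA4loc.residueDegree f x * (m + 1)) := fun a b h => by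
      have := Nat.pow_right_injective hq h
      have := Nat.eq_of_mul_eq_mul_left hpos this
      omega
    have h0 := ((hsum.norm).comp_injective hinj).tendsto_atTop_zero
    have h1 : ∀ m : ℕ, (1 : ℝ) ≤ ‖LSeries.term (Zeta.arithCoeff Y) 0 (q ^ (EGA4loc.residueDegree f x * (m + 1)))‖ := by
      intro m
      rw [LSeries.term_of_ne_zero (pow_ne_zero _ (by omega)), Complex.cpow_zero, div_one, Zeta.arithCoeff,
        Complex.norm_natCast, Nat.one_le_cast]
      haveI := finite_cycles f (n := q ^ (EGA4loc.residueDegree f x * (m + 1))) (pow_ne_zero _ (by omega))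
      refine Finite.card_pos_iff.2 ⟨⟨Finsupp.single x (m + 1), fun y hy => ?_, ?_⟩⟩
      · obtain rfl : y = x := Finset.mem_singleton.1 (Finsupp.support_single_subset hy)
        exact hx
      · rw [Finsupp.prod_single_index (h := fun x m => Nat.card (Y.residueField x) ^ m) (pow_zero _), hc, ← pow_mul]
    exact absurd (le_of_tendsto_of_tendsto' tendsto_const_nhds h0 h1) (by norm_num)
  obtain ⟨e0, c, Q, he0, hc, hlow⟩ := exists_lower f hr1 hr
  set s := max s₀ 0 with hs
  have hsr : s < r := max_lt hs₀r' (by exact_mod_cast hr1)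
  have hs0 : 0 ≤ s := le_max_right _ _
  have hsum : LSeriesSummable (Zeta.arithCoeff Y) (s : ℂ) := LSeriesSummable_of_abscissaOfAbsConv_lt_re
    (hs₀.trans_le (by rw [Complex.ofReal_re]; exact_mod_cast le_max_left _ _))
  set M := ∑' n, ‖LSeries.term (Zeta.arithCoeff Y) (s : ℂ) n‖
  have hqR : (1 : ℝ) < q := by exact_mod_cast hq
  have hdeg : ∀ d, 0 < d → (Zeta.degCount f d : ℝ) ≤ M * ((q : ℝ) ^ s) ^ d := fun d hd => by
    have h := hsum.norm.le_tsum (q ^ d) fun n _ => norm_nonneg _
    rw [LSeries.norm_term_eq, if_neg (pow_ne_zero _ (by omega)), Complex.ofReal_re, div_le_iff₀ (by positivity),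
      Nat.cast_pow, ← Real.rpow_natCast, ← Real.rpow_mul (by positivity), mul_comm (d : ℝ),
      Real.rpow_mul (by positivity), Real.rpow_natCast] at h
    exact (degCount_le_coeff f hd).trans h
  have hM : 0 ≤ M := tsum_nonneg fun _ => norm_nonneg _
  have hqs : (1 : ℝ) ≤ (q : ℝ) ^ s := Real.one_le_rpow hqR.le hs0
  have hN : ∀ e, 0 < e → (Zeta.nPts f e : ℝ) ≤ (e : ℝ) ^ 2 * (M * ((q : ℝ) ^ s) ^ e) := fun e he => by
    rw [Zeta.nPts, Nat.cast_sum]
    refine (Finset.sum_le_card_nsmul _ _ ((e : ℝ) * (M * ((q : ℝ) ^ s) ^ e)) fun d hd => ?_).trans ?_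
    · have hd1 := Nat.pos_of_mem_divisors hd
      have hde := Nat.le_of_dvd he (Nat.dvd_of_mem_divisors hd)
      push_cast
      refine mul_le_mul (by exact_mod_cast hde) ((hdeg d hd1).trans ?_) (Nat.cast_nonneg _) (Nat.cast_nonneg _)
      exact mul_le_mul_of_nonneg_left (pow_le_pow_right₀ hqs hde) hM
    · rw [nsmul_eq_mul, sq, mul_assoc (e : ℝ)]
      exact mul_le_mul_of_nonneg_right (by exact_mod_cast Nat.card_divisors_le_self e) (by positivity)
  set a := (q : ℝ) ^ ((r : ℝ) - s) with ha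
  have ha1 : 1 < a := Real.one_lt_rpow hqR (by linarith)
  have hqa : (q : ℝ) ^ r = a * (q : ℝ) ^ s := by
    rw [ha, ← Real.rpow_natCast, ← Real.rpow_add (by linarith), sub_add_cancel]
  have hlim := (tendsto_pow_const_div_const_pow_of_one_lt 2 ha1).const_mul M
  rw [mul_zero] at hlim
  obtain ⟨E, hE⟩ := Filter.eventually_atTop.1 (hlim.eventually_lt_const hc)
  set e := e0 * (E + Q + 1)
  have he : 0 < e := Nat.mul_pos he0 (by omega)
  have hEe : E + Q + 1 ≤ e := Nat.le_mul_of_pos_left _ he0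
  have h := (hlow e he (dvd_mul_right _ _) ((Nat.lt_pow_self hq).le.trans' (by omega))).trans (hN e he)
  rw [← pow_mul, mul_comm e r, pow_mul, hqa, mul_pow, ← mul_assoc, ← mul_assoc] at h
  have h2 := le_of_mul_le_mul_right h (by positivity)
  have h3 := hE e (by omega)
  rw [mul_div_assoc', div_lt_iff₀ (by positivity)] at h3
  linarith

end Groth.Agent.S13085
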