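import Groth.Statements.S13087
import Groth.Agent.Lie3.Regular

set_option autoImplicit false
universe u
open Lie3Mod

namespace Groth.Agent.S13087

/-- Let A be a nontrivial commutative ring and D = A[a,b,c,d,e,f,g,h,i] the polynomial ring in nine
variables. Then the linear forms a − i, b + f, d + h form a regular sequence on D, and so do the
three Jacobi polynomials Q1 = ah + di − fg − bg, Q2 = ie + bd − fh − ae, Q3 = hc + dc − af − bi
(each term is a non-zero-divisor on the quotient of D by the preceding terms, and the quotient by
all three is non-zero). (The published statement is made with a regular base ring in force; the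
printed argument does not use that hypothesis, and the statement is given here over every nontrivial
commutative base ring.) -/
theorem result (A : Type u) [CommRing A] [Nontrivial A] :
    RingTheory.Sequence.IsRegular (Lie3Mod.D A) [Lie3Mod.L1 A, Lie3Mod.L2 A, Lie3Mod.L3 A] ∧
      RingTheory.Sequence.IsRegular (Lie3Mod.D A) [Lie3Mod.Q1 A, Lie3Mod.Q2 A, Lie3Mod.Q3 A] := by
  open Groth.Agent.Lie3 MvPolynomial in
  refine ⟨isRegular_of_nzd A (Groth.Agent.Lie3.coord_L A).1 (Groth.Agent.Lie3.coord_L A).2.1
    (Groth.Agent.Lie3.coord_L A).2.2 (nzd_X 0) (nzd_X1 (by decide)) (nzd_X2 (by decide) (by decide))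
    (by simp), isRegular_of_nzd A (coord_Q1 A) (coord_Q2 A) (coord_Q3 A) R1_nzd R2_nzd_R1 R3_nzd_R12 ?_⟩
  simp [R1, R2, R3]

end Groth.Agent.S13087
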