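import Groth.Statements.S13088
import Groth.Agent.Lie3.Prime

set_option autoImplicit false
universe u
open Lie3Mod

namespace Groth.Agent.S13088

/-- Let A be a commutative domain and D = A[a,b,c,d,e,f,g,h,i]. Then the ideal L = (a − i, b + f, d + h)
of D is minimal among the prime ideals of D containing the Jacobi ideal I = (Q1, Q2, Q3), where Q1 =
ah + di − fg − bg, Q2 = ie + bd − fh − ae, Q3 = hc + dc − af − bi. (The published statement is made
with a regular base ring in force, used there as a domain; the printed argument uses only that the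
base ring is a domain, which is the hypothesis taken here.) -/
theorem result (A : Type u) [CommRing A] [IsDomain A] :
    Lie3Mod.idL A ∈ (Lie3Mod.idI A).minimalPrimes := by
  refine ⟨⟨Groth.Agent.Lie3.idL_isPrime A, (Groth.Agent.Lie3.idI_eq_inf A).le.trans inf_le_right⟩,
    fun P ⟨hP, hIP⟩ hPL => ?_⟩
  intro x hx
  have hd : Lie3Mod.detM A ∉ Lie3Mod.idL A := by
    rw [Groth.Agent.Lie3.mem_idL, Groth.Agent.Lie3.coord_det]
    intro h
    have h1 : (1 : MvPolynomial (Fin 9) A) ∈ Groth.Agent.Lie3.L3' A :=
      Groth.Agent.Lie3.det_nzd_L 1 (by rwa [mul_one])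
    exact (Groth.Agent.Lie3.L3_isPrime A).ne_top ((Ideal.eq_top_iff_one _).mpr h1)
  have hmul : Lie3Mod.detM A * x ∈ Lie3Mod.idI A := by
    rw [Groth.Agent.Lie3.mem_idI, map_mul, Groth.Agent.Lie3.coord_det]
    exact Groth.Agent.Lie3.det_L ((Groth.Agent.Lie3.mem_idL A).mp hx)
  exact (hP.mem_or_mem (hIP hmul)).resolve_left fun h => hd (hPL h)

end Groth.Agent.S13088
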