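import Groth.Statements.S13096
import Mathlib.RingTheory.FinitePresentation
import Mathlib.RingTheory.Polynomial.Basic
import Mathlib.RingTheory.FiniteType
import Mathlib.RingTheory.Noetherian.Basic

set_option autoImplicit false
universe u v
open CAlg

namespace Groth.Agent.S13096

/-- Let R be a commutative ring and R' a commutative R-algebra of finite presentation. Then every
surjective R-algebra endomorphism α : R' → R' is bijective (an automorphism). -/
theorem result (R : Type u) [CommRing R]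
    (R' : Type v) [CommRing R'] [Algebra R R'] [Algebra.FinitePresentation R R']
    (α : R' →ₐ[R] R') (hα : Function.Surjective α) : Function.Bijective α := by
  classical
  refine ⟨?_, hα⟩
  obtain ⟨n, π, hπ, ⟨F, hF⟩⟩ := (inferInstance : Algebra.FinitePresentation R R').out
  rw [injective_iff_map_eq_zero]
  intro z hz
  obtain ⟨h, rfl⟩ := hπ z
  choose g hg using fun i : Fin n => hπ (α (π (MvPolynomial.X i)))
  choose y hy using fun i : Fin n => hα (π (MvPolynomial.X i))
  choose q hq using fun i : Fin n => hπ (y i)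
  let γ : MvPolynomial (Fin n) R →ₐ[R] MvPolynomial (Fin n) R := MvPolynomial.aeval g
  have hγ : ∀ a, π (γ a) = α (π a) := fun a =>
    AlgHom.congr_fun (show π.comp γ = α.comp π from MvPolynomial.algHom_ext fun i => by simp [γ, hg]) a
  have hker : ∀ a, π a = 0 → ∃ c : F → MvPolynomial (Fin n) R, ∑ f : F, c f * (f : MvPolynomial (Fin n) R) = a := by
    intro a ha
    have : a ∈ Ideal.span (↑F : Set (MvPolynomial (Fin n) R)) := hF ▸ (RingHom.mem_ker.2 ha)
    rw [← Subtype.range_coe (s := (↑F : Set (MvPolynomial (Fin n) R))), Ideal.span, Submodule.mem_span_range_iff_exists_fun] at this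
    obtain ⟨c, hc⟩ := this
    exact ⟨c, by simpa using hc⟩
  have hπF : ∀ f : F, π (f : MvPolynomial (Fin n) R) = 0 := fun f => RingHom.mem_ker.1 (hF ▸ Ideal.subset_span f.2)
  have e1 : ∀ f : F, ∃ c : F → MvPolynomial (Fin n) R, ∑ f' : F, c f' * (f' : MvPolynomial (Fin n) R) = γ f :=
    fun f => hker _ (by rw [hγ, hπF, map_zero])
  have e2 : ∀ i, ∃ c : F → MvPolynomial (Fin n) R, ∑ f' : F, c f' * (f' : MvPolynomial (Fin n) R) = γ (q i) - MvPolynomial.X i :=
    fun i => hker _ (by rw [map_sub, hγ, hq, hy, sub_self])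
  choose c1 hc1 using e1
  choose c2 hc2 using e2
  obtain ⟨c3, hc3⟩ := hker _ (show π (γ h) = 0 by rw [hγ, hz])
  let all : Finset (MvPolynomial (Fin n) R) := F ∪ Finset.univ.image g ∪ Finset.univ.image q ∪
    Finset.univ.image (fun p : F × F => c1 p.1 p.2) ∪ Finset.univ.image (fun p : Fin n × F => c2 p.1 p.2) ∪
    Finset.univ.image c3 ∪ {h}
  let s : Finset R := all.biUnion fun a => a.coeffs
  let R₀ : Subalgebra ℤ R := Algebra.adjoin ℤ (↑s : Set R)
  have : Algebra.FiniteType ℤ R₀ := (Subalgebra.fg_iff_finiteType R₀).1 (Subalgebra.fg_adjoin_finset _)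
  have : IsNoetherianRing R₀ := Algebra.FiniteType.isNoetherianRing ℤ R₀
  let ι : R₀ →+* R := R₀.val.toRingHom
  have hlift : ∀ a ∈ all, ∃ a₀, MvPolynomial.map ι a₀ = a := fun a ha =>
    MvPolynomial.mem_range_map_iff_coeffs_subset.2 (fun r hr => ⟨⟨r, Algebra.subset_adjoin (Finset.mem_biUnion.2 ⟨a, ha, hr⟩)⟩, rfl⟩)
  choose F₀ hF₀ using fun f : F => hlift f (by simp [all])
  choose g₀ hg₀ using fun i => hlift (g i) (by simp [all])
  choose q₀ hq₀ using fun i => hlift (q i) (by simp [all])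
  choose d1 hd1 using fun p : F × F => hlift (c1 p.1 p.2) (Finset.mem_union_left _ (Finset.mem_union_left _ (Finset.mem_union_left _ (Finset.mem_union_right _ (Finset.mem_image_of_mem _ (Finset.mem_univ p))))))
  choose d2 hd2 using fun p : Fin n × F => hlift (c2 p.1 p.2) (Finset.mem_union_left _ (Finset.mem_union_left _ (Finset.mem_union_right _ (Finset.mem_image_of_mem _ (Finset.mem_univ p)))))
  choose d3 hd3 using fun f : F => hlift (c3 f) (Finset.mem_union_left _ (Finset.mem_union_right _ (Finset.mem_image_of_mem _ (Finset.mem_univ f))))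
  obtain ⟨h₀, hh₀⟩ := hlift h (by simp [all])
  have hinj : Function.Injective (MvPolynomial.map (σ := Fin n) ι) := MvPolynomial.map_injective _ Subtype.val_injective
  let γ₀ : MvPolynomial (Fin n) R₀ →ₐ[R₀] MvPolynomial (Fin n) R₀ := MvPolynomial.aeval g₀
  have hsq : ∀ a, MvPolynomial.map ι (γ₀ a) = γ (MvPolynomial.map ι a) := by
    intro a
    induction a using MvPolynomial.induction_on with
    | C a => simp [γ, γ₀]
    | add a b ha hb => simp [ha, hb]
    | mul_X a i ha => simp [ha]; simp [γ, γ₀, hg₀]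
  let I₀ : Ideal (MvPolynomial (Fin n) R₀) := Ideal.span (Set.range F₀)
  have mk1 : ∀ (d : F → MvPolynomial (Fin n) R₀) (a : MvPolynomial (Fin n) R₀) (c : F → MvPolynomial (Fin n) R),
      (∀ f, MvPolynomial.map ι (d f) = c f) → ∑ f : F, c f * (f : MvPolynomial (Fin n) R) = MvPolynomial.map ι a → a ∈ I₀ := by
    intro d a c hd hc
    have : a = ∑ f : F, d f * F₀ f := hinj (by rw [← hc, map_sum]; simp [hd, hF₀])
    rw [this]
    exact sum_mem fun f _ => I₀.mul_mem_left _ (Ideal.subset_span ⟨f, rfl⟩)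
  have hI : I₀ ≤ I₀.comap γ₀.toRingHom := Ideal.span_le.2 fun _ ⟨f, hf⟩ => hf ▸ mk1 (fun f' => d1 (f, f')) _ (c1 f)
    (fun f' => hd1 (f, f')) (by rw [hc1, AlgHom.toRingHom_eq_coe, RingHom.coe_coe, hsq, hF₀])
  let B := MvPolynomial (Fin n) R₀ ⧸ I₀
  let α₀ : B →ₐ[R₀] B := Ideal.quotientMapₐ I₀ γ₀ hI
  have hsurj : Function.Surjective α₀ := by
    rw [← AlgHom.range_eq_top, eq_top_iff]
    rintro x -
    obtain ⟨a, rfl⟩ := Ideal.Quotient.mk_surjective x
    induction a using MvPolynomial.induction_on with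
    | C a => exact α₀.range.algebraMap_mem a
    | add a b ha hb => rw [map_add]; exact add_mem ha hb
    | mul_X a i ha =>
      rw [map_mul]
      refine mul_mem ha ⟨Ideal.Quotient.mk I₀ (q₀ i), ?_⟩
      change Ideal.Quotient.mk I₀ (γ₀ (q₀ i)) = _
      rw [Ideal.Quotient.eq]
      exact mk1 (fun f => d2 (i, f)) _ (c2 i) (fun f => hd2 (i, f)) (by rw [hc2, map_sub, hsq, hq₀, MvPolynomial.map_X])
  have hinj₀ : Function.Injective α₀ := by
    let K : ℕ →o Ideal B := ⟨fun k => RingHom.ker (α₀.toRingHom ^ k), monotone_nat_of_le_succ fun k x hx => by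
      simp only [RingHom.mem_ker, RingHom.coe_pow] at hx ⊢
      rw [Function.iterate_succ_apply', hx, map_zero]⟩
    obtain ⟨k, hk⟩ := monotone_stabilizes_iff_noetherian.2 (isNoetherianRing_of_surjective _ (MvPolynomial (Fin n) R₀ ⧸ I₀) (Ideal.Quotient.mk I₀) Ideal.Quotient.mk_surjective) K
    rw [injective_iff_map_eq_zero]
    intro x hx
    obtain ⟨y, hy⟩ := (hsurj.iterate k) x
    have : y ∈ K (k + 1) := by
      simp only [K, OrderHom.coe_mk, RingHom.mem_ker, RingHom.coe_pow, Function.iterate_succ_apply']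
      change α₀ ((⇑α₀)^[k] y) = 0
      rw [hy, hx]
    rw [← hk (k + 1) (Nat.le_succ k)] at this
    simp only [K, OrderHom.coe_mk, RingHom.mem_ker, RingHom.coe_pow] at this
    exact hy ▸ this
  have hh : h₀ ∈ I₀ := by
    rw [← Ideal.Quotient.eq_zero_iff_mem]
    apply hinj₀
    rw [map_zero]
    change Ideal.Quotient.mk I₀ (γ₀ h₀) = 0
    rw [Ideal.Quotient.eq_zero_iff_mem]
    exact mk1 d3 _ c3 hd3 (by rw [hc3, hsq, hh₀])
  have hle : I₀ ≤ RingHom.ker (π.toRingHom.comp (MvPolynomial.map ι)) := Ideal.span_le.2 fun _ ⟨f, hf⟩ => hf ▸ (by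
    simp [RingHom.mem_ker, hF₀, hπF])
  simpa [RingHom.mem_ker, hh₀] using hle hh

end Groth.Agent.S13096
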