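import Groth.Statements.S13097
import Mathlib.AlgebraicGeometry.ZariskisMainTheorem

set_option autoImplicit false
universe u
open FlatMor

namespace Groth.Agent.S13097

open CategoryTheory AlgebraicGeometry in
/-- Let f : X → S be a quasi-compact, separated morphism of schemes with a section e : S → X (e followed
by f is the identity of S), and U ⊆ S an open subscheme such that f⁻¹(U) is schematically dense in X
(for every open V of X, restriction of functions from V to V ∩ f⁻¹(U) is injective) and such that
the restriction f⁻¹(U) → U of f is a homeomorphism of underlying spaces. Then f is universally a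
homeomorphism (every base change of f is a homeomorphism), and f is finite as soon as it is locally
of finite type. (The published statement also lists surjectivity of f, which a section forces, and
offers as an alternative to the section the hypothesis that f be flat, still with f⁻¹(U) → U only a
homeomorphism; that flat alternative fails: the spectrum of a separable quadratic field extension
over the spectrum of the ground field, with U the whole base, is flat, surjective, quasi-compact,
separated and a homeomorphism over U, yet not universally injective. Only the case of a section,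
whose published proof is complete, is stated here.) -/
theorem result {X S : Scheme.{u}} (f : X ⟶ S)
    [QuasiCompact f] [IsSeparated f] (U : S.Opens)
    (hdense : CInt.IsSchematicallyDense (f ⁻¹ᵁ U)) (hU : IsHomeomorph (f ∣_ U).base)
    (e : S ⟶ X) (he : e ≫ f = 𝟙 S) :
    FlatMor.IsUnivHomeo f ∧ (LocallyOfFiniteType f → IsFinite f) := by
  have hcl : IsClosedImmersion e := by
    have : IsClosedImmersion (e ≫ f) := by rw [he]; infer_instance
    exact IsClosedImmersion.of_comp e f
  have hfe : ∀ s : S, f (e s) = s := fun s => by
    rw [← Scheme.Hom.comp_apply, he]; rfl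
  have hd : Dense ((f ⁻¹ᵁ U : X.Opens) : Set X) := by
    rw [dense_iff_inter_open]
    intro V hV ⟨v, hv⟩
    by_contra hne
    rw [Set.not_nonempty_iff_eq_empty] at hne
    let V' : X.Opens := ⟨V, hV⟩
    have hs : Subsingleton Γ(X, V' ⊓ f ⁻¹ᵁ U) := by
      have : (V' ⊓ f ⁻¹ᵁ U : X.Opens) = ⊥ := TopologicalSpace.Opens.ext hne
      rw [this]; infer_instance
    have h0 : (1 : Γ(X, V')) = 0 := hdense V' (Subsingleton.elim (α := Γ(X, V' ⊓ f ⁻¹ᵁ U)) _ _)
    have := congrArg (X.presheaf.germ V' v hv) h0
    rw [map_one, map_zero] at this
    exact one_ne_zero this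
  have hsurj : Function.Surjective e := by
    have hsub : ((f ⁻¹ᵁ U : X.Opens) : Set X) ⊆ Set.range e := fun x hx => by
      refine ⟨f x, congrArg Subtype.val (hU.injective (a₁ := ⟨e (f x), ?_⟩) (a₂ := ⟨x, hx⟩) ?_)⟩
      · show f (e (f x)) ∈ U
        rw [hfe]; exact hx
      · rw [morphismRestrict_base]
        exact Subtype.ext (hfe (f x))
    rw [← Set.range_eq_univ, ← hcl.base_closed.isClosed_range.closure_eq]
    exact Set.eq_univ_of_univ_subset (hd.closure_eq.symm.le.trans (closure_mono hsub))
  have hcl' : Surjective e := ⟨hsurj⟩
  have huh : FlatMor.IsUnivHomeo f := by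
    intro X' T g' g f' sq₀
    have sq := sq₀.flip
    show IsHomeomorph f'
    let e' : T ⟶ X' := sq.lift (g ≫ e) (𝟙 T) (by rw [Category.assoc, he, Category.comp_id, Category.id_comp])
    have h1 : e' ≫ g' = g ≫ e := sq.lift_fst _ _ _
    have h2 : e' ≫ f' = 𝟙 T := sq.lift_snd _ _ _
    have sq' : IsPullback g e' e g' := IsPullback.of_bot
      (show IsPullback g (e' ≫ f') (e ≫ f) g from by
        rw [h2, he]; exact IsPullback.of_vert_isIso ⟨by simp⟩) h1.symm sq
    have hsur : Surjective e' := MorphismProperty.of_isPullback (P := @Surjective) sq' hcl'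
    have : IsClosedImmersion e' := MorphismProperty.of_isPullback (P := @IsClosedImmersion) sq' hcl
    have hh : IsHomeomorph e' :=
      isHomeomorph_iff_isEmbedding_surjective.2 ⟨e'.isClosedEmbedding.isEmbedding, hsur.surj⟩
    have : ⇑f' = ⇑(hh.homeomorph.symm) := by
      ext y
      obtain ⟨t, rfl⟩ := hsur.surj y
      rw [← Scheme.Hom.comp_apply, h2]
      exact (hh.homeomorph.symm_apply_apply t).symm
    rw [this]
    exact hh.homeomorph.symm.isHomeomorph
  refine ⟨huh, fun hft => ?_⟩
  have hbij : IsHomeomorph f := huh _ _ _ IsPullback.of_id_snd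
  have : UniversallyClosed f :=
    ⟨fun X' T g' g f' sq => (show IsHomeomorph f' from huh g' g f' sq).isClosedMap⟩
  have : IsProper f := { }
  have : LocallyQuasiFinite f := LocallyQuasiFinite.of_injective hbij.injective
  exact (IsFinite.iff_isProper_and_locallyQuasiFinite f).2 ⟨inferInstance, inferInstance⟩

end Groth.Agent.S13097
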