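import Groth.Statements.S13098
import Mathlib

set_option autoImplicit false
universe u v
open Lie3Mod

namespace Groth.Agent.S13098

/-- Let R be a commutative ring, M an R-module with a basis x = bs 0, y = bs 1, z = bs 2 indexed by Fin
3, and B an R-bilinear alternating map on M (B m m = 0) with B x y = a x + b y + c z, B x z = d x +
e y + f z and B y z = g x + h y + i z. Then B satisfies the Jacobi identity for all triples if and
only if the three Jacobi polynomials vanish: ah + di − fg − bg = 0, ie + bd − fh − ae = 0 and hc +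
dc − af − bi = 0. (This is the statement that Lie brackets on a based free module of rank 3 are the
points of the closed subscheme of affine 9-space defined by these three equations.) -/
theorem result (R : Type u) [CommRing R] (M : Type v) [AddCommGroup M] [Module R M]
    (bs : Module.Basis (Fin 3) R M) (B : M →ₗ[R] M →ₗ[R] M) (halt : ∀ m : M, B m m = 0)
    (a b c d e f g h i : R)
    (hxy : B (bs 0) (bs 1) = a • bs 0 + b • bs 1 + c • bs 2)
    (hxz : B (bs 0) (bs 2) = d • bs 0 + e • bs 1 + f • bs 2)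
    (hyz : B (bs 1) (bs 2) = g • bs 0 + h • bs 1 + i • bs 2) :
    (∀ u v w : M, B u (B v w) + B v (B w u) + B w (B u v) = 0) ↔
      (a * h + d * i - f * g - b * g = 0 ∧ i * e + b * d - f * h - a * e = 0 ∧
        h * c + d * c - a * f - b * i = 0) := by
  have skew : ∀ u v : M, B v u = -B u v := fun u v => by
    have h := halt (u + v)
    simp only [map_add, LinearMap.add_apply, halt, zero_add, add_zero] at h
    exact eq_neg_of_add_eq_zero_left h
  have key : ∀ x₀ x₁ x₂ y₀ y₁ y₂ z₀ z₁ z₂ : R,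
      B (x₀ • bs 0 + x₁ • bs 1 + x₂ • bs 2) (B (y₀ • bs 0 + y₁ • bs 1 + y₂ • bs 2) (z₀ • bs 0 + z₁ • bs 1 + z₂ • bs 2)) +
        B (y₀ • bs 0 + y₁ • bs 1 + y₂ • bs 2) (B (z₀ • bs 0 + z₁ • bs 1 + z₂ • bs 2) (x₀ • bs 0 + x₁ • bs 1 + x₂ • bs 2)) +
        B (z₀ • bs 0 + z₁ • bs 1 + z₂ • bs 2) (B (x₀ • bs 0 + x₁ • bs 1 + x₂ • bs 2) (y₀ • bs 0 + y₁ • bs 1 + y₂ • bs 2)) =
      (x₀ * (y₁ * z₂ - y₂ * z₁) - x₁ * (y₀ * z₂ - y₂ * z₀) + x₂ * (y₀ * z₁ - y₁ * z₀)) •
        ((a * h + d * i - f * g - b * g) • bs 0 + (i * e + b * d - f * h - a * e) • bs 1 +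
          (h * c + d * c - a * f - b * i) • bs 2) := by
    intros
    simp only [map_add, map_smul, LinearMap.add_apply, LinearMap.smul_apply, halt,
      skew (bs 0) (bs 1), skew (bs 0) (bs 2), skew (bs 1) (bs 2), hxy, hxz, hyz, smul_zero, map_zero,
      map_neg, LinearMap.neg_apply, zero_add, add_zero, smul_neg, smul_add, neg_add]
    module
  constructor
  · intro H
    have h1 := key 1 0 0 0 1 0 0 0 1
    rw [H] at h1
    simp only [mul_one, mul_zero, sub_zero, add_zero, one_smul] at h1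
    have hc := fun j : Fin 3 => congr_arg (fun m => bs.repr m j) h1.symm
    refine ⟨?_, ?_, ?_⟩
    · simpa using hc 0
    · simpa using hc 1
    · simpa using hc 2
  · rintro ⟨h₁, h₂, h₃⟩ u v w
    have hexp : ∀ m : M, m = bs.repr m 0 • bs 0 + bs.repr m 1 • bs 1 + bs.repr m 2 • bs 2 := fun m => by
      conv_lhs => rw [← bs.sum_repr m, Fin.sum_univ_three]
    rw [hexp u, hexp v, hexp w, key, h₁, h₂, h₃]
    simp

end Groth.Agent.S13098
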