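import Groth.Statements.S13099
import Groth.Agent.GaLib.Chars
import Mathlib.RingTheory.MvPolynomial.Ideal
import Mathlib.RingTheory.FiniteType
import Mathlib.RingTheory.OrzechProperty
import Mathlib.RingTheory.AdjoinRoot

set_option autoImplicit false
universe u
open GrpSch

namespace Groth.Agent.S13099

open Polynomial in
/-- Let p be a prime and A a commutative ring of characteristic p, and consider the infinitesimal group
scheme Spec A[X]/(X^{p²}) with the additive group law. In coordinates: (1) a polynomial q ∈ A[X] of
degree less than p² satisfies q(Y + Z) − q(Y) − q(Z) ∈ (Y^{p²}, Z^{p²}) in A[Y, Z] (that is, X ↦ q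
respects the comultiplication) if and only if q = a₁ X + a_p X^p for some a₁, a_p ∈ A; (2) an
A-algebra endomorphism of A[X]/(X^{p²}) that sends the class of X to the class of a₁ X + a_p X^p is
bijective if and only if a₁ is a unit of A. (The printed statement is that the automorphism group
scheme of this group scheme is the semidirect product of the additive group by the multiplicative
group, v acting on u by v^{p−1}u; this row records the two computations it consists of, in
coordinates.) -/
theorem result (p : ℕ) [Fact p.Prime] (A : Type u) [CommRing A] [CharP A p] :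
    (∀ q : A[X], q.natDegree < p ^ 2 →
      (Polynomial.aeval (MvPolynomial.X 0 + MvPolynomial.X 1 : MvPolynomial (Fin 2) A) q -
            Polynomial.aeval (MvPolynomial.X 0 : MvPolynomial (Fin 2) A) q -
            Polynomial.aeval (MvPolynomial.X 1 : MvPolynomial (Fin 2) A) q ∈
          Ideal.span ({MvPolynomial.X 0 ^ p ^ 2, MvPolynomial.X 1 ^ p ^ 2} : Set (MvPolynomial (Fin 2) A)) ↔
        ∃ a₁ ap : A, q = Polynomial.C a₁ * X + Polynomial.C ap * X ^ p)) ∧
    (∀ (a₁ ap : A) (φ : (A[X] ⧸ Ideal.span ({X ^ p ^ 2} : Set A[X])) →ₐ[A] (A[X] ⧸ Ideal.span ({X ^ p ^ 2} : Set A[X]))),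
      φ (Ideal.Quotient.mk (Ideal.span ({X ^ p ^ 2} : Set A[X])) X) =
          Ideal.Quotient.mk (Ideal.span ({X ^ p ^ 2} : Set A[X])) (Polynomial.C a₁ * X + Polynomial.C ap * X ^ p) →
        (Function.Bijective φ ↔ IsUnit a₁)) := by
  open Groth.Agent.GaLib in
  have hp : p.Prime := Fact.out
  constructor
  · intro q hq
    have hset : ({(MvPolynomial.X 0 ^ p ^ 2 : MvPolynomial (Fin 2) A), MvPolynomial.X 1 ^ p ^ 2} : Set (MvPolynomial (Fin 2) A)) =
        (fun s => MvPolynomial.monomial s (1 : A)) '' {Finsupp.single 0 (p ^ 2), Finsupp.single 1 (p ^ 2)} := by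
      simp [Set.image_pair, MvPolynomial.X_pow_eq_monomial]
    constructor
    · intro h
      rw [hset, MvPolynomial.mem_ideal_span_monomial_image] at h
      have hc : ∀ i j, i < p ^ 2 → j < p ^ 2 →
          ((i + j).choose i : A) * q.coeff (i + j) - (if j = 0 then q.coeff i else 0) - (if i = 0 then q.coeff j else 0) = 0 := by
        intro i j hi hj
        rw [← coeff_aeval_add, ← coeff_aeval_X0, ← coeff_aeval_X1, ← MvPolynomial.coeff_sub, ← MvPolynomial.coeff_sub]
        by_contra hne
        obtain ⟨s, hs, hle⟩ := h _ (MvPolynomial.mem_support_iff.2 hne)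
        rcases hs with rfl | rfl
        · have := hle 0; simp at this; omega
        · have := hle 1; simp at this; omega
      have h00 : q.coeff 0 = 0 := by
        have := hc 0 0 (pow_pos hp.pos 2) (pow_pos hp.pos 2)
        simpa using this
      have key : ∀ m, m ≠ 1 → m ≠ p → q.coeff m = 0 := by
        intro m hm1 hmp
        by_cases hm : m < p ^ 2
        · obtain ⟨a, b, ha, hb, rfl⟩ : ∃ a b, a < p ∧ b < p ∧ m = a * p + b :=
            ⟨m / p, m % p, Nat.div_lt_of_lt_mul (by rwa [← sq]), Nat.mod_lt _ hp.pos, by rw [mul_comm]; exact (Nat.div_add_mod m p).symm⟩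
          rcases Nat.eq_zero_or_pos a with rfl | ha0
          · rcases Nat.eq_zero_or_pos b with rfl | hb0
            · simpa using h00
            · have hb2 : 2 ≤ b := by simp at hm1; omega
              have := hc 1 (b - 1) (Nat.one_lt_pow two_ne_zero hp.one_lt) (lt_of_le_of_lt (Nat.sub_le _ _) (lt_of_lt_of_le hb (by nlinarith)))
              rw [if_neg (by omega), if_neg one_ne_zero, sub_zero, sub_zero, show 1 + (b - 1) = b by omega, Nat.choose_one_right,
                (natCast_ne_zero_of_lt p A hb0 hb).mul_right_eq_zero] at this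
              simpa using this
          · rcases Nat.eq_zero_or_pos b with rfl | hb0
            · have ha2 : 2 ≤ a := by
                by_contra hcon
                obtain rfl : a = 1 := by omega
                simp at hmp
              have := hc p ((a - 1) * p) (by nlinarith [hp.one_lt]) (by
                rw [sq]; exact Nat.mul_lt_mul_of_pos_right (by omega) hp.pos)
              rw [if_neg (Nat.mul_ne_zero (by omega) hp.ne_zero), if_neg hp.ne_zero, sub_zero, sub_zero,
                show p + (a - 1) * p = a * p ^ 1 by rw [pow_one, add_comm, ← Nat.succ_mul, Nat.succ_eq_add_one, Nat.sub_add_cancel ha0]] at this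
              have hch := choose_mul_pow_pow p A (v := 1) (q := a)
              rw [pow_one] at hch
              simp only [pow_one] at this
              rw [hch, (natCast_ne_zero_of_lt p A ha0 ha).mul_right_eq_zero] at this
              simpa using this
            · have := hc b (a * p) (by nlinarith) (by rw [sq]; exact Nat.mul_lt_mul_of_pos_right ha hp.pos)
              rw [if_neg (Nat.mul_ne_zero (by omega) hp.ne_zero), if_neg (by omega), sub_zero, sub_zero, add_comm b] at this
              have hch := choose_block_low p A (v := 1) (q := a) (r := b) (by simpa using hb)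
              rw [pow_one] at hch
              rwa [hch, one_mul] at this
        · exact Polynomial.coeff_eq_zero_of_natDegree_lt (lt_of_lt_of_le hq (not_lt.1 hm))
      refine ⟨q.coeff 1, q.coeff p, ?_⟩
      ext m
      simp only [Polynomial.coeff_add, Polynomial.coeff_C_mul_X_pow]
      rw [show (C (q.coeff 1) * X : A[X]) = C (q.coeff 1) * X ^ 1 by rw [pow_one], Polynomial.coeff_C_mul_X_pow]
      by_cases hm1 : m = 1
      · subst hm1; rw [if_pos rfl, if_neg hp.one_lt.ne, add_zero]
      · by_cases hmp : m = p
        · subst hmp; rw [if_neg hm1, if_pos rfl, zero_add]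
        · rw [if_neg hm1, if_neg hmp, add_zero]; exact key m hm1 hmp
    · rintro ⟨a₁, ap, rfl⟩
      convert zero_mem (Ideal.span ({MvPolynomial.X 0 ^ p ^ 2, MvPolynomial.X 1 ^ p ^ 2} : Set (MvPolynomial (Fin 2) A)))
      simp only [map_add, map_mul, map_pow, Polynomial.aeval_C, Polynomial.aeval_X, add_pow_char]
      ring
  · generalize hK : Ideal.span ({X ^ p ^ 2} : Set A[X]) = K
    intro a₁ ap φ hφ
    set x : A[X] ⧸ K := Ideal.Quotient.mk K X with hx
    have hxp : (x ^ p) ^ p = 0 := by
      rw [← pow_mul, ← sq, hx, ← map_pow, Ideal.Quotient.eq_zero_iff_mem, ← hK]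
      exact Ideal.subset_span rfl
    have hφx : φ x = algebraMap A _ a₁ * x + algebraMap A _ ap * x ^ p := by
      rw [hφ, map_add, map_mul, map_mul, map_pow]; rfl
    have : CharP (MvPolynomial (Fin 1) A) p := inferInstance
    have hφxp : φ (x ^ p) = algebraMap A _ (a₁ ^ p) * x ^ p := by
      rcases subsingleton_or_nontrivial (A[X] ⧸ K) with hs | hs
      · exact Subsingleton.elim _ _
      have hpz : (p : A[X] ⧸ K) = 0 := by rw [← map_natCast (algebraMap A _), CharP.cast_eq_zero, map_zero]
      have : CharP (A[X] ⧸ K) p := (CharP.charP_iff_prime_eq_zero hp).2 hpz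
      rw [map_pow, hφx, add_pow_char, mul_pow, mul_pow, hxp, mul_zero, add_zero, map_pow]
    constructor
    · intro hb
      obtain ⟨r, hr⟩ := hb.2 x
      obtain ⟨s, rfl⟩ := Ideal.Quotient.mk_surjective r
      have hmk : ∀ u : A[X], Ideal.Quotient.mk K u = Polynomial.aeval x u := fun u =>
        AlgHom.congr_fun (Polynomial.algHom_ext (by simp [hx]) : Ideal.Quotient.mkₐ A K = Polynomial.aeval x) u
      have h1 : φ (Ideal.Quotient.mk K s) = Polynomial.aeval (φ x) s := by
        rw [Polynomial.aeval_algHom_apply, hmk]
      have h2 : Polynomial.aeval (φ x) s = Ideal.Quotient.mk K (s.comp (C a₁ * X + C ap * X ^ p)) := by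
        rw [hφ, Polynomial.comp_eq_aeval]
        exact Polynomial.aeval_algHom_apply (Ideal.Quotient.mkₐ A K) _ s
      rw [h1, h2, hx, Ideal.Quotient.eq, ← hK, Ideal.mem_span_singleton, Polynomial.X_pow_dvd_iff] at hr
      have c1 := hr 1 (Nat.one_lt_pow two_ne_zero hp.one_lt)
      obtain ⟨t, ht⟩ : ∃ t, s = Polynomial.X * t + C (s.coeff 0) := ⟨s.divX, (Polynomial.X_mul_divX_add s).symm⟩
      rw [Polynomial.coeff_sub, Polynomial.coeff_X_one, sub_eq_zero, ht] at c1
      refine IsUnit.of_mul_eq_one (t.coeff 0) ?_
      rw [Polynomial.add_comp, Polynomial.mul_comp, Polynomial.X_comp, Polynomial.C_comp, Polynomial.coeff_add, Polynomial.coeff_C_ne_zero one_ne_zero, add_zero] at c1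
      have e : (C a₁ * X + C ap * X ^ p) * t.comp (C a₁ * X + C ap * X ^ p) =
          X * ((C a₁ + C ap * X ^ (p - 1)) * t.comp (C a₁ * X + C ap * X ^ p)) := by
        have hs' : (X : A[X]) ^ p = X ^ (p - 1) * X := by rw [← pow_succ, Nat.sub_add_cancel hp.one_le]
        rw [hs']; ring
      rw [e, Polynomial.coeff_X_mul, Polynomial.mul_coeff_zero, Polynomial.coeff_zero_eq_eval_zero (t.comp _), Polynomial.eval_comp] at c1
      simpa [Polynomial.coeff_zero_eq_eval_zero, hp.ne_zero, Nat.sub_ne_zero_of_lt hp.one_lt] using c1
    · intro hu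
      have hfin : Module.Finite A (A[X] ⧸ K) := hK ▸ (Polynomial.monic_X_pow (R := A) (p ^ 2)).finite_quotient
      have hsur : Function.Surjective φ := by
        have h1 : x ^ p ∈ φ.range := by
          refine ⟨algebraMap A _ ((↑hu.unit⁻¹ : A) ^ p) * x ^ p, ?_⟩
          show φ _ = _
          rw [map_mul, AlgHom.commutes, hφxp, ← mul_assoc, ← map_mul, ← mul_pow, hu.val_inv_mul, one_pow, map_one, one_mul]
        have h2 : x ∈ φ.range := by
          have : x = algebraMap A _ (↑hu.unit⁻¹ : A) * (φ x - algebraMap A _ ap * x ^ p) := by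
            rw [hφx, add_sub_cancel_right, ← mul_assoc, ← map_mul, hu.val_inv_mul, map_one, one_mul]
          rw [this]
          exact mul_mem (Subalgebra.algebraMap_mem _ _) (sub_mem ⟨x, rfl⟩ (mul_mem (Subalgebra.algebraMap_mem _ _) h1))
        intro y
        obtain ⟨s, rfl⟩ := Ideal.Quotient.mk_surjective y
        suffices Ideal.Quotient.mk K s ∈ φ.range from this
        induction s using Polynomial.induction_on' with
        | add u v hu hv => rw [map_add]; exact add_mem hu hv
        | monomial n c =>
          rw [← Polynomial.C_mul_X_pow_eq_monomial, map_mul, map_pow]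
          exact mul_mem (Subalgebra.algebraMap_mem φ.range c) (pow_mem h2 n)
      exact ⟨OrzechProperty.injective_of_surjective_endomorphism φ.toLinearMap hsur, hsur⟩

end Groth.Agent.S13099
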