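import Groth.Statements.S13100
import Mathlib.RingTheory.AdicCompletion.Completeness
import Mathlib.RingTheory.Henselian
import Mathlib.RingTheory.PowerSeries.Inverse
import Mathlib.Tactic

set_option autoImplicit false
universe u
open GrpSch

namespace Groth.Agent.S13100

/-- Let k be an algebraically closed field of characteristic different from 2 and K = k((t)) the field
of Laurent series over k. Then a non-zero Laurent series f is a square in K if and only if its order
in t is even; consequently the group Kˣ/Kˣ² of non-zero elements modulo squares has exactly two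
elements, represented by 1 and t. -/
theorem result (k : Type u) [Field k] [IsAlgClosed k] (h2 : (2 : k) ≠ 0)
    (f : LaurentSeries k) (hf : f ≠ 0) : IsSquare f ↔ Even f.order := by
  constructor
  · rintro ⟨g, rfl⟩
    obtain ⟨hg, -⟩ := mul_ne_zero_iff.1 hf
    exact ⟨g.order, HahnSeries.order_mul hg hg⟩
  · rintro ⟨m, hm⟩
    set P := LaurentSeries.powerSeriesPart f
    have hc : PowerSeries.constantCoeff P ≠ 0 := by
      rw [← PowerSeries.coeff_zero_eq_constantCoeff_apply, LaurentSeries.powerSeriesPart_coeff]
      simpa using mt HahnSeries.coeff_order_eq_zero.1 hf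
    obtain ⟨r, hr⟩ := IsAlgClosed.exists_eq_mul_self (PowerSeries.constantCoeff P)
    have hr0 : r ≠ 0 := by rintro rfl; simp at hr; exact hc hr
    let I : Ideal (PowerSeries k) := Ideal.span {PowerSeries.X}
    have hmem : ∀ q : PowerSeries k, q ∈ I ↔ PowerSeries.constantCoeff q = 0 := fun q => by
      rw [Ideal.mem_span_singleton, PowerSeries.X_dvd_iff]
    have hh : HenselianRing (PowerSeries k) I := inferInstance
    obtain ⟨g, hg, -⟩ := hh.is_henselian (Polynomial.X ^ 2 - Polynomial.C P) (Polynomial.monic_X_pow_sub_C P two_ne_zero)
      (PowerSeries.C r) ((hmem _).2 (by simp [hr, sq]))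
      (by
        refine IsUnit.map _ ?_
        simp only [map_sub, Polynomial.derivative_X_pow, Polynomial.derivative_C, sub_zero, Polynomial.eval_mul,
          Polynomial.eval_C, Polynomial.eval_pow, Polynomial.eval_X]
        rw [PowerSeries.isUnit_iff_constantCoeff]
        simp [h2, hr0, map_ofNat])
    rw [Polynomial.IsRoot, Polynomial.eval_sub, Polynomial.eval_pow, Polynomial.eval_X, Polynomial.eval_C, sub_eq_zero] at hg
    refine ⟨HahnSeries.single m (1 : k) * HahnSeries.ofPowerSeries ℤ k g, ?_⟩
    conv_lhs => rw [← LaurentSeries.single_order_mul_powerSeriesPart f, hm]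
    rw [mul_mul_mul_comm, ← map_mul (HahnSeries.ofPowerSeries ℤ k), ← sq g, hg, HahnSeries.single_mul_single, one_mul]

end Groth.Agent.S13100
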