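import Groth.Statements.S13101
import Groth.Agent.LieThree.Basic

set_option autoImplicit false
universe u v
open GrpSch

namespace Groth.Agent.S13101

/-- Let A be a commutative ring in which 2 is a unit, and L a Lie algebra over A, free as a module with
basis x = bs 0, y = bs 1, z = bs 2 and brackets [x,y] = y, [x,z] = y + z, [y,z] = 0. Then for every
Lie algebra automorphism φ of L over A there are b, c, h ∈ A and a unit i of A with φ(x) = x + b y +
c z, φ(y) = i y and φ(z) = h y + i z. Only the form of an automorphism is stated, not that every map
of this form is one. (The published statement identifies the automorphism group scheme with a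
semidirect product of two additive groups by the product of the multiplicative and additive group,
for algebras over a field of Laurent series of characteristic not 2, and deduces the vanishing of
its first cohomology; this row records the determination of the automorphisms, over any base ring
with 2 invertible; the cohomological consequence is not restated.) -/
theorem result (A : Type u) [CommRing A] (h2 : IsUnit (2 : A))
    (L : Type v) [LieRing L] [LieAlgebra A L] (bs : Module.Basis (Fin 3) A L)
    (hxy : ⁅bs 0, bs 1⁆ = bs 1) (hxz : ⁅bs 0, bs 2⁆ = bs 1 + bs 2) (hyz : ⁅bs 1, bs 2⁆ = 0)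
    (φ : L ≃ₗ⁅A⁆ L) :
    ∃ b c h i : A, IsUnit i ∧ φ (bs 0) = bs 0 + b • bs 1 + c • bs 2 ∧ φ (bs 1) = i • bs 1 ∧
      φ (bs 2) = h • bs 1 + i • bs 2 := by
  obtain ⟨a, b, c, e, f, h, i, -, hd, hx, hy, hz, r1, r2, r3, r4⟩ :=
    Groth.Agent.LieThree.shape bs bs (p₁ := 1) (p₂ := 0) (q₁ := 1) (q₂ := 1) (p₁' := 1) (p₂' := 0) (q₁' := 1) (q₂' := 1)
      (by simp) (by simp) (by simp [hxy]) (by simp [hxz]) hyz (by simp [hxy]) (by simp [hxz]) hyz φ
  simp only [mul_one, mul_zero, add_zero, zero_add] at r1 r2 r3 r4
  have f1 : (a - 1) * f = 0 := by linear_combination -r2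
  have hf : f = 0 := by
    have k2 : f * f = 0 := by linear_combination f * r4 + i * f1
    have k3 : f * e + f * i = 0 := by linear_combination -(i * r1) - i * f1 + e * r4
    have k4 : f * e - f * i = 0 := by linear_combination f * r3 - f * r4 + h * f1 + k2
    have k5 : f * e = 0 := by
      have : 2 * (f * e) = 0 := by linear_combination k3 + k4
      exact h2.mul_right_eq_zero.1 this
    have k6 : (a - 1) = 0 := hd.mul_left_eq_zero.1 (by linear_combination -(e * r4) + k5 - h * f1)
    linear_combination r4 + i * k6
  have ha : a = 1 := by
    refine sub_eq_zero.1 (hd.mul_left_eq_zero.1 ?_)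
    subst hf
    linear_combination -(i * r1)
  subst hf ha
  have hei : e = i := by linear_combination r3
  subst hei
  refine ⟨b, c, h, e, isUnit_of_mul_isUnit_left (y := e) (by simpa using hd), ?_, ?_, ?_⟩
  · simpa using hx
  · simpa using hy
  · simpa using hz

end Groth.Agent.S13101
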