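import Groth.Statements.S13102
import Groth.Agent.LieThree.Basic

set_option autoImplicit false
universe u v w
open GrpSch

namespace Groth.Agent.S13102

/-- Let K be a field, α ∈ K, A a commutative K-algebra and L a Lie algebra over A which is free as an
A-module with basis x = bs 0, y = bs 1, z = bs 2 and brackets [x,y] = y, [x,z] = α z, [y,z] = 0. If
α² ≠ 1 then every Lie algebra automorphism φ of L over A satisfies φ(x) = x + b y + c z, φ(y) = e y,
φ(z) = i z for some b, c ∈ A and units e, i of A. If α = 1 then every such φ satisfies φ(x) = x + b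
y + c z, φ(y) = e y + f z, φ(z) = h y + i z with e i − f h a unit of A. (The printed statement
identifies the automorphism group schemes with the corresponding semidirect products, treats also α
= −1 in characteristic not 2, and computes first cohomology over a field of Laurent series; those
clauses are not restated here.) -/
theorem result (K : Type u) [Field K] (α : K) (A : Type v) [CommRing A] [Algebra K A]
    (L : Type w) [LieRing L] [LieAlgebra A L] (bs : Module.Basis (Fin 3) A L)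
    (hxy : ⁅bs 0, bs 1⁆ = bs 1) (hxz : ⁅bs 0, bs 2⁆ = algebraMap K A α • bs 2) (hyz : ⁅bs 1, bs 2⁆ = 0)
    (φ : L ≃ₗ⁅A⁆ L) :
    (α ^ 2 ≠ 1 → ∃ b c e i : A, IsUnit e ∧ IsUnit i ∧ φ (bs 0) = bs 0 + b • bs 1 + c • bs 2 ∧
        φ (bs 1) = e • bs 1 ∧ φ (bs 2) = i • bs 2) ∧
    (α = 1 → ∃ b c e f h i : A, IsUnit (e * i - f * h) ∧ φ (bs 0) = bs 0 + b • bs 1 + c • bs 2 ∧
        φ (bs 1) = e • bs 1 + f • bs 2 ∧ φ (bs 2) = h • bs 1 + i • bs 2) := by
  set t := algebraMap K A α with ht
  rcases eq_or_ne α 0 with rfl | hα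
  · refine ⟨fun _ => ?_, fun h => absurd h zero_ne_one⟩
    open Groth.Agent.LieThree in
    have hxy' : ⁅bs 0, bs 1⁆ = (1 : A) • bs 1 + (0 : A) • bs 2 := by simp [hxy]
    have hxz' : ⁅bs 0, bs 2⁆ = (0 : A) • bs 1 + (0 : A) • bs 2 := by simp [hxz, ht]
    have main : ∀ ψ : L ≃ₗ⁅A⁆ L, ∃ a b c e i : A, ψ (bs 0) = a • bs 0 + b • bs 1 + c • bs 2 ∧
        ψ (bs 1) = (0 : A) • bs 0 + e • bs 1 + (0 : A) • bs 2 ∧ ψ (bs 2) = (0 : A) • bs 0 + (0 : A) • bs 1 + i • bs 2 ∧ a * e = e := by
      intro ψ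
      have h0 := congrArg ψ hxy
      rw [LieEquiv.map_lie, eq_comps bs (ψ (bs 0)), eq_comps bs (ψ (bs 1)), lie_comps bs _ _ _ _ hxy' hxz' hyz] at h0
      obtain ⟨e0, e1, e2⟩ := comps_inj bs h0
      have hy' : ψ (bs 1) = (0 : A) • bs 0 + bs.repr (ψ (bs 1)) 1 • bs 1 + (0 : A) • bs 2 := by
        conv_lhs => rw [eq_comps bs (ψ (bs 1))]
        rw [← e0, show bs.repr (ψ (bs 1)) 2 = 0 by linear_combination -e2]
      have hcen2 : ∀ α' β' γ' : A, ⁅(0 : A) • bs 0 + (0 : A) • bs 1 + (1 : A) • bs 2, α' • bs 0 + β' • bs 1 + γ' • bs 2⁆ = 0 :=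
        fun α' β' γ' => by rw [lie_comps bs _ _ _ _ hxy' hxz' hyz]; simp
      have hcen : ∀ w : L, ⁅ψ (bs 2), w⁆ = 0 := fun w => by
        have hh := hcen2 (bs.repr (ψ.symm w) 0) (bs.repr (ψ.symm w) 1) (bs.repr (ψ.symm w) 2)
        rw [← eq_comps bs (ψ.symm w), show (0 : A) • bs 0 + (0 : A) • bs 1 + (1 : A) • bs 2 = bs 2 by module] at hh
        rw [← ψ.apply_symm_apply w, ← LieEquiv.map_lie, hh]
        simp [← LieEquiv.coe_toLinearEquiv]
      have c1 := hcen ((0 : A) • bs 0 + (1 : A) • bs 1 + (0 : A) • bs 2)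
      have c0 := hcen ((1 : A) • bs 0 + (0 : A) • bs 1 + (0 : A) • bs 2)
      rw [eq_comps bs (ψ (bs 2)), lie_comps bs _ _ _ _ hxy' hxz' hyz,
        show (0 : L) = (0 : A) • bs 0 + (0 : A) • bs 1 + (0 : A) • bs 2 by module] at c1
      rw [eq_comps bs (ψ (bs 2)), lie_comps bs _ _ _ _ hxy' hxz' hyz,
        show (0 : L) = (0 : A) • bs 0 + (0 : A) • bs 1 + (0 : A) • bs 2 by module] at c0
      obtain ⟨-, g1, -⟩ := comps_inj bs c1
      obtain ⟨-, g0, -⟩ := comps_inj bs c0
      have z0 : bs.repr (ψ (bs 2)) 0 = 0 := by linear_combination g1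
      have z1 : bs.repr (ψ (bs 2)) 1 = 0 := by linear_combination -g0
      refine ⟨_, _, _, _, bs.repr (ψ (bs 2)) 2, eq_comps bs _, hy', ?_, ?_⟩
      · conv_lhs => rw [eq_comps bs (ψ (bs 2)), z0, z1]
      · linear_combination e1 + bs.repr (ψ (bs 0)) 1 * e0.symm * 0 - bs.repr (ψ (bs 0)) 1 * e0
    obtain ⟨a, b, c, e, i, hx, hy, hz, hae⟩ := main φ
    obtain ⟨a', b', c', e', i', hx', hy', hz', -⟩ := main φ.symm
    have he : e' * e = 1 := by
      have := φ.apply_symm_apply (bs 1)
      rw [hy'] at this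
      simp only [← LieEquiv.coe_toLinearEquiv, map_add, map_smul] at this
      simp only [LieEquiv.coe_toLinearEquiv, hx, hy, hz] at this
      have := (comps_inj bs (this.trans (show bs 1 = (0 : A) • bs 0 + (1 : A) • bs 1 + (0 : A) • bs 2 by module) |> fun h => (show
        (0 : A) • bs 0 + (e' * e) • bs 1 + (0 : A) • bs 2 = (0 : A) • bs 0 + (1 : A) • bs 1 + (0 : A) • bs 2 from Eq.trans (by module) h))).2.1
      exact this
    have hi : i' * i = 1 := by
      have := φ.apply_symm_apply (bs 2)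
      rw [hz'] at this
      simp only [← LieEquiv.coe_toLinearEquiv, map_add, map_smul] at this
      simp only [LieEquiv.coe_toLinearEquiv, hx, hy, hz] at this
      exact (comps_inj bs (show (0 : A) • bs 0 + (0 : A) • bs 1 + (i' * i) • bs 2 = (0 : A) • bs 0 + (0 : A) • bs 1 + (1 : A) • bs 2 from
        Eq.trans (by module) (this.trans (show bs 2 = (0 : A) • bs 0 + (0 : A) • bs 1 + (1 : A) • bs 2 by module)))).2.2
    have heu : IsUnit e := IsUnit.of_mul_eq_one e' (by rw [mul_comm]; exact he)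
    have ha : a = 1 := heu.mul_right_cancel (by rw [hae, one_mul])
    subst ha
    exact ⟨b, c, e, i, heu, IsUnit.of_mul_eq_one i' (by rw [mul_comm]; exact hi), by simpa using hx, by simpa using hy, by simpa using hz⟩
  obtain ⟨a, b, c, e, f, h, i, -, hd, hx, hy, hz, r1, r2, r3, r4⟩ :=
    Groth.Agent.LieThree.shape bs bs (p₁ := 1) (p₂ := 0) (q₁ := 0) (q₂ := t) (p₁' := 1) (p₂' := 0) (q₁' := 0) (q₂' := t)
      (by simpa using (IsUnit.mk0 α hα).map (algebraMap K A)) (by simpa using (IsUnit.mk0 α hα).map (algebraMap K A))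
      (by simp [hxy]) (by simp [hxz]) hyz (by simp [hxy]) (by simp [hxz]) hyz φ
  simp only [mul_one, mul_zero, add_zero, zero_add] at r1 r2 r3 r4
  constructor
  · intro hα2
    have hu : IsUnit (t ^ 2 - 1) := by simpa using (IsUnit.mk0 (α ^ 2 - 1) (sub_ne_zero.2 hα2)).map (algebraMap K A)
    have hfh : f * h = 0 := hu.mul_right_eq_zero.1 (by linear_combination (-h) * r2 + t * f * r3)
    have hei : IsUnit (e * i) := by simpa [hfh] using hd
    have he := isUnit_of_mul_isUnit_left hei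
    have hi := isUnit_of_mul_isUnit_right hei
    have ha : a = 1 := sub_eq_zero.1 (he.mul_left_eq_zero.1 (by linear_combination -r1))
    subst ha
    have hu1 : IsUnit (t - 1) := isUnit_of_mul_isUnit_left (y := t + 1) (by convert hu using 1; ring)
    refine ⟨b, c, e, i, he, hi, by simpa using hx, ?_, ?_⟩
    · rw [hy, hu1.mul_right_eq_zero.1 (show (t - 1) * f = 0 by linear_combination -r2)]; simp
    · rw [hz, hu1.mul_right_eq_zero.1 (show (t - 1) * h = 0 by linear_combination r3)]; simp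
  · rintro rfl
    simp only [ht, map_one, mul_one] at r1 r2 r3 r4
    have ha : a = 1 := sub_eq_zero.1 (hd.mul_left_eq_zero.1 (by linear_combination -(i * r1) + h * r2))
    subst ha
    exact ⟨b, c, e, f, h, i, hd, by simpa using hx, hy, hz⟩

end Groth.Agent.S13102
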