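import Groth.Statements.S13104
import Groth.Agent.LieSLib.Epi
import Groth.Agent.LieSLib.Basic

set_option autoImplicit false
universe u
open GrpSch

namespace Groth.Agent.S13104
open TrivSqZeroExt

open CategoryTheory AlgebraicGeometry in
set_option maxHeartbeats 1000000 in
/-- Let B be a commutative ring, B[ε] the ring of dual numbers (ε² = 0) and B[α, β]/(α², β²) the double
dual numbers, realised as dual numbers over the dual numbers with α the inner and β the outer
generator, and let ψ : B[ε] → B[α, β]/(α², β²) be the B-algebra homomorphism with ψ(ε) = αβ. Then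
for every scheme G the map u ↦ Spec(ψ) ≫ u from morphisms Spec B[ε] → G to morphisms Spec
B[α,β]/(α²,β²) → G is injective. (The printed statement is its consequence for a group scheme G: the
map Lie(G)(B) → G(B[α,β]/(α²,β²)), x ↦ exp(αβ x), is injective; the injectivity on all B[ε]-points
stated here is what the printed argument establishes.) -/
theorem result (B : Type u) [CommRing B]
    (ψ : DualNumber B →+* DualNumber (DualNumber B))
    (hψB : ∀ b : B, ψ (algebraMap B (DualNumber B) b) = algebraMap B (DualNumber (DualNumber B)) b)
    (hψ : ψ DualNumber.eps = algebraMap (DualNumber B) (DualNumber (DualNumber B)) DualNumber.eps * DualNumber.eps)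
    (G : Scheme.{u}) :
    Function.Injective (fun u : Spec (CommRingCat.of (DualNumber B)) ⟶ G =>
      Spec.map (CommRingCat.ofHom (R := DualNumber B) (S := DualNumber (DualNumber B)) ψ) ≫ u) := by
  intro u v h
  have hdec : ∀ x : DualNumber B, ψ x = algebraMap B (DualNumber (DualNumber B)) x.fst +
      algebraMap B (DualNumber (DualNumber B)) x.snd *
        (algebraMap (DualNumber B) (DualNumber (DualNumber B)) DualNumber.eps * DualNumber.eps) := fun x => by
    have e : x = algebraMap B (DualNumber B) x.fst + algebraMap B (DualNumber B) x.snd * DualNumber.eps := by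
      ext <;> simp [TrivSqZeroExt.algebraMap_eq_inl']
    conv_lhs => rw [e]
    rw [map_add, map_mul, hψB, hψB, hψ]
  dsimp only at h
  have h1 : Function.Injective ψ := fun x y hxy => by
    rw [hdec, hdec] at hxy
    refine TrivSqZeroExt.ext ?_ ?_
    · simpa [TrivSqZeroExt.algebraMap_eq_inl'] using congrArg (fun z : DualNumber (DualNumber B) => z.fst.fst) hxy
    · simpa [TrivSqZeroExt.algebraMap_eq_inl'] using congrArg (fun z : DualNumber (DualNumber B) => z.snd.snd) hxy
  have h2 : Function.Surjective (PrimeSpectrum.comap (R := DualNumber B) (S := DualNumber (DualNumber B)) ψ) := fun p => by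
    obtain ⟨q, rfl⟩ := Groth.Agent.LieSLib.comap_fstHom_surjective (B := B) (M := B) p
    refine ⟨PrimeSpectrum.comap ((TrivSqZeroExt.fstHom B B B).toRingHom.comp
      (TrivSqZeroExt.fstHom (DualNumber B) (DualNumber B) (DualNumber B)).toRingHom) q, ?_⟩
    rw [← PrimeSpectrum.comap_comp_apply]
    congr 1
    exact RingHom.ext fun x => by simp [hdec, TrivSqZeroExt.algebraMap_eq_inl']
  have key := @Groth.Agent.LieSLib.hom_eq_of_injective (DualNumber B) (DualNumber (DualNumber B)) _ _ ψ h1 h2 G u v
  exact key h

end Groth.Agent.S13104
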