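import Groth.Statements.S13106
import Groth.Agent.SGA3xLib.SepFibre

set_option autoImplicit false
universe u
open GrpSch

namespace Groth.Agent.S13106

open CategoryTheory AlgebraicGeometry in
/-- Let f : X → Y be a morphism of schemes and U ⊆ Y a schematically dense open subscheme (for every
open V of Y, restriction of functions from V to V ∩ U is injective) such that the restriction f⁻¹(U)
→ U of f is an isomorphism. Then two morphisms from Y to a scheme separated over a base T that agree
after composing with f and have the same composite to T are equal: if Z → T is separated and v₁, v₂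
: Y → Z satisfy v₁ ≫ (Z → T) = v₂ ≫ (Z → T) and f ≫ v₁ = f ≫ v₂, then v₁ = v₂. (The published
statement is the case of a morphism between two prolongations over A[[t]] of a finite group scheme
over A((t)), where U is the generic fibre, schematically dense by flatness; uniqueness of
prolongation maps follows.) -/
theorem result {X Y Z T : Scheme.{u}} (f : X ⟶ Y)
    (U : Y.Opens) (hU : CInt.IsSchematicallyDense U) [IsIso (f ∣_ U)]
    (z : Z ⟶ T) [IsSeparated z] (v₁ v₂ : Y ⟶ Z) (hz : v₁ ≫ z = v₂ ≫ z) (h : f ≫ v₁ = f ≫ v₂) :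
    v₁ = v₂ := by
  have hUv : U.ι ≫ v₁ = U.ι ≫ v₂ := by
    rw [← cancel_epi (f ∣_ U), ← Category.assoc, ← Category.assoc, morphismRestrict_ι, Category.assoc,
      Category.assoc, h]
  let eq := Limits.pullback.snd (Limits.pullback.diagonal z) (Limits.pullback.lift v₁ v₂ hz)
  have : IsClosedImmersion eq :=
    MorphismProperty.of_isPullback (P := @IsClosedImmersion) (IsPullback.of_hasPullback _ _)
      (IsSeparated.diagonal_isClosedImmersion (f := z))
  have hw : (U.ι ≫ v₁) ≫ Limits.pullback.diagonal z = U.ι ≫ Limits.pullback.lift v₁ v₂ hz := by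
    apply Limits.pullback.hom_ext <;>
      simp only [Category.assoc, Limits.pullback.diagonal_fst, Limits.pullback.diagonal_snd,
        Limits.pullback.lift_fst, Limits.pullback.lift_snd, Category.comp_id, hUv]
  have hd : Dense (Set.range eq.base) :=
    (Groth.Agent.SGA3xLib.dense_of_schematicallyDense hU).mono fun y hy =>
      ⟨(Limits.pullback.lift (U.ι ≫ v₁) U.ι hw).base ⟨y, hy⟩,
        congrArg (fun t => t.base ⟨y, hy⟩) (Limits.pullback.lift_snd (U.ι ≫ v₁) U.ι hw)⟩
  have hrange : Set.range eq.base = Set.univ := by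
    rw [← eq.isClosedEmbedding.isClosed_range.closure_eq, hd.closure_eq]
  have hcond : eq ≫ v₁ = eq ≫ v₂ := by
    have e := Limits.pullback.condition (f := Limits.pullback.diagonal z) (g := Limits.pullback.lift v₁ v₂ hz)
    have e1 := e =≫ Limits.pullback.fst _ _
    have e2 := e =≫ Limits.pullback.snd _ _
    simp only [Category.assoc, Limits.pullback.diagonal_fst, Limits.pullback.diagonal_snd, Limits.pullback.lift_fst,
      Limits.pullback.lift_snd, Category.comp_id] at e1 e2
    exact e1.symm.trans e2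
  have hpt : ∀ y, v₁.base y = v₂.base y := fun y => by
    obtain ⟨x, rfl⟩ : y ∈ Set.range eq.base := hrange ▸ Set.mem_univ y
    exact congrArg (fun t => t.base x) hcond
  refine Scheme.Cover.hom_ext (Scheme.openCoverOfIsOpenCover Y (fun W : Z.affineOpens => v₁ ⁻¹ᵁ W.1) ?_) _ _ fun W => ?_
  · refine TopologicalSpace.IsOpenCover.mk (TopologicalSpace.Opens.ext (Set.eq_univ_of_forall fun y => ?_))
    obtain ⟨_, ⟨W, hW, rfl⟩, hy, -⟩ :=
      Z.isBasis_affineOpens.exists_subset_of_mem_open (Set.mem_univ (v₁.base y)) isOpen_univ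
    exact TopologicalSpace.Opens.mem_iSup.2 ⟨⟨W, hW⟩, hy⟩
  · obtain ⟨W, hW⟩ := W
    show (v₁ ⁻¹ᵁ W).ι ≫ v₁ = (v₁ ⁻¹ᵁ W).ι ≫ v₂
    have : IsAffine (W : Scheme.{u}) := hW
    have h1 : Set.range ((v₁ ⁻¹ᵁ W).ι ≫ v₁).base ⊆ Set.range W.ι.base := by
      rw [W.range_ι]
      rintro _ ⟨p, rfl⟩
      exact p.2
    have h2 : Set.range ((v₁ ⁻¹ᵁ W).ι ≫ v₂).base ⊆ Set.range W.ι.base := by
      rw [W.range_ι]
      rintro _ ⟨p, rfl⟩
      show v₂.base p.1 ∈ (W : Set Z)
      rw [← hpt]
      exact p.2
    rw [← IsOpenImmersion.lift_fac W.ι _ h1, ← IsOpenImmersion.lift_fac W.ι _ h2]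
    congr 1
    refine Groth.Agent.SGA3xLib.eq_of_schematicallyDense
      (Groth.Agent.SGA3xLib.schematicallyDense_preimage (v₁ ⁻¹ᵁ W).ι hU) ?_
    rw [← cancel_mono W.ι, Category.assoc, Category.assoc, IsOpenImmersion.lift_fac, IsOpenImmersion.lift_fac,
      ← Category.assoc, ← morphismRestrict_ι, Category.assoc, hUv, ← Category.assoc, morphismRestrict_ι, Category.assoc]

end Groth.Agent.S13106
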