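import Groth.Statements.S13107
import Groth.Agent.LieThree.Basic

set_option autoImplicit false
universe u v w
open GrpSch

namespace Groth.Agent.S13107

/-- Let k be a field, K = k((t)) the field of Laurent series over k, F a Lie algebra over K with a basis
x' = bF 0, y' = bF 1, z' = bF 2 and brackets [x',y'] = z', [x',z'] = t y', [y',z'] = 0, and L a Lie
algebra over K with a basis x = bL 0, y = bL 1, z = bL 2 and brackets [x,y] = y, [x,z] = −z, [y,z] =
0. Then there is no K-linear isomorphism of Lie algebras between L and F: F is a non-trivial form of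
L over K. (The published result is the classification of three-dimensional Lie algebras over k((t))
for k algebraically closed of characteristic not 2, with F its only non-split entry; this row states
the non-isomorphism of F and L over k((t)) for every field k.) -/
theorem result (k : Type u) [Field k]
    (F : Type v) [LieRing F] [LieAlgebra (LaurentSeries k) F] (bF : Module.Basis (Fin 3) (LaurentSeries k) F)
    (hF01 : ⁅bF 0, bF 1⁆ = bF 2) (hF02 : ⁅bF 0, bF 2⁆ = (HahnSeries.single 1 (1 : k) : LaurentSeries k) • bF 1)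
    (hF12 : ⁅bF 1, bF 2⁆ = 0)
    (L : Type w) [LieRing L] [LieAlgebra (LaurentSeries k) L] (bL : Module.Basis (Fin 3) (LaurentSeries k) L)
    (hL01 : ⁅bL 0, bL 1⁆ = bL 1) (hL02 : ⁅bL 0, bL 2⁆ = -bL 2) (hL12 : ⁅bL 1, bL 2⁆ = 0) :
    IsEmpty (L ≃ₗ⁅LaurentSeries k⁆ F) := by
  refine ⟨fun φ => ?_⟩
  set t : LaurentSeries k := HahnSeries.single 1 (1 : k) with ht
  have ht0 : t ≠ 0 := HahnSeries.single_ne_zero one_ne_zero
  obtain ⟨a, -, -, e, f, h, i, ha, hd, -, -, -, r1, r2, -, -⟩ :=
    Groth.Agent.LieThree.shape bL bF (p₁ := 1) (p₂ := 0) (q₁ := 0) (q₂ := -1) (p₁' := 0) (p₂' := 1) (q₁' := t) (q₂' := 0)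
      (by simp) (by simpa using ht0) (by simp [hL01]) (by simp [hL02]) hL12 (by simp [hF01]) (by simp [hF02]) hF12 φ
  simp only [mul_one, mul_zero, add_zero, zero_add] at r1 r2
  have he : e ≠ 0 := by
    intro he
    rw [he] at r2 hd
    rw [r2] at hd
    simp at hd
  have key : a * a * t = 1 := mul_right_cancel₀ he (by linear_combination -r1 - a * t * r2)
  have h2 := congrArg HahnSeries.order key
  rw [HahnSeries.order_mul (mul_ne_zero ha.ne_zero ha.ne_zero) ht0, HahnSeries.order_mul ha.ne_zero ha.ne_zero,
    ht, HahnSeries.order_single one_ne_zero, HahnSeries.order_one] at h2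
  omega

end Groth.Agent.S13107
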