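import Groth.Statements.S13108
import Groth.Agent.LieThree.Basic
import Mathlib.LinearAlgebra.Basis.SMul
import Mathlib.Tactic.FieldSimp

set_option autoImplicit false
universe u v w
open GrpSch

namespace Groth.Agent.S13108

/-- Let k be a field and t, t' ∈ k both non-zero; let L be a Lie algebra over k with a basis x = b 0, y
= b 1, z = b 2 and brackets [x,y] = y, [x,z] = t z, [y,z] = 0, and L' a Lie algebra over k with a
basis x' = b' 0, y' = b' 1, z' = b' 2 and brackets [x',y'] = y', [x',z'] = t' z', [y',z'] = 0. Then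
L and L' are isomorphic Lie algebras over k if and only if t' = t or t' = t⁻¹. -/
theorem result (k : Type u) [Field k] (t t' : k) (ht : t ≠ 0) (ht' : t' ≠ 0)
    (L : Type v) [LieRing L] [LieAlgebra k L] (b : Module.Basis (Fin 3) k L)
    (h01 : ⁅b 0, b 1⁆ = b 1) (h02 : ⁅b 0, b 2⁆ = t • b 2) (h12 : ⁅b 1, b 2⁆ = 0)
    (L' : Type w) [LieRing L'] [LieAlgebra k L'] (b' : Module.Basis (Fin 3) k L')
    (h01' : ⁅b' 0, b' 1⁆ = b' 1) (h02' : ⁅b' 0, b' 2⁆ = t' • b' 2) (h12' : ⁅b' 1, b' 2⁆ = 0) :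
    Nonempty (L ≃ₗ⁅k⁆ L') ↔ (t' = t ∨ t' = t⁻¹) := by
  constructor
  · rintro ⟨φ⟩
    obtain ⟨a, -, -, e, f, h, i, -, hd, -, -, -, r1, r2, r3, r4⟩ :=
      Groth.Agent.LieThree.shape b b' (p₁ := 1) (p₂ := 0) (q₁ := 0) (q₂ := t) (p₁' := 1) (p₂' := 0) (q₁' := 0) (q₂' := t')
        (by simpa using ht) (by simpa using ht') (by simp [h01]) (by simp [h02]) h12 (by simp [h01']) (by simp [h02']) h12' φ
    simp only [mul_one, mul_zero, add_zero, zero_add] at r1 r2 r3 r4
    have hd0 := hd.ne_zero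
    by_cases hei : e * i = 0
    · have hfh : f * h ≠ 0 := fun h0 => hd0 (by rw [hei, h0, sub_zero])
      obtain ⟨hf, hh⟩ := mul_ne_zero_iff.1 hfh
      have ha : a = t := mul_right_cancel₀ hh (by linear_combination -r3)
      refine Or.inr (eq_inv_of_mul_eq_one_left (mul_right_cancel₀ hf ?_))
      subst ha
      linear_combination -r2
    · obtain ⟨he, hi⟩ := mul_ne_zero_iff.1 hei
      have ha : a = 1 := mul_right_cancel₀ he (by linear_combination -r1)
      subst ha
      exact Or.inl (mul_right_cancel₀ hi (by linear_combination -r4))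
  · rintro (rfl | rfl)
    · let e := b.equiv b' (Equiv.refl _)
      refine ⟨{ e with map_lie' := fun {u v} => ?_ }⟩
      show e ⁅u, v⁆ = ⁅e u, e v⁆
      rw [Groth.Agent.LieThree.eq_comps b u, Groth.Agent.LieThree.eq_comps b v,
        Groth.Agent.LieThree.lie_comps b 1 0 0 t' (by simp [h01]) (by simp [h02]) h12]
      simp only [map_add, map_smul, e, Module.Basis.equiv_apply, Equiv.refl_apply]
      rw [Groth.Agent.LieThree.lie_comps b' 1 0 0 t' (by simp [h01']) (by simp [h02']) h12']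
    · let w : Fin 3 → kˣ := ![(Units.mk0 t ht), 1, 1]
      let e := b.equiv (b'.unitsSMul w) (Equiv.swap 1 2)
      refine ⟨{ e with map_lie' := fun {u v} => ?_ }⟩
      show e ⁅u, v⁆ = ⁅e u, e v⁆
      rw [Groth.Agent.LieThree.eq_comps b u, Groth.Agent.LieThree.eq_comps b v,
        Groth.Agent.LieThree.lie_comps b 1 0 0 t (by simp [h01]) (by simp [h02]) h12]
      generalize b.repr u 0 = a0; generalize b.repr u 1 = a1; generalize b.repr u 2 = a2
      generalize b.repr v 0 = c0; generalize b.repr v 1 = c1; generalize b.repr v 2 = c2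
      have he : e (b 0) = t • b' 0 ∧ e (b 1) = b' 2 ∧ e (b 2) = b' 1 := by
        simp [e, w, Module.Basis.equiv_apply, Module.Basis.unitsSMul_apply, Units.smul_def, Equiv.swap_apply_def]
      simp only [map_add, map_smul, he.1, he.2.1, he.2.2, smul_smul]
      rw [show (a0 * t) • b' 0 + a1 • b' 2 + a2 • b' 1 = (a0 * t) • b' 0 + a2 • b' 1 + a1 • b' 2 by module,
        show (c0 * t) • b' 0 + c1 • b' 2 + c2 • b' 1 = (c0 * t) • b' 0 + c2 • b' 1 + c1 • b' 2 by module,
        Groth.Agent.LieThree.lie_comps b' 1 0 0 t⁻¹ (by simp [h01']) (by simp [h02']) h12']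
      match_scalars <;> field_simp <;> ring

end Groth.Agent.S13108
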