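import Mathlib.RingTheory.IntegralClosure.IsIntegralClosure.Basic
import Mathlib.RingTheory.Localization.FractionRing
import Mathlib.RingTheory.Noetherian.Basic
import Mathlib.RingTheory.Nilpotent.Defs
import Groth.Prelude.Def_HTop2
import Groth.Prelude.Def_W4c1hilbchowincPtFun
import Groth.Agent.HTop16.PtFunBasic
import Mathlib.RingTheory.IntegralClosure.IntegrallyClosed
import Mathlib.RingTheory.DiscreteValuationRing.Basic
import Mathlib.Tactic.FieldSimp
import Mathlib.RingTheory.Polynomial.RationalRoot
import Mathlib.Tactic.LinearCombination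

set_option autoImplicit false
universe u
namespace HTop
end HTop
open HTop

namespace Groth.Agent.S13111

open AlgebraicGeometry W4c1hilbchowinc in
theorem div_of_sq_cube {K : Type*} [Field K] {u v : K} (h : u ^ 3 = v ^ 2) :
    u = (v / u) ^ 2 ∧ v = (v / u) ^ 3 := by
  rcases eq_or_ne u 0 with rfl | hu
  · have : v = 0 := pow_eq_zero_iff two_ne_zero |>.1 (by simpa using h.symm)
    simp [this]
  constructor <;> field_simp <;> grind

open IsLocalRing in
theorem exists_of_sq_cube {R : Type*} [CommRing R] [IsDomain R] [IsIntegrallyClosed R] {u v : R} (h : u ^ 3 = v ^ 2) :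
    ∃ a : R, u = a ^ 2 ∧ v = a ^ 3 := by
  let K := FractionRing R
  have hK : (algebraMap R K u) ^ 3 = (algebraMap R K v) ^ 2 := by rw [← map_pow, ← map_pow, h]
  obtain ⟨h1, h2⟩ := div_of_sq_cube hK
  obtain ⟨a, ha⟩ := IsIntegrallyClosed.exists_algebraMap_eq_of_isIntegral_pow (K := K) two_pos
    (x := algebraMap R K v / algebraMap R K u) (by rw [← h1]; exact isIntegral_algebraMap)
  rw [← ha, ← map_pow] at h1 h2
  exact ⟨a, IsFractionRing.injective R K h1, IsFractionRing.injective R K h2⟩

open AlgebraicGeometry W4c1hilbchowinc in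
/-- Let A be a reduced Noetherian ring whose integral closure in its total ring of fractions is a finite
A-module. Suppose that any pointwise function on Spec A that is algebraic along every discrete
valuation ring (for every discrete valuation ring R and every morphism Spec R → Spec A there is an
element of R whose values at the two points of Spec R are the images of the chosen values) is the
family of values of exactly one global section. Then A is seminormal: whenever x^3 = y^2 there is
exactly one a with x = a^2 and y = a^3. Test rings range over the universe of A. -/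
theorem result
    (A : Type u) [CommRing A] [IsReduced A] [IsNoetherianRing A]
    (hfin : Module.Finite A (integralClosure A (FractionRing A)))
    (h : ∀ f : PtFun (Spec (CommRingCat.of A)), f.VariesAlongDVR →
      ∃! a : Γ(Spec (CommRingCat.of A), ⊤), PtFun.ofSection (Spec (CommRingCat.of A)) a = f) :
    HTop.IsSeminormalRing A := by
  intro x y hxy
  let X := Spec (CommRingCat.of A)
  let ι := (Scheme.ΓSpecIso (CommRingCat.of A)).commRingCatIsoToRingEquiv
  let xs : Γ(X, ⊤) := ι.symm x
  let ys : Γ(X, ⊤) := ι.symm y
  have hs : xs ^ 3 = ys ^ 2 := by rw [← map_pow, ← map_pow, hxy]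
  have hev : ∀ t, (X.Γevaluation t xs) ^ 3 = (X.Γevaluation t ys) ^ 2 := fun t =>
    ((map_pow (X.Γevaluation t).hom xs 3).symm.trans (congrArg _ hs)).trans (map_pow _ ys 2)
  let f : PtFun X := fun t => X.Γevaluation t ys / X.Γevaluation t xs
  have hf : f.VariesAlongDVR := by
    intro R _ _ _ g
    let η : Γ(Spec (CommRingCat.of R), ⊤) ≃+* R := (Scheme.ΓSpecIso (CommRingCat.of R)).commRingCatIsoToRingEquiv
    obtain ⟨a, ha1, ha2⟩ := exists_of_sq_cube (u := η (g.appTop xs)) (v := η (g.appTop ys))
      (by simpa only [map_pow] using congrArg (fun z => η (g.appTop z)) hs)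
    refine ⟨η.symm a, funext fun t => ?_⟩
    have e1 : g.appTop xs = (η.symm a) ^ 2 := by rw [← map_pow, ← ha1, RingEquiv.symm_apply_apply]
    have e2 : g.appTop ys = (η.symm a) ^ 3 := by rw [← map_pow, ← ha2, RingEquiv.symm_apply_apply]
    change (Spec (CommRingCat.of R)).Γevaluation t (η.symm a) =
      (g.residueFieldMap t).hom (X.Γevaluation (g t) ys / X.Γevaluation (g t) xs)
    rw [map_div₀]
    change _ = g.residueFieldMap t (X.Γevaluation (g t) ys) / g.residueFieldMap t (X.Γevaluation (g t) xs)
    rw [Scheme.Γevaluation_naturality_apply, Scheme.Γevaluation_naturality_apply, e1, e2, map_pow, map_pow]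
    generalize (Spec (CommRingCat.of R)).Γevaluation t (η.symm a) = w
    rcases eq_or_ne w 0 with rfl | hw
    · simp
    · field_simp
  obtain ⟨a, ha, -⟩ := h f hf
  have hval : ∀ t, X.Γevaluation t a = f t := fun t => congrFun ha t
  have key : xs = a ^ 2 ∧ ys = a ^ 3 := by
    constructor <;> refine Groth.Agent.HTop16.PtFunBasic.section_ext fun t => ?_ <;>
      rw [map_pow, hval t]
    · exact (div_of_sq_cube (hev t)).1
    · exact (div_of_sq_cube (hev t)).2
  refine ⟨ι a, ⟨?_, ?_⟩, fun b hb => ?_⟩
  · rw [← map_pow, ← key.1, RingEquiv.apply_symm_apply]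
  · rw [← map_pow, ← key.2, RingEquiv.apply_symm_apply]
  · refine ι.symm.injective ?_
    rw [RingEquiv.symm_apply_apply]
    refine Groth.Agent.HTop16.PtFunBasic.section_ext fun t => ?_
    have h2 : X.Γevaluation t (ι.symm b) ^ 2 = X.Γevaluation t a ^ 2 := by
      have e : (ι.symm b) ^ 2 = a ^ 2 := by
        rw [← map_pow, ← hb.1]
        exact key.1
      simpa only [map_pow] using congrArg (X.Γevaluation t) e
    have h3 : X.Γevaluation t (ι.symm b) ^ 3 = X.Γevaluation t a ^ 3 := by
      have e : (ι.symm b) ^ 3 = a ^ 3 := by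
        rw [← map_pow, ← hb.2]
        exact key.2
      simpa only [map_pow] using congrArg (X.Γevaluation t) e
    revert h2 h3
    generalize X.Γevaluation t (ι.symm b) = p
    generalize X.Γevaluation t a = q
    intro h2 h3
    rcases eq_or_ne p 0 with rfl | hp
    · exact (pow_eq_zero_iff two_ne_zero |>.1 (by simpa using h2.symm)).symm
    · exact mul_left_cancel₀ (pow_ne_zero 2 hp) (by linear_combination h3 - q * h2)

end Groth.Agent.S13111
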