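import Mathlib.AlgebraicGeometry.Morphisms.Proper
import Mathlib.AlgebraicGeometry.Morphisms.UniversallyInjective
import Mathlib.AlgebraicGeometry.ResidueField
import Groth.Prelude.Def_HTop2
import Groth.Agent.HTop16.SN
import Mathlib.AlgebraicGeometry.ZariskisMainTheorem
import Mathlib.AlgebraicGeometry.Morphisms.QuasiFinite

set_option autoImplicit false
universe u
namespace HTop
end HTop
open HTop

namespace Groth.Agent.S13112

open CategoryTheory AlgebraicGeometry in
/-- Let k be a field, T a seminormal scheme of finite type over k, and f : X → Y a proper universally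
injective k-morphism of schemes locally of finite type over k. If a morphism of schemes g : T → Y
lifts through f at every point of T, i.e. for every t the composite Spec κ(t) → T → Y factors
through f, then g itself factors through f. -/
theorem result
    {k : Type u} [Field k] {T X Y : Scheme.{u}}
    (sT : T ⟶ Spec (CommRingCat.of k)) (sX : X ⟶ Spec (CommRingCat.of k)) (sY : Y ⟶ Spec (CommRingCat.of k))
    [LocallyOfFiniteType sT] [QuasiCompact sT] [LocallyOfFiniteType sX] [LocallyOfFiniteType sY]
    (hT : HTop.IsSeminormal T)
    (f : X ⟶ Y) (hf : f ≫ sY = sX) [IsProper f] [UniversallyInjective f]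
    (g : T ⟶ Y)
    (hlift : ∀ t : T, ∃ l : Spec (T.residueField t) ⟶ X, l ≫ f = T.fromSpecResidueField t ≫ g) :
    ∃ h : T ⟶ X, h ≫ f = g := by
  let q : Limits.pullback f g ⟶ T := Limits.pullback.snd f g
  have hsurj : ∀ t : T, ∃ (p : Spec (T.residueField t) ⟶ Limits.pullback f g), p ≫ q = T.fromSpecResidueField t := by
    intro t
    obtain ⟨l, hl⟩ := hlift t
    exact ⟨Limits.pullback.lift l (T.fromSpecResidueField t) hl, Limits.pullback.lift_snd _ _ _⟩
  haveI : UniversallyInjective q := MorphismProperty.pullback_snd (P := @UniversallyInjective) f g ‹_›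
  haveI : IsProper q := inferInstanceAs (IsProper (Limits.pullback.snd f g))
  haveI : Surjective q := ⟨fun t => by
    obtain ⟨p, hp⟩ := hsurj t
    exact ⟨p (IsLocalRing.closedPoint _), by rw [← Scheme.Hom.comp_apply, hp, Scheme.fromSpecResidueField_apply]⟩⟩
  haveI : IsFinite q := (IsFinite.iff_isProper_and_locallyQuasiFinite q).2 ⟨inferInstance, inferInstance⟩
  have hres : HTop.ResidueFieldsIso q := fun y => by
    obtain ⟨p, hp⟩ := hsurj (q y)
    let z : Spec (T.residueField (q y)) := IsLocalRing.closedPoint _
    have hy : p z = y := q.injective (by rw [← Scheme.Hom.comp_apply, hp, Scheme.fromSpecResidueField_apply])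
    have h : IsIso ((p ≫ q).residueFieldMap z) := by
      rw [hp]
      exact Groth.Agent.HTop16.res_of_surjectiveOnStalks _ z
    rw [Scheme.residueFieldMap_comp] at h
    rw [← hy]
    have hb := (ConcreteCategory.isIso_iff_bijective _).1 h
    have hg : Function.Bijective (p.residueFieldMap z) := ⟨RingHom.injective _, Function.Surjective.of_comp hb.2⟩
    haveI : IsIso (p.residueFieldMap z) := (ConcreteCategory.isIso_iff_bijective _).2 hg
    exact @IsIso.of_isIso_comp_right _ _ _ _ _ (q.residueFieldMap (p z)) (p.residueFieldMap z) _ h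
  obtain ⟨s, hs⟩ := Groth.Agent.HTop16.exists_section hT q
    ((Groth.Agent.S0415.result q).2 ⟨inferInstance, inferInstance, inferInstance⟩) hres
  refine ⟨s ≫ Limits.pullback.fst f g, ?_⟩
  rw [Category.assoc, Limits.pullback.condition, ← Category.assoc, hs, Category.id_comp]

end Groth.Agent.S13112
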