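import Groth.Prelude.Def_HTop2
import Groth.Prelude.Def_Flat
import Mathlib.RingTheory.Localization.Away.Basic
import Mathlib.AlgebraicGeometry.AffineScheme
import Mathlib.RingTheory.Nilpotent.Defs
import Mathlib.AlgebraicGeometry.Properties
import Groth.Agent.HTop16.Local

set_option autoImplicit false
universe u
namespace CategoryTheory
end CategoryTheory
namespace AlgebraicGeometry
end AlgebraicGeometry
open CategoryTheory AlgebraicGeometry
namespace HTop
end HTop
open HTop

namespace Groth.Agent.S7421

/-- A seminormal ring is reduced, and a seminormal scheme is reduced. -/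
theorem result :
    (∀ (A : Type u) [CommRing A], HTop.IsSeminormalRing A → IsReduced A) ∧
    ∀ (X : Scheme.{u}), HTop.IsSeminormal X → AlgebraicGeometry.IsReduced X := by
  exact ⟨fun A _ h => HTop16.isReduced_of_seminormal h, fun X h =>
    HTop16.isReduced_of_affines X fun V =>
      HTop16.isReduced_of_seminormal (HTop16.isSeminormal_affine X h V)⟩

end Groth.Agent.S7421
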