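import Mathlib.AlgebraicGeometry.Morphisms.Proper
import Mathlib.AlgebraicGeometry.Morphisms.FiniteType
import Groth.Prelude.Def_HTop2
import Groth.Agent.HTop16.PtFunDescent
import Groth.Agent.EGA43.Branches.Finite
import Groth.Agent.NormalizationLib.Finite
import Groth.Agent.S13109
import Groth.Agent.S7421
import Groth.Agent.HTop16.Local

set_option autoImplicit false
universe u
namespace HTop
end HTop
open HTop

namespace Groth.Agent.S13113

open CategoryTheory CategoryTheory.Limits AlgebraicGeometry in
/-- Let k be a field, X a seminormal scheme of finite type over k and π : Y → X a proper surjective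
morphism with Y reduced. Then a global section s of the structure sheaf of Y whose pullbacks along
the two projections Y ×_X Y → Y coincide is the pullback along π of exactly one global section of
the structure sheaf of X. (The published statement also treats non-reduced Y, where the structure
sheaf of X is only a canonical direct summand of the equaliser; this row is the reduced case, where
the two agree.) -/
theorem result
    {k : Type u} [Field k] {X Y : Scheme.{u}} (sX : X ⟶ Spec (CommRingCat.of k))
    [LocallyOfFiniteType sX] [QuasiCompact sX] (hX : HTop.IsSeminormal X)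
    (π : Y ⟶ X) [IsProper π] [Surjective π] [IsReduced Y]
    (s : Γ(Y, ⊤)) (hs : (pullback.fst π π).appTop s = (pullback.snd π π).appTop s) :
    ∃! t : Γ(X, ⊤), π.appTop t = s := by
  open W4c1hilbchowinc Groth.Agent in
  haveI := (S7421.result.{u}).2 X hX
  obtain ⟨f, hf⟩ := HTop16.PtFunDescent.exists_ptFun π s hs
  have hfv := HTop16.PtFunDescent.variesAlongDVR π s hf
  have hloc : ∀ x : X, ∃ (U : X.Opens) (t : Γ(X, U)), x ∈ U ∧ ∀ y (hy : y ∈ U), X.evaluation U y hy t = f y := by
    intro x
    obtain ⟨_, ⟨U, hU, rfl⟩, hxU, -⟩ := X.isBasis_affineOpens.exists_subset_of_mem_open (Set.mem_univ x) isOpen_univ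
    let c : k →+* Γ(X, U) := (sX.appLE ⊤ U le_top).hom.comp (Scheme.ΓSpecIso (CommRingCat.of k)).inv.hom
    have hc : c.FiniteType := (sX.finiteType_appLE (isAffineOpen_top _) hU le_top).comp
      (RingHom.FiniteType.of_surjective _
        (ConcreteCategory.bijective_of_isIso (Scheme.ΓSpecIso (CommRingCat.of k)).inv).2)
    letI := c.toAlgebra
    haveI : Algebra.FiniteType k Γ(X, U) := hc
    have hN := CAlgH.isNagata_of_finiteType (NormalizationLib.isNagata_field k) Γ(X, U)
    haveI : IsNoetherianRing Γ(X, U) := hN.1
    have hA : HTop.IsSeminormalRing Γ(X, U) := HTop16.isSeminormal_affine X hX ⟨U, hU⟩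
    haveI : _root_.IsReduced Γ(X, U) := HTop16.isReduced_of_seminormal hA
    obtain ⟨a, ha, -⟩ := S13109.result Γ(X, U) hA (EGA43.Branches.finite_integralClosure_of_isNagata _ hN)
      (f.pullback hU.fromSpec) (fun R _ _ _ _ g => by
        rw [S13109.residueFieldMap_comp_pullback]
        exact hfv R (g ≫ hU.fromSpec))
    obtain ⟨t, ht⟩ := HTop16.PtFunDescent.exists_section hU ⟨a, ha⟩
    exact ⟨U, t, hxU, ht⟩
  obtain ⟨t, ht⟩ := HTop16.PtFunDescent.exists_glue hloc
  have hval : ∀ y, Y.Γevaluation y (π.appTop t) = Y.Γevaluation y s := fun y =>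
    (Scheme.Γevaluation_naturality_apply π y t).symm.trans
      ((congrArg (π.residueFieldMap y) (congrFun ht (π y))).trans (congrFun hf y))
  refine ⟨t, HTop16.PtFunBasic.section_ext hval, fun t' ht' => HTop16.PtFunBasic.section_ext fun x => ?_⟩
  obtain ⟨y, rfl⟩ := π.surjective x
  refine (π.residueFieldMap y).hom.injective ?_
  refine (Scheme.Γevaluation_naturality_apply π y t').trans ?_
  refine (congrArg _ (ht'.trans (HTop16.PtFunBasic.section_ext hval).symm)).trans ?_
  exact (Scheme.Γevaluation_naturality_apply π y t).symm

end Groth.Agent.S13113
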