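import Groth.Statements.S13114
import Mathlib

set_option linter.all false

set_option autoImplicit false
universe u
open HilbChow

open TensorProduct

namespace Groth.Agent.S13114

/-- Let k be an algebraically closed field, A a commutative local k-algebra of finite dimension n over k
and u a unit of A. Then the determinant of multiplication by u on the k-vector space A, mapped to
the residue field of A, equals the n-th power of the residue class of u. -/
theorem result
    (k A : Type u) [Field k] [IsAlgClosed k] [CommRing A] [Algebra k A] [IsLocalRing A]
    [Module.Finite k A] (u : Aˣ) :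
    algebraMap k (IsLocalRing.ResidueField A) (Algebra.norm k (u : A)) =
      IsLocalRing.residue A (u : A) ^ Module.finrank k A := by
  classical
  haveI : Module.Finite k (IsLocalRing.ResidueField A) :=
    Module.Finite.of_surjective (IsScalarTower.toAlgHom k A _).toLinearMap IsLocalRing.residue_surjective
  obtain ⟨c, hc⟩ := (IsAlgClosed.algebraMap_bijective_of_isIntegral (k := k) (K := IsLocalRing.ResidueField A)).2
    (IsLocalRing.residue A (u : A))
  rw [← hc, ← map_pow]
  congr 1
  have hnil : IsNilpotent (algebraMap k A c - (u : A)) := by
    haveI : IsArtinianRing A := IsArtinianRing.of_finite k A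
    obtain ⟨n, hn⟩ := IsArtinianRing.isNilpotent_jacobson_bot (R := A)
    rw [IsLocalRing.jacobson_eq_maximalIdeal ⊥ bot_ne_top] at hn
    refine ⟨n, ?_⟩
    rw [← Ideal.mem_bot, ← Ideal.zero_eq_bot, ← hn]
    refine Ideal.pow_mem_pow ?_ n
    rw [← IsLocalRing.residue_eq_zero_iff, map_sub, sub_eq_zero, ← hc]
    rfl
  let b := Module.Free.chooseBasis k A
  have h1 : (Algebra.leftMulMatrix b (algebraMap k A c - (u : A))).charpoly =
      Polynomial.X ^ Module.finrank k A := by
    have hn : IsNilpotent (Algebra.lmul k A (algebraMap k A c - (u : A))) := hnil.map (Algebra.lmul k A)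
    rw [Algebra.leftMulMatrix_apply, LinearMap.charpoly_toMatrix, hn.charpoly_eq_X_pow_finrank]
  have := congrArg (Polynomial.eval c) h1
  rw [Matrix.eval_charpoly, Polynomial.eval_pow, Polynomial.eval_X, map_sub, AlgHom.commutes,
    Matrix.algebraMap_eq_diagonal] at this
  rw [← this, Algebra.norm_eq_matrix_det b]
  congr 1
  simp [Matrix.scalar_apply, Pi.algebraMap_def]

end Groth.Agent.S13114
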