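import Groth.Statements.S13115
import Mathlib
import Groth.Prelude
import Groth.Agent.CommAlg4.SymTensor

set_option linter.all false

set_option autoImplicit false
universe u
open scoped TensorProduct
open HilbChow

open scoped TensorProduct

namespace Groth.Agent.S13115

theorem exists_perm_of_fibre {n d : ℕ} (g g' : Fin n → Fin d)
    (h : ∑ i, Finsupp.single (g i) 1 = ∑ i, Finsupp.single (g' i) (1 : ℕ)) : ∃ σ : Equiv.Perm (Fin n), g' = g ∘ σ := by
  classical
  have hc : ∀ a, Fintype.card {i // g' i = a} = Fintype.card {i // g i = a} := fun a => by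
    have := congrArg (fun f => f a) h
    simp only [Finsupp.finsetSum_apply, Finsupp.single_apply, Finset.sum_boole, Nat.cast_id] at this
    rw [Fintype.card_subtype, Fintype.card_subtype]; exact this.symm
  let σ : Equiv.Perm (Fin n) := Equiv.ofFiberEquiv (f := g') (g := g) fun a => Fintype.equivOfCardEq (hc a)
  exact ⟨σ, funext fun i => (Equiv.ofFiberEquiv_map (fun a => Fintype.equivOfCardEq (hc a)) i).symm⟩

theorem coeff_invariant {R : Type*} [CommRing R] {n d : ℕ} (c : (Fin n → Fin d) → R) (hc : ∀ g (σ : Equiv.Perm (Fin n)), c (g ∘ σ) = c g)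
    {M : Type*} [AddCommGroup M] [Module R M] (val : (Fin d →₀ ℕ) → M) :
    ∃ L : MvPolynomial (Fin d) R →ₗ[R] M, ∀ g : Fin n → Fin d,
      L (∏ i, MvPolynomial.X (g i)) = c g • val (∑ i, Finsupp.single (g i) 1) := by
  classical
  let e := fun g : Fin n → Fin d => ∑ i, Finsupp.single (g i) (1 : ℕ)
  let c' : (Fin d →₀ ℕ) → R := fun s => if h : ∃ g, e g = s then c h.choose else 0
  refine ⟨(MvPolynomial.basisMonomials (Fin d) R).constr R (fun s => c' s • val s), fun g => ?_⟩
  have hm : ∏ i, (MvPolynomial.X (g i) : MvPolynomial (Fin d) R) = MvPolynomial.basisMonomials (Fin d) R (e g) := by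
    rw [MvPolynomial.coe_basisMonomials]
    show _ = MvPolynomial.monomial (∑ i, Finsupp.single (g i) 1) 1
    rw [MvPolynomial.monomial_sum_one]; rfl
  rw [hm, Module.Basis.constr_basis]
  have hg : ∃ g', e g' = e g := ⟨g, rfl⟩
  obtain ⟨σ, hσ⟩ := exists_perm_of_fibre g hg.choose hg.choose_spec.symm
  show c' (e g) • _ = _
  rw [show c' (e g) = c g by simp only [c', dif_pos hg]; rw [hσ, hc]]

theorem invariant_repr {R : Type u} [CommRing R] {n d : ℕ} (s : ⨂[R] _ : Fin n, (Fin d → R))
    (hs : ∀ σ : Equiv.Perm (Fin n), PiTensorProduct.reindex R (fun _ => (Fin d → R)) σ s = s) (g : Fin n → Fin d) (σ : Equiv.Perm (Fin n)) :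
    (Basis.piTensorProduct fun _ : Fin n => Pi.basisFun R (Fin d)).repr s (g ∘ σ) =
      (Basis.piTensorProduct fun _ : Fin n => Pi.basisFun R (Fin d)).repr s g := by
  conv_rhs => rw [← hs σ]
  exact (Groth.Agent.CommAlg4.repr_reindex R n d σ s g).symm

/-- Let k be an infinite field, V a k-vector space and m a natural number. Then every symmetric tensor
in the m-fold tensor power of V — one fixed by every permutation of the factors — is a k-linear
combination of pure powers v ⊗ ⋯ ⊗ v with v in V. (The published statement concerns the ring of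
functions of an affine scheme over an infinite field, where it gives the uniqueness of the algebra
map defining the Hilbert-to-Chow morphism for zero-cycles; this row states it for any vector space.) -/
theorem result
    (k V : Type u) [Field k] [Infinite k] [AddCommGroup V] [Module k V] (m : ℕ)
    (x : ⨂[k] _ : Fin m, V)
    (hx : ∀ σ : Equiv.Perm (Fin m), PiTensorProduct.reindex k (fun _ : Fin m => V) σ x = x) :
    x ∈ Submodule.span k (Set.range fun v : V => PiTensorProduct.tprod k (fun _ : Fin m => v)) := by
  classical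
  obtain ⟨d, ψ, s, hs, hst, -⟩ := Groth.Agent.CommAlg4.exists_symm_lift k m (ι := Unit) 0 (fun _ => x) (fun σ _ => hx σ) (by simp)
  set b := Basis.piTensorProduct fun _ : Fin m => Pi.basisFun k (Fin d)
  have key : s () ∈ Submodule.span k (Set.range fun v : Fin d → k => PiTensorProduct.tprod k (fun _ : Fin m => v)) := by
    by_contra hns
    obtain ⟨f, hf, hfb⟩ := Submodule.exists_dual_map_eq_bot_of_notMem hns inferInstance
    apply hf
    have hP : (∑ g : Fin m → Fin d, f (b g) • ∏ i, MvPolynomial.X (g i) : MvPolynomial (Fin d) k) = 0 := by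
      refine MvPolynomial.funext fun v => ?_
      rw [map_zero]
      have hv : f (PiTensorProduct.tprod k (fun _ : Fin m => v)) = 0 :=
        (Submodule.mem_bot k).1 (hfb.le ⟨_, Submodule.subset_span ⟨v, rfl⟩, rfl⟩)
      rw [← b.sum_repr (PiTensorProduct.tprod k (fun _ : Fin m => v)), map_sum] at hv
      simp only [map_smul, b, Basis.piTensorProduct_repr_tprod_apply, Pi.basisFun_repr, smul_eq_mul] at hv
      rw [map_sum, ← hv]
      refine Finset.sum_congr rfl fun g _ => ?_
      simp [MvPolynomial.smul_eval, map_prod, b, mul_comm]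
    obtain ⟨L, hL⟩ := coeff_invariant (fun g => b.repr (s ()) g) (fun g σ => invariant_repr (s ()) (fun σ => hs σ ()) g σ) (M := k) (fun _ => 1)
    rw [← b.sum_repr (s ()), map_sum]
    have := congrArg L hP
    rw [map_sum, map_zero] at this
    rw [← this]
    refine Finset.sum_congr rfl fun g _ => ?_
    rw [map_smul, map_smul, hL, smul_eq_mul, smul_eq_mul, smul_eq_mul, mul_one, mul_comm]
  rw [← hst ()]
  have := Submodule.mem_map_of_mem (f := Groth.Agent.CommAlg4.tmap k m ψ) key
  rw [Submodule.map_span] at this
  refine Submodule.span_mono ?_ this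
  rintro _ ⟨_, ⟨v, rfl⟩, rfl⟩
  exact ⟨ψ v, (PiTensorProduct.map_tprod _ _).symm⟩

end Groth.Agent.S13115
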