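import Groth.Statements.S13116
import Groth.Agent.PicLib.FiniteSetTriv
import Groth.Prelude

set_option autoImplicit false
universe u
open HilbChow

namespace Groth.Agent.S13116

open CategoryTheory CategoryTheory.Limits AlgebraicGeometry in
/-- Let k be a field, X an integral scheme smooth over k that is a closed subscheme of a projective
space over k, R a discrete valuation ring containing k, Z a subscheme of X ×_k Spec R which is
finite over Spec R, and L an invertible module on X. Then the pullback of L to Z along Z → X ×_k
Spec R → X is isomorphic to the structure sheaf of Z (an isomorphism exists; none is singled out). -/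
theorem result
    {k : Type u} [Field k] {X : Scheme.{u}} (sX : X ⟶ Spec (CommRingCat.of k))
    [IsIntegral X] [Smooth sX] (hproj : RelProj.IsHProjective sX)
    (R : Type u) [CommRing R] [IsDomain R] [IsDiscreteValuationRing R] [Algebra k R]
    {Z : Scheme.{u}}
    (i : Z ⟶ pullback sX (Spec.map (CommRingCat.ofHom (algebraMap k R)))) [IsImmersion i]
    [IsFinite (i ≫ pullback.snd sX (Spec.map (CommRingCat.ofHom (algebraMap k R))))]
    (L : X.Modules) (hL : PicF.IsInvertible L) :
    Nonempty ((Scheme.Modules.pullback
        (i ≫ pullback.fst sX (Spec.map (CommRingCat.ofHom (algebraMap k R))))).obj L ≅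
      Coh.structureModule Z) := by
  let g := i ≫ pullback.snd sX (Spec.map (CommRingCat.ofHom (algebraMap k R)))
  haveI : IsFinite g := inferInstanceAs (IsFinite (i ≫ _))
  haveI : IsAffine Z := isAffine_of_isAffineHom g
  let L' := (Scheme.Modules.pullback (i ≫ pullback.fst sX (Spec.map (CommRingCat.ofHom (algebraMap k R))))).obj L
  have hL' : PicF.IsInvertible L' := PicLoc.isInvertible_pullback _ hL
  let m : (Spec (CommRingCat.of R)) := IsLocalRing.closedPoint R
  obtain ⟨U, hZU, -, -, ⟨e⟩⟩ := Groth.Agent.PicLib.exists_triv_of_finite hL' (isAffineOpen_top Z) (g ⁻¹' {m})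
    (g.finite_preimage_singleton m) (fun _ _ => trivial)
  have hU : U = ⊤ := by
    by_contra hne
    have hne' : ((U : Set Z)ᶜ).Nonempty := by
      rw [Set.nonempty_compl]
      exact fun h => hne (TopologicalSpace.Opens.ext h)
    obtain ⟨z, hz, hzc⟩ := IsClosed.exists_closed_singleton U.isOpen.isClosed_compl hne'
    have h2 : IsClosed ({g z} : Set (Spec (CommRingCat.of R))) := by
      rw [← Set.image_singleton]
      exact g.isClosedMap _ hzc
    have h3 : g z = m := PrimeSpectrum.ext (IsLocalRing.eq_maximalIdeal
      ((PrimeSpectrum.isClosed_singleton_iff_isMaximal (g z)).1 h2))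
    exact hz (hZU h3)
  haveI : IsIso U.ι := by
    subst hU
    exact inferInstanceAs (IsIso (Scheme.topIso Z).hom)
  exact ⟨(asIso ((Scheme.Modules.pullbackId Z).inv.app L')) ≪≫
    (Scheme.Modules.pullbackCongr (IsIso.inv_hom_id U.ι).symm).app L' ≪≫
    ((Scheme.Modules.pullbackComp (inv U.ι) U.ι).app L').symm ≪≫
    (Scheme.Modules.pullback (inv U.ι)).mapIso ((Scheme.Modules.restrictFunctorIsoPullback U.ι).symm.app L' ≪≫ e) ≪≫
    PicLoc.pullbackStructureIso (inv U.ι)⟩

end Groth.Agent.S13116
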