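import Groth.Statements.S13117
import Groth.Agent.IsocLib.BlockDiag
import Mathlib
-- import your own Groth.Agent.* helpers here

set_option autoImplicit false
universe u
open HilbChow

namespace Groth.Agent.S13117

theorem det_pi_dep {ι R : Type*} [CommRing R] [Fintype ι] (M : ι → Type*) [∀ i, AddCommGroup (M i)] [∀ i, Module R (M i)]
    [∀ i, Module.Free R (M i)] [∀ i, Module.Finite R (M i)] (f : ∀ i, M i →ₗ[R] M i) :
    (LinearMap.pi fun i => f i ∘ₗ LinearMap.proj i).det = ∏ i, (f i).det := by
  classical
  let b := fun i => Module.Free.chooseBasis R (M i)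
  let B := Pi.basis b
  have h : LinearMap.toMatrix B B (LinearMap.pi fun i => f i ∘ₗ LinearMap.proj i) =
      Matrix.blockDiagonal' fun i => LinearMap.toMatrix (b i) (b i) (f i) := by
    ext ⟨i, a⟩ ⟨j, c⟩
    rw [LinearMap.toMatrix_apply, Pi.basis_repr, Pi.basis_apply, LinearMap.pi_apply, LinearMap.comp_apply,
      LinearMap.proj_apply]
    by_cases hij : i = j
    · subst hij
      rw [Pi.single_eq_same, Matrix.blockDiagonal'_apply_eq, LinearMap.toMatrix_apply]
    · rw [Pi.single_eq_of_ne hij, map_zero, map_zero, Matrix.blockDiagonal'_apply_ne _ _ _ hij]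
      rfl
  rw [← LinearMap.det_toMatrix B, h]
  simp_rw [← LinearMap.det_toMatrix (b _)]
  exact Groth.Agent.IsocLib.det_blockDiagonal' _

theorem norm_of_nilpotent_sub {k B : Type u} [Field k] [CommRing B] [Algebra k B] [Module.Finite k B] (x : B) (c : k)
    (h : IsNilpotent (x - algebraMap k B c)) : Algebra.norm k x = c ^ Module.finrank k B := by
  have hN : IsNilpotent (-(Algebra.lmul k B (x - algebraMap k B c))) :=
    (h.map (Algebra.lmul k B)).neg
  have := congrArg (Polynomial.eval c) (IsNilpotent.charpoly_eq_X_pow_finrank hN)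
  rw [LinearMap.eval_charpoly, Polynomial.eval_pow, Polynomial.eval_X, sub_neg_eq_add] at this
  rw [← this, Algebra.norm_apply]
  congr 1
  rw [map_sub, AlgHom.commutes]
  abel

/-- Let k be an algebraically closed field, A a finite-dimensional commutative k-algebra (the coordinate
ring of a zero-dimensional subscheme Z of length dim_k A) and f ∈ A. Then the determinant of
multiplication by f on A is the product over the points x of Z — the k-algebra homomorphisms A → k —
of the value f(x) raised to the length of the local ring of Z at x, that length being the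
k-dimension of the localisation of A at the corresponding maximal ideal. This is the formula by
which the Hilbert-to-Chow morphism for zero-cycles sends Z to its fundamental cycle Σ ℓ(O_{Z,x})[x]. -/
theorem result
    (k A : Type u) [Field k] [IsAlgClosed k] [CommRing A] [Algebra k A] [Module.Finite k A] (f : A) :
    Algebra.norm k f =
      ∏ᶠ φ : A →ₐ[k] k, φ f ^ Module.finrank k (Localization.AtPrime (Ideal.comap φ ⊥)) := by
  classical
  haveI : IsArtinianRing A := IsArtinianRing.of_finite k A
  haveI : Fintype (PrimeSpectrum A) := Fintype.ofFinite _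
  have hloc : ∀ p : PrimeSpectrum A, Module.Finite k (Localization.AtPrime p.asIdeal) := fun p =>
    Module.Finite.of_surjective (Algebra.algHom k A (Localization.AtPrime p.asIdeal)).toLinearMap
      (IsArtinianRing.localization_surjective p.asIdeal.primeCompl (Localization.AtPrime p.asIdeal))
  let pt : (A →ₐ[k] k) → PrimeSpectrum A := fun φ => ⟨Ideal.comap φ ⊥, inferInstance⟩
  have hφ : ∀ (φ : A →ₐ[k] k) a, a - algebraMap k A (φ a) ∈ Ideal.comap φ ⊥ := fun φ a => by
    rw [Ideal.mem_comap, Ideal.mem_bot, map_sub, AlgHom.commutes]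
    exact sub_self _
  have hbij : Function.Bijective pt := by
    refine ⟨fun φ ψ h => AlgHom.ext fun a => ?_, fun p => ?_⟩
    · have h1 : a - algebraMap k A (φ a) ∈ Ideal.comap ψ ⊥ := by
        rw [show Ideal.comap ψ ⊥ = Ideal.comap φ ⊥ from (congrArg PrimeSpectrum.asIdeal h).symm]
        exact hφ φ a
      rw [Ideal.mem_comap, Ideal.mem_bot, map_sub, AlgHom.commutes, sub_eq_zero] at h1
      exact h1.symm
    · haveI := p.isPrime
      haveI : IsDomain (A ⧸ p.asIdeal) := inferInstance
      have hb := IsAlgClosed.algebraMap_bijective_of_isIntegral (k := k) (K := A ⧸ p.asIdeal)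
      let e := (AlgEquiv.ofBijective (Algebra.ofId k (A ⧸ p.asIdeal)) hb).symm
      refine ⟨e.toAlgHom.comp (Ideal.Quotient.mkₐ k p.asIdeal), PrimeSpectrum.ext (Ideal.ext fun a => ?_)⟩
      show e (Ideal.Quotient.mk p.asIdeal a) ∈ (⊥ : Ideal k) ↔ a ∈ p.asIdeal
      rw [Ideal.mem_bot, EmbeddingLike.map_eq_zero_iff, Ideal.Quotient.eq_zero_iff_mem]
  let E := (AlgEquiv.ofBijective (PrimeSpectrum.toPiLocalization A) PrimeSpectrum.toPiLocalization_bijective).restrictScalars k
  rw [← Algebra.norm_eq_of_algEquiv E f, Algebra.norm_apply]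
  have hpi : Algebra.lmul k _ (E f) = LinearMap.pi fun p : PrimeSpectrum A =>
      Algebra.lmul k (Localization.AtPrime p.asIdeal) (E f p) ∘ₗ LinearMap.proj p := by
    refine LinearMap.ext fun x => funext fun p => ?_
    rfl
  rw [hpi, det_pi_dep]
  haveI : Fintype (A →ₐ[k] k) := Fintype.ofBijective _ (Equiv.ofBijective pt hbij).symm.bijective
  rw [finprod_eq_prod_of_fintype, ← (Equiv.ofBijective pt hbij).prod_comp]
  refine Finset.prod_congr rfl fun φ _ => ?_
  rw [← Algebra.norm_apply]
  haveI := hloc (pt φ)
  refine norm_of_nilpotent_sub (B := Localization.AtPrime (Ideal.comap φ ⊥)) _ (φ f) ?_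
  show IsNilpotent (algebraMap A (Localization.AtPrime (Ideal.comap φ ⊥)) f - algebraMap k _ (φ f))
  rw [IsScalarTower.algebraMap_apply k A (Localization.AtPrime (Ideal.comap φ ⊥)), ← map_sub]
  haveI : IsArtinianRing (Localization.AtPrime (Ideal.comap φ ⊥)) := inferInstance
  rw [Ring.KrullDimLE.isNilpotent_iff_mem_maximalIdeal, IsLocalization.AtPrime.to_map_mem_maximal_iff _ (Ideal.comap φ ⊥)]
  exact hφ φ f

end Groth.Agent.S13117
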