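import Groth.Statements.S13118
import Groth.Agent.CommAlg4.NormGraph
-- import your own Groth.Agent.* helpers here

set_option autoImplicit false
universe u
open scoped TensorProduct
open HilbChow

namespace Groth.Agent.S13118

open TensorProduct Groth.Agent.CommAlg4 in
theorem invertible_of_rank_one (B M : Type u) [CommRing B] [AddCommGroup M] [Module B M] [Module.Finite B M]
    [Module.Projective B M] (h : ∀ q : PrimeSpectrum B, Module.rankAtStalk M q = 1) : Module.Invertible B M :=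
  have := TopPowInvertible.invertible_exteriorPower B M 1 h
  Module.Invertible.congr (exteriorPower.oneEquiv B M)

/-- Let A → B be a ring homomorphism making B a finite locally free A-module of constant rank n, and let
M₁, M₂ be locally free B-modules of rank 1. Then, as A-modules, ∧ⁿ_A B ⊗_A ∧ⁿ_A(M₁ ⊗_B M₂) ≅ ∧ⁿ_A M₁
⊗_A ∧ⁿ_A M₂. (The published statement gives a specific, canonical isomorphism and covers any finite
family M₁, …, M_r, with the (r−1)-st tensor power of ∧ⁿ_A B; this row asserts only that an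
isomorphism exists, for two modules, the case from which the general one follows by induction.)
Locally free of rank r is expressed as finitely generated projective with all localisations at
primes of rank r. -/
theorem result
    (A B : Type u) [CommRing A] [CommRing B] [Algebra A B] [Module.Finite A B] [Module.Projective A B]
    (n : ℕ) (hn : ∀ q : PrimeSpectrum A, Module.finrank (Localization.AtPrime q.asIdeal) (LocalizedModule q.asIdeal.primeCompl B) = n)
    (M₁ M₂ : Type u) [AddCommGroup M₁] [Module B M₁] [Module A M₁] [IsScalarTower A B M₁]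
    [AddCommGroup M₂] [Module B M₂] [Module A M₂] [IsScalarTower A B M₂]
    [Module.Finite B M₁] [Module.Projective B M₁] [Module.Finite B M₂] [Module.Projective B M₂]
    (h₁ : ∀ q : PrimeSpectrum B, Module.finrank (Localization.AtPrime q.asIdeal) (LocalizedModule q.asIdeal.primeCompl M₁) = 1)
    (h₂ : ∀ q : PrimeSpectrum B, Module.finrank (Localization.AtPrime q.asIdeal) (LocalizedModule q.asIdeal.primeCompl M₂) = 1) :
    Nonempty ((⋀[A]^n B) ⊗[A] (⋀[A]^n (M₁ ⊗[B] M₂)) ≃ₗ[A] (⋀[A]^n M₁) ⊗[A] (⋀[A]^n M₂)) := by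
  classical
  haveI := invertible_of_rank_one B M₁ h₁
  haveI := invertible_of_rank_one B M₂ h₂
  haveI := CommAlg4.TopPowInvertible.invertible_exteriorPower A B n hn
  haveI := CommAlg4.NormGraph.invertible_top (A := A) (B := B) M₁ hn
  haveI := CommAlg4.NormGraph.invertible_top (A := A) (B := B) M₂ hn
  haveI := CommAlg4.NormGraph.invertible_top (A := A) (B := B) (M₁ ⊗[B] M₂) hn
  let G : Set (((⋀[A]^n B) ⊗[A] (⋀[A]^n (M₁ ⊗[B] M₂))) × ((⋀[A]^n M₁) ⊗[A] (⋀[A]^n M₂))) :=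
    {p | ∃ (x y : ↥(⋀[A]^n B)) (s₁ : M₁) (s₂ : M₂),
      p = (x ⊗ₜ exteriorPower.map n (CommAlg4.NormGraph.mu (B := B) (s₁ ⊗ₜ[B] s₂)) y,
        exteriorPower.map n (CommAlg4.NormGraph.mu (B := B) s₁) x ⊗ₜ exteriorPower.map n (CommAlg4.NormGraph.mu (B := B) s₂) y)}
  refine CommAlg4.NormGraph.equiv_of_graph G fun P hP => ?_
  haveI := hP.isPrime
  obtain ⟨w, hw, -⟩ := CommAlg4.TopPowInvertible.exists_local_generator A B n hn P hP
  obtain ⟨s₁, t₁, ht₁, hs₁⟩ := CommAlg4.NormGraph.exists_gen (B := B) M₁ P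
  obtain ⟨s₂, t₂, ht₂, hs₂⟩ := CommAlg4.NormGraph.exists_gen (B := B) M₂ P
  have hs₁₂ : ∀ m : M₁ ⊗[B] M₂, ∃ b : B, (t₁ * t₂) • m = b • (s₁ ⊗ₜ[B] s₂) := by
    intro m
    induction m using TensorProduct.induction_on with
    | zero => exact ⟨0, by simp⟩
    | add a b ha hb =>
      obtain ⟨c, hc⟩ := ha
      obtain ⟨d, hd⟩ := hb
      exact ⟨c + d, by rw [smul_add, hc, hd, add_smul]⟩
    | tmul a b =>
      obtain ⟨c, hc⟩ := hs₁ a
      obtain ⟨d, hd⟩ := hs₂ b
      refine ⟨c * d, ?_⟩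
      rw [← algebraMap_smul B (t₁ * t₂), map_mul, ← TensorProduct.smul_tmul_smul, algebraMap_smul, algebraMap_smul, hc, hd,
        TensorProduct.smul_tmul_smul]
  have ht : t₁ * t₂ ∉ P := fun h => (hP.isPrime.mem_or_mem h).elim ht₁ ht₂
  refine ⟨_, ⟨w, w, s₁, s₂, rfl⟩, ?_,
    CommAlg4.NormGraph.gen_tmul hw (CommAlg4.NormGraph.gen_map _ ht hs₁₂ hw).1,
    CommAlg4.NormGraph.gen_tmul (CommAlg4.NormGraph.gen_map _ ht₁ hs₁ hw).1 (CommAlg4.NormGraph.gen_map _ ht₂ hs₂ hw).1⟩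
  rintro _ ⟨x, y, u₁, u₂, rfl⟩
  obtain ⟨b₁, hb₁⟩ := hs₁ u₁
  obtain ⟨b₂, hb₂⟩ := hs₂ u₂
  obtain ⟨c₁, hc₁⟩ := (Module.Invertible.toModuleEnd_bijective A ↥(⋀[A]^n B)).2 (exteriorPower.map n (LinearMap.mulLeft A b₁))
  obtain ⟨c₂, hc₂⟩ := (Module.Invertible.toModuleEnd_bijective A ↥(⋀[A]^n B)).2 (exteriorPower.map n (LinearMap.mulLeft A b₂))
  have e₁ : t₁ • CommAlg4.NormGraph.mu (A := A) (B := B) u₁ =
      CommAlg4.NormGraph.mu (A := A) (B := B) s₁ ∘ₗ LinearMap.mulLeft A b₁ := LinearMap.ext fun c => by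
    show t₁ • (c • u₁) = (b₁ * c) • s₁
    rw [smul_comm, hb₁, smul_smul, mul_comm]
  have e₂ : t₂ • CommAlg4.NormGraph.mu (A := A) (B := B) u₂ =
      CommAlg4.NormGraph.mu (A := A) (B := B) s₂ ∘ₗ LinearMap.mulLeft A b₂ := LinearMap.ext fun c => by
    show t₂ • (c • u₂) = (b₂ * c) • s₂
    rw [smul_comm, hb₂, smul_smul, mul_comm]
  have e₁₂ : (t₁ * t₂) • CommAlg4.NormGraph.mu (A := A) (B := B) (u₁ ⊗ₜ[B] u₂) =
      CommAlg4.NormGraph.mu (A := A) (B := B) (s₁ ⊗ₜ[B] s₂) ∘ₗ (LinearMap.mulLeft A b₁ ∘ₗ LinearMap.mulLeft A b₂) :=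
    LinearMap.ext fun c => by
      show (t₁ * t₂) • (c • (u₁ ⊗ₜ[B] u₂)) = (b₁ * (b₂ * c)) • (s₁ ⊗ₜ[B] s₂)
      rw [smul_comm, ← algebraMap_smul B (t₁ * t₂), map_mul, ← TensorProduct.smul_tmul_smul, algebraMap_smul,
        algebraMap_smul, hb₁, hb₂, TensorProduct.smul_tmul_smul, smul_smul]
      congr 1
      ring
  have hm₁ : ∀ z, exteriorPower.map n (LinearMap.mulLeft A b₁) z = c₁ • z := fun z => (LinearMap.congr_fun hc₁ z).symm
  have hm₂ : ∀ z, exteriorPower.map n (LinearMap.mulLeft A b₂) z = c₂ • z := fun z => (LinearMap.congr_fun hc₂ z).symm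
  have f₁ : ∀ z, t₁ ^ n • exteriorPower.map n (CommAlg4.NormGraph.mu (B := B) u₁) z =
      c₁ • exteriorPower.map n (CommAlg4.NormGraph.mu (B := B) s₁) z := fun z => by
    have h := LinearMap.congr_fun (CommAlg4.NormGraph.map_smul_hom n t₁ (CommAlg4.NormGraph.mu (A := A) (B := B) u₁)) z
    rw [e₁, exteriorPower.map_comp, LinearMap.comp_apply, hm₁, map_smul] at h
    exact h.symm
  have f₂ : ∀ z, t₂ ^ n • exteriorPower.map n (CommAlg4.NormGraph.mu (B := B) u₂) z =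
      c₂ • exteriorPower.map n (CommAlg4.NormGraph.mu (B := B) s₂) z := fun z => by
    have h := LinearMap.congr_fun (CommAlg4.NormGraph.map_smul_hom n t₂ (CommAlg4.NormGraph.mu (A := A) (B := B) u₂)) z
    rw [e₂, exteriorPower.map_comp, LinearMap.comp_apply, hm₂, map_smul] at h
    exact h.symm
  have f₁₂ : ∀ z, (t₁ * t₂) ^ n • exteriorPower.map n (CommAlg4.NormGraph.mu (B := B) (u₁ ⊗ₜ[B] u₂)) z =
      (c₁ * c₂) • exteriorPower.map n (CommAlg4.NormGraph.mu (B := B) (s₁ ⊗ₜ[B] s₂)) z := fun z => by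
    have h := LinearMap.congr_fun (CommAlg4.NormGraph.map_smul_hom n (t₁ * t₂) (CommAlg4.NormGraph.mu (A := A) (B := B) (u₁ ⊗ₜ[B] u₂))) z
    rw [e₁₂, exteriorPower.map_comp, exteriorPower.map_comp, LinearMap.comp_apply, LinearMap.comp_apply, hm₂, map_smul,
      hm₁, map_smul, map_smul, smul_smul, mul_comm c₂ c₁] at h
    exact h.symm
  obtain ⟨v, hv, hvx⟩ := hw x
  obtain ⟨v', hv', hvy⟩ := hw y
  obtain ⟨a, ha⟩ := Submodule.mem_span_singleton.1 hvx
  obtain ⟨a', ha'⟩ := Submodule.mem_span_singleton.1 hvy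
  refine ⟨v * v' * (t₁ * t₂) ^ n, fun h => (hP.isPrime.mem_or_mem h).elim
    (fun h => (hP.isPrime.mem_or_mem h).elim hv hv') (fun h => ht (hP.isPrime.mem_of_pow_mem n h)),
    Submodule.mem_span_singleton.2 ⟨a * a' * (c₁ * c₂), Prod.ext ?_ ?_⟩⟩
  · have hy : (v' * (t₁ * t₂) ^ n) • exteriorPower.map n (CommAlg4.NormGraph.mu (B := B) (u₁ ⊗ₜ[B] u₂)) y =
        (a' * (c₁ * c₂)) • exteriorPower.map n (CommAlg4.NormGraph.mu (B := B) (s₁ ⊗ₜ[B] s₂)) w := by
      rw [mul_smul, f₁₂, smul_comm v' (c₁ * c₂), ← LinearMap.map_smul _ v' y, ← ha', map_smul, smul_smul, mul_comm (c₁ * c₂)]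
    rw [Prod.smul_fst, Prod.smul_fst, mul_assoc v v', mul_assoc a a', ← TensorProduct.smul_tmul_smul v, hy, ← ha,
      TensorProduct.smul_tmul_smul]
  · have hx : (v * t₁ ^ n) • exteriorPower.map n (CommAlg4.NormGraph.mu (B := B) u₁) x =
        (a * c₁) • exteriorPower.map n (CommAlg4.NormGraph.mu (B := B) s₁) w := by
      rw [mul_smul, f₁, smul_comm v c₁, ← LinearMap.map_smul _ v x, ← ha, map_smul, smul_smul, mul_comm c₁]
    have hy : (v' * t₂ ^ n) • exteriorPower.map n (CommAlg4.NormGraph.mu (B := B) u₂) y =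
        (a' * c₂) • exteriorPower.map n (CommAlg4.NormGraph.mu (B := B) s₂) w := by
      rw [mul_smul, f₂, smul_comm v' c₂, ← LinearMap.map_smul _ v' y, ← ha', map_smul, smul_smul, mul_comm c₂]
    rw [Prod.smul_snd, Prod.smul_snd, show v * v' * (t₁ * t₂) ^ n = (v * t₁ ^ n) * (v' * t₂ ^ n) by ring,
      show a * a' * (c₁ * c₂) = (a * c₁) * (a' * c₂) by ring, ← TensorProduct.smul_tmul_smul, ← TensorProduct.smul_tmul_smul, hx, hy]

end Groth.Agent.S13118
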