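import Groth.Statements.S13119
import Groth.Agent.CommAlg4.NormGraphDet
-- import your own Groth.Agent.* helpers here

set_option autoImplicit false
universe u
open scoped TensorProduct
open HilbChow

namespace Groth.Agent.S13119

theorem smul_ιMulti {A V : Type u} [CommRing A] [AddCommGroup V] [Module A V] {N : ℕ} (c : A) (x ω : Fin N → V)
    (X : Matrix (Fin N) (Fin N) A) (h : ∀ i, c • x i = ∑ j, X i j • ω j) :
    c ^ N • exteriorPower.ιMulti A N x = X.det • exteriorPower.ιMulti A N ω := by
  rw [← Groth.Agent.CommAlg4.NormGraphRank.alternating_det (exteriorPower.ιMulti A N) ω X]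
  simp only [← h]
  rw [AlternatingMap.map_smul_univ, Finset.prod_const, Finset.card_univ, Fintype.card_fin]

theorem det_transfer {A B : Type u} [CommRing A] [CommRing B] [Algebra A B] {P : Ideal A} [P.IsPrime] {n k : ℕ}
    (b' : Module.Basis (Fin n) (Localization.AtPrime P) (Localization.AtPrime P ⊗[A] B)) (t : A) (X : B → Fin n → A)
    (hX : ∀ x j, algebraMap A (Localization.AtPrime P) (X x j) =
      algebraMap A (Localization.AtPrime P) t * b'.repr ((1 : Localization.AtPrime P) ⊗ₜ[A] x) j)
    (g : Matrix (Fin (k + 1)) (Fin (k + 1)) B) (v : Fin (k + 1) → Fin n → B) :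
    algebraMap A (Localization.AtPrime P) (Matrix.of fun x y : Fin (k + 1) × Fin n => X (g x.1 y.1 * v x.1 x.2) y.2).det =
      algebraMap A (Localization.AtPrime P) ((∏ i : Fin k, (Matrix.of fun j j' => X (v i.castSucc j) j').det) *
        (Matrix.of fun j j' => X (g.det * v (Fin.last k) j) j').det) := by
  let ι : B →+* Localization.AtPrime P ⊗[A] B := Algebra.TensorProduct.includeRight.toRingHom
  have hι : ∀ x, (1 : Localization.AtPrime P) ⊗ₜ[A] x = ι x := fun x => rfl
  have h := Groth.Agent.CommAlg4.NormGraphRank.det_rel b' (algebraMap A (Localization.AtPrime P) t) (g.map ι) (fun i j => ι (v i j))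
  rw [map_mul, map_prod, RingHom.map_det, RingHom.map_det, Finset.prod_congr rfl fun (i : Fin k) _ => RingHom.map_det _ _]
  refine Eq.trans (congrArg Matrix.det ?_) (h.trans ?_)
  · ext x y
    simp [hX, hι, map_mul]
  congr 1
  · refine Finset.prod_congr rfl fun i _ => congrArg Matrix.det ?_
    ext x y
    simp [hX, hι]
  · refine congrArg Matrix.det ?_
    ext x y
    have hd : (g.map ι).det = ι g.det := (RingHom.map_det ι g).symm
    simp [hX, hι, hd, map_mul]

set_option maxHeartbeats 800000 in
open Groth.Agent.CommAlg4 in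
theorem aux (A B : Type u) [CommRing A] [CommRing B] [Algebra A B] [Module.Finite A B] [Module.Projective A B]
    (n : ℕ) (hn : ∀ q : PrimeSpectrum A, Module.rankAtStalk B q = n)
    (M : Type u) [AddCommGroup M] [Module B M] [Module A M] [IsScalarTower A B M]
    [Module.Finite B M] [Module.Projective B M] (k : ℕ)
    (hM : ∀ q : PrimeSpectrum B, Module.rankAtStalk M q = k + 1) :
    Nonempty ((⋀[A]^(n * (k + 1)) M) ≃ₗ[A] (TensorPower A k (⋀[A]^n B)) ⊗[A] (⋀[A]^n (⋀[B]^(k + 1) M))) := by
  classical
  haveI : Module.Finite A M := Module.Finite.trans B M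
  haveI : Module.Projective A M := NormGraphDet.projective_restrict (B := B) M
  haveI := TopPowInvertible.invertible_exteriorPower A M (n * (k + 1)) (NormGraphDet.rankAtStalk_restrict M hn hM)
  haveI := TopPowInvertible.invertible_exteriorPower A B n hn
  haveI : Module.Invertible A (TensorPower A k (⋀[A]^n B)) := CSA.invertible_tensorPower _ k
  haveI := TopPowInvertible.invertible_exteriorPower B M (k + 1) hM
  haveI := NormGraph.invertible_top (A := A) (B := B) (↥(⋀[B]^(k + 1) M)) hn
  let ε : Fin (n * (k + 1)) ≃ Fin (k + 1) × Fin n := finProdFinEquiv.symm.trans (Equiv.prodComm _ _)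
  let F : (Fin (k + 1) → Fin n → B) → (Fin (k + 1) → M) →
      (↥(⋀[A]^(n * (k + 1)) M) × ((TensorPower A k (⋀[A]^n B)) ⊗[A] (⋀[A]^n (⋀[B]^(k + 1) M)))) := fun v m =>
    (exteriorPower.ιMulti A (n * (k + 1)) (fun l => v (ε l).1 (ε l).2 • m (ε l).1),
      PiTensorProduct.tprod A (fun i : Fin k => exteriorPower.ιMulti A n (v i.castSucc)) ⊗ₜ[A]
        exteriorPower.ιMulti A n (fun j => v (Fin.last k) j • exteriorPower.ιMulti B (k + 1) m))
  letI : AddCommGroup ((TensorPower A k (⋀[A]^n B)) ⊗[A] (⋀[A]^n (⋀[B]^(k + 1) M))) :=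
    Module.addCommMonoidToAddCommGroup A
  refine NormGraph.equiv_of_graph {p | ∃ v m, p = F v m} fun P hP => ?_
  haveI := hP.isPrime
  obtain ⟨b, b', t, ht, hb, hb'⟩ := NormGraphDet.exists_basis_near (A := A) B hn P
  obtain ⟨s, u, hu, hs⟩ := NormGraphRank.exists_gens (A := A) M hM P
  choose X hX using hb
  choose g hg using hs
  let S := exteriorPower.ιMulti B (k + 1) s
  have hut : u * t ∉ P := fun h => (hP.isPrime.mem_or_mem h).elim hu ht
  have hut' : u ^ (k + 1) * t ∉ P := fun h =>
    (hP.isPrime.mem_or_mem h).elim (fun h => hu (hP.isPrime.mem_of_pow_mem _ h)) ht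
  -- expansions on the local frame
  have exM : ∀ x : B, ∀ m : M, (u * t) • (x • m) = ∑ i, ∑ j, X (g m i * x) j • (b j • s i) := fun x m => by
    rw [mul_smul, smul_comm u t, smul_comm u x, hg, Finset.smul_sum, Finset.smul_sum]
    refine Finset.sum_congr rfl fun i _ => ?_
    rw [smul_smul x, ← smul_assoc t (x * g m i) (s i), mul_comm x, hX, Finset.sum_smul]
    exact Finset.sum_congr rfl fun j _ => smul_assoc _ _ _
  have exS : ∀ (x : B) (m : Fin (k + 1) → M), (u ^ (k + 1) * t) • (x • exteriorPower.ιMulti B (k + 1) m) =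
      ∑ j, X ((Matrix.of fun i i' => g (m i) i').det * x) j • (b j • S) := fun x m => by
    have h1 : u ^ (k + 1) • exteriorPower.ιMulti B (k + 1) m = (Matrix.of fun i i' => g (m i) i').det • S := by
      rw [← NormGraphRank.alternating_det (exteriorPower.ιMulti B (k + 1)) s (Matrix.of fun i i' => g (m i) i')]
      simp only [Matrix.of_apply, ← hg, ← algebraMap_smul B u]
      rw [AlternatingMap.map_smul_univ, Finset.prod_const, Finset.card_univ, Fintype.card_fin, ← map_pow, algebraMap_smul]
    rw [mul_comm, mul_smul, smul_comm (u ^ (k + 1)) x, h1, smul_smul x, ← smul_assoc t _ S, mul_comm x, hX, Finset.sum_smul]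
    exact Finset.sum_congr rfl fun j _ => smul_assoc _ _ _
  have exB : ∀ x : B, t • x = ∑ j, X x j • b j := hX
  refine ⟨F (fun _ => b) s, ⟨fun _ => b, s, rfl⟩, ?_, ?_, ?_⟩
  · rintro _ ⟨v, m, rfl⟩
    let Y : Matrix (Fin (k + 1) × Fin n) (Fin (k + 1) × Fin n) A :=
      Matrix.of fun x y => X (g (m x.1) y.1 * v x.1 x.2) y.2
    let δ := (Matrix.of fun i i' => g (m i) i').det
    let c₂ := (∏ i : Fin k, (Matrix.of fun j j' => X (v i.castSucc j) j').det) *
      (Matrix.of fun j j' => X (δ * v (Fin.last k) j) j').det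
    have e₁ : (u * t) ^ (n * (k + 1)) • (F v m).1 = Y.det • (F (fun _ => b) s).1 := by
      rw [← Matrix.det_submatrix_equiv_self ε Y]
      refine smul_ιMulti _ _ _ _ fun l => ?_
      rw [exM, ← Fintype.sum_prod_type', ← Equiv.sum_comp ε]
      rfl
    have e₂ : (u * t) ^ (n * (k + 1)) • (F v m).2 = c₂ • (F (fun _ => b) s).2 := by
      have hsplit : (u * t) ^ (n * (k + 1)) = (∏ _i : Fin k, t ^ n) * (u ^ (k + 1) * t) ^ n := by
        rw [Finset.prod_const, Finset.card_univ, Fintype.card_fin, mul_pow, mul_pow, ← pow_mul, ← pow_mul]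
        ring
      rw [hsplit]
      show _ • (_ ⊗ₜ[A] _) = c₂ • (_ ⊗ₜ[A] _)
      rw [← TensorProduct.smul_tmul_smul, ← TensorProduct.smul_tmul_smul, ← (PiTensorProduct.tprod A).map_smul_univ,
        ← (PiTensorProduct.tprod A).map_smul_univ]
      congr 1
      · congr 1
        funext i
        exact smul_ιMulti _ _ _ _ fun j => exB _
      · exact smul_ιMulti _ _ _ _ fun j => exS _ m
    let R := Localization.AtPrime P
    let ι : B →+* R ⊗[A] B := Algebra.TensorProduct.includeRight.toRingHom
    have hXr : ∀ x j, algebraMap A R (X x j) = algebraMap A R t * b'.repr (ι x) j := fun x j => by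
      have h1 : algebraMap A R t • ι x = ∑ i, algebraMap A R (X x i) • b' i := by
        show algebraMap A R t • ((1 : R) ⊗ₜ[A] x) = _
        rw [algebraMap_smul, ← TensorProduct.tmul_smul, hX, TensorProduct.tmul_sum]
        refine Finset.sum_congr rfl fun i _ => ?_
        rw [hb', algebraMap_smul, TensorProduct.tmul_smul]
      have h2 := congrArg (fun z => b'.repr z j) h1
      simp only [map_smul, Finsupp.smul_apply, smul_eq_mul, b'.repr_sum_self] at h2
      exact h2.symm
    have hc : algebraMap A R Y.det = algebraMap A R c₂ :=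
      det_transfer b' t X hXr (Matrix.of fun i i' => g (m i) i') v
    obtain ⟨w, hw⟩ := (IsLocalization.eq_iff_exists P.primeCompl R).1 hc
    refine ⟨(w : A) * (u * t) ^ (n * (k + 1)), fun h => (hP.isPrime.mem_or_mem h).elim w.2
      (fun h => hut (hP.isPrime.mem_of_pow_mem _ h)), Submodule.mem_span_singleton.2 ⟨(w : A) * c₂, Prod.ext ?_ ?_⟩⟩
    · rw [Prod.smul_fst, Prod.smul_fst, mul_smul (w : A) ((u * t) ^ (n * (k + 1))), e₁, smul_smul (w : A) Y.det, hw]
    · rw [Prod.smul_snd, Prod.smul_snd, mul_smul (w : A) ((u * t) ^ (n * (k + 1))), e₂, smul_smul]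
  · refine NormGraphDet.gen_alt hut _ fun m => ?_
    have := exM 1 m
    rw [one_smul] at this
    rw [this]
    refine Submodule.sum_mem _ fun i _ => Submodule.sum_mem _ fun j _ => Submodule.smul_mem _ _ (Submodule.subset_span ?_)
    exact ⟨ε.symm (i, j), by simp⟩
  · refine NormGraph.gen_tmul (NormGraphDet.gen_tprod (NormGraphDet.gen_alt ht _ fun x => ?_) k)
      (NormGraphDet.gen_alt hut' _ fun y => ?_)
    · rw [exB]
      exact Submodule.sum_mem _ fun j _ => Submodule.smul_mem _ _ (Submodule.subset_span ⟨j, rfl⟩)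
    · obtain ⟨c, hc⟩ := NormGraphDet.span_pow (A := A) (u := u) s (fun m => ⟨g m, hg m⟩) y
      rw [mul_comm, mul_smul, hc, ← smul_assoc, hX, Finset.sum_smul]
      refine Submodule.sum_mem _ fun j _ => ?_
      rw [smul_assoc]
      exact Submodule.smul_mem _ _ (Submodule.subset_span ⟨j, rfl⟩)

/-- Let A → B be a ring homomorphism making B a finite locally free A-module of constant rank n, and
take a B-module M that is locally free of rank k, with k at least 1. Then, as A-modules, ∧^{nk}_A M
≅ (∧ⁿ_A B)^{⊗(k−1)} ⊗_A ∧ⁿ_A(∧^k_B M). (The published statement gives a specific, canonical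
isomorphism, allows k = 0 with the exponent k − 1 read in the Picard group, and has a companion
formula for duals; this row asserts only that an isomorphism exists, for k ≥ 1, since with a
natural-number exponent k = 0 would change the meaning, and omits the dual formula.) Locally free of
rank r is expressed as finitely generated projective with all localisations at primes of rank r. -/
theorem result
    (A B : Type u) [CommRing A] [CommRing B] [Algebra A B] [Module.Finite A B] [Module.Projective A B]
    (n : ℕ) (hn : ∀ q : PrimeSpectrum A, Module.finrank (Localization.AtPrime q.asIdeal) (LocalizedModule q.asIdeal.primeCompl B) = n)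
    (M : Type u) [AddCommGroup M] [Module B M] [Module A M] [IsScalarTower A B M]
    [Module.Finite B M] [Module.Projective B M] (k : ℕ) (hk : 1 ≤ k)
    (hM : ∀ q : PrimeSpectrum B, Module.finrank (Localization.AtPrime q.asIdeal) (LocalizedModule q.asIdeal.primeCompl M) = k) :
    Nonempty ((⋀[A]^(n * k) M) ≃ₗ[A]
      (TensorPower A (k - 1) (⋀[A]^n B)) ⊗[A] (⋀[A]^n (⋀[B]^k M))) := by
  obtain ⟨k, rfl⟩ : ∃ k', k = k' + 1 := ⟨k - 1, by omega⟩
  exact aux A B n hn M k hM

end Groth.Agent.S13119
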