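import Groth.Statements.S13120
import Groth.Agent.KumKer.Basic

set_option autoImplicit false
universe u
open KumFam

namespace Groth.Agent.S13120

open MvPolynomial in
/-- Let R be a commutative ring of characteristic 2 and l0, l2, l4, s0, s2, s4, τ ∈ R with τ a unit.
Inside R[u, v] (u = X 0, v = X 1) let A = R[u², u³, v², v³] be the coordinate ring of the product of
two cuspidal curves, and let D be the R-derivation of R[u, v] with D(u) = v²(l0 u⁴ + τ u³ + l2 u² +
l4) and D(v) = u²(s0 v⁴ + τ v³ + s2 v² + s4); D is u²v² times the rational vector field (l0 u² + τ u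
+ l2 + l4 u⁻²) ∂_u + (s0 v² + τ v + s2 + s4 v⁻²) ∂_v, which maps A into itself, and u²v² is a
non-zero-divisor, so the kernel of that vector field on A is the set of a ∈ A with D(a) = 0. Then
for a ∈ A: D(a) = 0 if and only if a ∈ R[u², v², g], where g = (s0 v⁴ + s2 v² + s4) u³ + (l0 u⁴ + l2
u² + l4) v³ + τ u³ v³. (The published statement identifies this kernel with the ring of invariants
of the corresponding action of the group scheme of square roots of unity; this row states the kernel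
computation that is actually carried out.) -/
theorem result (R : Type u) [CommRing R] [CharP R 2]
    (l0 l2 l4 s0 s2 s4 τ : R) (hτ : IsUnit τ) (a : MvPolynomial (Fin 2) R)
    (ha : a ∈ Algebra.adjoin R
      ({X 0 ^ 2, X 0 ^ 3, X 1 ^ 2, X 1 ^ 3} : Set (MvPolynomial (Fin 2) R))) :
    MvPolynomial.mkDerivation R
        (![X 1 ^ 2 * (C l0 * X 0 ^ 4 + C τ * X 0 ^ 3 + C l2 * X 0 ^ 2 + C l4),
          X 0 ^ 2 * (C s0 * X 1 ^ 4 + C τ * X 1 ^ 3 + C s2 * X 1 ^ 2 + C s4)] :
          Fin 2 → MvPolynomial (Fin 2) R) a = 0 ↔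
      a ∈ Algebra.adjoin R
        ({X 0 ^ 2, X 1 ^ 2,
          (C s0 * X 1 ^ 4 + C s2 * X 1 ^ 2 + C s4) * X 0 ^ 3 +
            (C l0 * X 0 ^ 4 + C l2 * X 0 ^ 2 + C l4) * X 1 ^ 3 +
            C τ * X 0 ^ 3 * X 1 ^ 3} : Set (MvPolynomial (Fin 2) R)) := by
  open MvPolynomial in
  set P : MvPolynomial (Fin 2) R := C l0 * X 0 ^ 2 + C l2 * X 0 + C l4 with hP
  open MvPolynomial in
  set Q : MvPolynomial (Fin 2) R := C s0 * X 1 ^ 2 + C s2 * X 1 + C s4 with hQ
  open MvPolynomial in
  have hg : (C s0 * X 1 ^ 4 + C s2 * X 1 ^ 2 + C s4) * X 0 ^ 3 + (C l0 * X 0 ^ 4 + C l2 * X 0 ^ 2 + C l4) * X 1 ^ 3 +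
      C τ * X 0 ^ 3 * X 1 ^ 3 = Groth.Agent.KumKer.gen 3 3 τ P Q := by
    simp only [hP, hQ, Groth.Agent.KumKer.gen, map_add, map_mul, map_pow, expand_C, expand_X]; ring
  open MvPolynomial in
  set D := MvPolynomial.mkDerivation R
    (![X 1 ^ 2 * (C l0 * X 0 ^ 4 + C τ * X 0 ^ 3 + C l2 * X 0 ^ 2 + C l4),
      X 0 ^ 2 * (C s0 * X 1 ^ 4 + C τ * X 1 ^ 3 + C s2 * X 1 ^ 2 + C s4)] : Fin 2 → MvPolynomial (Fin 2) R)
  open MvPolynomial in
  have h3 : (3 : MvPolynomial (Fin 2) R) = 1 := by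
    linear_combination (CharTwo.two_eq_zero : (2 : MvPolynomial (Fin 2) R) = 0)
  open MvPolynomial in
  have hDx : D (X 0 ^ 3) = expand 2 (X 0 * X 1) * (expand 2 P + C τ * X 0 ^ 3) := by
    simp [D, hP, Derivation.leibniz_pow]
    rw [h3]; ring
  open MvPolynomial in
  have hDy : D (X 1 ^ 3) = expand 2 (X 0 * X 1) * (expand 2 Q + C τ * X 1 ^ 3) := by
    simp [D, hQ, Derivation.leibniz_pow]
    rw [h3]; ring
  open MvPolynomial in
  have hM : ∀ q : MvPolynomial (Fin 2) R, X 0 * X 1 * q = 0 → q = 0 := fun q hq => by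
    refine MvPolynomial.ext _ _ fun m => ?_
    have h := congrArg (coeff (Finsupp.single 0 1 + (Finsupp.single 1 1 + m))) hq
    rwa [mul_assoc, coeff_X_mul, coeff_X_mul, coeff_zero] at h
  constructor
  · intro h
    obtain ⟨A, E, rfl⟩ := Groth.Agent.KumKer.exists_of_D_eq_zero D (a := 3) (b := 3) (by decide) (by decide) τ hτ _ P Q hM hDx hDy
      (Groth.Agent.KumKer.form_adjoin _ (by
        rintro _ (rfl | rfl | rfl | rfl)
        · exact ⟨MvPolynomial.X 0, 0, 0, 0, by simp [Groth.Agent.KumKer.comb]⟩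
        · exact ⟨0, 1, 0, 0, by simp [Groth.Agent.KumKer.comb]⟩
        · exact ⟨MvPolynomial.X 1, 0, 0, 0, by simp [Groth.Agent.KumKer.comb]⟩
        · exact ⟨0, 0, 1, 0, by simp [Groth.Agent.KumKer.comb]⟩) ha) h
    have hexp : ∀ q : MvPolynomial (Fin 2) R, MvPolynomial.expand 2 q ∈ Algebra.adjoin R
        ({MvPolynomial.X 0 ^ 2, MvPolynomial.X 1 ^ 2, Groth.Agent.KumKer.gen 3 3 τ P Q} : Set (MvPolynomial (Fin 2) R)) := by
      intro q
      induction q using MvPolynomial.induction_on with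
      | C r => rw [MvPolynomial.expand_C]; exact Subalgebra.algebraMap_mem _ r
      | add p q hp hq => rw [map_add]; exact Subalgebra.add_mem _ hp hq
      | mul_X p i hp =>
        rw [map_mul, MvPolynomial.expand_X]
        refine Subalgebra.mul_mem _ hp (Algebra.subset_adjoin ?_)
        fin_cases i <;> simp
    rw [hg]
    exact Subalgebra.add_mem _ (hexp A) (Subalgebra.mul_mem _ (Algebra.subset_adjoin (by simp)) (hexp E))
  · intro h
    rw [hg] at h
    clear ha
    induction h using Algebra.adjoin_induction with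
    | mem x hx =>
      rcases hx with rfl | rfl | rfl
      · exact MvPolynomial.expand_X (p := 2) (R := R) (0 : Fin 2) ▸ Groth.Agent.KumKer.D_expand D _
      · exact MvPolynomial.expand_X (p := 2) (R := R) (1 : Fin 2) ▸ Groth.Agent.KumKer.D_expand D _
      · exact Groth.Agent.KumKer.D_gen D τ _ P Q hDx hDy
    | algebraMap r => exact Derivation.map_algebraMap D r
    | add x y _ _ hx hy => rw [map_add, hx, hy, add_zero]
    | mul x y _ _ hx hy => rw [Derivation.leibniz, hx, hy, smul_zero, smul_zero, add_zero]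

end Groth.Agent.S13120
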