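import Groth.Statements.S13121
import Groth.Agent.KumKer.Basic

set_option autoImplicit false
universe u
open KumFam

namespace Groth.Agent.S13121

open MvPolynomial in
/-- Let R be a commutative ring of characteristic 2 and l0, l2, l4, s0, s2, s4, τ ∈ R with τ a unit. In
R[u, v] (u = X 0, v = X 1) put g = (s0 v⁴ + s2 v² + s4) u³ + (l0 u⁴ + l2 u² + l4) v³ + τ u³ v³. Then
the kernel of the R-algebra homomorphism R[a, b, c] → R[u, v] (a = X 0, b = X 1, c = X 2) with a ↦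
u², b ↦ v², c ↦ g is the ideal generated by c² + s0² a³ b⁴ + s2² a³ b² + s4² a³ + l0² a⁴ b³ + l2² a²
b³ + l4² b³ + τ² a³ b³; its image is the subalgebra R[u², v², g], which is therefore presented by
this one equation. -/
theorem result (R : Type u) [CommRing R] [CharP R 2]
    (l0 l2 l4 s0 s2 s4 τ : R) (hτ : IsUnit τ) :
    RingHom.ker (MvPolynomial.aeval (R := R) (S₁ := MvPolynomial (Fin 2) R)
        ![X 0 ^ 2, X 1 ^ 2,
          (C s0 * X 1 ^ 4 + C s2 * X 1 ^ 2 + C s4) * X 0 ^ 3 +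
            (C l0 * X 0 ^ 4 + C l2 * X 0 ^ 2 + C l4) * X 1 ^ 3 +
            C τ * X 0 ^ 3 * X 1 ^ 3]) =
      Ideal.span {(X 2 ^ 2 + C (s0 ^ 2) * X 0 ^ 3 * X 1 ^ 4 + C (s2 ^ 2) * X 0 ^ 3 * X 1 ^ 2 +
        C (s4 ^ 2) * X 0 ^ 3 + C (l0 ^ 2) * X 0 ^ 4 * X 1 ^ 3 + C (l2 ^ 2) * X 0 ^ 2 * X 1 ^ 3 +
        C (l4 ^ 2) * X 1 ^ 3 + C (τ ^ 2) * X 0 ^ 3 * X 1 ^ 3 : MvPolynomial (Fin 3) R)} := by
  open MvPolynomial in
  have hg : (C s0 * X 1 ^ 4 + C s2 * X 1 ^ 2 + C s4) * X 0 ^ 3 + (C l0 * X 0 ^ 4 + C l2 * X 0 ^ 2 + C l4) * X 1 ^ 3 +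
      C τ * X 0 ^ 3 * X 1 ^ 3 = Groth.Agent.KumKer.gen 3 3 τ (C l0 * X 0 ^ 2 + C l2 * X 0 + C l4 : MvPolynomial (Fin 2) R)
        (C s0 * X 1 ^ 2 + C s2 * X 1 + C s4) := by
    simp only [Groth.Agent.KumKer.gen, map_add, map_mul, map_pow, expand_C, expand_X]; ring
  rw [hg, Groth.Agent.KumKer.ker_eq (a := 3) (b := 3) (by decide) (by decide) τ hτ (C l0 * X 0 ^ 2 + C l2 * X 0 + C l4)
    (C s0 * X 1 ^ 2 + C s2 * X 1 + C s4) _ (by simp) (by simp) (by simp)]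
  congr 2
  simp only [CharTwo.add_sq, map_add, map_mul, map_pow, rename_C, rename_X, mul_pow]
  change X 2 ^ 2 + _ = _
  simp only [Fin.castSucc_zero, show Fin.castSucc (1 : Fin 2) = (1 : Fin 3) from rfl, ← map_pow]
  ring

end Groth.Agent.S13121
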