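import Groth.Statements.S13122
import Groth.Agent.KumKer.Basic

set_option autoImplicit false
universe u
open KumFam

namespace Groth.Agent.S13122

open MvPolynomial in
/-- Let R be a commutative ring of characteristic 2 and l0, l2, l4, s0, s2, s4, τ ∈ R with τ a unit. On
R[x, y] (x = X 0, y = X 1; the coordinates u⁻¹, v⁻¹ of the smooth chart of the product of two
cuspidal curves) let D be the R-derivation with D(x) = l4 x⁴ + l2 x² + τ x + l0 and D(y) = s4 y⁴ +
s2 y² + τ y + s0, and put h = (s4 y⁴ + s2 y² + s0) x + (l4 x⁴ + l2 x² + l0) y + τ x y. Then: (1) for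
p ∈ R[x, y], D(p) = 0 if and only if p lies in the image of the R-algebra homomorphism R[a, b, c] →
R[x, y] (a = X 0, b = X 1, c = X 2) with a ↦ x², b ↦ y², c ↦ h; (2) the kernel of that homomorphism
is the ideal generated by c² + τ² a b + (s4² b⁴ + s2² b² + s0²) a + (l4² a⁴ + l2² a² + l0²) b. (The
published statement asserts that the ring of invariants of the action of the group scheme of square
roots of unity given by this vector field is R[a, b, c] modulo this equation, by the same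
computation as on the other chart; this row pins the generator h and states the kernel computation.) -/
theorem result (R : Type u) [CommRing R]
    [CharP R 2] (l0 l2 l4 s0 s2 s4 τ : R) (hτ : IsUnit τ) :
    (∀ p : MvPolynomial (Fin 2) R,
      MvPolynomial.mkDerivation R
          (![C l4 * X 0 ^ 4 + C l2 * X 0 ^ 2 + C τ * X 0 + C l0,
            C s4 * X 1 ^ 4 + C s2 * X 1 ^ 2 + C τ * X 1 + C s0] :
            Fin 2 → MvPolynomial (Fin 2) R) p = 0 ↔
        p ∈ (MvPolynomial.aeval (R := R) (S₁ := MvPolynomial (Fin 2) R)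
          ![X 0 ^ 2, X 1 ^ 2,
            (C s4 * X 1 ^ 4 + C s2 * X 1 ^ 2 + C s0) * X 0 +
              (C l4 * X 0 ^ 4 + C l2 * X 0 ^ 2 + C l0) * X 1 + C τ * X 0 * X 1]).range) ∧
    RingHom.ker (MvPolynomial.aeval (R := R) (S₁ := MvPolynomial (Fin 2) R)
        ![X 0 ^ 2, X 1 ^ 2,
          (C s4 * X 1 ^ 4 + C s2 * X 1 ^ 2 + C s0) * X 0 +
            (C l4 * X 0 ^ 4 + C l2 * X 0 ^ 2 + C l0) * X 1 + C τ * X 0 * X 1]) =
      Ideal.span {(X 2 ^ 2 + C (τ ^ 2) * X 0 * X 1 +
        (C (s4 ^ 2) * X 1 ^ 4 + C (s2 ^ 2) * X 1 ^ 2 + C (s0 ^ 2)) * X 0 +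
        (C (l4 ^ 2) * X 0 ^ 4 + C (l2 ^ 2) * X 0 ^ 2 + C (l0 ^ 2)) * X 1 : MvPolynomial (Fin 3) R)} := by
  open MvPolynomial in
  set P : MvPolynomial (Fin 2) R := C l4 * X 0 ^ 2 + C l2 * X 0 + C l0 with hP
  open MvPolynomial in
  set Q : MvPolynomial (Fin 2) R := C s4 * X 1 ^ 2 + C s2 * X 1 + C s0 with hQ
  open MvPolynomial in
  have hg : (C s4 * X 1 ^ 4 + C s2 * X 1 ^ 2 + C s0) * X 0 + (C l4 * X 0 ^ 4 + C l2 * X 0 ^ 2 + C l0) * X 1 +
      C τ * X 0 * X 1 = Groth.Agent.KumKer.gen 1 1 τ P Q := by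
    simp only [hP, hQ, Groth.Agent.KumKer.gen, map_add, map_mul, map_pow, expand_C, expand_X]; ring
  open MvPolynomial in
  refine ⟨fun p => ?_, ?_⟩
  · open MvPolynomial in
    set D := MvPolynomial.mkDerivation R (![C l4 * X 0 ^ 4 + C l2 * X 0 ^ 2 + C τ * X 0 + C l0,
      C s4 * X 1 ^ 4 + C s2 * X 1 ^ 2 + C τ * X 1 + C s0] : Fin 2 → MvPolynomial (Fin 2) R)
    open MvPolynomial in
    have hDx : D (X 0 ^ 1) = expand 2 1 * (expand 2 P + C τ * X 0 ^ 1) := by
      simp [D, hP]; ring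
    open MvPolynomial in
    have hDy : D (X 1 ^ 1) = expand 2 1 * (expand 2 Q + C τ * X 1 ^ 1) := by
      simp [D, hQ]; ring
    open MvPolynomial in
    have hsq : (C τ * X 0 * X 1 + (C s4 * X 1 ^ 4 + C s2 * X 1 ^ 2 + C s0) * X 0 +
        (C l4 * X 0 ^ 4 + C l2 * X 0 ^ 2 + C l0) * X 1 : MvPolynomial (Fin 2) R) ^ 2 =
        expand 2 (X 0 * Q ^ 2 + X 1 * P ^ 2 + C (τ ^ 2) * (X 0 * X 1)) := by
      simp only [hP, hQ, CharTwo.add_sq, map_add, map_mul, map_pow, mul_pow, expand_C, expand_X]; ring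
    rw [Groth.Agent.KumKer.range_eq (Groth.Agent.KumKer.gen 1 1 τ P Q) _ (by simp) (by simp) (by simp [hg]) _ (by
      rw [← hsq, ← hg]; ring)]
    constructor
    · intro h
      refine Groth.Agent.KumKer.exists_of_D_eq_zero D (a := 1) (b := 1) (by decide) (by decide) τ hτ 1 P Q
        (fun q hq => by rwa [one_mul] at hq) hDx hDy ?_ h
      refine Groth.Agent.KumKer.form_adjoin (Set.range MvPolynomial.X) ?_ (MvPolynomial.adjoin_range_X (R := R) (σ := Fin 2) ▸ Algebra.mem_top)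
      rintro _ ⟨i, rfl⟩
      fin_cases i
      · exact ⟨0, 1, 0, 0, by simp [Groth.Agent.KumKer.comb]⟩
      · exact ⟨0, 0, 1, 0, by simp [Groth.Agent.KumKer.comb]⟩
    · rintro ⟨A, E, rfl⟩
      exact Groth.Agent.KumKer.D_form_eq_zero D τ 1 P Q hDx hDy A E
  · open MvPolynomial in
    rw [hg, Groth.Agent.KumKer.ker_eq (a := 1) (b := 1) (by decide) (by decide) τ hτ P Q _ (by simp) (by simp) (by simp)]
    congr 2
    simp only [hP, hQ, CharTwo.add_sq, map_add, map_mul, map_pow, MvPolynomial.rename_C, MvPolynomial.rename_X, mul_pow]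
    simp only [Fin.castSucc_zero, show Fin.castSucc (1 : Fin 2) = (1 : Fin 3) from rfl, ← map_pow]
    ring

end Groth.Agent.S13122
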