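import Groth.Statements.S13124
import Mathlib.RingTheory.Localization.FractionRing
import Mathlib.LinearAlgebra.TensorProduct.Tower

set_option autoImplicit false
set_option linter.style.haveILetI false
universe u v w
open KumFam

open scoped TensorProduct
namespace Groth.Agent.S13124

/-- Let k be a commutative ring, A a commutative k-bialgebra that is flat over k, and R a commutative
k-algebra which is an integrally closed domain, with a coaction R → R ⊗ A that is an algebra
homomorphism. Then the ring of invariants (the elements f with coaction f ⊗ 1) is an integrally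
closed domain. (The published statement is for a finite group scheme acting on a normal scheme whose
quotient is, locally, the spectrum of the ring of invariants; this row is the affine integral case
and allows any commutative bialgebra flat over k, flatness being automatic over a field.) -/
theorem result (k : Type u) [CommRing k]
    (A : Type v) [CommRing A] [Bialgebra k A] [Module.Flat k A]
    (R : Type w) [CommRing R] [Algebra k R] [IsDomain R] [IsIntegrallyClosed R]
    [HopfRep.Comod k A R] [GLin.IsCoactAlg k A R] :
    IsIntegrallyClosed (GLin.invariants k A R) := by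
  let I := GLin.invariants k A R
  refine (isIntegrallyClosed_iff (FractionRing I)).2 fun {x} hx => ?_
  obtain ⟨a, b, hb, rfl⟩ := IsFractionRing.div_surjective (A := I) x
  have hb0 : (b : I) ≠ 0 := nonZeroDivisors.ne_zero hb
  have hbR : ((b : I) : R) ≠ 0 := fun h => hb0 (Subtype.ext h)
  let K := FractionRing R
  let j : FractionRing I →+* K := IsFractionRing.lift (A := I) (g := (algebraMap R K).comp I.val.toRingHom)
    ((IsFractionRing.injective R K).comp Subtype.val_injective)
  have hj : ∀ c : I, j (algebraMap I _ c) = algebraMap R K c := fun c => IsFractionRing.lift_algebraMap _ c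
  obtain ⟨P, hP, hP0⟩ := hx
  obtain ⟨r, hr⟩ : ∃ r : R, algebraMap R K r = j (algebraMap I _ a / algebraMap I _ b) := by
    refine IsIntegrallyClosed.isIntegral_iff.1 ⟨P.map I.val.toRingHom, hP.map _, ?_⟩
    have h2 : (algebraMap R K).comp I.val.toRingHom = j.comp (algebraMap I (FractionRing I)) :=
      RingHom.ext fun c => (hj c).symm
    rw [Polynomial.eval₂_map, h2, ← Polynomial.hom_eval₂, hP0, map_zero]
  have hmul : r * (b : R) = (a : R) := IsFractionRing.injective R K (by
    rw [map_mul, hr, ← hj, ← hj, ← map_mul, div_mul_cancel₀]
    exact fun h => hb0 (IsFractionRing.injective I (FractionRing I) (h.trans (map_zero _).symm)))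
  have hinj : Function.Injective fun z : R ⊗[k] A => ((b : R) ⊗ₜ[k] (1 : A)) * z := by
    have h := Module.Flat.rTensor_preserves_injective_linearMap (M := A) (LinearMap.mulLeft k (b : R))
      (mul_right_injective₀ hbR)
    intro z w hzw
    refine h ?_
    have h3 : ∀ z : R ⊗[k] A, LinearMap.rTensor A (LinearMap.mulLeft k (b : R)) z = ((b : R) ⊗ₜ[k] (1 : A)) * z := by
      intro z
      induction z using TensorProduct.induction_on with
      | zero => simp
      | add x y hx hy => rw [map_add, hx, hy, mul_add]
      | tmul x y => simp
    rw [h3, h3]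
    exact hzw
  have hinv : r ∈ I := hinj (by
    show ((b : R) ⊗ₜ[k] (1 : A)) * HopfRep.Comod.coact (k := k) (A := A) r = ((b : R) ⊗ₜ[k] (1 : A)) * (r ⊗ₜ[k] (1 : A))
    rw [← show HopfRep.Comod.coact (k := k) (A := A) (b : R) = (b : R) ⊗ₜ[k] (1 : A) from (b : I).2,
      ← GLin.IsCoactAlg.coact_mul, mul_comm (b : R) r, hmul,
      show HopfRep.Comod.coact (k := k) (A := A) (a : R) = (a : R) ⊗ₜ[k] (1 : A) from a.2,
      show HopfRep.Comod.coact (k := k) (A := A) (b : R) = (b : R) ⊗ₜ[k] (1 : A) from (b : I).2,
      Algebra.TensorProduct.tmul_mul_tmul, mul_one, mul_comm, hmul])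
  refine ⟨⟨r, hinv⟩, ?_⟩
  rw [eq_div_iff (fun h => hb0 (IsFractionRing.injective I (FractionRing I) (h.trans (map_zero _).symm))), ← map_mul]
  exact congrArg _ (Subtype.ext hmul)

end Groth.Agent.S13124
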