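import Groth.Statements.S13125
import Mathlib.RingTheory.GradedAlgebra.Homogeneous.Ideal
import Mathlib.RingTheory.Ideal.Quotient.Operations

set_option autoImplicit false
universe u v
open KumFam

namespace Groth.Agent.S13125

/-- Let A be a commutative ring graded by an additive monoid ι (an abelian group in the published
statement) through additive subgroups 𝒜 i, and I an ideal of A. Then I is a homogeneous ideal if and
only if A/I carries a structure of ι-graded ring ℬ for which the quotient map sends 𝒜 i into ℬ i for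
all i. -/
theorem result (ι : Type u) [DecidableEq ι] [AddMonoid ι]
    (A : Type v) [CommRing A] (𝒜 : ι → AddSubgroup A) [GradedRing 𝒜] (I : Ideal A) :
    I.IsHomogeneous 𝒜 ↔
      ∃ ℬ : ι → AddSubgroup (A ⧸ I), Nonempty (GradedRing ℬ) ∧
        ∀ i : ι, (𝒜 i).map (Ideal.Quotient.mk I : A →+ A ⧸ I) ≤ ℬ i := by
  classical
  let π : A →+* A ⧸ I := Ideal.Quotient.mk I
  constructor
  · intro hI
    let ℬ : ι → AddSubgroup (A ⧸ I) := fun i => (𝒜 i).map π.toAddMonoidHom
    haveI : SetLike.GradedMonoid ℬ :=
      { one_mem := ⟨1, SetLike.one_mem_graded 𝒜, π.map_one⟩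
        mul_mem := fun i j a b ha hb => by
          obtain ⟨a, ha, rfl⟩ := ha
          obtain ⟨b, hb, rfl⟩ := hb
          exact ⟨a * b, SetLike.mul_mem_graded ha hb, π.map_mul a b⟩ }
    let pre : A →+ DirectSum ι fun i => ℬ i :=
      (DirectSum.map fun i => ((π.toAddMonoidHom.comp (𝒜 i).subtype).codRestrict (ℬ i)
        fun a => ⟨a, a.2, rfl⟩)).comp (DirectSum.decomposeAddEquiv 𝒜).toAddMonoidHom
    have hpre : ∀ a, a ∈ I → pre a = 0 := fun a ha => by
      ext i
      simp only [pre, AddMonoidHom.comp_apply, DirectSum.map_apply, DirectSum.zero_apply,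
        ZeroMemClass.coe_zero]
      exact Ideal.Quotient.eq_zero_iff_mem.mpr (hI i ha)
    let dec : A ⧸ I →+ DirectSum ι fun i => ℬ i :=
      QuotientAddGroup.lift I.toAddSubgroup pre fun a ha => hpre a ha
    have hval : ∀ a : A, dec (π a) = pre a := fun a => rfl
    have hleft : (DirectSum.coeAddMonoidHom ℬ).comp dec = AddMonoidHom.id (A ⧸ I) := by
      refine AddMonoidHom.ext fun x => ?_
      obtain ⟨a, rfl⟩ := Ideal.Quotient.mk_surjective x
      show DirectSum.coeAddMonoidHom ℬ (dec (π a)) = π a
      rw [hval]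
      induction a using DirectSum.Decomposition.inductionOn 𝒜 with
      | zero => simp
      | homogeneous a => simp [pre]
      | add a b ha hb => rw [map_add, map_add, ha, hb, map_add]
    have hright : dec.comp (DirectSum.coeAddMonoidHom ℬ) = AddMonoidHom.id _ := by
      refine DirectSum.addHom_ext fun i b => ?_
      obtain ⟨_, a, ha, rfl⟩ := b
      rw [AddMonoidHom.comp_apply, DirectSum.coeAddMonoidHom_of]
      show dec (π a) = _
      rw [hval]
      simp only [pre, AddMonoidHom.comp_apply, AddEquiv.coe_toAddMonoidHom,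
        DirectSum.decomposeAddEquiv_apply, DirectSum.decompose_of_mem 𝒜 ha, DirectSum.map_of,
        AddMonoidHom.id_apply]
      rfl
    refine ⟨ℬ, ⟨{ decompose' := dec
                  left_inv := fun x => DFunLike.congr_fun hleft x
                  right_inv := fun x => DFunLike.congr_fun hright x }⟩, fun i => le_rfl⟩
  · rintro ⟨ℬ, ⟨hℬ⟩, hle⟩ i a ha
    letI := hℬ
    have hf : ∀ x : A, ((DirectSum.decompose ℬ (π x) i : ℬ i) : A ⧸ I) =
        π ((DirectSum.decompose 𝒜 x i : 𝒜 i) : A) := by
      intro x
      induction x using DirectSum.Decomposition.inductionOn 𝒜 with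
      | zero => simp
      | @homogeneous j a =>
        have hj : π (a : A) ∈ ℬ j := hle j ⟨a, a.2, rfl⟩
        rcases eq_or_ne j i with rfl | h
        · rw [DirectSum.decompose_of_mem_same ℬ hj, DirectSum.decompose_of_mem_same 𝒜 a.2]
        · rw [DirectSum.decompose_of_mem_ne ℬ hj h, DirectSum.decompose_of_mem_ne 𝒜 a.2 h, map_zero]
      | add a b ha hb =>
        simp only [map_add, DirectSum.decompose_add, DirectSum.add_apply, AddSubgroup.coe_add, ha, hb]
    refine Ideal.Quotient.eq_zero_iff_mem.mp ?_
    rw [← hf a, show π a = 0 from Ideal.Quotient.eq_zero_iff_mem.mpr ha]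
    simp

end Groth.Agent.S13125
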