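import Groth.Statements.S13126
import Mathlib

set_option linter.all false

set_option autoImplicit false
universe u
open KumFam

open TensorProduct

namespace Groth.Agent.S13126

open Polynomial in
/-- Let R be a commutative ring, n a natural number which is a unit in R, and ζ ∈ R with ζ^n = 1 and 1 −
ζ^i a unit for 0 < i < n (a primitive n-th root of unity in the fibrewise sense: the powers ζ^0, …,
ζ^(n−1) are roots of X^n − 1 with pairwise unit differences; over an integral domain in which n is a
unit this is the same as ζ having multiplicative order n). Then the R-algebra homomorphism R[X] →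
(Fin n → R) sending a polynomial to its values at ζ^0, …, ζ^(n−1) is surjective and its kernel is
the ideal generated by X^n − 1; hence R[X]/(X^n − 1) ≅ R^n as R-algebras, i.e. the scheme of n-th
roots of unity over Spec R is the disjoint union of n copies of Spec R. (The published statement
asks that R contain a primitive n-th root of unity without defining the term; its Chinese-remainder
argument uses that the ideals (X − ζ^i), i < n, are pairwise comaximal, which is the unit-difference
condition taken as the hypothesis here, whereas under the reading 'ζ has multiplicative order n'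
alone the surjectivity fails over a product of two fields. The published statement also asserts that
the isomorphism respects the group-scheme structures of the n-th roots of unity and of the constant
group ℤ/n; this row does not state that.) -/
theorem result (R : Type u) [CommRing R]
    (n : ℕ) (hn : IsUnit (n : R)) (ζ : R) (hζ : ζ ^ n = 1)
    (hprim : ∀ i : ℕ, 0 < i → i < n → IsUnit (1 - ζ ^ i)) :
    Function.Surjective (AlgHom.pi (fun i : Fin n => Polynomial.aeval (R := R) (ζ ^ (i : ℕ)))) ∧
      RingHom.ker (AlgHom.pi (fun i : Fin n => Polynomial.aeval (R := R) (ζ ^ (i : ℕ)))) =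
        Ideal.span {(X ^ n - 1 : R[X])} := by
  classical
  rcases Nat.eq_zero_or_pos n with rfl | hn0
  · have : Subsingleton R := subsingleton_of_zero_eq_one (isUnit_zero_iff.1 (by simpa using hn))
    exact ⟨fun _ => ⟨0, Subsingleton.elim _ _⟩, Subsingleton.elim _ _⟩
  have hzu : IsUnit ζ := IsUnit.of_pow_eq_one hζ hn0.ne'
  have hdiff : ∀ i j : Fin n, (i : ℕ) < j → IsUnit (ζ ^ (j : ℕ) - ζ ^ (i : ℕ)) := by
    intro i j hij
    obtain ⟨d, hd⟩ := Nat.exists_eq_add_of_lt hij
    rw [show ζ ^ (j : ℕ) - ζ ^ (i : ℕ) = -(ζ ^ (i : ℕ) * (1 - ζ ^ (d + 1))) by rw [hd, add_assoc, pow_add]; ring]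
    exact ((hzu.pow _).mul (hprim _ (Nat.succ_pos d) (by omega))).neg
  let Φ := AlgHom.pi (fun i : Fin n => Polynomial.aeval (R := R) (ζ ^ (i : ℕ)))
  constructor
  · intro w
    let V := Matrix.vandermonde (fun i : Fin n => ζ ^ (i : ℕ))
    have hV : IsUnit V.det := by
      rw [Matrix.det_vandermonde]
      exact IsUnit.prod_iff.2 fun i _ => IsUnit.prod_iff.2 fun j hj => hdiff i j (show i < j from Finset.mem_Ioi.1 hj)
    refine ⟨∑ k : Fin n, Polynomial.C ((V⁻¹.mulVec w) k) * Polynomial.X ^ (k : ℕ), funext fun i => ?_⟩
    have := congrFun (show V.mulVec (V⁻¹.mulVec w) = w by rw [Matrix.mulVec_mulVec, Matrix.mul_nonsing_inv V hV, Matrix.one_mulVec]) i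
    rw [← this]
    simp [Matrix.mulVec, dotProduct, V, Matrix.vandermonde, mul_comm, Finset.sum_apply, map_sum, Polynomial.eval_finsetSum]
  · set Q : Polynomial R := ∏ i : Fin n, (Polynomial.X - Polynomial.C (ζ ^ (i : ℕ))) with hQ
    have hco : Pairwise fun i j : Fin n => IsCoprime (Polynomial.X - Polynomial.C (ζ ^ (i : ℕ))) (Polynomial.X - Polynomial.C (ζ ^ (j : ℕ))) := by
      intro i j hij
      refine Polynomial.isCoprime_X_sub_C_of_isUnit_sub ?_
      rcases lt_or_gt_of_ne (fun e => hij (Fin.ext e) : (i : ℕ) ≠ j) with h | h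
      · exact neg_sub (ζ ^ (j : ℕ)) (ζ ^ (i : ℕ)) ▸ (hdiff i j h).neg
      · exact hdiff j i h
    have hdvd : ∀ f : Polynomial R, (∀ i : Fin n, f.IsRoot (ζ ^ (i : ℕ))) → Q ∣ f := fun f hf =>
      Fintype.prod_dvd_of_coprime hco fun i => Polynomial.dvd_iff_isRoot.2 (hf i)
    have hroot : ∀ i : Fin n, (Polynomial.X ^ n - 1 : Polynomial R).IsRoot (ζ ^ (i : ℕ)) := fun i => by
      simp only [Polynomial.IsRoot.def, Polynomial.eval_sub, Polynomial.eval_pow, Polynomial.eval_X, Polynomial.eval_one]
      rw [← pow_mul, mul_comm, pow_mul, hζ, one_pow, sub_self]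
    nontriviality R
    have hmon : Q.Monic := Polynomial.monic_prod_of_monic _ _ fun i _ => Polynomial.monic_X_sub_C _
    have hdeg : Q.natDegree = n := by
      rw [hQ, Polynomial.natDegree_prod_of_monic _ _ fun i _ => Polynomial.monic_X_sub_C _,
        Finset.sum_congr rfl fun i _ => Polynomial.natDegree_X_sub_C _]
      simp
    have hXn : (Polynomial.X ^ n - 1 : Polynomial R) = Q := by
      have hm : (Polynomial.X ^ n - 1 : Polynomial R).Monic := Polynomial.monic_X_pow_sub_C (1 : R) hn0.ne' |> fun h => by simpa using h
      refine (Polynomial.eq_of_monic_of_dvd_of_natDegree_le hmon hm (hdvd _ hroot) ?_).symm ▸ rfl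
      rw [hdeg]
      exact le_of_eq (by simpa using Polynomial.natDegree_X_pow_sub_C (R := R) (n := n) (r := 1))
    refine le_antisymm (fun f hf => ?_) ?_
    · rw [hXn, Ideal.mem_span_singleton]
      refine hdvd f fun i => ?_
      have := congrFun (RingHom.mem_ker.1 hf) i
      simpa using this
    · rw [Ideal.span_le, Set.singleton_subset_iff, SetLike.mem_coe, RingHom.mem_ker]
      funext i
      simpa using hroot i

end Groth.Agent.S13126
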