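import Groth.Statements.S13127
import Groth.Agent.KumLib.Apps

set_option autoImplicit false
universe u
open KumFam

namespace Groth.Agent.S13127

open MvPowerSeries in
/-- Let R be a commutative ring of characteristic 2 and l0, l2, l4, s0, s2, s4, τ, lam, sig ∈ R with l4,
s4, lam, sig units, and let κ₁, κ₂ ∈ R satisfy s4² κ₁³ = sig² and l4² κ₂³ = lam² (cube roots of
sig²/s4² and lam²/l4²). In the power series ring R[[a, b, c]] (a = X 0, b = X 1, c = X 2) put F = c²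
+ s0² a³ b⁴ + s2² a³ b² + s4² a³ + l0² a⁴ b³ + l2² a² b³ + l4² b³ + τ² a³ b³ and F₀ = c² + sig² a³ +
lam² b³. Then some R-algebra automorphism of R[[a, b, c]] maps F to F₀; consequently R[[a, b,
c]]/(F) ≅ R[[a, b, c]]/(F₀). (In the published statement lam, sig are the representatives in the
ground field of the residues of l4, s4 at a rational point, so that F₀ is the equation of the
special fibre made constant; this row takes them to be arbitrary units.) -/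
theorem result (R : Type u) [CommRing R] [CharP R 2]
    (l0 l2 l4 s0 s2 s4 τ lam sig κ₁ κ₂ : R) (hl4 : IsUnit l4) (hs4 : IsUnit s4) (hlam : IsUnit lam)
    (hsig : IsUnit sig) (h₁ : s4 ^ 2 * κ₁ ^ 3 = sig ^ 2) (h₂ : l4 ^ 2 * κ₂ ^ 3 = lam ^ 2) :
    ∃ φ : MvPowerSeries (Fin 3) R ≃ₐ[R] MvPowerSeries (Fin 3) R,
      φ ((X 2 ^ 2 + C (s0 ^ 2) * X 0 ^ 3 * X 1 ^ 4 + C (s2 ^ 2) * X 0 ^ 3 * X 1 ^ 2 +
          C (s4 ^ 2) * X 0 ^ 3 + C (l0 ^ 2) * X 0 ^ 4 * X 1 ^ 3 + C (l2 ^ 2) * X 0 ^ 2 * X 1 ^ 3 +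
          C (l4 ^ 2) * X 1 ^ 3 + C (τ ^ 2) * X 0 ^ 3 * X 1 ^ 3 : MvPowerSeries (Fin 3) R)) =
        (X 2 ^ 2 + C (sig ^ 2) * X 0 ^ 3 + C (lam ^ 2) * X 1 ^ 3 : MvPowerSeries (Fin 3) R) := by
    have h3 : (3 : R) = 1 := by
      rw [show (3 : R) = 2 + 1 by norm_num, show (2 : R) = 0 from CharTwo.two_eq_zero, zero_add]
    have hκ₁ : IsUnit κ₁ := (isUnit_pow_iff (show 3 ≠ 0 by norm_num)).1
      (isUnit_of_mul_isUnit_right (show IsUnit (s4 ^ 2 * κ₁ ^ 3) by rw [h₁]; exact hsig.pow 2))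
    have hκ₂ : IsUnit κ₂ := (isUnit_pow_iff (show 3 ≠ 0 by norm_num)).1
      (isUnit_of_mul_isUnit_right (show IsUnit (l4 ^ 2 * κ₂ ^ 3) by rw [h₂]; exact hlam.pow 2))
    obtain ⟨a, rfl⟩ := hs4
    obtain ⟨b, rfl⟩ := hl4
    obtain ⟨k₁, rfl⟩ := hκ₁
    obtain ⟨k₂, rfl⟩ := hκ₂
    let v₁ : MvPowerSeries (Fin 3) R := C ((↑a⁻¹ : R) ^ 2) *
      (C (s2 ^ 2) * X 1 ^ 2 + C (s0 ^ 2) * X 1 ^ 4 + C (τ ^ 2) * X 1 ^ 3)
    let v₂ : MvPowerSeries (Fin 3) R := C ((↑b⁻¹ : R) ^ 2) * (C (l2 ^ 2) * X 0 ^ 2 + C (l0 ^ 2) * X 0 ^ 4)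
    obtain ⟨w₁, hw₁, hw₁3⟩ := Groth.Agent.KumLib.exists_cubeRoot (h3 ▸ isUnit_one) v₁ (by simp [v₁])
    obtain ⟨w₂, hw₂, hw₂3⟩ := Groth.Agent.KumLib.exists_cubeRoot (h3 ▸ isUnit_one) v₂ (by simp [v₂])
    let w : Fin 3 → MvPowerSeries (Fin 3) R := ![C (↑k₁⁻¹ : R) * w₁, C (↑k₂⁻¹ : R) * w₂, 1]
    have hwu : ∀ i, IsUnit (constantCoeff (w i)) := fun i => by
      fin_cases i
      · simp [w, hw₁]
      · simp [w, hw₂]
      · simp [w]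
    have hs : HasSubst (fun i => X i * w i) := hasSubst_of_constantCoeff_zero fun i => by simp
    refine Groth.Agent.KumLib.exists_algEquiv_of_subst hs (Groth.Agent.KumLib.subst_bijective_of_X_mul w hwu) ?_
    simp only [subst_add hs, subst_mul hs, subst_pow hs, subst_X hs, Groth.Agent.KumLib.subst_C' hs]
    simp only [w, Matrix.cons_val_zero, Matrix.cons_val_one, Matrix.cons_val_two, Matrix.tail_cons,
      Matrix.head_cons, mul_one]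
    have e1 : sig ^ 2 * (↑k₁⁻¹ : R) ^ 3 = (↑a : R) ^ 2 := by
      rw [← h₁, mul_assoc, ← mul_pow, Units.mul_inv, one_pow, mul_one]
    have e2 : lam ^ 2 * (↑k₂⁻¹ : R) ^ 3 = (↑b : R) ^ 2 := by
      rw [← h₂, mul_assoc, ← mul_pow, Units.mul_inv, one_pow, mul_one]
    have ea : (C ((↑a : R) ^ 2) : MvPowerSeries (Fin 3) R) * C ((↑a⁻¹ : R) ^ 2) = 1 := by
      rw [← map_mul, ← mul_pow, Units.mul_inv, one_pow, map_one]
    have eb : (C ((↑b : R) ^ 2) : MvPowerSeries (Fin 3) R) * C ((↑b⁻¹ : R) ^ 2) = 1 := by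
      rw [← map_mul, ← mul_pow, Units.mul_inv, one_pow, map_one]
    have f1 := congrArg (C (σ := Fin 3) (R := R)) e1
    have f2 := congrArg (C (σ := Fin 3) (R := R)) e2
    simp only [map_mul, map_pow, v₁, v₂] at *
    linear_combination X 0 ^ 3 * C ((sig : R)) ^ 2 * C (↑k₁⁻¹ : R) ^ 3 * hw₁3 +
      X 1 ^ 3 * C ((lam : R)) ^ 2 * C (↑k₂⁻¹ : R) ^ 3 * hw₂3 +
      X 0 ^ 3 * (1 + C (↑a⁻¹ : R) ^ 2 * (C s2 ^ 2 * X 1 ^ 2 + C s0 ^ 2 * X 1 ^ 4 + C τ ^ 2 * X 1 ^ 3)) * f1 +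
      X 1 ^ 3 * (1 + C (↑b⁻¹ : R) ^ 2 * (C l2 ^ 2 * X 0 ^ 2 + C l0 ^ 2 * X 0 ^ 4)) * f2 +
      X 0 ^ 3 * (C s2 ^ 2 * X 1 ^ 2 + C s0 ^ 2 * X 1 ^ 4 + C τ ^ 2 * X 1 ^ 3) * ea +
      X 1 ^ 3 * (C l2 ^ 2 * X 0 ^ 2 + C l0 ^ 2 * X 0 ^ 4) * eb

end Groth.Agent.S13127
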