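import Groth.Statements.S13128
import Groth.Agent.KumLib.Apps

set_option autoImplicit false
universe u
open KumFam

namespace Groth.Agent.S13128

open MvPowerSeries in
/-- Let R be a commutative ring of characteristic 2, l0, l2, l4, s0, s2, s4, τ ∈ R with τ a unit, and α,
β ∈ R with l4² α⁴ + l2² α² + τ² α + l0² = 0 and s4² β⁴ + s2² β² + τ² β + s0² = 0. In characteristic
2 these relations give τ² α = (l4 α² + l2 α + l0)² and τ² β = (s4 β² + s2 β + s0)², so α = α′² and β
= β′² with α′ = (l4 α² + l2 α + l0)/τ and β′ = (s4 β² + s2 β + s0)/τ. In R[[a, b, c]] (a = X 0, b =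
X 1, c = X 2) put h = c² + τ² a b + (s4² b⁴ + s2² b²) a + (l4² a⁴ + l2² a²) b + l4² β a⁴ + l2² β a²
+ s4² α b⁴ + s2² α b²; this is the chart equation c² + τ² a b + (s4² b⁴ + s2² b² + s0²) a + (l4² a⁴
+ l2² a² + l0²) b after the substitution a ↦ a + α, b ↦ b + β, c ↦ c + τ α′ β′, which moves the
point (α, β, τ α′ β′) of that surface, where all partial derivatives vanish, to the origin. Then
some R-algebra automorphism of R[[a, b, c]] maps h to c² + a b; consequently R[[a, b, c]]/(h) ≅
R[[a, b, c]]/(c² + a b), the completed local ring of an ordinary double point, constant over R. (The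
published statement translates only a and b, so that its h carries the additional constant term τ² α
β; with that term h is a unit of R[[a, b, c]] whenever τ α β is a unit, for instance c² + a b + 1
over the field with two elements with l0 = s0 = τ = α = β = 1 and l2 = l4 = s2 = s4 = 0, and no ring
automorphism carries a unit to c² + a b. The published proof begins by shifting c by a polynomial in
a, b whose constant term is τ α′ β′, a substitution of the polynomial ring which removes the term τ²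
α β, and the rest of its argument takes place in R[[a, b, c]]; this row states the result for the
fully translated equation, which is what that argument proves.) -/
theorem result (R : Type u) [CommRing R] [CharP R 2]
    (l0 l2 l4 s0 s2 s4 τ α β : R) (hτ : IsUnit τ)
    (hα : l4 ^ 2 * α ^ 4 + l2 ^ 2 * α ^ 2 + τ ^ 2 * α + l0 ^ 2 = 0)
    (hβ : s4 ^ 2 * β ^ 4 + s2 ^ 2 * β ^ 2 + τ ^ 2 * β + s0 ^ 2 = 0) :
    ∃ φ : MvPowerSeries (Fin 3) R ≃ₐ[R] MvPowerSeries (Fin 3) R,
      φ ((X 2 ^ 2 + C (τ ^ 2) * X 0 * X 1 + (C (s4 ^ 2) * X 1 ^ 4 + C (s2 ^ 2) * X 1 ^ 2) * X 0 +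
          (C (l4 ^ 2) * X 0 ^ 4 + C (l2 ^ 2) * X 0 ^ 2) * X 1 + C (l4 ^ 2 * β) * X 0 ^ 4 +
          C (l2 ^ 2 * β) * X 0 ^ 2 + C (s4 ^ 2 * α) * X 1 ^ 4 + C (s2 ^ 2 * α) * X 1 ^ 2 :
          MvPowerSeries (Fin 3) R)) =
        (X 2 ^ 2 + X 0 * X 1 : MvPowerSeries (Fin 3) R) := by
    obtain ⟨t, rfl⟩ := hτ
    have h2 : (2 : R) = 0 := CharTwo.two_eq_zero
    -- square roots of `α` and `β`
    obtain ⟨a, rfl⟩ : ∃ a, a ^ 2 = α := ⟨(↑t⁻¹ : R) * (l4 * α ^ 2 + l2 * α + l0), by
      linear_combination ((↑t⁻¹ : R)) ^ 2 * hα - α * ((↑t : R) * (↑t⁻¹ : R) + 1) * Units.mul_inv t +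
        ((↑t⁻¹ : R) ^ 2 * (l4 * l2 * α ^ 3 + l4 * l0 * α ^ 2 + l2 * l0 * α) - α) * h2⟩
    obtain ⟨b, rfl⟩ : ∃ b, b ^ 2 = β := ⟨(↑t⁻¹ : R) * (s4 * β ^ 2 + s2 * β + s0), by
      linear_combination ((↑t⁻¹ : R)) ^ 2 * hβ - β * ((↑t : R) * (↑t⁻¹ : R) + 1) * Units.mul_inv t +
        ((↑t⁻¹ : R) ^ 2 * (s4 * s2 * β ^ 3 + s4 * s0 * β ^ 2 + s2 * s0 * β) - β) * h2⟩
    let q : MvPowerSeries (Fin 3) R := C (l4 * b) * X 0 ^ 2 + C (l2 * b) * X 0 + C (s4 * a) * X 1 ^ 2 + C (s2 * a) * X 1
    let u : MvPowerSeries (Fin 3) R := C ((↑t : R) ^ 2) + C (s4 ^ 2) * X 1 ^ 3 + C (s2 ^ 2) * X 1 +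
      C (l4 ^ 2) * X 0 ^ 3 + C (l2 ^ 2) * X 0
    let z : Fin 3 → MvPowerSeries (Fin 3) R := ![X 0, X 1, X 2 + q]
    have hz : HasSubst z := hasSubst_of_constantCoeff_zero fun i => by fin_cases i <;> simp [z, q]
    let w : Fin 3 → MvPowerSeries (Fin 3) R := ![u, 1, 1]
    have hwu : ∀ i, IsUnit (constantCoeff (w i)) := fun i => by
      fin_cases i
      · simpa [w, u] using t.isUnit.pow 2
      · simp [w]
      · simp [w]
    have hs : HasSubst (fun i => X i * w i) := hasSubst_of_constantCoeff_zero fun i => by simp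
    have hz0 : subst z (X 0 : MvPowerSeries (Fin 3) R) = X 0 := subst_X hz 0
    have hz1 : subst z (X 1 : MvPowerSeries (Fin 3) R) = X 1 := subst_X hz 1
    have hz2 : subst z (X 2 : MvPowerSeries (Fin 3) R) = X 2 + q := subst_X hz 2
    have hzC := fun r : R => Groth.Agent.KumLib.subst_C' hz r
    have hzq : subst z q = q := by
      simp only [q, subst_add hz, subst_mul hz, subst_pow hz, hz0, hz1, hzC]
    have hzu : subst z u = u := by
      simp only [u, subst_add hz, subst_mul hz, subst_pow hz, hz0, hz1, hzC]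
    have hzz : Function.Involutive (subst z : MvPowerSeries (Fin 3) R → MvPowerSeries (Fin 3) R) := fun f => by
      rw [subst_comp_subst_apply hz hz, show (fun i => subst z (z i)) = X from funext fun i => ?_, subst_self]
      · rfl
      fin_cases i
      · exact hz0
      · exact hz1
      · change subst z (X 2 + q) = X 2
        rw [subst_add hz, hz2, hzq, add_assoc, Groth.Agent.KumLib.charTwo_add_self, add_zero]
    let T : Fin 3 → MvPowerSeries (Fin 3) R := fun i => subst z (X i * w i)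
    have hT : HasSubst T := by
      have := hs.comp hz
      simp only [coe_substAlgHom] at this
      exact this
    have hT0 : T 0 = X 0 * u := by
      change subst z (X 0 * u) = _
      rw [subst_mul hz, hz0, hzu]
    have hT1 : T 1 = X 1 := by
      change subst z (X 1 * 1) = _
      rw [mul_one, hz1]
    have hT2 : T 2 = X 2 + q := by
      change subst z (X 2 * 1) = _
      rw [mul_one, hz2]
    have hTb : Function.Bijective (subst T : MvPowerSeries (Fin 3) R → MvPowerSeries (Fin 3) R) := by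
      have := hzz.bijective.comp (Groth.Agent.KumLib.subst_bijective_of_X_mul w hwu)
      rwa [show (subst z : MvPowerSeries (Fin 3) R → MvPowerSeries (Fin 3) R) ∘ subst (fun i => X i * w i) = subst T from
        funext fun f => subst_comp_subst_apply hs hz f] at this
    refine Groth.Agent.KumLib.exists_algEquiv_of_subst hT hTb ?_
    simp only [subst_add hT, subst_mul hT, subst_pow hT, subst_X hT, hT0, hT1, hT2]
    have e2 := Groth.Agent.KumLib.charTwo_add_self (1 : MvPowerSeries (Fin 3) R)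
    simp only [q, u, map_mul, map_pow]
    linear_combination (C l4 * C b * X 0 ^ 2 * (C l2 * C b * X 0 + C s4 * C a * X 1 ^ 2 + C s2 * C a * X 1) +
      C l2 * C b * X 0 * (C s4 * C a * X 1 ^ 2 + C s2 * C a * X 1) + C s4 * C a * X 1 ^ 2 * (C s2 * C a * X 1) +
      X 2 * (C l4 * C b * X 0 ^ 2 + C l2 * C b * X 0 + C s4 * C a * X 1 ^ 2 + C s2 * C a * X 1)) * e2

end Groth.Agent.S13128
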