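import Groth.Statements.S13129
import Groth.Agent.VarietyLib.LerayEuler
import Groth.Agent.H8Lim.FibreDimVanish
import Groth.Agent.Coherent.BirationalFibre
import Groth.Agent.CommAlg4.RatSingRegular
import Groth.Agent.IntCM8.Main
import Groth.Agent.CurveRR24.Section
import Groth.Agent.AbSchLib.SmoothReduced
-- import your own Groth.Agent.* helpers here

set_option autoImplicit false
set_option backward.isDefEq.respectTransparency.types false
universe u
open Groth.Agent Groth.Agent.Coherent Groth.Agent.EulerLib Groth.Agent.CurveRR24 TopologicalSpace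
open CategoryTheory CategoryTheory.Limits AlgebraicGeometry
open KumFam

namespace Groth.Agent.S13129

/-- Let k be an algebraically closed field, Y a proper normal surface over k (irreducible of dimension 2
with integrally closed local domains), X a proper smooth surface over k, and π : X → Y a k-morphism
which restricts to an isomorphism over Y minus a closed point y and whose fibre over y is
one-dimensional (a resolution of the singularity (Y, y)). Then R¹π_* O_X = 0 (first higher direct
image of the underlying abelian sheaf) if and only if χ(X, O_X) = χ(Y, O_Y). -/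
theorem result (k : Type u) [Field k] [IsAlgClosed k]
    (X Y : Scheme.{u}) [X.Over (Spec (CommRingCat.of k))] [Y.Over (Spec (CommRingCat.of k))]
    [IsProper (X ↘ Spec (CommRingCat.of k))] [IsProper (Y ↘ Spec (CommRingCat.of k))]
    [IrreducibleSpace X] [IrreducibleSpace Y] (hdX : topologicalKrullDim X = 2)
    (hdY : topologicalKrullDim Y = 2) [Smooth (X ↘ Spec (CommRingCat.of k))]
    (hYn : Pi1.IsNormalScheme Y) (π : X ⟶ Y) [π.IsOver (Spec (CommRingCat.of k))]
    (y : Y) (hy : IsClosed ({y} : Set Y))
    (hiso : IsIso (π ∣_ (⟨({y} : Set Y)ᶜ, hy.isOpen_compl⟩ : Y.Opens)))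
    (hfib : topologicalKrullDim ((fun x : X => π.base x) ⁻¹' ({y} : Set Y)) = 1) :
    IsZero ((Coh.RpushAb π 1).obj (Coh.toAb (Coh.structureModule X))) ↔
      Curv2.euler k X (Coh.structureModule X) = Curv2.euler k Y (Coh.structureModule Y) := by
  haveI := isNoetherian_of_proper (X := X) k
  haveI := Coherent.hasInjectiveResolutions_modules X
  haveI := EulerLib.isNoetherian_of_proper (X := Y) k
  haveI : AlgebraicGeometry.IsReduced X := AbSchLib.isReduced_of_smooth (X ↘ Spec (CommRingCat.of k))
  haveI : IsIntegral X := isIntegral_of_irreducibleSpace_of_isReduced X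
  haveI : ∀ x : Y, _root_.IsReduced (Y.presheaf.stalk x) := fun x => haveI := (hYn x).1; inferInstance
  haveI : AlgebraicGeometry.IsReduced Y := isReduced_of_isReduced_stalk Y
  haveI : IsIntegral Y := isIntegral_of_irreducibleSpace_of_isReduced Y
  haveI : IsProper π := by
    haveI : IsProper (π ≫ (Y ↘ Spec (CommRingCat.of k))) := by rw [comp_over π]; infer_instance
    exact IsProper.of_comp π (Y ↘ Spec (CommRingCat.of k))
  let U : Y.Opens := ⟨({y} : Set Y)ᶜ, hy.isOpen_compl⟩
  haveI := hiso
  let P : Set X := (fun x : X => π.base x) ⁻¹' ({y} : Set Y)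
  -- the fibres
  have hfy : topologicalKrullDim ↥(π.fiber y) ≤ 1 :=
    ((π.fiberHomeo y).isHomeomorph.topologicalKrullDim_eq.trans hfib).le
  have hinj : ∀ y' : Y, y' ≠ y → Subsingleton ↥(π.fiber y') := fun y' hy' => by
    suffices h : Subsingleton ↥(π ⁻¹' {y'}) from (π.fiberHomeo y').injective.subsingleton
    refine ⟨fun a b => Subtype.ext ?_⟩
    have ha : a.1 ∈ π ⁻¹ᵁ U := by show π a.1 ∈ ({y} : Set Y)ᶜ; rw [show π a.1 = y' from a.2]; exact hy'
    have hb : b.1 ∈ π ⁻¹ᵁ U := by show π b.1 ∈ ({y} : Set Y)ᶜ; rw [show π b.1 = y' from b.2]; exact hy'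
    have h : (π ∣_ U) ⟨a.1, ha⟩ = (π ∣_ U) ⟨b.1, hb⟩ := Subtype.ext (by
      rw [morphismRestrict_base_coe, morphismRestrict_base_coe]; exact a.2.trans b.2.symm)
    have h2 := congrArg Subtype.val ((π ∣_ U).isOpenEmbedding.injective h)
    exact h2
  have hfy' : ∀ y' : Y, y' ≠ y → topologicalKrullDim ↥(π.fiber y') ≤ ((0 : ℕ) : WithBot ℕ∞) := fun y' hy' => by
    haveI := hinj y' hy'
    exact_mod_cast topologicalKrullDim_zero_of_discreteTopology ↥(π.fiber y')
  have hO : Coh.IsCoh (Coh.structureModule X) := Coherent.isCoh_structureModule X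
  haveI := hO.1
  let R : ℕ → Y.Modules := fun i => (Coh.Rpush π i).obj (Coh.structureModule X)
  have hRc : ∀ i, Coh.IsCoh (R i) := fun i => Coherent.isCoh_rpush π hO i
  have hstalk : ∀ (i : ℕ) (y' : Y) (d : ℕ), topologicalKrullDim ↥(π.fiber y') ≤ d → d < i →
      Subsingleton ((R i).presheaf.stalk y') := fun i y' d hd hdi =>
    AddCommGrpCat.subsingleton_of_isZero
      ((H8Lim.isZero_stalk_rpushAb_of_fibre_dim π hO y' d hd i hdi).of_iso
        ((TopCat.Presheaf.stalkFunctor AddCommGrpCat.{u} y').mapIso
          ((sheafToPresheaf _ _).mapIso (Coherent.toAbRpushIso π (Coh.structureModule X) i))))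
  have hRz : ∀ i, 2 ≤ i → IsZero (R i) := fun i hi => by
    refine isZero_of_support_eq_empty (Set.eq_empty_of_forall_notMem fun y' hy' => hy' ?_)
    by_cases h : y' = y
    · subst h; exact hstalk i _ 1 hfy (by omega)
    · exact hstalk i y' 0 (hfy' y' h) (by omega)
  have hR1 : CohB1.support (R 1) ⊆ {y} := fun y' hy' => by
    by_contra h
    exact hy' (hstalk 1 y' 0 (hfy' y' h) (by omega))
  -- the direct image
  have hη : genericPoint X ∈ π ⁻¹ᵁ U := by
    have hne : ((π ⁻¹ᵁ U : X.Opens) : Set X).Nonempty := by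
      obtain ⟨y₀, hy₀⟩ : (U : Set Y).Nonempty := by
        by_contra h
        rw [Set.not_nonempty_iff_eq_empty] at h
        have : Subsingleton Y := ⟨fun a b => by
          have ha : a ∉ (U : Set Y) := by rw [h]; exact Set.notMem_empty a
          have hb : b ∉ (U : Set Y) := by rw [h]; exact Set.notMem_empty b
          exact (not_not.1 ha).trans (not_not.1 hb).symm⟩
        have := topologicalKrullDim_zero_of_discreteTopology Y
        rw [hdY] at this
        exact absurd this (by decide)
      exact ⟨((inv (π ∣_ U)) ⟨y₀, hy₀⟩).1, ((inv (π ∣_ U)) ⟨y₀, hy₀⟩).2⟩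
    exact ((genericPoint_spec X).mem_open_set_iff (π ⁻¹ᵁ U).2).2 (by simpa using hne)
  have hgen : π (genericPoint X) = genericPoint Y := by
    haveI : IsDominant π := by
      refine ⟨dense_iff_inter_open.2 fun O hO hne => ?_⟩
      obtain ⟨z, hzO, hzU⟩ := (PreirreducibleSpace.isPreirreducible_univ O U hO U.2 ⟨hne.choose, trivial, hne.choose_spec⟩
        ⟨π (genericPoint X), trivial, hη⟩).imp fun z hz => hz.2
      refine ⟨z, hzO, ((inv (π ∣_ U)) ⟨z, hzU⟩).1, ?_⟩
      rw [← morphismRestrict_base_coe, ← Scheme.Hom.comp_apply, IsIso.inv_hom_id]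
      rfl
    exact ((genericPoint_spec X).image π.continuous).eq (by
      rw [Set.image_univ]
      have := π.denseRange.closure_range
      rw [this]
      exact genericPoint_spec Y)
  have hbir : IsIso (π.stalkMap (genericPoint X)) := by
    have h := (MorphismProperty.isomorphisms CommRingCat).arrow_mk_iso_iff (morphismRestrictStalkMap π U ⟨genericPoint X, hη⟩)
    exact (MorphismProperty.isomorphisms.iff _).1 (h.1 (MorphismProperty.isomorphisms.infer_property _))
  have happ := Coherent.isIso_app_of_birational π hYn hgen hbir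
  have e0 : Nonempty (R 0 ≅ Coh.structureModule Y) := by
    let φ : Coh.structureModule Y ⟶ (Scheme.Modules.pushforward π).obj (Coh.structureModule X) :=
      pushRingUnit π
    haveI : IsIso φ := by
      rw [Scheme.Modules.Hom.isIso_iff_isIso_app]
      intro V
      rw [ConcreteCategory.isIso_iff_bijective]
      haveI := happ V
      have hb := ConcreteCategory.bijective_of_isIso (π.app V)
      exact ⟨fun a b hab => hb.1 ((pushRingUnit_app π V a).symm.trans (hab.trans (pushRingUnit_app π V b))),
        fun c => let ⟨r, hr⟩ := hb.2 c; ⟨r, (pushRingUnit_app π V r).trans hr⟩⟩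
    haveI : PreservesFiniteLimits (Coh.push π) :=
      have : (Coh.push π).IsRightAdjoint :=
        (Scheme.Modules.pullbackPushforwardAdjunction π).isRightAdjoint
      ⟨fun _ _ _ => inferInstance⟩
    exact ⟨(Coh.push π).rightDerivedZeroIsoSelf.app _ ≪≫ (asIso φ).symm⟩
  -- Euler characteristics
  obtain ⟨N₀, hN₀⟩ := VarietyLib.exists_bound_isZero_rpush (X := Y) π
  let N := max N₀ 2
  have hE : Curv2.euler k X (Coh.structureModule X) = VarietyLib.rhoEuler k π N (Coh.structureModule X) := by
    refine VarietyLib.euler_eq_rhoEuler k π (comp_over π _) (by omega) (fun M hM => hN₀ M hM N (le_max_left _ _)) 3 _ hO ?_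
    have h1 : topologicalKrullDim (CohB1.support (Coh.structureModule X)) ≤ topologicalKrullDim X :=
      Topology.IsInducing.subtypeVal.topologicalKrullDim_le
    rw [hdX] at h1
    exact lt_of_le_of_lt h1 (by decide)
  have hs : VarietyLib.rhoEuler k π N (Coh.structureModule X) =
      Curv2.euler k Y (Coh.structureModule Y) - Curv2.euler k Y (R 1) := by
    rw [VarietyLib.rhoEuler, ← Finset.sum_subset (Finset.range_mono (le_max_right N₀ 2)) fun i hi hi2 => by
      rw [euler_of_isZero k Y (hRz i (by simp only [Finset.mem_range] at hi2; omega)), mul_zero]]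
    rw [Finset.sum_range_succ, Finset.sum_range_succ, Finset.sum_range_zero, pow_zero, pow_one, one_mul, zero_add,
      euler_congr k Y e0.some]
    ring
  have hfin : (CohB1.support (R 1)).Finite := (Set.finite_singleton y).subset hR1
  have h0 : Curv2.euler k Y (R 1) = 0 ↔ IsZero (R 1) := by
    refine ⟨fun h => ?_, fun h => euler_of_isZero k Y h⟩
    rw [IntCM8.euler_eq_h0 k (hRc 1) hfin, Nat.cast_eq_zero] at h
    haveI := finite_HH_of_isCoh k (hRc 1) 0
    haveI : Subsingleton (Coh.HH Y (R 1) 0) := (Module.finrank_zero_iff (R := k)).1 h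
    haveI : Subsingleton (GA (baseHom k Y) (R 1)) := (hhZero k (R 1)).symm.toEquiv.subsingleton
    exact CurveRR24.isZero_of_finite_support (Set.finite_singleton y) (fun t ht => by rw [ht]; exact hy) hR1 fun t =>
      Subsingleton.elim (α := GA (baseHom k Y) (R 1)) t 0
  have hiff : IsZero ((Coh.RpushAb π 1).obj (Coh.toAb (Coh.structureModule X))) ↔ IsZero (R 1) := by
    refine ⟨fun h => (IsZero.iff_id_eq_zero _).2 ((Coherent.toAbFunctor Y).map_injective
      ((h.of_iso (Coherent.toAbRpushIso π (Coh.structureModule X) 1)).eq_of_src _ _)),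
      fun h => ((Coherent.toAbFunctor Y).map_isZero h).of_iso (Coherent.toAbRpushIso π (Coh.structureModule X) 1).symm⟩
  rw [hiff, ← h0, hE, hs]
  omega

end Groth.Agent.S13129
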