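import Groth.Statements.S13130
import Mathlib

set_option linter.all false

set_option autoImplicit false
universe u v
open KumFam

open TensorProduct

namespace Groth.Agent.S13130

/-- Let R be a nontrivial commutative ring and M a commutative group, with group algebra R[M], the
coordinate ring of the diagonalizable group scheme D(M) over Spec R. Then D(M) is integral over Spec
R, i.e. R[M] is an integral R-algebra, if and only if M is a torsion group. (The published statement
is over an arbitrary base scheme; the question is local and this row is the affine form, with R
nontrivial so that the elements of M are R-linearly independent.) -/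
theorem result (R : Type u) [CommRing R] [Nontrivial R]
    (M : Type v) [CommGroup M] :
    Algebra.IsIntegral R (MonoidAlgebra R M) ↔ IsMulTorsion M := by
  constructor
  · intro h
    refine fun m => ?_
    by_contra hfin
    obtain ⟨P, hP, he⟩ := h.isIntegral (MonoidAlgebra.of R M m)
    rw [Polynomial.eval₂_eq_sum_range] at he
    have hinj : Function.Injective (fun i : ℕ => m ^ i) := injective_pow_iff_not_isOfFinOrder.2 hfin
    have := congrArg (fun z : MonoidAlgebra R M => z.coeff (m ^ P.natDegree)) he
    simp only [MonoidAlgebra.of_apply, MonoidAlgebra.single_pow, one_pow] at this
    have hterm : ∀ i ∈ Finset.range (P.natDegree + 1), i ≠ P.natDegree →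
        ((algebraMap R (MonoidAlgebra R M)) (P.coeff i) * MonoidAlgebra.single (m ^ i) 1).coeff (m ^ P.natDegree) = 0 := by
      intro i _ hi
      rw [← Algebra.smul_def, MonoidAlgebra.smul_single]
      simp [MonoidAlgebra.coeff_single]
      exact Finsupp.single_eq_of_ne (fun e => hi (hinj e.symm))
    rw [MonoidAlgebra.coeff_sum, Finsupp.finsetSum_apply,
      Finset.sum_eq_single P.natDegree hterm (fun hn => absurd (Finset.self_mem_range_succ _) hn),
      hP.coeff_natDegree, map_one, one_mul] at this
    simp at this
  · intro h
    refine ⟨fun z => ?_⟩
    induction z using MonoidAlgebra.induction_on with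
    | of m =>
      obtain ⟨n, hn, hm⟩ := isOfFinOrder_iff_pow_eq_one.1 (h m)
      exact IsIntegral.of_pow hn (by rw [← map_pow, hm, map_one]; exact isIntegral_one)
    | add a b ha hb => exact ha.add hb
    | smul c a ha => exact ha.smul c

end Groth.Agent.S13130
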