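import Groth.Statements.S13131


set_option autoImplicit false
universe u
open CategoryTheory CategoryTheory.Limits AlgebraicGeometry
open KumFam

namespace Groth.Agent.S13131


/-- the index of the copy of `S` containing a point of the coproduct, as a locally constant map -/
noncomputable def idxFn (S : Scheme.{u}) (M : Type u) {T : Scheme.{u}}
    (f : T ⟶ ∐ (fun _ : M => S)) : LocallyConstant T M where
  toFun t := ((sigmaMk (fun _ : M => S)).symm (f.base t)).1
  isLocallyConstant := by
    intro s
    have h : IsOpen ((fun z : Σ _ : M, S => z.1) ⁻¹' s) := by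
      rw [isOpen_sigma_iff]
      intro i
      by_cases hi : i ∈ s
      · convert isOpen_univ; ext x; simpa using hi
      · convert isOpen_empty; ext x; simpa using hi
    exact h.preimage ((sigmaMk (fun _ : M => S)).symm.continuous.comp f.base.hom.continuous)

lemma idx_ι (S : Scheme.{u}) (M : Type u) (m : M) (x : S) :
    ((sigmaMk (fun _ : M => S)).symm ((Sigma.ι (fun _ : M => S) m).base x)).1 = m := by
  rw [show (sigmaMk (fun _ : M => S)).symm ((Sigma.ι (fun _ : M => S) m).base x) = ⟨m, x⟩ from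
    (sigmaMk (fun _ : M => S)).injective (by rw [Homeomorph.apply_symm_apply]; exact (sigmaMk_mk (fun _ : M => S) m x).symm)]

def fibreOpen {M : Type u} {T : Scheme.{u}} (c : LocallyConstant T M) (m : M) : T.Opens :=
  ⟨c ⁻¹' {m}, c.isLocallyConstant.isOpen_fiber m⟩

lemma fibreOpen_isOpenCover {M : Type u} {T : Scheme.{u}} (c : LocallyConstant T M) :
    TopologicalSpace.IsOpenCover (fibreOpen c) := by
  rw [TopologicalSpace.IsOpenCover, eq_top_iff]
  intro t _
  exact TopologicalSpace.Opens.mem_iSup.2 ⟨c t, rfl⟩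

lemma exists_glue (S : Scheme.{u}) (M : Type u) {T : Scheme.{u}} (p : T ⟶ S)
    (c : LocallyConstant T M) :
    ∃ g : T ⟶ ∐ (fun _ : M => S), g ≫ Sigma.desc (fun _ : M => 𝟙 S) = p ∧
      ∀ m, (fibreOpen c m).ι ≫ g = (fibreOpen c m).ι ≫ p ≫ Sigma.ι (fun _ : M => S) m := by
  let 𝒰 := T.openCoverOfIsOpenCover (fibreOpen c) (fibreOpen_isOpenCover c)
  have hf : ∀ x y, pullback.fst (𝒰.f x) (𝒰.f y) ≫
      (𝒰.f x ≫ p ≫ Sigma.ι (fun _ : M => S) x) =
      pullback.snd _ _ ≫ (𝒰.f y ≫ p ≫ Sigma.ι (fun _ : M => S) y) := by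
    intro x y
    by_cases hxy : x = y
    · subst hxy
      rw [pullback.condition_assoc]
    · haveI : IsEmpty (pullback (𝒰.f x) (𝒰.f y) : Scheme.{u}) := by
        constructor
        intro z
        have h1 : c ((pullback.fst (𝒰.f x) (𝒰.f y) ≫ 𝒰.f x).base z) = x :=
          ((pullback.fst (𝒰.f x) (𝒰.f y)).base z).2
        have h2 : c ((pullback.snd (𝒰.f x) (𝒰.f y) ≫ 𝒰.f y).base z) = y :=
          ((pullback.snd (𝒰.f x) (𝒰.f y)).base z).2
        rw [pullback.condition] at h1
        exact hxy (h1.symm.trans h2)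
      exact isInitialOfIsEmpty.hom_ext _ _
  refine ⟨𝒰.glueMorphisms _ hf, ?_, fun m => 𝒰.ι_glueMorphisms _ hf m⟩
  refine 𝒰.hom_ext _ _ fun m => ?_
  rw [Scheme.Cover.ι_glueMorphisms_assoc]
  simp

lemma idx_eq (S : Scheme.{u}) (M : Type u) {T : Scheme.{u}} (p : T ⟶ S)
    (c : LocallyConstant T M) (g : T ⟶ ∐ (fun _ : M => S))
    (hg : ∀ m, (fibreOpen c m).ι ≫ g = (fibreOpen c m).ι ≫ p ≫ Sigma.ι (fun _ : M => S) m) :
    idxFn S M g = c := by
  ext t
  have h := congrArg (fun k => k.base ⟨t, (rfl : c t = c t)⟩) (hg (c t))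
  simp only [Scheme.Hom.comp_base, TopCat.comp_app, Scheme.Opens.ι_apply] at h
  change ((sigmaMk (fun _ : M => S)).symm (g.base t)).1 = c t
  rw [h]
  exact idx_ι S M _ _

lemma restrict_eq (S : Scheme.{u}) (M : Type u) {T : Scheme.{u}} (p : T ⟶ S)
    (g : T ⟶ ∐ (fun _ : M => S)) (hg : g ≫ Sigma.desc (fun _ : M => 𝟙 S) = p) (m : M) :
    (fibreOpen (idxFn S M g) m).ι ≫ g =
      (fibreOpen (idxFn S M g) m).ι ≫ p ≫ Sigma.ι (fun _ : M => S) m := by
  have hr : Set.range ((fibreOpen (idxFn S M g) m).ι ≫ g).base ⊆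
      Set.range (Sigma.ι (fun _ : M => S) m).base := by
    rintro _ ⟨⟨t, ht⟩, rfl⟩
    simp only [Scheme.Hom.comp_base, TopCat.comp_app, Scheme.Opens.ι_apply]
    obtain ⟨⟨i, x⟩, hix⟩ := (sigmaMk (fun _ : M => S)).surjective (g.base t)
    have hi : i = m := by
      have : idxFn S M g t = m := ht
      rw [← this]
      change i = ((sigmaMk (fun _ : M => S)).symm (g.base t)).1
      rw [← hix, Homeomorph.symm_apply_apply]
    subst hi
    exact ⟨x, by rw [← hix, sigmaMk_mk]⟩
  have hl := IsOpenImmersion.lift_fac _ _ hr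
  have h2 : IsOpenImmersion.lift _ _ hr = (fibreOpen (idxFn S M g) m).ι ≫ p := by
    have := congrArg (· ≫ Sigma.desc (fun _ : M => 𝟙 S)) hl
    simp only [Category.assoc, hg, colimit.ι_desc, Cofan.mk_pt, Cofan.mk_ι_app] at this
    simpa using this
  rw [← hl, h2, Category.assoc]

/-- Let S be a scheme, M a set and p : T → S a scheme over S. The S-morphisms T → ∐_{m ∈ M} S (the
constant S-scheme on M, with its structure map the codiagonal) are in bijection with the locally
constant maps T → M, a morphism f corresponding to the function sending t to the index of the copy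
of S containing f(t). (In the published statement M is a group and ∐_M S the constant group scheme;
the group structures play no role in this description of T-points.) -/
theorem result (S : Scheme.{u}) (M : Type u)
    (T : Scheme.{u}) (p : T ⟶ S) :
    ∃ e : {f : T ⟶ ∐ (fun _ : M => S) // f ≫ Sigma.desc (fun _ : M => 𝟙 S) = p} ≃
        LocallyConstant T M,
      ∀ (f : {f : T ⟶ ∐ (fun _ : M => S) // f ≫ Sigma.desc (fun _ : M => 𝟙 S) = p}) (t : T),
        e f t = ((sigmaMk (fun _ : M => S)).symm (f.1.base t)).1 := by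

  refine ⟨{ toFun := fun f => idxFn S M f.1
            invFun := fun c => ⟨(exists_glue S M p c).choose, (exists_glue S M p c).choose_spec.1⟩
            left_inv := fun f => ?_
            right_inv := fun c => ?_ }, fun f t => rfl⟩
  · apply Subtype.ext
    refine (T.openCoverOfIsOpenCover _ (fibreOpen_isOpenCover (idxFn S M f.1))).hom_ext _ _
      fun m => ?_
    exact ((exists_glue S M p (idxFn S M f.1)).choose_spec.2 m).trans
      (restrict_eq S M p f.1 f.2 m).symm
  · exact idx_eq S M p c _ (exists_glue S M p c).choose_spec.2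

end Groth.Agent.S13131
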