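import Groth.Statements.S13132
import Groth.Agent.CAlgH3.ArtinRegular

set_option autoImplicit false
universe u v
open scoped Pointwise
open CAlg

namespace Groth.Agent.S13132

/-- Let A' be an Artinian local ring, I a proper ideal of A' and S' a flat A'-algebra. An element f' of
S' is a non-zero-divisor exactly when its image in S'/IS' is one; and when f' is a non-zero-divisor,
the quotient S'/(f') is flat over A'. (The published statement is for local Artinian algebras with a
fixed residue field over a ring of Witt vectors and a surjection between two of them; the argument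
uses only that A' is Artinian local and I is a proper ideal, which is the form taken here.) -/
theorem result
    {A' : Type u} [CommRing A'] [IsArtinianRing A'] [IsLocalRing A'] (I : Ideal A') (hI : I ≠ ⊤)
    {S' : Type v} [CommRing S'] [Algebra A' S'] [Module.Flat A' S'] (f' : S') :
    (f' ∈ nonZeroDivisors S' ↔
      Ideal.Quotient.mk (I.map (algebraMap A' S')) f' ∈ nonZeroDivisors (S' ⧸ I.map (algebraMap A' S'))) ∧
    (f' ∈ nonZeroDivisors S' → Module.Flat A' (S' ⧸ Ideal.span {f'})) := by
    have h := CAlgH3.regular_iff_regular_mod (A := A') (M := S') hI f'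
    have e0 : (I.map (algebraMap A' S') • ⊤ : Submodule S' S') = I.map (algebraMap A' S') := by simp
    have h' : IsSMulRegular (S' ⧸ (I.map (algebraMap A' S') • ⊤ : Submodule S' S')) f' ↔
        IsSMulRegular (S' ⧸ I.map (algebraMap A' S')) f' :=
      (Submodule.quotEquivOfEq _ _ e0).isSMulRegular_congr f'
    have hn : ∀ {R : Type v} [CommRing R] (x : R), IsSMulRegular R x ↔ x ∈ nonZeroDivisors R := by
      intro R _ x
      rw [isSMulRegular_iff_right_eq_zero_of_smul, mem_nonZeroDivisors_iff_left]
      rfl
    refine ⟨?_, fun hf => ?_⟩
    · rw [← hn, h.1, h', isSMulRegular_iff_right_eq_zero_of_smul, mem_nonZeroDivisors_iff_left]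
      rfl
    · have := h.2 ((hn f').2 hf)
      have e : (f' • ⊤ : Submodule S' S') = Ideal.span {f'} := by
        rw [← Submodule.ideal_span_singleton_smul]; simp
      exact Module.Flat.of_linearEquiv ((Submodule.quotEquivOfEq _ _ e).symm.restrictScalars A')

end Groth.Agent.S13132
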