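import Groth.Statements.S13133
import Groth.Agent.CAlgH3.ArtinRegular

set_option autoImplicit false
universe u v
open CAlg

namespace Groth.Agent.S13133

/-- Let A' be an Artinian local ring, I a proper ideal of A', S' a flat A'-algebra and f'_1, …, f'_n
elements of S' with n ≥ 1. A family f'_1, …, f'_n in S' is a regular sequence exactly when its
reduction modulo I·S' is a regular sequence of S'/IS'. (Regular sequences are defined in the
published text over Noetherian rings; this row does not assume S' Noetherian, which the argument
does not use. The published statement is for a surjection of local Artinian algebras with a fixed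
residue field over a ring of Witt vectors; only the Artinian local base and the proper ideal are
used, which is the form taken here.) -/
theorem result
    {A' : Type u} [CommRing A'] [IsArtinianRing A'] [IsLocalRing A'] (I : Ideal A') (hI : I ≠ ⊤)
    {S' : Type v} [CommRing S'] [Algebra A' S'] [Module.Flat A' S'] {n : ℕ} (hn : 1 ≤ n)
    (f' : Fin n → S') :
    RingTheory.Sequence.IsRegular S' (List.ofFn f') ↔
      RingTheory.Sequence.IsRegular (S' ⧸ I.map (algebraMap A' S'))
        (List.ofFn fun i => Ideal.Quotient.mk (I.map (algebraMap A' S')) (f' i)) := by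
    set J := I.map (algebraMap A' S') with hJ
    set fs := List.ofFn f' with hfs
    have hl : (List.ofFn fun i => Ideal.Quotient.mk J (f' i)) = fs.map (algebraMap S' (S' ⧸ J)) := by
      rw [hfs, List.map_ofFn]; rfl
    have hw : RingTheory.Sequence.IsWeaklyRegular S' fs ↔
        RingTheory.Sequence.IsWeaklyRegular (S' ⧸ J) (fs.map (algebraMap S' (S' ⧸ J))) := by
      rw [RingTheory.Sequence.isWeaklyRegular_map_algebraMap_iff, CAlgH3.weaklyRegular_iff_mod hI fs S']
      exact (Submodule.quotEquivOfEq _ _ (by simp [hJ])).isWeaklyRegular_congr fs
    have ht : Ideal.ofList fs = ⊤ ↔ Ideal.ofList (fs.map (algebraMap S' (S' ⧸ J))) = ⊤ := by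
      rw [CAlgH3.span_eq_top_iff_map hI, Ideal.map_ofList]
      rfl
    rw [hl]
    exact ⟨fun h => ⟨hw.1 h.toIsWeaklyRegular, fun e => h.top_ne_smul (by
        simpa using (ht.2 (by simpa using e.symm)).symm)⟩,
      fun h => ⟨hw.2 h.toIsWeaklyRegular, fun e => h.top_ne_smul (by
        simpa using (ht.1 (by simpa using e.symm)).symm)⟩⟩

end Groth.Agent.S13133
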