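import Groth.Statements.S13134
import Groth.Agent.CAlgH3.ArtinRegular
import Mathlib.RingTheory.Polynomial.Quotient

set_option autoImplicit false
universe u v
open CAlg

namespace Groth.Agent.S13134

/-- Let A' be an Artinian local ring, I a proper ideal, A = A'/I and f_1, …, f_m ∈ A[x_1, …, x_n]. Every
flat A'-algebra B' equipped with a surjection π onto A[x]/(f_1, …, f_m) with kernel I·B', compatible
with A' → A, is a quotient of A'[x_1, …, x_n] by the ideal generated by some lifts f'_1, …, f'_m of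
the f_i, compatibly with π and with reduction of polynomials modulo I. (The published statement is
for a surjection of local Artinian algebras with a fixed residue field over a ring of Witt vectors;
only the Artinian local base and the proper ideal are used, which is the form taken here.) -/
theorem result
    {A' : Type u} [CommRing A'] [IsArtinianRing A'] [IsLocalRing A'] (I : Ideal A') (hI : I ≠ ⊤)
    {n m : ℕ} (f : Fin m → MvPolynomial (Fin n) (A' ⧸ I))
    {B' : Type v} [CommRing B'] [Algebra A' B'] [Module.Flat A' B']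
    (π : B' →+* MvPolynomial (Fin n) (A' ⧸ I) ⧸ Ideal.span (Set.range f))
    (hπ : Function.Surjective π) (hker : RingHom.ker π = I.map (algebraMap A' B'))
    (hcomp : π.comp (algebraMap A' B') =
      ((Ideal.Quotient.mk (Ideal.span (Set.range f))).comp MvPolynomial.C).comp (Ideal.Quotient.mk I)) :
    ∃ (f' : Fin m → MvPolynomial (Fin n) A') (ψ : MvPolynomial (Fin n) A' →ₐ[A'] B'),
      (∀ i, MvPolynomial.map (Ideal.Quotient.mk I) (f' i) = f i) ∧
      Function.Surjective ψ ∧ RingHom.ker ψ.toRingHom = Ideal.span (Set.range f') ∧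
      ∀ q, π (ψ q) = Ideal.Quotient.mk (Ideal.span (Set.range f)) (MvPolynomial.map (Ideal.Quotient.mk I) q) := by
  classical
  let φ := MvPolynomial.map (σ := Fin n) (Ideal.Quotient.mk I)
  have hφs : Function.Surjective φ := MvPolynomial.map_surjective _ Ideal.Quotient.mk_surjective
  have hmap : ∀ {S : Type _} [CommRing S] [Algebra A' S] (x : S),
      x ∈ I.map (algebraMap A' S) ↔ x ∈ (I • ⊤ : Submodule A' S) := by
    intro S _ _ x
    rw [← CAlgH3.mem_map_smul_top_iff (S := S)]
    simp
  have hφker : ∀ x, φ x = 0 ↔ x ∈ (I • ⊤ : Submodule A' (MvPolynomial (Fin n) A')) := by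
    intro x
    rw [← hmap, ← RingHom.mem_ker]
    simp only [φ, MvPolynomial.ker_map, Ideal.mk_ker, MvPolynomial.algebraMap_eq]
  let q := (Ideal.Quotient.mk (Ideal.span (Set.range f))).comp φ
  choose b hb using fun i => hπ (q (MvPolynomial.X i))
  let ψ : MvPolynomial (Fin n) A' →ₐ[A'] B' := MvPolynomial.aeval b
  have hψ : ∀ x, π (ψ x) = Ideal.Quotient.mk (Ideal.span (Set.range f)) (φ x) := by
    have : π.comp ψ.toRingHom = q := by
      refine MvPolynomial.ringHom_ext (fun a => ?_) (fun i => ?_)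
      · simpa [ψ, q, φ] using RingHom.congr_fun hcomp a
      · simp [ψ, hb, q, φ]
    exact fun x => RingHom.congr_fun this x
  have hπ0 : ∀ x, π x = 0 ↔ x ∈ (I • ⊤ : Submodule A' B') := by
    intro x
    rw [← CAlgH3.mem_map_smul_top_iff (S := B'), ← hker]; simp
  have hm : (I • ⊤ : Submodule A' B') ≤ IsLocalRing.maximalIdeal A' • ⊤ :=
    Submodule.smul_mono (IsLocalRing.le_maximalIdeal hI) le_rfl
  have hs : LinearMap.range ψ.toLinearMap = ⊤ := by
    apply CAlgH3.eq_top_of_sup_maximalIdeal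
    rw [eq_top_iff]
    intro x _
    obtain ⟨g, hg⟩ := Ideal.Quotient.mk_surjective (π x)
    obtain ⟨g₀, rfl⟩ := hφs g
    rw [← add_sub_cancel (ψ g₀) x]
    refine Submodule.add_mem_sup ⟨g₀, rfl⟩ (hm ((hπ0 _).1 ?_))
    rw [map_sub, hψ, hg, sub_self]
  have hψs : Function.Surjective ψ := LinearMap.range_eq_top.1 hs
  have lift : ∀ g ∈ Ideal.span (Set.range f), ∃ h, ψ h = 0 ∧ φ h = g := by
    intro g hg
    obtain ⟨h₀, rfl⟩ := hφs g
    have h1 : ψ h₀ ∈ (I • ⊤ : Submodule A' (MvPolynomial (Fin n) A')).map ψ.toLinearMap := by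
      rw [Submodule.map_smul'', Submodule.map_top, hs, ← hπ0, hψ, Ideal.Quotient.eq_zero_iff_mem]
      exact hg
    obtain ⟨h₁, hh₁, he⟩ := h1
    refine ⟨h₀ - h₁, ?_, ?_⟩
    · rw [map_sub, sub_eq_zero]; exact he.symm
    · rw [map_sub, (hφker _).2 hh₁, sub_zero]
  choose f' hf'0 hf' using fun i => lift (f i) (Ideal.subset_span ⟨i, rfl⟩)
  refine ⟨f', ψ, hf', hψs, le_antisymm ?_ (Ideal.span_le.2 fun x ⟨i, hi⟩ => hi ▸ hf'0 i), hψ⟩
  have := CAlgH3.free_of_flat_artinian (A := A') B'
  obtain ⟨s, hsec⟩ := Module.projective_lifting_property ψ.toLinearMap LinearMap.id hψs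
  let K := LinearMap.ker ψ.toLinearMap
  let p : MvPolynomial (Fin n) A' →ₗ[A'] K :=
    (LinearMap.id - s ∘ₗ ψ.toLinearMap).codRestrict K fun x => by
      have := LinearMap.congr_fun hsec (ψ x)
      simp only [LinearMap.comp_apply, LinearMap.id_apply] at this
      simp [K, sub_eq_zero] at this ⊢
      exact this.symm
  have hN : ((Ideal.span (Set.range f')).restrictScalars A').comap K.subtype = ⊤ := by
    apply CAlgH3.eq_top_of_sup_maximalIdeal
    rw [eq_top_iff]
    rintro ⟨x, hx⟩ _
    have hx0 : ψ x = 0 := hx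
    have h1 : φ x ∈ (Ideal.span (Set.range f')).map φ := by
      rw [Ideal.map_span, ← Set.range_comp, show φ ∘ f' = f from funext hf',
        ← Ideal.Quotient.eq_zero_iff_mem, ← hψ, hx0, map_zero]
    obtain ⟨j, hj, hje⟩ := (Ideal.mem_map_iff_of_surjective φ hφs).1 h1
    have hj0 : ψ j = 0 :=
      (Ideal.span_le.2 fun y ⟨i, hi⟩ => hi ▸ hf'0 i : Ideal.span (Set.range f') ≤ RingHom.ker ψ.toRingHom) hj
    have hd : x - j ∈ (I • ⊤ : Submodule A' (MvPolynomial (Fin n) A')) := (hφker _).1 (by rw [map_sub, hje, sub_self])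
    have hdK : (⟨x, hx⟩ : K) - ⟨j, hj0⟩ ∈ (I • ⊤ : Submodule A' K) := by
      have := Submodule.mem_map_of_mem (f := p) hd
      rw [Submodule.map_smul''] at this
      convert Submodule.smul_mono le_rfl le_top this using 1
      ext1
      simp [p, hx0, hj0]
    rw [← add_sub_cancel (⟨j, hj0⟩ : K) ⟨x, hx⟩]
    exact Submodule.add_mem_sup hj (Submodule.smul_mono (IsLocalRing.le_maximalIdeal hI) le_rfl hdK)
  intro x hx
  exact (Submodule.eq_top_iff'.1 hN) ⟨x, hx⟩

end Groth.Agent.S13134
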