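import Groth.Statements.S13135
import Groth.Agent.CAlgH3.ArtinRegular
import Mathlib.RingTheory.Polynomial.Quotient
import Mathlib.RingTheory.Flat.Stability

set_option autoImplicit false
universe u
open CAlg

namespace Groth.Agent.S13135

/-- Let A' be an Artinian local ring, I a proper ideal, A = A'/I and f_1, …, f_m a regular sequence in
A[x_1, …, x_n]. For every choice of lifts f'_1, …, f'_m in A'[x_1, …, x_n] the quotient A'[x]/(f'_1,
…, f'_m) is flat over A' (so it is a flat lifting of A[x]/(f_1, …, f_m)). (The published statement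
is for a surjection of local Artinian algebras with a fixed residue field over a ring of Witt
vectors; only the Artinian local base and the proper ideal are used, which is the form taken here.) -/
theorem result
    {A' : Type u} [CommRing A'] [IsArtinianRing A'] [IsLocalRing A'] (I : Ideal A') (hI : I ≠ ⊤)
    {n m : ℕ} (f : Fin m → MvPolynomial (Fin n) (A' ⧸ I))
    (hreg : RingTheory.Sequence.IsRegular (MvPolynomial (Fin n) (A' ⧸ I)) (List.ofFn f))
    (f' : Fin m → MvPolynomial (Fin n) A') (hf' : ∀ i, MvPolynomial.map (Ideal.Quotient.mk I) (f' i) = f i) :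
    Module.Flat A' (MvPolynomial (Fin n) A' ⧸ Ideal.span (Set.range f')) := by
    classical
    have hker : RingHom.ker (MvPolynomial.map (σ := Fin n) (Ideal.Quotient.mk I)) = I.map (algebraMap A' (MvPolynomial (Fin n) A')) := by
      rw [MvPolynomial.ker_map, Ideal.mk_ker]; rfl
    let e := RingHom.quotientKerEquivOfSurjective
      (MvPolynomial.map_surjective (σ := Fin n) _ (Ideal.Quotient.mk_surjective (I := I)))
    let e' : ((MvPolynomial (Fin n) A') ⧸ I.map (algebraMap A' (MvPolynomial (Fin n) A'))) ≃+* MvPolynomial (Fin n) (A' ⧸ I) := (Ideal.quotEquivOfEq hker.symm).trans e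
    have hw : RingTheory.Sequence.IsWeaklyRegular (MvPolynomial (Fin n) A') (List.ofFn f') := by
      rw [CAlgH3.weaklyRegular_iff_mod hI (List.ofFn f') (MvPolynomial (Fin n) A'),
        (Submodule.quotEquivOfEq (I.map (algebraMap A' (MvPolynomial (Fin n) A')) • ⊤ : Submodule (MvPolynomial (Fin n) A') (MvPolynomial (Fin n) A')) (I.map (algebraMap A' (MvPolynomial (Fin n) A'))) (by simp)).isWeaklyRegular_congr,
        ← RingTheory.Sequence.isWeaklyRegular_map_algebraMap_iff (S := (MvPolynomial (Fin n) A') ⧸ I.map (algebraMap A' (MvPolynomial (Fin n) A')))]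
      refine (AddEquiv.isWeaklyRegular_congr (e := e'.toAddEquiv) (as := List.map _ (List.ofFn f')) (bs := List.ofFn f) ?_).2 hreg.toIsWeaklyRegular
      rw [List.map_ofFn, List.forall₂_iff_get]
      refine ⟨by simp, fun i h1 h2 x => ?_⟩
      simp only [List.get_eq_getElem, List.getElem_ofFn, Function.comp_apply, smul_eq_mul]
      rw [RingEquiv.toAddEquiv_eq_coe, RingEquiv.coe_toAddEquiv, map_mul]
      congr 1
      rw [← hf']
      rfl
    have := CAlgH3.flat_quotient_of_weaklyRegular (A := A') (List.ofFn f') (MvPolynomial (Fin n) A') hw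
    have e : (Ideal.ofList (List.ofFn f') • ⊤ : Submodule (MvPolynomial (Fin n) A') (MvPolynomial (Fin n) A')) = Ideal.span (Set.range f') := by
      simp [Ideal.ofList, List.mem_ofFn, Set.range]
    exact Module.Flat.of_linearEquiv ((Submodule.quotEquivOfEq _ _ e).symm.restrictScalars A')

end Groth.Agent.S13135
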