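import Groth.Statements.S13141
import Mathlib.LinearAlgebra.TensorProduct.Map

set_option autoImplicit false
universe u v w w'
open scoped TensorProduct
open GrpAlg

namespace Groth.Agent.S13141

/-- Let G be a finite group, R a commutative ring with |G| invertible in R, M a projective R-module with
an R-linear G-action and S an R-algebra. The natural map M^G ⊗_R S → M ⊗_R S is injective and its
image is the submodule of G-invariants of M ⊗_R S (G acting on the first factor); that is, M^G ⊗_R S
→ (M ⊗_R S)^G is bijective. -/
theorem result
    (R : Type u) [CommRing R] (G : Type v) [Group G] [Finite G] (hG : IsUnit ((Nat.card G : ℕ) : R))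
    (M : Type w) [AddCommGroup M] [Module R M] [Module.Projective R M] (ρ : Representation R G M)
    (S : Type w') [CommRing S] [Algebra R S] :
    Function.Injective (TensorProduct.map ρ.invariants.subtype (LinearMap.id : S →ₗ[R] S)) ∧
    LinearMap.range (TensorProduct.map ρ.invariants.subtype (LinearMap.id : S →ₗ[R] S)) =
      ⨅ g : G, LinearMap.eqLocus (LinearMap.rTensor S (ρ g)) LinearMap.id := by
  classical
  have := Fintype.ofFinite G
  have : Invertible (Fintype.card G : R) := by
    rw [← Nat.card_eq_fintype_card]; exact hG.invertible
  let e : M →ₗ[R] ρ.invariants := ρ.averageMap.codRestrict _ ρ.averageMap_invariant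
  have he : e ∘ₗ ρ.invariants.subtype = LinearMap.id :=
    LinearMap.ext fun m => Subtype.ext (ρ.averageMap_id _ m.2)
  constructor
  · refine Function.LeftInverse.injective (g := TensorProduct.map e LinearMap.id) fun x => ?_
    rw [← LinearMap.comp_apply, ← TensorProduct.map_comp, he, LinearMap.id_comp, TensorProduct.map_id, LinearMap.id_apply]
  · apply le_antisymm
    · rintro _ ⟨x, rfl⟩
      simp only [Submodule.mem_iInf, LinearMap.mem_eqLocus]
      intro g
      rw [LinearMap.id_apply, LinearMap.rTensor, ← LinearMap.comp_apply, ← TensorProduct.map_comp,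
        show ρ g ∘ₗ ρ.invariants.subtype = ρ.invariants.subtype from LinearMap.ext fun m => m.2 g, LinearMap.id_comp]
    · intro x hx
      simp only [Submodule.mem_iInf, LinearMap.mem_eqLocus, LinearMap.id_apply] at hx
      refine ⟨TensorProduct.map e LinearMap.id x, ?_⟩
      rw [← LinearMap.comp_apply, ← TensorProduct.map_comp, LinearMap.id_comp]
      have hav : ρ.invariants.subtype ∘ₗ e = (⅟(Fintype.card G : R)) • ∑ g : G, ρ g := by
        ext m
        simp [e, Representation.averageMap, GroupAlgebra.average]
      rw [hav]
      change LinearMap.rTensor S ((⅟(Fintype.card G : R)) • ∑ g : G, ρ g) x = x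
      rw [LinearMap.rTensor_smul, LinearMap.smul_apply, ← LinearMap.coe_rTensorHom, map_sum, LinearMap.sum_apply]
      simp only [LinearMap.coe_rTensorHom, hx]
      rw [Finset.sum_const, Finset.card_univ, ← Nat.cast_smul_eq_nsmul R, smul_smul, invOf_mul_self, one_smul]

end Groth.Agent.S13141
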