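import Groth.Statements.S13142
import Mathlib.RingTheory.MvPolynomial.Basic
import Mathlib.Algebra.Module.BigOperators

set_option autoImplicit false
universe u v
open GrpAlg

namespace Groth.Agent.S13142

/-- Let G be a finite group and R a commutative ring with |G| invertible in R, acting on R[x_1, …, x_n]
by R-algebra automorphisms. The invariant subring R[x_1, …, x_n]^G is a flat R-module (so the
quotient of affine n-space over R by G is flat over R). -/
theorem result
    (R : Type u) [CommRing R] (G : Type v) [Group G] [Finite G] (hG : IsUnit ((Nat.card G : ℕ) : R))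
    (n : ℕ) (ρ : G →* (MvPolynomial (Fin n) R ≃ₐ[R] MvPolynomial (Fin n) R)) :
    Module.Flat R ↥(⨅ g : G, LinearMap.eqLocus (ρ g).toLinearMap (LinearMap.id : MvPolynomial (Fin n) R →ₗ[R] MvPolynomial (Fin n) R)) := by
  have := Fintype.ofFinite G
  set W : Submodule R (MvPolynomial (Fin n) R) := ⨅ g : G, LinearMap.eqLocus (ρ g).toLinearMap LinearMap.id with hW
  have hmem : ∀ x, x ∈ W ↔ ∀ g : G, ρ g x = x := fun x => by simp [hW, Submodule.mem_iInf, LinearMap.mem_eqLocus]
  let T : MvPolynomial (Fin n) R →ₗ[R] MvPolynomial (Fin n) R := hG.unit⁻¹.val • ∑ g : G, (ρ g).toLinearMap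
  have hT : ∀ x, T x ∈ W := fun x => (hmem _).2 fun h => by
    simp only [T, LinearMap.smul_apply, LinearMap.sum_apply, AlgEquiv.toLinearMap_apply, map_smul, map_sum]
    congr 1
    exact Fintype.sum_equiv (Equiv.mulLeft h) _ _ fun g => by simp [map_mul]
  refine Module.Flat.of_retract W.subtype (T.codRestrict W hT) (LinearMap.ext fun x => Subtype.ext ?_)
  simp only [T, LinearMap.coe_comp, Function.comp_apply, Submodule.subtype_apply, LinearMap.codRestrict_apply, LinearMap.smul_apply, LinearMap.sum_apply, AlgEquiv.toLinearMap_apply, LinearMap.id_apply, (hmem _).1 x.2]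
  rw [Finset.sum_const, Finset.card_univ, ← Nat.cast_smul_eq_nsmul R, smul_smul, ← Nat.card_eq_fintype_card, hG.val_inv_mul, one_smul]

end Groth.Agent.S13142
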