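import Groth.Statements.S13148
import Groth.Agent.CAlgH.IndSmoothSquareZero
import Groth.Agent.W2Lift.Basic
import Groth.Agent.Misc15.RingLift
import Mathlib.RingTheory.Smooth.Flat

set_option autoImplicit false
universe u
open FrobAlg

open Groth.Agent
namespace Groth.Agent.S13148

/-- Over a perfect field k of characteristic p, every smooth affine scheme Spec A admits a flat lifting
over W₂(k) together with a lifting of Frobenius (not necessarily unique). -/
theorem result
    (p : ℕ) [Fact p.Prime] (k : Type u) [Field k] [CharP k p] [PerfectRing k p]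
    (A : Type u) [CommRing A] [Algebra k A] [Algebra.Smooth k A] :
    FrobAlg.IsFLiftable p k A := by
  letI : Algebra (FrobAlg.W2 p k) k := (FrobAlg.res p k).toAlgebra
  have hsurj : Function.Surjective (algebraMap (FrobAlg.W2 p k) k) := fun a =>
    ⟨WittVector.truncate 2 (WittVector.teichmuller p a), by
      show FrobAlg.res p k _ = a
      rw [FrobAlg.res_truncate, WittVector.teichmuller_coeff_zero]⟩
  letI : Algebra (FrobAlg.W2 p k) A := ((algebraMap k A).comp (FrobAlg.res p k)).toAlgebra
  have : IsScalarTower (FrobAlg.W2 p k) k A := IsScalarTower.of_algebraMap_eq fun _ => rfl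
  obtain ⟨D, _, _, hD, θ, hθ, hker⟩ := CAlgH.IndSmoothSquareZero.exists_smooth_lift' (R₀ := k) (A₀ := A) hsurj
  have hker' : RingHom.ker θ.toRingHom = (RingHom.ker (FrobAlg.res p k)).map (algebraMap (FrobAlg.W2 p k) D) := hker
  have hsq : ∀ x y, x ∈ RingHom.ker θ.toRingHom → y ∈ RingHom.ker θ.toRingHom → x * y = 0 := by
    have h1 : RingHom.ker θ.toRingHom ≤ Ideal.span {algebraMap (FrobAlg.W2 p k) D p} := by
      rw [hker']
      refine Ideal.map_le_iff_le_comap.2 fun w hw => ?_
      obtain ⟨c, rfl⟩ := (W2Lift.res_eq_zero_iff_dvd w).1 hw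
      rw [Ideal.mem_comap, map_mul]
      exact Ideal.mul_mem_right _ _ (Ideal.mem_span_singleton_self _)
    intro x y hx hy
    obtain ⟨a, rfl⟩ := Ideal.mem_span_singleton'.1 (h1 hx)
    obtain ⟨b, rfl⟩ := Ideal.mem_span_singleton'.1 (h1 hy)
    rw [mul_mul_mul_comm, ← map_mul, W2Lift.p_mul_p, map_zero, mul_zero]
  have hn : IsNilpotent (RingHom.ker θ.toRingHom) := ⟨2, by
    rw [pow_two]
    exact eq_bot_iff.2 (Ideal.mul_le.2 fun x hx y hy => hsq x y hx hy)⟩
  obtain ⟨frobA, hfrobA⟩ : ∃ F : A →+* A, ∀ c, F c = c ^ p := by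
    rcases subsingleton_or_nontrivial A with h | h
    · exact ⟨RingHom.id A, fun c => Subsingleton.elim _ _⟩
    · have : CharP A p := charP_of_injective_algebraMap ((algebraMap k A).injective) p
      exact ⟨frobenius A p, fun c => rfl⟩
  obtain ⟨G, hG1, hG2⟩ := Misc15.RingLift.exists_lift ((algebraMap (FrobAlg.W2 p k) D).comp (FrobAlg.sigma p k))
    θ.toRingHom hθ hn (frobA.comp θ.toRingHom) (by
      refine RingHom.ext fun w => ?_
      simp only [RingHom.comp_apply, hfrobA, AlgHom.toRingHom_eq_coe, RingHom.coe_coe, AlgHom.commutes]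
      show algebraMap k A (FrobAlg.res p k w) ^ p = algebraMap k A (FrobAlg.res p k (FrobAlg.sigma p k w))
      rw [← map_pow]
      congr 1
      simp [FrobAlg.res_apply, WittGrp.coeff_frob])
  refine ⟨D, inferInstance, algebraMap _ D, θ.toRingHom, G, ⟨⟨?_, hθ, hker', ?_⟩, hG1, fun d => ?_⟩⟩
  · exact RingHom.flat_algebraMap_iff.2 inferInstance
  · exact θ.comp_algebraMap
  · exact (RingHom.congr_fun hG2 d).trans (hfrobA _)

end Groth.Agent.S13148
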