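import Groth.Statements.S13149
import Mathlib

set_option autoImplicit false
universe u
open CAlg

namespace Groth.Agent.S13149

/-- Let A be a local ring and ρ a map from the points of the projective plane over F_p to the points of
the projective plane over A (vectors with a unit coordinate, up to units) taking collinear triples
to collinear triples (three points are collinear when a vector with a unit coordinate is orthogonal
to all three). If ρ sends the standard frame (1:0:0), (0:1:0), (0:0:1), (1:1:1) to four points in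
general position, then p = 0 in A. (The published statement asks only that ρ preserve collinearity;
a constant map does so over any ring, and the published argument begins by moving the images of the
standard frame to the standard frame, which needs them in general position — that condition is made
a hypothesis here.) -/
theorem result
    (p : ℕ) [Fact p.Prime] (A : Type u) [CommRing A] [IsLocalRing A]
    (ρ : (Fin 3 → ZMod p) → (Fin 3 → A))
    (hpt : ∀ v : Fin 3 → ZMod p, v ≠ 0 → ∃ i, IsUnit (ρ v i))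
    (hcol : ∀ u v w : Fin 3 → ZMod p, u ≠ 0 → v ≠ 0 → w ≠ 0 →
      Matrix.det (Matrix.of ![u, v, w]) = 0 →
      ∃ n : Fin 3 → A, (∃ i, IsUnit (n i)) ∧
        dotProduct (ρ u) n = 0 ∧ dotProduct (ρ v) n = 0 ∧ dotProduct (ρ w) n = 0)
    (hgen : IsUnit (Matrix.det (Matrix.of ![ρ (Pi.single 0 1), ρ (Pi.single 1 1), ρ (Pi.single 2 1)])) ∧
      IsUnit (Matrix.det (Matrix.of ![ρ (Pi.single 0 1), ρ (Pi.single 1 1), ρ (fun _ => 1)])) ∧
      IsUnit (Matrix.det (Matrix.of ![ρ (Pi.single 0 1), ρ (Pi.single 2 1), ρ (fun _ => 1)])) ∧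
      IsUnit (Matrix.det (Matrix.of ![ρ (Pi.single 1 1), ρ (Pi.single 2 1), ρ (fun _ => 1)]))) :
    (p : A) = 0 := by
  classical
  obtain ⟨hd0, hd3, hd2, hd1⟩ := hgen
  set M : Matrix (Fin 3) (Fin 3) A :=
    Matrix.of ![ρ (Pi.single 0 1), ρ (Pi.single 1 1), ρ (Pi.single 2 1)] with hM
  let σ : (Fin 3 → ZMod p) → (Fin 3 → A) := fun v => Matrix.vecMul (ρ v) M⁻¹
  have hMi : M⁻¹ * M = 1 := Matrix.nonsing_inv_mul _ hd0
  have hiM : M * M⁻¹ = 1 := Matrix.mul_nonsing_inv _ hd0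
  have hback : ∀ v, Matrix.vecMul (σ v) M = ρ v := fun v => by
    simp only [σ, Matrix.vecMul_vecMul, hMi, Matrix.vecMul_one]
  have unimod : ∀ {v : Fin 3 → A} (X : Matrix (Fin 3) (Fin 3) A),
      (∃ i, IsUnit (Matrix.vecMul v X i)) → ∃ i, IsUnit (v i) := by
    intro v X ⟨i, hi⟩
    by_contra hc
    push Not at hc
    change IsUnit (∑ j, v j * X j i) at hi
    exact ((IsLocalRing.mem_maximalIdeal _).1 ((IsLocalRing.maximalIdeal A).sum_mem fun j _ =>
      Ideal.mul_mem_right _ _ ((IsLocalRing.mem_maximalIdeal _).2 (hc j)))) hi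
  have hσe : ∀ i : Fin 3, σ (Pi.single i 1) = Pi.single i 1 := by
    intro i
    have h1 : ρ (Pi.single i 1) = Matrix.vecMul (Pi.single i 1) M := by
      rw [Matrix.single_one_vecMul]
      fin_cases i <;> rfl
    simp only [σ, h1, Matrix.vecMul_vecMul, hiM, Matrix.vecMul_one]
  have hu : ∀ i, IsUnit (σ (fun _ => 1) i) := by
    have key : ∀ x y : Fin 3 → ZMod p,
        (Matrix.of ![ρ x, ρ y, ρ (fun _ => 1)]) =
          Matrix.of ![σ x, σ y, σ (fun _ => 1)] * M := by
      intro x y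
      refine funext fun i => ?_
      rw [show (Matrix.of ![σ x, σ y, σ (fun _ => 1)] * M) i =
        Matrix.vecMul ((Matrix.of ![σ x, σ y, σ (fun _ => 1)]) i) M from rfl]
      fin_cases i <;> exact (hback _).symm
    intro i
    rw [key, Matrix.det_mul, hσe, hσe, Matrix.det_fin_three] at hd1 hd2 hd3
    simp at hd1 hd2 hd3
    fin_cases i
    exacts [hd1.1, hd2.1, hd3.1]
  choose d hd using hu
  let τ : (Fin 3 → ZMod p) → (Fin 3 → A) := fun v i => σ v i * ↑(d i)⁻¹
  have hτpt : ∀ v, v ≠ 0 → IsUnit (τ v 0) ∨ IsUnit (τ v 1) ∨ IsUnit (τ v 2) := by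
    intro v hv
    obtain ⟨i, hi⟩ := unimod (v := σ v) M (by rw [hback]; exact hpt v hv)
    have h : IsUnit (τ v i) := hi.mul (d i)⁻¹.isUnit
    fin_cases i
    exacts [Or.inl h, Or.inr (Or.inl h), Or.inr (Or.inr h)]
  have hO : ∀ i, τ (fun _ => 1) i = 1 := fun i => by simp [τ, ← hd i]
  have hline : ∀ u v w : Fin 3 → ZMod p, u ≠ 0 → v ≠ 0 → w ≠ 0 →
      Matrix.det (Matrix.of ![u, v, w]) = 0 →
      ∃ a b c : A, (IsUnit a ∨ IsUnit b ∨ IsUnit c) ∧ τ u 0 * a + τ u 1 * b + τ u 2 * c = 0 ∧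
        τ v 0 * a + τ v 1 * b + τ v 2 * c = 0 ∧ τ w 0 * a + τ w 1 * b + τ w 2 * c = 0 := by
    intro u v w hu hv hw hdet
    obtain ⟨n, ⟨i, hi⟩, h1, h2, h3⟩ := hcol u v w hu hv hw hdet
    have hnm : ∃ j, IsUnit (Matrix.mulVec M n j) := by
      refine unimod M⁻¹.transpose ⟨i, ?_⟩
      rwa [Matrix.vecMul_transpose, Matrix.mulVec_mulVec, hMi, Matrix.one_mulVec]
    have hτn : ∀ z, dotProduct (ρ z) n = 0 →
        τ z 0 * (↑(d 0) * Matrix.mulVec M n 0) + τ z 1 * (↑(d 1) * Matrix.mulVec M n 1) +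
          τ z 2 * (↑(d 2) * Matrix.mulVec M n 2) = 0 := by
      intro z hz
      rw [← hback z, ← Matrix.dotProduct_mulVec, dotProduct, Fin.sum_univ_three] at hz
      simpa [τ, mul_assoc] using hz
    refine ⟨_, _, _, ?_, hτn u h1, hτn v h2, hτn w h3⟩
    obtain ⟨j, hj⟩ := hnm
    fin_cases j
    exacts [Or.inl ((d 0).isUnit.mul hj), Or.inr (Or.inl ((d 1).isUnit.mul hj)),
      Or.inr (Or.inr ((d 2).isUnit.mul hj))]
  obtain ⟨hX1, hX2, hX⟩ : τ (Pi.single 0 1) 1 = 0 ∧ τ (Pi.single 0 1) 2 = 0 ∧ IsUnit (τ (Pi.single 0 1) 0) := by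
    simp [τ, hσe]
  obtain ⟨hY0, hY2, hY⟩ : τ (Pi.single 1 1) 0 = 0 ∧ τ (Pi.single 1 1) 2 = 0 ∧ IsUnit (τ (Pi.single 1 1) 1) := by
    simp [τ, hσe]
  obtain ⟨hZ0, hZ1, hZ⟩ : τ (Pi.single 2 1) 0 = 0 ∧ τ (Pi.single 2 1) 1 = 0 ∧ IsUnit (τ (Pi.single 2 1) 2) := by
    simp [τ, hσe]
  -- lines through a base point
  have lineX : ∀ v w : Fin 3 → ZMod p, v ≠ 0 → w ≠ 0 →
      Matrix.det (Matrix.of ![Pi.single 0 1, v, w]) = 0 →
      ∃ b c : A, (IsUnit b ∨ IsUnit c) ∧ τ v 1 * b + τ v 2 * c = 0 ∧ τ w 1 * b + τ w 2 * c = 0 := by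
    intro v w hv hw h
    obtain ⟨a, b, c, hn, e1, e2, e3⟩ := hline _ v w (by simp) hv hw h
    simp only [hX1, hX2, zero_mul, add_zero, hX.mul_right_eq_zero] at e1
    subst e1
    exact ⟨b, c, by simpa using hn, by simpa using e2, by simpa using e3⟩
  have lineY : ∀ v w : Fin 3 → ZMod p, v ≠ 0 → w ≠ 0 →
      Matrix.det (Matrix.of ![Pi.single 1 1, v, w]) = 0 →
      ∃ a c : A, (IsUnit a ∨ IsUnit c) ∧ τ v 0 * a + τ v 2 * c = 0 ∧ τ w 0 * a + τ w 2 * c = 0 := by
    intro v w hv hw h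
    obtain ⟨a, b, c, hn, e1, e2, e3⟩ := hline _ v w (by simp) hv hw h
    simp only [hY0, hY2, zero_mul, add_zero, zero_add, hY.mul_right_eq_zero] at e1
    subst e1
    exact ⟨a, c, by simpa using hn, by simpa using e2, by simpa using e3⟩
  have lineZ : ∀ v w : Fin 3 → ZMod p, v ≠ 0 → w ≠ 0 →
      Matrix.det (Matrix.of ![Pi.single 2 1, v, w]) = 0 →
      ∃ a b : A, (IsUnit a ∨ IsUnit b) ∧ τ v 0 * a + τ v 1 * b = 0 ∧ τ w 0 * a + τ w 1 * b = 0 := by
    intro v w hv hw h
    obtain ⟨a, b, c, hn, e1, e2, e3⟩ := hline _ v w (by simp) hv hw h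
    simp only [hZ0, hZ1, zero_mul, zero_add, hZ.mul_right_eq_zero] at e1
    subst e1
    exact ⟨a, b, by simpa using hn, by simpa using e2, by simpa using e3⟩
  -- two coordinates proportional, from a normal vector
  have prop2 : ∀ {x y a b r : A}, (IsUnit a ∨ IsUnit b) → r * a + b = 0 → x * a + y * b = 0 → x = r * y := by
    intro x y a b r hn h1 h2
    have hb : b = -(r * a) := eq_neg_of_add_eq_zero_right h1
    have ha : IsUnit a := hn.elim id fun h => (IsUnit.mul_iff.1 (by simpa [hb] using h)).2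
    refine sub_eq_zero.1 (ha.mul_left_eq_zero.1 ?_)
    linear_combination h2 - y * h1
  obtain ⟨hA2, hA0, hAu⟩ : τ ![1, 1, 0] 2 = 0 ∧ τ ![1, 1, 0] 0 = τ ![1, 1, 0] 1 ∧ IsUnit (τ ![1, 1, 0] 1) := by
    obtain ⟨b, c, hn, e2, e3⟩ := lineX (Pi.single 1 1) ![1, 1, 0] (by simp) (by simp)
      (by rw [Matrix.det_fin_three]; simp)
    simp only [hY2, zero_mul, add_zero, hY.mul_right_eq_zero] at e2
    subst e2
    have hc : IsUnit c := by simpa using hn
    simp only [mul_zero, zero_add, hc.mul_left_eq_zero] at e3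
    obtain ⟨a, b, hn, f2, f3⟩ := lineZ (fun _ => 1) ![1, 1, 0] (by simp [funext_iff]) (by simp)
      (by rw [Matrix.det_fin_three]; simp)
    simp only [hO, one_mul] at f2
    have h := prop2 (r := 1) hn (by simpa using f2) f3
    rw [one_mul] at h
    refine ⟨e3, h, ?_⟩
    simpa [e3, h] using hτpt ![1, 1, 0] (by simp)
  obtain ⟨hB0, hB1, hBu⟩ : τ ![0, 1, 1] 0 = 0 ∧ τ ![0, 1, 1] 1 = τ ![0, 1, 1] 2 ∧ IsUnit (τ ![0, 1, 1] 2) := by
    obtain ⟨a, b, hn, e2, e3⟩ := lineZ (Pi.single 1 1) ![0, 1, 1] (by simp) (by simp)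
      (by rw [Matrix.det_fin_three]; simp)
    simp only [hY0, zero_mul, zero_add, hY.mul_right_eq_zero] at e2
    subst e2
    have ha : IsUnit a := by simpa using hn
    simp only [mul_zero, add_zero, ha.mul_left_eq_zero] at e3
    obtain ⟨b, c, hn, f2, f3⟩ := lineX (fun _ => 1) ![0, 1, 1] (by simp [funext_iff]) (by simp)
      (by rw [Matrix.det_fin_three]; simp)
    simp only [hO, one_mul] at f2
    have h := prop2 (r := 1) hn (by simpa using f2) f3
    rw [one_mul] at h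
    refine ⟨e3, h, ?_⟩
    simpa [e3, h] using hτpt ![0, 1, 1] (by simp)
  have main : ∀ k : ℕ, τ ![(k : ZMod p), 0, 1] 1 = 0 ∧
      τ ![(k : ZMod p), 0, 1] 0 = (k : A) * τ ![(k : ZMod p), 0, 1] 2 ∧ IsUnit (τ ![(k : ZMod p), 0, 1] 2) := by
    intro k
    induction k with
    | zero =>
      have he : (Pi.single 2 1 : Fin 3 → ZMod p) = ![((0 : ℕ) : ZMod p), 0, 1] := by
        funext i; fin_cases i <;> simp
      rw [← he]
      simp [hZ0, hZ1, hZ]
    | succ k ih =>
      obtain ⟨hK1, hK0, hKu⟩ := ih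
      -- the point (k+1,1,1)
      obtain ⟨hQ0, hQu⟩ : τ ![((k + 1 : ℕ) : ZMod p), 1, 1] 0 = ((k + 1 : ℕ) : A) * τ ![((k + 1 : ℕ) : ZMod p), 1, 1] 2 ∧
          IsUnit (τ ![((k + 1 : ℕ) : ZMod p), 1, 1] 2) := by
        obtain ⟨b, c, hn, e2, e3⟩ := lineX ![0, 1, 1] ![((k + 1 : ℕ) : ZMod p), 1, 1] (by simp) (by simp)
          (by rw [Matrix.det_fin_three]; simp)
        rw [hB1, ← mul_add, hBu.mul_right_eq_zero] at e2
        have hQ1 := prop2 (r := 1) hn (by simpa using e2) e3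
        rw [one_mul] at hQ1
        obtain ⟨a, b, c, hn, f1, f2, f3⟩ := hline ![1, 1, 0] ![(k : ZMod p), 0, 1] ![((k + 1 : ℕ) : ZMod p), 1, 1]
          (by simp) (by simp) (by simp) (by rw [Matrix.det_fin_three]; simp; ring)
        rw [hA2, hA0, zero_mul, add_zero, ← mul_add, hAu.mul_right_eq_zero] at f1
        rw [hK1, hK0] at f2
        have hc : (k : A) * a + c = 0 := hKu.mul_right_eq_zero.1 (by linear_combination f2)
        rw [eq_neg_of_add_eq_zero_right f1, eq_neg_of_add_eq_zero_right hc] at hn f3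
        have ha : IsUnit a := by
          rcases hn with h | h | h
          · exact h
          · simpa using h
          · exact (IsUnit.mul_iff.1 (by simpa using h)).2
        rw [hQ1] at f3
        have h0 : τ ![((k + 1 : ℕ) : ZMod p), 1, 1] 0 = ((k + 1 : ℕ) : A) * τ ![((k + 1 : ℕ) : ZMod p), 1, 1] 2 :=
          sub_eq_zero.1 (ha.mul_left_eq_zero.1 (by rw [Nat.cast_succ (R := A)]; linear_combination f3))
        refine ⟨h0, ?_⟩
        rcases hτpt ![((k + 1 : ℕ) : ZMod p), 1, 1] (by simp) with h | h | h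
        · rw [h0] at h; exact (IsUnit.mul_iff.1 h).2
        · rwa [hQ1] at h
        · exact h
      obtain ⟨b, c, hn, e2, e3⟩ := lineX (Pi.single 2 1) ![((k + 1 : ℕ) : ZMod p), 0, 1] (by simp) (by simp)
        (by rw [Matrix.det_fin_three]; simp)
      simp only [hZ1, zero_mul, zero_add, hZ.mul_right_eq_zero] at e2
      subst e2
      have hb : IsUnit b := by simpa using hn
      simp only [mul_zero, add_zero, hb.mul_left_eq_zero] at e3
      obtain ⟨a, c, hn, f2, f3⟩ := lineY ![((k + 1 : ℕ) : ZMod p), 1, 1] ![((k + 1 : ℕ) : ZMod p), 0, 1]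
        (by simp) (by simp) (by rw [Matrix.det_fin_three]; simp)
      rw [hQ0] at f2
      have h0 := prop2 (r := ((k + 1 : ℕ) : A)) hn (hQu.mul_right_eq_zero.1 (by linear_combination f2)) f3
      refine ⟨e3, h0, ?_⟩
      rcases hτpt ![((k + 1 : ℕ) : ZMod p), 0, 1] (by simp) with h | h | h
      · rw [h0] at h; exact (IsUnit.mul_iff.1 h).2
      · rw [e3] at h; exact absurd h not_isUnit_zero
      · exact h
  obtain ⟨-, hx, hz⟩ := main p
  have he : ![(p : ZMod p), 0, 1] = (Pi.single 2 1 : Fin 3 → ZMod p) := by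
    funext i; fin_cases i <;> simp
  rw [he] at hx hz
  exact hz.mul_left_eq_zero.1 (hx.symm.trans hZ0)

end Groth.Agent.S13149
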