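import Groth.Statements.S13150
import Groth.Agent.W2Lift.Basic

set_option autoImplicit false
universe u
open FrobAlg

open Groth.Agent
namespace Groth.Agent.S13150

section
open Groth.Agent

variable {p : ℕ} [Fact p.Prime] {k : Type u} [Field k] [CharP k p] [PerfectRing k p]

theorem gh0 {B : Type u} [CommRing B] (w : WittVector p B) : WittVector.ghostComponent 0 w = w.coeff 0 := by
  simp [WittVector.ghostComponent_apply, wittPolynomial_zero]

theorem gh1 {B : Type u} [CommRing B] (w : WittVector p B) :
    WittVector.ghostComponent 1 w = w.coeff 0 ^ p + (p : B) * w.coeff 1 := by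
  simp [WittVector.ghostComponent_apply, wittPolynomial_one, add_comm]

/-- the elements `[a]` -/
noncomputable def teich {R : Type u} [CommRing R] (a : R) : FrobAlg.W2 p R :=
  WittVector.truncate 2 (WittVector.teichmuller p a)

theorem res_teich {R : Type u} [CommRing R] (a : R) : FrobAlg.res p R (teich a) = a := by
  rw [teich, FrobAlg.res_truncate, WittVector.teichmuller_coeff_zero]

theorem exists_eq_teich_add (x : FrobAlg.W2 p k) : ∃ y, x = teich (FrobAlg.res p k x) + (p : FrobAlg.W2 p k) * y := by
  obtain ⟨y, hy⟩ := (W2Lift.res_eq_zero_iff_dvd (x - teich (FrobAlg.res p k x))).1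
    (by rw [map_sub, res_teich, sub_self])
  exact ⟨y, by rw [← hy, add_sub_cancel]⟩

/-- two maps from `W₂(k)` agreeing on Teichmüller elements and modulo an ideal killed by `p` are equal -/
theorem eq_of_teich {C A : Type u} [CommRing C] [CommRing A] (π : C →+* A)
    (hπ : ∀ c, π c = 0 → (p : C) * c = 0) (f g : FrobAlg.W2 p k →+* C) (ht : ∀ a, f (teich a) = g (teich a))
    (h : π.comp f = π.comp g) : f = g := by
  refine RingHom.ext fun x => ?_
  obtain ⟨y, hy⟩ := exists_eq_teich_add x
  rw [hy, map_add, map_add, ht, map_mul, map_mul, map_natCast, map_natCast, ← sub_eq_zero, add_sub_add_left_eq_sub,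
    ← mul_sub]
  exact hπ _ (by rw [map_sub, sub_eq_zero]; exact RingHom.congr_fun h y)

theorem sigma_teich (a : k) : FrobAlg.sigma p k (teich a) = teich a ^ p := by
  rw [show (teich a : FrobAlg.W2 p k) ^ p = teich (a ^ p) by rw [teich, teich, ← map_pow, ← map_pow]]
  refine TruncatedWittVector.ext fun i => ?_
  rw [WittGrp.coeff_frob, teich, teich, WittVector.coeff_truncate, WittVector.coeff_truncate]
  rcases Nat.eq_zero_or_pos (i : ℕ) with h | h
  · rw [h, WittVector.teichmuller_coeff_zero, WittVector.teichmuller_coeff_zero]
  · rw [WittVector.teichmuller_coeff_pos p _ _ h, WittVector.teichmuller_coeff_pos p _ _ h,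
      zero_pow (Fact.out : p.Prime).ne_zero]

theorem truncMap_teich {A : Type u} [CommRing A] (f : k →+* A) (a : k) :
    WittGrp.truncMap p 2 f (teich a) = teich (f a) := by
  rw [teich, WittGrp.truncMap_truncate, WittVector.map_teichmuller, teich]

theorem map_teich {A B : Type u} [CommRing A] [CommRing B] (π : B →+* A) (b : B) :
    WittVector.truncate 2 (WittVector.map π (WittVector.teichmuller p b)) = teich (π b) := by
  rw [WittVector.map_teichmuller, teich]

theorem gh_teich {B : Type u} [CommRing B] (b : B) :
    WittVector.ghostComponent 0 (WittVector.teichmuller p b) = b ∧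
      WittVector.ghostComponent 1 (WittVector.teichmuller p b) = b ^ p := by
  refine ⟨by rw [gh0, WittVector.teichmuller_coeff_zero], ?_⟩
  rw [gh1, WittVector.teichmuller_coeff_zero, WittVector.teichmuller_coeff_pos p _ _ zero_lt_one, mul_zero, add_zero]

/-- in characteristic `p`, `p` kills the kernel of the residue map of `W₂` -/
theorem p_mul_eq_zero {A : Type u} [CommRing A] [CharP A p] (z : FrobAlg.W2 p A) (hz : FrobAlg.res p A z = 0) :
    (p : FrobAlg.W2 p A) * z = 0 := by
  obtain ⟨Z, rfl⟩ := WittVector.truncate_surjective p 2 A z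
  rw [FrobAlg.res_truncate] at hz
  rw [← map_natCast (WittVector.truncate (p := p) (R := A) 2), ← map_mul, mul_comm]
  refine TruncatedWittVector.ext fun i => ?_
  rw [WittVector.coeff_truncate, TruncatedWittVector.coeff_zero]
  fin_cases i
  · exact WittVector.mul_charP_coeff_zero Z
  · show (Z * (p : WittVector p A)).coeff 1 = 0
    rw [WittVector.mul_charP_coeff_succ Z 0, hz, zero_pow (Fact.out : p.Prime).ne_zero]

end

/-- Let k be a perfect field of characteristic p and (B, ι, π) a flat lifting over W₂(k) of a Noetherian
k-algebra A. The Frobenius of A lifts to B (a σ₂-semilinear ring endomorphism of B reducing to the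
p-th power map) if and only if there is a ring homomorphism θ : B → W₂(A) over A (the zeroth Witt
component of θ(b) is π(b)) with θ ∘ ι equal to the map W₂(k) → W₂(A) induced by k → A. (The
published statement is for a flat W₂(k)-extension of the structure sheaf of a scheme and says: the
push-out of that extension along the Frobenius O_X → F_*O_X is isomorphic, as an extension by F_*O_X
over W₂(k), to W₂(O_X); by the universal property of the push-out this is the existence of a
morphism of extensions to W₂(O_X), which in the affine case taken here is the map θ.) -/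
theorem result
    (p : ℕ) [Fact p.Prime] (k : Type u) [Field k] [CharP k p] [PerfectRing k p]
    (A B : Type u) [CommRing A] [Algebra k A] [IsNoetherianRing A] [CommRing B]
    (ι : FrobAlg.W2 p k →+* B) (π : B →+* A) (hB : FrobAlg.IsLift p k A B ι π) :
    (∃ Φ : B →+* B, FrobAlg.IsFrobLift p k A B ι π Φ) ↔
      ∃ θ : B →+* FrobAlg.W2 p A,
        (FrobAlg.res p A).comp θ = π ∧ θ.comp ι = WittGrp.truncMap p 2 (algebraMap k A) := by
  classical
  have hp2 : (p : B) * (p : B) = 0 := W2Lift.lift_p_sq ι
  have hnt : ∀ c : B, π c = 0 → (p : B) * c = 0 := fun c => (W2Lift.lift_p_mul_iff hB c).2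
  rcases subsingleton_or_nontrivial A with hA | hA
  · have hB0 : Subsingleton B := by
      refine subsingleton_of_zero_eq_one ?_
      have h1 : π (1 : B) = 0 := Subsingleton.elim _ _
      obtain ⟨c, hc⟩ := (W2Lift.lift_ker_iff hB 1).1 h1
      calc (0 : B) = (p : B) * p * (c * c) := by rw [hp2, zero_mul]
        _ = (p * c) * (p * c) := by ring
        _ = 1 := by rw [← hc, one_mul]
    have : Subsingleton (FrobAlg.W2 p A) := ⟨fun x y => TruncatedWittVector.ext fun i => Subsingleton.elim _ _⟩
    constructor
    · intro _
      exact ⟨{ toFun := fun _ => 0, map_one' := Subsingleton.elim _ _, map_mul' := fun _ _ => Subsingleton.elim _ _,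
               map_zero' := rfl, map_add' := fun _ _ => Subsingleton.elim _ _ },
        RingHom.ext fun _ => Subsingleton.elim _ _, RingHom.ext fun _ => Subsingleton.elim _ _⟩
    · intro _
      exact ⟨RingHom.id B, ⟨hB, RingHom.ext fun _ => Subsingleton.elim _ _, fun _ => Subsingleton.elim _ _⟩⟩
  have : CharP A p := charP_of_injective_algebraMap ((algebraMap k A).injective) p
  let q : WittVector p B →+* FrobAlg.W2 p A := (WittVector.truncate 2).comp (WittVector.map π)
  have hq : Function.Surjective q :=
    (WittVector.truncate_surjective p 2 A).comp (WittVector.map_surjective π hB.surj)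
  have hres : ∀ w, FrobAlg.res p A (q w) = π (WittVector.ghostComponent 0 w) := fun w => by
    show FrobAlg.res p A (WittVector.truncate 2 (WittVector.map π w)) = _
    rw [FrobAlg.res_truncate, WittVector.map_coeff, gh0]
  have hqker : ∀ w, q w = 0 ↔ π (w.coeff 0) = 0 ∧ π (w.coeff 1) = 0 := by
    intro w
    show WittVector.truncate 2 (WittVector.map π w) = 0 ↔ _
    constructor
    · intro h
      have h0 := congrArg (fun x => x.coeff (0 : Fin 2)) h
      have h1 := congrArg (fun x => x.coeff (1 : Fin 2)) h
      simpa [WittVector.coeff_truncate, WittVector.map_coeff] using And.intro h0 h1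
    · rintro ⟨h0, h1⟩
      refine TruncatedWittVector.ext fun i => ?_
      rw [WittVector.coeff_truncate, TruncatedWittVector.coeff_zero]
      fin_cases i
      · exact h0
      · exact h1
  constructor
  · rintro ⟨Φ, hΦ⟩
    let G : Subring (WittVector p B) :=
      RingHom.eqLocus (Φ.comp (WittVector.ghostComponent 0)) (WittVector.ghostComponent 1)
    let r : G →+* B := (WittVector.ghostComponent 0).comp G.subtype
    have hr : Function.Surjective r := by
      intro c
      obtain ⟨d, hd⟩ := (W2Lift.lift_ker_iff hB (Φ c - c ^ p)).1 (by rw [map_sub, hΦ.red, map_pow, sub_self])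
      let w : WittVector p B := WittVector.mk p fun n => if n = 0 then c else if n = 1 then d else 0
      have hw0 : w.coeff 0 = c := by simp [w]
      have hw1 : w.coeff 1 = d := by simp [w]
      refine ⟨⟨w, ?_⟩, ?_⟩
      · show Φ (WittVector.ghostComponent 0 w) = WittVector.ghostComponent 1 w
        rw [gh0, gh1, hw0, hw1, ← hd, add_sub_cancel]
      · show WittVector.ghostComponent 0 w = c
        rw [gh0, hw0]
    have hker : RingHom.ker r ≤ RingHom.ker (q.comp G.subtype) := by
      rintro ⟨w, hw⟩ h
      have h0 : w.coeff 0 = 0 := by rw [← gh0]; exact h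
      have hw' : Φ (WittVector.ghostComponent 0 w) = WittVector.ghostComponent 1 w := hw
      rw [gh0, gh1, h0, map_zero, zero_pow (Fact.out : p.Prime).ne_zero, zero_add] at hw'
      exact (hqker w).2 ⟨by rw [h0, map_zero], (W2Lift.lift_p_mul_iff hB _).1 hw'.symm⟩
    refine ⟨r.liftOfSurjective hr ⟨q.comp G.subtype, hker⟩, ?_, ?_⟩
    · refine RingHom.ext fun c => ?_
      obtain ⟨w, rfl⟩ := hr c
      rw [RingHom.comp_apply, RingHom.liftOfRightInverse_comp_apply]
      exact hres w.1
    · refine eq_of_teich (FrobAlg.res p A) (fun z hz => p_mul_eq_zero z hz) _ _ (fun a => ?_) ?_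
      · have hmem : WittVector.teichmuller p (ι (teich a)) ∈ G := by
          show Φ (WittVector.ghostComponent 0 _) = WittVector.ghostComponent 1 _
          rw [(gh_teich _).1, (gh_teich _).2]
          exact (RingHom.congr_fun hΦ.semi (teich a)).trans (by rw [RingHom.comp_apply, sigma_teich, map_pow])
        have h1 : r ⟨_, hmem⟩ = ι (teich a) := (gh_teich _).1
        rw [RingHom.comp_apply, ← h1, RingHom.liftOfRightInverse_comp_apply, truncMap_teich]
        refine (map_teich π _).trans ?_
        congr 1
        exact (RingHom.congr_fun hB.comm (teich a)).trans (by rw [RingHom.comp_apply, res_teich])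
      · refine RingHom.ext fun x => ?_
        obtain ⟨w, hw⟩ := hr (ι x)
        rw [RingHom.comp_apply, RingHom.comp_apply, RingHom.comp_apply]
        rw [← hw, RingHom.liftOfRightInverse_comp_apply, FrobAlg.res_apply (p := p) (x := WittGrp.truncMap p 2 _ x),
          WittGrp.coeff_truncMap]
        refine (hres w.1).trans ?_
        rw [show WittVector.ghostComponent 0 w.1 = ι x from hw]
        exact (RingHom.congr_fun hB.comm x).trans (by simp [FrobAlg.res_apply])
  · rintro ⟨θ, hθ1, hθ2⟩
    have hker : RingHom.ker q ≤ RingHom.ker (WittVector.ghostComponent (p := p) (R := B) 1) := by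
      intro w hw
      obtain ⟨h0, h1⟩ := (hqker w).1 hw
      obtain ⟨c, hc⟩ := (W2Lift.lift_ker_iff hB _).1 h0
      rw [RingHom.mem_ker, gh1, hnt _ h1, add_zero, hc, mul_pow]
      obtain ⟨m, hm⟩ : ∃ m, p = 2 + m := Nat.exists_eq_add_of_le (Fact.out : p.Prime).two_le
      rw [show ((p : B)) ^ p = (p : B) ^ (2 + m) by rw [← hm], pow_add, pow_two, hp2, zero_mul, zero_mul]
    let Φ : B →+* B := (q.liftOfSurjective hq ⟨WittVector.ghostComponent 1, hker⟩).comp θ
    have hΦ : ∀ w c, θ c = q w → Φ c = WittVector.ghostComponent 1 w := by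
      intro w c h
      simp only [Φ, RingHom.comp_apply]
      rw [h, RingHom.liftOfRightInverse_comp_apply]
    have hred : ∀ c, π (Φ c) = π c ^ p := by
      intro c
      obtain ⟨w, hw⟩ := hq (θ c)
      have h0 : π (w.coeff 0) = π c := by
        have := hres w
        rw [hw, gh0, ← RingHom.comp_apply, hθ1] at this
        exact this.symm
      rw [hΦ w c hw.symm, gh1, map_add, map_pow, map_mul, W2Lift.lift_map_p hB, zero_mul, add_zero, h0]
    refine ⟨Φ, ⟨hB, ?_, hred⟩⟩
    refine eq_of_teich π hnt _ _ (fun a => ?_) ?_
    · have h1 : θ (ι (teich a)) = q (WittVector.teichmuller p (ι (teich a))) := by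
        refine (RingHom.congr_fun hθ2 (teich a)).trans ?_
        rw [truncMap_teich]
        refine Eq.trans ?_ (map_teich π _).symm
        congr 1
        exact ((RingHom.congr_fun hB.comm (teich a)).trans (by rw [RingHom.comp_apply, res_teich])).symm
      rw [RingHom.comp_apply, hΦ _ _ h1, (gh_teich _).2, RingHom.comp_apply, sigma_teich, map_pow]
    · refine RingHom.ext fun x => ?_
      simp only [RingHom.comp_apply, hred]
      have e1 := RingHom.congr_fun hB.comm x
      have e2 := RingHom.congr_fun hB.comm (FrobAlg.sigma p k x)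
      simp only [RingHom.comp_apply] at e1 e2
      rw [e1, e2, ← map_pow]
      congr 1
      simp [FrobAlg.res_apply, WittGrp.coeff_frob]

end Groth.Agent.S13150
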