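import Groth.Statements.S13151
import Mathlib.RingTheory.IntegralClosure.IntegrallyClosed
import Mathlib.RingTheory.Localization.Integral

set_option autoImplicit false
universe u
open CAlg

namespace Groth.Agent.S13151

/-- Let A → B be an injective ring homomorphism of integral domains which is integral, with A integrally
closed, and let π be an element of A. Then the contraction to A of the ideal πB is πA, i.e. an
element of A which is a multiple of π in B is already a multiple of π in A; in particular if B/πB is
an integral domain then A/πA is an integral domain. (The published statement is for an integral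
dominant morphism of integral schemes flat over a discrete valuation ring, with normal target and π
a uniformizer; flatness and the valuation ring play no role, so π is an arbitrary element here.) -/
theorem result {A B : Type u} [CommRing A] [CommRing B]
    [IsDomain A] [IsDomain B] [IsIntegrallyClosed A] [Algebra A B] [Algebra.IsIntegral A B]
    (hinj : Function.Injective (algebraMap A B)) (π : A) :
    (Ideal.span {algebraMap A B π}).comap (algebraMap A B) = Ideal.span {π} ∧
      (IsDomain (B ⧸ Ideal.span {algebraMap A B π}) → IsDomain (A ⧸ Ideal.span {π})) := by
  have hmain : (Ideal.span {algebraMap A B π}).comap (algebraMap A B) = Ideal.span {π} := by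
    refine le_antisymm (fun c hc => ?_) (by rw [Ideal.span_le, Set.singleton_subset_iff]; exact Ideal.mem_span_singleton_self _)
    rw [Ideal.mem_comap, Ideal.mem_span_singleton] at hc
    obtain ⟨d, hd⟩ := hc
    by_cases h0 : π = 0
    · subst h0
      rw [map_zero, zero_mul, ← map_zero (algebraMap A B)] at hd
      rw [hinj hd]; exact Ideal.zero_mem _
    let L := FractionRing B
    let K := FractionRing A
    have hAL : Function.Injective (algebraMap A L) := by
      rw [IsScalarTower.algebraMap_eq A B L]
      exact (IsFractionRing.injective B L).comp hinj
    let j : K →ₐ[A] L := IsFractionRing.liftAlgHom (g := Algebra.ofId A L) hAL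
    have hd' : IsIntegral A (algebraMap B L d) := (Algebra.IsIntegral.isIntegral d).algebraMap
    have hq : j (algebraMap A K c / algebraMap A K π) = algebraMap B L d := by
      rw [map_div₀, AlgHom.commutes, AlgHom.commutes, IsScalarTower.algebraMap_apply A B L c, hd, map_mul,
        ← IsScalarTower.algebraMap_apply A B L π]
      rw [mul_div_cancel_left₀]
      exact fun h => h0 (hAL (h.trans (map_zero _).symm))
    rw [← hq, isIntegral_algHom_iff j j.injective] at hd'
    obtain ⟨a, ha⟩ := IsIntegrallyClosed.isIntegral_iff.1 hd'
    rw [eq_div_iff ((map_ne_zero_iff _ (IsFractionRing.injective A K)).2 h0), ← map_mul] at ha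
    rw [Ideal.mem_span_singleton]
    exact ⟨a, by rw [mul_comm π a]; exact (IsFractionRing.injective A K ha).symm⟩
  refine ⟨hmain, fun h => ?_⟩
  rw [← hmain, Ideal.Quotient.isDomain_iff_prime]
  have := (Ideal.Quotient.isDomain_iff_prime _).1 h
  exact this.comap _

end Groth.Agent.S13151
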