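import Groth.Statements.S13153
import Mathlib.RingTheory.Smooth.Field
import Mathlib.RingTheory.Etale.Kaehler
import Mathlib.RingTheory.Kaehler.Polynomial
import Mathlib.RingTheory.Flat.FaithfullyFlat.Algebra
import Mathlib.Algebra.MvPolynomial.PDeriv

set_option autoImplicit false
universe u
open CAlg

namespace Groth.Agent.S13153

/-- Let R be a discrete valuation ring whose fraction field K has characteristic zero, A an integral
domain which is a faithfully flat R-algebra, with fraction field L, such that K is algebraically
closed in L (every element of L algebraic over K is in the image of K). If f ∈ A has vanishing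
differential, df = 0 in Ω_{A/R}, then f is the image of an element of R. (The published statement is
the sheaf form: for a faithfully flat morphism X → Spec R with geometrically integral generic fibre,
the kernel of d : O_X → Ω¹_{X/R} is the inverse image of O_{Spec R}; for integral X, geometric
integrality of the generic fibre in characteristic zero amounts to K being algebraically closed in
the function field, which is the form used here, and this row is the case of global sections over an
affine X = Spec A.) -/
theorem result (R : Type u) [CommRing R] [IsDomain R]
    [IsDiscreteValuationRing R] [CharZero R] (K : Type u) [Field K] [Algebra R K] [IsFractionRing R K]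
    (A : Type u) [CommRing A] [IsDomain A] [Algebra R A] [Module.FaithfullyFlat R A]
    (L : Type u) [Field L] [Algebra A L] [IsFractionRing A L] [Algebra R L] [Algebra K L]
    [IsScalarTower R A L] [IsScalarTower R K L]
    (hac : ∀ x : L, IsAlgebraic K x → x ∈ (algebraMap K L).range)
    (f : A) (hf : KaehlerDifferential.D R A f = 0) : f ∈ (algebraMap R A).range := by
    classical
    have hRK : Function.Injective (algebraMap R K) := IsFractionRing.injective R K
    have : CharZero K := charZero_of_injective_algebraMap hRK
    have : CharZero L := charZero_of_injective_algebraMap (algebraMap K L).injective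
    suffices h : IsAlgebraic K (algebraMap A L f) by
      obtain ⟨c, hc⟩ := hac _ h
      obtain ⟨a, s, hs, rfl⟩ := IsFractionRing.div_surjective R c
      have hne : algebraMap R K s ≠ 0 := (map_ne_zero_iff _ hRK).2 (nonZeroDivisors.ne_zero hs)
      have h1 : algebraMap R A a = algebraMap R A s * f := by
        apply IsFractionRing.injective A L
        rw [map_mul, ← hc, ← IsScalarTower.algebraMap_apply R A L, ← IsScalarTower.algebraMap_apply R A L,
          IsScalarTower.algebraMap_apply R K L, IsScalarTower.algebraMap_apply R K L, ← map_mul,
          mul_div_cancel₀ _ hne]
      have h2 : a ∈ Ideal.span {s} := by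
        rw [← Ideal.comap_map_eq_self_of_faithfullyFlat (B := A) (Ideal.span {s}), Ideal.mem_comap, h1, Ideal.map_span,
          Set.image_singleton]
        exact Ideal.mem_span_singleton.2 (dvd_mul_right _ _)
      obtain ⟨t, rfl⟩ := Ideal.mem_span_singleton.1 h2
      refine ⟨t, ?_⟩
      have hs0 : algebraMap R A s ≠ 0 := fun h0 => hne (by
        apply (algebraMap K L).injective
        rw [← IsScalarTower.algebraMap_apply R K L, IsScalarTower.algebraMap_apply R A L, h0, map_zero, map_zero])
      rw [map_mul] at h1
      exact mul_left_cancel₀ hs0 h1
    by_contra htr
    have hD : KaehlerDifferential.D K L (algebraMap A L f) = 0 := by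
      rw [← KaehlerDifferential.map_D (R := R) (S := K) (A := A) (B := L) f, hf, map_zero]
    have hind : AlgebraicIndepOn K id ({algebraMap A L f} : Set L) := by
      exact (algebraicIndependent_singleton_iff (⟨_, Set.mem_singleton _⟩ : ({algebraMap A L f} : Set L))).2 htr
    obtain ⟨B, hB, hBt⟩ := exists_isTranscendenceBasis_superset hind
    have hb : AlgebraicIndependent K (Subtype.val : B → L) := hBt.1
    let E := IntermediateField.adjoin K (Set.range (Subtype.val : B → L))
    let S := Algebra.adjoin K (Set.range (Subtype.val : B → L))
    have hfS : algebraMap A L f ∈ S := Algebra.subset_adjoin ⟨⟨_, hB rfl⟩, rfl⟩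
    open scoped IntermediateField.algebraAdjoinAdjoin in
    have : Algebra.FormallyEtale S L := by
      have : Algebra.FormallyEtale S E := .of_isLocalization (nonZeroDivisors _)
      have : Algebra.IsAlgebraic E L := hBt.isAlgebraic_field
      have : Algebra.IsSeparable E L := inferInstance
      have : Algebra.FormallyEtale E L := .of_isSeparable _ L
      exact .comp _ E _
    have h0 : (1 : L) ⊗ₜ[S] KaehlerDifferential.D K S ⟨_, hfS⟩ = 0 := by
      rw [← KaehlerDifferential.tensorKaehlerEquivOfFormallyEtale_symm_D_algebraMap]
      change (KaehlerDifferential.tensorKaehlerEquivOfFormallyEtale K S L).symm (KaehlerDifferential.D K L (algebraMap A L f)) = 0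
      rw [hD, map_zero]
    let e := hb.aevalEquiv
    let i : B := ⟨_, hB rfl⟩
    let δ : Derivation K S S := Derivation.mk'
      { toFun := fun s => e (MvPolynomial.pderiv i (e.symm s))
        map_add' := fun x y => by simp
        map_smul' := fun c x => by simp }
      (fun x y => by simp [mul_comm])
    have hfun : δ ⟨_, hfS⟩ = 0 := by
      have := congrArg (LinearMap.baseChange L δ.liftKaehlerDifferential) h0
      rw [LinearMap.baseChange_tmul, map_zero, Derivation.liftKaehlerDifferential_comp_D] at this
      have := congrArg (TensorProduct.AlgebraTensorModule.rid S L L) this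
      rw [TensorProduct.AlgebraTensorModule.rid_tmul, map_zero, Algebra.smul_def, mul_one] at this
      exact Subtype.val_injective this
    have hX : e.symm ⟨_, hfS⟩ = MvPolynomial.X i := by
      rw [AlgEquiv.symm_apply_eq]
      exact Subtype.val_injective (by simp [e, i])
    change e (MvPolynomial.pderiv i (e.symm ⟨_, hfS⟩)) = 0 at hfun
    rw [hX, MvPolynomial.pderiv_X_self, map_one] at hfun
    exact one_ne_zero hfun

end Groth.Agent.S13153
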