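import Groth.Statements.S13154
import Mathlib.RingTheory.Localization.BaseChange
import Mathlib.RingTheory.Flat.TorsionFree
import Mathlib.RingTheory.Flat.FaithfullyFlat.Algebra

set_option autoImplicit false
universe u
open scoped TensorProduct
open CAlg

namespace Groth.Agent.S13154

/-- Let R be a discrete valuation ring with fraction field K, A a faithfully flat R-algebra (an affine
faithfully flat base change S' → S = Spec R) and B₁, B₂ flat R-algebras (two affine S-schemes X₁ =
Spec B₁, X₂ = Spec B₂, flat over S). Suppose given a K-algebra homomorphism φ_K : K ⊗ B₂ → K ⊗ B₁ (a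
morphism of the generic fibres X₁,K → X₂,K) and an A-algebra homomorphism φ_A : A ⊗ B₂ → A ⊗ B₁ (a
morphism X₁ ×_S S' → X₂ ×_S S' over S') which coincide after base change to K ⊗ A, in the sense that
for every b ∈ B₂ the images of φ_K(1 ⊗ b) and φ_A(1 ⊗ b) in (K ⊗ A) ⊗ B₁ agree. Then there is
exactly one R-algebra homomorphism φ : B₂ → B₁ (a morphism X₁ → X₂) whose base changes to K and to A
are φ_K and φ_A. (The published statement assumes only X₂ flat over S; flatness of X₁ is also
needed: with B₂ = R[t], B₁ = R[e]/(e², πe) for a uniformizer π and A = R[x], the maps t ↦ 0 over K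
and t ↦ e x over A agree over K ⊗ A = K[x] but come from no map over R.) -/
theorem result (R : Type u) [CommRing R] [IsDomain R]
    [IsDiscreteValuationRing R] (K : Type u) [Field K] [Algebra R K] [IsFractionRing R K]
    (A : Type u) [CommRing A] [Algebra R A] [Module.FaithfullyFlat R A]
    (B₁ B₂ : Type u) [CommRing B₁] [CommRing B₂] [Algebra R B₁] [Algebra R B₂]
    [Module.Flat R B₁] [Module.Flat R B₂]
    (φK : K ⊗[R] B₂ →ₐ[K] K ⊗[R] B₁) (φA : A ⊗[R] B₂ →ₐ[A] A ⊗[R] B₁)
    (hcomp : ∀ b : B₂,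
      Algebra.TensorProduct.map (Algebra.TensorProduct.includeLeft : K →ₐ[R] K ⊗[R] A) (AlgHom.id R B₁)
          (φK (1 ⊗ₜ b)) =
        Algebra.TensorProduct.map (Algebra.TensorProduct.includeRight : A →ₐ[R] K ⊗[R] A) (AlgHom.id R B₁)
          (φA (1 ⊗ₜ b))) :
    ∃! φ : B₂ →ₐ[R] B₁, (∀ b : B₂, φK (1 ⊗ₜ b) = 1 ⊗ₜ φ b) ∧ (∀ b : B₂, φA (1 ⊗ₜ b) = 1 ⊗ₜ φ b) := by
    classical
    have hinjA : Function.Injective (fun b : B₁ => (1 : A) ⊗ₜ[R] b) :=
      Module.FaithfullyFlat.tensorProduct_mk_injective (A := R) (B := A) B₁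
    have key : ∀ b : B₂, ∃ x : B₁, φK (1 ⊗ₜ b) = 1 ⊗ₜ x ∧ φA (1 ⊗ₜ b) = 1 ⊗ₜ x := by
      intro b
      obtain ⟨⟨x0, s⟩, hs⟩ := IsLocalizedModule.surj (nonZeroDivisors R) (TensorProduct.mk R K B₁ 1) (φK (1 ⊗ₜ b))
      change (s : R) • φK (1 ⊗ₜ b) = (1 : K) ⊗ₜ x0 at hs
      have hinj : Function.Injective (Algebra.TensorProduct.map (Algebra.TensorProduct.includeRight : A →ₐ[R] K ⊗[R] A) (AlgHom.id R B₁)) := by
        have h1 : Function.Injective (Algebra.TensorProduct.includeRight : A →ₐ[R] K ⊗[R] A) :=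
          Algebra.TensorProduct.includeRight_injective (IsFractionRing.injective R K)
        exact Module.Flat.rTensor_preserves_injective_linearMap (M := B₁)
          (Algebra.TensorProduct.includeRight : A →ₐ[R] K ⊗[R] A).toLinearMap h1
      have h2 : (1 : A) ⊗ₜ x0 = (s : R) • φA (1 ⊗ₜ b) := by
        apply hinj
        rw [map_smul, ← hcomp b, ← map_smul, hs]
        simp [Algebra.TensorProduct.one_def]
      have hx0 : x0 ∈ LinearMap.range (LinearMap.lsmul R B₁ (s : R)) := by
        rw [← Submodule.Quotient.mk_eq_zero]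
        apply Module.FaithfullyFlat.tensorProduct_mk_injective (A := R) (B := A) (B₁ ⧸ LinearMap.range (LinearMap.lsmul R B₁ (s : R)))
        change (1 : A) ⊗ₜ[R] ((LinearMap.range (LinearMap.lsmul R B₁ (s : R))).mkQ x0) = (1 : A) ⊗ₜ[R] 0
        rw [← LinearMap.lTensor_tmul, h2, TensorProduct.tmul_zero]
        have h3 : ∀ z : A ⊗[R] B₁, (LinearMap.range (LinearMap.lsmul R B₁ (s : R))).mkQ.lTensor A ((s : R) • z) = 0 := by
          intro z
          induction z with
          | tmul a c =>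
            have hc : (LinearMap.range (LinearMap.lsmul R B₁ (s : R))).mkQ ((s : R) • c) = 0 :=
              (Submodule.Quotient.mk_eq_zero _).2 (LinearMap.mem_range.2 ⟨c, rfl⟩)
            rw [← TensorProduct.tmul_smul, LinearMap.lTensor_tmul, hc, TensorProduct.tmul_zero]
          | zero => simp
          | add u v hu hv => rw [smul_add, map_add, hu, hv, add_zero]
        exact h3 _
      obtain ⟨x, rfl⟩ := hx0
      refine ⟨x, ?_, ?_⟩
      · apply Module.Flat.isSMulRegular_of_nonZeroDivisors (R := R) (M := K ⊗[R] B₁) s.2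
        change (s : R) • φK (1 ⊗ₜ b) = (s : R) • (1 ⊗ₜ x)
        rw [hs, LinearMap.lsmul_apply, TensorProduct.tmul_smul]
      · apply Module.Flat.isSMulRegular_of_nonZeroDivisors (R := R) (M := A ⊗[R] B₁) s.2
        change (s : R) • φA (1 ⊗ₜ b) = (s : R) • (1 ⊗ₜ x)
        rw [← h2, LinearMap.lsmul_apply, TensorProduct.tmul_smul]
    choose φ hφK hφA using key
    refine ⟨{ toFun := φ, map_one' := ?_, map_mul' := ?_, map_zero' := ?_, map_add' := ?_, commutes' := ?_ }, ⟨hφK, hφA⟩, ?_⟩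
    · refine hinjA ?_
      change (1 : A) ⊗ₜ[R] φ 1 = (1 : A) ⊗ₜ[R] (1 : B₁)
      rw [← hφA, ← Algebra.TensorProduct.one_def, ← Algebra.TensorProduct.one_def, map_one]
    · intro a c
      refine hinjA ?_
      change (1 : A) ⊗ₜ[R] φ (a * c) = (1 : A) ⊗ₜ[R] (φ a * φ c)
      calc (1 : A) ⊗ₜ[R] φ (a * c) = φA ((1 ⊗ₜ a) * (1 ⊗ₜ c)) := by rw [Algebra.TensorProduct.tmul_mul_tmul, mul_one, hφA]
        _ = _ := by rw [map_mul, hφA, hφA, Algebra.TensorProduct.tmul_mul_tmul, mul_one]
    · refine hinjA ?_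
      change (1 : A) ⊗ₜ[R] φ 0 = (1 : A) ⊗ₜ[R] 0
      rw [← hφA, TensorProduct.tmul_zero, map_zero, TensorProduct.tmul_zero]
    · intro a c
      refine hinjA ?_
      change (1 : A) ⊗ₜ[R] φ (a + c) = (1 : A) ⊗ₜ[R] (φ a + φ c)
      rw [← hφA, TensorProduct.tmul_add, map_add, TensorProduct.tmul_add, hφA, hφA]
    · intro r
      refine hinjA ?_
      change (1 : A) ⊗ₜ[R] φ (algebraMap R B₂ r) = (1 : A) ⊗ₜ[R] algebraMap R B₁ r
      rw [← hφA, Algebra.algebraMap_eq_smul_one, Algebra.algebraMap_eq_smul_one, TensorProduct.tmul_smul,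
        TensorProduct.tmul_smul, ← Algebra.TensorProduct.one_def, ← Algebra.TensorProduct.one_def,
        AlgHom.map_smul_of_tower, map_one]
    · rintro ψ ⟨-, h⟩
      ext b
      exact hinjA ((h b).symm.trans (hφA b))

end Groth.Agent.S13154
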