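import Groth.Statements.S13155
import Mathlib
-- import your own Groth.Agent.* helpers here

set_option autoImplicit false
universe u
open CAlg

namespace Groth.Agent.S13155

/-- Let R be a discrete valuation ring of characteristic zero with uniformizer π, and A a Noetherian
integrally closed domain which is an R-algebra with injective structure map and in which πA is a
prime ideal (X = Spec A is normal, flat over R, with integral special fibre). Let m ≥ 1 and let f ∈
A be invertible in A[1/π] (so Z^m = f defines a μ_m-torsor over the generic fibre), such that S =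
A[1/π][Z]/(Z^m − f) is an integral domain and, writing B for the integral closure of A in S (the
normalization of X in that cover), πB is a prime ideal of B (the normalization has integral special
fibre). Then f is, up to a unit of A, an m-th power of a power of π: f = π^{mq}·u with q ≥ 0 and u ∈
A^×, so that the cover extends to the μ_m-torsor Z^m = u over all of X. (The published statement is
the existence and uniqueness of the extending μ_m-torsor over a normal faithfully flat R-scheme with
integral fibres, R containing a primitive m-th root of unity; this row is the affine computation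
that carries the proof.) -/
theorem result (R : Type u) [CommRing R]
    [IsDomain R] [IsDiscreteValuationRing R] [CharZero R] (ϖ : R) (hϖ : Irreducible ϖ)
    (A : Type u) [CommRing A] [IsDomain A] [IsNoetherianRing A] [IsIntegrallyClosed A] [Algebra R A]
    (hinj : Function.Injective (algebraMap R A)) (hprime : (Ideal.span {algebraMap R A ϖ}).IsPrime)
    (m : ℕ) (hm : 0 < m) (f : A) (hf : IsUnit (algebraMap A (Localization.Away (algebraMap R A ϖ)) f))
    [IsDomain (AdjoinRoot (Polynomial.X ^ m - Polynomial.C (algebraMap A (Localization.Away (algebraMap R A ϖ)) f)))]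
    (hsp : (Ideal.span {algebraMap A (integralClosure A
        (AdjoinRoot (Polynomial.X ^ m - Polynomial.C (algebraMap A (Localization.Away (algebraMap R A ϖ)) f))))
          (algebraMap R A ϖ)}).IsPrime) :
    ∃ (q : ℕ) (u : Aˣ), f = algebraMap R A ϖ ^ (m * q) * (u : A) := by
  classical
  set π := algebraMap R A ϖ with hπ
  have hπ0 : π ≠ 0 := fun h => hϖ.ne_zero ((map_eq_zero_iff _ hinj).1 h)
  have hπp : Prime π := (Ideal.span_singleton_prime hπ0).1 hprime
  -- `f` is a unit times a power of `π`
  obtain ⟨g, k, hg⟩ : ∃ (g : A) (k : ℕ), f * g = π ^ k := by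
    obtain ⟨u, hu⟩ := hf
    obtain ⟨k, g, hg⟩ := IsLocalization.Away.surj π (↑u⁻¹ : Localization.Away π)
    refine ⟨g, k, IsLocalization.injective (Localization.Away π) (M := Submonoid.powers π) (powers_le_nonZeroDivisors_of_noZeroDivisors hπ0) ?_⟩
    rw [map_mul, ← hg, ← hu, map_pow, Units.mul_inv_cancel_left]
  obtain ⟨s, u, -, hsu⟩ : ∃ (s : ℕ) (u : Aˣ), s ≤ k ∧ f = π ^ s * u := by
    obtain ⟨s, hs, hass⟩ := (dvd_prime_pow hπp k).1 ⟨g, hg.symm⟩
    obtain ⟨u, hu⟩ := hass.symm
    exact ⟨s, u, hs, hu.symm⟩
  refine ⟨s / m, u, ?_⟩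
  rcases Nat.eq_zero_or_pos (s % m) with hr | hr
  · rw [hsu, Nat.mul_div_cancel' (Nat.dvd_of_mod_eq_zero hr)]
  exfalso
  set L := Localization.Away π
  set P : Polynomial L := Polynomial.X ^ m - Polynomial.C (algebraMap A L f)
  set S := AdjoinRoot P
  set q := s / m
  set t := s % m with ht
  have hst : s = m * q + t := (Nat.div_add_mod s m).symm
  have htm : t < m := Nat.mod_lt _ hm
  obtain ⟨i, hi⟩ : ∃ i : L, algebraMap A L π * i = 1 := ⟨_, IsLocalization.Away.mul_invSelf π⟩
  let ι : A →+* S := algebraMap A S
  have hιL : ∀ a, ι a = algebraMap L S (algebraMap A L a) := fun a => IsScalarTower.algebraMap_apply A L S a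
  let w : S := algebraMap L S (i ^ q) * AdjoinRoot.root P
  have hwm : w ^ m = ι (π ^ t * u) := by
    have hroot : (AdjoinRoot.root P) ^ m = algebraMap L S (algebraMap A L f) := by
      have h := AdjoinRoot.eval₂_root P
      simp only [P, Polynomial.eval₂_sub, Polynomial.eval₂_X_pow, Polynomial.eval₂_C] at h
      exact sub_eq_zero.1 h
    rw [mul_pow, hroot, ← map_pow, ← map_mul, hιL, hsu, hst]
    congr 1
    simp only [map_mul, map_pow, pow_add]
    calc (i ^ q) ^ m * (algebraMap A L π ^ (m * q) * algebraMap A L π ^ t * algebraMap A L u)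
        = (algebraMap A L π * i) ^ (m * q) * (algebraMap A L π ^ t * algebraMap A L u) := by rw [← pow_mul, mul_comm q m, mul_pow]; ring
      _ = _ := by rw [hi, one_pow, one_mul]
  have hwint : IsIntegral A w := IsIntegral.of_pow hm (hwm ▸ isIntegral_algebraMap)
  let W : integralClosure A S := ⟨w, hwint⟩
  have hWmem : W ∈ Ideal.span {algebraMap A (integralClosure A S) π} := by
    refine hsp.mem_of_pow_mem m (Ideal.mem_span_singleton.2 ⟨algebraMap A (integralClosure A S) (π ^ (t - 1) * u), ?_⟩)
    apply Subtype.ext
    show w ^ m = ι π * ι (π ^ (t - 1) * u)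
    rw [hwm, ← map_mul, ← mul_assoc, ← pow_succ', Nat.sub_add_cancel hr]
  obtain ⟨⟨y, hy⟩, hWy⟩ := Ideal.mem_span_singleton.1 hWmem
  have hwy : w = ι π * y := congrArg Subtype.val hWy
  -- `u / π^(m-t)` would be integral over `A`
  let z : L := i ^ (m - t) * algebraMap A L u
  have hzy : algebraMap L S z = y ^ m := by
    have h1 : ι (π ^ m) * algebraMap L S z = ι (π ^ m) * y ^ m := by
      rw [map_pow ι, ← mul_pow, ← hwy, hwm, hιL (π ^ t * u), hιL π, ← map_pow, ← map_mul]
      congr 1
      simp only [z, map_mul, map_pow]
      calc algebraMap A L π ^ m * (i ^ (m - t) * algebraMap A L u)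
          = (algebraMap A L π * i) ^ (m - t) * (algebraMap A L π ^ t * algebraMap A L u) := by
            conv_lhs => rw [show m = (m - t) + t by omega, pow_add, show m - t + t - t = m - t by omega]
            rw [mul_pow]; ring
        _ = _ := by rw [hi, one_pow, one_mul]
    refine (IsUnit.mul_left_cancel ?_ h1)
    rw [hιL, map_pow]
    exact ((IsUnit.of_mul_eq_one i hi).pow m).map (algebraMap L S)
  haveI : IsDomain L := IsLocalization.isDomain_of_le_nonZeroDivisors L (M := Submonoid.powers π) (powers_le_nonZeroDivisors_of_noZeroDivisors hπ0)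
  have hinjLS : Function.Injective (algebraMap L S) := by
    have hmon : P.Monic := Polynomial.monic_X_pow_sub_C _ hm.ne'
    refine (injective_iff_map_eq_zero _).2 fun x hx => ?_
    rw [AdjoinRoot.algebraMap_eq] at hx
    obtain ⟨c, hc⟩ := AdjoinRoot.mk_eq_zero.1 (show AdjoinRoot.mk P (Polynomial.C x) = 0 from hx)
    by_contra hx0
    have hc0 : c ≠ 0 := fun h => hx0 (Polynomial.C_eq_zero.1 (by rw [hc, h, mul_zero]))
    have := congrArg Polynomial.natDegree hc
    rw [Polynomial.natDegree_C, hmon.natDegree_mul' hc0, Polynomial.natDegree_X_pow_sub_C] at this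
    omega
  have hzint : IsIntegral A z := (isIntegral_algebraMap_iff hinjLS).1 (hzy ▸ hy.pow m)
  obtain ⟨a, ha⟩ : ∃ a : A, algebraMap A L a = z := by
    let j : L →ₐ[A] FractionRing A := IsLocalization.liftAlgHom (M := Submonoid.powers π) (S := L) (f := Algebra.ofId A (FractionRing A))
      fun x => IsLocalization.map_units (FractionRing A) (⟨x.1, powers_le_nonZeroDivisors_of_noZeroDivisors hπ0 x.2⟩ : nonZeroDivisors A)
    obtain ⟨a, ha⟩ := IsIntegrallyClosed.isIntegral_iff.1 (hzint.map j)
    refine ⟨a, ?_⟩
    obtain ⟨⟨b, s'⟩, hb⟩ := IsLocalization.surj (Submonoid.powers π) z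
    have h2 := congrArg j hb
    rw [map_mul, AlgHom.commutes, AlgHom.commutes, ← ha, ← map_mul] at h2
    have h3 := IsFractionRing.injective A (FractionRing A) h2
    refine ((IsLocalization.map_units L s').mul_left_inj).1 ?_
    rw [← map_mul, h3, hb]
  have hau : π ^ (m - t) * a = u := by
    apply IsLocalization.injective L (M := Submonoid.powers π) (powers_le_nonZeroDivisors_of_noZeroDivisors hπ0)
    rw [map_mul, map_pow, ha]
    simp only [z]
    rw [← mul_assoc, ← mul_pow, hi, one_pow, one_mul]
  have : IsUnit (π ^ (m - t)) := isUnit_of_mul_isUnit_left (hau ▸ u.isUnit)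
  exact hπp.not_isUnit ((isUnit_pow_iff (by omega)).1 this)

end Groth.Agent.S13155
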