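import Groth.Statements.S13156
import Mathlib.Algebra.MvPolynomial.Eval
import Mathlib.Algebra.Polynomial.AlgebraMap
import Mathlib.Algebra.Polynomial.Derivative
import Mathlib.Data.Fin.VecNotation
import Mathlib.Tactic.LinearCombination
import Mathlib.Tactic.ComputeDegree
import Mathlib.RingTheory.Polynomial.Basic
-- import your own Groth.Agent.* helpers here

set_option autoImplicit false
set_option linter.all false
universe u
open scoped Polynomial
open CAlg

namespace Groth.Agent.S13156

open Polynomial in
theorem key (A : Type u) [CommRing A] (p : ℕ) [hp : Fact p.Prime]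
    (hu : IsUnit ((Nat.factorial (p - 1) : ℕ) : A)) (μ : A) (F : A[X]) (hF : F.natDegree < p) :
    ((F.map C) * C F - C (C (F.coeff 0 ^ 2)) =
        (F.map C).comp (X + C X + C (C μ) * X * C X) - C (C (F.coeff 0))) ↔
      F * C (F.coeff 1) = derivative F * (1 + C μ * X) := by
  set W : A[X][X] := X + C X + C (C μ) * X * C X with hW
  set G : A[X][X] := F.map C with hG
  have hWd : derivative W = C (1 + C μ * X) := by
    simp [hW, map_add, map_mul, derivative_mul]
  have hW0 : W.eval 0 = X := by simp [hW]
  have hG' : derivative G = (derivative F).map C := by rw [hG, derivative_map]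
  have hev : ∀ H : A[X], (H.map C).eval X = H := fun H => by
    rw [eval_map, Polynomial.eval₂_C_X]
  constructor
  · intro h
    have h1 := congrArg (fun P => (derivative P).eval 0) h
    simp only [map_sub, derivative_mul, derivative_C, mul_zero, add_zero, sub_zero, derivative_comp,
      eval_mul, eval_C, eval_comp, hWd, hW0, hG', hev] at h1
    rw [← coeff_zero_eq_eval_zero, coeff_map, coeff_derivative, mul_comm (C _) F] at h1
    simpa [mul_comm (1 + C μ * X)] using h1
  · intro h
    set a := F.coeff with ha
    have hrec : ∀ j : ℕ, a j * a 1 = a (j + 1) * (j + 1) + μ * (j * a j) := by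
      intro j
      have h1 := congrArg (fun P => P.coeff j) h
      simp only [coeff_mul_C] at h1
      rw [h1, mul_add, mul_one, coeff_add, coeff_derivative, ← mul_assoc, mul_comm (derivative F) (C μ), mul_assoc,
        coeff_C_mul]
      rcases j with _ | j
      · simp [ha]
      · rw [coeff_mul_X, coeff_derivative]; push_cast; ring
    have hunit : ∀ j : ℕ, j + 1 < p → IsUnit ((j + 1 : ℕ) : A) := fun j hj => by
      obtain ⟨c, hc⟩ := Nat.dvd_factorial (Nat.succ_pos j) (show j + 1 ≤ p - 1 by omega)
      rw [hc, Nat.cast_mul] at hu
      exact isUnit_of_mul_isUnit_left hu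
    have h01 : a 1 * (a 0 - 1) = 0 := by
      have := hrec 0
      push_cast at this
      linear_combination this
    have hmul : ∀ j : ℕ, (a 0 - 1) * a (j + 1) = 0 := by
      intro j
      induction j with
      | zero => linear_combination h01
      | succ j ih =>
        by_cases hj : j + 1 + 1 < p
        · have h1 := hrec (j + 1)
          refine (hunit (j + 1) hj).mul_left_eq_zero.mp ?_
          push_cast at h1 ⊢
          linear_combination (a 0 - 1) * (-1) * h1 + (a 1 - μ * (j + 1)) * ih
        · rw [show a (j + 1 + 1) = 0 from coeff_eq_zero_of_natDegree_lt (by omega), mul_zero]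
    set D : A[X][X] := G.comp W - C (C (a 0)) - (G * C F - C (C (a 0 ^ 2))) with hD
    suffices D = 0 by rw [hD, sub_eq_zero] at this; exact this.symm
    have hD0 : D.coeff 0 = 0 := by
      rw [coeff_zero_eq_eval_zero, hD]
      simp only [eval_sub, eval_C, eval_mul, eval_comp, hW0]
      rw [hG, hev, ← coeff_zero_eq_eval_zero, coeff_map]
      have h2 : (1 - C (a 0)) * (F - C (a 0)) = 0 := by
        ext j
        rw [show (1 - C (a 0)) = C (1 - a 0) by simp, coeff_C_mul, coeff_sub, coeff_zero]
        rcases j with _ | j
        · simp [ha]
        · rw [coeff_C_succ, sub_zero]; linear_combination -hmul j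
      rw [C_pow]
      linear_combination h2
    have hdeg : D.natDegree < p := by
      have hW1 : W.natDegree ≤ 1 := by rw [hW]; compute_degree
      have hG1 : G.natDegree ≤ F.natDegree := natDegree_map_le
      refine lt_of_le_of_lt ?_ hF
      rw [hD]
      refine (natDegree_sub_le _ _).trans (max_le ((natDegree_sub_le _ _).trans (max_le ?_ ?_))
        ((natDegree_sub_le _ _).trans (max_le ?_ ?_)))
      · exact natDegree_comp_le.trans ((Nat.mul_le_mul hG1 hW1).trans (mul_one _).le)
      · simp
      · exact (natDegree_mul_C_le _ _).trans hG1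
      · rw [natDegree_C]; exact Nat.zero_le _
    have hode : derivative D * (1 + C (C μ) * X) = C (C (a 1)) * D := by
      have hG2 : G * C (C (a 1)) = (derivative F).map C * (1 + C (C μ) * X) := by
        simpa [Polynomial.map_mul, Polynomial.map_add, hG] using congrArg (Polynomial.map C) h
      have hG3 := congrArg (fun P => Polynomial.comp P W) hG2
      simp only [mul_comp, add_comp, one_comp, C_comp, X_comp] at hG3
      have hk : (1 : A[X][X]) + C (C μ) * W = (1 + C (C μ) * X) * C (1 + C μ * X) := by
        simp only [hW, map_add, map_one, map_mul]; ring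
      rw [hk] at hG3
      have h01' : C (C (a 1)) * (C (C (a 0)) - 1) = (0 : A[X][X]) := by
        rw [← C_1, ← C_1, ← C_sub, ← C_sub, ← C_mul, ← C_mul, h01, C_0, C_0]
      simp only [hD, map_sub, derivative_C, derivative_mul, mul_zero, add_zero, sub_zero, derivative_comp, hWd, hG']
      simp only [C_pow] at *
      linear_combination C F * hG2 - hG3 - C (C (a 0)) * h01'
    ext1 j
    rw [coeff_zero]
    induction j with
    | zero => exact hD0
    | succ j ih =>
      by_cases hj : j + 1 < p
      · have h1 := congrArg (fun P => P.coeff j) hode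
        simp only [mul_add, mul_one, coeff_add, coeff_C_mul, ih, mul_zero, coeff_derivative] at h1
        rw [← mul_assoc, mul_comm (derivative D) (C (C μ)), mul_assoc, coeff_C_mul] at h1
        have h2 : (derivative D * X).coeff j = 0 := by
          rcases j with _ | j
          · simp
          · rw [coeff_mul_X, coeff_derivative, ih, zero_mul]
        rw [h2, mul_zero, add_zero] at h1
        refine ((hunit j hj).map (C : A →+* A[X])).mul_right_eq_zero.mp ?_
        rw [map_natCast, mul_comm]
        push_cast
        linear_combination h1
      · exact coeff_eq_zero_of_natDegree_lt (by omega)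


/-- Let p be a prime number, A a commutative ring in which (p−1)! is invertible, μ an element of A, and
F ∈ A[X] a polynomial of degree at most p − 1 with coefficients a_0, a_1, …. Then the identity
F(S)·F(T) − a_0² = F(S + T + μST) − a_0 holds in the polynomial ring A[S, T] if and only if a_1·F(S)
= F′(S)·(1 + μS) holds in A[S], F′ the formal derivative. (The published statement is over the
quotient of a discrete valuation ring of residue characteristic p by a nonzero element of its
maximal ideal; only the invertibility of 1, …, p − 1 is used, so an arbitrary such ring A is allowed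
here.) -/
theorem result (A : Type u) [CommRing A] (p : ℕ) [Fact p.Prime]
    (hu : IsUnit ((Nat.factorial (p - 1) : ℕ) : A)) (μ : A) (F : A[X]) (hF : F.natDegree < p) :
    (Polynomial.aeval (MvPolynomial.X 0 : MvPolynomial (Fin 2) A) F *
          Polynomial.aeval (MvPolynomial.X 1 : MvPolynomial (Fin 2) A) F - MvPolynomial.C (F.coeff 0 ^ 2) =
        Polynomial.aeval (MvPolynomial.X 0 + MvPolynomial.X 1 +
            MvPolynomial.C μ * MvPolynomial.X 0 * MvPolynomial.X 1 : MvPolynomial (Fin 2) A) F -
          MvPolynomial.C (F.coeff 0)) ↔
      F * Polynomial.C (F.coeff 1) = Polynomial.derivative F * (1 + Polynomial.C μ * Polynomial.X) := by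
  rw [← key A p hu μ F hF]
  let φ : MvPolynomial (Fin 2) A →ₐ[A] A[X][X] := MvPolynomial.aeval ![Polynomial.X, Polynomial.C Polynomial.X]
  let ψ : A[X][X] →+* MvPolynomial (Fin 2) A :=
    Polynomial.eval₂RingHom (Polynomial.aeval (MvPolynomial.X 1 : MvPolynomial (Fin 2) A)).toRingHom (MvPolynomial.X 0)
  have e0 : ∀ P : A[X], Polynomial.aeval (Polynomial.X : A[X][X]) P = P.map Polynomial.C := fun P => by
    rw [Polynomial.aeval_def, show (algebraMap A A[X][X]) = (Polynomial.C : A[X] →+* A[X][X]).comp Polynomial.C from rfl,
      ← Polynomial.eval₂_map, Polynomial.eval₂_C_X]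
  have e1 : ∀ P : A[X], Polynomial.aeval (Polynomial.C Polynomial.X : A[X][X]) P = Polynomial.C P := fun P => by
    rw [Polynomial.aeval_def, show (algebraMap A A[X][X]) = (Polynomial.C : A[X] →+* A[X][X]).comp Polynomial.C from rfl,
      ← Polynomial.hom_eval₂, Polynomial.eval₂_C_X]
  constructor
  · intro h
    have h1 := congrArg φ h
    simp only [map_mul, map_sub, ← Polynomial.aeval_algHom_apply, map_add, φ, MvPolynomial.aeval_X,
      MvPolynomial.aeval_C, Matrix.cons_val_zero, Matrix.cons_val_one, e0, e1] at h1
    rw [Polynomial.comp, Polynomial.eval₂_map]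
    simpa [Polynomial.aeval_def, show (algebraMap A A[X][X]) = (Polynomial.C : A[X] →+* A[X][X]).comp Polynomial.C from rfl] using h1
  · intro h
    have h1 := congrArg ψ h
    simp only [map_mul, map_sub, ψ, Polynomial.coe_eval₂RingHom, Polynomial.eval₂_comp, Polynomial.eval₂_map,
      Polynomial.eval₂_C, Polynomial.eval₂_add, Polynomial.eval₂_mul, Polynomial.eval₂_X] at h1
    have hc : (Polynomial.aeval (R := A) (MvPolynomial.X 1 : MvPolynomial (Fin 2) A)).toRingHom.comp
        Polynomial.C = MvPolynomial.C := RingHom.ext fun r => by simp [MvPolynomial.algebraMap_eq]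
    rw [hc] at h1
    simpa [Polynomial.aeval_def, MvPolynomial.algebraMap_eq, Polynomial.eval₂_pow] using h1

end Groth.Agent.S13156
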