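import Groth.Statements.S13158
import Mathlib
-- import your own Groth.Agent.* helpers here

set_option autoImplicit false
universe u
open CAlg

namespace Groth.Agent.S13158

/-- Let R be a discrete valuation ring of characteristic zero whose maximal ideal contains the prime
number p, let n ≥ 1, and let λ be a nonzero element of R such that λ^(p^(n−1)(p−1)) divides p (the
condition v(p) ≥ p^(n−1)(p−1)·v(λ) under which the polynomial ((1 + λT)^(p^n) − 1)/λ^(p^n) has
coefficients in R). Let A be an integrally closed integral domain which is a faithfully flat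
R-algebra. Then for every unit x of A, λ^(p^n) divides x^(p^n) − 1 in A if and only if λ divides x −
1 in A. -/
theorem result (R : Type u) [CommRing R]
    [IsDomain R] [IsDiscreteValuationRing R] [CharZero R] (p n : ℕ) [Fact p.Prime] (hn : 1 ≤ n)
    (hp : (p : R) ∈ IsLocalRing.maximalIdeal R) (lam : R) (hlam : lam ≠ 0)
    (hstar : lam ^ (p ^ (n - 1) * (p - 1)) ∣ (p : R))
    (A : Type u) [CommRing A] [IsDomain A] [IsIntegrallyClosed A] [Algebra R A] [Module.FaithfullyFlat R A]
    (x : Aˣ) :
    (algebraMap R A lam ^ p ^ n ∣ (x : A) ^ p ^ n - 1) ↔ (algebraMap R A lam ∣ (x : A) - 1) := by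
  classical
  set q := p ^ n with hq
  have hp' : p.Prime := Fact.out
  have hkey : ∀ j, 1 ≤ j → j ≤ q → lam ^ (q - j) ∣ ((q.choose j : ℕ) : R) := by
    intro j hj hjq
    obtain ⟨s, hs⟩ : ∃ s, j.factorization p = s := ⟨_, rfl⟩
    have h1 := Nat.factorization_choose_prime_pow_add_factorization hp' hjq (by omega)
    rw [hs, ← hq] at h1
    have hps : p ^ s ≤ j := hs ▸ Nat.le_of_dvd (by omega) (Nat.ordProj_dvd j p)
    have hsum : ∀ t, p ^ (s + t) ≤ p ^ s + t * (p ^ (n - 1) * (p - 1)) ∨ n < s + t := by
      intro t
      induction t with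
      | zero => exact Or.inl (by simp)
      | succ t ih =>
        by_cases h : n < s + (t + 1)
        · exact Or.inr h
        refine Or.inl ?_
        have ih := ih.resolve_right (by omega)
        have h2 : p ^ (s + t) * (p - 1) ≤ p ^ (n - 1) * (p - 1) :=
          Nat.mul_le_mul_right _ (Nat.pow_le_pow_right hp'.pos (by omega))
        have h3 : p ^ (s + (t + 1)) = p ^ (s + t) + p ^ (s + t) * (p - 1) := by
          rw [← Nat.add_assoc, pow_succ]
          conv_lhs => rw [show p = 1 + (p - 1) from by have := hp'.pos; omega, mul_add, mul_one]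
          rw [show 1 + (p - 1) = p by have := hp'.pos; omega]
        rw [h3, add_one_mul]; omega
    have hsn : s ≤ n := by omega
    have h4 := (hsum (n - s)).resolve_right (by omega)
    rw [Nat.add_sub_cancel' hsn] at h4
    have h5 : lam ^ (q - j) ∣ (p : R) ^ (n - s) := by
      refine (pow_dvd_pow lam (?_ : q - j ≤ p ^ (n - 1) * (p - 1) * (n - s))).trans ?_
      · rw [mul_comm _ (n - s)]; omega
      · rw [pow_mul]; exact pow_dvd_pow_of_dvd hstar _
    refine h5.trans ?_
    rw [show n - s = (q.choose j).factorization p by omega, ← Nat.cast_pow]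
    exact map_dvd (Nat.castRingHom R) (Nat.ordProj_dvd _ _)
  choose! c hc using hkey
  set l := algebraMap R A lam with hl
  have hl0 : l ≠ 0 := fun h => hlam ((FaithfulSMul.algebraMap_injective R A) (h.trans (map_zero _).symm))
  have hcA : ∀ j, 1 ≤ j → j ≤ q → ((q.choose j : ℕ) : A) = l ^ (q - j) * algebraMap R A (c j) := by
    intro j h1 h2
    rw [hl, ← map_pow, ← map_mul, ← hc j h1 h2, map_natCast]
  have hexp : ∀ (S : Type u) [CommRing S] [Algebra A S] (y : S),
      (1 + algebraMap A S l * y) ^ q - 1 = algebraMap A S (l ^ q) *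
        ∑ j ∈ Finset.Icc 1 q, algebraMap A S (algebraMap R A (c j)) * y ^ j := by
    intro S _ _ y
    rw [add_comm (1 : S), add_pow, Finset.range_eq_Ico, Finset.sum_eq_sum_Ico_succ_bot (by omega : 0 < q + 1),
      Finset.mul_sum]
    simp only [pow_zero, one_pow, Nat.choose_zero_right, Nat.cast_one, mul_one, add_sub_cancel_left]
    refine Finset.sum_congr rfl fun j hj => ?_
    rw [Finset.mem_Icc] at hj
    rw [← map_natCast (algebraMap A S), hcA j (by omega) (by omega), mul_pow, map_mul]
    calc algebraMap A S l ^ j * y ^ j * (algebraMap A S (l ^ (q - j)) * algebraMap A S (algebraMap R A (c j)))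
        = algebraMap A S (l ^ (j + (q - j))) * (algebraMap A S (algebraMap R A (c j)) * y ^ j) := by
          simp only [pow_add, map_mul, map_pow]; ring
      _ = _ := by rw [show j + (q - j) = q by omega]
  constructor
  · rintro ⟨z, hz⟩
    let K := FractionRing A
    have hinj : Function.Injective (algebraMap A K) := IsFractionRing.injective A K
    have hlK : algebraMap A K l ≠ 0 := (map_ne_zero_iff _ hinj).2 hl0
    let y : K := (algebraMap A K (x : A) - 1) / algebraMap A K l
    have hy : 1 + algebraMap A K l * y = algebraMap A K (x : A) := by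
      rw [mul_div_cancel₀ _ hlK]; ring
    have heq := hexp K y
    rw [hy, ← map_pow, ← map_one (algebraMap A K), ← map_sub, hz, map_mul] at heq
    have heq2 := mul_left_cancel₀ ((map_ne_zero_iff _ hinj).2 (pow_ne_zero q hl0)) heq
    have hint : IsIntegral A y := by
      let Q : Polynomial A := ∑ j ∈ Finset.Ico 1 q, Polynomial.C (algebraMap R A (c j)) * Polynomial.X ^ j - Polynomial.C z
      have hq1 : 1 ≤ q := Nat.one_le_pow _ _ hp'.pos
      have hcq : algebraMap R A (c q) = 1 := by
        have := hcA q hq1 le_rfl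
        simpa using this.symm
      refine ⟨Polynomial.X ^ q + Q, Polynomial.monic_X_pow_add ?_, ?_⟩
      · refine (Polynomial.degree_sub_le _ _).trans_lt (max_lt ?_ ?_)
        · refine (Polynomial.degree_sum_le _ _).trans_lt ((Finset.sup_lt_iff (WithBot.bot_lt_coe q)).2 fun j hj => ?_)
          exact (Polynomial.degree_C_mul_X_pow_le j _).trans_lt (WithBot.coe_lt_coe.2 (Finset.mem_Ico.1 hj).2)
        · exact Polynomial.degree_C_le.trans_lt (WithBot.coe_lt_coe.2 hq1)
      · simp only [Q, Polynomial.eval₂_add, Polynomial.eval₂_sub, Polynomial.eval₂_finsetSum, Polynomial.eval₂_mul,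
          Polynomial.eval₂_pow, Polynomial.eval₂_X, Polynomial.eval₂_C]
        rw [← Finset.Ico_add_one_right_eq_Icc, Finset.sum_Ico_succ_top hq1, hcq, map_one, one_mul] at heq2
        rw [heq2]; ring
    obtain ⟨w, hw⟩ := IsIntegrallyClosed.isIntegral_iff.1 hint
    refine ⟨w, hinj ?_⟩
    rw [map_mul, hw, mul_div_cancel₀ _ hlK, map_sub, map_one]
  · rintro ⟨w, hw⟩
    refine ⟨∑ j ∈ Finset.Icc 1 q, algebraMap R A (c j) * w ^ j, ?_⟩
    have := hexp A w
    simp only [Algebra.algebraMap_self, RingHom.id_apply] at this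
    rw [← this, ← hw, add_sub_cancel]

end Groth.Agent.S13158
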