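import Groth.Statements.S13162
import Mathlib

set_option autoImplicit false
universe u v
open ZeroCyc

namespace Groth.Agent.S13162

/-- Let a finite group G act on a commutative ring A by ring automorphisms and let p be a prime such
that every integer prime to p is a unit in A. If I is an ideal of A and f ∈ A has G-invariant class
modulo I, then f^(p^k) is congruent modulo I to a G-invariant element of A, where p^k is the exact
power of p dividing the order of G. (The published statement assumes I stable under G, so that G
acts on A/I and the claim reads: the p^k-th power of an invariant of A/I lies in the image of the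
invariants of A; the form here asks only that the class of f be invariant.) -/
theorem result {A : Type u} [CommRing A] {G : Type v} [Group G] [Fintype G]
    [MulSemiringAction G A] (p : ℕ) [Fact p.Prime]
    (hA : ∀ m : ℕ, ¬ p ∣ m → IsUnit (m : A))
    (I : Ideal A) (f : A) (hf : ∀ g : G, g • f - f ∈ I) :
    ∃ a : A, (∀ g : G, g • a = a) ∧ a - f ^ (p ^ (Fintype.card G).factorization p) ∈ I := by
  classical
  obtain ⟨P⟩ : Nonempty (Sylow p G) := inferInstance
  let P' : Subgroup G := P
  haveI : Fintype P' := Fintype.ofFinite _
  haveI : Fintype (G ⧸ P') := Fintype.ofFinite _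
  have hcard : Fintype.card P' = p ^ (Fintype.card G).factorization p := by
    rw [← Nat.card_eq_fintype_card, ← Nat.card_eq_fintype_card]; exact P.card_eq_multiplicity
  set b : A := ∏ h : P', (h : G) • f with hb
  have hbP : ∀ h : P', (h : G) • b = b := by
    intro h
    rw [hb, Finset.smul_prod']
    refine Fintype.prod_equiv (Equiv.mulLeft h) _ _ fun i => ?_
    simp [← mul_smul]
  have hmem : ∀ g : G, Ideal.Quotient.mk I (g • b) =
      Ideal.Quotient.mk I (f ^ (p ^ (Fintype.card G).factorization p)) := by
    intro g
    rw [hb, Finset.smul_prod', map_prod, map_pow]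
    have : ∀ h : P', Ideal.Quotient.mk I (g • (h : G) • f) = Ideal.Quotient.mk I f := fun h => by
      rw [← mul_smul]; exact Ideal.Quotient.eq.2 (hf _)
    simp only [this, Finset.prod_const, Finset.card_univ, hcard]
  have hm : ¬ p ∣ Fintype.card (G ⧸ P') := by
    rw [← Nat.card_eq_fintype_card]
    exact P.not_dvd_index
  obtain ⟨u, hu⟩ := hA _ hm
  have huinv : ∀ g : G, g • ((u⁻¹ : Aˣ) : A) = ((u⁻¹ : Aˣ) : A) := by
    intro g
    apply u.mul_right_inj.1
    have h1 := congrArg (g • ·) u.mul_inv
    simp only [smul_mul', smul_one] at h1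
    rw [u.mul_inv]
    have hfix : g • (u : A) = (u : A) := by
      rw [hu]; exact map_natCast (MulSemiringAction.toRingHom G A g) _
    rw [hfix] at h1
    exact h1
  refine ⟨((u⁻¹ : Aˣ) : A) * ∑ q : G ⧸ P', q.out • b, fun g => ?_, ?_⟩
  · rw [smul_mul', huinv, Finset.smul_sum]
    congr 1
    refine Fintype.sum_equiv (MulAction.toPerm g) _ _ fun q => ?_
    have hq : ((g • q).out)⁻¹ * (g * q.out) ∈ P' := by
      rw [← QuotientGroup.eq, QuotientGroup.out_eq']
      conv_lhs => rw [← QuotientGroup.out_eq' q]
      rfl
    change g • q.out • b = (g • q).out • b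
    conv_rhs => rw [← hbP ⟨_, hq⟩]
    simp [← mul_smul, mul_assoc]
  · rw [← Ideal.Quotient.eq, map_mul, map_sum]
    simp only [hmem, Finset.sum_const, Finset.card_univ, nsmul_eq_mul]
    rw [← mul_assoc, ← map_natCast (Ideal.Quotient.mk I), ← hu, ← map_mul, u.inv_mul, map_one, one_mul]
end Groth.Agent.S13162
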