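import Groth.Statements.S13163
import Mathlib

set_option autoImplicit false
universe u
open ZeroCyc

namespace Groth.Agent.S13163

open Polynomial in
/-- Let P_d(T) = ∏_{0 ≤ i < j ≤ d} (T^i − T^j) − 1 ∈ ℤ[T]. Every residue field of ℤ[T]/(P_d), i.e. every
field receiving a ring homomorphism from it, has at least d + 1 elements. -/
theorem result (d : ℕ) (k : Type u) [Field k]
    (φ : (ℤ[X] ⧸ Ideal.span {(∏ j ∈ Finset.range (d + 1), ∏ i ∈ Finset.range j,
        ((X : ℤ[X]) ^ i - X ^ j)) - 1}) →+* k) :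
    ((d + 1 : ℕ) : Cardinal) ≤ Cardinal.mk k := by
  classical
  set x : k := φ (Ideal.Quotient.mk _ Polynomial.X) with hxdef
  have h1 : φ (Ideal.Quotient.mk _ ((∏ j ∈ Finset.range (d + 1), ∏ i ∈ Finset.range j,
      ((Polynomial.X : Polynomial ℤ) ^ i - Polynomial.X ^ j)) - 1)) = 0 := by
    rw [Ideal.Quotient.eq_zero_iff_mem.2 (Ideal.mem_span_singleton_self _), map_zero]
  simp only [map_sub, map_prod, map_pow, map_one, sub_eq_zero, ← hxdef] at h1
  have hne : ∀ i j : Fin (d + 1), (i : ℕ) < j → x ^ (i : ℕ) ≠ x ^ (j : ℕ) := by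
    intro i j hij h
    have := Finset.prod_eq_zero (s := Finset.range (d + 1))
      (f := fun j => ∏ i ∈ Finset.range j, (x ^ i - x ^ j)) (Finset.mem_range.2 j.2)
      (Finset.prod_eq_zero (Finset.mem_range.2 hij) (sub_eq_zero.2 h))
    exact zero_ne_one (this.symm.trans h1)
  have hinj : Function.Injective fun i : ULift.{u} (Fin (d + 1)) => x ^ (i.down : ℕ) := by
    rintro ⟨i⟩ ⟨j⟩ h
    rcases lt_trichotomy (i : ℕ) j with hl | he | hl
    · exact absurd h (hne i j hl)
    · exact congrArg _ (Fin.ext he)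
    · exact absurd h.symm (hne j i hl)
  simpa using Cardinal.mk_le_of_injective hinj
end Groth.Agent.S13163
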