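import Groth.Statements.S13166
import Mathlib

set_option autoImplicit false
universe u
open ZeroCyc

namespace Groth.Agent.S13166

/-- Let k be a field, B a k-algebra generated as an algebra by a k-subspace V, k'/k a field extension
and x_1, …, x_d pairwise distinct k'-points of B ⊗_k k' (equivalently, distinct k-algebra
homomorphisms B → k'). If k has at least d(d − 1)/2 elements, then there is b ∈ V whose values at
x_1, …, x_d are pairwise distinct. -/
theorem result {k : Type u} [Field k] {B : Type u} [CommRing B] [Algebra k B] (V : Submodule k B)
    (hV : Algebra.adjoin k (V : Set B) = ⊤) {k' : Type u} [Field k'] [Algebra k k']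
    {d : ℕ} (x : Fin d → (B →ₐ[k] k')) (hx : Function.Injective x)
    (hk : ((d.choose 2 : ℕ) : Cardinal) ≤ Cardinal.mk k) :
    ∃ b ∈ V, Function.Injective fun i => x i b := by
  classical
  have key : ∀ (s : Finset (Finset (Fin d))) (p : Finset (Fin d) → Submodule k V), (∀ t ∈ s, p t ≠ ⊤) →
      (s.card : Cardinal) ≤ Cardinal.mk k → ∃ v : V, ∀ t ∈ s, v ∉ p t := by
    intro s p
    induction s using Finset.induction_on with
    | empty => exact fun _ _ => ⟨0, by simp⟩
    | insert j s hj ih =>
      intro hp hc
      rw [Finset.card_insert_of_notMem hj] at hc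
      obtain ⟨a, ha⟩ := ih (fun t ht => hp t (Finset.mem_insert_of_mem ht))
        ((Nat.cast_le.2 s.card.le_succ).trans hc)
      by_cases haj : a ∈ p j
      · obtain ⟨b, -, hb⟩ := SetLike.exists_of_lt (lt_top_iff_ne_top.2 (hp j (Finset.mem_insert_self j s)))
        let g : k → V := fun t => if t = 0 then b else a + t • b
        have hgj : ∀ t, g t ∉ p j := by
          intro t
          by_cases ht : t = 0
          · simpa [g, ht] using hb
          · simp only [g, if_neg ht]
            rwa [(p j).add_mem_iff_right haj, (p j).smul_mem_iff ht]
        by_contra! hall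
        have hmem : ∀ t, ∃ i ∈ s, g t ∈ p i := by
          intro t
          obtain ⟨i, hi, hti⟩ := hall (g t)
          rcases Finset.mem_insert.1 hi with rfl | hi
          · exact absurd hti (hgj t)
          · exact ⟨i, hi, hti⟩
        choose F hF hgF using hmem
        have hinj : Function.Injective fun t => (⟨F t, hF t⟩ : s) := by
          intro t₁ t₂ h
          by_contra hne
          have hFeq : F t₁ = F t₂ := congrArg Subtype.val h
          have h1 := hgF t₁
          have h2 := hgF t₂
          rw [← hFeq] at h2
          apply ha (F t₁) (hF t₁)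
          by_cases hz₁ : t₁ = 0
          · have hz₂ : t₂ ≠ 0 := fun hz => hne (hz₁.trans hz.symm)
            simp only [g, if_pos hz₁] at h1
            simp only [g, if_neg hz₂] at h2
            simpa using (p (F t₁)).sub_mem h2 ((p (F t₁)).smul_mem t₂ h1)
          · simp only [g, if_neg hz₁] at h1
            by_cases hz₂ : t₂ = 0
            · simp only [g, if_pos hz₂] at h2
              simpa using (p (F t₁)).sub_mem h1 ((p (F t₁)).smul_mem t₁ h2)
            · simp only [g, if_neg hz₂] at h2
              have h3 : (t₁ - t₂) • b ∈ p (F t₁) := by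
                convert sub_mem h1 h2 using 1; module
              rw [(p (F t₁)).smul_mem_iff (sub_ne_zero.2 hne)] at h3
              simpa using (p (F t₁)).sub_mem h1 ((p (F t₁)).smul_mem t₁ h3)
        have hfin : Finite k := Finite.of_injective _ hinj
        have hle := Nat.card_le_card_of_injective _ hinj
        rw [Nat.card_eq_finsetCard] at hle
        rw [← Nat.cast_card, Nat.cast_le] at hc
        omega
      · exact ⟨a, fun t ht => by
          rcases Finset.mem_insert.1 ht with rfl | ht
          · exact haj
          · exact ha t ht⟩
  let p : Finset (Fin d) → Submodule k V := fun t => ⨅ i ∈ t, ⨅ j ∈ t,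
    LinearMap.eqLocus ((x i).toLinearMap.comp V.subtype) ((x j).toLinearMap.comp V.subtype)
  obtain ⟨v, hv⟩ := key (Finset.powersetCard 2 Finset.univ) p (by
    intro t ht htop
    rw [Finset.mem_powersetCard, Finset.card_eq_two] at ht
    obtain ⟨-, i, j, hij, rfl⟩ := ht
    apply hij (hx ?_)
    apply AlgHom.ext_of_adjoin_eq_top hV
    intro b hb
    have hm : (⟨b, hb⟩ : V) ∈ p {i, j} := by rw [htop]; trivial
    simp only [p, Submodule.mem_iInf] at hm
    exact hm i (by simp) j (by simp))
    (by simpa using hk)
  refine ⟨v, v.2, fun i j hij => ?_⟩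
  by_contra hne
  apply hv {i, j} (by simp [Finset.mem_powersetCard, Finset.card_pair hne])
  simp only [p, Submodule.mem_iInf]
  intro a ha b hb
  simp only [Finset.mem_insert, Finset.mem_singleton] at ha hb
  rcases ha with rfl | rfl <;> rcases hb with rfl | rfl
  · rfl
  · exact hij
  · exact hij.symm
  · rfl
end Groth.Agent.S13166
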