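import Groth.Statements.S13167
import Mathlib
import Groth.Agent.ZeroCyc.Avoid

set_option autoImplicit false
universe u
open AlgebraicGeometry
open ZeroCyc

namespace Groth.Agent.S13167

/-- Let B be a graded R-algebra generated by its degree-one part B_1, with B_1 a finitely generated
R-module, and let x_1, …, x_d be points of X = Proj B lying over one and the same prime p of R. If
the residue field of p has at least d elements, then some f ∈ B_1 ⊆ Γ(X, O_X(1)) has all the x_i in
D_+(f). (Without the hypothesis on the residue field such an f exists in some B_n with n ≥ 1; that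
first assertion is a known property of ample sheaves and is not restated here.) -/
theorem result {R A : Type u} [CommRing R] [CommRing A] [Algebra R A] (𝒜 : ℕ → Submodule R A) [GradedAlgebra 𝒜]
    (hgen : Algebra.adjoin R (𝒜 1 : Set A) = ⊤) (hfg : (𝒜 1).FG)
    (p : Ideal R) [p.IsPrime] {d : ℕ} (x : Fin d → Proj 𝒜)
    (hx : ∀ i, ((x i).asHomogeneousIdeal.toIdeal).comap (algebraMap R A) = p)
    (hcard : (d : Cardinal) ≤ Cardinal.mk p.ResidueField) :
    ∃ g ∈ 𝒜 1, ∀ i, x i ∈ Proj.basicOpen 𝒜 g := by
  classical
  let κ := p.ResidueField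
  have hsub : ∀ i, ∃ P : Submodule κ (TensorProduct R κ (𝒜 1)), P ≠ ⊤ ∧
      ∀ g : 𝒜 1, ((g : A) ∈ (x i).asHomogeneousIdeal.toIdeal) → (1 : κ) ⊗ₜ[R] g ∈ P := by
    intro i
    set q := (x i).asHomogeneousIdeal.toIdeal with hq
    haveI : q.IsPrime := (x i).isPrime
    let j : κ →+* q.ResidueField := Ideal.ResidueField.map p q (algebraMap R A) (hx i).symm
    letI : Algebra κ q.ResidueField := j.toAlgebra
    haveI : IsScalarTower R κ q.ResidueField := IsScalarTower.of_algebraMap_eq fun r =>
      (Ideal.ResidueField.map_algebraMap p q (algebraMap R A) (hx i).symm r).symm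
    let ev : (𝒜 1) →ₗ[R] q.ResidueField := (IsScalarTower.toAlgHom R A q.ResidueField).toLinearMap.comp (𝒜 1).subtype
    let L : TensorProduct R κ (𝒜 1) →ₗ[κ] q.ResidueField := ev.liftBaseChange κ
    refine ⟨LinearMap.ker L, fun htop => ?_, fun g hg => ?_⟩
    · apply (x i).not_irrelevant_le
      have h1 : ∀ g ∈ 𝒜 1, g ∈ q := fun g hg => by
        have : L ((1 : κ) ⊗ₜ[R] (⟨g, hg⟩ : 𝒜 1)) = 0 := LinearMap.mem_ker.1 (htop ▸ Submodule.mem_top)
        rw [LinearMap.liftBaseChange_tmul, one_smul] at this
        exact Ideal.algebraMap_residueField_eq_zero.1 this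
      intro a ha
      have ha' : a ∈ Algebra.adjoin R (𝒜 1 : Set A) := hgen ▸ Algebra.mem_top
      have key : a - GradedRing.projZeroRingHom 𝒜 a ∈ q := by
        clear ha
        induction ha' using Algebra.adjoin_induction with
        | mem b hb =>
          rw [GradedRing.projZeroRingHom_apply, DirectSum.decompose_of_mem_ne 𝒜 hb (by norm_num), sub_zero]
          exact h1 b hb
        | algebraMap r =>
          rw [GradedRing.projZeroRingHom_apply, DirectSum.decompose_of_mem_same 𝒜 (SetLike.algebraMap_mem_graded 𝒜 r),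
            sub_self]
          exact q.zero_mem
        | add b c _ _ hb hc =>
          rw [map_add, add_sub_add_comm]; exact q.add_mem hb hc
        | mul b c _ _ hb hc =>
          rw [map_mul]
          have : b * c - GradedRing.projZeroRingHom 𝒜 b * GradedRing.projZeroRingHom 𝒜 c =
              (b - GradedRing.projZeroRingHom 𝒜 b) * c +
                GradedRing.projZeroRingHom 𝒜 b * (c - GradedRing.projZeroRingHom 𝒜 c) := by ring
          rw [this]
          exact q.add_mem (q.mul_mem_right _ hb) (q.mul_mem_left _ hc)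
      have h0 : GradedRing.projZeroRingHom 𝒜 a = 0 := ha
      rw [h0, sub_zero] at key
      exact key
    · rw [LinearMap.mem_ker, LinearMap.liftBaseChange_tmul, one_smul]
      exact Ideal.algebraMap_residueField_eq_zero.2 hg
  choose P hP hPmem using hsub
  obtain ⟨v, hv⟩ := Groth.Agent.ZeroCyc.exists_notMem Finset.univ P (fun i _ => hP i) (by simpa using hcard)
  have hgen' : ∀ z : TensorProduct R κ (𝒜 1), ∃ (s : R) (g : 𝒜 1), algebraMap R κ s ≠ 0 ∧ s • z = (1 : κ) ⊗ₜ[R] g := by
    intro z
    induction z using TensorProduct.induction_on with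
    | zero => exact ⟨1, 0, by simp, by simp⟩
    | tmul c g =>
      obtain ⟨a, b, hb, habc⟩ := IsFractionRing.div_surjective (R ⧸ p) c
      obtain ⟨r, rfl⟩ := Ideal.Quotient.mk_surjective a
      obtain ⟨s, rfl⟩ := Ideal.Quotient.mk_surjective b
      have hs : algebraMap R κ s ≠ 0 := fun h => by
        apply nonZeroDivisors.ne_zero hb
        exact Ideal.Quotient.eq_zero_iff_mem.2 (Ideal.algebraMap_residueField_eq_zero.1 h)
      refine ⟨s, r • g, hs, ?_⟩
      rw [TensorProduct.smul_tmul', ← TensorProduct.smul_tmul, Algebra.smul_def, Algebra.smul_def, mul_one, ← habc]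
      congr 1
      change algebraMap R κ s * (algebraMap R κ r / algebraMap R κ s) = algebraMap R κ r
      exact mul_div_cancel₀ _ hs
    | add y z hy hz =>
      obtain ⟨s, g, hs, hy⟩ := hy
      obtain ⟨t, h, ht, hz⟩ := hz
      refine ⟨s * t, t • g + s • h, by rw [map_mul]; exact mul_ne_zero hs ht, ?_⟩
      rw [smul_add, TensorProduct.tmul_add, TensorProduct.tmul_smul, TensorProduct.tmul_smul, ← hy, ← hz,
        smul_smul, smul_smul, mul_comm t s]
  obtain ⟨s, g, hs, hg⟩ := hgen' v
  refine ⟨g, g.2, fun i hi => hv i (Finset.mem_univ i) ?_⟩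
  have hmem : s • v ∈ P i := hg ▸ hPmem i g hi
  rw [← algebraMap_smul κ] at hmem
  exact ((P i).smul_mem_iff hs).1 hmem
end Groth.Agent.S13167
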