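import Groth.Statements.S13168
import Mathlib

set_option autoImplicit false
universe u
open AlgebraicGeometry
open ZeroCyc

namespace Groth.Agent.S13168

/-- Let B be a graded R-algebra generated by homogeneous elements f_1, …, f_s of positive degrees d_1,
…, d_s, let l be the least common multiple of the d_i and X = Proj B. For n = a l with a ≥ 1, X is
the union of the opens D_+(g), g ∈ B_n. -/
theorem result {R A : Type u} [CommRing R] [CommRing A] [Algebra R A] (𝒜 : ℕ → Submodule R A) [GradedAlgebra 𝒜]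
    {s : ℕ} (f : Fin s → A) (deg : Fin s → ℕ) (hdeg : ∀ i, 0 < deg i) (hf : ∀ i, f i ∈ 𝒜 (deg i))
    (hgen : Algebra.adjoin R (Set.range f) = ⊤) (a : ℕ) (ha : 0 < a) :
    (⨆ g : 𝒜 (a * Finset.univ.lcm deg), Proj.basicOpen 𝒜 (g : A)) = ⊤ := by
  classical
  set l := Finset.univ.lcm deg with hl
  have hlpos : 0 < l := Nat.pos_of_ne_zero fun h => by
    obtain ⟨i, -, hi⟩ := Finset.lcm_eq_zero_iff.1 h
    exact (hdeg i).ne' hi
  have hgen0 : Algebra.adjoin (𝒜 0) (Set.range f) = ⊤ := by
    rw [eq_top_iff]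
    intro x _
    have hx : x ∈ Algebra.adjoin R (Set.range f) := hgen ▸ Algebra.mem_top
    induction hx using Algebra.adjoin_induction with
    | mem x hx => exact Algebra.subset_adjoin hx
    | algebraMap r =>
      exact Subalgebra.algebraMap_mem (Algebra.adjoin (𝒜 0) (Set.range f)) ⟨algebraMap R A r, SetLike.algebraMap_mem_graded 𝒜 r⟩
    | add x y _ _ hx hy => exact Subalgebra.add_mem _ (hx trivial) (hy trivial)
    | mul x y _ _ hx hy => exact Subalgebra.mul_mem _ (hx trivial) (hy trivial)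
  rw [eq_top_iff, ← Proj.iSup_basicOpen_eq_top' 𝒜 f (fun i => ⟨_, hf i⟩) hgen0]
  refine iSup_le fun i => ?_
  obtain ⟨c, hc⟩ : deg i ∣ l := Finset.dvd_lcm (Finset.mem_univ i)
  have hcpos : 0 < c := by
    rcases Nat.eq_zero_or_pos c with rfl | h
    · simp at hc; omega
    · exact h
  have hmem : f i ^ (a * c) ∈ 𝒜 (a * l) := by
    rw [hc, show a * (deg i * c) = (a * c) • deg i by rw [smul_eq_mul]; ring]
    exact SetLike.pow_mem_graded _ (hf i)
  refine le_trans ?_ (le_iSup (fun g : 𝒜 (a * l) => Proj.basicOpen 𝒜 (g : A)) ⟨_, hmem⟩)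
  rw [Proj.basicOpen_pow 𝒜 _ _ (Nat.mul_pos ha hcpos)]
end Groth.Agent.S13168
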