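import Groth.Statements.S13171
import Groth.Agent.EtLib9.TwistLcm

set_option autoImplicit false
universe u
open AlgebraicGeometry
open ZeroCyc

set_option backward.isDefEq.respectTransparency.types false
open CategoryTheory Opposite TopologicalSpace
open Groth.Agent.Coherent Groth.Agent.PicLib Groth.Agent.AmpleLib Groth.Agent.TwistLib

namespace Groth.Agent.S13171

variable {R A : Type u} [CommRing R] [CommRing A] [Algebra R A] (𝒜 : ℕ → Submodule R A) [GradedAlgebra 𝒜]
  {s : ℕ} (f : Fin s → A) (deg : Fin s → ℕ) (hf : ∀ i, f i ∈ 𝒜 (deg i))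

include hf in
theorem prod_mem (e : Fin s → ℕ) : ∏ k, f k ^ e k ∈ 𝒜 (∑ k, e k * deg k) :=
  SetLike.prod_mem_graded 𝒜 (fun k => e k * deg k) (fun k => f k ^ e k) (fun k _ => by simpa [smul_eq_mul] using SetLike.pow_mem_graded (e k) (hf k))

/-- The evaluation of a section at a point. -/
noncomputable def evalAt (n : ℤ) (W : (Proj 𝒜).Opens) (x : W) :
    Γ(Twist.twist 𝒜 n, W) →+ Twist.Loc 𝒜 x.1 :=
  AddMonoidHom.mk' (fun s => ((show Twist.sectN (𝒜 := 𝒜) n (op W) from s).1 x).1) fun _ _ => rfl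

include hf in
/-- A monomial of degree `n + J`, times a power of one generator, factors through degree `n`. -/
theorem exists_factor (hdeg : ∀ k, 0 < deg k) (i : Fin s) {n J : ℕ}
    (hn : (s - 1) * (Finset.univ.lcm deg - 1) ≤ n) (hJ : deg i ∣ J) (e : Fin s → ℕ)
    (he : ∑ k, e k * deg k = n + J) :
    ∃ b c : A, b ∈ 𝒜 n ∧ c ∈ 𝒜 (J + n * deg i) ∧ (∏ k, f k ^ e k) * f i ^ n = b * c := by
  classical
  let l := Finset.univ.lcm deg
  let r : Fin s → ℕ := fun k => if k = i then 0 else e k % (l / deg k)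
  let q : Fin s → ℕ := fun k => e k - r k
  have hdvd : ∀ k, deg k ∣ l := fun k => Finset.dvd_lcm (Finset.mem_univ k)
  have hl : 0 < l := Nat.pos_of_ne_zero fun h => by
    obtain ⟨k, -, hk⟩ := Finset.lcm_eq_zero_iff.1 h
    exact (hdeg k).ne' hk
  have hrq : ∀ k, r k + q k = e k := fun k => by
    have : r k ≤ e k := by
      simp only [r]
      split
      · exact Nat.zero_le _
      · exact Nat.mod_le _ _
    simp only [q]; omega
  have hR : ∑ k, r k * deg k ≤ n := by
    have h1 : ∑ k, r k * deg k = ∑ k ∈ Finset.univ.erase i, r k * deg k :=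
      (Finset.sum_erase _ (by simp [r])).symm
    have h2 : ∑ k ∈ Finset.univ.erase i, r k * deg k ≤ (Finset.univ.erase i).card • (l - 1) := by
      refine Finset.sum_le_card_nsmul _ _ _ fun k hk => ?_
      simp only [r, if_neg (Finset.ne_of_mem_erase hk)]
      obtain ⟨c, hc⟩ := hdvd k
      rw [hc, Nat.mul_div_cancel_left _ (hdeg k)]
      have hc0 : 0 < c := by
        rcases Nat.eq_zero_or_pos c with h | h
        · rw [h, mul_zero] at hc; omega
        · exact h
      have := Nat.mod_lt (e k) hc0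
      have h3 : (e k % c + 1) * deg k ≤ c * deg k := Nat.mul_le_mul_right _ this
      have h4 : c * deg k = deg k * c := mul_comm _ _
      have := hdeg k
      rw [add_mul, one_mul] at h3
      omega
    rw [h1]
    refine h2.trans ?_
    rw [Finset.card_erase_of_mem (Finset.mem_univ i), Finset.card_univ, Fintype.card_fin, smul_eq_mul]
    exact hn
  have hq : deg i ∣ ∑ k, q k * deg k := Finset.dvd_sum fun k _ => by
    by_cases hk : k = i
    · subst hk; exact dvd_mul_left _ _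
    · simp only [q, r, if_neg hk]
      refine (hdvd i).trans ?_
      obtain ⟨c, hc⟩ := hdvd k
      rw [hc, Nat.mul_div_cancel_left _ (hdeg k), mul_comm _ (deg k)]
      exact mul_dvd_mul_left _ (Nat.dvd_sub_mod _)
  have hsum : (∑ k, r k * deg k) + ∑ k, q k * deg k = n + J := by
    rw [← Finset.sum_add_distrib, ← he]
    exact Finset.sum_congr rfl fun k _ => by rw [← add_mul, hrq]
  obtain ⟨c, hc⟩ : deg i ∣ n - ∑ k, r k * deg k := by
    obtain ⟨a, ha⟩ := hq
    obtain ⟨b, hb⟩ := hJ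
    exact ⟨a - b, by rw [Nat.mul_sub]; omega⟩
  have hcn : c ≤ n := (Nat.le_mul_of_pos_left c (hdeg i)).trans (by omega)
  have hfp : ∀ m, f i ^ m ∈ 𝒜 (m * deg i) := fun m => by
    simpa [smul_eq_mul] using SetLike.pow_mem_graded m (hf i)
  refine ⟨(∏ k, f k ^ r k) * f i ^ c, (∏ k, f k ^ q k) * f i ^ (n - c), ?_, ?_, ?_⟩
  · have h := SetLike.mul_mem_graded (prod_mem 𝒜 f deg hf r) (hfp c)
    rwa [show (∑ k, r k * deg k) + c * deg i = n by rw [mul_comm c, ← hc]; omega] at h
  · have h := SetLike.mul_mem_graded (prod_mem 𝒜 f deg hf q) (hfp (n - c))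
    rwa [show (∑ k, q k * deg k) + (n - c) * deg i = J + n * deg i by
      have : (n - c) * deg i + c * deg i = n * deg i := by rw [← add_mul, Nat.sub_add_cancel hcn]
      rw [mul_comm c, ← hc] at this
      omega] at h
  · rw [mul_mul_mul_comm, ← Finset.prod_mul_distrib, ← pow_add, show c + (n - c) = n by omega]
    congr 1
    exact Finset.prod_congr rfl fun k _ => by rw [← pow_add, hrq]

include hf in
/-- Homogeneous elements are combinations of monomials of the same degree. -/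
theorem exists_monomials (hgen : Algebra.adjoin R (Set.range f) = ⊤) {D : ℕ} {a : A} (ha : a ∈ 𝒜 D) :
    ∃ (T : Finset (Fin s → ℕ)) (w : (Fin s → ℕ) → R), (∀ e ∈ T, ∑ k, e k * deg k = D) ∧
      ∑ e ∈ T, w e • ∏ k, f k ^ e k = a := by
  classical
  have : a ∈ (MvPolynomial.aeval f : MvPolynomial (Fin s) R →ₐ[R] A).range := by
    rw [← Algebra.adjoin_range_eq_range_aeval, hgen]; trivial
  obtain ⟨p, rfl⟩ := this
  refine ⟨(p.support.image fun m : Fin s →₀ ℕ => (⇑m : Fin s → ℕ)).filter fun e => ∑ k, e k * deg k = D,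
    fun e => p.coeff (Finsupp.equivFunOnFinite.symm e), fun e he => (Finset.mem_filter.1 he).2, ?_⟩
  conv_rhs => rw [← DirectSum.decompose_of_mem_same 𝒜 ha]
  have hp : (MvPolynomial.aeval f : MvPolynomial (Fin s) R →ₐ[R] A) p =
      ∑ m ∈ p.support, p.coeff m • ∏ k, f k ^ m k := by
    rw [MvPolynomial.aeval_def, MvPolynomial.eval₂_eq']
    exact Finset.sum_congr rfl fun m _ => (Algebra.smul_def _ _).symm
  simp only [AlgHom.toRingHom_eq_coe, RingHom.coe_coe]
  rw [hp, DirectSum.decompose_sum, DFinsupp.finset_sum_apply, AddSubmonoidClass.coe_finsetSum, Finset.sum_filter,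
    Finset.sum_image fun m _ m' _ h => DFunLike.coe_injective h]
  refine Finset.sum_congr rfl fun m _ => ?_
  have hm : p.coeff m • ∏ k, f k ^ m k ∈ 𝒜 (∑ k, m k * deg k) := Submodule.smul_mem _ _ (prod_mem 𝒜 f deg hf _)
  split
  · next h =>
      rw [← h, DirectSum.decompose_of_mem_same 𝒜 hm]
      simp
  · next h => rw [DirectSum.decompose_of_mem_ne 𝒜 hm h]


/-- Let B be a graded R-algebra generated by homogeneous elements f_1, …, f_s of positive degrees d_1,
…, d_s, let l be the least common multiple of the d_i and X = Proj B. For n ≥ (s − 1)(l − 1), O_X(n)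
is generated by its global sections b/1, b ∈ B_n. -/
theorem result {R A : Type u} [CommRing R] [CommRing A] [Algebra R A] (𝒜 : ℕ → Submodule R A) [GradedAlgebra 𝒜]
    {s : ℕ} (f : Fin s → A) (deg : Fin s → ℕ) (hdeg : ∀ i, 0 < deg i) (hf : ∀ i, f i ∈ 𝒜 (deg i))
    (hgen : Algebra.adjoin R (Set.range f) = ⊤) (n : ℕ) (hn : (s - 1) * (Finset.univ.lcm deg - 1) ≤ n) :
    ProjUP.GeneratedBy (Twist.twist 𝒜 (n : ℤ))
      (fun b : 𝒜 n => (Twist.globalOf 𝒜 b : ProjUP.Γm (Twist.twist 𝒜 (n : ℤ)))) := by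
  classical
  intro x
  refine eq_top_iff.2 fun v _ => ?_
  obtain ⟨W, hxW, a, rfl⟩ := (Twist.twist 𝒜 (n : ℤ)).presheaf.exists_germ_eq v
  let a' : Twist.sectN (𝒜 := 𝒜) (n : ℤ) (op W) := a
  obtain ⟨V, hxV, iV, p, j, α, t, nin, hdeg', hv⟩ := a'.2 ⟨x, hxW⟩
  rcases hdeg' with hd | h0
  swap
  · have : resM (Twist.twist 𝒜 (n : ℤ)) (leOfHom iV) a = 0 := by
      refine sectN_ext (f := (show Twist.sectN (𝒜 := 𝒜) (n : ℤ) (op V) from resM _ (leOfHom iV) a))
        (g := 0) fun y => (hv y).trans ?_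
      rw [h0, Localization.mk_zero]
      rfl
    rw [← TopCat.Presheaf.germ_res_apply (Twist.twist 𝒜 (n : ℤ)).presheaf iV x hxV a]
    erw [show (Twist.twist 𝒜 (n : ℤ)).presheaf.map iV.op a = 0 from this, map_zero]
    exact zero_mem _
  have hp : p = j + n := by omega
  subst hp
  obtain ⟨i, hi⟩ : ∃ i, f i ∉ x.asHomogeneousIdeal.toIdeal := by
    by_contra! h
    refine x.not_irrelevant_le (show (HomogeneousIdeal.irrelevant 𝒜).toIdeal ≤ x.asHomogeneousIdeal.toIdeal from
      fun y hy => ?_)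
    rw [← DirectSum.sum_support_decompose 𝒜 y]
    refine Ideal.sum_mem _ fun D hD => ?_
    obtain ⟨T, w, hT, hTy⟩ := exists_monomials 𝒜 f deg hf hgen (DirectSum.decompose 𝒜 y D).2
    rw [← hTy]
    refine Ideal.sum_mem _ fun e he => Submodule.smul_of_tower_mem _ _ ?_
    obtain ⟨k, hk⟩ : ∃ k, e k ≠ 0 := by
      by_contra! h'
      have h2 := hT e he
      simp only [h', zero_mul, Finset.sum_const_zero] at h2
      subst h2
      exact DFinsupp.mem_support_iff.1 hD (Subtype.ext hy)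
    rw [← Finset.mul_prod_erase _ _ (Finset.mem_univ k)]
    exact Ideal.mul_mem_right _ _ (Ideal.pow_mem_of_mem _ (h k) _ (Nat.pos_of_ne_zero hk))
  let V' : (Proj 𝒜).Opens := (show (Proj 𝒜).Opens from V) ⊓ Proj.basicOpen 𝒜 (f i)
  have hV' : V' ≤ W := inf_le_left.trans (leOfHom iV)
  -- numerator and denominator with a power of the chosen generator
  have hα : α.1 * t.1 ^ (deg i - 1) ∈ 𝒜 (n + j * deg i) := by
    have h1 := SetLike.mul_mem_graded α.2 (SetLike.pow_mem_graded (deg i - 1) t.2)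
    obtain ⟨m, hm⟩ : ∃ m, deg i = m + 1 := ⟨deg i - 1, by have := hdeg i; omega⟩
    rw [hm] at h1 ⊢
    simp only [Nat.add_sub_cancel, smul_eq_mul] at h1 ⊢
    rwa [show n + j * (m + 1) = j + n + m * j by ring]
  obtain ⟨T, w, hT, hTsum⟩ := exists_monomials 𝒜 f deg hf hgen hα
  choose b c hb hc hbc using fun e : T => exists_factor 𝒜 f deg hf hdeg i hn (dvd_mul_left (deg i) j) e.1 (hT e.1 e.2)
  have hden : t.1 ^ deg i * f i ^ n ∈ 𝒜 (j * deg i + n * deg i) := by
    refine SetLike.mul_mem_graded ?_ (by simpa [smul_eq_mul] using SetLike.pow_mem_graded n (hf i))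
    simpa [smul_eq_mul, mul_comm] using SetLike.pow_mem_graded (deg i) t.2
  have hdnin : ∀ y : V', t.1 ^ deg i * f i ^ n ∉ y.1.asHomogeneousIdeal := fun y h =>
    (y.1.isPrime.mem_or_mem h).elim (fun h' => nin ⟨y.1, y.2.1⟩ (y.1.isPrime.mem_of_pow_mem _ h'))
      (fun h' => y.2.2 (y.1.isPrime.mem_of_pow_mem _ h'))
  let co : T → Twist.O (𝒜 := 𝒜) (op V') := fun e =>
    ⟨fun y => HomogeneousLocalization.mk
        ⟨j * deg i + n * deg i, ⟨w e.1 • c e, Submodule.smul_mem _ _ (hc e)⟩, ⟨_, hden⟩, hdnin y⟩,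
      fun y => ⟨V', y.2, 𝟙 _, j * deg i + n * deg i, ⟨w e.1 • c e, Submodule.smul_mem _ _ (hc e)⟩, ⟨_, hden⟩,
        hdnin, fun _ => rfl⟩⟩
  let co' : T → Γ(Proj 𝒜, V') := co
  let g : T → Γ(Twist.twist 𝒜 (n : ℤ), ⊤) := fun e => Twist.globalOf 𝒜 ⟨b e, hb e⟩
  have key : resM (Twist.twist 𝒜 (n : ℤ)) hV' a =
      ∑ e, co' e • resM (Twist.twist 𝒜 (n : ℤ)) le_top (g e) := by
    refine sectN_ext (f := (show Twist.sectN (𝒜 := 𝒜) (n : ℤ) (op V') from resM _ hV' a))
      (g := (show Twist.sectN (𝒜 := 𝒜) (n : ℤ) (op V') from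
        ∑ e, co' e • resM (Twist.twist 𝒜 (n : ℤ)) le_top (g e))) fun y => ?_
    refine (hv ⟨y.1, y.2.1⟩).trans (Eq.trans ?_ (map_sum (evalAt 𝒜 (n : ℤ) V' y) _ _).symm)
    refine Eq.trans ?_ (Finset.sum_congr rfl fun e _ => Eq.symm ?_)
      (b := ∑ e : T, Localization.mk (w e.1 • c e * b e) ⟨_, hdnin y⟩)
    · have hsum : ∑ e : T, w e.1 • c e * b e = α.1 * t.1 ^ (deg i - 1) * f i ^ n := by
        rw [← hTsum, Finset.sum_mul]
        refine Eq.trans (Finset.sum_congr rfl fun e _ => ?_) (Finset.sum_coe_sort T _)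
        rw [smul_mul_assoc, smul_mul_assoc, hbc e, mul_comm (c e)]
      rw [← Localization.mk_sum, hsum]
      refine Localization.mk_eq_mk_iff.2 (Localization.r_iff_exists.2 ⟨1, ?_⟩)
      simp only [Submonoid.coe_one, one_mul]
      obtain ⟨m, hm⟩ : ∃ m, deg i = m + 1 := ⟨deg i - 1, by have := hdeg i; omega⟩
      rw [hm]
      simp only [Nat.add_sub_cancel]
      ring
    · refine (oSmul_val (co e) _ y).trans ?_
      refine (congrArg (· * _) (HomogeneousLocalization.val_mk _)).trans ?_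
      refine (Localization.mk_mul _ _ _ _).trans (Localization.mk_eq_mk_iff.2 (Localization.r_iff_exists.2 ⟨1, ?_⟩))
      simp only [Submonoid.coe_mul, Submonoid.coe_one]
      ring
  have hxV' : x ∈ V' := ⟨hxV, hi⟩
  rw [← TopCat.Presheaf.germ_res_apply (Twist.twist 𝒜 (n : ℤ)).presheaf (homOfLE hV') x hxV' a]
  erw [key, map_sum]
  refine Submodule.sum_mem _ fun e _ => ?_
  erw [PresheafOfModules.germ_smul (Twist.twist 𝒜 (n : ℤ)).val x V' hxV']
  refine Submodule.smul_mem _ _ (Submodule.subset_span ⟨⟨b e, hb e⟩, ?_⟩)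
  exact (TopCat.Presheaf.germ_res_apply (Twist.twist 𝒜 (n : ℤ)).presheaf _ _ hxV' (g e)).symm

end Groth.Agent.S13171
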