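import Groth.Statements.S13172
import Groth.Agent.EtLib9.TwistLcm

set_option autoImplicit false
universe u
open AlgebraicGeometry
open ZeroCyc

set_option backward.isDefEq.respectTransparency.types false
open CategoryTheory Opposite TopologicalSpace
open Groth.Agent.Coherent Groth.Agent.PicLib Groth.Agent.AmpleLib Groth.Agent.TwistLib Groth.Agent.FlatMor12.TwistAmpleOpen

namespace Groth.Agent.S13172

theorem exists_mem {R A : Type u} [CommRing R] [CommRing A] [Algebra R A] (𝒜 : ℕ → Submodule R A) [GradedAlgebra 𝒜]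
    (hcov : (⨆ g : 𝒜 1, Proj.basicOpen 𝒜 (g : A)) = ⊤) (n : ℕ) (x : Proj 𝒜) :
    ∃ g ∈ 𝒜 n, x ∈ Proj.basicOpen 𝒜 g := by
  obtain ⟨⟨g, hg⟩, hx⟩ := Opens.mem_iSup.1 (hcov.ge (show x ∈ (⊤ : (Proj 𝒜).Opens) from trivial))
  exact ⟨g ^ n, by simpa using SetLike.pow_mem_graded n hg, fun h => hx (x.isPrime.mem_of_pow_mem n h)⟩

theorem glocus_eq {R A : Type u} [CommRing R] [CommRing A] [Algebra R A] (𝒜 : ℕ → Submodule R A) [GradedAlgebra 𝒜]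
    (hcov : (⨆ g : 𝒜 1, Proj.basicOpen 𝒜 (g : A)) = ⊤) {n : ℕ} {g : A} (hg : g ∈ 𝒜 n) :
    glocus (Twist.twist 𝒜 (n : ℤ)) (show Γ(Twist.twist 𝒜 (n : ℤ), ⊤) from Twist.globalOf 𝒜 ⟨g, hg⟩) =
      Proj.basicOpen 𝒜 g := by
  have htop : chartOpen (𝒜 := 𝒜) n = ⊤ := top_le_iff.mp fun x _ => by
    obtain ⟨g, hg, hx⟩ := exists_mem 𝒜 hcov n x
    exact Opens.mem_iSup.2 ⟨⟨g, hg⟩, hx⟩
  have key : ∀ (k : ℕ) (hk : k = n) (hg' : g ∈ 𝒜 k),
      glocus (Twist.twist 𝒜 (k : ℤ)) (show Γ(Twist.twist 𝒜 (k : ℤ), ⊤) from Twist.globalOf 𝒜 ⟨g, hg'⟩) ⊓ chartOpen n =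
        Proj.basicOpen 𝒜 g ⊓ chartOpen n →
      glocus (Twist.twist 𝒜 (n : ℤ)) (show Γ(Twist.twist 𝒜 (n : ℤ), ⊤) from Twist.globalOf 𝒜 ⟨g, hg⟩) =
        Proj.basicOpen 𝒜 g := by
    rintro k rfl hg' h
    rwa [htop, inf_top_eq, inf_top_eq] at h
  exact key (1 * n) (one_mul n) (by rwa [one_mul]) (glocus_globalOf_inf (d := n) (n := 1) (by rwa [one_mul]))


/-- Let B be a graded R-algebra generated by elements of degree at most d (no finiteness assumed) such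
that X = Proj B is covered by the opens D_+(g), g ∈ B_1. Then for every n ≥ 1, O_X(n) is generated
by its global sections b/1, b ∈ B_n. -/
theorem result {R A : Type u} [CommRing R] [CommRing A] [Algebra R A] (𝒜 : ℕ → Submodule R A) [GradedAlgebra 𝒜]
    (d : ℕ) (hgen : Algebra.adjoin R (⋃ i ∈ Finset.range (d + 1), (𝒜 i : Set A)) = ⊤)
    (hcov : (⨆ g : 𝒜 1, Proj.basicOpen 𝒜 (g : A)) = ⊤) (n : ℕ) (hn : 0 < n) :
    ProjUP.GeneratedBy (Twist.twist 𝒜 (n : ℤ))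
      (fun b : 𝒜 n => (Twist.globalOf 𝒜 b : ProjUP.Γm (Twist.twist 𝒜 (n : ℤ)))) := by
  intro x
  obtain ⟨g, hg, hx⟩ := exists_mem 𝒜 hcov n x
  let a : Γ(Twist.twist 𝒜 (n : ℤ), ⊤) := Twist.globalOf 𝒜 ⟨g, hg⟩
  have hxa : x ∈ glocus _ a := (glocus_eq 𝒜 hcov hg).ge hx
  obtain hb := (VarietyLib.gen_germ_bijective (isGen_glocus a) hxa).2
  refine eq_top_iff.2 fun v _ => ?_
  obtain ⟨r, hr⟩ := hb v
  rw [← hr]
  refine Submodule.smul_mem _ r (Submodule.subset_span ⟨⟨g, hg⟩, ?_⟩)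
  exact (TopCat.Presheaf.germ_res_apply (Twist.twist 𝒜 (n : ℤ)).presheaf _ _ hxa a).symm

end Groth.Agent.S13172
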