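import Groth.Statements.S13173
import Groth.Agent.EtLib9.TwistLcm

set_option autoImplicit false
universe u
open AlgebraicGeometry
open ZeroCyc

set_option backward.isDefEq.respectTransparency.types false
open CategoryTheory Opposite TopologicalSpace
open Groth.Agent.Coherent Groth.Agent.PicLib Groth.Agent.AmpleLib Groth.Agent.TwistLib Groth.Agent.FlatMor12.TwistAmpleOpen

namespace Groth.Agent.S13173

theorem exists_mem {R A : Type u} [CommRing R] [CommRing A] [Algebra R A] (𝒜 : ℕ → Submodule R A) [GradedAlgebra 𝒜]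
    (hcov : (⨆ g : 𝒜 1, Proj.basicOpen 𝒜 (g : A)) = ⊤) (n : ℕ) (x : Proj 𝒜) :
    ∃ g ∈ 𝒜 n, x ∈ Proj.basicOpen 𝒜 g := by
  obtain ⟨⟨g, hg⟩, hx⟩ := Opens.mem_iSup.1 (hcov.ge (show x ∈ (⊤ : (Proj 𝒜).Opens) from trivial))
  exact ⟨g ^ n, by simpa using SetLike.pow_mem_graded n hg, fun h => hx (x.isPrime.mem_of_pow_mem n h)⟩

theorem glocus_eq {R A : Type u} [CommRing R] [CommRing A] [Algebra R A] (𝒜 : ℕ → Submodule R A) [GradedAlgebra 𝒜]
    (hcov : (⨆ g : 𝒜 1, Proj.basicOpen 𝒜 (g : A)) = ⊤) {n : ℕ} {g : A} (hg : g ∈ 𝒜 n) :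
    glocus (Twist.twist 𝒜 (n : ℤ)) (show Γ(Twist.twist 𝒜 (n : ℤ), ⊤) from Twist.globalOf 𝒜 ⟨g, hg⟩) =
      Proj.basicOpen 𝒜 g := by
  have htop : chartOpen (𝒜 := 𝒜) n = ⊤ := top_le_iff.mp fun x _ => by
    obtain ⟨g, hg, hx⟩ := exists_mem 𝒜 hcov n x
    exact Opens.mem_iSup.2 ⟨⟨g, hg⟩, hx⟩
  have key : ∀ (k : ℕ) (hk : k = n) (hg' : g ∈ 𝒜 k),
      glocus (Twist.twist 𝒜 (k : ℤ)) (show Γ(Twist.twist 𝒜 (k : ℤ), ⊤) from Twist.globalOf 𝒜 ⟨g, hg'⟩) ⊓ chartOpen n =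
        Proj.basicOpen 𝒜 g ⊓ chartOpen n →
      glocus (Twist.twist 𝒜 (n : ℤ)) (show Γ(Twist.twist 𝒜 (n : ℤ), ⊤) from Twist.globalOf 𝒜 ⟨g, hg⟩) =
        Proj.basicOpen 𝒜 g := by
    rintro k rfl hg' h
    rwa [htop, inf_top_eq, inf_top_eq] at h
  exact key (1 * n) (one_mul n) (by rwa [one_mul]) (glocus_globalOf_inf (d := n) (n := 1) (by rwa [one_mul]))


/-- Let B be a graded R-algebra generated by elements of degree at most d, such that X = Proj B is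
quasi-compact and covered by the opens D_+(g), g ∈ B_1. Then O_X(n) is ample for every n ≥ 1. (The
published statement does not assume X quasi-compact, which ampleness as used here requires and which
fails for a polynomial ring in infinitely many degree-one variables; this row assumes it.) -/
theorem result {R A : Type u} [CommRing R] [CommRing A] [Algebra R A] (𝒜 : ℕ → Submodule R A) [GradedAlgebra 𝒜]
    (d : ℕ) (hgen : Algebra.adjoin R (⋃ i ∈ Finset.range (d + 1), (𝒜 i : Set A)) = ⊤)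
    (hcov : (⨆ g : 𝒜 1, Proj.basicOpen 𝒜 (g : A)) = ⊤) [CompactSpace (Proj 𝒜)] (n : ℕ) (hn : 0 < n) :
    CohB1.IsAmple (Twist.twist 𝒜 (n : ℤ)) := by
  refine isAmple_iff_affGlocus.2 ⟨isInvertible_of_gens fun x => ?_, inferInstance, fun x => ?_⟩
  · obtain ⟨g, hg, hx⟩ := exists_mem 𝒜 hcov n x
    exact ⟨_, (glocus_eq 𝒜 hcov hg).ge hx, _, isGen_glocus _⟩
  obtain ⟨g, hg, hx⟩ := exists_mem 𝒜 hcov n x
  let e : Twist.twist 𝒜 (n : ℤ) ≅ CohB1.tensorPow (Twist.twist 𝒜 (n : ℤ)) 1 := (unitTensorIso _).symm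
  have hloc : glocus _ (e.hom.app ⊤ (show Γ(Twist.twist 𝒜 (n : ℤ), ⊤) from Twist.globalOf 𝒜 ⟨g, hg⟩)) =
      Proj.basicOpen 𝒜 g := (glocus_map_iso e _).trans (glocus_eq 𝒜 hcov hg)
  exact ⟨1, one_pos, _, hloc.ge hx, le_top, hloc ▸ Proj.isAffineOpen_basicOpen 𝒜 g hg hn⟩

end Groth.Agent.S13173
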