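import Groth.Statements.S13175
import Mathlib

set_option autoImplicit false
universe u v w
open scoped TensorProduct
open ZeroCyc

namespace Groth.Agent.S13175

/-- Let B and C be A-algebras and F : B → C a polynomial law. If the maps F over the polynomial rings
A[t_1, …, t_n], n ≥ 0, are multiplicative (send 1 to 1 and products to products), then F is a
multiplicative law: F sends 1 to 1 and products to products over every A-algebra. -/
theorem result {A : Type u} [CommRing A] {B : Type v} [CommRing B] [Algebra A B] {C : Type w} [CommRing C] [Algebra A C]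
    (F : B →ₚₗ[A] C)
    (h1 : ∀ n : ℕ, F.toFun' (MvPolynomial (Fin n) A) 1 = 1)
    (hmul : ∀ (n : ℕ) (x y : MvPolynomial (Fin n) A ⊗[A] B),
      F.toFun' (MvPolynomial (Fin n) A) (x * y) = F.toFun' (MvPolynomial (Fin n) A) x * F.toFun' (MvPolynomial (Fin n) A) y) :
    ∀ (S : Type u) [CommRing S] [Algebra A S], F.toFun' S 1 = 1 ∧
      ∀ x y : S ⊗[A] B, F.toFun' S (x * y) = F.toFun' S x * F.toFun' S y := by
  intro S _ _
  constructor
  · have h := PolynomialLaw.isCompat_apply' (f := F)
      (MvPolynomial.aeval (fun i : Fin 0 => i.elim0) : MvPolynomial (Fin 0) A →ₐ[A] S) 1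
    rw [h1] at h
    simpa [Algebra.TensorProduct.one_def] using h.symm
  · intro x y
    obtain ⟨n, ψ, p, rfl⟩ := PolynomialLaw.exists_lift x
    obtain ⟨m, χ, q, rfl⟩ := PolynomialLaw.exists_lift y
    let ω : MvPolynomial (Fin (n + m)) A →ₐ[A] S :=
      MvPolynomial.aeval (Fin.append (fun i => ψ (MvPolynomial.X i)) (fun i => χ (MvPolynomial.X i)))
    have hl : ω.comp (MvPolynomial.rename (Fin.castAdd m)) = ψ :=
      MvPolynomial.algHom_ext fun i => by simp [ω]
    have hr : ω.comp (MvPolynomial.rename (Fin.natAdd n)) = χ :=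
      MvPolynomial.algHom_ext fun i => by simp [ω]
    let T : MvPolynomial (Fin (n + m)) A ⊗[A] B →ₐ[A] S ⊗[A] B := Algebra.TensorProduct.map ω (AlgHom.id A B)
    let T' : MvPolynomial (Fin (n + m)) A ⊗[A] C →ₐ[A] S ⊗[A] C := Algebra.TensorProduct.map ω (AlgHom.id A C)
    have hTF : ∀ z, F.toFun' S (T z) = T' (F.toFun' _ z) := fun z =>
      (PolynomialLaw.isCompat_apply' (f := F) ω z).symm
    have hp : ψ.toLinearMap.rTensor B p =
        T ((MvPolynomial.rename (Fin.castAdd m)).toLinearMap.rTensor B p) := by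
      rw [← hl, AlgHom.comp_toLinearMap, LinearMap.rTensor_comp]; rfl
    have hq : χ.toLinearMap.rTensor B q =
        T ((MvPolynomial.rename (Fin.natAdd n)).toLinearMap.rTensor B q) := by
      rw [← hr, AlgHom.comp_toLinearMap, LinearMap.rTensor_comp]; rfl
    rw [hp, hq, ← map_mul, hTF, hTF, hTF, hmul, map_mul]
end Groth.Agent.S13175
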