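import Groth.Statements.S13176
import Groth.Agent.QuotHomeo28.Basic
-- import your own Groth.Agent.* helpers here

set_option autoImplicit false
set_option linter.style.haveILetI false
set_option backward.isDefEq.respectTransparency false
universe u
open CategoryTheory CategoryTheory.Limits AlgebraicGeometry
open ZeroCyc

namespace Groth.Agent.S13176

/-- Let a finite group G act on a scheme X over S through ρ, let q : X → Y be a quotient of X by G over
S (affine, G-invariant, O_Y = the G-invariant sections of O_X), let S' → S be any morphism and X' =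
X ×_S S' with the induced action ρ', and let r : X' → Y' be a quotient of X' by G. Then the morphism
Y' → Y ×_S S' through which the canonical map X' → Y ×_S S' factors via r is a universal
homeomorphism. (The published statement assumes every G-orbit lies in an affine open, which is what
makes the quotients exist; here the two quotients are hypotheses.) -/
theorem result {X Y S S' Y' : Scheme.{u}} {G : Type u} [Group G] [Finite G]
    (ρ : G →* Aut X) (f : X ⟶ S) (hρ : ∀ σ : G, (ρ σ).hom ≫ f = f)
    (q : X ⟶ Y) (h : Y ⟶ S) (hq : q ≫ h = f) (hquot : SGA1.IsQuot ρ q)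
    (g : S' ⟶ S)
    (ρ' : G →* Aut (pullback f g))
    (hρ' : ∀ σ : G, (ρ' σ).hom ≫ pullback.fst f g = pullback.fst f g ≫ (ρ σ).hom ∧
      (ρ' σ).hom ≫ pullback.snd f g = pullback.snd f g)
    (r : pullback f g ⟶ Y') (hr : SGA1.IsQuot ρ' r)
    (m : Y' ⟶ pullback h g)
    (hm : r ≫ m = pullback.map f g h g q (𝟙 S') (𝟙 S)
      ((Category.comp_id f).trans hq.symm) ((Category.comp_id g).trans (Category.id_comp g).symm)) :
    FlatMor.IsUnivHomeo m := by
  haveI := Groth.Agent.SGA1Quot.surjective hr
  haveI := Groth.Agent.SGA1Quot.surjective hquot
  haveI := Groth.Agent.SGA1Quot.isIntegralHom hquot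
  have h1 : UniversallyClosed (r ≫ m) := by
    rw [hm]
    exact MorphismProperty.pullback_map (P := @UniversallyClosed) (inferInstance : UniversallyClosed q)
      (inferInstance : UniversallyClosed (𝟙 S')) hq.symm (Category.id_comp g).symm
  have h2 : Surjective (r ≫ m) := by
    rw [hm]
    exact MorphismProperty.pullback_map (P := @Surjective) (inferInstance : Surjective q)
      (inferInstance : Surjective (𝟙 S')) hq.symm (Category.id_comp g).symm
  refine Groth.Agent.QuotHomeo28.isUnivHomeo_of_points r m fun K _ a b hab => ?_
  rw [hm] at hab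
  have e1 := congrArg (· ≫ pullback.fst h g) hab
  have e2 := congrArg (· ≫ pullback.snd h g) hab
  simp only [Category.assoc, pullback.lift_fst, pullback.lift_snd, Category.comp_id] at e1 e2
  obtain ⟨σ, hσ⟩ := Groth.Agent.QuotHomeo28.exists_point_eq hquot (a ≫ pullback.fst f g) (b ≫ pullback.fst f g)
    (by simpa only [Category.assoc] using e1)
  have hb : a ≫ (ρ' σ).hom = b := by
    apply pullback.hom_ext
    · rw [Category.assoc, (hρ' σ).1, ← Category.assoc, hσ]
    · rw [Category.assoc, (hρ' σ).2, e2]
  rw [← hb, Category.assoc, hr.inv]

end Groth.Agent.S13176
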