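import Groth.Statements.S13177
import Groth.Agent.QuotHomeo28.Basic
import Groth.Agent.ModPairLib.MProd
-- import your own Groth.Agent.* helpers here

set_option autoImplicit false
set_option linter.style.haveILetI false
set_option backward.isDefEq.respectTransparency false
universe u
open CategoryTheory CategoryTheory.Limits AlgebraicGeometry
open ZeroCyc

namespace Groth.Agent.S13177

/-- Let a finite group G act on a scheme X with quotient q : X → Y (affine, G-invariant, O_Y = the
invariant sections), let i : Z → X be a G-stable closed subscheme with the induced action and r : Z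
→ W a quotient of Z by G, and let q(Z) be the scheme-theoretic image of Z in Y. Then the morphism W
→ q(Z) through which Z → q(Z) factors via r is a schematically dominant universal homeomorphism.
(The published statement assumes the quotient of X exists; here both quotients are hypotheses.) -/
theorem result {X Y Z W : Scheme.{u}} {G : Type u} [Group G] [Finite G]
    (ρ : G →* Aut X) (q : X ⟶ Y) (hquot : SGA1.IsQuot ρ q)
    (i : Z ⟶ X) [IsClosedImmersion i] (ρZ : G →* Aut Z) (hρZ : ∀ σ : G, (ρZ σ).hom ≫ i = i ≫ (ρ σ).hom)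
    (r : Z ⟶ W) (hr : SGA1.IsQuot ρZ r)
    (m : W ⟶ (i ≫ q).ker.subscheme) (hm : r ≫ m ≫ (i ≫ q).ker.subschemeι = i ≫ q) :
    FlatMor.IsUnivHomeo m ∧ IsSchemeTheoreticallyDominant m := by
  haveI := Groth.Agent.SGA1Quot.surjective hr
  haveI := Groth.Agent.SGA1Quot.isIntegralHom hquot
  haveI : IsIntegralHom (i ≫ q) := inferInstance
  have hlift : r ≫ m = (i ≫ q).toImage := by
    rw [← cancel_mono (i ≫ q).ker.subschemeι, Category.assoc]
    exact hm.trans (Scheme.Hom.toImage_imageι (i ≫ q)).symm
  haveI : UniversallyClosed (r ≫ m) := by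
    haveI : UniversallyClosed ((r ≫ m) ≫ (i ≫ q).ker.subschemeι) := by
      rw [Category.assoc, hm]; infer_instance
    exact UniversallyClosed.of_comp_of_isSeparated _ (i ≫ q).ker.subschemeι
  haveI : IsDominant (r ≫ m) := by rw [hlift]; infer_instance
  haveI : Surjective (r ≫ m) := ⟨fun w => by
    have h := (r ≫ m).denseRange.closure_eq
    rw [(r ≫ m).isClosedMap.isClosed_range.closure_eq] at h
    exact (Set.ext_iff.1 h w).2 trivial⟩
  refine ⟨Groth.Agent.QuotHomeo28.isUnivHomeo_of_points r m fun K _ a b hab => ?_, ⟨?_⟩⟩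
  · have e1 := congrArg (· ≫ (i ≫ q).ker.subschemeι) hab
    simp only [Category.assoc, hm] at e1
    obtain ⟨σ, hσ⟩ := Groth.Agent.QuotHomeo28.exists_point_eq hquot (a ≫ i) (b ≫ i)
      (by simpa only [Category.assoc] using e1)
    have hb : a ≫ (ρZ σ).hom = b := by
      rw [← cancel_mono i, Category.assoc, hρZ, ← Category.assoc, hσ]
    rw [← hb, Category.assoc, hr.inv]
  · have h := Scheme.Hom.le_ker_comp r m
    rw [hlift] at h
    exact le_bot_iff.1 (h.trans_eq (Groth.Agent.ModPairLib.ker_toImage (i ≫ q)))

end Groth.Agent.S13177
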