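import Groth.Statements.S13178
import Groth.Agent.CommAlg4.FieldLaws
-- import your own Groth.Agent.* helpers here

set_option autoImplicit false
universe u
open scoped TensorProduct
open ZeroCyc

open Groth.Agent.CommAlg4.FieldLaws

namespace Groth.Agent.S13178

/-- Let K/k be a finite field extension with separable degree d_s and exponent e (the least e ≥ 1 such
that x^e is separable over k for every x ∈ K), and let d ≥ 0. The k-points of Γ^d(Spec K / Spec k)
are the multiplicative polynomial laws K → k over k that are homogeneous of degree d; there is at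
most one such law, and one exists if and only if the quasi-degree d_s·e divides d. (The
identification of k-points of Γ^d with multiplicative homogeneous laws is the universal property of
the algebra of divided powers; the row is stated directly for laws.) -/
theorem result {k : Type u} [Field k] {K : Type u} [Field K] [Algebra k K]
    [FiniteDimensional k K] (d e : ℕ) (he : 0 < e) (hexp : ∀ x : K, x ^ e ∈ separableClosure k K)
    (hmin : ∀ n : ℕ, 0 < n → (∀ x : K, x ^ n ∈ separableClosure k K) → e ≤ n) :
    (∀ F F' : K →ₚₗ[k] k,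
      ((∀ (S : Type u) [CommRing S] [Algebra k S], F.toFun' S 1 = 1 ∧
        ∀ x y : S ⊗[k] K, F.toFun' S (x * y) = F.toFun' S x * F.toFun' S y) ∧
      ∀ (S : Type u) [CommRing S] [Algebra k S] (a : S) (z : S ⊗[k] K), F.toFun' S (a • z) = a ^ d • F.toFun' S z) →
      ((∀ (S : Type u) [CommRing S] [Algebra k S], F'.toFun' S 1 = 1 ∧
        ∀ x y : S ⊗[k] K, F'.toFun' S (x * y) = F'.toFun' S x * F'.toFun' S y) ∧
      ∀ (S : Type u) [CommRing S] [Algebra k S] (a : S) (z : S ⊗[k] K), F'.toFun' S (a • z) = a ^ d • F'.toFun' S z) → F = F') ∧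
    ((∃ F : K →ₚₗ[k] k, ((∀ (S : Type u) [CommRing S] [Algebra k S], F.toFun' S 1 = 1 ∧
        ∀ x y : S ⊗[k] K, F.toFun' S (x * y) = F.toFun' S x * F.toFun' S y) ∧
      ∀ (S : Type u) [CommRing S] [Algebra k S] (a : S) (z : S ⊗[k] K), F.toFun' S (a • z) = a ^ d • F.toFun' S z)) ↔ Field.finSepDegree k K * e ∣ d) := by
  classical
  let W := AlgebraicClosure k
  set E := separableClosure k K with hEdef
  set p := ringExpChar k with hpdef
  haveI : ExpChar k p := inferInstance
  haveI : ExpChar K p := expChar_of_injective_algebraMap (algebraMap k K).injective p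
  haveI : ExpChar E p := expChar_of_injective_algebraMap (algebraMap k E).injective p
  haveI : ExpChar W p := expChar_of_injective_algebraMap (algebraMap k W).injective p
  -- `e` is a power of `p`
  obtain ⟨j, hj⟩ : ∃ j, e = p ^ j := by
    have hA : ∀ x : K, x ^ p ^ IsPurelyInseparable.exponent E K ∈ E := fun x => by
      obtain ⟨y, hy⟩ := IsPurelyInseparable.exponent_def' E p x
      rw [← hy]
      exact y.2
    set n := Nat.gcd e (p ^ IsPurelyInseparable.exponent E K) with hn
    have hn0 : 0 < n := Nat.gcd_pos_of_pos_left _ he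
    have hmem : ∀ x : K, x ^ n ∈ E := by
      intro x
      rcases eq_or_ne x 0 with rfl | hx
      · rw [zero_pow hn0.ne']; exact zero_mem _
      · rw [← zpow_natCast, hn, Nat.gcd_eq_gcd_ab, zpow_add₀ hx, zpow_mul, zpow_mul, zpow_natCast,
          zpow_natCast]
        exact mul_mem (zpow_mem (hexp x) _) (zpow_mem (hA x) _)
    have hdvd : e ∣ p ^ IsPurelyInseparable.exponent E K := by
      have h1 : e = n := le_antisymm (hmin n hn0 hmem) (Nat.le_of_dvd he (Nat.gcd_dvd_left _ _))
      rw [h1]
      exact Nat.gcd_dvd_right _ _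
    rcases expChar_is_prime_or_one k p with hp | hp
    · obtain ⟨j, -, hj⟩ := (Nat.dvd_prime_pow hp).1 hdvd
      exact ⟨j, hj⟩
    · rw [hp, one_pow, Nat.dvd_one] at hdvd
      exact ⟨0, by rw [pow_zero]; exact hdvd⟩
  have hs : Field.finSepDegree k K = Fintype.card (K →ₐ[k] W) := by
    rw [Field.finSepDegree_eq_of_isAlgClosed k K W, Nat.card_eq_fintype_card]
  have hspos : 0 < Fintype.card (K →ₐ[k] W) := by
    haveI : Nonempty (K →ₐ[k] W) := ⟨IsAlgClosed.lift⟩
    exact Fintype.card_pos
  -- an element separating the embeddings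
  let pb := Field.powerBasisOfFiniteOfSeparable k E
  have hsep₁ : Function.Injective fun σ : K →ₐ[k] W => σ (pb.gen : K) := by
    intro σ τ h
    have hE : σ.comp E.val = τ.comp E.val := pb.algHom_ext h
    refine AlgHom.ext fun y => ?_
    refine iterateFrobenius_inj W p j ?_
    rw [iterateFrobenius_def, iterateFrobenius_def, ← map_pow, ← map_pow, ← hj]
    exact AlgHom.congr_fun hE ⟨y ^ e, hexp y⟩
  -- the exponents of a law
  have hexpo : ∀ F : K →ₚₗ[k] k, IsLaw F d → ∃ m : ℕ, Fintype.card (K →ₐ[k] W) * m = d ∧ e ∣ m ∧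
      ∀ (L : Type u) [Field L] [Algebra k L] [Algebra W L] [IsScalarTower k W L] (z : L ⊗[k] K),
        (∀ σ, ev σ z ≠ 0) → value F L z = ∏ σ, ev σ z ^ m := by
    intro F hF
    obtain ⟨a, ha⟩ := exists_exponents hF
    obtain ⟨r₁, i₁, -, heq₁⟩ := exponents_eq_mul (p := p) ha hsep₁
    refine ⟨r₁ * p ^ i₁, ?_, ?_, fun L _ _ _ _ z hz => by rw [ha L z hz]; simp only [heq₁]⟩
    · rw [← sum_exponents hF ha, Finset.sum_congr rfl (fun σ _ => heq₁ σ), Finset.sum_const,
        Finset.card_univ, smul_eq_mul]
    · rcases Nat.eq_zero_or_pos j with hj0 | hj0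
      · rw [hj, hj0, pow_zero]; exact one_dvd _
      rcases expChar_is_prime_or_one k p with hp | hp
      swap
      · rw [hj, hp, one_pow]; exact one_dvd _
      obtain ⟨x₀, hx₀⟩ : ∃ x₀ : K, x₀ ^ p ^ (j - 1) ∉ E := by
        by_contra! h
        have := hmin _ (pow_pos hp.pos _) h
        rw [hj] at this
        exact absurd this (not_le.2 (Nat.pow_lt_pow_right hp.one_lt (by omega)))
      haveI : Infinite k := by
        refine not_finite_iff_infinite.1 fun hfin => hx₀ ?_
        haveI := hfin
        rw [mem_separableClosure_iff]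
        exact Algebra.IsSeparable.isSeparable k _
      let bad : Finset W := Finset.univ.image fun q : (K →ₐ[k] W) × (K →ₐ[k] W) =>
        -(q.1 x₀ - q.2 x₀) / (q.1 (pb.gen : K) - q.2 (pb.gen : K))
      obtain ⟨c, hc⟩ := Infinite.exists_notMem_finset
        (bad.preimage (algebraMap k W) (algebraMap k W).injective.injOn)
      rw [Finset.mem_preimage] at hc
      have hsep : Function.Injective fun σ : K →ₐ[k] W => σ (x₀ + c • (pb.gen : K)) := by
        intro σ τ h
        by_contra hne
        have hne' : σ (pb.gen : K) - τ (pb.gen : K) ≠ 0 := sub_ne_zero.2 fun h => hne (hsep₁ h)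
        refine hc (Finset.mem_image.2 ⟨(σ, τ), Finset.mem_univ _, ?_⟩)
        simp only [map_add, map_smul] at h
        rw [Algebra.smul_def, Algebra.smul_def] at h
        rw [div_eq_iff hne']
        linear_combination -h
      obtain ⟨r, i, hi, heq⟩ := exponents_eq_mul (p := p) ha hsep
      have hij : j ≤ i := by
        by_contra hlt
        apply hx₀
        have h1 : (x₀ + c • (pb.gen : K)) ^ p ^ (j - 1) ∈ E := by
          rw [show j - 1 = i + (j - 1 - i) by omega, pow_add, pow_mul]
          exact pow_mem hi _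
        rw [add_pow_expChar_pow, smul_pow] at h1
        have h2 := sub_mem h1 (E.smul_mem (pow_mem pb.gen.2 (p ^ (j - 1))) (x := c ^ p ^ (j - 1)))
        rwa [add_sub_cancel_right] at h2
      obtain ⟨σ₀⟩ : Nonempty (K →ₐ[k] W) := ⟨IsAlgClosed.lift⟩
      rw [← heq₁ σ₀, heq σ₀, hj]
      exact (pow_dvd_pow p hij).trans (Dvd.intro_left r rfl)
  refine ⟨fun F F' hF hF' => ?_, ?_, ?_⟩
  · have hlF : IsLaw F d := ⟨fun S _ _ => hF.1 S, fun S _ _ => hF.2 S⟩
    have hlF' : IsLaw F' d := ⟨fun S _ _ => hF'.1 S, fun S _ _ => hF'.2 S⟩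
    obtain ⟨m, hm, -, hval⟩ := hexpo F hlF
    obtain ⟨m', hm', -, hval'⟩ := hexpo F' hlF'
    obtain rfl : m = m' := Nat.eq_of_mul_eq_mul_left hspos (hm.trans hm'.symm)
    let b := Module.finBasis k K
    let L := FractionRing (MvPolynomial (Fin (Module.finrank k K)) W)
    let zg : MvPolynomial (Fin (Module.finrank k K)) k ⊗[k] K := ∑ i, MvPolynomial.X i ⊗ₜ[k] b i
    let ψ : MvPolynomial (Fin (Module.finrank k K)) k →ₐ[k] L :=
      (IsScalarTower.toAlgHom k (MvPolynomial (Fin (Module.finrank k K)) W) L).comp
        (MvPolynomial.mapAlgHom (Algebra.ofId k W))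
    have hψ : Function.Injective ψ :=
      (IsFractionRing.injective (MvPolynomial (Fin (Module.finrank k K)) W) L).comp
        (MvPolynomial.map_injective _ (algebraMap k W).injective)
    have hev : ∀ σ, ev σ (ψ.toLinearMap.rTensor K zg) ≠ 0 := by
      intro σ
      have himg : ev σ (ψ.toLinearMap.rTensor K zg) = algebraMap (MvPolynomial (Fin (Module.finrank k K)) W) L
          (∑ i, MvPolynomial.X i * MvPolynomial.C (σ (b i))) := by
        simp only [zg, map_sum, LinearMap.rTensor_tmul, ev_tmul, map_mul, AlgHom.toLinearMap_apply]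
        refine Finset.sum_congr rfl fun i _ => ?_
        rw [IsScalarTower.algebraMap_apply W (MvPolynomial (Fin (Module.finrank k K)) W) L (σ (b i)),
          MvPolynomial.algebraMap_eq]
        simp [ψ]
      rw [himg, ne_eq, map_eq_zero_iff _ (IsFractionRing.injective _ L)]
      intro h
      have i₀ : Fin (Module.finrank k K) := ⟨0, Module.finrank_pos⟩
      have := congrArg (MvPolynomial.coeff (Finsupp.single i₀ 1)) h
      rw [MvPolynomial.coeff_sum, Finset.sum_eq_single i₀] at this
      · rw [mul_comm, MvPolynomial.coeff_C_mul, MvPolynomial.coeff_X, if_pos rfl, mul_one,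
          MvPolynomial.coeff_zero, map_eq_zero] at this
        exact b.ne_zero _ this
      · intro i _ hi
        rw [mul_comm, MvPolynomial.coeff_C_mul, MvPolynomial.coeff_X, if_neg, mul_zero]
        exact fun h => hi (Finsupp.single_left_injective one_ne_zero h)
      · simp
    have hgen : value F _ zg = value F' _ zg := by
      apply hψ
      rw [value_natural, value_natural, hval L _ hev, hval' L _ hev]
    have hring : ∀ (S : Type u) [CommRing S] [Algebra k S] (z : S ⊗[k] K), F.toFun' S z = F'.toFun' S z := by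
      intro S _ _ z
      let φ : MvPolynomial (Fin (Module.finrank k K)) k →ₐ[k] S :=
        MvPolynomial.aeval fun i => (Algebra.TensorProduct.basis S b).repr z i
      have hz : φ.toLinearMap.rTensor K zg = z := by
        conv_rhs => rw [← (Algebra.TensorProduct.basis S b).sum_repr z]
        simp [zg, φ, map_sum, Algebra.TensorProduct.basis_apply, TensorProduct.smul_tmul']
      rw [toFun'_eq_value, toFun'_eq_value, ← hz, ← value_natural, ← value_natural, hgen]
    refine PolynomialLaw.ext ?_
    funext S _ _ z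
    let φ : k ⊗[k] S →ₐ[k] S := (Algebra.TensorProduct.lid k S).toAlgHom
    have hz : φ.toLinearMap.rTensor K (PolLaw.toRing k K S z) = z := by
      induction z using TensorProduct.induction_on with
      | zero => simp
      | tmul s y => simp [φ, Algebra.TensorProduct.lid_symm_apply]
      | add a b ha hb => simp only [map_add, ha, hb]
    rw [← hz, ← PolynomialLaw.isCompat_apply', ← PolynomialLaw.isCompat_apply', hring]
  · rintro ⟨F, hF⟩
    obtain ⟨m, hm, hem, -⟩ := hexpo F ⟨fun S _ _ => hF.1 S, fun S _ _ => hF.2 S⟩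
    rw [hs, ← hm]
    exact mul_dvd_mul_left _ hem
  · rintro ⟨l, hl⟩
    have hfinE : Module.finrank k E = Field.finSepDegree k K := by
      rw [Field.finSepDegree_eq k K]; rfl
    obtain ⟨π, hπ⟩ := LinearMap.exists_leftInverse_of_injective E.val.toLinearMap
      (LinearMap.ker_eq_bot.2 E.val.toRingHom.injective)
    let N := PolLaw.normLaw k E (Field.finSepDegree k K) hfinE
    let F : K →ₚₗ[k] k := (PolLaw.powLaw (B := k) l).comp
      (N.law.comp ((PolLaw.ofLin π).comp (PolLaw.powLaw (B := K) (p ^ j))))
    have hFdef : ∀ (S : Type u) [CommRing S] [Algebra k S] (z : S ⊗[k] K),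
        F.toFun' S z = (N.law.toFun' S (π.lTensor S (z ^ p ^ j))) ^ l := fun S _ _ z => rfl
    have hrange : ∀ (S : Type u) [CommRing S] [Algebra k S] (z : S ⊗[k] K), ∃ w : S ⊗[k] E,
        Algebra.TensorProduct.map (AlgHom.id S S) E.val w = z ^ p ^ j := by
      intro S _ _ z
      induction z using TensorProduct.induction_on with
      | zero => exact ⟨0, by rw [map_zero, zero_pow (hj ▸ he.ne')]⟩
      | tmul s y =>
        refine ⟨(s ^ p ^ j) ⊗ₜ[k] ⟨y ^ p ^ j, hj ▸ hexp y⟩, ?_⟩
        rw [Algebra.TensorProduct.tmul_pow]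
        simp
      | add a b ha hb =>
        obtain ⟨wa, hwa⟩ := ha
        obtain ⟨wb, hwb⟩ := hb
        refine ⟨wa + wb, ?_⟩
        rw [map_add, hwa, hwb]
        rcases subsingleton_or_nontrivial (S ⊗[k] K) with hR | hR
        · exact Subsingleton.elim _ _
        · haveI : ExpChar (S ⊗[k] K) p :=
            expChar_of_injective_algebraMap (algebraMap k (S ⊗[k] K)).injective p
          rw [add_pow_expChar_pow]
    have hπv : ∀ (S : Type u) [CommRing S] [Algebra k S] (w : S ⊗[k] E),
        π.lTensor S (Algebra.TensorProduct.map (AlgHom.id S S) E.val w) = w := by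
      intro S _ _ w
      induction w using TensorProduct.induction_on with
      | zero => simp
      | tmul s y =>
        rw [Algebra.TensorProduct.map_tmul, LinearMap.lTensor_tmul]
        have := LinearMap.congr_fun hπ y
        simp only [LinearMap.comp_apply, LinearMap.id_apply, AlgHom.toLinearMap_apply] at this
        rw [AlgHom.id_apply, this]
      | add a b ha hb => simp only [map_add, ha, hb]
    have hψmul : ∀ (S : Type u) [CommRing S] [Algebra k S] (x y : S ⊗[k] K),
        π.lTensor S ((x * y) ^ p ^ j) = π.lTensor S (x ^ p ^ j) * π.lTensor S (y ^ p ^ j) := by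
      intro S _ _ x y
      obtain ⟨wx, hwx⟩ := hrange S x
      obtain ⟨wy, hwy⟩ := hrange S y
      rw [mul_pow, ← hwx, ← hwy, ← map_mul, hπv, hπv, hπv]
    refine ⟨F, fun S _ _ => ⟨?_, fun x y => ?_⟩, fun S _ _ a z => ?_⟩
    · rw [hFdef, one_pow]
      have h1 := hπv S 1
      rw [map_one] at h1
      rw [h1, (N.mult S).1, one_pow]
    · rw [hFdef, hFdef, hFdef, hψmul, (N.mult S).2, mul_pow]
    · rw [hFdef, hFdef]
      have hlin : π.lTensor S ((a • z) ^ p ^ j) = a ^ p ^ j • π.lTensor S (z ^ p ^ j) := by
        rw [smul_pow]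
        exact (π.baseChange S).map_smul (a ^ p ^ j) (z ^ p ^ j)
      rw [hlin, N.homog S, smul_pow, ← pow_mul, ← pow_mul, hl, hj]
      congr 2
      ring

end Groth.Agent.S13178
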