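import Groth.Statements.S13183
import Groth.Agent.EtLib9.TwistVeryAmple
-- import your own Groth.Agent.* helpers here

set_option autoImplicit false
set_option backward.isDefEq.respectTransparency.types false
set_option linter.all false
universe u
open CategoryTheory CategoryTheory.Limits AlgebraicGeometry
open ZeroCyc

namespace Groth.Agent.S13183

/-- Let B be a graded R-algebra of finite type, generated by elements of degrees between 1 and d, such
that X = Proj B is covered by the opens D_+(g), g ∈ B_1. For n ≥ d, n ≥ 1, there is a closed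
immersion i of X into a projective space over R, over Spec R, with O_X(n) ≅ i^*O(1); in particular
O_X(n) is very ample relative to Spec R. (The published statement assumes neither finite generation
nor that the generators have positive degree, and its target is P(B_n) with i the canonical morphism
given by B_n; a closed immersion into a projective space of finite type over R needs X proper over
R, so B is taken of finite type with generators of positive degree; existence of the isomorphism
only.) -/
theorem result {R A : Type u} [CommRing R] [CommRing A] [Algebra R A] (𝒜 : ℕ → Submodule R A) [GradedAlgebra 𝒜]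
    (d : ℕ) (hgen : Algebra.adjoin R (⋃ i ∈ Finset.Icc 1 d, (𝒜 i : Set A)) = ⊤)
    (hcov : (⨆ g : 𝒜 1, Proj.basicOpen 𝒜 (g : A)) = ⊤) [Algebra.FiniteType R A] (n : ℕ) (hn : d ≤ n) (hn1 : 0 < n) :
    ∃ (N : ℕ) (i : Proj 𝒜 ⟶ CohB1.ProjSpaceOver N (Spec (CommRingCat.of R))), IsClosedImmersion i ∧
      i ≫ pullback.snd (CohB1.ProjSpace.toSpec N (ULift.{u} ℤ)) (specULiftZIsTerminal.from (Spec (CommRingCat.of R))) =
        Proj.toSpecZero 𝒜 ≫ Spec.map (CommRingCat.ofHom (algebraMap R (𝒜 0))) ∧
      Nonempty (Twist.twist 𝒜 (n : ℤ) ≅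
        (Scheme.Modules.pullback i).obj (Twist.twistOver N (Spec (CommRingCat.of R)) 1)) := by
  classical
  have hall : ∀ x : A, ∃ t : Finset A, (↑t : Set A) ⊆ (⋃ i ∈ Finset.Icc 1 d, (𝒜 i : Set A)) ∧ x ∈ Algebra.adjoin R (↑t : Set A) := by
    intro x
    have hx : x ∈ Algebra.adjoin R (⋃ i ∈ Finset.Icc 1 d, (𝒜 i : Set A)) := by rw [hgen]; trivial
    induction hx using Algebra.adjoin_induction with
    | mem y hy => exact ⟨{y}, by simpa using hy, Algebra.subset_adjoin (by simp)⟩
    | algebraMap r => exact ⟨∅, by simp, Subalgebra.algebraMap_mem _ r⟩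
    | add y z _ _ hy hz =>
      obtain ⟨t, ht, hy⟩ := hy
      obtain ⟨t', ht', hz⟩ := hz
      refine ⟨t ∪ t', by rw [Finset.coe_union]; exact Set.union_subset ht ht', add_mem ?_ ?_⟩
      · exact Algebra.adjoin_mono (by simp) hy
      · exact Algebra.adjoin_mono (by simp) hz
    | mul y z _ _ hy hz =>
      obtain ⟨t, ht, hy⟩ := hy
      obtain ⟨t', ht', hz⟩ := hz
      refine ⟨t ∪ t', by rw [Finset.coe_union]; exact Set.union_subset ht ht', mul_mem ?_ ?_⟩
      · exact Algebra.adjoin_mono (by simp) hy
      · exact Algebra.adjoin_mono (by simp) hz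
  obtain ⟨T, hT⟩ := (inferInstance : Algebra.FiniteType R A).out
  choose t ht hxt using hall
  let U := T.biUnion t
  have hU : Algebra.adjoin R (↑U : Set A) = ⊤ := by
    refine top_le_iff.1 (hT ▸ Algebra.adjoin_le fun x hx => ?_)
    exact Algebra.adjoin_mono (Finset.coe_subset.2 (Finset.subset_biUnion_of_mem t hx)) (hxt x)
  have hdeg' : ∀ u : U, ∃ i, 1 ≤ i ∧ i ≤ d ∧ (u : A) ∈ 𝒜 i := fun u => by
    obtain ⟨x, -, hux⟩ := Finset.mem_biUnion.1 u.2
    have := ht x hux
    simp only [Set.mem_iUnion, Finset.mem_Icc] at this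
    obtain ⟨i, hi, hu⟩ := this
    exact ⟨i, hi.1, hi.2, hu⟩
  choose D hD1 hDd hDmem using hdeg'
  let E := Fintype.equivFin U
  let f : Fin (Fintype.card U) → A := fun i => (E.symm i : A)
  let deg : Fin (Fintype.card U) → ℕ := fun i => D (E.symm i)
  have hgen' : Algebra.adjoin R (Set.range f) = ⊤ := by
    rw [← hU]
    congr 1
    ext y
    exact ⟨by rintro ⟨i, rfl⟩; exact (E.symm i).2, fun hy => ⟨E ⟨y, hy⟩, by simp [f]⟩⟩
  refine Groth.Agent.EtLib9.TwistVeryAmple.exists_closedImmersion f (deg := deg) (fun i => hD1 _) (fun i => hDmem _)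
    hgen' hn1 {e | ∃ i, deg i = 1 ∧ e = Pi.single i n} ?_ ?_ ?_
  · rintro e ⟨i, hi, rfl⟩
    rw [Groth.Agent.EtLib9.TwistVeryAmple.wdeg_single, hi, mul_one]
  · intro x
    obtain ⟨⟨g, hg⟩, hx⟩ := TopologicalSpace.Opens.mem_iSup.1 (hcov.ge (show x ∈ (⊤ : (Proj 𝒜).Opens) from trivial))
    by_contra hno
    apply hx
    have hspan := Groth.Agent.EtLib9.TwistVeryAmple.mem_span_monom f (deg := deg) (fun i => hDmem _) hgen' hg
    show g ∈ x.asHomogeneousIdeal.toIdeal
    clear hg hx
    induction hspan using Submodule.span_induction with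
    | mem y hy =>
      obtain ⟨e, he, rfl⟩ := hy
      obtain ⟨i, hi⟩ : ∃ i, 0 < e i := by
        by_contra hne
        simp only [not_exists, not_lt, Nat.le_zero] at hne
        simp [Groth.Agent.EtLib9.TwistVeryAmple.wdeg, hne] at he
      have hle : e i * deg i ≤ 1 := he ▸ Finset.single_le_sum (f := fun j => e j * deg j) (fun _ _ => Nat.zero_le _) (Finset.mem_univ i)
      have h1 : deg i = 1 := by
        have := hD1 (E.symm i)
        have : deg i ≤ e i * deg i := Nat.le_mul_of_pos_left _ hi
        have : 1 ≤ deg i := hD1 _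
        omega
      have hfi : f i ∈ x.asHomogeneousIdeal.toIdeal := by
        by_contra hfi
        refine hno ⟨_, ⟨i, h1, rfl⟩, ?_⟩
        rw [Groth.Agent.EtLib9.TwistVeryAmple.monom_single]
        exact Groth.Agent.H8Constr.pow_basicOpen (f i) _ hfi
      exact Ideal.mem_of_dvd _ ((dvd_pow_self (f i) hi.ne').trans (Finset.dvd_prod_of_mem _ (Finset.mem_univ i))) hfi
    | zero => exact zero_mem _
    | add y z _ _ hy hz => exact add_mem hy hz
    | smul r y _ hy => rw [Algebra.smul_def]; exact Ideal.mul_mem_left _ _ hy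
  · rintro G ⟨i, hi, rfl⟩ k e he
    have := Groth.Agent.EtLib9.TwistVeryAmple.monom_mem_of_degOne (R := R) f (deg := deg) (fun i => hD1 _)
      (fun j => (hDd (E.symm j)).trans hn) i hi k e he
    rwa [← Groth.Agent.EtLib9.TwistVeryAmple.monom_single] at this

end Groth.Agent.S13183
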