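import Groth.Statements.S13184
import Mathlib

set_option autoImplicit false
universe u
open ZeroCyc

namespace Groth.Agent.S13184

/-- Let k ⊆ K be a finite extension of fields of characteristic p > 0, viewed inside an algebraically
closed field Ω, and for e ≥ 0 let k^{p^{-e}} ⊆ Ω be the field of elements whose p^e-th power lies in
k. Then the compositum k^{p^{-e}}K is separable over k^{p^{-e}} if and only if x^{p^e} is separable
over k for every x ∈ K; hence the exponent of K/k (the least n ≥ 1 with K^n separable over k, a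
power of p) is the least p^e for which k^{p^{-e}} ⊆ k^{p^{-e}}K is separable. -/
theorem result {k : Type u} [Field k] (p : ℕ) [Fact p.Prime] [CharP k p]
    {K : Type u} [Field K] [Algebra k K] [FiniteDimensional k K]
    {Ω : Type u} [Field Ω] [Algebra k Ω] [Algebra K Ω] [IsScalarTower k K Ω] [IsAlgClosed Ω] (e : ℕ) :
    (∀ x : Ω, x ∈ IntermediateField.adjoin k {y : Ω | y ^ (p ^ e) ∈ Set.range (algebraMap k Ω)} ⊔
        IntermediateField.adjoin k (Set.range (algebraMap K Ω)) →
      IsSeparable (IntermediateField.adjoin k {y : Ω | y ^ (p ^ e) ∈ Set.range (algebraMap k Ω)}) x) ↔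
    ∀ x : K, x ^ (p ^ e) ∈ separableClosure k K := by
  classical
  haveI : CharP Ω p := charP_of_injective_algebraMap (algebraMap k Ω).injective p
  haveI : ExpChar Ω p := ExpChar.prime Fact.out
  set S : Set Ω := {y : Ω | y ^ (p ^ e) ∈ Set.range (algebraMap k Ω)} with hS
  let k' := IntermediateField.adjoin k S
  have hk' : ∀ y : Ω, y ∈ k' ↔ y ^ (p ^ e) ∈ Set.range (algebraMap k Ω) := by
    intro y
    refine ⟨fun hy => ?_, fun hy => IntermediateField.subset_adjoin k S hy⟩
    change y ∈ IntermediateField.adjoin k S at hy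
    induction hy using IntermediateField.adjoin_induction with
    | mem a ha => exact ha
    | algebraMap c => exact ⟨c ^ (p ^ e), map_pow _ _ _⟩
    | add a b _ _ ha hb =>
      obtain ⟨a', ha⟩ := ha
      obtain ⟨b', hb⟩ := hb
      exact ⟨a' + b', by rw [map_add, ha, hb, add_pow_char_pow]⟩
    | inv a _ ha =>
      obtain ⟨a', ha⟩ := ha
      exact ⟨a'⁻¹, by rw [map_inv₀, ha, inv_pow]⟩
    | mul a b _ _ ha hb =>
      obtain ⟨a', ha⟩ := ha
      obtain ⟨b', hb⟩ := hb
      exact ⟨a' * b', by rw [map_mul, ha, hb, mul_pow]⟩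
  change (∀ x : Ω, x ∈ k' ⊔ IntermediateField.adjoin k (Set.range (algebraMap K Ω)) → IsSeparable k' x) ↔ _
  let Fr : Ω →+* Ω := iterateFrobenius Ω p e
  have hFr : ∀ z : Ω, Fr z = z ^ (p ^ e) := fun z => rfl
  -- a separable polynomial over `k'` gives one over `k` for `p^e`-th powers, and conversely
  have hdown : ∀ (x : K), IsSeparable k' (algebraMap K Ω x) → IsSeparable k (x ^ p ^ e) := by
    intro x hx
    let m := (minpoly k' (algebraMap K Ω x)).map (algebraMap k' Ω)
    have hm : m.Separable := Polynomial.Separable.map hx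
    have hcoef : ∀ i, (m.map Fr).coeff i ∈ Set.range (algebraMap k Ω) := fun i => by
      rw [Polynomial.coeff_map, hFr, Polynomial.coeff_map]
      exact (hk' _).1 (Subtype.mem _)
    obtain ⟨g, hg⟩ := Polynomial.mem_lifts _ |>.1 ((Polynomial.lifts_iff_coeff_lifts _).2 hcoef)
    have hgs : g.Separable := by
      rw [← Polynomial.separable_map (algebraMap k Ω), hg]
      exact hm.map
    refine hgs.of_dvd (minpoly.dvd k _ ?_)
    apply (algebraMap K Ω).injective
    rw [map_zero, ← Polynomial.aeval_algebraMap_apply, map_pow, Polynomial.aeval_def, ← Polynomial.eval_map, hg,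
      ← hFr, Polynomial.eval_map_apply]
    have h0 : m.eval (algebraMap K Ω x) = 0 := by
      rw [Polynomial.eval_map, ← Polynomial.aeval_def, minpoly.aeval]
    rw [h0, map_zero]
  have hup : ∀ (x : K), IsSeparable k (x ^ p ^ e) → IsSeparable k' (algebraMap K Ω x) := by
    intro x hx
    let g := (minpoly k (x ^ p ^ e)).map (algebraMap k Ω)
    have hroot : ∀ i, ∃ c : k', Fr (algebraMap k' Ω c) = g.coeff i := fun i => by
      obtain ⟨z, hz⟩ := IsAlgClosed.exists_pow_nat_eq (g.coeff i) (pow_pos (Fact.out : p.Prime).pos e)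
      refine ⟨⟨z, (hk' z).2 ?_⟩, hz⟩
      rw [hz, Polynomial.coeff_map]
      exact ⟨_, rfl⟩
    obtain ⟨f, hf⟩ := Polynomial.mem_lifts _ |>.1
      ((Polynomial.lifts_iff_coeff_lifts (f := Fr.comp (algebraMap k' Ω)) g).2 hroot)
    have hfs : f.Separable := by
      rw [← Polynomial.separable_map (Fr.comp (algebraMap k' Ω)), hf]
      exact Polynomial.Separable.map hx
    refine hfs.of_dvd (minpoly.dvd k' _ ?_)
    apply Fr.injective
    rw [map_zero, Polynomial.aeval_def, Polynomial.hom_eval₂, ← Polynomial.eval_map, hf, hFr, ← map_pow,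
      Polynomial.eval_map, ← Polynomial.aeval_def, Polynomial.aeval_algebraMap_apply, minpoly.aeval, map_zero]
  constructor
  · intro h x
    exact mem_separableClosure_iff.2 (hdown x (h _ ((le_sup_right : _ ≤ k' ⊔ _)
      (IntermediateField.subset_adjoin k _ ⟨x, rfl⟩))))
  · intro h z hz
    have hle : k' ⊔ IntermediateField.adjoin k (Set.range (algebraMap K Ω)) ≤
        (separableClosure k' Ω).restrictScalars k := by
      refine sup_le (fun y hy => ?_) (IntermediateField.adjoin_le_iff.2 ?_)
      · exact IntermediateField.algebraMap_mem (separableClosure k' Ω) (⟨y, hy⟩ : k')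
      · rintro _ ⟨x, rfl⟩
        exact mem_separableClosure_iff.2 (hup x (mem_separableClosure_iff.1 (h x)))
    exact mem_separableClosure_iff.1 (hle hz)
end Groth.Agent.S13184
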