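import Groth.Statements.S13186
import Mathlib.RepresentationTheory.Coinvariants
import Mathlib.RepresentationTheory.Homological.GroupCohomology.Functoriality
import Mathlib.Topology.Algebra.ClopenNhdofOne
import Mathlib.GroupTheory.PGroup
import Mathlib.FieldTheory.Galois.Basic
import Mathlib.LinearAlgebra.Matrix.GeneralLinearGroup.Defs
import Mathlib.LinearAlgebra.Matrix.Basis

set_option autoImplicit false
universe u
open GalCoh

namespace Groth.Agent.S13186
open CategoryTheory

/-- Let L/K be a finite Galois extension of fields, n a natural number, and B a map from the Galois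
group of L over K to the invertible n × n matrices over L such that B(σ) · σ(B(τ)) = B(στ) for all
σ, τ (σ acting on matrices entrywise, στ applying τ first) and det B(σ) = 1 for every σ. Then there
is an invertible matrix A over L of determinant 1 with B(σ) = A⁻¹ · σ(A) for every σ; that is, every
1-cocycle of the Galois group with values in SL_n(L) is the coboundary of an element of SL_n(L), so
H¹ of the Galois group with values in SL_n(L) is a point. (The published statement says that every
torsor under the special linear group over K is trivial; this row is the finite-Galois-level cocycle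
form that its proof establishes.) -/
theorem result (K L : Type u) [Field K] [Field L]
    [Algebra K L] [FiniteDimensional K L] [IsGalois K L] (n : ℕ)
    (B : (L ≃ₐ[K] L) → GL (Fin n) L)
    (hB : ∀ σ τ : L ≃ₐ[K] L,
      (B σ : Matrix (Fin n) (Fin n) L) * (B τ : Matrix (Fin n) (Fin n) L).map σ =
        (B (σ * τ) : Matrix (Fin n) (Fin n) L))
    (hdet : ∀ σ : L ≃ₐ[K] L, Matrix.det (B σ : Matrix (Fin n) (Fin n) L) = 1) :
    ∃ A : GL (Fin n) L, Matrix.det (A : Matrix (Fin n) (Fin n) L) = 1 ∧ ∀ σ : L ≃ₐ[K] L,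
      (B σ : Matrix (Fin n) (Fin n) L) =
        ((A⁻¹ : GL (Fin n) L) : Matrix (Fin n) (Fin n) L) * (A : Matrix (Fin n) (Fin n) L).map σ := by
  open Matrix in
  classical
  let T : (Fin n → L) → (Fin n → L) := fun v =>
    ∑ σ : L ≃ₐ[K] L, (B σ : Matrix (Fin n) (Fin n) L) *ᵥ (fun i => σ (v i))
  have hT : ∀ v (τ : L ≃ₐ[K] L), (B τ : Matrix (Fin n) (Fin n) L) *ᵥ (fun i => τ (T v i)) = T v := by
    intro v τ
    have : (fun i => τ (T v i)) = ∑ σ : L ≃ₐ[K] L,
        (B σ : Matrix (Fin n) (Fin n) L).map τ *ᵥ (fun i => (τ * σ) (v i)) := by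
      ext i
      simp [T, Finset.sum_apply, Matrix.mulVec, dotProduct, map_sum]
    rw [this, Matrix.mulVec_sum]
    simp only [Matrix.mulVec_mulVec, hB]
    exact Fintype.sum_equiv (Equiv.mulLeft τ) _ _ (fun _ => rfl)
  have hspan : Submodule.span L (Set.range T) = ⊤ := by
    by_contra h
    obtain ⟨φ, hφ0, hφ⟩ := Submodule.exists_dual_map_eq_bot_of_lt_top (lt_top_iff_ne_top.mpr h) inferInstance
    apply hφ0
    have hzero : ∀ v, φ (T v) = 0 := fun v =>
      (Submodule.map_le_iff_le_comap.mp (le_of_eq hφ) (Submodule.subset_span ⟨v, rfl⟩) :)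
    have hli : LinearIndependent L (fun (f : L ≃ₐ[K] L) => (f : L → L)) :=
      LinearIndependent.comp (linearIndependent_monoidHom L L) (fun f : L ≃ₐ[K] L => (f : L →* L))
        (fun x y h => by ext z; exact DFunLike.ext_iff.1 h z)
    refine (Pi.basisFun L (Fin n)).ext fun j => ?_
    let w : (L ≃ₐ[K] L) → L := fun σ => φ ((B σ : Matrix (Fin n) (Fin n) L) *ᵥ Pi.single j 1)
    have hw : ∑ σ, w σ • (σ : L → L) = 0 := by
      ext c
      have := hzero (Pi.single j c)
      simp only [T, map_sum] at this
      simp only [Finset.sum_apply, Pi.smul_apply, smul_eq_mul, Pi.zero_apply]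
      rw [← this]
      refine Finset.sum_congr rfl fun σ _ => ?_
      have hs : (fun i => σ (Pi.single (M := fun _ : Fin n => L) j c i)) = σ c • Pi.single j 1 := by
        ext i; by_cases hi : i = j
        · subst hi; simp
        · simp [hi]
      rw [hs, Matrix.mulVec_smul, map_smul, smul_eq_mul, mul_comm]
    have h1 := Fintype.linearIndependent_iff.mp hli w hw 1
    have hB1 : (B 1 : Matrix (Fin n) (Fin n) L) = 1 := by
      have := hB 1 1
      have h' : B 1 * B 1 = B 1 := Units.ext (by
        have hmap : (B 1 : Matrix (Fin n) (Fin n) L).map (1 : L ≃ₐ[K] L) = B 1 := by ext i k; rfl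
        rwa [hmap, mul_one] at this)
      rw [mul_eq_left] at h'
      rw [h']; rfl
    simpa [w, hB1, -Matrix.mulVec_single] using h1
  obtain ⟨b, hbs, hbspan, hbli⟩ := exists_linearIndependent L (Set.range T)
  let bas : Module.Basis b L (Fin n → L) := Module.Basis.mk hbli (by simp [hbspan, hspan])
  haveI : Fintype b := FiniteDimensional.fintypeBasisIndex bas
  let bas' := bas.reindex (Fintype.equivFinOfCardEq
    (by rw [← Module.finrank_eq_card_basis bas, Module.finrank_fin_fun]))
  let M : Matrix (Fin n) (Fin n) L := (Pi.basisFun L (Fin n)).toMatrix bas'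
  have hM : ∀ σ : L ≃ₐ[K] L, (B σ : Matrix (Fin n) (Fin n) L) * M.map σ = M := by
    intro σ
    ext i j
    obtain ⟨v, hv⟩ : ∃ v, T v = bas' j := by
      have : bas' j ∈ Set.range T := by
        simp only [bas', bas, Module.Basis.reindex_apply, Module.Basis.mk_apply]
        exact hbs (Subtype.prop _)
      exact this
    have := congrFun (hT v σ) i
    simpa [hv, M, Matrix.mul_apply, Matrix.mulVec, dotProduct, Module.Basis.toMatrix_apply] using this
  have hMu : IsUnit M.det := by
    rw [← Matrix.isUnit_iff_isUnit_det]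
    haveI := (Pi.basisFun L (Fin n)).invertibleToMatrix bas'
    exact isUnit_of_invertible M
  have hdfix : M.det ∈ Set.range (algebraMap K L) := by
    rw [IsGalois.mem_range_algebraMap_iff_fixed]
    intro σ
    have := congrArg Matrix.det (hM σ)
    rw [Matrix.det_mul, hdet, one_mul] at this
    rw [AlgEquiv.map_det]
    simpa using this
  obtain ⟨d, hd⟩ := hdfix
  rcases n with _ | n
  · exact ⟨1, by simp, fun σ => by ext i; exact i.elim0⟩
  let c : Fin (n+1) → L := fun i => algebraMap K L (Function.update (fun _ => (1 : K)) 0 d⁻¹ i)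
  have hdetM' : (M * Matrix.diagonal c).det = 1 := by
    rw [Matrix.det_mul, Matrix.det_diagonal, ← hd, ← map_prod, Finset.prod_update_of_mem (Finset.mem_univ _), ← map_mul]
    simp only [Finset.prod_const_one, mul_one]
    rw [mul_inv_cancel₀, map_one]
    rintro rfl
    rw [map_zero] at hd
    exact hMu.ne_zero hd.symm
  let A' : GL (Fin (n+1)) L := Matrix.GeneralLinearGroup.mkOfDetNeZero (M * Matrix.diagonal c) (by rw [hdetM']; exact one_ne_zero)
  have hA' : (A' : Matrix (Fin (n+1)) (Fin (n+1)) L) = M * Matrix.diagonal c := rfl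
  have key : ∀ σ : L ≃ₐ[K] L, (B σ : Matrix (Fin (n+1)) (Fin (n+1)) L) * (A' : Matrix (Fin (n+1)) (Fin (n+1)) L).map σ = (A' : Matrix (Fin (n+1)) (Fin (n+1)) L) := by
    intro σ
    rw [hA', Matrix.map_mul, ← mul_assoc, hM, Matrix.diagonal_map (map_zero σ)]
    simp [c]
  refine ⟨A'⁻¹, ?_, fun σ => ?_⟩
  · have := congrArg Matrix.det (congrArg Units.val (mul_inv_cancel A'))
    simpa [Matrix.det_mul, hA', hdetM'] using this
  · have hprod : (A' : Matrix (Fin (n+1)) (Fin (n+1)) L).map σ * ((A'⁻¹ : GL (Fin (n+1)) L) : Matrix (Fin (n+1)) (Fin (n+1)) L).map σ = 1 := by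
      rw [← Matrix.map_mul, ← Units.val_mul, mul_inv_cancel]
      simp
    rw [inv_inv]
    calc (B σ : Matrix (Fin (n+1)) (Fin (n+1)) L) = (B σ : Matrix (Fin (n+1)) (Fin (n+1)) L) * ((A' : Matrix (Fin (n+1)) (Fin (n+1)) L).map σ * ((A'⁻¹ : GL (Fin (n+1)) L) : Matrix (Fin (n+1)) (Fin (n+1)) L).map σ) := by rw [hprod, mul_one]
      _ = _ := by rw [← mul_assoc, key]

end Groth.Agent.S13186
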