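import Groth.Statements.S13188
import Groth.Agent.CSA.NormSubfield

set_option autoImplicit false
universe u v w
open Brauer

namespace Groth.Agent.S13188

/-- Let K be a field with property C_2 for systems of forms and D a finite-dimensional central division
algebra over K with dim_K D = d². Let N : D → K be multiplicative, a reduced norm of D over K, and
given in the coordinates of a K-basis b of D by a homogeneous polynomial F of degree d, i.e. N(Σ x_i
b_i) = F(x) for every coordinate vector x (the reduced norm of a central simple algebra of dimension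
d² is such a polynomial map of degree d; these data record it). Then N : D → K is surjective. -/
theorem result (K : Type u) [Field K] (hK : Curves.IsCi K 2)
    (D : Type v) [DivisionRing D] [Algebra K D] [Algebra.IsCentral K D] [FiniteDimensional K D]
    (d : ℕ) (hd : Module.finrank K D = d ^ 2)
    (N : D →* K) (hN : CSAGal.IsRedNorm K D N)
    {ι : Type w} [Fintype ι] (b : Module.Basis ι K D)
    (F : MvPolynomial ι K) (hF : F.IsHomogeneous d)
    (hNF : ∀ x : ι → K, N (∑ i, x i • b i) = MvPolynomial.eval x F) :
    Function.Surjective N := by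
  open Groth.Agent.CSA in
    classical
    haveI : IsCSA K D := {}
    intro c
    have hdeg : d = deg K D := deg_unique hd.symm
    have hd0 : 0 < d := hdeg ▸ deg_pos K D
    have hN0 : ∀ a : D, N a = 0 → a = 0 := fun a ha => by
      by_contra hne
      exact (isUnit_iff_rnorm_ne_zero (k := K) a).1 (IsUnit.mk0 a hne) (by rw [← isRedNorm_eq hN, ha])
    have hNzero : N 0 = 0 := by
      rw [isRedNorm_eq hN]
      by_contra hne
      exact not_isUnit_zero ((isUnit_iff_rnorm_ne_zero (k := K) (0 : D)).2 hne)
    let e := Fintype.equivFin ι
    let m := Fintype.card ι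
    let G : MvPolynomial (Fin (m + 1)) K :=
      MvPolynomial.rename (fun i => Fin.succ (e i)) F - MvPolynomial.C c * MvPolynomial.X 0 ^ d
    have hG : G.IsHomogeneous d :=
      (hF.rename_isHomogeneous).sub ((MvPolynomial.isHomogeneous_X_pow 0 d).C_mul c)
    have hm : m = d ^ 2 := by
      rw [← hd]; exact (Module.finrank_eq_card_basis b).symm
    obtain ⟨a, ha0, ha⟩ := hK 1 (m + 1) (fun _ => G) (fun _ => d) (fun _ => hG) (fun _ => hd0)
      (by simp; omega)
    have hval : N (∑ i, a (Fin.succ (e i)) • b i) = c * a 0 ^ d := by
      have h := ha 0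
      simp only [G, map_sub, map_mul, map_pow, MvPolynomial.eval_C, MvPolynomial.eval_X,
        MvPolynomial.eval_rename, sub_eq_zero] at h
      exact (hNF _).trans h
    by_cases ht : a 0 = 0
    · refine absurd (funext fun j => ?_) ha0
      have hz := hN0 _ (hval.trans (by rw [ht, zero_pow hd0.ne', mul_zero]))
      refine Fin.cases ht (fun j => ?_) j
      have := Fintype.linearIndependent_iff.1 b.linearIndependent (fun i => a (Fin.succ (e i))) hz (e.symm j)
      simpa using this
    · refine ⟨∑ i, ((a 0)⁻¹ * a (Fin.succ (e i))) • b i, ?_⟩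
      rw [hNF, show (fun i => (a 0)⁻¹ * a (Fin.succ (e i))) = (a 0)⁻¹ • (fun i => a (Fin.succ (e i))) from rfl,
        show MvPolynomial.eval ((a 0)⁻¹ • fun i => a (Fin.succ (e i))) F =
          (a 0)⁻¹ ^ d * MvPolynomial.eval (fun i => a (Fin.succ (e i))) F from ?_, ← hNF, hval]
      · rw [mul_left_comm, ← mul_pow, inv_mul_cancel₀ ht, one_pow, mul_one]
      · rw [MvPolynomial.eval_eq, MvPolynomial.eval_eq, Finset.mul_sum]
        refine Finset.sum_congr rfl fun s hs => ?_
        have hsum : ∑ i ∈ s.support, s i = d := by
          have h := hF (MvPolynomial.mem_support_iff.1 hs)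
          rw [Finsupp.weight_apply, Finsupp.sum] at h
          simpa using h
        simp only [Pi.smul_apply, smul_eq_mul, mul_pow]
        rw [Finset.prod_mul_distrib, Finset.prod_pow_eq_pow_sum, hsum]
        ring
end Groth.Agent.S13188
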