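import Groth.Statements.S13189
import Mathlib.FieldTheory.Finite.Polynomial
import Mathlib.Combinatorics.Nullstellensatz

set_option autoImplicit false
universe u
open CAlg

namespace Groth.Agent.S13189

/-- For a finite field K of cardinality q and n ≥ 0, a polynomial p in n variables over K vanishes at
every point of K^n if and only if p belongs to the ideal generated by the X_i^q − X_i, i = 1, …, n;
in other words that ideal is the kernel of the evaluation homomorphism from K[X_1, …, X_n] to the
ring of K-valued functions on K^n. -/
theorem result (K : Type u) [Field K] [Fintype K]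
    (n : ℕ) (p : MvPolynomial (Fin n) K) :
    (∀ a : Fin n → K, MvPolynomial.eval a p = 0) ↔
      p ∈ Ideal.span (Set.range fun i : Fin n =>
        (MvPolynomial.X i ^ Fintype.card K - MvPolynomial.X i : MvPolynomial (Fin n) K)) := by
  classical
  constructor
  · intro h
    let q := Fintype.card K
    let I := Ideal.span (Set.range fun i : Fin n => (MvPolynomial.X i ^ q - MvPolynomial.X i : MvPolynomial (Fin n) K))
    have hq : 2 ≤ q := Fintype.one_lt_card
    have hred : ∀ (i : Fin n) (e : ℕ), ∃ e' ≤ q - 1, (MvPolynomial.X i ^ e - MvPolynomial.X i ^ e' : MvPolynomial (Fin n) K) ∈ I := by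
      intro i e
      induction e using Nat.strong_induction_on with
      | _ e ih =>
        by_cases he : e ≤ q - 1
        · exact ⟨e, he, by simp⟩
        · obtain ⟨e', he', hm⟩ := ih (e - q + 1) (by omega)
          refine ⟨e', he', ?_⟩
          have h1 : (MvPolynomial.X i ^ e - MvPolynomial.X i ^ (e - q + 1) : MvPolynomial (Fin n) K) ∈ I := by
            have : (MvPolynomial.X i ^ e - MvPolynomial.X i ^ (e - q + 1) : MvPolynomial (Fin n) K) = MvPolynomial.X i ^ (e - q) * (MvPolynomial.X i ^ q - MvPolynomial.X i) := by
              rw [mul_sub, ← pow_add, ← pow_succ, Nat.sub_add_cancel (show q ≤ e by omega)]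
            rw [this]
            exact I.mul_mem_left _ (Ideal.subset_span ⟨i, rfl⟩)
          simpa using I.add_mem h1 hm
    let W : Submodule K (MvPolynomial (Fin n) K) := MvPolynomial.restrictDegree (Fin n) K (q - 1) ⊔ I.restrictScalars K
    have hall : ∀ r : MvPolynomial (Fin n) K, r ∈ W := by
      intro r
      induction r using MvPolynomial.induction_on' with
      | add a b ha hb => exact W.add_mem ha hb
      | monomial s c =>
        choose e' he' hm using fun i => hred i (s i)
        have h1 : MvPolynomial.monomial s c - MvPolynomial.monomial (Finsupp.equivFunOnFinite.symm e') c ∈ I := by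
          rw [MvPolynomial.monomial_eq, MvPolynomial.monomial_eq, Finsupp.prod_fintype _ _ (fun i => pow_zero _), Finsupp.prod_fintype _ _ (fun i => pow_zero _), ← mul_sub]
          refine I.mul_mem_left _ ?_
          rw [← Ideal.Quotient.eq, map_prod, map_prod]
          exact Finset.prod_congr rfl fun i _ => Ideal.Quotient.eq.2 (hm i)
        have h2 : MvPolynomial.monomial (Finsupp.equivFunOnFinite.symm e') c ∈ MvPolynomial.restrictDegree (Fin n) K (q - 1) := by
          rw [MvPolynomial.mem_restrictDegree]
          intro t ht i
          obtain rfl := Finset.mem_singleton.1 (MvPolynomial.support_monomial_subset ht)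
          exact he' i
        simpa using W.add_mem (Submodule.mem_sup_right (show _ ∈ I.restrictScalars K from h1)) (Submodule.mem_sup_left h2)
    obtain ⟨r, hr, w, hw, hrw⟩ := Submodule.mem_sup.1 (hall p)
    have hw0 : ∀ a : Fin n → K, MvPolynomial.eval a w = 0 := by
      intro a
      have : I ≤ RingHom.ker (MvPolynomial.eval a) := Ideal.span_le.2 fun _ ⟨i, hi⟩ => by
        subst hi; simp [RingHom.mem_ker, q, FiniteField.pow_card]
      exact this hw
    have : r = 0 := by
      refine MvPolynomial.eq_zero_of_eval_zero_at_prod_finset r (fun _ => Finset.univ) (fun i => ?_) (fun a _ => ?_)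
      · have : MvPolynomial.degreeOf i r ≤ q - 1 := MvPolynomial.degreeOf_le_iff.2 fun t ht => (MvPolynomial.mem_restrictDegree (Fin n) r (q - 1)).1 hr t ht i
        rw [Finset.card_univ]; change _ < q; omega
      · have := h a; rw [← hrw, map_add, hw0, add_zero] at this; exact this
    rw [← hrw, this, zero_add]
    exact hw
  · intro h a
    have : Ideal.span (Set.range fun i : Fin n => (MvPolynomial.X i ^ Fintype.card K - MvPolynomial.X i : MvPolynomial (Fin n) K)) ≤ RingHom.ker (MvPolynomial.eval a) :=
      Ideal.span_le.2 fun _ ⟨i, hi⟩ => by subst hi; simp [RingHom.mem_ker, FiniteField.pow_card]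
    exact this h

end Groth.Agent.S13189
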