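import Groth.Statements.S13191

set_option autoImplicit false
universe u v w x
open GalCoh

namespace Groth.Agent.S13191

/-- Let a group G act by automorphisms on a group A, and let E and E' each be a G-equivariant right
A-torsor (a set with a simply transitive right action of A, written m ↦ m·a, and a left action of G
with g(m·a) = (gm)·(ga)). Let m ∈ E and m' ∈ E' be points with attached maps a, a' : G → A (g·m =
m·a(g) and g·m' = m'·a'(g) for all g). Then there is a bijection E ≃ E' commuting with the actions
of G and of A if and only if a and a' are cohomologous. (The published statement is for a Galois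
group acting on discrete modules; this row takes an arbitrary group acting on a group.) -/
theorem result {G : Type u} {A : Type v} {E : Type w} {E' : Type x}
    [Group G] [Group A] [MulDistribMulAction G A]
    [MulAction G E] [MulAction Aᵐᵒᵖ E]
    (hfree : ∀ m₁ m₂ : E, ∃! a : A, m₂ = MulOpposite.op a • m₁)
    (hcompat : ∀ (g : G) (a : A) (m : E), g • (MulOpposite.op a • m) = MulOpposite.op (g • a) • g • m)
    [MulAction G E'] [MulAction Aᵐᵒᵖ E']
    (hfree' : ∀ m₁ m₂ : E', ∃! a : A, m₂ = MulOpposite.op a • m₁)
    (hcompat' : ∀ (g : G) (a : A) (m : E'), g • (MulOpposite.op a • m) = MulOpposite.op (g • a) • g • m)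
    (m : E) (a : G → A) (ha : ∀ g : G, g • m = MulOpposite.op (a g) • m)
    (m' : E') (a' : G → A) (ha' : ∀ g : G, g • m' = MulOpposite.op (a' g) • m') :
    (∃ f : E ≃ E', (∀ (g : G) (e : E), f (g • e) = g • f e) ∧
        ∀ (b : A) (e : E), f (MulOpposite.op b • e) = MulOpposite.op b • f e) ↔
      GpH1.Cohomologous a a' := by
  have hinj : ∀ (x : E) (b b' : A), MulOpposite.op b • x = MulOpposite.op b' • x → b = b' :=
    fun x b b' hb => (hfree x (MulOpposite.op b' • x)).unique hb.symm rfl
  have hinj' : ∀ (x : E') (b b' : A), MulOpposite.op b • x = MulOpposite.op b' • x → b = b' :=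
    fun x b b' hb => (hfree' x (MulOpposite.op b' • x)).unique hb.symm rfl
  constructor
  · rintro ⟨f, hfG, hfA⟩
    obtain ⟨c, hc, -⟩ := hfree' m' (f m)
    refine ⟨c, fun g => ?_⟩
    have h1 : f (g • m) = MulOpposite.op (c * a g) • m' := by
      rw [ha, hfA, hc, ← mul_smul, ← MulOpposite.op_mul]
    have h2 : g • f m = MulOpposite.op (a' g * g • c) • m' := by
      rw [hc, hcompat', ha', ← mul_smul, ← MulOpposite.op_mul]
    have := hinj' m' _ _ ((h1.symm.trans (hfG g m)).trans h2)
    rw [mul_assoc, ← this]
    group
  · rintro ⟨c, hc⟩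
    choose d hd using fun e : E => (hfree m e).exists
    choose d' hd' using fun e : E' => (hfree' m' e).exists
    refine ⟨⟨fun e => MulOpposite.op (c * d e) • m', fun e => MulOpposite.op (c⁻¹ * d' e) • m, fun e => ?_, fun e => ?_⟩,
      fun g e => ?_, fun b e => ?_⟩
    · have : d' (MulOpposite.op (c * d e) • m') = c * d e := hinj' m' _ _ (hd' _).symm
      beta_reduce
      rw [this, inv_mul_cancel_left, ← hd]
    · have : d (MulOpposite.op (c⁻¹ * d' e) • m) = c⁻¹ * d' e := hinj m _ _ (hd _).symm
      beta_reduce
      rw [this, mul_inv_cancel_left, ← hd']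
    · show MulOpposite.op (c * d (g • e)) • m' = g • MulOpposite.op (c * d e) • m'
      have : d (g • e) = a g * g • d e := by
        refine hinj m _ _ ?_
        rw [← hd (g • e)]
        conv_lhs => rw [hd e]
        rw [hcompat, ha, ← mul_smul, ← MulOpposite.op_mul]
      rw [this, hcompat', ha', ← mul_smul, ← MulOpposite.op_mul, hc g, smul_mul']
      group
    · show MulOpposite.op (c * d (MulOpposite.op b • e)) • m' = MulOpposite.op b • MulOpposite.op (c * d e) • m'
      have : d (MulOpposite.op b • e) = d e * b := by
        refine hinj m _ _ ?_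
        rw [← hd (MulOpposite.op b • e)]
        conv_lhs => rw [hd e]
        rw [← mul_smul, ← MulOpposite.op_mul]
      rw [this, ← mul_smul, ← MulOpposite.op_mul, mul_assoc]

end Groth.Agent.S13191
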