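import Groth.Statements.S13198
import Mathlib.RingTheory.Ideal.GoingUp
import Mathlib.FieldTheory.IsAlgClosed.AlgebraicClosure
import Mathlib.RingTheory.TensorProduct.Maps

set_option autoImplicit false
universe u
open scoped TensorProduct
open Hensel

namespace Groth.Agent.S13198

/-- Let R be a local ring which is strictly henselian (henselian, with separably closed residue field),
A a local ring which is an integral R-algebra with local structure map and whose residue field is
purely inseparable over that of R, and B a local ring with a local homomorphism R → B. Then A ⊗_R B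
is a local ring, the map B → A ⊗_R B is local, and the residue field extension of A ⊗_R B over B is
purely inseparable: every element of A ⊗_R B has a p^n-th power, p the characteristic exponent of
the residue field of B, congruent modulo the maximal ideal to an element 1 ⊗ b. -/
theorem result
    (R A B : Type u) [CommRing R] [HenselianLocalRing R] [IsSepClosed (IsLocalRing.ResidueField R)]
    [CommRing A] [IsLocalRing A] [Algebra R A] [IsLocalHom (algebraMap R A)] [Algebra.IsIntegral R A]
    [IsPurelyInseparable (IsLocalRing.ResidueField R) (IsLocalRing.ResidueField A)]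
    [CommRing B] [IsLocalRing B] [Algebra R B] [IsLocalHom (algebraMap R B)] :
    ∃ _ : IsLocalRing (A ⊗[R] B),
      IsLocalHom (Algebra.TensorProduct.includeRight : B →ₐ[R] A ⊗[R] B).toRingHom ∧
      ∀ x : A ⊗[R] B, ∃ (n : ℕ) (b : B),
        x ^ (ringExpChar (IsLocalRing.ResidueField B)) ^ n - (1 : A) ⊗ₜ[R] b ∈ IsLocalRing.maximalIdeal (A ⊗[R] B) := by
  classical
  let κR := IsLocalRing.ResidueField R
  let κA := IsLocalRing.ResidueField A
  let κB := IsLocalRing.ResidueField B
  let q := ringExpChar κB
  haveI : ExpChar κB q := inferInstance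
  letI algRB : Algebra κR κB := (IsLocalRing.ResidueField.map (algebraMap R B)).toAlgebra
  haveI : ExpChar κR q := ((algebraMap κR κB).expChar_iff (algebraMap κR κB).injective q).mpr ‹_›
  set ι : B →ₐ[R] A ⊗[R] B := Algebra.TensorProduct.includeRight
  have hint : ι.toRingHom.IsIntegral := by
    have h1 : (algebraMap B (B ⊗[R] A)).IsIntegral := Algebra.IsIntegral.isIntegral
    have h2 := h1.trans _ (Algebra.TensorProduct.comm R B A).toRingHom
      (RingHom.isIntegral_of_surjective _ (Algebra.TensorProduct.comm R B A).surjective)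
    have e : (Algebra.TensorProduct.comm R B A).toRingHom.comp (algebraMap B (B ⊗[R] A)) = ι.toRingHom :=
      RingHom.ext fun b => rfl
    exact e ▸ h2
  have hcB : ∀ M : Ideal (A ⊗[R] B), M.IsMaximal → M.comap ι.toRingHom = IsLocalRing.maximalIdeal B :=
    fun M hM => IsLocalRing.eq_maximalIdeal (Ideal.isMaximal_comap_of_isIntegral_of_isMaximal' _ hint M)
  have hcA : ∀ M : Ideal (A ⊗[R] B), M.IsMaximal →
      M.comap (Algebra.TensorProduct.includeLeftRingHom : A →+* A ⊗[R] B) = IsLocalRing.maximalIdeal A := by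
    intro M hM
    haveI := hM.isPrime
    set P := M.comap (Algebra.TensorProduct.includeLeftRingHom : A →+* A ⊗[R] B)
    haveI : P.IsPrime := Ideal.IsPrime.comap _
    haveI : (P.comap (algebraMap R A)).IsMaximal := by
      have hle : IsLocalRing.maximalIdeal R ≤ P.comap (algebraMap R A) := by
        intro r hr
        have h1 : algebraMap R B r ∈ M.comap ι.toRingHom := by
          rw [hcB M hM]
          exact map_nonunit (algebraMap R B) r hr
        change (algebraMap R A r) ⊗ₜ[R] (1 : B) ∈ M
        have h2 : ι (algebraMap R B r) ∈ M := h1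
        rw [ι.commutes] at h2
        exact h2
      exact (IsLocalRing.maximalIdeal.isMaximal R).eq_of_le (Ideal.IsPrime.comap _).ne_top hle ▸
        IsLocalRing.maximalIdeal.isMaximal R
    exact IsLocalRing.eq_maximalIdeal (Ideal.isMaximal_of_isIntegral_of_isMaximal_comap P ‹_›)
  have key : ∀ x : A ⊗[R] B, ∃ (n : ℕ) (b : B), ∀ M : Ideal (A ⊗[R] B), M.IsMaximal →
      x ^ q ^ n - (1 : A) ⊗ₜ[R] b ∈ M := by
    intro x
    induction x using TensorProduct.induction_on with
    | zero =>
      exact ⟨0, 0, fun M _ => by rw [TensorProduct.tmul_zero, pow_zero, pow_one, sub_zero]; exact zero_mem M⟩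
    | tmul a b =>
      obtain ⟨n, r, hr⟩ := IsPurelyInseparable.pow_mem κR q (IsLocalRing.residue A a)
      obtain ⟨r, rfl⟩ := IsLocalRing.residue_surjective r
      refine ⟨n, algebraMap R B r * b ^ q ^ n, fun M hM => ?_⟩
      have h1 : a ^ q ^ n - algebraMap R A r ∈ M.comap
          (Algebra.TensorProduct.includeLeftRingHom : A →+* A ⊗[R] B) := by
        rw [hcA M hM, ← IsLocalRing.residue_eq_zero_iff, map_sub, map_pow, ← hr, sub_eq_zero]
        rfl
      have h2 := M.mul_mem_right ((1 : A) ⊗ₜ[R] (b ^ q ^ n)) h1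
      convert h2 using 1
      rw [Algebra.TensorProduct.tmul_pow, Algebra.TensorProduct.includeLeftRingHom_apply,
        Algebra.TensorProduct.tmul_mul_tmul, mul_one, one_mul, TensorProduct.sub_tmul,
        Algebra.algebraMap_eq_smul_one, Algebra.algebraMap_eq_smul_one, smul_mul_assoc, one_mul,
        ← TensorProduct.smul_tmul]
    | add x y hx hy =>
      obtain ⟨n, b, hb⟩ := hx
      obtain ⟨m, c, hc⟩ := hy
      refine ⟨n + m, b ^ q ^ m + c ^ q ^ n, fun M hM => ?_⟩
      letI := Ideal.Quotient.field M
      let ψ : κB →+* (A ⊗[R] B) ⧸ M := Ideal.Quotient.lift _ ((Ideal.Quotient.mk M).comp ι.toRingHom)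
        fun z hz => Ideal.Quotient.eq_zero_iff_mem.mpr (by
          have hz' : z ∈ M.comap ι.toRingHom := by rw [hcB M hM]; exact hz
          exact hz')
      haveI : ExpChar ((A ⊗[R] B) ⧸ M) q := (ψ.expChar_iff ψ.injective q).mp ‹_›
      have h1 := congrArg (· ^ q ^ m) (Ideal.Quotient.eq.mpr (hb M hM))
      have h2 := congrArg (· ^ q ^ n) (Ideal.Quotient.eq.mpr (hc M hM))
      simp only [← map_pow, ← pow_mul, ← pow_add] at h1 h2
      rw [add_comm m n] at h2
      refine Ideal.Quotient.eq.mp ?_
      rw [map_pow, map_add, add_pow_expChar_pow, ← map_pow, ← map_pow, h1, h2, ← map_add]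
      simp [TensorProduct.tmul_add, Algebra.TensorProduct.tmul_pow]
  have hnt : Nontrivial (A ⊗[R] B) := by
    let L := AlgebraicClosure κB
    letI : Algebra κR L := ((algebraMap κB L).comp (algebraMap κR κB)).toAlgebra
    let j : κA →ₐ[κR] L := IsAlgClosed.lift
    let gA : A →ₐ[R] L := {
      (j : κA →+* L).comp (IsLocalRing.residue A) with
      commutes' := fun r => by
        change j (algebraMap κR κA (IsLocalRing.residue R r)) = _
        rw [AlgHom.commutes]
        rfl }
    haveI : IsScalarTower R B L := IsScalarTower.of_algebraMap_eq fun r => rfl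
    exact RingHom.domain_nontrivial
      (Algebra.TensorProduct.lift gA (IsScalarTower.toAlgHom R B L) fun _ _ => mul_comm _ _).toRingHom
  have hloc : IsLocalRing (A ⊗[R] B) := by
    obtain ⟨M₀, hM₀⟩ := Ideal.exists_maximal (A ⊗[R] B)
    refine IsLocalRing.of_unique_max_ideal ⟨M₀, hM₀, fun M hM => hM.eq_of_le hM₀.ne_top fun x hx => ?_⟩
    obtain ⟨n, b, hb⟩ := key x
    have hqn : q ^ n ≠ 0 := pow_ne_zero _ (expChar_pos κB q).ne'
    have h1 : ι b ∈ M := by
      have := M.sub_mem (M.pow_mem_of_mem hx _ (Nat.pos_of_ne_zero hqn)) (hb M hM)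
      rwa [sub_sub_cancel] at this
    have h2 : b ∈ M₀.comap ι.toRingHom := by
      rw [hcB M₀ hM₀, ← hcB M hM]; exact h1
    have h3 : x ^ q ^ n ∈ M₀ := by
      have := M₀.add_mem (hb M₀ hM₀) h2
      change x ^ q ^ n - (1 : A) ⊗ₜ[R] b + (1 : A) ⊗ₜ[R] b ∈ M₀ at this
      rwa [sub_add_cancel] at this
    exact hM₀.isPrime.mem_of_pow_mem _ h3
  refine ⟨hloc, ⟨fun b hb => ?_⟩, fun x => ?_⟩
  · by_contra hnu
    have h1 : b ∈ (IsLocalRing.maximalIdeal (A ⊗[R] B)).comap ι.toRingHom := by
      rw [hcB _ (IsLocalRing.maximalIdeal.isMaximal _)]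
      exact hnu
    exact (IsLocalRing.mem_maximalIdeal _).mp h1 hb
  · obtain ⟨n, b, hb⟩ := key x
    exact ⟨n, b, hb _ (IsLocalRing.maximalIdeal.isMaximal _)⟩

end Groth.Agent.S13198
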