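import Groth.Statements.S13199
import Groth.Agent.S2730
import Groth.Agent.S2750
import Groth.Agent.EGA43.Unibranch.Criterion
import Groth.Agent.HenselLib.LocalInt
import Groth.Agent.CAlgH.RegularSmooth
import Groth.Agent.CAlgH3.RegularLocal
-- import your own Groth.Agent.* helpers here

set_option autoImplicit false
universe u
open Hensel

namespace Groth.Agent.S13199

open TensorProduct IsLocalRing in
theorem isNormalHom_of_smooth (A B : Type u) [CommRing A] [CommRing B] [Algebra A B] [Algebra.Smooth A B] :
    EGA4.IsNormalHom A B := by
  refine ⟨inferInstance, fun p _ k' _ _ _ q _ => ?_⟩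
  haveI : IsRegularRing (TensorProduct p.ResidueField k' (p.Fiber B)) :=
    CAlgH.isRegularRing_of_smooth k' _
  haveI : IsRegularLocalRing (Localization.AtPrime q) := IsRegularRing.isRegularLocalRing_localization q
  exact ⟨CAlgH3.isDomain_of_isRegularLocalRing _, CAlgH3.isIntegrallyClosed_of_regular _⟩

/-- Let R be a Noetherian integral domain which is a strictly henselian local ring (henselian with
separably closed residue field), R' a smooth R-algebra and p a prime ideal of R' lying over the
maximal ideal of R (that is, containing its image). Then the local ring R'_p is an integral domain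
and is geometrically unibranch: the integral closure of R'_p in its fraction field is a local ring
whose residue field is purely inseparable over that of R'_p. (The published statement concludes that
every strict henselization of R'_p is an integral domain; for a local ring this is equivalent to
being an integral domain which is geometrically unibranch, the conclusion stated here.) -/
theorem result
    (R R' : Type u) [CommRing R] [IsDomain R] [IsNoetherianRing R] [HenselianLocalRing R]
    [IsSepClosed (IsLocalRing.ResidueField R)]
    [CommRing R'] [Algebra R R'] [Algebra.Smooth R R']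
    (p : Ideal R') [p.IsPrime] (hp : (IsLocalRing.maximalIdeal R).map (algebraMap R R') ≤ p) :
    IsDomain (Localization.AtPrime p) ∧ CAlg2.IsGeomUnibranch (Localization.AtPrime p) := by
  open TensorProduct IsLocalRing in
  haveI : IsNoetherianRing R' := Algebra.FiniteType.isNoetherianRing R R'
  haveI : IsLocalHom (algebraMap R R) := ⟨fun a ha => by simpa using ha⟩
  haveI := HenselLib.LocalInt.isStrictHenselization_self R
  have hgu : CAlg2.IsGeomUnibranch R := ((S2750.result R R).2 inferInstance).2
  let e : R ⊗[R] R' ≃ₐ[R] R' := Algebra.TensorProduct.lid R R'
  let q : Ideal (R ⊗[R] R') := p.comap (e : R ⊗[R] R' →ₐ[R] R')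
  have hcomap : q.comap (algebraMap R (R ⊗[R] R')) = IsLocalRing.maximalIdeal R := by
    refine ((IsLocalRing.maximalIdeal.isMaximal R).eq_of_le (Ideal.comap_ne_top _ (Ideal.IsPrime.ne_top inferInstance)) ?_).symm
    intro a ha
    show e (algebraMap R (R ⊗[R] R') a) ∈ p
    rw [e.commutes]
    exact hp (Ideal.mem_map_of_mem _ ha)
  obtain ⟨hu, hd⟩ := S2730.result R R' (isNormalHom_of_smooth R R') R hgu q hcomap
  let φ : Localization.AtPrime q ≃+* Localization.AtPrime p := IsLocalization.ringEquivOfRingEquiv (M := q.primeCompl) (T := p.primeCompl) _ _ e.toRingEquiv (by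
    ext x
    simp only [Submonoid.mem_map, Ideal.mem_primeCompl_iff]
    constructor
    · rintro ⟨y, hy, rfl⟩; exact hy
    · intro hx; exact ⟨e.symm x, by simpa [q] using hx, e.apply_symm_apply x⟩)
  haveI := hd inferInstance
  exact ⟨φ.symm.injective.isDomain, EGA43.Unibranch.isGeomUnibranch_of_ringEquiv φ hu⟩

end Groth.Agent.S13199
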