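import Groth.Statements.S13200
import Groth.Agent.CAlgH.ExcellentNormal
import Groth.Agent.CommAlg6.ExcellentBasic

set_option autoImplicit false
universe u
open Hensel

namespace Groth.Agent.S13200

theorem henselianLocalRing_of_surjective {R S : Type u} [CommRing R] [CommRing S] [IsLocalRing S]
    [HenselianLocalRing R] (π : R →+* S) (hπ : Function.Surjective π) : HenselianLocalRing S := by
  haveI := IsLocalHom.of_surjective π hπ
  refine ⟨fun f hf a₀ h1 h2 => ?_⟩
  obtain ⟨F, hF, -, hFm⟩ := Polynomial.lifts_and_natDegree_eq_and_monic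
    ((Polynomial.mem_lifts f).2 (Polynomial.map_surjective π hπ f)) hf
  obtain ⟨b₀, rfl⟩ := hπ a₀
  have e1 : π (F.eval b₀) = f.eval (π b₀) := by rw [← hF, Polynomial.eval_map_apply]
  have e2 : π (F.derivative.eval b₀) = f.derivative.eval (π b₀) := by
    rw [← hF, Polynomial.derivative_map, Polynomial.eval_map_apply]
  obtain ⟨b, hb, hbm⟩ := HenselianLocalRing.is_henselian F hFm b₀
    (fun hu => h1 (e1 ▸ hu.map π)) (IsUnit.of_map π _ (e2 ▸ h2))
  refine ⟨π b, ?_, ?_⟩
  · rw [Polynomial.IsRoot, ← hF, Polynomial.eval_map_apply, hb.eq_zero, map_zero]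
  · rw [← map_sub, IsLocalRing.mem_maximalIdeal, mem_nonunits_iff]
    exact fun hu => hbm (IsUnit.of_map π _ hu)

/-- Let R be an excellent local ring which is strictly henselian (henselian with separably closed
residue field), and let R^ denote its completion at the maximal ideal. An element Δ of R is a prime
element of R exactly when its image in R^ is a prime element of R^. -/
theorem result
    (R : Type u) [CommRing R] [HenselianLocalRing R] [IsSepClosed (IsLocalRing.ResidueField R)]
    (hR : EGA4.IsExcellent R) (Δ : R) :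
    Prime Δ ↔ Prime (algebraMap R (AdicCompletion (IsLocalRing.maximalIdeal R) R) Δ) := by
  haveI := hR.1
  let Rh := AdicCompletion (IsLocalRing.maximalIdeal R) R
  haveI : IsNoetherianRing Rh := _root_.Groth.Agent.Matlis6.isNoetherianRing_adicCompletion _
  haveI := _root_.Groth.Agent.CommAlg6.isLocalHom_completion R
  haveI : Module.Flat R Rh := AdicCompletion.flat_of_isNoetherian _
  haveI : Module.FaithfullyFlat R Rh := Module.FaithfullyFlat.of_flat_of_isLocalHom
  have hinj : Function.Injective (algebraMap R Rh) := FaithfulSMul.algebraMap_injective R Rh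
  have hmap : (Ideal.span {Δ}).map (algebraMap R Rh) = Ideal.span {algebraMap R Rh Δ} := by
    rw [Ideal.map_span, Set.image_singleton]
  constructor
  · intro h
    have hΔ : algebraMap R Rh Δ ≠ 0 := (map_ne_zero_iff _ hinj).2 h.ne_zero
    haveI : (Ideal.span {Δ}).IsPrime := (Ideal.span_singleton_prime h.ne_zero).2 h
    let D := R ⧸ Ideal.span {Δ}
    haveI : IsLocalRing D := .of_surjective' _ Ideal.Quotient.mk_surjective
    haveI : HenselianLocalRing D :=
      henselianLocalRing_of_surjective (Ideal.Quotient.mk _) Ideal.Quotient.mk_surjective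
    haveI := _root_.Groth.Agent.CAlgH.ExcellentNormal.isDomain_completion_of_henselian D
      (_root_.Groth.Agent.CommAlg6.isExcellent_of_finiteType R D hR)
    obtain ⟨e⟩ := _root_.Groth.Agent.CAlgH.completion_quotient_equiv (Ideal.Quotient.mk (Ideal.span {Δ}))
      Ideal.Quotient.mk_surjective
    haveI := e.toMulEquiv.isDomain
    have hp : ((RingHom.ker (Ideal.Quotient.mk (Ideal.span {Δ}))).map (algebraMap R Rh)).IsPrime :=
      (Ideal.Quotient.isDomain_iff_prime _).1 inferInstance
    rw [Ideal.mk_ker, hmap] at hp
    exact (Ideal.span_singleton_prime hΔ).1 hp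
  · intro h
    have hΔ : Δ ≠ 0 := fun h0 => h.ne_zero (by rw [h0, map_zero])
    have hp := ((Ideal.span_singleton_prime h.ne_zero).2 h).comap (algebraMap R Rh)
    rw [← hmap, Ideal.comap_map_eq_self_of_faithfullyFlat] at hp
    exact (Ideal.span_singleton_prime hΔ).1 hp

end Groth.Agent.S13200
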