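import Groth.Statements.S17730
import Groth.Agent.S13199
import Groth.Agent.CAlgH.StrictHenselExtended
import Mathlib.RingTheory.TensorProduct.Quotient
-- import your own Groth.Agent.* helpers here

set_option autoImplicit false
set_option linter.all false
universe u
open Hensel

namespace Groth.Agent.S17730

theorem isSepClosed_of_equiv {K L : Type u} [Field K] [Field L] (e : K ≃+* L) [IsSepClosed K] :
    IsSepClosed L := by
  letI : Algebra K L := e.toRingHom.toAlgebra
  haveI : Algebra.IsAlgebraic K L := ⟨fun x => e.apply_symm_apply x ▸ isAlgebraic_algebraMap (e.symm x)⟩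
  exact Algebra.IsAlgebraic.isSepClosed (F := K)

open TensorProduct IsLocalRing in
theorem isGeomUnibranch_quotient (R R' : Type u) [CommRing R] [IsNoetherianRing R] [HenselianLocalRing R]
    [IsSepClosed (ResidueField R)] [CommRing R'] [Algebra R R'] [Algebra.Smooth R R']
    (q : Ideal R') [q.IsPrime] (hq : (maximalIdeal R).map (algebraMap R R') ≤ q) (I : Ideal R) [I.IsPrime]
    [IsLocalRing (Localization.AtPrime q ⧸ (I.map (algebraMap R R')).map (algebraMap R' (Localization.AtPrime q)))] :
    IsDomain (Localization.AtPrime q ⧸ (I.map (algebraMap R R')).map (algebraMap R' (Localization.AtPrime q))) ∧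
      CAlg2.IsGeomUnibranch
        (Localization.AtPrime q ⧸ (I.map (algebraMap R R')).map (algebraMap R' (Localization.AtPrime q))) := by
  haveI : IsLocalRing (R ⧸ I) := .of_surjective' _ Ideal.Quotient.mk_surjective
  haveI hloc : IsLocalHom (Ideal.Quotient.mk I) := Function.Surjective.isLocalHom _ Ideal.Quotient.mk_surjective
  haveI : HenselianLocalRing (R ⧸ I) := HenselLib.henselianLocalRing_of_isIntegral R (R ⧸ I)
  haveI : IsSepClosed (ResidueField (R ⧸ I)) := isSepClosed_of_equiv (RingEquiv.ofBijective
    (ResidueField.map (Ideal.Quotient.mk I)) ⟨(ResidueField.map _).injective, fun x => by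
      obtain ⟨y, rfl⟩ := residue_surjective x
      obtain ⟨z, rfl⟩ := Ideal.Quotient.mk_surjective y
      exact ⟨residue R z, ResidueField.map_residue _ _⟩⟩)
  let R'' := (R ⧸ I) ⊗[R] R'
  let ψ : R' →+* R'' := (Algebra.TensorProduct.includeRight : R' →ₐ[R] R'').toRingHom
  let e := (Algebra.TensorProduct.quotIdealMapEquivTensorQuot R' I).toRingEquiv.trans
    (Algebra.TensorProduct.comm R R' (R ⧸ I)).toRingEquiv
  have he : ∀ x, ψ x = e (Ideal.Quotient.mk _ x) := fun x => by simp [ψ, e]
  have hsurj : Function.Surjective ψ := fun y => by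
    obtain ⟨z, rfl⟩ := e.surjective y
    obtain ⟨x, rfl⟩ := Ideal.Quotient.mk_surjective z
    exact ⟨x, he x⟩
  have hker : RingHom.ker ψ = I.map (algebraMap R R') := by
    ext x
    rw [RingHom.mem_ker, he, map_eq_zero_iff _ e.injective, Ideal.Quotient.eq_zero_iff_mem]
  have hIq : RingHom.ker ψ ≤ q := hker ▸ ((Ideal.map_mono (le_maximalIdeal (Ideal.IsPrime.ne_top ‹_›))).trans hq)
  haveI : (q.map ψ).IsPrime := Ideal.map_isPrime_of_surjective hsurj hIq
  have hmem : ∀ x, ψ x ∈ q.map ψ ↔ x ∈ q := fun x => by
    rw [← Ideal.mem_comap, Ideal.comap_map_of_surjective _ hsurj, ← RingHom.ker_eq_comap_bot, sup_eq_left.mpr hIq]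
  have hp : (maximalIdeal (R ⧸ I)).map (algebraMap (R ⧸ I) R'') ≤ q.map ψ := by
    rw [Ideal.map_le_iff_le_comap]
    intro a ha
    obtain ⟨r, rfl⟩ := Ideal.Quotient.mk_surjective a
    have h1 : ψ (algebraMap R R' r) = algebraMap (R ⧸ I) R'' (Ideal.Quotient.mk I r) := by
      show Algebra.TensorProduct.includeRight (algebraMap R R' r) = _
      rw [AlgHom.commutes]
      rfl
    rw [Ideal.mem_comap, ← h1, hmem]
    exact hq (Ideal.mem_map_of_mem _ ((mem_maximalIdeal r).mpr fun hu => (mem_maximalIdeal _).mp ha (hu.map _)))
  obtain ⟨hdom, hu⟩ := S13199.result (R ⧸ I) R'' (q.map ψ) hp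
  have hM : q.primeCompl.map ψ = (q.map ψ).primeCompl := by
    ext y
    simp only [Submonoid.mem_map, Ideal.mem_primeCompl_iff]
    constructor
    · rintro ⟨x, hx, rfl⟩; exact fun h => hx ((hmem x).mp h)
    · intro hy
      obtain ⟨x, rfl⟩ := hsurj y
      exact ⟨x, fun h => hy ((hmem x).mpr h), rfl⟩
  haveI : IsLocalization (q.primeCompl.map ψ) (Localization.AtPrime (q.map ψ)) := by rw [hM]; infer_instance
  let χ : Localization.AtPrime q →+* Localization.AtPrime (q.map ψ) :=
    IsLocalization.map _ ψ q.primeCompl.le_comap_map
  have hχker : RingHom.ker χ = (I.map (algebraMap R R')).map (algebraMap R' (Localization.AtPrime q)) := by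
    rw [← hker]
    exact IsLocalization.ker_map (T := q.primeCompl.map ψ) _ _ rfl
  let φ := (Ideal.quotEquivOfEq hχker.symm).trans (RingHom.quotientKerEquivOfSurjective
    (f := χ) (IsLocalization.map_surjective_of_surjective _ _ _ hsurj))
  exact ⟨φ.injective.isDomain, EGA43.Unibranch.isGeomUnibranch_of_ringEquiv φ.symm hu⟩

open IsLocalRing in
/-- Let R be a Noetherian local ring which is strictly henselian (henselian with separably closed
residue field), Δ a prime element of R, R' a smooth R-algebra, q a prime ideal of R' containing the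
image of the maximal ideal of R, and T a strict henselization of the localization R'_q. Then the
image of Δ in T is a prime element of T. (This is the published statement, that a prime element of
the étale local ring of the base at a geometric point remains prime in the étale local ring of a
smooth scheme over it at a geometric point above, written for the base the spectrum of R; the
published hypothesis that the base be smooth-factorial, meaning that all its smooth schemes are
locally factorial, is not used by the argument and is omitted; R is taken Noetherian, which the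
published statement does not state and the argument requires.) -/
theorem result
    (R R' T : Type u) [CommRing R] [IsNoetherianRing R] [HenselianLocalRing R]
    [IsSepClosed (ResidueField R)]
    [CommRing R'] [Algebra R R'] [Algebra.Smooth R R']
    (q : Ideal R') [q.IsPrime] (hq : (maximalIdeal R).map (algebraMap R R') ≤ q)
    [CommRing T] [IsLocalRing T] [Algebra (Localization.AtPrime q) T]
    [IsLocalHom (algebraMap (Localization.AtPrime q) T)]
    [Hensel.IsStrictHenselization (Localization.AtPrime q) T]
    (Δ : R) (hΔ : Prime Δ) :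
    Prime (algebraMap (Localization.AtPrime q) T
      (algebraMap R' (Localization.AtPrime q) (algebraMap R R' Δ))) := by
  open TensorProduct in
  have hI : (Ideal.span {Δ}).IsPrime := (Ideal.span_singleton_prime hΔ.ne_zero).mpr hΔ
  let A := Localization.AtPrime q
  let J : Ideal A := ((Ideal.span {Δ}).map (algebraMap R R')).map (algebraMap R' A)
  have hJ : J ≤ maximalIdeal A := by
    refine (Ideal.map_mono ((Ideal.map_mono (le_maximalIdeal hI.ne_top)).trans hq)).trans ?_
    exact (Localization.AtPrime.map_eq_maximalIdeal (I := q)).le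
  obtain ⟨hAJ, hTJ, hloc, hSH⟩ := Groth.Agent.CAlgH.StrictHenselExtended.exists_strict_quotient A T J hJ
  letI := (Ideal.quotientMap (J.map (algebraMap A T)) (algebraMap A T) Ideal.le_comap_map).toAlgebra
  haveI : IsLocalHom (algebraMap (A ⧸ J) (T ⧸ J.map (algebraMap A T))) := hloc
  haveI := hSH
  obtain ⟨hdom, hu⟩ := isGeomUnibranch_quotient R R' q hq (Ideal.span {Δ})
  haveI := hdom
  haveI : IsDomain (T ⧸ J.map (algebraMap A T)) := (S2750.result (A ⧸ J) _).1 ⟨inferInstance, hu⟩
  have hJT : J.map (algebraMap A T) = Ideal.span {algebraMap A T (algebraMap R' A (algebraMap R R' Δ))} := by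
    simp only [J, Ideal.map_span, Set.image_singleton]
  haveI hP : (J.map (algebraMap A T)).IsPrime := (Ideal.Quotient.isDomain_iff_prime _).mp inferInstance
  -- `R → T` is faithfully flat
  letI : Algebra R T := ((algebraMap A T).comp (algebraMap R A)).toAlgebra
  haveI : IsScalarTower R A T := IsScalarTower.of_algebraMap_eq fun _ => rfl
  obtain ⟨e⟩ := Groth.Agent.HenselLib.exists_equiv_localSH T (R := A)
  haveI : Module.Flat A T := Module.Flat.of_linearEquiv e.symm.toLinearEquiv
  haveI : Module.Flat R A := Module.Flat.trans R R' A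
  haveI : Module.Flat R T := Module.Flat.trans R A T
  haveI : IsLocalHom (algebraMap R A) := ⟨fun r hr => by
    by_contra h
    rw [IsScalarTower.algebraMap_apply R R' A, IsLocalization.AtPrime.isUnit_to_map_iff A q] at hr
    exact hr (hq (Ideal.mem_map_of_mem _ ((mem_maximalIdeal r).mpr h)))⟩
  haveI : IsLocalHom (algebraMap R T) := RingHom.isLocalHom_comp _ _
  haveI : Module.FaithfullyFlat R T := Module.FaithfullyFlat.of_flat_of_isLocalHom
  have hne : algebraMap A T (algebraMap R' A (algebraMap R R' Δ)) ≠ 0 := by
    rw [← IsScalarTower.algebraMap_apply R R' A, ← IsScalarTower.algebraMap_apply R A T]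
    exact (map_ne_zero_iff _ (FaithfulSMul.algebraMap_injective R T)).mpr hΔ.ne_zero
  rw [← Ideal.span_singleton_prime hne, ← hJT]
  exact hP

end Groth.Agent.S17730
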