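import Groth.Statements.S13202
import Groth.Agent.S17730
import Groth.Agent.HenselLib.HullProps
-- import your own Groth.Agent.* helpers here

set_option autoImplicit false
set_option linter.all false
universe u
open Hensel

namespace Groth.Agent.S13202

open TensorProduct IsLocalRing in
set_option maxHeartbeats 1600000 in
/-- Replace the base of a strict henselization by the strict henselization below. -/
theorem prime_of_smooth (R : Type u) [CommRing R] [IsNoetherianRing R] (Δ : R)
    (R' : Type u) [CommRing R'] [Algebra R R'] [Algebra.Smooth R R'] (q : Ideal R') [q.IsPrime]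
    (T : Type u) [CommRing T] [IsLocalRing T] [Algebra (Localization.AtPrime q) T]
    [IsLocalHom (algebraMap (Localization.AtPrime q) T)]
    [hT : Hensel.IsStrictHenselization (Localization.AtPrime q) T]
    (hΔ : Prime (algebraMap (Localization.AtPrime (q.comap (algebraMap R R')))
      (HenselLib.LocalSH (Localization.AtPrime (q.comap (algebraMap R R'))))
      (algebraMap R (Localization.AtPrime (q.comap (algebraMap R R'))) Δ))) :
    Prime (algebraMap (Localization.AtPrime q) T (algebraMap R' (Localization.AtPrime q) (algebraMap R R' Δ))) := by
  let p := q.comap (algebraMap R R')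
  let A := Localization.AtPrime p
  let Aq := Localization.AtPrime q
  let S := HenselLib.LocalSH A
  haveI hS : Hensel.IsStrictHenselization A S := HenselLib.isStrictHenselization_localSH
  haveI : HenselianLocalRing S := hS.henselian
  haveI : IsNoetherianRing A := IsLocalization.isNoetherianRing p.primeCompl A inferInstance
  haveI : IsNoetherianRing S := HenselLib.isNoetherianRing_localSH
  letI : Algebra R S := ((algebraMap A S).comp (algebraMap R A)).toAlgebra
  haveI : IsScalarTower R A S := IsScalarTower.of_algebraMap_eq fun _ => rfl
  haveI : IsSepClosed (ResidueField S) := hS.isSepClosure.1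
  haveI : Algebra.IsSeparable (ResidueField A) (ResidueField S) := hS.isSepClosure.2
  haveI : HenselianLocalRing T := hT.henselian
  haveI : IsSepClosed (ResidueField T) := hT.isSepClosure.1
  haveI : IsLocalHom (Localization.localRingHom p q (algebraMap R R') rfl) :=
    Localization.isLocalHom_localRingHom p q _ rfl
  let f₀ : A →+* T := (algebraMap Aq T).comp (Localization.localRingHom p q (algebraMap R R') rfl)
  haveI : IsLocalHom f₀ := RingHom.isLocalHom_comp _ _
  letI : Algebra A T := f₀.toAlgebra
  haveI : IsLocalHom (algebraMap A T) := ‹IsLocalHom f₀›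
  let τ₀ : ResidueField S →ₐ[ResidueField A] ResidueField T := IsSepClosed.lift
  obtain ⟨g, ⟨hg, hgres⟩, -⟩ := hS.universal T f₀ τ₀.toRingHom (RingHom.ext fun x => τ₀.commutes x)
  letI : Algebra R T := ((algebraMap Aq T).comp (algebraMap R Aq)).toAlgebra
  have hgR : ∀ r, g (algebraMap R S r) = algebraMap R T r := fun r => by
    rw [IsScalarTower.algebraMap_apply R A S]
    refine (congr($hg (algebraMap R A r))).trans ?_
    show algebraMap Aq T (Localization.localRingHom p q (algebraMap R R') rfl (algebraMap R A r)) = algebraMap Aq T _
    rw [Localization.localRingHom_to_map, ← IsScalarTower.algebraMap_apply R R' Aq]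
  let gS : S →ₐ[R] T := { g with commutes' := hgR }
  let gR : R' →ₐ[R] T :=
    { (algebraMap Aq T).comp (algebraMap R' Aq) with
      commutes' := fun r => congrArg (algebraMap Aq T) (IsScalarTower.algebraMap_apply R R' Aq r).symm }
  let R'S := S ⊗[R] R'
  let Φ : R'S →+* T := (Algebra.TensorProduct.lift gS gR fun _ _ => Commute.all _ _).toRingHom
  have hΦS : ∀ s, Φ (algebraMap S R'S s) = g s := fun s => by
    show Algebra.TensorProduct.lift gS gR (fun _ _ => Commute.all _ _) (s ⊗ₜ[R] (1 : R')) = g s
    rw [Algebra.TensorProduct.lift_tmul, map_one, mul_one]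
    rfl
  have hΦR : ∀ x, Φ ((Algebra.TensorProduct.includeRight : R' →ₐ[R] R'S) x) = algebraMap Aq T (algebraMap R' Aq x) :=
    fun x => by
      show Algebra.TensorProduct.lift gS gR (fun _ _ => Commute.all _ _) ((1 : S) ⊗ₜ[R] x) = _
      rw [Algebra.TensorProduct.lift_tmul, map_one, one_mul]
      rfl
  let q' := (maximalIdeal T).comap Φ
  haveI : q'.IsPrime := Ideal.IsPrime.comap Φ
  let A' := Localization.AtPrime q'
  let ι : R' →+* R'S := (Algebra.TensorProduct.includeRight : R' →ₐ[R] R'S).toRingHom
  let Ψ : A' →+* T := IsLocalization.lift (M := q'.primeCompl) (g := Φ) fun y => by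
    by_contra h
    exact y.2 ((mem_maximalIdeal _).mpr h)
  have hΨ : ∀ x, Ψ (algebraMap R'S A' x) = Φ x := fun x => IsLocalization.lift_eq _ x
  haveI : IsLocalHom Ψ := ⟨fun a ha => by
    obtain ⟨x, s, rfl⟩ := IsLocalization.exists_mk'_eq q'.primeCompl a
    rw [IsLocalization.AtPrime.isUnit_mk'_iff A' q']
    intro hx
    have h1 : Ψ (algebraMap R'S A' x) = Ψ (IsLocalization.mk' A' x s) * Ψ (algebraMap R'S A' s) := by
      rw [← map_mul, IsLocalization.mk'_spec]
    rw [hΨ, hΨ] at h1
    exact (mem_maximalIdeal _).mp hx (h1 ▸ ha.mul (by
      by_contra h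
      exact s.2 ((mem_maximalIdeal _).mpr h)))⟩
  letI : Algebra A' T := Ψ.toAlgebra
  haveI : IsLocalHom (algebraMap A' T) := ‹IsLocalHom Ψ›
  have hq' : q = q'.comap ι := by
    ext x
    show _ ↔ Φ (ι x) ∈ maximalIdeal T
    rw [show Φ (ι x) = _ from hΦR x, mem_maximalIdeal, mem_nonunits_iff, isUnit_map_iff (algebraMap Aq T),
      IsLocalization.AtPrime.isUnit_to_map_iff Aq q]
    simp [Ideal.mem_primeCompl_iff]
  let j : Aq →+* A' := Localization.localRingHom q q' ι hq'
  haveI : IsLocalHom j := Localization.isLocalHom_localRingHom q q' _ hq'
  have hj : ∀ a, Ψ (j a) = algebraMap Aq T a := by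
    intro a
    have h : (Ψ.comp j) = algebraMap Aq T := IsLocalization.ringHom_ext q.primeCompl (RingHom.ext fun x => by
      show Ψ (j (algebraMap R' Aq x)) = _
      rw [Localization.localRingHom_to_map, hΨ]
      exact hΦR x)
    exact congr($h a)
  letI : Algebra Aq A' := j.toAlgebra
  haveI : IsLocalHom (algebraMap Aq A') := ‹IsLocalHom j›
  haveI : IsScalarTower Aq A' T := IsScalarTower.of_algebraMap_eq fun a => (hj a).symm
  haveI : IsScalarTower (ResidueField Aq) (ResidueField A') (ResidueField T) :=
    IsScalarTower.of_algebraMap_eq fun x => by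
      obtain ⟨a, rfl⟩ := residue_surjective x
      exact congrArg (residue T) (hj a).symm
  haveI hT' : Hensel.IsStrictHenselization A' T :=
    { henselian := hT.henselian
      isSepClosure := ⟨inferInstance,
        haveI := hT.isSepClosure.2
        Algebra.isSeparable_tower_top_of_isSeparable (ResidueField Aq) _ _⟩
      universal := fun T' _ _ f _ τ hτ => by
        haveI : IsLocalHom (f.comp j) := RingHom.isLocalHom_comp _ _
        have hτr : ∀ x, τ (residue T (Ψ x)) = residue T' (f x) := fun x => congr($hτ (residue A' x))
        obtain ⟨g', ⟨hg', hg'res⟩, huniq⟩ := hT.universal T' (f.comp j) τ (RingHom.ext fun x => by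
          obtain ⟨a, rfl⟩ := residue_surjective x
          show τ (residue T (algebraMap Aq T a)) = residue T' (f (j a))
          rw [← hj, hτr])
        have hR' : ∀ x, g' (Φ (ι x)) = f (algebraMap R'S A' (ι x)) := fun x => by
          rw [show Φ (ι x) = _ from hΦR x]
          refine (congr($hg' (algebraMap R' Aq x))).trans (congrArg f ?_)
          exact Localization.localRingHom_to_map q q' ι hq' x
        let f₁ : S →+* T' := f.comp ((algebraMap R'S A').comp (algebraMap S R'S))
        haveI : IsLocalHom g := ⟨fun s hs => by
          by_contra h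
          have h0 := hgres s
          rw [(residue_eq_zero_iff s).mpr ((mem_maximalIdeal s).mpr h), map_zero, residue_eq_zero_iff] at h0
          exact (mem_maximalIdeal _).mp h0 hs⟩
        have hres : ∀ s, residue T' (f₁ s) = τ (residue T (g s)) := fun s => by
          rw [← hΦS, ← hΨ, hτr]; rfl
        haveI : IsLocalHom (f₁.comp (algebraMap A S)) := ⟨fun a ha => by
          by_contra h
          have h0 := hres (algebraMap A S a)
          rw [show g (algebraMap A S a) = f₀ a from congr($hg a)] at h0
          rw [(residue_eq_zero_iff (f₀ a)).mpr ((mem_maximalIdeal _).mpr fun hu => h (hu.of_map f₀)), map_zero,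
            residue_eq_zero_iff] at h0
          exact (mem_maximalIdeal _).mp h0 ha⟩
        have hA : ∀ a, g' (g (algebraMap A S a)) = f₁ (algebraMap A S a) := by
          have h : (g'.comp g).comp (algebraMap A S) = f₁.comp (algebraMap A S) :=
            IsLocalization.ringHom_ext p.primeCompl (RingHom.ext fun r => by
              show g' (g (algebraMap A S (algebraMap R A r))) = f₁ (algebraMap A S (algebraMap R A r))
              rw [← IsScalarTower.algebraMap_apply R A S]
              have h2 : algebraMap S R'S (algebraMap R S r) = ι (algebraMap R R' r) := by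
                rw [← IsScalarTower.algebraMap_apply R S R'S]
                exact (AlgHom.commutes _ r).symm
              rw [← hΦS, h2, hR', ← h2]
              rfl)
          exact fun a => congr($h a)
        have hS' : g'.comp g = f₁ :=
          (hS.universal T' (f₁.comp (algebraMap A S)) (τ.comp τ₀.toRingHom) (RingHom.ext fun x => by
            obtain ⟨a, rfl⟩ := residue_surjective x
            show τ (τ₀ (residue S (algebraMap A S a))) = residue T' (f₁ (algebraMap A S a))
            rw [hres]
            exact congrArg τ (hgres _).symm)).unique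
            ⟨RingHom.ext hA, fun s => (hg'res (g s)).trans (congrArg τ (hgres s))⟩
            ⟨rfl, fun s => (hres s).trans (congrArg τ (hgres s))⟩
        refine ⟨g', ⟨IsLocalization.ringHom_ext q'.primeCompl (RingHom.ext fun y => ?_), hg'res⟩, fun g'' hg'' => ?_⟩
        · show g' (Ψ (algebraMap R'S A' y)) = f (algebraMap R'S A' y)
          rw [hΨ]
          induction y using TensorProduct.induction_on with
          | zero => simp
          | tmul s x =>
            rw [show s ⊗ₜ[R] x = algebraMap S R'S s * ι x by
              show s ⊗ₜ[R] x = (s ⊗ₜ[R] (1 : R')) * ((1 : S) ⊗ₜ[R] x)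
              rw [Algebra.TensorProduct.tmul_mul_tmul, mul_one, one_mul],
              map_mul, map_mul, map_mul, map_mul, hΦS, hR', show g' (g s) = f₁ s from congr($hS' s)]
            rfl
          | add a b ha hb => simp only [map_add, ha, hb]
        · refine huniq g'' ⟨RingHom.ext fun a => ?_, hg''.2⟩
          show g'' (algebraMap Aq T a) = f (j a)
          rw [← hj]
          exact congr($(hg''.1) (j a)) }
  have hle : (maximalIdeal S).map (algebraMap S R'S) ≤ q' := by
    rw [Ideal.map_le_iff_le_comap]
    intro s hs
    show Φ (algebraMap S R'S s) ∈ maximalIdeal T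
    rw [hΦS, ← residue_eq_zero_iff, hgres, (residue_eq_zero_iff s).mpr hs, map_zero]
  have key := S17730.result S R'S T q' hle (algebraMap R S Δ) (by rw [IsScalarTower.algebraMap_apply R A S]; exact hΔ)
  have h2 : algebraMap S R'S (algebraMap R S Δ) = ι (algebraMap R R' Δ) := by
    rw [← IsScalarTower.algebraMap_apply R S R'S]
    exact (AlgHom.commutes _ Δ).symm
  rw [h2, show algebraMap A' T (algebraMap R'S A' (ι (algebraMap R R' Δ))) = _ from (hΨ _).trans (hΦR _)] at key
  exact key

/-- Let R be a Noetherian regular ring (every localization at a prime ideal is a regular local ring) and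
Δ ∈ R. The element Δ is étale-universally prime — meaning that for every prime ideal p of R
containing Δ and every strict henselization T of R_p, the image of Δ in T is a prime element —
exactly when for every smooth R-algebra R', every prime ideal q of R' and every strict henselization
T of R'_q, the image of Δ in T is either invertible or a prime element. (Smooth R-algebras and their
strict henselizations are taken in the universe of R.) -/
theorem result
    (R : Type u) [CommRing R] [IsNoetherianRing R]
    (hreg : ∀ (p : Ideal R) [p.IsPrime], IsRegularLocalRing (Localization.AtPrime p)) (Δ : R) :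
    (∀ (p : Ideal R) [p.IsPrime], Δ ∈ p →
        ∀ (T : Type u) [CommRing T] [IsLocalRing T] [Algebra (Localization.AtPrime p) T]
          [IsLocalHom (algebraMap (Localization.AtPrime p) T)]
          [Hensel.IsStrictHenselization (Localization.AtPrime p) T],
          Prime (algebraMap (Localization.AtPrime p) T (algebraMap R (Localization.AtPrime p) Δ))) ↔
    (∀ (R' : Type u) [CommRing R'] [Algebra R R'] [Algebra.Smooth R R'] (q : Ideal R') [q.IsPrime]
        (T : Type u) [CommRing T] [IsLocalRing T] [Algebra (Localization.AtPrime q) T]
          [IsLocalHom (algebraMap (Localization.AtPrime q) T)]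
          [Hensel.IsStrictHenselization (Localization.AtPrime q) T],
        IsUnit (algebraMap (Localization.AtPrime q) T (algebraMap R' (Localization.AtPrime q) (algebraMap R R' Δ))) ∨
          Prime (algebraMap (Localization.AtPrime q) T (algebraMap R' (Localization.AtPrime q) (algebraMap R R' Δ)))) := by
  constructor
  · intro h R' _ _ _ q _ T _ _ _ _ hT
    by_cases hΔ : algebraMap R R' Δ ∈ q
    · haveI : IsLocalHom (algebraMap (Localization.AtPrime (q.comap (algebraMap R R')))
          (Groth.Agent.HenselLib.LocalSH (Localization.AtPrime (q.comap (algebraMap R R'))))) := inferInstance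
      haveI := Groth.Agent.HenselLib.isStrictHenselization_localSH
        (R := Localization.AtPrime (q.comap (algebraMap R R')))
      exact Or.inr (prime_of_smooth R Δ R' q T (h (q.comap (algebraMap R R')) hΔ _))
    · exact Or.inl (((IsLocalization.AtPrime.isUnit_to_map_iff (Localization.AtPrime q) q _).mpr hΔ).map _)
  · intro h p _ hΔ T _ _ _ _ hT
    refine (h R p T).resolve_left fun hu => ?_
    exact (IsLocalization.AtPrime.isUnit_to_map_iff (Localization.AtPrime p) p _).mp
      (isUnit_of_map_unit (algebraMap (Localization.AtPrime p) T) _ hu) hΔ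

end Groth.Agent.S13202
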