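import Groth.Statements.S13203
import Groth.Agent.NeronLib.Restrict
open Groth.Agent.NeronLib CategoryTheory CategoryTheory.Limits AlgebraicGeometry

set_option autoImplicit false
universe u
open CategoryTheory AlgebraicGeometry
open Neron

namespace Groth.Agent.S13203

/-- Let S be a scheme, U ⊆ S a schematically dense open subscheme and N → S a smooth S-scheme with the
Néron mapping property with respect to U: for every smooth S-scheme Y, sending an S-morphism Y → N
to its restriction Y ×_S U → N ×_S U is a bijection onto the U-morphisms. Then for every smooth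
morphism g : S' → S the base change N ×_S S' → S' (again smooth) has the Néron mapping property with
respect to g⁻¹(U): for every smooth S'-scheme Y', restriction to g⁻¹(U) is a bijection from
S'-morphisms Y' → N ×_S S' onto g⁻¹(U)-morphisms. (The published statement is for models which are
algebraic spaces, tested against smooth algebraic spaces, and also says that separatedness is
preserved; this row states the case of a smooth scheme model tested against smooth schemes.) -/
theorem result
    {S S' : Scheme.{u}} (g : S' ⟶ S) [Smooth g]
    (U : S.Opens) (hU : CInt.IsSchematicallyDense U) (N : Over S) [Smooth N.hom]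
    (hN : ∀ Y : Over S, Smooth Y.hom →
      Function.Bijective (fun f : Y ⟶ N => (Over.pullback U.ι).map f))
    (Y' : Over S') [Smooth Y'.hom] :
    Function.Bijective (fun f : Y' ⟶ (Over.pullback g).obj N => (Over.pullback (g ⁻¹ᵁ U).ι).map f) := by
  have hY : Smooth (Y'.hom ≫ g) := inferInstance
  have hP := (IsPullback.of_hasPullback Y'.hom (g ⁻¹ᵁ U).ι).paste_vert (isPullback_morphismRestrict g U).flip
  rw [bijective_map_iff _ (IsPullback.of_hasPullback Y'.hom (g ⁻¹ᵁ U).ι)]
  intro h hh
  let Y : Over S := Over.mk (Y'.hom ≫ g)
  have hh1 : h ≫ pullback.snd N.hom g = pullback.fst _ _ ≫ Y'.hom := hh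
  obtain ⟨b, hb, hu⟩ := (bijective_map_iff (Z := Y) U.ι hP).1 (hN Y hY) (h ≫ pullback.fst N.hom g) (by
    show (h ≫ pullback.fst N.hom g) ≫ N.hom = _ ≫ Y'.hom ≫ g
    rw [Category.assoc, pullback.condition, reassoc_of% hh1])
  have hbw : b.left ≫ N.hom = Y'.hom ≫ g := Over.w b
  refine ⟨Over.homMk (pullback.lift b.left Y'.hom hbw) (pullback.lift_snd _ _ _), ?_, fun a ha => ?_⟩
  · refine pullback.hom_ext ((Category.assoc _ _ _).trans ?_) ((Category.assoc _ _ _).trans ?_)
    · exact (congrArg _ (pullback.lift_fst _ _ _)).trans hb
    · exact (congrArg _ (pullback.lift_snd _ _ _)).trans hh1.symm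
  · refine Over.OverMorphism.ext (pullback.hom_ext ?_ ((Over.w a).trans (pullback.lift_snd _ _ _).symm))
    refine Eq.trans ?_ (pullback.lift_fst _ _ _).symm
    have := hu (Over.homMk (a.left ≫ pullback.fst N.hom g) (by
      show (a.left ≫ pullback.fst N.hom g) ≫ N.hom = Y'.hom ≫ g
      rw [Category.assoc, pullback.condition, ← Category.assoc]
      exact congrArg (· ≫ g) (Over.w a)))
      ((Category.assoc _ _ _).symm.trans (congrArg (· ≫ pullback.fst N.hom g) ha))
    exact congrArg (fun t => t.left) this

end Groth.Agent.S13203
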