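import Groth.Statements.S13204
import Groth.Agent.ValExtLib.Basic
import Mathlib.RingTheory.Polynomial.UniqueFactorization
import Mathlib.RingTheory.Localization.AtPrime.Basic

set_option autoImplicit false
universe u
open Neron

namespace Groth.Agent.S13204

theorem exists_dvr_localHom {A' : Type u} [CommRing A'] [IsDomain A'] [IsNoetherianRing A']
    [IsLocalRing A'] (hA' : ¬ IsField A') :
    ∃ (V : Type u) (_ : CommRing V) (_ : IsDomain V) (_ : IsDiscreteValuationRing V) (e : A' →+* V),
      IsLocalHom e ∧ Function.Injective e := by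
  obtain ⟨V, hV, hmem, hval⟩ := Groth.Agent.ValExtLib.exists_dvr_dominating
    (A := A') (L := FractionRing A') hA' (FractionRing A')
    (by rw [IntermediateField.fg_def]; exact ⟨∅, Set.finite_empty, Subsingleton.elim _ _⟩)
  let e : A' →+* V := (algebraMap A' (FractionRing A')).codRestrict V.toSubring hmem
  refine ⟨V, inferInstance, inferInstance, hV, e, ⟨fun a ha => ?_⟩, fun x y h =>
    IsFractionRing.injective A' (FractionRing A') (congrArg Subtype.val h)⟩
  by_contra h
  exact ne_of_lt (hval a ((IsLocalRing.mem_maximalIdeal _).2 h))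
    ((ValuationSubring.valuation_eq_one_iff V (e a)).1 ha)

/-- Let R be a strictly henselian Noetherian local unique factorization domain and Δ₁, Δ₂ two non-units
of R with no common prime factor. Then there are a discrete valuation ring A and an injective local
homomorphism f : R → A — so that Spec A → Spec R sends the closed point to the closed point and the
generic point to the generic point, which lies in every dense open subset — such that f(Δ₁) is a
non-zero non-unit and f(Δ₁) = u · f(Δ₂) for some unit u of A congruent to 1 modulo the maximal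
ideal. (The published statement asks for the images of Δ₁ and Δ₂ in A to be equal, with the generic
point of Spec A sent into a given dense open subset of Spec R; that cannot hold in general — for R =
ℂ[[a,b]], Δ₁ = a, Δ₂ = b and the dense open D(a − b), any local map to a discrete valuation ring
identifying a and b sends the generic point into V(a − b) — so this row asks instead for f(Δ₁) = u ·
f(Δ₂) with u a unit congruent to 1 modulo the maximal ideal.) -/
theorem result
    (R : Type u) [CommRing R] [IsDomain R] [IsNoetherianRing R] [UniqueFactorizationMonoid R]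
    [HenselianLocalRing R] [IsSepClosed (IsLocalRing.ResidueField R)]
    (Δ₁ Δ₂ : R) (h₁ : ¬ IsUnit Δ₁) (h₂ : ¬ IsUnit Δ₂) (hcop : IsRelPrime Δ₁ Δ₂) :
    ∃ (A : Type u) (_ : CommRing A) (_ : IsDomain A) (_ : IsDiscreteValuationRing A) (f : R →+* A),
      IsLocalHom f ∧ Function.Injective f ∧ ¬ IsUnit (f Δ₁) ∧
        ∃ u : Aˣ, (u : A) - 1 ∈ IsLocalRing.maximalIdeal A ∧ f Δ₁ = (u : A) * f Δ₂ := by
  classical
  have hd2 : Δ₂ ≠ 0 := fun h => h₁ (hcop dvd_rfl (h ▸ dvd_zero _))
  let p : Polynomial R := Polynomial.C Δ₂ * Polynomial.X - Polynomial.C Δ₁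
  have hdeg : p.natDegree = 1 := by
    simp only [p, sub_eq_add_neg, ← Polynomial.C_neg]
    exact Polynomial.natDegree_linear hd2
  have hprim : p.IsPrimitive := by
    intro r hr
    rw [Polynomial.C_dvd_iff_dvd_coeff] at hr
    have h0 := hr 0
    have h1 := hr 1
    simp [p] at h0 h1
    exact hcop h0 h1
  have hirr : Irreducible p := by
    refine ⟨fun h => ?_, fun x y hxy => ?_⟩
    · have := Polynomial.natDegree_eq_zero_of_isUnit h; omega
    · have hp0 : p ≠ 0 := fun h => by simp [h] at hdeg
      have hx : x ≠ 0 := fun h => hp0 (by simp [hxy, h])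
      have hy : y ≠ 0 := fun h => hp0 (by simp [hxy, h])
      have : x.natDegree + y.natDegree = 1 := by rw [← Polynomial.natDegree_mul hx hy, ← hxy, hdeg]
      have key : ∀ {z : Polynomial R}, z ∣ p → z.natDegree = 0 → IsUnit z := fun {z} hz hd => by
        rw [Polynomial.eq_C_of_natDegree_eq_zero hd] at hz ⊢
        exact (hprim _ hz).map Polynomial.C
      rcases Nat.add_eq_one_iff.1 this with ⟨h, -⟩ | ⟨-, h⟩
      · exact Or.inl (key ⟨y, hxy⟩ h)
      · exact Or.inr (key ⟨x, hxy.trans (mul_comm _ _)⟩ h)
  haveI : (Ideal.span {p}).IsPrime :=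
    (Ideal.span_singleton_prime hirr.ne_zero).2 (UniqueFactorizationMonoid.irreducible_iff_prime.1 hirr)
  let B := Polynomial R ⧸ Ideal.span {p}
  let q : Polynomial R →+* B := Ideal.Quotient.mk _
  let ψ : B →+* IsLocalRing.ResidueField R :=
    Ideal.Quotient.lift _ (Polynomial.eval₂RingHom (IsLocalRing.residue R) 1) (by
      intro z hz
      obtain ⟨w, rfl⟩ := Ideal.mem_span_singleton.1 hz
      simp [p, (IsLocalRing.residue_eq_zero_iff _).2 h₁, (IsLocalRing.residue_eq_zero_iff _).2 h₂])
  have hψ : ∀ r : R, ψ (q (Polynomial.C r)) = IsLocalRing.residue R r := fun r =>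
    (Ideal.Quotient.lift_mk _ _ _).trans (Polynomial.eval₂_C _ _)
  let Q : Ideal B := RingHom.ker ψ
  haveI : Q.IsPrime := RingHom.ker_isPrime ψ
  let A' := Localization.AtPrime Q
  let j : R →+* A' := (algebraMap B A').comp (q.comp Polynomial.C)
  have hinjA : Function.Injective (algebraMap B A') :=
    IsLocalization.injective (R := B) (Localization.AtPrime Q) (M := Q.primeCompl)
      (Ideal.primeCompl_le_nonZeroDivisors Q)
  have hinjB : Function.Injective (q.comp Polynomial.C) := by
    rw [injective_iff_map_eq_zero]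
    intro r hr
    by_contra hr0
    have hd : p ∣ Polynomial.C r := by
      rw [← Ideal.mem_span_singleton]
      exact Ideal.Quotient.eq_zero_iff_mem.1 hr
    have := Polynomial.natDegree_le_of_dvd hd (Polynomial.C_ne_zero.2 hr0)
    simp [hdeg] at this
  have hj : Function.Injective j := hinjA.comp hinjB
  have hjm : ∀ r : R, ¬ IsUnit r → j r ∈ IsLocalRing.maximalIdeal A' := fun r hr => by
    rw [show j r = algebraMap B A' (q (Polynomial.C r)) from rfl,
      IsLocalization.AtPrime.to_map_mem_maximal_iff A' Q]
    exact (hψ r).trans ((IsLocalRing.residue_eq_zero_iff _).2 hr)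
  let t : A' := algebraMap B A' (q Polynomial.X)
  have ht : t * j Δ₂ = j Δ₁ := by
    simp only [t, j, RingHom.comp_apply, ← map_mul]
    refine congrArg _ (Ideal.Quotient.eq.2 ?_)
    rw [mul_comm Polynomial.X]
    exact Ideal.mem_span_singleton_self p
  have ht1 : t - 1 ∈ IsLocalRing.maximalIdeal A' := by
    have : t - 1 = algebraMap B A' (q Polynomial.X - 1) := by simp [t]
    rw [this, IsLocalization.AtPrime.to_map_mem_maximal_iff A' Q]
    refine RingHom.mem_ker.2 ?_
    rw [map_sub, map_one, show ψ (q Polynomial.X) = 1 from (Ideal.Quotient.lift_mk _ _ _).trans (Polynomial.eval₂_X _ _), sub_self]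
  haveI : IsDomain A' := IsLocalization.isDomain_localization (Ideal.primeCompl_le_nonZeroDivisors Q)
  haveI : IsNoetherianRing A' := IsLocalization.isNoetherianRing Q.primeCompl A' inferInstance
  have hA' : ¬ IsField A' := fun h => by
    have := hjm Δ₂ h₂
    rw [IsLocalRing.isField_iff_maximalIdeal_eq.1 h, Ideal.mem_bot] at this
    exact hd2 (hj (this.trans (map_zero j).symm))
  obtain ⟨V, _, _, hV, e, he', he⟩ := exists_dvr_localHom (A' := Localization.AtPrime Q) hA'
  have hem : ∀ a ∈ IsLocalRing.maximalIdeal A', e a ∈ IsLocalRing.maximalIdeal V := fun a ha =>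
    map_nonunit e a ha
  have htu : IsUnit (e t) := by
    by_contra h
    refine (IsLocalRing.maximalIdeal.isMaximal V).ne_top ((Ideal.eq_top_iff_one _).2 ?_)
    have := sub_mem ((IsLocalRing.mem_maximalIdeal _).2 h) (hem _ ht1)
    rwa [map_sub, map_one, sub_sub_cancel] at this
  refine ⟨V, inferInstance, inferInstance, hV, e.comp j, ⟨fun r hr => ?_⟩, he.comp hj, ?_,
    htu.unit, ?_, ?_⟩
  · by_contra h
    exact (IsLocalRing.mem_maximalIdeal _).1 (hem _ (hjm r h)) hr
  · exact fun h => (IsLocalRing.mem_maximalIdeal _).1 (hem _ (hjm Δ₁ h₁)) h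
  · rw [IsUnit.unit_spec, ← map_one e, ← map_sub]
    exact hem _ ht1
  · rw [IsUnit.unit_spec]
    exact ((congrArg e ht).symm).trans (map_mul e _ _)

end Groth.Agent.S13204
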