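import Groth.Statements.S13206
import Mathlib.CategoryTheory.MorphismProperty.Composition

set_option autoImplicit false
universe u
open CategoryTheory AlgebraicGeometry
open AlgGrp
open CategoryTheory.Limits

namespace Groth.Agent.S13206

/-- Let X → S be a separated morphism of schemes and let a finite group G act on X through
S-automorphisms. Then the functor of G-fixed points is represented by a closed subscheme of X: there
are a scheme Z and a closed immersion i : Z → X with i ∘ g = i for all g ∈ G such that every
morphism x : T → X with g ∘ x = x for all g ∈ G factors uniquely through i. (The published statement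
is for an algebraic space X over S, also treats the locally separated case and notes compatibility
with base change; this row is the separated case for schemes.) -/
theorem result
    {X S : Scheme.{u}} (p : X ⟶ S) [IsSeparated p]
    (G : Type u) [Group G] [Finite G] (ρ : G →* Aut X) (hρ : ∀ g : G, (ρ g).hom ≫ p = p) :
    ∃ (Z : Scheme.{u}) (i : Z ⟶ X), IsClosedImmersion i ∧ (∀ g : G, i ≫ (ρ g).hom = i) ∧
      ∀ (T : Scheme.{u}) (x : T ⟶ X), (∀ g : G, x ≫ (ρ g).hom = x) → ∃! z : T ⟶ Z, z ≫ i = x := by
  classical
  have := Fintype.ofFinite G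
  suffices h : ∀ s : Finset G, ∃ (Z : Scheme.{u}) (i : Z ⟶ X), IsClosedImmersion i ∧ (∀ g ∈ s, i ≫ (ρ g).hom = i) ∧
      ∀ (T : Scheme.{u}) (x : T ⟶ X), (∀ g ∈ s, x ≫ (ρ g).hom = x) → ∃ z : T ⟶ Z, z ≫ i = x by
    obtain ⟨Z, i, hi, h1, h2⟩ := h Finset.univ
    refine ⟨Z, i, hi, fun g => h1 g (Finset.mem_univ g), fun T x hx => ?_⟩
    obtain ⟨z, hz⟩ := h2 T x fun g _ => hx g
    exact ⟨z, hz, fun z' hz' => (cancel_mono i).1 (hz'.trans hz.symm)⟩
  intro s
  induction s using Finset.induction_on with
  | empty => exact ⟨X, 𝟙 X, inferInstance, by simp, fun T x _ => ⟨x, by simp⟩⟩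
  | insert g s _ ih =>
    obtain ⟨Z, i, hi, h1, h2⟩ := ih
    let a : Over.mk (i ≫ p) ⟶ Over.mk p := Over.homMk i
    let b : Over.mk (i ≫ p) ⟶ Over.mk p := Over.homMk (i ≫ (ρ g).hom) (by simp [Category.assoc, hρ])
    have : IsSeparated (Over.mk p).hom := ‹IsSeparated p›
    have hcond : (equalizer.ι a b).left ≫ i = (equalizer.ι a b).left ≫ i ≫ (ρ g).hom := by
      have := congrArg CommaMorphism.left (equalizer.condition a b)
      simpa [a, b] using this
    refine ⟨_, (equalizer.ι a b).left ≫ i, inferInstance, fun h hh => ?_, fun T x hx => ?_⟩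
    · rcases Finset.mem_insert.1 hh with rfl | hh
      · rw [Category.assoc, ← hcond]
      · rw [Category.assoc, h1 h hh]
    · obtain ⟨z, hz⟩ := h2 T x fun h hh => hx h (Finset.mem_insert_of_mem hh)
      let z' : Over.mk (z ≫ i ≫ p) ⟶ Over.mk (i ≫ p) := Over.homMk z
      have hz' : z' ≫ a = z' ≫ b := by
        ext
        simp only [Over.comp_left, z', a, b, Over.homMk_left]
        rw [← Category.assoc z i (ρ g).hom, hz]
        exact (hx g (Finset.mem_insert_self g s)).symm
      refine ⟨(equalizer.lift z' hz').left, ?_⟩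
      rw [← Category.assoc, ← Over.comp_left, equalizer.lift_ι]
      exact hz

end Groth.Agent.S13206
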