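import Groth.Statements.S13207
import Groth.Agent.NeronLib.Restrict
import Mathlib.AlgebraicGeometry.Limits
import Mathlib.AlgebraicGeometry.Morphisms.Smooth
open CategoryTheory CategoryTheory.Limits AlgebraicGeometry TopologicalSpace

set_option autoImplicit false
universe u
open CategoryTheory CategoryTheory.Limits AlgebraicGeometry
open Neron

namespace Groth.Agent.S13207

variable {I : Type u} {B N : I → Scheme.{u}} (f : ∀ i, N i ⟶ B i)

theorem isPullback_sigma_map (i : I) :
    IsPullback (Sigma.ι N i) (f i) (Limits.Sigma.map f) (Sigma.ι B i) := by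
  refine (IsOpenImmersion.isPullback (f i) (Sigma.ι N i) (Sigma.ι B i) (Limits.Sigma.map f)
    (Sigma.ι_map f i) ?_).flip
  ext x
  constructor
  · rintro ⟨b, hb⟩
    obtain ⟨j, y, rfl⟩ := (sigmaOpenCover N).exists_eq x
    by_cases h : i = j
    · subst h; exact ⟨y, rfl⟩
    · exfalso
      have h1 : Sigma.ι B i b = Sigma.ι B j (f j y) := by
        rw [hb]
        show (Sigma.ι N j ≫ Limits.Sigma.map f) y = (f j ≫ Sigma.ι B j) y
        rw [Sigma.ι_map]
      exact h (congrArg Sigma.fst ((sigmaι_eq_iff _ _ _ _ _).1 h1))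
  · rintro ⟨y, rfl⟩
    refine ⟨f i y, ?_⟩
    show (f i ≫ Sigma.ι B i) y = (Sigma.ι N i ≫ Limits.Sigma.map f) y
    rw [Sigma.ι_map]


/-- Let (S_i)_{i ∈ I} be a family of schemes, (N_i → S_i)_{i ∈ I} morphisms of schemes, S = ∐ S_i and N
= ∐ N_i with the induced morphism N → S, and U ⊆ S a schematically dense open subscheme with
preimages U_i ⊆ S_i. Then N → S is smooth with the Néron mapping property with respect to U — for
every smooth S-scheme Y, restriction to U is a bijection from S-morphisms Y → N onto U-morphisms Y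
×_S U → N ×_S U — if and only if every N_i → S_i is smooth with the Néron mapping property with
respect to U_i. (The published statement is for algebraic spaces N_i tested against smooth algebraic
spaces, and has the same form for separated models; this row is the not-necessarily-separated case
for schemes tested against smooth schemes.) -/
theorem result
    {I : Type u} (B N : I → Scheme.{u}) (f : ∀ i, N i ⟶ B i)
    (U : (∐ B).Opens) (hU : CInt.IsSchematicallyDense U) :
    (Smooth (Limits.Sigma.map f) ∧ ∀ Y : Over (∐ B), Smooth Y.hom →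
        Function.Bijective (fun g : Y ⟶ Over.mk (Limits.Sigma.map f) => (Over.pullback U.ι).map g)) ↔
    ∀ i, Smooth (f i) ∧ ∀ Y : Over (B i), Smooth Y.hom →
        Function.Bijective (fun g : Y ⟶ Over.mk (f i) => (Over.pullback ((Limits.Sigma.ι B i) ⁻¹ᵁ U).ι).map g) := by
  open Groth.Agent.NeronLib in
  constructor
  · rintro ⟨hs, hb⟩ i
    refine ⟨MorphismProperty.of_isPullback (P := @Smooth) (isPullback_sigma_map f i) hs, fun Y hY => ?_⟩
    refine (bijective_map_iff _ (isPullback_morphismRestrict Y.hom _).flip).2 fun h hh => ?_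
    let Y' : Over (∐ B) := Over.mk (Y.hom ≫ Sigma.ι B i)
    have hY' : Smooth Y'.hom := by show Smooth (Y.hom ≫ Sigma.ι B i); infer_instance
    have hh' : (h ≫ Sigma.ι N i) ≫ Limits.Sigma.map f = (Y'.hom ⁻¹ᵁ U).ι ≫ Y'.hom := by
      rw [Category.assoc, Sigma.ι_map, ← Category.assoc, show h ≫ f i = _ from hh, Category.assoc]
      rfl
    obtain ⟨a', ha', hu⟩ := (bijective_map_iff _ (isPullback_morphismRestrict Y'.hom U).flip).1 (hb Y' hY')
      (h ≫ Sigma.ι N i) hh'
    have hw : a'.left ≫ Limits.Sigma.map f = Y.hom ≫ Sigma.ι B i := Over.w a'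
    let a : Y ⟶ Over.mk (f i) := Over.homMk ((isPullback_sigma_map f i).lift a'.left Y.hom hw)
      ((isPullback_sigma_map f i).lift_snd _ _ _)
    refine ⟨a, ?_, fun b hb' => ?_⟩
    · show _ ≫ a.left = h
      rw [← cancel_mono (Sigma.ι N i)]
      refine (Category.assoc _ _ _).trans ((congrArg (_ ≫ ·) ((isPullback_sigma_map f i).lift_fst _ _ _)).trans ?_)
      exact ha'
    · let b' : Y' ⟶ Over.mk (Limits.Sigma.map f) := Over.homMk (b.left ≫ Sigma.ι N i) (by
        show (b.left ≫ Sigma.ι N i) ≫ Limits.Sigma.map f = Y.hom ≫ Sigma.ι B i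
        rw [Category.assoc, Sigma.ι_map, ← Category.assoc, show b.left ≫ f i = Y.hom from Over.w b])
      have := congrArg CommaMorphism.left (hu b' ((Category.assoc _ _ _).symm.trans (congrArg (· ≫ Sigma.ι N i) hb')))
      refine Over.OverMorphism.ext ?_
      rw [← cancel_mono (Sigma.ι N i)]
      exact this.trans ((isPullback_sigma_map f i).lift_fst _ _ _).symm
  · intro hi
    refine ⟨?_, fun Y hY => ?_⟩
    · rw [IsZariskiLocalAtTarget.iff_of_openCover (P := @Smooth) (sigmaOpenCover B)]
      intro i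
      have h2 := (hi i).1
      have h3 := (MorphismProperty.cancel_left_of_respectsIso @Smooth (isPullback_sigma_map f i).isoPullback.inv (f i)).2 h2
      rw [IsPullback.isoPullback_inv_snd] at h3
      exact h3
    refine (bijective_map_iff _ (isPullback_morphismRestrict Y.hom U).flip).2 fun h hh => ?_
    let Z : I → Scheme.{u} := fun i => pullback Y.hom (Sigma.ι B i)
    let z : ∀ i, Z i ⟶ Y.left := fun i => pullback.fst _ _
    have hsm : ∀ i, Smooth (pullback.snd Y.hom (Sigma.ι B i)) := fun i =>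
      MorphismProperty.pullback_snd (P := @Smooth) _ _ hY
    let Q : ∀ i, (Z i).Opens := fun i => (pullback.snd Y.hom (Sigma.ι B i)) ⁻¹ᵁ (Sigma.ι B i ⁻¹ᵁ U)
    let ρ : ∀ i, (Q i).toScheme ⟶ (Y.hom ⁻¹ᵁ U).toScheme := fun i =>
      IsOpenImmersion.lift (Y.hom ⁻¹ᵁ U).ι ((Q i).ι ≫ z i) (by
        rw [Scheme.Opens.range_ι]
        rintro _ ⟨q, rfl⟩
        show (z i ≫ Y.hom) ((Q i).ι q) ∈ U
        rw [show z i ≫ Y.hom = _ from pullback.condition]
        exact q.2)
    have hρ : ∀ i, ρ i ≫ (Y.hom ⁻¹ᵁ U).ι = (Q i).ι ≫ z i := fun i => IsOpenImmersion.lift_fac _ _ _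
    have hhi : ∀ i, (ρ i ≫ h) ≫ Limits.Sigma.map f = ((Q i).ι ≫ pullback.snd _ _) ≫ Sigma.ι B i := fun i => by
      rw [Category.assoc, show h ≫ Limits.Sigma.map f = _ from hh, reassoc_of% hρ i, Category.assoc]
      exact congrArg _ pullback.condition
    let hN : ∀ i, (Q i).toScheme ⟶ N i := fun i => (isPullback_sigma_map f i).lift _ _ (hhi i)
    have hex : ∀ i, ∃! a : Over.mk (pullback.snd Y.hom (Sigma.ι B i)) ⟶ Over.mk (f i), (Q i).ι ≫ a.left = hN i := fun i =>
      (bijective_map_iff _ (isPullback_morphismRestrict (pullback.snd Y.hom (Sigma.ι B i)) _).flip).1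
        ((hi i).2 _ (hsm i)) (hN i) ((isPullback_sigma_map f i).lift_snd _ _ _)
    choose a ha hau using hex
    let 𝒰 := (sigmaOpenCover B).pullback₁ Y.hom
    let g : ∀ i, Z i ⟶ ∐ N := fun i => (a i).left ≫ Sigma.ι N i
    have hg : ∀ i, g i ≫ Limits.Sigma.map f = z i ≫ Y.hom := fun i => by
      rw [Category.assoc, Sigma.ι_map, ← Category.assoc, show (a i).left ≫ f i = _ from Over.w (a i)]
      exact pullback.condition.symm
    have hgl : ∀ i j, pullback.fst (z i) (z j) ≫ g i = pullback.snd (z i) (z j) ≫ g j := by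
      intro i j
      by_cases h : i = j
      · subst h
        rw [(cancel_mono (z i)).1 (pullback.condition (f := z i) (g := z i))]
      · have : IsEmpty ↥(pullback (z i) (z j)) := isEmpty_of_commSq_sigmaι_of_ne
          (a := pullback.fst (z i) (z j) ≫ pullback.snd _ _) (b := pullback.snd (z i) (z j) ≫ pullback.snd _ _)
          ⟨by rw [Category.assoc, Category.assoc, ← pullback.condition, ← pullback.condition]; exact pullback.condition_assoc _⟩ h
        exact (isInitialOfIsEmpty (X := pullback (z i) (z j))).hom_ext _ _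
    let A := Scheme.Cover.glueMorphisms 𝒰 g hgl
    have hA : ∀ i, z i ≫ A = g i := fun i => Scheme.Cover.ι_glueMorphisms 𝒰 g hgl i
    have hAw : A ≫ Limits.Sigma.map f = Y.hom := Scheme.Cover.hom_ext 𝒰 _ _ fun i => by
      show z i ≫ A ≫ _ = z i ≫ Y.hom
      rw [← Category.assoc, hA, hg]
    refine ⟨Over.homMk A hAw, ?_, fun b hb => Over.OverMorphism.ext (Scheme.Cover.hom_ext 𝒰 _ _ fun i => ?_)⟩
    · refine Scheme.hom_ext_of_forall _ _ fun p => ?_
      obtain ⟨i, y, hy⟩ := (sigmaOpenCover B).exists_eq (Y.hom ((Y.hom ⁻¹ᵁ U).ι p))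
      obtain ⟨q, hq1, -⟩ := Scheme.Pullback.exists_preimage_pullback (f := Y.hom) (g := Sigma.ι B i)
        ((Y.hom ⁻¹ᵁ U).ι p) y hy.symm
      refine ⟨(ρ i).opensRange, ?_, ?_⟩
      · have hqQ : q ∈ Q i := by
          show (pullback.snd Y.hom (Sigma.ι B i) ≫ Sigma.ι B i) q ∈ U
          rw [← pullback.condition]
          show Y.hom (z i q) ∈ U
          rw [show z i q = _ from hq1]
          exact p.2
        refine ⟨⟨q, hqQ⟩, (Y.hom ⁻¹ᵁ U).ι.isOpenEmbedding.injective ?_⟩
        show (ρ i ≫ (Y.hom ⁻¹ᵁ U).ι) _ = _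
        rw [hρ]
        exact hq1
      · rw [← cancel_epi (ρ i).isoOpensRange.hom]
        simp only [← Category.assoc, Scheme.Hom.isoOpensRange_hom_ι]
        show (ρ i ≫ (Y.hom ⁻¹ᵁ U).ι) ≫ A = ρ i ≫ h
        rw [hρ, Category.assoc, hA, ← Category.assoc, ha i]
        exact (isPullback_sigma_map f i).lift_fst _ _ _
    · show z i ≫ b.left = z i ≫ A
      have hw : (z i ≫ b.left) ≫ Limits.Sigma.map f = pullback.snd Y.hom (Sigma.ι B i) ≫ Sigma.ι B i := by
        rw [Category.assoc, show b.left ≫ Limits.Sigma.map f = Y.hom from Over.w b]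
        exact pullback.condition
      let c : Over.mk (pullback.snd Y.hom (Sigma.ι B i)) ⟶ Over.mk (f i) :=
        Over.homMk ((isPullback_sigma_map f i).lift _ _ hw) ((isPullback_sigma_map f i).lift_snd _ _ _)
      have hc : c = a i := by
        refine hau i c ((isPullback_sigma_map f i).hom_ext ?_ ?_)
        · refine Eq.trans ?_ ((isPullback_sigma_map f i).lift_fst _ _ _).symm
          refine (Category.assoc _ _ _).trans ((congrArg ((Q i).ι ≫ ·) ((isPullback_sigma_map f i).lift_fst _ _ _)).trans ?_)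
          rw [← Category.assoc, ← hρ, Category.assoc, show (Y.hom ⁻¹ᵁ U).ι ≫ b.left = h from hb]
        · refine Eq.trans ?_ ((isPullback_sigma_map f i).lift_snd _ _ _).symm
          exact (Category.assoc _ _ _).trans (congrArg ((Q i).ι ≫ ·) ((isPullback_sigma_map f i).lift_snd _ _ _))
      rw [hA]
      show _ = (a i).left ≫ Sigma.ι N i
      rw [← hc]
      exact ((isPullback_sigma_map f i).lift_fst _ _ _).symm

end Groth.Agent.S13207
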