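import Groth.Statements.S19894
import Groth.Agent.CAlgH.RetractionApprox

set_option autoImplicit false
universe u
open IsLocalRing
open Hensel

namespace Groth.Agent.S19894

open MvPowerSeries in
/-- Let R be a strictly henselian (henselian with separably closed residue field) excellent Noetherian
local domain which is a unique factorization domain and whose completion R^ at the maximal ideal is
also a unique factorization domain; let Δ ≠ 0 and t₁, t₂ be elements of the maximal ideal of R with
t₁ t₂ = Δ, and let C be a local R-algebra, essentially of finite type over R with local structure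
map, given with a ring isomorphism ψ from the completion C^ of C onto R^[[u,v]]/(uv − Δ) compatible
with the structure maps from R. Then there are an R-algebra homomorphism g : C → R and a ring
homomorphism ĝ : C^ → R^ inducing g (ĝ restricted to C is g followed by R → R^) such that ĝ(ψ⁻¹(u))
generates the ideal t₁R^ and ĝ(ψ⁻¹(v)) generates t₂R^. (This is the local-ring form of the statement
that, for a base scheme S with étale local ring R at a geometric point s̄, an S-scheme X of finite
presentation and a closed point x of the geometric fibre whose completed étale local ring is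
presented as R^[[u,v]]/(uv − Δ), some étale neighbourhood of s̄ carries a section of X through x
sending u, v to generators of (t₁), (t₂); the retraction g of the local ring C of X ×_S Spec R at x
is such a section by finite presentation. The source assumes S excellent and smooth-factorial and
takes R^ to be factorial; here the properties of R that the argument uses are assumed directly, so
that the statement covers in particular every strictly henselian excellent regular local ring. The
published statement allows Δ = 0; this one assumes Δ ≠ 0.) -/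
theorem result
    (R : Type u) [CommRing R] [IsNoetherianRing R] [IsDomain R] [UniqueFactorizationMonoid R] [HenselianLocalRing R]
    [IsSepClosed (ResidueField R)] (hR : EGA4.IsExcellent R)
    [IsDomain (AdicCompletion (maximalIdeal R) R)] [UniqueFactorizationMonoid (AdicCompletion (maximalIdeal R) R)]
    (Δ t₁ t₂ : R) (hΔ : Δ ≠ 0) (ht₁ : t₁ ∈ maximalIdeal R) (ht₂ : t₂ ∈ maximalIdeal R) (ht : t₁ * t₂ = Δ)
    (C : Type u) [CommRing C] [IsLocalRing C] [Algebra R C] [IsLocalHom (algebraMap R C)]
    [Algebra.EssFiniteType R C]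
    (ψ : AdicCompletion (maximalIdeal C) C ≃+*
      (MvPowerSeries (Fin 2) (AdicCompletion (maximalIdeal R) R) ⧸
        Ideal.span {(X 0 * X 1 - MvPowerSeries.C (algebraMap R (AdicCompletion (maximalIdeal R) R) Δ) :
          MvPowerSeries (Fin 2) (AdicCompletion (maximalIdeal R) R))}))
    (hψ : ψ.toRingHom.comp ((algebraMap C (AdicCompletion (maximalIdeal C) C)).comp (algebraMap R C)) =
      (Ideal.Quotient.mk _).comp ((MvPowerSeries.C : AdicCompletion (maximalIdeal R) R →+*
        MvPowerSeries (Fin 2) (AdicCompletion (maximalIdeal R) R)).comp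
          (algebraMap R (AdicCompletion (maximalIdeal R) R)))) :
    ∃ (g : C →ₐ[R] R) (ĝ : AdicCompletion (maximalIdeal C) C →+* AdicCompletion (maximalIdeal R) R),
      ĝ.comp (algebraMap C (AdicCompletion (maximalIdeal C) C)) =
        (algebraMap R (AdicCompletion (maximalIdeal R) R)).comp g.toRingHom ∧
      Ideal.span {ĝ (ψ.symm (Ideal.Quotient.mk _ (X 0)))} =
        Ideal.span {algebraMap R (AdicCompletion (maximalIdeal R) R) t₁} ∧
      Ideal.span {ĝ (ψ.symm (Ideal.Quotient.mk _ (X 1)))} =
        Ideal.span {algebraMap R (AdicCompletion (maximalIdeal R) R) t₂} := by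
  classical
  let T := AdicCompletion (maximalIdeal R) R
  let Ĉ := AdicCompletion (maximalIdeal C) C
  let P := MvPowerSeries (Fin 2) T ⧸
    Ideal.span {(X 0 * X 1 - MvPowerSeries.C (algebraMap R T Δ) : MvPowerSeries (Fin 2) T)}
  haveI : IsNoetherianRing T := _root_.Groth.Agent.Matlis6.isNoetherianRing_adicCompletion _
  haveI : IsAdicComplete (maximalIdeal T) T := _root_.Groth.Agent.CAlgH.EtaleApprox.isAdicComplete_cpl R
  haveI : IsNoetherianRing C := Algebra.EssFiniteType.isNoetherianRing R C
  have hm : ∀ r ∈ maximalIdeal R, algebraMap R T r ∈ maximalIdeal T := fun r hr => by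
    rw [AdicCompletion.maximalIdeal_eq_map]
    exact Ideal.mem_map_of_mem _ hr
  have htT : algebraMap R T t₁ * algebraMap R T t₂ = algebraMap R T Δ := by rw [← map_mul, ht]
  obtain ⟨e, heC, he0, he1⟩ := _root_.Groth.Agent.CAlgH.RetractionApprox.exists_node_eval
    (hm t₁ ht₁) (hm t₂ ht₂) htT
  have hΔT : algebraMap R T Δ ≠ 0 := fun h0 => hΔ (by
    have h1 := congrArg id h0
    exact (injective_iff_map_eq_zero _).1 (AdicCompletion.of_injective (maximalIdeal R) R) Δ h1)
  let h : Ĉ →+* T := e.comp ψ.toRingHom
  have hψc : ∀ r : R, ψ (algebraMap C Ĉ (algebraMap R C r)) =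
      Ideal.Quotient.mk _ (MvPowerSeries.C (algebraMap R T r)) := fun r => congr($hψ r)
  have hh : ∀ r : R, h (algebraMap C Ĉ (algebraMap R C r)) = algebraMap R T r := fun r => by
    show e (ψ _) = _
    rw [hψc, heC]
  haveI : IsLocalHom h := IsLocalHom.of_surjective h fun x =>
    ⟨ψ.symm (Ideal.Quotient.mk _ (MvPowerSeries.C x)), by
      show e (ψ _) = x
      rw [ψ.apply_symm_apply, heC]⟩
  let h₀ : C →ₐ[R] T := { h.comp (algebraMap C Ĉ) with commutes' := hh }
  haveI : IsLocalHom (algebraMap C Ĉ) := ⟨fun c hc => by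
    by_contra hn
    refine (mem_maximalIdeal _).1 ?_ hc
    rw [AdicCompletion.maximalIdeal_eq_map]
    exact Ideal.mem_map_of_mem _ ((mem_maximalIdeal c).2 hn)⟩
  haveI : IsLocalHom h₀.toRingHom := by
    show IsLocalHom (h.comp (algebraMap C Ĉ))
    infer_instance
  obtain ⟨N₁, hN₁⟩ := _root_.Groth.Agent.CAlgH.RetractionApprox.exists_bound hΔT (algebraMap R T t₁)
  obtain ⟨N₂, hN₂⟩ := _root_.Groth.Agent.CAlgH.RetractionApprox.exists_bound hΔT (algebraMap R T t₂)
  obtain ⟨g, hgl, hg⟩ := _root_.Groth.Agent.CAlgH.RetractionApprox.exists_retraction hR h₀ (N₁ + N₂)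
  haveI := hgl
  obtain ⟨G, hGC, hGh⟩ := _root_.Groth.Agent.CAlgH.RetractionApprox.exists_completion g.toRingHom h
    (N₁ + N₂ + 1) hg inferInstance
  refine ⟨g, G, hGC, ?_⟩
  set a := G (ψ.symm (Ideal.Quotient.mk _ (X 0))) with ha
  set b := G (ψ.symm (Ideal.Quotient.mk _ (X 1))) with hb
  have hab : a * b = algebraMap R T Δ := by
    have hrel : (Ideal.Quotient.mk _ (X 0 * X 1) : P) =
        Ideal.Quotient.mk _ (MvPowerSeries.C (algebraMap R T Δ)) :=
      Ideal.Quotient.eq.2 (Ideal.mem_span_singleton_self _)
    have hs : ψ.symm (Ideal.Quotient.mk _ (MvPowerSeries.C (algebraMap R T Δ))) =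
        algebraMap C Ĉ (algebraMap R C Δ) := by
      rw [← hψc, ψ.symm_apply_apply]
    rw [ha, hb, ← map_mul, ← map_mul, ← map_mul, hrel, hs, show G (algebraMap C Ĉ (algebraMap R C Δ)) =
      algebraMap R T (g (algebraMap R C Δ)) from congr($hGC (algebraMap R C Δ)), AlgHom.commutes]
    rfl
  have hha : h (ψ.symm (Ideal.Quotient.mk _ (X 0))) = algebraMap R T t₁ := by
    show e (ψ _) = _
    rw [ψ.apply_symm_apply, he0]
  have hhb : h (ψ.symm (Ideal.Quotient.mk _ (X 1))) = algebraMap R T t₂ := by
    show e (ψ _) = _
    rw [ψ.apply_symm_apply, he1]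
  obtain ⟨r, hr⟩ := hN₁ a ⟨b, hab.symm⟩ (Ideal.pow_le_pow_right (by omega) (hha ▸ hGh _))
  obtain ⟨s, hs⟩ := hN₂ b ⟨a, by rw [mul_comm, hab]⟩ (Ideal.pow_le_pow_right (by omega) (hhb ▸ hGh _))
  have hrs : r * s = 1 := by
    refine mul_left_cancel₀ (hab ▸ hΔT : a * b ≠ 0) ?_
    rw [mul_one]
    calc a * b * (r * s) = (a * r) * (b * s) := by ring
      _ = a * b := by rw [← hr, ← hs, htT, hab]
  have hur : IsUnit r := IsUnit.of_mul_eq_one s hrs
  have hus : IsUnit s := IsUnit.of_mul_eq_one r (by rw [mul_comm, hrs])
  exact ⟨by rw [hr, Ideal.span_singleton_mul_right_unit hur],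
    by rw [hs, Ideal.span_singleton_mul_right_unit hus]⟩

end Groth.Agent.S19894
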