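import Groth.Statements.S13209
import Groth.Prelude
import Groth.Agent.NeronSp27.Desc
import Groth.Agent.AlgSpLib.Descent
-- import your own Groth.Agent.* helpers here

set_option autoImplicit false
set_option linter.style.haveILetI false
set_option backward.isDefEq.respectTransparency.types false
universe u
open CategoryTheory CategoryTheory.Limits AlgebraicGeometry
open Neron

namespace Groth.Agent.S13209

open CategoryTheory CategoryTheory.Limits MonObj AlgebraicGeometry in
open Groth.Agent in
/-- Let S be a scheme, U ⊆ S a schematically dense open subscheme and N → S a smooth S-scheme with the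
Néron mapping property for schemes with respect to U: for every smooth S-scheme Y, composition with
the projection Y ×_S U → Y is a bijection from S-morphisms Y → N onto S-morphisms Y ×_S U → N
(equivalently, onto U-morphisms Y ×_S U → N ×_S U). Then N also has the Néron mapping property with
respect to smooth algebraic spaces: for every algebraic space F over S (an fppf sheaf of sets on
S-schemes with representable diagonal and an étale surjective chart from a scheme) whose structure
map to h_S is smooth, composition with the first projection F × h_U → F is a bijection from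
morphisms of sheaves F → h_N onto morphisms F × h_U → h_N. -/
theorem result
    {S : Scheme.{u}} (U : S.Opens) (hU : CInt.IsSchematicallyDense U) (N : Over S) [Smooth N.hom]
    (hN : ∀ Y : Over S, Smooth Y.hom →
      Function.Bijective (fun g : Y ⟶ N => (Over.mapPullbackAdj U.ι).counit.app Y ≫ g))
    (F : AlgSp.Sp S) (hF : AlgSp.IsAlgSpace F)
    (sF : F ⟶ (AlgSp.yon S).obj (Over.mk (𝟙 S))) (hsm : AlgSp.LocP @Smooth sF) :
    Function.Bijective (fun φ : F ⟶ (AlgSp.yon S).obj N =>
      (Limits.prod.fst : F ⨯ (AlgSp.yon S).obj (Over.mk U.ι) ⟶ F) ≫ φ) := by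
  obtain ⟨V, a, hae, has⟩ := hF.atlas
  haveI : Sheaf.IsLocallySurjective a :=
    AlgSpLib.isLocallySurjective_of_repWith (AlgSpLib.RepWith.mono AlgSpLib.etale_le_flat hae)
      (AlgSpLib.RepWith.mono AlgSpLib.etale_le_lfp hae) has
  let pU : Over S → Over S := fun Y => (Over.map U.ι).obj ((Over.pullback U.ι).obj Y)
  let c : ∀ Y : Over S, pU Y ⟶ Y := fun Y => (Over.mapPullbackAdj U.ι).counit.app Y
  let d : ∀ Y : Over S, pU Y ⟶ (Over.mk U.ι) := fun Y => Over.homMk (pullback.snd Y.hom U.ι) rfl
  have hc : ∀ Y : Over S, (c Y).left = pullback.fst Y.hom U.ι := fun Y => by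
    simp [c, Over.mapPullbackAdj]
  have hfac : ∀ {T Y : Over S} (w : T ⟶ Y) (t : T ⟶ (Over.mk U.ι)), ∃ m : T ⟶ pU Y, m ≫ c Y = w ∧ m ≫ d Y = t := by
    intro T Y w t
    have e : w.left ≫ Y.hom = t.left ≫ U.ι := by rw [Over.w w]; exact (Over.w t).symm
    refine ⟨Over.homMk (pullback.lift w.left t.left e) (by
      show pullback.lift w.left t.left e ≫ pullback.snd Y.hom U.ι ≫ U.ι = _
      rw [pullback.lift_snd_assoc]
      exact Over.w t), ?_, ?_⟩
    · apply Over.OverMorphism.ext
      rw [Over.comp_left, hc]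
      exact pullback.lift_fst _ _ _
    · exact Over.OverMorphism.ext (pullback.lift_snd _ _ _)
  have hVsm : Smooth V.hom := by
    refine hsm a (𝟙 _) (Over.homMk V.hom (Category.comp_id _)) hae (AlgSp.repWith_id _ _) ?_
    rw [Category.comp_id, ← (AlgSp.yon S).map_preimage (a ≫ sF)]
    exact congrArg _ (Over.mkIdTerminal.hom_ext _ _)
  -- the points of `F × U` above the atlas
  let q : (AlgSp.yon S).obj (pU V) ⟶ F ⨯ (AlgSp.yon S).obj (Over.mk U.ι) :=
    prod.lift ((AlgSp.yon S).map (c V) ≫ a) ((AlgSp.yon S).map (d V))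
  refine ⟨fun φ φ' h => ?_, fun ψ => ?_⟩
  · change prod.fst ≫ φ = prod.fst ≫ φ' at h
    obtain ⟨g, hg⟩ := (AlgSp.yon S).map_surjective (a ≫ φ)
    obtain ⟨g', hg'⟩ := (AlgSp.yon S).map_surjective (a ≫ φ')
    have e : g = g' := (hN V hVsm).1 ((AlgSp.yon S).map_injective (by
      have hq : ∀ χ : F ⟶ (AlgSp.yon S).obj N, q ≫ prod.fst ≫ χ = (AlgSp.yon S).map (c V) ≫ a ≫ χ :=
        fun χ => (prod.lift_fst_assoc _ _ χ).trans (Category.assoc _ _ _)
      have h1 := (hq φ).symm.trans ((q ≫= h).trans (hq φ'))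
      rw [← hg, ← hg', ← Functor.map_comp, ← Functor.map_comp] at h1
      exact h1))
    subst e
    refine NeronSp27.hom_ext_points fun T x => NeronSp27.hom_ext_cover
      (Presheaf.imageSieve_mem (AlgSp.J S) a.hom ((AlgSp.J S).uliftYonedaEquiv x)) fun T' f hf => ?_
    obtain ⟨w, hw⟩ := (AlgSpLib.imageSieve_iff a x f).1 hf
    rw [← Category.assoc, ← Category.assoc, ← hw, Category.assoc, Category.assoc, ← hg, ← hg']
  · obtain ⟨g₀, hg₀⟩ := (AlgSp.yon S).map_surjective (q ≫ ψ)
    obtain ⟨g, hg⟩ := (hN V hVsm).2 g₀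
    change c V ≫ g = g₀ at hg
    have hfib : ∀ (T : Over S) (u v : (AlgSp.yon S).obj T ⟶ (AlgSp.yon S).obj V),
        u ≫ a = v ≫ a → u ≫ (AlgSp.yon S).map g = v ≫ (AlgSp.yon S).map g := by
      intro T u v huv
      let W : Over S := hae.1.pullback a
      obtain ⟨p₁, hp₁⟩ := (AlgSp.yon S).map_surjective (hae.1.fst a)
      let p₂ : W ⟶ V := hae.1.snd a
      have sq := hae.1.isPullback a
      rw [← hp₁] at sq
      haveI : Etale p₂.left := hae.property_snd a
      haveI : Smooth V.hom := hVsm
      have hWsm : Smooth W.hom := by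
        rw [← Over.w p₂]
        infer_instance
      have key : p₁ ≫ g = p₂ ≫ g := (hN W hWsm).1 (by
        show c W ≫ p₁ ≫ g = c W ≫ p₂ ≫ g
        obtain ⟨m₁, hm₁, hm₁'⟩ := hfac (c W ≫ p₁) (d W)
        obtain ⟨m₂, hm₂, hm₂'⟩ := hfac (c W ≫ p₂) (d W)
        rw [← Category.assoc, ← hm₁, Category.assoc, hg, ← Category.assoc, ← hm₂, Category.assoc, hg]
        apply (AlgSp.yon S).map_injective
        rw [Functor.map_comp, Functor.map_comp, hg₀, ← Category.assoc, ← Category.assoc]
        congr 1
        refine prod.hom_ext ?_ ?_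
        · simp only [q, Category.assoc, prod.lift_fst, ← Functor.map_comp_assoc, hm₁, hm₂]
          rw [Functor.map_comp_assoc, Functor.map_comp_assoc, sq.w]
        · simp only [q, Category.assoc, prod.lift_snd, ← Functor.map_comp, hm₁', hm₂'])
      rw [← sq.lift_fst u v huv]
      conv_rhs => rw [← sq.lift_snd u v huv]
      rw [Category.assoc, Category.assoc, ← Functor.map_comp, ← Functor.map_comp, key]
    obtain ⟨φ, hφ⟩ := NeronSp27.exists_hom a ((AlgSp.yon S).map g) hfib
    refine ⟨φ, ?_⟩
    show prod.fst ≫ φ = ψ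
    refine NeronSp27.hom_ext_points fun T x => NeronSp27.hom_ext_cover
      (Presheaf.imageSieve_mem (AlgSp.J S) a.hom ((AlgSp.J S).uliftYonedaEquiv (x ≫ prod.fst)))
      fun T' f hf => ?_
    obtain ⟨w, hw⟩ := (AlgSpLib.imageSieve_iff a (x ≫ prod.fst) f).1 hf
    obtain ⟨w', hw'⟩ := (AlgSp.yon S).map_surjective w
    obtain ⟨t, ht⟩ := (AlgSp.yon S).map_surjective ((AlgSp.yon S).map f ≫ x ≫ prod.snd)
    obtain ⟨m, hm, hm'⟩ := hfac w' t
    have e : (AlgSp.yon S).map f ≫ x = (AlgSp.yon S).map m ≫ q := by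
      refine prod.hom_ext ?_ ?_
      · simp only [q, Category.assoc, prod.lift_fst]
        rw [← Functor.map_comp_assoc (AlgSp.yon S) m (c V) a, hm, hw', hw]
      · simp only [q, Category.assoc, prod.lift_snd]
        rw [← Functor.map_comp, hm', ht]
    rw [← Category.assoc, e, Category.assoc, ← Category.assoc ((AlgSp.yon S).map f), e, Category.assoc, ← hg₀]
    have hq : q ≫ prod.fst ≫ φ = (AlgSp.yon S).map (c V) ≫ a ≫ φ :=
      (prod.lift_fst_assoc _ _ φ).trans (Category.assoc _ _ _)
    rw [hq, hφ, ← Functor.map_comp (AlgSp.yon S) (c V) g, hg]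

end Groth.Agent.S13209
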