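import Groth.Statements.S13210
import Groth.Agent.AlgSpLib.LimitDescend
open Groth.Agent

set_option autoImplicit false
universe u
open CategoryTheory CategoryTheory.Limits AlgebraicGeometry
open AlgGrp

set_option backward.isDefEq.respectTransparency.types false
set_option backward.isDefEq.respectTransparency false

namespace Groth.Agent.S13210


/-- Let S be a scheme, F an algebraic space over S which is separated over S, and G a finite group
acting on F by S-automorphisms. If i : Z → F exhibits the fppf sheaf Z as the sub-sheaf of G-fixed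
points of F (i is G-invariant and every G-invariant morphism W → F factors uniquely through i), then
Z is an algebraic space and i is a closed immersion (representable by closed immersions). (The
published statement also treats a locally separated F, whose fixed points form a subspace, and
compatibility with base change; this row states only the separated case.) -/
theorem result
    {S : Scheme.{u}} (F : AlgSp.Sp S) (hF : AlgSp.IsAlgSpace F) (hsep : AlgSp.IsSeparatedSp F)
    (G : Type u) [Group G] [Finite G] (ρ : G →* Aut F)
    (Z : AlgSp.Sp S) (i : Z ⟶ F) (hi : ∀ g : G, i ≫ (ρ g).hom = i)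
    (huniv : ∀ (W : AlgSp.Sp S) (x : W ⟶ F), (∀ g : G, x ≫ (ρ g).hom = x) → ∃! z : W ⟶ Z, z ≫ i = x) :
    AlgSp.IsAlgSpace Z ∧ AlgSp.RepWith @IsClosedImmersion i := by
  classical
  cases nonempty_fintype G
  haveI : Mono i := ⟨fun {W} a b h => (huniv W (a ≫ i) (fun g => by rw [Category.assoc, hi])).unique rfl h.symm⟩
  have key : ∀ l : List G, ∃ (E : AlgSp.Sp S) (j : E ⟶ F), AlgSp.RepWith @IsClosedImmersion j ∧ Mono j ∧
      (∀ g ∈ l, j ≫ (ρ g).hom = j) ∧
      ∀ (W : AlgSp.Sp S) (x : W ⟶ F), (∀ g ∈ l, x ≫ (ρ g).hom = x) → ∃ z : W ⟶ E, z ≫ j = x := by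
    intro l
    induction l with
    | nil =>
      exact ⟨F, 𝟙 F, MorphismProperty.id_mem _ _, inferInstance, fun g hg => absurd hg (List.not_mem_nil),
        fun W x _ => ⟨x, Category.comp_id x⟩⟩
    | cons a l ih =>
      obtain ⟨E, j, hj, hjm, hjl, hju⟩ := ih
      let e := prod.lift j (j ≫ (ρ a).hom)
      have sq := IsPullback.of_hasPullback (Limits.diag F) e
      let p := pullback.snd (Limits.diag F) e
      have hp : AlgSp.RepWith @IsClosedImmersion p := AlgSpLib.RepWith.baseChange sq hsep
      have h1 := congrArg (· ≫ prod.fst) sq.w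
      have h2 := congrArg (· ≫ prod.snd) sq.w
      simp only [e, Category.assoc, prod.lift_fst, prod.lift_snd, Category.comp_id] at h1 h2
      haveI : Mono p := ⟨fun u v h => pullback.hom_ext (by
        have := congrArg (· ≫ j) h
        simp only [Category.assoc, p] at this
        rw [← h1] at this
        exact this) h⟩
      refine ⟨_, p ≫ j, AlgSpLib.RepWith.comp hp hj, inferInstance, fun g hg => ?_, fun W x hx => ?_⟩
      · rcases List.mem_cons.1 hg with rfl | hg
        · rw [Category.assoc]; exact h2.symm.trans h1
        · rw [Category.assoc, hjl g hg]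
      · obtain ⟨z, hz⟩ := hju W x fun g hg => hx g (List.mem_cons_of_mem _ hg)
        refine ⟨pullback.lift x z ?_, by rw [pullback.lift_snd_assoc, hz]⟩
        apply Limits.prod.hom_ext
        · simp [e, hz]
        · simp only [e, Category.assoc, prod.lift_snd, reassoc_of% hz, hx a (List.mem_cons_self), Category.comp_id]
  obtain ⟨E, j, hj, hjm, hjl, hju⟩ := key (Finset.univ : Finset G).toList
  obtain ⟨z, hz, -⟩ := huniv E j fun g => hjl g (Finset.mem_toList.2 (Finset.mem_univ g))
  obtain ⟨w, hw⟩ := hju Z i fun g _ => hi g
  haveI : IsIso w := ⟨z, by rw [← cancel_mono i, Category.assoc, hz, hw, Category.id_comp],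
    by rw [← cancel_mono j, Category.assoc, hw, hz, Category.id_comp]⟩
  have hwI : AlgSp.RepWith @IsClosedImmersion i := by
    rw [← hw]
    exact (MorphismProperty.cancel_left_of_respectsIso _ w j).2 hj
  exact ⟨AlgSpLib.isAlgSpace_of_representable hF hwI.1, hwI⟩

end Groth.Agent.S13210
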