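import Groth.Statements.S1328
import Groth.Agent.FlatMorGeneric.Meet

set_option autoImplicit false
universe u
open FlatMor

namespace Groth.Agent.S1328

open AlgebraicGeometry CategoryTheory Limits in
/-- Let f be of finite type with irreducible target. If the generic fibre has exactly n irreducible
components, then over some nonempty open of the target every fibre has at least n irreducible
components. -/
theorem result {X Y : Scheme.{u}} (f : X ⟶ Y) [IrreducibleSpace ↑Y] [LocallyOfFiniteType f] [QuasiCompact f] (n : ℕ)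
    (h : (irreducibleComponents ↑(f.fiber (genericPoint ↑Y))).encard = n) :
    ∃ V : Y.Opens, (V : Set ↑Y).Nonempty ∧ ∀ y ∈ V, (n : ℕ∞) ≤ (irreducibleComponents ↑(f.fiber y)).encard := by
  classical
  let η := genericPoint ↑Y
  haveI : Finite (irreducibleComponents ↑(f.fiber η)) :=
    (Set.finite_of_encard_eq_coe h).to_subtype
  let ι : Type u := ↥(irreducibleComponents ↑(f.fiber η))
  haveI : Finite ι := ‹Finite (irreducibleComponents ↑(f.fiber η))›
  haveI : Fintype ι := Fintype.ofFinite ι
  let T : ι → Set ↑X := fun C => closure (f.fiberι η '' C.1)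
  have hT : ∀ C : ι, f.fiberι η ⁻¹' T C = C.1 := fun C => by
    rw [← (f.fiberι η).isEmbedding.isInducing.closure_eq_preimage_closure_image,
      (isClosed_of_mem_irreducibleComponents _ C.2).closure_eq]
  let W : ι → X.Opens := fun C =>
    ⟨⋂ D : {D : ι // D ≠ C}, (T D.1)ᶜ, isOpen_iInter_of_finite fun D => isClosed_closure.isOpen_compl⟩
  have hξ : ∀ C : ι, ∃ x ∈ W C, f x = η := fun C => by
    have hirr : IsIrreducible C.1 := C.2.1
    have hcl := isClosed_of_mem_irreducibleComponents _ C.2
    refine ⟨f.fiberι η hirr.genericPoint, Set.mem_iInter.2 fun D hD => ?_,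
      (f.range_fiberι η).le ⟨_, rfl⟩⟩
    have h1 : hirr.genericPoint ∈ D.1.1 := (hT D.1).le hD
    have h2 : C.1 ⊆ D.1.1 := by
      have := (isClosed_of_mem_irreducibleComponents _ D.1.2).closure_subset_iff.2
        (Set.singleton_subset_iff.2 h1)
      rwa [hirr.genericPoint_closure_eq, hcl.closure_eq] at this
    exact D.2 (Subtype.ext (h2.antisymm (C.2.2 D.1.2.1 h2)).symm)
  obtain ⟨V₀, hV₀, hcov⟩ := Groth.Agent.FlatMorGeneric.exists_opens_forall_exists_specializes f
  choose V hV hV' using fun C : ι =>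
    Groth.Agent.FlatMorGeneric.exists_opens_forall_open_meets f (W C) (hξ C)
  obtain ⟨V₁, hV₁, hV₁'⟩ := Groth.Agent.FlatMorGeneric.exists_opens_le_forall
    (fun o : Option ι => o.elim V₀ V) (by rintro (_ | C); exacts [hV₀, hV C])
  refine ⟨V₁, hV₁, fun y hy => ?_⟩
  let P : ι → Set ↑(f.fiber y) := fun C => f.fiberι y ⁻¹' T C
  have hP : ∀ z, ∃ C, z ∈ P C := fun z => by
    obtain ⟨x', hx', hsp⟩ := hcov (f.fiberι y z)
      (by rw [show f (f.fiberι y z) = y from (f.range_fiberι y).le ⟨z, rfl⟩]; exact hV₁' none hy)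
    obtain ⟨z', rfl⟩ : x' ∈ Set.range (f.fiberι η) := by rw [f.range_fiberι]; exact hx'
    exact ⟨⟨irreducibleComponent z', irreducibleComponent_mem_irreducibleComponents z'⟩,
      hsp.mem_closed isClosed_closure (subset_closure ⟨z', mem_irreducibleComponent, rfl⟩)⟩
  have hW : ∀ C : ι, ∃ z, ∀ D, D ≠ C → z ∉ P D := fun C => by
    obtain ⟨x, hx, hfx⟩ := hV' C y (hV₁' (some C) hy)
    obtain ⟨z, rfl⟩ : x ∈ Set.range (f.fiberι y) := by rw [f.range_fiberι]; exact hfx
    exact ⟨z, fun D hD hz => Set.mem_iInter.1 hx ⟨D, hD⟩ hz⟩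
  choose z hz using hW
  have hE : ∀ C, irreducibleComponent (z C) ⊆ P C := fun C => by
    obtain ⟨D, hD, hsub⟩ := isIrreducible_iff_sUnion_isClosed.1 isIrreducible_irreducibleComponent
      (Finset.univ.image P) (fun w hw => by
        obtain ⟨D, -, rfl⟩ := Finset.mem_image.1 hw
        exact isClosed_closure.preimage (f.fiberι y).continuous) (fun w _ => by
        obtain ⟨D, hD⟩ := hP w
        exact Set.mem_sUnion.2 ⟨P D, Finset.mem_coe.2 (Finset.mem_image_of_mem _ (Finset.mem_univ D)), hD⟩)
    obtain ⟨D, -, rfl⟩ := Finset.mem_image.1 hD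
    by_cases hDC : D = C
    · subst hDC; exact hsub
    · exact absurd (hsub mem_irreducibleComponent) (hz C D hDC)
  have hinj : Function.Injective
      (fun C : ι => (⟨_, irreducibleComponent_mem_irreducibleComponents (z C)⟩ :
        irreducibleComponents ↑(f.fiber y))) := by
    intro C D hCD
    by_contra hne
    have h1 : irreducibleComponent (z C) = irreducibleComponent (z D) := congrArg Subtype.val hCD
    exact hz D C hne (hE C (h1 ▸ mem_irreducibleComponent))
  calc (n : ℕ∞) = ENat.card ι := h.symm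
    _ ≤ ENat.card (irreducibleComponents ↑(f.fiber y)) := ENat.card_le_card_of_injective hinj
    _ = _ := rfl

end Groth.Agent.S1328
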