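import Groth.Statements.S1329
import Groth.Agent.FlatMorGeneric.Meet

set_option autoImplicit false
universe u
open FlatMor

namespace Groth.Agent.S1329

open AlgebraicGeometry CategoryTheory Limits in
/-- Let f be of finite type with irreducible target. If the generic fibre has exactly n connected
components, then over some nonempty open of the target every fibre has at least n connected
components. -/
theorem result {X Y : Scheme.{u}} (f : X ⟶ Y) [IrreducibleSpace ↑Y] [LocallyOfFiniteType f] [QuasiCompact f] (n : ℕ)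
    (h : ENat.card (_root_.ConnectedComponents ↑(f.fiber (genericPoint ↑Y))) = n) :
    ∃ V : Y.Opens, (V : Set ↑Y).Nonempty ∧ ∀ y ∈ V, (n : ℕ∞) ≤ ENat.card (_root_.ConnectedComponents ↑(f.fiber y)) := by
  classical
  let η := genericPoint ↑Y
  let ι : Type u := _root_.ConnectedComponents ↑(f.fiber η)
  haveI : Finite ι := by
    by_contra hinf
    haveI : Infinite ι := not_finite_iff_infinite.1 hinf
    have h' : ENat.card ι = n := h
    rw [ENat.card_eq_top_of_infinite] at h'
    exact ENat.top_ne_natCast n h'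
  let K : ι → Set ↑(f.fiber η) := fun c => ConnectedComponents.mk ⁻¹' {c}
  have hK : ∀ c, IsClosed (K c) := fun c => by
    obtain ⟨x, rfl⟩ := ConnectedComponents.surjective_coe c
    show IsClosed (ConnectedComponents.mk ⁻¹' {ConnectedComponents.mk x})
    rw [connectedComponents_preimage_singleton]
    exact isClosed_connectedComponent
  let T : ι → Set ↑X := fun c => closure (f.fiberι η '' K c)
  have hT : ∀ c, f.fiberι η ⁻¹' T c = K c := fun c => by
    rw [← (f.fiberι η).isEmbedding.isInducing.closure_eq_preimage_closure_image,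
      (hK c).closure_eq]
  obtain ⟨V₀, hV₀, hcov⟩ := Groth.Agent.FlatMorGeneric.exists_opens_forall_exists_specializes f
  choose V hV hV' using fun c : ι =>
    Groth.Agent.FlatMorGeneric.exists_opens_forall_closed_meets f (Z := T c) isClosed_closure (by
      obtain ⟨x, rfl⟩ := ConnectedComponents.surjective_coe c
      exact ⟨f.fiberι η x, subset_closure ⟨x, rfl, rfl⟩, (f.range_fiberι η).le ⟨x, rfl⟩⟩)
  choose V' hV'ne hV'd using fun p : {p : ι × ι // p.1 ≠ p.2} =>
    Groth.Agent.FlatMorGeneric.exists_opens_forall_closed_misses f (Z := T p.1.1 ∩ T p.1.2)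
      (isClosed_closure.inter isClosed_closure) (fun x hx hfx => by
        obtain ⟨z, rfl⟩ : x ∈ Set.range (f.fiberι η) := by rw [f.range_fiberι]; exact hfx
        have h1 : z ∈ K p.1.1 := (hT p.1.1).le hx.1
        have h2 : z ∈ K p.1.2 := (hT p.1.2).le hx.2
        exact p.2 (h1.symm.trans h2))
  obtain ⟨V₁, hV₁, hV₁'⟩ := Groth.Agent.FlatMorGeneric.exists_opens_le_forall
    (fun o : Option (ι ⊕ {p : ι × ι // p.1 ≠ p.2}) => o.elim V₀ (Sum.elim V V'))
    (by rintro (_ | c | p); exacts [hV₀, hV c, hV'ne p])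
  refine ⟨V₁, hV₁, fun y hy => ?_⟩
  let P : ι → Set ↑(f.fiber y) := fun c => f.fiberι y ⁻¹' T c
  have hy' : ∀ z, f (f.fiberι y z) = y := fun z => (f.range_fiberι y).le ⟨z, rfl⟩
  have hP : ∀ z, ∃ c, z ∈ P c := fun z => by
    obtain ⟨x', hx', hsp⟩ := hcov (f.fiberι y z) (by rw [hy']; exact hV₁' none hy)
    obtain ⟨z', rfl⟩ : x' ∈ Set.range (f.fiberι η) := by rw [f.range_fiberι]; exact hx'
    exact ⟨ConnectedComponents.mk z',
      hsp.mem_closed isClosed_closure (subset_closure ⟨z', rfl, rfl⟩)⟩
  have hdisj : ∀ c d, c ≠ d → ∀ z, z ∈ P c → z ∉ P d := fun c d hcd z hc hd =>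
    hV'd ⟨(c, d), hcd⟩ (f.fiberι y z) ⟨hc, hd⟩
      (by rw [hy']; exact hV₁' (some (.inr ⟨(c, d), hcd⟩)) hy)
  have hclopen : ∀ c, IsClopen (P c) := fun c => by
    refine ⟨isClosed_closure.preimage (f.fiberι y).continuous, ?_⟩
    have he : P c = (⋃ d : {d // d ≠ c}, P d.1)ᶜ := by
      ext z
      constructor
      · intro hz hu
        obtain ⟨d, hd⟩ := Set.mem_iUnion.1 hu
        exact hdisj d.1 c d.2 z hd hz
      · intro hz
        obtain ⟨d, hd⟩ := hP z
        by_contra hne
        exact hz (Set.mem_iUnion.2 ⟨⟨d, fun e => hne (e ▸ hd)⟩, hd⟩)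
    rw [he]
    exact (isClosed_iUnion_of_finite fun d =>
      isClosed_closure.preimage (f.fiberι y).continuous).isOpen_compl
  have hne : ∀ c, ∃ z, z ∈ P c := fun c => by
    obtain ⟨x, hx, hfx⟩ := hV' c y (hV₁' (some (.inl c)) hy)
    obtain ⟨z, rfl⟩ : x ∈ Set.range (f.fiberι y) := by rw [f.range_fiberι]; exact hfx
    exact ⟨z, hx⟩
  choose z hz using hne
  have hinj : Function.Injective (fun c : ι => ConnectedComponents.mk (z c)) := by
    intro c d hcd
    by_contra hne
    exact hdisj d c (Ne.symm hne) (z d) (hz d) ((hclopen c).connectedComponent_subset (hz c)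
      (ConnectedComponents.coe_eq_coe'.1 hcd.symm))
  calc (n : ℕ∞) = ENat.card ι := h.symm
    _ ≤ _ := ENat.card_le_card_of_injective hinj

end Groth.Agent.S1329
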