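import Groth.Statements.S13340
import Groth.Agent.FModLib.ComplExact
-- import your own Groth.Agent.* helpers here

set_option autoImplicit false
open CategoryTheory CategoryTheory.Limits
universe u
open FCompl

namespace Groth.Agent.S13340

open AlgebraicGeometry in
/-- Let X be a locally Noetherian scheme, 𝓘 a quasi-coherent ideal sheaf and X̂ the completion of X
along 𝓘 (the system of the closed subschemes of the powers of 𝓘, as a ringed space with structure
sheaf lim O_{X_k}). Completion F ↦ F̂ = lim_k (u_k)_* i_k^* F of coherent O_X-modules is exact: for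
a short exact sequence 0 → F' → F → F'' → 0 of coherent modules the induced sequence of completed
O_X̂-modules has zero composite and is short exact. -/
theorem result (X : Scheme.{u}) [IsLocallyNoetherian X] (𝓘 : X.IdealSheafData)
    (h : (FSch.completionAlong X 𝓘).IsFormal) (S : ShortComplex X.Modules) (hS : S.ShortExact)
    (h1 : Coh.IsCoh S.X₁) (h2 : Coh.IsCoh S.X₂) (h3 : Coh.IsCoh S.X₃) :
    FSch.ModSys.realModMap h (FSch.complModMap 𝓘 S.f) ≫ FSch.ModSys.realModMap h (FSch.complModMap 𝓘 S.g) = 0 ∧
      ∀ w : FSch.ModSys.realModMap h (FSch.complModMap 𝓘 S.f) ≫ FSch.ModSys.realModMap h (FSch.complModMap 𝓘 S.g) = 0,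
        (ShortComplex.mk _ _ w).ShortExact := by
  have hci : ∀ n, IsClosedImmersion (FSch.completionToX X 𝓘 n) := fun n =>
    inferInstanceAs (IsClosedImmersion (𝓘 ^ (n + 1)).subschemeι)
  obtain ⟨w, hw⟩ := Groth.Agent.FModLib.shortExact_pullSysT (FSch.completionToX X 𝓘)
    (FSch.completionToX_comm X 𝓘) h hci 𝓘 (fun n => Scheme.IdealSheafData.ker_subschemeι _)
    (FSch.complTransIso 𝓘) (Groth.Agent.FModLib.complTransIso_eq 𝓘) S hS h1 h2 h3
  exact ⟨w, fun _ => hw⟩

end Groth.Agent.S13340
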