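import Groth.Statements.S13341
import Groth.Agent.FSchLib.Systems
open CategoryTheory CategoryTheory.Limits AlgebraicGeometry

set_option autoImplicit false
open CategoryTheory
universe u
open FCompl

namespace Groth.Agent.S13341

open AlgebraicGeometry in
/-- Formal schemes are presented as locally Noetherian adic systems of thickenings and the fibre product
is taken levelwise (it presents the fibre product of formal schemes since one factor is adic over
the base). Let 𝔖 be a locally Noetherian formal system, 𝔛 and 𝔜 locally Noetherian formal systems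
over 𝔖 such that 𝔛 or 𝔜 is of finite type over 𝔖, and 𝔜 separated over 𝔖 at level 0. Then for every
𝔖-morphism f : 𝔛 → 𝔜 the graph morphism 𝔛 → 𝔛 ×_𝔖 𝔜 is a closed immersion: adic, with level 0 a
closed immersion. -/
theorem result {𝔛 𝔜 𝔖 : FSch.Sys.{u}} (h𝔖 : 𝔖.IsLocNoethFormal) (h𝔛 : 𝔛.IsLocNoethFormal)
    (h𝔜 : 𝔜.IsLocNoethFormal) (p : 𝔛 ⟶ 𝔖) (q : 𝔜 ⟶ 𝔖) (hpq : FSch.IsFiniteTypeHom p ∨ FSch.IsFiniteTypeHom q)
    (hq : IsSeparated ((q : FSch.Hom 𝔜 𝔖).app 0)) (f : 𝔛 ⟶ 𝔜) (w : f ≫ q = p) :
    FSch.IsClosedImmHom (FSch.graph f p q w) := by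
  let G := (FSch.graph f p q w : FSch.Hom _ _)
  let P := (FSch.pullbackFst p q : FSch.Hom _ _)
  let Q := (FSch.pullbackSnd p q : FSch.Hom _ _)
  have hP : ∀ m, G.app m ≫ P.app m = 𝟙 _ := fun m => pullback.lift_fst _ _ _
  refine ⟨fun n => ?_, ?_⟩
  · have hX := (h𝔛.1 n).1
    have hY := (h𝔜.1 n).1
    have hmono : Mono ((FSch.pullbackSys p q).ι n) := by
      refine ⟨fun {T} a b hab => ?_⟩
      have h1 : a ≫ P.app n = b ≫ P.app n := by
        rw [← cancel_mono (𝔛.ι n), Category.assoc, Category.assoc, P.comm, reassoc_of% hab]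
      have h2 : a ≫ Q.app n = b ≫ Q.app n := by
        rw [← cancel_mono (𝔜.ι n), Category.assoc, Category.assoc, Q.comm, reassoc_of% hab]
      exact pullback.hom_ext h1 h2
    have key : ∀ s : PullbackCone (G.app (n + 1)) ((FSch.pullbackSys p q).ι n),
        (s.snd ≫ P.app n) ≫ 𝔛.ι n = s.fst := by
      intro s
      rw [Category.assoc, P.comm, ← reassoc_of% s.condition, hP, Category.comp_id]
    refine IsPullback.of_isLimit' ⟨(G.comm n).symm⟩
      (PullbackCone.IsLimit.mk _ (fun s => s.snd ≫ P.app n) key (fun s => ?_) (fun s m h1 h2 => ?_))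
    · rw [← cancel_mono ((FSch.pullbackSys p q).ι n), Category.assoc _ (G.app n), G.comm,
        ← Category.assoc, key, s.condition]
    · rw [← h2, Category.assoc, hP, Category.comp_id]
  · have hs : IsSeparated (P.app 0) :=
      MorphismProperty.of_isPullback (P := @IsSeparated)
        (IsPullback.of_hasPullback ((p : FSch.Hom _ _).app 0) ((q : FSch.Hom _ _).app 0)).flip hq
    have : IsClosedImmersion (G.app 0 ≫ P.app 0) := by
      rw [hP]
      infer_instance
    exact IsClosedImmersion.of_comp (G.app 0) (P.app 0)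

end Groth.Agent.S13341
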