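import Groth.Statements.S13351
import Groth.Agent.FModLib.TopFPCoh
import Groth.Agent.FModLib.TopFTHom
-- import your own Groth.Agent.* helpers here

set_option autoImplicit false
universe u
open FCompl

namespace Groth.Agent.S13351

open AlgebraicGeometry CategoryTheory Groth.Agent.FModLib in
/-- The statement for an ideal sheaf kept as a variable. -/
theorem exists_iso_complMod {R : Type u} [CommRing R] {I : Ideal R} {A : CommRingCat.{u}} [Algebra R A]
    (hR : AdicRing.IsBase R I) (hA : AdicRing.TopFiniteType R I A)
    (𝓘 : (Spec A).IdealSheafData) (h𝓘 : 𝓘 = idl I A)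
    (h : (FSch.completionAlong (Spec A) 𝓘).IsFormal)
    (F : FSch.ModF (FSch.completionAlong (Spec A) 𝓘) h) (hF : FSch.IsCohF (FSch.completionAlong (Spec A) 𝓘) h F) :
    ∃ M : ModuleCat.{u} A, Module.FinitePresentation A M ∧
      Nonempty (F ≅ (FSch.complMod 𝓘 (tilde M)).realMod h) :=
  exists_iso_completion_tilde hR hA (FSch.completionToX (Spec A) 𝓘) (FSch.completionToX_comm (Spec A) 𝓘) h
    (fun n => inferInstanceAs (IsClosedImmersion (𝓘 ^ (n + 1)).subschemeι))
    (fun n => (Scheme.IdealSheafData.ker_subschemeι _).trans (by rw [h𝓘]))
    F hF (FSch.complTransIso 𝓘) (complTransIso_eq 𝓘)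

open AlgebraicGeometry in
open CategoryTheory in
/-- Let R be a base ring of class (N) or (V) for the ideal I and A an R-algebra topologically of finite
presentation. Present Spf A as the completion of Spec A along IA, with structure sheaf the limit of
the structure sheaves of the closed subschemes V((IA)^(n+1)). Then every O_Spf A-module of finite
presentation (for such formal schemes this is the same as coherent) is isomorphic to M^Δ, the limit
of the direct images of the modules associated to M/(IA)^(n+1)M, for some finitely presented (that
is, coherent) A-module M. -/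
theorem result
    (R : Type u) [CommRing R] (I : Ideal R) (hR : AdicRing.IsBase R I)
    (A : Type u) [CommRing A] [Algebra R A] (hA : AdicRing.TopFinitePresentation R I A)
    (h : (FSch.completionAlong (Spec (CommRingCat.of A)) (FSch.idealSpec A (I.map (algebraMap R A)))).IsFormal)
    (F : FSch.ModF (FSch.completionAlong (Spec (CommRingCat.of A)) (FSch.idealSpec A (I.map (algebraMap R A)))) h)
    (hF : FSch.IsCohF (FSch.completionAlong (Spec (CommRingCat.of A)) (FSch.idealSpec A (I.map (algebraMap R A)))) h F) :
    ∃ M : ModuleCat.{u} A, Module.FinitePresentation A M ∧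
      Nonempty (F ≅ (FSch.complMod (FSch.idealSpec A (I.map (algebraMap R A))) (tilde M)).realMod h) := by
  obtain ⟨n, φ, hφ, -⟩ := hA
  exact exists_iso_complMod (A := CommRingCat.of A) hR ⟨n, φ, hφ⟩ _ rfl h F hF

end Groth.Agent.S13351
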