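import Groth.Statements.S13353
import Groth.Agent.ValTate.Admissible
import Mathlib.RingTheory.Flat.Equalizer

set_option autoImplicit false
universe u
open scoped TensorProduct
open AdicRing

namespace Groth.Agent.S13353

/-- Let R be a complete valuation ring of height one with t a nonzero element generating an ideal of
definition and K its field of fractions, A an admissible R-algebra, f_1, ..., f_n elements of A ⊗_R
K integral over A, c a nonzero element of R and g_1, ..., g_n elements of A with g_i = c f_i in A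
⊗_R K; put 𝔞 = (c, g_1, ..., g_n) and A' = A[f_1, ..., f_n] ⊂ A ⊗_R K. If D is an admissible
R-algebra and φ : A → D an R-algebra homomorphism such that the ideal 𝔞D is generated by the image
of c, or by the image of some g_i, then 𝔞D is generated by c and φ extends to exactly one R-algebra
homomorphism A' → D. (This is the universal property through which Spf A' → Spf A is identified with
the formal blowing-up of 𝔞 on Spf A; the published hypothesis on the f_i is a supremum-seminorm
bound, from which their integrality over A is derived.) -/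
theorem result
    (R : Type u) [CommRing R] [IsDomain R] [ValuationRing R] [Ring.KrullDimLE 1 R]
    (t : R) (ht : t ≠ 0) [IsAdicComplete (Ideal.span {t}) R]
    (A : Type u) [CommRing A] [Algebra R A] (hA : AdicRing.Admissible R (Ideal.span {t}) A)
    (n : ℕ) (f : Fin n → A ⊗[R] FractionRing R) (hf : ∀ i, IsIntegral A (f i))
    (c : R) (hc : c ≠ 0) (g : Fin n → A)
    (hg : ∀ i, algebraMap A (A ⊗[R] FractionRing R) (g i) = c • f i)
    (D : Type u) [CommRing D] [Algebra R D] (hD : AdicRing.Admissible R (Ideal.span {t}) D)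
    (φ : A →ₐ[R] D)
    (hgen : (Ideal.span (insert (algebraMap R A c) (Set.range g))).map φ =
          Ideal.span {algebraMap R D c} ∨
      ∃ i, (Ideal.span (insert (algebraMap R A c) (Set.range g))).map φ = Ideal.span {φ (g i)}) :
    (Ideal.span (insert (algebraMap R A c) (Set.range g))).map φ = Ideal.span {algebraMap R D c} ∧
      ∃! ψ : ↥(Algebra.adjoin A (Set.range f)) →ₐ[R] D,
        ψ.comp (IsScalarTower.toAlgHom R A ↥(Algebra.adjoin A (Set.range f))) = φ := by
    classical
    let K := FractionRing R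
    let ι : D →ₐ[R] D ⊗[R] K := Algebra.TensorProduct.includeLeft
    have hι : Function.Injective ι := by
      have := Groth.Agent.ValTate.flat_of_noPowTorsion t D hD.2
      exact Algebra.TensorProduct.includeLeft_injective (IsFractionRing.injective R K)
    let φK : A ⊗[R] K →ₐ[R] D ⊗[R] K := Algebra.TensorProduct.map φ (AlgHom.id R K)
    have hφK : ∀ a : A, φK (algebraMap A (A ⊗[R] K) a) = ι (φ a) := fun a => by
      change φK (a ⊗ₜ[R] 1) = φ a ⊗ₜ[R] 1
      simp [φK]
    have hcg : ∀ j, ι (φ (g j)) = c • φK (f j) := fun j => by rw [← hφK, hg, map_smul]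
    have hmapc : φ (algebraMap R A c) = algebraMap R D c := φ.commutes c
    have hle : ∀ j, φ (g j) ∈ Ideal.span {algebraMap R D c} := by
      intro j
      rcases hgen with h | ⟨i, h⟩
      · exact h ▸ Ideal.mem_map_of_mem φ (Ideal.subset_span (Set.mem_insert_of_mem _ ⟨j, rfl⟩))
      have hc1 : algebraMap R D c ∈ Ideal.span {φ (g i)} :=
        hmapc ▸ h ▸ Ideal.mem_map_of_mem φ (Ideal.subset_span (Set.mem_insert _ _))
      obtain ⟨u, hu⟩ := Ideal.mem_span_singleton'.1 hc1
      have heu : ι u * φK (f i) = 1 := by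
        refine sub_eq_zero.1 (Groth.Agent.ValTate.eq_zero_of_smul_tensor_fraction hc ?_)
        rw [smul_sub, ← mul_smul_comm, ← hcg, ← map_mul, hu, AlgHom.commutes, Algebra.algebraMap_eq_smul_one,
          sub_self]
      obtain ⟨p, hpm, hp0⟩ := hf i
      have hp : Polynomial.eval₂ (ι.toRingHom.comp φ.toRingHom) (φK (f i)) p = 0 := by
        have h1 := congrArg φK.toRingHom hp0
        rw [Polynomial.hom_eval₂, map_zero] at h1
        rw [← h1, show ι.toRingHom.comp φ.toRingHom = φK.toRingHom.comp (algebraMap A (A ⊗[R] K)) from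
          RingHom.ext fun a => (hφK a).symm]
        rfl
      have he : φK (f i) ∈ ι.range := by
        rcases Nat.eq_zero_or_pos p.natDegree with hm | hm
        · rw [Polynomial.eval₂_eq_sum_range, hm, Finset.sum_range_one, pow_zero, mul_one] at hp
          have hlc : p.coeff 0 = 1 := by rw [← hm]; exact hpm.coeff_natDegree
          rw [hlc, map_one] at hp
          have : φK (f i) = 0 := by rw [← mul_one (φK (f i)), hp, mul_zero]
          exact this ▸ zero_mem _
        obtain ⟨m, hm'⟩ := Nat.exists_eq_succ_of_ne_zero hm.ne'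
        have hlc : p.coeff (m + 1) = 1 := by rw [show m + 1 = p.natDegree by omega]; exact hpm.coeff_natDegree
        rw [Polynomial.eval₂_eq_sum_range, hm', Finset.sum_range_succ, hlc, map_one, one_mul] at hp
        have h2 : ι u ^ m * ∑ x ∈ Finset.range (m + 1),
              (ι.toRingHom.comp φ.toRingHom) (p.coeff x) * φK (f i) ^ x + φK (f i) = 0 := by
          have h4 := congrArg (ι u ^ m * ·) hp
          simp only [mul_add, mul_zero] at h4
          rwa [pow_succ, ← mul_assoc (ι u ^ m) (φK (f i) ^ m), ← mul_pow, heu, one_pow, one_mul] at h4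
        rw [eq_neg_of_add_eq_zero_right h2, Finset.mul_sum]
        refine neg_mem (sum_mem fun x hx => ?_)
        obtain ⟨k, rfl⟩ := Nat.exists_eq_add_of_le (Nat.lt_succ_iff.1 (Finset.mem_range.1 hx))
        rw [pow_add, mul_comm (ι u ^ x) (ι u ^ k), mul_assoc, mul_left_comm (ι u ^ x), ← mul_pow, heu, one_pow,
          mul_one]
        exact ⟨u ^ k * φ (p.coeff x), by simp⟩
      obtain ⟨d, hd⟩ := he
      have hgi : φ (g i) = c • d := hι (by rw [hcg i, map_smul]; exact congrArg _ hd.symm)
      have h3 : φ (g j) ∈ Ideal.span {φ (g i)} :=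
        h ▸ Ideal.mem_map_of_mem φ (Ideal.subset_span (Set.mem_insert_of_mem _ ⟨j, rfl⟩))
      refine (Ideal.span_singleton_le_span_singleton.2 ?_ : Ideal.span {φ (g i)} ≤ _) h3
      exact ⟨d, by rw [hgi, Algebra.smul_def]⟩
    refine ⟨le_antisymm ?_ ?_, ?_⟩
    · rw [Ideal.map_span, Ideal.span_le, Set.image_insert_eq, Set.insert_subset_iff]
      refine ⟨?_, ?_⟩
      · change φ (algebraMap R A c) ∈ _
        rw [hmapc]
        exact Ideal.mem_span_singleton_self _
      rintro _ ⟨_, ⟨j, rfl⟩, rfl⟩
      exact hle j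
    · rw [Ideal.span_singleton_le_iff_mem, ← hmapc]
      exact Ideal.mem_map_of_mem φ (Ideal.subset_span (Set.mem_insert _ _))
    have hd : ∀ j, ∃ d, c • d = φ (g j) ∧ ι d = φK (f j) := fun j => by
      obtain ⟨d, hd⟩ := Ideal.mem_span_singleton'.1 (hle j)
      have hcd : c • d = φ (g j) := by rw [Algebra.smul_def, mul_comm, hd]
      refine ⟨d, hcd, sub_eq_zero.1 (Groth.Agent.ValTate.eq_zero_of_smul_tensor_fraction hc ?_)⟩
      rw [smul_sub, ← map_smul ι, hcd, hcg, sub_self]
    choose d hd1 hd2 using hd
    let A' := Algebra.adjoin A (Set.range f)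
    have hmem : ∀ x : A', φK (x : A ⊗[R] K) ∈ ι.range := by
      rintro ⟨x, hx⟩
      induction hx using Algebra.adjoin_induction with
      | mem x hx => obtain ⟨j, rfl⟩ := hx; exact ⟨d j, hd2 j⟩
      | algebraMap a => exact ⟨φ a, (hφK a).symm⟩
      | add x y _ _ hx hy => exact (map_add φK x y).symm ▸ add_mem hx hy
      | mul x y _ _ hx hy => exact (map_mul φK x y).symm ▸ mul_mem hx hy
    let ψ : A' →ₐ[R] D := (AlgEquiv.ofInjective ι hι).symm.toAlgHom.comp
      ((φK.comp (A'.val.restrictScalars R)).codRestrict ι.range hmem)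
    have hψ : ∀ x : A', ι (ψ x) = φK (x : A ⊗[R] K) := fun x =>
      congrArg Subtype.val ((AlgEquiv.ofInjective ι hι).apply_symm_apply ⟨φK (x : A ⊗[R] K), hmem x⟩)
    refine ⟨ψ, AlgHom.ext fun a => hι ((hψ _).trans (hφK a)), fun ψ' hψ' => AlgHom.ext fun x => hι ?_⟩
    rw [hψ]
    have hψ'a : ∀ a : A, ψ' (algebraMap A A' a) = φ a := fun a => DFunLike.congr_fun hψ' a
    obtain ⟨x, hx⟩ := x
    induction hx using Algebra.adjoin_induction with
    | mem x hx =>
      obtain ⟨j, rfl⟩ := hx
      refine sub_eq_zero.1 (Groth.Agent.ValTate.eq_zero_of_smul_tensor_fraction hc ?_)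
      rw [smul_sub, ← map_smul ι, ← map_smul ψ', ← hcg, ← hψ'a, sub_eq_zero]
      exact congrArg (fun z => ι (ψ' z)) (Subtype.ext (hg j).symm)
    | algebraMap a => exact (congrArg ι (hψ'a a)).trans (hφK a).symm
    | add x y hx hy ihx ihy =>
      rw [map_add φK, ← ihx, ← ihy, ← map_add ι, ← map_add ψ']
      rfl
    | mul x y hx hy ihx ihy =>
      rw [map_mul φK, ← ihx, ← ihy, ← map_mul ι, ← map_mul ψ']
      rfl

end Groth.Agent.S13353
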