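import Groth.Statements.S13354
import Groth.Agent.ValTate.Admissible

set_option autoImplicit false
universe u
open AdicRing

namespace Groth.Agent.S13354

/-- Let R be a complete valuation ring of height one with t a nonzero element generating an ideal of
definition, B an admissible R-algebra which is a local integral domain of Krull dimension one (the
algebra of a rig-point), and b_1, ..., b_n elements of B, not all zero. Then there is a B-subalgebra
B' of the field of fractions of B which is finite over B, is again a local ring of Krull dimension
one, and in which the ideal generated by b_1, ..., b_n is generated by one of the b_i alone (hence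
is invertible). (This is the algebraic step by which a rig-point is lifted along the formal
blowing-up of a finitely generated open ideal; the resulting bijection between rig-points of the
blowing-up and of the base is not stated here.) -/
theorem result
    (R : Type u) [CommRing R] [IsDomain R] [ValuationRing R] [Ring.KrullDimLE 1 R]
    (t : R) (ht : t ≠ 0) [IsAdicComplete (Ideal.span {t}) R]
    (B : Type u) [CommRing B] [Algebra R B] [IsDomain B] [IsLocalRing B]
    (hB : AdicRing.Admissible R (Ideal.span {t}) B) (hdim : ringKrullDim B = 1)
    (n : ℕ) (b : Fin n → B) (hb : ∃ i, b i ≠ 0) :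
    ∃ B' : Subalgebra B (FractionRing B), Module.Finite B ↥B' ∧ IsLocalRing ↥B' ∧ ringKrullDim ↥B' = 1 ∧
      ∃ i, Ideal.span (Set.range (fun j => algebraMap B ↥B' (b j))) =
        Ideal.span {algebraMap B ↥B' (b i)} := by
    have hBt : AdicRing.TopFiniteType R (Ideal.span {t}) B :=
      hB.1.elim fun n h => h.elim fun φ h => ⟨n, φ, h.1⟩
    have htB := Groth.Agent.ValTate.algebraMap_ne_zero_of_noPowTorsion t hB.2
    have hfinB : Module.Finite R B := Groth.Agent.ValTate.finite_of_ringKrullDim_one t ht hBt htB hdim
    let L := FractionRing B
    have : FaithfulSMul R B := (faithfulSMul_iff_algebraMap_injective R B).2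
      (Groth.Agent.ValTate.injective_algebraMap_of_ne_zero t ht htB)
    have hinj : Function.Injective (algebraMap R L) := by
      rw [IsScalarTower.algebraMap_eq R B L]
      exact (IsFractionRing.injective B L).comp (FaithfulSMul.algebraMap_injective R B)
    have : FaithfulSMul R L := (faithfulSMul_iff_algebraMap_injective R L).2 hinj
    have : Algebra.IsAlgebraic R B := inferInstance
    have : Algebra.IsAlgebraic B L := IsLocalization.isAlgebraic L (nonZeroDivisors B)
    have : Algebra.IsAlgebraic R L := Algebra.IsAlgebraic.trans R B L
    have hO := Groth.Agent.ValTate.valuationRing_integralClosure t ht L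
    let β : Fin n → L := fun i => algebraMap B L (b i)
    have hint : ∀ i, IsIntegral R (β i) := fun i => (Algebra.IsIntegral.isIntegral (b i)).algebraMap
    -- a minimum for divisibility
    let O := integralClosure R L
    have key : ∀ s : Finset (Fin n), s.Nonempty → ∃ i ∈ s, ∀ j ∈ s, (⟨β i, hint i⟩ : O) ∣ ⟨β j, hint j⟩ := by
      intro s hs
      induction hs using Finset.Nonempty.cons_induction with
      | singleton a => exact ⟨a, Finset.mem_singleton_self a, fun j hj => by rw [Finset.mem_singleton.1 hj]⟩
      | cons a s ha hs ih =>
        obtain ⟨i, hi, hij⟩ := ih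
        rcases ValuationRing.dvd_total (⟨β a, hint a⟩ : O) ⟨β i, hint i⟩ with h | h
        · refine ⟨a, Finset.mem_cons_self a s, fun j hj => ?_⟩
          rcases Finset.mem_cons.1 hj with rfl | hj
          · exact dvd_refl _
          · exact h.trans (hij j hj)
        · refine ⟨i, Finset.mem_cons.2 (Or.inr hi), fun j hj => ?_⟩
          rcases Finset.mem_cons.1 hj with rfl | hj
          · exact h
          · exact hij j hj
    obtain ⟨i₀, hi₀⟩ := hb
    obtain ⟨i, -, hi⟩ := key Finset.univ ⟨i₀, Finset.mem_univ _⟩
    choose q hq using fun j => hi j (Finset.mem_univ j)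
    let B' := Algebra.adjoin B (Set.range fun j => (q j : L))
    have hfin : Module.Finite B B' := Module.Finite.iff_fg.2 (fg_adjoin_of_finite (Set.finite_range _)
      (Set.forall_mem_range.2 fun j => ((q j).2 : IsIntegral R (q j : L)).tower_top))
    have : Module.Finite R B' := Module.Finite.trans B B'
    have htB' : algebraMap R B' t ≠ 0 := fun h =>
      ht (hinj ((congrArg Subtype.val h).trans (map_zero _).symm))
    refine ⟨B', hfin, Groth.Agent.ValTate.isLocalRing_of_finite_domain t ht,
      Groth.Agent.ValTate.ringKrullDim_of_finite t ht htB', i, le_antisymm (Ideal.span_le.2 ?_)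
      (Ideal.span_mono (Set.singleton_subset_iff.2 ⟨i, rfl⟩))⟩
    rintro _ ⟨j, rfl⟩
    refine Ideal.mem_span_singleton.2 ⟨⟨q j, Algebra.subset_adjoin ⟨j, rfl⟩⟩, Subtype.ext ?_⟩
    exact congrArg (fun z : O => (z : L)) (hq j)

end Groth.Agent.S13354
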