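import Groth.Statements.S13359
import Mathlib
import Groth.Prelude

set_option linter.all false

set_option autoImplicit false
universe u
open UltraProd

open TensorProduct

namespace Groth.Agent.S13359

section
variable {ι : Type u} (R : ι → Type u) [∀ i, CommRing (R i)]

open Classical in
noncomputable def ind (S : Set ι) : ∀ i, R i := fun i => if i ∈ S then 1 else 0

theorem ind_add (S : Set ι) : ind R S + ind R Sᶜ = 1 := by
  funext i
  by_cases h : i ∈ S <;> simp [ind, h]

theorem ind_notMem (P : Ideal (∀ i, R i)) [hP : P.IsPrime] (S : Set ι) : ind R S ∉ P ∨ ind R Sᶜ ∉ P := by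
  by_contra h
  push Not at h
  exact hP.ne_top (P.eq_top_iff_one.2 (ind_add R S ▸ add_mem h.1 h.2))

theorem map_eq_zero' (P : Ideal (∀ i, R i)) [P.IsPrime] {s x : ∀ i, R i} (hs : s ∉ P) (h : s * x = 0) :
    algebraMap (∀ i, R i) (Localization.AtPrime P) x = 0 :=
  (IsLocalization.map_eq_zero_iff P.primeCompl _ _).2 ⟨⟨s, hs⟩, h⟩

theorem isDomain_loc [∀ i, IsDomain (R i)] (P : Ideal (∀ i, R i)) [P.IsPrime] :
    IsDomain (Localization.AtPrime P) := by
  classical
  have : NoZeroDivisors (Localization.AtPrime P) := by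
    refine ⟨fun {a b} hab => ?_⟩
    obtain ⟨⟨x, s⟩, rfl⟩ := IsLocalization.exists_mk'_eq P.primeCompl a |>.elim fun x hx => hx.elim fun s hs => (⟨(x, s), hs⟩ : ∃ p : _ × _, IsLocalization.mk' (Localization.AtPrime P) p.1 p.2 = a)
    obtain ⟨y, t, rfl⟩ := IsLocalization.exists_mk'_eq P.primeCompl b
    rw [← IsLocalization.mk'_mul, IsLocalization.mk'_eq_zero_iff] at hab
    obtain ⟨r, hr⟩ := hab
    simp only [IsLocalization.mk'_eq_zero_iff]
    rcases ind_notMem R P {i | x i = 0} with hS | hS
    · exact Or.inl ⟨⟨_, hS⟩, funext fun i => by by_cases h : x i = 0 <;> simp [ind, h]⟩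
    · refine Or.inr ⟨r * ⟨_, hS⟩, funext fun i => ?_⟩
      by_cases h : x i = 0
      · simp [ind, h]
      · have := congrFun hr i
        simp only [Pi.mul_apply, Pi.zero_apply, mul_eq_zero] at this
        rcases this with h1 | h1 | h1
        · simp [h1]
        · exact absurd h1 h
        · simp [h1]
  exact NoZeroDivisors.to_isDomain _

theorem dvd_of_forall (P : Ideal (∀ i, R i)) [P.IsPrime] {s x y : ∀ i, R i} (hs : s ∉ P)
    (h : ∀ i, s i ≠ 0 → x i ∣ y i) :
    algebraMap (∀ i, R i) (Localization.AtPrime P) x ∣ algebraMap (∀ i, R i) (Localization.AtPrime P) y := by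
  classical
  let c : ∀ i, R i := fun i => if h' : s i ≠ 0 then (h i h').choose else 0
  have : s * (y - x * c) = 0 := funext fun i => by
    by_cases h' : s i = 0
    · simp [h']
    · simp only [Pi.mul_apply, Pi.sub_apply, Pi.zero_apply, c, dif_pos h', ← (h i h').choose_spec, sub_self, mul_zero]
  refine ⟨algebraMap _ _ c, ?_⟩
  rw [← map_mul, ← sub_eq_zero, ← map_sub]
  exact map_eq_zero' R P hs this

end

/-- If (R_i) is a nonempty family of integrally closed domains, then the localization of the product
ring ∏ R_i at any prime ideal is an integrally closed domain. -/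
theorem result {ι : Type u} [Nonempty ι] (R : ι → Type u)
    [∀ i, CommRing (R i)] [∀ i, IsDomain (R i)] [∀ i, IsIntegrallyClosed (R i)]
    (P : Ideal (∀ i, R i)) [P.IsPrime] :
    IsDomain (Localization.AtPrime P) ∧ IsIntegrallyClosed (Localization.AtPrime P) := by
  classical
  haveI := isDomain_loc R P
  refine ⟨inferInstance, (isIntegrallyClosed_iff (FractionRing (Localization.AtPrime P))).2 fun {z} hz => ?_⟩
  obtain ⟨a, b, hb, rfl⟩ := IsFractionRing.div_surjective (A := (Localization.AtPrime P)) z
  obtain ⟨x, u, rfl⟩ := IsLocalization.exists_mk'_eq P.primeCompl a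
  obtain ⟨y, v, rfl⟩ := IsLocalization.exists_mk'_eq P.primeCompl b
  set f := algebraMap (∀ i, R i) (Localization.AtPrime P)
  set F := algebraMap (Localization.AtPrime P) (FractionRing (Localization.AtPrime P))
  have hfv : F (f v) ≠ 0 := fun h => (IsLocalization.map_units (Localization.AtPrime P) v).ne_zero (IsFractionRing.injective (Localization.AtPrime P) (FractionRing (Localization.AtPrime P)) (h.trans (map_zero F).symm))
  have hfu : F (f u) ≠ 0 := fun h => (IsLocalization.map_units (Localization.AtPrime P) u).ne_zero (IsFractionRing.injective (Localization.AtPrime P) (FractionRing (Localization.AtPrime P)) (h.trans (map_zero F).symm))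
  set x' := x * (v : ∀ i, R i) with hx'
  set y' := y * (u : ∀ i, R i) with hy'
  have e1 := congrArg F (IsLocalization.mk'_spec (Localization.AtPrime P) x u)
  have e2 := congrArg F (IsLocalization.mk'_spec (Localization.AtPrime P) y v)
  rw [map_mul] at e1 e2
  have hy0 : F (IsLocalization.mk' (Localization.AtPrime P) y v) ≠ 0 := fun h => nonZeroDivisors.ne_zero hb (IsFractionRing.injective (Localization.AtPrime P) (FractionRing (Localization.AtPrime P)) (h.trans (map_zero F).symm))
  have hfy : F (f y') ≠ 0 := by rw [hy', map_mul, map_mul, ← e2]; exact mul_ne_zero (mul_ne_zero hy0 hfv) hfu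
  have hzxy : F (IsLocalization.mk' (Localization.AtPrime P) x u) / F (IsLocalization.mk' (Localization.AtPrime P) y v) = F (f x') / F (f y') := by
    rw [hx', hy', map_mul, map_mul, map_mul, map_mul, ← e1, ← e2, div_eq_div_iff hy0 (mul_ne_zero (mul_ne_zero hy0 hfv) hfu)]
    ring
  rw [hzxy] at hz ⊢
  obtain ⟨p, hp, hpe⟩ := hz
  set n := p.natDegree with hn
  obtain ⟨s, hs⟩ := IsLocalization.exist_integer_multiples P.primeCompl (Finset.range (n + 1)) (fun j => p.coeff j)
  choose r hr using fun j (hj : j ∈ Finset.range (n + 1)) => hs j hj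
  let r' : ℕ → (∀ i, R i) := fun j => if hj : j ∈ Finset.range (n + 1) then r j hj else 0
  have hr' : ∀ j ∈ Finset.range (n + 1), f (r' j) = f s * p.coeff j := fun j hj => by
    simp only [r', dif_pos hj]
    rw [show f (r j hj) = (s : ∀ i, R i) • p.coeff j from hr j hj, Algebra.smul_def]
  have hrel : f ((s : ∀ i, R i) * x' ^ n + ∑ j ∈ Finset.range n, r' j * x' ^ j * y' ^ (n - j)) = 0 := by
    apply IsFractionRing.injective (Localization.AtPrime P) (FractionRing (Localization.AtPrime P))
    show F _ = F 0
    rw [Polynomial.eval₂_eq_sum_range, Finset.sum_range_succ, hp.coeff_natDegree, map_one, one_mul] at hpe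
    have := congrArg (fun z => F (f s) * F (f y') ^ n * z) hpe
    simp only [mul_zero, mul_add, Finset.mul_sum] at this
    rw [map_zero, ← this, map_add, map_add, map_sum, map_sum, add_comm]
    congr 1
    · refine Finset.sum_congr rfl fun j hj => ?_
      rw [Finset.mem_range] at hj
      simp only [map_mul, map_pow, hr' j (Finset.mem_range.2 (by omega))]
      rw [show F (f y') ^ n = F (f y') ^ j * F (f y') ^ (n - j) by rw [← pow_add]; congr 1; omega, div_pow]
      field_simp
      simp only [F]
      ring
    · simp only [map_mul, map_pow, div_pow, ← hn]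
      field_simp
  obtain ⟨⟨t, ht⟩, hteq⟩ := (IsLocalization.map_eq_zero_iff P.primeCompl (Localization.AtPrime P) _).1 hrel
  have hS : ind R {i | t i ≠ 0 ∧ y' i ≠ 0 ∧ (s : ∀ i, R i) i ≠ 0} ∉ P := by
    rcases ind_notMem R P {i | t i ≠ 0 ∧ y' i ≠ 0 ∧ (s : ∀ i, R i) i ≠ 0} with h | h
    · exact h
    · exfalso
      have hprod : f (t * y' * (s : ∀ i, R i)) = 0 := map_eq_zero' R P h (funext fun i => by
        by_cases h1 : t i = 0 <;> by_cases h2 : y' i = 0 <;> by_cases h3 : (s : ∀ i, R i) i = 0 <;> simp [ind, h1, h2, h3])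
      rw [map_mul, map_mul] at hprod
      rcases mul_eq_zero.1 hprod with h' | h'
      · rcases mul_eq_zero.1 h' with h'' | h''
        · exact (IsLocalization.map_units (Localization.AtPrime P) (⟨t, ht⟩ : P.primeCompl)).ne_zero h''
        · exact hfy (by rw [h'', map_zero])
      · exact (IsLocalization.map_units (Localization.AtPrime P) s).ne_zero h'
  have hdvd : f y' ∣ f ((s : ∀ i, R i) * x') := by
    refine dvd_of_forall R P hS fun i hi => ?_
    have hmem : t i ≠ 0 ∧ y' i ≠ 0 ∧ (s : ∀ i, R i) i ≠ 0 := by by_contra h; exact hi (by simp [ind, h])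
    obtain ⟨h1, h2, h3⟩ := hmem
    have hi' := congrFun hteq i
    simp only [Pi.mul_apply, Pi.add_apply, Pi.pow_apply, Finset.sum_apply, Pi.zero_apply, mul_eq_zero, h1, false_or] at hi'
    set σ := (s : ∀ i, R i) i
    set φ := algebraMap (R i) (FractionRing (R i))
    have hφy : φ (y' i) ≠ 0 := fun h => h2 (IsFractionRing.injective _ _ (h.trans (map_zero φ).symm))
    rcases Nat.eq_zero_or_pos n with hn0 | hnpos
    · rw [hn0] at hi'; simp at hi'; exact absurd hi' h3
    let Q : Polynomial (R i) := Polynomial.X ^ n + ∑ j ∈ Finset.range n, Polynomial.C (r' j i * σ ^ (n - 1 - j)) * Polynomial.X ^ j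
    have hQ : Q.Monic := Polynomial.monic_X_pow_add (by
      rw [Polynomial.degree_lt_iff_coeff_zero]
      intro m hm
      rw [Polynomial.finsetSum_coeff]
      refine Finset.sum_eq_zero fun j hj => ?_
      rw [Finset.mem_range] at hj
      rw [Polynomial.coeff_C_mul_X_pow, if_neg (by omega)])
    have hroot : Polynomial.eval₂ φ (φ (σ * x' i) / φ (y' i)) Q = 0 := by
      simp only [Q, Polynomial.eval₂_add, Polynomial.eval₂_finset_sum, Polynomial.eval₂_mul, Polynomial.eval₂_C,
        Polynomial.eval₂_X_pow]
      apply mul_left_cancel₀ (pow_ne_zero n hφy)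
      have h' := congrArg φ hi'
      rw [map_add, map_mul, map_pow, map_sum, map_zero] at h'
      rw [mul_zero, mul_add, Finset.mul_sum]
      have h'' := congrArg (fun z => φ σ ^ (n - 1) * z) h'
      simp only [mul_zero, mul_add, Finset.mul_sum] at h''
      rw [← h'']
      congr 1
      · rw [← mul_pow, mul_div_cancel₀ _ hφy, map_mul, mul_pow, ← mul_assoc, ← pow_succ, Nat.sub_add_cancel hnpos]
      · refine Finset.sum_congr rfl fun j hj => ?_
        rw [Finset.mem_range] at hj
        simp only [map_mul, map_pow]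
        rw [show φ (y' i) ^ n = φ (y' i) ^ j * φ (y' i) ^ (n - j) by rw [← pow_add]; congr 1; omega,
          show φ σ ^ (n - 1) = φ σ ^ (n - 1 - j) * φ σ ^ j by rw [← pow_add]; congr 1; omega, div_pow]
        field_simp
        ring
    obtain ⟨q, hq⟩ := (isIntegrallyClosed_iff (FractionRing (R i))).1 inferInstance (⟨Q, hQ, hroot⟩ : IsIntegral (R i) (φ (σ * x' i) / φ (y' i)))
    refine ⟨q, IsFractionRing.injective (R i) (FractionRing (R i)) ?_⟩
    show φ _ = φ _
    rw [map_mul φ (y' i), hq, mul_div_cancel₀ _ hφy]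
    rfl
  obtain ⟨c, hc⟩ := hdvd
  obtain ⟨w, hw⟩ := (IsLocalization.map_units (Localization.AtPrime P) s).exists_right_inv
  refine ⟨c * w, ?_⟩
  rw [eq_div_iff hfy]
  have h5 := congrArg F hc
  simp only [hx', hy', map_mul] at h5
  have h6 := congrArg F hw
  rw [map_mul, map_one] at h6
  show F (c * w) * F (f y') = F (f x')
  simp only [hx', hy', map_mul]
  linear_combination (-F w) * h5 + F (f x) * F (f v) * h6

end Groth.Agent.S13359
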