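import Groth.Statements.S13360
import Mathlib
import Groth.Prelude

set_option linter.all false

set_option autoImplicit false
universe u
open UltraProd

open TensorProduct

namespace Groth.Agent.S13360

section
variable {ι : Type u} (R : ι → Type u) [∀ i, CommRing (R i)]

open Classical in
noncomputable def ind (S : Set ι) : ∀ i, R i := fun i => if i ∈ S then 1 else 0

theorem ind_add (S : Set ι) : ind R S + ind R Sᶜ = 1 := by
  funext i
  by_cases h : i ∈ S <;> simp [ind, h]

theorem ind_notMem (P : Ideal (∀ i, R i)) [hP : P.IsPrime] (S : Set ι) : ind R S ∉ P ∨ ind R Sᶜ ∉ P := by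
  by_contra h
  push Not at h
  exact hP.ne_top (P.eq_top_iff_one.2 (ind_add R S ▸ add_mem h.1 h.2))

theorem map_eq_zero' (P : Ideal (∀ i, R i)) [P.IsPrime] {s x : ∀ i, R i} (hs : s ∉ P) (h : s * x = 0) :
    algebraMap (∀ i, R i) (Localization.AtPrime P) x = 0 :=
  (IsLocalization.map_eq_zero_iff P.primeCompl _ _).2 ⟨⟨s, hs⟩, h⟩

theorem isDomain_loc [∀ i, IsDomain (R i)] (P : Ideal (∀ i, R i)) [P.IsPrime] :
    IsDomain (Localization.AtPrime P) := by
  classical
  have : NoZeroDivisors (Localization.AtPrime P) := by
    refine ⟨fun {a b} hab => ?_⟩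
    obtain ⟨⟨x, s⟩, rfl⟩ := IsLocalization.exists_mk'_eq P.primeCompl a |>.elim fun x hx => hx.elim fun s hs => (⟨(x, s), hs⟩ : ∃ p : _ × _, IsLocalization.mk' (Localization.AtPrime P) p.1 p.2 = a)
    obtain ⟨y, t, rfl⟩ := IsLocalization.exists_mk'_eq P.primeCompl b
    rw [← IsLocalization.mk'_mul, IsLocalization.mk'_eq_zero_iff] at hab
    obtain ⟨r, hr⟩ := hab
    simp only [IsLocalization.mk'_eq_zero_iff]
    rcases ind_notMem R P {i | x i = 0} with hS | hS
    · exact Or.inl ⟨⟨_, hS⟩, funext fun i => by by_cases h : x i = 0 <;> simp [ind, h]⟩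
    · refine Or.inr ⟨r * ⟨_, hS⟩, funext fun i => ?_⟩
      by_cases h : x i = 0
      · simp [ind, h]
      · have := congrFun hr i
        simp only [Pi.mul_apply, Pi.zero_apply, mul_eq_zero] at this
        rcases this with h1 | h1 | h1
        · simp [h1]
        · exact absurd h1 h
        · simp [h1]
  exact NoZeroDivisors.to_isDomain _

theorem dvd_of_forall (P : Ideal (∀ i, R i)) [P.IsPrime] {s x y : ∀ i, R i} (hs : s ∉ P)
    (h : ∀ i, s i ≠ 0 → x i ∣ y i) :
    algebraMap (∀ i, R i) (Localization.AtPrime P) x ∣ algebraMap (∀ i, R i) (Localization.AtPrime P) y := by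
  classical
  let c : ∀ i, R i := fun i => if h' : s i ≠ 0 then (h i h').choose else 0
  have : s * (y - x * c) = 0 := funext fun i => by
    by_cases h' : s i = 0
    · simp [h']
    · simp only [Pi.mul_apply, Pi.sub_apply, Pi.zero_apply, c, dif_pos h', ← (h i h').choose_spec, sub_self, mul_zero]
  refine ⟨algebraMap _ _ c, ?_⟩
  rw [← map_mul, ← sub_eq_zero, ← map_sub]
  exact map_eq_zero' R P hs this

end

/-- If (R_i) is a nonempty family of valuation rings, then the localization of the product ring ∏ R_i at
any prime ideal is a valuation ring: a domain in which, of any two elements, one divides the other. -/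
theorem result {ι : Type u} [Nonempty ι] (R : ι → Type u)
    [∀ i, CommRing (R i)] [∀ i, IsDomain (R i)] [∀ i, ValuationRing (R i)]
    (P : Ideal (∀ i, R i)) [P.IsPrime] :
    IsDomain (Localization.AtPrime P) ∧ PreValuationRing (Localization.AtPrime P) := by
  haveI := isDomain_loc R P
  refine ⟨inferInstance, PreValuationRing.iff_dvd_total.2 ⟨fun a b => ?_⟩⟩
  obtain ⟨x, s, rfl⟩ := IsLocalization.exists_mk'_eq P.primeCompl a
  obtain ⟨y, t, rfl⟩ := IsLocalization.exists_mk'_eq P.primeCompl b
  have key : ∀ (x y : ∀ i, R i) (s t : P.primeCompl),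
      algebraMap (∀ i, R i) (Localization.AtPrime P) x ∣ algebraMap (∀ i, R i) (Localization.AtPrime P) y →
      IsLocalization.mk' (Localization.AtPrime P) x s ∣ IsLocalization.mk' (Localization.AtPrime P) y t := by
    intro x y s t h
    have e1 := IsLocalization.mk'_spec (Localization.AtPrime P) x s
    have e2 := IsLocalization.mk'_spec (Localization.AtPrime P) y t
    rw [← e1, ← e2] at h
    exact ((IsLocalization.map_units (Localization.AtPrime P) t).dvd_mul_right).1
      ((dvd_mul_right _ _).trans h)
  rcases ind_notMem R P {i | x i ∣ y i} with hS | hS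
  · exact Or.inl (key x y s t (dvd_of_forall R P hS fun i hi => by
      by_contra h; exact hi (by simp [ind, h])))
  · exact Or.inr (key y x t s (dvd_of_forall R P hS fun i hi => by
      have : ¬ x i ∣ y i := fun h => hi (by simp [ind, h])
      exact (ValuationRing.dvd_total (x i) (y i)).resolve_left this))

end Groth.Agent.S13360
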