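import Groth.Statements.S13361
import Groth.Agent.ProComplLib.Basic

set_option autoImplicit false
universe u
open ProCompl

namespace Groth.Agent.S13361

/-- A finite abelian group with a nonzero element contained in every nonzero subgroup is isomorphic to a
cyclic group of prime-power order Z/p^n. -/
theorem result {A : Type u} [AddCommGroup A] [Finite A]
    (a : A) (ha : a ≠ 0) (h : ∀ B : AddSubgroup A, B ≠ ⊥ → a ∈ B) :
    ∃ p n : ℕ, p.Prime ∧ Nonempty (A ≃+ ZMod (p ^ n)) := by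
  obtain ⟨χ, hχ⟩ := Groth.Agent.ProComplLib.exists_ne_zero ha
  have hker : χ.ker = ⊥ := by
    by_contra hne
    exact hχ (h _ hne)
  have hinj : Function.Injective χ := (χ.ker_eq_bot_iff).1 hker
  set m := Nat.card A with hm
  have hm0 : (m : ℚ) ≠ 0 := by exact_mod_cast Nat.card_pos.ne'
  have hrange : χ.range ≤ AddSubgroup.zmultiples ((QuotientAddGroup.mk ((m : ℚ)⁻¹)) : Groth.Agent.ProComplLib.QZ) := by
    rintro _ ⟨x, rfl⟩
    obtain ⟨q, hq⟩ := QuotientAddGroup.mk_surjective (χ x)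
    have h0 : ((m • q : ℚ) : Groth.Agent.ProComplLib.QZ) = 0 := by
      rw [QuotientAddGroup.mk_nsmul, hq, ← map_nsmul, hm, card_nsmul_eq_zero', map_zero]
    rw [QuotientAddGroup.eq_zero_iff, AddSubgroup.mem_zmultiples_iff] at h0
    obtain ⟨k, hk⟩ := h0
    refine AddSubgroup.mem_zmultiples_iff.2 ⟨k, ?_⟩
    rw [← hq, ← QuotientAddGroup.mk_zsmul]
    congr 1
    rw [zsmul_one, nsmul_eq_mul] at hk
    rw [zsmul_eq_mul, hk, mul_comm (m : ℚ), mul_assoc, mul_inv_cancel₀ hm0, mul_one]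
  have hcyc : IsAddCyclic A := by
    have : IsAddCyclic χ.range :=
      isAddCyclic_of_injective (AddSubgroup.inclusion hrange) (AddSubgroup.inclusion_injective hrange)
    exact isAddCyclic_of_injective χ.rangeRestrict fun x y hxy => hinj (congrArg Subtype.val hxy)
  have hmin : ∀ p : ℕ, p.Prime → p ∣ m → addOrderOf a = p := by
    intro p hp hpm
    have : Fact p.Prime := ⟨hp⟩
    obtain ⟨x, hx⟩ := exists_prime_addOrderOf_dvd_card' p hpm
    have hxa : a ∈ AddSubgroup.zmultiples x := h _ (fun hb => by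
      rw [AddSubgroup.zmultiples_eq_bot] at hb
      rw [hb, addOrderOf_zero] at hx
      exact hp.one_lt.ne hx)
    have hd : addOrderOf a ∣ p := hx ▸ addOrderOf_dvd_of_mem_zmultiples hxa
    rcases (Nat.dvd_prime hp).1 hd with h1 | h1
    · exact absurd (AddMonoid.addOrderOf_eq_one_iff.1 h1) ha
    · exact h1
  have hm1 : m ≠ 1 := fun h1 => by
    have := (Nat.card_eq_one_iff_unique.1 h1).1
    exact ha (Subsingleton.elim a 0)
  obtain ⟨p, hp, hpm⟩ := Nat.exists_prime_and_dvd hm1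
  have hall : ∀ q : ℕ, q.Prime → q ∣ m → q = p := fun q hq hqm =>
    (hmin q hq hqm).symm.trans (hmin p hp hpm)
  obtain ⟨n, hn⟩ : ∃ n, m = p ^ n :=
    ⟨_, Nat.eq_prime_pow_of_unique_prime_dvd Nat.card_pos.ne' fun {q} hq hqm => hall q hq hqm⟩
  exact ⟨p, n, hp, ⟨((zmodAddCyclicAddEquiv hcyc).symm).trans
    (ZMod.ringEquivCongr (hm ▸ hn)).toAddEquiv⟩⟩

end Groth.Agent.S13361
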