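import Groth.Statements.S13362
import Groth.Agent.ProComplLib.Basic

set_option autoImplicit false
universe u
open ProCompl

namespace Groth.Agent.S13362

/-- An abelian group of finite exponent having a nonzero element contained in every nonzero subgroup is
finite. -/
theorem result {A : Type u} [AddCommGroup A]
    (hA : AddMonoid.exponent A ≠ 0) (a : A) (ha : a ≠ 0) (h : ∀ B : AddSubgroup A, B ≠ ⊥ → a ∈ B) :
    Finite A := by
  obtain ⟨χ, hχ⟩ := Groth.Agent.ProComplLib.exists_ne_zero ha
  have hker : χ.ker = ⊥ := by
    by_contra hne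
    exact hχ (h _ hne)
  have hfin := Groth.Agent.ProComplLib.finite_range_of_nsmul χ (Nat.pos_of_ne_zero hA) (fun x => by
    rw [← map_nsmul, AddMonoid.exponent_nsmul_eq_zero, map_zero])
  have := hfin.to_subtype
  exact Finite.of_injective (fun x => (⟨χ x, x, rfl⟩ : Set.range χ)) fun x y hxy =>
    (χ.ker_eq_bot_iff).1 hker (congrArg Subtype.val hxy)

end Groth.Agent.S13362
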