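import Groth.Statements.S13365
import Groth.Agent.ProComplLib.Basic

set_option autoImplicit false
universe u
open ProCompl

namespace Groth.Agent.S13365

/-- The quotient of a profinite (compact, Hausdorff, totally disconnected) abelian topological group by
a compact subgroup is profinite. -/
theorem result {A : Type u} [AddCommGroup A] [TopologicalSpace A]
    [IsTopologicalAddGroup A] [CompactSpace A] [T2Space A] [TotallyDisconnectedSpace A]
    (B : AddSubgroup A) (hB : IsCompact (B : Set A)) :
    CompactSpace (A ⧸ B) ∧ T2Space (A ⧸ B) ∧ TotallyDisconnectedSpace (A ⧸ B) := by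
  have : IsClosed (B : Set A) := hB.isClosed
  haveI : IsClosed ((B : AddSubgroup A) : Set A) := this
  refine ⟨Quotient.compactSpace, inferInstance, ?_⟩
  suffices TotallySeparatedSpace (A ⧸ B) from inferInstance
  refine totallySeparatedSpace_iff_exists_isClopen.2 fun x y hxy => ?_
  obtain ⟨x, rfl⟩ := QuotientAddGroup.mk_surjective x
  obtain ⟨y, rfl⟩ := QuotientAddGroup.mk_surjective y
  have hd : -x + y ∉ B := fun h => hxy (QuotientAddGroup.eq.2 h)
  obtain ⟨H, hH, hHO⟩ := Groth.Agent.ProComplLib.exists_open_addSubgroup_subset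
    (O := (fun g => (-x + y) + g) ⁻¹' (B : Set A)ᶜ)
    (this.isOpen_compl.preimage (continuous_const.add continuous_id)) (by simpa using hd)
  let π := QuotientAddGroup.mk' B
  have hU : IsOpen ((H.map π : AddSubgroup (A ⧸ B)) : Set (A ⧸ B)) :=
    QuotientAddGroup.isOpenMap_coe _ hH
  refine ⟨(fun q => q - π x) ⁻¹' (H.map π : Set (A ⧸ B)),
    ⟨(AddSubgroup.isClosed_of_isOpen _ hU).preimage (continuous_id.sub continuous_const),
      hU.preimage (continuous_id.sub continuous_const)⟩,
    (show π x - π x ∈ H.map π by rw [sub_self]; exact zero_mem _),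
    fun hy => ?_⟩
  obtain ⟨g, hg, hgy⟩ := (hy : π y - π x ∈ H.map π)
  have hmem : (-x + y) + -g ∈ B := by
    have h1 : π g = π (y - x) := hgy.trans (map_sub π y x).symm
    have := (QuotientAddGroup.eq (s := B)).1 h1
    rwa [show -x + y + -g = -g + (y - x) by abel]
  exact hHO (H.neg_mem hg) hmem

end Groth.Agent.S13365
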