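import Groth.Statements.S13366
import Mathlib
import Groth.Agent.IsocLib.LangK
import Groth.Agent.HenselLib.Lift

set_option linter.all false

set_option autoImplicit false
universe u v
open FrobMod

open scoped TensorProduct

namespace Groth.Agent.S13366

section
variable (p : ℕ) [Fact p.Prime]

theorem frob_add {R : Type u} [CommRing R] [CharP R p] {n : ℕ} (A : Matrix (Fin n) (Fin n) R) (x y : Fin n → R) :
    A.mulVec (fun i => (x + y) i ^ p) = A.mulVec (fun i => x i ^ p) + A.mulVec (fun i => y i ^ p) := by
  haveI : ExpChar R p := ExpChar.prime Fact.out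
  rw [← Matrix.mulVec_add]
  congr 1
  funext i
  exact add_pow_char (x i) (y i) p

theorem lang_algClosed {K : Type u} [Field K] [IsAlgClosed K] [CharP K p] {n : ℕ} (A : Matrix (Fin n) (Fin n) K) (hA : IsUnit A) :
    (∀ c : Fin n → K, ∃ x, A.mulVec (fun i => x i ^ p) - x = c) ∧
      Nat.card {x : Fin n → K // A.mulVec (fun i => x i ^ p) = x} = p ^ n := by
  classical
  have hp := (Fact.out : p.Prime)
  let T : (Fin n → K) →+ (Fin n → K) := AddMonoidHom.mk' (fun x => A.mulVec (fun i => x i ^ p)) (frob_add p A)
  have hT : ∀ (r : K) x, T (r • x) = r ^ p • T x := fun r x => by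
    show A.mulVec _ = r ^ p • A.mulVec _
    rw [← Matrix.mulVec_smul]
    congr 1
    funext i
    simp [mul_pow]
  have hinj : Function.Injective T := fun x y h => by
    have h' : (fun i => x i ^ p) = (fun i => y i ^ p) := Matrix.mulVec_injective_iff_isUnit.2 hA h
    funext i
    haveI : ExpChar K p := ExpChar.prime hp
    exact frobenius_inj K p (congrFun h' i)
  have hspan := Groth.Agent.IsocLib.span_fixed_eq_top (q := p) hp.two_le (p := p) (n := 1) (pow_one p).symm T hT hinj
  obtain ⟨t, ht, htspan, hli⟩ := exists_linearIndependent K {x | T x = x}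
  rw [hspan] at htspan
  let b : Module.Basis t K (Fin n → K) := Module.Basis.mk hli (by rw [Subtype.range_coe]; exact htspan.ge)
  haveI : Fintype t := FiniteDimensional.fintypeBasisIndex b
  have hcard : Fintype.card t = n := by
    rw [← Module.finrank_eq_card_basis b, Module.finrank_fin_fun]
  have hb : ∀ i : t, T (b i) = b i := fun i => by simpa [b] using ht i.2
  have hTb : ∀ a : t → K, T (b.equivFun.symm a) = b.equivFun.symm (fun i => a i ^ p) := fun a => by
    simp only [Module.Basis.equivFun_symm_apply, map_sum, hT, hb]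
  have hroot : ∀ c : K, ∃ a : K, a ^ p - a = c := fun c => by
    have hd : ((Polynomial.X : Polynomial K) ^ p - Polynomial.X - Polynomial.C c).natDegree = p := by
      rw [Polynomial.natDegree_sub_C, Polynomial.natDegree_sub_eq_left_of_natDegree_lt]
      · simp
      · simpa using hp.one_lt
    obtain ⟨a, ha⟩ := IsAlgClosed.exists_root _ (fun h => hp.ne_zero (hd.symm.trans (Polynomial.natDegree_eq_of_degree_eq_some h)))
    exact ⟨a, sub_eq_zero.1 (by simpa [Polynomial.IsRoot] using ha)⟩
  refine ⟨fun c => ?_, ?_⟩
  · choose a ha using fun i => hroot (b.equivFun c i)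
    refine ⟨b.equivFun.symm a, ?_⟩
    show T (b.equivFun.symm a) - b.equivFun.symm a = c
    rw [hTb, ← map_sub, show ((fun i => a i ^ p) - a) = b.equivFun c from funext fun i => ha i, LinearEquiv.symm_apply_apply]
  · have e1 : {x : Fin n → K // A.mulVec (fun i => x i ^ p) = x} ≃ (t → {a : K // a ^ p = a}) :=
      (Equiv.subtypeEquiv b.equivFun.toEquiv (q := fun a => ∀ i, a i ^ p = a i) (fun x => by
        show T x = x ↔ ∀ i, b.equivFun x i ^ p = b.equivFun x i
        conv_lhs => rw [← b.equivFun.symm_apply_apply x, hTb, b.equivFun.symm.injective.eq_iff]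
        exact funext_iff)).trans (Equiv.subtypePiEquivPi (p := fun (_ : t) (a : K) => a ^ p = a))
    haveI : Fintype {a : K // a ^ p = a} := by
      refine Fintype.ofFinset ((Polynomial.X ^ p - Polynomial.X : Polynomial K).roots.toFinset) fun a => ?_
      have hne : (Polynomial.X ^ p - Polynomial.X : Polynomial K) ≠ 0 := FiniteField.X_pow_card_sub_X_ne_zero K hp.one_lt
      simp [Polynomial.mem_roots hne, sub_eq_zero]
      rfl
    have hfix : Nat.card {a : K // a ^ p = a} = p := by
      refine le_antisymm ?_ ?_
      · have hne : (Polynomial.X ^ p - Polynomial.X : Polynomial K) ≠ 0 := FiniteField.X_pow_card_sub_X_ne_zero K hp.one_lt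
        let f : {a : K // a ^ p = a} → (Polynomial.X ^ p - Polynomial.X : Polynomial K).roots.toFinset :=
          fun a => ⟨a.1, by simp [Polynomial.mem_roots hne, sub_eq_zero, a.2]⟩
        refine (Nat.card_le_card_of_injective f fun a b h => Subtype.ext (show (f a).1 = (f b).1 by rw [h])).trans ?_
        rw [Nat.card_eq_fintype_card, Fintype.card_coe]
        refine (Multiset.toFinset_card_le _).trans ((Polynomial.card_roots' _).trans ?_)
        rw [FiniteField.X_pow_card_sub_X_natDegree_eq K hp.one_lt]
      · let g : ZMod p → {a : K // a ^ p = a} := fun z => ⟨ZMod.castHom dvd_rfl K z, by rw [← map_pow, ZMod.pow_card]⟩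
        have := Nat.card_le_card_of_injective g fun a b h => (ZMod.castHom dvd_rfl K).injective (congrArg Subtype.val h)
        simpa using this
    rw [Nat.card_congr e1, Nat.card_fun, hfix, Nat.card_eq_fintype_card, hcard]

theorem lang_sepClosed {k : Type u} [Field k] [IsSepClosed k] [CharP k p] {n : ℕ} (A : Matrix (Fin n) (Fin n) k) (hA : IsUnit A) :
    (∀ c : Fin n → k, ∃ x, A.mulVec (fun i => x i ^ p) - x = c) ∧
      Nat.card {x : Fin n → k // A.mulVec (fun i => x i ^ p) = x} = p ^ n := by
  classical
  let K := AlgebraicClosure k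
  let φ := algebraMap k K
  haveI : CharP K p := charP_of_injective_algebraMap φ.injective p
  haveI : ExpChar k p := ExpChar.prime Fact.out
  haveI : ExpChar K p := ExpChar.prime Fact.out
  obtain ⟨hs, hc⟩ := lang_algClosed p (A.map φ) (hA.map φ.mapMatrix)
  have hmap : ∀ y : Fin n → k, (A.map φ).mulVec (fun i => φ (y i) ^ p) = fun i => φ (A.mulVec (fun i => y i ^ p) i) := fun y => by
    funext i; simp [Matrix.mulVec, dotProduct]
  have hdesc : ∀ (c : Fin n → k) (x : Fin n → K), (A.map φ).mulVec (fun i => x i ^ p) - x = (fun i => φ (c i)) →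
      ∃ y : Fin n → k, x = fun i => φ (y i) := by
    intro c x hx
    have hx' : ∀ i, x i = (∑ j, φ (A i j) * x j ^ p) - φ (c i) := fun i => by
      have := congrFun hx i
      simp only [Pi.sub_apply, Matrix.mulVec, dotProduct, Matrix.map_apply] at this
      rw [← this, sub_sub_cancel]
    suffices H : ∀ N, (∀ i, x i ^ p ^ N ∈ φ.range) → ∀ i, x i ∈ φ.range by
      choose N hN using fun i => IsPurelyInseparable.pow_mem k p (x i)
      choose y hy using H (∑ i, N i) fun i => by
        obtain ⟨d, hd⟩ := Nat.exists_eq_add_of_le (Finset.single_le_sum (fun j _ => Nat.zero_le (N j)) (Finset.mem_univ i))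
        rw [hd, pow_add, pow_mul]
        exact Subring.pow_mem _ (hN i) _
      exact ⟨y, funext fun i => (hy i).symm⟩
    intro N
    induction N with
    | zero => intro h i; simpa using h i
    | succ N ih =>
      intro h
      refine ih fun i => ?_
      rw [hx' i, sub_pow_char_pow, sum_pow_char_pow]
      refine sub_mem (Subring.sum_mem _ fun j _ => ?_) (Subring.pow_mem _ (RingHom.mem_range.2 ⟨c i, rfl⟩) _)
      rw [mul_pow, ← pow_mul, ← pow_succ']
      exact Subring.mul_mem _ (Subring.pow_mem _ (RingHom.mem_range.2 ⟨A i j, rfl⟩) _) (h j)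
  refine ⟨fun c => ?_, ?_⟩
  · obtain ⟨x, hx⟩ := hs fun i => φ (c i)
    obtain ⟨y, rfl⟩ := hdesc c x hx
    refine ⟨y, funext fun i => φ.injective ?_⟩
    have := congrFun hx i
    rw [hmap] at this
    simpa using this
  · rw [← hc]
    refine Nat.card_congr (Equiv.ofBijective (fun y => ⟨fun i => φ (y.1 i), by rw [hmap, y.2]⟩) ⟨fun a b h => ?_, fun x => ?_⟩)
    · exact Subtype.ext (funext fun i => φ.injective (congrFun (congrArg Subtype.val h) i))
    · obtain ⟨y, hy⟩ := hdesc 0 x.1 (by rw [x.2]; funext i; simp)
      refine ⟨⟨y, funext fun i => φ.injective ?_⟩, Subtype.ext hy.symm⟩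
      have h2 := x.2
      rw [hy, hmap] at h2
      exact congrFun h2 i

theorem lang_henselian {R : Type u} [CommRing R] [HenselianLocalRing R] [IsSepClosed (IsLocalRing.ResidueField R)] [CharP R p]
    {n : ℕ} (A : Matrix (Fin n) (Fin n) R) (hA : IsUnit A) :
    (∀ c : Fin n → R, ∃ x, A.mulVec (fun i => x i ^ p) - x = c) ∧
      Nat.card {x : Fin n → R // A.mulVec (fun i => x i ^ p) = x} = p ^ n := by
  classical
  have hp := (Fact.out : p.Prime)
  let res := IsLocalRing.residue R
  haveI : CharP (IsLocalRing.ResidueField R) p :=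
    (CharP.charP_iff_prime_eq_zero hp).2 (by
      have := congrArg res (CharP.cast_eq_zero R p)
      rwa [map_natCast, map_zero] at this)
  haveI : ExpChar R p := ExpChar.prime hp
  obtain ⟨hs, hc⟩ := lang_sepClosed p (A.map res) (hA.map res.mapMatrix)
  have hmap : ∀ y : Fin n → R, (A.map res).mulVec (fun i => res (y i) ^ p) = fun i => res (A.mulVec (fun i => y i ^ p) i) := fun y => by
    funext i; simp [Matrix.mulVec, dotProduct]
  have hlift : ∀ (c : Fin n → R) (x₀ : Fin n → IsLocalRing.ResidueField R),
      (A.map res).mulVec (fun i => x₀ i ^ p) - x₀ = (fun i => res (c i)) →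
      ∃ x : Fin n → R, A.mulVec (fun i => x i ^ p) - x = c ∧ (fun i => res (x i)) = x₀ := by
    intro c x₀ h₀
    choose a₀ ha₀ using fun i => Ideal.Quotient.mk_surjective (I := IsLocalRing.maximalIdeal R) (x₀ i)
    let G : Fin n → MvPolynomial (Fin n) R := fun i =>
      (∑ j, MvPolynomial.C (A i j) * MvPolynomial.X j ^ p) - MvPolynomial.X i - MvPolynomial.C (c i)
    have hev : ∀ (a : Fin n → R) i, MvPolynomial.eval a (G i) = A.mulVec (fun j => a j ^ p) i - a i - c i := fun a i => by
      simp [G, Matrix.mulVec, dotProduct]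
    have hder : (Matrix.of fun i j => MvPolynomial.eval a₀ (MvPolynomial.pderiv j (G i))) = -1 := by
      ext i j
      simp [G, MvPolynomial.pderiv_X, Pi.single_apply, CharP.cast_eq_zero, Matrix.one_apply, eq_comm]
    obtain ⟨a, ha, ha'⟩ := Groth.Agent.HenselLib.exists_root_system (IsLocalRing.maximalIdeal R) G a₀ (fun i => by
        rw [← IsLocalRing.residue_eq_zero_iff, hev, map_sub, map_sub]
        have h1 := congrFun (hmap a₀) i
        have h2 := congrFun h₀ i
        have ha₀' : ∀ i, res (a₀ i) = x₀ i := ha₀
        simp only [ha₀'] at h1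
        rw [← h1]
        show (A.map res).mulVec (fun i => x₀ i ^ p) i - res (a₀ i) - res (c i) = 0
        rw [ha₀', ← h2, Pi.sub_apply, sub_self])
      (by rw [hder]; exact ((isUnit_one.neg : IsUnit (-1 : Matrix (Fin n) (Fin n) R)).map Matrix.detMonoidHom).map _)
    refine ⟨a, funext fun i => ?_, funext fun i => ?_⟩
    · rw [Pi.sub_apply, ← sub_eq_zero, ← hev]; exact ha i
    · rw [← ha₀ i]; exact Ideal.Quotient.eq.2 (ha' i)
  have huniq : ∀ d : Fin n → R, (∀ i, d i ∈ IsLocalRing.maximalIdeal R) → A.mulVec (fun i => d i ^ p) = d → d = 0 := by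
    intro d hd hfix
    have hJ : Ideal.span (Set.range d) ≤ IsLocalRing.maximalIdeal R • Ideal.span (Set.range d) := by
      refine Ideal.span_le.2 ?_
      rintro _ ⟨i, rfl⟩
      rw [SetLike.mem_coe, show d i = ∑ j, A i j * d j ^ p from (congrFun hfix i).symm]
      refine Submodule.sum_mem _ fun j _ => Ideal.mul_mem_left _ _ ?_
      obtain ⟨q, hq⟩ := Nat.exists_eq_add_of_le hp.two_le
      rw [hq, pow_add, pow_two, mul_assoc]
      exact Submodule.smul_mem_smul (hd j) (Ideal.mul_mem_right _ _ (Ideal.subset_span ⟨j, rfl⟩))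
    have h0 := Submodule.eq_bot_of_le_smul_of_le_jacobson_bot (IsLocalRing.maximalIdeal R) (Ideal.span (Set.range d))
      ((Submodule.fg_span (Set.finite_range d))) hJ (IsLocalRing.maximalIdeal_le_jacobson _)
    funext i
    have : d i ∈ Ideal.span (Set.range d) := Ideal.subset_span ⟨i, rfl⟩
    rw [h0] at this; simpa using this
  refine ⟨fun c => ?_, ?_⟩
  · obtain ⟨x₀, hx₀⟩ := hs fun i => res (c i)
    obtain ⟨x, hx, -⟩ := hlift c x₀ hx₀
    exact ⟨x, hx⟩
  · rw [← hc]
    refine Nat.card_congr (Equiv.ofBijective (fun y => ⟨fun i => res (y.1 i), by rw [hmap, y.2]⟩) ⟨fun a b h => ?_, fun x => ?_⟩)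
    · have hab : ∀ i, (a.1 - b.1) i ∈ IsLocalRing.maximalIdeal R := fun i => by
        rw [← IsLocalRing.residue_eq_zero_iff, Pi.sub_apply, map_sub, sub_eq_zero]
        exact congrFun (congrArg Subtype.val h) i
      have := huniq (a.1 - b.1) hab (by
        have e := frob_add p A (a.1 - b.1) b.1
        rw [sub_add_cancel] at e
        rw [a.2, b.2] at e
        rw [eq_sub_iff_add_eq]
        exact e.symm)
      exact Subtype.ext (sub_eq_zero.1 this)
    · obtain ⟨y, hy, hy'⟩ := hlift 0 x.1 (by rw [x.2]; funext i; simp)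
      exact ⟨⟨y, sub_eq_zero.1 hy⟩, Subtype.ext hy'⟩

/-- A semilinear map in coordinates. -/
theorem lang_module {R : Type u} [CommRing R] [HenselianLocalRing R] [IsSepClosed (IsLocalRing.ResidueField R)] [CharP R p]
    {M : Type v} [AddCommGroup M] [Module R M] [Module.Free R M] [Module.Finite R M]
    (T : M →+ M) (hT : ∀ (r : R) (m : M), T (r • m) = r ^ p • T m) (hspan : Submodule.span R (Set.range T) = ⊤) :
    Function.Surjective (fun m => T m - m) ∧ Nat.card {m : M // T m = m} = p ^ Module.finrank R M := by
  classical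
  let b := Module.finBasis R M
  let A : Matrix (Fin (Module.finrank R M)) (Fin (Module.finrank R M)) R := b.toMatrix (fun j => T (b j))
  have hTb : ∀ m, b.equivFun (T m) = A.mulVec (fun i => b.equivFun m i ^ p) := fun m => by
    conv_lhs => rw [← b.sum_repr m, map_sum]
    funext i
    simp [hT, map_sum, A, Matrix.mulVec, dotProduct, Module.Basis.toMatrix_apply, mul_comm]
  have hA : IsUnit A := by
    rw [← Matrix.mulVec_surjective_iff_isUnit]
    intro y
    have hle : Submodule.span R (Set.range T) ≤ (LinearMap.range A.mulVecLin).comap b.equivFun.toLinearMap :=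
      Submodule.span_le.2 (by rintro _ ⟨m, rfl⟩; exact ⟨_, (hTb m).symm⟩)
    obtain ⟨x, hx⟩ := hle (show b.equivFun.symm y ∈ _ by rw [hspan]; trivial)
    refine ⟨x, ?_⟩
    rw [Matrix.mulVecLin_apply] at hx
    rw [hx]; exact b.equivFun.apply_symm_apply y
  obtain ⟨hs, hc⟩ := lang_henselian p A hA
  refine ⟨fun c => ?_, ?_⟩
  · obtain ⟨x, hx⟩ := hs (b.equivFun c)
    refine ⟨b.equivFun.symm x, b.equivFun.injective ?_⟩
    rw [map_sub, hTb, LinearEquiv.apply_symm_apply]
    exact hx
  · rw [← hc]
    refine Nat.card_congr (Equiv.subtypeEquiv b.equivFun.toEquiv fun m => ?_)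
    show T m = m ↔ A.mulVec (fun i => b.equivFun m i ^ p) = b.equivFun m
    rw [← hTb, b.equivFun.injective.eq_iff]
end

/-- Over a strictly Henselian local ring R of prime characteristic p (Henselian, separably closed
residue field), let M be a free module of finite rank n and T an additive Frobenius-semilinear
self-map of M (T(rm) = r^p T(m)) whose values generate M as an R-module; for a basis (e_i) this says
that the matrix of coefficients of the elements T(e_i) is invertible. Then the map T − 1 is
surjective and its kernel has cardinality p^n. (The published statement calls T a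
Frobenius-semilinear isomorphism; this row asks only that the values of T generate M over R, which
is the property of T the published proof uses. Requiring T itself to be bijective would, for M ≠ 0,
force the Frobenius of R to be surjective.) -/
theorem result (p : ℕ) [Fact p.Prime] {R : Type u} [CommRing R]
    [HenselianLocalRing R] [IsSepClosed (IsLocalRing.ResidueField R)] [CharP R p]
    {M : Type v} [AddCommGroup M] [Module R M] [Module.Free R M] [Module.Finite R M]
    (T : M →+ M) (hT : ∀ (r : R) (m : M), T (r • m) = r ^ p • T m)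
    (hspan : Submodule.span R (Set.range T) = ⊤) :
    Function.Surjective (fun m => T m - m) ∧ Nat.card {m : M // T m = m} = p ^ Module.finrank R M := by
  exact lang_module p T hT hspan

end Groth.Agent.S13366
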