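import Groth.Statements.S13367
import Mathlib
import Groth.Agent.S13366
import Groth.Agent.IsocLib.LangK
import Groth.Agent.HenselLib.Lift

set_option linter.all false

set_option autoImplicit false
universe u v
open FrobMod

open scoped TensorProduct

namespace Groth.Agent.S13367

/-- Over a strictly Henselian discrete valuation ring R of prime characteristic p with residue field κ,
for a finitely generated module M with n = dim_κ(κ ⊗ M) and a Frobenius-semilinear additive
bijection T of M (T(rm) = r^p T(m)), the map T − 1 is surjective and its kernel has cardinality p^n. -/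
theorem result (p : ℕ) [Fact p.Prime] {R : Type u} [CommRing R] [IsDomain R]
    [IsDiscreteValuationRing R] [HenselianLocalRing R] [IsSepClosed (IsLocalRing.ResidueField R)] [CharP R p]
    {M : Type v} [AddCommGroup M] [Module R M] [Module.Finite R M]
    (T : M →+ M) (hT : ∀ (r : R) (m : M), T (r • m) = r ^ p • T m) (hbij : Function.Bijective T) :
    Function.Surjective (fun m => T m - m) ∧
      Nat.card {m : M // T m = m} =
        p ^ Module.finrank (IsLocalRing.ResidueField R) (TensorProduct R (IsLocalRing.ResidueField R) M) := by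
  classical
  have hp := (Fact.out : p.Prime)
  obtain ⟨π, hπ⟩ := IsDiscreteValuationRing.exists_irreducible R
  have hm : IsLocalRing.maximalIdeal R = Ideal.span {π} := hπ.maximalIdeal_eq
  set m := IsLocalRing.maximalIdeal R
  -- `π M` is killed
  have hmem_iff : ∀ w ∈ m • (⊤ : Submodule R M), ∃ u : M, π • u = w := fun w hw => by
    rw [hm, Submodule.ideal_span_singleton_smul] at hw
    obtain ⟨u, -, hu⟩ := hw
    exact ⟨u, hu⟩
  have hstep : ∀ z : M, π • z ∈ m ^ 2 • (⊤ : Submodule R M) := by
    let Mbar := M ⧸ (m • (⊤ : Submodule R M))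
    haveI hκ : Module.Finite (R ⧸ m) Mbar := Module.Finite.of_restrictScalars_finite R _ _
    letI := Ideal.Quotient.field m
    let bb := Module.finBasis (R ⧸ m) Mbar
    choose v hv using fun i => Submodule.mkQ_surjective (m • (⊤ : Submodule R M)) (bb i)
    have hvspan : Submodule.span R (Set.range v) = ⊤ := by
      refine IsLocalRing.map_mkQ_eq_top.1 (eq_top_iff.2 fun y _ => ?_)
      have hy : y ∈ Submodule.span (R ⧸ m) (Set.range bb) := by rw [bb.span_eq]; trivial
      rw [← Submodule.restrictScalars_mem R, Submodule.restrictScalars_span R (R ⧸ m) Ideal.Quotient.mk_surjective] at hy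
      rw [Submodule.map_span, ← Set.range_comp]
      rw [show ((m • (⊤ : Submodule R M)).mkQ ∘ v) = ⇑bb from funext hv]
      exact hy
    choose e he using fun i => hbij.2 (v i)
    intro z
    obtain ⟨y, hy⟩ := hbij.2 (π • z)
    -- write `y` through preimages
    have he_top : Submodule.span R (Set.range e) = ⊤ := by
      refine IsLocalRing.map_mkQ_eq_top.1 ?_
      have hli : LinearIndependent (R ⧸ m) fun i => (m • (⊤ : Submodule R M)).mkQ (e i) := by
        rw [Fintype.linearIndependent_iff]
        intro g hg i
        choose r hr using fun j => Ideal.Quotient.mk_surjective (I := m) (g j)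
        simp only [← hr] at hg
        have hmem : ∑ j, r j • e j ∈ m • (⊤ : Submodule R M) := by
          rw [← Submodule.Quotient.mk_eq_zero, ← hg, ← Submodule.mkQ_apply, map_sum]
          exact Finset.sum_congr rfl fun j _ => by rw [map_smul]; rfl
        have hT' : T (∑ j, r j • e j) ∈ m • (⊤ : Submodule R M) := by
          obtain ⟨u, hu⟩ := hmem_iff _ hmem
          rw [← hu]
          show T (π • u) ∈ _
          rw [hT]
          exact Submodule.smul_mem_smul (Ideal.pow_mem_of_mem _ (hm ▸ Ideal.mem_span_singleton_self π) p hp.pos) trivial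
        rw [map_sum] at hT'
        simp only [hT, he] at hT'
        have h0 : ∑ j, (Ideal.Quotient.mk m (r j ^ p)) • bb j = 0 := by
          rw [← (Submodule.Quotient.mk_eq_zero (m • (⊤ : Submodule R M))).2 hT', ← Submodule.mkQ_apply, map_sum]
          exact Finset.sum_congr rfl fun j _ => by rw [map_smul, hv j]; rfl
        have := Fintype.linearIndependent_iff.1 bb.linearIndependent _ h0 i
        rw [← hr i, map_pow] at *
        exact eq_zero_of_pow_eq_zero this
      have := hli.span_eq_top_of_card_eq_finrank' (by simp [Mbar])
      rw [Submodule.map_span, ← Set.range_comp]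
      have h2 := congrArg (Submodule.restrictScalars R) this
      rw [Submodule.restrictScalars_span R (R ⧸ m) Ideal.Quotient.mk_surjective, Submodule.restrictScalars_top] at h2
      exact h2
    obtain ⟨r, hr⟩ := (Submodule.mem_span_range_iff_exists_fun R).1 (show y ∈ Submodule.span R (Set.range e) by rw [he_top]; trivial)
    rw [← hr, map_sum] at hy
    simp only [hT, he] at hy
    have h0 : ∑ j, (Ideal.Quotient.mk m (r j ^ p)) • bb j = 0 := by
      have hz : ∑ j, r j ^ p • v j ∈ m • (⊤ : Submodule R M) := by
        rw [hy]; exact Submodule.smul_mem_smul (hm ▸ Ideal.mem_span_singleton_self π) trivial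
      rw [← (Submodule.Quotient.mk_eq_zero (m • (⊤ : Submodule R M))).2 hz, ← Submodule.mkQ_apply, map_sum]
      exact Finset.sum_congr rfl fun j _ => by rw [map_smul, hv j]; rfl
    rw [← hy]
    refine Submodule.sum_mem _ fun j _ => ?_
    have hj := Fintype.linearIndependent_iff.1 bb.linearIndependent _ h0 j
    have hrj : r j ∈ m := (Ideal.IsMaximal.isPrime inferInstance).mem_of_pow_mem p (Ideal.Quotient.eq_zero_iff_mem.1 hj)
    exact Submodule.smul_mem_smul (Ideal.pow_le_pow_right hp.two_le (Ideal.pow_mem_pow hrj p)) trivial
  have hkill : m • (⊤ : Submodule R M) = ⊥ := by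
    refine Submodule.eq_bot_of_le_smul_of_le_jacobson_bot m _ (IsNoetherian.noetherian _) ?_ (IsLocalRing.maximalIdeal_le_jacobson _)
    conv_lhs => rw [hm, Submodule.ideal_span_singleton_smul]
    rintro _ ⟨z, -, rfl⟩
    have := hstep z
    rwa [pow_two, Submodule.mul_smul] at this
  have htors : Module.IsTorsionBySet R M m := fun z a => by
    have : (a : R) • z ∈ m • (⊤ : Submodule R M) := Submodule.smul_mem_smul a.2 trivial
    rw [hkill] at this; simpa using this
  letI : Module (IsLocalRing.ResidueField R) M := htors.module
  haveI : IsScalarTower R (IsLocalRing.ResidueField R) M := htors.isScalarTower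
  haveI : Module.Finite (IsLocalRing.ResidueField R) M := Module.Finite.of_restrictScalars_finite R _ _
  haveI : CharP (IsLocalRing.ResidueField R) p :=
    (CharP.charP_iff_prime_eq_zero hp).2 (by
      have := congrArg (IsLocalRing.residue R) (CharP.cast_eq_zero R p)
      rwa [map_natCast, map_zero] at this)
  have hT' : ∀ (c : IsLocalRing.ResidueField R) (z : M), T (c • z) = c ^ p • T z := by
    intro c z
    obtain ⟨r, rfl⟩ := Ideal.Quotient.mk_surjective c
    show T ((IsLocalRing.residue R r) • z) = (IsLocalRing.residue R r) ^ p • T z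
    rw [← map_pow]
    exact hT r z
  haveI : IsSepClosed (IsLocalRing.ResidueField (IsLocalRing.ResidueField R)) := by
    have e : IsLocalRing.ResidueField R ≃+* IsLocalRing.ResidueField (IsLocalRing.ResidueField R) :=
      RingEquiv.ofBijective (IsLocalRing.residue (IsLocalRing.ResidueField R)) ⟨RingHom.injective _, Ideal.Quotient.mk_surjective⟩
    refine ⟨fun f hf => ?_⟩
    have h1 := IsSepClosed.splits_of_separable (k := IsLocalRing.ResidueField R) (f.map e.symm.toRingHom) hf.map
    have h2 := h1.map e.toRingHom
    rwa [Polynomial.map_map, show e.toRingHom.comp e.symm.toRingHom = RingHom.id _ from RingHom.ext fun x => e.apply_symm_apply x, Polynomial.map_id] at h2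
  obtain ⟨h1, h2⟩ := Groth.Agent.S13366.lang_module (R := IsLocalRing.ResidueField R) p T hT' (by rw [hbij.2.range_eq, Submodule.span_univ])
  refine ⟨h1, h2.trans (congrArg (p ^ ·) ?_)⟩
  have e := TensorProduct.AlgebraTensorModule.cancelBaseChange R (IsLocalRing.ResidueField R) (IsLocalRing.ResidueField R) (IsLocalRing.ResidueField R) M
  have hsurj : Function.Surjective (algebraMap R (IsLocalRing.ResidueField R)) := Ideal.Quotient.mk_surjective
  let f : TensorProduct R (IsLocalRing.ResidueField R) M →ₗ[IsLocalRing.ResidueField R] M :=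
    LinearMap.liftBaseChange (IsLocalRing.ResidueField R) (LinearMap.id : M →ₗ[R] M)
  refine (LinearEquiv.ofBijective f ⟨?_, fun z => ⟨1 ⊗ₜ[R] z, by simp [f]⟩⟩).finrank_eq.symm
  intro a b hab
  have hrep : ∀ t : TensorProduct R (IsLocalRing.ResidueField R) M, t = 1 ⊗ₜ[R] f t := by
    intro t
    induction t using TensorProduct.induction_on with
    | zero => simp
    | add a b ha hb => rw [map_add, TensorProduct.tmul_add, ← ha, ← hb]
    | tmul c z =>
      obtain ⟨r, rfl⟩ := hsurj c
      rw [show f ((algebraMap R _ r) ⊗ₜ[R] z) = r • z from by simp [f]; exact algebraMap_smul (IsLocalRing.ResidueField R) r z, TensorProduct.tmul_smul, TensorProduct.smul_tmul', Algebra.smul_def, mul_one]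
  rw [hrep a, hrep b, hab]

end Groth.Agent.S13367
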