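import Groth.Statements.S13368
import Mathlib
-- import your own Groth.Agent.* helpers here

set_option autoImplicit false
universe u
open GaDual

namespace Groth.Agent.S13368

open Polynomial

variable {p : ℕ} [Fact p.Prime] {R : Type u} [CommRing R] [IsDomain R] [IsDiscreteValuationRing R] [CharP R p]
  {π : R}

theorem dvd_of_pow_dvd (hπ : Irreducible π) (c : Fin p → R) (h : π ^ p ∣ ∑ i : Fin p, π ^ (i : ℕ) * c i ^ p) :
    ∀ i, π ∣ c i := by
  have key : ∀ n : ℕ, ∀ i : Fin p, (i : ℕ) = n → π ∣ c i := by
    intro n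
    induction n using Nat.strong_induction_on with
    | _ n ih =>
      intro i hi
      have h1 : π ^ ((i : ℕ) + 1) ∣ ∑ j : Fin p, π ^ (j : ℕ) * c j ^ p := (pow_dvd_pow π i.2).trans h
      rw [← Finset.add_sum_erase _ _ (Finset.mem_univ i)] at h1
      have h2 : π ^ ((i : ℕ) + 1) ∣ ∑ j ∈ Finset.univ.erase i, π ^ (j : ℕ) * c j ^ p := by
        refine Finset.dvd_sum fun j hj => ?_
        have hne : (j : ℕ) ≠ i := fun e => (Finset.ne_of_mem_erase hj) (Fin.ext e)
        rcases lt_or_gt_of_ne hne with hlt | hgt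
        · obtain ⟨d, hd⟩ := ih j (hi ▸ hlt) j rfl
          rw [hd, mul_pow]
          exact Dvd.dvd.mul_left (Dvd.dvd.mul_right (pow_dvd_pow π i.2) _) _
        · exact Dvd.dvd.mul_right (pow_dvd_pow π hgt) _
      have h3 := (dvd_add_left h2).1 h1
      rw [pow_succ, mul_dvd_mul_iff_left (pow_ne_zero _ hπ.ne_zero)] at h3
      exact hπ.prime.dvd_of_dvd_pow h3
  exact fun i => key i i rfl

theorem descend (hπ : Irreducible π) : ∀ (N : ℕ) (x : R) (c : Fin p → R),
    x * π ^ (p * N) = ∑ i : Fin p, π ^ (i : ℕ) * c i ^ p → ∃ d : Fin p → R, (∀ i, c i = π ^ N * d i) ∧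
      x = ∑ i : Fin p, π ^ (i : ℕ) * d i ^ p := by
  intro N
  induction N with
  | zero => intro x c h; exact ⟨c, fun i => by simp, by simpa using h⟩
  | succ N ih =>
    intro x c h
    have hd := dvd_of_pow_dvd hπ c (h ▸ Dvd.dvd.mul_left (pow_dvd_pow π (by nlinarith)) x)
    choose e he using hd
    obtain ⟨d, hde, hx⟩ := ih x e (mul_right_cancel₀ (pow_ne_zero p hπ.ne_zero) (by
      rw [mul_assoc, ← pow_add, ← Nat.mul_succ, h, Finset.sum_mul]
      exact Finset.sum_congr rfl fun i _ => by rw [he i]; ring))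
    exact ⟨d, fun i => by rw [he i, hde i]; ring, hx⟩

theorem eq_zero_of_sum (hπ : Irreducible π) (c : Fin p → R) (h : ∑ i : Fin p, π ^ (i : ℕ) * c i ^ p = 0) :
    ∀ i, c i = 0 := fun i => by
  by_contra hne
  obtain ⟨n, u, hu⟩ := IsDiscreteValuationRing.eq_unit_mul_pow_irreducible hne hπ
  obtain ⟨d, hd, -⟩ := descend hπ (n + 1) 0 c (by rw [zero_mul, h])
  have h1 := hd i
  rw [hu, mul_comm (u : R), pow_succ, mul_assoc] at h1
  exact hπ.not_isUnit (isUnit_of_dvd_unit ⟨d i, mul_left_cancel₀ (pow_ne_zero n hπ.ne_zero) h1⟩ u.isUnit)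

theorem exists_repr (kp : Subfield (FractionRing R)) (hkp : ∀ x : FractionRing R, x ∈ kp ↔ ∃ y : FractionRing R, y ^ p = x)
    (hdeg : Module.finrank kp (FractionRing R) = p) (hπ : Irreducible π) (r : R) :
    ∃ c : Fin p → R, r = ∑ i : Fin p, π ^ (i : ℕ) * c i ^ p := by
  classical
  let K := FractionRing R
  let ι := algebraMap R K
  have hinj : Function.Injective ι := IsFractionRing.injective R K
  -- common denominators
  have hclear : ∀ y : Fin p → K, ∃ (N : ℕ) (c : Fin p → R), ∀ i, y i * ι π ^ N = ι (c i) := by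
    intro y
    obtain ⟨b, hb⟩ := IsLocalization.exist_integer_multiples_of_finite (nonZeroDivisors R) y
    obtain ⟨n, u, hu⟩ := IsDiscreteValuationRing.eq_unit_mul_pow_irreducible (nonZeroDivisors.ne_zero b.2) hπ
    choose a ha using hb
    refine ⟨n, fun i => (↑u⁻¹ : R) * a i, fun i => ?_⟩
    have ha' : ι (a i) = ι (b : R) * y i := (ha i).trans (Algebra.smul_def _ _)
    rw [map_mul, ha', hu, map_mul, map_pow, ← mul_assoc, ← mul_assoc, ← map_mul ι (↑u⁻¹ : R), Units.inv_mul,
      map_one, one_mul, mul_comm]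
  have hli : LinearIndependent kp (fun i : Fin p => ι π ^ (i : ℕ)) := by
    rw [Fintype.linearIndependent_iff]
    intro g hg
    choose y hy using fun i => (hkp (g i)).1 (g i).2
    obtain ⟨N, c, hc⟩ := hclear y
    have h0 : ∑ i : Fin p, π ^ (i : ℕ) * c i ^ p = 0 := hinj (by
      rw [map_zero, map_sum]
      have h1 := congrArg (· * (ι π ^ N) ^ p) hg
      rw [zero_mul, Finset.sum_mul] at h1
      rw [← h1]
      refine Finset.sum_congr rfl fun i _ => ?_
      rw [map_mul, map_pow, map_pow, ← hc i, mul_pow, hy i, Subfield.smul_def, smul_eq_mul]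
      ring)
    intro i
    have h2 := hc i
    rw [eq_zero_of_sum hπ c h0 i, map_zero] at h2
    have h3 : y i = 0 := (mul_eq_zero.1 h2).resolve_right (pow_ne_zero _ ((map_ne_zero_iff _ hinj).2 hπ.ne_zero))
    refine Subtype.ext ?_
    rw [← hy i, h3, zero_pow (Fact.out : p.Prime).ne_zero]
    rfl
  have hp0 : 0 < p := (Fact.out : p.Prime).pos
  haveI : FiniteDimensional kp K := Module.finite_of_finrank_pos (hdeg.symm ▸ hp0)
  haveI : Nonempty (Fin p) := ⟨⟨0, hp0⟩⟩
  let bas := basisOfLinearIndependentOfCardEqFinrank hli (by rw [Fintype.card_fin]; exact hdeg.symm)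
  choose y hy using fun i => (hkp (bas.repr (ι r) i)).1 (bas.repr (ι r) i).2
  obtain ⟨N, c, hc⟩ := hclear y
  have h1 : r * π ^ (p * N) = ∑ i : Fin p, π ^ (i : ℕ) * c i ^ p := hinj (by
    rw [map_mul, map_pow, map_sum]
    conv_lhs => rw [← bas.sum_repr (ι r), Finset.sum_mul]
    refine Finset.sum_congr rfl fun i _ => ?_
    rw [map_mul, map_pow, map_pow, ← hc i, mul_pow, hy i, Subfield.smul_def, smul_eq_mul,
      coe_basisOfLinearIndependentOfCardEqFinrank, mul_comm p N, pow_mul]
    ring)
  obtain ⟨d, -, hd⟩ := descend hπ N r c h1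
  exact ⟨d, hd⟩


/-- Let R be a discrete valuation ring of prime characteristic p whose fraction field k has degree p
over its subfield k^p of p-th powers, and π a uniformizer. Then every element of R is, in a unique
way, a sum of π^i c_i^p over 0 ≤ i < p with c_i in R, and the Kähler differentials of R (absolute,
i.e. over the integers, equivalently over the prime field) form a free module of rank one generated
by dπ. -/
theorem result (p : ℕ) [Fact p.Prime] {R : Type u} [CommRing R]
    [IsDomain R] [IsDiscreteValuationRing R] [CharP R p]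
    (kp : Subfield (FractionRing R)) (hkp : ∀ x : FractionRing R, x ∈ kp ↔ ∃ y : FractionRing R, y ^ p = x)
    (hdeg : Module.finrank kp (FractionRing R) = p)
    (π : R) (hπ : Irreducible π) :
    (∀ r : R, ∃! c : Fin p → R, r = ∑ i : Fin p, π ^ (i : ℕ) * c i ^ p) ∧
      Function.Bijective (fun r : R => r • KaehlerDifferential.D ℤ R π) := by
  classical
  have hp := (Fact.out : p.Prime)
  have hrep := fun r => exists_repr kp hkp hdeg hπ r
  have huniq : ∀ c d : Fin p → R, ∑ i : Fin p, π ^ (i : ℕ) * c i ^ p = ∑ i : Fin p, π ^ (i : ℕ) * d i ^ p → c = d := by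
    intro c d h
    funext i
    refine sub_eq_zero.1 (eq_zero_of_sum hπ (fun i => c i - d i) ?_ i)
    simp only [sub_pow_char, mul_sub, Finset.sum_sub_distrib, h, sub_self]
  refine ⟨fun r => ?_, ?_, ?_⟩
  · obtain ⟨c, hc⟩ := hrep r
    exact ⟨c, hc, fun d hd => huniq d c (hd.symm.trans hc)⟩
  · -- injectivity: the derivation with `π ↦ 1`
    let Ψ : R[X] →+* R := eval₂RingHom (frobenius R p) π
    let M : R[X] := X ^ p - C π
    have hM : M.Monic := monic_X_pow_sub_C π hp.ne_zero
    have hΨM : Ψ M = 0 := by simp [Ψ, M, frobenius_def]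
    have hM' : derivative M = 0 := by simp [M, derivative_X_pow]
    have hker : ∀ f, Ψ f = 0 → Ψ (derivative f) = 0 := by
      intro f hf
      have hf' : Ψ (f %ₘ M) = 0 := by
        have := congrArg Ψ (modByMonic_add_div f M)
        rw [map_add, map_mul, hΨM, zero_mul, add_zero, hf] at this
        exact this
      have hz : f %ₘ M = 0 := by
        have hdeg' : (f %ₘ M).degree < (p : ℕ) := by
          refine (degree_modByMonic_lt f hM).trans_le ?_
          simp [M, degree_X_pow_sub_C hp.pos]
        have h1 : Ψ (f %ₘ M) = ∑ i : Fin p, π ^ (i : ℕ) * (f %ₘ M).coeff i ^ p := by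
          rw [← Finset.sum_range (fun i => π ^ i * (f %ₘ M).coeff i ^ p)]
          simp only [Ψ, coe_eval₂RingHom]
          rw [eval₂_eq_sum, sum_over_range' (f %ₘ M) (fun n => by simp) p ?_]
          · exact Finset.sum_congr rfl fun i _ => by rw [frobenius_def, mul_comm]
          · by_cases hz : f %ₘ M = 0
            · rw [hz, natDegree_zero]; exact hp.pos
            · exact (natDegree_lt_iff_degree_lt hz).2 hdeg'
        rw [h1] at hf'
        refine Polynomial.ext fun n => ?_
        rw [coeff_zero]
        rcases lt_or_ge n p with hn | hn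
        · exact eq_zero_of_sum hπ _ hf' ⟨n, hn⟩
        · exact coeff_eq_zero_of_degree_lt (hdeg'.trans_le (by exact_mod_cast hn))
      rw [← modByMonic_add_div f M, hz, zero_add, derivative_mul, hM', zero_mul, zero_add, map_mul, hΨM,
        zero_mul]
    have hsurj : Function.Surjective Ψ := fun r => by
      obtain ⟨c, hc⟩ := hrep r
      exact ⟨∑ i : Fin p, C (c i) * X ^ (i : ℕ), by
        rw [hc, map_sum]; exact Finset.sum_congr rfl fun i _ => by
          simp [Ψ, frobenius_def]
          ring⟩
    choose sec hsec using hsurj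
    have hwd : ∀ f g, Ψ f = Ψ g → Ψ (derivative f) = Ψ (derivative g) := fun f g h => by
      have := hker (f - g) (by rw [map_sub, h, sub_self])
      rwa [derivative_sub, map_sub, sub_eq_zero] at this
    let D₀ : R → R := fun r => Ψ (derivative (sec r))
    have hadd : ∀ a b, D₀ (a + b) = D₀ a + D₀ b := fun a b => by
      rw [← map_add, ← derivative_add]
      exact hwd _ _ (by rw [map_add, hsec, hsec, hsec])
    let δ : Derivation ℤ R R := Derivation.mk' (AddMonoidHom.mk' D₀ hadd).toIntLinearMap fun a b => by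
      show D₀ (a * b) = a • D₀ b + b • D₀ a
      have : D₀ (a * b) = Ψ (derivative (sec a * sec b)) := hwd _ _ (by rw [map_mul, hsec, hsec, hsec])
      rw [this, derivative_mul, map_add, map_mul, map_mul, hsec, hsec]
      simp only [smul_eq_mul, D₀]
      ring
    have hδ : δ π = 1 := by
      show D₀ π = 1
      refine (hwd (sec π) X (by rw [hsec]; simp [Ψ])).trans ?_
      rw [derivative_X, map_one]
    intro a b hab
    have h := congrArg δ.liftKaehlerDifferential hab
    simp only [map_smul, Derivation.liftKaehlerDifferential_comp_D, hδ, smul_eq_mul, mul_one] at h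
    exact h
  · intro w
    have hmem : w ∈ Submodule.span R {KaehlerDifferential.D ℤ R π} := by
      have htop : Submodule.span R (Set.range (KaehlerDifferential.D ℤ R)) ≤
          Submodule.span R {KaehlerDifferential.D ℤ R π} := by
        rw [Submodule.span_le]
        rintro _ ⟨r, rfl⟩
        obtain ⟨c, hc⟩ := hrep r
        rw [hc, map_sum]
        refine Submodule.sum_mem _ fun i _ => ?_
        rw [Derivation.leibniz, Derivation.leibniz_pow, Derivation.leibniz_pow, ← Nat.cast_smul_eq_nsmul R p,
          CharP.cast_eq_zero, zero_smul, smul_zero, zero_add]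
        exact Submodule.smul_mem _ _ (Submodule.smul_of_tower_mem _ _ (Submodule.smul_mem _ _
          (Submodule.mem_span_singleton_self _)))
      rw [KaehlerDifferential.span_range_derivation] at htop
      exact htop trivial
    obtain ⟨r, hr⟩ := Submodule.mem_span_singleton.1 hmem
    exact ⟨r, hr⟩

end Groth.Agent.S13368
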