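import Groth.Statements.S13369
import Groth.Agent.EGA41Lib.PBasisKaehler
import Mathlib.Algebra.CharP.Algebra
import Mathlib.RingTheory.IntegralClosure.IntegrallyClosed

set_option autoImplicit false
universe u
open GaDual

namespace Groth.Agent.S13369

/-- For a normal Noetherian domain A of prime characteristic p, an element whose differential vanishes
in the absolute Kähler differentials of A is a p-th power; that is, the sequence F : A → A, d : A →
Ω_A (F the Frobenius) is exact at the middle term. (The published statement is for normal locally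
Noetherian schemes of characteristic p; this row is the case of the spectrum of a normal Noetherian
domain.) -/
theorem result (p : ℕ) [Fact p.Prime] {A : Type u} [CommRing A] [IsDomain A]
    [IsNoetherianRing A] [IsIntegrallyClosed A] [CharP A p] (s : A) (hs : KaehlerDifferential.D ℤ A s = 0) :
    ∃ f : A, f ^ p = s := by
  let K := FractionRing A
  haveI : CharP K p := charP_of_injective_algebraMap (IsFractionRing.injective A K) p
  have hK : KaehlerDifferential.D ℤ K (algebraMap A K s) = 0 := by
    have h := KaehlerDifferential.map_D ℤ ℤ A K s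
    rw [hs, map_zero] at h
    exact h.symm
  rw [Groth.Agent.EGA41Lib.PB.D_eq_zero_iff_mem p ℤ] at hK
  have hsub : ∀ y ∈ Algebra.adjoin ℤ (Set.range fun y : K => y ^ p), ∃ z : K, z ^ p = y := by
    intro y hy
    induction hy using Algebra.adjoin_induction with
    | mem y hy => exact hy
    | algebraMap r => exact ⟨(r : K), (map_intCast (frobenius K p) r).trans (eq_intCast (algebraMap ℤ K) r).symm⟩
    | add a b _ _ ha hb =>
      obtain ⟨za, rfl⟩ := ha
      obtain ⟨zb, rfl⟩ := hb
      exact ⟨za + zb, add_pow_char za zb p⟩
    | mul a b _ _ ha hb =>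
      obtain ⟨za, rfl⟩ := ha
      obtain ⟨zb, rfl⟩ := hb
      exact ⟨za * zb, mul_pow za zb p⟩
  obtain ⟨z, hz⟩ := hsub _ hK
  obtain ⟨f, hf⟩ := IsIntegrallyClosed.exists_algebraMap_eq_of_isIntegral_pow (Fact.out : p.Prime).pos
    (show IsIntegral A (z ^ p) by rw [hz]; exact isIntegral_algebraMap)
  exact ⟨f, IsFractionRing.injective A K (by rw [map_pow, hf, hz])⟩

end Groth.Agent.S13369
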