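import Groth.Statements.S13371
import Groth.Agent.GaGmQuot.AffineUnits
import Groth.Agent.SGA3cLib.DiagPoints
-- import your own Groth.Agent.* helpers here

set_option autoImplicit false
universe u
open GaDual

namespace Groth.Agent.S13371

open CategoryTheory AlgebraicGeometry MonObj CartesianMonoidalCategory Groth.Agent.SGA3cLib Groth.Agent.GaGmQuot in
/-- If S is a reduced scheme, every homomorphism of S-group schemes from the additive group to the
multiplicative group over S is the trivial homomorphism. -/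
theorem result (S : Scheme.{u}) [IsReduced S] (φ : Red.Ga S ⟶ Red.Gm S)
    [IsMonHom φ] : φ = 1 := by
  let A : Over S := Over.mk (𝔸(PUnit.{u + 1}; S) ↘ S)
  obtain ⟨x, hx⟩ := exists_gaFn (X := A) (AffineSpace.coord S PUnit.unit)
  have hu : IsUnit (Red.gmFn (x ≫ φ)) := isUnit_gmFn _
  have h1 := eq_of_isUnit S _ hu
  let s₀ : Over.mk (𝟙 S) ⟶ A := Over.homMk (zeroSection _ S) (zeroSection_over S)
  have h2 : s₀ ≫ x = 1 := gaFn_injective (by
    rw [gaFn_comp, hx, gaFn_one]
    exact AffineSpace.homOfVector_appTop_coord _ _ _)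
  have h3 : (zeroSection _ S).appTop (Red.gmFn (x ≫ φ)) = 1 := by
    refine (gmFn_comp s₀ (x ≫ φ)).symm.trans ?_
    rw [← Category.assoc, h2]
    exact (congrArg Red.gmFn (MonObj.one_comp φ)).trans gmFn_one
  rw [h3, map_one] at h1
  refine gmFn_injective ?_
  rw [gmFn_one]
  let y : Red.Ga S ⟶ A := Over.homMk (AffineSpace.homOfVector (Red.Ga S).hom fun _ => Red.gaFn (𝟙 (Red.Ga S)))
    (AffineSpace.homOfVector_over _ _)
  have hy : y ≫ x = 𝟙 _ := gaFn_injective (by
    rw [gaFn_comp, hx]
    exact AffineSpace.homOfVector_appTop_coord _ _ _)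
  rw [← Category.id_comp φ, ← hy, Category.assoc, gmFn_comp]
  exact (congrArg _ h1.symm).trans (map_one _)

end Groth.Agent.S13371
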