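import Groth.Statements.S13373
import Groth.Agent.GaLib.Chars

set_option autoImplicit false
universe u
open GaDual

namespace Groth.Agent.S13373

/-- Over a commutative algebra A of prime characteristic p, the formal characters (power series χ with
constant term 1 and χ(X+Y) = χ(X)χ(Y)) are exactly the infinite products ∏_n exp_p(a_n X^(p^n)) with
a_n^p = 0, where exp_p(Y) = Σ_{j<p} Y^j/j!; the infinite product is expressed through its
truncations: χ mod X^(p^m) equals the finite product over n < m. -/
theorem result (p : ℕ) [Fact p.Prime] (A : Type u) [CommRing A] [CharP A p]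
    (χ : PowerSeries A) :
    (PowerSeries.constantCoeff χ = 1 ∧
      PowerSeries.subst (MvPowerSeries.X 0 + MvPowerSeries.X 1 : MvPowerSeries (Fin 2) A) χ =
        PowerSeries.subst (MvPowerSeries.X 0 : MvPowerSeries (Fin 2) A) χ *
          PowerSeries.subst (MvPowerSeries.X 1 : MvPowerSeries (Fin 2) A) χ) ↔
      ∃ a : ℕ → A, (∀ n, a n ^ p = 0) ∧ ∀ m : ℕ,
        PowerSeries.trunc (p ^ m) χ = ∏ n ∈ Finset.range m, ∑ j ∈ Finset.range p,
          Polynomial.C (Ring.inverse (j.factorial : A) * a n ^ j) * Polynomial.X ^ (j * p ^ n) := by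
  open Groth.Agent.GaLib in
  have h1lt : 1 < p := (Fact.out : p.Prime).one_lt
  constructor
  · rintro ⟨h0, hmul⟩
    have hc : ∀ m, CharBelow (p ^ m) (fun i => PowerSeries.coeff i χ) := fun m =>
      ⟨by simpa using h0, fun i j _ _ => (subst_add_eq_mul_iff χ).1 hmul i j⟩
    refine ⟨fun k => PowerSeries.coeff (p ^ k) χ, fun k => ((hc (k + 1)).exists_prod p).1 k (Nat.lt_succ_self k), fun m => ?_⟩
    show _ = charProd p _ m
    ext i
    rw [PowerSeries.coeff_trunc]
    split_ifs with hi
    · exact (((hc m).exists_prod p).2 i hi).symm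
    · rw [coeff_charProd_eq_zero p _ m (not_lt.1 hi)]
  · rintro ⟨a, ha, htr⟩
    have hc : ∀ m i, i < p ^ m → PowerSeries.coeff i χ = (charProd p a m).coeff i := fun m i hi => by
      rw [show charProd p a m = PowerSeries.trunc (p ^ m) χ from (htr m).symm, PowerSeries.coeff_trunc, if_pos hi]
    refine ⟨?_, (subst_add_eq_mul_iff χ).2 fun i j => ?_⟩
    · rw [← PowerSeries.coeff_zero_eq_constantCoeff_apply, hc 0 0 (by simp)]
      simp [charProd]
    · have hlt : i + j < p ^ (i + j + 1) := lt_trans (Nat.lt_succ_self _) (Nat.lt_pow_self h1lt)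
      rw [hc _ _ hlt, hc (i + j + 1) i (by omega), hc (i + j + 1) j (by omega)]
      exact (aeval_add_eq_mul_iff _).1 (charProd_isChar p a ha _).2 i j

end Groth.Agent.S13373
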