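import Groth.Statements.S13374
import Groth.Agent.GaLib.Chars
import Mathlib.RingTheory.MvPolynomial.Ideal

set_option autoImplicit false
universe u
open GaDual

namespace Groth.Agent.S13374

/-- Over a commutative algebra A of prime characteristic p, every character of the kernel α_(p^n) of the
n-th Frobenius of the additive group — i.e. every polynomial f of degree < p^n with f(0) = 1 and
f(X+Y) ≡ f(X)f(Y) modulo (X^(p^n), Y^(p^n)) — is the product ∏_{i<n} exp_p(a_i X^(p^i)) for some a_i
with a_i^p = 0, exp_p(Y) = Σ_{j<p} Y^j/j!. -/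
theorem result (p : ℕ) [Fact p.Prime] (A : Type u) [CommRing A] [CharP A p]
    (n : ℕ) (f : Polynomial A) (hdeg : f.natDegree < p ^ n) (h0 : f.eval 0 = 1)
    (hmul : Ideal.Quotient.mk
        (Ideal.span {(MvPolynomial.X 0 ^ p ^ n : MvPolynomial (Fin 2) A), MvPolynomial.X 1 ^ p ^ n})
        (Polynomial.aeval (MvPolynomial.X 0 + MvPolynomial.X 1 : MvPolynomial (Fin 2) A) f) =
      Ideal.Quotient.mk
        (Ideal.span {(MvPolynomial.X 0 ^ p ^ n : MvPolynomial (Fin 2) A), MvPolynomial.X 1 ^ p ^ n})
        (Polynomial.aeval (MvPolynomial.X 0 : MvPolynomial (Fin 2) A) f *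
          Polynomial.aeval (MvPolynomial.X 1 : MvPolynomial (Fin 2) A) f)) :
    ∃ a : ℕ → A, (∀ i, a i ^ p = 0) ∧
      f = ∏ i ∈ Finset.range n, ∑ j ∈ Finset.range p,
          Polynomial.C (Ring.inverse (j.factorial : A) * a i ^ j) * Polynomial.X ^ (j * p ^ i) := by
  open Groth.Agent.GaLib in
  have hc : CharBelow (p ^ n) f.coeff := by
    refine ⟨by rw [Polynomial.coeff_zero_eq_eval_zero]; exact h0, fun i j hi hj => ?_⟩
    rw [Ideal.Quotient.eq] at hmul
    rw [← sub_eq_zero, ← coeff_aeval_add, ← coeff_aeval_mul_aeval, ← MvPolynomial.coeff_sub]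
    have hset : ({(MvPolynomial.X 0 ^ p ^ n : MvPolynomial (Fin 2) A), MvPolynomial.X 1 ^ p ^ n} : Set (MvPolynomial (Fin 2) A)) =
        (fun s => MvPolynomial.monomial s (1 : A)) '' {Finsupp.single 0 (p ^ n), Finsupp.single 1 (p ^ n)} := by
      simp [Set.image_pair, MvPolynomial.X_pow_eq_monomial]
    rw [hset, MvPolynomial.mem_ideal_span_monomial_image] at hmul
    by_contra hne
    obtain ⟨s, hs, hle⟩ := hmul _ (MvPolynomial.mem_support_iff.2 hne)
    rcases hs with rfl | rfl
    · have := hle 0; simp at this; omega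
    · have := hle 1; simp at this; omega
  obtain ⟨h1, h2⟩ := hc.exists_prod p
  refine ⟨fun k => if k < n then f.coeff (p ^ k) else 0, fun k => ?_, ?_⟩
  · dsimp only
    split_ifs with h
    · exact h1 k h
    · exact zero_pow (Fact.out : p.Prime).ne_zero
  · show f = charProd p (fun k => if k < n then f.coeff (p ^ k) else 0) n
    have e : charProd p (fun k => if k < n then f.coeff (p ^ k) else 0) n = charProd p (fun k => f.coeff (p ^ k)) n :=
      Finset.prod_congr rfl fun k hk => by simp [Finset.mem_range.1 hk]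
    rw [e]
    ext i
    by_cases hi : i < p ^ n
    · exact (h2 i hi).symm
    · rw [coeff_charProd_eq_zero p _ n (not_lt.1 hi), Polynomial.coeff_eq_zero_of_natDegree_lt (lt_of_lt_of_le hdeg (not_lt.1 hi))]

end Groth.Agent.S13374
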