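import Groth.Statements.S13375
import Mathlib.CategoryTheory.Abelian.Refinements
import Mathlib.CategoryTheory.Abelian.Injective.Basic
import Mathlib.Algebra.Homology.ShortComplex.HomologicalComplex

set_option autoImplicit false
set_option linter.style.haveILetI false
universe u v
open CechDer

namespace Groth.Agent.S13375aux

open CategoryTheory CategoryTheory.Limits

variable {V : Type u} [Category.{v} V] [Abelian V]

/-- A map out of `A ⊞ B` killing the relations of `(a, b)` extends along `(a, b)`. -/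
lemma ext_pair {A B X I : V} [Injective I] (a : A ⟶ X) (b : B ⟶ X) (α : A ⟶ I) (β : B ⟶ I)
    (h : ∀ (T : V) (x : T ⟶ A) (y : T ⟶ B), x ≫ a + y ≫ b = 0 → x ≫ α + y ≫ β = 0) :
    ∃ φ : X ⟶ I, a ≫ φ = α ∧ b ≫ φ = β := by
  let d := biprod.desc a b
  let c := biprod.desc α β
  have hk : kernel.ι d ≫ c = 0 := by
    have h0 : (kernel.ι d ≫ biprod.fst) ≫ a + (kernel.ι d ≫ biprod.snd) ≫ b = 0 := by
      rw [Category.assoc, Category.assoc, ← Preadditive.comp_add, ← biprod.desc_eq]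
      exact kernel.condition d
    change kernel.ι d ≫ biprod.desc α β = 0
    rw [biprod.desc_eq, Preadditive.comp_add, ← Category.assoc, ← Category.assoc]
    exact h _ _ _ h0
  let l : Abelian.coimage d ⟶ I := cokernel.desc _ c hk
  let φ := Injective.factorThru l (Abelian.factorThruCoimage d)
  have hφ : d ≫ φ = c := by
    have h1 : Abelian.factorThruCoimage d ≫ φ = l := Injective.comp_factorThru _ _
    rw [← Abelian.coimage.fac d, Category.assoc, h1]
    exact cokernel.π_desc _ _ _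
  exact ⟨φ, by simpa [d, c] using congrArg (fun m => biprod.inl ≫ m) hφ,
    by simpa [d, c] using congrArg (fun m => biprod.inr ≫ m) hφ⟩

lemma ref {K : CochainComplex V ℕ} {n : ℕ} (hK : K.ExactAt (n + 1)) {A : V} (x : A ⟶ K.X (n + 1))
    (hx : x ≫ K.d (n + 1) (n + 2) = 0) :
    ∃ (A' : V) (π : A' ⟶ A) (_ : Epi π) (z : A' ⟶ K.X n), π ≫ x = z ≫ K.d n (n + 1) :=
  ((K.exactAt_iff' n (n + 1) (n + 2) (by simp) (by simp)).1 hK).exact_up_to_refinements x hx

variable (C' C C'' I' I I'' : CochainComplex V ℕ)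
  (jC : C' ⟶ C) (πC : C ⟶ C'') (jI : I' ⟶ I) (πI : I ⟶ I'')

/-- The maps in one degree. -/
@[ext]
structure St (n : ℕ) where
  a : C'.X n ⟶ I'.X n
  b : C.X n ⟶ I.X n
  c : C''.X n ⟶ I''.X n
  sq₁ : jC.f n ≫ b = a ≫ jI.f n
  sq₂ : πC.f n ≫ c = b ≫ πI.f n
  ca : ∀ (T : V) (x : T ⟶ C'.X n), x ≫ C'.d n (n + 1) = 0 → x ≫ a ≫ I'.d n (n + 1) = 0
  cb : ∀ (T : V) (x : T ⟶ C.X n), x ≫ C.d n (n + 1) = 0 → x ≫ b ≫ I.d n (n + 1) = 0
  cc : ∀ (T : V) (x : T ⟶ C''.X n), x ≫ C''.d n (n + 1) = 0 → x ≫ c ≫ I''.d n (n + 1) = 0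

variable {C' C C'' I' I I'' jC πC jI πI}

lemma cyc_succ {K L : CochainComplex V ℕ} {n : ℕ} (hK : K.ExactAt (n + 1)) (φ₀ : K.X n ⟶ L.X n)
    (φ : K.X (n + 1) ⟶ L.X (n + 1)) (h : K.d n (n + 1) ≫ φ = φ₀ ≫ L.d n (n + 1)) (T : V)
    (x : T ⟶ K.X (n + 1)) (hx : x ≫ K.d (n + 1) (n + 2) = 0) : x ≫ φ ≫ L.d (n + 1) (n + 2) = 0 := by
  obtain ⟨A, π, hπ, z, hz⟩ := ref hK x hx
  rw [← cancel_epi π, comp_zero, reassoc_of% hz, reassoc_of% h]
  simp

variable (mC : ∀ n, Mono (jC.f n)) (wC : ∀ n, jC.f n ≫ πC.f n = 0)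
  (exC : ∀ n, (ShortComplex.mk (jC.f n) (πC.f n) (wC n)).Exact)
  (wI : ∀ n, jI.f n ≫ πI.f n = 0)
  (hC' : ∀ n, 0 < n → C'.ExactAt n) (hC : ∀ n, 0 < n → C.ExactAt n) (hC'' : ∀ n, 0 < n → C''.ExactAt n)
  (injI' : ∀ n, Injective (I'.X n)) (injI : ∀ n, Injective (I.X n)) (injI'' : ∀ n, Injective (I''.X n))

include mC wC exC wI hC' hC hC'' injI' injI injI'' in
lemma exists_next {n : ℕ} (s : St C' C C'' I' I I'' jC πC jI πI n) :
    ∃ t : St C' C C'' I' I I'' jC πC jI πI (n + 1),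
      C'.d n (n + 1) ≫ t.a = s.a ≫ I'.d n (n + 1) ∧ C.d n (n + 1) ≫ t.b = s.b ≫ I.d n (n + 1) ∧
        C''.d n (n + 1) ≫ t.c = s.c ≫ I''.d n (n + 1) := by
  haveI := injI' (n + 1)
  haveI := injI (n + 1)
  haveI := injI'' (n + 1)
  haveI := mC
  obtain ⟨a, -, ha⟩ := ext_pair (0 : C'.X (n + 1) ⟶ C'.X (n + 1)) (C'.d n (n + 1)) (0 : C'.X (n + 1) ⟶ I'.X (n + 1))
    (s.a ≫ I'.d n (n + 1)) (fun T x y h => by
      simp only [comp_zero, zero_add] at h ⊢
      exact s.ca T y h)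
  obtain ⟨b, hb₁, hb₂⟩ := ext_pair (jC.f (n + 1)) (C.d n (n + 1)) (a ≫ jI.f (n + 1))
    (s.b ≫ I.d n (n + 1)) (fun T x y h => by
      have hx : x ≫ C'.d (n + 1) (n + 2) = 0 := by
        rw [← cancel_mono (jC.f (n + 2))]
        have h' := congrArg (fun m => m ≫ C.d (n + 1) (n + 2)) h
        simpa using h'
      obtain ⟨A, π, hπ, w, hw⟩ := ref (hC' (n + 1) n.succ_pos) x hx
      have hc : (w ≫ jC.f n + π ≫ y) ≫ C.d n (n + 1) = 0 := by
        have h' := congrArg (fun m => π ≫ m) h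
        simp only [Preadditive.comp_add, comp_zero, reassoc_of% hw] at h'
        simpa [Preadditive.add_comp] using h'
      have h' := s.cb _ _ hc
      rw [Preadditive.add_comp, Category.assoc, Category.assoc, reassoc_of% s.sq₁] at h'
      rw [← cancel_epi π, comp_zero, Preadditive.comp_add, reassoc_of% hw, reassoc_of% ha,
        ← jI.comm n (n + 1)]
      exact h')
  obtain ⟨c, hc₁, hc₂⟩ := ext_pair (πC.f (n + 1)) (C''.d n (n + 1)) (b ≫ πI.f (n + 1))
    (s.c ≫ I''.d n (n + 1)) (fun T x y h => by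
      have hxd : (x ≫ C.d (n + 1) (n + 2)) ≫ πC.f (n + 2) = 0 := by
        have h' := congrArg (fun m => m ≫ C''.d (n + 1) (n + 2)) h
        simpa using h'
      let w : T ⟶ C'.X (n + 2) := (exC (n + 2)).lift _ hxd
      have hw : w ≫ jC.f (n + 2) = x ≫ C.d (n + 1) (n + 2) := (exC (n + 2)).lift_f _ hxd
      have hwd : w ≫ C'.d (n + 2) (n + 3) = 0 := by
        rw [← cancel_mono (jC.f (n + 3)), Category.assoc, ← jC.comm, reassoc_of% hw]
        simp
      obtain ⟨A, π, hπ, u, hu⟩ := ref (hC' (n + 2) (Nat.succ_pos _)) w hwd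
      obtain ⟨B, ρ, hρ, z, hz⟩ := ref (hC (n + 1) n.succ_pos) (π ≫ x - u ≫ jC.f (n + 1)) (by
        rw [Preadditive.sub_comp, Category.assoc, Category.assoc, ← hw, reassoc_of% hu, jC.comm, sub_self])
      have hz' : ρ ≫ π ≫ x = z ≫ C.d n (n + 1) + ρ ≫ u ≫ jC.f (n + 1) := by
        rw [← hz, Preadditive.comp_sub, sub_add_cancel]
      have hcyc : (z ≫ πC.f n + ρ ≫ π ≫ y) ≫ C''.d n (n + 1) = 0 := by
        have h' := congrArg (fun m => ρ ≫ π ≫ m) h
        simp only [Preadditive.comp_add, comp_zero, reassoc_of% hz', Preadditive.add_comp,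
          Category.assoc, wC, comp_zero, add_zero] at h'
        simpa [Preadditive.add_comp] using h'
      have h' := s.cc _ _ hcyc
      rw [Preadditive.add_comp, Category.assoc, Category.assoc, Category.assoc, reassoc_of% s.sq₂,
        πI.comm, ← reassoc_of% hb₂] at h'
      rw [← cancel_epi π, ← cancel_epi ρ]
      simp only [comp_zero, Preadditive.comp_add, reassoc_of% hz', Preadditive.add_comp, Category.assoc,
        reassoc_of% hb₁, wI, add_zero]
      exact h')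
  exact ⟨⟨a, b, c, hb₁, hc₁, cyc_succ (hC' _ n.succ_pos) s.a a ha, cyc_succ (hC _ n.succ_pos) s.b b hb₂,
    cyc_succ (hC'' _ n.succ_pos) s.c c hc₂⟩, ha, hb₂, hc₂⟩

/-- The map on degree zero cycles attached to a map on homology. -/
noncomputable def onCycles {K L : CochainComplex V ℕ} (g : K.homology 0 ⟶ L.homology 0) :
    K.cycles 0 ⟶ L.cycles 0 :=
  K.isoHomologyπ₀.hom ≫ g ≫ L.isoHomologyπ₀.inv

lemma onCycles_comm {K L M N : CochainComplex V ℕ} (φ : K ⟶ M) (ψ : L ⟶ N)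
    (g : K.homology 0 ⟶ L.homology 0) (g' : M.homology 0 ⟶ N.homology 0)
    (h : HomologicalComplex.homologyMap φ 0 ≫ g' = g ≫ HomologicalComplex.homologyMap ψ 0) :
    HomologicalComplex.cyclesMap φ 0 ≫ onCycles g' ≫ N.iCycles 0 =
      onCycles g ≫ L.iCycles 0 ≫ ψ.f 0 := by
  have h1 : HomologicalComplex.cyclesMap φ 0 ≫ onCycles g' = onCycles g ≫ HomologicalComplex.cyclesMap ψ 0 := by
    simp only [onCycles, Category.assoc]
    rw [← CochainComplex.isoHomologyπ₀_inv_naturality ψ, ← reassoc_of% h]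
    exact (HomologicalComplex.homologyπ_naturality_assoc φ 0 _).symm
  rw [reassoc_of% h1, HomologicalComplex.cyclesMap_i]

lemma cyc_zero {K L : CochainComplex V ℕ} (g : K.homology 0 ⟶ L.homology 0) (φ : K.X 0 ⟶ L.X 0)
    (h : K.iCycles 0 ≫ φ = onCycles g ≫ L.iCycles 0) (T : V) (x : T ⟶ K.X 0) (hx : x ≫ K.d 0 1 = 0) :
    x ≫ φ ≫ L.d 0 1 = 0 := by
  rw [← K.liftCycles_i x 1 (by simp) hx, Category.assoc, reassoc_of% h]
  simp

include mC wC exC wI hC' injI' injI injI'' in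
lemma exists_zero (g' : C'.homology 0 ⟶ I'.homology 0) (g : C.homology 0 ⟶ I.homology 0)
    (g'' : C''.homology 0 ⟶ I''.homology 0)
    (hg1 : HomologicalComplex.homologyMap jC 0 ≫ g = g' ≫ HomologicalComplex.homologyMap jI 0)
    (hg2 : HomologicalComplex.homologyMap πC 0 ≫ g'' = g ≫ HomologicalComplex.homologyMap πI 0) :
    ∃ s : St C' C C'' I' I I'' jC πC jI πI 0,
      C'.iCycles 0 ≫ s.a = onCycles g' ≫ I'.iCycles 0 ∧ C.iCycles 0 ≫ s.b = onCycles g ≫ I.iCycles 0 ∧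
        C''.iCycles 0 ≫ s.c = onCycles g'' ≫ I''.iCycles 0 := by
  haveI := injI' 0
  haveI := injI 0
  haveI := injI'' 0
  haveI := mC
  let a := Injective.factorThru (onCycles g' ≫ I'.iCycles 0) (C'.iCycles 0)
  have ha : C'.iCycles 0 ≫ a = onCycles g' ≫ I'.iCycles 0 := Injective.comp_factorThru _ _
  obtain ⟨b, hb₁, hb₂⟩ := ext_pair (jC.f 0) (C.iCycles 0) (a ≫ jI.f 0) (onCycles g ≫ I.iCycles 0)
    (fun T x y h => by
      have hx : x ≫ C'.d 0 1 = 0 := by
        rw [← cancel_mono (jC.f 1)]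
        have h' := congrArg (fun m => m ≫ C.d 0 1) h
        simpa using h'
      obtain ⟨w, rfl⟩ : ∃ w, w ≫ C'.iCycles 0 = x :=
        ⟨C'.liftCycles x 1 (by simp) hx, HomologicalComplex.liftCycles_i _ _ _ _ _⟩
      have hy : w ≫ HomologicalComplex.cyclesMap jC 0 + y = 0 := by
        rw [← cancel_mono (C.iCycles 0)]
        simpa [Preadditive.add_comp] using h
      rw [Category.assoc, reassoc_of% ha, ← onCycles_comm jC jI g' g hg1, ← Category.assoc,
        ← Preadditive.add_comp, hy, zero_comp])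
  obtain ⟨c, hc₁, hc₂⟩ := ext_pair (πC.f 0) (C''.iCycles 0) (b ≫ πI.f 0) (onCycles g'' ≫ I''.iCycles 0)
    (fun T x y h => by
      have hxd : (x ≫ C.d 0 1) ≫ πC.f 1 = 0 := by
        have h' := congrArg (fun m => m ≫ C''.d 0 1) h
        simpa using h'
      let w : T ⟶ C'.X 1 := (exC 1).lift _ hxd
      have hw : w ≫ jC.f 1 = x ≫ C.d 0 1 := (exC 1).lift_f _ hxd
      have hwd : w ≫ C'.d 1 2 = 0 := by
        rw [← cancel_mono (jC.f 2), Category.assoc, ← jC.comm, reassoc_of% hw]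
        simp
      obtain ⟨A, π, hπ, u, hu⟩ := ref (hC' 1 Nat.one_pos) w hwd
      obtain ⟨z, hz⟩ : ∃ z, z ≫ C.iCycles 0 = π ≫ x - u ≫ jC.f 0 :=
        ⟨C.liftCycles (π ≫ x - u ≫ jC.f 0) 1 (by simp) (by
          rw [Preadditive.sub_comp, Category.assoc, Category.assoc, ← hw, reassoc_of% hu, jC.comm, sub_self]),
          HomologicalComplex.liftCycles_i _ _ _ _ _⟩
      have hz' : π ≫ x = z ≫ C.iCycles 0 + u ≫ jC.f 0 := by rw [hz, sub_add_cancel]
      have hy : z ≫ HomologicalComplex.cyclesMap πC 0 + π ≫ y = 0 := by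
        rw [← cancel_mono (C''.iCycles 0)]
        have h' := congrArg (fun m => π ≫ m) h
        simp only [Preadditive.comp_add, comp_zero, reassoc_of% hz', Preadditive.add_comp,
          Category.assoc, wC, comp_zero, add_zero] at h'
        simpa [Preadditive.add_comp] using h'
      rw [← cancel_epi π]
      simp only [comp_zero, Preadditive.comp_add, reassoc_of% hz', Preadditive.add_comp, Category.assoc,
        reassoc_of% hb₁, wI, add_zero, reassoc_of% hb₂]
      rw [← onCycles_comm πC πI g g'' hg2, ← Category.assoc, ← Category.assoc π, ← Preadditive.add_comp,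
        hy, zero_comp])
  exact ⟨⟨a, b, c, hb₁, hc₁, cyc_zero g' a ha, cyc_zero g b hb₂, cyc_zero g'' c hc₂⟩, ha, hb₂, hc₂⟩

lemma homologyMap_eq {K L : CochainComplex V ℕ} (φ : K ⟶ L) (g : K.homology 0 ⟶ L.homology 0)
    (h : K.iCycles 0 ≫ φ.f 0 = onCycles g ≫ L.iCycles 0) : HomologicalComplex.homologyMap φ 0 = g := by
  have h1 : HomologicalComplex.cyclesMap φ 0 = onCycles g := by
    rw [← cancel_mono (L.iCycles 0), HomologicalComplex.cyclesMap_i, h]
  rw [← cancel_epi (K.homologyπ 0), HomologicalComplex.homologyπ_naturality, h1]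
  simp [onCycles]

end Groth.Agent.S13375aux

namespace Groth.Agent.S13375

open CategoryTheory CategoryTheory.Limits in
/-- In an abelian category, given two degreewise left exact sequences of nonnegatively graded cochain
complexes 0 → C' → C → C'' and 0 → I' → I → I'', each complex exact in positive degrees and the I's
termwise injective, every commutative ladder of maps g', g, g'' between their degree-zero
cohomologies is induced by chain maps f' : C' → I', f : C → I, f'' : C'' → I'' commuting with the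
given maps of complexes. -/
theorem result {V : Type u} [Category.{v} V]
    [Abelian V] (C' C C'' I' I I'' : CochainComplex V ℕ)
    (jC : C' ⟶ C) (πC : C ⟶ C'') (jI : I' ⟶ I) (πI : I ⟶ I'')
    (mC : ∀ n, Mono (jC.f n)) (wC : ∀ n, jC.f n ≫ πC.f n = 0)
    (exC : ∀ n, (ShortComplex.mk (jC.f n) (πC.f n) (wC n)).Exact)
    (mI : ∀ n, Mono (jI.f n)) (wI : ∀ n, jI.f n ≫ πI.f n = 0)
    (exI : ∀ n, (ShortComplex.mk (jI.f n) (πI.f n) (wI n)).Exact)
    (hC' : ∀ n, 0 < n → C'.ExactAt n) (hC : ∀ n, 0 < n → C.ExactAt n) (hC'' : ∀ n, 0 < n → C''.ExactAt n)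
    (hI' : ∀ n, 0 < n → I'.ExactAt n) (hI : ∀ n, 0 < n → I.ExactAt n) (hI'' : ∀ n, 0 < n → I''.ExactAt n)
    (injI' : ∀ n, Injective (I'.X n)) (injI : ∀ n, Injective (I.X n)) (injI'' : ∀ n, Injective (I''.X n))
    (g' : C'.homology 0 ⟶ I'.homology 0) (g : C.homology 0 ⟶ I.homology 0)
    (g'' : C''.homology 0 ⟶ I''.homology 0)
    (hg1 : HomologicalComplex.homologyMap jC 0 ≫ g = g' ≫ HomologicalComplex.homologyMap jI 0)
    (hg2 : HomologicalComplex.homologyMap πC 0 ≫ g'' = g ≫ HomologicalComplex.homologyMap πI 0) :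
    ∃ (f' : C' ⟶ I') (f : C ⟶ I) (f'' : C'' ⟶ I''),
      jC ≫ f = f' ≫ jI ∧ πC ≫ f'' = f ≫ πI ∧
      HomologicalComplex.homologyMap f' 0 = g' ∧ HomologicalComplex.homologyMap f 0 = g ∧
      HomologicalComplex.homologyMap f'' 0 = g'' := by
  obtain ⟨s₀, h₀, h₁, h₂⟩ := Groth.Agent.S13375aux.exists_zero mC wC exC wI hC' injI' injI injI'' g' g g'' hg1 hg2
  choose nx hnx using fun n (s : Groth.Agent.S13375aux.St C' C C'' I' I I'' jC πC jI πI n) =>
    Groth.Agent.S13375aux.exists_next mC wC exC wI hC' hC hC'' injI' injI injI'' s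
  let s : ∀ n, Groth.Agent.S13375aux.St C' C C'' I' I I'' jC πC jI πI n := fun n =>
    Nat.rec (motive := fun n => Groth.Agent.S13375aux.St C' C C'' I' I I'' jC πC jI πI n) s₀ nx n
  let f' : C' ⟶ I' :=
    { f := fun n => (s n).a
      comm' := fun i k hik => by subst hik; exact (hnx i (s i)).1.symm }
  let f : C ⟶ I :=
    { f := fun n => (s n).b
      comm' := fun i k hik => by subst hik; exact (hnx i (s i)).2.1.symm }
  let f'' : C'' ⟶ I'' :=
    { f := fun n => (s n).c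
      comm' := fun i k hik => by subst hik; exact (hnx i (s i)).2.2.symm }
  exact ⟨f', f, f'', HomologicalComplex.hom_ext _ _ fun n => (s n).sq₁,
    HomologicalComplex.hom_ext _ _ fun n => (s n).sq₂, Groth.Agent.S13375aux.homologyMap_eq f' g' h₀,
    Groth.Agent.S13375aux.homologyMap_eq f g h₁, Groth.Agent.S13375aux.homologyMap_eq f'' g'' h₂⟩

end Groth.Agent.S13375
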