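import Groth.Statements.S13376
import Groth.Agent.Desc19b.SmoothFppf.PtsPull
import Mathlib.RingTheory.PiTensorProduct

set_option autoImplicit false
universe u
open GaDual

set_option backward.isDefEq.respectTransparency.types false
set_option backward.isDefEq.respectTransparency false

namespace Groth.Agent.S13376

theorem isIntegral_tensorPower (k : Type u) [Field k] (n : ℕ)
    (x : PiTensorProduct k (fun _ : Fin n => AlgebraicClosure k)) : IsIntegral k x := by
  induction x using PiTensorProduct.induction_on with
  | smul_tprod c f =>
    refine IsIntegral.smul c ?_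
    have h : PiTensorProduct.tprod k f =
        ∏ i, PiTensorProduct.singleAlgHom (R := k) (A := fun _ : Fin n => AlgebraicClosure k) i (f i) := by
      show _ = ∏ i, PiTensorProduct.tprodMonoidHom k (MonoidHom.mulSingle _ i (f i))
      rw [← map_prod]
      exact congrArg _ (Finset.univ_prod_mulSingle f).symm
    rw [h]
    exact IsIntegral.prod _ fun i _ => (Algebra.IsIntegral.isIntegral (f i)).map _
  | add a b ha hb => exact ha.add hb



open CategoryTheory AlgebraicGeometry in
/-- For a smooth commutative group scheme G over a field k, the cohomology of the sheaf of G on the big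
fppf site, taken over the n-fold tensor power k̄ ⊗_k ⋯ ⊗_k k̄ of an algebraic closure, vanishes in
every positive degree j for every n > 0. -/
theorem result (k : Type u) [Field k]
    (G : Over (Spec (CommRingCat.of k))) [GrpObj G] [IsCommMonObj G] [Smooth G.hom]
    (n j : ℕ) (hn : 0 < n) (hj : 0 < j) :
    Subsingleton (BigSite.HU Scheme.fppfPrecoverage (CGrpSh.pts Scheme.fppfPrecoverage G) j
      (Over.mk (Spec.map (CommRingCat.ofHom (algebraMap k (PiTensorProduct k (fun _ : Fin n => AlgebraicClosure k))))))) := by
  let A := PiTensorProduct k (fun _ : Fin n => AlgebraicClosure k)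
  let i₀ : Fin n := ⟨0, hn⟩
  let φ : AlgebraicClosure k →ₐ[k] A := PiTensorProduct.singleAlgHom (R := k) (A := fun _ : Fin n => AlgebraicClosure k) i₀
  let g : Spec (CommRingCat.of A) ⟶ Spec (CommRingCat.of (AlgebraicClosure k)) :=
    Spec.map (CommRingCat.ofHom φ.toRingHom)
  haveI : IsIntegralHom g := by
    rw [IsIntegralHom.SpecMap_iff]
    intro x
    letI : Algebra (AlgebraicClosure k) A := φ.toRingHom.toAlgebra
    haveI : IsScalarTower k (AlgebraicClosure k) A := IsScalarTower.of_algebraMap_eq fun y => (φ.commutes y).symm
    exact (isIntegral_tensorPower k n x).tower_top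
  exact Desc19b.SmoothFppf.subsingleton_HF_of_integral g (Desc19b.SmoothFppf.goodCoeff_pullBig_pts _ G) j hj

end Groth.Agent.S13376
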