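import Groth.Statements.S13378
import Groth.Agent.ProComplLib.Profinite
import Groth.Agent.ProComplLib.Basic
import Groth.Agent.S13364
import Mathlib.GroupTheory.FiniteIndexNormalSubgroup
open CategoryTheory

set_option autoImplicit false
universe u
open ProCompl

namespace Groth.Agent.S13378

/-- For an abelian group A (written multiplicatively, discrete) and a subgroup A' such that the quotient
A/A' has no nontrivial divisible element and its torsion elements are killed by one positive
integer, the map induced on profinite completions by the inclusion of A' in A is injective. (The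
published statement is for topological abelian groups in which every nA is open, with completions
formed from open subgroups of finite index; this row is the case of the discrete topology.) -/
theorem result (A : Type u) [CommGroup A] (A' : Subgroup A)
    (hdiv : ∀ x : A ⧸ A', (∀ n : ℕ, 0 < n → ∃ y : A ⧸ A', y ^ n = x) → x = 1)
    (htors : ∃ N : ℕ, 0 < N ∧ ∀ x : A ⧸ A', IsOfFinOrder x → x ^ N = 1) :
    Function.Injective (ProfiniteGrp.profiniteCompletion.map (GrpCat.ofHom A'.subtype)).hom := by
  refine (injective_iff_map_eq_one _).2 fun x hx => Subtype.ext (funext fun H => ?_)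
  obtain ⟨a, ha⟩ := QuotientGroup.mk_surjective (x.1 H)
  rw [← ha]
  refine (QuotientGroup.eq_one_iff a).2 (by_contra fun haH => ?_)
  suffices ∃ W : FiniteIndexNormalSubgroup A, H.toSubgroup ≤ W.toSubgroup.comap A'.subtype ∧
      (a : A) ∉ W.toSubgroup by
    obtain ⟨W, hle, haW⟩ := this
    have h1 : QuotientGroup.map (W.comap A'.subtype).toSubgroup W.toSubgroup A'.subtype
        (fun _ h => h) (x.1 (W.comap A'.subtype)) = 1 :=
      (Groth.Agent.ProComplLib.map_component (GrpCat.ofHom A'.subtype) W x).symm.trans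
        (congrArg (fun z : ProfiniteGrp.ProfiniteCompletion.completion _ => z.1 W) hx)
    have h2 : QuotientGroup.map H.toSubgroup (W.comap A'.subtype).toSubgroup (MonoidHom.id A')
        hle (x.1 H) = x.1 (W.comap A'.subtype) := x.2 (homOfLE hle)
    rw [← ha] at h2
    have h2' : (a : A' ⧸ (W.comap A'.subtype).toSubgroup) = x.1 (W.comap A'.subtype) := h2
    have h3 : ((a : A) : A ⧸ W.toSubgroup) = 1 :=
      (congrArg (fun q => QuotientGroup.map (W.comap A'.subtype).toSubgroup W.toSubgroup A'.subtype
        (fun _ h => h) q) h2').trans h1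
    exact haW ((QuotientGroup.eq_one_iff _).1 h3)
  let H' : Subgroup A := H.toSubgroup.map A'.subtype
  have hH' : H' ≤ A' := Subgroup.map_subtype_le _
  let q : A →* A ⧸ H' := QuotientGroup.mk' H'
  let f : Additive (A' ⧸ H.toSubgroup) →+ Additive (A ⧸ H') :=
    (QuotientGroup.map H.toSubgroup H' A'.subtype (fun z hz => ⟨z, hz, rfl⟩)).toAdditive
  let g : Additive (A ⧸ H') →+ Additive (A ⧸ A') :=
    (QuotientGroup.map H' A' (MonoidHom.id A) hH').toAdditive
  have hf : Function.Injective f := by
    refine (injective_iff_map_eq_zero f).2 fun z hz => ?_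
    obtain ⟨z, rfl⟩ := QuotientGroup.mk_surjective (Additive.toMul z)
    obtain ⟨w, hw, hwz⟩ := (QuotientGroup.eq_one_iff (N := H') _).1 hz
    exact (QuotientGroup.eq_one_iff z).2 (Subtype.ext hwz ▸ hw)
  have hg : Function.Surjective g := fun z => by
    obtain ⟨b, hb⟩ := QuotientGroup.mk_surjective (Additive.toMul z)
    exact ⟨Additive.ofMul (b : A ⧸ H'), hb⟩
  have hfg : g.ker = f.range := by
    refine le_antisymm (fun z hz => ?_) ?_
    · obtain ⟨b, hb⟩ := QuotientGroup.mk_surjective (Additive.toMul z)
      have hz' : (b : A ⧸ A') = 1 := by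
        have h0 : g z = 0 := hz
        rw [show z = Additive.ofMul (b : A ⧸ H') from hb.symm] at h0
        exact h0
      exact ⟨Additive.ofMul ((⟨b, (QuotientGroup.eq_one_iff b).1 hz'⟩ : A') : A' ⧸ H.toSubgroup), hb⟩
    · rintro _ ⟨z, rfl⟩
      obtain ⟨z, rfl⟩ := QuotientGroup.mk_surjective (Additive.toMul z)
      exact (QuotientGroup.eq_one_iff (z : A)).2 z.2
  obtain ⟨N, hN, hNt⟩ := htors
  have hnd := fun z => Groth.Agent.S13364.result f g hf hg hfg
    (fun z hz => by
      obtain ⟨y, rfl⟩ := hz (Nat.card (A' ⧸ H.toSubgroup)) Nat.card_pos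
      exact congrArg Additive.ofMul (pow_card_eq_one' (x := Additive.toMul y)))
    (fun z hz => hdiv (Additive.toMul z) hz)
    ⟨N, hN, fun z hz => hNt (Additive.toMul z) (isOfFinAddOrder_ofMul_iff.1 hz)⟩ z
  have hna : ¬ ∀ n : ℕ, 0 < n → ∃ y : Additive (A ⧸ H'), n • y = Additive.ofMul ((a : A) : A ⧸ H') := by
    intro h
    have h0 : f (Additive.ofMul (a : A' ⧸ H.toSubgroup)) = 0 := hnd _ h
    exact haH ((QuotientGroup.eq_one_iff a).1 (hf (h0.trans (map_zero f).symm)))
  push Not at hna
  obtain ⟨n, hn, hny⟩ := hna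
  obtain ⟨χ, hχ, hχa⟩ := Groth.Agent.ProComplLib.exists_character_of_notMem
    (nsmulAddMonoidHom (α := Additive (A ⧸ H')) n).range
    (a := Additive.ofMul ((a : A) : A ⧸ H')) (fun ⟨b, hb⟩ => hny b hb)
  let φ : A →* Multiplicative Groth.Agent.ProComplLib.QZ := (AddMonoidHom.toMultiplicativeRight χ).comp q
  have hφ : φ.ker.FiniteIndex := by
    have : (χ.ker).FiniteIndex := Groth.Agent.ProComplLib.finiteIndex_ker χ (Groth.Agent.ProComplLib.finite_range_of_nsmul χ hn fun z => by
      rw [← map_nsmul]
      exact hχ ⟨z, rfl⟩)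
    refine ⟨?_⟩
    rw [show φ.ker = (AddSubgroup.toSubgroup' χ.ker).comap q from Subgroup.ext fun z => Iff.rfl,
      Subgroup.index_comap_of_surjective _ (QuotientGroup.mk'_surjective H')]
    exact this.index_ne_zero
  refine ⟨FiniteIndexNormalSubgroup.ofSubgroup φ.ker, fun z hz => ?_,
    fun h => hχa (congrArg Multiplicative.toAdd (MonoidHom.mem_ker.1 h))⟩
  refine MonoidHom.mem_ker.2 ?_
  change Multiplicative.ofAdd (χ (Additive.ofMul (q (z : A)))) = 1
  rw [show q (z : A) = 1 from (QuotientGroup.eq_one_iff _).2 ⟨z, hz, rfl⟩]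
  exact congrArg Multiplicative.ofAdd (map_zero χ)

end Groth.Agent.S13378
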