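import Groth.Statements.S13379
import Groth.Agent.ProComplLib.Profinite
import Mathlib.GroupTheory.FiniteIndexNormalSubgroup
open CategoryTheory

set_option autoImplicit false
universe u
open ProCompl

namespace Groth.Agent.S13379

/-- Profinite completion is right exact: for an abelian group A (written multiplicatively, discrete) and
a subgroup A', the map on profinite completions induced by A → A/A' is surjective and its kernel is
the image of the completion of A'. (The published statement is right-exactness for topological
abelian groups with completions formed from open subgroups of finite index; this row is the case of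
the discrete topology.) -/
theorem result (A : Type u) [CommGroup A] (A' : Subgroup A) :
    Function.Surjective (ProfiniteGrp.profiniteCompletion.map (GrpCat.ofHom (QuotientGroup.mk' A'))).hom ∧
      (ProfiniteGrp.profiniteCompletion.map (GrpCat.ofHom (QuotientGroup.mk' A'))).hom.toMonoidHom.ker =
        (ProfiniteGrp.profiniteCompletion.map (GrpCat.ofHom A'.subtype)).hom.toMonoidHom.range := by
  constructor
  · intro y
    have hc : IsClosed (Set.range (ProfiniteGrp.profiniteCompletion.map
        (GrpCat.ofHom (QuotientGroup.mk' A'))).hom) :=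
      (isCompact_range (ProfiniteGrp.profiniteCompletion.map _).hom.continuous_toFun).isClosed
    refine hc.closure_subset_iff.2 ?_ ((ProfiniteGrp.ProfiniteCompletion.denseRange _) y)
    rintro _ ⟨c, rfl⟩
    obtain ⟨a, rfl⟩ := QuotientGroup.mk_surjective c
    exact ⟨_, Groth.Agent.ProComplLib.map_eta (GrpCat.ofHom (QuotientGroup.mk' A')) a⟩
  · refine le_antisymm (fun y hy => ?_) ?_
    · have hfin : ∀ K : FiniteIndexNormalSubgroup A, ∃ a : A', (QuotientGroup.mk (a : A) :
          A ⧸ K.toSubgroup) = y.1 K := by
        intro K
        obtain ⟨b, hb⟩ := QuotientGroup.mk_surjective (y.1 K)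
        have : (K.toSubgroup.map (QuotientGroup.mk' A')).FiniteIndex :=
          ⟨ne_zero_of_dvd_ne_zero K.isFiniteIndex'.index_ne_zero
            (Subgroup.index_map_dvd _ (QuotientGroup.mk'_surjective A'))⟩
        let W : FiniteIndexNormalSubgroup (A ⧸ A') :=
          FiniteIndexNormalSubgroup.ofSubgroup (K.toSubgroup.map (QuotientGroup.mk' A'))
        have h1 := Groth.Agent.ProComplLib.map_component (GrpCat.ofHom (QuotientGroup.mk' A')) W y
        have h1' : QuotientGroup.map (W.comap (QuotientGroup.mk' A')).toSubgroup W.toSubgroup
            (QuotientGroup.mk' A') (fun _ h => h) (y.1 (W.comap (QuotientGroup.mk' A'))) = 1 :=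
          h1.symm.trans (congrArg (fun z : ProfiniteGrp.ProfiniteCompletion.completion _ => z.1 W)
            (MonoidHom.mem_ker.1 hy))
        have hle : K.toSubgroup ≤ ((W.comap (QuotientGroup.mk' A')).toSubgroup) := Subgroup.le_comap_map _ K.toSubgroup
        have h2 := y.2 (homOfLE (hle : K ≤ W.comap (QuotientGroup.mk' A')))
        have h3 : QuotientGroup.map K.toSubgroup (W.comap (QuotientGroup.mk' A')).toSubgroup
            (MonoidHom.id A) hle (y.1 K) = y.1 (W.comap (QuotientGroup.mk' A')) := h2
        rw [← hb] at h3
        have h3' : (b : A ⧸ (W.comap (QuotientGroup.mk' A')).toSubgroup) =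
            y.1 (W.comap (QuotientGroup.mk' A')) := h3
        have h4 : ((b : A ⧸ A') : (A ⧸ A') ⧸ W.toSubgroup) = 1 :=
          (congrArg (fun q => QuotientGroup.map (W.comap (QuotientGroup.mk' A')).toSubgroup W.toSubgroup
            (QuotientGroup.mk' A') (fun _ h => h) q) h3').trans h1'
        replace h1' : (b : A ⧸ A') ∈ W.toSubgroup := (QuotientGroup.eq_one_iff (b : A ⧸ A')).1 h4
        obtain ⟨k, hk, hkb⟩ := h1'
        have hmem : k⁻¹ * b ∈ A' := QuotientGroup.eq.1 hkb
        refine ⟨⟨k⁻¹ * b, hmem⟩, (QuotientGroup.eq.2 ?_).trans hb⟩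
        rw [mul_inv_rev, inv_inv, inv_mul_cancel_comm]
        exact hk
      obtain ⟨x, hx⟩ := Groth.Agent.ProComplLib.exists_map_eq_of_forall (GrpCat.ofHom A'.subtype) y
        (fun K => (hfin K).imp fun a ha => ha)
      exact ⟨x, hx⟩
    · rintro _ ⟨x, rfl⟩
      refine MonoidHom.mem_ker.2 ?_
      refine congrFun ((ProfiniteGrp.ProfiniteCompletion.denseRange (GrpCat.of A')).equalizer
        ((ProfiniteGrp.profiniteCompletion.map (GrpCat.ofHom (QuotientGroup.mk' A'))).hom.continuous_toFun.comp
          (ProfiniteGrp.profiniteCompletion.map (GrpCat.ofHom A'.subtype)).hom.continuous_toFun)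
        continuous_const (funext fun a => ?_)) x
      simp only [Function.comp_apply]
      refine (congrArg _ (Groth.Agent.ProComplLib.map_eta _ a)).trans ((Groth.Agent.ProComplLib.map_eta _ _).trans ?_)
      have : QuotientGroup.mk' A' (a : A) = 1 := (QuotientGroup.eq_one_iff _).2 a.2
      exact (congrArg _ this).trans rfl

end Groth.Agent.S13379
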