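import Groth.Statements.S3519
import Groth.Agent.CdDev9.FiniteDevissage
import Groth.Agent.AlgSpLib.DimBasic
import Groth.Agent.AS24.Vanish
import Groth.Agent.EtASLib.ProperFinite

set_option autoImplicit false
universe u
open CategoryTheory CategoryTheory.Limits AlgebraicGeometry Opposite
open EtCd Groth.Agent.Et18

namespace Groth.Agent.S3519

/-- The dimension as a natural number. -/
noncomputable def dimNat (Y : Scheme.{u}) : ℕ := ((topologicalKrullDim Y).unbotD 0).toNat

theorem dimNat_spec {Y : Scheme.{u}} [Nonempty Y] {n : ℕ} (h : topologicalKrullDim Y ≤ n) :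
    topologicalKrullDim Y = (dimNat Y : ℕ) := by
  have h0 : (0 : WithBot ℕ∞) ≤ topologicalKrullDim Y := by
    rw [DimLib.topologicalKrullDim_eq_krullDim]
    exact Order.krullDim_nonneg
  revert h h0
  unfold dimNat
  generalize topologicalKrullDim Y = d
  intro h h0
  induction d using WithBot.recBotCoe with
  | bot => simp at h0
  | coe d =>
    have hd : d ≤ (n : ℕ∞) := WithBot.coe_le_coe.1 h
    simp only [WithBot.unbotD_coe]
    rw [← ENat.coe_toNat (ne_top_of_le_ne_top (ENat.coe_ne_top n) hd)]
    rfl

/-- A proper closed integral subscheme has smaller dimension. -/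
theorem dim_add_one_le {Y₁ Y₂ : Scheme.{u}} [IsIntegral Y₁] [IsIntegral Y₂] (m : Y₁ ⟶ Y₂) [IsClosedImmersion m]
    (hm : ¬ IsIso m) : topologicalKrullDim Y₁ + 1 ≤ topologicalKrullDim Y₂ := by
  have hη : genericPoint Y₂ ∉ Set.range m := fun h => by
    refine hm (haveI : Surjective m := ⟨fun y => ?_⟩; isIso_of_isClosedImmersion_of_surjective m)
    exact (genericPoint_specializes y).mem_closed m.isClosedEmbedding.isClosed_range h
  rw [DimLib.topologicalKrullDim_eq_krullDim, DimLib.topologicalKrullDim_eq_krullDim, ← Order.krullDim_WithTop]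
  refine Order.krullDim_le_of_strictMono (fun a => WithTop.recTopCoe (genericPoint Y₂) (fun b => m b) a) ?_
  intro a b hab
  induction b using WithTop.recTopCoe with
  | top =>
    induction a using WithTop.recTopCoe with
    | top => exact absurd hab (lt_irrefl _)
    | coe a =>
      refine lt_of_le_not_ge (show genericPoint Y₂ ⤳ m a from genericPoint_specializes _) fun h => hη ?_
      exact ⟨a, ((show m a ⤳ genericPoint Y₂ from h).antisymm (genericPoint_specializes _)).eq⟩
  | coe b =>
    induction a using WithTop.recTopCoe with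
    | top => exact absurd hab not_top_lt
    | coe a => exact AlgSpLib.strictMono_of_isIntegralHom m (WithTop.coe_lt_coe.1 hab)

/-- Let k be a field of characteristic p > 0 and X a scheme of finite type over k of dimension at most
n. Then cd_p(X) ≤ n + 1: the etale cohomology of every p-primary torsion abelian sheaf on X vanishes
above degree n + 1. -/
theorem result (k : Type u) [Field k] (p : ℕ) [Fact p.Prime] [CharP k p]
    (X : Scheme.{u}) (f : X ⟶ Spec (CommRingCat.of k)) [LocallyOfFiniteType f] [QuasiCompact f]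
    (n : ℕ) (hn : topologicalKrullDim X ≤ n) : Dix.CohDimLEAt X p (n + 1) := by
  haveI : IsLocallyNoetherian X := LocallyOfFiniteType.isLocallyNoetherian f
  haveI : CompactSpace X := QuasiCompact.compactSpace_of_compactSpace f
  haveI : AlgebraicGeometry.IsNoetherian X := { }
  intro F hF q hq
  have hp : p.Prime := Fact.out
  have hdim : ∀ (Y : Scheme.{u}) (g : Y ⟶ X) [IsIntegral Y] [IsFinite g],
      topologicalKrullDim Y = (dimNat Y : ℕ) ∧ dimNat Y ≤ n := fun Y g _ _ => by
    have h := (AlgSpLib.topologicalKrullDim_le_of_isIntegralHom g).trans hn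
    refine ⟨dimNat_spec h, ?_⟩
    rw [dimNat_spec h] at h
    exact_mod_cast h
  refine CdDev9.claim (ℓ := p) (φ := fun Y _ => dimNat Y + 1) hp ?_ ?_ q X (𝟙 X) F
    ((CdField.isLTorsion_iff hp F).1 hF) (fun Z c _ _ _ => ?_) q le_rfl
  · intro Y₁ Y₂ g₁ g₂ _ _ _ _ m e
    obtain ⟨h₁, -⟩ := hdim Y₁ g₁
    obtain ⟨h₂, -⟩ := hdim Y₂ g₂
    haveI : IsFinite (m ≫ g₂) := by rw [e]; infer_instance
    haveI : IsFinite m := IsFinite.of_comp m g₂
    refine ⟨?_, fun hm hiso => ?_⟩
    · have := AlgSpLib.topologicalKrullDim_le_of_isIntegralHom m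
      rw [h₁, h₂] at this
      exact Nat.succ_le_succ (by exact_mod_cast this)
    · have := dim_add_one_le m hiso
      rw [h₁, h₂] at this
      exact Nat.succ_lt_succ (by exact_mod_cast this)
  · intro Y g _ _ q hq
    haveI : IsLocallyNoetherian Y := LocallyOfFiniteType.isLocallyNoetherian g
    haveI : CompactSpace Y := QuasiCompact.compactSpace_of_compactSpace g
    haveI : AlgebraicGeometry.IsNoetherian Y := { }
    exact AS24.subsingleton_const Y p (EtASLib.natCast_eq_zero_of_over p (g ≫ f)) (dimNat Y) (hdim Y g).1.le q hq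
  · exact lt_of_le_of_lt (Nat.succ_le_succ (hdim Z (c ≫ 𝟙 X)).2) hq

end Groth.Agent.S3519
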