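import Groth.Statements.S13382
import Groth.Agent.GeomNoTorus25.Bc
import Groth.Agent.UnipStruct.Unip
import Groth.Agent.AlgGrpLib.UnipotentPowers
import Groth.Agent.AlgGrpLib.AbelianSubvariety
import Groth.Agent.AGFImage11.GeomUnip
import Groth.Agent.Desc19b.SmoothFppf.PtsGrp
import Groth.Agent.GalEt.Basic2
import Groth.Agent.S3519

set_option autoImplicit false
set_option backward.isDefEq.respectTransparency.types false
universe u
open GaDual

namespace Groth.Agent.S13382

open CategoryTheory CategoryTheory.Limits MonoidalCategory CartesianMonoidalCategory MonObj GrpObj AlgebraicGeometry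

/-- Multiples of the identity of the sheaf of points are the powers. -/
theorem app_nsmul_id {X : Scheme.{u}} (G : Over X) [GrpObj G] [IsCommMonObj G] (n : ℕ) (T : (Over X)ᵒᵖ)
    (x : (CGrpSh.pts Scheme.fppfPrecoverage G).obj.obj T) :
    ((n • 𝟙 (CGrpSh.pts Scheme.fppfPrecoverage G) :
      CGrpSh.pts Scheme.fppfPrecoverage G ⟶ CGrpSh.pts Scheme.fppfPrecoverage G).hom.app T x).down.toMul =
      x.down.toMul ≫ (𝟙 G : G ⟶ G) ^ n := by
  rw [MonObj.comp_pow, Category.comp_id]
  induction n with
  | zero => rw [zero_smul, pow_zero]; rfl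
  | succ n ih => rw [succ_nsmul, pow_succ, ← ih]; rfl

/-- Powers that are isomorphisms give invertible multiples. -/
theorem isIso_nsmul_id {X : Scheme.{u}} (G : Over X) [GrpObj G] [IsCommMonObj G] (n : ℕ)
    [IsIso ((𝟙 G : G ⟶ G) ^ n)] : IsIso (n • 𝟙 (CGrpSh.pts Scheme.fppfPrecoverage G)) := by
  have h : IsIso (n • 𝟙 (CGrpSh.pts Scheme.fppfPrecoverage G) :
      CGrpSh.pts Scheme.fppfPrecoverage G ⟶ CGrpSh.pts Scheme.fppfPrecoverage G).hom := by
    haveI : ∀ T, IsIso ((n • 𝟙 (CGrpSh.pts Scheme.fppfPrecoverage G) :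
      CGrpSh.pts Scheme.fppfPrecoverage G ⟶ CGrpSh.pts Scheme.fppfPrecoverage G).hom.app T) := fun T => by
      rw [ConcreteCategory.isIso_iff_bijective]
      refine ⟨fun x y hxy => ?_, fun y => ⟨ULift.up (Additive.ofMul (y.down.toMul ≫ inv ((𝟙 G : G ⟶ G) ^ n))), ?_⟩⟩
      · have h := congrArg (fun z => z.down.toMul) hxy
        simp only [app_nsmul_id] at h
        exact ULift.ext _ _ (Additive.toMul.injective ((cancel_mono _).1 h))
      · refine ULift.ext _ _ (Additive.toMul.injective ?_)
        rw [app_nsmul_id]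
        simp
    exact NatIso.isIso_of_isIso_app _
  exact (isIso_iff_of_reflects_iso _ (sheafToPresheaf _ _)).1 h

/-- A power which is trivial gives a vanishing multiple. -/
theorem nsmul_id_eq_zero {X : Scheme.{u}} (G : Over X) [GrpObj G] [IsCommMonObj G] (n : ℕ)
    (h : (𝟙 G : G ⟶ G) ^ n = 1) : n • 𝟙 (CGrpSh.pts Scheme.fppfPrecoverage G) = 0 := by
  refine Sheaf.hom_ext (NatTrans.ext (funext fun T => AddCommGrpCat.ext fun x =>
    ULift.ext _ _ (Additive.toMul.injective ?_)))
  rw [app_nsmul_id, h, MonObj.comp_one]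
  rfl

/-- Base change along a faithfully flat map is faithful. -/
theorem map_injective {S S' : Scheme.{u}} (p : S' ⟶ S) [Surjective p] [Flat p] [QuasiCompact p] {X Y : Over S}
    {f g : X ⟶ Y} (h : (Over.pullback p).map f = (Over.pullback p).map g) : f = g := by
  haveI : Surjective (pullback.fst X.hom p) := MorphismProperty.pullback_fst _ _ ‹Surjective p›
  haveI : Flat (pullback.fst X.hom p) := MorphismProperty.pullback_fst _ _ ‹Flat p›
  haveI : QuasiCompact (pullback.fst X.hom p) := MorphismProperty.pullback_fst _ _ ‹QuasiCompact p›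
  haveI : Epi (pullback.fst X.hom p) := Flat.epi_of_flat_of_surjective _
  apply Over.OverMorphism.ext
  rw [← cancel_epi (pullback.fst X.hom p)]
  have h' := congrArg (fun z => z.left ≫ pullback.fst _ _) h
  simpa [pullback.lift_fst] using h'

variable {k : Type u} [Field k]

/-- Unipotent groups in characteristic zero are uniquely divisible. -/
theorem isIso_pow_charZero [CharZero k] (U : Over (Spec (CommRingCat.of k))) [GrpObj U] [IsCommMonObj U]
    [Smooth U.hom] [ConnectedSpace U.left] [IsAffine U.left] (hU : Red.HasNoSubtorus k U) (n : ℕ) (hn : 0 < n) :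
    IsIso ((𝟙 U : U ⟶ U) ^ n) := by
  let K := AlgebraicClosure k
  let p : Spec (CommRingCat.of K) ⟶ Spec (CommRingCat.of k) := Spec.map (CommRingCat.ofHom (algebraMap k K))
  haveI : Surjective p := AGFImage11.surjective_fieldMap p
  haveI : Flat p := (HasRingHomProperty.Spec_iff (P := @Flat)).2 (RingHom.flat_algebraMap_iff.2 inferInstance)
  let F := Over.pullback p
  haveI := Groth.Agent.AlgGrpLib.AbelianSubvariety.geometricallyConnected_of_connected U
  haveI : Smooth (F.obj U).hom := inferInstanceAs (Smooth (Limits.pullback.snd U.hom p))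
  haveI : IsAffine (F.obj U).left := inferInstanceAs (IsAffine (Limits.pullback U.hom p))
  haveI : ConnectedSpace (F.obj U).left := inferInstanceAs (ConnectedSpace ↥(Limits.pullback U.hom p))
  haveI : IsIso (F.map ((𝟙 U : U ⟶ U) ^ n)) := by
    rw [AGFImage11.map_pow_id]
    exact Groth.Agent.AlgGrpLib.UnipPow.isIso_pow (H := F.obj U) (GeomNoTorus25.hasNoSubtorus_bc K hU)
      (Nat.cast_ne_zero.2 hn.ne')
  exact AGFImage11.isIso_of_isIso_map p _

/-- Unipotent groups in characteristic `p` are killed by a power of `p`. -/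
theorem exists_pow_eq_one (p : ℕ) [Fact p.Prime] [CharP k p] (U : Over (Spec (CommRingCat.of k))) [GrpObj U]
    [IsCommMonObj U] [Smooth U.hom] [ConnectedSpace U.left] [IsAffine U.left] (hU : Red.HasNoSubtorus k U) :
    ∃ N : ℕ, (𝟙 U : U ⟶ U) ^ p ^ N = 1 := by
  let K := AlgebraicClosure k
  haveI : CharP K p := charP_of_injective_algebraMap (algebraMap k K).injective p
  let q : Spec (CommRingCat.of K) ⟶ Spec (CommRingCat.of k) := Spec.map (CommRingCat.ofHom (algebraMap k K))
  haveI : Surjective q := AGFImage11.surjective_fieldMap q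
  haveI : Flat q := (HasRingHomProperty.Spec_iff (P := @Flat)).2 (RingHom.flat_algebraMap_iff.2 inferInstance)
  let F := Over.pullback q
  haveI := Groth.Agent.AlgGrpLib.AbelianSubvariety.geometricallyConnected_of_connected U
  haveI : Smooth (F.obj U).hom := inferInstanceAs (Smooth (Limits.pullback.snd U.hom q))
  haveI : IsAffine (F.obj U).left := inferInstanceAs (IsAffine (Limits.pullback U.hom q))
  haveI : ConnectedSpace (F.obj U).left := inferInstanceAs (ConnectedSpace ↥(Limits.pullback U.hom q))
  obtain ⟨N, hN⟩ := UnipStruct.killed_iff.1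
    (UnipStruct.killed_of_hasNoSubtorus (p := p) (G := F.obj U) (GeomNoTorus25.hasNoSubtorus_bc K hU))
  exact ⟨N, map_injective q ((AGFImage11.map_pow_id q U _).trans (hN.trans
    ((Over.pullback q).homMonoidHom.map_one).symm))⟩

open CategoryTheory AlgebraicGeometry in
/-- For a smooth connected commutative unipotent group U over a field k, the cohomology H^i(k, U) on the
big fppf site of Spec k vanishes for every i > 1. Unipotency of the smooth connected commutative
affine k-group U is expressed as: U contains no nontrivial k-subtorus (for such U the two conditions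
agree). -/
theorem result (k : Type u) [Field k]
    (U : Over (Spec (CommRingCat.of k))) [GrpObj U] [IsCommMonObj U]
    [Smooth U.hom] [ConnectedSpace U.left] [IsAffine U.left] (hU : Red.HasNoSubtorus k U)
    (i : ℕ) (hi : 1 < i) :
    Subsingleton (BigSite.H Scheme.fppfPrecoverage (Spec (CommRingCat.of k))
      (CGrpSh.pts Scheme.fppfPrecoverage U) i) := by
  haveI : LocallyOfFiniteType U.hom := inferInstance
  have hM := Desc19b.SmoothFppf.goodCoeff_pts (G := U)
  obtain ⟨e⟩ := Desc19b.SmoothFppf.nonempty_H_equiv_HF hM i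
  suffices h : Subsingleton (EtCoh.H (Spec (CommRingCat.of k))
      ((EtFppf.aPush (Spec (CommRingCat.of k))).obj (CGrpSh.pts Scheme.fppfPrecoverage U)) i) from
    e.symm.toEquiv.subsingleton
  rcases CharP.exists' k with h0 | ⟨p, hp, hpk⟩
  · haveI := h0
    refine GalEt.subsingleton_H_of_isIso_nsmul k _ (fun n hn => ?_) i (by omega)
    haveI := isIso_pow_charZero U hU n hn
    haveI := isIso_nsmul_id U n
    rw [← CategoryTheory.Functor.map_id, ← Functor.map_nsmul]
    infer_instance
  · haveI := hp
    haveI := hpk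
    obtain ⟨N, hN⟩ := exists_pow_eq_one p U hU
    have hdim : topologicalKrullDim (Spec (CommRingCat.of k)) ≤ (0 : ℕ) :=
      le_of_eq ((PrimeSpectrum.topologicalKrullDim_eq_ringKrullDim k).trans (ringKrullDim_eq_zero_of_field k))
    refine Groth.Agent.S3519.result k p _ (𝟙 _) 0 hdim _ (fun V s x => ⟨V, 𝟙 V, ⟨x, rfl⟩, N, ?_⟩) i (by omega)
    rw [op_id, CategoryTheory.Functor.map_id]
    have h := congrArg (fun z => z.hom.app (Opposite.op V) s) (congrArg (EtFppf.aPush (Spec (CommRingCat.of k))).map
      (nsmul_id_eq_zero U _ hN))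
    rw [Functor.map_nsmul, Functor.map_zero, CategoryTheory.Functor.map_id] at h
    exact h

end Groth.Agent.S13382
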