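import Groth.Statements.S13384
import Groth.Agent.S7782
import Groth.Agent.AlgGrpLib.TorusIsogeny
import Groth.Agent.UnipStruct.Group
import Groth.Agent.SGA3cLib.BCPoints
set_option backward.isDefEq.respectTransparency.types false

set_option autoImplicit false
universe u
open AlgGrpK

namespace Groth.Agent.S13384

open CategoryTheory AlgebraicGeometry MonoidalCategory in
/-- If an affine commutative group scheme G of finite type over a field k contains a subtorus T with
finite quotient G/T (given as a flat surjective homomorphism with kernel T onto a finite k-group),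
then G receives an isogeny — a flat surjective homomorphism with finite kernel — from the product of
a finite k-group scheme and a k-torus. (The published statement also gives two further equivalent
conditions, on the reduced identity component over an algebraic closure and on Weil restrictions of
split tori; this row states only this implication.) -/
theorem result (k : Type u) [Field k]
    (G : Over (Spec (CommRingCat.of k))) [GrpObj G] [IsCommMonObj G]
    [LocallyOfFiniteType G.hom] [QuasiCompact G.hom] [IsAffine G.left]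
    (T Q : Over (Spec (CommRingCat.of k))) [GrpObj T] [GrpObj Q] (j : T ⟶ G) (q : G ⟶ Q)
    [IsMonHom j] [IsMonHom q] [Mono j] (hT : Red.IsTorus T) (hker : AlgGrp.IsKernel j q)
    [Flat q.left] [Surjective q.left] [IsFinite Q.hom] :
    ∃ (A T' : Over (Spec (CommRingCat.of k))) (_ : GrpObj A) (_ : GrpObj T') (f : A ⊗ T' ⟶ G) (_ : IsMonHom f),
      IsFinite A.hom ∧ Red.IsTorus T' ∧ SGA7.IsIsogenyOver f ∧ Flat f.left := by
  open CategoryTheory.Limits CartesianMonoidalCategory MonObj in
  classical
  haveI : IsAffineHom q.left := by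
    haveI : IsAffine Q.left := isAffine_of_isAffineHom Q.hom
    exact isAffineHom_of_isAffine _
  haveI : IsCommMonObj Q := Groth.Agent.UnipStruct.isCommMonObj_of_cover q
  haveI : Flat Q.hom := inferInstance
  haveI : LocallyOfFinitePresentation Q.hom := inferInstance
  haveI : Subsingleton ↥(Spec (CommRingCat.of k)) := inferInstanceAs (Subsingleton (PrimeSpectrum k))
  haveI : Surjective Q.hom := ⟨fun s => ⟨(η[Q]).left s, Subsingleton.elim _ _⟩⟩
  let r := Scheme.Hom.finrank Q.hom (IsLocalRing.closedPoint k)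
  have hr : ∀ s, Scheme.Hom.finrank Q.hom s = r := fun s => by rw [Subsingleton.elim s (IsLocalRing.closedPoint k)]
  have hr0 : r ≠ 0 := Nat.one_le_iff_ne_zero.1 ((Scheme.Hom.one_le_finrank_iff_surjective Q.hom).2 inferInstance _)
  let P : G ⟶ G := (𝟙 G) ^ r
  have hPq : P ≫ q = 1 := by
    have h : ∀ m : ℕ, ((𝟙 G) ^ m) ≫ q = q ^ m := by
      intro m
      induction m with
      | zero => rw [pow_zero, pow_zero, MonObj.one_comp]
      | succ i ih => rw [pow_succ, pow_succ, MonObj.mul_comp, ih, Category.id_comp]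
    rw [h]
    exact Groth.Agent.S7782.result Q r hr G q
  obtain ⟨φ, hφ⟩ := Groth.Agent.AlgGrpLib.exists_lift_kernel hker hPq
  have hP : ∀ (X : Over (Spec (CommRingCat.of k))) (x : X ⟶ G), x ≫ P = x ^ r := by
    intro X x
    have h : ∀ m : ℕ, x ≫ ((𝟙 G) ^ m) = x ^ m := by
      intro m
      induction m with
      | zero => rw [pow_zero, pow_zero, MonObj.comp_one]
      | succ i ih => rw [pow_succ, pow_succ, MonObj.comp_mul, ih, Category.comp_id]
    exact h r
  haveI : IsMonHom φ := Groth.Agent.SGA3cLib.BCPoints.isMonHom_of_mul φ fun X x y => by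
    rw [← cancel_mono j, MonObj.mul_comp (x ≫ φ) (y ≫ φ) j, Category.assoc, Category.assoc, Category.assoc, hφ, hP,
      hP, hP, mul_pow]
  let ψ : T ⟶ T := (𝟙 T) ^ r
  have hψ : j ≫ φ = ψ := by
    rw [← cancel_mono j, Category.assoc, hφ, hP]
    have h : ∀ m : ℕ, ((𝟙 T) ^ m) ≫ j = j ^ m := by
      intro m
      induction m with
      | zero => rw [pow_zero, pow_zero, MonObj.one_comp]
      | succ i ih => rw [pow_succ, pow_succ, MonObj.mul_comp, ih, Category.id_comp]
    exact (h r).symm
  have hψc : ∀ (X : Over (Spec (CommRingCat.of k))) (t : X ⟶ T), (t ≫ j) ≫ φ = t ≫ ψ := fun X t => by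
    rw [Category.assoc, hψ]
  let inc := Groth.Agent.UnipStruct.kerι φ
  let A := Groth.Agent.UnipStruct.kerObj φ
  have hinc : AlgGrp.IsKernel inc φ := Groth.Agent.UnipStruct.isKernel_kerι φ
  haveI : Mono inc := Groth.Agent.AlgGrpLib.kernel_mono hinc
  let f : A ⊗ T ⟶ G := (fst A T ≫ inc) * (snd A T ≫ j)
  have hf : ∀ (X : Over (Spec (CommRingCat.of k))) (a : X ⟶ A) (t : X ⟶ T), lift a t ≫ f = (a ≫ inc) * (t ≫ j) := by
    intro X a t
    rw [MonObj.comp_mul, lift_fst_assoc, lift_snd_assoc]
  haveI : IsMonHom f := Groth.Agent.SGA3cLib.BCPoints.isMonHom_of_mul f fun X x y => by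
    simp only [f, MonObj.comp_mul, ← Category.assoc, MonObj.mul_comp]
    exact mul_mul_mul_comm _ _ _ _
  have hfφ : f ≫ φ = snd A T ≫ ψ := by
    rw [MonObj.mul_comp, hψc, Category.assoc, Groth.Agent.AlgGrpLib.kernel_comp hinc, MonObj.comp_one,
      _root_.one_mul]
  -- `f` is the base change of `ψ` along `φ`
  have sq1 : IsPullback f (snd A T) φ ψ := by
    have hex : ∀ s : PullbackCone φ ψ, ∃ a, a ≫ inc = s.fst * (s.snd ≫ j)⁻¹ := fun s =>
      Groth.Agent.AlgGrpLib.exists_lift_kernel hinc
        (by rw [MonObj.mul_comp, GrpObj.inv_comp, hψc, s.condition, mul_inv_cancel])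
    choose l hl using hex
    refine ⟨⟨hfφ⟩, ⟨PullbackCone.IsLimit.mk _ (fun s => lift (l s) s.snd) (fun s => ?_) (fun s => lift_snd _ _)
      (fun s m hm₁ hm₂ => ?_)⟩⟩
    · rw [hf, hl, inv_mul_cancel_right]
    · refine CartesianMonoidalCategory.hom_ext _ _ ?_ (by rw [lift_snd]; exact hm₂)
      rw [lift_fst, ← cancel_mono inc, hl]
      have : m ≫ f = (m ≫ fst A T ≫ inc) * (m ≫ snd A T ≫ j) := MonObj.comp_mul _ _ _
      rw [← hm₁, this, ← reassoc_of% hm₂, mul_inv_cancel_right, Category.assoc]
  -- `f` is the base change of `inc ≫ q` along `q`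
  have hfq : f ≫ q = fst A T ≫ inc ≫ q := by
    rw [MonObj.mul_comp, Category.assoc, Category.assoc, Groth.Agent.AlgGrpLib.kernel_comp hker, MonObj.comp_one,
      _root_.mul_one]
  have sq2 : IsPullback f (fst A T) q (inc ≫ q) := by
    have hex : ∀ s : PullbackCone q (inc ≫ q), ∃ t, t ≫ j = (s.snd ≫ inc)⁻¹ * s.fst := fun s =>
      Groth.Agent.AlgGrpLib.exists_lift_kernel hker
        (by rw [MonObj.mul_comp, GrpObj.inv_comp, Category.assoc, s.condition, inv_mul_cancel])
    choose l hl using hex
    refine ⟨⟨hfq⟩, ⟨PullbackCone.IsLimit.mk _ (fun s => lift s.snd (l s)) (fun s => ?_) (fun s => lift_fst _ _)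
      (fun s m hm₁ hm₂ => ?_)⟩⟩
    · rw [hf, hl, mul_inv_cancel_left]
    · refine CartesianMonoidalCategory.hom_ext _ _ (by rw [lift_fst]; exact hm₂) ?_
      rw [lift_snd, ← cancel_mono j, hl]
      have : m ≫ f = (m ≫ fst A T ≫ inc) * (m ≫ snd A T ≫ j) := MonObj.comp_mul _ _ _
      rw [← hm₁, this, ← reassoc_of% hm₂, inv_mul_cancel_left, Category.assoc]
  obtain ⟨hψfin, hψflat, hψsurj⟩ := Groth.Agent.AlgGrpLib.TorusIsogeny.ffs_pow hT r hr0
  have L1 := IsPullback.map (Over.forget _) sq1
  haveI : IsFinite f.left := MorphismProperty.of_isPullback (P := @IsFinite) L1.flip hψfin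
  haveI : Flat f.left := MorphismProperty.of_isPullback (P := @Flat) L1.flip hψflat
  haveI : Surjective f.left := MorphismProperty.of_isPullback (P := @Surjective) L1.flip hψsurj
  haveI : MorphismProperty.DescendsAlong (@IsFinite : MorphismProperty Scheme.{u})
      (@Surjective ⊓ @Flat ⊓ @QuasiCompact) := Groth.Agent.Et18.descends_isFinite
  have hQ : (@Surjective ⊓ @Flat ⊓ @QuasiCompact : MorphismProperty Scheme.{u}) q.left :=
    ⟨⟨inferInstance, inferInstance⟩, inferInstance⟩
  haveI : IsFinite (inc ≫ q).left :=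
    MorphismProperty.of_isPullback_of_descendsAlong (P := @IsFinite)
      (Q := @Surjective ⊓ @Flat ⊓ @QuasiCompact) (IsPullback.map (Over.forget _) sq2)
      hQ ‹IsFinite f.left›
  refine ⟨A, T, inferInstance, inferInstance, f, inferInstance, ?_, hT, ⟨inferInstance, fun N i hN => ?_⟩,
    inferInstance⟩
  · rw [← Over.w (inc ≫ q)]
    infer_instance
  · have h := MorphismProperty.of_isPullback (P := @IsFinite) (IsPullback.map (Over.forget _) hN)
      ‹IsFinite f.left›
    rw [← Over.w (toUnit N)]
    show IsFinite ((toUnit N).left ≫ 𝟙 _)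
    rw [Category.comp_id]
    exact h

end Groth.Agent.S13384
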