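import Groth.Statements.S13389
import Mathlib
import Groth.Agent.PolLawLib.DPSpan

set_option autoImplicit false
universe u
open ZeroCyc

namespace Groth.Agent.S13389

open Polynomial in
/-- Let P_d(T) = ∏_{0 ≤ i < j ≤ d} (T^i − T^j) − 1 ∈ ℤ[T]. If A is an algebra over ℤ[T]/(P_d), i.e.
receives a ring homomorphism from it, then for every A-module M the degree-d piece Γ^d_A(M) of the
divided power algebra Γ_A(M) is spanned over A by the d-th divided powers γ_d(m), m ∈ M. (The
published statement adds that consequently every ring has a finite faithfully flat extension,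
independent of M, over which this holds; that clause is not restated.) -/
theorem result {A M : Type u} [CommRing A] [AddCommGroup M]
    [Module A M] (d : ℕ)
    (φ : (ℤ[X] ⧸ Ideal.span {(∏ j ∈ Finset.range (d + 1), ∏ i ∈ Finset.range j,
        ((X : ℤ[X]) ^ i - X ^ j)) - 1}) →+* A) :
    Submodule.span A (Set.range (DividedPowerAlgebra.dp A d : M → DividedPowerAlgebra A M)) =
      PolLaw.gammaPiece A M d := by
  let q : ℤ[X] →+* A := φ.comp (Ideal.Quotient.mk _)
  refine Groth.Agent.PolLawLib.span_eq_piece_of_vandermonde d (q X) ?_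
  have h0 : q ((∏ j ∈ Finset.range (d + 1), ∏ i ∈ Finset.range j, ((X : ℤ[X]) ^ i - X ^ j)) - 1) = 0 := by
    show φ (Ideal.Quotient.mk _ _) = 0
    rw [Ideal.Quotient.eq_zero_iff_mem.mpr (Ideal.mem_span_singleton_self _), map_zero]
  rw [map_sub, map_one, sub_eq_zero, map_prod] at h0
  simp only [map_prod, map_sub, map_pow] at h0
  exact h0 ▸ isUnit_one
end Groth.Agent.S13389
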