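import Groth.Statements.S13393
import Groth.Agent.AGFQuot23.SymValue
import Groth.Agent.AGFQuot23.SymProdBC
import Groth.Agent.SGA1Quot.ResidueField

set_option linter.style.haveILetI false
set_option backward.isDefEq.respectTransparency false
set_option backward.isDefEq.respectTransparency.types false
set_option maxHeartbeats 1600000

set_option autoImplicit false
universe u
open CategoryTheory CategoryTheory.Limits AlgebraicGeometry
open ZeroCyc

open scoped TensorProduct
open Groth.Agent.AGFQuot23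

namespace Groth.Agent.S13393

theorem appLE_injective {A B : Scheme.{u}} (r : A ⟶ B) {P : B.Opens} (hP : Function.Injective (r.app P).hom)
    (O : A.Opens) (hO : O = r ⁻¹ᵁ P) (e : O ≤ r ⁻¹ᵁ P) : Function.Injective (r.appLE P O e).hom := by
  subst hO
  rw [← Scheme.Hom.app_eq_appLE]
  exact hP

theorem residueFieldMap_comp_apply {A B C : Scheme.{u}} (h : A ⟶ B) (g : B ⟶ C) (x : A) (t : C.residueField ((h ≫ g) x)) :
    (h ≫ g).residueFieldMap x t = h.residueFieldMap x (g.residueFieldMap (h x) t) := by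
  rw [Scheme.residueFieldMap_comp]
  rfl

theorem mem_fieldRange_comp {A B C : Scheme.{u}} (h : A ⟶ B) (g : B ⟶ C) (k : A ⟶ C) (e : k = h ≫ g) (x : A)
    (t : C.residueField (k x)) : k.residueFieldMap x t ∈ (h.residueFieldMap x).hom.fieldRange := by
  subst e
  rw [residueFieldMap_comp_apply]
  exact ⟨g.residueFieldMap (h x) t, rfl⟩

theorem span_of_isPushout {R A R' A' : CommRingCat.{u}} {a : R ⟶ A} {j : R ⟶ R'} {t : A ⟶ A'} {s : R' ⟶ A'}
    (h : IsPushout a j t s) :
    letI := s.hom.toAlgebra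
    Submodule.span R' (Set.range t.hom) = ⊤ := by
  letI := a.hom.toAlgebra
  letI := j.hom.toAlgebra
  letI := t.hom.toAlgebra
  letI := s.hom.toAlgebra
  letI : Algebra R A' := (j ≫ s).hom.toAlgebra
  haveI : IsScalarTower R R' A' := IsScalarTower.of_algebraMap_eq fun _ => rfl
  haveI : IsScalarTower R A A' := IsScalarTower.of_algebraMap_eq fun x => by
    show (j ≫ s) x = (a ≫ t) x
    rw [h.w]
  haveI : Algebra.IsPushout R R' A A' := CommRingCat.isPushout_iff_isPushout.mp h.flip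
  refine eq_top_iff.2 fun y hy => ?_
  clear hy
  obtain ⟨w, rfl⟩ := (Algebra.IsPushout.equiv R R' A A').surjective y
  induction w using TensorProduct.induction_on with
  | zero => rw [map_zero]; exact zero_mem _
  | add x y hx hy => rw [map_add]; exact add_mem hx hy
  | tmul r x =>
    rw [Algebra.IsPushout.equiv_tmul, ← Algebra.smul_def]
    exact Submodule.smul_mem _ r (Submodule.subset_span ⟨x, rfl⟩)

/-- Averaging. -/
theorem key_of_isUnit {R R' B C : Type u} [CommRing R] [CommRing R'] [Algebra R R'] [AddCommGroup B] [Module R B]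
    [AddCommGroup C] [Module R C] {I : Type*} [Fintype I] (hu : IsUnit ((Fintype.card I : ℕ) : R')) (qL : B →ₗ[R] C)
    (hq : Function.Injective qL) (σL : I → (C →ₗ[R] C)) (hfix : ∀ i b, σL i (qL b) = qL b)
    (hsum : ∀ c, ∑ i, σL i c ∈ Set.range qL) :
    Function.Injective (qL.lTensor R') ∧
      ∀ z : R' ⊗[R] C, (∀ i, (σL i).lTensor R' z = z) → ∃ w, qL.lTensor R' w = z := by
  classical
  obtain ⟨u, hu⟩ := hu.exists_left_inv
  let Tq : C →ₗ[R] LinearMap.range qL :=
    (∑ i, σL i).codRestrict (LinearMap.range qL) fun c => by rw [LinearMap.sum_apply]; exact hsum c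
  let π : C →ₗ[R] B := (LinearEquiv.ofInjective qL hq).symm.toLinearMap ∘ₗ Tq
  have hqπ : qL ∘ₗ π = ∑ i, σL i := LinearMap.ext fun c => by
    show ((LinearEquiv.ofInjective qL hq) ((LinearEquiv.ofInjective qL hq).symm (Tq c))).1 = _
    rw [LinearEquiv.apply_symm_apply]
    rfl
  have hπq : π ∘ₗ qL = (Fintype.card I) • LinearMap.id := LinearMap.ext fun b => hq (by
    rw [← LinearMap.comp_apply, ← LinearMap.comp_assoc, hqπ]
    simp [hfix])
  have hcast : ∀ {P : Type u} [AddCommGroup P] [Module R P] (z : R' ⊗[R] P), u • (Fintype.card I • z) = z := fun z => by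
    rw [← Nat.cast_smul_eq_nsmul R', smul_smul, hu, one_smul]
  refine ⟨(injective_iff_map_eq_zero _).2 fun z hz => ?_, fun z hz => ⟨u • π.lTensor R' z, ?_⟩⟩
  · have h1 := congrArg (π.lTensor R') hz
    rw [map_zero, ← LinearMap.comp_apply, ← LinearMap.lTensor_comp, hπq, ← Nat.cast_smul_eq_nsmul R,
      LinearMap.lTensor_smul, LinearMap.smul_apply, LinearMap.lTensor_id, LinearMap.id_apply, Nat.cast_smul_eq_nsmul] at h1
    rw [← hcast z, h1, smul_zero]
  · have h2 : qL.lTensor R' (π.lTensor R' z) = Fintype.card I • z := by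
      rw [← LinearMap.comp_apply, ← LinearMap.lTensor_comp, hqπ,
        show (∑ i, σL i).lTensor R' = ∑ i, (σL i).lTensor R' from map_sum (LinearMap.lTensorHom R') _ _,
        LinearMap.sum_apply, Finset.sum_congr rfl (fun i _ => hz i), Finset.sum_const, Finset.card_univ]
    show TensorProduct.AlgebraTensorModule.lTensor R' R' qL (u • π.lTensor R' z) = z
    rw [map_smul, show TensorProduct.AlgebraTensorModule.lTensor R' R' qL (π.lTensor R' z) =
      qL.lTensor R' (π.lTensor R' z) from rfl, h2]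
    exact hcast z


/-- Scheme case. Let f : X → S be separated and let (Y, q, g) be a d-th symmetric product of X over S: q
: (X/S)^d → Y is a quotient of the d-fold fibre product by the symmetric group permuting the factors
and g : Y → S its structure map. Let S' → S be a morphism, let the symmetric group act on (X/S)^d
×_S S' through the first factor (this is the d-fold fibre product of X' = X ×_S S' over S' with its
permutation action), let r : (X/S)^d ×_S S' → Y' be a quotient by that action, i.e. a symmetric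
product Sym^d(X'/S'), and let m : Y' → Y ×_S S' be the morphism with r ≫ m = q × id. Then m induces
an isomorphism on residue fields at every point of Y' (trivial residue field extensions); if every
positive integer is invertible in Γ(S', O_{S'}) then m is an isomorphism; and if X' → S' is flat
then m is a closed immersion. (The published statement is for X a separated algebraic space over S,
where the symmetric products always exist as algebraic spaces; this row is the case of schemes in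
which both quotients exist as schemes, taken as hypotheses, and leaves the universal-homeomorphism
clause to the general finite-group statement.) -/
theorem result {X S S' Y Y' : Scheme.{u}} (f : X ⟶ S) [IsSeparated f] (d : ℕ)
    (q : SymProd.fibPow f d ⟶ Y) (g : Y ⟶ S) (hq : SymProd.IsSymProd f d q g)
    (gS : S' ⟶ S)
    (ρ' : ULift.{u} (Equiv.Perm (Fin d)) →* Aut (pullback (WidePullback.base fun _ : Fin d => f) gS))
    (hρ' : ∀ σ, (ρ' σ).hom ≫ pullback.fst (WidePullback.base fun _ : Fin d => f) gS =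
        pullback.fst (WidePullback.base fun _ : Fin d => f) gS ≫ SymProd.permHom f d σ.down ∧
      (ρ' σ).hom ≫ pullback.snd (WidePullback.base fun _ : Fin d => f) gS =
        pullback.snd (WidePullback.base fun _ : Fin d => f) gS)
    (r : pullback (WidePullback.base fun _ : Fin d => f) gS ⟶ Y') (hr : SGA1.IsQuot ρ' r)
    (m : Y' ⟶ pullback g gS)
    (hm : r ≫ m = pullback.map (WidePullback.base fun _ : Fin d => f) gS g gS q (𝟙 S') (𝟙 S)
      ((Category.comp_id _).trans hq.over.symm) ((Category.comp_id gS).trans (Category.id_comp gS).symm)) :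
    (∀ y : Y', IsIso (m.residueFieldMap y)) ∧
    ((∀ n : ℕ, 0 < n → IsUnit ((n : ℕ) : Γ(S', ⊤))) → IsIso m) ∧
    (Flat (pullback.snd f gS) → IsClosedImmersion m) := by
  classical
  let f' := pullback.snd f gS
  let base' := WidePullback.base fun _ : Fin d => f'
  let c : SymProd.fibPow f' d ⟶ SymProd.fibPow f d :=
    WidePullback.lift (base' ≫ gS) (fun j => WidePullback.π (fun _ : Fin d => f') j ≫ pullback.fst f gS) (fun j => by
      rw [Category.assoc, pullback.condition, WidePullback.π_arrow_assoc])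
  have hcπ : ∀ j : Fin d, c ≫ WidePullback.π (fun _ => f) j = WidePullback.π (fun _ => f') j ≫ pullback.fst f gS :=
    fun j => WidePullback.lift_π _ _ _ _ j
  have hcb : c ≫ WidePullback.base (fun _ => f) = base' ≫ gS := WidePullback.lift_base _ _ _ _
  let Φ := (SymProdBC.isPullback_fibPow gS c hcπ hcb).isoPullback
  have hΦ₁ : Φ.hom ≫ pullback.fst (WidePullback.base fun _ : Fin d => f) gS = c := IsPullback.isoPullback_hom_fst _
  have hΦ₂ : Φ.hom ≫ pullback.snd (WidePullback.base fun _ : Fin d => f) gS = base' := IsPullback.isoPullback_hom_snd _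
  let r' := Φ.hom ≫ r
  have hinv : ∀ σ : Equiv.Perm (Fin d), SymProd.permHom f' d σ ≫ r' = r' := fun σ => by
    have h1 : SymProd.permHom f' d σ ≫ Φ.hom = Φ.hom ≫ (ρ' ⟨σ⟩).hom := by
      apply pullback.hom_ext
      · rw [Category.assoc, hΦ₁, Category.assoc, (hρ' ⟨σ⟩).1, ← Category.assoc, hΦ₁,
          SymValue.permHom_comp c hcπ hcb]
      · rw [Category.assoc, hΦ₂, Category.assoc, (hρ' ⟨σ⟩).2, hΦ₂, SymProd.permHom_base]
    rw [← Category.assoc, h1, Category.assoc, hr.inv]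
  have hr'inj : ∀ P, Function.Injective (r'.app P).hom := fun P => by
    rw [Scheme.Hom.comp_app, CommRingCat.hom_comp, RingHom.coe_comp]
    exact (ConcreteCategory.bijective_of_isIso (Φ.hom.app (r ⁻¹ᵁ P))).1.comp (hr.injective P)
  haveI := SGA1Quot.surjective hr
  have hr's : Surjective r' := inferInstanceAs (Surjective (Φ.hom ≫ r))
  haveI := hr.affine
  haveI := hq.isQuot.affine
  haveI : IsAffineHom (r ≫ m) := by
    rw [hm]
    exact MorphismProperty.pullbackMap (P := @IsAffineHom) hq.isQuot.affine (inferInstance : IsAffineHom (𝟙 S'))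
      hq.over.symm (Category.id_comp gS).symm
  haveI : IsAffineHom m := SGA1Quot.isAffineHom_of_comp hr m
  let p := r' ≫ m
  haveI : IsAffineHom p := inferInstanceAs (IsAffineHom ((Φ.hom ≫ r) ≫ m))
  have hp₁ : p ≫ pullback.fst g gS = c ≫ q := by
    show ((Φ.hom ≫ r) ≫ m) ≫ _ = _
    rw [Category.assoc Φ.hom, hm, Category.assoc, pullback.lift_fst, ← Category.assoc, hΦ₁]
  have hp₂ : p ≫ pullback.snd g gS = base' := by
    show ((Φ.hom ≫ r) ≫ m) ≫ _ = _
    rw [Category.assoc Φ.hom, hm, Category.assoc, pullback.lift_snd, Category.comp_id, hΦ₂]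
  have hY := IsPullback.of_hasPullback g gS
  have hP := SymProdBC.isPullback_fibPow gS c hcπ hcb
  have data : ∀ (y : ↥(pullback g gS)), ∃ (V : S.Opens) (V' : S'.Opens) (W : Y.Opens), IsAffineOpen V ∧ IsAffineOpen V' ∧
      IsAffineOpen W ∧ V' ≤ gS ⁻¹ᵁ V ∧ W ≤ g ⁻¹ᵁ V ∧ y ∈ pullback.fst g gS ⁻¹ᵁ W ⊓ pullback.snd g gS ⁻¹ᵁ V' := by
    intro y
    obtain ⟨V, hV, hyV, -⟩ := exists_isAffineOpen_mem_and_subset (x := g (pullback.fst g gS y)) (U := (⊤ : S.Opens)) trivial
    obtain ⟨W, hW, hyW, eW⟩ := exists_isAffineOpen_mem_and_subset (x := pullback.fst g gS y) (U := g ⁻¹ᵁ V) hyV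
    obtain ⟨V', hV', hyV', eV⟩ := exists_isAffineOpen_mem_and_subset (x := pullback.snd g gS y) (U := gS ⁻¹ᵁ V) (by
      show gS (pullback.snd g gS y) ∈ V
      rw [← Scheme.Hom.comp_apply, ← pullback.condition, Scheme.Hom.comp_apply]
      exact hyV)
    exact ⟨V, V', W, hV, hV', hW, eV, eW, hyW, hyV'⟩
  have hbW : ∀ {V : S.Opens} {W : Y.Opens}, W ≤ g ⁻¹ᵁ V →
      q ⁻¹ᵁ W ≤ (WidePullback.base fun _ : Fin d => f) ⁻¹ᵁ V := fun {V W} eW => by
    rw [← hq.over, Scheme.Hom.comp_preimage]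
    exact q.preimage_mono eW
  have hΩ : ∀ (W : Y.Opens) (V' : S'.Opens), c ⁻¹ᵁ (q ⁻¹ᵁ W) ⊓ base' ⁻¹ᵁ V' =
      r' ⁻¹ᵁ (m ⁻¹ᵁ (pullback.fst g gS ⁻¹ᵁ W ⊓ pullback.snd g gS ⁻¹ᵁ V')) := fun W V' => by
    rw [← Scheme.Hom.comp_preimage r' m]
    show _ = p ⁻¹ᵁ (_ ⊓ _)
    rw [Scheme.Hom.preimage_inf, ← Scheme.Hom.comp_preimage p, hp₁, ← Scheme.Hom.comp_preimage p, hp₂,
      Scheme.Hom.comp_preimage]
  have hW'' : ∀ {V : S.Opens} {V' : S'.Opens} {W : Y.Opens}, IsAffineOpen V → IsAffineOpen V' → IsAffineOpen W →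
      V' ≤ gS ⁻¹ᵁ V → W ≤ g ⁻¹ᵁ V → IsAffineOpen (pullback.fst g gS ⁻¹ᵁ W ⊓ pullback.snd g gS ⁻¹ᵁ V') :=
    fun hV hV' hW eV eW => EGA43.InjFibre.isAffineOpen_inf_preimage hY hV hW hV' eW eV
  have hU' : ∀ {V : S.Opens} {V' : S'.Opens}, IsAffineOpen V → IsAffineOpen V' → (eV : V' ≤ gS ⁻¹ᵁ V) →
      ∀ U : X.Opens, IsAffineOpen U → U ≤ f ⁻¹ᵁ V →
      IsAffineOpen (pullback.fst f gS ⁻¹ᵁ U ⊓ f' ⁻¹ᵁ V') ∧
      (letI := (f'.appLE V' (pullback.fst f gS ⁻¹ᵁ U ⊓ f' ⁻¹ᵁ V') inf_le_right).hom.toAlgebra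
       Submodule.span Γ(S', V')
        (Set.range ((pullback.fst f gS).appLE U (pullback.fst f gS ⁻¹ᵁ U ⊓ f' ⁻¹ᵁ V') inf_le_left).hom) = ⊤) := by
    intro V V' hV hV' eV U hU eU
    have H := IsPullback.of_hasPullback f gS
    exact ⟨EGA43.InjFibre.isAffineOpen_inf_preimage H hV hU hV' eU eV,
      span_of_isPushout ((isIso_pushoutSection_iff H eV eU rfl).mp
        (isIso_pushoutSection_of_isAffineOpen H eV eU _ hV hV' hU))⟩
  have hzinv : ∀ {P : Y'.Opens} {O : (SymProd.fibPow f' d).Opens} (e : O ≤ r' ⁻¹ᵁ P) (s0 : Γ(Y', P))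
      (σ : Equiv.Perm (Fin d)) e', (SymProd.permHom f' d σ).appLE O O e' (r'.appLE P O e s0) = r'.appLE P O e s0 := by
    intro P O e s0 σ e'
    show (r'.appLE P O e ≫ (SymProd.permHom f' d σ).appLE O O e') s0 = _
    rw [Scheme.Hom.appLE_comp_appLE]
    exact congrArg (fun F : Γ(Y', P) ⟶ _ => F s0) (SGA1Quot.appLE_congr _ _ _ _ (hinv σ))
  have hrange : ∀ (W : Y.Opens) (s : Γ(SymProd.fibPow f d, q ⁻¹ᵁ W)),
      (letI := SGA1Quot.action hq.isQuot W; ∀ σ : ULift.{u} (Equiv.Perm (Fin d)), σ • s = s) →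
      s ∈ Set.range (q.app W).hom := fun W s hs =>
    (hq.isQuot.range_iff W s).2 fun σ => by
      have := hs σ⁻¹
      rw [SGA1Quot.action_smul hq.isQuot W] at this
      simp only [FEtQuot.act, inv_inv] at this
      exact this
  refine ⟨fun y => ?_, ?_⟩
  · -- residue fields
    obtain ⟨x, hx⟩ := hr's.surj y
    subst hx
    obtain ⟨V, V', W, hV, hV', hW, eV, eW, hy⟩ := data (m (r' x))
    have hxΩ : x ∈ c ⁻¹ᵁ (q ⁻¹ᵁ W) ⊓ base' ⁻¹ᵁ V' := (hΩ W V').ge hy
    let F : Subfield ((SymProd.fibPow f' d).residueField x) := (p.residueFieldMap x).hom.fieldRange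
    let W'' := pullback.fst g gS ⁻¹ᵁ W ⊓ pullback.snd g gS ⁻¹ᵁ V'
    have hval : ∀ s0, r'.residueFieldMap x (Y'.evaluation (m ⁻¹ᵁ W'') (r' x) hy s0) ∈ F := fun s0 => by
      rw [← SymValue.evaluation_appLE r' (hΩ W V').le x hxΩ s0]
      refine SymValue.value_mem c hcπ hcb hq.isQuot hV hV' eV hW (hbW eW) pullback.condition (hU' hV hV' eV) x hxΩ F
        (fun s hs => ?_) (fun t => mem_fieldRange_comp p (pullback.snd g gS) base' hp₂.symm x t) _
        (hzinv (hΩ W V').le s0)
      obtain ⟨a, rfl⟩ := hrange W s hs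
      rw [← SymValue.evaluation_appLE c inf_le_left x hxΩ]
      refine ⟨(pullback g gS).evaluation W'' (p x) hy ((pullback.fst g gS).appLE W W'' inf_le_left a), ?_⟩
      rw [← SymValue.evaluation_appLE p (hΩ W V').le x hxΩ]
      refine congrArg ((SymProd.fibPow f' d).evaluation _ x hxΩ).hom ?_
      show ((pullback.fst g gS).appLE W W'' _ ≫ p.appLE W'' _ _) a = (q.app W ≫ c.appLE (q ⁻¹ᵁ W) _ _) a
      rw [Scheme.Hom.app_eq_appLE, Scheme.Hom.appLE_comp_appLE, Scheme.Hom.appLE_comp_appLE]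
      exact congrArg (fun F : Γ(Y, W) ⟶ _ => F a) (SGA1Quot.appLE_congr _ _ _ _ hp₁)
    refine (ConcreteCategory.isIso_iff_bijective _).2 ⟨(m.residueFieldMap (r' x)).hom.injective, fun t => ?_⟩
    obtain ⟨s1, s2, hs2, hts⟩ := SGA1Quot.exists_evaluation_div ((hW'' hV hV' hW eV eW).preimage m) hy t
    have h1 := congrArg (r'.residueFieldMap x).hom hts
    rw [map_mul] at h1
    have hne : r'.residueFieldMap x (Y'.evaluation (m ⁻¹ᵁ W'') (r' x) hy s2) ≠ 0 := fun h0 =>
      hs2 ((r'.residueFieldMap x).hom.injective (h0.trans (map_zero _).symm))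
    have h2 : r'.residueFieldMap x t ∈ F := by
      have h3 := F.mul_mem (hval s1) (F.inv_mem (hval s2))
      rw [← h1, mul_assoc, mul_inv_cancel₀ hne, mul_one] at h3
      exact h3
    obtain ⟨k, hk⟩ := h2
    exact ⟨k, (r'.residueFieldMap x).hom.injective ((residueFieldMap_comp_apply r' m x k).symm.trans hk)⟩
  -- the charts
  choose V V' W hV hV' hW eV eW hy using data
  let W'' : ↥(pullback g gS) → (pullback g gS).affineOpens := fun y =>
    ⟨_, hW'' (hV y) (hV' y) (hW y) (eV y) (eW y)⟩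
  have hcov : ⨆ y, (W'' y).1 = ⊤ := eq_top_iff.2 fun y _ => TopologicalSpace.Opens.mem_iSup.2 ⟨y, hy y⟩
  let Ω' : ↥(pullback g gS) → (SymProd.fibPow f' d).Opens := fun y => c ⁻¹ᵁ (q ⁻¹ᵁ W y) ⊓ base' ⁻¹ᵁ V' y
  have hΩe : ∀ y, Ω' y ≤ p ⁻¹ᵁ (W'' y).1 := fun y => (hΩ _ _).le
  have hmp : ∀ y a, r'.appLE (m ⁻¹ᵁ (W'' y).1) (Ω' y) (hΩ _ _).le (m.app (W'' y).1 a) =
      p.appLE (W'' y).1 (Ω' y) (hΩe y) a := fun y a => by
    show (m.app (W'' y).1 ≫ r'.appLE _ _ _) a = _
    rw [Scheme.Hom.app_eq_appLE, Scheme.Hom.appLE_comp_appLE]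
  have hclosed : (∀ y s0, ∃ a, p.appLE (W'' y).1 (Ω' y) (hΩe y) a = r'.appLE (m ⁻¹ᵁ (W'' y).1) (Ω' y) (hΩ _ _).le s0) →
      IsClosedImmersion m := fun H => by
    refine HasAffineProperty.of_iSup_eq_top (P := @IsClosedImmersion) W'' hcov fun y => ⟨(W'' y).2.preimage m, ?_⟩
    rw [morphismRestrict_appTop]
    have key : ∀ O : (pullback g gS).Opens, O = (W'' y).1 → Function.Surjective (m.app O).hom := by
      rintro O rfl s0
      obtain ⟨a, ha⟩ := H y s0
      exact ⟨a, appLE_injective r' (hr'inj _) _ (hΩ _ _) (hΩ _ _).le ((hmp y a).trans ha)⟩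
    intro t
    obtain ⟨t', rfl⟩ := (ConcreteCategory.bijective_of_isIso
      (Y'.presheaf.map (eqToHom (image_morphismRestrict_preimage m (W'' y).1 ⊤)).op)).2 t
    obtain ⟨a, rfl⟩ := key _ (Scheme.Opens.ι_image_top _) t'
    exact ⟨a, rfl⟩
  refine ⟨fun hchar => ?_, fun hflat => hclosed fun y s0 => ?_⟩
  · have both : ∀ y, Function.Injective (p.appLE (W'' y).1 (Ω' y) (hΩe y)).hom ∧
        ∀ s0, ∃ a, p.appLE (W'' y).1 (Ω' y) (hΩe y) a = r'.appLE (m ⁻¹ᵁ (W'' y).1) (Ω' y) (hΩ _ _).le s0 := by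
      intro y
      have hpY := (isIso_pushoutSection_iff hY (eV y) (eW y) (rfl : (W'' y).1 = _)).mp
        (isIso_pushoutSection_of_isAffineOpen hY (eV y) (eW y) _ (hV y) (hV' y) (hW y))
      have hpP := (isIso_pushoutSection_iff hP (eV y) (hbW (eW y)) (rfl : Ω' y = _)).mp
        (isIso_pushoutSection_of_isAffineOpen hP (eV y) (hbW (eW y)) _ (hV y) (hV' y) ((hW y).preimage q))
      have hperm : ∀ σ : ULift.{u} (Equiv.Perm (Fin d)), q ⁻¹ᵁ W y ≤ SymProd.permHom f d σ.down⁻¹ ⁻¹ᵁ (q ⁻¹ᵁ W y) :=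
        fun σ => SGA1.preimage_le_of_inv (SymProd.permActU f d) q hq.isQuot.inv σ⁻¹ (W y)
      obtain ⟨hi, hs⟩ := SymProdBC.injective_and_invariants_of_isPushout hpY hpP (q.appLE (W y) (q ⁻¹ᵁ W y) le_rfl)
        (by rw [Scheme.Hom.appLE_comp_appLE]; exact SGA1Quot.appLE_congr _ _ _ _ hq.over)
        (p.appLE (W'' y).1 (Ω' y) (hΩe y))
        (by rw [Scheme.Hom.appLE_comp_appLE, Scheme.Hom.appLE_comp_appLE]; exact SGA1Quot.appLE_congr _ _ _ _ hp₁)
        (by rw [Scheme.Hom.appLE_comp_appLE]; exact SGA1Quot.appLE_congr _ _ _ _ hp₂)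
        (fun σ : ULift.{u} (Equiv.Perm (Fin d)) => (SymProd.permHom f d σ.down⁻¹).appLE _ _ (hperm σ))
        (fun σ => (SymProd.permHom f' d σ.down⁻¹).appLE _ _ (SymValue.le_preimage_perm c hcπ hcb _ (hperm σ)))
        (fun σ => by rw [Scheme.Hom.appLE_comp_appLE]; exact SGA1Quot.appLE_congr _ _ _ _ (SymProd.permHom_base f d _))
        (fun σ => by
          rw [Scheme.Hom.appLE_comp_appLE, Scheme.Hom.appLE_comp_appLE]
          exact SGA1Quot.appLE_congr _ _ _ _ (SymValue.permHom_comp c hcπ hcb _))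
        (fun σ => by rw [Scheme.Hom.appLE_comp_appLE]; exact SGA1Quot.appLE_congr _ _ _ _ (SymProd.permHom_base f' d _))
        (by
          letI := (g.appLE (V y) (W y) (eW y)).hom.toAlgebra
          letI := ((WidePullback.base fun _ : Fin d => f).appLE (V y) (q ⁻¹ᵁ W y) (hbW (eW y))).hom.toAlgebra
          letI := (gS.appLE (V y) (V' y) (eV y)).hom.toAlgebra
          letI := SGA1Quot.action hq.isQuot (W y)
          intro qL hqL σL hσL
          have happ : ∀ b, qL b = (q.app (W y)).hom b := fun b => by rw [hqL, Scheme.Hom.app_eq_appLE]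
          have hsm : ∀ (σ : ULift.{u} (Equiv.Perm (Fin d))) c0, σL σ c0 = σ • c0 := fun σ c0 => by
            rw [hσL, SGA1Quot.action_smul hq.isQuot (W y) σ c0]
            simp only [FEtQuot.act]
            rfl
          refine key_of_isUnit ?_ qL (fun a b h => hq.isQuot.injective _ (by rw [← happ, ← happ, h])) σL
            (fun σ b => ?_) (fun c0 => ?_)
          · have := (hchar _ (Fintype.card_pos (α := ULift.{u} (Equiv.Perm (Fin d))))).map
              (S'.presheaf.map (homOfLE le_top : V' y ⟶ ⊤).op).hom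
            rwa [map_natCast] at this
          · rw [hsm, happ, SGA1Quot.action_smul hq.isQuot (W y)]
            exact (hq.isQuot.range_iff (W y) _).1 ⟨b, rfl⟩ σ⁻¹
          · obtain ⟨a, ha⟩ := hrange (W y) (∑ σ : ULift.{u} (Equiv.Perm (Fin d)), σ • c0) fun σ => by
              rw [Finset.smul_sum]
              exact Fintype.sum_equiv (Equiv.mulLeft σ) _ _ fun τ => (mul_smul σ τ c0).symm
            exact ⟨a, (happ a).trans (ha.trans (Finset.sum_congr rfl fun σ _ => (hsm σ c0).symm))⟩)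
      exact ⟨hi, fun s0 => hs _ fun σ => hzinv (hΩ _ _).le s0 _ _⟩
    haveI := hclosed fun y => (both y).2
    rw [IsClosedImmersion.isIso_iff_ker_eq_bot]
    refine Scheme.IdealSheafData.ext_of_iSup_eq_top W'' hcov fun y => ?_
    rw [Scheme.Hom.ker_apply, Scheme.IdealSheafData.ideal_bot, Pi.bot_apply, ← RingHom.injective_iff_ker_eq_bot]
    intro a a' ha
    refine (both y).1 ?_
    show p.appLE _ _ (hΩe y) a = p.appLE _ _ (hΩe y) a'
    rw [← hmp, ← hmp]
    exact congrArg (r'.appLE (m ⁻¹ᵁ (W'' y).1) (Ω' y) (hΩ _ _).le).hom ha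
  · haveI : Flat f' := hflat
    letI := SGA1Quot.action hq.isQuot (W y)
    letI := (base'.appLE (V' y) (Ω' y) inf_le_right).hom.toAlgebra
    have hmem := SymValue.inv_mem_span c hcπ hcb hq.isQuot (hV y) (hV' y) (eV y) (hW y) (hbW (eW y)) pullback.condition
      (hU' (hV y) (hV' y) (eV y)) ((hΩ _ _).symm ▸ (W'' y).2.preimage p) _ (hzinv (hΩ _ _).le s0)
    refine Submodule.span_induction (p := fun z _ => ∃ a, p.appLE (W'' y).1 (Ω' y) (hΩe y) a = z) ?_ ⟨0, map_zero _⟩ ?_ ?_ hmem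
    · rintro z ⟨s, hs, rfl⟩
      obtain ⟨a, rfl⟩ := hrange (W y) s hs
      refine ⟨(pullback.fst g gS).appLE (W y) (W'' y).1 inf_le_left a, ?_⟩
      show ((pullback.fst g gS).appLE (W y) (W'' y).1 _ ≫ p.appLE _ _ _) a = (q.app (W y) ≫ c.appLE (q ⁻¹ᵁ W y) _ _) a
      rw [Scheme.Hom.app_eq_appLE, Scheme.Hom.appLE_comp_appLE, Scheme.Hom.appLE_comp_appLE]
      exact congrArg (fun F : Γ(Y, W y) ⟶ _ => F a) (SGA1Quot.appLE_congr _ _ _ _ hp₁)
    · rintro z z' _ _ ⟨a, rfl⟩ ⟨a', rfl⟩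
      exact ⟨a + a', map_add _ _ _⟩
    · rintro t z _ ⟨a, rfl⟩
      refine ⟨(pullback.snd g gS).appLE (V' y) (W'' y).1 inf_le_right t * a, ?_⟩
      rw [map_mul, Algebra.smul_def]
      congr 1
      show ((pullback.snd g gS).appLE (V' y) (W'' y).1 _ ≫ p.appLE _ _ _) t = _
      rw [Scheme.Hom.appLE_comp_appLE]
      exact congrArg (fun F : Γ(S', V' y) ⟶ _ => F t) (SGA1Quot.appLE_congr _ _ _ _ hp₂)


end Groth.Agent.S13393
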