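import Groth.Statements.S13394
import Groth.Agent.AGFQuot23.SymValue
import Groth.Agent.SGA1Quot.ResidueField

set_option linter.style.haveILetI false
set_option backward.isDefEq.respectTransparency false
set_option backward.isDefEq.respectTransparency.types false
set_option maxHeartbeats 1000000

set_option autoImplicit false
universe u
open CategoryTheory CategoryTheory.Limits AlgebraicGeometry
open ZeroCyc

open Groth.Agent.AGFQuot23

namespace Groth.Agent.S13394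

theorem appLE_surjective {A B : Scheme.{u}} (i : A ⟶ B) [IsClosedImmersion i] {U : B.Opens} (hU : IsAffineOpen U)
    (O : A.Opens) (hO : O = i ⁻¹ᵁ U) (e : O ≤ i ⁻¹ᵁ U) : Function.Surjective (i.appLE U O e).hom := by
  subst hO
  rw [← Scheme.Hom.app_eq_appLE]
  exact i.app_surjective U hU

theorem appLE_injective {A B : Scheme.{u}} (r : A ⟶ B) {P : B.Opens} (hP : Function.Injective (r.app P).hom)
    (O : A.Opens) (hO : O = r ⁻¹ᵁ P) (e : O ≤ r ⁻¹ᵁ P) : Function.Injective (r.appLE P O e).hom := by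
  subst hO
  rw [← Scheme.Hom.app_eq_appLE]
  exact hP

theorem residueFieldMap_comp_apply {A B C : Scheme.{u}} (h : A ⟶ B) (g : B ⟶ C) (x : A) (t : C.residueField ((h ≫ g) x)) :
    (h ≫ g).residueFieldMap x t = h.residueFieldMap x (g.residueFieldMap (h x) t) := by
  rw [Scheme.residueFieldMap_comp]
  rfl

theorem surjective_of_comp {A B C : Scheme.{u}} (h : A ⟶ B) (g : B ⟶ C) (x : A)
    (hs : Function.Surjective ((h ≫ g).residueFieldMap x).hom) (t : A.residueField x) :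
    ∃ a, h.residueFieldMap x a = t := by
  obtain ⟨k, hk⟩ := hs t
  exact ⟨_, (residueFieldMap_comp_apply h g x k).symm.trans hk⟩

theorem mem_fieldRange_comp {A B C : Scheme.{u}} (h : A ⟶ B) (g : B ⟶ C) (k : A ⟶ C) (e : k = h ≫ g) (x : A)
    (t : C.residueField (k x)) : k.residueFieldMap x t ∈ (h.residueFieldMap x).hom.fieldRange := by
  subst e
  rw [Scheme.residueFieldMap_comp]
  exact ⟨g.residueFieldMap (h x) t, rfl⟩


/-- Scheme case. Let f : X → S be separated, let (Y, q, g) be a d-th symmetric product of X over S (q :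
(X/S)^d → Y a quotient of the d-fold fibre product by the symmetric group, g : Y → S), let i : Z → X
be a closed immersion and (W, r, g_W) a d-th symmetric product of Z over S, let q((Z/S)^d) ⊆ Y be
the scheme-theoretic image of the composite (Z/S)^d → (X/S)^d → Y, and let m : W → q((Z/S)^d) be the
morphism through which that composite factors via r. Then m induces an isomorphism on residue fields
at every point of W (trivial residue field extensions); if every positive integer is invertible in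
Γ(S, O_S) then m is an isomorphism; and if Z → S is flat then m is a closed immersion. (The
published statement is for X a separated algebraic space over S; this row is the case of schemes in
which both symmetric products exist as schemes, taken as hypotheses, and leaves the
universal-homeomorphism clause to the general finite-group statement.) -/
theorem result {X Z S Y W : Scheme.{u}} (f : X ⟶ S) [IsSeparated f] (d : ℕ)
    (q : SymProd.fibPow f d ⟶ Y) (g : Y ⟶ S) (hq : SymProd.IsSymProd f d q g)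
    (i : Z ⟶ X) [IsClosedImmersion i]
    (r : SymProd.fibPow (i ≫ f) d ⟶ W) (gW : W ⟶ S) (hr : SymProd.IsSymProd (i ≫ f) d r gW)
    (m : W ⟶ (SymProd.fibPowMap (i ≫ f) d f i rfl ≫ q).ker.subscheme)
    (hm : r ≫ m ≫ (SymProd.fibPowMap (i ≫ f) d f i rfl ≫ q).ker.subschemeι =
      SymProd.fibPowMap (i ≫ f) d f i rfl ≫ q) :
    (∀ w : W, IsIso (m.residueFieldMap w)) ∧
    ((∀ n : ℕ, 0 < n → IsUnit ((n : ℕ) : Γ(S, ⊤))) → IsIso m) ∧
    (Flat (i ≫ f) → IsClosedImmersion m) := by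
  classical
  let c := SymProd.fibPowMap (i ≫ f) d f i rfl
  let μ := m ≫ (SymProd.fibPowMap (i ≫ f) d f i rfl ≫ q).ker.subschemeι
  have hrμ : r ≫ μ = c ≫ q := hm
  haveI : IsClosedImmersion c := SymChart.isClosedImmersion_fibPowMap f i d
  haveI := hq.isQuot.affine
  haveI := hr.isQuot.affine
  haveI : IsAffineHom (r ≫ μ) := by rw [hrμ]; infer_instance
  haveI : IsAffineHom μ := SGA1Quot.isAffineHom_of_comp hr.isQuot μ
  have hcπ : ∀ j : Fin d, c ≫ WidePullback.π (fun _ => f) j = WidePullback.π (fun _ => i ≫ f) j ≫ i := fun j =>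
    SymProd.fibPowMap_π _ _ _ _ _ j
  have hcb : c ≫ WidePullback.base (fun _ => f) = WidePullback.base (fun _ : Fin d => i ≫ f) ≫ 𝟙 S := by
    rw [SymProd.fibPowMap_base, Category.comp_id]
  have hbase : (WidePullback.base fun _ : Fin d => i ≫ f) = (r ≫ μ) ≫ g := by
    rw [hrμ, Category.assoc, hq.over, SymProd.fibPowMap_base]
  have hU' : ∀ (V : S.Opens) (U : X.Opens), IsAffineOpen U → U ≤ f ⁻¹ᵁ V →
      IsAffineOpen (i ⁻¹ᵁ U ⊓ (i ≫ f) ⁻¹ᵁ V) ∧
      (letI := ((i ≫ f).appLE V (i ⁻¹ᵁ U ⊓ (i ≫ f) ⁻¹ᵁ V) inf_le_right).hom.toAlgebra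
       Submodule.span Γ(S, V) (Set.range (i.appLE U (i ⁻¹ᵁ U ⊓ (i ≫ f) ⁻¹ᵁ V) inf_le_left).hom) = ⊤) := by
    intro V U hU eU
    have h1 : i ⁻¹ᵁ U ⊓ (i ≫ f) ⁻¹ᵁ V = i ⁻¹ᵁ U := inf_eq_left.2 (i.preimage_mono eU)
    refine ⟨h1.symm ▸ hU.preimage i, ?_⟩
    let := ((i ≫ f).appLE V (i ⁻¹ᵁ U ⊓ (i ≫ f) ⁻¹ᵁ V) inf_le_right).hom.toAlgebra
    show Submodule.span Γ(S, V) (Set.range (i.appLE U (i ⁻¹ᵁ U ⊓ (i ≫ f) ⁻¹ᵁ V) inf_le_left).hom) = ⊤
    rw [(appLE_surjective i hU _ h1 _).range_eq, Submodule.span_univ]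
  -- the chart data over a small affine open of `Y`
  have data : ∀ (V : S.Opens) (Wo : Y.Opens) (eW : Wo ≤ g ⁻¹ᵁ V),
      q ⁻¹ᵁ Wo ≤ (WidePullback.base fun _ : Fin d => f) ⁻¹ᵁ V ∧
      c ⁻¹ᵁ (q ⁻¹ᵁ Wo) ⊓ (WidePullback.base fun _ : Fin d => i ≫ f) ⁻¹ᵁ V = r ⁻¹ᵁ (μ ⁻¹ᵁ Wo) ∧
      c ⁻¹ᵁ (q ⁻¹ᵁ Wo) ⊓ (WidePullback.base fun _ : Fin d => i ≫ f) ⁻¹ᵁ V = c ⁻¹ᵁ (q ⁻¹ᵁ Wo) := by
    intro V Wo eW
    have hb : q ⁻¹ᵁ Wo ≤ (WidePullback.base fun _ : Fin d => f) ⁻¹ᵁ V := by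
      rw [← hq.over, Scheme.Hom.comp_preimage]
      exact q.preimage_mono eW
    have h1 : c ⁻¹ᵁ (q ⁻¹ᵁ Wo) ⊓ (WidePullback.base fun _ : Fin d => i ≫ f) ⁻¹ᵁ V = c ⁻¹ᵁ (q ⁻¹ᵁ Wo) := by
      refine inf_eq_left.2 ?_
      rw [← SymProd.fibPowMap_base (i ≫ f) d f i rfl, Scheme.Hom.comp_preimage]
      exact c.preimage_mono hb
    refine ⟨hb, ?_, h1⟩
    rw [h1, ← Scheme.Hom.comp_preimage, ← Scheme.Hom.comp_preimage, hrμ]
  have hinvr : ∀ {V : S.Opens} {Wo : Y.Opens} (e : c ⁻¹ᵁ (q ⁻¹ᵁ Wo) ⊓ (WidePullback.base fun _ : Fin d => i ≫ f) ⁻¹ᵁ V ≤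
      r ⁻¹ᵁ (μ ⁻¹ᵁ Wo)) (s0 : Γ(W, μ ⁻¹ᵁ Wo)) (σ : Equiv.Perm (Fin d)) e', (SymProd.permHom (i ≫ f) d σ).appLE _ _ e'
        (r.appLE (μ ⁻¹ᵁ Wo) (c ⁻¹ᵁ (q ⁻¹ᵁ Wo) ⊓ (WidePullback.base fun _ : Fin d => i ≫ f) ⁻¹ᵁ V) e s0) =
        r.appLE _ _ e s0 := by
    intro V Wo e s0 σ e'
    show (r.appLE _ _ e ≫ (SymProd.permHom (i ≫ f) d σ).appLE _ _ e') s0 = _
    rw [Scheme.Hom.appLE_comp_appLE]
    exact congrArg (fun F : Γ(W, μ ⁻¹ᵁ Wo) ⟶ _ => F s0) (SGA1Quot.appLE_congr _ _ _ _ (hr.isQuot.inv ⟨σ⟩))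
  refine ⟨fun w => ?_, ?_⟩
  · -- residue fields
    obtain ⟨x, hx⟩ := (SGA1Quot.surjective hr.isQuot).surj w
    subst hx
    obtain ⟨V, hV, hyV, -⟩ := exists_isAffineOpen_mem_and_subset (x := g (μ (r x))) (U := (⊤ : S.Opens)) trivial
    obtain ⟨Wo, hW, hyW, eW⟩ := exists_isAffineOpen_mem_and_subset (x := μ (r x)) (U := g ⁻¹ᵁ V) hyV
    obtain ⟨hb, hΩr, -⟩ := data V Wo eW
    have hxΩ : x ∈ c ⁻¹ᵁ (q ⁻¹ᵁ Wo) ⊓ (WidePullback.base fun _ : Fin d => i ≫ f) ⁻¹ᵁ V := hΩr.ge hyW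
    let F : Subfield ((SymProd.fibPow (i ≫ f) d).residueField x) := ((r ≫ μ).residueFieldMap x).hom.fieldRange
    have hval : ∀ s0, r.residueFieldMap x (Scheme.evaluation _ (μ ⁻¹ᵁ Wo) (r x) hyW s0) ∈ F := fun s0 => by
      rw [← SymValue.evaluation_appLE r hΩr.le x hxΩ s0]
      refine SymValue.value_mem c hcπ hcb hq.isQuot hV hV le_rfl hW hb (Category.comp_id _).symm (hU' V) x hxΩ F
        (fun s hs => ?_) (fun t => mem_fieldRange_comp (r ≫ μ) g _ hbase x t) _ (hinvr hΩr.le s0)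
      obtain ⟨a, rfl⟩ := (hq.isQuot.range_iff Wo s).2 fun σ => by
        have := hs σ⁻¹
        rw [SGA1Quot.action_smul hq.isQuot Wo] at this
        simp only [FEtQuot.act, inv_inv] at this
        exact this
      rw [← SymValue.evaluation_appLE c inf_le_left x hxΩ]
      refine ⟨Scheme.evaluation _ Wo ((r ≫ μ) x) hyW a, ?_⟩
      rw [← SymValue.evaluation_appLE (r ≫ μ) hΩr.le x hxΩ a]
      refine congrArg ((SymProd.fibPow (i ≫ f) d).evaluation _ x hxΩ).hom ?_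
      show (r ≫ μ).appLE Wo _ _ a = (q.app Wo ≫ c.appLE (q ⁻¹ᵁ Wo) _ _) a
      rw [Scheme.Hom.app_eq_appLE, Scheme.Hom.appLE_comp_appLE]
      exact congrArg (fun F : Γ(Y, Wo) ⟶ _ => F a) (SGA1Quot.appLE_congr _ _ _ _ hrμ)
    have hsurj : Function.Surjective (μ.residueFieldMap (r x)).hom := fun t => by
      obtain ⟨s1, s2, hs2, hts⟩ := SGA1Quot.exists_evaluation_div (hW.preimage μ) hyW t
      have h1 := congrArg (r.residueFieldMap x).hom hts
      rw [map_mul] at h1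
      have h2 : r.residueFieldMap x t ∈ F := by
        have hne : r.residueFieldMap x (Scheme.evaluation _ (μ ⁻¹ᵁ Wo) (r x) hyW s2) ≠ 0 := fun h0 =>
          hs2 ((r.residueFieldMap x).hom.injective (h0.trans (map_zero _).symm))
        have h3 := F.mul_mem (hval s1) (F.inv_mem (hval s2))
        rw [← h1, mul_assoc, mul_inv_cancel₀ hne, mul_one] at h3
        exact h3
      obtain ⟨k, hk⟩ := h2
      refine ⟨k, (r.residueFieldMap x).hom.injective ?_⟩
      rw [← hk]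
      exact (residueFieldMap_comp_apply r μ x k).symm
    refine (ConcreteCategory.isIso_iff_bijective _).2 ⟨(m.residueFieldMap (r x)).hom.injective, fun t => ?_⟩
    exact surjective_of_comp m _ (r x) hsurj t
  -- surjectivity on affine opens
  have hcl : (Flat (i ≫ f) ∨ ∀ n : ℕ, 0 < n → IsUnit ((n : ℕ) : Γ(S, ⊤))) → IsClosedImmersion μ := by
    intro hcase
    have chart : ∀ y : Y, ∃ Wo : Y.affineOpens, y ∈ Wo.1 ∧ Function.Surjective (μ.app Wo.1).hom := by
      intro y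
      obtain ⟨V, hV, hyV, -⟩ := exists_isAffineOpen_mem_and_subset (x := g y) (U := (⊤ : S.Opens)) trivial
      obtain ⟨Wo, hW, hyW, eW⟩ := exists_isAffineOpen_mem_and_subset (x := y) (U := g ⁻¹ᵁ V) hyV
      refine ⟨⟨Wo, hW⟩, hyW, fun s0 => ?_⟩
      obtain ⟨hb, hΩr, hΩc⟩ := data V Wo eW
      let z := r.appLE (μ ⁻¹ᵁ Wo) _ hΩr.le s0
      suffices ∃ a : Γ(Y, Wo), c.appLE (q ⁻¹ᵁ Wo) _ inf_le_left (q.app Wo a) = z by
        obtain ⟨a, ha⟩ := this
        refine ⟨a, appLE_injective r (hr.isQuot.injective _) _ hΩr hΩr.le (ha ▸ ?_ : r.appLE _ _ hΩr.le _ = z)⟩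
        show (μ.app Wo ≫ r.appLE (μ ⁻¹ᵁ Wo) _ _) a = (q.app Wo ≫ c.appLE (q ⁻¹ᵁ Wo) _ _) a
        rw [Scheme.Hom.app_eq_appLE, Scheme.Hom.app_eq_appLE, Scheme.Hom.appLE_comp_appLE, Scheme.Hom.appLE_comp_appLE]
        exact congrArg (fun F : Γ(Y, Wo) ⟶ _ => F a) (SGA1Quot.appLE_congr _ _ _ _ hrμ)
      letI := SGA1Quot.action hq.isQuot Wo
      have hrange : ∀ s : Γ(SymProd.fibPow f d, q ⁻¹ᵁ Wo),
          (∀ σ : ULift.{u} (Equiv.Perm (Fin d)), σ • s = s) → ∃ a, q.app Wo a = s := fun s hs =>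
        (hq.isQuot.range_iff Wo s).2 fun σ => by
          have := hs σ⁻¹
          rw [SGA1Quot.action_smul hq.isQuot Wo] at this
          simp only [FEtQuot.act, inv_inv] at this
          exact this
      rcases hcase with hflat | hchar
      · letI := ((WidePullback.base fun _ : Fin d => i ≫ f).appLE V
          (c ⁻¹ᵁ (q ⁻¹ᵁ Wo) ⊓ (WidePullback.base fun _ : Fin d => i ≫ f) ⁻¹ᵁ V) inf_le_right).hom.toAlgebra
        have hmem := SymValue.inv_mem_span c hcπ hcb hq.isQuot hV hV le_rfl hW hb (Category.comp_id _).symm (hU' V)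
          (hΩc.symm ▸ (hW.preimage q).preimage c) z (hinvr hΩr.le s0)
        refine Submodule.span_induction (p := fun y _ => ∃ a : Γ(Y, Wo), c.appLE (q ⁻¹ᵁ Wo) _ inf_le_left (q.app Wo a) = y)
          ?_ ⟨0, by rw [map_zero, map_zero]⟩ ?_ ?_ hmem
        · rintro y ⟨s, hs, rfl⟩
          obtain ⟨a, rfl⟩ := hrange s hs
          exact ⟨a, rfl⟩
        · rintro y y' _ _ ⟨a, rfl⟩ ⟨a', rfl⟩
          exact ⟨a + a', by rw [map_add, map_add]⟩
        · rintro t y _ ⟨a, rfl⟩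
          refine ⟨g.appLE V Wo eW t * a, ?_⟩
          rw [map_mul, map_mul, Algebra.smul_def]
          congr 1
          show (g.appLE V Wo eW ≫ q.app Wo ≫ c.appLE (q ⁻¹ᵁ Wo) _ _) t = _
          rw [Scheme.Hom.app_eq_appLE, Scheme.Hom.appLE_comp_appLE, Scheme.Hom.appLE_comp_appLE]
          refine congrArg (fun F : Γ(S, V) ⟶ _ => F t) (SGA1Quot.appLE_congr _ _ _ _ ?_)
          rw [Category.assoc, hq.over, SymProd.fibPowMap_base]
      · obtain ⟨cc, hcc⟩ := appLE_surjective c (hW.preimage q) _ hΩc inf_le_left z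
        obtain ⟨a₀, ha₀⟩ := hrange (∑ σ : ULift.{u} (Equiv.Perm (Fin d)), σ • cc) fun σ => by
          rw [Finset.smul_sum]
          exact Fintype.sum_equiv (Equiv.mulLeft σ) _ _ fun τ => (mul_smul σ τ cc).symm
        have hu := (hchar _ (Fintype.card_pos (α := ULift.{u} (Equiv.Perm (Fin d))))).map
          (g.appLE ⊤ Wo le_top).hom
        rw [map_natCast] at hu
        obtain ⟨v, hv⟩ := hu.exists_left_inv
        refine ⟨v * a₀, ?_⟩
        have hsum : c.appLE (q ⁻¹ᵁ Wo) _ inf_le_left (q.app Wo a₀) =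
            (Fintype.card (ULift.{u} (Equiv.Perm (Fin d))) : Γ(SymProd.fibPow (i ≫ f) d, _)) * z := by
          have key : ∀ σ : ULift.{u} (Equiv.Perm (Fin d)), c.appLE (q ⁻¹ᵁ Wo)
              (c ⁻¹ᵁ (q ⁻¹ᵁ Wo) ⊓ (WidePullback.base fun _ : Fin d => i ≫ f) ⁻¹ᵁ V) inf_le_left (σ • cc) = z := fun σ => ?_
          · rw [ha₀, map_sum, Finset.sum_congr rfl (fun σ _ => key σ), Finset.sum_const, nsmul_eq_mul, Finset.card_univ]
          have hp : q ⁻¹ᵁ Wo ≤ SymProd.permHom f d σ.down⁻¹ ⁻¹ᵁ (q ⁻¹ᵁ Wo) :=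
            SGA1.preimage_le_of_inv (SymProd.permActU f d) q hq.isQuot.inv σ⁻¹ Wo
          rw [SGA1Quot.action_smul hq.isQuot Wo]
          simp only [FEtQuot.act]
          refine (SymValue.appLE_perm c hcπ hcb _ inf_le_left hp (SymValue.le_preimage_perm c hcπ hcb _ hp) cc).symm.trans ?_
          rw [hcc]
          exact hinvr hΩr.le s0 _ _
        rw [map_mul, map_mul, hsum, ← mul_assoc, ← map_natCast ((c.appLE _ _ inf_le_left).hom.comp (q.app Wo).hom),
          RingHom.comp_apply, ← map_mul, ← map_mul, hv, map_one, map_one, one_mul]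
    choose Wo hyW hWs using chart
    refine HasAffineProperty.of_iSup_eq_top (P := @IsClosedImmersion) Wo
      (eq_top_iff.2 fun y _ => TopologicalSpace.Opens.mem_iSup.2 ⟨y, hyW y⟩) fun y => ?_
    refine ⟨((Wo y).2.preimage μ), ?_⟩
    rw [morphismRestrict_appTop]
    have key : ∀ O : Y.Opens, O = (Wo y).1 → Function.Surjective (μ.app O).hom := fun O hO => hO ▸ hWs y
    intro t
    obtain ⟨t', rfl⟩ := (ConcreteCategory.bijective_of_isIso
      (W.presheaf.map (eqToHom (image_morphismRestrict_preimage μ (Wo y).1 ⊤)).op)).2 t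
    obtain ⟨a, rfl⟩ := key _ (Scheme.Opens.ι_image_top _) t'
    exact ⟨a, rfl⟩
  refine ⟨fun hchar => ?_, fun hflat => ?_⟩
  · haveI := hcl (Or.inr hchar)
    refine IsClosedImmersion.isIso_of_ker_eq μ (SymProd.fibPowMap (i ≫ f) d f i rfl ≫ q).ker.subschemeι m rfl ?_
    rw [Scheme.IdealSheafData.ker_subschemeι]
    refine le_antisymm (hrμ ▸ Scheme.Hom.le_ker_comp r μ) ?_
    refine fun U t ht => ?_
    rw [Scheme.Hom.ker_apply, RingHom.mem_ker] at ht ⊢
    refine hr.isQuot.injective _ ?_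
    rw [map_zero]
    have := ht
    rw [Scheme.Hom.congr_app hrμ.symm U] at this
    simp only [Scheme.Hom.comp_app, CommRingCat.comp_apply] at this
    exact (map_eq_zero_iff _ (ConcreteCategory.bijective_of_isIso ((SymProd.fibPow (i ≫ f) d).presheaf.map (eqToHom _).op)).injective).1 this
  · haveI := hcl (Or.inl hflat)
    exact IsClosedImmersion.of_comp m (SymProd.fibPowMap (i ≫ f) d f i rfl ≫ q).ker.subschemeι

end Groth.Agent.S13394
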