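import Groth.Statements.S13395
import Groth.Agent.AGFQuot23.SymLocal
import Groth.Agent.AGFQuot23.SymProdBC

set_option linter.style.haveILetI false
set_option backward.isDefEq.respectTransparency false
set_option backward.isDefEq.respectTransparency.types false
set_option maxHeartbeats 1000000

set_option autoImplicit false
universe u
open CategoryTheory CategoryTheory.Limits AlgebraicGeometry
open ZeroCyc

open scoped TensorProduct
open Groth.Agent.AGFQuot23

namespace Groth.Agent.S13395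

theorem descend {R B B' C C' BB CC : CommRingCat.{u}} {β : R ⟶ B} {β' : R ⟶ B'} {tB : B ⟶ BB} {sB : B' ⟶ BB}
    (hB : IsPushout β β' tB sB) {γ : R ⟶ C} {γ' : R ⟶ C'} {tC : C ⟶ CC} {sC : C' ⟶ CC}
    (hC : IsPushout γ γ' tC sC) (q : B ⟶ C) (hγ : β ≫ q = γ) (q' : B' ⟶ C') (hγ' : β' ≫ q' = γ')
    (qq : BB ⟶ CC) (ht : tB ≫ qq = q ≫ tC) (hs : sB ≫ qq = q' ≫ sC) {I I' : Type*} (σ : I → (C ⟶ C))
    (σ' : I' → (C' ⟶ C')) (hσ : ∀ i, γ ≫ σ i = γ) (hσ' : ∀ i, γ' ≫ σ' i = γ') (σσ : I → I' → (CC ⟶ CC))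
    (htσ : ∀ i i', tC ≫ σσ i i' = σ i ≫ tC) (hsσ : ∀ i i', sC ≫ σσ i i' = σ' i' ≫ sC)
    (key : letI := β.hom.toAlgebra; letI := β'.hom.toAlgebra; letI := γ.hom.toAlgebra; letI := γ'.hom.toAlgebra
      ∀ (qL : (B : Type u) →ₗ[R] C), (∀ x, qL x = q x) → ∀ (qL' : (B' : Type u) →ₗ[R] C'), (∀ x, qL' x = q' x) →
        ∀ (σL : I → ((C : Type u) →ₗ[R] C)), (∀ i x, σL i x = σ i x) →
        ∀ (σL' : I' → ((C' : Type u) →ₗ[R] C')), (∀ i x, σL' i x = σ' i x) →
        Function.Injective (TensorProduct.map qL qL') ∧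
          ∀ z : C ⊗[R] C', (∀ i i', TensorProduct.map (σL i) (σL' i') z = z) →
            ∃ w, TensorProduct.map qL qL' w = z) :
    Function.Injective qq.hom ∧ ∀ s, (∀ i i', σσ i i' s = s) → ∃ a, qq a = s := by
  letI := β.hom.toAlgebra
  letI := β'.hom.toAlgebra
  letI := γ.hom.toAlgebra
  letI := γ'.hom.toAlgebra
  letI := tB.hom.toAlgebra
  letI := sB.hom.toAlgebra
  letI := tC.hom.toAlgebra
  letI := sC.hom.toAlgebra
  letI : Algebra R BB := (β ≫ tB).hom.toAlgebra
  letI : Algebra R CC := (γ ≫ tC).hom.toAlgebra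
  haveI : IsScalarTower R B BB := IsScalarTower.of_algebraMap_eq fun _ => rfl
  haveI : IsScalarTower R B' BB := IsScalarTower.of_algebraMap_eq fun x => by
    show (β ≫ tB) x = (β' ≫ sB) x
    rw [hB.w]
  haveI : IsScalarTower R C CC := IsScalarTower.of_algebraMap_eq fun _ => rfl
  haveI : IsScalarTower R C' CC := IsScalarTower.of_algebraMap_eq fun x => by
    show (γ ≫ tC) x = (γ' ≫ sC) x
    rw [hC.w]
  haveI : Algebra.IsPushout R B B' BB := CommRingCat.isPushout_iff_isPushout.mp hB
  haveI : Algebra.IsPushout R C C' CC := CommRingCat.isPushout_iff_isPushout.mp hC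
  let eB := Algebra.IsPushout.equiv R B B' BB
  let eC := Algebra.IsPushout.equiv R C C' CC
  let qL : (B : Type u) →ₗ[R] C :=
    ({ q.hom with commutes' := fun r => congrArg (fun φ : R ⟶ C => φ r) hγ } : (B : Type u) →ₐ[R] C).toLinearMap
  let qL' : (B' : Type u) →ₗ[R] C' :=
    ({ q'.hom with commutes' := fun r => congrArg (fun φ : R ⟶ C' => φ r) hγ' } : (B' : Type u) →ₐ[R] C').toLinearMap
  let σL : I → ((C : Type u) →ₗ[R] C) := fun i =>
    ({ (σ i).hom with commutes' := fun r => congrArg (fun φ : R ⟶ C => φ r) (hσ i) } : (C : Type u) →ₐ[R] C).toLinearMap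
  let σL' : I' → ((C' : Type u) →ₗ[R] C') := fun i =>
    ({ (σ' i).hom with commutes' := fun r => congrArg (fun φ : R ⟶ C' => φ r) (hσ' i) } :
      (C' : Type u) →ₐ[R] C').toLinearMap
  obtain ⟨hinj, hsurj⟩ := key qL (fun _ => rfl) qL' (fun _ => rfl) σL (fun _ _ => rfl) σL' (fun _ _ => rfl)
  have hq : ∀ w, qq (eB w) = eC (TensorProduct.map qL qL' w) := fun w => by
    induction w using TensorProduct.induction_on with
    | zero => simp
    | add a b ha hb => simp only [map_add, ha, hb]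
    | tmul a x =>
      rw [TensorProduct.map_tmul, Algebra.IsPushout.equiv_tmul, Algebra.IsPushout.equiv_tmul]
      show qq (tB a * sB x) = tC (q a) * sC (q' x)
      rw [map_mul, show qq (tB a) = tC (q a) from congrArg (fun φ : B ⟶ CC => φ a) ht,
        show qq (sB x) = sC (q' x) from congrArg (fun φ : B' ⟶ CC => φ x) hs]
  have hσσ : ∀ i i' z, σσ i i' (eC z) = eC (TensorProduct.map (σL i) (σL' i') z) := fun i i' z => by
    induction z using TensorProduct.induction_on with
    | zero => simp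
    | add a b ha hb => simp only [map_add, ha, hb]
    | tmul a x =>
      rw [TensorProduct.map_tmul, Algebra.IsPushout.equiv_tmul, Algebra.IsPushout.equiv_tmul]
      show σσ i i' (tC a * sC x) = tC (σ i a) * sC (σ' i' x)
      rw [map_mul, show σσ i i' (tC a) = tC (σ i a) from congrArg (fun φ : C ⟶ CC => φ a) (htσ i i'),
        show σσ i i' (sC x) = sC (σ' i' x) from congrArg (fun φ : C' ⟶ CC => φ x) (hsσ i i')]
  refine ⟨fun a a' h => ?_, fun s hs' => ?_⟩
  · obtain ⟨w, rfl⟩ := eB.surjective a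
    obtain ⟨w', rfl⟩ := eB.surjective a'
    rw [hq, hq] at h
    rw [hinj (eC.injective h)]
  · obtain ⟨z, rfl⟩ := eC.surjective s
    obtain ⟨w, hw⟩ := hsurj z fun i i' => eC.injective (by rw [← hσσ, hs' i i'])
    exact ⟨eB w, by rw [hq, hw]⟩

theorem key_of_good {R B B' C C' : Type u} [CommRing R] [AddCommGroup B] [Module R B] [AddCommGroup B'] [Module R B']
    {G G' : Type*} [Group G] [Finite G] [Group G'] [Finite G'] [CommRing C] [Algebra R C] [MulSemiringAction G C]
    [SMulCommClass G R C] [CommRing C'] [Algebra R C'] [MulSemiringAction G' C'] [SMulCommClass G' R C']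
    (hg : InvBC.Good R G C) (hg' : InvBC.Good R G' C')
    (qL : B →ₗ[R] C) (hi : Function.Injective qL) (hr : ∀ c, c ∈ Set.range qL ↔ c ∈ InvBC.Fx R G C)
    (qL' : B' →ₗ[R] C') (hi' : Function.Injective qL') (hr' : ∀ c, c ∈ Set.range qL' ↔ c ∈ InvBC.Fx R G' C') :
    Function.Injective (TensorProduct.map qL qL') ∧
      ∀ z : C ⊗[R] C', (∀ g g', TensorProduct.map (InvBC.act R C (g : G)) (InvBC.act R C' (g' : G')) z = z) →
        ∃ w, TensorProduct.map qL qL' w = z := by
  obtain ⟨hinj, hsur⟩ := InvBC.prod_invariants (G := G) (G' := G') hg hg'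
  let l : B →ₗ[R] InvBC.Fx R G C := qL.codRestrict (InvBC.Fx R G C).toSubmodule fun b => (hr _).1 ⟨b, rfl⟩
  have hl : Function.Bijective l := ⟨fun a b h => hi (congrArg Subtype.val h), fun t => by
    obtain ⟨b, hb⟩ := (hr t.1).2 t.2
    exact ⟨b, Subtype.ext hb⟩⟩
  let l' : B' →ₗ[R] InvBC.Fx R G' C' := qL'.codRestrict (InvBC.Fx R G' C').toSubmodule fun b => (hr' _).1 ⟨b, rfl⟩
  have hl' : Function.Bijective l' := ⟨fun a b h => hi' (congrArg Subtype.val h), fun t => by
    obtain ⟨b, hb⟩ := (hr' t.1).2 t.2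
    exact ⟨b, Subtype.ext hb⟩⟩
  let E := TensorProduct.congr (LinearEquiv.ofBijective l hl) (LinearEquiv.ofBijective l' hl')
  have hdec : TensorProduct.map qL qL' =
      TensorProduct.map (InvBC.Fx R G C).val.toLinearMap (InvBC.Fx R G' C').val.toLinearMap ∘ₗ E.toLinearMap :=
    TensorProduct.ext' fun a b => rfl
  refine ⟨?_, fun z hz => ?_⟩
  · rw [hdec, LinearMap.coe_comp]
    exact hinj.comp E.injective
  · obtain ⟨w, hw⟩ := hsur z hz
    refine ⟨E.symm w, ?_⟩
    rw [hdec, LinearMap.comp_apply, LinearEquiv.coe_coe, LinearEquiv.apply_symm_apply, hw]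

theorem good {X S Y : Scheme.{u}} (f : X ⟶ S) [IsSeparated f] {n : ℕ} {q : SymProd.fibPow f n ⟶ Y}
    (hq : SGA1.IsQuot (SymProd.permActU f n) q) {V : S.Opens} (hV : IsAffineOpen V) {W : Y.Opens} (hW : IsAffineOpen W)
    (hb : q ⁻¹ᵁ W ≤ (WidePullback.base fun _ : Fin n => f) ⁻¹ᵁ V)
    (h : Flat f ∨ ∀ k : ℕ, 0 < k → IsUnit ((k : ℕ) : Γ(S, ⊤))) :
    letI := SGA1Quot.action hq W
    letI := ((WidePullback.base fun _ : Fin n => f).appLE V (q ⁻¹ᵁ W) hb).hom.toAlgebra
    haveI := SymLocal.sections_comm f hq V W hb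
    InvBC.Good Γ(S, V) (ULift.{u} (Equiv.Perm (Fin n))) Γ(SymProd.fibPow f n, q ⁻¹ᵁ W) := by
  rcases h with h | h
  · exact SymLocal.good_sections f hq hV hW hb
  · letI := SGA1Quot.action hq W
    letI := ((WidePullback.base fun _ : Fin n => f).appLE V (q ⁻¹ᵁ W) hb).hom.toAlgebra
    haveI := SymLocal.sections_comm f hq V W hb
    refine InvBC.good_of_isUnit_card _ ?_
    have := (h _ (Nat.card_pos (α := ULift.{u} (Equiv.Perm (Fin n))))).map (S.presheaf.map (homOfLE le_top : V ⟶ ⊤).op).hom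
    rwa [map_natCast] at this


/-- Scheme case. Let f : X → S and g : Z → S be separated morphisms and suppose that either both are
flat or every positive integer is invertible in Γ(S, O_S) (S is a scheme over the rationals). Let
(P, q_X) be a d-th symmetric product of X over S and (Q, q_Z) an e-th symmetric product of Z over S,
i.e. quotients of the fibre powers (X/S)^d and (Z/S)^e by the symmetric groups permuting the
factors, and let S_d × S_e act on (X/S)^d ×_S (Z/S)^e factorwise. Then q_X × q_Z : (X/S)^d ×_S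
(Z/S)^e → P ×_S Q is a quotient by S_d × S_e (affine, invariant, with sections of P ×_S Q the
invariant sections): the mixed symmetric product Sym^{d,e}(X, Z) is Sym^d(X/S) ×_S Sym^e(Z/S). (The
published statement is for separated algebraic spaces, where these quotients always exist, and adds
the identification with Γ^d(X/S) ×_S Γ^e(Z/S); this row is the scheme case with the two symmetric
products taken as hypotheses.) -/
theorem result {X Z S P Q : Scheme.{u}} (f : X ⟶ S) (g : Z ⟶ S)
    [IsSeparated f] [IsSeparated g] (d e : ℕ)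
    (h : (Flat f ∧ Flat g) ∨ ∀ n : ℕ, 0 < n → IsUnit ((n : ℕ) : Γ(S, ⊤)))
    (qX : SymProd.fibPow f d ⟶ P) (pP : P ⟶ S) (hqX : SymProd.IsSymProd f d qX pP)
    (qZ : SymProd.fibPow g e ⟶ Q) (pQ : Q ⟶ S) (hqZ : SymProd.IsSymProd g e qZ pQ)
    (ρ : ULift.{u} (Equiv.Perm (Fin d) × Equiv.Perm (Fin e)) →*
      Aut (pullback (WidePullback.base fun _ : Fin d => f) (WidePullback.base fun _ : Fin e => g)))
    (hρ : ∀ σ, (ρ σ).hom ≫ pullback.fst (WidePullback.base fun _ : Fin d => f) (WidePullback.base fun _ : Fin e => g) =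
        pullback.fst (WidePullback.base fun _ : Fin d => f) (WidePullback.base fun _ : Fin e => g) ≫
          SymProd.permHom f d σ.down.1 ∧
      (ρ σ).hom ≫ pullback.snd (WidePullback.base fun _ : Fin d => f) (WidePullback.base fun _ : Fin e => g) =
        pullback.snd (WidePullback.base fun _ : Fin d => f) (WidePullback.base fun _ : Fin e => g) ≫
          SymProd.permHom g e σ.down.2) :
    SGA1.IsQuot ρ (pullback.map (WidePullback.base fun _ : Fin d => f) (WidePullback.base fun _ : Fin e => g) pP pQ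
      qX qZ (𝟙 S) ((Category.comp_id _).trans hqX.over.symm) ((Category.comp_id _).trans hqZ.over.symm)) := by
  classical
  have hinv : ∀ σ, (ρ σ).hom ≫ pullback.map (WidePullback.base fun _ : Fin d => f)
      (WidePullback.base fun _ : Fin e => g) pP pQ qX qZ (𝟙 S) ((Category.comp_id _).trans hqX.over.symm)
      ((Category.comp_id _).trans hqZ.over.symm) = pullback.map (WidePullback.base fun _ : Fin d => f)
      (WidePullback.base fun _ : Fin e => g) pP pQ qX qZ (𝟙 S) ((Category.comp_id _).trans hqX.over.symm)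
      ((Category.comp_id _).trans hqZ.over.symm) := fun σ => by
    apply pullback.hom_ext
    · rw [Category.assoc, pullback.lift_fst, ← Category.assoc, (hρ σ).1, Category.assoc]
      exact congrArg (_ ≫ ·) (hqX.isQuot.inv ⟨σ.down.1⟩)
    · rw [Category.assoc, pullback.lift_snd, ← Category.assoc, (hρ σ).2, Category.assoc]
      exact congrArg (_ ≫ ·) (hqZ.isQuot.inv ⟨σ.down.2⟩)
  haveI := hqX.isQuot.affine
  haveI := hqZ.isQuot.affine
  set m := pullback.map (WidePullback.base fun _ : Fin d => f)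
      (WidePullback.base fun _ : Fin e => g) pP pQ qX qZ (𝟙 S) ((Category.comp_id _).trans hqX.over.symm)
      ((Category.comp_id _).trans hqZ.over.symm) with hm
  haveI : IsAffineHom m := MorphismProperty.pullbackMap (P := @IsAffineHom) hqX.isQuot.affine hqZ.isQuot.affine
    hqX.over.symm hqZ.over.symm
  have hm₁ : m ≫ pullback.fst pP pQ = pullback.fst _ _ ≫ qX := pullback.lift_fst _ _ _
  have hm₂ : m ≫ pullback.snd pP pQ = pullback.snd _ _ ≫ qZ := pullback.lift_snd _ _ _
  have hY := IsPullback.of_hasPullback pP pQ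
  have hC := IsPullback.of_hasPullback (WidePullback.base fun _ : Fin d => f) (WidePullback.base fun _ : Fin e => g)
  have chart : ∀ y : ↥(pullback pP pQ), ∃ W'' : (pullback pP pQ).Opens, y ∈ W'' ∧ IsAffineOpen W'' ∧
      Function.Injective (m.app W'').hom ∧
      ∀ s, s ∈ FEtQuot.invariants m ρ hinv W'' → s ∈ Set.range (m.app W'').hom := by
    intro y
    obtain ⟨V, hV, hyV, -⟩ := exists_isAffineOpen_mem_and_subset
      (x := pP (pullback.fst pP pQ y)) (U := (⊤ : S.Opens)) trivial
    obtain ⟨W, hW, hyW, eW⟩ := exists_isAffineOpen_mem_and_subset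
      (x := pullback.fst pP pQ y) (U := pP ⁻¹ᵁ V) hyV
    obtain ⟨W', hW', hyW', eW'⟩ := exists_isAffineOpen_mem_and_subset
      (x := pullback.snd pP pQ y) (U := pQ ⁻¹ᵁ V) (by
        show pQ (pullback.snd pP pQ y) ∈ V
        rw [← Scheme.Hom.comp_apply, ← pullback.condition, Scheme.Hom.comp_apply]
        exact hyV)
    let W'' := pullback.fst pP pQ ⁻¹ᵁ W ⊓ pullback.snd pP pQ ⁻¹ᵁ W'
    have hW'' : IsAffineOpen W'' := EGA43.InjFibre.isAffineOpen_inf_preimage hY hV hW hW' eW eW'
    refine ⟨W'', ⟨hyW, hyW'⟩, hW'', ?_⟩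
    let Ω := qX ⁻¹ᵁ W
    let Ω' := qZ ⁻¹ᵁ W'
    have hb : Ω ≤ (WidePullback.base fun _ : Fin d => f) ⁻¹ᵁ V := by
      rw [← hqX.over, Scheme.Hom.comp_preimage]
      exact qX.preimage_mono eW
    have hb' : Ω' ≤ (WidePullback.base fun _ : Fin e => g) ⁻¹ᵁ V := by
      rw [← hqZ.over, Scheme.Hom.comp_preimage]
      exact qZ.preimage_mono eW'
    let Ω'' := m ⁻¹ᵁ W''
    have hΩ'' : Ω'' = pullback.fst (WidePullback.base fun _ : Fin d => f) (WidePullback.base fun _ : Fin e => g) ⁻¹ᵁ Ω ⊓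
        pullback.snd (WidePullback.base fun _ : Fin d => f) (WidePullback.base fun _ : Fin e => g) ⁻¹ᵁ Ω' := by
      show m ⁻¹ᵁ (_ ⊓ _) = _
      rw [Scheme.Hom.preimage_inf, ← Scheme.Hom.comp_preimage, ← Scheme.Hom.comp_preimage, hm₁, hm₂,
        Scheme.Hom.comp_preimage, Scheme.Hom.comp_preimage]
    have hpY := (isIso_pushoutSection_iff hY eW' eW (rfl : W'' = _)).mp
      (isIso_pushoutSection_of_isAffineOpen hY eW' eW _ hV hW' hW)
    have hpC := (isIso_pushoutSection_iff hC hb' hb hΩ'').mp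
      (isIso_pushoutSection_of_isAffineOpen hC hb' hb _ hV (hW'.preimage qZ) (hW.preimage qX))
    have hperm : ∀ σ : ULift.{u} (Equiv.Perm (Fin d)), Ω ≤ SymProd.permHom f d σ.down⁻¹ ⁻¹ᵁ Ω := fun σ =>
      SGA1.preimage_le_of_inv (SymProd.permActU f d) qX hqX.isQuot.inv σ⁻¹ W
    have hperm' : ∀ σ : ULift.{u} (Equiv.Perm (Fin e)), Ω' ≤ SymProd.permHom g e σ.down⁻¹ ⁻¹ᵁ Ω' := fun σ =>
      SGA1.preimage_le_of_inv (SymProd.permActU g e) qZ hqZ.isQuot.inv σ⁻¹ W'
    obtain ⟨hi, hr⟩ := descend hpY hpC (qX.appLE W Ω le_rfl)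
      (by rw [Scheme.Hom.appLE_comp_appLE]; exact SGA1Quot.appLE_congr _ _ _ _ hqX.over)
      (qZ.appLE W' Ω' le_rfl)
      (by rw [Scheme.Hom.appLE_comp_appLE]; exact SGA1Quot.appLE_congr _ _ _ _ hqZ.over)
      (m.appLE W'' Ω'' le_rfl)
      (by rw [Scheme.Hom.appLE_comp_appLE, Scheme.Hom.appLE_comp_appLE]; exact SGA1Quot.appLE_congr _ _ _ _ hm₁)
      (by rw [Scheme.Hom.appLE_comp_appLE, Scheme.Hom.appLE_comp_appLE]; exact SGA1Quot.appLE_congr _ _ _ _ hm₂)
      (fun σ : ULift.{u} (Equiv.Perm (Fin d)) => (SymProd.permHom f d σ.down⁻¹).appLE Ω Ω (hperm σ))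
      (fun σ : ULift.{u} (Equiv.Perm (Fin e)) => (SymProd.permHom g e σ.down⁻¹).appLE Ω' Ω' (hperm' σ))
      (fun σ => by rw [Scheme.Hom.appLE_comp_appLE]; exact SGA1Quot.appLE_congr _ _ _ _ (SymProd.permHom_base f d _))
      (fun σ => by rw [Scheme.Hom.appLE_comp_appLE]; exact SGA1Quot.appLE_congr _ _ _ _ (SymProd.permHom_base g e _))
      (fun σ τ => (ρ (⟨(σ.down, τ.down)⟩ : ULift.{u} (Equiv.Perm (Fin d) × Equiv.Perm (Fin e)))⁻¹).hom.appLE Ω'' Ω''
        (SGA1.preimage_le_of_inv ρ m hinv _ W''))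
      (fun σ τ => by
        rw [Scheme.Hom.appLE_comp_appLE, Scheme.Hom.appLE_comp_appLE]
        exact SGA1Quot.appLE_congr _ _ _ _ (hρ _).1)
      (fun σ τ => by
        rw [Scheme.Hom.appLE_comp_appLE, Scheme.Hom.appLE_comp_appLE]
        exact SGA1Quot.appLE_congr _ _ _ _ (hρ _).2)
      (by
        letI := (pP.appLE V W eW).hom.toAlgebra
        letI := (pQ.appLE V W' eW').hom.toAlgebra
        letI := ((WidePullback.base fun _ : Fin d => f).appLE V Ω hb).hom.toAlgebra
        letI := ((WidePullback.base fun _ : Fin e => g).appLE V Ω' hb').hom.toAlgebra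
        letI := SGA1Quot.action hqX.isQuot W
        letI := SGA1Quot.action hqZ.isQuot W'
        haveI := SymLocal.sections_comm f hqX.isQuot V W hb
        haveI := SymLocal.sections_comm g hqZ.isQuot V W' hb'
        intro qL hqL qL' hqL' σL hσL σL' hσL'
        have happ : ∀ x, qL x = (qX.app W).hom x := fun x => by rw [hqL, Scheme.Hom.app_eq_appLE]
        have happ' : ∀ x, qL' x = (qZ.app W').hom x := fun x => by rw [hqL', Scheme.Hom.app_eq_appLE]
        obtain ⟨k1, k2⟩ := key_of_good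
          (good f hqX.isQuot hV hW hb (h.imp And.left id)) (good g hqZ.isQuot hV hW' hb' (h.imp And.right id))
          qL (fun x y hxy => hqX.isQuot.injective W (by rw [← happ, ← happ, hxy])) (fun c => by
            rw [show Set.range qL = Set.range (qX.app W).hom from congrArg Set.range (funext happ),
              hqX.isQuot.range_iff]
            refine ⟨fun hc σ => hc σ⁻¹, fun hc σ => ?_⟩
            have := hc σ⁻¹
            rw [SGA1Quot.action_smul hqX.isQuot W] at this
            simp only [FEtQuot.act, inv_inv] at this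
            exact this)
          qL' (fun x y hxy => hqZ.isQuot.injective W' (by rw [← happ', ← happ', hxy])) (fun c => by
            rw [show Set.range qL' = Set.range (qZ.app W').hom from congrArg Set.range (funext happ'),
              hqZ.isQuot.range_iff]
            refine ⟨fun hc σ => hc σ⁻¹, fun hc σ => ?_⟩
            have := hc σ⁻¹
            rw [SGA1Quot.action_smul hqZ.isQuot W'] at this
            simp only [FEtQuot.act, inv_inv] at this
            exact this)
        refine ⟨k1, fun z hz => k2 z fun σ τ => ?_⟩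
        rw [show InvBC.act _ _ σ = σL σ from LinearMap.ext fun x => (hσL σ x).symm,
          show InvBC.act _ _ τ = σL' τ from LinearMap.ext fun x => (hσL' τ x).symm]
        exact hz σ τ)
    refine ⟨by rw [Scheme.Hom.app_eq_appLE]; exact hi, fun s hs => ?_⟩
    rw [Scheme.Hom.app_eq_appLE]
    exact hr s fun σ τ => hs ⟨(σ.down, τ.down)⟩
  choose W hyW hW hWinj hWr using chart
  exact SGA1Quot.isQuot_of_cover ρ m hinv W hW (fun y => ⟨y, hyW y⟩) hWinj hWr

end Groth.Agent.S13395
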