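import Groth.Statements.S13402
import Mathlib.Algebra.Algebra.Epi
import Mathlib.RingTheory.HopfAlgebra.Convolution
open TensorProduct

set_option autoImplicit false
universe u v w
open Hopf

namespace Groth.Agent.S13402

/-- Let k be a field and let A and B be finite-dimensional commutative and cocommutative Hopf algebras
over k (finite commutative k-group schemes G = Spec A and H = Spec B). Let f : B → A be a bialgebra
map (a homomorphism G → H) which is injective and such that the ideal of A generated by the image of
the augmentation ideal of B is the augmentation ideal of A (the homomorphism G → H has trivial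
kernel). Then f is bijective, so G → H is an isomorphism; this is what makes the category of finite
commutative k-group schemes abelian. -/
theorem result (k : Type u) [Field k] (A : Type v) (B : Type w)
    [CommRing A] [HopfAlgebra k A] [Module.Finite k A] [Coalgebra.IsCocomm k A]
    [CommRing B] [HopfAlgebra k B] [Module.Finite k B] [Coalgebra.IsCocomm k B]
    (f : B →ₐc[k] A) (hinj : Function.Injective f)
    (hker : Ideal.map f (RingHom.ker (Bialgebra.counitAlgHom k B)) = RingHom.ker (Bialgebra.counitAlgHom k A)) :
    Function.Bijective f := by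
  letI : Algebra B A := (f : B →ₐ[k] A).toRingHom.toAlgebra
  haveI : IsScalarTower k B A := IsScalarTower.of_algebraMap_eq fun x =>
    ((f : B →ₐ[k] A).commutes x).symm
  haveI : Module.Finite B A := Module.Finite.of_restrictScalars_finite k B A
  have hb : ∀ b : B, f b ⊗ₜ[B] (1 : A) = (1 : A) ⊗ₜ[B] f b := fun b => by
    have h : algebraMap B A b = f b := rfl
    rw [← h, Algebra.algebraMap_eq_smul_one, smul_tmul]
  let i₁ : A →ₐ[k] A ⊗[B] A :=
    (Algebra.TensorProduct.includeLeft (R := B) (S := B) (A := A) (B := A)).restrictScalars k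
  let i₂ : A →ₐ[k] A ⊗[B] A :=
    (Algebra.TensorProduct.includeRight (R := B) (A := A) (B := A)).restrictScalars k
  let Φ : A ⊗[k] A →ₐ[k] A ⊗[B] A := Algebra.TensorProduct.lift i₁ i₂ fun _ _ => Commute.all _ _
  have hΦ : ∀ a a' : A, Φ (a ⊗ₜ a') = a ⊗ₜ[B] a' := fun a a' => by simp [Φ, i₁, i₂]
  let ψ : A →ₐ[k] A ⊗[B] A :=
    (Φ.comp (Algebra.TensorProduct.map (HopfAlgebra.antipodeAlgHom k A) (AlgHom.id k A))).comp
      (Bialgebra.comulAlgHom k A)
  have hψf : ∀ b : B, ψ (f b) = algebraMap k (A ⊗[B] A) (Coalgebra.counit b) := by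
    intro b
    have hc : ∀ z : B ⊗[k] B,
        Φ (Algebra.TensorProduct.map (HopfAlgebra.antipodeAlgHom k A) (AlgHom.id k A)
          (TensorProduct.map (f : B →ₗ[k] A) (f : B →ₗ[k] A) z)) =
        i₁ (LinearMap.mul' k A ((HopfAlgebra.antipode k).rTensor A
          (TensorProduct.map (f : B →ₗ[k] A) (f : B →ₗ[k] A) z))) := by
      intro z
      induction z using TensorProduct.induction_on with
      | zero => simp
      | add x y hx hy => simp [hx, hy]
      | tmul x y =>
        rw [TensorProduct.map_tmul, Algebra.TensorProduct.map_tmul, hΦ, LinearMap.rTensor_tmul,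
          LinearMap.mul'_apply]
        calc _ = (HopfAlgebra.antipodeAlgHom k A (f x)) ⊗ₜ[B] (1 : A) * (1 : A) ⊗ₜ[B] f y := by simp
          _ = _ := by rw [← hb]; simp [i₁]
    have h1 : Coalgebra.comul (R := k) (f b) =
        TensorProduct.map (f : B →ₗ[k] A) (f : B →ₗ[k] A) (Coalgebra.comul b) :=
      (CoalgHomClass.map_comp_comul_apply f b).symm
    show Φ (Algebra.TensorProduct.map _ _ (Coalgebra.comul (R := k) (f b))) = _
    rw [h1, hc, ← h1, HopfAlgebra.mul_antipode_rTensor_comul_apply,
      CoalgHomClass.counit_comp_apply]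
    simp [i₁]
  have hψ : ∀ a, ψ a = algebraMap k (A ⊗[B] A) (Coalgebra.counit a) := by
    intro a
    let q : A →ₐ[k] A ⊗[B] A := (Algebra.ofId k (A ⊗[B] A)).comp (Bialgebra.counitAlgHom k A)
    have hle : RingHom.ker (Bialgebra.counitAlgHom k A) ≤ RingHom.ker ψ := by
      rw [← hker, Ideal.map_le_iff_le_comap]
      intro b hb'
      rw [Ideal.mem_comap, RingHom.mem_ker, hψf]
      rw [RingHom.mem_ker, Bialgebra.counitAlgHom_apply] at hb'
      rw [hb', map_zero]
    have hmem : a - algebraMap k A (Coalgebra.counit a) ∈ RingHom.ker (Bialgebra.counitAlgHom k A) := by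
      rw [RingHom.mem_ker, map_sub, AlgHom.commutes, Bialgebra.counitAlgHom_apply]
      simp
    have h := hle hmem
    rw [RingHom.mem_ker, map_sub, AlgHom.commutes, sub_eq_zero] at h
    exact h
  have hepi : Algebra.IsEpi B A := by
    rw [Algebra.isEpi_iff_forall_one_tmul_eq]
    intro a
    let χ : A ⊗[k] A →ₐ[k] A ⊗[B] A := Algebra.TensorProduct.lift i₁ ψ fun _ _ => Commute.all _ _
    let T : A ⊗[k] (A ⊗[k] A) →ₗ[k] A ⊗[B] A := Φ.toLinearMap ∘ₗ
      ((LinearMap.mul' k A ∘ₗ (HopfAlgebra.antipode k).lTensor A).rTensor A) ∘ₗ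
      (TensorProduct.assoc k A A A).symm.toLinearMap
    have hT : ∀ z, χ z = T ((Coalgebra.comul (R := k)).lTensor A z) := by
      intro z
      induction z using TensorProduct.induction_on with
      | zero => simp
      | add x y hx hy => simp [hx, hy]
      | tmul x y =>
        have hy : ∀ w : A ⊗[k] A, i₁ x * Φ (Algebra.TensorProduct.map
            (HopfAlgebra.antipodeAlgHom k A) (AlgHom.id k A) w) = T (x ⊗ₜ w) := by
          intro w
          induction w using TensorProduct.induction_on with
          | zero => simp
          | add p q hp hq => simp [mul_add, tmul_add, hp, hq]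
          | tmul c d => simp [T, hΦ, i₁]
        simp only [χ, Algebra.TensorProduct.lift_tmul, LinearMap.lTensor_tmul]
        exact hy _
    have h1 : χ (Coalgebra.comul a) = a ⊗ₜ[B] (1 : A) := by
      have : ∀ z : A ⊗[k] A,
          χ z = i₁ (TensorProduct.rid k A ((Coalgebra.counit (R := k)).lTensor A z)) := by
        intro z
        induction z using TensorProduct.induction_on with
        | zero => simp
        | add x y hx hy => simp [hx, hy]
        | tmul x y =>
          simp [χ, hψ, Algebra.smul_def, mul_comm]
      rw [this, Coalgebra.lTensor_counit_comul]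
      simp [i₁]
    rw [← h1, hT, show T ((Coalgebra.comul (R := k)).lTensor A (Coalgebra.comul a)) =
      Φ ((LinearMap.mul' k A ∘ₗ (HopfAlgebra.antipode k).lTensor A).rTensor A
        ((TensorProduct.assoc k A A A).symm ((Coalgebra.comul (R := k)).lTensor A
          (Coalgebra.comul a)))) from rfl, Coalgebra.coassoc_symm_apply]
    have : ∀ z : A ⊗[k] A, (LinearMap.mul' k A ∘ₗ (HopfAlgebra.antipode k).lTensor A).rTensor A
        ((Coalgebra.comul (R := k)).rTensor A z) =
        (Algebra.linearMap k A).rTensor A ((Coalgebra.counit (R := k)).rTensor A z) := by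
      intro z
      induction z using TensorProduct.induction_on with
      | zero => simp
      | add x y hx hy => simp [hx, hy]
      | tmul x y => simp [HopfAlgebra.mul_antipode_lTensor_comul_apply]
    rw [this, Coalgebra.rTensor_counit_comul]
    simp [hΦ]
  exact ⟨hinj, Algebra.isEpi_iff_surjective_algebraMap_of_finite.1 hepi⟩

end Groth.Agent.S13402
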