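import Groth.Statements.S13405
import Groth.Agent.CohDer1.ConnFlatPres
-- import your own Groth.Agent.* helpers here

set_option autoImplicit false
universe u v
open Hopf

namespace Groth.Agent.S13405

/-- Let R be a complete discrete valuation ring whose residue field is perfect of characteristic p > 0,
and let G = Spec A be a connected finite flat group scheme over R: A is a commutative Hopf algebra
over R, finite and flat as an R-module, and a local ring. Then for some n there are natural numbers
e_1, ..., e_n and power series f_1, ..., f_n in R[[x_1, ..., x_n]] such that A is isomorphic as an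
R-algebra to R[[x_1, ..., x_n]]/(f_1, ..., f_n) and each f_i is x_i ^ (p ^ e_i) plus a polynomial
all of whose coefficients lie in the maximal ideal of R and whose degree in x_i is less than p ^
e_i. -/
theorem result (R : Type u) [CommRing R] [IsDomain R]
    [IsDiscreteValuationRing R] [IsAdicComplete (IsLocalRing.maximalIdeal R) R]
    (p : ℕ) [Fact p.Prime] [CharP (IsLocalRing.ResidueField R) p] [PerfectField (IsLocalRing.ResidueField R)]
    (A : Type v) [CommRing A] [HopfAlgebra R A] [Module.Finite R A] [Module.Flat R A] [IsLocalRing A] :
    ∃ (n : ℕ) (e : Fin n → ℕ) (g : Fin n → MvPolynomial (Fin n) R),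
      (∀ i, (∀ d, (g i).coeff d ∈ IsLocalRing.maximalIdeal R) ∧ (g i).degreeOf i < p ^ e i) ∧
      Nonempty (A ≃ₐ[R] (MvPowerSeries (Fin n) R ⧸
        Ideal.span (Set.range fun i => (MvPowerSeries.X i : MvPowerSeries (Fin n) R) ^ p ^ e i + ↑(g i)))) := by
  haveI : Algebra.IsIntegral R A := inferInstance
  haveI : Nontrivial (TensorProduct R (IsLocalRing.ResidueField R) A) := by
    exact not_subsingleton_iff_nontrivial.1 fun h =>
      not_subsingleton A (IsLocalRing.subsingleton_tensorProduct.1 h)
  haveI : IsLocalRing (TensorProduct R (IsLocalRing.ResidueField R) A) :=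
    IsLocalRing.of_surjective'
      (Algebra.TensorProduct.includeRight : A →ₐ[R] TensorProduct R (IsLocalRing.ResidueField R) A).toRingHom
      (TensorProduct.mk_surjective R A _ Ideal.Quotient.mk_surjective)
  obtain ⟨n, e, he, ⟨φ⟩⟩ := Groth.Agent.S7949.result (IsLocalRing.ResidueField R)
    (TensorProduct R (IsLocalRing.ResidueField R) A) p
  obtain ⟨g, hg, hA⟩ := Groth.Agent.CohDer1.ConnFlatPres.exists_presentation (A := A) (fun i => p ^ e i)
    (fun i => pow_pos (Fact.out : p.Prime).pos _) φ
  exact ⟨n, e, g, hg, hA⟩
end Groth.Agent.S13405
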