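import Groth.Statements.S13407
import Mathlib.RingTheory.HopfAlgebra.Quotient
import Mathlib.RingTheory.HopfAlgebra.TensorProduct
import Mathlib.RingTheory.Flat.TorsionFree
import Mathlib.RingTheory.Localization.BaseChange

set_option autoImplicit false
universe u
open TensorProduct
open Hopf

namespace Groth.Agent.S13407

/-- Let R be a Dedekind domain with fraction field K and let G = Spec A be a finite flat group scheme
over R (A a commutative Hopf algebra over R, finite and flat as an R-module). Closed flat R-subgroup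
schemes of G correspond one-to-one to closed K-subgroup schemes of the generic fibre G_K under H ↦
H_K: the map sending a Hopf ideal J' of A with A/J' flat over R to the ideal it generates in K ⊗_R A
is a bijection onto the set of Hopf ideals of the Hopf algebra K ⊗_R A over K (its inverse takes a
Hopf ideal of K ⊗_R A to its preimage in A). -/
theorem result (R : Type u) [CommRing R] [IsDedekindDomain R]
    (K : Type u) [Field K] [Algebra R K] [IsFractionRing R K]
    (A : Type u) [CommRing A] [HopfAlgebra R A] [Module.Finite R A] [Module.Flat R A] :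
    Set.BijOn (fun J' : Ideal A => Ideal.map (Algebra.TensorProduct.includeRight : A →ₐ[R] K ⊗[R] A) J')
      {J' : Ideal A | J'.IsHopfIdeal R ∧ Module.Flat R (A ⧸ J')}
      {J : Ideal (K ⊗[R] A) | J.IsHopfIdeal K} := by
  classical
  set ι : A →ₐ[R] K ⊗[R] A := Algebra.TensorProduct.includeRight with hιdef
  haveI : Module.IsTorsionFree R A := inferInstance
  have hι : Function.Injective ι := Algebra.TensorProduct.includeRight_injective
    (IsFractionRing.injective R K)
  have hden : ∀ z : K ⊗[R] A, ∃ (r : R) (a : A), r ≠ 0 ∧ r • z = ι a := by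
    intro z
    induction z using TensorProduct.induction_on with
    | zero => exact ⟨1, 0, one_ne_zero, by simp⟩
    | tmul c a =>
      obtain ⟨n, d, hd, rfl⟩ := IsFractionRing.div_surjective R c
      have hd0 : d ≠ 0 := nonZeroDivisors.ne_zero hd
      refine ⟨d, n • a, hd0, ?_⟩
      have h0 : algebraMap R K d ≠ 0 := by
        simpa using (IsFractionRing.injective R K).ne hd0
      rw [TensorProduct.smul_tmul', Algebra.smul_def, mul_div_cancel₀ _ h0,
        Algebra.algebraMap_eq_smul_one, TensorProduct.smul_tmul]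
      rfl
    | add x y hx hy =>
      obtain ⟨r, a, hr, ha⟩ := hx
      obtain ⟨s, b, hs, hb⟩ := hy
      refine ⟨r * s, s • a + r • b, mul_ne_zero hr hs, ?_⟩
      rw [smul_add, mul_comm r s, mul_smul, ha, mul_comm s r, mul_smul, hb, map_add, map_smul,
        map_smul]
  have hmulmem : ∀ (I : Ideal (K ⊗[R] A)) (r : R) (z : K ⊗[R] A), r ≠ 0 → r • z ∈ I → z ∈ I := by
    intro I r z hr h
    have h0 : algebraMap R K r ≠ 0 := by simpa using (IsFractionRing.injective R K).ne hr
    rw [← IsScalarTower.algebraMap_smul K r z] at h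
    have := (I.restrictScalars K).smul_mem (algebraMap R K r)⁻¹ h
    rwa [inv_smul_smul₀ h0] at this
  -- a quotient embedded into a `K`-vector space is flat
  have hflat : ∀ Jk : Ideal (K ⊗[R] A), Module.Flat R (A ⧸ Jk.comap ι) := by
    intro Jk
    suffices h : Module.IsTorsionFree R (A ⧸ Jk.comap ι) by infer_instance
    refine Module.isTorsionFree_iff_smul_eq_zero.2 fun r q hq => ?_
    obtain ⟨a, rfl⟩ := Ideal.Quotient.mk_surjective q
    rw [or_iff_not_imp_left]
    intro hr
    rw [show r • Ideal.Quotient.mk (Jk.comap ι) a = Ideal.Quotient.mk (Jk.comap ι) (r • a) from rfl,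
      Ideal.Quotient.eq_zero_iff_mem, Ideal.mem_comap, map_smul] at hq
    exact Ideal.Quotient.eq_zero_iff_mem.2 (hmulmem Jk r _ hr hq)
  have hcomap : ∀ J : Ideal A, Module.Flat R (A ⧸ J) → (J.map ι).comap ι = J := by
    intro J hJ
    haveI : Module.IsTorsionFree R (A ⧸ J) := inferInstance
    refine le_antisymm (fun a ha => ?_) Ideal.le_comap_map
    have key : ∀ z ∈ J.map ι, ∃ r : R, r ≠ 0 ∧ ∃ j ∈ J, r • z = ι j := by
      intro z hz
      rw [Ideal.map] at hz
      induction hz using Submodule.span_induction with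
      | mem y hy => obtain ⟨j, hj, rfl⟩ := hy; exact ⟨1, one_ne_zero, j, hj, one_smul _ _⟩
      | zero => exact ⟨1, one_ne_zero, 0, J.zero_mem, by simp⟩
      | add x y _ _ hx hy =>
        obtain ⟨r, hr, j, hj, hrj⟩ := hx
        obtain ⟨s, hs, l, hl, hsl⟩ := hy
        refine ⟨r * s, mul_ne_zero hr hs, s • j + r • l,
          J.add_mem (Submodule.smul_of_tower_mem J s hj) (Submodule.smul_of_tower_mem J r hl), ?_⟩
        rw [smul_add, mul_comm r s, mul_smul, hrj, mul_comm s r, mul_smul, hsl, map_add, map_smul,
          map_smul]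
      | smul c x _ hx =>
        obtain ⟨r, hr, j, hj, hrj⟩ := hx
        obtain ⟨s, b, hs, hb⟩ := hden c
        refine ⟨s * r, mul_ne_zero hs hr, b * j, J.mul_mem_left b hj, ?_⟩
        rw [smul_eq_mul, ← smul_mul_smul_comm, hb, hrj, map_mul]
    obtain ⟨r, hr, j, hj, hrj⟩ := key _ (Ideal.mem_comap.1 ha)
    rw [← map_smul] at hrj
    have hraj : r • a ∈ J := hι hrj ▸ hj
    rw [← Ideal.Quotient.eq_zero_iff_mem] at hraj ⊢
    rw [show Ideal.Quotient.mk J (r • a) = r • Ideal.Quotient.mk J a from rfl] at hraj
    exact (smul_eq_zero.1 hraj).resolve_left hr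
  have hmapcomap : ∀ Jk : Ideal (K ⊗[R] A), (Jk.comap ι).map ι = Jk := by
    intro Jk
    refine le_antisymm Ideal.map_comap_le fun z hz => ?_
    obtain ⟨r, a, hr, ha⟩ := hden z
    refine hmulmem _ r z hr ?_
    rw [ha]
    refine Ideal.mem_map_of_mem ι ?_
    rw [Ideal.mem_comap, ← ha]
    exact Submodule.smul_of_tower_mem Jk r hz
  have hcounit : ∀ a : A, Coalgebra.counit (R := K) (ι a) = algebraMap R K (Coalgebra.counit a) := by
    intro a
    simp [hιdef, TensorProduct.counit_tmul, Algebra.smul_def]
  have hanti : ∀ a : A, HopfAlgebra.antipode K (ι a) = ι (HopfAlgebra.antipode R a) := by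
    intro a
    simp [hιdef]
  -- the comparison of the two comultiplications
  have hcomul : ∀ (J : Ideal A) (Jk : Ideal (K ⊗[R] A)) (h : J ≤ Jk.comap ι),
      ∃ γ : (A ⧸ J.restrictScalars R) ⊗[R] (A ⧸ J.restrictScalars R) →ₗ[R]
          ((K ⊗[R] A) ⧸ Jk.restrictScalars K) ⊗[K] ((K ⊗[R] A) ⧸ Jk.restrictScalars K),
        (J = Jk.comap ι → Function.Injective γ) ∧
        ∀ a : A, γ (TensorProduct.map (J.restrictScalars R).mkQ (J.restrictScalars R).mkQ
            (Coalgebra.comul a)) =
          TensorProduct.map (Jk.restrictScalars K).mkQ (Jk.restrictScalars K).mkQ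
            (Coalgebra.comul (R := K) (ι a)) := by
    intro J Jk h
    let Q := (K ⊗[R] A) ⧸ Jk.restrictScalars K
    let g : (A ⧸ J.restrictScalars R) →ₗ[R] Q := Submodule.liftQ (J.restrictScalars R)
      ((Jk.restrictScalars K).mkQ.restrictScalars R ∘ₗ ι.toLinearMap) (fun a ha => by
        rw [LinearMap.mem_ker]
        exact (Submodule.Quotient.mk_eq_zero _).2 (h ha))
    haveI := IsLocalization.tensorProduct_compatibleSMul (nonZeroDivisors R) K Q Q
    let e := TensorProduct.equivOfCompatibleSMul R K R Q Q
    refine ⟨e.symm.toLinearMap ∘ₗ TensorProduct.map g g, fun hJ => ?_, fun a => ?_⟩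
    · subst hJ
      have hg : Function.Injective g := by
        rw [← LinearMap.ker_eq_bot]
        refine Submodule.ker_liftQ_eq_bot _ _ _ fun a ha => ?_
        rw [LinearMap.mem_ker] at ha
        exact (Submodule.Quotient.mk_eq_zero (Jk.restrictScalars K)).1 ha
      haveI : Module.Flat R (A ⧸ (Jk.comap ι).restrictScalars R) := by
        haveI := hflat Jk
        exact Module.Flat.of_linearEquiv (Submodule.Quotient.restrictScalarsEquiv R (Jk.comap ι))
      haveI : Module.Flat R Q := by
        haveI : Module.Flat R K := IsLocalization.flat K (nonZeroDivisors R)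
        exact Module.Flat.trans R K Q
      refine e.symm.injective.comp ?_
      rw [← LinearMap.rTensor_comp_lTensor, LinearMap.coe_comp]
      exact (Module.Flat.rTensor_preserves_injective_linearMap g hg).comp
        (Module.Flat.lTensor_preserves_injective_linearMap g hg)
    · rw [show ι a = (1 : K) ⊗ₜ[R] a from rfl, TensorProduct.comul_tmul]
      simp only [CommSemiring.comul_apply, LinearMap.coe_comp, Function.comp_apply, LinearEquiv.coe_coe]
      induction (Coalgebra.comul (R := R) a) using TensorProduct.induction_on with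
      | zero => simp
      | add x y hx hy => simp only [map_add, TensorProduct.tmul_add, hx, hy]
      | tmul x y =>
        simp [e, g, Q, hιdef]
        rfl
  refine ⟨fun J hJ => ?_, fun J hJ J' hJ' hEq => ?_, fun Jk hJk => ?_⟩
  · obtain ⟨hJh, -⟩ := hJ
    show (J.map ι).IsHopfIdeal K
    have hco : ((J.map ι).restrictScalars K).IsCoideal := by
      rw [Submodule.isCoideal_iff]
      refine ⟨fun z hz => ?_, fun z hz => ?_⟩
      · have h2 : J.map ι ≤ RingHom.ker (Bialgebra.counitAlgHom K (K ⊗[R] A)) := by
          rw [Ideal.map_le_iff_le_comap]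
          intro j hj
          rw [Ideal.mem_comap, RingHom.mem_ker, Bialgebra.counitAlgHom_apply, hcounit,
            hJh.toIsCoideal.counit_eq_zero hj, map_zero]
        simpa [RingHom.mem_ker] using h2 hz
      · let Φ : K ⊗[R] A →ₐ[K] ((K ⊗[R] A) ⧸ J.map ι) ⊗[K] ((K ⊗[R] A) ⧸ J.map ι) :=
          (Algebra.TensorProduct.map (Ideal.Quotient.mkₐ K (J.map ι))
            (Ideal.Quotient.mkₐ K (J.map ι))).comp (Bialgebra.comulAlgHom K (K ⊗[R] A))
        have h2 : J.map ι ≤ RingHom.ker Φ := by
          rw [Ideal.map_le_iff_le_comap]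
          intro j hj
          obtain ⟨γ, -, hγ⟩ := hcomul J (J.map ι) Ideal.le_comap_map
          rw [Ideal.mem_comap, RingHom.mem_ker]
          have := hγ j
          rw [hJh.toIsCoideal.map_mkQ_comul_eq_zero hj, map_zero] at this
          exact this.symm
        exact h2 hz
    haveI := hco
    refine { antipode_mem := fun z hz => ?_ }
    have h2 : J.map ι ≤ (J.map ι).comap (HopfAlgebra.antipodeAlgHom K (K ⊗[R] A)) := by
      rw [Ideal.map_le_iff_le_comap]
      intro j hj
      simp only [Ideal.mem_comap, HopfAlgebra.antipodeAlgHom_apply]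
      rw [hanti]
      exact Ideal.mem_map_of_mem ι (hJh.antipode_mem hj)
    simpa using h2 hz
  · rw [← hcomap J hJ.2, ← hcomap J' hJ'.2]
    exact congrArg (Ideal.comap ι) hEq
  · refine ⟨Jk.comap ι, ⟨?_, hflat Jk⟩, hmapcomap Jk⟩
    have hk : Jk.IsHopfIdeal K := hJk
    have hco : ((Jk.comap ι).restrictScalars R).IsCoideal := by
      rw [Submodule.isCoideal_iff]
      refine ⟨fun a ha => ?_, fun a ha => ?_⟩
      · have := hk.toIsCoideal.counit_eq_zero (x := ι a) ha
        rw [hcounit] at this
        exact (map_eq_zero_iff _ (IsFractionRing.injective R K)).1 this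
      · obtain ⟨γ, hinj, hγ⟩ := hcomul (Jk.comap ι) Jk le_rfl
        refine hinj rfl ?_
        rw [hγ, map_zero]
        exact hk.toIsCoideal.map_mkQ_comul_eq_zero ha
    haveI := hco
    refine { antipode_mem := fun a ha => ?_ }
    rw [Ideal.mem_comap, ← hanti]
    exact hk.antipode_mem ha

end Groth.Agent.S13407
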