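import Groth.Statements.S13409
import Mathlib
import Groth.Agent.LatticeLib24.Dist
import Groth.Agent.GrLib.Hilbert

set_option linter.all false

set_option autoImplicit false
universe u v
open CombGraph

open TensorProduct

namespace Groth.Agent.S13409

/-- Let `A` be an abelian group and `G` a finite connected simple graph on `V` that is bipartite for a
two-colouring `c : V → Bool` (adjacent vertices get different colours). If `a : V → A` has the same
sum over the vertices of each colour, then some labelling `x` of the edges by elements of `A` has,
at every vertex `v`, the sum of `x` over the edges incident to `v` equal to `a v`. (The published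
statement concerns finite bipartite graphs in general; this row treats simple graphs.) -/
theorem result {V : Type u} [Fintype V] [DecidableEq V]
    (G : SimpleGraph V) [DecidableRel G.Adj] (hconn : G.Connected) (c : V → Bool)
    (hbip : ∀ v w : V, G.Adj v w → c v ≠ c w) (A : Type v) [AddCommGroup A] (a : V → A)
    (hsum : ∑ v ∈ Finset.univ.filter (fun v => c v = true), a v =
      ∑ v ∈ Finset.univ.filter (fun v => c v = false), a v) :
    ∃ x : Sym2 V → A, ∀ v : V, ∑ e ∈ G.incidenceFinset v, x e = a v := by
  classical
  let Φ : (Sym2 V → A) →+ (V → A) :=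
    { toFun := fun x v => ∑ e ∈ G.incidenceFinset v, x e
      map_zero' := by ext v; simp
      map_add' := fun x y => by ext v; simp [Finset.sum_add_distrib] }
  suffices a ∈ Φ.range by
    obtain ⟨x, hx⟩ := this
    exact ⟨x, fun v => congrFun hx v⟩
  let sg : V → ℤ := fun v => if c v then 1 else -1
  have hedge : ∀ v w, G.Adj v w → ∀ b : A, (Pi.single v b + Pi.single w b : V → A) ∈ Φ.range := by
    intro v w h b
    refine ⟨Pi.single (s(v, w)) b, funext fun z => ?_⟩
    show ∑ e ∈ G.incidenceFinset z, (Pi.single (s(v, w)) b : Sym2 V → A) e = _
    simp only [Pi.single_apply, Finset.sum_ite_eq']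
    have hne := G.ne_of_adj h
    by_cases hzv : z = v
    · subst hzv; simp [SimpleGraph.mem_incidenceFinset, SimpleGraph.incidenceSet, h, hne]
    · by_cases hzw : z = w
      · subst hzw; simp [SimpleGraph.mem_incidenceFinset, SimpleGraph.incidenceSet, h, hne.symm]
      · simp [SimpleGraph.mem_incidenceFinset, SimpleGraph.incidenceSet, h, hzv, hzw]
  obtain ⟨r⟩ := hconn.nonempty
  have hpath : ∀ v (b : A), (Pi.single v b - Pi.single r ((sg v * sg r) • b) : V → A) ∈ Φ.range := by
    intro v
    obtain ⟨W⟩ := hconn.preconnected v r
    induction W with
    | nil =>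
      intro b
      have : ∀ z, sg z * sg z = 1 := fun z => by simp only [sg]; split_ifs <;> rfl
      rw [this, one_smul, sub_self]
      exact zero_mem _
    | @cons v w r h _ ih =>
      intro b
      have hs : sg v = - sg w := by
        have := hbip v w h
        simp only [sg]
        cases hv : c v <;> cases hw : c w <;> simp_all
      have e : (Pi.single v b - Pi.single r ((sg v * sg r) • b) : V → A) =
          (Pi.single v b + Pi.single w b) - (Pi.single w b - Pi.single r ((sg w * sg r) • b)) := by
        rw [hs, neg_mul, neg_smul, Pi.single_neg]; abel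
      rw [e]
      exact sub_mem (hedge v w h b) (ih b)
  have h0 : ∑ v, (sg v * sg r) • a v = 0 := by
    have : ∑ v, sg v • a v = 0 := by
      rw [← Finset.sum_filter_add_sum_filter_not Finset.univ (fun v => c v = true)]
      rw [Finset.sum_congr rfl (g := fun v => a v) (fun v hv => by simp [sg, (Finset.mem_filter.1 hv).2]),
        Finset.sum_congr rfl (s₁ := Finset.univ.filter (fun v => ¬ c v = true)) (g := fun v => - a v)
          (fun v hv => by simp [sg, (Finset.mem_filter.1 hv).2]), Finset.sum_neg_distrib, hsum]
      simp
    calc ∑ v, (sg v * sg r) • a v = sg r • ∑ v, sg v • a v := by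
          rw [Finset.smul_sum]; exact Finset.sum_congr rfl fun v _ => by rw [smul_smul, mul_comm]
      _ = 0 := by rw [this, smul_zero]
  have : a = ∑ v, (Pi.single v (a v) - Pi.single r ((sg v * sg r) • a v) : V → A) := by
    rw [Finset.sum_sub_distrib, Finset.univ_sum_single, ← sub_eq_zero, sub_sub_cancel]
    ext z
    rw [Finset.sum_apply, Pi.zero_apply]
    by_cases hz : z = r
    · subst hz; simpa using h0
    · simp [hz]
  rw [this]
  exact sum_mem fun v _ => hpath v (a v)

end Groth.Agent.S13409
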