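import Groth.Statements.S13410
import Mathlib
import Groth.Agent.S13409

set_option linter.all false

set_option autoImplicit false
universe u v
open CombGraph

open TensorProduct

namespace Groth.Agent.S13410

/-- Let `A` be an abelian group and `G` a finite connected simple graph on `V`, bipartite for a
two-colouring `c`. Consider the additive group of labellings `x : Sym2 V → A` vanishing off the edge
set and with `∑_{e ∋ v} x e = 0` at every vertex `v`. If `e₀` is an edge whose deletion leaves `G`
connected, then evaluation at `e₀` restricted to this group is surjective and split: there is an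
additive map `φ : A → (Sym2 V → A)` with values in this group and with `φ a e₀ = a` for all `a`.
(The published statement concerns finite bipartite graphs in general; this row treats simple
graphs.) -/
theorem result {V : Type u} [Fintype V]
    [DecidableEq V] (G : SimpleGraph V) [DecidableRel G.Adj] (hconn : G.Connected) (c : V → Bool)
    (hbip : ∀ v w : V, G.Adj v w → c v ≠ c w) (A : Type v) [AddCommGroup A] (e₀ : Sym2 V)
    (he₀ : e₀ ∈ G.edgeSet) (hdel : (G.deleteEdges {e₀}).Connected) :
    ∃ φ : A →+ (Sym2 V → A),
      (∀ a : A, (∀ e : Sym2 V, e ∉ G.edgeSet → φ a e = 0) ∧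
        ∀ v : V, ∑ e ∈ G.incidenceFinset v, φ a e = 0) ∧
      ∀ a : A, φ a e₀ = a := by
  classical
  induction e₀ using Sym2.ind with
  | _ v₀ w₀ =>
  set G' := G.deleteEdges {s(v₀, w₀)} with hG'
  have hvw : G.Adj v₀ w₀ := he₀
  have hsum : ∑ v ∈ Finset.univ.filter (fun v => c v = true), (-(Pi.single v₀ (1 : ℤ) + Pi.single w₀ 1) : V → ℤ) v =
      ∑ v ∈ Finset.univ.filter (fun v => c v = false), (-(Pi.single v₀ (1 : ℤ) + Pi.single w₀ 1) : V → ℤ) v := by
    have h := hbip v₀ w₀ hvw
    simp only [Pi.neg_apply, Pi.add_apply, Finset.sum_neg_distrib, Finset.sum_add_distrib, Finset.sum_pi_single']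
    cases hv : c v₀ <;> cases hw : c w₀ <;> simp_all
  obtain ⟨x, hx⟩ := Groth.Agent.S13409.result G' hdel c
    (fun v w h => hbip v w (G.deleteEdges_le _ h)) ℤ _ hsum
  let x' : Sym2 V → ℤ := fun e => if e = s(v₀, w₀) then 1 else if e ∈ G.edgeSet then x e else 0
  refine ⟨{ toFun := fun a e => x' e • a, map_zero' := by ext; simp, map_add' := fun a b => by ext; simp },
    fun a => ⟨fun e he => ?_, fun v => ?_⟩, fun a => by simp [x']⟩
  · have : e ≠ s(v₀, w₀) := fun h => he (h ▸ he₀)
    simp [x', this, he]
  · show ∑ e ∈ G.incidenceFinset v, x' e • a = 0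
    rw [← Finset.sum_smul]
    have hins : G'.incidenceFinset v = (G.incidenceFinset v).erase s(v₀, w₀) := by
      ext e
      induction e using Sym2.ind with
      | _ p q => simp [hG', SimpleGraph.mem_incidenceFinset, SimpleGraph.incidenceSet, and_comm, and_assoc, and_left_comm]
    have h0 : ∑ e ∈ G.incidenceFinset v, x' e = 0 := by
      have h' : ∑ e ∈ G'.incidenceFinset v, x' e = (-(Pi.single v₀ (1 : ℤ) + Pi.single w₀ 1) : V → ℤ) v := by
        rw [← hx v]
        refine Finset.sum_congr rfl fun e he => ?_
        rw [hins, Finset.mem_erase, SimpleGraph.mem_incidenceFinset] at he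
        simp [x', he.1, he.2.1]
      by_cases hmem : s(v₀, w₀) ∈ G.incidenceFinset v
      · rw [← Finset.add_sum_erase _ x' hmem, ← hins, h']
        rw [SimpleGraph.mem_incidenceFinset] at hmem
        rcases Sym2.mem_iff.1 hmem.2 with rfl | rfl
        · simp [x', hvw.ne]
        · simp [x', hvw.ne.symm]
      · rw [← Finset.erase_eq_of_notMem hmem, ← hins, h']
        rw [SimpleGraph.mem_incidenceFinset] at hmem
        have hv : v ≠ v₀ := fun h => hmem ⟨he₀, by simp [h]⟩
        have hw : v ≠ w₀ := fun h => hmem ⟨he₀, by simp [h]⟩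
        simp [hv, hw]
    rw [h0, zero_smul]

end Groth.Agent.S13410
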