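import Groth.Statements.S13411
import Mathlib
-- import your own Groth.Agent.* helpers here

set_option autoImplicit false
universe u v
open CombGraph

namespace Groth.Agent.S13411

/-- Let `A` be an abelian group and `G` a finite connected simple graph on `V`, bipartite for a
two-colouring `c`, with cyclomatic number `n` (number of edges minus number of vertices plus one).
Then the additive group of labellings `x : Sym2 V → A` vanishing off the edge set and with `∑_{e ∋
v} x e = 0` at every vertex `v` is isomorphic to `A^n`: it is the range of an injective additive map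
`(Fin n → A) → (Sym2 V → A)`. (The published statement concerns finite bipartite graphs in general;
this row treats simple graphs.) -/
theorem result {V : Type u} [Fintype V]
    [DecidableEq V] (G : SimpleGraph V) [DecidableRel G.Adj] (hconn : G.Connected) (c : V → Bool)
    (hbip : ∀ v w : V, G.Adj v w → c v ≠ c w) (A : Type v) [AddCommGroup A] (n : ℕ)
    (hn : G.edgeFinset.card + 1 = Fintype.card V + n) :
    ∃ f : (Fin n → A) →+ (Sym2 V → A), Function.Injective f ∧
      Set.range f = {x : Sym2 V → A | (∀ e : Sym2 V, e ∉ G.edgeSet → x e = 0) ∧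
        ∀ v : V, ∑ e ∈ G.incidenceFinset v, x e = 0} := by
  classical
  obtain ⟨T, hTG, hT⟩ := hconn.exists_isTree_le
  let s : V → A →+ A := fun v => if c v then AddMonoidHom.id A else -AddMonoidHom.id A
  have hs : ∀ v w a, G.Adj v w → s v a + s w a = 0 := fun v w a h => by
    have := hbip v w h
    cases hv : c v <;> cases hw : c w <;> simp_all [s]
  have hss : ∀ v a, s v (s v a) = a := fun v a => by cases hv : c v <;> simp [s, hv]
  have hss2 : ∀ u v w a, G.Adj u v → s u (s w a) = -(s v (s w a)) := fun u v w a h =>
    eq_neg_of_add_eq_zero_left (hs u v _ h)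
  have hinc : ∀ (x : Sym2 V → A) (v : V), ∑ e ∈ G.incidenceFinset v, x e = ∑ e ∈ G.edgeFinset, if v ∈ e then x e else 0 := by
    intro x v
    rw [← Finset.sum_filter, SimpleGraph.incidenceFinset_eq_filter]
  let D : (Sym2 V → A) →+ (V → A) :=
    { toFun := fun x v => ∑ e ∈ G.edgeFinset, if v ∈ e then x e else 0
      map_zero' := by funext v; simp
      map_add' := fun x y => by
        funext v
        simp only [Pi.add_apply, ← Finset.sum_add_distrib]
        exact Finset.sum_congr rfl fun e _ => by split_ifs <;> simp }
  -- functions on the tree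
  let W : AddSubgroup (Sym2 V → A) :=
    { carrier := {x | ∀ e, e ∉ T.edgeSet → x e = 0}
      zero_mem' := fun e _ => rfl
      add_mem' := fun {x y} hx hy e he => by rw [Pi.add_apply, hx e he, hy e he, add_zero]
      neg_mem' := fun {x} hx e he => by rw [Pi.neg_apply, hx e he, neg_zero] }
  have hinj : ∀ x ∈ W, D x = 0 → x = 0 := by
    intro x hx hD
    funext e₀
    by_cases he₀ : e₀ ∈ T.edgeSet
    swap
    · exact hx e₀ he₀
    revert he₀
    induction e₀ using Sym2.ind with
    | _ u₀ w₀ =>
      intro he₀
      have hbr := SimpleGraph.isBridge_iff.1 (SimpleGraph.isAcyclic_iff_forall_isBridge.1 hT.IsAcyclic he₀)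
      let S := Finset.univ.filter fun v => (T.deleteEdges {s(u₀, w₀)}).Reachable u₀ v
      have hsum : ∑ v ∈ S, s v (D x v) = 0 := Finset.sum_eq_zero fun v _ => by rw [hD]; exact map_zero _
      have heq : ∀ e ∈ G.edgeFinset, (∑ v ∈ S, s v (if v ∈ e then x e else 0)) =
          if e = s(u₀, w₀) then s u₀ (x e) else 0 := by
        intro e he
        induction e using Sym2.ind with
        | _ p r =>
          have hpr : G.Adj p r := SimpleGraph.mem_edgeFinset.1 he
          simp only [apply_ite (s _), map_zero, ← Finset.sum_filter]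
          have hfil : S.filter (fun v => v ∈ s(p, r)) = ({p, r} : Finset V).filter (· ∈ S) := by
            ext v; simp only [Finset.mem_filter, Sym2.mem_iff, Finset.mem_insert, Finset.mem_singleton]; tauto
          rw [hfil, Finset.sum_filter, Finset.sum_pair hpr.ne]
          by_cases hT' : s(p, r) ∈ T.edgeSet
          · by_cases h0 : s(p, r) = s(u₀, w₀)
            · rw [if_pos h0]
              have hu : u₀ ∈ S := Finset.mem_filter.2 ⟨Finset.mem_univ _, SimpleGraph.Reachable.rfl⟩
              have hw : w₀ ∉ S := fun h => hbr (Finset.mem_filter.1 h).2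
              rcases Sym2.eq_iff.1 h0 with ⟨rfl, rfl⟩ | ⟨rfl, rfl⟩
              · rw [if_pos hu, if_neg hw, add_zero]
              · rw [if_pos hu, if_neg hw, zero_add]
            · rw [if_neg h0]
              have hadj : (T.deleteEdges {s(u₀, w₀)}).Adj p r := by
                rw [SimpleGraph.deleteEdges_adj]; exact ⟨hT', h0⟩
              have hiff : p ∈ S ↔ r ∈ S := by
                simp only [S, Finset.mem_filter, Finset.mem_univ, true_and]
                exact ⟨fun h => h.trans hadj.reachable, fun h => h.trans hadj.symm.reachable⟩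
              by_cases hp : p ∈ S
              · rw [if_pos hp, if_pos (hiff.1 hp), hs p r _ hpr]
              · rw [if_neg hp, if_neg (fun h => hp (hiff.2 h)), add_zero]
          · have h0 : s(p, r) ≠ s(u₀, w₀) := fun h => hT' (h ▸ he₀)
            rw [if_neg h0, hx _ hT']
            simp
      have hu0 : s(u₀, w₀) ∈ G.edgeFinset := SimpleGraph.mem_edgeFinset.2 (SimpleGraph.edgeSet_mono hTG he₀)
      have h1 : ∑ v ∈ S, s v (D x v) = s u₀ (x s(u₀, w₀)) := by
        show ∑ v ∈ S, s v (∑ e ∈ G.edgeFinset, if v ∈ e then x e else 0) = _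
        simp only [map_sum]
        rw [Finset.sum_comm, Finset.sum_congr rfl heq, Finset.sum_ite_eq' _ _ (fun e => s u₀ (x e)), if_pos hu0]
      rw [h1] at hsum
      have := congrArg (s u₀) hsum
      rwa [hss, map_zero] at this
  have hsum0 : ∀ x, ∑ v, s v (D x v) = 0 := by
    intro x
    show ∑ v, s v (∑ e ∈ G.edgeFinset, if v ∈ e then x e else 0) = 0
    simp only [map_sum]
    rw [Finset.sum_comm]
    refine Finset.sum_eq_zero fun e he => ?_
    induction e using Sym2.ind with
    | _ p r =>
      have hpr : G.Adj p r := SimpleGraph.mem_edgeFinset.1 he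
      simp only [apply_ite (s _), map_zero, ← Finset.sum_filter]
      rw [show (Finset.univ.filter fun v => v ∈ s(p, r)) = {p, r} by ext v; simp, Finset.sum_pair hpr.ne, hs p r _ hpr]
  have hsurj : ∀ z : V → A, ∑ v, s v (z v) = 0 → ∃ x ∈ W, D x = z := by
    intro z hz
    let H := W.map D
    suffices z ∈ H from AddSubgroup.mem_map.1 this
    have hedge : ∀ p r a, T.Adj p r → (Pi.single p a + Pi.single r a : V → A) ∈ H := by
      intro p r a hpr
      refine AddSubgroup.mem_map.2 ⟨Pi.single s(p, r) a, fun e he => Pi.single_eq_of_ne (fun h => he (by rw [h]; exact hpr)) _, ?_⟩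
      funext v
      show (∑ e ∈ G.edgeFinset, if v ∈ e then (Pi.single s(p, r) a : Sym2 V → A) e else 0) = _
      rw [Finset.sum_eq_single s(p, r) (fun e _ he => by rw [Pi.single_eq_of_ne he]; simp)
        (fun h => absurd (SimpleGraph.mem_edgeFinset.2 (hTG hpr)) h), Pi.single_eq_same]
      by_cases hvp : v = p
      · subst hvp; simp [hpr.ne]
      by_cases hvr : v = r
      · subst hvr; simp [hpr.ne']
      simp [hvp, hvr]
    have hwalk : ∀ p r (w : T.Walk p r) a, (Pi.single p a - Pi.single r (s r (s p a)) : V → A) ∈ H := by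
      intro p r w
      induction w with
      | nil => intro a; rw [hss, sub_self]; exact zero_mem _
      | @cons p q r h w ih =>
        intro a
        have h2 := sub_mem (hedge p q a h) (ih a)
        have hrel : s r (s p a) = -(s r (s q a)) := by
          rw [← map_neg, eq_neg_of_add_eq_zero_left (hs p q a (hTG h))]
        convert h2 using 1
        rw [hrel, Pi.single_neg]
        abel
    obtain ⟨r⟩ : Nonempty V := hconn.nonempty
    have hz' : z = ∑ v, (Pi.single v (z v) - Pi.single r (s r (s v (z v))) : V → A) := by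
      rw [Finset.sum_sub_distrib, Finset.univ_sum_single z,
        show (∑ v, (Pi.single r (s r (s v (z v))) : V → A)) = AddMonoidHom.single (fun _ => A) r (s r (∑ v, s v (z v))) by simp only [map_sum, AddMonoidHom.single_apply],
        hz, map_zero, map_zero, sub_zero]
    rw [hz']
    exact sum_mem fun v _ => hwalk v r ((hT.connected v r).some) (z v)
  let N := G.edgeFinset \ T.edgeFinset
  have hN : N.card = n := by
    rw [Finset.card_sdiff_of_subset (SimpleGraph.edgeFinset_mono hTG)]
    have := hT.card_edgeFinset
    omega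
  let σ : Fin n ≃ {e // e ∈ N} := (Fintype.equivFinOfCardEq (by simp [hN])).symm
  let ext0 : (Fin n → A) →+ (Sym2 V → A) :=
    { toFun := fun y e => if h : e ∈ N then y (σ.symm ⟨e, h⟩) else 0
      map_zero' := by funext e; simp
      map_add' := fun y y' => by funext e; by_cases h : e ∈ N <;> simp [h] }
  have hsol : ∀ y, ∃ x ∈ W, D x = -D (ext0 y) := fun y => by
    refine hsurj _ ?_
    simp only [Pi.neg_apply, map_neg, Finset.sum_neg_distrib, hsum0, neg_zero]
  choose x hxW hxD using hsol
  have huniq : ∀ y z, z ∈ W → D z = -D (ext0 y) → x y = z := fun y z h1 h2 =>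
    sub_eq_zero.1 (hinj _ (sub_mem (hxW y) h1) (by rw [map_sub, hxD, h2, sub_self]))
  let f : (Fin n → A) →+ (Sym2 V → A) :=
    { toFun := fun y => ext0 y + x y
      map_zero' := by rw [huniq 0 0 (zero_mem _) (by simp)]; simp
      map_add' := fun y y' => by
        rw [huniq (y + y') (x y + x y') (add_mem (hxW y) (hxW y')) (by rw [map_add, hxD, hxD, map_add, map_add, neg_add]), map_add]
        abel }
  have hfN : ∀ y (i : Fin n), f y (σ i).1 = y i := fun y i => by
    have hTn : (σ i).1 ∉ T.edgeSet := fun h => (Finset.mem_sdiff.1 (σ i).2).2 (SimpleGraph.mem_edgeFinset.2 h)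
    show ext0 y (σ i).1 + x y (σ i).1 = y i
    rw [hxW y _ hTn, add_zero]
    simp [ext0, (σ i).2]
  refine ⟨f, fun y y' h => funext fun i => by rw [← hfN y, ← hfN y', h], Set.ext fun z => ?_⟩
  constructor
  · rintro ⟨y, rfl⟩
    refine ⟨fun e he => ?_, fun v => ?_⟩
    · show ext0 y e + x y e = 0
      rw [hxW y e (fun h => he (SimpleGraph.edgeSet_mono hTG h)), add_zero]
      have : e ∉ N := fun h => he (SimpleGraph.mem_edgeFinset.1 (Finset.mem_sdiff.1 h).1)
      simp [ext0, this]
    · rw [hinc]
      show D (ext0 y + x y) v = 0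
      rw [map_add, hxD, add_neg_cancel]; rfl
  · rintro ⟨h1, h2⟩
    refine ⟨fun i => z (σ i).1, ?_⟩
    have hD : D z = 0 := funext fun v => by rw [← show _ = D z v from hinc z v]; exact h2 v
    have hW' : z - ext0 (fun i => z (σ i).1) ∈ W := fun e he => by
      by_cases h : e ∈ N
      · simp [ext0, h]
      · have : e ∉ G.edgeSet := fun hg => h (Finset.mem_sdiff.2 ⟨SimpleGraph.mem_edgeFinset.2 hg, fun ht => he (SimpleGraph.mem_edgeFinset.1 ht)⟩)
        simp [ext0, h, h1 e this]
    show ext0 _ + x _ = z
    rw [huniq _ _ hW' (by rw [map_sub, hD, zero_sub]), add_sub_cancel]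

end Groth.Agent.S13411
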