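import Groth.Statements.S13417
import Groth.Agent.CommAlg6.NormalTensorField
import Groth.Agent.CommAlg6.NormalTensorSep
import Groth.Agent.HenselLib.Perm
import Groth.Agent.DimLib.Algebra
import Groth.Agent.CAlgH.NagataSeparable
-- import your own Groth.Agent.* helpers here

set_option autoImplicit false
universe u
open scoped TensorProduct
open HLoc2

namespace Groth.Agent.S13417

open scoped TensorProduct in
theorem main
    (k : Type u) [Field k] (R₀ : Type u) [CommRing R₀] [IsDomain R₀] [HenselianLocalRing R₀] [Algebra k R₀]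
    [IsIntegrallyClosed R₀] (hdim : ringKrullDim R₀ = 2)
    (hres : Function.Surjective (fun a : k => IsLocalRing.residue R₀ (algebraMap k R₀ a)))
    (Ks : Type u) [Field Ks] [Algebra k Ks] [Algebra.IsSeparable k Ks] [IsDomain (R₀ ⊗[k] Ks)] :
    ∃ _ : HenselianLocalRing (R₀ ⊗[k] Ks),
      IsIntegrallyClosed (R₀ ⊗[k] Ks) ∧
      ringKrullDim (R₀ ⊗[k] Ks) = 2 ∧
      Function.Surjective (fun a : Ks =>
        IsLocalRing.residue (R₀ ⊗[k] Ks)
          ((Algebra.TensorProduct.includeRight : Ks →ₐ[k] R₀ ⊗[k] Ks) a)) := by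
  classical
  haveI hint : Algebra.IsIntegral R₀ (R₀ ⊗[k] Ks) := Algebra.IsIntegral.tensorProduct k R₀ Ks
  have hinj : Function.Injective (algebraMap R₀ (R₀ ⊗[k] Ks)) :=
    fun a b h => (Algebra.TensorProduct.includeLeft_injective (R := k) (S := R₀) (A := R₀) (B := Ks)
      (algebraMap k Ks).injective) (show a ⊗ₜ[k] (1 : Ks) = b ⊗ₜ[k] (1 : Ks) by simpa [Algebra.TensorProduct.algebraMap_apply] using h)
  have hpoint : ∀ M : Ideal (R₀ ⊗[k] Ks), M.IsMaximal →
      Function.Surjective ((Ideal.Quotient.mk M).comp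
        (Algebra.TensorProduct.includeRight : Ks →ₐ[k] R₀ ⊗[k] Ks).toRingHom) ∧
      ∀ a : R₀, a ∈ IsLocalRing.maximalIdeal R₀ → algebraMap R₀ (R₀ ⊗[k] Ks) a ∈ M := by
    intro M hM
    have hc : (M.comap (algebraMap R₀ (R₀ ⊗[k] Ks))).IsMaximal :=
      Ideal.isMaximal_comap_of_isIntegral_of_isMaximal M
    have hm : ∀ a : R₀, a ∈ IsLocalRing.maximalIdeal R₀ → algebraMap R₀ (R₀ ⊗[k] Ks) a ∈ M := fun a ha =>
      Ideal.mem_comap.1 ((IsLocalRing.eq_maximalIdeal hc).symm ▸ ha)
    refine ⟨fun y => ?_, hm⟩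
    obtain ⟨z, rfl⟩ := Ideal.Quotient.mk_surjective y
    induction z using TensorProduct.induction_on with
    | zero => exact ⟨0, map_zero _⟩
    | tmul a s =>
      obtain ⟨c, hc⟩ := hres (IsLocalRing.residue R₀ a)
      refine ⟨algebraMap k Ks c * s, ?_⟩
      show Ideal.Quotient.mk M ((1 : R₀) ⊗ₜ[k] (algebraMap k Ks c * s)) = Ideal.Quotient.mk M (a ⊗ₜ[k] s)
      rw [Ideal.Quotient.eq]
      have hd : algebraMap k R₀ c - a ∈ IsLocalRing.maximalIdeal R₀ := Ideal.Quotient.eq.1 hc
      have he : (1 : R₀) ⊗ₜ[k] (algebraMap k Ks c * s) - a ⊗ₜ[k] s =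
          algebraMap R₀ (R₀ ⊗[k] Ks) (algebraMap k R₀ c - a) * ((1 : R₀) ⊗ₜ[k] s) := by
        rw [Algebra.TensorProduct.algebraMap_apply, Algebra.TensorProduct.tmul_mul_tmul, one_mul, mul_one,
          Algebra.algebraMap_self_apply, TensorProduct.sub_tmul, ← Algebra.smul_def, TensorProduct.tmul_smul,
          TensorProduct.smul_tmul', Algebra.algebraMap_eq_smul_one]
      rw [he]
      exact M.mul_mem_right _ (hm _ hd)
    | add x y hx hy =>
      obtain ⟨a, ha⟩ := hx
      obtain ⟨b, hb⟩ := hy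
      exact ⟨a + b, by rw [map_add, map_add, ha, hb]⟩
  -- the maximal ideal is unique: all maximal ideals have the same contraction to the field
  haveI hloc : IsLocalRing (R₀ ⊗[k] Ks) := by
    refine IsLocalRing.of_unique_max_ideal ?_
    obtain ⟨M, hM⟩ := Ideal.exists_maximal (R₀ ⊗[k] Ks)
    refine ⟨M, hM, fun N hN => ?_⟩
    refine hN.eq_of_le hM.ne_top fun z hz => ?_
    -- write z = 1 ⊗ s + (element of the extension of the maximal ideal)
    let J : Ideal (R₀ ⊗[k] Ks) := (IsLocalRing.maximalIdeal R₀).map (algebraMap R₀ (R₀ ⊗[k] Ks))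
    have hJ : ∀ P : Ideal (R₀ ⊗[k] Ks), P.IsMaximal → J ≤ P := fun P hP =>
      Ideal.map_le_iff_le_comap.2 fun a ha => (hpoint P hP).2 a ha
    have hdec : ∀ w : R₀ ⊗[k] Ks, ∃ s : Ks, w - (1 : R₀) ⊗ₜ[k] s ∈ J := by
      intro w
      induction w using TensorProduct.induction_on with
      | zero => exact ⟨0, by simp⟩
      | tmul a s =>
        obtain ⟨c, hc⟩ := hres (IsLocalRing.residue R₀ a)
        refine ⟨algebraMap k Ks c * s, ?_⟩
        have hd : a - algebraMap k R₀ c ∈ IsLocalRing.maximalIdeal R₀ := Ideal.Quotient.eq.1 hc.symm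
        have he : a ⊗ₜ[k] s - (1 : R₀) ⊗ₜ[k] (algebraMap k Ks c * s) =
            algebraMap R₀ (R₀ ⊗[k] Ks) (a - algebraMap k R₀ c) * ((1 : R₀) ⊗ₜ[k] s) := by
          rw [Algebra.TensorProduct.algebraMap_apply, Algebra.TensorProduct.tmul_mul_tmul, one_mul, mul_one,
            Algebra.algebraMap_self_apply, TensorProduct.sub_tmul, ← Algebra.smul_def, TensorProduct.tmul_smul,
            TensorProduct.smul_tmul', Algebra.algebraMap_eq_smul_one]
        rw [he]
        exact J.mul_mem_right _ (Ideal.mem_map_of_mem _ hd)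
      | add x y hx hy =>
        obtain ⟨a, ha⟩ := hx
        obtain ⟨b, hb⟩ := hy
        refine ⟨a + b, ?_⟩
        rw [TensorProduct.tmul_add, add_sub_add_comm]
        exact J.add_mem ha hb
    obtain ⟨s, hs⟩ := hdec z
    have hsN : (1 : R₀) ⊗ₜ[k] s ∈ N := by
      have := N.sub_mem hz (hJ N hN hs)
      simpa using this
    have hs0 : s = 0 := by
      by_contra h0
      have hu : IsUnit ((1 : R₀) ⊗ₜ[k] s : R₀ ⊗[k] Ks) :=
        (isUnit_iff_ne_zero.2 h0).map (Algebra.TensorProduct.includeRight : Ks →ₐ[k] R₀ ⊗[k] Ks)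
      exact hN.ne_top (Ideal.eq_top_of_isUnit_mem _ hsN hu)
    rw [hs0, TensorProduct.tmul_zero, sub_zero] at hs
    exact hJ M hM hs
  haveI hh : HenselianLocalRing (R₀ ⊗[k] Ks) :=
    _root_.Groth.Agent.HenselLib.henselianLocalRing_of_isIntegral R₀ (R₀ ⊗[k] Ks)
  refine ⟨hh, ?_, ?_, ?_⟩
  · haveI := _root_.Groth.Agent.CAlgH.NagataSeparable.isGeometricallyReduced_of_isSeparable k Ks
    have hB : EGA4.IsNormalRing R₀ := fun q _ =>
      ⟨inferInstance, isIntegrallyClosed_of_isLocalization _ q.primeCompl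
        (by intro x hx; exact mem_nonZeroDivisors_of_ne_zero fun h0 => hx (h0 ▸ q.zero_mem))⟩
    have hn := _root_.Groth.Agent.CommAlg6.NormalTensor.isNormalRing_tensor_of_isGeomNormal k Ks R₀
      (_root_.Groth.Agent.CommAlg6.NormalTensorSep.isGeomNormal_field k Ks) hB
    have hn' : EGA4.IsNormalRing (R₀ ⊗[k] Ks) :=
      _root_.Groth.Agent.CommAlg6.isNormalRing_of_ringEquiv (Algebra.TensorProduct.comm k Ks R₀).toRingEquiv hn
    exact IsIntegrallyClosed.of_localization_maximal fun p _ hp => (hn' p).2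
  · exact (_root_.Groth.Agent.DimLib.ringKrullDim_eq_of_isIntegral hinj).symm.trans hdim
  · exact (hpoint _ (IsLocalRing.maximalIdeal.isMaximal _)).1

/-- Let `k` be a field with separable closure `kˢ` and `R₀` a commutative local `k`-algebra which is
excellent, henselian, integrally closed, of Krull dimension two, with residue field `k`, and
geometrically integral (`R₀ ⊗_k kˢ` is a domain). Then `R₀ ⊗_k kˢ` is a henselian local ring which
is integrally closed, of Krull dimension two, and whose residue field is `kˢ` (the composite `kˢ →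
R₀ ⊗_k kˢ →` residue field is surjective). (The published statement also asserts that `R₀ ⊗_k kˢ` is
excellent; that assertion is not restated here.) -/
theorem result
    (k : Type u) [Field k] (R₀ : Type u) [CommRing R₀] [IsDomain R₀] [HenselianLocalRing R₀] [Algebra k R₀]
    [IsIntegrallyClosed R₀] (hexc : EGA4.IsExcellent R₀) (hdim : ringKrullDim R₀ = 2)
    (hres : Function.Surjective (fun a : k => IsLocalRing.residue R₀ (algebraMap k R₀ a)))
    [IsDomain (R₀ ⊗[k] SeparableClosure k)] :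
    ∃ _ : HenselianLocalRing (R₀ ⊗[k] SeparableClosure k),
      IsIntegrallyClosed (R₀ ⊗[k] SeparableClosure k) ∧
      ringKrullDim (R₀ ⊗[k] SeparableClosure k) = 2 ∧
      Function.Surjective (fun a : SeparableClosure k =>
        IsLocalRing.residue (R₀ ⊗[k] SeparableClosure k)
          ((Algebra.TensorProduct.includeRight : SeparableClosure k →ₐ[k] R₀ ⊗[k] SeparableClosure k) a)) := main k R₀ hdim hres (SeparableClosure k)

end Groth.Agent.S13417
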