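import Groth.Statements.S13418
import Groth.Agent.NeronLib.Restrict
open Groth.Agent.NeronLib CategoryTheory CategoryTheory.Limits AlgebraicGeometry

set_option autoImplicit false
universe u
open CategoryTheory AlgebraicGeometry
open NeronHD

namespace Groth.Agent.S13418

/-- Let S be a locally Noetherian scheme over a field of characteristic 0 and S₀ ⊆ S a
scheme-theoretically dense open. If N and M are smooth S-schemes having the Néron mapping property
for S₀ ⊆ S (for every smooth S-scheme Z, restriction to S₀ is a bijection from S-morphisms Z → N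
onto S₀-morphisms Z|S₀ → N|S₀), then the fibre product N ×_S M has the Néron mapping property for S₀
⊆ S (its smoothness over S being automatic). (This row is the case of schemes, with smooth test
schemes, of a statement about algebraic spaces.) -/
theorem result {k : Type u} [Field k] [CharZero k] {S : Scheme.{u}} (σ : S ⟶ Spec (CommRingCat.of k)) [IsLocallyNoetherian S] (S₀ : S.Opens) (hS₀ : CInt.IsSchematicallyDense S₀)
    (N M : Over S) [Smooth N.hom] [Smooth M.hom]
    (hN : ∀ Z : Over S, Smooth Z.hom → Function.Bijective (fun g : Z ⟶ N => (Over.pullback S₀.ι).map g))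
    (hM : ∀ Z : Over S, Smooth Z.hom → Function.Bijective (fun g : Z ⟶ M => (Over.pullback S₀.ι).map g)) :
    ∀ Z : Over S, Smooth Z.hom → Function.Bijective (fun g : Z ⟶ Over.mk (Limits.pullback.fst N.hom M.hom ≫ N.hom) => (Over.pullback S₀.ι).map g) := by
  intro Z hZ
  have hP := IsPullback.of_hasPullback Z.hom S₀.ι
  rw [bijective_map_iff _ hP]
  intro h hh
  obtain ⟨a, ha, hau⟩ := (bijective_map_iff _ hP).1 (hN Z hZ) (h ≫ pullback.fst N.hom M.hom)
    ((Category.assoc _ _ _).trans hh)
  obtain ⟨b, hb, hbu⟩ := (bijective_map_iff _ hP).1 (hM Z hZ) (h ≫ pullback.snd N.hom M.hom)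
    ((Category.assoc _ _ _).trans ((congrArg _ pullback.condition.symm).trans hh))
  refine ⟨Over.homMk (pullback.lift a.left b.left ((Over.w a).trans (Over.w b).symm))
    ((Category.assoc _ _ _).symm.trans ((congrArg (· ≫ N.hom) (pullback.lift_fst _ _ _)).trans (Over.w a))), ?_, fun c hc => ?_⟩
  · refine pullback.hom_ext ((Category.assoc _ _ _).trans ?_) ((Category.assoc _ _ _).trans ?_)
    · exact (congrArg _ (pullback.lift_fst _ _ _)).trans ha
    · exact (congrArg _ (pullback.lift_snd _ _ _)).trans hb
  · refine Over.OverMorphism.ext (pullback.hom_ext ?_ ?_)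
    · refine Eq.trans ?_ (pullback.lift_fst _ _ _).symm
      exact congrArg (fun t => t.left) (hau (Over.homMk (c.left ≫ pullback.fst N.hom M.hom)
        ((Category.assoc _ _ _).trans (Over.w c))) ((Category.assoc _ _ _).symm.trans (congrArg (· ≫ pullback.fst N.hom M.hom) hc)))
    · refine Eq.trans ?_ (pullback.lift_snd _ _ _).symm
      exact congrArg (fun t => t.left) (hbu (Over.homMk (c.left ≫ pullback.snd N.hom M.hom)
        ((Category.assoc _ _ _).trans ((congrArg _ pullback.condition.symm).trans (Over.w c))))
        ((Category.assoc _ _ _).symm.trans (congrArg (· ≫ pullback.snd N.hom M.hom) hc)))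

end Groth.Agent.S13418
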