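import Groth.Statements.S13420
import Groth.Agent.NeronLib.Restrict
open Groth.Agent.NeronLib CategoryTheory CategoryTheory.Limits AlgebraicGeometry

set_option autoImplicit false
universe u
open CategoryTheory AlgebraicGeometry
open NeronHD

namespace Groth.Agent.S13420

/-- Let S be a locally Noetherian scheme over a field of characteristic 0, S₀ ⊆ S₁ ⊆ S opens with S₀
scheme-theoretically dense in S, and N a smooth S-scheme. If N has the Néron mapping property for S₀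
⊆ S and N|S₁ has the Néron mapping property for S₀ ⊆ S₁ (restriction of morphisms from smooth
schemes over the base is bijective), then N has the Néron mapping property for S₁ ⊆ S. (Case of
schemes, with smooth test schemes, of a statement about algebraic spaces.) -/
theorem result {k : Type u} [Field k] [CharZero k] {S : Scheme.{u}} (σ : S ⟶ Spec (CommRingCat.of k)) [IsLocallyNoetherian S] (S₀ S₁ : S.Opens) (h01 : S₀ ≤ S₁) (hS₀ : CInt.IsSchematicallyDense S₀)
    (N : Over S) [Smooth N.hom]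
    (hN0 : ∀ Z : Over S, Smooth Z.hom → Function.Bijective (fun g : Z ⟶ N => (Over.pullback S₀.ι).map g))
    (hN10 : ∀ Z : Over (S₁ : Scheme.{u}), Smooth Z.hom → Function.Bijective (fun g : Z ⟶ (Over.pullback S₁.ι).obj N => (Over.pullback (S₁.ι ⁻¹ᵁ S₀).ι).map g)) :
    ∀ Z : Over S, Smooth Z.hom → Function.Bijective (fun g : Z ⟶ N => (Over.pullback S₁.ι).map g) := by
  intro Z hZ
  have hk : Set.range ((S₁.ι ⁻¹ᵁ S₀).ι ≫ S₁.ι) = Set.range S₀.ι := by
    rw [Scheme.Hom.comp_base, TopCat.coe_comp, Set.range_comp, Scheme.Opens.range_ι, Scheme.Opens.range_ι]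
    ext x
    exact ⟨fun ⟨y, hy, e⟩ => e ▸ hy, fun hx => ⟨⟨x, h01 hx⟩, hx, rfl⟩⟩
  let e := IsOpenImmersion.isoOfRangeEq ((S₁.ι ⁻¹ᵁ S₀).ι ≫ S₁.ι) S₀.ι hk
  have he : e.hom ≫ S₀.ι = (S₁.ι ⁻¹ᵁ S₀).ι ≫ S₁.ι := IsOpenImmersion.isoOfRangeEq_hom_fac _ _ _
  have hP1 := IsPullback.of_hasPullback Z.hom S₁.ι
  let Z₁ : Over (S₁ : Scheme.{u}) := Over.mk (pullback.snd Z.hom S₁.ι)
  have hZ₁ : Smooth Z₁.hom := by show Smooth (pullback.snd Z.hom S₁.ι); infer_instance
  have hP10 := IsPullback.of_hasPullback Z₁.hom (S₁.ι ⁻¹ᵁ S₀).ι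
  have hP0 : IsPullback (pullback.fst Z₁.hom (S₁.ι ⁻¹ᵁ S₀).ι ≫ pullback.fst Z.hom S₁.ι)
      (pullback.snd Z₁.hom (S₁.ι ⁻¹ᵁ S₀).ι ≫ e.hom) Z.hom S₀.ι :=
    (hP10.paste_horiz hP1).of_iso (Iso.refl _) (Iso.refl _) e (Iso.refl _) (by simp) (by simp) (by simp) (by simp [he])
  rw [bijective_map_iff _ hP1]
  intro h hh
  obtain ⟨a, ha, hau⟩ := (bijective_map_iff _ hP0).1 (hN0 Z hZ)
    (pullback.fst Z₁.hom (S₁.ι ⁻¹ᵁ S₀).ι ≫ h) (by rw [Category.assoc, hh, Category.assoc])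
  have key : ∀ c : Z ⟶ N, pullback.fst Z.hom S₁.ι ≫ c.left = h →
      (pullback.fst Z₁.hom (S₁.ι ⁻¹ᵁ S₀).ι ≫ pullback.fst Z.hom S₁.ι) ≫ c.left =
        pullback.fst Z₁.hom (S₁.ι ⁻¹ᵁ S₀).ι ≫ h := fun c hc => by rw [Category.assoc, hc]
  refine ⟨a, ?_, fun c hc => hau c (key c hc)⟩
  have hw : (pullback.fst Z.hom S₁.ι ≫ a.left) ≫ N.hom = pullback.snd Z.hom S₁.ι ≫ S₁.ι := by
    rw [Category.assoc, Over.w a]; exact pullback.condition
  have hw' : h ≫ N.hom = pullback.snd Z.hom S₁.ι ≫ S₁.ι := hh.trans pullback.condition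
  have := (injective_map_iff _ hP10).1 (hN10 Z₁ hZ₁).1
    (Over.homMk (pullback.lift (pullback.fst Z.hom S₁.ι ≫ a.left) _ hw) (pullback.lift_snd _ _ _))
    (Over.homMk (pullback.lift h _ hw') (pullback.lift_snd _ _ _)) (by
      refine pullback.hom_ext ?_ ?_
      · exact (Category.assoc _ _ _).trans ((congrArg _ (pullback.lift_fst _ _ _)).trans
          ((Category.assoc _ _ _).symm.trans (ha.trans ((congrArg _ (pullback.lift_fst _ _ _).symm).trans (Category.assoc _ _ _).symm))))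
      · exact (Category.assoc _ _ _).trans ((congrArg _ (pullback.lift_snd _ _ _)).trans
          ((congrArg _ (pullback.lift_snd _ _ _).symm).trans (Category.assoc _ _ _).symm)))
  have h2 := congrArg (fun t => t.left ≫ pullback.fst N.hom S₁.ι) this
  exact (pullback.lift_fst _ _ _).symm.trans (h2.trans (pullback.lift_fst _ _ _))

end Groth.Agent.S13420
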