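import Groth.Statements.S13422
import Groth.Agent.NeronLib.FlatDense
import Groth.Agent.NeronLib.SmoothQuasiSection
import Groth.Agent.SGA3xLib.SepFibre
-- import your own Groth.Agent.* helpers here

set_option autoImplicit false
universe u
open CategoryTheory AlgebraicGeometry
open NeronHD

namespace Groth.Agent.S13422

/-- Let S be a locally Noetherian scheme over a field of characteristic 0, S₀ ⊆ S a scheme-theoretically
dense open, and N a smooth S-scheme with the weak Néron mapping property for S₀ ⊆ S: for every étale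
S-scheme U, restriction to S₀ is a bijection from S-morphisms U → N onto S₀-morphisms U|S₀ → N|S₀.
Then N has the uniqueness half of the Néron mapping property: for every smooth S-scheme Z,
restriction of S-morphisms Z → N to S₀ is injective. (Case of schemes of a statement about algebraic
spaces.) -/
theorem result {k : Type u} [Field k] [CharZero k] {S : Scheme.{u}} (σ : S ⟶ Spec (CommRingCat.of k)) [IsLocallyNoetherian S] (S₀ : S.Opens) (hS₀ : CInt.IsSchematicallyDense S₀)
    (N : Over S) [Smooth N.hom]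
    (hN : ∀ U : Over S, Etale U.hom → Function.Bijective (fun g : U ⟶ N => (Over.pullback S₀.ι).map g))
    (Z : Over S) [Smooth Z.hom] :
    Function.Injective (fun g : Z ⟶ N => (Over.pullback S₀.ι).map g) := by
  intro g₁ g₂ h
  let eU := pullbackRestrictIsoRestrict Z.hom S₀
  have heU : eU.inv ≫ Limits.pullback.fst Z.hom S₀.ι = (Z.hom ⁻¹ᵁ S₀).ι := pullbackRestrictIsoRestrict_inv_fst _ _
  have h' : ((Over.pullback S₀.ι).map g₁).left ≫ Limits.pullback.fst N.hom S₀.ι =
      ((Over.pullback S₀.ι).map g₂).left ≫ Limits.pullback.fst N.hom S₀.ι :=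
    congrArg (fun m : (Over.pullback S₀.ι).obj Z ⟶ (Over.pullback S₀.ι).obj N =>
      m.left ≫ Limits.pullback.fst N.hom S₀.ι) h
  have e1 : ∀ g : Z ⟶ N, ((Over.pullback S₀.ι).map g).left ≫ Limits.pullback.fst N.hom S₀.ι =
      Limits.pullback.fst Z.hom S₀.ι ≫ g.left := fun g => Limits.pullback.lift_fst _ _ _
  rw [e1, e1] at h'
  have hZ₀ : (Z.hom ⁻¹ᵁ S₀).ι ≫ g₁.left = (Z.hom ⁻¹ᵁ S₀).ι ≫ g₂.left := by
    rw [← heU, Category.assoc, Category.assoc, h']
  have hsd := Groth.Agent.NeronLib.isSchematicallyDense_preimage Z.hom hS₀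
  refine Over.OverMorphism.ext (Scheme.hom_ext_of_forall _ _ fun z => ?_)
  obtain ⟨U, g, y, hU, hzy⟩ := Groth.Agent.NeronLib.exists_etale_specializes σ Z.hom z
  have hgg : g ≫ g₁.left = g ≫ g₂.left := by
    let gU : Over.mk (g ≫ Z.hom) ⟶ Z := Over.homMk g
    have := (hN (Over.mk (g ≫ Z.hom)) hU).1 (a₁ := gU ≫ g₁) (a₂ := gU ≫ g₂) (by
      show (Over.pullback S₀.ι).map (gU ≫ g₁) = (Over.pullback S₀.ι).map (gU ≫ g₂)
      rw [Functor.map_comp, Functor.map_comp]
      exact congrArg ((Over.pullback S₀.ι).map gU ≫ ·) h)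
    exact congrArg (fun m : Over.mk (g ≫ Z.hom) ⟶ N => m.left) this
  have hpt : g₁.left (g y) = g₂.left (g y) := congrArg (fun m => m y) hgg
  obtain ⟨V, hV, hnV, -⟩ := exists_isAffineOpen_mem_and_subset (x := g₁.left (g y)) (U := ⊤) trivial
  let W : Z.left.Opens := g₁.left ⁻¹ᵁ V ⊓ g₂.left ⁻¹ᵁ V
  have hzW : z ∈ W := hzy.mem_open W.isOpen
    ⟨hnV, show g₂.left (g y) ∈ V from hpt ▸ hnV⟩
  refine ⟨W, hzW, ?_⟩
  have : IsAffine V.toScheme := hV
  have e : g₁.left.resLE V W inf_le_left = g₂.left.resLE V W inf_le_right := by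
    refine Groth.Agent.SGA3xLib.eq_of_schematicallyDense
      (Groth.Agent.SGA3xLib.schematicallyDense_preimage W.ι hsd) ?_
    rw [← cancel_mono V.ι, Category.assoc, Category.assoc, Scheme.Hom.resLE_comp_ι, Scheme.Hom.resLE_comp_ι,
      ← Category.assoc, ← morphismRestrict_ι, Category.assoc, hZ₀, ← Category.assoc, morphismRestrict_ι,
      Category.assoc]
  have := congrArg (fun t => t ≫ V.ι) e
  simpa [Scheme.Hom.resLE_comp_ι] using this

end Groth.Agent.S13422
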