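import Groth.Statements.S13423
import Groth.Agent.S1450
import Groth.Agent.FlatMor12.FibreFlat
import Groth.Agent.SmoothLib.QuasiFinite
import Groth.Agent.Props12.Components
import Groth.Agent.H8Top.SchemeBasic
-- import your own Groth.Agent.* helpers here

set_option autoImplicit false
universe u
open CategoryTheory AlgebraicGeometry
open NeronHD

namespace Groth.Agent.S13423

theorem formallyUnramified_of_smooth_quasiFinite {X S : Scheme.{u}} (f : X ⟶ S) [Smooth f]
    [LocallyQuasiFinite f] : FormallyUnramified f := by
  refine (formallyUnramified_iff f).2 fun {U} hU {V} hV e => ?_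
  have hs := HasRingHomProperty.appLE @Smooth f inferInstance ⟨U, hU⟩ ⟨V, hV⟩ e
  have hq := LocallyQuasiFinite.quasiFinite_appLE (f := f) hU hV e
  algebraize [(f.appLE U V e).hom]
  have := Groth.Agent.SmoothLib.etale_of_smooth_of_quasiFinite Γ(S, U) Γ(X, V)
  exact Algebra.FormallyEtale.iff_formallyUnramified_and_formallySmooth.1 inferInstance |>.1

theorem isDomain_stalk {S : Scheme.{u}} [IsReduced S] (s : S)
    (h : CAlg2.IsGeomUnibranch (S.presheaf.stalk s)) : IsDomain (S.presheaf.stalk s) := by
  have hb : nilradical (S.presheaf.stalk s) = ⊥ := nilradical_eq_zero _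
  have : IsDomain (CAlg2.red (S.presheaf.stalk s)) := h.1.1
  have hinj : Function.Injective (Ideal.Quotient.mk (nilradical (S.presheaf.stalk s))) :=
    (RingHom.injective_iff_ker_eq_bot _).2 (by rw [Ideal.mk_ker, hb])
  exact hinj.isDomain

theorem irreducibleSpace_of_stalks {S : Scheme.{u}} [IsLocallyNoetherian S] [ConnectedSpace S]
    (hS : ∀ s : S, IsDomain (S.presheaf.stalk s)) : IrreducibleSpace S := by
  have hfin : ∀ s : S, ∃ W : S.Opens, s ∈ W ∧
      {C ∈ irreducibleComponents S | (C ∩ (W : Set S)).Nonempty}.Finite := by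
    intro s
    obtain ⟨W, hW, hsW, -⟩ := exists_isAffineOpen_mem_and_subset (x := s) (U := ⊤) trivial
    refine ⟨W, hsW, ?_⟩
    have : IsNoetherianRing Γ(S, W) := IsLocallyNoetherian.component_noetherian ⟨W, hW⟩
    have : TopologicalSpace.NoetherianSpace W :=
      AlgebraicGeometry.noetherianSpace_of_isAffineOpen W hW
    have hfin : (irreducibleComponents W).Finite := TopologicalSpace.NoetherianSpace.finite_irreducibleComponents
    refine Set.Finite.of_finite_image (f := fun C => (Subtype.val ⁻¹' C : Set W)) (hfin.subset ?_) ?_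
    · rintro _ ⟨C, ⟨hC, hne⟩, rfl⟩
      exact preimage_mem_irreducibleComponents hC W.isOpen.isOpenEmbedding_subtypeVal
        (let ⟨x, hx1, hx2⟩ := hne; ⟨x, hx1, ⟨x, hx2⟩, rfl⟩)
    · intro C hC C' hC' e
      have h1 : C ∩ (W : Set S) = C' ∩ W := by
        ext x
        constructor
        · rintro ⟨h1, h2⟩; exact ⟨(Set.ext_iff.1 e ⟨x, h2⟩).1 h1, h2⟩
        · rintro ⟨h1, h2⟩; exact ⟨(Set.ext_iff.1 e ⟨x, h2⟩).2 h1, h2⟩
      obtain ⟨x, hx⟩ := hC.2
      have := hS x
      exact Groth.Agent.Props12.component_unique_of_isDomain hC.1 hC'.1 hx.1 (h1 ▸ hx : x ∈ C' ∩ W).1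
  obtain ⟨s₀⟩ := (inferInstance : Nonempty S)
  have hZ := irreducibleComponent_mem_irreducibleComponents (X := S) s₀
  have hopen := Groth.Agent.Props12.isOpen_component hS hfin hZ
  have hu : irreducibleComponent s₀ = Set.univ :=
    IsClopen.eq_univ ⟨isClosed_irreducibleComponent, hopen⟩ ⟨s₀, mem_irreducibleComponent⟩
  have : PreirreducibleSpace S := ⟨hu ▸ (isIrreducible_irreducibleComponent (x := s₀)).2⟩
  exact ⟨inferInstance⟩

/-- Let S be a reduced, locally Noetherian scheme over a field of characteristic 0 whose local rings are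
all geometrically unibranch, and let f : X → S be quasi-finite (locally of finite type,
quasi-compact, with finite discrete fibres), separated and dominant, with X connected and nonempty,
such that every fibre X_s over the residue field k(s) is smooth. Then f is étale. (Case of schemes
of a statement about algebraic spaces.) -/
theorem result {k : Type u} [Field k] [CharZero k] {S : Scheme.{u}} (σ : S ⟶ Spec (CommRingCat.of k)) [IsLocallyNoetherian S] [IsReduced S]
    (hS : ∀ s : S, CAlg2.IsGeomUnibranch (S.presheaf.stalk s))
    {X : Scheme.{u}} (f : X ⟶ S) [LocallyOfFiniteType f] [QuasiCompact f] [LocallyQuasiFinite f] [IsSeparated f] [IsDominant f]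
    [ConnectedSpace X]
    (hfib : ∀ s : S, Smooth (Limits.pullback.snd f (S.fromSpecResidueField s))) :
    Etale f := by
  have : ConnectedSpace S := by
    have hpre : _root_.IsPreconnected (closure (Set.range f)) :=
      (isPreconnected_range f.continuous).closure
    rw [f.denseRange.closure_range] at hpre
    exact { isPreconnected_univ := hpre, toNonempty := ⟨f (Nonempty.some inferInstance)⟩ }
  have hdom : ∀ s : S, IsDomain (S.presheaf.stalk s) := fun s => isDomain_stalk s (hS s)
  have := irreducibleSpace_of_stalks hdom
  have : IsIntegral S := isIntegral_of_irreducibleSpace_of_isReduced S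
  have : FormallyUnramified f := Groth.Agent.FlatMor12.formallyUnramified_of_fibres f fun s => by
    have : Smooth (f.fiberToSpecResidueField s) := hfib s
    have : LocallyQuasiFinite (f.fiberToSpecResidueField s) := MorphismProperty.pullback_snd _ _ inferInstance
    exact formallyUnramified_of_smooth_quasiFinite _
  have hgen : genericPoint S ∈ Set.range f := by
    obtain ⟨x, -, hx⟩ := (Groth.Agent.H8Top.isDominant_iff_maximal_points f).1 inferInstance (genericPoint S)
      (by rw [genericPoint_closure, irreducibleComponents_eq_singleton]; rfl)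
    exact ⟨x, hx⟩
  exact (Groth.Agent.S1450.result f hS hgen).1

end Groth.Agent.S13423
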