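import Groth.Statements.S13424
import Mathlib
import Groth.Agent.NeronLib.NormalSmooth
-- import your own Groth.Agent.* helpers here

set_option autoImplicit false
universe u
open CategoryTheory AlgebraicGeometry
open GrpSch

namespace Groth.Agent.S13424

set_option linter.unusedVariables false

open Groth.Agent in
/-- In a normal locally Noetherian scheme the closure of an open set is open. -/
lemma isOpen_closure_of_normal {W : Scheme.{u}} [IsLocallyNoetherian W] (hW : Pi1.IsNormalScheme W)
    (O : Set W) (hO : IsOpen O) : IsOpen (closure O) := by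
  refine isOpen_iff_forall_mem_open.2 fun z hz => ?_
  have hK := irreducibleComponent_mem_irreducibleComponents (X := W) z
  have hKo := NeronLib.isOpen_component_of_normal hW hK
  refine ⟨irreducibleComponent z, ?_, hKo, mem_irreducibleComponent⟩
  obtain ⟨y, hyK, hyO⟩ := mem_closure_iff.1 hz _ hKo mem_irreducibleComponent
  calc irreducibleComponent z ⊆ closure (irreducibleComponent z ∩ O) :=
        subset_closure_inter_of_isPreirreducible_of_isOpen isIrreducible_irreducibleComponent.isPreirreducible hO
          ⟨y, hyK, hyO⟩
    _ ⊆ closure O := closure_mono Set.inter_subset_right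

/-- Let S be a normal, locally Noetherian scheme over a field of characteristic 0. Let p : G → S and q :
H → S be smooth morphisms with sections e_G and e_H, and f : G → H an étale morphism over S with f ∘
e_G = e_H (the case in view: an étale homomorphism of smooth group schemes and their unit sections).
Call such a pointed S-scheme aligned when the scheme-theoretic image of its section is étale over S.
If H is aligned then G is aligned. (The published statement has an arbitrary locally Noetherian
base; over the reducible curve xy = 0 the étale group scheme obtained from two copies of the base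
glued along the complement of one branch maps to the trivial group by an étale homomorphism and is
not aligned, so the base is taken normal here, where the closure of the section is a union of
connected components of the preimage of the image of e_H. Schemes only.) -/
theorem result {k : Type u} [Field k] [CharZero k] {S : Scheme.{u}} (σ : S ⟶ Spec (CommRingCat.of k)) [IsLocallyNoetherian S] (hS : Pi1.IsNormalScheme S)
    {G H : Scheme.{u}} (p : G ⟶ S) (q : H ⟶ S) [Smooth p] [Smooth q]
    (eG : S ⟶ G) (eH : S ⟶ H) (heG : eG ≫ p = 𝟙 S) (heH : eH ≫ q = 𝟙 S)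
    (f : G ⟶ H) [Etale f] (hf : f ≫ q = p) (hfe : eG ≫ f = eH)
    (hH : Etale (eH.ker.subschemeι ≫ q)) :
    Etale (eG.ker.subschemeι ≫ p) := by
  have hHln : IsLocallyNoetherian H := LocallyOfFiniteType.isLocallyNoetherian q
  have hGln : IsLocallyNoetherian G := LocallyOfFiniteType.isLocallyNoetherian p
  let j := eH.ker.subschemeι
  let pr1 := Limits.pullback.fst f j
  let pr2 := Limits.pullback.snd f j
  have hw : pr1 ≫ p = pr2 ≫ (j ≫ q) := by
    rw [← hf, ← Category.assoc, Limits.pullback.condition, Category.assoc]
  haveI : Etale (j ≫ q) := hH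
  haveI : Etale pr2 := inferInstanceAs (Etale (Limits.pullback.snd f j))
  haveI : IsClosedImmersion pr1 := inferInstanceAs (IsClosedImmersion (Limits.pullback.fst f j))
  haveI : Etale (pr1 ≫ p) := by rw [hw]; infer_instance
  let s : S ⟶ Limits.pullback f j := Limits.pullback.lift eG eH.toImage (hfe.trans eH.toImage_imageι.symm)
  have hs : s ≫ (pr1 ≫ p) = 𝟙 S := by rw [Limits.pullback.lift_fst_assoc, heG]
  haveI : Etale (s ≫ (pr1 ≫ p)) := by rw [hs]; infer_instance
  haveI : Etale s := Etale.of_comp s (pr1 ≫ p)
  haveI : Mono s := mono_of_mono_fac hs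
  haveI : IsOpenImmersion s := IsOpenImmersion.of_flat_of_mono s
  have hWln : IsLocallyNoetherian (Limits.pullback f j) := LocallyOfFiniteType.isLocallyNoetherian (pr1 ≫ p)
  have hWn : Pi1.IsNormalScheme (Limits.pullback f j) :=
    Groth.Agent.NeronLib.isNormalScheme_of_smooth (pr1 ≫ p) hS
  haveI := Groth.Agent.NeronLib.isReduced_of_normal hWn
  let C : (Limits.pullback f j).Opens := ⟨closure (Set.range s), isOpen_closure_of_normal hWn _ s.isOpenEmbedding.isOpen_range⟩
  haveI : IsClosedImmersion C.ι := IsClosedImmersion.of_isPreimmersion C.ι (by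
    rw [Scheme.Opens.range_ι]; exact isClosed_closure)
  let s' : S ⟶ C := IsOpenImmersion.lift C.ι s (by
    rw [Scheme.Opens.range_ι]; exact subset_closure)
  have hs' : s' ≫ C.ι = s := IsOpenImmersion.lift_fac _ _ _
  haveI : IsDominant s' := ⟨by
    rw [DenseRange, C.ι.isOpenEmbedding.isInducing.dense_iff]
    intro z
    rw [← Set.range_comp, ← TopCat.coe_comp, ← Scheme.Hom.comp_base, hs']
    exact z.2⟩
  haveI : IsOpenImmersion (s' ≫ C.ι) := by rw [hs']; infer_instance
  haveI : IsOpenImmersion s' := IsOpenImmersion.of_comp s' C.ι
  haveI : IsSchemeTheoreticallyDominant s' := IsSchemeTheoreticallyDominant.of_isDominant s'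
  let i : (C : Scheme.{u}) ⟶ G := C.ι ≫ pr1
  have hker : eG.ker = i.ker := by
    have : eG = s' ≫ i := by rw [reassoc_of% hs', Limits.pullback.lift_fst]
    rw [this, Scheme.Hom.ker_comp, Scheme.Hom.ker_eq_bot s', Scheme.IdealSheafData.map_bot]
  haveI : Etale (i ≫ p) := by
    show Etale ((C.ι ≫ pr1) ≫ p)
    rw [Category.assoc]; infer_instance
  rw [hker]
  show Etale (i.imageι ≫ p)
  haveI : IsIso i.toImage := inferInstance
  rw [show i.imageι = inv i.toImage ≫ i by rw [IsIso.eq_inv_comp, Scheme.Hom.toImage_imageι], Category.assoc]
  infer_instance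

end Groth.Agent.S13424
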