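import Groth.Statements.S13425
import Groth.Agent.NeronLib.InjectivePoints
import Groth.Agent.NormalExtLib.Basic
import Groth.Agent.S4809
import Groth.Agent.S0409
import Groth.Agent.FlatLocal.FibreCrit
-- import your own Groth.Agent.* helpers here

set_option autoImplicit false
universe u
open CategoryTheory AlgebraicGeometry
open NeronHD

namespace Groth.Agent.S13425

theorem generic_mapsTo {X Y : Scheme.{u}} [IsIntegral X] [IsIntegral Y] (f : X ⟶ Y) [IsDominant f] :
    f (genericPoint X) = genericPoint Y := by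
  have h := (genericPoint_spec X).image f.continuous
  rw [Set.image_univ, f.denseRange.closure_range] at h
  exact h.eq (genericPoint_spec Y)

theorem isClosed_singleton_apply {X Y B : Scheme.{u}} {k : Type u} [Field k] [IsAlgClosed k] (sX : X ⟶ Spec (CommRingCat.of k))
    [LocallyOfFiniteType sX] (sY : Y ⟶ Spec (CommRingCat.of k)) [IsSeparated sY] (f : X ⟶ Y) (hf : f ≫ sY = sX)
    (x : X) (hx : IsClosed ({x} : Set X)) : IsClosed ({f x} : Set Y) := by
  have : IsClosedImmersion (pointOfClosedPoint sX x hx ≫ f) := isClosedImmersion_of_comp_eq_id sY _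
    (by rw [Category.assoc, hf, pointOfClosedPoint_comp])
  have h := (pointOfClosedPoint sX x hx ≫ f).isClosedEmbedding.isClosed_range
  rwa [Set.range_eq_singleton (y := f x) (fun a => by
    show f (pointOfClosedPoint sX x hx a) = f x
    rw [pointOfClosedPoint_apply])] at h

/-- Let k be a characteristic-zero algebraically closed field and X, Y integral schemes, separated and
of finite type over k, with Y normal, and let f : X → Y be a dominant k-morphism which is injective
on k-rational points. Then f is an open immersion. (Case of schemes of a statement about algebraic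
spaces.) -/
theorem result {k : Type u} [Field k] [IsAlgClosed k] [CharZero k]
    {X Y : Scheme.{u}} (sX : X ⟶ Spec (CommRingCat.of k)) (sY : Y ⟶ Spec (CommRingCat.of k))
    [IsIntegral X] [IsIntegral Y] [IsSeparated sX] [IsSeparated sY]
    [LocallyOfFiniteType sX] [QuasiCompact sX] [LocallyOfFiniteType sY] [QuasiCompact sY]
    (hY : Pi1.IsNormalScheme Y)
    (f : X ⟶ Y) (hf : f ≫ sY = sX) [IsDominant f]
    (hinj : ∀ a b : Spec (CommRingCat.of k) ⟶ X, a ≫ sX = 𝟙 _ → b ≫ sX = 𝟙 _ → a ≫ f = b ≫ f → a = b) :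
    IsOpenImmersion f := by
  have : LocallyOfFiniteType f := by
    have : LocallyOfFiniteType (f ≫ sY) := by rw [hf]; infer_instance
    exact locallyOfFiniteType_of_comp f sY
  have : QuasiCompact f := by
    have : QuasiCompact (f ≫ sY) := by rw [hf]; infer_instance
    exact QuasiCompact.of_comp f sY
  have : IsSeparated f := by
    have : IsSeparated (f ≫ sY) := by rw [hf]; infer_instance
    exact IsSeparated.of_comp f sY
  have : JacobsonSpace X := LocallyOfFiniteType.jacobsonSpace sX
  -- quasi-finiteness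
  have hclosed : ∀ x : X, IsClosed ({x} : Set X) → x ∈ f.quasiFiniteLocus := by
    intro x hx
    have hfx := isClosed_singleton_apply (B := X) sX sY f hf x hx
    have hF : f ⁻¹' {f x} = {x} := by
      refine subset_antisymm ?_ (by simp)
      have hc : IsClosed (f ⁻¹' {f x}) := hfx.preimage f.continuous
      have hsub : f ⁻¹' {f x} ∩ closedPoints X ⊆ {x} := by
        rintro y ⟨hy, hyc⟩
        have e := hinj (pointOfClosedPoint sX y hyc) (pointOfClosedPoint sX x hx) (pointOfClosedPoint_comp sX y hyc)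
          (pointOfClosedPoint_comp sX x hx) (ext_of_apply_closedPoint_eq sY
            (by rw [Category.assoc, hf, pointOfClosedPoint_comp]) (by rw [Category.assoc, hf, pointOfClosedPoint_comp])
            (by
              show f (pointOfClosedPoint sX y hyc _) = f (pointOfClosedPoint sX x hx _)
              rw [pointOfClosedPoint_apply, pointOfClosedPoint_apply]; exact hy))
        have := congrArg (fun m : Spec (CommRingCat.of k) ⟶ X => m (IsLocalRing.closedPoint k)) e
        simpa using this
      calc f ⁻¹' {f x} = closure (f ⁻¹' {f x} ∩ closedPoints X) :=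
            ((JacobsonSpace.closure_inter_closedPoints hc).trans rfl).symm
        _ ⊆ {x} := closure_minimal hsub hx
    rw [Scheme.Hom.mem_quasiFiniteLocus, Scheme.Hom.quasiFiniteAt_iff_isOpen_singleton_asFiber]
    have : ({f.asFiber x} : Set (f.fiber (f x))) = Set.univ := by
      refine Set.eq_univ_iff_forall.2 fun z => ?_
      have hz : (f.fiberHomeo (f x) z).1 ∈ f ⁻¹' {f x} := (f.fiberHomeo (f x) z).2
      replace hz : (f.fiberHomeo (f x) z).1 = x := Set.mem_singleton_iff.1 (hF.subset hz)
      refine (f.fiberHomeo (f x)).injective (Subtype.ext (hz.trans ?_))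
      simp [Scheme.Hom.asFiber]
    rw [this]
    exact isOpen_univ
  have htop : f.quasiFiniteLocus = ⊤ := by
    refine TopologicalSpace.Opens.ext (Set.eq_univ_of_forall fun x => ?_)
    by_contra hx
    obtain ⟨y, hy⟩ := nonempty_inter_closedPoints (Z := (f.quasiFiniteLocus : Set X)ᶜ) ⟨x, hx⟩
      f.quasiFiniteLocus.isOpen.isClosed_compl.isLocallyClosed
    exact hy.1 (hclosed y hy.2)
  have : LocallyQuasiFinite f := (Scheme.Hom.quasiFiniteLocus_eq_top_iff f).1 htop
  have hgen := generic_mapsTo f
  refine (Groth.Agent.S4809.result (fun y => (hY y).2) f hgen ?_).2 inferInstance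
  -- birationality
  obtain ⟨U, hU, hfin⟩ := Groth.Agent.S0409.result f
  obtain ⟨y₀, hy₀⟩ := hU.nonempty
  have hηU : genericPoint Y ∈ U := (genericPoint_specializes y₀).mem_open U.isOpen hy₀
  obtain ⟨V, hV, hηV, hVU⟩ := exists_isAffineOpen_mem_and_subset (x := genericPoint Y) (U := U) hηU
  have hVU' : V ≤ U := hVU
  have hfinV : IsFinite (f ∣_ V) := by
    have h1 : IsFinite ((f ∣_ U) ∣_ (U.ι ⁻¹ᵁ V)) := inferInstance
    rw [MorphismProperty.arrow_mk_iso_iff @IsFinite (morphismRestrictRestrict f U (U.ι ⁻¹ᵁ V))] at h1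
    rwa [show U.ι ''ᵁ U.ι ⁻¹ᵁ V = V from TopologicalSpace.Opens.ext (by
      rw [Scheme.Hom.coe_image, Scheme.Hom.coe_preimage, Set.image_preimage_eq_inter_range, Scheme.Opens.range_ι]
      exact Set.inter_eq_left.2 hVU')] at h1
  have hW : IsAffineOpen (f ⁻¹ᵁ V) := by
    have : IsAffine V.toScheme := hV
    exact isAffine_of_isAffineHom (f ∣_ V)
  have hηW : genericPoint X ∈ f ⁻¹ᵁ V := by show f (genericPoint X) ∈ V; rw [hgen]; exact hηV
  have : Nonempty V.toScheme := ⟨⟨_, hηV⟩⟩
  have : Nonempty (f ⁻¹ᵁ V).toScheme := ⟨⟨_, hηW⟩⟩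
  have hfinA : (f.app V).hom.Finite := by
    have : IsAffine V.toScheme := hV
    have h := (f ∣_ V).finite_appTop
    exact (RingHom.finite_respectsIso.arrow_mk_iso_iff
      (Arrow.isoMk' _ _ V.topIso.symm (f ⁻¹ᵁ V).topIso.symm (by simp [Scheme.Opens.topIso, Scheme.Hom.app_eq_appLE]; exact (Scheme.Hom.map_appLE _ _ _).trans (Scheme.Hom.appLE_map _ _ _).symm))).2 h
  let c : CommRingCat.of k ⟶ Γ(Y, V) := Spec.preimage (hV.fromSpec ≫ sY)
  have hc : Spec.map c = hV.fromSpec ≫ sY := Spec.map_preimage _
  have hd : Spec.map (c ≫ f.app V) = hW.fromSpec ≫ sX := by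
    rw [Spec.map_comp, hc, ← hf, Scheme.Hom.app_eq_appLE, ← Category.assoc,
      IsAffineOpen.SpecMap_appLE_fromSpec f hV hW, Category.assoc]
  letI algAB : Algebra Γ(Y, V) Γ(X, f ⁻¹ᵁ V) := (f.app V).hom.toAlgebra
  letI algA : Algebra k Γ(Y, V) := c.hom.toAlgebra
  letI algB : Algebra k Γ(X, f ⁻¹ᵁ V) := (c ≫ f.app V).hom.toAlgebra
  have : IsScalarTower k Γ(Y, V) Γ(X, f ⁻¹ᵁ V) := IsScalarTower.of_algebraMap_eq' rfl
  have : Module.Finite Γ(Y, V) Γ(X, f ⁻¹ᵁ V) := hfinA
  have : Algebra.FiniteType k Γ(Y, V) := by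
    have : LocallyOfFiniteType (Spec.map c) := by rw [hc]; infer_instance
    exact (HasRingHomProperty.Spec_iff (P := @LocallyOfFiniteType)).1 this
  have := Groth.Agent.NormalExtLib.isIntegrallyClosed_sections hY V hV
  have := functionField_isFractionRing_of_isAffineOpen Y V hV
  have := functionField_isFractionRing_of_isAffineOpen X (f ⁻¹ᵁ V) hW
  have hfη : f (genericPoint X) ∈ V := hηW
  let φ : Y.functionField ⟶ X.functionField :=
    Y.presheaf.stalkSpecializes (specializes_of_eq hgen) ≫ f.stalkMap (genericPoint X)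
  letI algKL : Algebra Y.functionField X.functionField := φ.hom.toAlgebra
  letI algAL : Algebra Γ(Y, V) X.functionField := (f.app V ≫ X.germToFunctionField (f ⁻¹ᵁ V)).hom.toAlgebra
  have : IsScalarTower Γ(Y, V) Γ(X, f ⁻¹ᵁ V) X.functionField := IsScalarTower.of_algebraMap_eq' rfl
  have hAK : Y.germToFunctionField V ≫ φ = f.app V ≫ X.germToFunctionField (f ⁻¹ᵁ V) := by
    simp only [φ, Scheme.germToFunctionField]
    rw [TopCat.Presheaf.germ_stalkSpecializes_assoc, Scheme.Hom.germ_stalkMap]
  have : IsScalarTower Γ(Y, V) Y.functionField X.functionField :=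
    IsScalarTower.of_algebraMap_eq' (congrArg CommRingCat.Hom.hom hAK.symm)
  have hinjAB : Function.Injective (algebraMap Γ(Y, V) Γ(X, f ⁻¹ᵁ V)) := by
    intro a b hab
    refine Y.germToFunctionField_injective V (φ.hom.injective ?_)
    have h1 := congrArg (fun m : Γ(Y, V) ⟶ X.functionField => m.hom a) hAK
    have h2 := congrArg (fun m : Γ(Y, V) ⟶ X.functionField => m.hom b) hAK
    exact h1.trans ((congrArg (X.germToFunctionField (f ⁻¹ᵁ V)).hom hab).trans h2.symm)
  have hsurj := Groth.Agent.NeronLib.fractionField_surjective_of_points_injective (k := k) (A := Γ(Y, V))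
    (B := Γ(X, f ⁻¹ᵁ V)) Y.functionField X.functionField hinjAB (fun a b hab => by
      let P : (Γ(X, f ⁻¹ᵁ V) →ₐ[k] k) → (Spec (CommRingCat.of k) ⟶ X) :=
        fun a => Spec.map (CommRingCat.ofHom a.toRingHom) ≫ hW.fromSpec
      have hP : ∀ a, P a ≫ sX = 𝟙 _ := fun a => by
        rw [Category.assoc, ← hd, ← Spec.map_comp, ← Spec.map_id]
        congr 1
        ext x
        exact a.commutes x
      have hPf : ∀ a : Γ(X, f ⁻¹ᵁ V) →ₐ[k] k, P a ≫ f =
          Spec.map (CommRingCat.ofHom (a.comp (IsScalarTower.toAlgHom k Γ(Y, V) Γ(X, f ⁻¹ᵁ V))).toRingHom) ≫ hV.fromSpec := fun a => by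
        rw [Category.assoc, ← IsAffineOpen.SpecMap_appLE_fromSpec f hV hW (le_refl _), ← Scheme.Hom.app_eq_appLE,
          ← Category.assoc, ← Spec.map_comp]
        rfl
      have e := hinj (P a) (P b) (hP a) (hP b) (by rw [hPf, hPf, hab])
      have e' := Spec.map_injective ((cancel_mono hW.fromSpec).1 e)
      exact AlgHom.ext fun x => congrArg (fun m : Γ(X, f ⁻¹ᵁ V) ⟶ CommRingCat.of k => m.hom x) e')
  have hφ : Function.Bijective φ.hom := ⟨φ.hom.injective, hsurj⟩
  have : IsIso φ := (ConcreteCategory.isIso_iff_bijective φ).2 hφ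
  have : IsIso (Y.presheaf.stalkSpecializes (specializes_of_eq hgen)) :=
    Groth.Agent.FlatLocal.isIso_stalkSpecializes_of_eq hgen
  exact IsIso.of_isIso_comp_left (Y.presheaf.stalkSpecializes (specializes_of_eq hgen)) (f.stalkMap (genericPoint X))

end Groth.Agent.S13425
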