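import Groth.Statements.S13426
import Mathlib
import Groth.Agent.SGA3cLib.Separated
-- import your own Groth.Agent.* helpers here

set_option autoImplicit false
universe u
open CategoryTheory MonoidalCategory CartesianMonoidalCategory MonObj GrpObj AlgebraicGeometry
open GrpSch

namespace Groth.Agent.S13426

set_option linter.unusedVariables false

/-- A closed immersion with scheme-theoretically dominant... is an isomorphism. -/
lemma isIso_of_dominant_closedImmersion {X Y : Scheme.{u}} (f : X ⟶ Y) [IsClosedImmersion f]
    [IsSchemeTheoreticallyDominant f] : IsIso f := by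
  haveI : IsIso f.imageι := (Scheme.isIso_subschemeι_iff_eq_bot _).2 f.ker_eq_bot
  have h : f = f.toImage ≫ f.imageι := f.toImage_imageι.symm
  rw [h]
  infer_instance

lemma dominant_toImage {X Y : Scheme.{u}} (f : X ⟶ Y) [QuasiCompact f] :
    IsSchemeTheoreticallyDominant f.toImage := by
  rw [isSchemeTheoreticallyDominant_iff]
  have h := Scheme.Hom.toImage_app_injective (f := f)
  refine Scheme.IdealSheafData.ext_of_iSup_eq_top
    (fun U : Y.affineOpens => ⟨f.imageι ⁻¹ᵁ U.1, U.2.preimage f.imageι⟩) ?_ fun U => ?_
  · rw [← Scheme.Hom.preimage_iSup, iSup_affineOpens_eq_top, Scheme.Hom.preimage_top]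
  · simp only [Scheme.Hom.ker_apply, Scheme.IdealSheafData.ideal_bot, Pi.bot_apply]
    exact (RingHom.injective_iff_ker_eq_bot _).1 (h U)

lemma quasiCompact_of_embedding {X Y : Scheme.{u}} (f : X ⟶ Y) [IsImmersion f] [IsLocallyNoetherian Y] :
    QuasiCompact f := by
  refine quasiCompact_iff_forall_isAffineOpen.2 fun V hV => ?_
  haveI := IsLocallyNoetherian.component_noetherian ⟨V, hV⟩
  have hN := AlgebraicGeometry.noetherianSpace_of_isAffineOpen V hV
  show IsCompact (f ⁻¹' (V : Set Y))
  rw [f.isEmbedding.isCompact_iff]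
  have h : f '' (f ⁻¹' (V : Set Y)) = Subtype.val '' ((Subtype.val ⁻¹' Set.range f) : Set V) := by
    ext y
    constructor
    · rintro ⟨x, hx, rfl⟩; exact ⟨⟨f x, hx⟩, ⟨x, rfl⟩, rfl⟩
    · rintro ⟨⟨y, hy⟩, ⟨x, rfl⟩, rfl⟩; exact ⟨x, hy, rfl⟩
  rw [h]
  exact (@TopologicalSpace.NoetherianSpace.isCompact _ _ hN _).image continuous_subtype_val

/-- Let S be a locally Noetherian scheme over a field of characteristic 0, S₀ ⊆ S a scheme-theoretically
dense open, and G a smooth S-scheme with the weak Néron mapping property for S₀ ⊆ S: for every étale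
S-scheme U, restriction to S₀ is a bijection from S-morphisms U → G onto S₀-morphisms. Let H be a
smooth group scheme over S together with a monomorphism H → G of S-schemes (the case in view: G a
group scheme and H a subgroup scheme), and assume that H is aligned, i.e. the scheme-theoretic image
of its unit section is étale over S, and that H ×_S S₀ → S₀ is separated. Then H → S is separated.
(Case of schemes of a statement about group algebraic spaces; only the injectivity of H → G on
morphisms is used of the subgroup condition.) -/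
theorem result {k : Type u} [Field k] [CharZero k] {S : Scheme.{u}} (σ : S ⟶ Spec (CommRingCat.of k)) [IsLocallyNoetherian S] (S₀ : S.Opens) (hS₀ : CInt.IsSchematicallyDense S₀)
    (G : Over S) [Smooth G.hom]
    (hG : ∀ U : Over S, Etale U.hom → Function.Bijective (fun g : U ⟶ G => (Over.pullback S₀.ι).map g))
    (H : Over S) [GrpObj H] [Smooth H.hom] (j : H ⟶ G) [Mono j.left]
    (hal : Etale (η[H].left.ker.subschemeι ≫ H.hom))
    (h0 : IsSeparated (Limits.pullback.snd H.hom S₀.ι)) :
    IsSeparated H.hom := by
  have : IsLocallyNoetherian H.left := LocallyOfFiniteType.isLocallyNoetherian H.hom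
  set η₀ : S ⟶ H.left := η[H].left
  have hη : η₀ ≫ H.hom = 𝟙 S := Over.w η[H]
  let incl := η₀.imageι
  let e : S ⟶ η₀.image := η₀.toImage
  let π : η₀.image ⟶ S := incl ≫ H.hom
  have hfac : e ≫ incl = η₀ := η₀.toImage_imageι
  have heπ : e ≫ π = 𝟙 S := by rw [← Category.assoc, hfac, hη]
  haveI : Etale π := hal
  haveI : Mono η₀ := mono_of_mono_fac hη
  haveI : IsImmersion (η₀ ≫ H.hom) := by rw [hη]; infer_instance
  haveI : IsImmersion η₀ := IsImmersion.of_comp η₀ H.hom
  haveI : QuasiCompact η₀ := quasiCompact_of_embedding η₀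
  haveI : IsSchemeTheoreticallyDominant e := dominant_toImage η₀
  have : IsLocallyNoetherian η₀.image := LocallyOfFiniteType.isLocallyNoetherian π
  haveI : Etale (e ≫ π) := by rw [heπ]; infer_instance
  haveI : Etale e := Etale.of_comp e π
  haveI : Mono e := mono_of_mono_fac heπ
  haveI : IsOpenImmersion e := IsOpenImmersion.of_flat_of_mono e
  let Z₀ := Limits.pullback π S₀.ι
  let e₀ : (S₀ : Scheme.{u}) ⟶ Z₀ := Limits.pullback.lift (S₀.ι ≫ e) (𝟙 _) (by
    rw [Category.assoc, heπ, Category.comp_id, Category.id_comp])
  haveI : IsSeparated (Limits.pullback.snd π S₀.ι) := by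
    let m : Z₀ ⟶ Limits.pullback H.hom S₀.ι :=
      Limits.pullback.map π S₀.ι H.hom S₀.ι incl (𝟙 _) (𝟙 _) (by simp [π]) (by simp)
    have hm : m ≫ Limits.pullback.snd H.hom S₀.ι = Limits.pullback.snd π S₀.ι := by
      simp only [m, Limits.pullback.map, Limits.pullback.lift_snd, Category.comp_id]
    haveI : Mono incl := inferInstanceAs (Mono η₀.imageι)
    haveI : Mono m := ⟨fun a b h => Limits.pullback.hom_ext
      ((cancel_mono incl).1 (by
        simpa only [m, Limits.pullback.map, Category.assoc, Limits.pullback.lift_fst] using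
          congrArg (· ≫ Limits.pullback.fst H.hom S₀.ι) h))
      (by simpa only [m, Limits.pullback.map, Category.assoc, Limits.pullback.lift_snd, Category.comp_id] using
          congrArg (· ≫ Limits.pullback.snd H.hom S₀.ι) h)⟩
    rw [← hm]
    infer_instance
  haveI : IsClosedImmersion (e₀ ≫ Limits.pullback.snd π S₀.ι) := by
    rw [Limits.pullback.lift_snd]; infer_instance
  haveI : IsClosedImmersion e₀ := IsClosedImmersion.of_comp e₀ (Limits.pullback.snd π S₀.ι)
  have sq : IsPullback S₀.ι e₀ e (Limits.pullback.fst π S₀.ι) := by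
    refine IsPullback.of_bot ?_ (Limits.pullback.lift_fst _ _ _).symm (IsPullback.of_hasPullback π S₀.ι)
    rw [heπ, Limits.pullback.lift_snd]
    exact IsPullback.id_vert S₀.ι
  haveI : QuasiCompact η₀ := quasiCompact_of_embedding η₀
  haveI : IsSchemeTheoreticallyDominant e₀ := IsSchemeTheoreticallyDominant.of_isPullback sq
  haveI := isIso_of_dominant_closedImmersion e₀
  have key : incl = π ≫ η₀ := by
    let g₁ : Over.mk π ⟶ G := Over.homMk (incl ≫ j.left) (by simp [π])
    let g₂ : Over.mk π ⟶ G := Over.homMk (π ≫ η₀ ≫ j.left) (by simp only [π, Category.assoc, Over.w j, hη, Category.comp_id]; rfl)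
    have hg : g₁ = g₂ := by
      refine (hG (Over.mk π) hal).1 ?_
      refine Over.OverMorphism.ext (Limits.pullback.hom_ext ?_ ?_)
      · simp only [g₁, g₂, Over.pullback_map_left, Over.homMk_left, Limits.pullback.lift_fst]
        refine (cancel_epi e₀).1 ?_
        simp only [e₀, Over.mk_hom, Limits.pullback.lift_fst_assoc, Category.assoc, reassoc_of% hfac, reassoc_of% heπ]
      · simp only [Over.pullback_map_left, Limits.pullback.lift_snd]
    have h := congrArg CommaMorphism.left hg
    simp only [g₁, g₂, Over.homMk_left] at h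
    rwa [← Category.assoc, cancel_mono] at h
  haveI : IsIso e := by
    refine ⟨π, heπ, ?_⟩
    haveI : Mono incl := inferInstanceAs (Mono η₀.imageι)
    rw [← cancel_mono incl, Category.assoc, hfac, Category.id_comp, ← key]
  refine Groth.Agent.SGA3cLib.isSeparated_of_isClosedImmersion_unit H ?_
  show IsClosedImmersion η₀
  rw [← hfac]
  haveI : IsClosedImmersion incl := inferInstanceAs (IsClosedImmersion η₀.imageι)
  infer_instance

end Groth.Agent.S13426
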