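import Groth.Statements.S13427
import Groth.Agent.NeronLib.Restrict
open Groth.Agent.NeronLib CategoryTheory CategoryTheory.Limits AlgebraicGeometry

set_option autoImplicit false
universe u
open CategoryTheory AlgebraicGeometry
open NeronHD

namespace Groth.Agent.S13427

/-- Let S be a locally Noetherian scheme over a field of characteristic 0, S₀ ⊆ S a scheme-theoretically
dense open, and G, H smooth S-schemes with the Néron mapping property for S₀ ⊆ S (restriction to S₀
of S-morphisms from smooth S-schemes is bijective). Let f : G → H be an S-morphism and e : S → H a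
section of H → S, and let K = G ×_H S be the fibre of f over e (the case in view: f a homomorphism
of smooth group schemes, e the unit, K the kernel, so that 1 → K → G → H is left exact). If K → S is
smooth, then K has the Néron mapping property for S₀ ⊆ S. (Case of schemes, with smooth test
schemes, of a statement about group algebraic spaces.) -/
theorem result {k : Type u} [Field k] [CharZero k] {S : Scheme.{u}} (σ : S ⟶ Spec (CommRingCat.of k)) [IsLocallyNoetherian S] (S₀ : S.Opens) (hS₀ : CInt.IsSchematicallyDense S₀)
    (G H : Over S) [Smooth G.hom] [Smooth H.hom]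
    (hG : ∀ Z : Over S, Smooth Z.hom → Function.Bijective (fun g : Z ⟶ G => (Over.pullback S₀.ι).map g))
    (hH : ∀ Z : Over S, Smooth Z.hom → Function.Bijective (fun g : Z ⟶ H => (Over.pullback S₀.ι).map g))
    (f : G ⟶ H) (e : S ⟶ H.left) (he : e ≫ H.hom = 𝟙 S)
    [Smooth (Limits.pullback.snd f.left e)] :
    ∀ Z : Over S, Smooth Z.hom → Function.Bijective (fun g : Z ⟶ Over.mk (Limits.pullback.snd f.left e) => (Over.pullback S₀.ι).map g) := by
  intro Z hZ
  have hP := IsPullback.of_hasPullback Z.hom S₀.ι
  rw [bijective_map_iff _ hP]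
  intro h hh
  have hsnd : ∀ {W : Scheme.{u}} (c : W ⟶ pullback f.left e),
      (c ≫ pullback.fst f.left e) ≫ G.hom = c ≫ pullback.snd f.left e := fun c => by
    rw [Category.assoc, ← Over.w f, pullback.condition_assoc, he, Category.comp_id]
  obtain ⟨a, ha, hau⟩ := (bijective_map_iff _ hP).1 (hG Z hZ) (h ≫ pullback.fst f.left e) ((hsnd h).trans hh)
  have hae : a.left ≫ f.left = Z.hom ≫ e := by
    have hwe : (Z.hom ≫ e) ≫ H.hom = Z.hom := by rw [Category.assoc, he, Category.comp_id]
    refine congrArg (fun t => t.left) ((injective_map_iff _ hP).1 (hH Z hZ).1 (a ≫ f) (Over.homMk (Z.hom ≫ e) hwe) ?_)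
    show pullback.fst Z.hom S₀.ι ≫ a.left ≫ f.left = pullback.fst Z.hom S₀.ι ≫ Z.hom ≫ e
    rw [reassoc_of% ha, pullback.condition]
    exact (Category.assoc _ _ _).symm.trans ((congrArg (· ≫ e) hh).trans (Category.assoc _ _ _))
  refine ⟨Over.homMk (pullback.lift a.left Z.hom hae) (pullback.lift_snd _ _ _), ?_, fun c hc => ?_⟩
  · refine pullback.hom_ext ((Category.assoc _ _ _).trans ?_) ((Category.assoc _ _ _).trans ?_)
    · exact (congrArg _ (pullback.lift_fst _ _ _)).trans ha
    · exact (congrArg _ (pullback.lift_snd _ _ _)).trans hh.symm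
  · refine Over.OverMorphism.ext (pullback.hom_ext ?_ ((Over.w c).trans (pullback.lift_snd _ _ _).symm))
    refine Eq.trans ?_ (pullback.lift_fst _ _ _).symm
    exact congrArg (fun t => t.left) (hau (Over.homMk (c.left ≫ pullback.fst f.left e) ((hsnd c.left).trans (Over.w c)))
      ((Category.assoc _ _ _).symm.trans (congrArg (· ≫ pullback.fst f.left e) hc)))

end Groth.Agent.S13427
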