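import Groth.Statements.S1343
import Groth.Agent.EGA43.CMChart.Main
import Groth.Agent.EGA43.FlatDescent.SchemeOpen
import Groth.Agent.H8Lim.FinitePresentation
import Groth.Agent.FlatMorDim.LocalDim
-- import your own Groth.Agent.* helpers here

set_option autoImplicit false
set_option maxHeartbeats 1000000
set_option backward.isDefEq.respectTransparency false
universe u
open FlatMor

namespace Groth.Agent.S1343

open AlgebraicGeometry CategoryTheory Limits in
/-- (1) ⇔ (3): let f be flat and locally of finite presentation and let x be a point whose fibre has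
local dimension d at x. Then f is Cohen–Macaulay at x if and only if some open neighbourhood of x
admits a flat, locally quasi-finite morphism to affine d-space over the base, compatible with the
structure morphisms. -/
theorem result {X S : Scheme.{u}} (f : X ⟶ S) [Flat f] [LocallyOfFinitePresentation f]
    (x : X) (d : ℕ) (hd : FlatMor.fibreDimAt f x = d) :
    MoreMor.IsCMAt f x ↔ ∃ (U : X.Opens) (g : (U : Scheme.{u}) ⟶ 𝔸(ULift.{u} (Fin d); S)), x ∈ U ∧
      g ≫ (𝔸(ULift.{u} (Fin d); S) ↘ S) = U.ι ≫ f ∧ Flat g ∧ LocallyQuasiFinite g := by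
  open _root_.Groth.Agent _root_.Groth.Agent.EGA43.CMChart _root_.Groth.Agent.EGA43.DimFormula FlatMorWeight in
  constructor
  · intro h
    obtain ⟨n, U, hx, g, hg, hqf, hft, ξ, hξ, hξf, hn⟩ := exists_qf_toAffineSpace f x
    haveI := hqf; haveI := hft
    haveI : LocallyOfFinitePresentation (g ≫ (𝔸(ULift.{u} (Fin n); S) ↘ S)) := by rw [hg]; infer_instance
    haveI : LocallyOfFiniteType (𝔸(ULift.{u} (Fin n); S) ↘ S) := inferInstance
    have hnd : n = d := by
      have h1 := (_root_.Groth.Agent.FlatMorDim.fibreDimAt_le_iff f x d).1 hd.le ξ hξf hξ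
      have h2 : FlatMor.fibreDimAt f x ≤ (n : WithBot ℕ∞) := by
        refine (_root_.Groth.Agent.FlatMorDim.fibreDimAt_le_iff f x n).2 fun x' _ hx' => ?_
        let w : U := ⟨x', hx'.mem_open U.isOpen hx⟩
        have e := trdAt_comp_locallyQuasiFinite g (𝔸(ULift.{u} (Fin n); S) ↘ S) w
        rw [trdAt_congr hg w, trdAt_openι f U w] at e
        exact e.trans_le (trdAt_affineSpace_le n _)
      rw [hd] at h2
      exact le_antisymm (hn.trans h1) (by exact_mod_cast h2)
    subst hnd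
    have hflat : (g.stalkMap ⟨x, hx⟩).hom.Flat := by
      refine flat_of_isCMAt n g ⟨x, hx⟩ ((isCMAt_congr hg ⟨x, hx⟩).2 ((isCMAt_comp_iff U.ι f ⟨x, hx⟩).2 h)) ?_
      refine ⟨⟨ξ, hξ.mem_open U.isOpen hx⟩, Topology.IsInducing.subtypeVal.specializes_iff.1 hξ, ?_, ?_⟩
      · rw [hg]; exact hξf
      · exact hn.trans_eq ((trdAt_congr hg ⟨ξ, hξ.mem_open U.isOpen hx⟩).trans
          (trdAt_openι f U ⟨ξ, hξ.mem_open U.isOpen hx⟩)).symm
    haveI : LocallyOfFinitePresentation g := _root_.Groth.Agent.H8Lim.lfp_cancel_right g (𝔸(ULift.{u} (Fin n); S) ↘ S)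
    let W : U.toScheme.Opens := ⟨_, _root_.Groth.Agent.EGA43.FlatDescent.isOpen_flat_stalkMap g⟩
    let j : W.toScheme ⟶ X := W.ι ≫ U.ι
    let e := j.isoOpensRange
    refine ⟨j.opensRange, e.inv ≫ W.ι ≫ g, ⟨⟨⟨x, hx⟩, hflat⟩, rfl⟩, ?_, ?_, inferInstance⟩
    · rw [Category.assoc, Category.assoc, hg, ← Category.assoc W.ι]
      exact Scheme.Hom.isoOpensRange_inv_comp_assoc j f
    · haveI : Flat (W.ι ≫ g) := (Flat.iff_flat_stalkMap _).2 fun w => by
        rw [Scheme.Hom.stalkMap_comp, CommRingCat.hom_comp]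
        exact RingHom.Flat.comp w.2 (Flat.stalkMap W.ι w)
      infer_instance
  · rintro ⟨U, g, hx, hg, hflat, hqf⟩
    haveI : LocallyOfFiniteType (g ≫ (𝔸(ULift.{u} (Fin d); S) ↘ S)) := by rw [hg]; infer_instance
    haveI : LocallyOfFiniteType g := locallyOfFiniteType_of_comp g (𝔸(ULift.{u} (Fin d); S) ↘ S)
    have h1 := isCMAt_of_flat_qf d g ⟨x, hx⟩ (Flat.stalkMap g _)
    exact (isCMAt_comp_iff U.ι f ⟨x, hx⟩).1 ((isCMAt_congr hg ⟨x, hx⟩).1 h1)

end Groth.Agent.S1343
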