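import Groth.Statements.S13432
import Groth.Agent.NeronLib.NormalSmooth
-- import your own Groth.Agent.* helpers here

set_option autoImplicit false
universe u
open CategoryTheory AlgebraicGeometry
open NeronHD

namespace Groth.Agent.S13432

/-- Let S be a normal Noetherian scheme over a field of characteristic 0 and S₀ ⊆ S a
scheme-theoretically dense open. Let π : T → S be finite with T normal, and let N ⊆ T be the open
subscheme where π is smooth (equivalently étale, π being finite). Then N → S has the Néron mapping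
property for S₀ ⊆ S: for every smooth S-scheme Z, restriction to S₀ is a bijection from S-morphisms
Z → N onto S₀-morphisms Z|S₀ → N|S₀. (In the published statement T is the normal finite S-scheme
compactifying a given quasi-projective étale S-scheme and N is the maximal quasi-projective étale
scheme containing it; that origin of T plays no role in this part of the proof, so any finite T → S
with T normal is allowed here. Case of schemes, with smooth test schemes, of a statement about
algebraic spaces.) -/
theorem result {k : Type u} [Field k] [CharZero k] {S : Scheme.{u}} (σ : S ⟶ Spec (CommRingCat.of k)) [IsNoetherian S] (hS : Pi1.IsNormalScheme S) (S₀ : S.Opens) (hS₀ : CInt.IsSchematicallyDense S₀)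
    {T : Scheme.{u}} (π : T ⟶ S) [IsFinite π] [LocallyOfFinitePresentation π] (hT : Pi1.IsNormalScheme T) :
    ∀ Z : Over S, Smooth Z.hom → Function.Bijective (fun g : Z ⟶ Over.mk (π.smoothLocus.ι ≫ π) => (Over.pullback S₀.ι).map g) := by
  intro Z hZ
  have hd := Groth.Agent.NeronLib.dense_of_isSchematicallyDense hS₀
  have : IsLocallyNoetherian Z.left := LocallyOfFiniteType.isLocallyNoetherian Z.hom
  have hZn := Groth.Agent.NeronLib.isNormalScheme_of_smooth Z.hom hS
  have := Groth.Agent.NeronLib.isReduced_of_normal hZn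
  let U : Z.left.Opens := Z.hom ⁻¹ᵁ S₀
  have hU : Dense (U : Set Z.left) := Groth.Agent.NeronLib.dense_preimage Z.hom hd
  let eU := pullbackRestrictIsoRestrict Z.hom S₀
  have heU : eU.inv ≫ Limits.pullback.fst Z.hom S₀.ι = U.ι := pullbackRestrictIsoRestrict_inv_fst _ _
  let N : Over S := Over.mk (π.smoothLocus.ι ≫ π)
  constructor
  · intro g₁ g₂ h
    have h' : ((Over.pullback S₀.ι).map g₁).left ≫ Limits.pullback.fst N.hom S₀.ι =
        ((Over.pullback S₀.ι).map g₂).left ≫ Limits.pullback.fst N.hom S₀.ι :=
      congrArg (fun m : (Over.pullback S₀.ι).obj Z ⟶ (Over.pullback S₀.ι).obj N =>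
        m.left ≫ Limits.pullback.fst N.hom S₀.ι) h
    have e1 : ((Over.pullback S₀.ι).map g₁).left ≫ Limits.pullback.fst N.hom S₀.ι =
        Limits.pullback.fst Z.hom S₀.ι ≫ g₁.left := Limits.pullback.lift_fst _ _ _
    have e2 : ((Over.pullback S₀.ι).map g₂).left ≫ Limits.pullback.fst N.hom S₀.ι =
        Limits.pullback.fst Z.hom S₀.ι ≫ g₂.left := Limits.pullback.lift_fst _ _ _
    rw [e1, e2] at h'
    have : IsSeparated N.hom := inferInstanceAs (IsSeparated (π.smoothLocus.ι ≫ π))
    refine Over.OverMorphism.ext (Groth.Agent.NeronLib.ext_of_dense N.hom _ _ ((Over.w g₁).trans (Over.w g₂).symm) U hU ?_)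
    rw [← heU, Category.assoc, Category.assoc]
    exact congrArg (eU.inv ≫ ·) h'
  · intro Ψ
    let ψ := eU.inv ≫ Ψ.left ≫ Limits.pullback.fst N.hom S₀.ι ≫ π.smoothLocus.ι
    have hψ : ψ ≫ π = U.ι ≫ Z.hom := by
      have h1 : Ψ.left ≫ Limits.pullback.snd N.hom S₀.ι = Limits.pullback.snd Z.hom S₀.ι := Over.w Ψ
      simp only [ψ, Category.assoc]
      refine Eq.trans (congrArg (fun m => eU.inv ≫ Ψ.left ≫ m) (Limits.pullback.condition (f := N.hom) (g := S₀.ι))) ?_
      rw [reassoc_of% h1, ← Limits.pullback.condition, reassoc_of% heU]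
    obtain ⟨h', hh', hhU⟩ := Groth.Agent.NeronLib.exists_extension_to_integral hZn Z.hom π U hU ψ hψ
    have hsl := Groth.Agent.NeronLib.range_subset_smoothLocus hS Z.hom π hT h' hh'
    let g : Z.left ⟶ π.smoothLocus.toScheme := IsOpenImmersion.lift π.smoothLocus.ι h' (by
      rintro _ ⟨z, rfl⟩
      rw [Scheme.Opens.range_ι]
      exact hsl z)
    have hg : g ≫ π.smoothLocus.ι = h' := IsOpenImmersion.lift_fac _ _ _
    refine ⟨Over.homMk g (by show g ≫ π.smoothLocus.ι ≫ π = Z.hom; rw [reassoc_of% hg, hh']), ?_⟩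
    refine Over.OverMorphism.ext (Limits.pullback.hom_ext ((Limits.pullback.lift_fst _ _ _).trans ?_)
      ((Limits.pullback.lift_snd _ _ _).trans (Over.w Ψ).symm))
    show Limits.pullback.fst Z.hom S₀.ι ≫ g = Ψ.left ≫ Limits.pullback.fst N.hom S₀.ι
    have h2 : eU.inv ≫ (Limits.pullback.fst Z.hom S₀.ι ≫ g) ≫ π.smoothLocus.ι =
        eU.inv ≫ (Ψ.left ≫ Limits.pullback.fst N.hom S₀.ι) ≫ π.smoothLocus.ι := by
      simp only [Category.assoc]
      rw [hg, reassoc_of% heU, hhU]
    rw [cancel_epi] at h2
    exact (cancel_mono π.smoothLocus.ι).1 h2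

end Groth.Agent.S13432
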