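import Groth.Statements.S13438
import Groth.Agent.CohDer1.Hilb.Socle
-- import your own Groth.Agent.* helpers here

set_option autoImplicit false
universe u
open W4c1hilbpn

namespace Groth.Agent.S13438

open W4c1hilbpn in
/-- Let k be an infinite field, S = k[x,y,z], and T(I) = Hom_S(I, S/I) graded by triples of integers (a
graded piece is indexed by its multidegree; its sign pattern records which of the three entries are
negative); let I be a monomial ideal of finite colength whose minimal monomial generators include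
x^a1 y^a2, x^b1 z^b3 and y^c2 z^c3 with all six exponents positive, and assume a1 ≥ b1 and a2 ≥ c2,
or b1 ≥ a1 and b3 ≥ c3, or c2 ≥ a2 and c3 ≥ b3. Then T(I) has a nonzero graded piece whose sign
pattern is negative at exactly two of the three variables. (The published statement draws the
conclusion that the corresponding point of the Hilbert scheme of points of affine 3-space is
singular; this row records the nonvanishing of a tangent piece of forbidden sign pattern, from which
singularity follows by the smoothness criterion for monomial points.) -/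
theorem result (k : Type u) [Field k] [Infinite k]
    (I : Ideal (MvPolynomial (Fin 3) k)) (hI : IsMonomial I) [Module.Finite k (MvPolynomial (Fin 3) k ⧸ I)]
    (a1 a2 b1 b3 c2 c3 : ℕ) (ha1 : 0 < a1) (ha2 : 0 < a2) (hb1 : 0 < b1) (hb3 : 0 < b3)
    (hc2 : 0 < c2) (hc3 : 0 < c3)
    (hA : e3 a1 a2 0 ∈ exps I ∧ e3 (a1 - 1) a2 0 ∉ exps I ∧ e3 a1 (a2 - 1) 0 ∉ exps I)
    (hB : e3 b1 0 b3 ∈ exps I ∧ e3 (b1 - 1) 0 b3 ∉ exps I ∧ e3 b1 0 (b3 - 1) ∉ exps I)
    (hC : e3 0 c2 c3 ∈ exps I ∧ e3 0 (c2 - 1) c3 ∉ exps I ∧ e3 0 c2 (c3 - 1) ∉ exps I)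
    (hcase : (b1 ≤ a1 ∧ c2 ≤ a2) ∨ (a1 ≤ b1 ∧ c3 ≤ b3) ∨ (a2 ≤ c2 ∧ b3 ≤ c3)) :
    sigPiece I ({0, 1} : Set (Fin 3)) ≠ ⊥ ∨ sigPiece I ({0, 2} : Set (Fin 3)) ≠ ⊥ ∨
      sigPiece I ({1, 2} : Set (Fin 3)) ≠ ⊥ := by
  have ev : ∀ a b c : ℕ, ∀ i, e3 a b c i = ![a, b, c] i := fun a b c i => by simp [e3]
  have mono : ∀ {β δ : Fin 3 →₀ ℕ}, β ∈ exps I → (∀ i, β i ≤ δ i) → δ ∈ exps I :=
    fun h h' => Groth.Agent.CommAlg4.HilbPiece.exps_mono h h'
  have hmin : ∀ {β : Fin 3 →₀ ℕ} {i : Fin 3} {γ : Fin 3 →₀ ℕ}, γ ∉ exps I → (∀ j, γ j = β j - if j = i then 1 else 0) →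
      β - Finsupp.single i 1 ∉ exps I := fun {β i γ} h e => by
    have : β - Finsupp.single i 1 = γ := Finsupp.ext fun j => by
      rw [Finsupp.tsub_apply, e, Finsupp.single_apply]
      split_ifs <;> first | rfl | omega
    rw [this]; exact h
  rcases hcase with ⟨h1, h2⟩ | ⟨h1, h2⟩ | ⟨h1, h2⟩
  · refine Or.inl (Groth.Agent.CohDer1.Hilb.Socle.sigPiece_pair_ne_bot hI (p := 0) (q := 1) (l := 2)
      (by decide) (by decide) (by decide) (A := e3 a1 a2 0) (wp := e3 (b1 - 1) 0 b3) (wq := e3 0 (c2 - 1) c3)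
      (by simp [ev]) hA.1 ?_ hB.2.1 (by simp [ev]; omega) hC.2.1 (by simp [ev]; omega) ?_ ?_)
    · intro i hi
      fin_cases i
      · exact hmin hA.2.1 fun j => by fin_cases j <;> simp [ev]
      · exact hmin hA.2.2 fun j => by fin_cases j <;> simp [ev]
      · simp [ev] at hi
    · intro δ hd hd'
      exact mono hB.1 fun i => by fin_cases i <;> simp [ev] at hd hd' ⊢ <;> omega
    · intro δ hd hd'
      exact mono hC.1 fun i => by fin_cases i <;> simp [ev] at hd hd' ⊢ <;> omega
  · refine Or.inr (Or.inl (Groth.Agent.CohDer1.Hilb.Socle.sigPiece_pair_ne_bot hI (p := 0) (q := 2) (l := 1)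
      (by decide) (by decide) (by decide) (A := e3 b1 0 b3) (wp := e3 (a1 - 1) a2 0) (wq := e3 0 c2 (c3 - 1))
      (by simp [ev]) hB.1 ?_ hA.2.1 (by simp [ev]; omega) hC.2.2 (by simp [ev]; omega) ?_ ?_))
    · intro i hi
      fin_cases i
      · exact hmin hB.2.1 fun j => by fin_cases j <;> simp [ev]
      · simp [ev] at hi
      · exact hmin hB.2.2 fun j => by fin_cases j <;> simp [ev]
    · intro δ hd hd'
      exact mono hA.1 fun i => by fin_cases i <;> simp [ev] at hd hd' ⊢ <;> omega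
    · intro δ hd hd'
      exact mono hC.1 fun i => by fin_cases i <;> simp [ev] at hd hd' ⊢ <;> omega
  · refine Or.inr (Or.inr (Groth.Agent.CohDer1.Hilb.Socle.sigPiece_pair_ne_bot hI (p := 1) (q := 2) (l := 0)
      (by decide) (by decide) (by decide) (A := e3 0 c2 c3) (wp := e3 a1 (a2 - 1) 0) (wq := e3 b1 0 (b3 - 1))
      (by simp [ev]) hC.1 ?_ hA.2.2 (by simp [ev]; omega) hB.2.2 (by simp [ev]; omega) ?_ ?_))
    · intro i hi
      fin_cases i
      · simp [ev] at hi
      · exact hmin hC.2.1 fun j => by fin_cases j <;> simp [ev]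
      · exact hmin hC.2.2 fun j => by fin_cases j <;> simp [ev]
    · intro δ hd hd'
      exact mono hA.1 fun i => by fin_cases i <;> simp [ev] at hd hd' ⊢ <;> omega
    · intro δ hd hd'
      exact mono hB.1 fun i => by fin_cases i <;> simp [ev] at hd hd' ⊢ <;> omega
end Groth.Agent.S13438
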