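import Groth.Statements.S13439
import Groth.Agent.CohDer1.Hilb.XMem
-- import your own Groth.Agent.* helpers here

set_option autoImplicit false
universe u
open W4c1hilbpn

namespace Groth.Agent.S13439

open W4c1hilbpn in
/-- Let k be an infinite field, S = k[x,y,z], and T(I) = Hom_S(I, S/I) graded by triples of integers (a
graded piece is indexed by its multidegree; its sign pattern records which of the three entries are
negative); let I be a strongly stable ideal of finite colength (variables ordered x > y > z). Then x
lies in I if and only if the three graded pieces of T(I) whose sign pattern is negative at exactly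
two of the three variables all vanish. (The published statement phrases the right-hand side as
smoothness of the corresponding point of the Hilbert scheme of points of affine 3-space, which for a
monomial point is equivalent to this vanishing; the row records the vanishing condition, which is
what the argument establishes.) -/
theorem result (k : Type u) [Field k] [Infinite k]
    (I : Ideal (MvPolynomial (Fin 3) k)) (hI : IsStronglyStable I) [Module.Finite k (MvPolynomial (Fin 3) k ⧸ I)] :
    (MvPolynomial.X 0 : MvPolynomial (Fin 3) k) ∈ I ↔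
      (sigPiece I ({1, 2} : Set (Fin 3)) = ⊥ ∧ sigPiece I ({0, 2} : Set (Fin 3)) = ⊥ ∧
        sigPiece I ({0, 1} : Set (Fin 3)) = ⊥) := by
  have hmon := hI.1
  have hX : (MvPolynomial.X 0 : MvPolynomial (Fin 3) k) ∈ I ↔ Finsupp.single (0 : Fin 3) 1 ∈ exps I := Iff.rfl
  rw [hX]
  constructor
  · intro hx
    refine ⟨?_, ?_, ?_⟩ <;> rw [eq_bot_iff] <;> refine iSup_le fun ⟨α, hα⟩ => ?_ <;> rw [le_bot_iff]
    · have h0 : ¬ α 0 < 0 := fun h => by simpa using (hα 0).1 h
      by_cases hp : 0 < α 0
      · exact Groth.Agent.CohDer1.Hilb.XMem.eq_bot_of_X_mem hmon hx (q := 1) (by decide) (Or.inl hp)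
      · have h1 : α 1 < 0 := (hα 1).2 (by simp)
        have h2 : α 2 < 0 := (hα 2).2 (by simp)
        exact Groth.Agent.CohDer1.Hilb.XMem.eq_bot_of_nonpos hmon (i1 := 1) (i2 := 2) (by decide)
          (fun i => by fin_cases i <;> simp <;> omega) h1 h2
    · exact Groth.Agent.CohDer1.Hilb.XMem.eq_bot_of_X_mem hmon hx (q := 2) (by decide)
        (Or.inr ⟨(hα 0).2 (by simp), (hα 2).2 (by simp)⟩)
    · exact Groth.Agent.CohDer1.Hilb.XMem.eq_bot_of_X_mem hmon hx (q := 1) (by decide)
        (Or.inr ⟨(hα 0).2 (by simp), (hα 1).2 (by simp)⟩)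
  · intro h
    by_contra hx
    have hex : ∀ β₀ : Fin 3 →₀ ℕ, ∀ i, β₀ ∉ exps I → ∃ t : ℕ, β₀ + Finsupp.single i t ∉ exps I ∧
        β₀ + Finsupp.single i (t + 1) ∈ exps I := by
      intro β₀ i hβ₀
      by_contra hc
      push_neg at hc
      have hall : ∀ t : ℕ, β₀ + Finsupp.single i t ∉ exps I := fun t => by
        induction t with
        | zero => simpa using hβ₀
        | succ t ih => exact hc t ih
      exact (Groth.Agent.CommAlg4.HilbPiece.finite_compl hmon).not_infinite (Set.infinite_of_injective_forall_mem
        (fun s t e => by simpa using congrArg (fun g : Fin 3 →₀ ℕ => g i) e) hall)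
    have h000 : (0 : Fin 3 →₀ ℕ) ∉ exps I := fun e =>
      hx (Groth.Agent.CommAlg4.HilbPiece.exps_mono e bot_le)
    obtain ⟨b, hb1, hb2⟩ := hex _ 1 hx
    obtain ⟨N, hN1, hN2⟩ := hex _ 2 h000
    rw [zero_add] at hN1 hN2
    have hAi : ∀ i, 0 < (Finsupp.single (0 : Fin 3) 1 + Finsupp.single 1 (b + 1) : Fin 3 →₀ ℕ) i →
        (Finsupp.single (0 : Fin 3) 1 + Finsupp.single 1 (b + 1)) - Finsupp.single i 1 ∉ exps I := by
      intro i hi
      fin_cases i
      · intro e
        apply hb1
        have := hI.2 _ e 0 1 (by decide) (by simp)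
        convert this using 1
        ext j; fin_cases j <;> simp
      · intro e
        apply hb1
        convert e using 1
        ext j; fin_cases j <;> simp
      · simp at hi
    have hδ : ∀ i, Finsupp.single (2 : Fin 3) N + Finsupp.single i 1 ∈ exps I := by
      intro i
      fin_cases i
      · have := hI.2 _ hN2 0 2 (by decide) (by simp)
        convert this using 1
        ext j; fin_cases j <;> simp
      · have := hI.2 _ hN2 1 2 (by decide) (by simp)
        convert this using 1
        ext j; fin_cases j <;> simp
      · simpa [← Finsupp.single_add] using hN2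
    refine Groth.Agent.CohDer1.Hilb.Socle.tPiece_ne_bot hmon hb2 hAi hN1 hδ (le_bot_iff.1 ?_)
    rw [← h.2.2]
    refine le_iSup_of_le ⟨_, fun i => ?_⟩ le_rfl
    fin_cases i <;> simp <;> omega
end Groth.Agent.S13439
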