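import Groth.Statements.S1344
import Groth.Agent.EGA43.CMChart.Main
import Groth.Agent.EGA43.DimFormula.Open
import Groth.Agent.EGA4Dim6.GenericFibre
-- import your own Groth.Agent.* helpers here

set_option autoImplicit false
set_option backward.isDefEq.respectTransparency false
universe u
open FlatMor

namespace Groth.Agent.S1344

open AlgebraicGeometry CategoryTheory Limits in
/-- Let f be locally of finite type between locally Noetherian schemes and Cohen–Macaulay at every
point. Then for every point x of the source with image y, the local dimension of the source at x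
equals the local dimension of the target at y plus the local dimension at x of the fibre over y. -/
theorem result {X Y : Scheme.{u}} (f : X ⟶ Y) [IsLocallyNoetherian X] [IsLocallyNoetherian Y] [LocallyOfFiniteType f]
    (hf : ∀ x : X, MoreMor.IsCMAt f x) (x : X) :
    FlatMor.localDim ↑X x = FlatMor.localDim ↑Y (f x) + FlatMor.fibreDimAt f x := by
  classical
  have : Flat f := Flat.iff_flat_stalkMap f |>.2 fun z => (hf z).1
  have : LocallyOfFinitePresentation f := inferInstance
  have hopen : IsOpenMap f := f.isOpenMap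
  have hat : ∀ z : X, EGA43.IsOpenAt f.base z := fun z V hV => hopen.image_mem_nhds hV
  obtain ⟨e, U, hxU, -, hU⟩ := (Groth.Agent.EGA43.Chevalley.isEquidimAt_iff f x).1
    (Groth.Agent.EGA43.CMChart.isEquidimAt_of_isCMAt f x (hf x))
  have hsum : ∀ w ∈ U, Groth.Agent.EGA43.DimFormula.fibDim f w + Groth.Agent.EGA43.DimFormula.trdAt f w = e := by
    intro w hw
    obtain ⟨z, hzw, -, hzmax, hz⟩ := Groth.Agent.EGA43.DimFormula.exists_fibre_max f w
    exact hz.symm.trans (hU z (hzw.mem_open U.isOpen hw) hzmax)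
  have hstalk : ∀ w : X, ringKrullDim (X.presheaf.stalk w) = ringKrullDim (Y.presheaf.stalk (f w)) +
      ((Groth.Agent.EGA43.DimFormula.fibDim f w : ℕ) : WithBot ℕ∞) := fun w => by
    rw [Groth.Agent.EGA43.DimFormula.dimAt_eq_of_isOpenAt f w (fun z _ _ _ => hat z),
      Groth.Agent.EGA43.DimFormula.fibDim_eq]
  have hdim : ∀ {Z : Scheme.{u}} (W : Z.Opens),
      topologicalKrullDim (W : Set Z) = ⨆ w : W, ringKrullDim (Z.presheaf.stalk w.1) := by
    intro Z W
    show topologicalKrullDim (W : Scheme.{u}) = _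
    rw [Groth.Agent.DimLib.topologicalKrullDim_eq_krullDim, Order.krullDim_eq_iSup_coheight]
    refine iSup_congr fun w => ?_
    rw [← ringKrullDim_stalk_eq_coheight]
    exact ringKrullDim_eq_of_ringEquiv (W.stalkIso w).commRingCatIsoToRingEquiv
  have hup : ∀ (W : X.Opens) (V : Y.Opens), W ≤ U → (∀ w ∈ W, f w ∈ V) →
      topologicalKrullDim (W : Set X) ≤ topologicalKrullDim (V : Set Y) + (e : WithBot ℕ∞) := by
    intro W V hWU hWV
    rw [hdim W]
    refine iSup_le fun w => ?_
    rw [hstalk, hdim V]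
    refine add_le_add (le_iSup (fun v : V => ringKrullDim (Y.presheaf.stalk v.1)) ⟨f w.1, hWV _ w.2⟩) ?_
    have := hsum w.1 (hWU w.2)
    exact_mod_cast (by omega : Groth.Agent.EGA43.DimFormula.fibDim f w.1 ≤ e)
  have hdown : ∀ (W : X.Opens), W ≤ U → x ∈ W →
      topologicalKrullDim ((⟨f '' W, hopen _ W.isOpen⟩ : Y.Opens) : Set Y) + (e : WithBot ℕ∞) ≤ topologicalKrullDim (W : Set X) := by
    intro W hWU hxW
    rw [hdim W, hdim ⟨f '' W, hopen _ W.isOpen⟩]
    have key : ∀ v ∈ f '' (W : Set X), ∃ w ∈ W, f w = v ∧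
        ringKrullDim (X.presheaf.stalk w) = ringKrullDim (Y.presheaf.stalk v) + (e : WithBot ℕ∞) := by
      rintro v ⟨z, hzW, rfl⟩
      haveI : LocallyOfFiniteType (f.fiberToSpecResidueField (f z)) :=
        inferInstanceAs (LocallyOfFiniteType (pullback.snd f (Y.fromSpecResidueField (f z))))
      haveI : JacobsonSpace ↥(f.fiber (f z)) :=
        LocallyOfFiniteType.jacobsonSpace (f.fiberToSpecResidueField (f z))
      obtain ⟨c, hcW, hc⟩ := nonempty_inter_closedPoints
        (Z := (f.fiberι (f z)) ⁻¹' (W : Set X)) ⟨f.asFiber z, by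
          rw [Set.mem_preimage, f.fiberι_asFiber]; exact hzW⟩
        (W.isOpen.preimage (f.fiberι (f z)).continuous).isLocallyClosed
      have hfc : f (f.fiberι (f z) c) = f z := (f.range_fiberι _).le ⟨c, rfl⟩
      refine ⟨_, hcW, hfc, ?_⟩
      have h0 : Groth.Agent.EGA43.DimFormula.trdAt f (f.fiberι (f z) c) = 0 := by
        refine Groth.Agent.EGA4Dim6.trdAt_eq_zero_of_closed_in_fibre f _ fun x' hx' hs => ?_
        obtain ⟨c', rfl⟩ := (f.range_fiberι (f z)).ge (hx'.trans hfc)
        have hs' := (f.fiberι (f z)).isEmbedding.isInducing.specializes_iff.1 hs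
        exact congrArg _ ((mem_closedPoints_iff.1 hc).closure_eq.le (specializes_iff_mem_closure.1 hs'))
      have := hsum _ (hWU hcW)
      rw [hstalk, hfc, show Groth.Agent.EGA43.DimFormula.fibDim f (f.fiberι (f z) c) = e by omega]
    refine Groth.Agent.EGA4Dim6.iSup_add_natCast_le _ _ ?_ fun ⟨v, hv⟩ => ?_
    · obtain ⟨w, hw, -, he⟩ := key (f x) ⟨x, hxW, rfl⟩
      refine le_trans ?_ (le_iSup (fun w : W => ringKrullDim (X.presheaf.stalk w.1)) ⟨w, hw⟩)
      rw [he, Groth.Agent.EGA43.DimFormula.dimAt_eq]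
      exact_mod_cast Nat.le_add_left _ _
    · obtain ⟨w, hw, -, he⟩ := key v hv
      exact he.ge.trans (le_iSup (fun w : W => ringKrullDim (X.presheaf.stalk w.1)) ⟨w, hw⟩)
  have he : FlatMor.fibreDimAt f x = ((e : ℕ) : WithBot ℕ∞) := by
    rw [Groth.Agent.EGA43.DimFormula.fibreDimAt_eq, hsum x hxU]
  rw [he]
  refine le_antisymm ?_ (le_iInf fun ⟨W, hxW⟩ => ?_)
  · obtain ⟨m, ⟨⟨V, hxV⟩, rfl⟩, hmin⟩ := wellFounded_lt.has_min
      (Set.range fun V : {V : TopologicalSpace.Opens ↥Y // f x ∈ V} => topologicalKrullDim (V.1 : Set Y))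
      ⟨_, ⟨⟨⊤, trivial⟩, rfl⟩⟩
    have hV : topologicalKrullDim (V : Set Y) = FlatMor.localDim ↥Y (f x) :=
      le_antisymm (le_iInf fun V' => not_lt.1 (hmin _ ⟨V', rfl⟩)) (iInf_le
        (fun V : {V : TopologicalSpace.Opens ↥Y // f x ∈ V} => topologicalKrullDim (V.1 : Set Y)) ⟨V, hxV⟩)
    refine le_trans (iInf_le _ ⟨U ⊓ f ⁻¹ᵁ V, hxU, hxV⟩) ?_
    refine le_trans (hup (U ⊓ f ⁻¹ᵁ V) V inf_le_left fun w hw => hw.2) ?_
    exact le_of_eq (congrArg (· + (e : WithBot ℕ∞)) hV)
  · let W' : X.Opens := W ⊓ U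
    refine le_trans ?_ ((hdown W' inf_le_right ⟨hxW, hxU⟩).trans
      (Topology.IsInducing.topologicalKrullDim_le
        (Topology.IsEmbedding.inclusion (inf_le_left : W' ≤ W)).isInducing))
    exact add_le_add (iInf_le (fun V : {V : TopologicalSpace.Opens ↥Y // f x ∈ V} =>
      topologicalKrullDim (V.1 : Set Y)) ⟨⟨f '' W', hopen _ W'.isOpen⟩, ⟨x, ⟨hxW, hxU⟩, rfl⟩⟩) le_rfl

end Groth.Agent.S1344
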