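import Groth.Statements.S13441
import Groth.Agent.CommAlg4.HilbPiece

set_option autoImplicit false
universe u
open W4c1hilbpn

namespace Groth.Agent.S13441

open Groth.Agent.CommAlg4.HilbPiece


open W4c1hilbpn in
/-- Let k be an infinite field, S = k[x,y,z] with variables ordered x > y > z, and I a strongly stable
ideal of finite colength, with staircase numbers b^z_{i,j} = the number of c with x^i y^j z^c
outside I and b^y_{i,j} = the number of b with x^i y^b z^j outside I. Then b^z_{i+1,j} ≤ b^z_{i,j+1}
and b^y_{i+1,j} ≤ b^y_{i,j+1} for all i and j (equivalently the maximum of the two neighbouring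
staircase numbers is the second one). -/
theorem result (k : Type u) [Field k] [Infinite k]
    (I : Ideal (MvPolynomial (Fin 3) k)) (hI : IsStronglyStable I) [Module.Finite k (MvPolynomial (Fin 3) k ⧸ I)] (i j : ℕ) :
    stairZ I (i + 1) j ≤ stairZ I i (j + 1) ∧ stairY I (i + 1) j ≤ stairY I i (j + 1) := by
  have hfin := finite_compl (I := I) hI.1
  have hmem : ∀ a b c, e3 a b c = Finsupp.equivFunOnFinite.symm ![a, b, c] := fun _ _ _ => rfl
  have key : ∀ a b c l : ℕ, ∀ p q : Fin 3, p < q → 0 < (e3 a b c) q →
      e3 a b c ∈ exps I → e3 a b c - Finsupp.single q 1 + Finsupp.single p 1 ∈ exps I :=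
    fun a b c _ p q hpq h0 hm => hI.2 _ hm p q hpq h0
  have hfz : ∀ a b, {c : ℕ | e3 a b c ∉ exps I}.Finite := fun a b =>
    (hfin.preimage (f := fun c => e3 a b c) (fun c _ c' _ h => by simpa [e3] using DFunLike.congr_fun h 2))
  have hfy : ∀ a c, {b : ℕ | e3 a b c ∉ exps I}.Finite := fun a c =>
    (hfin.preimage (f := fun b => e3 a b c) (fun b _ b' _ h => by simpa [e3] using DFunLike.congr_fun h 1))
  refine ⟨Nat.card_mono (hfz i (j + 1)) fun c hc hm => hc ?_, Nat.card_mono (hfy i (j + 1)) fun b hb hm => hb ?_⟩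
  · have h := key i (j + 1) c 0 0 1 (by decide) (by simp [e3]) hm
    have e : e3 i (j + 1) c - Finsupp.single 1 1 + Finsupp.single 0 1 = e3 (i + 1) j c := by
      ext l
      fin_cases l <;> simp [e3, Finsupp.single_apply, Matrix.vecHead, Matrix.vecTail]
    rwa [e] at h
  · have h := key i b (j + 1) 0 0 2 (by decide) (by simp [e3]) hm
    have e : e3 i b (j + 1) - Finsupp.single 2 1 + Finsupp.single 0 1 = e3 (i + 1) b j := by
      ext l
      fin_cases l <;> simp [e3, Finsupp.single_apply, Matrix.vecHead, Matrix.vecTail]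
    rwa [e] at h

end Groth.Agent.S13441
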