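import Groth.Statements.S13454
import Groth.Agent.CommAlg4.HilbDim
-- import your own Groth.Agent.* helpers here

set_option autoImplicit false
universe u
open W4c1hilbpn

namespace Groth.Agent.S13454

open W4c1hilbpn in
section
open MvPolynomial W4c1hilbpn Groth.Agent.CommAlg4.HilbPiece Groth.Agent.CommAlg4.HilbDim Groth.Agent.CommAlg4
open scoped Classical

variable {k : Type u} [Field k] {I : Ideal (MvPolynomial (Fin 3) k)}

theorem e3_apply (a b c : ℕ) : e3 a b c 0 = a ∧ e3 a b c 1 = b ∧ e3 a b c 2 = c := ⟨rfl, rfl, rfl⟩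

theorem e3_eta (δ : Fin 3 →₀ ℕ) : e3 (δ 0) (δ 1) (δ 2) = δ := by
  ext l; fin_cases l <;> rfl

theorem e3_eq_slice (a : ℕ) (β : Fin 2 →₀ ℕ) :
    Finsupp.single 0 a + Finsupp.mapDomain Fin.succ β = e3 a (β 0) (β 1) := by
  ext l
  refine Fin.cases ?_ (fun l => ?_) l
  · rw [Finsupp.add_apply, Finsupp.single_eq_same, Finsupp.mapDomain_notin_range, add_zero]
    · rfl
    · rintro ⟨j, hj⟩; exact Fin.succ_ne_zero j hj
  · rw [Finsupp.add_apply, Finsupp.mapDomain_apply (Fin.succ_injective 2),
      Finsupp.single_eq_of_ne (Fin.succ_ne_zero l), zero_add]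
    fin_cases l <;> rfl

theorem monomial_mem_sliceX (a : ℕ) (β : Fin 2 →₀ ℕ) :
    β ∈ exps (sliceX I a) ↔ e3 a (β 0) (β 1) ∈ exps I := by
  show monomial β (1 : k) ∈ sliceX I a ↔ monomial (e3 a (β 0) (β 1)) (1 : k) ∈ I
  rw [← e3_eq_slice, sliceX, Ideal.mem_comap, Submodule.mem_colon_singleton, smul_eq_mul]
  show rename Fin.succ (monomial β (1 : k)) * X 0 ^ a ∈ I ↔ _
  rw [rename_monomial, X_pow_eq_monomial, monomial_mul, one_mul, add_comm (Finsupp.mapDomain Fin.succ β)]

theorem isMonomial_sliceX (hI : IsMonomial I) (a : ℕ) : IsMonomial (sliceX I a) := by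
  intro f hf β hβ
  refine (monomial_mem_sliceX a β).2 ?_
  have hm : rename Fin.succ f * X 0 ^ a ∈ I := Submodule.mem_colon_singleton.1 (Ideal.mem_comap.1 hf)
  rw [← e3_eq_slice]
  refine hI _ hm _ (mem_support_iff.2 ?_)
  rw [X_pow_eq_monomial, add_comm, coeff_mul_monomial, mul_one, coeff_rename_mapDomain _ (Fin.succ_injective 2)]
  exact mem_support_iff.1 hβ

theorem finite_sliceX [Module.Finite k (MvPolynomial (Fin 3) k ⧸ I)] (a : ℕ) :
    Module.Finite k (MvPolynomial (Fin 2) k ⧸ sliceX I a) := by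
  let L : MvPolynomial (Fin 2) k →ₗ[k] MvPolynomial (Fin 3) k ⧸ I :=
    (Ideal.Quotient.mkₐ k I).toLinearMap ∘ₗ (LinearMap.mulRight k ((X 0 : MvPolynomial (Fin 3) k) ^ a)) ∘ₗ
      (rename Fin.succ : MvPolynomial (Fin 2) k →ₐ[k] MvPolynomial (Fin 3) k).toLinearMap
  have hL : LinearMap.ker L = (sliceX I a).restrictScalars k := by
    ext f
    rw [LinearMap.mem_ker, Submodule.restrictScalars_mem, sliceX, Ideal.mem_comap, Submodule.mem_colon_singleton]
    exact Ideal.Quotient.eq_zero_iff_mem
  haveI : Module.Finite k (MvPolynomial (Fin 2) k ⧸ LinearMap.ker L) :=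
    Module.Finite.equiv L.quotKerEquivRange.symm
  rw [hL] at this
  exact Module.Finite.equiv (Submodule.Quotient.restrictScalarsEquiv k (sliceX I a))

variable [Module.Finite k (MvPolynomial (Fin 3) k ⧸ I)] (hI : IsStronglyStable I)

include hI in
/-- The standard monomials with given first exponent. -/
noncomputable def N (i : ℕ) : Finset (Fin 3 →₀ ℕ) :=
  (finite_compl hI.1).toFinset.filter fun δ => δ 0 = i

include hI in
theorem mem_N {i : ℕ} {δ : Fin 3 →₀ ℕ} : δ ∈ N hI i ↔ δ ∉ exps I ∧ δ 0 = i := by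
  simp [N]

include hI in
theorem finrank_slice (i : ℕ) : Module.finrank k (MvPolynomial (Fin 2) k ⧸ sliceX I i) = (N hI i).card := by
  haveI := finite_sliceX (I := I) i
  rw [finrank_quot (isMonomial_sliceX hI.1 i)]
  refine Finset.card_bij (fun β _ => e3 i (β 0) (β 1)) (fun β hβ => (mem_N hI).2 ⟨?_, rfl⟩) (fun β _ β' _ h => ?_)
    (fun δ hδ => ?_)
  · exact fun h => (Set.Finite.mem_toFinset _).1 hβ ((monomial_mem_sliceX i β).2 h)
  · have h1 := DFunLike.congr_fun h 1
    have h2 := DFunLike.congr_fun h 2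
    ext l; fin_cases l <;> assumption
  · obtain ⟨h1, rfl⟩ := (mem_N hI).1 hδ
    refine ⟨Finsupp.equivFunOnFinite.symm ![δ 1, δ 2], (Set.Finite.mem_toFinset _).2 fun h => h1 ?_, e3_eta δ⟩
    have := (monomial_mem_sliceX (δ 0) _).1 h
    exact e3_eta δ ▸ this

include hI in
theorem move {a b c : ℕ} (h : e3 (a + 1) b c ∉ exps I) :
    e3 a (b + 1) c ∉ exps I ∧ e3 a b (c + 1) ∉ exps I := by
  refine ⟨fun hm => h ?_, fun hm => h ?_⟩
  · have := hI.2 _ hm 0 1 (by decide) (by simp [e3])
    convert this using 1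
    ext l; fin_cases l <;> simp [e3, Finsupp.single_apply, Matrix.vecHead, Matrix.vecTail]
  · have := hI.2 _ hm 0 2 (by decide) (by simp [e3])
    convert this using 1
    ext l; fin_cases l <;> simp [e3, Finsupp.single_apply, Matrix.vecHead, Matrix.vecTail]

include hI in
theorem push {a : ℕ} : ∀ {b c : ℕ}, e3 a b c ∉ exps I → e3 a 0 (b + c) ∉ exps I
  | 0, c, h => by rwa [zero_add]
  | b + 1, c, h => by
    have h2 : e3 a b (c + 1) ∉ exps I := fun hm => h (by
      have := hI.2 _ hm 1 2 (by decide) (by simp [e3])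
      convert this using 1
      ext l; fin_cases l <;> simp [e3, Finsupp.single_apply, Matrix.vecHead, Matrix.vecTail])
    have := push h2
    rwa [show b + (c + 1) = b + 1 + c by omega] at this

include hI in
theorem down {a b c a' b' c' : ℕ} (h : e3 a b c ∉ exps I) (ha : a' ≤ a) (hb : b' ≤ b) (hc : c' ≤ c) :
    e3 a' b' c' ∉ exps I :=
  fun hm => h (exps_mono hm (by intro l; fin_cases l <;> assumption))

include hI in
theorem exists_deep {i s : ℕ} (h : (s + 1).choose 2 < (N hI i).card) : e3 i 0 s ∉ exps I := by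
  by_contra hs
  have hsub : N hI i ⊆ ((Finset.range s).biUnion fun n => Finset.HasAntidiagonal.antidiagonal (A := ℕ) n).image fun p => e3 i p.1 p.2 := by
    intro δ hδ
    obtain ⟨h1, rfl⟩ := (mem_N hI).1 hδ
    have h2 := push hI (e3_eta δ ▸ h1 : e3 (δ 0) (δ 1) (δ 2) ∉ exps I)
    have hlt : δ 1 + δ 2 < s := by
      by_contra hge
      exact down hI h2 le_rfl le_rfl (not_lt.1 hge) hs
    exact Finset.mem_image.2 ⟨(δ 1, δ 2), Finset.mem_biUnion.2 ⟨_, Finset.mem_range.2 hlt, Finset.HasAntidiagonal.mem_antidiagonal.2 rfl⟩, e3_eta δ⟩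
  have h3 := (Finset.card_le_card hsub).trans (Finset.card_image_le.trans Finset.card_biUnion_le)
  simp only [Finset.Nat.card_antidiagonal] at h3
  have h4 : ∀ s : ℕ, ∑ n ∈ Finset.range s, (n + 1) = (s + 1).choose 2 := fun s => by
    induction s with
    | zero => rfl
    | succ s ih =>
      rw [Finset.sum_range_succ, ih, Nat.choose_succ_succ' (s + 1) 1, Nat.choose_one_right,
        show (1 + 1 : ℕ) = 2 from rfl]
      omega
  rw [h4] at h3
  omega

include hI in
theorem step {i s : ℕ} (h : (s + 1).choose 2 < (N hI (i + 1)).card) : (s + 2).choose 2 < (N hI i).card := by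
  have hs := (move hI (exists_deep hI h)).2
  let A := (N hI (i + 1)).image fun δ => e3 i (δ 1 + 1) (δ 2)
  let B := (Finset.range (s + 2)).image fun c => e3 i 0 c
  have hA : A.card = (N hI (i + 1)).card := Finset.card_image_of_injOn fun δ hδ δ' hδ' he => by
    have h1 := DFunLike.congr_fun he 1
    have h2 := DFunLike.congr_fun he 2
    rw [(e3_apply _ _ _).2.1, (e3_apply _ _ _).2.1] at h1
    rw [(e3_apply _ _ _).2.2, (e3_apply _ _ _).2.2] at h2
    rw [← e3_eta δ, ← e3_eta δ', ((mem_N hI).1 hδ).2, ((mem_N hI).1 hδ').2, Nat.succ_injective h1, h2]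
  have hB : B.card = s + 2 := by
    rw [Finset.card_image_of_injective _ (fun c c' he => DFunLike.congr_fun he 2), Finset.card_range]
  have hd : Disjoint A B := Finset.disjoint_left.2 fun δ hδA hδB => by
    obtain ⟨a, -, rfl⟩ := Finset.mem_image.1 hδA
    obtain ⟨c, -, he⟩ := Finset.mem_image.1 hδB
    have := DFunLike.congr_fun he 1
    rw [(e3_apply _ _ _).2.1, (e3_apply _ _ _).2.1] at this
    omega
  have hsub : A ∪ B ⊆ N hI i := by
    refine Finset.union_subset ?_ ?_ <;> intro δ hδ <;> obtain ⟨a, ha, rfl⟩ := Finset.mem_image.1 hδ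
    · obtain ⟨h1, h0⟩ := (mem_N hI).1 ha
      refine (mem_N hI).2 ⟨(move hI ?_).1, rfl⟩
      rwa [← h0, e3_eta]
    · exact (mem_N hI).2 ⟨down hI hs le_rfl le_rfl (by have := Finset.mem_range.1 ha; omega), rfl⟩
  have := Finset.card_le_card hsub
  rw [Finset.card_union_of_disjoint hd, hA, hB] at this
  have e := Nat.choose_succ_succ' (s + 1) 1
  rw [Nat.choose_one_right, show (1 + 1 : ℕ) = 2 from rfl] at e
  rw [show s + 2 = s + 1 + 1 from rfl]
  omega

include hI in
theorem excess {r j : ℕ} (hj : j < r) (h : (r - j + 1).choose 2 < (N hI j).card) :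
    ∀ i ≤ j, (r - i + 1).choose 2 < (N hI i).card := by
  intro i hi
  induction hi using Nat.decreasingInduction with
  | self => exact h
  | of_succ i hi ih =>
    have := step hI (i := i) (s := r - (i + 1)) ih
    rwa [show r - i + 1 = r - (i + 1) + 2 by omega]

theorem hockey : ∀ r : ℕ, ∑ i ∈ Finset.Ico 0 r, (r - i + 1).choose 2 = (r + 2).choose 3
  | 0 => rfl
  | r + 1 => by
    rw [Finset.sum_eq_sum_Ico_succ_bot (Nat.succ_pos r)]
    have h1 : ∑ i ∈ Finset.Ico 1 (r + 1), (r + 1 - i + 1).choose 2 = (r + 2).choose 3 := by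
      rw [← hockey r, ← Finset.sum_Ico_add' (fun i => (r + 1 - i + 1).choose 2) 0 r 1]
      refine Finset.sum_congr rfl fun i _ => ?_
      congr 2
      omega
    show (r + 1 - 0 + 1).choose 2 + ∑ i ∈ Finset.Ico (0 + 1) (r + 1), _ = _
    rw [show (0 + 1 : ℕ) = 1 from rfl, h1, Nat.choose_succ_succ' (r + 2) 2]
    rfl

include hI in
theorem sum_N_le (r : ℕ) : ∑ i ∈ Finset.Ico 0 r, (N hI i).card ≤ Module.finrank k (MvPolynomial (Fin 3) k ⧸ I) := by
  rw [finrank_quot hI.1, ← Finset.card_biUnion]
  · exact Finset.card_le_card fun δ hδ => by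
      obtain ⟨i, -, hi⟩ := Finset.mem_biUnion.1 hδ
      exact (Finset.mem_filter.1 hi).1
  · intro a _ b _ hab
    exact Finset.disjoint_left.2 fun δ ha hb => hab (((mem_N hI).1 ha).2.symm.trans ((mem_N hI).1 hb).2)

end

/-- Let k be an infinite field, S = k[x,y,z] with variables ordered x > y > z and irrelevant ideal m, r
a natural number, and I a strongly stable ideal of colength at most C(r+2, 3) = dim S/m^r; write I_i
for the ideal of polynomials f in k[y,z] with x^i f in I. Then for every j ≤ r the sum over j ≤ i <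
r of dim k[y,z]/I_i is at most the sum over the same i of C(r-i+1, 2) = dim k[y,z]/(y,z)^{r-i}, and
if equality holds for every j < r then I = m^r. -/
theorem result (k : Type u) [Field k] [Infinite k] (r : ℕ)
    (I : Ideal (MvPolynomial (Fin 3) k)) (hI : IsStronglyStable I) [Module.Finite k (MvPolynomial (Fin 3) k ⧸ I)]
    (hd : Module.finrank k (MvPolynomial (Fin 3) k ⧸ I) ≤ Nat.choose (r + 2) 3) :
    (∀ j, j ≤ r → ∑ i ∈ Finset.Ico j r, Module.finrank k (MvPolynomial (Fin 2) k ⧸ sliceX I i) ≤
        ∑ i ∈ Finset.Ico j r, Nat.choose (r - i + 1) 2) ∧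
    ((∀ j, j < r → ∑ i ∈ Finset.Ico j r, Module.finrank k (MvPolynomial (Fin 2) k ⧸ sliceX I i) =
        ∑ i ∈ Finset.Ico j r, Nat.choose (r - i + 1) 2) → I = (Ideal.span (Set.range (MvPolynomial.X : Fin 3 → MvPolynomial (Fin 3) k))) ^ r) := by
  classical
  have hle : ∀ j, j ≤ r → ∑ i ∈ Finset.Ico j r, (N hI i).card ≤ ∑ i ∈ Finset.Ico j r, (r - i + 1).choose 2 := by
    intro j hj
    induction hj using Nat.decreasingInduction with
    | self => simp
    | of_succ j hj ih =>
      rw [Finset.sum_eq_sum_Ico_succ_bot hj, Finset.sum_eq_sum_Ico_succ_bot hj]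
      by_cases h : (r - j + 1).choose 2 < (N hI j).card
      · by_contra hgt
        push Not at hgt
        have hhead : ∑ i ∈ Finset.Ico 0 j, (r - i + 1).choose 2 ≤ ∑ i ∈ Finset.Ico 0 j, (N hI i).card :=
          Finset.sum_le_sum fun i hi => (excess hI hj h i (Finset.mem_Ico.1 hi).2.le).le
        have h2 := (sum_N_le hI r).trans (hd.trans (hockey r).ge)
        have e1 := Finset.sum_Ico_consecutive (fun i => (N hI i).card) (Nat.zero_le j) hj.le
        have e2 := Finset.sum_Ico_consecutive (fun i => (r - i + 1).choose 2) (Nat.zero_le j) hj.le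
        rw [Finset.sum_eq_sum_Ico_succ_bot hj] at e1 e2
        omega
      · omega
  refine ⟨fun j hj => ?_, fun heq => ?_⟩
  · simp only [finrank_slice hI]
    exact hle j hj
  · simp only [finrank_slice hI] at heq
    have hsub : ∀ a b c : ℕ, a + b + c < r → W4c1hilbpn.e3 a b c ∉ W4c1hilbpn.exps I := by
      intro a b c habc
      have h1 := heq (r - 1) (by omega)
      rw [show Finset.Ico (r - 1) r = {r - 1} by
          ext x
          rw [Finset.mem_Ico, Finset.mem_singleton]
          omega,
        Finset.sum_singleton, Finset.sum_singleton, show r - (r - 1) + 1 = 2 by omega] at h1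
      obtain ⟨δ, hδ⟩ : (N hI (r - 1)).Nonempty := Finset.card_pos.1 (by rw [h1]; decide)
      obtain ⟨hδ1, hδ0⟩ := (mem_N hI).1 hδ
      have h0 : W4c1hilbpn.e3 (r - 1) 0 0 ∉ W4c1hilbpn.exps I :=
        down hI (by rwa [← hδ0, e3_eta]) le_rfl (Nat.zero_le _) (Nat.zero_le _)
      have hgo : ∀ n b' c', b' + c' = n → n ≤ r - 1 → W4c1hilbpn.e3 (r - 1 - n) b' c' ∉ W4c1hilbpn.exps I := by
        intro n
        induction n with
        | zero =>
          intro b' c' hn _
          obtain ⟨rfl, rfl⟩ : b' = 0 ∧ c' = 0 := by omega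
          exact h0
        | succ n ih =>
          intro b' c' hn hnr
          rcases Nat.eq_zero_or_pos b' with rfl | hb
          · obtain ⟨c'', rfl⟩ : ∃ x, c' = x + 1 := ⟨c' - 1, by omega⟩
            have := ih 0 c'' (by omega) (by omega)
            rw [show r - 1 - n = r - 1 - (n + 1) + 1 by omega] at this
            exact (move hI this).2
          · obtain ⟨b'', rfl⟩ : ∃ x, b' = x + 1 := ⟨b' - 1, by omega⟩
            have := ih b'' c' (by omega) (by omega)
            rw [show r - 1 - n = r - 1 - (n + 1) + 1 by omega] at this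
            exact (move hI this).1
      exact down hI (hgo (b + c) b c rfl (by omega)) (by omega) le_rfl le_rfl
    have hmpow : ∀ δ : Fin 3 →₀ ℕ, r ≤ δ 0 + δ 1 + δ 2 → δ ∈ W4c1hilbpn.exps I := by
      intro δ hδ
      by_contra hne
      let S := ((Finset.range r).sigma fun a => (Finset.range (r - a)).biUnion fun n => Finset.HasAntidiagonal.antidiagonal (A := ℕ) n).image
        fun p => W4c1hilbpn.e3 p.1 p.2.1 p.2.2
      have hS : ∀ ε ∈ S, ε ∉ W4c1hilbpn.exps I ∧ ε 0 + ε 1 + ε 2 < r := by
        intro ε hε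
        obtain ⟨⟨a, b, c⟩, hp, rfl⟩ := Finset.mem_image.1 hε
        simp only [Finset.mem_sigma, Finset.mem_range, Finset.mem_biUnion, Finset.HasAntidiagonal.mem_antidiagonal] at hp
        obtain ⟨ha, n, hn, hbc⟩ := hp
        exact ⟨hsub a b c (by omega), show a + b + c < r by omega⟩
      have hSc : S.card = (r + 2).choose 3 := by
        rw [Finset.card_image_of_injective, Finset.card_sigma, ← hockey r, ← Finset.range_eq_Ico]
        · refine Finset.sum_congr rfl fun a _ => ?_
          rw [Finset.card_biUnion]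
          · simp only [Finset.Nat.card_antidiagonal]
            have h4 : ∀ s : ℕ, ∑ n ∈ Finset.range s, (n + 1) = (s + 1).choose 2 := fun s => by
              induction s with
              | zero => rfl
              | succ s ih =>
                rw [Finset.sum_range_succ, ih, Nat.choose_succ_succ' (s + 1) 1, Nat.choose_one_right,
                  show (1 + 1 : ℕ) = 2 from rfl]
                omega
            exact h4 _
          · intro x _ y _ hxy
            exact Finset.disjoint_left.2 fun p hx hy =>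
              hxy ((Finset.HasAntidiagonal.mem_antidiagonal.1 hx).symm.trans (Finset.HasAntidiagonal.mem_antidiagonal.1 hy))
        · rintro ⟨a, b, c⟩ ⟨a', b', c'⟩ he
          have h0 := DFunLike.congr_fun he 0
          have h1 := DFunLike.congr_fun he 1
          have h2 := DFunLike.congr_fun he 2
          simp only [(e3_apply _ _ _).1, (e3_apply _ _ _).2.1, (e3_apply _ _ _).2.2] at h0 h1 h2
          subst h0 h1 h2
          rfl
      have h5 : (insert δ S).card ≤ Module.finrank k (MvPolynomial (Fin 3) k ⧸ I) := by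
        rw [CommAlg4.HilbDim.finrank_quot hI.1]
        refine Finset.card_le_card fun ε hε => (Set.Finite.mem_toFinset _).2 ?_
        rcases Finset.mem_insert.1 hε with rfl | h
        · exact hne
        · exact (hS ε h).1
      rw [Finset.card_insert_of_notMem (fun h => by have := (hS δ h).2; omega), hSc] at h5
      omega
    have hsum : ∀ δ : Fin 3 →₀ ℕ, δ.degree = δ 0 + δ 1 + δ 2 := fun δ => by
      rw [Finsupp.degree_eq_sum, Fin.sum_univ_three]
    ext f
    rw [show Ideal.span (Set.range (MvPolynomial.X : Fin 3 → MvPolynomial (Fin 3) k)) = MvPolynomial.idealOfVars (Fin 3) k from rfl,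
      MvPolynomial.mem_pow_idealOfVars_iff]
    constructor
    · intro hf x hx
      by_contra hlt
      rw [hsum] at hlt
      exact hsub (x 0) (x 1) (x 2) (by omega) (by rw [e3_eta]; exact hI.1 f hf x hx)
    · intro hf
      rw [f.as_sum]
      refine Submodule.sum_mem _ fun x hx => ?_
      rw [show MvPolynomial.monomial x (f.coeff x) = MvPolynomial.C (f.coeff x) * MvPolynomial.monomial x 1 by
        rw [MvPolynomial.C_mul_monomial, mul_one]]
      exact Ideal.mul_mem_left _ _ (hmpow x (by rw [← hsum]; exact hf x hx))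

end Groth.Agent.S13454
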