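import Groth.Statements.S13443
import Groth.Agent.CommAlg4.HilbCorner
import Groth.Agent.S13454
import Groth.Agent.S13433
import Groth.Agent.S13441
import Groth.Agent.S13442
-- import your own Groth.Agent.* helpers here

set_option autoImplicit false
universe u
open W4c1hilbpn

namespace Groth.Agent.S13443

open W4c1hilbpn in
section
open MvPolynomial W4c1hilbpn Groth.Agent.CommAlg4 Groth.Agent.CommAlg4.HilbPiece Groth.Agent.CommAlg4.HilbDim
  Groth.Agent.CommAlg4.HilbSplit Groth.Agent.CommAlg4.StairDual Groth.Agent.CommAlg4.HilbSlice Groth.Agent.S13454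
open scoped Classical

variable {k : Type u} [Field k] {I : Ideal (MvPolynomial (Fin 3) k)}

theorem telescope (c : ℕ → ℕ) (hc : ∀ n, c (n + 1) ≤ c n) :
    ∀ n, ∑ j ∈ Finset.range n, (j + 1) * (c j - c (j + 1)) + n * c n = ∑ j ∈ Finset.range n, c j
  | 0 => by simp
  | n + 1 => by
    have ih := telescope c hc n
    obtain ⟨t, ht⟩ := Nat.exists_eq_add_of_le (hc n)
    rw [Finset.sum_range_succ, Finset.sum_range_succ, ← ih, ht, Nat.add_sub_cancel_left]
    ring

theorem sum_tails (f : ℕ → ℕ) : ∀ r : ℕ, ∑ j ∈ Finset.range r, ∑ a ∈ Finset.Ico j r, f a = ∑ a ∈ Finset.range r, (a + 1) * f a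
  | 0 => rfl
  | r + 1 => by
    rw [Finset.sum_range_succ, Finset.sum_range_succ, Finset.sum_congr rfl
      (fun j hj => Finset.sum_Ico_succ_top (Finset.mem_range.1 hj).le f), Finset.sum_add_distrib, sum_tails f r]
    simp
    ring

theorem sum_tail_simplex : ∀ r : ℕ, ∑ j ∈ Finset.range r, ∑ a ∈ Finset.Ico j r, (r - a + 1).choose 2 = (r + 3).choose 4
  | 0 => rfl
  | r + 1 => by
    rw [Finset.sum_range_succ']
    have h : ∀ j, ∑ a ∈ Finset.Ico (j + 1) (r + 1), (r + 1 - a + 1).choose 2 = ∑ a ∈ Finset.Ico j r, (r - a + 1).choose 2 := fun j => by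
      rw [← Finset.sum_Ico_add' (fun a => (r + 1 - a + 1).choose 2) j r 1]
      exact Finset.sum_congr rfl fun a _ => by congr 2; omega
    simp only [h]
    rw [sum_tail_simplex r, S13454.hockey (r + 1)]
    have e := Nat.choose_succ_succ' (r + 3) 3
    rw [show (3 + 1 : ℕ) = 4 from rfl] at e
    rw [show r + 1 + 3 = r + 3 + 1 by omega, show r + 1 + 2 = r + 3 by omega]
    omega

variable [Module.Finite k (MvPolynomial (Fin 3) k ⧸ I)] (hI : IsStronglyStable I) (ρ : Equiv.Perm (Fin 3))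

include hI in
theorem sum_st (hρ : ρ 0 = 0) {M : ℕ} (hM : Stair (st I ρ) M) (a : ℕ) :
    ∑ b ∈ Finset.range M, st I ρ a b = (S13454.N hI a).card := by
  have hc : ∑ b ∈ Finset.range M, st I ρ a b = ((Finset.range M).sigma fun b => Finset.range (st I ρ a b)).card := by
    rw [Finset.card_sigma]; simp
  rw [hc]
  refine Finset.card_bij (fun p _ => pt ρ a p.1 p.2) (fun p hp => ?_) (fun p _ q _ h => ?_) (fun δ hδ => ?_)
  · simp only [Finset.mem_sigma, Finset.mem_range] at hp
    refine (mem_N hI).2 ⟨fun h => ?_, ?_⟩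
    · have := (mem_exps_iff ρ hI.1 a p.1 p.2).1 h
      omega
    · have := pt_0 ρ a p.1 p.2
      rwa [hρ] at this
  · have h1 := DFunLike.congr_fun h (ρ 1)
    have h2 := DFunLike.congr_fun h (ρ 2)
    simp only [pt_1, pt_2] at h1 h2
    obtain ⟨p1, p2⟩ := p
    obtain ⟨q1, q2⟩ := q
    simp only at h1 h2
    subst h1 h2
    rfl
  · obtain ⟨h1, h0⟩ := (mem_N hI).1 hδ
    have he : pt ρ a (δ (ρ 1)) (δ (ρ 2)) = δ := by
      have := pt_eta ρ δ
      rwa [show δ (ρ 0) = a by rw [hρ, h0]] at this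
    have hlt : δ (ρ 2) < st I ρ a (δ (ρ 1)) := not_le.1 fun h => h1 (he ▸ (mem_exps_iff ρ hI.1 _ _ _).2 h)
    refine ⟨⟨δ (ρ 1), δ (ρ 2)⟩, ?_, he⟩
    simp only [Finset.mem_sigma, Finset.mem_range]
    refine ⟨?_, hlt⟩
    by_contra hb
    rw [hM.bound a _ (Or.inr (by omega))] at hlt
    omega

include hI in
theorem sigPiece_le (hρ : ρ 0 = 0) (hst : ∀ a b, st I ρ (a + 1) b ≤ st I ρ a (b + 1)) :
    ∃ M, Module.finrank k ↥(sigPiece I {ρ 2}) ≤ ∑ a ∈ Finset.range M, (a + 1) * (S13454.N hI a).card := by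
  obtain ⟨M, hM⟩ := stair ρ hI.1
  haveI := HilbDim.finite_tgt (k := k) (I := I)
  refine ⟨M, ?_⟩
  let g : ℕ × ℕ → ℕ := fun p => st I ρ p.1 p.2 - max (st I ρ (p.1 + 1) p.2) (st I ρ p.1 (p.2 + 1))
  let S : (Fin 3 → ℤ) → Prop := fun α => ∀ i, α i < 0 ↔ i ∈ ({ρ 2} : Set (Fin 3))
  let key : (Fin 3 → ℤ) → ℕ × ℕ := fun α => ((α (ρ 0)).toNat, (α (ρ 1)).toNat)
  let F := (A hI.1).filter S
  have hnn : ∀ α ∈ F, (key α).1 = α (ρ 0) ∧ (key α).2 = α (ρ 1) := by
    intro α hα
    have hS := (Finset.mem_filter.1 hα).2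
    have h0 : ¬ α (ρ 0) < 0 := fun h => by simpa [ρ.injective.eq_iff] using (hS _).1 h
    have h1 : ¬ α (ρ 1) < 0 := fun h => by simpa [ρ.injective.eq_iff] using (hS _).1 h
    exact ⟨Int.toNat_of_nonneg (by omega), Int.toNat_of_nonneg (by omega)⟩
  have hsig : Module.finrank k ↥(sigPiece I {ρ 2}) = ∑ α ∈ F, Module.finrank k ↥(tPiece I α) := by
    rw [finrank_sigPiece hI.1, Dim]
    refine Finset.sum_congr ?_ (fun _ _ => rfl)
    ext α
    simp [F, S]
  rw [hsig, ← Finset.sum_fiberwise_of_maps_to (g := key) (t := F.image key) fun α hα => Finset.mem_image_of_mem _ hα]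
  have hpiece : ∀ p ∈ F.image key, ∑ α ∈ F.filter (fun α => key α = p), Module.finrank k ↥(tPiece I α) ≤
      ∑ q ∈ Finset.range M ×ˢ Finset.range M, (if p.1 ≤ q.1 ∧ p.2 ≤ q.2 then g q else 0) := by
    intro p _
    refine le_trans ?_ (HilbCorner.T_le_terminal (k := k) hM p.1 p.2)
    rw [← finrank_P ρ hI.1, P, finrank_iSup hI.1, Dim]
    refine Finset.sum_le_sum_of_subset fun α hα => ?_
    obtain ⟨hαF, rfl⟩ := Finset.mem_filter.1 hα
    simp only [Finset.mem_filter]
    exact ⟨(Finset.mem_filter.1 hαF).1, (hnn α hαF).1.symm, (hnn α hαF).2.symm⟩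
  refine (Finset.sum_le_sum hpiece).trans ?_
  rw [Finset.sum_comm]
  have hq : ∀ q ∈ Finset.range M ×ˢ Finset.range M, ∑ p ∈ F.image key, (if p.1 ≤ q.1 ∧ p.2 ≤ q.2 then g q else 0) ≤
      (q.1 + 1) * ((q.2 + 1) * (st I ρ q.1 q.2 - st I ρ q.1 (q.2 + 1))) := by
    intro q _
    rw [← Finset.sum_filter, Finset.sum_const, smul_eq_mul, ← mul_assoc]
    refine Nat.mul_le_mul ?_ (Nat.sub_le_sub_left (le_max_right _ _) _)
    refine (Finset.card_le_card (t := Finset.range (q.1 + 1) ×ˢ Finset.range (q.2 + 1)) fun p hp => ?_).trans (by simp)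
    obtain ⟨-, h1, h2⟩ := Finset.mem_filter.1 hp
    simp only [Finset.mem_product, Finset.mem_range]
    omega
  refine (Finset.sum_le_sum hq).trans (le_of_eq ?_)
  rw [Finset.sum_product]
  refine Finset.sum_congr rfl fun a _ => ?_
  dsimp only
  rw [← Finset.mul_sum, ← sum_st hI ρ hρ hM a,
    ← telescope (fun b => st I ρ a b) (fun b => hM.anti a a b (b + 1) le_rfl b.le_succ) M,
    hM.bound a M (Or.inr le_rfl), mul_zero, add_zero]

include hI in
theorem axis_bound {r : ℕ} (hd : Module.finrank k (MvPolynomial (Fin 3) k ⧸ I) = (r + 2).choose 3) [Infinite k]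
    (hρ : ρ 0 = 0) (hst : ∀ a b, st I ρ (a + 1) b ≤ st I ρ a (b + 1)) :
    Module.finrank k ↥(sigPiece I {ρ 2}) ≤ (r + 3).choose 4 ∧
      (Module.finrank k ↥(sigPiece I {ρ 2}) = (r + 3).choose 4 →
        I = (Ideal.span (Set.range (MvPolynomial.X : Fin 3 → MvPolynomial (Fin 3) k))) ^ r) := by
  obtain ⟨M, hM⟩ := sigPiece_le hI ρ hρ hst
  have hle := (S13454.result k r I hI hd.le).1
  simp only [finrank_slice hI] at hle
  have hzero : ∀ a, r ≤ a → (S13454.N hI a).card = 0 := by
    intro a ha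
    by_contra hne
    have hex : ∀ i ≤ a, (a - i + 1).choose 2 < (S13454.N hI i).card := by
      intro i hi
      induction hi using Nat.decreasingInduction with
      | self =>
        rw [Nat.sub_self, zero_add, Nat.choose_eq_zero_of_lt (by norm_num : 1 < 2)]
        exact Nat.pos_of_ne_zero hne
      | of_succ i hi ih =>
        have := S13454.step hI (i := i) (s := a - (i + 1)) ih
        rwa [show a - (i + 1) + 2 = a - i + 1 by omega] at this
    have h0 : ∑ i ∈ Finset.Ico 0 a, (a - i + 1).choose 2 ≤ ∑ i ∈ Finset.Ico 0 a, (S13454.N hI i).card :=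
      Finset.sum_le_sum fun i hi => (hex i (Finset.mem_Ico.1 hi).2.le).le
    have h1 := sum_N_le hI (a + 1)
    rw [Finset.sum_Ico_succ_top (Nat.zero_le a), hd] at h1
    rw [S13454.hockey] at h0
    have h2 : (r + 2).choose 3 ≤ (a + 2).choose 3 := Nat.choose_le_choose 3 (by omega)
    have h3 := hex a le_rfl
    omega
  have hsum : ∑ a ∈ Finset.range M, (a + 1) * (S13454.N hI a).card ≤ ∑ a ∈ Finset.range r, (a + 1) * (S13454.N hI a).card := by
    rw [← Finset.sum_filter_add_sum_filter_not (Finset.range M) (fun a => a < r)]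
    rw [Finset.sum_eq_zero (s := (Finset.range M).filter fun a => ¬ a < r) fun a ha => by
      rw [hzero a (not_lt.1 (Finset.mem_filter.1 ha).2), mul_zero], add_zero]
    exact Finset.sum_le_sum_of_subset fun a ha => Finset.mem_range.2 (Finset.mem_filter.1 ha).2
  rw [← sum_tails (fun a => (S13454.N hI a).card) r] at hsum
  have hb := Finset.sum_le_sum fun j (hj : j ∈ Finset.range r) => hle j (Finset.mem_range.1 hj).le
  rw [sum_tail_simplex] at hb
  refine ⟨hM.trans (hsum.trans hb), fun heq => (S13454.result k r I hI hd.le).2 fun j hj => ?_⟩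
  simp only [finrank_slice hI]
  have hb' : ∑ j ∈ Finset.range r, ∑ a ∈ Finset.Ico j r, (S13454.N hI a).card =
      ∑ j ∈ Finset.range r, ∑ a ∈ Finset.Ico j r, (r - a + 1).choose 2 := by
    rw [sum_tail_simplex]; omega
  exact (Finset.sum_eq_sum_iff_of_le fun j hj => hle j (Finset.mem_range.1 hj).le).1 hb' j (Finset.mem_range.2 hj)

end

/-- Let k be an infinite field, S = k[x,y,z], and T(I) = Hom_S(I, S/I) graded by triples of integers (a
graded piece is indexed by its multidegree; its sign pattern records which of the three entries are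
negative), variables ordered x > y > z; let m = (x,y,z), r a natural number and I a strongly stable
ideal of colength C(r+2, 3) = dim S/m^r. Then the spans of the graded pieces of T(I) negative
exactly at z, resp. exactly at y, have dimension at most C(r+3, 4), the spans of those negative
exactly at x and y, resp. exactly at x and z, have dimension at most C(r+2, 4) (these are the
corresponding dimensions for m^r), and in each of the four cases equality holds if and only if I =
m^r. (The published statement assumes the ideal Borel-fixed over a field of characteristic zero,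
which for monomial ideals means strongly stable; the argument uses only strong stability, and the
row is stated in that form.) -/
theorem result (k : Type u) [Field k] [Infinite k] (r : ℕ)
    (I : Ideal (MvPolynomial (Fin 3) k)) (hI : IsStronglyStable I) [Module.Finite k (MvPolynomial (Fin 3) k ⧸ I)]
    (hd : Module.finrank k (MvPolynomial (Fin 3) k ⧸ I) = Nat.choose (r + 2) 3) :
    (Module.finrank k ↥(sigPiece I ({2} : Set (Fin 3))) ≤ Nat.choose (r + 3) 4 ∧
      (Module.finrank k ↥(sigPiece I ({2} : Set (Fin 3))) = Nat.choose (r + 3) 4 ↔ I = (Ideal.span (Set.range (MvPolynomial.X : Fin 3 → MvPolynomial (Fin 3) k))) ^ r)) ∧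
    (Module.finrank k ↥(sigPiece I ({1} : Set (Fin 3))) ≤ Nat.choose (r + 3) 4 ∧
      (Module.finrank k ↥(sigPiece I ({1} : Set (Fin 3))) = Nat.choose (r + 3) 4 ↔ I = (Ideal.span (Set.range (MvPolynomial.X : Fin 3 → MvPolynomial (Fin 3) k))) ^ r)) ∧
    (Module.finrank k ↥(sigPiece I ({0, 1} : Set (Fin 3))) ≤ Nat.choose (r + 2) 4 ∧
      (Module.finrank k ↥(sigPiece I ({0, 1} : Set (Fin 3))) = Nat.choose (r + 2) 4 ↔ I = (Ideal.span (Set.range (MvPolynomial.X : Fin 3 → MvPolynomial (Fin 3) k))) ^ r)) ∧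
    (Module.finrank k ↥(sigPiece I ({0, 2} : Set (Fin 3))) ≤ Nat.choose (r + 2) 4 ∧
      (Module.finrank k ↥(sigPiece I ({0, 2} : Set (Fin 3))) = Nat.choose (r + 2) 4 ↔ I = (Ideal.span (Set.range (MvPolynomial.X : Fin 3 → MvPolynomial (Fin 3) k))) ^ r)) := by
  have hz1 : (1 : Equiv.Perm (Fin 3)) 0 = 0 := rfl
  have hy1 : (Equiv.swap (1 : Fin 3) 2) 0 = 0 := by decide
  have hstz : ∀ a b, CommAlg4.HilbSlice.st I (1 : Equiv.Perm (Fin 3)) a b = stairZ I a b := by
    intro a b
    have hpt : ∀ l, CommAlg4.HilbSlice.pt (1 : Equiv.Perm (Fin 3)) a b l = e3 a b l := by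
      intro l
      ext x
      fin_cases x <;> simp [CommAlg4.HilbSlice.pt, e3, Finsupp.single_apply]
    simp only [CommAlg4.HilbSlice.st, stairZ, hpt]
  have hsty : ∀ a b, CommAlg4.HilbSlice.st I (Equiv.swap (1 : Fin 3) 2) a b = stairY I a b := by
    intro a b
    have hpt : ∀ l, CommAlg4.HilbSlice.pt (Equiv.swap (1 : Fin 3) 2) a b l = e3 a l b := by
      intro l
      ext x
      fin_cases x <;> simp [CommAlg4.HilbSlice.pt, e3, Finsupp.single_apply, Equiv.swap_apply_def]
    simp only [CommAlg4.HilbSlice.st, stairY, hpt]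
  obtain ⟨hz, hzeq⟩ := axis_bound hI (1 : Equiv.Perm (Fin 3)) hd hz1 fun a b => by
    rw [hstz, hstz]; exact (S13441.result k I hI a b).1
  obtain ⟨hy, hyeq⟩ := axis_bound hI (Equiv.swap (1 : Fin 3) 2) hd hy1 fun a b => by
    rw [hsty, hsty]; exact (S13441.result k I hI a b).2
  rw [show (1 : Equiv.Perm (Fin 3)) 2 = 2 from rfl] at hz hzeq
  rw [show (Equiv.swap (1 : Fin 3) 2) 2 = 1 from by decide] at hy hyeq
  have c2 : ({2}ᶜ : Set (Fin 3)) = {0, 1} := by ext x; fin_cases x <;> simp
  have c1 : ({1}ᶜ : Set (Fin 3)) = {0, 2} := by ext x; fin_cases x <;> simp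
  have e2 := S13433.result k I hI.1 2
  have e1 := S13433.result k I hI.1 1
  rw [c2] at e2
  rw [c1] at e1
  have ec := Nat.choose_succ_succ' (r + 2) 3
  rw [show (3 + 1 : ℕ) = 4 from rfl, show r + 2 + 1 = r + 3 from rfl] at ec
  have hback : ∀ i : Fin 3, I = (Ideal.span (Set.range (MvPolynomial.X : Fin 3 → MvPolynomial (Fin 3) k))) ^ r →
      Module.finrank k ↥(sigPiece I {i}) = (r + 3).choose 4 := by
    intro i hi
    rw [hi]
    exact (S13442.result k r i).1
  refine ⟨⟨hz, hzeq, hback 2⟩, ⟨hy, hyeq, hback 1⟩, ⟨by omega, fun h => hzeq (by omega), fun h => ?_⟩,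
    ⟨by omega, fun h => hyeq (by omega), fun h => ?_⟩⟩
  · have := hback 2 h; omega
  · have := hback 1 h; omega

end Groth.Agent.S13443
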