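import Groth.Statements.S13445
import Groth.Agent.CohDer1.Hilb.MPowSig
import Groth.Agent.HilbP8.Slices

set_option autoImplicit false
universe u
open W4c1hilbpn

namespace Groth.Agent.S13445

open MvPolynomial

variable {k : Type u} [Field k]

/-- span of the monomials in `x y z` of bounded `x`-degree -/
noncomputable def V (x y z : MvPolynomial (Fin 3) k) (n : ℕ) : Submodule k (MvPolynomial (Fin 3) k) :=
  Submodule.span k (Set.range fun t : {a : ℕ // a < n} × ℕ × ℕ => x ^ t.1.1 * y ^ t.2.1 * z ^ t.2.2)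

theorem mem_V (x y z : MvPolynomial (Fin 3) k) {n a : ℕ} (h : a < n) (b c : ℕ) :
    x ^ a * y ^ b * z ^ c ∈ V x y z n := Submodule.subset_span ⟨(⟨a, h⟩, b, c), rfl⟩

theorem V_mono (x y z : MvPolynomial (Fin 3) k) {n m : ℕ} (h : n ≤ m) : V x y z n ≤ V x y z m := by
  refine Submodule.span_le.2 ?_
  rintro _ ⟨⟨⟨a, ha⟩, b, c⟩, rfl⟩
  exact mem_V x y z (lt_of_lt_of_le ha h) b c

theorem mul_mem_V (x y z : MvPolynomial (Fin 3) k) {n : ℕ} (r s t : k) {e : MvPolynomial (Fin 3) k}
    (he : e ∈ V x y z n) : e * (r • x + (s • y + t • z)) ∈ V x y z (n + 1) := by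
  induction he using Submodule.span_induction with
  | mem e he =>
    obtain ⟨⟨⟨a, ha⟩, b, c⟩, rfl⟩ := he
    show x ^ a * y ^ b * z ^ c * _ ∈ _
    rw [mul_add, mul_add, mul_smul_comm, mul_smul_comm, mul_smul_comm,
      show x ^ a * y ^ b * z ^ c * x = x ^ (a + 1) * y ^ b * z ^ c by ring,
      show x ^ a * y ^ b * z ^ c * y = x ^ a * y ^ (b + 1) * z ^ c by ring,
      show x ^ a * y ^ b * z ^ c * z = x ^ a * y ^ b * z ^ (c + 1) by ring]
    exact add_mem (Submodule.smul_mem _ _ (mem_V x y z (by omega) _ _))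
      (add_mem (Submodule.smul_mem _ _ (mem_V x y z (by omega) _ _)) (Submodule.smul_mem _ _ (mem_V x y z (by omega) _ _)))
  | zero => rw [zero_mul]; exact zero_mem _
  | add e e' _ _ he he' => rw [add_mul]; exact add_mem he he'
  | smul q e _ he => rw [smul_mul_assoc]; exact Submodule.smul_mem _ _ he

theorem lead_mem (x y z : MvPolynomial (Fin 3) k) (a b : k) (u v w : ℕ) :
    x ^ u * (y + a • x) ^ v * (z + b • x) ^ w - (a ^ v * b ^ w) • x ^ (u + v + w) ∈ V x y z (u + v + w) := by
  induction w with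
  | zero =>
    induction v with
    | zero => simp
    | succ v ih =>
      have h1 := mul_mem_V x y z a 1 0 ih
      have h2 : (a ^ v) • (x ^ (u + v) * y ^ 1 * z ^ 0) ∈ V x y z (u + (v + 1) + 0) :=
        Submodule.smul_mem _ _ (mem_V x y z (by omega) _ _)
      rw [show u + (v + 1) + 0 = u + v + 0 + 1 by omega] at h2 ⊢
      convert add_mem h1 h2 using 1
      simp only [MvPolynomial.smul_eq_C_mul, map_mul, map_pow, map_one, map_zero]
      ring
  | succ w ih =>
    have h1 := mul_mem_V x y z b 0 1 ih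
    have h2 : (a ^ v * b ^ w) • (x ^ (u + v + w) * y ^ 0 * z ^ 1) ∈ V x y z (u + v + (w + 1)) :=
      Submodule.smul_mem _ _ (mem_V x y z (by omega) _ _)
    rw [show u + v + (w + 1) = u + v + w + 1 by omega] at h2 ⊢
    convert add_mem h1 h2 using 1
    simp only [MvPolynomial.smul_eq_C_mul, map_mul, map_pow, map_one, map_zero]
    ring


open W4c1hilbpn in
/-- Let k be an infinite field, S = k[x,y,z] with irrelevant ideal m, and d, r natural numbers with d ≤
C(r+2, 3). For every ideal I of S of colength d, three times the dimension of Hom_S(I, S/I) is at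
most four times the dimension of Hom_S(m^r, S/m^r). -/
theorem result (k : Type u) [Field k] [Infinite k] (d r : ℕ)
    (hdr : d ≤ Nat.choose (r + 2) 3) (I : Ideal (MvPolynomial (Fin 3) k)) [Module.Finite k (MvPolynomial (Fin 3) k ⧸ I)]
    (hd : Module.finrank k (MvPolynomial (Fin 3) k ⧸ I) = d) :
    3 * Module.finrank k (Tgt I) ≤ 4 * Module.finrank k (Tgt ((Ideal.span (Set.range (MvPolynomial.X : Fin 3 → MvPolynomial (Fin 3) k))) ^ r)) := by
  classical
  rw [Groth.Agent.CohDer1.Hilb.MPow.finrank_tgt_eq (r := r)]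
  by_cases hd0 : d = 0
  · subst hd0
    have : Subsingleton (MvPolynomial (Fin 3) k ⧸ I) := Module.finrank_zero_iff.1 hd
    have : Subsingleton (Tgt I) := ⟨fun φ ψ => LinearMap.ext fun _ => Subsingleton.elim _ _⟩
    rw [Module.finrank_zero_of_subsingleton]
    simp
  -- a form of degree at most `r` in the ideal
  let φ : Sym (Fin 4) r → (Fin 3 →₀ ℕ) := fun s =>
    Finsupp.equivFunOnFinite.symm fun i => Multiset.count i.castSucc (s : Multiset (Fin 4))
  have hsum : ∀ s : Sym (Fin 4) r, φ s 0 + φ s 1 + φ s 2 + Multiset.count 3 (s : Multiset (Fin 4)) = r := fun s => by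
    have h := Multiset.sum_count_eq_card (s := Finset.univ) (m := (s : Multiset (Fin 4))) (fun a _ => Finset.mem_univ a)
    rw [Fin.sum_univ_four, Sym.card_coe] at h
    exact h
  have hφ : Function.Injective φ := fun s s' h => by
    have h0 := DFunLike.congr_fun h 0
    have h1 := DFunLike.congr_fun h 1
    have h2 := DFunLike.congr_fun h 2
    have h3 : Multiset.count 3 (s : Multiset (Fin 4)) = Multiset.count 3 (s' : Multiset (Fin 4)) := by
      have := hsum s; have := hsum s'; omega
    refine Sym.coe_injective (Multiset.ext.2 fun a => ?_)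
    fin_cases a
    · exact h0
    · exact h1
    · exact h2
    · exact h3
  have hchoose : d < Nat.choose (r + 3) 3 := by
    rw [Nat.choose_succ_succ']
    rw [show (2 : ℕ) + 1 = 3 from rfl]
    have := Nat.choose_pos (show 2 ≤ r + 2 by omega)
    omega
  have hcard : d < Fintype.card (Sym (Fin 4) r) := by
    rw [Sym.card_sym_eq_choose, Fintype.card_fin, show 4 + r - 1 = r + 3 by omega]
    rwa [← Nat.choose_symm (show 3 ≤ r + 3 by omega), Nat.add_sub_cancel] at hchoose
  obtain ⟨γ, hγ, s₀, hs₀⟩ := Fintype.not_linearIndependent_iff.1 fun hli :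
      LinearIndependent k (fun s => Ideal.Quotient.mk I (monomial (φ s) (1 : k))) => by
    have := hli.fintype_card_le_finrank
    omega
  let f : MvPolynomial (Fin 3) k := ∑ s, γ s • monomial (φ s) (1 : k)
  have hfI : f ∈ I := by
    refine Ideal.Quotient.eq_zero_iff_mem.1 ?_
    rw [map_sum]
    exact hγ
  have hf0 : f ≠ 0 := fun h => hs₀ <| by
    have := congrArg (coeff (φ s₀)) h
    simpa [f, coeff_sum, coeff_monomial, hφ.eq_iff] using this
  have hdeg : f.totalDegree ≤ r := by
    refine (totalDegree_finset_sum _ _).trans (Finset.sup_le fun s _ => ?_)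
    refine (totalDegree_smul_le _ _).trans ?_
    rw [totalDegree_monomial _ one_ne_zero, Finsupp.sum_fintype _ _ (fun _ => rfl), Fin.sum_univ_three]
    have := hsum s; omega
  set p := f.totalDegree with hp
  have hp0 : 0 < p := by
    by_contra h
    obtain hfC := totalDegree_eq_zero_iff_eq_C.1 (show f.totalDegree = 0 by omega)
    have hc : coeff 0 f ≠ 0 := fun hc => hf0 (by rw [hfC, hc, map_zero])
    have hI : I = ⊤ := Ideal.eq_top_of_isUnit_mem _ hfI (by rw [hfC]; exact (IsUnit.mk0 _ hc).map C)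
    subst hI
    exact hd0 (hd ▸ Module.finrank_zero_of_subsingleton)
  -- a general direction
  let deg : (Fin 3 →₀ ℕ) → ℕ := fun β => β 0 + β 1 + β 2
  have hdegle : ∀ β ∈ f.support, deg β ≤ p := fun β hβ => by
    have := le_totalDegree hβ
    rwa [Finsupp.sum_fintype _ _ (fun _ => rfl), Fin.sum_univ_three] at this
  obtain ⟨β₀, hβ₀, hβ₀'⟩ : ∃ β ∈ f.support, deg β = p := by
    obtain ⟨β, hβ, h⟩ := Finset.exists_mem_eq_sup f.support (support_nonempty.2 hf0) fun s => s.sum fun _ e => e
    refine ⟨β, hβ, ?_⟩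
    rw [hp, totalDegree, h, Finsupp.sum_fintype _ _ (fun _ => rfl), Fin.sum_univ_three]
  let top : MvPolynomial (Fin 3) k := ∑ β ∈ f.support.filter (fun β => deg β = p), monomial (β.erase 0) (coeff β f)
  have htop : top ≠ 0 := fun h => by
    have h5 := congrArg (coeff (β₀.erase 0)) h
    simp only [top, coeff_sum, coeff_monomial, coeff_zero] at h5
    rw [Finset.sum_eq_single β₀] at h5
    · rw [if_pos rfl] at h5; exact mem_support_iff.1 hβ₀ h5
    · intro β hβ hne
      refine if_neg fun he => hne ?_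
      have e1 := DFunLike.congr_fun he 1
      have e2 := DFunLike.congr_fun he 2
      simp only [Finsupp.erase_ne (show (1 : Fin 3) ≠ 0 by decide)] at e1
      simp only [Finsupp.erase_ne (show (2 : Fin 3) ≠ 0 by decide)] at e2
      have h6 := (Finset.mem_filter.1 hβ).2
      ext i; fin_cases i
      · show β 0 = β₀ 0
        simp only [deg] at h6 hβ₀'; omega
      · exact e1
      · exact e2
    · exact fun h' => absurd (Finset.mem_filter.2 ⟨hβ₀, hβ₀'⟩) h'
  obtain ⟨pt, hpt⟩ : ∃ pt : Fin 3 → k, eval pt top ≠ 0 := by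
    by_contra h
    push Not at h
    exact htop (MvPolynomial.funext fun x => by rw [h, map_zero])
  set a := pt 1
  set b := pt 2
  set c := eval pt top with hc
  let x : MvPolynomial (Fin 3) k := X 0
  let y : MvPolynomial (Fin 3) k := X 1 - a • X 0
  let z : MvPolynomial (Fin 3) k := X 2 - b • X 0
  have hcval : c = ∑ β ∈ f.support.filter (fun β => deg β = p), coeff β f * (a ^ β 1 * b ^ β 2) := by
    rw [hc, map_sum]
    refine Finset.sum_congr rfl fun β _ => ?_
    rw [eval_monomial, Finsupp.prod_fintype _ _ (fun _ => pow_zero _), Fin.prod_univ_three]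
    simp [a, b]
  have hmon : ∀ β : Fin 3 →₀ ℕ, monomial β (1 : k) = x ^ β 0 * (y + a • x) ^ β 1 * (z + b • x) ^ β 2 := fun β => by
    rw [monomial_eq, map_one, _root_.one_mul, Finsupp.prod_fintype _ _ (fun _ => pow_zero _), Fin.prod_univ_three]
    simp [x, y, z]
  let t₀ : MvPolynomial (Fin 3) k := c⁻¹ • (f - c • x ^ p)
  have ht₀ : t₀ ∈ V x y z p := by
    refine Submodule.smul_mem _ _ ?_
    have e : f - c • x ^ p = ∑ β ∈ f.support, coeff β f • (monomial β (1 : k) -
        (if deg β = p then (a ^ β 1 * b ^ β 2) • x ^ p else 0)) := by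
      simp only [smul_sub, smul_ite, smul_zero, Finset.sum_sub_distrib, smul_smul]
      rw [← Finset.sum_filter, ← Finset.sum_smul, ← hcval]
      congr 1
      conv_lhs => rw [f.as_sum]
      exact Finset.sum_congr rfl fun β _ => by rw [smul_monomial, smul_eq_mul, mul_one]
    rw [e]
    refine Submodule.sum_mem _ fun β hβ => Submodule.smul_mem _ _ ?_
    have h5 := lead_mem x y z a b (β 0) (β 1) (β 2)
    rw [← hmon] at h5
    split
    · next h => simp only [deg] at h; rw [h] at h5; exact h5
    · next h =>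
      have h6 := hdegle β hβ
      simp only [deg] at h h6
      rw [sub_zero]
      have h7 := add_mem (V_mono x y z (show β 0 + β 1 + β 2 ≤ p by omega) h5)
        (Submodule.smul_mem (V x y z p) (a ^ β 1 * b ^ β 2) (show x ^ (β 0 + β 1 + β 2) ∈ V x y z p by
          simpa using mem_V x y z (show β 0 + β 1 + β 2 < p by omega) 0 0))
      rwa [sub_add_cancel] at h7
  have hf₀ : x ^ p + t₀ ∈ I := by
    have h5 : x ^ p + t₀ = c⁻¹ • f := by
      simp only [t₀, smul_sub, smul_smul, inv_mul_cancel₀ hpt, one_smul]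
      abel
    rw [h5]
    exact Submodule.smul_of_tower_mem I _ hfI
  have hgen : Submodule.span k (Set.range fun t : ℕ × ℕ × ℕ => x ^ t.1 * y ^ t.2.1 * z ^ t.2.2) = ⊤ := by
    refine eq_top_iff.2 fun g _ => ?_
    rw [g.as_sum]
    refine Submodule.sum_mem _ fun β _ => ?_
    rw [show monomial β (coeff β g) = coeff β g • monomial β (1 : k) by rw [smul_monomial, smul_eq_mul, mul_one], hmon]
    refine Submodule.smul_mem _ _ ?_
    have hVle : ∀ n, V x y z n ≤ Submodule.span k (Set.range fun t : ℕ × ℕ × ℕ => x ^ t.1 * y ^ t.2.1 * z ^ t.2.2) :=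
      fun n => Submodule.span_le.2 (by rintro _ ⟨⟨⟨u, _⟩, v, w⟩, rfl⟩; exact Submodule.subset_span ⟨(u, v, w), rfl⟩)
    have h4 : x ^ (β 0 + β 1 + β 2) * y ^ 0 * z ^ 0 ∈
        Submodule.span k (Set.range fun t : ℕ × ℕ × ℕ => x ^ t.1 * y ^ t.2.1 * z ^ t.2.2) :=
      Submodule.subset_span ⟨(β 0 + β 1 + β 2, 0, 0), rfl⟩
    have h5 := add_mem (hVle _ (lead_mem x y z a b (β 0) (β 1) (β 2))) (Submodule.smul_mem _ (a ^ β 1 * b ^ β 2) h4)
    simpa using h5
  have key := HilbP8.finrank_hom_le x y z hgen p hp0 I t₀ ht₀ hf₀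
  rw [hd] at key
  have e1 := Nat.descFactorial_eq_factorial_mul_choose (r + 2) 3
  have e2 := Nat.descFactorial_eq_factorial_mul_choose (r + 2) 2
  have e3' := Nat.descFactorial_eq_factorial_mul_choose (r + 1) 2
  simp only [Nat.descFactorial_succ, Nat.descFactorial_zero, Nat.factorial, Nat.succ_eq_add_one] at e1 e2 e3'
  simp at e1 e2 e3'
  have h2 : (2 * p + 1) * d ≤ (2 * r + 2) * Nat.choose (r + 2) 3 := Nat.mul_le_mul (by omega) hdr
  nlinarith

end Groth.Agent.S13445
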