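import Groth.Statements.S13446
import Groth.Agent.CommAlg4.HilbPiece
import Groth.Agent.CohDer1.Hilb.MPowSig
import Groth.Agent.HilbP8.Coker

set_option autoImplicit false
universe u
open W4c1hilbpn

namespace Groth.Agent.S13446

open MvPolynomial Groth.Agent.CommAlg4

variable {k : Type u} [Field k]

theorem e3_le {a b c a' b' c' : ℕ} (ha : a ≤ a') (hb : b ≤ b') (hc : c ≤ c') :
    W4c1hilbpn.e3 a b c ≤ W4c1hilbpn.e3 a' b' c' := by
  intro i; fin_cases i <;> simpa [W4c1hilbpn.e3]

theorem e3_inj {a b c a' b' c' : ℕ} (h : W4c1hilbpn.e3 a b c = W4c1hilbpn.e3 a' b' c') :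
    a = a' ∧ b = b' ∧ c = c' :=
  ⟨by simpa [W4c1hilbpn.e3] using DFunLike.congr_fun h 0, by simpa [W4c1hilbpn.e3] using DFunLike.congr_fun h 1,
    by simpa [W4c1hilbpn.e3] using DFunLike.congr_fun h 2⟩

theorem e3_add (a b c a' b' c' : ℕ) :
    W4c1hilbpn.e3 a b c + W4c1hilbpn.e3 a' b' c' = W4c1hilbpn.e3 (a + a') (b + b') (c + c') := by
  ext i; fin_cases i <;> simp [W4c1hilbpn.e3]

theorem eq_e3 (β : Fin 3 →₀ ℕ) : β = W4c1hilbpn.e3 (β 0) (β 1) (β 2) := by
  ext i; fin_cases i <;> simp [W4c1hilbpn.e3]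

theorem X_pow_eq (a b c : ℕ) :
    (X 0 : MvPolynomial (Fin 3) k) ^ a * X 1 ^ b * X 2 ^ c = monomial (W4c1hilbpn.e3 a b c) 1 := by
  rw [X_pow_eq_monomial, X_pow_eq_monomial, X_pow_eq_monomial, monomial_mul, monomial_mul, _root_.one_mul,
    _root_.one_mul]
  congr 2
  ext i; fin_cases i <;> simp [W4c1hilbpn.e3]

/-- evaluation of a tangent vector -/
noncomputable def evalT {I : Ideal (MvPolynomial (Fin 3) k)} (x : ↥I) : Tgt I →ₗ[k] (MvPolynomial (Fin 3) k ⧸ I) where
  toFun φ := φ x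
  map_add' _ _ := rfl
  map_smul' _ _ := rfl

set_option maxHeartbeats 800000 in
/-- the tangent space of a monomial ideal containing `x^p` has dimension at most `(2p+1)` times the colength -/
theorem finrank_tgt_le_mul (p : ℕ) (I : Ideal (MvPolynomial (Fin 3) k)) (hI : IsMonomial I)
    [Module.Finite k (MvPolynomial (Fin 3) k ⧸ I)] (hx : (X 0 : MvPolynomial (Fin 3) k) ^ p ∈ I) :
    Module.finrank k (Tgt I) ≤ (2 * p + 1) * Module.finrank k (MvPolynomial (Fin 3) k ⧸ I) := by
  classical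
  set N := MvPolynomial (Fin 3) k ⧸ I
  have hp0 : e3 p 0 0 ∈ exps I := by
    show monomial (e3 p 0 0) (1 : k) ∈ I
    rw [← X_pow_eq]; simpa using hx
  have hfin := HilbPiece.finite_compl (I := I) hI
  have hv : ∀ i l, ∃ c, e3 i l c ∈ exps I := fun i l => by
    by_contra h
    push Not at h
    have hsub : (fun c => e3 i l c) '' Set.univ ⊆ {δ : Fin 3 →₀ ℕ | δ ∉ exps I} := by
      rintro _ ⟨c, -, rfl⟩; exact h c
    exact Set.infinite_univ (α := ℕ) ((hfin.subset hsub).of_finite_image fun a _ b _ hab => (e3_inj hab).2.2)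
  have hq : ∀ i, ∃ l, e3 i l 0 ∈ exps I := fun i => by
    by_contra h
    push Not at h
    have hsub : (fun c => e3 i c 0) '' Set.univ ⊆ {δ : Fin 3 →₀ ℕ | δ ∉ exps I} := by
      rintro _ ⟨c, -, rfl⟩; exact h c
    exact Set.infinite_univ (α := ℕ) ((hfin.subset hsub).of_finite_image fun a _ b _ hab => (e3_inj hab).2.1)
  let v : ℕ → ℕ → ℕ := fun i l => Nat.find (hv i l)
  let q : ℕ → ℕ := fun i => Nat.find (hq i)
  have hvs : ∀ i l, e3 i l (v i l) ∈ exps I := fun i l => Nat.find_spec (hv i l)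
  have hvm : ∀ i l, v i (l + 1) ≤ v i l := fun i l =>
    Nat.find_min' _ (HilbPiece.exps_mono (hvs i l) (e3_le le_rfl (Nat.le_succ l) le_rfl))
  have hvq : ∀ i, v i (q i) = 0 := fun i => (Nat.find_eq_zero _).2 (Nat.find_spec (hq i))
  let gen : ℕ → ℕ → ↥I := fun i l => ⟨monomial (e3 i l (v i l)) 1, hvs i l⟩
  let genp : ↥I := ⟨monomial (e3 p 0 0) 1, hp0⟩
  -- generators of the quotient
  let G : Fin p → N := fun a => Ideal.Quotient.mk I ((X 0 : MvPolynomial (Fin 3) k) ^ (a : ℕ))
  have hG : Submodule.span k (Set.range fun t : Fin p × ℕ × ℕ =>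
      (X 1 : MvPolynomial (Fin 3) k) ^ t.2.1 • (X 2 : MvPolynomial (Fin 3) k) ^ t.2.2 • G t.1) = ⊤ := by
    refine eq_top_iff.2 fun w _ => ?_
    obtain ⟨f, rfl⟩ := Ideal.Quotient.mk_surjective w
    rw [f.as_sum, map_sum]
    refine Submodule.sum_mem _ fun β _ => ?_
    have h1 : monomial β (coeff β f) = coeff β f • monomial β (1 : k) := by rw [smul_monomial, smul_eq_mul, mul_one]
    rw [h1, show Ideal.Quotient.mk I (coeff β f • monomial β (1 : k)) =
      coeff β f • Ideal.Quotient.mk I (monomial β (1 : k)) from rfl]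
    refine Submodule.smul_mem _ _ ?_
    by_cases h : β 0 < p
    · refine Submodule.subset_span ⟨(⟨β 0, h⟩, β 1, β 2), ?_⟩
      show Ideal.Quotient.mk I ((X 1 : MvPolynomial (Fin 3) k) ^ β 1 * ((X 2 : MvPolynomial (Fin 3) k) ^ β 2 * X 0 ^ β 0)) = _
      congr 1
      calc (X 1 : MvPolynomial (Fin 3) k) ^ β 1 * (X 2 ^ β 2 * X 0 ^ β 0) = X 0 ^ β 0 * X 1 ^ β 1 * X 2 ^ β 2 := by ring
        _ = monomial β 1 := by rw [X_pow_eq, ← eq_e3]
    · rw [Ideal.Quotient.eq_zero_iff_mem.2]
      · exact Submodule.zero_mem _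
      · exact HilbPiece.exps_mono hp0 (by
          intro j; fin_cases j <;> simp [e3]; omega)
  -- the restriction map
  let Φ : ∀ i : Fin p, (Fin (q i + 1) → N) →ₗ[k] (Fin (q i) → N) := fun i =>
    (HilbP8.stairMap (N := N) (X 1 : MvPolynomial (Fin 3) k) (X 2) (q i) (v i)).restrictScalars k
  let L : Tgt I →ₗ[k] N × (∀ i : Fin p, LinearMap.ker (Φ i)) :=
    (evalT genp).prod (LinearMap.pi fun i => LinearMap.codRestrict _
      (LinearMap.pi fun l : Fin (q i + 1) => evalT (gen i l)) fun φ => by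
      refine funext fun l => ?_
      show (X 1 : MvPolynomial (Fin 3) k) • φ (gen i l) -
        (X 2 : MvPolynomial (Fin 3) k) ^ (v i l - v i (l + 1)) • φ (gen i (l + 1)) = 0
      rw [← map_smul, ← map_smul, ← map_sub]
      refine (congrArg φ (Subtype.ext ?_)).trans (map_zero φ)
      show (X 1 : MvPolynomial (Fin 3) k) * monomial (e3 i l (v i l)) 1 -
        X 2 ^ (v i l - v i (l + 1)) * monomial (e3 i (l + 1) (v i (l + 1))) 1 = 0
      rw [← X_pow_eq, ← X_pow_eq]
      obtain ⟨s, hs⟩ := Nat.exists_eq_add_of_le (hvm i l)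
      rw [hs, Nat.add_sub_cancel_left, pow_succ, pow_add]
      ring)
  have hL : Function.Injective L := by
    refine (injective_iff_map_eq_zero L).2 fun φ hφ => ?_
    have hgp : φ genp = 0 := congrArg Prod.fst hφ
    have hg : ∀ i : Fin p, ∀ l, l ≤ q i → φ (gen i l) = 0 := fun i l hl =>
      congrFun (congrArg Subtype.val (congrFun (congrArg Prod.snd hφ) i)) ⟨l, Nat.lt_succ_of_le hl⟩
    have hmon : ∀ β (hβ : monomial β (1 : k) ∈ I), φ ⟨monomial β 1, hβ⟩ = 0 := by
      intro β hβ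
      obtain ⟨g, hgI, hg0, hle⟩ : ∃ (g : Fin 3 →₀ ℕ) (h : monomial g (1 : k) ∈ I), φ ⟨monomial g 1, h⟩ = 0 ∧ g ≤ β := by
        have hb := eq_e3 β
        rcases le_or_gt p (β 0) with h | h
        · exact ⟨e3 p 0 0, hp0, hgp, hb ▸ e3_le h (Nat.zero_le _) (Nat.zero_le _)⟩
        · rcases le_or_gt (q (β 0)) (β 1) with h' | h'
          · refine ⟨e3 (β 0) (q (β 0)) (v (β 0) (q (β 0))), hvs _ _, hg ⟨β 0, h⟩ _ le_rfl, ?_⟩
            rw [hvq]
            exact hb ▸ e3_le le_rfl h' (Nat.zero_le _)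
          · refine ⟨e3 (β 0) (β 1) (v (β 0) (β 1)), hvs _ _, hg ⟨β 0, h⟩ _ h'.le, ?_⟩
            have h5 : v (β 0) (β 1) ≤ β 2 := Nat.find_min' _ (by rw [← hb]; exact hβ)
            conv_rhs => rw [hb]
            exact e3_le le_rfl le_rfl h5
      have he : (⟨monomial β 1, hβ⟩ : ↥I) = monomial (β - g) (1 : k) • (⟨monomial g 1, hgI⟩ : ↥I) := by
        refine Subtype.ext ?_
        show monomial β (1 : k) = monomial (β - g) (1 : k) * monomial g 1
        rw [monomial_mul, _root_.one_mul, tsub_add_cancel_of_le hle]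
      rw [he, map_smul, hg0, smul_zero]
    refine LinearMap.ext fun f => ?_
    have hf : f = ∑ β ∈ (f : MvPolynomial (Fin 3) k).support.attach,
        (C (coeff β.1 (f : MvPolynomial (Fin 3) k)) : MvPolynomial (Fin 3) k) • (⟨monomial β.1 1, hI f f.2 β.1 β.2⟩ : ↥I) := by
      refine Subtype.ext ?_
      rw [Submodule.coe_sum]
      conv_lhs => rw [(f : MvPolynomial (Fin 3) k).as_sum, ← Finset.sum_attach]
      refine Finset.sum_congr rfl fun β _ => ?_
      show _ = C (coeff β.1 (f : MvPolynomial (Fin 3) k)) * monomial β.1 1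
      rw [C_mul_monomial, mul_one]
    rw [hf, map_sum, LinearMap.zero_apply]
    exact Finset.sum_eq_zero fun β _ => by rw [map_smul, hmon, smul_zero]
  -- the staircases are outside the ideal
  have hcount : ∑ i : Fin p, ∑ l ∈ Finset.range (q i), v i l ≤ Module.finrank k N := by
    let T := Σ i : Fin p, Σ l : Fin (q i), Fin (v i l)
    have hout : ∀ t : T, e3 t.1 t.2.1 t.2.2 ∉ exps I := fun t => Nat.find_min (hv t.1 t.2.1) t.2.2.2
    have hli : LinearIndependent k fun t : T => Ideal.Quotient.mk I (monomial (e3 t.1 t.2.1 t.2.2) (1 : k)) := by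
      rw [linearIndependent_iff']
      intro s c hs t ht
      have := congrArg (HilbPiece.π hI (hout t)) hs
      rw [map_sum, map_zero, Finset.sum_eq_single t] at this
      · rw [map_smul, HilbPiece.π_mk, coeff_monomial, if_pos rfl, smul_eq_mul, mul_one] at this; exact this
      · intro x _ hxt
        rw [map_smul, HilbPiece.π_mk, coeff_monomial, if_neg, smul_zero]
        intro h
        obtain ⟨h1, h2, h3⟩ := e3_inj h
        obtain ⟨i, l, c'⟩ := x
        obtain ⟨i', l', c''⟩ := t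
        obtain rfl : i = i' := Fin.ext h1
        obtain rfl : l = l' := Fin.ext h2
        obtain rfl : c' = c'' := Fin.ext h3
        exact hxt rfl
      · exact fun h => absurd ht h
    refine le_trans (le_of_eq ?_) hli.fintype_card_le_finrank
    simp only [T, Fintype.card_sigma, Fintype.card_fin]
    exact Finset.sum_congr rfl fun i _ => (Fin.sum_univ_eq_sum_range (fun l => v i l) (q i)).symm
  refine (LinearMap.finrank_le_finrank_of_injective hL).trans ?_
  rw [Module.finrank_prod, Module.finrank_pi_fintype]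
  have hker : ∀ i : Fin p, Module.finrank k (LinearMap.ker (Φ i)) ≤
      Module.finrank k N + p * ∑ l ∈ Finset.range (q i), v i l := fun i => by
    have := HilbP8.finrank_ker_stairMap_le (k := k) (X 1 : MvPolynomial (Fin 3) k) (X 2) G hG (q i) (v i) (hvm i) (hvq i)
    rwa [Fintype.card_fin] at this
  refine (Nat.add_le_add_left (Finset.sum_le_sum fun i _ => hker i) _).trans ?_
  rw [Finset.sum_add_distrib, Finset.sum_const, Finset.card_univ, Fintype.card_fin, smul_eq_mul, ← Finset.mul_sum]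
  nlinarith [Nat.mul_le_mul_left p hcount]


open W4c1hilbpn in
/-- Let k be an infinite field, S = k[x,y,z] with irrelevant ideal m, and d, r, p natural numbers with d
≤ C(r+2, 3) and 4p ≤ 3r + 1. For every monomial ideal I of S of colength d containing x^p, the
dimension of Hom_S(I, S/I) is at most that of Hom_S(m^r, S/m^r). -/
theorem result (k : Type u) [Field k] [Infinite k] (d r p : ℕ)
    (hdr : d ≤ Nat.choose (r + 2) 3) (hp : 4 * p ≤ 3 * r + 1) (I : Ideal (MvPolynomial (Fin 3) k)) (hI : IsMonomial I)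
    [Module.Finite k (MvPolynomial (Fin 3) k ⧸ I)] (hd : Module.finrank k (MvPolynomial (Fin 3) k ⧸ I) = d)
    (hx : (MvPolynomial.X 0 : MvPolynomial (Fin 3) k) ^ p ∈ I) :
    Module.finrank k (Tgt I) ≤ Module.finrank k (Tgt ((Ideal.span (Set.range (MvPolynomial.X : Fin 3 → MvPolynomial (Fin 3) k))) ^ r)) := by
  rw [Groth.Agent.CohDer1.Hilb.MPow.finrank_tgt_eq (r := r)]
  refine (finrank_tgt_le_mul p I hI hx).trans ?_
  rw [hd]
  have e1 := Nat.descFactorial_eq_factorial_mul_choose (r + 2) 3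
  have e2 := Nat.descFactorial_eq_factorial_mul_choose (r + 2) 2
  have e3' := Nat.descFactorial_eq_factorial_mul_choose (r + 1) 2
  simp only [Nat.descFactorial_succ, Nat.descFactorial_zero, Nat.factorial, Nat.succ_eq_add_one] at e1 e2 e3'
  simp at e1 e2 e3'
  have h2 : 2 * (2 * p + 1) * d ≤ 3 * (r + 1) * Nat.choose (r + 2) 3 :=
    Nat.mul_le_mul (by omega) hdr
  nlinarith

end Groth.Agent.S13446
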