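import Groth.Statements.S13453

set_option autoImplicit false
universe u
open W4c1hilbpn

namespace Groth.Agent.S13453

open W4c1hilbpn in
/-- Let k be an infinite field, S = k[x,y,z] with variables ordered x > y > z, and I a strongly stable
ideal of finite colength; write I_i for the ideal of polynomials f in k[y,z] with x^i f in I (so I
is the direct sum of the x^i I_i). Then each I_i is a strongly stable ideal of k[y,z] (with y > z)
and the ideal quotient (I_i : y) is contained in I_{i+1}. -/
theorem result (k : Type u) [Field k] [Infinite k]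
    (I : Ideal (MvPolynomial (Fin 3) k)) (hI : IsStronglyStable I) [Module.Finite k (MvPolynomial (Fin 3) k ⧸ I)] (i : ℕ) :
    IsStronglyStable (sliceX I i) ∧
      (sliceX I i).colon {(MvPolynomial.X 0 : MvPolynomial (Fin 2) k)} ≤ sliceX I (i + 1) := by
  classical
  have hmon : ∀ {f : MvPolynomial (Fin 2) k} {a : ℕ}, f ∈ sliceX I a → ∀ β ∈ f.support,
      Finsupp.single 0 a + Finsupp.mapDomain Fin.succ β ∈ exps I := by
    intro f a hf β hβ
    have hm : MvPolynomial.rename Fin.succ f * MvPolynomial.X 0 ^ a ∈ I := by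
      have := Submodule.mem_colon_singleton.1 (Ideal.mem_comap.1 hf)
      exact this
    refine hI.1 _ hm _ (MvPolynomial.mem_support_iff.2 ?_)
    rw [MvPolynomial.X_pow_eq_monomial, add_comm, MvPolynomial.coeff_mul_monomial, mul_one,
      MvPolynomial.coeff_rename_mapDomain _ (Fin.succ_injective 2)]
    exact MvPolynomial.mem_support_iff.1 hβ
  have hback : ∀ {β : Fin 2 →₀ ℕ} {a : ℕ}, Finsupp.single 0 a + Finsupp.mapDomain Fin.succ β ∈ exps I →
      MvPolynomial.monomial β (1 : k) ∈ sliceX I a := by
    intro β a h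
    refine Ideal.mem_comap.2 (Submodule.mem_colon_singleton.2 ?_)
    show MvPolynomial.rename Fin.succ (MvPolynomial.monomial β (1 : k)) * MvPolynomial.X 0 ^ a ∈ I
    rw [MvPolynomial.rename_monomial, MvPolynomial.X_pow_eq_monomial, MvPolynomial.monomial_mul, one_mul, add_comm (Finsupp.mapDomain Fin.succ β)]
    exact h
  have val : ∀ (β : Fin 2 →₀ ℕ) (a : ℕ), (Finsupp.single 0 a + Finsupp.mapDomain Fin.succ β : Fin 3 →₀ ℕ) 0 = a ∧
      ∀ l, (Finsupp.single 0 a + Finsupp.mapDomain Fin.succ β : Fin 3 →₀ ℕ) (Fin.succ l) = β l := by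
    intro β a
    refine ⟨?_, fun l => ?_⟩
    · rw [Finsupp.add_apply, Finsupp.single_eq_same, Finsupp.mapDomain_notin_range, add_zero]
      rintro ⟨l, hl⟩
      exact Fin.succ_ne_zero l hl
    · rw [Finsupp.add_apply, Finsupp.mapDomain_apply (Fin.succ_injective 2),
        Finsupp.single_eq_of_ne (Fin.succ_ne_zero l), zero_add]
  refine ⟨⟨fun f hf β hβ => hback (hmon hf β hβ), fun β hβ p q hpq hq => ?_⟩, fun f hf => ?_⟩
  · have h0 : Finsupp.single 0 i + Finsupp.mapDomain Fin.succ β ∈ exps I :=
      hmon hβ β (by rw [MvPolynomial.support_monomial, if_neg one_ne_zero]; exact Finset.mem_singleton_self β)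
    refine hback ?_
    have := hI.2 _ h0 p.succ q.succ (Fin.succ_lt_succ_iff.2 hpq) (by rw [(val β i).2]; exact hq)
    convert this using 1
    ext l
    refine Fin.cases ?_ (fun l => ?_) l
    · rw [(val _ i).1, Finsupp.add_apply, Finsupp.tsub_apply, (val β i).1]
      simp [Fin.succ_ne_zero, (Fin.succ_ne_zero _).symm, Finsupp.single_apply]
    · rw [(val _ i).2, Finsupp.add_apply, Finsupp.add_apply, Finsupp.tsub_apply, Finsupp.tsub_apply, (val β i).2]
      simp [Finsupp.single_apply]
  · rw [f.as_sum]
    refine Submodule.sum_mem _ fun β hβ => ?_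
    rw [show MvPolynomial.monomial β (f.coeff β) = MvPolynomial.C (f.coeff β) * MvPolynomial.monomial β 1 by
      rw [MvPolynomial.C_mul_monomial, mul_one]]
    refine Ideal.mul_mem_left _ _ (hback ?_)
    have hf' : f * MvPolynomial.X 0 ∈ sliceX I i := Submodule.mem_colon_singleton.1 hf
    have h0 := hmon hf' (β + Finsupp.single 0 1) (by
      rw [MvPolynomial.mem_support_iff, MvPolynomial.X, MvPolynomial.coeff_mul_monomial, mul_one]
      exact MvPolynomial.mem_support_iff.1 hβ)
    have := hI.2 _ h0 0 (Fin.succ 0) (Fin.succ_pos 0) (by rw [(val _ i).2]; simp)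
    convert this using 1
    ext l
    refine Fin.cases ?_ (fun l => ?_) l
    · rw [(val β (i + 1)).1, Finsupp.add_apply, Finsupp.tsub_apply, (val _ i).1]
      simp [(Fin.succ_ne_zero _).symm, Fin.succ_ne_zero, Finsupp.single_apply]
    · rw [(val β (i + 1)).2, Finsupp.add_apply, Finsupp.tsub_apply, (val _ i).2]
      simp [Finsupp.single_apply, (Fin.succ_ne_zero _).symm, Fin.succ_ne_zero]
      fin_cases l <;> simp

end Groth.Agent.S13453
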