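import Groth.Statements.S13455
import Mathlib
import Groth.Prelude

set_option linter.all false

set_option autoImplicit false
universe u
open W4c1hilbpn

open IsLocalRing TensorProduct

namespace Groth.Agent.S13455

/-- Let k be an algebraically closed field of characteristic different from 2, k0 ≥ 1 and n ≥ 2k0 - 1
natural numbers, S = k[x_0, ..., x_n], and e1 ≤ e2 ≤ k0 - 1. The ideal generated by all products x_p
x_q with e1 ≤ p, q ≤ e2 together with the products x_p x_{n-k0+1+q} for e1 ≤ p < q ≤ e2 is the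
intersection, over j from e1 to e2, of the ideals generated by the variables x_i with e1 ≤ i ≤ e2
and i ≠ j, the square x_j^2, and the variables x_{n-k0+1+q} for j < q ≤ e2 (a primary decomposition
of this monomial ideal). -/
theorem result (k : Type u) [Field k] [IsAlgClosed k] (hchar : ringChar k ≠ 2)
    (n k0 e1 e2 : ℕ) (hk : 1 ≤ k0) (hn : 2 * k0 ≤ n + 1) (he : e1 ≤ e2) (he2 : e2 + 1 ≤ k0) :
    Ideal.span ({f : MvPolynomial (Fin (n + 1)) k | ∃ p q : Fin (n + 1), e1 ≤ p.val ∧ p.val ≤ e2 ∧ e1 ≤ q.val ∧ q.val ≤ e2 ∧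
        f = MvPolynomial.X p * MvPolynomial.X q} ∪
      {f : MvPolynomial (Fin (n + 1)) k | ∃ p q m : Fin (n + 1), e1 ≤ p.val ∧ p.val < q.val ∧ q.val ≤ e2 ∧
        m.val + k0 = n + 1 + q.val ∧ f = MvPolynomial.X p * MvPolynomial.X m}) =
    ⨅ j : Fin (n + 1), ⨅ (_ : e1 ≤ j.val ∧ j.val ≤ e2),
      Ideal.span ({f : MvPolynomial (Fin (n + 1)) k | ∃ i : Fin (n + 1), e1 ≤ i.val ∧ i.val ≤ e2 ∧ i ≠ j ∧ f = MvPolynomial.X i} ∪
        {MvPolynomial.X j ^ 2} ∪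
        {f : MvPolynomial (Fin (n + 1)) k | ∃ q m : Fin (n + 1), j.val < q.val ∧ q.val ≤ e2 ∧ m.val + k0 = n + 1 + q.val ∧
          f = MvPolynomial.X m}) := by
  classical
  let σ := Fin (n + 1)
  let s1 : σ → (σ →₀ ℕ) := fun i => Finsupp.single i 1
  let T0 : Set (σ →₀ ℕ) := {e | ∃ p q : σ, e1 ≤ p.val ∧ p.val ≤ e2 ∧ e1 ≤ q.val ∧ q.val ≤ e2 ∧ e = s1 p + s1 q} ∪
    {e | ∃ p q m : σ, e1 ≤ p.val ∧ p.val < q.val ∧ q.val ≤ e2 ∧ m.val + k0 = n + 1 + q.val ∧ e = s1 p + s1 m}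
  let T : σ → Set (σ →₀ ℕ) := fun j => {e | ∃ i : σ, e1 ≤ i.val ∧ i.val ≤ e2 ∧ i ≠ j ∧ e = s1 i} ∪ {Finsupp.single j 2} ∪
    {e | ∃ q m : σ, j.val < q.val ∧ q.val ≤ e2 ∧ m.val + k0 = n + 1 + q.val ∧ e = s1 m}
  have hXX : ∀ p q : σ, (MvPolynomial.X p * MvPolynomial.X q : MvPolynomial σ k) = MvPolynomial.monomial (s1 p + s1 q) 1 := fun p q => by
    simp only [MvPolynomial.X, MvPolynomial.monomial_mul, mul_one, s1]
  have hX2 : ∀ p : σ, (MvPolynomial.X p ^ 2 : MvPolynomial σ k) = MvPolynomial.monomial (Finsupp.single p 2) 1 := fun p =>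
    MvPolynomial.X_pow_eq_monomial
  have e0 : ({f : MvPolynomial (Fin (n + 1)) k | ∃ p q : Fin (n + 1), e1 ≤ p.val ∧ p.val ≤ e2 ∧ e1 ≤ q.val ∧ q.val ≤ e2 ∧
        f = MvPolynomial.X p * MvPolynomial.X q} ∪
      {f : MvPolynomial (Fin (n + 1)) k | ∃ p q m : Fin (n + 1), e1 ≤ p.val ∧ p.val < q.val ∧ q.val ≤ e2 ∧
        m.val + k0 = n + 1 + q.val ∧ f = MvPolynomial.X p * MvPolynomial.X m}) =
      (fun e => MvPolynomial.monomial e (1 : k)) '' T0 := by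
    simp only [T0, Set.image_union]
    congr 1
    · ext f; constructor
      · rintro ⟨p, q, a, b, c, d, rfl⟩; exact ⟨_, ⟨p, q, a, b, c, d, rfl⟩, (hXX p q).symm⟩
      · rintro ⟨_, ⟨p, q, a, b, c, d, rfl⟩, rfl⟩; exact ⟨p, q, a, b, c, d, (hXX p q).symm⟩
    · ext f; constructor
      · rintro ⟨p, q, m, a, b, c, d, rfl⟩; exact ⟨_, ⟨p, q, m, a, b, c, d, rfl⟩, (hXX p m).symm⟩
      · rintro ⟨_, ⟨p, q, m, a, b, c, d, rfl⟩, rfl⟩; exact ⟨p, q, m, a, b, c, d, (hXX p m).symm⟩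
  have ej : ∀ j : σ, ({f : MvPolynomial (Fin (n + 1)) k | ∃ i : Fin (n + 1), e1 ≤ i.val ∧ i.val ≤ e2 ∧ i ≠ j ∧ f = MvPolynomial.X i} ∪
        {MvPolynomial.X j ^ 2} ∪
        {f : MvPolynomial (Fin (n + 1)) k | ∃ q m : Fin (n + 1), j.val < q.val ∧ q.val ≤ e2 ∧ m.val + k0 = n + 1 + q.val ∧
          f = MvPolynomial.X m}) = (fun e => MvPolynomial.monomial e (1 : k)) '' T j := by
    intro j
    simp only [T, Set.image_union, Set.image_singleton, hX2]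
    congr 1
    · congr 1
      ext f; constructor
      · rintro ⟨i, a, b, c, rfl⟩; exact ⟨_, ⟨i, a, b, c, rfl⟩, rfl⟩
      · rintro ⟨_, ⟨i, a, b, c, rfl⟩, rfl⟩; exact ⟨i, a, b, c, rfl⟩
    · ext f; constructor
      · rintro ⟨q, m, a, b, c, rfl⟩; exact ⟨_, ⟨q, m, a, b, c, rfl⟩, rfl⟩
      · rintro ⟨_, ⟨q, m, a, b, c, rfl⟩, rfl⟩; exact ⟨q, m, a, b, c, rfl⟩
  rw [e0]
  simp only [ej]
  ext f
  simp only [Submodule.mem_iInf, MvPolynomial.mem_ideal_span_monomial_image]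
  have hle1 : ∀ (i : σ) (e : σ →₀ ℕ), s1 i ≤ e ↔ 1 ≤ e i := fun i e => Finsupp.single_le_iff
  constructor
  · intro h j hj e he
    obtain ⟨s, hs, hse⟩ := h e he
    rcases hs with ⟨p, q, a, b, c, d, rfl⟩ | ⟨p, q, m, a, b, c, d, rfl⟩
    · by_cases hp : p = j
      · subst hp
        by_cases hq : q = p
        · subst hq
          refine ⟨Finsupp.single q 2, Or.inl (Or.inr rfl), le_of_eq_of_le ?_ hse⟩
          simp [s1, ← Finsupp.single_add]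
        · exact ⟨s1 q, Or.inl (Or.inl ⟨q, c, d, hq, rfl⟩), le_add_self.trans hse⟩
      · exact ⟨s1 p, Or.inl (Or.inl ⟨p, a, b, hp, rfl⟩), le_self_add.trans hse⟩
    · by_cases hp : p = j
      · subst hp
        exact ⟨s1 m, Or.inr ⟨q, m, b, c, d, rfl⟩, le_add_self.trans hse⟩
      · exact ⟨s1 p, Or.inl (Or.inl ⟨p, a, by omega, hp, rfl⟩), le_self_add.trans hse⟩
  · intro h e he'
    have hpair : ∀ p q : σ, 1 ≤ e p → 1 ≤ e q → (p = q → 2 ≤ e p) → s1 p + s1 q ≤ e := fun p q hp hq hpq i => by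
      simp only [s1, Finsupp.add_apply, Finsupp.single_apply]
      by_cases h1 : p = i <;> by_cases h2 : q = i <;> simp [h1, h2] <;> subst_vars <;> grind
    by_cases h2 : ∃ p q : σ, e1 ≤ p.val ∧ p.val ≤ e2 ∧ e1 ≤ q.val ∧ q.val ≤ e2 ∧ 1 ≤ e p ∧ 1 ≤ e q ∧ (p = q → 2 ≤ e p)
    · obtain ⟨p, q, a, b, c, d, hp, hq, hpq⟩ := h2
      exact ⟨_, Or.inl ⟨p, q, a, b, c, d, rfl⟩, hpair p q hp hq hpq⟩
    push Not at h2
    let jl : σ := ⟨e2, by omega⟩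
    obtain ⟨i0, hi1, hi2, hi3⟩ : ∃ i : σ, e1 ≤ i.val ∧ i.val ≤ e2 ∧ 1 ≤ e i := by
      obtain ⟨s, hs, hse⟩ := h jl ⟨he, le_rfl⟩ e he'
      rcases hs with (⟨i, a, b, -, rfl⟩ | hs) | ⟨q, m, a, b, -, -⟩
      · exact ⟨i, a, b, (hle1 i e).1 hse⟩
      · rw [Set.mem_singleton_iff] at hs; subst hs
        exact ⟨jl, he, le_rfl, le_trans (by norm_num) (Finsupp.single_le_iff.1 hse)⟩
      · simp [jl] at a; omega
    obtain ⟨s, hs, hse⟩ := h i0 ⟨hi1, hi2⟩ e he'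
    rcases hs with (⟨i, a, b, c, rfl⟩ | hs) | ⟨q, m, a, b, c, rfl⟩
    · exact absurd (h2 i i0 a b hi1 hi2 ((hle1 i e).1 hse) hi3).1 c
    · rw [Set.mem_singleton_iff] at hs; subst hs
      have := (h2 i0 i0 hi1 hi2 hi1 hi2 hi3 hi3).2
      have := Finsupp.single_le_iff.1 hse
      omega
    · exact ⟨_, Or.inr ⟨i0, q, m, hi1, a, b, c, rfl⟩, hpair i0 m hi3 ((hle1 m e).1 hse) (fun h => by subst h; omega)⟩

end Groth.Agent.S13455
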