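import Groth.Statements.S13458
import Groth.Agent.OmegaLib.StalkCompat
import Mathlib.RingTheory.Etale.Field

set_option autoImplicit false
universe u
open CategoryTheory CategoryTheory.Limits AlgebraicGeometry TopologicalSpace
open SmVar Groth.Agent
set_option backward.isDefEq.respectTransparency.types false

namespace Groth.Agent.S13458

section alg

open TensorProduct

theorem mapBaseChange_injective_of_field (R A B K : Type u) [CommRing R] [CommRing A] [CommRing B] [Field K]
    [Algebra R A] [Algebra R B] [Algebra R K] [Algebra A B] [Algebra B K] [Algebra A K]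
    [IsScalarTower R A B] [IsScalarTower R A K] [IsScalarTower R B K] [IsScalarTower A B K]
    [Module.Flat A Ω[A⁄R]] [Algebra.FormallySmooth A K] (hBK : Function.Injective (algebraMap B K)) :
    Function.Injective (KaehlerDifferential.mapBaseChange R A B) := by
  let j : B →ₗ[A] K := (IsScalarTower.toAlgHom A B K).toLinearMap
  have hj : Function.Injective (j.rTensor Ω[A⁄R]) := Module.Flat.rTensor_preserves_injective_linearMap j hBK
  have hsq : ∀ z, KaehlerDifferential.map R R B K (KaehlerDifferential.mapBaseChange R A B z) =
      KaehlerDifferential.mapBaseChange R A K (j.rTensor Ω[A⁄R] z) := by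
    intro z
    induction z using TensorProduct.induction_on with
    | zero => simp
    | add x y hx hy => simp only [map_add, hx, hy]
    | tmul b ω =>
      rw [KaehlerDifferential.mapBaseChange_tmul, LinearMap.rTensor_tmul,
        KaehlerDifferential.mapBaseChange_tmul, map_smul]
      have h2 : ∀ w : Ω[A⁄R], KaehlerDifferential.map R R B K (KaehlerDifferential.map R R A B w) =
          KaehlerDifferential.map R R A K w := by
        intro w
        have hw : w ∈ Submodule.span A (Set.range (KaehlerDifferential.D R A)) := by
          rw [KaehlerDifferential.span_range_derivation]; trivial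
        induction hw using Submodule.span_induction with
        | mem y hy =>
          obtain ⟨a, rfl⟩ := hy
          simp [← IsScalarTower.algebraMap_apply]
        | zero => simp
        | add y z _ _ hy hz => simp only [map_add, hy, hz]
        | smul a y _ hy =>
          rw [map_smul, ← algebraMap_smul B a (KaehlerDifferential.map R R A B y), map_smul, hy,
            algebraMap_smul, map_smul]
      rw [h2]
      exact (algebraMap_smul K b _).symm
  intro z₁ z₂ h
  exact hj (OmegaLib.mapBaseChange_injective R A K (by rw [← hsq, ← hsq, h]))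

end alg

theorem isFractionRing_residueField {Y : Scheme.{u}} [IsIntegral Y] {y p : Y} (hp : p = genericPoint Y)
    (h : p ⤳ y) :
    letI := (Y.presheaf.stalkSpecializes h ≫ Y.residue p).hom.toAlgebra
    IsFractionRing (Y.presheaf.stalk y) (Y.residueField p) := by
  subst hp
  letI := (Y.presheaf.stalkSpecializes h ≫ Y.residue (genericPoint Y)).hom.toAlgebra
  let r : Y.functionField →ₐ[Y.presheaf.stalk y] Y.residueField (genericPoint Y) :=
    { (Y.residue (genericPoint Y)).hom with commutes' := fun _ => rfl }
  have hr : Function.Bijective r := ⟨fun a b hab => (Y.residue (genericPoint Y)).hom.injective hab,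
    fun z => IsLocalRing.residue_surjective z⟩
  exact IsLocalization.isLocalization_of_algEquiv _ (AlgEquiv.ofBijective r hr)


/-- Let k be a field, X and Y integral schemes each smooth over Spec k and of the same dimension, and φ
: X → Y a morphism over k which is dominant and separable: the residue field of X at its generic
point is a separable algebraic extension of the residue field of Y at the image point (the function
field of Y, as φ is dominant). Let Ω_Y and Ω_X be sheaves of differentials of Y and of X over k,
given as universal derivations, and c : φ^*Ω_Y → Ω_X the compatible map (it sends the pullback of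
d_Y s to d_X(φ^♯ s)). Then c is a monomorphism of O_X-modules, so the relative cotangent sequence of
φ is exact on the left as well. (The injectivity is what is stated here; the identification of the
cokernel with Ω_{X/Y} is the general cotangent sequence.) -/
theorem result (k : Type u) [Field k] {X Y : Scheme.{u}}
    (pX : X ⟶ Spec (CommRingCat.of k)) (pY : Y ⟶ Spec (CommRingCat.of k)) (φ : X ⟶ Y) (w : φ ≫ pY = pX)
    [IsIntegral X] [IsIntegral Y] [Smooth pX] [Smooth pY]
    (hdim : topologicalKrullDim X = topologicalKrullDim Y) (hdom : DenseRange φ.base)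
    (hsep : letI := (φ.residueFieldMap (genericPoint X)).hom.toAlgebra
      Algebra.IsSeparable (Y.residueField (φ.base (genericPoint X))) (X.residueField (genericPoint X)))
    (ΩY : Y.Modules) (dY : OmegaSh.Der pY ΩY) (hY : OmegaSh.IsUniversal dY)
    (ΩX : X.Modules) (dX : OmegaSh.Der pX ΩX) (hX : OmegaSh.IsUniversal dX)
    (c : (Scheme.Modules.pullback φ).obj ΩY ⟶ ΩX) (hc : OmegaSh.IsDiffCompat φ dY dX c) :
    Mono c := by
  subst w
  refine OmegaLib.mono_of_stalks_injective c fun x => ?_
  have hη : φ (genericPoint X) = genericPoint Y := by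
    refine IsGenericPoint.eq ?_ (genericPoint_spec Y)
    have h1 := (genericPoint_spec X).image φ.continuous
    rwa [Set.image_univ, hdom.closure_range] at h1
  obtain ⟨T, hT, hxT, -⟩ := Opens.isBasis_iff_nbhd.mp (Spec (CommRingCat.of k)).isBasis_affineOpens
    (Opens.mem_top (pY (φ x)))
  let η := genericPoint X
  let A := Y.presheaf.stalk (φ x)
  let B := X.presheaf.stalk x
  have hsX : η ⤳ x := (genericPoint_spec X).specializes trivial
  have hsY : φ η ⤳ φ x := hsX.map φ.continuous
  letI := (φ.stalkMap x).hom.toAlgebra
  letI : Algebra Γ(Spec (CommRingCat.of k), T) A :=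
    ((Spec (CommRingCat.of k)).presheaf.germ T (pY (φ x)) hxT ≫ pY.stalkMap (φ x)).hom.toAlgebra
  letI : Algebra Γ(Spec (CommRingCat.of k), T) B :=
    (((Spec (CommRingCat.of k)).presheaf.germ T (pY (φ x)) hxT ≫ pY.stalkMap (φ x)) ≫ φ.stalkMap x).hom.toAlgebra
  haveI : IsScalarTower Γ(Spec (CommRingCat.of k), T) A B := IsScalarTower.of_algebraMap_eq fun _ => rfl
  obtain ⟨E₂, hE₂⟩ := OmegaLib.exists_stalk_equiv hX hT x hxT fun r => by
    show φ.stalkMap x (pY.stalkMap (φ x) ((Spec (CommRingCat.of k)).presheaf.germ T (pY (φ x)) hxT r)) = _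
    rw [Scheme.Hom.stalkMap_comp]
    rfl
  obtain ⟨E₁, hE₁⟩ := OmegaLib.exists_stalk_compat hY hc hT x hxT (fun _ => rfl) E₂ hE₂
  let K := X.residueField η
  let K' := Y.residueField (φ η)
  letI algAK' : Algebra A K' := (Y.presheaf.stalkSpecializes hsY ≫ Y.residue (φ η)).hom.toAlgebra
  letI algK'K : Algebra K' K := (φ.residueFieldMap η).hom.toAlgebra
  letI algBK : Algebra B K := (X.presheaf.stalkSpecializes hsX ≫ X.residue η).hom.toAlgebra
  letI algAK : Algebra A K := ((Y.presheaf.stalkSpecializes hsY ≫ Y.residue (φ η)) ≫ φ.residueFieldMap η).hom.toAlgebra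
  letI algRK : Algebra Γ(Spec (CommRingCat.of k), T) K :=
    ((algebraMap A K).comp (algebraMap Γ(Spec (CommRingCat.of k), T) A)).toAlgebra
  haveI : IsScalarTower A K' K := IsScalarTower.of_algebraMap_eq fun _ => rfl
  have hsq : φ.stalkMap x ≫ X.presheaf.stalkSpecializes hsX ≫ X.residue η =
      Y.presheaf.stalkSpecializes hsY ≫ Y.residue (φ η) ≫ φ.residueFieldMap η := by
    rw [Scheme.residue_residueFieldMap, ← Scheme.Hom.stalkSpecializes_stalkMap_assoc φ η x hsX]
  haveI : IsScalarTower A B K := IsScalarTower.of_algebraMap_eq fun a =>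
    (congrArg (fun g => g a) (congrArg CommRingCat.Hom.hom hsq)).symm
  haveI : IsScalarTower Γ(Spec (CommRingCat.of k), T) A K := IsScalarTower.of_algebraMap_eq fun _ => rfl
  haveI : IsScalarTower Γ(Spec (CommRingCat.of k), T) B K := IsScalarTower.of_algebraMap_eq fun r =>
    (IsScalarTower.algebraMap_apply A B K (algebraMap _ A r))
  haveI : IsFractionRing A K' := isFractionRing_residueField hη hsY
  haveI : IsFractionRing B K := isFractionRing_residueField rfl hsX
  haveI : Algebra.FormallyEtale A K' := .of_isLocalization (nonZeroDivisors A)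
  haveI : Algebra.IsSeparable K' K := hsep
  haveI : Algebra.FormallyEtale K' K := .of_isSeparable K' K
  haveI : Algebra.FormallySmooth A K := .comp A K' K
  haveI : Algebra.FormallySmooth Γ(Spec (CommRingCat.of k), T) A := by
    let s := pY (φ x)
    letI : Algebra Γ(Spec (CommRingCat.of k), T) ((Spec (CommRingCat.of k)).presheaf.stalk s) :=
      ((Spec (CommRingCat.of k)).presheaf.germ T s hxT).hom.toAlgebra
    letI : Algebra ((Spec (CommRingCat.of k)).presheaf.stalk s) A := (pY.stalkMap (φ x)).hom.toAlgebra
    haveI : IsScalarTower Γ(Spec (CommRingCat.of k), T) ((Spec (CommRingCat.of k)).presheaf.stalk s) A :=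
      IsScalarTower.of_algebraMap_eq fun _ => rfl
    haveI := hT.isLocalization_stalk ⟨s, hxT⟩
    haveI : Algebra.FormallySmooth Γ(Spec (CommRingCat.of k), T) ((Spec (CommRingCat.of k)).presheaf.stalk s) :=
      .of_isLocalization (hT.primeIdealOf ⟨s, hxT⟩).asIdeal.primeCompl
    have h2 : φ x ∈ pY.smoothLocus := by
      rw [Scheme.Hom.smoothLocus_eq_top_iff.2 ‹Smooth pY›]; trivial
    rw [Scheme.Hom.mem_smoothLocus] at h2
    haveI : Algebra.FormallySmooth ((Spec (CommRingCat.of k)).presheaf.stalk s) A := h2
    exact .comp _ ((Spec (CommRingCat.of k)).presheaf.stalk s) A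
  intro a b hab
  obtain ⟨s, rfl⟩ := E₁.surjective a
  obtain ⟨t, rfl⟩ := E₁.surjective b
  rw [hE₁, hE₁] at hab
  exact congrArg E₁ (mapBaseChange_injective_of_field _ A B K (IsFractionRing.injective B K) (E₂.injective hab))

end Groth.Agent.S13458
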