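import Groth.Statements.S13459
import Groth.Agent.Surf15.CurveRestrict
import Groth.Agent.Surf15.RiemannRoch
import Groth.Agent.Coherent.ProjSpaceFinite
-- import your own Groth.Agent.* helpers here

set_option autoImplicit false
universe u
open CategoryTheory CategoryTheory.Limits AlgebraicGeometry
open Surf

open TopologicalSpace
open Groth.Agent.Coherent Groth.Agent.PicLib Groth.Agent.AmpleLib Groth.Agent.EulerLib Groth.Agent.CurveRR24 Groth.Agent.DimLib Groth.Agent.Surf15
set_option linter.style.haveILetI false
set_option backward.isDefEq.respectTransparency.types false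

namespace Groth.Agent.S13459

/-- Let k be a field and S an integral surface (dimension two) which is smooth over k and projective (a
closed immersion into some P^n_k over k). Let i : C → S be the closed immersion of an integral curve
(dimension one) all of whose local rings are regular, with ideal sheaf I ⊆ O_S, and let L be an
invertible O_S-module with an inverse L' (L ⊗ L' ≅ O_S). Then the intersection number of O_S(C) with
L, namely the alternating sum χ(O_S) − χ(I) − χ(L') + χ(I ⊗ L') formed with the inverses I = O_S(−C)
and L' (packaged as FGA.intNum), equals the degree of the restriction of L to C, the degree of a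
module M on C being χ(M) − χ(O_C). -/
theorem result (k : Type u) [Field k] (S : Scheme.{u}) [S.Over (Spec (CommRingCat.of k))]
    [IsIntegral S] (hdim : topologicalKrullDim S = 2) [Smooth (S ↘ (Spec (CommRingCat.of k)))]
    (hproj : ∃ (n : ℕ) (ι : S ⟶ CohB1.ProjSpace n k), IsClosedImmersion ι ∧ ι ≫ CohB1.ProjSpace.toSpec n k = (S ↘ (Spec (CommRingCat.of k))))
    (C : Scheme.{u}) (i : C ⟶ S) [IsClosedImmersion i] [IsIntegral C] (hC : topologicalKrullDim C = 1)
    (hCreg : ∀ c : C, IsRegularLocalRing (C.presheaf.stalk c))
    (L L' : S.Modules) (hL : PicF.IsInvertible L) (hLL' : Nonempty (CohB1.tensorMod L L' ≅ Coh.structureModule S)) :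
    letI : C.Over (Spec (CommRingCat.of k)) := ⟨i ≫ (S ↘ (Spec (CommRingCat.of k)))⟩
    FGA.intNum k S 2 ![ClSub.idealMod i.ker, L'] (Coh.structureModule S) =
      Curv2.deg k C ((Scheme.Modules.pullback i).obj L) 1 := by
  obtain ⟨n, ι, hι, hιe⟩ := hproj
  haveI : IsProper (CohB1.ProjSpace.toSpec n k) := Groth.Agent.Coherent.isProper_projSpace_toSpec n k
  haveI : IsProper (S ↘ Spec (CommRingCat.of k)) := by rw [← hιe]; infer_instance
  have hX : topologicalKrullDim S = ((2 : ℕ) : WithBot ℕ∞) := by exact_mod_cast hdim
  have hreg : ∀ x : S, IsRegularLocalRing (S.presheaf.stalk x) := fun x =>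
    Groth.Agent.VarietyLib.isRegularLocalRing_stalk_of_smooth k S (S ↘ Spec (CommRingCat.of k)) x
  have hD := (isCrv_ker i hC).isEffCartier k hX hreg
  have hI := Groth.Agent.FlatMor12.IdealModGen.isInvertible_idealMod i.ker hD
  rw [deg_pullback_eq k i hL, intNum_eq_B k hX.le hI (isInvertible_inverse hL hLL'),
    B_inv_right k hX.le (mk_mul_inverse hL hLL'), deg_quotMod k hD]
  rfl

end Groth.Agent.S13459
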