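import Groth.Statements.S13460
import Mathlib
import Groth.Prelude
import Groth.Agent.CommAlg4.OrdTransfer

set_option linter.all false

set_option autoImplicit false
universe u
open CategoryTheory CategoryTheory.Limits AlgebraicGeometry TopologicalSpace
open WDiv

open AlgebraicGeometry CategoryTheory

set_option backward.isDefEq.respectTransparency.types false

namespace Groth.Agent.S13460

theorem ord_zpow_mul {X : Scheme.{u}} [IsIntegral X] [IsLocallyNoetherian X] (x : X) {a : X.functionField} (ha : a ≠ 0) (n : ℤ) :
    Scheme.ord (a ^ n) x = n * Scheme.ord a x := by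
  have h1 : Scheme.ord (1 : X.functionField) x = 0 := by
    have := Scheme.ord_mul (x := x) (one_ne_zero (α := X.functionField)) one_ne_zero
    rw [mul_one] at this; omega
  induction n using Int.induction_on with
  | zero => simp [h1]
  | succ n ih =>
    have := Scheme.ord_mul (x := x) (zpow_ne_zero (n : ℤ) ha) ha
    rw [zpow_add_one₀ ha, this, ih]; ring
  | pred n ih =>
    have := Scheme.ord_mul (x := x) (zpow_ne_zero (-(n : ℤ) - 1) ha) ha
    rw [← zpow_add_one₀ ha, sub_add_cancel, ih] at this
    linarith

theorem exists_ord_eq (R : CommRingCat.{u}) [IsDomain R] [IsNoetherianRing R] [UniqueFactorizationMonoid R]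
    (D : ↥(Spec R) → ℤ) (hD : ∀ x, Order.coheight x ≠ 1 → D x = 0) (hfin : {x | D x ≠ 0}.Finite) :
    ∃ f : ↑(Spec R).functionField, f ≠ 0 ∧
      ∀ x : ↥(Spec R), Order.coheight x = 1 → Scheme.ord f x = D x := by
  classical
  let X := Spec R
  let φ : R →+* X.functionField := algebraMap R (Spec R).functionField
  have hφ : Function.Injective φ := IsFractionRing.injective R (Spec R).functionField
  -- generators
  have hgen : ∀ x : X, Order.coheight x = 1 → ∃ π : R, Prime π ∧ x.asIdeal = Ideal.span {π} := by
    intro x hx
    have hh : x.asIdeal.height = 1 := (idealHeight_eq_coheight R x).trans hx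
    obtain ⟨π, hπ⟩ := (UniqueFactorizationMonoid.isPrincipal_of_height_eq_one (p := x.asIdeal) hh).principal
    have hπ0 : π ≠ 0 := by
      rintro rfl
      have : x.asIdeal = ⊥ := hπ.trans Ideal.span_zero
      rw [this, Ideal.height_bot] at hh
      exact zero_ne_one hh
    exact ⟨π, (Ideal.span_singleton_prime hπ0).1 (by
      have h9 : x.asIdeal = Ideal.span {π} := hπ
      rw [← h9]; infer_instance), hπ⟩
  let S := hfin.toFinset
  have hS : ∀ x ∈ S, Order.coheight x = 1 := fun x hx => by_contra fun h => (hfin.mem_toFinset.1 hx) (hD x h)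
  let g : X → R := fun x => if h : Order.coheight x = 1 then (hgen x h).choose else 1
  have hgp : ∀ x, Order.coheight x = 1 → Prime (g x) ∧ x.asIdeal = Ideal.span {g x} := fun x h => by
    simp only [g, dif_pos h]; exact (hgen x h).choose_spec
  have hg0 : ∀ x, φ (g x) ≠ 0 := fun x => (map_ne_zero_iff φ hφ).2 (by
    by_cases h : Order.coheight x = 1
    · exact (hgp x h).1.ne_zero
    · simp only [g, dif_neg h]; exact one_ne_zero)
  -- the order of a generator
  have hord : ∀ x y, Order.coheight x = 1 → Order.coheight y = 1 → Scheme.ord (φ (g x)) y = if x = y then 1 else 0 := by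
    intro x y hx hy
    letI : Algebra R (X.presheaf.stalk y) := StructureSheaf.stalkAlgebra R y
    haveI : IsLocalization.AtPrime (X.presheaf.stalk y) y.asIdeal := StructureSheaf.IsLocalization.to_stalk R y
    haveI : Ring.KrullDimLE 1 (X.presheaf.stalk y) := krullDimLE_of_coheight_le hy.le
    have htower : φ (g x) = algebraMap (X.presheaf.stalk y) X.functionField (algebraMap R (X.presheaf.stalk y) (g x)) := by
      symm
      show (X.presheaf.stalkSpecializes (genericPoint_specializes y)).hom ((StructureSheaf.toStalk R y).hom (g x)) = (StructureSheaf.toStalk R (genericPoint X)).hom (g x)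
      exact DFunLike.congr_fun (congrArg CommRingCat.Hom.hom (StructureSheaf.toStalk_stalkSpecializes (R := R) (genericPoint_specializes y))) (g x)
    set a := algebraMap R (X.presheaf.stalk y) (g x) with hadef
    by_cases hxy : x = y
    · subst hxy
      rw [if_pos rfl]
      have hmax : IsLocalRing.maximalIdeal (X.presheaf.stalk x) = Ideal.span {a} := by
        rw [← IsLocalization.AtPrime.map_eq_maximalIdeal x.asIdeal (X.presheaf.stalk x)]
        rw [(hgp x hx).2, Ideal.map_span, Set.image_singleton]
      have hord1 : Ring.ord (X.presheaf.stalk x) a = 1 := by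
        rw [Ring.ord, Module.length_eq_one_iff, ← hmax]
        exact isSimpleModule_iff_isCoatom.2 (Ideal.isMaximal_def.1 (IsLocalRing.maximalIdeal.isMaximal _))
      have ha0 : a ≠ 0 := fun h => hg0 x (by rw [htower, h, map_zero])
      rw [htower, Scheme.ord_eq_iff hy ((map_ne_zero_iff _ (IsFractionRing.injective _ _)).2 ha0)]
      show Ring.ordFrac (X.presheaf.stalk x) _ = _
      rw [Ring.ordFrac_eq_ord _ ha0, Ring.ordMonoidWithZeroHom_eq_coe _ (mem_nonZeroDivisors_of_ne_zero ha0) (n := 1) (by exact_mod_cast hord1)]
      rfl
    · rw [if_neg hxy]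
      have hu : IsUnit a := IsLocalization.map_units (X.presheaf.stalk y) (⟨g x, fun hmem => hxy ?_⟩ : y.asIdeal.primeCompl)
      · have ha0 : a ≠ 0 := hu.ne_zero
        rw [htower, Scheme.ord_eq_iff hy ((map_ne_zero_iff _ (IsFractionRing.injective _ _)).2 ha0)]
        exact Ring.ordFrac_of_isUnit hu
      · have hle : x.asIdeal ≤ y.asIdeal := by rw [(hgp x hx).2, Ideal.span_singleton_le_iff_mem]; exact hmem
        obtain ⟨π, hπ, hy'⟩ := hgen y hy
        refine PrimeSpectrum.ext (le_antisymm hle ?_)
        rw [hy', (hgp x hx).2, Ideal.span_singleton_le_span_singleton] at hle ⊢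
        exact ((hπ.associated_of_dvd (hgp x hx).1 hle)).symm.dvd
  refine ⟨∏ x ∈ S, φ (g x) ^ D x, Finset.prod_ne_zero_iff.2 fun x _ => zpow_ne_zero _ (hg0 x), fun y hy => ?_⟩
  have hsum : ∀ T : Finset X, Scheme.ord (∏ x ∈ T, φ (g x) ^ D x) y = ∑ x ∈ T, D x * Scheme.ord (φ (g x)) y := by
    intro T
    induction T using Finset.induction with
    | empty =>
      have := ord_zpow_mul y (hg0 y) 0
      simpa using this
    | insert a T ha ih =>
      rw [Finset.prod_insert ha, Finset.sum_insert ha, Scheme.ord_mul (zpow_ne_zero _ (hg0 a)) (Finset.prod_ne_zero_iff.2 fun x _ => zpow_ne_zero _ (hg0 x)), ih, ord_zpow_mul y (hg0 a)]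
  rw [hsum, Finset.sum_congr rfl (fun x hx => by rw [hord x y (hS x hx) hy])]
  simp [S]
  intro hy0
  exact (not_not.1 hy0).symm

/-- Let A be a Noetherian integral domain which is a unique factorization domain, and X = Spec A. Then
the divisor class group of X vanishes: every Weil divisor D on X, an integer-valued function on the
points of X with finite support inside the points of coheight 1 (codimension one), is the divisor of
a nonzero rational function f on X, i.e. the order of vanishing of f at every point x of coheight 1
is D(x). (The published statement assumes only that A is a unique factorization domain; this row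
also assumes A Noetherian.) -/
theorem result (A : Type u) [CommRing A] [IsDomain A] [IsNoetherianRing A]
    [UniqueFactorizationMonoid A]
    (D : ↥(Spec (CommRingCat.of A)) → ℤ) (hD : ∀ x, Order.coheight x ≠ 1 → D x = 0) (hfin : {x | D x ≠ 0}.Finite) :
    ∃ f : ↑(Spec (CommRingCat.of A)).functionField, f ≠ 0 ∧
      ∀ x : ↥(Spec (CommRingCat.of A)), Order.coheight x = 1 → Scheme.ord f x = D x := by
  exact exists_ord_eq (CommRingCat.of A) D hD hfin

end Groth.Agent.S13460
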