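import Groth.Statements.S13461
import Groth.Agent.CurveRR24.FormSections
import Groth.Agent.CurveRR24.GenusZero
import Groth.Agent.CurveRR24.Degree
import Groth.Agent.AbVarLib.GeomIntegralSmooth
import Groth.Agent.OmegaDual24.Main
-- import your own Groth.Agent.* helpers here

set_option autoImplicit false
universe u
open CategoryTheory CategoryTheory.Limits AlgebraicGeometry TopologicalSpace
open Curves
open Groth.Agent.Coherent Groth.Agent.PicLib Groth.Agent.AmpleLib Groth.Agent.EulerLib Groth.Agent.CurveRR24 Groth.Agent.LefPen24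
set_option backward.isDefEq.respectTransparency.types false
set_option linter.style.haveILetI false
set_option maxHeartbeats 1000000

namespace Groth.Agent.S13461

/-- Let k be a field and X a smooth proper geometrically connected curve over k (proper, smooth and
geometrically connected over k, of dimension one) of genus dim_k H^1(X, O_X) = 4, and let i : X →
P^3_k be a closed immersion over k whose pullback of O(1) is isomorphic to the sheaf of
differentials Ω_{X/k} (X is canonically embedded, hence not hyperelliptic). Then X lies on a quadric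
surface: there is a nonzero global section Q of O_{P^3_k}(2) whose pullback along i is the zero
section of i^*O(2). (The published statement goes on to assert that X is the complete intersection
of such a quadric with a cubic surface; this row states only the existence of the quadric.) -/
theorem result (k : Type u) [Field k] (X : Scheme.{u}) [X.Over (Spec (CommRingCat.of k))]
    [IsProper (X ↘ (Spec (CommRingCat.of k)))] [Smooth (X ↘ (Spec (CommRingCat.of k)))] [GeometricallyConnected (X ↘ (Spec (CommRingCat.of k)))]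
    (hdim : topologicalKrullDim X = 1) (hg : Curv2.genus k X = 4)
    (i : X ⟶ CohB1.ProjSpace 3 k) [IsClosedImmersion i] (hi : i ≫ CohB1.ProjSpace.toSpec 3 k = X ↘ (Spec (CommRingCat.of k)))
    (hcan : Nonempty ((Scheme.Modules.pullback i).obj (Twist.twistProjSpace 3 k 1) ≅ Omega.sheaf (X ↘ (Spec (CommRingCat.of k))))) :
    ∃ Q : Γ(Twist.twistProjSpace 3 k 2, ⊤), Q ≠ 0 ∧
      OmegaSh.pullSect i (Twist.twistProjSpace 3 k 2) ⊤ Q = 0 := by
  haveI := isNoetherian_of_proper k (X := X)
  haveI : GeometricallyIntegral (X ↘ Spec (CommRingCat.of k)) :=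
    AbVarLib.geometricallyIntegral_of_smooth (X ↘ Spec (CommRingCat.of k))
  haveI : ConnectedSpace X := GeometricallyConnected.connectedSpace_of_subsingleton (X ↘ Spec (CommRingCat.of k))
  haveI : IsIntegral X := AbVarLib.isIntegral_of_smooth_connected (X ↘ Spec (CommRingCat.of k))
  let P1 := (Scheme.Modules.pullback i).obj (Twist.twistProjSpace 3 k ((1 : ℕ) : ℤ))
  let P2 := (Scheme.Modules.pullback i).obj (Twist.twistProjSpace 3 k ((2 : ℕ) : ℤ))
  have hP1 : PicF.IsInvertible P1 := PicLoc.isInvertible_pullback i (CI14.isInvertible_twist' _)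
  have hP2 : PicF.IsInvertible P2 := PicLoc.isInvertible_pullback i (CI14.isInvertible_twist' _)
  have h0 := CurveRR24.h0_structure_of_geomIntegral k (X := X)
  obtain ⟨eK⟩ := hcan
  have eK' : P1 ≅ Omega.sheaf (X ↘ (Spec (CommRingCat.of k))) := eK
  have hd1 : Curv2.deg k X P1 1 = 6 := by
    rw [CurveRR24.deg_congr k eK', OmegaDual24.deg_omega k hdim, hg]; norm_num
  obtain ⟨e2⟩ : Nonempty (P2 ≅ CohB1.tensorMod P1 P1) :=
    nonempty_pullback_twist i ((1 : ℕ) : ℤ) ((1 : ℕ) : ℤ) ((2 : ℕ) : ℤ) (by norm_num)
  have hd2 : Curv2.deg k X P2 1 = 12 := by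
    rw [CurveRR24.deg_congr k e2, deg_tensor k hdim.le hP1 hP1, hd1]; norm_num
  haveI := subsingleton_h1_of_deg k hdim.le h0 hP2 (by rw [hg, hd2]; norm_num)
  have e9 : Module.finrank k (Coh.HH X P2 0) = 9 := by
    have h := euler_eq_h0_sub_h1 k hdim.le P2 (CurveRR24.isCoh_of_isInvertible k hP2).1
    have hO := euler_eq_h0_sub_h1 k hdim.le _ (isCoh_structureModule X).1
    have hg' : Module.finrank k (Coh.HH X (Coh.structureModule X) 1) = 4 := hg
    rw [h0, hg'] at hO
    rw [Module.finrank_zero_of_subsingleton (R := k) (M := Coh.HH X P2 1)] at h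
    unfold Curv2.deg at hd2
    omega
  haveI := finite_HH_of_isCoh k (CurveRR24.isCoh_of_isInvertible k hP2) 0
  haveI : Module.Finite k (GA (baseHom k X) P2) := Module.Finite.equiv (hhZero k P2)
  have h10 : Module.finrank k (LefPen.Form 3 k 2) = 10 := by
    rw [GrLib.finrank_homogeneous]; norm_num [Nat.choose]
  obtain ⟨G, hG0, hG⟩ : ∃ G : LefPen.Form 3 k 2, G ≠ 0 ∧ pullForm i G = 0 := by
    by_contra hcon
    push Not at hcon
    have hinj : Function.Injective (formMap (d := 2) i hi) := by
      refine (injective_iff_map_eq_zero (formMap (d := 2) i hi)).2 fun G hG => ?_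
      by_contra hne
      exact hcon G hne hG
    have h := LinearMap.finrank_le_finrank_of_injective hinj
    have hh : Module.finrank k (GA (baseHom k X) P2) = 9 := by rw [← (hhZero k P2).finrank_eq, e9]
    have hle : Module.finrank k (LefPen.Form 3 k 2) ≤ Module.finrank k (GA (baseHom k X) P2) := h
    omega
  refine ⟨formSect G, fun h => hG0 ?_, hG⟩
  obtain ⟨y⟩ : Nonempty X := inferInstance
  obtain ⟨j, hj⟩ := Opens.mem_iSup.1 ((ProjLib.iSup_basicOpen_X 3 k).ge (Set.mem_univ (i y)))
  have h1 := resM_formSect G j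
  rw [h, map_zero] at h1
  have h2 : LefPen.dehom G j = 0 := (isGen_formFrame (k := k) 2 j _ le_rfl).1 (by
    simp only [resM_self]
    rw [zero_smul]
    exact h1.symm)
  have h3 := secVal_dehom G j ⟨i y, hj⟩
  rw [h2] at h3
  have h4 : Localization.mk (G : MvPolynomial (Fin (3 + 1)) k)
      (⟨MvPolynomial.X j ^ 2, LefPen24.X_pow_notMem hj 2⟩ :
        (show ProjectiveSpectrum (CohB1.polyGrading 3 k) from i y).asHomogeneousIdeal.toIdeal.primeCompl) = 0 :=
    h3.symm.trans HomogeneousLocalization.val_zero
  rw [Localization.mk_eq_mk', IsLocalization.mk'_eq_zero_iff] at h4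
  obtain ⟨m, hm⟩ := h4
  refine Subtype.ext ((mul_eq_zero.1 hm).resolve_left fun h0 => m.2 ?_)
  rw [h0]
  exact zero_mem _

end Groth.Agent.S13461
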