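import Groth.Statements.S13469
import Groth.Agent.IsoTriv.SchemeSpec
import Groth.Agent.UnipStruct.Basic
import Groth.Agent.S16126
import Groth.Agent.AlgGrpLib.GroupLikeFG
import Groth.Agent.AlgGrpLib.GroupLikeNorm

set_option maxHeartbeats 800000
set_option linter.style.haveILetI false

set_option autoImplicit false
universe u
open GmDual
open scoped TensorProduct

namespace Groth.Agent.S13469

open CategoryTheory AlgebraicGeometry MonObj in
/-- Let k be a field and i : H → G a homomorphism of affine commutative k-group schemes of finite type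
which is a closed immersion. Then the restriction map Ĝ(k) → Ĥ(k) on characters defined over k
(morphisms of abelian sheaves on the big fppf site of Spec k from the sheaf of points to the
multiplicative group, restricted along i) has finite cokernel: its image is a subgroup of finite
index. -/
theorem result (k : Type u) [Field k]
    (H G : Over (Spec (CommRingCat.of k))) [GrpObj H] [IsCommMonObj H] [GrpObj G] [IsCommMonObj G]
    [IsAffine H.left] [LocallyOfFiniteType H.hom] [IsAffine G.left] [LocallyOfFiniteType G.hom]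
    (i : H ⟶ G) [IsMonHom i] [IsClosedImmersion i.left] :
    (Preadditive.leftComp (CGrpSh2.Gm Scheme.fppfPrecoverage (Spec (CommRingCat.of k)))
      (CGrpSh.ptsMap Scheme.fppfPrecoverage i)).range.FiniteIndex := by
  classical
  obtain ⟨A, _, _, ⟨eG⟩⟩ := Groth.Agent.IsoTriv.SchemeSpec.exists_spec G
  obtain ⟨B, _, _, ⟨eH⟩⟩ := Groth.Agent.IsoTriv.SchemeSpec.exists_spec H
  obtain ⟨eM⟩ := Groth.Agent.IsoTriv.SchemeSpec.nonempty_DS k ℤ
  let gI : G ≅ CoactBr.sp k A := (Grp.forget _).mapIso eG
  let hI : H ≅ CoactBr.sp k B := (Grp.forget _).mapIso eH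
  let mI : Red.Gm (Spec (CommRingCat.of k)) ≅ CoactBr.sp k (MonoidAlgebra k (Multiplicative ℤ)) :=
    (Grp.forget _).mapIso eM
  haveI : IsMonHom gI.hom := eG.hom.hom.isMonHom_hom
  haveI : IsMonHom gI.inv := eG.inv.hom.isMonHom_hom
  haveI : IsMonHom hI.hom := eH.hom.hom.isMonHom_hom
  haveI : IsMonHom hI.inv := eH.inv.hom.isMonHom_hom
  haveI : IsMonHom mI.hom := eM.hom.hom.isMonHom_hom
  haveI : IsMonHom mI.inv := eM.inv.hom.isMonHom_hom
  haveI : IsCommMonObj (CoactBr.sp k A) := ⟨by
    rw [← cancel_mono gI.inv, Category.assoc, IsMonHom.mul_hom (f := gI.inv),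
      ← BraidedCategory.braiding_naturality_assoc, IsCommMonObj.mul_comm]⟩
  haveI : Coalgebra.IsCocomm k A := Groth.Agent.UnipStruct.isCocomm_of_comm
  -- `B` is Noetherian
  have hBft : Algebra.FiniteType k B := by
    haveI : IsIso hI.inv.left := (inferInstance : IsIso ((Over.forget _).map hI.inv))
    have h1 : LocallyOfFiniteType (hI.inv.left ≫ H.hom) := inferInstance
    rw [Over.w] at h1
    have h2 := (HasRingHomProperty.Spec_iff (P := @LocallyOfFiniteType)).1 h1
    exact RingHom.finiteType_algebraMap.1 h2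
  haveI : IsNoetherianRing B := Algebra.FiniteType.isNoetherianRing k B
  obtain ⟨π, hπ⟩ := Groth.Agent.IsoTriv.SchemeSpec.exists_bialgHom (hI.inv ≫ i ≫ gI.hom)
  have hπs : Function.Surjective π := by
    haveI : IsIso hI.inv.left := (inferInstance : IsIso ((Over.forget _).map hI.inv))
    haveI : IsIso gI.hom.left := (inferInstance : IsIso ((Over.forget _).map gI.hom))
    haveI : IsClosedImmersion (hI.inv ≫ i ≫ gI.hom).left := by
      rw [Over.comp_left, Over.comp_left]; infer_instance
    rw [hπ] at this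
    haveI : IsClosedImmersion (Spec.map (CommRingCat.ofHom (π : A →+* B))) := by exact this
    have h := (IsClosedImmersion.isAffine_surjective_of_isAffine (Spec.map (CommRingCat.ofHom (π : A →+* B)))).2
    intro b
    obtain ⟨y, hy⟩ := h ((Scheme.ΓSpecIso (CommRingCat.of B)).inv b)
    refine ⟨(Scheme.ΓSpecIso (CommRingCat.of A)).hom y, ?_⟩
    have hn := ConcreteCategory.congr_hom (Scheme.ΓSpecIso_naturality (CommRingCat.ofHom (π : A →+* B))) y
    simp only [CommRingCat.comp_apply] at hn
    exact hn.symm.trans ((congrArg (Scheme.ΓSpecIso (CommRingCat.of B)).hom hy).trans (Iso.inv_hom_id_apply _ _))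
  let one' : MonoidAlgebra k (Multiplicative ℤ) := MonoidAlgebra.single (Multiplicative.ofAdd (1 : ℤ)) 1
  -- the value of a character at the universal point
  let val : (CGrpSh.pts Scheme.fppfPrecoverage H ⟶ CGrpSh2.Gm Scheme.fppfPrecoverage (Spec (CommRingCat.of k))) →
      (CoactBr.sp k B ⟶ Red.Gm (Spec (CommRingCat.of k))) := fun c =>
    (c.hom.app (Opposite.op (CoactBr.sp k B)) (ULift.up (Additive.ofMul hI.inv))).down.toMul
  have hval_add : ∀ c d, val (c + d) = val c * val d := fun c d => rfl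
  have hval : ∀ (c) (T : Over (Spec (CommRingCat.of k))) (x : T ⟶ H),
      (c.hom.app (Opposite.op T) (ULift.up (Additive.ofMul x))).down = Additive.ofMul (x ≫ hI.hom ≫ val c) := by
    intro c T x
    have hnat := ConcreteCategory.congr_hom (c.hom.naturality (x ≫ hI.hom).op) (ULift.up (Additive.ofMul hI.inv))
    refine Eq.trans ?_ ((congrArg ULift.down hnat).trans ?_)
    · show _ = (c.hom.app (Opposite.op T) (ULift.up (Additive.ofMul ((x ≫ hI.hom) ≫ hI.inv)))).down
      rw [Category.assoc, Iso.hom_inv_id, Category.comp_id]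
    · exact congrArg Additive.ofMul (Category.assoc _ _ _)
  -- its coordinate
  let crd : (CoactBr.sp k B ⟶ Red.Gm (Spec (CommRingCat.of k))) → B :=
    fun x => Groth.Agent.HopfLib.SpPoints.algOf (x ≫ mI.hom) one'
  have hcrd_mul : ∀ x y, crd (x * y) = crd x * crd y := by
    intro x y
    show Groth.Agent.HopfLib.SpPoints.algOf ((x * y) ≫ mI.hom) one' = _
    rw [MonObj.mul_comp, Groth.Agent.HopfLib.SpPoints.algOf_mul, AlgHom.comp_apply,
      Bialgebra.comulAlgHom_apply,
      show Coalgebra.comul (R := k) one' = one' ⊗ₜ[k] one' from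
        (MonoidAlgebra.isGroupLikeElem_single_one _).comul_eq_tmul_self,
      Algebra.TensorProduct.lift_tmul]
  have hcrd_inj : Function.Injective crd := by
    intro x y h
    rw [← cancel_mono mI.hom, ← Groth.Agent.HopfLib.SpPoints.pt_algOf (x ≫ mI.hom),
      ← Groth.Agent.HopfLib.SpPoints.pt_algOf (y ≫ mI.hom)]
    congr 1
    refine MonoidAlgebra.algHom_ext (fun z => ?_) (Subsingleton.elim _ _)
    obtain ⟨w, rfl⟩ := Multiplicative.ofAdd.surjective z
    have e := MonoidHom.ext_mint
      (f := (Groth.Agent.HopfLib.SpPoints.algOf (x ≫ mI.hom)).toMonoidHom.comp (MonoidAlgebra.of k _))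
      (g := (Groth.Agent.HopfLib.SpPoints.algOf (y ≫ mI.hom)).toMonoidHom.comp (MonoidAlgebra.of k _)) h
    exact DFunLike.congr_fun e (Multiplicative.ofAdd w)
  have hgl : ∀ c, IsGroupLikeElem k (crd (val c)) := by
    intro c
    let χ : H ⟶ Red.Gm (Spec (CommRingCat.of k)) := hI.hom ≫ val c
    have hmul : ∀ {T : Over (Spec (CommRingCat.of k))} (x y : T ⟶ H), (x * y) ≫ χ = x ≫ χ * y ≫ χ :=
      fun {T} x y => by
        have h := congrArg ULift.down ((c.hom.app (Opposite.op T)).hom.map_add
          (ULift.up (Additive.ofMul x)) (ULift.up (Additive.ofMul y)))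
        exact (hval c T (x * y)).symm.trans (h.trans (congrArg₂ (· + ·) (hval c T x) (hval c T y)))
    haveI : IsMonHom χ :=
      { one_hom := by
          have h := hmul (1 : MonoidalCategoryStruct.tensorUnit _ ⟶ H) 1
          rw [_root_.mul_one] at h
          letI : Group (MonoidalCategoryStruct.tensorUnit (Over (Spec (CommRingCat.of k))) ⟶
            Red.Gm (Spec (CommRingCat.of k))) := Hom.group
          have h' := left_eq_mul.1 h
          rw [Hom.one_def, Category.assoc] at h'
          simpa [Hom.one_def] using h'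
        mul_hom := by
          rw [MonObj.mul_eq_mul, hmul, MonObj.mul_eq_mul, MonObj.comp_mul]
          simp }
    obtain ⟨φ, hφ⟩ := Groth.Agent.IsoTriv.SchemeSpec.exists_bialgHom (hI.inv ≫ χ ≫ mI.hom)
    have e : Groth.Agent.HopfLib.SpPoints.algOf (val c ≫ mI.hom) = (φ : MonoidAlgebra k (Multiplicative ℤ) →ₐ[k] B) := by
      apply CoactBr.pt_injective
      rw [Groth.Agent.HopfLib.SpPoints.pt_algOf]
      refine Over.OverMorphism.ext (Eq.trans ?_ hφ)
      simp only [χ, Category.assoc, Iso.inv_hom_id_assoc]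
    show IsGroupLikeElem k (Groth.Agent.HopfLib.SpPoints.algOf (val c ≫ mI.hom) one')
    rw [e]
    exact (MonoidAlgebra.isGroupLikeElem_single_one _).map φ
  -- the embedding into the group-like elements
  let Φ : (CGrpSh.pts Scheme.fppfPrecoverage H ⟶ CGrpSh2.Gm Scheme.fppfPrecoverage (Spec (CommRingCat.of k))) →+
      Additive (GroupLike k B) :=
    AddMonoidHom.mk' (fun c => Additive.ofMul ⟨crd (val c), hgl c⟩) fun c d =>
      congrArg Additive.ofMul (GroupLike.val_injective ((congrArg crd (hval_add c d)).trans (hcrd_mul _ _)))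
  have hΦ : Function.Injective Φ := by
    intro c d h
    have h1 : val c = val d := hcrd_inj (congrArg (fun z => (z.toMul : B)) h)
    refine Sheaf.hom_ext (NatTrans.ext (funext fun T => AddCommGrpCat.ext fun x => ULift.ext _ _ ?_))
    obtain ⟨T⟩ := T
    exact (hval c T x.down.toMul).trans ((congrArg (fun z => Additive.ofMul (x.down.toMul ≫ hI.hom ≫ z)) h1).trans
      (hval d T x.down.toMul).symm)
  haveI := Groth.Agent.AlgGrpLib.GroupLikeFG.fg_groupLike (k := k) B
  haveI : Module.Finite ℤ (Additive (GroupLike k B)) := Module.Finite.iff_addGroup_fg.2 inferInstance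
  haveI : Module.Finite ℤ
      (CGrpSh.pts Scheme.fppfPrecoverage H ⟶ CGrpSh2.Gm Scheme.fppfPrecoverage (Spec (CommRingCat.of k))) :=
    Module.Finite.of_injective Φ.toIntLinearMap hΦ
  set R := (Preadditive.leftComp (CGrpSh2.Gm Scheme.fppfPrecoverage (Spec (CommRingCat.of k)))
      (CGrpSh.ptsMap Scheme.fppfPrecoverage i)).range with hR
  haveI : AddGroup.FG (CGrpSh.pts Scheme.fppfPrecoverage H ⟶
      CGrpSh2.Gm Scheme.fppfPrecoverage (Spec (CommRingCat.of k))) := Module.Finite.iff_addGroup_fg.1 inferInstance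
  haveI : Finite ((CGrpSh.pts Scheme.fppfPrecoverage H ⟶
      CGrpSh2.Gm Scheme.fppfPrecoverage (Spec (CommRingCat.of k))) ⧸ R) := by
    refine AddCommGroup.finite_of_fg_torsion _ fun q => ?_
    induction q using QuotientAddGroup.induction_on with | _ c =>
    obtain ⟨n, g, hn, hg⟩ := Groth.Agent.AlgGrpLib.GroupLikeNorm.exists_groupLike_preimage_pow π hπs
      ⟨crd (val c), hgl c⟩
    refine isOfFinAddOrder_iff_nsmul_eq_zero.2 ⟨n, hn, ?_⟩
    rw [← QuotientAddGroup.mk_nsmul, QuotientAddGroup.eq_zero_iff]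
    obtain ⟨ψ, hψ⟩ := Groth.Agent.S16126.exists_bialgHom g.2.isUnit.unit g.2.comul_eq_tmul_self
    let Ψ : Grp.mk (CoactBr.sp k A) ⟶ Grp.mk (CoactBr.sp k (MonoidAlgebra k (Multiplicative ℤ))) :=
      (hopfSpec (CommRingCat.of k)).map
        (CommHopfAlgCat.ofHom ψ : CommHopfAlgCat.of k (MonoidAlgebra k (Multiplicative ℤ)) ⟶ CommHopfAlgCat.of k A).op
    haveI : IsMonHom Ψ.hom.hom := Ψ.hom.isMonHom_hom
    have hΨ : Ψ.hom.hom.left = Spec.map (CommRingCat.ofHom (ψ : MonoidAlgebra k (Multiplicative ℤ) →+* A)) := rfl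
    let χ' : G ⟶ Red.Gm (Spec (CommRingCat.of k)) := gI.hom ≫ Ψ.hom.hom ≫ mI.inv
    refine ⟨CGrpSh.ptsMap Scheme.fppfPrecoverage χ', hΦ (congrArg Additive.ofMul (GroupLike.val_injective ?_))⟩
    show crd (val (CGrpSh.ptsMap Scheme.fppfPrecoverage i ≫ CGrpSh.ptsMap Scheme.fppfPrecoverage χ')) =
      crd (val (n • c))
    have e1 : crd (val (n • c)) = crd (val c) ^ n :=
      congrArg (fun z => (z.toMul : B)) (map_nsmul Φ n c)
    rw [e1]
    refine Eq.trans ?_ hg
    have e2 : Groth.Agent.HopfLib.SpPoints.algOf (((hI.inv ≫ i) ≫ χ') ≫ mI.hom) =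
        (π : A →ₐ[k] B).comp (ψ : MonoidAlgebra k (Multiplicative ℤ) →ₐ[k] A) := by
      apply CoactBr.pt_injective
      rw [Groth.Agent.HopfLib.SpPoints.pt_algOf]
      refine Over.OverMorphism.ext ?_
      have e3 : (((hI.inv ≫ i) ≫ χ') ≫ mI.hom).left = (hI.inv ≫ i ≫ gI.hom).left ≫ Ψ.hom.hom.left := by
        rw [← Over.comp_left]
        refine congrArg CommaMorphism.left ?_
        simp only [χ', Category.assoc, Iso.inv_hom_id, Category.comp_id]
        try rfl
      rw [e3, hπ, hΨ]
      exact (Spec.map_comp (CommRingCat.ofHom (ψ : MonoidAlgebra k (Multiplicative ℤ) →+* A))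
        (CommRingCat.ofHom (π : A →+* B))).symm
    show Groth.Agent.HopfLib.SpPoints.algOf (((hI.inv ≫ i) ≫ χ') ≫ mI.hom) one' = π (g : A)
    rw [e2]
    show π (ψ one') = _
    rw [hψ, zpow_one, IsUnit.unit_spec]
  exact AddSubgroup.finiteIndex_of_finite_quotient

end Groth.Agent.S13469
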