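import Groth.Statements.S13474
import Groth.Agent.GaDualLib.SplitUnipotent

set_option autoImplicit false
set_option backward.isDefEq.respectTransparency false
set_option backward.isDefEq.respectTransparency.types false
set_option synthInstance.maxHeartbeats 400000
set_option maxHeartbeats 1000000
universe u
open GaDual

namespace Groth.Agent.S13474

open CategoryTheory AlgebraicGeometry MonObj CategoryTheory.Limits in
/-- Let k be a field and U a split commutative unipotent k-group, given with a finite filtration by
commutative k-group schemes U₀, …, Uₙ = U with U₀ the trivial sheaf and each Uⱼ → Uⱼ₊₁ → G_a short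
exact as abelian sheaves on the big fppf site of Spec k. Then the first fppf cohomology group H^1(k,
Û) of the dual sheaf of U (internal Hom into the multiplicative group) vanishes. -/
theorem result (k : Type u) [Field k]
    (n : ℕ) (U : Fin (n + 1) → Over (Spec (CommRingCat.of k))) [∀ j, GrpObj (U j)] [∀ j, IsCommMonObj (U j)]
    (incl : ∀ j : Fin n, U j.castSucc ⟶ U j.succ) (proj : ∀ j : Fin n, U j.succ ⟶ Red.Ga (Spec (CommRingCat.of k)))
    [∀ j, IsMonHom (incl j)] [∀ j, IsMonHom (proj j)] (w : ∀ j, incl j ≫ proj j = 1)
    (hex : ∀ j, (CGrpSh.seq Scheme.fppfPrecoverage (incl j) (proj j) (w j)).ShortExact)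
    (h0 : IsZero (CGrpSh.pts Scheme.fppfPrecoverage (U 0))) :
    Subsingleton (BigSite.H Scheme.fppfPrecoverage (Spec (CommRingCat.of k))
      (CGrpSh2.dualSh Scheme.fppfPrecoverage (CGrpSh.pts Scheme.fppfPrecoverage (U (Fin.last n)))) 1) := by
  let X := Spec (CommRingCat.of k)
  let i := Injective.ι (CGrpSh.pts Scheme.fppfPrecoverage (Red.Gm X))
  have hM : (ShortComplex.mk i (cokernel.π i) (cokernel.condition i)).ShortExact :=
    { exact := ShortComplex.exact_cokernel _
      mono_f := inferInstanceAs (Mono (Injective.ι _))
      epi_g := inferInstanceAs (Epi (cokernel.π _)) }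
  exact Groth.Agent.CAlgH3.HomShAcyclic.subsingleton_H_of_lift (J := QuotSh.J Scheme.fppfPrecoverage X) Over.mkIdTerminal i
    (cokernel.π i) (cokernel.condition i) hM
    fun φ => Groth.Agent.GaDualLib.SplitUnipotent.exists_lift
      (Groth.Agent.GaDualLib.SplitUnipotent.pic_Ga_field k) i (cokernel.π i) (cokernel.condition i) hM
      U incl proj w hex h0 (Fin.last n) φ

end Groth.Agent.S13474
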