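import Groth.Statements.S1348
import Groth.Agent.FlatMorSlice.Bridge
import Mathlib.AlgebraicGeometry.Morphisms.FinitePresentation

set_option autoImplicit false
set_option backward.isDefEq.respectTransparency false
universe u
open FlatMor

namespace Groth.Agent.S1348

open AlgebraicGeometry CategoryTheory Limits in
/-- Let f be locally of finite presentation and flat at a point x with image s, and let h be an element
of the maximal ideal of the local ring at x whose image in the local ring of the fibre (the local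
ring at x modulo the ideal generated by the maximal ideal at s) is a nonzerodivisor. Then there is
an affine open neighbourhood U of x and a nonzerodivisor of its coordinate ring with germ h at x (so
its zero locus is an effective Cartier divisor of U through x) whose zero scheme is flat and locally
of finite presentation over the base. -/
theorem result {X S : Scheme.{u}} (f : X ⟶ S) [LocallyOfFinitePresentation f] (x : X)
    (hflat : (f.stalkMap x).hom.Flat) (h : X.presheaf.stalk x) (hm : h ∈ IsLocalRing.maximalIdeal (X.presheaf.stalk x))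
    (hreg : Ideal.Quotient.mk (Ideal.map (f.stalkMap x).hom (IsLocalRing.maximalIdeal (S.presheaf.stalk (f x)))) h ∈
      nonZeroDivisors (X.presheaf.stalk x ⧸ Ideal.map (f.stalkMap x).hom (IsLocalRing.maximalIdeal (S.presheaf.stalk (f x))))) :
    ∃ (U : X.Opens) (hU : IsAffineOpen U) (hx : x ∈ U) (h' : Γ(X, U)), X.presheaf.germ U x hx h' = h ∧ h' ∈ nonZeroDivisors Γ(X, U) ∧
      Flat (Spec.map (CommRingCat.ofHom (Ideal.Quotient.mk (Ideal.span {h'}))) ≫ hU.fromSpec ≫ f) ∧
      LocallyOfFinitePresentation (Spec.map (CommRingCat.ofHom (Ideal.Quotient.mk (Ideal.span {h'}))) ≫ hU.fromSpec ≫ f) := by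
  obtain ⟨_, ⟨T, (hT : IsAffineOpen T), rfl⟩, hsT, -⟩ := S.isBasis_affineOpens.exists_subset_of_mem_open
    (Set.mem_univ (f x)) isOpen_univ
  obtain ⟨U₀, hxU₀, h₀, hh₀⟩ := X.presheaf.exists_germ_eq h
  obtain ⟨_, ⟨U, (hU : IsAffineOpen U), rfl⟩, hxU, hUT⟩ := X.isBasis_affineOpens.exists_subset_of_mem_open
    (show x ∈ U₀ ⊓ f ⁻¹ᵁ T from ⟨hxU₀, hsT⟩) (U₀ ⊓ f ⁻¹ᵁ T).isOpen
  let e : U ≤ f ⁻¹ᵁ T := fun y hy => (hUT hy).2
  let h₁ : Γ(X, U) := X.presheaf.map (homOfLE (fun y hy => (hUT hy).1)).op h₀
  have hh₁ : X.presheaf.germ U x hxU h₁ = h := by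
    rw [← hh₀]
    exact TopCat.Presheaf.germ_res_apply _ _ _ _ _
  let φ := f.appLE T U e
  algebraize [φ.hom]
  have : Algebra.FinitePresentation Γ(S, T) Γ(X, U) :=
    LocallyOfFinitePresentation.finitePresentation_appLE f hT hU e
  let q := (hU.primeIdealOf ⟨x, hxU⟩).asIdeal
  have hfl := FlatMorSlice.flat_localized_of_stalkMap f hT hU e hxU hflat
  let _ := X.presheaf.algebra_section_stalk ⟨x, hxU⟩
  have := hU.isLocalization_stalk ⟨x, hxU⟩
  have hfib : FlatMorSlice.FibReg Γ(S, T) q [h₁] := by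
    intro i hi y hy
    obtain rfl : i = 0 := by simpa using hi
    simp only [List.getElem_cons_zero, List.take_zero, Ideal.ofList_nil, sup_bot_eq] at hy ⊢
    refine (IsLocalization.algebraMap_mem_map_algebraMap_iff q.primeCompl (X.presheaf.stalk x) _ _).1 ?_
    have hy' := (IsLocalization.algebraMap_mem_map_algebraMap_iff q.primeCompl (X.presheaf.stalk x) _ _).2 hy
    rw [show algebraMap Γ(X, U) (X.presheaf.stalk x) = (X.presheaf.germ U x hxU).hom from rfl,
      ← FlatMorSlice.map_stalkMap_maximalIdeal_eq f hT hU e hxU] at hy' ⊢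
    rw [map_mul, hh₁, ← Ideal.Quotient.eq_zero_iff_mem, map_mul] at hy'
    exact Ideal.Quotient.eq_zero_iff_mem.1
      ((mul_right_mem_nonZeroDivisors_eq_zero_iff hreg).1 ((mul_comm _ _).trans hy'))
  obtain ⟨d, hd, h₂, h₃⟩ := FlatMorSlice.exists_regular_sequence ⟨q, inferInstance⟩ hfl [h₁] hfib
  have hVd : IsAffineOpen (X.basicOpen d) := hU.basicOpen d
  let res : Γ(X, U) ⟶ Γ(X, X.basicOpen d) := X.presheaf.map (homOfLE (X.basicOpen_le d)).op
  let _ : Algebra Γ(X, U) Γ(X, X.basicOpen d) := res.hom.toAlgebra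
  let φd := f.appLE T (X.basicOpen d) ((X.basicOpen_le d).trans e)
  let _ : Algebra Γ(S, T) Γ(X, X.basicOpen d) := φd.hom.toAlgebra
  have : IsScalarTower Γ(S, T) Γ(X, U) Γ(X, X.basicOpen d) := .of_algebraMap_eq' (by
    show φd.hom = res.hom.comp φ.hom
    rw [← CommRingCat.hom_comp, Scheme.Hom.appLE_map])
  have : IsLocalization.Away d Γ(X, X.basicOpen d) := hU.isLocalization_basicOpen d
  obtain ⟨hw, hflat'⟩ := FlatMorSlice.isWeaklyRegular_and_flat_away [h₁] h₂ h₃ dvd_rfl
    Γ(X, X.basicOpen d)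
  have hxd : x ∈ X.basicOpen d := by
    rw [show x = hU.fromSpec (hU.primeIdealOf ⟨x, hxU⟩) from (hU.fromSpec_primeIdealOf ⟨x, hxU⟩).symm,
      ← Scheme.Hom.mem_preimage, hU.fromSpec_preimage_basicOpen]
    exact hd
  have hspan : (Ideal.ofList [h₁]).map (algebraMap Γ(X, U) Γ(X, X.basicOpen d)) =
      Ideal.span {res h₁} := by
    rw [Ideal.ofList_singleton, Ideal.map_span, Set.image_singleton]; rfl
  rw [hspan] at hflat'
  refine ⟨X.basicOpen d, hVd, hxd, res h₁, ?_, ?_, ?_, ?_⟩
  · rw [← hh₁]; exact TopCat.Presheaf.germ_res_apply _ _ _ _ _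
  · have h0 := (RingTheory.Sequence.isWeaklyRegular_cons_iff _ _ _).1 hw
    rw [mem_nonZeroDivisors_iff_right]
    intro y hy
    refine h0.1 ?_
    show res h₁ * y = res h₁ * 0
    rw [mul_zero, mul_comm, hy]
  all_goals
    rw [← hT.SpecMap_appLE_fromSpec f hVd ((X.basicOpen_le d).trans e), ← Category.assoc, ← Spec.map_comp]
  · exact MorphismProperty.comp_mem @Flat _ _
      ((HasRingHomProperty.Spec_iff (P := @Flat)).2 (RingHom.flat_algebraMap_iff.2 hflat')) inferInstance
  · refine MorphismProperty.comp_mem @LocallyOfFinitePresentation _ _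
      ((HasRingHomProperty.Spec_iff (P := @LocallyOfFinitePresentation)).2 ?_) inferInstance
    have : Algebra.FinitePresentation Γ(S, T) Γ(X, X.basicOpen d) :=
      LocallyOfFinitePresentation.finitePresentation_appLE f hT hVd ((X.basicOpen_le d).trans e)
    exact RingHom.finitePresentation_algebraMap.2
      (Algebra.FinitePresentation.quotient (R := Γ(S, T)) (Submodule.fg_span_singleton (res h₁)))

end Groth.Agent.S1348
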