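import Groth.Statements.S13482
import Groth.Agent.DerCompLib.SecData
import Groth.Agent.DCat.RDUnbounded

set_option autoImplicit false
universe u
open CategoryTheory CategoryTheory.Limits Opposite
attribute [local instance] HasDerivedCategory.standard
open DerComp

namespace Groth.Agent.S13482

open Groth.Agent Groth.Agent.DerCompLib

/-- Let f be a morphism of ringed sites from (C, O_C) to (D, O_D) whose ring map sends the sheaf of
ideals I of O_D into the sheaf of ideals I' of O_C. If M in D(O_C) is derived complete with respect
to I', then Rf_*M is derived complete with respect to I. (The published statement is for a morphism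
of ringed topoi; this row takes a morphism of ringed sites, which induces one.) -/
theorem result {C D : Type u} [SmallCategory C] [SmallCategory D] {J : GrothendieckTopology C} {K : GrothendieckTopology D} {O_C : Sheaf J CommRingCat.{u}} {O_D : Sheaf K CommRingCat.{u}} (f : ModSite.RMor O_C O_D) [SiteCmp.HasRpushD f] (I : DerComp.IdealSh O_D) (I' : DerComp.IdealSh O_C) (hf : DerComp.RMapsIdealInto f I I') (M : DerivedCategory (ModSite.Mod O_C)) (hM : DerComp.IsDerComp O_C I' M) : DerComp.IsDerComp O_D I ((SiteCmp.RpushD f).obj M) := by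
    obtain ⟨L, hL, hLI, ⟨e⟩⟩ := exists_kInj_rep M
    obtain ⟨N, η, hN, hη, -, hNI⟩ := DCat.exists_kInj_res (pushCx (rmorData f) L)
    haveI := DCat.isIso_unit_of_kInj (fun K => let ⟨I, f, hI, hf, _⟩ := DCat.exists_kInj_res K; ⟨I, f, hI, hf⟩) (SiteCmp.pushKh f) L hL
    have hQ : IsIso (DerivedCategory.Q.map η) :=
      Localization.inverts DerivedCategory.Q (HomologicalComplex.quasiIso _ _) η hη
    have e' : (SiteCmp.RpushD f).obj M ≅ DerivedCategory.Q.obj N :=
      (SiteCmp.RpushD f).mapIso e ≪≫
        (SiteCmp.RpushD f).mapIso ((DerivedCategory.quotientCompQhIso _).app L).symm ≪≫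
        (asIso ((( SiteCmp.pushKh f).totalRightDerivedUnit DerivedCategory.Qh
          (HomotopyCategory.quasiIso (ModSite.Mod O_C) (ComplexShape.up ℤ))).app
          ((HomotopyCategory.quotient _ _).obj L))).symm ≪≫
        DerivedCategory.Qh.mapIso ((f.push.mapHomotopyCategoryFactors _).app L) ≪≫
        (DerivedCategory.quotientCompQhIso _).app _ ≪≫ @asIso _ _ _ _ (DerivedCategory.Q.map η) hQ
    rw [isDerComp_iff_secIdeal N hNI e' I]
    intro E g hg
    rw [mem_secIdeal_iff (rmorData f) L η E (locFlat_rmor f)]
    exact (isDerComp_iff_secIdeal L hLI e I').1 hM _ (hf E g hg)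

end Groth.Agent.S13482
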