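import Groth.Statements.S1349
import Groth.Agent.FlatMorSlice.Bridge
import Mathlib.AlgebraicGeometry.Morphisms.QuasiFinite
import Mathlib.AlgebraicGeometry.Morphisms.FinitePresentation

set_option autoImplicit false
set_option backward.isDefEq.respectTransparency false
universe u
open FlatMor

namespace Groth.Agent.S1349

open AlgebraicGeometry CategoryTheory Limits in
/-- Let f be locally of finite presentation and Cohen–Macaulay at a point x which is closed in its
fibre. Then there are an open neighbourhood V of x and a regular closed immersion i into V whose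
image contains x, such that the composite Z ⟶ V ⟶ X ⟶ S is flat, locally of finite presentation and
locally quasi-finite, and x is the only point of (the image of) Z lying over the image of x. -/
theorem result {X S : Scheme.{u}} (f : X ⟶ S) [LocallyOfFinitePresentation f] (x : X)
    (hcm : MoreMor.IsCMAt f x) (hcl : IsClosed ({f.asFiber x} : Set ↑(f.fiber (f x)))) :
    ∃ (V : X.Opens) (Z : Scheme.{u}) (i : Z ⟶ (V : Scheme.{u})), Mor2.IsRegularClosedImmersion i ∧ x ∈ Set.range ⇑(i ≫ V.ι) ∧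
      Flat (i ≫ V.ι ≫ f) ∧ LocallyOfFinitePresentation (i ≫ V.ι ≫ f) ∧ LocallyQuasiFinite (i ≫ V.ι ≫ f) ∧
      ∀ z : Z, f (V.ι (i z)) = f x → V.ι (i z) = x := by
  obtain ⟨hflat, hcm⟩ := hcm
  obtain ⟨_, ⟨T, (hT : IsAffineOpen T), rfl⟩, hsT, -⟩ := S.isBasis_affineOpens.exists_subset_of_mem_open
    (Set.mem_univ (f x)) isOpen_univ
  obtain ⟨_, ⟨U, (hU : IsAffineOpen U), rfl⟩, hxU, hUT⟩ := X.isBasis_affineOpens.exists_subset_of_mem_open
    (show x ∈ f ⁻¹ᵁ T from hsT) (f ⁻¹ᵁ T).isOpen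
  let e : U ≤ f ⁻¹ᵁ T := hUT
  let φ := f.appLE T U e
  algebraize [φ.hom]
  have : Algebra.FinitePresentation Γ(S, T) Γ(X, U) :=
    LocallyOfFinitePresentation.finitePresentation_appLE f hT hU e
  let q := (hU.primeIdealOf ⟨x, hxU⟩).asIdeal
  have hfl := FlatMorSlice.flat_localized_of_stalkMap f hT hU e hxU hflat
  obtain ⟨ψ, hψ⟩ := FlatMorSlice.exists_fibPres f hT hU e hxU
  -- primes of `U` and their images
  have himg : ∀ r : PrimeSpectrum Γ(X, U), hT.fromSpec (PrimeSpectrum.comap (algebraMap Γ(S, T) Γ(X, U)) r) =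
      f (hU.fromSpec r) := fun r => by
    show (Spec.map φ ≫ hT.fromSpec) r = (hU.fromSpec ≫ f) r
    rw [hT.SpecMap_appLE_fromSpec f hU e]
  have himgq : hU.fromSpec ⟨q, inferInstance⟩ = x := hU.fromSpec_primeIdealOf ⟨x, hxU⟩
  have hmax : ∀ r : Ideal Γ(X, U), r.IsPrime → q ≤ r →
      r.comap (algebraMap Γ(S, T) Γ(X, U)) = q.comap (algebraMap Γ(S, T) Γ(X, U)) → r = q := by
    intro r hr hle he
    let y := hU.fromSpec ⟨r, hr⟩
    have hfy : f y = f x := by
      rw [← himgq, ← himg, ← himg]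
      exact congrArg hT.fromSpec (PrimeSpectrum.ext he)
    have hsp : x ⤳ y := himgq ▸ ((PrimeSpectrum.le_iff_specializes ⟨q, inferInstance⟩ ⟨r, hr⟩).1 hle).map
      hU.fromSpec.continuous
    obtain ⟨y', hy'⟩ : y ∈ Set.range (f.fiberι (f x)) := by rw [f.range_fiberι]; exact hfy
    have hsp' : f.asFiber x ⤳ y' := (f.fiberι (f x)).isEmbedding.toIsInducing.specializes_iff.1 (by
      rw [hy', f.fiberι_asFiber]; exact hsp)
    have hyx : y = x := by rw [← hy', show y' = f.asFiber x from hsp'.mem_closed hcl rfl, f.fiberι_asFiber]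
    exact congrArg PrimeSpectrum.asIdeal
      (hU.fromSpec.isOpenEmbedding.injective (hyx.trans himgq.symm) :
        (⟨r, hr⟩ : PrimeSpectrum Γ(X, U)) = ⟨q, inferInstance⟩)
  obtain ⟨d, hd, rs, hrs, hL, huniq⟩ := FlatMorSlice.exists_cm_slice hfl hψ hmax
  have hVd : IsAffineOpen (X.basicOpen d) := hU.basicOpen d
  let res : Γ(X, U) ⟶ Γ(X, X.basicOpen d) := X.presheaf.map (homOfLE (X.basicOpen_le d)).op
  let _ : Algebra Γ(X, U) Γ(X, X.basicOpen d) := res.hom.toAlgebra
  let φd := f.appLE T (X.basicOpen d) ((X.basicOpen_le d).trans e)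
  let _ : Algebra Γ(S, T) Γ(X, X.basicOpen d) := φd.hom.toAlgebra
  have : IsScalarTower Γ(S, T) Γ(X, U) Γ(X, X.basicOpen d) := .of_algebraMap_eq' (by
    show φd.hom = res.hom.comp φ.hom
    rw [← CommRingCat.hom_comp, Scheme.Hom.appLE_map])
  have : IsLocalization.Away d Γ(X, X.basicOpen d) := hU.isLocalization_basicOpen d
  obtain ⟨hw, hfp, hflat', hqf⟩ := hL Γ(X, X.basicOpen d)
  have hxd : x ∈ X.basicOpen d := by
    rw [← himgq, ← Scheme.Hom.mem_preimage, hU.fromSpec_preimage_basicOpen]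
    exact hd
  let qd := (hVd.primeIdealOf ⟨x, hxd⟩).asIdeal
  have hcomp : ∀ P : PrimeSpectrum Γ(X, X.basicOpen d),
      hU.fromSpec (PrimeSpectrum.comap res.hom P) = hVd.fromSpec P := fun P => by
    show (Spec.map res ≫ hU.fromSpec) P = hVd.fromSpec P
    rw [IsAffineOpen.map_fromSpec hU hVd]
  have hqd : qd.comap res.hom = q := congrArg PrimeSpectrum.asIdeal
    (hU.fromSpec.isOpenEmbedding.injective
      (((hcomp _).trans (hVd.fromSpec_primeIdealOf ⟨x, hxd⟩)).trans himgq.symm))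
  let rs' := rs.map (algebraMap Γ(X, U) Γ(X, X.basicOpen d))
  have hle : Ideal.ofList rs' ≤ qd := Ideal.span_le.2 fun y hy => by
    obtain ⟨g, hg, rfl⟩ := List.mem_map.1 hy
    have : g ∈ qd.comap res.hom := hqd ▸ hrs g hg
    exact this
  have hreg : RingTheory.Sequence.IsRegular Γ(X, X.basicOpen d) rs' :=
    ⟨hw, fun h => (hVd.primeIdealOf ⟨x, hxd⟩).2.ne_top (top_le_iff.1 (by
      rw [Ideal.smul_eq_mul, Ideal.mul_top] at h; exact h ▸ hle))⟩
  let mk : Γ(X, X.basicOpen d) ⟶ CommRingCat.of (Γ(X, X.basicOpen d) ⧸ Ideal.ofList rs') :=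
    CommRingCat.ofHom (Ideal.Quotient.mk _)
  have hmk : (Ideal.ofList rs).map (algebraMap Γ(X, U) Γ(X, X.basicOpen d)) = Ideal.ofList rs' :=
    Ideal.map_ofList _ _
  rw [hmk] at hfp hflat' hqf
  let i : Spec (.of (Γ(X, X.basicOpen d) ⧸ Ideal.ofList rs')) ⟶ (X.basicOpen d).toScheme :=
    Spec.map mk ≫ hVd.isoSpec.inv
  have hι : i ≫ (X.basicOpen d).ι = Spec.map mk ≫ hVd.fromSpec := by
    rw [Category.assoc]; rfl
  have hi : i ≫ (X.basicOpen d).ι ≫ f = Spec.map (CommRingCat.ofHom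
      (algebraMap Γ(S, T) (Γ(X, X.basicOpen d) ⧸ Ideal.ofList rs'))) ≫ hT.fromSpec := by
    rw [reassoc_of% hι, ← hT.SpecMap_appLE_fromSpec f hVd ((X.basicOpen_le d).trans e),
      ← Category.assoc, ← Spec.map_comp]
    rfl
  have h₁ := (HasRingHomProperty.Spec_iff (P := @Flat) (φ := CommRingCat.ofHom
    (algebraMap Γ(S, T) (Γ(X, X.basicOpen d) ⧸ Ideal.ofList rs')))).2 (RingHom.flat_algebraMap_iff.2 hflat')
  have h₂ := (HasRingHomProperty.Spec_iff (P := @LocallyOfFinitePresentation) (φ := CommRingCat.ofHom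
    (algebraMap Γ(S, T) (Γ(X, X.basicOpen d) ⧸ Ideal.ofList rs')))).2 (RingHom.finitePresentation_algebraMap.2 hfp)
  have h₃ := (HasRingHomProperty.Spec_iff (P := @LocallyQuasiFinite) (φ := CommRingCat.ofHom
    (algebraMap Γ(S, T) (Γ(X, X.basicOpen d) ⧸ Ideal.ofList rs')))).2 (RingHom.quasiFinite_algebraMap.2 hqf)
  have hqd' : (qd.map (Ideal.Quotient.mk (Ideal.ofList rs'))).IsPrime :=
    Ideal.map_isPrime_of_surjective Ideal.Quotient.mk_surjective (by rwa [Ideal.mk_ker])
  refine ⟨X.basicOpen d, _, i, FlatMorSlice.isRegularClosedImmersion_of_iso hVd.isoSpec rs' hreg,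
    ⟨⟨_, hqd'⟩, ?_⟩, ?_, ?_, ?_, fun z hz => ?_⟩
  · rw [hι]
    refine Eq.trans ?_ (hVd.fromSpec_primeIdealOf ⟨x, hxd⟩)
    refine congrArg hVd.fromSpec (PrimeSpectrum.ext ?_)
    show (qd.map (Ideal.Quotient.mk _)).comap (Ideal.Quotient.mk _) = qd
    rw [Ideal.comap_map_of_surjective _ Ideal.Quotient.mk_surjective, ← RingHom.ker_eq_comap_bot,
      Ideal.mk_ker, sup_eq_left.2 hle]
  · rw [hi]; exact MorphismProperty.comp_mem @Flat _ _ h₁ inferInstance
  · rw [hi]; exact MorphismProperty.comp_mem @LocallyOfFinitePresentation _ _ h₂ inferInstance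
  · rw [hi]; exact MorphismProperty.comp_mem @LocallyQuasiFinite _ _ h₃ inferInstance
  · let P : PrimeSpectrum Γ(X, X.basicOpen d) := PrimeSpectrum.comap mk.hom z
    let r : PrimeSpectrum Γ(X, U) := PrimeSpectrum.comap res.hom P
    have hiz : (X.basicOpen d).ι (i z) = hU.fromSpec r := by
      rw [hcomp]
      exact congrArg (fun g : _ ⟶ X => g z) hι
    have hrq : r.asIdeal = q := by
      refine huniq r.asIdeal r.2 (Ideal.span_le.2 fun g hg => ?_) (fun hdr => ?_) ?_
      · show mk.hom (res.hom g) ∈ z.asIdeal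
        rw [show mk.hom (res.hom g) = 0 from Ideal.Quotient.eq_zero_iff_mem.2
          (Ideal.subset_span (List.mem_map.2 ⟨g, hg, rfl⟩))]
        exact zero_mem _
      · exact P.2.ne_top (Ideal.eq_top_of_isUnit_mem _ hdr
          (IsLocalization.Away.algebraMap_isUnit (S := Γ(X, X.basicOpen d)) d))
      · exact congrArg PrimeSpectrum.asIdeal (hT.fromSpec.isOpenEmbedding.injective (by
          rw [himg, himg, himgq, ← hiz]; exact hz) :
            PrimeSpectrum.comap (algebraMap Γ(S, T) Γ(X, U)) r =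
              PrimeSpectrum.comap (algebraMap Γ(S, T) Γ(X, U)) ⟨q, inferInstance⟩)
    rw [hiz, ← himgq]
    exact congrArg hU.fromSpec (PrimeSpectrum.ext hrq)

end Groth.Agent.S1349
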