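import Groth.Statements.S13490
import Groth.Agent.DerCompLib.KoszulRpush

set_option autoImplicit false
universe u
open CategoryTheory CategoryTheory.Limits Opposite
attribute [local instance] HasDerivedCategory.standard
open DerComp

namespace Groth.Agent.S13490

open Groth.Agent Groth.Agent.DerCompLib CategoryTheory.Pretriangulated

/-- Let f be a morphism of ringed sites from (C, O_C) to (D, O_D), let I be a finite type sheaf of
ideals of O_D and let I' be the sheaf of ideals of O_C generated by the image of I under the ring
map of f. Then Rf_* commutes with derived completion: for K in D(O_C) the canonical map from the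
I-completion of Rf_*K to Rf_* of the I'-completion of K, obtained from the universal property of
derived completion and the fact (taken as a hypothesis) that the target is derived complete, is an
isomorphism. (The published statement is for a morphism of ringed topoi; this row takes a morphism
of ringed sites.) -/
theorem result {C D : Type u} [SmallCategory C] [SmallCategory D] {J : GrothendieckTopology C} {K : GrothendieckTopology D} {O_C : Sheaf J CommRingCat.{u}} {O_D : Sheaf K CommRingCat.{u}} (f : ModSite.RMor O_C O_D) [SiteCmp.HasRpushD f] (I : DerComp.IdealSh O_D) (hI : I.IsFiniteType) (I' : DerComp.IdealSh O_C) (hI' : DerComp.RIsIdealExt f I I') [DerComp.HasDerCompletion O_D I] [DerComp.HasDerCompletion O_C I'] (M : DerivedCategory (ModSite.Mod O_C)) (h : DerComp.IsDerComp O_D I ((SiteCmp.RpushD f).obj ((DerComp.derCompletion O_C I').obj M).obj)) : IsIso (((DerComp.derCompletionAdj O_D I).homEquiv ((SiteCmp.RpushD f).obj M) ⟨(SiteCmp.RpushD f).obj ((DerComp.derCompletion O_C I').obj M).obj, h⟩).symm ((SiteCmp.RpushD f).map (DerComp.toDerCompletion I' M))) := by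
    haveI : (rmorData f).fn.IsContinuous K J := inferInstanceAs (f.fn.IsContinuous K J)
    let R := rfModel (rmorData f)
    let ι : SiteCmp.RpushD f ≅ R := DCat.rfIso (enoughKInjMod O_C) (SiteCmp.pushKh f)
    let η := DerComp.toDerCompletion I' M
    let W : DerComp.DComp O_D I := ⟨_, h⟩
    let φ := (SiteCmp.RpushD f).map η
    let u := ((DerComp.derCompletionAdj O_D I).homEquiv ((SiteCmp.RpushD f).obj M) W).symm φ
    have hu : DerComp.toDerCompletion I ((SiteCmp.RpushD f).obj M) ≫ (DerComp.IsDerComp O_D I).ι.map u = φ :=
      ((DerComp.derCompletionAdj O_D I).homEquiv_unit (f := u)).symm.trans (Equiv.apply_symm_apply _ _)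
    suffices IsIso u from this
    suffices IsIso ((DerComp.IsDerComp O_D I).ι.map u) from
      isIso_of_reflects_iso u (DerComp.IsDerComp O_D I).ι
    obtain ⟨Z, p, q, hT⟩ := distinguished_cocone_triangle ((DerComp.IsDerComp O_D I).ι.map u)
    refine (Triangle.isZero₃_iff_isIso₁ _ hT).1 ?_
    have hZ : DerComp.IsDerComp O_D I Z := isDerComp_obj₃ I _ hT
      ((DerComp.derCompletion O_D I).obj _).property h
    refine isZero_of_complete_of_cover I hZ fun U => ?_
    obtain ⟨S, hS, hgen⟩ := hI U
    refine ⟨S, hS, fun V g hg => ?_⟩
    obtain ⟨r, a, ha⟩ := hgen g hg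
    refine ⟨r, a, fun j => by
      have := ha.1 j (Over.mk (𝟙 V))
      simp [DerComp.GSec.ofSect, DerComp.IdealSh.over] at this
      exact this, ?_⟩
    refine (kz_obj₃_iff a _ hT).2 (KZMor.of_comp a ?_ (kzMor_toDerCompletion a I
      (fun E g hg => locallyInSpan_of_genBy a I ha hg) _))
    change KZMor a (_ ≫ (DerComp.IsDerComp O_D I).ι.map u)
    rw [hu]
    refine kzMor_of_iso a ι η ?_
    obtain ⟨C', p', q', hC⟩ := distinguished_cocone_triangle η
    refine (kz_obj₃_iff a _ (R.map_distinguished _ hC)).1 (kz_rfModel (rmorData f) (locFlat_rmor f) a ?_)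
    refine (kz_obj₃_iff _ _ hC).2 (kzMor_toDerCompletion _ I' (fun E g hg => ?_) M)
    exact (mem_localSpanSh _ g).1 (hI'.2 (localSpanSh (sigmaFam (rmorData f) V a))
      (fun E g hg => (mem_localSpanSh _ _).2 (locallyInSpan_push (rmorData f) (locFlat_rmor f) a
        (locallyInSpan_of_genBy a I ha hg))) E hg)

end Groth.Agent.S13490
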