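import Groth.Statements.S13495
import Groth.Agent.DerCompLib.OpenAffine

set_option autoImplicit false
universe u
open CategoryTheory CategoryTheory.Limits Opposite TopologicalSpace AlgebraicGeometry
attribute [local instance] HasDerivedCategory.standard
open DerComp

namespace Groth.Agent.S13495

/-- Let X be a locally Noetherian scheme, I a quasi-coherent sheaf of ideals of O_X and F a coherent
O_X-module; then H^p(U, F^) = 0 for all p ≠ 0 and all affine opens U of X, with F^ denoting the
derived I-completion of F. Quasi-coherence of I is stated as: on every affine open U and every basic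
open D(g) inside it, I(D(g)) is the ideal generated by the restriction of I(U). H^p(U, K) for K in
D(O_X) is the group of morphisms from the extension by zero of O_U, placed in degree 0, to K[p]. -/
theorem result (X : Scheme.{u}) [IsLocallyNoetherian X] (𝓘 : DerComp.IdealSh X.sheaf) (hqc : ∀ (U : X.affineOpens) (g : Γ(X, ↑U)), 𝓘.ideal (X.basicOpen g) = Ideal.map (X.presheaf.map (homOfLE (X.basicOpen_le g)).op).hom (𝓘.ideal ↑U)) [DerComp.HasDerCompletion X.sheaf 𝓘] (F : X.Modules) (hF : Coh.IsCoh F) (U : X.Opens) (hU : IsAffineOpen U) (p : ℤ) (hp : p ≠ 0) : Subsingleton (SiteCmp.inD X.sheaf (ModSite.freeOn X.sheaf U) ⟶ ((DerComp.derCompletion X.sheaf 𝓘).obj (SiteCmp.inD X.sheaf F)).obj⟦p⟧) := by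
  exact DerCompLib.OpenAffine.main 𝓘 hqc F hF hU p hp

end Groth.Agent.S13495
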