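import Groth.Statements.S13496
import Groth.Agent.DerCompLib.AffineCompl
import Groth.Agent.CAlgH.PowerSeriesEval

set_option autoImplicit false
universe u
open CategoryTheory CategoryTheory.Limits Opposite TopologicalSpace AlgebraicGeometry
attribute [local instance] HasDerivedCategory.standard
open DerComp

namespace Groth.Agent.S13496

theorem aux {A : Type*} [CommRing A] (I : Ideal A) (hI : I.FG) {M N : Type*} [AddCommGroup M] [Module A M]
    [AddCommGroup N] [Module A N] (f : M →ₗ[A] N) (e : N ≃ₗ[A] AdicCompletion I M)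
    (he : ∀ x, e (f x) = AdicCompletion.of I M x) :
    IsAdicComplete I N ∧ ∀ n : ℕ, (∀ y : N, ∃ x : M, f x - y ∈ (I ^ n • ⊤ : Submodule A N)) ∧
      (∀ x : M, f x ∈ (I ^ n • ⊤ : Submodule A N) → x ∈ (I ^ n • ⊤ : Submodule A M)) := by
  haveI := AdicCompletion.isAdicComplete (M := M) hI
  have hm : ∀ n (z : N), z ∈ (I ^ n • ⊤ : Submodule A N) ↔ AdicCompletion.eval I M n (e z) = 0 := fun n z => by
    rw [← LinearMap.mem_ker, ← AdicCompletion.pow_smul_top_eq_ker_eval hI]
    have h := Submodule.map_smul'' (I ^ n) (⊤ : Submodule A N) e.toLinearMap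
    rw [Submodule.map_top, LinearMap.range_eq_top.2 e.surjective] at h
    rw [← h, Submodule.mem_map_equiv]
    simp
  refine ⟨CAlgH.isAdicComplete_of_linearEquiv e.symm, fun n => ⟨fun y => ?_, fun x hx => ?_⟩⟩
  · obtain ⟨x, hx⟩ := Submodule.Quotient.mk_surjective _ (AdicCompletion.eval I M n (e y))
    refine ⟨x, (hm n _).2 ?_⟩
    rw [map_sub, map_sub, he, AdicCompletion.eval_of, ← hx]
    exact sub_self _
  · have h := (hm n _).1 hx
    rw [he, AdicCompletion.eval_of] at h
    exact (Submodule.Quotient.mk_eq_zero _).1 h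

/-- Affine case U = X: let X be an affine Noetherian scheme, A its ring of global sections, I an ideal
of A and J = I O_X the (quasi-coherent) sheaf of ideals generated by the elements of I; take a
pseudo-coherent K in D(O_X), and write K^ for its derived J-completion. Then for every p, H^p(X, K^)
= lim_n H^p(X, K)/I^n H^p(X, K), the I-adic completion of H^p(X, K): precisely, H^p(X, K^) is
I-adically complete and the map H^p(X, K) -> H^p(X, K^) induced by K -> K^ identifies H^p(X, K)/I^n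
with H^p(X, K^)/I^n for every n. Here H^p(X, -) is the A-module of morphisms from O_X in degree 0 to
the p-th shift. (The published statement is for an affine open U of a locally Noetherian scheme;
restricting to U reduces it to this case since derived completion commutes with restriction to
opens; its second equality, with the derived completion of the module H^p(X, K), is not stated.) -/
theorem result (X : Scheme.{u}) [IsAffine X] [IsNoetherian X] (I : Ideal (DerComp.GSec X.sheaf)) (𝓘 : DerComp.IdealSh X.sheaf) (h𝓘 : 𝓘.IsGenBy (fun a : I => (a : DerComp.GSec X.sheaf))) [DerComp.HasDerCompletion X.sheaf 𝓘] (K : DerivedCategory (ModSite.Mod X.sheaf)) (hK : ∀ m : ℤ, DCoh.IsPseudoCoherentD (X := X) m K) (p : ℤ) : IsAdicComplete I (SiteCmp.inD X.sheaf (ModSite.unit X.sheaf) ⟶ ((DerComp.derCompletion X.sheaf 𝓘).obj K).obj⟦p⟧) ∧ ∀ n : ℕ, (∀ y : (SiteCmp.inD X.sheaf (ModSite.unit X.sheaf) ⟶ ((DerComp.derCompletion X.sheaf 𝓘).obj K).obj⟦p⟧), ∃ x : (SiteCmp.inD X.sheaf (ModSite.unit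 X.sheaf) ⟶ K⟦p⟧), (Linear.rightComp (DerComp.GSec X.sheaf) (SiteCmp.inD X.sheaf (ModSite.unit X.sheaf)) ((shiftFunctor (DerivedCategory (ModSite.Mod X.sheaf)) p).map (DerComp.toDerCompletion 𝓘 K))) x - y ∈ (I ^ n • ⊤ : Submodule (DerComp.GSec X.sheaf) (SiteCmp.inD X.sheaf (ModSite.unit X.sheaf) ⟶ ((DerComp.derCompletion X.sheaf 𝓘).obj K).obj⟦p⟧))) ∧ (∀ x : (SiteCmp.inD X.sheaf (ModSite.unit X.sheaf) ⟶ K⟦p⟧), (Linear.rightComp (DerComp.GSec X.sheaf) (SiteCmp.inD X.sheaf (ModSite.unit X.sheaf)) ((shiftFunctor (DerivedCategory (ModSite.Mod X.sheaf)) p).map (DerComp.toDerCompletion 𝓘 K))) x ∈ (I ^ n • ⊤ : Submodule (DerComp.GSec X.sheaf) (SiteCmp.inD X.sheaf (ModSite.unit X.sheaf) ⟶ ((DerComp.derCompletion X.sheaf 𝓘).obj K).obj⟦p⟧)) → x ∈ (I ^ n • ⊤ : Submodule (DerComp.GSec X.sheaf) (SiteCmp.inD X.sheaf (ModSite.unit X.sheaf) ⟶ K⟦p⟧))) := by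
  obtain ⟨hI, e, he⟩ := DerCompLib.AffGamma.main I 𝓘 h𝓘 K hK p
  exact aux I hI _ e he

end Groth.Agent.S13496
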