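import Groth.Statements.S13497
import Groth.Agent.CAlgH3.RGam.CechH0
import Groth.Agent.AdicRing.Basic
-- import your own Groth.Agent.* helpers here

set_option autoImplicit false
universe u
open CategoryTheory CategoryTheory.Limits
attribute [local instance] HasDerivedCategory.standard
open LocCoh

namespace Groth.Agent.S13497

/-- Let I and J be ideals of a Noetherian ring A which is I-adically complete, and M a finite A-module.
Then H^0 of the derived I-adic completion of RGamma_J(M) is the filtered colimit (union) of the
submodules H^0_{V(J')}(M) of J'-power torsion elements of M, over the ideals J' contained in J with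
V(J') ∩ V(I) = V(J) ∩ V(I), that is with J contained in the radical of J' + I. Precisely: the map on
H^0 induced by the completion of RGamma_J(M) -> M is injective, and its range is the image of that
union under M -> H^0(M^) (H^0 of the completion unit of M in degree 0). RGamma_J is the total right
derived functor of the J-power torsion functor (which is RGamma_{V(J)} since A is Noetherian); its
existence, and that of derived I-completion, are instance hypotheses. -/
theorem result (A : Type u) [CommRing A] [IsNoetherianRing A] (I J : Ideal A) [IsAdicComplete I A] [DRing.HasRgammaI J] [DRing.HasDerivedCompletion I] (M : Type u) [AddCommGroup M] [Module A M] [Module.Finite A M] : Function.Injective ((DerivedCategory.homologyFunctor (ModuleCat.{u} A) 0).map ((ObjectProperty.ι (DRing.IsDerivedComplete I)).map ((DRing.derivedCompletion I).map ((DRing.RgammaIε J).app (Dual.inD A M))))).hom ∧ Set.range ((DerivedCategory.homologyFunctor (ModuleCat.{u} A) 0).map ((ObjectProperty.ι (DRing.IsDerivedComplete I)).map ((DRing.derivedCompletion I).map ((DRing.RgammaIε J).app (Dual.inD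 A M))))).hom = (fun s : M => ((DerivedCategory.homologyFunctor (ModuleCat.{u} A) 0).map (DRing.toDerivedCompletion I (Dual.inD A M))).hom (((DerivedCategory.singleFunctorCompHomologyFunctorIso (ModuleCat.{u} A) 0).inv.app (ModuleCat.of A M)).hom s)) '' {s : M | ∃ J' : Ideal A, J' ≤ J ∧ J ≤ (J' ⊔ I).radical ∧ s ∈ DRing.torsionSub J' M} := by
  open Groth.Agent.CAlgH3.RGam in
  open Groth.Agent.CAlgH3.RGam.CechF in
  open Groth.Agent.CAlgH3.RGam.Lam in
  open Groth.Agent.DCat.DC in
    obtain ⟨s, hs⟩ := exists_list J
    let MM := ModuleCat.of A M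
    let H := DerivedCategory.homologyFunctor (ModuleCat.{u} A) 0
    let ν := (SingleFunctors.evaluation _ _ 0).mapIso (DerivedCategory.singleFunctorsPostcompQIso (ModuleCat.{u} A))
    let K := Dual.inD A M
    let νM : K ≅ DerivedCategory.Q.obj (single0 MM) := ν.app MM
    have hM : FinAlg MM := finAlg_of_finite M
    have hc : IsCompl I (νM.hom ≫ DerivedCategory.Q.map ((sgl A).map ((ofN I).app MM))) :=
      ⟨(isCompl_cN [] MM hM).1, (cIso_of_isIso νM.hom).comp (cIso_ofN hM)⟩
    obtain ⟨e, he⟩ := exists_compare J hs MM
    let e' := e ≪≫ (DRing.RgammaI J).mapIso νM.symm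
    have he' : e'.hom ≫ (DRing.RgammaIε J).app K = DerivedCategory.Q.map (aug (𝟭 _) s MM) ≫ νM.inv := by
      rw [← he]
      simp only [e', Iso.trans_hom, Functor.mapIso_hom, Iso.symm_hom, Category.assoc]
      rw [(DRing.RgammaIε J).naturality νM.inv]
      rfl
    have hr : IsCompl I (e'.inv ≫ DerivedCategory.Q.map ((cN (ofN I) s).app MM)) :=
      ⟨(isCompl_cN s MM hM).1, (cIso_of_isIso e'.inv).comp (isCompl_cN s MM hM).2⟩
    obtain ⟨v, hv⟩ := (isCompl_toDerivedCompletion I K).exists_iso hc
    obtain ⟨w, hw⟩ := (isCompl_toDerivedCompletion I ((DRing.RgammaI J).obj K)).exists_iso hr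
    set α := (ObjectProperty.ι (DRing.IsDerivedComplete I)).map ((DRing.derivedCompletion I).map ((DRing.RgammaIε J).app K))
    have hα : α = w.hom ≫ DerivedCategory.Q.map (aug (Lam I) s MM) ≫ v.inv := by
      have n := (DRing.derivedCompletionAdj I).unit.naturality ((DRing.RgammaIε J).app K)
      refine ((isCompl_toDerivedCompletion I ((DRing.RgammaI J).obj K)).2 _
        ((DRing.derivedCompletion I).obj K).property).1 ?_
      show DRing.toDerivedCompletion I _ ≫ α = DRing.toDerivedCompletion I _ ≫ w.hom ≫ _ ≫ v.inv
      refine n.symm.trans ?_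
      show (DRing.RgammaIε J).app K ≫ DRing.toDerivedCompletion I K = _
      rw [reassoc_of% hw, ← cancel_mono v.hom, Category.assoc, hv, ← cancel_epi e'.hom, reassoc_of% he']
      simp only [Category.assoc, Iso.inv_hom_id_assoc, Iso.hom_inv_id_assoc, Iso.inv_hom_id, Category.comp_id]
      rw [← Functor.map_comp, ← Functor.map_comp, aug_cN]
    let L0 := (H.mapIso v) ≪≫ (τ A).app ((Lam I).obj MM)
    have hL : ∀ y, L0.hom.hom ((H.map α).hom y) = (H0 (Lam I) s MM).hom ((H.map w.hom).hom y) := fun y => by
      have h : H.map α ≫ L0.hom = H.map w.hom ≫ H0 (Lam I) s MM := by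
        simp only [hα, L0, H0, Iso.trans_hom, Functor.mapIso_hom, Iso.app_hom, Functor.map_comp, Category.assoc]
        rw [← H.map_comp_assoc v.inv v.hom, Iso.inv_hom_id, H.map_id, Category.id_comp]
      exact congrArg (fun φ => φ.hom y) h
    have hcan : ∀ x : M, L0.hom.hom ((H.map (DRing.toDerivedCompletion I K)).hom
        (((DerivedCategory.singleFunctorCompHomologyFunctorIso (ModuleCat.{u} A) 0).inv.app MM).hom x)) =
          AdicCompletion.of I M x := fun x => by
      have h : (DerivedCategory.singleFunctorCompHomologyFunctorIso (ModuleCat.{u} A) 0).inv.app MM ≫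
          H.map (DRing.toDerivedCompletion I K) ≫ L0.hom = (ofN I).app MM := by
        have n := (τ A).hom.naturality ((ofN I).app MM)
        simp only [L0, Iso.trans_hom, Functor.mapIso_hom, Iso.app_hom]
        rw [← H.map_comp_assoc, hv, H.map_comp, Category.assoc]
        erw [n]
        rw [← Category.assoc, ← Category.assoc]
        refine (congrArg (· ≫ _) ?_).trans (Category.id_comp _)
        refine Eq.trans ?_ ((DerivedCategory.singleFunctorCompHomologyFunctorIso (ModuleCat.{u} A) 0).inv_hom_id_app MM)
        rw [Category.assoc]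
        refine congrArg (_ ≫ ·) ?_
        simp [DerivedCategory.singleFunctorCompHomologyFunctorIso, τ, νM, ν, H]
        rfl
      exact congrArg (fun φ => φ.hom x) h
    have hLi : Function.Injective L0.hom.hom := L0.toLinearEquiv.injective
    refine ⟨fun a b h => (H.mapIso w).toLinearEquiv.injective (injective_H0 s MM ?_), ?_⟩
    · show (H0 (Lam I) s MM).hom ((H.map w.hom).hom a) = (H0 (Lam I) s MM).hom ((H.map w.hom).hom b)
      rw [← hL, ← hL]
      exact congrArg _ h
    · refine Set.image_injective.2 hLi ?_
      rw [← Set.range_comp, Set.image_image]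
      have e1 : Set.range (L0.hom.hom ∘ (H.map α).hom) = Set.range (H0 (Lam I) s MM).hom := by
        rw [show L0.hom.hom ∘ (H.map α).hom = (H0 (Lam I) s MM).hom ∘ (H.mapIso w).toLinearEquiv from funext hL]
        exact (H.mapIso w).toLinearEquiv.surjective.range_comp _
      refine e1.trans (Eq.trans ?_ (Set.image_congr fun x _ => (hcan x).symm))
      rw [range_H0]
      refine Set.ext fun y => ?_
      obtain ⟨x, rfl⟩ := (AdicCompletion.of_bijective_iff.2 (Groth.Agent.AdicRing.isAdicComplete_of_finite I M)).2 y
      constructor
      · exact fun hy => ⟨x, (forall_exists_pow_iff I J s hs x).1 fun g hg => (map_lu_eq_zero_iff I g MM x).1 (hy g hg), rfl⟩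
      · rintro ⟨x', hx', e⟩ g hg
        exact e ▸ (map_lu_eq_zero_iff I g MM x').2 ((forall_exists_pow_iff I J s hs x').2 hx' g hg)

end Groth.Agent.S13497
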