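import Groth.Statements.S13499
import Groth.Agent.GalEt.Basic2
import Groth.Agent.Et18.FLC

set_option linter.style.haveILetI false
set_option backward.isDefEq.respectTransparency.types false
set_option backward.isDefEq.respectTransparency false
-- import your own Groth.Agent.* helpers here

set_option autoImplicit false
universe u
open CategoryTheory CategoryTheory.Limits AlgebraicGeometry Opposite
open GalCoh

namespace Groth.Agent.S13499

/-- For a field k and i ≥ 2 there is an isomorphism between H^i(Spec k, Z) and H^{i-1}(Spec k, Q/Z),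
étale cohomology of Spec k with coefficients in the constant sheaves Z and Q/Z (existence of an
additive isomorphism only; the published statement is for an arbitrary profinite group with trivial
action and identifies the two groups through the boundary map of 0 → Z → Q → Q/Z → 0). -/
theorem result (k : Type u) [Field k] (i : ℕ) (hi : 2 ≤ i) :
    Nonempty (EtCoh.H (Spec (CommRingCat.of k)) (EtCoh.const (Spec (CommRingCat.of k)) ℤ) i ≃+
      EtCoh.H (Spec (CommRingCat.of k))
        (EtCoh.const (Spec (CommRingCat.of k)) (ℚ ⧸ AddSubgroup.zmultiples (1 : ℚ))) (i - 1)) := by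
  obtain ⟨j, rfl⟩ : ∃ j, i = j + 1 := ⟨i - 1, by omega⟩
  let X := Spec (CommRingCat.of k)
  let Z' := AddSubgroup.zmultiples (1 : ℚ)
  let a : AddCommGrpCat.of (ULift.{u + 1} ℤ) ⟶ AddCommGrpCat.of (ULift.{u + 1} ℚ) :=
    AddCommGrpCat.ofHom ((AddEquiv.ulift.symm.toAddMonoidHom.comp (Int.castAddHom ℚ)).comp
      AddEquiv.ulift.toAddMonoidHom)
  let b : AddCommGrpCat.of (ULift.{u + 1} ℚ) ⟶ AddCommGrpCat.of (ULift.{u + 1} (ℚ ⧸ Z')) :=
    AddCommGrpCat.ofHom ((AddEquiv.ulift.symm.toAddMonoidHom.comp (QuotientAddGroup.mk' Z')).comp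
      AddEquiv.ulift.toAddMonoidHom)
  have hab : a ≫ b = 0 := by
    ext x
    show ((x.down : ℚ) : ℚ ⧸ Z') = 0
    rw [QuotientAddGroup.eq_zero_iff]
    exact AddSubgroup.mem_zmultiples_iff.2 ⟨x.down, zsmul_one _⟩
  let S₀ := ShortComplex.mk a b hab
  have hS₀ : S₀.ShortExact :=
    { exact := by
        rw [ShortComplex.ab_exact_iff]
        intro x hx
        have hx' : ((x.down : ℚ) : ℚ ⧸ Z') = 0 := congrArg ULift.down hx
        obtain ⟨m, hm⟩ := AddSubgroup.mem_zmultiples_iff.1 ((QuotientAddGroup.eq_zero_iff _).1 hx')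
        exact ⟨ULift.up m, ULift.ext _ _ ((zsmul_one m).symm.trans hm)⟩
      mono_f := (AddCommGrpCat.mono_iff_injective a).2 fun x y h =>
        ULift.ext _ _ (Int.cast_injective (congrArg ULift.down h))
      epi_g := (AddCommGrpCat.epi_iff_surjective b).2 fun x => by
        obtain ⟨q, hq⟩ := QuotientAddGroup.mk_surjective x.down
        exact ⟨ULift.up q, ULift.ext _ _ hq⟩ }
  have hS := hS₀.map_of_exact (Groth.Agent.Et18.cst X)
  have hdiv : ∀ n : ℕ, 0 < n →
      IsIso (n • 𝟙 ((Groth.Agent.Et18.cst X).obj (AddCommGrpCat.of (ULift.{u + 1} ℚ)))) := by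
    intro n hn
    rw [← CategoryTheory.Functor.map_id, ← Functor.map_nsmul]
    haveI : IsIso (n • 𝟙 (AddCommGrpCat.of (ULift.{u + 1} ℚ))) := by
      rw [ConcreteCategory.isIso_iff_bijective]
      show Function.Bijective fun q : ULift.{u + 1} ℚ => n • q
      have hn' : (n : ℚ) ≠ 0 := by exact_mod_cast hn.ne'
      refine ⟨fun p q h => ULift.ext _ _ ?_, fun q => ⟨ULift.up (q.down / n), ULift.ext _ _ ?_⟩⟩
      · have h' : n • p.down = n • q.down := congrArg ULift.down h
        rw [nsmul_eq_mul, nsmul_eq_mul] at h'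
        exact mul_left_cancel₀ hn' h'
      · show n • (q.down / n) = q.down
        rw [nsmul_eq_mul]
        field_simp
    infer_instance
  have h₂ : ∀ m : ℕ, 0 < m → Subsingleton (EtCoh.H X (EtCoh.const X ℚ) m) := fun m hm =>
    Groth.Agent.GalEt.subsingleton_H_of_isIso_nsmul k _ hdiv m hm
  haveI := h₂ j (by omega)
  haveI := h₂ (j + 1) (by omega)
  let δ : EtCoh.H X (EtCoh.const X (ℚ ⧸ Z')) j →+ EtCoh.H X (EtCoh.const X ℤ) (j + 1) :=
    hS.extClass.postcomp (EtCoh.const X ℤ) rfl
  have hinj : Function.Injective δ := (injective_iff_map_eq_zero δ).2 fun y hy => by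
    obtain ⟨z, hz⟩ := Abelian.Ext.covariant_sequence_exact₃ _ hS y rfl hy
    rw [← hz, show z = 0 from Subsingleton.elim (α := EtCoh.H X (EtCoh.const X ℚ) j) _ _,
      Abelian.Ext.zero_comp]
  have hsurj : Function.Surjective δ := fun x => by
    obtain ⟨z, hz⟩ := Abelian.Ext.covariant_sequence_exact₁ _ hS x
      (Subsingleton.elim (α := EtCoh.H X (EtCoh.const X ℚ) (j + 1)) _ _) (rfl : j + 1 = j + 1)
    exact ⟨z, hz⟩
  exact ⟨(AddEquiv.ofBijective δ ⟨hinj, hsurj⟩).symm⟩

end Groth.Agent.S13499
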