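import Groth.Statements.S13501
import Groth.Agent.Et18.ConsColim
-- import your own Groth.Agent.* helpers here

set_option autoImplicit false
universe u
open CategoryTheory CategoryTheory.Limits AlgebraicGeometry Opposite
open EtPBC

namespace Groth.Agent.S13501

/-- Let X be a quasi-compact and quasi-separated scheme and F a torsion abelian sheaf on X_et. If Hom(F,
-) commutes with filtered colimits (of shape any small filtered category in the universe of the
sheaf category's morphisms), then F is constructible. This is the converse of the compactness of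
constructible sheaves. -/
theorem result (X : Scheme.{u}) [CompactSpace X]
    [QuasiSeparatedSpace X] (F : EtCoh.Ab X) (hF : EtCoh.IsTorsion F)
    (hc : ∀ (J : Type (u + 1)) [SmallCategory J] [IsFiltered J],
      PreservesColimitsOfShape J (coyoneda.obj (op F))) :
    EtPBC.IsConstructible F := by
  obtain ⟨hcol⟩ := Et18.ColimCons.nonempty_isColimit hF
  haveI := hc (Et18.ColimCons.Idx F)
  obtain ⟨j, (s : F ⟶ (Et18.ColimCons.D F).obj j), hs⟩ := Types.jointly_surjective_of_isColimit
    (isColimitOfPreserves (coyoneda.obj (op F)) hcol) (𝟙 F)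
  let r : (Et18.ColimCons.D F).obj j ⟶ F := (Et18.ColimCons.cocone F).ι.app j
  have hsr : s ≫ r = 𝟙 F := hs
  have h0 : s ≫ (𝟙 _ - r ≫ s) = 0 := by
    rw [Preadditive.comp_sub, Category.comp_id, ← Category.assoc, hsr, Category.id_comp, sub_self]
  let e : F ≅ kernel (𝟙 _ - r ≫ s) :=
    { hom := kernel.lift _ s h0
      inv := kernel.ι _ ≫ r
      hom_inv_id := by rw [kernel.lift_ι_assoc, hsr]
      inv_hom_id := by
        have h := kernel.condition (𝟙 ((Et18.ColimCons.D F).obj j) - r ≫ s)
        rw [Preadditive.comp_sub, Category.comp_id, sub_eq_zero] at h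
        rw [← cancel_mono (kernel.ι (𝟙 ((Et18.ColimCons.D F).obj j) - r ≫ s)), Category.assoc, Category.assoc,
          kernel.lift_ι, Category.id_comp]
        exact h.symm }
  exact Et18.isConstructible_of_iso (Et18.isConstructible_kernel_cokernel (𝟙 _ - r ≫ s)
    (Et18.ColimCons.isConstructible_obj j) (Et18.ColimCons.isConstructible_obj j)).1 e.symm

end Groth.Agent.S13501
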