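import Groth.Prelude.Def_FibSite
import Mathlib.CategoryTheory.Limits.Shapes.IsTerminal
import Groth.Agent.FibSite16.Lex

set_option autoImplicit false
universe u
namespace CategoryTheory
end CategoryTheory
namespace CategoryTheory.Limits
end CategoryTheory.Limits
namespace Opposite
end Opposite
namespace Pseudofunctor.CoGrothendieck
end Pseudofunctor.CoGrothendieck
open CategoryTheory CategoryTheory.Limits Opposite Pseudofunctor.CoGrothendieck
namespace FibSite
end FibSite
open FibSite

namespace Groth.Agent.S13514

/-- Let `F` be a fibred site over a small category `𝒮` with small fibres (every inverse-image functor is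
a morphism of sites) and let `i` be a final object of `𝒮`. Then the left adjoint `α_{i!}` of the
restriction of sheaves of sets from the total site to the fibre over `i` is left exact (it preserves
finite limits), so that the pair (`α_{i!}`, restriction) is a morphism of topoi from the total topos
to the topos of the fibre. The continuity of the fibre inclusion and the existence of the left
adjoint are carried as instance hypotheses. -/
theorem result {𝒮 : Type u} [SmallCategory 𝒮]
    (F : Pseudofunctor (LocallyDiscrete 𝒮ᵒᵖ) Cat.{u, u}) (J : FibSite.Topologies F)
    (hF : FibSite.IsFibSite F J) (i : 𝒮) (hi : IsTerminal i)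
    [(ι F i).IsContinuous (J i) (FibSite.totalTopology F J)]
    [((ι F i).sheafPushforwardContinuous (Type u) (J i) (FibSite.totalTopology F J)).IsRightAdjoint] :
    PreservesFiniteLimits (FibSite.extend F J (Type u) i) := by
  haveI : ∀ S : 𝒮, (ι F S).IsContinuous (J S) (FibSite.totalTopology F J) :=
    fun S => Groth.Agent.FibSite16.continuous hF.isPreFibSite S
  haveI : ∀ (R S : 𝒮) (f : R ⟶ S), (FibSite.invImage F f).IsContinuous (J S) (J R) :=
    fun R S f => hF.isPreFibSite f
  exact Groth.Agent.FibSite16.extend_preservesFiniteLimits hF hi

end Groth.Agent.S13514
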