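import Groth.Prelude.Def_FibSite
import Groth.Agent.FibSite16.MapSitesConverse

set_option autoImplicit false
universe u
namespace CategoryTheory
end CategoryTheory
namespace CategoryTheory.Limits
end CategoryTheory.Limits
namespace Opposite
end Opposite
namespace Pseudofunctor.CoGrothendieck
end Pseudofunctor.CoGrothendieck
open CategoryTheory CategoryTheory.Limits Opposite Pseudofunctor.CoGrothendieck
namespace CategoryTheory.Pseudofunctor.StrongTrans
end CategoryTheory.Pseudofunctor.StrongTrans
open scoped CategoryTheory.Pseudofunctor.StrongTrans
namespace FibSite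
end FibSite
open FibSite

namespace Groth.Agent.S13516

/-- Let `F` and `G` be fibred sites over a small category `𝒮` with small fibres and let `α : G ⟶ F` be a
strong transformation of pseudofunctors, i.e. a cartesian functor `∫ᶜ G ⥤ ∫ᶜ F` over `𝒮`. If the
induced functor between the total categories is a morphism of sites from the total site of `F` to
the total site of `G` (continuous, with left exact inverse image on sheaves of sets), then `α` is a
morphism of fibred sites: for every `S` the fibre functor `α_S : G(S) ⥤ F(S)` is a morphism of sites
from `(F(S), J S)` to `(G(S), K S)`. (The published statement is for an arbitrary functor over `𝒮`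
between the total categories; this row takes a cartesian one.) -/
theorem result {𝒮 : Type u} [SmallCategory 𝒮]
    (F G : Pseudofunctor (LocallyDiscrete 𝒮ᵒᵖ) Cat.{u, u}) (J : FibSite.Topologies F) (K : FibSite.Topologies G)
    (hF : FibSite.IsFibSite F J) (hG : FibSite.IsFibSite G K) (α : G ⟶ F)
    (hα : ∃ (_ : (Pseudofunctor.CoGrothendieck.map α).IsContinuous
        (FibSite.totalTopology G K) (FibSite.totalTopology F J))
      (_ : ((Pseudofunctor.CoGrothendieck.map α).sheafPushforwardContinuous (Type u)
        (FibSite.totalTopology G K) (FibSite.totalTopology F J)).IsRightAdjoint),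
      PreservesFiniteLimits ((Pseudofunctor.CoGrothendieck.map α).sheafPullback (Type u)
        (FibSite.totalTopology G K) (FibSite.totalTopology F J))) (S : 𝒮) :
    ∃ (_ : (α.app ⟨op S⟩).toFunctor.IsContinuous (K S) (J S))
      (_ : ((α.app ⟨op S⟩).toFunctor.sheafPushforwardContinuous (Type u) (K S) (J S)).IsRightAdjoint),
      PreservesFiniteLimits ((α.app ⟨op S⟩).toFunctor.sheafPullback (Type u) (K S) (J S)) := by
  obtain ⟨hc, _, hlex⟩ := hα
  haveI := hc
  haveI : ∀ T : 𝒮, (α.app ⟨op T⟩).toFunctor.IsContinuous (K T) (J T) := fun T => by
    haveI : ∀ S, (ι F S).IsContinuous (J S) (FibSite.totalTopology F J) :=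
      fun S => Groth.Agent.FibSite16.continuous hF.isPreFibSite S
    haveI : ∀ S, (ι G S).IsContinuous (K S) (FibSite.totalTopology G K) :=
      fun S => Groth.Agent.FibSite16.continuous hG.isPreFibSite S
    haveI : ∀ (R S : 𝒮) (f : R ⟶ S), (FibSite.invImage F f).IsContinuous (J S) (J R) :=
      fun R S f => hF.isPreFibSite f
    haveI := Groth.Agent.FibSite16.cocontinuous hF.isPreFibSite T
    exact Groth.Agent.FibSite16.continuous_app_of_map (J := J) (K := K) α T
  exact ⟨inferInstance, inferInstance,
    Groth.Agent.FibSite16.preservesFiniteLimits_app_of_map α hF.isPreFibSite hG hlex S⟩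

end Groth.Agent.S13516
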