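import Groth.Statements.S13521
import Groth.Agent.CohDesc.Basic

set_option autoImplicit false
universe u
open CategoryTheory CategoryTheory.Limits Opposite TopologicalSpace
open FibDesc

set_option backward.isDefEq.respectTransparency.types false
set_option backward.isDefEq.respectTransparency false

namespace Groth.Agent.S13521


/-- In the category of topological spaces with all abelian sheaves as coefficients, let `X' ⟶ S` and `Y'
⟶ S` be spaces over `S` and let `f : X ⟶ X'`, `g : Y ⟶ Y'` be continuous maps (maps over `S` for the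
composite structure maps) which are universally of cohomological 1-descent. Then the induced map of
fibre products over `S`, from `X ×_S Y` to `X' ×_S Y'`, is universally of cohomological 1-descent. -/
theorem result {X X' Y Y' S : TopCat.{u}} (pX : X' ⟶ S) (pY : Y' ⟶ S)
    (f : X ⟶ X') (g : Y ⟶ Y') (hf : FibDesc.IsUnivCohDescentMap f) (hg : FibDesc.IsUnivCohDescentMap g) :
    FibDesc.IsUnivCohDescentMap
      (pullback.map (f ≫ pX) (g ≫ pY) pX pY f g (𝟙 S) (Category.comp_id _) (Category.comp_id _)) := by
  let m₁ := pullback.map (f ≫ pX) (g ≫ pY) pX (g ≫ pY) f (𝟙 Y) (𝟙 S) (Category.comp_id _) (by simp)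
  let m₂ := pullback.map pX (g ≫ pY) pX pY (𝟙 X') g (𝟙 S) (by simp) (Category.comp_id _)
  have h₁ : IsPullback (pullback.fst (f ≫ pX) (g ≫ pY)) m₁ f (pullback.fst pX (g ≫ pY)) :=
    IsPullback.of_bot (by simpa [m₁] using IsPullback.of_hasPullback (f ≫ pX) (g ≫ pY)) (by simp [m₁])
      (IsPullback.of_hasPullback pX (g ≫ pY))
  have h₂ : IsPullback (pullback.snd pX (g ≫ pY)) m₂ g (pullback.snd pX pY) :=
    IsPullback.of_bot (by simpa [m₂] using (IsPullback.of_hasPullback pX (g ≫ pY)).flip) (by simp [m₂])
      (IsPullback.of_hasPullback pX pY).flip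
  have e : pullback.map (f ≫ pX) (g ≫ pY) pX pY f g (𝟙 S) (Category.comp_id _) (Category.comp_id _) = m₁ ≫ m₂ := by
    apply pullback.hom_ext <;> simp [m₁, m₂]
  rw [e]
  exact CohDesc.univ_comp m₁ m₂ (CohDesc.univ_of_isPullback h₁ hf) (CohDesc.univ_of_isPullback h₂ hg)

end Groth.Agent.S13521
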