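import Groth.Statements.S13523
import Groth.Agent.CohDesc.Basic

set_option autoImplicit false
universe u
open CategoryTheory CategoryTheory.Limits Opposite TopologicalSpace
open FibDesc

set_option backward.isDefEq.respectTransparency.types false
set_option backward.isDefEq.respectTransparency false

namespace Groth.Agent.S13523


/-- A surjective local homeomorphism `f : X ⟶ S` of topological spaces is universally of cohomological
1-descent for abelian sheaves. -/
theorem result {X S : TopCat.{u}} (f : X ⟶ S)
    (hf : IsLocalHomeomorph f) (hsurj : Function.Surjective f) : FibDesc.IsUnivCohDescentMap f := by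
  intro T g
  refine CohDesc.desc_of_local_sections _ fun x => ?_
  obtain ⟨y, hy⟩ := hsurj (g x)
  obtain ⟨e, hye, he⟩ := hf y
  have hey : (e : X → S) y = g x := by rw [← hy, he]
  let W : Opens T := (Opens.map g).obj ⟨e.target, e.open_target⟩
  let l : TopCat.of W ⟶ X := TopCat.ofHom ⟨fun z => e.symm (g z.1),
    e.continuousOn_symm.comp_continuous (g.hom.continuous.comp continuous_subtype_val) (fun z => z.2)⟩
  let i : TopCat.of W ⟶ T := TopCat.ofHom ⟨Subtype.val, continuous_subtype_val⟩
  have hl : l ≫ f = i ≫ g := by
    ext z
    show f (e.symm (g z.1)) = g z.1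
    rw [show f (e.symm (g z.1)) = e (e.symm (g z.1)) from congrFun he _]
    exact e.right_inv z.2
  refine ⟨W, (pullback.lift l i hl).hom, ?_, fun z => ConcreteCategory.congr_hom (pullback.lift_snd l i hl) z⟩
  show g x ∈ e.target
  rw [← hey]
  exact e.map_source hye

end Groth.Agent.S13523
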