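import Groth.Statements.S13532
import Groth.Agent.AlgSpLib.CodimOneQF
import Mathlib
-- import your own Groth.Agent.* helpers here

set_option autoImplicit false
universe u
open CategoryTheory CategoryTheory.Limits AlgebraicGeometry
open ResProp

namespace Groth.Agent.S13532

/-- A morphism of finite type between locally Noetherian schemes which is birational (an isomorphism
over a dense open of the target whose preimage is dense in the source) has finite fibres over all
points of the target of codimension at most 1, i.e. whose local ring has Krull dimension at most 1. -/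
theorem result {X Y : Scheme.{u}}
    [IsLocallyNoetherian X] [IsLocallyNoetherian Y] (f : Y ⟶ X) [LocallyOfFiniteType f] [QuasiCompact f]
    (U : X.Opens) (hU : Dense (U : Set X)) (hU' : Dense ((f ⁻¹ᵁ U : Y.Opens) : Set Y)) (hiso : IsIso (f ∣_ U))
    (x : X) (hx : ringKrullDim (X.presheaf.stalk x) ≤ 1) :
    (f.base ⁻¹' {x}).Finite := by
  have hqf : ∀ u : Y, f u = x → f.QuasiFiniteAt u := fun u hu => by
    refine AlgSpLib.quasiFiniteAt_of_codimOne f u (by rw [hu]; exact hx) fun z _ hz => ?_
    have hzU : z ∈ f ⁻¹ᵁ U := AlgSpLib.mem_of_dense_dimZero z hz (f ⁻¹ᵁ U).2 hU'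
    have : LocallyQuasiFinite ((f ⁻¹ᵁ U).ι ≫ f) := by
      rw [← morphismRestrict_ι]
      infer_instance
    exact (Scheme.Hom.quasiFiniteAt_comp_iff_of_isOpenImmersion (f := (f ⁻¹ᵁ U).ι) (g := f) (x := ⟨z, hzU⟩)).1
      (Scheme.Hom.quasiFiniteAt _ _)
  have : DiscreteTopology (f.fiber x) := discreteTopology_iff_isOpen_singleton.2 fun p => by
    have h := Scheme.Hom.quasiFiniteAt_iff_isOpen_singleton_asFiber.1 (hqf (f.fiberι x p) ((f.range_fiberι x).le ⟨p, rfl⟩))
    have e : f (f.fiberι x p) = x := (f.range_fiberι x).le ⟨p, rfl⟩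
    revert h
    generalize hq : f.fiberι x p = q at e
    subst e
    intro h
    have : p = f.asFiber q := (f.fiberι (f q)).isEmbedding.injective (by rw [hq, Scheme.Hom.fiberι_asFiber])
    exact this ▸ h
  have : Finite (f.fiber x) := finite_of_compact_of_discrete
  rw [← f.range_fiberι x]
  exact Set.finite_range _

end Groth.Agent.S13532
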