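import Groth.Statements.S13533
import Groth.Agent.H8Res.BasicElement
-- import your own Groth.Agent.* helpers here

set_option autoImplicit false
set_option backward.isDefEq.respectTransparency.types false
universe u
open ResProp

open Groth.Agent.H8Res
namespace Groth.Agent.S13533

/-- Let k ≤ r, let A be a Noetherian ring none of whose associated primes has height greater than k, and
let M be a finitely generated A-module which is free of rank r at every prime of height at most k.
Then M has a free submodule N of rank r - k such that M/N is free of rank k at every prime of height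
at most k. Freeness of a given rank is expressed by linear isomorphisms with coordinate modules.
(The published statement has no hypothesis on the associated primes of A; for A = ℤ[X]/(X², 2X), M =
A/(X), k = 0 and r = 1 every other hypothesis holds while X annihilates M, so M contains no free
submodule of rank 1. The printed argument produces an element of M that is part of a basis at every
prime of height at most k; the submodule it generates is free exactly when its annihilator vanishes
at the associated primes of A, which the added hypothesis guarantees.) -/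
theorem result (A : Type u) [CommRing A] [IsNoetherianRing A]
    (M : Type u) [AddCommGroup M] [Module A M] [Module.Finite A M] (k r : ℕ) (hkr : k ≤ r)
    (hAss : ∀ p ∈ associatedPrimes A A, p.height ≤ k)
    (hM : ∀ p : PrimeSpectrum A, p.asIdeal.height ≤ k →
      Nonempty (LocalizedModule p.asIdeal.primeCompl M ≃ₗ[Localization.AtPrime p.asIdeal]
        (Fin r → Localization.AtPrime p.asIdeal))) :
    ∃ N : Submodule A M, Nonempty (N ≃ₗ[A] (Fin (r - k) → A)) ∧
      ∀ p : PrimeSpectrum A, p.asIdeal.height ≤ k →
        Nonempty (LocalizedModule p.asIdeal.primeCompl (M ⧸ N) ≃ₗ[Localization.AtPrime p.asIdeal]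
          (Fin k → Localization.AtPrime p.asIdeal)) := by
  classical
  suffices main : ∀ (d : ℕ) (M : Type u) [AddCommGroup M] [Module A M] [Module.Finite A M],
      (∀ p : PrimeSpectrum A, p.asIdeal.height ≤ k →
        Nonempty (LocalizedModule p.asIdeal.primeCompl M ≃ₗ[Localization.AtPrime p.asIdeal]
          (Fin (k + d) → Localization.AtPrime p.asIdeal))) →
      ∃ ι : (Fin d → A) →ₗ[A] M, Function.Injective ι ∧ ∀ p : PrimeSpectrum A, p.asIdeal.height ≤ k →
        Nonempty (LocalizedModule p.asIdeal.primeCompl (M ⧸ LinearMap.range ι) ≃ₗ[Localization.AtPrime p.asIdeal]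
          (Fin k → Localization.AtPrime p.asIdeal)) by
    obtain ⟨ι, hι, hq⟩ := main (r - k) M (by rw [Nat.add_sub_cancel' hkr]; exact hM)
    exact ⟨LinearMap.range ι, ⟨(LinearEquiv.ofInjective ι hι).symm⟩, hq⟩
  intro d
  induction d with
  | zero =>
    intro M _ _ _ hM
    refine ⟨0, fun x y _ => Subsingleton.elim x y, fun p hp => ?_⟩
    obtain ⟨e⟩ := hM p hp
    let e₁ : (M ⧸ LinearMap.range (0 : (Fin 0 → A) →ₗ[A] M)) ≃ₗ[A] M :=
      Submodule.quotEquivOfEqBot _ LinearMap.range_zero
    exact ⟨(IsLocalizedModule.mapEquiv p.asIdeal.primeCompl (LocalizedModule.mkLinearMap p.asIdeal.primeCompl _)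
      (LocalizedModule.mkLinearMap p.asIdeal.primeCompl M) (Localization.AtPrime p.asIdeal) e₁).trans e⟩
  | succ d ih =>
    intro M _ _ _ hM
    obtain ⟨C⟩ := BasicElement.exists_coords hM
    obtain ⟨m, hm⟩ := C.exists_basic (Nat.lt_add_of_pos_right (Nat.succ_pos d))
    let M' := M ⧸ Submodule.span A {m}
    have hker : ∀ p hp, ∃ j, IsUnit (C.c p hp m j) := fun p hp => by
      obtain ⟨j, hj⟩ := Function.ne_iff.1 (hm p hp)
      refine ⟨j, ?_⟩
      by_contra hu
      exact hj (Ideal.Quotient.eq_zero_iff_mem.2 ((IsLocalRing.mem_maximalIdeal _).2 hu))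
    have hM' : ∀ p : PrimeSpectrum A, p.asIdeal.height ≤ k →
        Nonempty (LocalizedModule p.asIdeal.primeCompl M' ≃ₗ[Localization.AtPrime p.asIdeal]
          (Fin (k + d) → Localization.AtPrime p.asIdeal)) := fun p hp => by
      obtain ⟨j, hj⟩ := hker p hp
      obtain ⟨f, hf, hfk⟩ := BasicElement.exists_surjective_ker_span (C.c p hp m) j hj
      haveI := C.loc p hp
      let mk' := LocalizedModule.mkLinearMap p.asIdeal.primeCompl M'
      let ψ := IsLocalizedModule.mapExtendScalars p.asIdeal.primeCompl (C.c p hp) mk' (Localization.AtPrime p.asIdeal)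
        (Submodule.span A {m}).mkQ
      have hψs : Function.Surjective ψ := IsLocalizedModule.map_surjective p.asIdeal.primeCompl (C.c p hp) mk' _
        (Submodule.mkQ_surjective _)
      have hψk : LinearMap.ker ψ = Submodule.span (Localization.AtPrime p.asIdeal) {C.c p hp m} := by
        have h := Submodule.localized'_span (Localization.AtPrime p.asIdeal) p.asIdeal.primeCompl (C.c p hp) {m}
        rw [Set.image_singleton] at h
        rw [← h]
        exact (LinearMap.localized'_ker_eq_ker_localizedMap _ _ _ _ _).symm.trans (by rw [Submodule.ker_mkQ])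
      exact ⟨((LinearMap.quotKerEquivOfSurjective ψ hψs).symm.trans
        (Submodule.quotEquivOfEq _ _ (hψk.trans hfk.symm))).trans (LinearMap.quotKerEquivOfSurjective f hf)⟩
    obtain ⟨ι', hι', hq'⟩ := ih M' hM'
    choose σ hσ using fun i : Fin d => Submodule.Quotient.mk_surjective (Submodule.span A {m}) (ι' (Pi.single i 1))
    let ι : (Fin (d + 1) → A) →ₗ[A] M :=
      (LinearMap.proj 0 : (Fin (d + 1) → A) →ₗ[A] A).smulRight m +
        (∑ i, (LinearMap.proj i : (Fin d → A) →ₗ[A] A).smulRight (σ i)) ∘ₗ LinearMap.funLeft A A Fin.succ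
    have hcomp : ∀ x, (Submodule.span A {m}).mkQ (ι x) = ι' (x ∘ Fin.succ) := fun x => by
      rw [pi_eq_sum_univ' (x ∘ Fin.succ)]
      have h0 : (Submodule.span A {m}).mkQ m = 0 := (Submodule.Quotient.mk_eq_zero _).2 (Submodule.mem_span_singleton_self m)
      have h1 : ι x = x 0 • m + ∑ i, x (Fin.succ i) • σ i := by simp [ι, LinearMap.sum_apply, LinearMap.funLeft]
      rw [h1, map_add, map_smul, h0, smul_zero, zero_add, map_sum, map_sum]
      exact Finset.sum_congr rfl fun i _ => by rw [map_smul, map_smul]; exact congrArg (x i.succ • ·) (hσ i)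
    refine ⟨ι, (injective_iff_map_eq_zero ι).2 fun x hx => ?_, fun p hp => ?_⟩
    · have hs : x ∘ Fin.succ = 0 := hι' (by rw [← hcomp, hx, map_zero, map_zero])
      have h0 : x 0 • m = 0 := by
        have : ι x = x 0 • m := by simp [ι, LinearMap.funLeft, hs, LinearMap.sum_apply]
        rw [← this, hx]
      have hx0 : x 0 = 0 := by
        by_contra hne
        obtain ⟨P, hP, hle⟩ := exists_le_isAssociatedPrime_of_isNoetherianRing A (x 0) hne
        haveI := hP.isPrime
        let p : PrimeSpectrum A := ⟨P, hP.isPrime⟩
        have hp : p.asIdeal.height ≤ k := hAss P hP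
        obtain ⟨j, hj⟩ := hker p hp
        have h1 : algebraMap A (Localization.AtPrime p.asIdeal) (x 0) * C.c p hp m j = 0 := by
          have := congrFun (congrArg (C.c p hp) h0) j
          rwa [map_smul, map_zero, Pi.smul_apply, Algebra.smul_def] at this
        obtain ⟨s, hs'⟩ := (IsLocalization.map_eq_zero_iff p.asIdeal.primeCompl _ _).1 ((hj.mul_left_eq_zero).1 h1)
        exact s.2 (hle (Submodule.mem_colon_singleton.2 ((Submodule.mem_bot A).2 hs')))
      funext i
      cases i using Fin.cases with
      | zero => exact hx0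
      | succ i => exact congrFun hs i
    · obtain ⟨e⟩ := hq' p hp
      let π : M →ₗ[A] M' ⧸ LinearMap.range ι' := (LinearMap.range ι').mkQ ∘ₗ (Submodule.span A {m}).mkQ
      have hπ : LinearMap.ker π = LinearMap.range ι := by
        refine le_antisymm (fun y hy => ?_) ?_
        · obtain ⟨z, hz⟩ := (Submodule.Quotient.mk_eq_zero _).1 (LinearMap.mem_ker.1 hy)
          have h1 : y - ι (Fin.cons 0 z) ∈ Submodule.span A {m} := by
            rw [← Submodule.Quotient.mk_eq_zero]
            show (Submodule.span A {m}).mkQ _ = 0
            rw [map_sub, hcomp, sub_eq_zero, ← hz]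
            exact congrArg ι' (funext fun i => by simp)
          obtain ⟨a, ha⟩ := Submodule.mem_span_singleton.1 h1
          refine ⟨Fin.cons 0 z + Pi.single 0 a, ?_⟩
          have : ι (Pi.single 0 a) = a • m := by simp [ι, LinearMap.funLeft, LinearMap.sum_apply]
          rw [map_add, this, ha, add_sub_cancel]
        · rintro _ ⟨z, rfl⟩
          exact LinearMap.mem_ker.2 ((Submodule.Quotient.mk_eq_zero _).2 ⟨z ∘ Fin.succ, (hcomp z).symm⟩)
      let e₁ := (Submodule.quotEquivOfEq _ _ hπ.symm).trans (LinearMap.quotKerEquivOfSurjective π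
        ((Submodule.mkQ_surjective _).comp (Submodule.mkQ_surjective _)))
      exact ⟨(IsLocalizedModule.mapEquiv p.asIdeal.primeCompl (LocalizedModule.mkLinearMap p.asIdeal.primeCompl _)
        (LocalizedModule.mkLinearMap p.asIdeal.primeCompl _) (Localization.AtPrime p.asIdeal) e₁).trans e⟩

end Groth.Agent.S13533
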