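import Groth.Statements.S13535
import Groth.Agent.DQCoh.ResDescent
import Groth.Agent.Coherent.ProjFormula
import Groth.Agent.Coherent.SchemeCoh
import Groth.Agent.Coherent.FinitePres
import Groth.Agent.Coherent.TensorQcoh

set_option autoImplicit false
universe u
open CategoryTheory CategoryTheory.Limits AlgebraicGeometry
open ResProp

set_option backward.isDefEq.respectTransparency.types false
open Groth.Agent.Coherent Groth.Agent.PicLib Groth.Agent.AmpleLib Groth.Agent.DQCoh
open scoped TensorProduct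

namespace Groth.Agent.S13535

variable {X Y : Scheme.{u}} (f : Y ⟶ X) (E : X.Modules) (N : Y.Modules)

/-- The projection formula along an affine morphism. -/
theorem isIso_projHom_affine [IsAffineHom f] [Coh.IsQCoh E] [Coh.IsQCoh N] : IsIso (projHom f E N) := by
  haveI : Coh.IsQCoh ((Scheme.Modules.pushforward f).obj N) := isQCoh_push f _
  haveI : Coh.IsQCoh ((Scheme.Modules.pullback f).obj E) := EGA43.InjFibre.isQCoh_pullback _ _
  refine TwistLib.G.isIso_of_bijective_on_basis _ (fun B => IsAffineOpen B) (fun V y hy => ?_) fun B hB => ?_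
  · obtain ⟨U, hU, hyU, hle⟩ := exists_isAffineOpen_mem_and_subset (x := y) (U := V) hy
    exact ⟨U, hU, hyU, hle⟩
  let W : Y.Opens := f ⁻¹ᵁ B
  have hW : IsAffineOpen W := hB.preimage f
  letI := (f.appLE B W le_rfl).hom.toAlgebra
  letI := Module.compHom Γ((Scheme.Modules.pullback f).obj E, W) (f.appLE B W le_rfl).hom
  letI := Module.compHom Γ(N, W) (f.appLE B W le_rfl).hom
  haveI : IsScalarTower Γ(X, B) Γ(Y, W) Γ((Scheme.Modules.pullback f).obj E, W) :=
    IsScalarTower.of_algebraMap_smul fun _ _ => rfl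
  haveI : IsScalarTower Γ(X, B) Γ(Y, W) Γ(N, W) := IsScalarTower.of_algebraMap_smul fun _ _ => rfl
  obtain ⟨μ, hμ, hμm⟩ := EGA43.InjFibre.pullMap_isBaseChange f hB hW le_rfl E
  let eN : Γ((Scheme.Modules.pushforward f).obj N, B) ≃ₗ[Γ(X, B)] Γ(N, W) :=
    { toFun := fun a => a
      invFun := fun a => a
      left_inv := fun _ => rfl
      right_inv := fun _ => rfl
      map_add' := fun _ _ => rfl
      map_smul' := fun r a => by
        show f.app B r • (show Γ(N, W) from a) = f.appLE B W le_rfl r • (show Γ(N, W) from a)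
        rw [Scheme.Hom.app_eq_appLE] }
  let eK : Γ(E, B) ⊗[Γ(X, B)] Γ((Scheme.Modules.pushforward f).obj N, B) ≃+
      Γ((Scheme.Modules.pullback f).obj E, W) ⊗[Γ(Y, W)] Γ(N, W) :=
    (((TensorProduct.congr (LinearEquiv.refl _ _) eN).trans (TensorProduct.comm Γ(X, B) _ _)).toAddEquiv.trans
      (TensorProduct.AlgebraTensorModule.cancelBaseChange Γ(X, B) Γ(Y, W) Γ(Y, W) Γ(N, W) Γ(E, B)).symm.toAddEquiv).trans
      ((TensorProduct.congr (LinearEquiv.refl _ _) hμ.equiv).trans (TensorProduct.comm Γ(Y, W) _ _)).toAddEquiv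
  let Φ : Γ(E, B) ⊗[Γ(X, B)] Γ((Scheme.Modules.pushforward f).obj N, B) →
      Γ(CohB1.tensorMod ((Scheme.Modules.pullback f).obj E) N, W) :=
    fun z => (projHom f E N).app B (tmulMap E ((Scheme.Modules.pushforward f).obj N) B z)
  have hΦ : Φ = tmulMap ((Scheme.Modules.pullback f).obj E) N W ∘ eK := funext fun z => by
    show (projHom f E N).app B (tmulMap E ((Scheme.Modules.pushforward f).obj N) B z) = tmulMap _ N W (eK z)
    induction z using TensorProduct.induction_on with
    | zero => simp only [map_zero]; rfl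
    | add a b ha hb =>
      simp only [map_add] at ha hb ⊢
      rw [ha, hb]
      rfl
    | tmul a m =>
      have he : eK (a ⊗ₜ m) = μ a ⊗ₜ (show Γ(N, W) from m) := by
        simp only [eK, AddEquiv.trans_apply, LinearEquiv.coe_toAddEquiv, LinearEquiv.trans_apply,
          TensorProduct.congr_tmul, TensorProduct.comm_tmul, LinearEquiv.refl_apply]
        erw [TensorProduct.AlgebraTensorModule.cancelBaseChange_symm_tmul]
        show hμ.equiv ((1 : Γ(Y, W)) ⊗ₜ[Γ(X, B)] a) ⊗ₜ[Γ(Y, W)] (show Γ(N, W) from m) = _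
        rw [IsBaseChange.equiv_tmul, one_smul]
      rw [tmulMap_tmul, he, tmulMap_tmul, projHom_tmul, hμm, pullMap_eq_resM_pullSec]
      show tmul (pullSec f a) _ = tmul (resM _ _ (pullSec f a)) _
      rw [resM_self]
  have hb : Function.Bijective Φ := by
    rw [hΦ]
    exact (bijective_tmulMap hW _ N).comp eK.bijective
  exact (Function.Bijective.of_comp_iff _ (bijective_tmulMap hB E _)).1 hb

theorem subsingleton_HH_of_iso' {M N : X.Modules} (e : M ≅ N) (n : ℕ)
    [Subsingleton (Coh.HH X M n)] : Subsingleton (Coh.HH X N n) := by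
  refine subsingleton_of_forall_eq 0 fun x => ?_
  have e1 : Sheaf.H.map ((toAbFunctor X).map e.hom) n (Sheaf.H.map ((toAbFunctor X).map e.inv) n x) = x := by
    rw [← Sheaf.H.map_comp_apply, ← Functor.map_comp, e.inv_hom_id, CategoryTheory.Functor.map_id,
      Sheaf.H.map_id_apply]
  rw [← e1, Subsingleton.elim (Sheaf.H.map ((toAbFunctor X).map e.inv) n x) 0, map_zero]

/-- Cohomology along an affine morphism. -/
theorem subsingleton_HH_of_push [IsAffineHom f] [Coh.IsQCoh N] (i : ℕ)
    (h : Subsingleton (Coh.HH X ((Coh.push f).obj N) i)) : Subsingleton (Coh.HH Y N i) :=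
  (((HHTopEquiv N i).trans (H'PushEquiv (X := Y.toTopCat) (Y := X.toTopCat) (f := f.base) X.isBasis_affineOpens
    (Coh.toAb N) (acyclicOverBasis_affine f N) ⊤ i)).trans (HHTopEquiv ((Coh.push f).obj N) i).symm).toEquiv.subsingleton


/-- Let X and Y be proper over a Noetherian ring A and let f : Y ⟶ X be a finite A-morphism. If a
sequence (E_n) of coherent modules on X is cohomologically d-ample (d a positive integer), meaning
that for every coherent F the groups H^i(X, F ⊗ E_n) vanish for all i ≥ d + 1 and all large n, then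
so is the sequence of pullbacks (f^*E_n) on Y. -/
theorem result (A : Type u) [CommRing A] [IsNoetherianRing A]
    {X Y : Scheme.{u}} (pX : X ⟶ Spec (CommRingCat.of A)) (pY : Y ⟶ Spec (CommRingCat.of A))
    [IsProper pX] [IsProper pY] (f : Y ⟶ X) (hf : f ≫ pX = pY) [IsFinite f]
    (d : ℕ) (hd : 0 < d) (E : ℕ → X.Modules) (hE : ∀ n, Coh.IsCoh (E n))
    (hamp : ∀ F : X.Modules, Coh.IsCoh F → ∃ n₀ : ℕ, ∀ n : ℕ, n₀ ≤ n → ∀ i : ℕ, d + 1 ≤ i →
        Subsingleton (Coh.HH X (CohB1.tensorMod F (E n)) i)) :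
    ∀ F : Y.Modules, Coh.IsCoh F → ∃ n₀ : ℕ, ∀ n : ℕ, n₀ ≤ n → ∀ i : ℕ, d + 1 ≤ i →
        Subsingleton (Coh.HH Y (CohB1.tensorMod F ((Scheme.Modules.pullback f).obj (E n))) i) := by
  intro F hF
  haveI : IsLocallyNoetherian X := LocallyOfFiniteType.isLocallyNoetherian pX
  haveI : IsLocallyNoetherian Y := LocallyOfFiniteType.isLocallyNoetherian pY
  obtain ⟨n₀, hn₀⟩ := hamp ((Coh.push f).obj F) (isCoh_push_finite f hF)
  refine ⟨n₀, fun n hn i hi => ?_⟩
  haveI := hF.1
  haveI := (hE n).1
  haveI := isIso_projHom_affine f (E n) F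
  haveI : Coh.IsQCoh ((Scheme.Modules.pullback f).obj (E n)) := EGA43.InjFibre.isQCoh_pullback _ _
  haveI : Coh.IsQCoh (CohB1.tensorMod F ((Scheme.Modules.pullback f).obj (E n))) := isQCoh_tensorMod _ _
  refine subsingleton_HH_of_push f _ i ?_
  let e : CohB1.tensorMod ((Coh.push f).obj F) (E n) ≅
      (Coh.push f).obj (CohB1.tensorMod F ((Scheme.Modules.pullback f).obj (E n))) :=
    AmpleLib.tensorComm _ _ ≪≫ asIso (projHom f (E n) F) ≪≫
      (Scheme.Modules.pushforward f).mapIso (AmpleLib.tensorComm _ _)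
  haveI := hn₀ n hn i hi
  exact subsingleton_HH_of_iso' e i

end Groth.Agent.S13535
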