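import Groth.Statements.S13536
import Groth.Agent.KLoc28.Restrict
import Groth.Agent.EulerLib.SupportVanishing
import Groth.Agent.Coherent.DevissageIdeal
import Groth.Agent.FlatMorStrat.Supported

-- import your own Groth.Agent.* helpers here

set_option autoImplicit false
universe u
open CategoryTheory CategoryTheory.Limits AlgebraicGeometry
open ResProp

open CategoryTheory CategoryTheory.Limits AlgebraicGeometry
open Groth.Agent.Coherent Groth.Agent.EulerLib Groth.Agent.AssSch12

namespace Groth.Agent.S13536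

section Helpers

variable {X Z : Scheme.{u}}

/-- Vanishing for coherent modules supported on a closed subscheme. -/
theorem vanish_of_support [IsNoetherian X] (ι : Z ⟶ X) [IsClosedImmersion ι] (k : ℕ)
    (hcd : ∀ G : Z.Modules, Coh.IsQCoh G → ∀ i : ℕ, k + 1 ≤ i → Subsingleton (Coh.HH Z G i))
    (M : X.Modules) (hM : Coh.IsCoh M) (hs : CohB1.support M ⊆ Set.range ι.base) :
    ∀ q, k + 1 ≤ q → Subsingleton (Coh.HH X M q) := by
  refine mem_of_ideals (K := fun M => ∀ q, k + 1 ≤ q → Subsingleton (Coh.HH X M q))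
    ⟨fun e h q hq => FlatMorStrat.subsingleton_HH_of_iso e q (h q hq),
      fun M h q _ => subsingleton_HH_of_isZero h q,
      fun S hS _ _ _ h₁ h₃ q hq => subsingleton_HH_X₂ hS q (h₁ q hq) (h₃ q hq)⟩
    (Set.range ι.base) (fun y hy I j _ hIq _ q hq => ?_) M hM hs
  let i := (clI y).subschemeι
  haveI : Surjective (pullback.fst i ι) := ⟨fun w => by
    have : i.base w ∈ Set.range ι.base := hy (range_clι (y := y) ▸ Set.mem_range_self w)
    obtain ⟨z, hz⟩ := this
    obtain ⟨p, hp, -⟩ := Scheme.Pullback.exists_preimage_pullback (f := i) (g := ι) w z hz.symm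
    exact ⟨p, hp⟩⟩
  haveI : IsIso (pullback.fst i ι) := isIso_of_isClosedImmersion_of_surjective _
  let g : (clI y).subscheme ⟶ Z := inv (pullback.fst i ι) ≫ pullback.snd i ι
  have hg : g ≫ ι = i := by
    simp only [g, Category.assoc, ← pullback.condition, IsIso.inv_hom_id_assoc]
  haveI : IsClosedImmersion g := by
    haveI : IsClosedImmersion (g ≫ ι) := hg ▸ inferInstanceAs (IsClosedImmersion i)
    exact .of_comp g ι
  haveI : Coh.IsQCoh I := hIq
  have h1 : Subsingleton (Coh.HH (clI y).subscheme I q) :=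
    (HHAffinePushEquiv g I q).toEquiv.subsingleton_congr.mpr
      (hcd _ (isQCoh_push g I) q hq)
  exact (HHAffinePushEquiv i I q).toEquiv.subsingleton_congr.mp h1

/-- A map with kernel and cokernel killed in the relevant degrees is bijective on cohomology. -/
theorem nonempty_equiv_of_hom {A B : X.Modules} (f : A ⟶ B) (q : ℕ)
    (hK : Subsingleton (Coh.HH X (kernel f) (q + 1)))
    (hK' : Subsingleton (Coh.HH X (kernel f) (q + 1 + 1)))
    (hC : Subsingleton (Coh.HH X (cokernel f) q))
    (hC' : Subsingleton (Coh.HH X (cokernel f) (q + 1))) :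
    Nonempty (Coh.HH X A (q + 1) ≃+ Coh.HH X B (q + 1)) := by
  let j := Abelian.image.ι f
  let S₁ : ShortComplex X.Modules := ShortComplex.mk (kernel.ι f) (Abelian.factorThruImage f) (by
    rw [← cancel_mono j, Category.assoc, Abelian.image.fac, kernel.condition, zero_comp])
  have hS₁ : S₁.ShortExact :=
    { mono_f := inferInstanceAs (Mono (kernel.ι f))
      epi_g := inferInstanceAs (Epi (Abelian.factorThruImage f))
      exact := ShortComplex.exact_of_f_is_kernel _
        (isKernelOfComp (f := Abelian.factorThruImage f) j f (kernelIsKernel f) S₁.zero (Abelian.image.fac f)) }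
  let S₂ : ShortComplex X.Modules :=
    ShortComplex.mk j (cokernel.π f) (kernel.condition (cokernel.π f))
  have hS₂ : S₂.ShortExact :=
    { exact := ShortComplex.exact_of_f_is_kernel _ (kernelIsKernel (cokernel.π f))
      mono_f := inferInstanceAs (Mono (kernel.ι (cokernel.π f)))
      epi_g := inferInstanceAs (Epi (cokernel.π f)) }
  rw [subsingleton_HH_iff] at hK hK' hC hC'
  let φ := RingHom.id Γ(X, ⊤)
  have b₁ : Function.Bijective (postA φ S₁.g (⊤ : X.Opens) (q + 1)) := by
    refine ⟨(injective_iff_map_eq_zero _).mpr fun x hx => ?_, fun y => ?_⟩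
    · obtain ⟨z, rfl⟩ := (exact_postA φ hS₁ ⊤ (q + 1) x).1 hx
      haveI := hK
      rw [show z = 0 from Subsingleton.elim (α := HA φ (kernel f) (⊤ : X.Opens) (q + 1)) _ _, map_zero]
    · exact (exact_postA_deltaA φ hS₁ ⊤ (q + 1) y).1
        (Subsingleton.elim (α := HA φ (kernel f) (⊤ : X.Opens) (q + 1 + 1)) _ _)
  have b₂ : Function.Bijective (postA φ S₂.f (⊤ : X.Opens) (q + 1)) := by
    refine ⟨(injective_iff_map_eq_zero _).mpr fun x hx => ?_, fun y => ?_⟩
    · obtain ⟨z, rfl⟩ := (exact_deltaA_postA φ hS₂ ⊤ q x).1 hx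
      rw [show z = 0 from Subsingleton.elim (α := HA φ (cokernel f) (⊤ : X.Opens) q) _ _, map_zero]
    · exact (exact_postA φ hS₂ ⊤ (q + 1) y).1
        (Subsingleton.elim (α := HA φ (cokernel f) (⊤ : X.Opens) (q + 1)) _ _)
  exact ⟨(HHTopEquiv A (q + 1)).trans
    ((AddEquiv.ofBijective (postA φ S₁.g (⊤ : X.Opens) (q + 1)).toAddMonoidHom b₁).trans
      ((AddEquiv.ofBijective (postA φ S₂.f (⊤ : X.Opens) (q + 1)).toAddMonoidHom b₂).trans
        (HHTopEquiv B (q + 1)).symm))⟩

end Helpers

/-- On a Noetherian scheme X let Z be a closed subscheme of cohomological dimension at most k (every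
quasi-coherent module on Z has zero cohomology in degrees ≥ k + 1) and let F, F' be coherent modules
which are isomorphic on the open complement of Z. Then H^i(X, F) and H^i(X, F') are isomorphic for
all i ≥ k + 2 (existence of an additive isomorphism only; the identification depends on choices). -/
theorem result (X : Scheme.{u}) [IsNoetherian X]
    {Z : Scheme.{u}} (ι : Z ⟶ X) [IsClosedImmersion ι] (k : ℕ)
    (hcd : ∀ G : Z.Modules, Coh.IsQCoh G → ∀ i : ℕ, k + 1 ≤ i → Subsingleton (Coh.HH Z G i))
    (U : X.Opens) (hU : (U : Set X) = (Set.range ι.base)ᶜ)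
    (F F' : X.Modules) (hF : Coh.IsCoh F) (hF' : Coh.IsCoh F')
    (hiso : Nonempty (F.restrict U.ι ≅ F'.restrict U.ι)) (i : ℕ) (hi : k + 2 ≤ i) :
    Nonempty (Coh.HH X F i ≃+ Coh.HH X F' i) := by
  obtain ⟨e⟩ := hiso
  obtain ⟨A, a, φ, -, hA, ha, hφ⟩ :=
    SubAvoid14.exists_hom_extension F F' hF hF' U e.hom
  haveI := ha
  haveI : IsIso ((Scheme.Modules.restrictFunctor U.ι).map φ) := by
    rw [hφ]; exact inferInstanceAs (IsIso (_ ≫ e.hom))
  obtain ⟨q, rfl⟩ : ∃ q, i = q + 1 := ⟨i - 1, by omega⟩
  have key : ∀ {B : X.Modules} (f : A ⟶ B), Coh.IsCoh B →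
      IsIso ((Scheme.Modules.restrictFunctor U.ι).map f) →
      Nonempty (Coh.HH X A (q + 1) ≃+ Coh.HH X B (q + 1)) := by
    intro B f hB hf
    haveI := hf
    have hk := Coherent.isCoh_kernel f hA hB.1
    have hc := Coherent.isCoh_cokernel f hA.1 hB
    have hkS : CohB1.support (kernel f) ⊆ Set.range ι.base := by
      have := KLoc28.support_off_of_isZero (KLoc28.isZero_restrict_kernel (U := U) f)
      rwa [hU, compl_compl] at this
    have hcS : CohB1.support (cokernel f) ⊆ Set.range ι.base := by
      have := KLoc28.support_off_of_isZero (KLoc28.isZero_restrict_cokernel (U := U) f)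
      rwa [hU, compl_compl] at this
    exact nonempty_equiv_of_hom f q
      (vanish_of_support ι k hcd _ hk hkS _ (by omega))
      (vanish_of_support ι k hcd _ hk hkS _ (by omega))
      (vanish_of_support ι k hcd _ hc hcS _ (by omega))
      (vanish_of_support ι k hcd _ hc hcS _ (by omega))
  obtain ⟨e₁⟩ := key a hF ha
  obtain ⟨e₂⟩ := key φ hF' inferInstance
  exact ⟨e₁.symm.trans e₂⟩

end Groth.Agent.S13536
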