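import Groth.Statements.S13539
import Groth.Agent.ResProp8.AltDev
-- import your own Groth.Agent.* helpers here

set_option autoImplicit false
set_option backward.isDefEq.respectTransparency.types false
universe u
open CategoryTheory CategoryTheory.Limits AlgebraicGeometry
open ResProp

namespace Groth.Agent.S13539

/-- Let X and Y be d-dimensional schemes proper over a Noetherian ring A and f : Y ⟶ X an alteration
over A (proper, surjective, and finite over a dense open of X whose preimage is dense in Y). Then a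
sequence (E_n) of coherent modules on X is cohomologically (d-1)-ample (for every coherent F, H^i(X,
F ⊗ E_n) = 0 for all i ≥ d and all large n) if and only if the sequence of pullbacks (f^*E_n) is
cohomologically (d-1)-ample on Y. -/
theorem result (A : Type u) [CommRing A] [IsNoetherianRing A]
    {X Y : Scheme.{u}} (pX : X ⟶ Spec (CommRingCat.of A)) (pY : Y ⟶ Spec (CommRingCat.of A))
    [IsProper pX] [IsProper pY] (f : Y ⟶ X) (hf : f ≫ pX = pY) [IsProper f] [Surjective f]
    (U : X.Opens) (hU : Dense (U : Set X)) (hU' : Dense ((f ⁻¹ᵁ U : Y.Opens) : Set Y)) (hfin : IsFinite (f ∣_ U))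
    (d : ℕ) (hX : topologicalKrullDim X = d) (hY : topologicalKrullDim Y = d)
    (E : ℕ → X.Modules) (hE : ∀ n, Coh.IsCoh (E n)) :
    (∀ F : X.Modules, Coh.IsCoh F → ∃ n₀ : ℕ, ∀ n : ℕ, n₀ ≤ n → ∀ i : ℕ, d ≤ i →
        Subsingleton (Coh.HH X (CohB1.tensorMod F (E n)) i)) ↔
    (∀ F : Y.Modules, Coh.IsCoh F → ∃ n₀ : ℕ, ∀ n : ℕ, n₀ ≤ n → ∀ i : ℕ, d ≤ i →
        Subsingleton (Coh.HH Y (CohB1.tensorMod F ((Scheme.Modules.pullback f).obj (E n))) i)) := by
  haveI : IsLocallyNoetherian X := LocallyOfFiniteType.isLocallyNoetherian pX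
  haveI : CompactSpace X := QuasiCompact.compactSpace_of_compactSpace pX
  haveI : AlgebraicGeometry.IsNoetherian X := {}
  haveI : IsLocallyNoetherian Y := LocallyOfFiniteType.isLocallyNoetherian pY
  haveI : CompactSpace Y := QuasiCompact.compactSpace_of_compactSpace pY
  haveI : AlgebraicGeometry.IsNoetherian Y := {}
  haveI : X.IsSeparated := Coherent.Serre.isSeparated_of_isProper pX
  haveI : Y.IsSeparated := Coherent.Serre.isSeparated_of_isProper pY
  have hX' : topologicalKrullDim X ≤ (d : WithBot ℕ∞) := hX.le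
  have hY' : topologicalKrullDim Y ≤ (d : WithBot ℕ∞) := hY.le
  have hD := ResProp8.dimD_fibD f hfin hU' d hY'
  constructor
  · intro h G hG
    have hfG : Coh.IsCoh ((Scheme.Modules.pushforward f).obj G) := Coherent.Existence.isCoh_push_of_isProper f hG
    obtain ⟨n₀, h₀⟩ := h _ hfG
    refine ⟨n₀, fun n hn i hi => ?_⟩
    rcases eq_or_lt_of_le hi with rfl | hlt
    · exact ResProp8.top_of_base f hE hY' hX' hD n G hG
        (ResProp8.subsingleton_HH_iso (AmpleLib.tensorComm _ _) d (h₀ n hn d le_rfl))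
    · haveI := (ResProp8.isCoh_tensor hG (ResProp8.isCoh_pull f (hE n))).1
      exact EulerLib.subsingleton_HH_of_dim _ hY' hlt
  · intro h F hF
    obtain ⟨n₀, h₀⟩ := ResProp8.topVan_of_push f hE hX' f.surjective hD
      (fun G hG => ResProp8.push_of_top f hE hY' hX' hD (fun G' hG' => by
        obtain ⟨m, hm⟩ := h G' hG'
        exact ⟨m, fun n hn => hm n hn d le_rfl⟩) G hG) F hF
    refine ⟨n₀, fun n hn i hi => ?_⟩
    rcases eq_or_lt_of_le hi with rfl | hlt
    · exact ResProp8.subsingleton_HH_iso (AmpleLib.tensorComm _ _) d (h₀ n hn)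
    · haveI := (ResProp8.isCoh_tensor hF (hE n)).1
      exact EulerLib.subsingleton_HH_of_dim _ hX' hlt

end Groth.Agent.S13539
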