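import Groth.Statements.S1354
import Groth.Agent.FlatMorQFSplit.Split

set_option autoImplicit false
universe u
open FlatMor

namespace Groth.Agent.S1354

section
open AlgebraicGeometry CategoryTheory Limits

theorem transport {X S U U' : Scheme.{u}} (f : X ⟶ S) {g : U ⟶ S} {g' : U' ⟶ S} {u : U} {u' : U'}
    {s : S} (hn : Hens2.IsEtaleNbhd g u s) (hn' : Hens2.IsEtaleNbhd g' u' s)
    (c : U' ⟶ U) (hc : c ≫ g = g') (hu : c u' = u) (x : X) (hs : f x = s)
    (h : ∃ (V : (pullback f g).Opens) (v : ↑(pullback f g)), v ∈ V ∧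
        IsFinite (V.ι ≫ pullback.snd f g) ∧ pullback.snd f g v = u ∧
        (∀ w, w ∈ V → pullback.snd f g w = u → w = v) ∧ pullback.fst f g v = x) :
    ∃ (V : (pullback f g').Opens) (v : ↑(pullback f g')), v ∈ V ∧
        IsFinite (V.ι ≫ pullback.snd f g') ∧ pullback.snd f g' v = u' ∧
        (∀ w, w ∈ V → pullback.snd f g' w = u' → w = v) ∧ pullback.fst f g' v = x := by
  obtain ⟨V, v, hv, hfin, hsnd, huniq, hfst⟩ := h
  obtain ⟨v', hv'₁, hv'₂⟩ :=
    Scheme.Pullback.exists_preimage_pullback x u' (hs.trans hn'.base_eq.symm)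
  subst hc
  let m : pullback f (c ≫ g) ⟶ pullback f g :=
    pullback.lift (pullback.fst _ _) (pullback.snd _ _ ≫ c) (by rw [pullback.condition, Category.assoc])
  have hm₁ : m ≫ pullback.fst f g = pullback.fst f (c ≫ g) := pullback.lift_fst _ _ _
  have hm₂ : m ≫ pullback.snd f g = pullback.snd f (c ≫ g) ≫ c := pullback.lift_snd _ _ _
  have hsq : IsPullback m (pullback.snd f (c ≫ g)) (pullback.snd f g) c := by
    refine IsPullback.of_right ?_ hm₂ (IsPullback.of_hasPullback f g)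
    rw [hm₁]
    exact IsPullback.of_hasPullback f (c ≫ g)
  have key : ∀ w, pullback.snd f (c ≫ g) w = u' → pullback.snd f g (m w) = u ∧
      pullback.fst f g (m w) = pullback.fst f (c ≫ g) w := fun w hw => by
    rw [← Scheme.Hom.comp_apply, ← Scheme.Hom.comp_apply, hm₂, hm₁, Scheme.Hom.comp_apply, hw]
    exact ⟨hu, rfl⟩
  refine ⟨m ⁻¹ᵁ V, v', ?_, MorphismProperty.of_isPullback (P := @IsFinite)
    ((isPullback_morphismRestrict m V).flip.paste_horiz hsq.flip).flip hfin, hv'₂,
    fun w hw hws => ?_, hv'₁⟩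
  · have := FlatMorQFSplit.eq_of_fst_eq f hn (m v') v (key _ hv'₂).1 hsnd
      (((key _ hv'₂).2.trans hv'₁).trans hfst.symm)
    show m v' ∈ V
    rwa [this]
  · have := huniq _ hw (key _ hws).1
    refine FlatMorQFSplit.eq_of_fst_eq f hn' w v' hws hv'₂ ?_
    rw [hv'₁, ← (key _ hws).2, this, hfst]

end

open AlgebraicGeometry CategoryTheory Limits in
/-- Let f be locally of finite type, s a point of the target, and x_1, ..., x_n points over s at each of
which f is quasi-finite. Then there are an elementary étale neighbourhood (U, u) of (S, s) and, for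
each i, an open V_i of the base change of X to U which is finite over U, has exactly one point v_i
over u, and v_i maps to x_i inducing a bijection of residue fields. -/
theorem result {X S : Scheme.{u}} (f : X ⟶ S) [LocallyOfFiniteType f] (s : S) {ι : Type} [Finite ι]
    (x : ι → ↑X) (hs : ∀ i, f (x i) = s) (hx : ∀ i, f.QuasiFiniteAt (x i)) :
    ∃ (U : Scheme.{u}) (g : U ⟶ S) (u : U), Hens2.IsEtaleNbhd g u s ∧
      ∃ (V : ι → (pullback f g).Opens) (v : ι → ↑(pullback f g)), ∀ i, v i ∈ V i ∧ IsFinite ((V i).ι ≫ pullback.snd f g) ∧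
        pullback.snd f g (v i) = u ∧ (∀ w : ↑(pullback f g), w ∈ V i → pullback.snd f g w = u → w = v i) ∧
        pullback.fst f g (v i) = x i ∧ Function.Bijective ((pullback.fst f g).residueFieldMap (v i)) := by
  classical
  have := Fintype.ofFinite ι
  suffices H : ∀ t : Finset ι, ∃ (U : Scheme.{u}) (g : U ⟶ S) (u : U), Hens2.IsEtaleNbhd g u s ∧
      ∀ i ∈ t, ∃ (V : (pullback f g).Opens) (v : ↑(pullback f g)), v ∈ V ∧
        IsFinite (V.ι ≫ pullback.snd f g) ∧ pullback.snd f g v = u ∧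
        (∀ w, w ∈ V → pullback.snd f g w = u → w = v) ∧ pullback.fst f g v = x i by
    obtain ⟨U, g, u, hn, hd⟩ := H Finset.univ
    choose V v h1 h2 h3 h4 h5 using fun i => hd i (Finset.mem_univ i)
    exact ⟨U, g, u, hn, V, v, fun i => ⟨h1 i, h2 i, h3 i, h4 i, h5 i,
      FlatMorQFSplit.fst_residueFieldMap_bijective f hn (v i) (h3 i)⟩⟩
  intro t
  induction t using Finset.induction_on with
  | empty =>
    exact ⟨_, _, _, FlatMor12.isEtaleNbhd_of_section (𝟙 S) s (S.fromSpecResidueField s)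
      (Category.comp_id _), fun i hi => absurd hi (Finset.notMem_empty _)⟩
  | @insert a t _ ih =>
    obtain ⟨U₁, g₁, u₁, hn₁, hd₁⟩ := ih
    obtain ⟨U₂, g₂, u₂, hn₂, V₂, v₂, hf₂, hv₂, hx₂, hs₂, hu₂⟩ :=
      FlatMorQFSplit.exists_split_unique f (hs a) (hx a)
    obtain ⟨σ₁, hσ₁, hσu₁⟩ := FlatMor12.exists_section_of_isEtaleNbhd hn₁
    obtain ⟨σ₂, hσ₂, hσu₂⟩ := FlatMor12.exists_section_of_isEtaleNbhd hn₂
    have := hn₁.etale
    have := hn₂.etale
    let τ : Spec (S.residueField s) ⟶ pullback g₁ g₂ := pullback.lift σ₁ σ₂ (hσ₁.trans hσ₂.symm)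
    have hnW := FlatMor12.isEtaleNbhd_of_section (pullback.fst g₁ g₂ ≫ g₁) s τ (by
      rw [pullback.lift_fst_assoc, hσ₁])
    refine ⟨_, _, _, hnW, fun i hi => ?_⟩
    rcases Finset.mem_insert.1 hi with rfl | hi
    · exact transport f hn₂ hnW (pullback.snd g₁ g₂) pullback.condition.symm
        ((Scheme.Hom.comp_apply τ (pullback.snd g₁ g₂) _).symm.trans
          ((congr($(show τ ≫ pullback.snd g₁ g₂ = σ₂ from pullback.lift_snd _ _ _) _)).trans (hσu₂ _))) (x i) (hs i)
        ⟨V₂, v₂, hv₂, hf₂, hs₂, hu₂, hx₂⟩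
    · exact transport f hn₁ hnW (pullback.fst g₁ g₂) rfl
        ((Scheme.Hom.comp_apply τ (pullback.fst g₁ g₂) _).symm.trans
          ((congr($(show τ ≫ pullback.fst g₁ g₂ = σ₁ from pullback.lift_fst _ _ _) _)).trans (hσu₁ _))) (x i) (hs i) (hd₁ i hi)

end Groth.Agent.S1354
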