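import Groth.Statements.S13540
import Groth.Agent.ResProp8.Main
-- import your own Groth.Agent.* helpers here

set_option autoImplicit false
set_option backward.isDefEq.respectTransparency.types false
universe u
open CategoryTheory CategoryTheory.Limits AlgebraicGeometry
open ResProp

namespace Groth.Agent.S13540

/-- Let f : Y ⟶ X be a proper birational morphism (an isomorphism over a dense open with dense preimage)
of d-dimensional schemes proper over a Noetherian ring A, with Y carrying an ample invertible module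
L. If a coherent module F on X pulls back to a module isomorphic to L over the preimage of an open V
of X containing all points of codimension at most 1, then F is cohomologically (d-1)-ample: for
every coherent G on X the groups H^i(X, G ⊗ F^n) (tensor powers) vanish for all i ≥ d and all large
n. Here d ≥ 1: for d = 0 the vanishing would include degree 0 and fails when X = Y is the spectrum
of a field and F = L is the structure sheaf; (d-1)-ampleness presupposes d ≥ 1. -/
theorem result (A : Type u) [CommRing A] [IsNoetherianRing A]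
    {X Y : Scheme.{u}} (pX : X ⟶ Spec (CommRingCat.of A)) (pY : Y ⟶ Spec (CommRingCat.of A))
    [IsProper pX] [IsProper pY] (f : Y ⟶ X) (hf : f ≫ pX = pY) [IsProper f]
    (U : X.Opens) (hU : Dense (U : Set X)) (hU' : Dense ((f ⁻¹ᵁ U : Y.Opens) : Set Y)) (hiso : IsIso (f ∣_ U))
    (d : ℕ) (hd : 1 ≤ d) (hX : topologicalKrullDim X = d) (hY : topologicalKrullDim Y = d)
    (L : Y.Modules) (hL : CohB1.IsAmple L)
    (V : X.Opens) (hV : ∀ y : X, ringKrullDim (X.presheaf.stalk y) ≤ 1 → y ∈ V)
    (F : X.Modules) (hF : Coh.IsCoh F)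
    (hFL : Nonempty (((Scheme.Modules.pullback f).obj F).restrict (f ⁻¹ᵁ V).ι ≅ L.restrict (f ⁻¹ᵁ V).ι)) :
    ∀ G : X.Modules, Coh.IsCoh G → ∃ n₀ : ℕ, ∀ n : ℕ, n₀ ≤ n → ∀ i : ℕ, d ≤ i →
      Subsingleton (Coh.HH X (CohB1.tensorMod G (CohB1.tensorPow F n)) i) := by
  classical
  have : IsLocallyNoetherian X := LocallyOfFiniteType.isLocallyNoetherian pX
  have : CompactSpace X := QuasiCompact.compactSpace_of_compactSpace pX
  have : IsNoetherian X := {}
  have : IsLocallyNoetherian Y := LocallyOfFiniteType.isLocallyNoetherian pY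
  have : CompactSpace Y := QuasiCompact.compactSpace_of_compactSpace pY
  have : X.IsSeparated := Coherent.Serre.isSeparated_of_isProper pX
  let _ : Y.Over (Spec (CommRingCat.of A)) := ⟨pY⟩
  have : IsProper (Y ↘ Spec (CommRingCat.of A)) := ‹IsProper pY›
  obtain ⟨e⟩ := hFL
  intro G hG
  have hLi := hL.1
  have hamp : ∀ B : X.Opens, IsAffineOpen B → CohB1.IsAmple (L.restrict (f ⁻¹ᵁ B).ι) := fun B hB => by
    have : CompactSpace (f ⁻¹ᵁ B).toScheme :=
      isCompact_iff_compactSpace.mp (f.isCompact_preimage hB.isCompact)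
    exact AmpleLib.isAmple_of_iso ((Scheme.Modules.restrictFunctorIsoPullback (f ⁻¹ᵁ B).ι).app L).symm
      (AmpleLib.isAmple_pullback_of_isOpenImmersion (f ⁻¹ᵁ B).ι hL)
  -- finitely many affine opens covering `V`
  have hcov : ∀ x : (V : Set X), ∃ B : X.affineOpens, x.1 ∈ B.1 ∧ B.1 ≤ V := fun x => by
    obtain ⟨B, hB, hx, hle⟩ := TopologicalSpace.Opens.isBasis_iff_nbhd.mp X.isBasis_affineOpens (show x.1 ∈ V from x.2)
    exact ⟨⟨B, hB⟩, hx, hle⟩
  choose B hxB hBV using hcov
  obtain ⟨s, hs⟩ := (TopologicalSpace.NoetherianSpace.isCompact (V : Set X)).elim_finite_subcover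
    (fun x : (V : Set X) => ((B x).1 : Set X)) (fun x => (B x).1.2)
    (fun x hx => Set.mem_iUnion.2 ⟨⟨x, hx⟩, hxB _⟩)
  let t : Finset X.affineOpens := s.image B
  have ht : ∀ B' ∈ t, B'.1 ≤ V := fun B' hB' => by
    obtain ⟨x, -, rfl⟩ := Finset.mem_image.1 hB'
    exact hBV x
  have htc : ∀ x ∈ V, ∃ B' ∈ t, x ∈ B'.1 := fun x hx => by
    obtain ⟨y, hy, hxy⟩ := Set.mem_iUnion₂.1 (hs hx)
    exact ⟨B y, Finset.mem_image_of_mem B hy, hxy⟩
  choose N₁ hN₁ using fun B' : t => Groth.Agent.ResProp8.eventually_gen (e := e) hLi hG hF (ht B'.1 B'.2)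
    (hamp _ B'.1.2)
  let n₁ := Finset.univ.sup N₁
  obtain ⟨I, hI, hIsupp, hIgen⟩ := Groth.Agent.ResProp8.exists_ideal (e := e) hLi hG hF (U := U) n₁ t ht
    (fun B' hB' n hn => hN₁ ⟨B', hB'⟩ n ((Finset.le_sup (Finset.mem_univ _)).trans hn))
  choose N₂ hN₂ using fun B' : t => Groth.Agent.ResProp8.eventually_ideal e hLi hG hI (ht B'.1 B'.2)
    (hamp _ B'.1.2) n₁ (hIgen B'.1 B'.2)
  let n₂ := Finset.univ.sup N₂
  have hGp : Coh.IsCoh ((Scheme.Modules.pullback f).obj G) :=
    ⟨haveI := hG.1; EGA43.InjFibre.isQCoh_pullback f G, Coherent.isFT_pullback_qcoh f hG.1 hG.2⟩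
  have hIp : Coh.IsCoh ((Scheme.Modules.pullback f).obj (ClSub.idealMod I)) :=
    ⟨haveI := hI.1; EGA43.InjFibre.isQCoh_pullback f _, Coherent.isFT_pullback_qcoh f hI.1 hI.2⟩
  have hK : Coh.IsCoh (Groth.Agent.ResProp8.twK f G I) :=
    haveI := hGp.1
    haveI := hIp.1
    ⟨Coherent.isQCoh_tensorMod _ _, Coherent.isFT_tensorMod _ _ hGp.2 hIp.2⟩
  obtain ⟨n₃, hn₃⟩ := Groth.Agent.S0055.result f L hLi (fun W hW => hamp W hW) _ hK
  obtain ⟨n₄, hn₄⟩ := Coherent.Serre.exists_subsingleton_HH_twist A hL _ hK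
  refine ⟨max (max n₂ n₃) n₄, fun n hn i hi => ?_⟩
  have h2 : n₂ ≤ n := le_trans (le_trans (le_max_left _ _) (le_max_left _ _)) hn
  have h3 : n₃ ≤ n := le_trans (le_trans (le_max_right _ _) (le_max_left _ _)) hn
  have h4 : n₄ ≤ n := le_trans (le_max_right _ _) hn
  have hdim : topologicalKrullDim X ≤ (d : WithBot ℕ∞) := hX.le
  rcases eq_or_lt_of_le hi with rfl | hlt
  · have hKn := EulerLib.isCoh_twist (AmpleLib.isInvertible_tensorPow hLi n) hK
    have := hKn.1
    have hPq := (Coherent.Existence.isCoh_push_of_isProper f hKn).1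
    have hTn : Coh.IsCoh (Groth.Agent.ResProp8.twn f G L n) :=
      EulerLib.isCoh_twist (AmpleLib.isInvertible_tensorPow hLi n) hGp
    have hTq : Coh.IsQCoh (Groth.Agent.ResProp8.TW f V (Groth.Agent.ResProp8.twn f G L n)) := by
      have := RefHullLib.isQCoh_push_restrict _ hTn.1 (f ⁻¹ᵁ V)
      exact Coherent.isQCoh_push f _
    have hac := VarietyLib.acyclicOverBasis_of_isZero f (CohB1.tensorMod (Groth.Agent.ResProp8.twK f G I)
      (CohB1.tensorPow L n)) fun p hp => hn₃ n h3 p hp
    have hY := hn₄ n h4 d (by omega)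
    have eq := ((Coherent.HHTopEquiv (CohB1.tensorMod (Groth.Agent.ResProp8.twK f G I) (CohB1.tensorPow L n)) d).trans
      (Coherent.H'PushEquiv (X := Y.toTopCat) (Y := X.toTopCat) (f := f.base) X.isBasis_affineOpens
        (Coh.toAb (CohB1.tensorMod (Groth.Agent.ResProp8.twK f G I) (CohB1.tensorPow L n))) hac ⊤ d)).trans
      (Coherent.HHTopEquiv ((Coh.push f).obj (CohB1.tensorMod (Groth.Agent.ResProp8.twK f G I) (CohB1.tensorPow L n))) d).symm
    refine Groth.Agent.ResProp8.subsingleton_top f e (U := U) hLi hG hF I hIsupp d n hd hdim ?_ ?_ t htc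
      (fun B' hB' => hN₂ ⟨B', hB'⟩ n ((Finset.le_sup (Finset.mem_univ _)).trans h2)) hPq hTq
      eq.symm.toEquiv.subsingleton
    · intro x hx
      by_contra h
      refine hx (hV x ?_)
      rw [ringKrullDim_stalk_eq_coheight] at h ⊢
      have h' : ¬ (2 : ℕ∞) ≤ Order.coheight x := fun h'' => h (le_of_eq_of_le rfl (WithBot.coe_le_coe.2 h''))
      exact_mod_cast Order.le_of_lt_succ (not_le.1 h' : Order.coheight x < Order.succ 1)
    · intro x hx
      by_contra h
      rw [ringKrullDim_stalk_eq_coheight] at h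
      have h' : Order.coheight x = 0 := by
        have : ¬ (1 : ℕ∞) ≤ Order.coheight x := fun h'' => h (by exact_mod_cast h'')
        exact ENat.lt_one_iff_eq_zero.1 (not_le.1 this)
      have h0 : ringKrullDim (X.presheaf.stalk x) = 0 := by
        rw [ringKrullDim_stalk_eq_coheight, h']; rfl
      exact hx ⟨Groth.Agent.ResProp8.mem_of_ringKrullDim_eq_zero hU h0, hV x (by rw [h0]; exact zero_le_one)⟩
  · have hGF : Coh.IsQCoh (CohB1.tensorMod G (CohB1.tensorPow F n)) := by
      have := hG.1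
      have := hF.1
      have : Coh.IsQCoh (CohB1.tensorPow F n) := TPowGen8.isQCoh_tensorPow n
      exact Coherent.isQCoh_tensorMod _ _
    exact EulerLib.subsingleton_HH_of_support ⊤ _ hGF (fun x _ => trivial) i
      (Groth.Agent.ResProp8.dim_lt_of_le_stalk isClosed_univ hdim (c := 0) (by omega) fun x _ => by
        exact_mod_cast ringKrullDim_nonneg_of_nontrivial)

end Groth.Agent.S13540
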