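import Groth.Statements.S13541
import Groth.Agent.RelVALib.VBEmbed
import Groth.Agent.RelVALib.UPPhi
import Groth.Agent.SymAlgLib.Grading
import Groth.Agent.SymAlgLib.Consequences
import Groth.Agent.RelSpecLib.Basic
import Groth.Agent.Coherent.FiniteType
import Groth.Agent.Coherent.Existence.SysKernel
import Groth.Agent.CAlgH3.LocFreeFactor

set_option autoImplicit false
universe u
open CategoryTheory CategoryTheory.Limits AlgebraicGeometry
open ResProp

namespace Groth.Agent.S13541

open Opposite TopologicalSpace Groth.Agent.Coherent Groth.Agent.PicLib Groth.Agent.AmpleLib Groth.Agent.SymAlgLib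

section ring

variable (R M : Type u) [CommRing R] [AddCommGroup M] [Module R M]

/-- The degree one projection of the symmetric algebra. -/
theorem exists_prOne : ∃ p : SymmetricAlgebra R M →+ M, (∀ m, p (SymmetricAlgebra.ι R M m) = m) ∧
    (∀ r, p (algebraMap R _ r) = 0) ∧
    ∃ c : SymmetricAlgebra R M →+* R, (∀ r, c (algebraMap R _ r) = r) ∧ (∀ m, c (SymmetricAlgebra.ι R M m) = 0) ∧
      ∀ x y, p (x * y) = c x • p y + c y • p x := by
  letI : Module Rᵐᵒᵖ M := Module.compHom M ((RingHom.id R).fromOpposite mul_comm)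
  haveI : IsCentralScalar R M := ⟨fun r m => rfl⟩
  let L : SymmetricAlgebra R M →ₐ[R] TrivSqZeroExt R M := SymmetricAlgebra.lift (TrivSqZeroExt.inrHom R M)
  refine ⟨AddMonoidHom.mk' (fun x => (L x).snd) fun a b => by rw [map_add, TrivSqZeroExt.snd_add],
    fun m => ?_, fun r => ?_, (TrivSqZeroExt.fstHom R R M).toRingHom.comp L.toRingHom, fun r => ?_, fun m => ?_,
    fun x y => ?_⟩
  · show (L _).snd = m
    rw [SymmetricAlgebra.lift_ι_apply]
    rfl
  · show (L _).snd = 0
    rw [L.commutes]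
    rfl
  · show (L _).fst = r
    rw [L.commutes]
    rfl
  · show (L _).fst = 0
    rw [SymmetricAlgebra.lift_ι_apply]
    rfl
  · show (L (x * y)).snd = (L x).fst • (L y).snd + (L y).fst • (L x).snd
    rw [map_mul, TrivSqZeroExt.snd_mul]
    rfl

/-- The chosen projection. -/
noncomputable def prOne : SymmetricAlgebra R M →+ M := (exists_prOne R M).choose

theorem prOne_ι (m : M) : prOne R M (SymmetricAlgebra.ι R M m) = m := (exists_prOne R M).choose_spec.1 m

theorem prOne_algebraMap (r : R) : prOne R M (algebraMap R _ r) = 0 := (exists_prOne R M).choose_spec.2.1 r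

/-- The augmentation. -/
noncomputable def cst : SymmetricAlgebra R M →+* R := (exists_prOne R M).choose_spec.2.2.choose

theorem cst_algebraMap (r : R) : cst R M (algebraMap R _ r) = r :=
  (exists_prOne R M).choose_spec.2.2.choose_spec.1 r

theorem cst_ι (m : M) : cst R M (SymmetricAlgebra.ι R M m) = 0 :=
  (exists_prOne R M).choose_spec.2.2.choose_spec.2.1 m

theorem prOne_mul (x y : SymmetricAlgebra R M) :
    prOne R M (x * y) = cst R M x • prOne R M y + cst R M y • prOne R M x :=
  (exists_prOne R M).choose_spec.2.2.choose_spec.2.2 x y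

theorem prOne_algebraMap_mul (r : R) (x : SymmetricAlgebra R M) :
    prOne R M (algebraMap R _ r * x) = r • prOne R M x := by
  rw [prOne_mul, cst_algebraMap, prOne_algebraMap, smul_zero, add_zero]

variable {R M}

theorem prOne_symMap {R' M' : Type u} [CommRing R'] [AddCommGroup M'] [Module R' M'] {φ : R →+* R'}
    (f : M →ₛₗ[φ] M') (x : SymmetricAlgebra R M) :
    prOne R' M' (symMap f x) = f (prOne R M x) ∧ cst R' M' (symMap f x) = φ (cst R M x) := by
  induction x using SymmetricAlgebra.induction with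
  | algebraMap r =>
    rw [symMap_algebraMap, prOne_algebraMap, prOne_algebraMap, cst_algebraMap, cst_algebraMap, map_zero]
    exact ⟨rfl, rfl⟩
  | ι m =>
    rw [symMap_ι, prOne_ι, prOne_ι, cst_ι, cst_ι, map_zero]
    exact ⟨rfl, rfl⟩
  | add a b ha hb => simp only [map_add, ha.1, ha.2, hb.1, hb.2, and_self]
  | mul a b ha hb =>
    refine ⟨?_, ?_⟩
    · rw [map_mul, prOne_mul, prOne_mul, ha.1, ha.2, hb.1, hb.2, map_add, f.map_smulₛₗ, f.map_smulₛₗ]
    · simp only [map_mul, ha.2, hb.2]

theorem prOne_mem_span (T : Set (SymmetricAlgebra R M)) {x : SymmetricAlgebra R M}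
    (hx : x ∈ Subring.closure (Set.range (algebraMap R (SymmetricAlgebra R M)) ∪ T)) :
    prOne R M x ∈ Submodule.span R (prOne R M '' T) := by
  induction hx using Subring.closure_induction with
  | mem x hx =>
    rcases hx with ⟨r, rfl⟩ | hx
    · rw [prOne_algebraMap]; exact zero_mem _
    · exact Submodule.subset_span ⟨x, hx, rfl⟩
  | zero => rw [map_zero]; exact zero_mem _
  | one => rw [← map_one (algebraMap R (SymmetricAlgebra R M)), prOne_algebraMap]; exact zero_mem _
  | add a b _ _ ha hb => rw [map_add]; exact add_mem ha hb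
  | neg a _ ha => rw [map_neg]; exact neg_mem ha
  | mul a b _ _ ha hb => rw [prOne_mul]; exact add_mem (Submodule.smul_mem _ _ hb) (Submodule.smul_mem _ _ ha)

end ring

variable {S : Scheme.{u}}

theorem secEquiv_str (M : S.Modules) [Coh.IsQCoh M] (U : S.Opens) (hU : IsAffineOpen U) (r : Γ(S, U)) :
    secEquiv M U hU ((symAlg M).str.app (op U) r) = algebraMap Γ(S, U) _ r := by
  apply (secEquiv M U hU).symm.injective
  rw [RingEquiv.symm_apply_apply]
  exact (secIso_inv_algebraMap M ⟨U, hU⟩ r).symm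

/-- A closed immersion of relative spectra over the base gives a surjection of algebras on affine opens. -/
theorem exists_algHom (A B : RelSpec.QCAlg S) (i : B.spec ⟶ A.spec) [IsClosedImmersion i] (w : i ≫ A.π = B.π) :
    ∃ ψ : A ⟶ B, ∀ U : S.Opens, IsAffineOpen U → Function.Surjective (ψ.hom.app (op U)).hom := by
  haveI := RelSpecLib.isIso_gammaMap A
  let χ : A.π.base _* A.spec.presheaf ⟶ B.π.base _* B.spec.presheaf :=
    { app := fun U => i.appLE (A.π ⁻¹ᵁ U.unop) (B.π ⁻¹ᵁ U.unop) (by rw [← w, Scheme.Hom.comp_preimage])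
      naturality := fun U V h => by
        show A.spec.presheaf.map _ ≫ i.appLE _ _ _ = i.appLE _ _ _ ≫ B.spec.presheaf.map _
        rw [Scheme.Hom.appLE_map, Scheme.Hom.map_appLE] }
  have hχ : A.π.c ≫ χ = B.π.c := by
    refine NatTrans.ext (funext fun U' => ?_)
    obtain ⟨U⟩ := U'
    show A.π.app U ≫ i.appLE _ _ _ = B.π.app U
    rw [Scheme.Hom.app_eq_appLE, Scheme.Hom.appLE_comp_appLE]
    simp only [w, Scheme.Hom.app_eq_appLE]
  refine ⟨⟨inv A.gammaMap ≫ χ ≫ B.gammaMap, ?_⟩, fun U hU => ?_⟩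
  · rw [← A.π_c_gammaMap, Category.assoc, IsIso.hom_inv_id_assoc, ← Category.assoc, hχ, B.π_c_gammaMap]
  · haveI := RelSpecLib.isIso_gammaMap B
    have h1 : Function.Surjective (χ.app (op U)).hom := by
      have h : i ⁻¹ᵁ (A.π ⁻¹ᵁ U) = B.π ⁻¹ᵁ U := by rw [← w, Scheme.Hom.comp_preimage]
      show Function.Surjective (i.appLE (A.π ⁻¹ᵁ U) (B.π ⁻¹ᵁ U) h.ge).hom
      have happ := Scheme.Hom.app_surjective i (A.π ⁻¹ᵁ U) (hU.preimage A.π)
      rw [Scheme.Hom.appLE]
      haveI : IsIso (homOfLE h.ge) := ⟨homOfLE h.le, rfl, rfl⟩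
      exact (ConcreteCategory.bijective_of_isIso (B.spec.presheaf.map (homOfLE h.ge).op)).2.comp happ
    exact ((ConcreteCategory.bijective_of_isIso (B.gammaMap.app (op U))).2.comp h1).comp
      (ConcreteCategory.bijective_of_isIso ((inv A.gammaMap).app (op U))).2

/-- A surjection from a symmetric algebra onto another gives an epimorphism of generators. -/
theorem exists_epi (E M : S.Modules) [Coh.IsQCoh E] [Coh.IsQCoh M] {A : RelSpec.QCAlg S} {j : E ⟶ A.toModule}
    (hA : RelSpec.IsSymAlg E A j) (ψ : A ⟶ symAlg M)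
    (hψ : ∀ U : S.Opens, IsAffineOpen U → Function.Surjective (ψ.hom.app (op U)).hom) :
    ∃ θ : E ⟶ M, Epi θ := by
  let q : ∀ (U : S.Opens) (hU : IsAffineOpen U), A.presheaf.obj (op U) →+* SymmetricAlgebra Γ(S, U) Γ(M, U) :=
    fun U hU => (secEquiv M U hU).toRingHom.comp (ψ.hom.app (op U)).hom
  let jA : ∀ (U : S.Opens), Γ(E, U) →+ A.presheaf.obj (op U) := fun U => (j.app U).hom
  let f : ∀ (U : S.Opens), IsAffineOpen U → (Γ(E, U) →+ Γ(M, U)) := fun U hU =>
    (prOne Γ(S, U) Γ(M, U)).comp ((q U hU).toAddMonoidHom.comp (jA U))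
  have hq : ∀ (U : S.Opens) (hU : IsAffineOpen U) (r : Γ(S, U)),
      q U hU (A.str.app (op U) r) = algebraMap Γ(S, U) _ r := fun U hU r => by
    show secEquiv M U hU (ψ.hom.app (op U) (A.str.app (op U) r)) = _
    rw [show ψ.hom.app (op U) (A.str.app (op U) r) = (symAlg M).str.app (op U) r from
      ConcreteCategory.congr_hom (NatTrans.congr_app ψ.comm (op U)) r, secEquiv_str]
  have hlin : ∀ (U : S.Opens) (hU : IsAffineOpen U) (r : Γ(S, U)) (x : Γ(E, U)),
      f U hU (r • x) = r • f U hU x := fun U hU r x => by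
    show prOne _ _ (q U hU (j.app U (r • x))) = r • prOne _ _ (q U hU (jA U x))
    rw [Scheme.Modules.Hom.app_smul]
    show prOne _ _ (q U hU (A.str.app (op U) r * jA U x)) = _
    rw [map_mul, hq, prOne_algebraMap_mul]
  obtain ⟨θ, hθ⟩ := RelVALib.exists_hom_of_affine E M f hlin fun U V hU hV h x => by
    show prOne _ _ (secEquiv M V hV (ψ.hom.app (op V) (jA V (resM E h x)))) =
      resM M h (prOne _ _ (secEquiv M U hU (ψ.hom.app (op U) (jA U x))))
    have h1 : jA V (resM E h x) = A.presheaf.map (homOfLE h).op (jA U x) :=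
      ConcreteCategory.congr_hom (j.mapPresheaf.naturality (homOfLE h).op) x
    rw [h1, show ψ.hom.app (op V) (A.presheaf.map (homOfLE h).op (jA U x)) =
      (symAlg M).presheaf.map (homOfLE h).op (ψ.hom.app (op U) (jA U x)) from
        NatTrans.naturality_apply ψ.hom (homOfLE h).op (jA U x), secEquiv_res M hU hV h, (prOne_symMap _ _).1]
    rfl
  refine ⟨θ, Coherent.Existence.epi_of_affine_surjective θ fun U hU m => ?_⟩
  obtain ⟨a, ha⟩ := hψ U hU ((secEquiv M U hU).symm (SymmetricAlgebra.ι Γ(S, U) Γ(M, U) m))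
  have ha' : q U hU a = SymmetricAlgebra.ι Γ(S, U) Γ(M, U) m := by
    show secEquiv M U hU (ψ.hom.app (op U) a) = _
    rw [ha, RingEquiv.apply_symm_apply]
  have hmem : q U hU a ∈ Subring.closure (Set.range (algebraMap Γ(S, U) (SymmetricAlgebra Γ(S, U) Γ(M, U))) ∪
      Set.range fun x => q U hU (jA U x)) := by
    have h0 : a ∈ Subring.closure (Set.range (A.str.app (op U)).hom ∪ Set.range (fun x : Γ(E, U) => jA U x)) :=
      (closure_eq_top hA hU).ge (Subring.mem_top a)
    have h1 := Subring.mem_map.2 ⟨a, h0, (rfl : q U hU a = q U hU a)⟩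
    rw [RingHom.map_closure] at h1
    refine Subring.closure_mono ?_ h1
    rintro _ ⟨_, (⟨r, rfl⟩ | ⟨x, rfl⟩), rfl⟩
    · exact Or.inl ⟨r, (hq U hU r).symm⟩
    · exact Or.inr ⟨x, rfl⟩
  have hm := prOne_mem_span _ hmem
  rw [ha', prOne_ι] at hm
  obtain ⟨x, hx⟩ : ∃ x, f U hU x = m := by
    let fl : Γ(E, U) →ₗ[Γ(S, U)] Γ(M, U) := { f U hU with map_smul' := fun r x => hlin U hU r x }
    have : m ∈ LinearMap.range fl := by
      refine Submodule.span_le.2 ?_ hm
      rintro _ ⟨_, ⟨x, rfl⟩, rfl⟩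
      exact ⟨x, rfl⟩
    exact this
  exact ⟨x, (hθ U hU x).trans hx⟩

/-- In the case of schemes, a Noetherian scheme S has the resolution property exactly when each affine
finite-type morphism X ⟶ S factors over S through a closed immersion of X into a vector bundle V(E)
= Spec Sym(E), E a finite locally free module on S (V(E) is given as the relative spectrum of a
quasi-coherent algebra A with a map E ⟶ A making A the symmetric algebra of E). (The published
statement is for Noetherian algebraic stacks; this row is the case of schemes.) -/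
theorem result (S : Scheme.{u}) [IsNoetherian S] :
    PerfAux.HasResolutionProperty S ↔
      ∀ (X : Scheme.{u}) (f : X ⟶ S) [IsAffineHom f] [LocallyOfFiniteType f],
        ∃ (E : S.Modules) (A : RelSpec.QCAlg S) (j : E ⟶ A.toModule) (i : X ⟶ A.spec),
          Coh.IsQCoh E ∧ FlatMod.IsFinLocFree E ∧ RelSpec.IsSymAlg E A j ∧ IsClosedImmersion i ∧ i ≫ A.π = f := by
  constructor
  · intro hR X f _ _
    obtain ⟨E, ⟨hEq, hEft⟩, A, j, hA, i, hi, hif⟩ :=
      RelVALib.exists_closedImmersion_symAlg f (Or.inr inferInstance)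
    obtain ⟨E', u, hE', _⟩ := hR E hEq hEft
    haveI := hEq
    haveI := CAlgH3.LocFreeFactor.isQCoh_of_finLocFree hE'
    obtain ⟨ψ, hψ, -⟩ := isSymAlg_symAlg E' A (u ≫ j)
    haveI := isClosedImmersion_specMap ψ fun U hU => SymAlgLib.surjective_of_epi u hA ψ hψ hU
    exact ⟨E', _, _, i ≫ RelSpec.QCAlg.specMap ψ, inferInstance, hE', isSymAlg_symAlg E', inferInstance,
      by rw [Category.assoc, RelSpec.QCAlg.specMap_π, hif]⟩
  · intro H M hMq hMft
    haveI := hMq
    haveI : LocallyOfFiniteType (symAlg M).π := locallyOfFiniteType_π fun U hU =>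
      finiteType_str (isSymAlg_symAlg M) hU (finite_sections M (locallyFinGen_of_isFT M hMft) hU)
    obtain ⟨E, A, j, i, hEq, hE, hA, hi, hif⟩ := H (symAlg M).spec (symAlg M).π
    obtain ⟨ψ, hψ⟩ := exists_algHom A (symAlg M) i hif
    haveI := hEq
    obtain ⟨θ, hθ⟩ := exists_epi E M hA ψ hψ
    exact ⟨E, θ, hE, hθ⟩

end Groth.Agent.S13541
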