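import Groth.Statements.S13542
import Groth.Agent.H8Coh.SigmaSections
import Groth.Agent.DQCoh.ResDescent
import Groth.Agent.Coherent.CohBC.HomCorep
import Groth.Agent.Coherent.TensorQcoh
-- import your own Groth.Agent.* helpers here

set_option autoImplicit false
set_option linter.style.haveILetI false
set_option backward.isDefEq.respectTransparency.types false
universe u
open CategoryTheory CategoryTheory.Limits AlgebraicGeometry
open ResProp

open Groth.Agent.Coherent
namespace Groth.Agent.S13542

/-- In the case of schemes over an affine base, let f : X ⟶ Y be finite, flat, of finite presentation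
and surjective between quasi-compact quasi-separated schemes. If a family (E_i) of finitely
presented quasi-coherent modules on X is generating, i.e. every quasi-coherent module on X is a
quotient of a direct sum of copies of the E_i, then the family of direct images (f_*E_i) is
generating on Y. (The published statement is for morphisms of algebraic stacks and families
generating relative to a further morphism; this row is the case of schemes with the absolute notion
of a generating family.) -/
theorem result {X Y : Scheme.{u}}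
    [CompactSpace X] [QuasiSeparatedSpace X] [CompactSpace Y] [QuasiSeparatedSpace Y]
    (f : X ⟶ Y) [IsFinite f] [Flat f] [LocallyOfFinitePresentation f] [Surjective f]
    {ι : Type u} (E : ι → X.Modules) (hE : ∀ i, Coh.IsQCoh (E i) ∧ CohB1.IsFP (E i))
    (hgen : ∀ M : X.Modules, Coh.IsQCoh M →
      ∃ (κ : Type u) (j : κ → ι) (π : (∐ fun k : κ => E (j k)) ⟶ M), Epi π) :
    ∀ N : Y.Modules, Coh.IsQCoh N →
      ∃ (κ : Type u) (j : κ → ι) (π : (∐ fun k : κ => (Scheme.Modules.pushforward f).obj (E (j k))) ⟶ N), Epi π := by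
  classical
  intro N hN
  haveI := hN
  haveI : ∀ i, Coh.IsQCoh (E i) := fun i => (hE i).1
  obtain ⟨-, hA⟩ := MorProj.finLocFree_pushforward_of_isFinLocFree f (show Mor2.IsFinLocFree f from ⟨‹_›, ‹_›, ‹_›⟩)
  let A := DQCoh.pushStr f
  have hD : FlatMod.IsFinLocFree (internalHom A (Coh.structureModule Y)) :=
    CohBC.isFinLocFree_internalHom hA (CohBC.isFinLocFree_structureModule Y)
  haveI : Coh.IsQCoh (internalHom A (Coh.structureModule Y)) := DCat.PullPerf.isQCoh_of_finLocFree hD
  have hdual : IsIso (CohBC.dualBilin A N).desc := CohBC.isIso_dualBilin A hA N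
  haveI : Coh.IsQCoh (internalHom A N) :=
    (SheafOfModules.isQuasicoherent Y.ringCatSheaf).prop_of_iso (@asIso _ _ _ _ (CohBC.dualBilin A N).desc hdual) (isQCoh_tensorMod _ _)
  let evB : AmpleLib.Bilin A (internalHom A N) N :=
    { app := fun U a φ => ev (secHom φ) U le_rfl a
      add_left := fun U a a' φ => map_add ((secHom φ).1 U le_rfl) a a'
      add_right := fun U a φ φ' => rfl
      smul_left := fun U r a φ => ev_smul_arg (secHom φ) U le_rfl r a
      smul_right := fun U r a φ => by
        show ev (r • secHom φ) U le_rfl a = _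
        rw [ev_smul, show Y.presheaf.map (homOfLE (le_refl U)).op r = r from
          ConcreteCategory.congr_hom (Y.presheaf.map_id _) r]
      res := fun U V h a φ => ev_res (secHom φ) le_rfl h a }
  haveI : Epi evB.desc := by
    refine epi_of_locally_surjective _ fun W a y hy => ?_
    obtain ⟨U, n, e, hyU, hUW, he⟩ := exists_basis_nhd hA y W hy
    obtain ⟨z, hz⟩ := f.surjective y
    haveI : Nontrivial Γ(X, f ⁻¹ᵁ U) :=
      haveI : Nonempty (f ⁻¹ᵁ U : X.Opens).toScheme := ⟨⟨z, show f z ∈ U by rw [hz]; exact hyU⟩⟩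
      Scheme.component_nontrivial X (f ⁻¹ᵁ U)
    obtain ⟨k⟩ : Nonempty (ULift.{u} (Fin n)) := by
      by_contra hI
      rw [not_nonempty_iff] at hI
      have h0 : ∀ w : Γ(A, U), w = 0 := fun w => by
        rw [← he.coef_spec le_rfl w, Finset.univ_eq_empty, Finset.sum_empty]
      exact one_ne_zero (α := Γ(X, f ⁻¹ᵁ U)) (h0 (show Γ(A, U) from (1 : Γ(X, f ⁻¹ᵁ U))))
    let φ : Γ(internalHom A N, U) :=
      (CohBC.dualBilin A N).desc.app U (AmpleLib.tmul (coordHom he k) (resM N hUW a))
    refine ⟨U, hUW, hyU, AmpleLib.tmul (e k) φ, ?_⟩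
    rw [AmpleLib.Bilin.desc_tmul]
    show ev (secHom ((CohBC.dualBilin A N).desc.app U (AmpleLib.tmul (coordHom he k) (resM N hUW a)))) U le_rfl (e k) = _
    rw [AmpleLib.Bilin.desc_tmul]
    show (show Γ(Y, U) from ev (secHom (coordHom he k)) U le_rfl (e k)) • resM N le_rfl (resM N hUW a) = _
    rw [PicLib.resM_self]
    refine Eq.trans (congrArg (· • resM N hUW a) ?_) (one_smul Γ(Y, U) _)
    show he.coef le_rfl (e k) k = 1
    have h := he.coef_self le_rfl k
    rw [PicLib.resM_self] at h
    rw [h]
    simp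
  let M := (Scheme.Modules.pullback f).obj (internalHom A N)
  haveI : Coh.IsQCoh M := EGA43.InjFibre.isQCoh_pullback f _
  haveI := DQCoh.isIso_unitBilin f (internalHom A N)
  let θ : (Scheme.Modules.pushforward f).obj M ⟶ N := inv (DQCoh.unitBilin f (internalHom A N)).desc ≫ evB.desc
  haveI : Epi θ := epi_comp _ _
  obtain ⟨κ, j, π, hπ⟩ := hgen M inferInstance
  haveI := hπ
  let q : (∐ fun k : κ => (Scheme.Modules.pushforward f).obj (E (j k))) ⟶ N :=
    Sigma.desc fun k => (Scheme.Modules.pushforward f).map (Sigma.ι (fun k => E (j k)) k ≫ π) ≫ θ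
  refine ⟨κ, j, q, epi_of_locally_surjective q fun W a y hy => ?_⟩
  obtain ⟨B, hB, hyB, hBW⟩ := exists_isAffineOpen_mem_and_subset (x := y) (U := W) hy
  refine ⟨B, hBW, hyB, ?_⟩
  haveI : Coh.IsQCoh ((Scheme.Modules.pushforward f).obj M) := isQCoh_push f _
  obtain ⟨t, ht⟩ := H8Lim.app_surjective_of_epi θ hB (resM N hBW a)
  suffices h : ∀ t : Γ(M, f ⁻¹ᵁ B), ∃ b, q.app B b = θ.app B (show Γ((Scheme.Modules.pushforward f).obj M, B) from t) from ht ▸ h t
  intro t
  induction H8Coh.mem_closure_sigma (fun k => E (j k)) π (hB.preimage f) t using AddSubmonoid.closure_induction with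
  | zero => exact ⟨0, (map_zero _).trans (map_zero (θ.app B).hom).symm⟩
  | add u v _ _ hu hv =>
    obtain ⟨b, hb⟩ := hu
    obtain ⟨b', hb'⟩ := hv
    exact ⟨b + b', by rw [map_add, hb, hb']; exact (map_add (θ.app B).hom (show Γ((Scheme.Modules.pushforward f).obj M, B) from u) (show Γ((Scheme.Modules.pushforward f).obj M, B) from v)).symm⟩
  | mem u hu =>
    obtain ⟨k, s, rfl⟩ := Set.mem_iUnion.1 hu
    refine ⟨(Sigma.ι (fun k : κ => (Scheme.Modules.pushforward f).obj (E (j k))) k).app B s, ?_⟩
    show (Sigma.ι (fun k : κ => (Scheme.Modules.pushforward f).obj (E (j k))) k ≫ q).app B s = _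
    rw [Sigma.ι_desc]
    rfl

end Groth.Agent.S13542
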