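import Groth.Statements.S13543
import Groth.Agent.ResGen7.Main
import Groth.Agent.H8Lim.ModEq

set_option autoImplicit false
set_option linter.style.haveILetI false
set_option backward.isDefEq.respectTransparency false
set_option backward.isDefEq.respectTransparency.types false
universe u
open CategoryTheory CategoryTheory.Limits AlgebraicGeometry
open ResProp

namespace Groth.Agent.S13543

/-- In the case of schemes, on a quasi-compact quasi-separated scheme X let (E_i) be a family of
finitely presented quasi-coherent modules closed (up to isomorphism) under binary tensor products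
and binary direct sums. Then (E_i) is a generating family, i.e. every quasi-coherent module is a
quotient of a direct sum of copies of the E_i, if and only if every affine morphism Y ⟶ X factors
over X through a closed immersion of Y into the vector bundle V(E) = Spec Sym(E) of a direct sum E
of copies of members of the family, with finitely many summands whenever Y ⟶ X is of finite type
(V(E) is given as the relative spectrum of a quasi-coherent algebra that is the symmetric algebra of
E). (The published statement is for quasi-compact quasi-separated algebraic stacks and takes E to be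
the direct sum of a subfamily without repeated members; this row is the case of schemes and allows
repetitions, as the printed argument produces: for the generating family of free modules k, k^2,
k^3, … on a point and the affine morphism from the spectrum of a polynomial ring in uncountably many
variables, no direct sum of distinct members works.) -/
theorem result (X : Scheme.{u}) [CompactSpace X] [QuasiSeparatedSpace X]
    {ι : Type u} (E : ι → X.Modules) (hE : ∀ i, Coh.IsQCoh (E i) ∧ CohB1.IsFP (E i))
    (htens : ∀ i i' : ι, ∃ i'' : ι, Nonempty (E i'' ≅ CohB1.tensorMod (E i) (E i')))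
    (hsum : ∀ i i' : ι, ∃ i'' : ι, Nonempty (E i'' ≅ E i ⊞ E i')) :
    (∀ M : X.Modules, Coh.IsQCoh M → ∃ (κ : Type u) (j : κ → ι) (π : (∐ fun k : κ => E (j k)) ⟶ M), Epi π) ↔
    (∀ (Y : Scheme.{u}) (f : Y ⟶ X) [IsAffineHom f],
      ∃ (κ : Type u) (j : κ → ι) (B : RelSpec.QCAlg X) (φ : (∐ fun k : κ => E (j k)) ⟶ B.toModule) (c : Y ⟶ B.spec),
        RelSpec.IsSymAlg (∐ fun k : κ => E (j k)) B φ ∧ IsClosedImmersion c ∧ c ≫ B.π = f ∧
        (LocallyOfFiniteType f → Finite κ)) := by
  classical
  constructor
  · intro hgen Y f _
    let A := RelSpec.QCAlg.directImage f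
    have hAq : Coh.IsQCoh A.toModule := Groth.Agent.Coherent.isQCoh_toModule A
    obtain ⟨κ, j, p, hp⟩ := hgen A.toModule hAq
    have hjq : ∀ k : κ, Coh.IsQCoh (E (j k)) := fun k => (hE (j k)).1
    haveI : Coh.IsQCoh (∐ fun k : κ => E (j k)) := Groth.Agent.ResGen7.isQCoh_sigma _ hjq
    have hsur : ∀ (U : X.Opens), IsAffineOpen U → Function.Surjective (p.app U) := fun U hU =>
      have := hp; Groth.Agent.H8Lim.app_surjective_of_epi p hU
    by_cases hlft : LocallyOfFiniteType f
    · obtain ⟨t, ht, hcov⟩ := isCompact_iff_finite_and_eq_biUnion_affineOpens.1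
        (show IsCompact ((⊤ : X.Opens) : Set X) from isCompact_univ)
      haveI := ht.fintype
      have hft : ∀ U : t, (A.str.app (Opposite.op U.1.1)).hom.FiniteType := fun U => by
        have h1 := LocallyOfFiniteType.finiteType_appLE f (U := U.1.1) U.1.2 (V := f ⁻¹ᵁ U.1.1)
          (U.1.2.preimage f) le_rfl
        rw [← f.app_eq_appLE] at h1
        exact h1
      have hgens : ∀ U : t, ∃ T : Finset κ, ∀ T' : Finset κ, T ⊆ T' →
          Subring.closure (Set.range (A.str.app (Opposite.op U.1.1)).hom ∪
            Set.range (fun x : Γ(∐ fun k : T' => E (j k.1), U.1.1) =>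
              (((Sigma.desc fun k : T' => Sigma.ι (fun k : κ => E (j k)) k.1) ≫ p).app U.1.1 x :
                A.presheaf.obj (Opposite.op U.1.1)))) = ⊤ := by
        intro U
        letI := (A.str.app (Opposite.op U.1.1)).hom.toAlgebra
        obtain ⟨g, hg⟩ := (hft U).1
        choose x hx using fun a : A.presheaf.obj (Opposite.op U.1.1) => hsur U.1.1 U.1.2 a
        choose T hT using fun a : A.presheaf.obj (Opposite.op U.1.1) =>
          Groth.Agent.ResGen7.exists_finite_subsum (fun k : κ => E (j k)) U.1.2.isCompact (x a)
        refine ⟨g.biUnion T, fun T' hT' => ?_⟩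
        refine eq_top_iff.2 fun b _ => ?_
        have hb : b ∈ (Algebra.adjoin Γ(X, U.1.1) (g : Set (A.presheaf.obj (Opposite.op U.1.1)))).toSubring :=
          hg.ge (Algebra.mem_top (x := b))
        rw [Algebra.adjoin_eq_ring_closure] at hb
        refine Subring.closure_mono (Set.union_subset_union_right _ fun a ha => ?_) hb
        obtain ⟨y, hy⟩ := hT a T' ((Finset.subset_biUnion_of_mem T ha).trans hT')
        refine ⟨y, ?_⟩
        show ((Sigma.desc fun k : T' => Sigma.ι (fun k : κ => E (j k)) k.1) ≫ p).app U.1.1 y = a
        rw [Scheme.Modules.Hom.comp_app]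
        exact (congrArg (p.app U.1.1) hy).trans (hx a)
      choose T hT using hgens
      let T₀ := Finset.univ.biUnion T
      have hU : ⨆ s : t, (s.1).1 = (⊤ : X.Opens) := by
        refine top_le_iff.1 fun x hx => ?_
        rw [← SetLike.mem_coe, hcov] at hx
        simp only [TopologicalSpace.Opens.mem_iSup, SetLike.mem_coe] at hx
        obtain ⟨V, hV, hxV⟩ := hx
        exact TopologicalSpace.Opens.mem_iSup.2 ⟨(⟨V, hV⟩ : t), hxV⟩
      obtain ⟨B, φ, c, hB, hc, hw⟩ := Groth.Agent.ResGen7.exists_embed f
        (fun k : T₀ => E (j k.1)) (fun k => hjq k.1)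
        ((Sigma.desc fun k : T₀ => Sigma.ι (fun k : κ => E (j k)) k.1) ≫ p) (fun s : t => s.1) hU
        (fun s => hT s T₀ (Finset.subset_biUnion_of_mem T (Finset.mem_univ s)))
      exact ⟨T₀, fun k => j k.1, B, φ, c, hB, hc, hw, fun _ => inferInstance⟩
    · obtain ⟨B, φ, c, hB, hc, hw⟩ := Groth.Agent.ResGen7.exists_embed f (fun k : κ => E (j k)) hjq p
        (fun U : X.affineOpens => U) (iSup_affineOpens_eq_top X) (fun U => eq_top_iff.2 fun b _ => by
          obtain ⟨x, hx⟩ := hsur U.1 U.2 b
          exact Subring.subset_closure (Or.inr ⟨x, hx⟩))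
      exact ⟨κ, j, B, φ, c, hB, hc, hw, fun h => absurd h hlft⟩
  · intro h M hM
    haveI : Coh.IsQCoh M := hM
    obtain ⟨κ, j, B, φ, c, hB, hc, hw, -⟩ := h _ (Groth.Agent.SplitRibbon7.alg M).π
    obtain ⟨p, hp⟩ := Groth.Agent.ResGen7.exists_epi_of_embed M (fun k : κ => E (j k))
      (fun k => (hE (j k)).1) hB c hw
    exact ⟨κ, j, p, hp⟩

end Groth.Agent.S13543
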