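import Groth.Statements.S13569
import Groth.Agent.Stk19.AlgSt.UnivInj

set_option autoImplicit false
universe u
open CategoryTheory AlgebraicGeometry
open AlgSt

namespace Groth.Agent.S13569

/-- (2) ⇒ (1): let `f : 𝒳 ⟶ 𝒴` be a morphism of algebraic stacks over `S`. If for every affine scheme
`Z` over `S` and every `Z ⟶ 𝒴` the projection `Z ×_𝒴 𝒳 ⟶ Z` is universally injective, then `f` is
universally injective (every base change to an algebraic stack is injective on points). The converse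
implication is the base-change property. -/
theorem result {S : Scheme.{u}} {𝒳 𝒴 : AlgSt.Cat S}
    (h𝒳 : AlgSt.IsAlgStack Scheme.fppfPrecoverage 𝒳) (h𝒴 : AlgSt.IsAlgStack Scheme.fppfPrecoverage 𝒴) (f : 𝒳 ⥤ᵇ 𝒴)
    (h : ∀ (Z : Over S) [IsAffine Z.left] (z : FibCat.overCat Z ⥤ᵇ 𝒴),
      AlgSt.IsUnivInjective Scheme.fppfPrecoverage (FibCat.fpFst z f)) :
    AlgSt.IsUnivInjective Scheme.fppfPrecoverage f := by
  rw [Stk19.isUnivInjective_iff h𝒳 h𝒴]
  intro p
  obtain ⟨K, _, str, y, hy⟩ := Stk19.exists_ofChart_eq p (Stk19.fibGrpd_fp h𝒳.isStack.1 h𝒳.isStack.1 h𝒴.isStack.1 f f)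
  let y₀ := BasedFunctor.comp (BasedFunctor.comp y (FibCat.fpFst f f)) f
  have : IsAffine (Over.mk str).left := inferInstanceAs (IsAffine (Spec (CommRingCat.of K)))
  have hy₀ : AlgSt.IsSurjective (FibCat.diag (FibCat.fpFst y₀ f)) :=
    (Stk19.isUnivInjective_iff (Stk19.isAlgStack_fp h𝒴.isStack h𝒴.diag (Stk19.isAlgStack_overCat _) h𝒳 y₀ f)
      (Stk19.isAlgStack_overCat _) _).1 (h (Over.mk str) y₀)
  obtain ⟨l, ⟨j⟩⟩ := Stk19.exists_bcPair_lift' f y₀ y (BasedFunctor.id _) (Iso.refl _)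
  let t : ↥(Over.mk str).left := IsLocalRing.closedPoint K
  obtain ⟨r, hr⟩ := hy₀ (AlgSt.Points.ofChart l t)
  refine ⟨AlgSt.Points.map (BasedFunctor.comp (Stk19.diagBaseChange y₀ f) (FibCat.fpSnd (Stk19.bcPair y₀ f) (FibCat.diag f))) r, ?_⟩
  rw [← hy t, ← Stk19.ofChart_congr j, ← Stk19.map_ofChart, ← hr, ← Stk19.points_map_comp, ← Stk19.points_map_comp]
  exact (Stk19.points_map_congr ((Stk.restr (Stk19.diagBaseChange y₀ f) _).mapIso (FibCat.fpIso (Stk19.bcPair y₀ f) (FibCat.diag f))) r).symm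

end Groth.Agent.S13569
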