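import Groth.Statements.S13570
import Groth.Agent.Stk19.AlgSt.UnivInj

set_option autoImplicit false
universe u
open CategoryTheory AlgebraicGeometry
open AlgSt

namespace Groth.Agent.S13570

/-- Let `f : 𝒳 ⟶ 𝒴` be a morphism of algebraic stacks over `S` and `W ⟶ 𝒴` a surjective, flat, locally
finitely presented morphism from an algebraic space. If the projection `W ×_𝒴 𝒳 ⟶ W` is universally
injective (every base change to an algebraic stack is injective on points), then so is `f`. -/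
theorem result {S : Scheme.{u}} {𝒳 𝒴 : AlgSt.Cat S}
    (h𝒳 : AlgSt.IsAlgStack Scheme.fppfPrecoverage 𝒳) (h𝒴 : AlgSt.IsAlgStack Scheme.fppfPrecoverage 𝒴) (f : 𝒳 ⥤ᵇ 𝒴)
    (W : AlgSp.Space S) (w : AlgSt.ofSp W.obj ⥤ᵇ 𝒴)
    (hw₁ : AlgSt.RepByAlgSpWith (AlgSp.LocP @Flat) w)
    (hw₂ : AlgSt.RepByAlgSpWith (AlgSp.LocP @LocallyOfFinitePresentation) w)
    (hw₃ : AlgSt.RepByAlgSpWith AlgSp.IsSurjectiveMor w)
    (h : AlgSt.IsUnivInjective Scheme.fppfPrecoverage (FibCat.fpFst w f)) :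
    AlgSt.IsUnivInjective Scheme.fppfPrecoverage f := by
  have hW := (Stk19.isDM_ofSp W).1
  rw [Stk19.isUnivInjective_iff h𝒳 h𝒴]
  refine Stk19.isSurjective_diag_of_lifts h𝒳 h𝒴 w
    ((Stk19.isUnivInjective_iff (Stk19.isAlgStack_fp h𝒴.isStack h𝒴.diag hW h𝒳 w f) hW _).1 h) fun U y t => ?_
  let y₀ := BasedFunctor.comp (BasedFunctor.comp y (FibCat.fpFst f f)) f
  have hN := Stk19.fibGrpd_fp (Stk19.isFibGrpd_overCat U) hW.isStack.1 h𝒴.isStack.1 y₀ w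
  obtain ⟨q, hq⟩ := Stk19.isSurjective_fpFst hW.isStack.1 h𝒴.isStack.1 (Stk19.isFibGrpd_overCat U) w y₀
    (Stk19.isSurjective_of_with h𝒴.isStack.1 hw₃) (AlgSt.Points.ofChart (BasedFunctor.id _) t)
  obtain ⟨K, _, str, c, hc⟩ := Stk19.exists_ofChart_eq q hN
  refine ⟨Over.mk str, BasedFunctor.comp (BasedFunctor.comp c (FibCat.fpFst y₀ w)) y, IsLocalRing.closedPoint K,
    BasedFunctor.comp c (FibCat.fpSnd y₀ w), ?_, ⟨(Stk.restr c _).mapIso (FibCat.fpIso y₀ w).symm⟩⟩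
  rw [← Stk19.map_ofChart, ← Stk19.map_ofChart, hc, hq]
  rfl

end Groth.Agent.S13570
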