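import Groth.Statements.S13578
import Groth.Agent.S13579
import Groth.Agent.DCat.DTenExact
import Groth.Agent.DualLib.Biduality

set_option autoImplicit false
set_option backward.isDefEq.respectTransparency false
set_option backward.defeqAttrib.useBackward true
set_option linter.style.haveILetI false
universe u
open CategoryTheory CategoryTheory.Limits MonoidalCategory
attribute [local instance] HasDerivedCategory.standard
open DTen

namespace Groth.Agent.S13578


section Aux

open MonoidalCategory HomologicalComplex Pretriangulated CategoryTheory.Pretriangulated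
open Groth.Agent.DCat Groth.Agent.DQCoh.AdicPro

variable {A : Type u} [CommRing A]

lemma smul_whiskerRight_cx (r : A) {P Q : DRing.Cx A} (f : P ⟶ Q) (X : DRing.Cx A) :
    (r • f) ▷ X = r • (f ▷ X) := by
  refine HomologicalComplex.hom_ext _ _ fun n => mapBifunctor.hom_ext fun p q h => ?_
  show _ ≫ (mapBifunctorMap (r • f) (𝟙 X) (modT A) (ComplexShape.up ℤ)).f n =
    _ ≫ (r • (mapBifunctorMap f (𝟙 X) (modT A) (ComplexShape.up ℤ)).f n)
  rw [Linear.comp_smul, ι_mapBifunctorMap, ι_mapBifunctorMap, HomologicalComplex.smul_f_apply]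
  simp [MonoidalLinear.smul_whiskerRight, Linear.smul_comp]

/-- A map out of `J M` vanishes if it factors through a map out of `M` killed by `J`. -/
lemma incl_comp_eq_zero (J : Ideal A) (M : Type u) [AddCommGroup M] [Module A M] (X : DRing.Cx A)
    (φ : (single0 A).obj (ModuleCat.of A M) ⟶ X) (hφ : ∀ r ∈ J, r • φ = 0) :
    (single0 A).map (ModuleCat.ofHom (J • (⊤ : Submodule A M)).subtype) ≫ φ = 0 := by
  refine HomologicalComplex.hom_ext _ _ fun n => ?_
  by_cases hn : n = 0
  · subst hn
    let ψ : ModuleCat.of A M ⟶ X.X 0 := (singleObjXSelf (ComplexShape.up ℤ) 0 (ModuleCat.of A M)).inv ≫ φ.f 0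
    have hψ : ∀ r ∈ J, r • ψ = 0 := fun r hr => by
      simp only [ψ]
      rw [← Linear.comp_smul, ← HomologicalComplex.smul_f_apply, hφ r hr]
      simp
    have h0 : ModuleCat.ofHom (J • (⊤ : Submodule A M)).subtype ≫ ψ = 0 := by
      refine ModuleCat.hom_ext (LinearMap.ext fun x => ?_)
      obtain ⟨x, hx⟩ := x
      show ψ.hom x = 0
      induction hx using Submodule.smul_induction_on' with
      | smul r hr y hy =>
        rw [map_smul]
        exact ConcreteCategory.congr_hom (hψ r hr) y
      | add x hx y hy ihx ihy => rw [map_add, ihx, ihy, add_zero]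
    rw [HomologicalComplex.comp_f, single_map_f_self]
    simp only [Category.assoc]
    exact (congrArg (_ ≫ ·) h0).trans comp_zero
  · exact (isZero_single_obj_X (ComplexShape.up ℤ) 0 _ n hn).eq_of_src _ _

theorem exists_factor [IsNoetherianRing A] [DTen.HasLTen A] (I : Ideal A) (M : Type u) [AddCommGroup M] [Module A M]
    [Module.Finite A M] :
    ∃ (n : ℕ) (_ : 0 < n)
      (g : DerivedCategory.Q.obj ((single0 A).obj (ModuleCat.of A ↥(I ^ n • (⊤ : Submodule A M)))) ⟶
        (DTen.tensorRightD A (DerivedCategory.Q.obj ((single0 A).obj (ModuleCat.of A M)))).obj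
          (DerivedCategory.Q.obj ((single0 A).obj (ModuleCat.of A ↥I)))),
      g ≫ (DTen.tensorRightD A (DerivedCategory.Q.obj ((single0 A).obj (ModuleCat.of A M)))).map
          (DerivedCategory.Q.map ((single0 A).map (ModuleCat.ofHom I.subtype))) ≫
        (DTen.unitL A).app (DerivedCategory.Q.obj ((single0 A).obj (ModuleCat.of A M))) =
      DerivedCategory.Q.map ((single0 A).map (ModuleCat.ofHom (I ^ n • (⊤ : Submodule A M)).subtype)) := by
  let M₀ : DRing.Cx A := (single0 A).obj (ModuleCat.of A M)
  let A₀ : DRing.Cx A := 𝟙_ (DRing.Cx A)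
  let S := CohIII.adicSystem I (ModuleCat.of A A)
  obtain ⟨m, hm, b, hb, -⟩ := isProIso_main I M₀ 0 0
    (fun i hi => isZero_single_obj_X (ComplexShape.up ℤ) 0 _ i (by omega))
    (fun i => by
      by_cases hi : i = 0
      · subst hi
        exact Module.Finite.equiv (singleObjXSelf (ComplexShape.up ℤ) 0 (ModuleCat.of A M)).toLinearEquiv.symm
      · haveI := ModuleCat.subsingleton_of_isZero (isZero_single_obj_X (ComplexShape.up ℤ) 0 (ModuleCat.of A M) i hi)
        infer_instance) 0
  let q : ∀ k : ℕ, A₀ ⟶ (single0 A).obj (S.obj (Opposite.op k)) := fun k =>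
    (single0 A).map (ModuleCat.ofHom (Submodule.mkQ (I ^ (k + 1) • (⊤ : Submodule A A))))
  let R := DTen.tensorRightD A (DerivedCategory.Q.obj M₀)
  let L := (DTen.LTen A).obj (DerivedCategory.Q.obj M₀)
  have hker : ∀ r ∈ I ^ (m + 1), r • q m = 0 := fun r hr => by
    refine HomologicalComplex.hom_ext _ _ fun n => ?_
    by_cases hn : n = 0
    · subst hn
      have h0 : r • ModuleCat.ofHom (Submodule.mkQ (I ^ (m + 1) • (⊤ : Submodule A A))) = 0 :=
        ModuleCat.hom_ext (LinearMap.ext fun x => show r • Submodule.Quotient.mk (p := I ^ (m + 1) • (⊤ : Submodule A A)) x = 0 by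
          rw [← Submodule.Quotient.mk_smul, Submodule.Quotient.mk_eq_zero]
          exact Submodule.smul_mem_smul hr Submodule.mem_top)
      rw [HomologicalComplex.smul_f_apply]
      show r • ((single0 A).map _).f 0 = 0
      rw [single_map_f_self, ← Linear.comp_smul, ← Linear.smul_comp, h0]
      simp
    · exact (isZero_single_obj_X (ComplexShape.up ℤ) 0 (ModuleCat.of A A) n hn).eq_of_src _ _
  let ι := (single0 A).map (ModuleCat.ofHom (I ^ (m + 1) • (⊤ : Submodule A M)).subtype)
  let j := ι ≫ (λ_ M₀).inv ≫ (DTen.braidCx A₀ M₀).hom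
  have hj : j ≫ M₀ ◁ q m = 0 := by
    have hnat : (DTen.braidCx A₀ M₀).hom ≫ M₀ ◁ q m = q m ▷ M₀ ≫ (DTen.braidCx _ M₀).hom := by
      have := (DTen.braidT (A := A)).hom.naturality ((Prod.mkHom (𝟙 M₀) (q m)) : (M₀, A₀) ⟶ (M₀, _))
      dsimp [DTen.braidT] at this
      simpa using this.symm
    have hz : ι ≫ ((λ_ M₀).inv ≫ q m ▷ M₀) = 0 := incl_comp_eq_zero (I ^ (m + 1)) M _ _ fun r hr => by
      rw [← Linear.comp_smul, ← smul_whiskerRight_cx, hker r hr]
      refine (congrArg (_ ≫ ·) ?_).trans comp_zero
      rw [show (0 : A₀ ⟶ (single0 A).obj (S.obj (Opposite.op m))) = (0 : A) • (0 : A₀ ⟶ _) from (smul_zero _).symm,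
        smul_whiskerRight_cx, zero_smul]
    simp only [j, Category.assoc, hnat]
    rw [← Category.assoc ((λ_ M₀).inv), ← Category.assoc ι, hz, zero_comp]
  have hA : IsKFlatFor (modT A) A₀ := isKFlatFor_unitShift (A := A) 0
  haveI : IsIso ((DTen.ε A).app (M₀, A₀)) := isIso_ε_of_right hA
  haveI : IsIso ((DTen.symm A).app (DerivedCategory.Q.obj M₀, DerivedCategory.Q.obj A₀)) := isIso_symm_app' _ _
  let t : DerivedCategory.Q.obj ((single0 A).obj (ModuleCat.of A ↥(I ^ (m + 1) • (⊤ : Submodule A M)))) ⟶
      R.obj (DerivedCategory.Q.obj A₀) :=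
    DerivedCategory.Q.map j ≫ inv ((DTen.ε A).app (M₀, A₀)) ≫
      inv ((DTen.symm A).app (DerivedCategory.Q.obj M₀, DerivedCategory.Q.obj A₀))
  have ht : t ≫ R.map (DerivedCategory.Q.map (q 0)) = 0 := by
    haveI : IsIso ((DTen.symm A).app (DerivedCategory.Q.obj M₀, DerivedCategory.Q.obj ((single0 A).obj (S.obj (Opposite.op 0))))) :=
      isIso_symm_app' _ _
    have hsymm : R.map (DerivedCategory.Q.map (q 0)) ≫
          (DTen.symm A).app (DerivedCategory.Q.obj M₀, DerivedCategory.Q.obj ((single0 A).obj (S.obj (Opposite.op 0)))) =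
        (DTen.symm A).app (DerivedCategory.Q.obj M₀, DerivedCategory.Q.obj A₀) ≫ L.map (DerivedCategory.Q.map (q 0)) :=
      (DTen.symm A).naturality ((Prod.mkHom (𝟙 (DerivedCategory.Q.obj M₀)) (DerivedCategory.Q.map (q 0))) :
        (DerivedCategory.Q.obj M₀, DerivedCategory.Q.obj A₀) ⟶ (DerivedCategory.Q.obj M₀, _))
    have hL : L.map (DerivedCategory.Q.map (q 0)) =
        (DTen.ε A).app (M₀, A₀) ≫ DerivedCategory.Q.map (M₀ ◁ q m) ≫ b := by
      have hq : q m ≫ (single0 A).map (ARSys.tr S hm) = q 0 := by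
        show (single0 A).map _ ≫ _ = _
        rw [← Functor.map_comp]
        exact congrArg (single0 A).map (adic_tr_mk I hm)
      have hn := (DTen.εLeft A M₀).naturality (q m)
      dsimp at hn
      rw [← hq, Functor.map_comp, Functor.map_comp]
      refine (congrArg (L.map (DerivedCategory.Q.map (q m)) ≫ ·) hb.symm).trans ?_
      rw [← Category.assoc, ← Category.assoc]
      exact congrArg (· ≫ b) hn
    rw [← cancel_mono ((DTen.symm A).app (DerivedCategory.Q.obj M₀, DerivedCategory.Q.obj ((single0 A).obj (S.obj (Opposite.op 0))))),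
      Category.assoc, hsymm, hL, zero_comp]
    simp only [t, Category.assoc, IsIso.inv_hom_id_assoc]
    rw [← Functor.map_comp_assoc, hj, Functor.map_zero, zero_comp]
  let Sc : ShortComplex (ModuleCat.{u} A) := ShortComplex.mk (ModuleCat.ofHom I.subtype)
    (ModuleCat.ofHom (Submodule.mkQ (I ^ (0 + 1) • (⊤ : Submodule A A))))
    (ModuleCat.hom_ext (LinearMap.ext fun x => (Submodule.Quotient.mk_eq_zero _).2 (show x.1 ∈ _ by rw [zero_add, pow_one, smul_eq_mul, Ideal.mul_top]; exact x.2)))
  have hSc : Sc.ShortExact :=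
    { exact := (ShortComplex.ShortExact.moduleCat_exact_iff_function_exact _).2
        (LinearMap.exact_iff.2 (by simp [Sc]))
      mono_f := (ModuleCat.mono_iff_injective _).2 I.subtype_injective
      epi_g := (ModuleCat.epi_iff_surjective _).2 (Submodule.mkQ_surjective _) }
  have hp : IsDistPair (DerivedCategory.Q.map ((single0 A).map (ModuleCat.ofHom I.subtype)))
      (DerivedCategory.Q.map (q 0)) := isDistPair_of_mem hSc.singleTriangle_distinguished
  obtain ⟨δ, hδ⟩ := (mapsTri_tensorRightD (DerivedCategory.Q.obj M₀)).pair hp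
  obtain ⟨g, hg⟩ := Triangle.coyoneda_exact₂ _ hδ t ht
  refine ⟨m + 1, Nat.succ_pos m, g, ?_⟩
  have hs := DTen.symm_fac A M₀ A₀
  have hu := DTen.unitL_app A M₀
  calc g ≫ R.map _ ≫ (DTen.unitL A).app (DerivedCategory.Q.obj M₀)
      = t ≫ (DTen.unitL A).app (DerivedCategory.Q.obj M₀) := by rw [← Category.assoc]; exact congrArg (· ≫ _) hg.symm
    _ = DerivedCategory.Q.map ι := by
        have h1 : inv ((DTen.symm A).app (DerivedCategory.Q.obj M₀, DerivedCategory.Q.obj A₀)) ≫ (DTen.ε A).app (A₀, M₀) =
            (DTen.ε A).app (M₀, A₀) ≫ DerivedCategory.Q.map (DTen.braidCx A₀ M₀).inv := by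
          rw [IsIso.inv_comp_eq, ← Category.assoc, hs, Category.assoc, ← Functor.map_comp, Iso.hom_inv_id,
            CategoryTheory.Functor.map_id]
          exact (Category.comp_id _).symm
        rw [hu]
        simp only [t, j, Category.assoc]
        rw [reassoc_of% h1, IsIso.inv_hom_id_assoc, ← Functor.map_comp, ← Functor.map_comp]
        simp

end Aux

/-- Let `A` be a Noetherian commutative ring (the derived tensor product on `D(A)` being assumed to
exist and to be computed by K-flat complexes), `I` an ideal and `M` a finite `A`-module. Then there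
is an integer `n > 0` such that the inclusion `I^n M ⟶ M`, viewed in `D(A)` in degree `0`, factors
through the canonical morphism `I ⊗^L M ⟶ M` (the map `I ⊗^L M ⟶ A ⊗^L M` induced by `I ⊆ A`,
followed by the unit isomorphism). -/
theorem result (A : Type u) [CommRing A] [IsNoetherianRing A]
    [DTen.HasLTen A] [DTen.KFlatComputes A] (I : Ideal A) (M : Type u) [AddCommGroup M] [Module A M]
    [Module.Finite A M] :
    ∃ (n : ℕ) (_ : 0 < n)
      (g : DerivedCategory.Q.obj ((HomologicalComplex.single (ModuleCat.{u} A) (ComplexShape.up ℤ) 0).obj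
              (ModuleCat.of A ↥(I ^ n • (⊤ : Submodule A M)))) ⟶
            (DTen.LTen₂ A).obj (DerivedCategory.Q.obj ((HomologicalComplex.single (ModuleCat.{u} A) (ComplexShape.up ℤ) 0).obj
              (ModuleCat.of A ↥I)),
              DerivedCategory.Q.obj ((HomologicalComplex.single (ModuleCat.{u} A) (ComplexShape.up ℤ) 0).obj
              (ModuleCat.of A M)))),
      g ≫ (DTen.LTen₂ A).map (Prod.mkHom
              (DerivedCategory.Q.map ((HomologicalComplex.single (ModuleCat.{u} A) (ComplexShape.up ℤ) 0).map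
                (ModuleCat.ofHom I.subtype)))
              (𝟙 _)) ≫
          (DTen.unitL A).app (DerivedCategory.Q.obj ((HomologicalComplex.single (ModuleCat.{u} A) (ComplexShape.up ℤ) 0).obj
              (ModuleCat.of A M))) =
        DerivedCategory.Q.map ((HomologicalComplex.single (ModuleCat.{u} A) (ComplexShape.up ℤ) 0).map
          (ModuleCat.ofHom (I ^ n • (⊤ : Submodule A M)).subtype)) := by
  exact exists_factor I M

end Groth.Agent.S13578

#print axioms Groth.Agent.S13578.result
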