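import Groth.Statements.S1358
import Groth.Agent.FlatMorGenRed.Field
import Groth.Agent.FlatMorGenRed.Qs
import Groth.Agent.FlatMorGenRed.Base
import Groth.Agent.Props12.KerReduced
import Groth.Agent.FlatMorCompIrr.Main
import Groth.Agent.FlatMor12.GeomDescent

set_option autoImplicit false
universe u
open FlatMor

set_option backward.isDefEq.respectTransparency false
set_option linter.style.haveILetI false
set_option maxHeartbeats 1600000

namespace Groth.Agent.S1358

open AlgebraicGeometry CategoryTheory Limits in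
/-- Let f be of finite type with irreducible target Y. Then there are a nonempty open V of Y, a finite
universal homeomorphism g from an integral affine scheme Y' to V, and a reduced scheme X' with a
surjective closed immersion into the base change of X to Y' (so X' is the reduction of that base
change), such that X' → Y' is flat and of finite presentation and its generic fibre is geometrically
reduced. -/
theorem result {X Y : Scheme.{u}} (f : X ⟶ Y) [IrreducibleSpace ↑Y] [LocallyOfFiniteType f] [QuasiCompact f] :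
    ∃ (V : Y.Opens) (Y' : Scheme.{u}) (g : Y' ⟶ (V : Scheme.{u})) (X' : Scheme.{u}) (r : X' ⟶ pullback f (g ≫ V.ι)) (hY' : IsIntegral Y'),
      (V : Set ↑Y).Nonempty ∧ IsAffine Y' ∧ IsFinite g ∧ FlatMor.IsUnivHomeo g ∧ IsClosedImmersion r ∧ Surjective r ∧ IsReduced X' ∧
      Flat (r ≫ pullback.snd f (g ≫ V.ι)) ∧ LocallyOfFinitePresentation (r ≫ pullback.snd f (g ≫ V.ι)) ∧
      QuasiCompact (r ≫ pullback.snd f (g ≫ V.ι)) ∧ QuasiSeparated (r ≫ pullback.snd f (g ≫ V.ι)) ∧
      GeometricallyReduced ((r ≫ pullback.snd f (g ≫ V.ι)).fiberToSpecResidueField (genericPoint ↑Y')) := by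
  obtain ⟨U, hU, hηU, -⟩ := exists_isAffineOpen_mem_and_subset (U := (⊤ : Y.Opens)) (x := genericPoint ↑Y) trivial
  let η₀ : PrimeSpectrum Γ(Y, U) := hU.primeIdealOf ⟨genericPoint ↑Y, hηU⟩
  have hη₀ : η₀.asIdeal ≤ nilradical Γ(Y, U) := by
    rw [nilradical_eq_sInf]
    refine le_sInf fun J hJ => ?_
    refine (PrimeSpectrum.le_iff_specializes η₀ ⟨J, hJ⟩).mpr ?_
    rw [← hU.fromSpec.isOpenEmbedding.isInducing.specializes_iff, hU.fromSpec_primeIdealOf]
    exact genericPoint_specializes _
  let k := η₀.asIdeal.ResidueField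
  let s₀ : Spec (CommRingCat.of k) ⟶ Y :=
    Spec.map (CommRingCat.ofHom (algebraMap Γ(Y, U) k)) ≫ hU.fromSpec
  haveI : CompactSpace ↥(pullback f s₀) := QuasiCompact.compactSpace_of_compactSpace (pullback.snd f s₀)
  obtain ⟨k', _, _, _, _, hk'⟩ := FlatMorGenRed.exists_extension (pullback.snd f s₀)
  obtain ⟨B, _, _, _, ψ, hψc, hψi, hψf, hBfin, hBuh, hBdvd⟩ :=
    FlatMorGenRed.exists_univHomeo_model η₀.asIdeal hη₀ k'
  let g₀ : Spec (CommRingCat.of B) ⟶ Spec Γ(Y, U) := Spec.map (CommRingCat.ofHom (algebraMap Γ(Y, U) B))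
  let P := pullback f (g₀ ≫ hU.fromSpec)
  let r₀ := (Scheme.IdealSheafData.vanishingIdeal (⊤ : TopologicalSpace.Closeds P)).subschemeι
  haveI : IsReduced (Scheme.IdealSheafData.vanishingIdeal (⊤ : TopologicalSpace.Closeds P)).subscheme :=
    Props12.isReduced_subscheme_vanishingIdeal _
  haveI : Surjective r₀ := ⟨fun z => by
    have : z ∈ Set.range r₀ := by
      rw [Scheme.IdealSheafData.range_subschemeι, Scheme.IdealSheafData.coe_support_vanishingIdeal]
      trivial
    exact this⟩
  haveI : IsFinite g₀ := (IsFinite.SpecMap_iff _).2 (RingHom.finite_algebraMap.2 hBfin)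
  let p'' := r₀ ≫ pullback.snd f (g₀ ≫ hU.fromSpec)
  haveI : IsDomain (CommRingCat.of B : CommRingCat.{u}) := ‹IsDomain B›
  obtain ⟨W, hWd, hWflat, hWlfp⟩ := FlatMorGeneric.exists_dense_flat_lfp p''
  obtain ⟨aqs, haqs, hqs⟩ := FlatMorGenRed.exists_qs p''
  obtain ⟨_, ⟨bW, rfl⟩, hbW, hbsub⟩ := PrimeSpectrum.isTopologicalBasis_basic_opens.exists_subset_of_mem_open
    (show (⊥ : PrimeSpectrum B) ∈ (W.carrier : Set (PrimeSpectrum B)) by
      obtain ⟨z, hz⟩ := hWd.nonempty
      exact ((PrimeSpectrum.le_iff_specializes (⊥ : PrimeSpectrum B) z).1 bot_le).mem_open W.2 hz) W.2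
  have hbW0 : bW ≠ 0 := fun h => hbW (by rw [h]; exact zero_mem _)
  obtain ⟨a, ha0, hadvd⟩ := hBdvd (bW * aqs) (mul_ne_zero hbW0 haqs)
  let Da : (Spec Γ(Y, U)).Opens := PrimeSpectrum.basicOpen a
  let D : (Spec (CommRingCat.of B)).Opens := PrimeSpectrum.basicOpen (algebraMap Γ(Y, U) B a)
  have hD : g₀ ⁻¹ᵁ Da = D := rfl
  have hbD : D ≤ W := fun z hz => hbsub fun hm => hz (z.asIdeal.mem_of_dvd hadvd (Ideal.mul_mem_right _ _ hm))
  let D' := p'' ⁻¹ᵁ D
  let p' := p'' ∣_ D
  have hres : IsPullback (Scheme.homOfLE _ (p''.preimage_mono hbD)) p' (p'' ∣_ W)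
      ((Spec (CommRingCat.of B)).homOfLE hbD) := by
    refine IsPullback.of_right ?_ ?_ (isPullback_morphismRestrict p'' W).flip
    · rw [Scheme.homOfLE_ι, Scheme.homOfLE_ι]
      exact (isPullback_morphismRestrict p'' D).flip
    · rw [← cancel_mono W.ι]
      simp [p', morphismRestrict_ι]
  haveI : Flat p' := MorphismProperty.of_isPullback hres hWflat
  haveI : LocallyOfFinitePresentation p' := MorphismProperty.of_isPullback hres hWlfp
  haveI : QuasiCompact p' := MorphismProperty.of_isPullback (isPullback_morphismRestrict p'' D).flip inferInstance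
  haveI : QuasiSeparated p' := hqs _ (dvd_trans (dvd_mul_left aqs bW) hadvd) ha0
  haveI : IsReduced D'.toScheme := isReduced_of_isOpenImmersion D'.ι
  haveI : IsAffine D.toScheme := by
    have : IsAffineOpen D := by
      rw [show D = (Spec (CommRingCat.of B)).basicOpen ((Scheme.ΓSpecIso (CommRingCat.of B)).inv
        (algebraMap Γ(Y, U) B a)) from (basicOpen_eq_of_affine (R := CommRingCat.of B) _).symm]
      exact (isAffineOpen_top _).basicOpen _
    exact this
  let q : Spec (CommRingCat.of B) := (⟨⊥, Ideal.isPrime_bot⟩ : PrimeSpectrum B)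
  have hqD : q ∈ D := fun h => ha0 ((Submodule.mem_bot B).1 h)
  haveI : Nonempty D.toScheme := ⟨⟨q, hqD⟩⟩
  haveI : IsIntegral D.toScheme := isIntegral_of_isOpenImmersion D.ι
  let V : Y.Opens := hU.fromSpec ''ᵁ Da
  let g : D.toScheme ⟶ V.toScheme := (g₀ ∣_ Da) ≫ (hU.fromSpec.isoImage Da).hom
  have hg : g ≫ V.ι = D.ι ≫ g₀ ≫ hU.fromSpec := by
    rw [Category.assoc, Scheme.Hom.isoImage_hom_ι, ← Category.assoc, morphismRestrict_ι, Category.assoc]
    rfl
  haveI : IsFinite (g₀ ∣_ Da) := MorphismProperty.of_isPullback (isPullback_morphismRestrict g₀ Da).flip inferInstance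
  have hguh : FlatMor.IsUnivHomeo g := by
    haveI : (FlatMor.IsUnivHomeo).RespectsIso := by unfold FlatMor.IsUnivHomeo; infer_instance
    haveI : (FlatMor.IsUnivHomeo).IsStableUnderBaseChange := by unfold FlatMor.IsUnivHomeo; infer_instance
    exact (MorphismProperty.cancel_right_of_respectsIso _ _ _).2
      (MorphismProperty.of_isPullback (isPullback_morphismRestrict g₀ Da).flip hBuh)
  -- the closed immersion
  let m : pullback f (g ≫ V.ι) ⟶ P :=
    pullback.lift (pullback.fst f (g ≫ V.ι)) (pullback.snd f (g ≫ V.ι) ≫ D.ι) (by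
      rw [pullback.condition, hg, Category.assoc])
  let r : D'.toScheme ⟶ pullback f (g ≫ V.ι) :=
    pullback.lift (D'.ι ≫ r₀ ≫ pullback.fst f (g₀ ≫ hU.fromSpec)) p' (by
      rw [hg, ← Category.assoc p', morphismRestrict_ι]
      simp only [p'', Category.assoc, pullback.condition]
      rfl)
  have hr2 : r ≫ pullback.snd f (g ≫ V.ι) = p' := pullback.lift_snd _ _ _
  have ht : IsPullback (pullback.snd f (g ≫ V.ι)) m D.ι (pullback.snd f (g₀ ≫ hU.fromSpec)) := by
    refine (IsPullback.of_right ?_ ?_ (IsPullback.of_hasPullback f (g₀ ≫ hU.fromSpec))).flip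
    · rw [show m ≫ pullback.fst f (g₀ ≫ hU.fromSpec) = pullback.fst f (g ≫ V.ι) from pullback.lift_fst _ _ _, ← hg]
      exact IsPullback.of_hasPullback f (g ≫ V.ι)
    · exact pullback.lift_snd _ _ _
  have hrm : IsPullback r D'.ι m r₀ := by
    refine IsPullback.of_right ?_ ?_ ht
    · rw [hr2]
      exact isPullback_morphismRestrict p'' D
    · apply pullback.hom_ext
      · simp [r, m]
      · simp only [r, m, Category.assoc, pullback.lift_snd, pullback.lift_snd_assoc]
        exact morphismRestrict_ι p'' D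
  haveI : IsClosedImmersion r := MorphismProperty.of_isPullback hrm.flip inferInstance
  haveI : Surjective r := MorphismProperty.of_isPullback hrm.flip inferInstance
  haveI : IsFinite g := inferInstance
  refine ⟨V, D.toScheme, g, D'.toScheme, r, inferInstance, ⟨_, ⟨g₀ q, hqD, rfl⟩⟩, inferInstance, inferInstance,
    hguh, inferInstance, inferInstance, inferInstance, ?_, ?_, ?_, ?_, ?_⟩
  · rw [hr2]; infer_instance
  · rw [hr2]; infer_instance
  · rw [hr2]; infer_instance
  · rw [hr2]; infer_instance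
  rw [hr2]
  -- the generic fibre
  refine (FlatMor12.fibre_reduced_iff (isPullback_morphismRestrict p'' D).flip (genericPoint ↑D.toScheme)).2 ?_
  rw [show D.ι (genericPoint ↑D.toScheme) = q from (genericPoint_eq_of_isOpenImmersion D.ι).trans
    ((genericPoint_eq_bot_of_affine (CommRingCat.of B)).trans rfl)]
  obtain ⟨e, he⟩ := FlatMorCompIrr.exists_iso_fromSpecResidueField (B := CommRingCat.of B) ψ hψf q
    ((RingHom.injective_iff_ker_eq_bot ψ).1 hψi).symm
  let sψ : Spec (CommRingCat.of k') ⟶ Spec (CommRingCat.of B) := Spec.map (CommRingCat.ofHom ψ)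
  have hse : sψ = e.inv ≫ (Spec (CommRingCat.of B)).fromSpecResidueField q := by
    rw [he, Iso.inv_hom_id_assoc]
  haveI : IsPreimmersion sψ := by rw [hse]; infer_instance
  haveI : Flat sψ := by
    refine HasRingHomProperty.Spec_iff.2 ?_
    letI := ψ.toAlgebra
    haveI : FaithfulSMul B k' := (faithfulSMul_iff_algebraMap_injective B k').2 hψi
    haveI : IsFractionRing B k' := IsFractionRing.of_field B k' fun z => by
      obtain ⟨b, s, hs, hz⟩ := hψf z
      exact ⟨b, s, (eq_div_iff hs).2 hz⟩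
    exact (IsLocalization.flat k' (nonZeroDivisors B) : Module.Flat B k')
  let F := pullback p'' sψ
  haveI : IsPreimmersion (pullback.fst p'' sψ) := MorphismProperty.of_isPullback (IsPullback.of_hasPullback p'' sψ).flip ‹_›
  haveI : Flat (pullback.fst p'' sψ) := MorphismProperty.of_isPullback (IsPullback.of_hasPullback p'' sψ).flip ‹_›
  haveI : IsReduced F := by
    have hst : ∀ z : F, _root_.IsReduced (F.presheaf.stalk z) := fun z => by
      let σ := (pullback.fst p'' sψ).stalkMap z
      have hsur : Function.Surjective σ := SurjectiveOnStalks.stalkMap_surjective _ z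
      letI := σ.hom.toAlgebra
      haveI : IsLocalHom (algebraMap ((Scheme.IdealSheafData.vanishingIdeal (⊤ : TopologicalSpace.Closeds P)).subscheme.presheaf.stalk (pullback.fst p'' sψ z)) (F.presheaf.stalk z)) := inferInstanceAs (IsLocalHom σ.hom)
      haveI : Module.Flat _ (F.presheaf.stalk z) := Flat.stalkMap (pullback.fst p'' sψ) z
      haveI := Module.FaithfullyFlat.of_flat_of_isLocalHom
        (A := (Scheme.IdealSheafData.vanishingIdeal (⊤ : TopologicalSpace.Closeds P)).subscheme.presheaf.stalk (pullback.fst p'' sψ z))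
        (B := F.presheaf.stalk z)
      exact isReduced_of_injective (RingEquiv.ofBijective σ.hom ⟨FaithfulSMul.algebraMap_injective _ _, hsur⟩).symm
        (RingEquiv.injective _)
    exact isReduced_of_isReduced_stalk F
  let sk : Spec (CommRingCat.of k') ⟶ Spec (CommRingCat.of k) := Spec.map (CommRingCat.ofHom (algebraMap k k'))
  have hsk : sψ ≫ g₀ ≫ hU.fromSpec = sk ≫ s₀ := by
    rw [← Category.assoc, ← Category.assoc, ← Spec.map_comp, ← Spec.map_comp]
    congr 2
    ext z
    exact hψc z
  let P₁ := pullback (pullback.snd f (g₀ ≫ hU.fromSpec)) sψ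
  have h1 : IsPullback (pullback.fst (pullback.snd f (g₀ ≫ hU.fromSpec)) sψ ≫ pullback.fst f (g₀ ≫ hU.fromSpec))
      (pullback.snd (pullback.snd f (g₀ ≫ hU.fromSpec)) sψ) f (sk ≫ s₀) := hsk ▸
    (IsPullback.of_hasPullback (pullback.snd f (g₀ ≫ hU.fromSpec)) sψ).paste_horiz
      (IsPullback.of_hasPullback f (g₀ ≫ hU.fromSpec))
  have h2 : IsPullback (pullback.snd sk (pullback.snd f s₀) ≫ pullback.fst f s₀)
      (pullback.fst sk (pullback.snd f s₀)) f (sk ≫ s₀) :=
    (IsPullback.of_hasPullback sk (pullback.snd f s₀)).flip.paste_horiz (IsPullback.of_hasPullback f s₀)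
  let ε : P₁ ≅ pullback sk (pullback.snd f s₀) := h1.isoIsPullback _ _ h2
  let j₁ : F ⟶ P₁ := pullback.map _ _ _ _ r₀ (𝟙 _) (𝟙 _) (by simp [p'']) (by simp)
  have hj₁ : IsPullback j₁ (pullback.fst p'' sψ) (pullback.fst (pullback.snd f (g₀ ≫ hU.fromSpec)) sψ) r₀ := by
    refine (IsPullback.of_bot ?_ ?_ (IsPullback.of_hasPullback (pullback.snd f (g₀ ≫ hU.fromSpec)) sψ)).flip
    · rw [show j₁ ≫ pullback.snd (pullback.snd f (g₀ ≫ hU.fromSpec)) sψ = pullback.snd p'' sψ by simp [j₁]]
      exact IsPullback.of_hasPullback p'' sψ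
    · simp [j₁]
  haveI : IsClosedImmersion j₁ := MorphismProperty.of_isPullback hj₁.flip inferInstance
  haveI : Surjective j₁ := MorphismProperty.of_isPullback hj₁.flip inferInstance
  haveI := hk' F (j₁ ≫ ε.hom)
  have hsnd : (j₁ ≫ ε.hom) ≫ pullback.fst sk (pullback.snd f s₀) = pullback.snd p'' sψ := by
    rw [Category.assoc, IsPullback.isoIsPullback_hom_snd]
    simp [j₁]
  haveI hgrF : GeometricallyReduced (pullback.snd p'' sψ) := hsnd ▸ inferInstance
  have sq : IsPullback (pullback.fst p'' sψ) (pullback.snd p'' sψ ≫ e.inv) p''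
      ((Spec (CommRingCat.of B)).fromSpecResidueField q) := by
    refine (IsPullback.of_hasPullback p'' sψ).of_iso (Iso.refl _) (Iso.refl _) e.symm (Iso.refl _)
      (by simp) (by simp) (by simp) ?_
    simp [hse]
  show GeometricallyReduced (pullback.snd p'' ((Spec (CommRingCat.of B)).fromSpecResidueField q))
  rw [← IsPullback.isoPullback_inv_snd sq]
  refine (MorphismProperty.cancel_left_of_respectsIso @GeometricallyReduced _ _).2 ?_
  exact (MorphismProperty.cancel_right_of_respectsIso @GeometricallyReduced _ e.inv).2 hgrF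

end Groth.Agent.S1358
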