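import Groth.Statements.S13585
import Groth.Agent.FundLocal.SmoothImm
import Groth.Agent.CohDer1.GroupOmega
import Groth.Agent.JacAJ27.Kappa
import Groth.Agent.EulerPn5.CanonOver
-- import your own Groth.Agent.* helpers here

set_option autoImplicit false
universe u
open CategoryTheory CategoryTheory.Limits AlgebraicGeometry
open Canon

namespace Groth.Agent.S13585

/-- Let `f : X ⟶ Y` and `g : Y ⟶ Z` be morphisms of schemes with `g` smooth of relative dimension `n`,
and let `Γ : X ⟶ X ×_Z Y` be the graph of `f`. Then `Γ` is a regular immersion of codimension `n`,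
and the top exterior power of its conormal sheaf is `f^* ω_{Y/Z}`, where `ω_{Y/Z} = Λ^n Ω_{Y/Z}`;
that is, the canonical sheaf of the immersion `Γ` is the dual of `f^* ω_{Y/Z}`. (This row takes `X`
locally Noetherian and `g` separated, so that the graph is a closed immersion and the criterion for
sections of smooth morphisms over a locally Noetherian base, through which the published proof goes,
applies; the published statement has arbitrary preschemes.) -/
theorem result {X Y Z : Scheme.{u}} [IsLocallyNoetherian X]
    (f : X ⟶ Y) (g : Y ⟶ Z) (n : ℕ) [SmoothOfRelativeDimension n g] [IsSeparated g]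
    (ωY : Y.Modules) (hω : Canon.IsTopDiff g n ωY) :
    RegImm.IsRegularImmersionOfCodim .regular n (pullback.lift (𝟙 X) f (Category.id_comp (f ≫ g))) ∧
      ExtPow.IsExtPow n (Omega.conormal (pullback.lift (𝟙 X) f (Category.id_comp (f ≫ g))))
        ((Scheme.Modules.pullback f).obj ωY) := by
  haveI : IsClosedImmersion (pullback.lift (𝟙 X) f (Category.id_comp (f ≫ g))) := by
    haveI : IsClosedImmersion
        (pullback.lift (𝟙 X) f (Category.id_comp (f ≫ g)) ≫ pullback.fst (f ≫ g) g) := by
      rw [pullback.lift_fst]; infer_instance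
    exact IsClosedImmersion.of_comp _ (pullback.fst (f ≫ g) g)
  haveI := smoothOfRelativeDimension_isStableUnderBaseChange (n := n)
  haveI : SmoothOfRelativeDimension n (pullback.fst (f ≫ g) g) :=
    MorphismProperty.of_isPullback (P := @SmoothOfRelativeDimension n) (IsPullback.of_hasPullback (f ≫ g) g).flip
      inferInstance
  haveI : QuasiSeparated g := inferInstance
  haveI : QuasiSeparated (pullback.fst (f ≫ g) g) := inferInstance
  obtain ⟨hreg, -, -⟩ := FundLocal.regular_of_smooth (g := pullback.fst (f ≫ g) g) (f := 𝟙 X)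
    (pullback.lift (𝟙 X) f (Category.id_comp (f ≫ g))) (pullback.lift_fst _ _ _) n 0
  refine ⟨by simpa using hreg, ?_⟩
  obtain ⟨e₁⟩ := CohDer1.GroupOmega.nonempty_pullback_omega_iso_conormal (pullback.fst (f ≫ g) g)
    (pullback.lift (𝟙 X) f (Category.id_comp (f ≫ g))) (pullback.lift_fst _ _ _)
  obtain ⟨e₂⟩ := JacAJ27.nonempty_omega_bc (IsPullback.of_hasPullback (f ≫ g) g).flip
  let e₃ : (Scheme.Modules.pullback f).obj (Omega.sheaf g) ≅
      Omega.conormal (pullback.lift (𝟙 X) f (Category.id_comp (f ≫ g))) :=
    (Scheme.Modules.pullbackCongr (pullback.lift_snd (𝟙 X) f (Category.id_comp (f ≫ g))).symm).app _ ≪≫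
      ((Scheme.Modules.pullbackComp _ _).app _).symm ≪≫
      (Scheme.Modules.pullback _).mapIso e₂ ≪≫ e₁
  exact EulerPn5.CanonOver.isExtPow_congr_source e₃
    (Canon15.isExtPow_pullback f (FundLocal.isFinLocFreeOfRank_omega_qs g n) hω)


end Groth.Agent.S13585
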