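import Groth.Statements.S13590
import Groth.Agent.Supp15.Injective
-- import your own Groth.Agent.* helpers here

set_option autoImplicit false
universe u
open CategoryTheory TopologicalSpace
open SuppFam

namespace Groth.Agent.S13590

/-- For an abelian sheaf `F` on a topological space `X` and a locally closed `Z = V ∖ W` (`W ≤ V`
opens), if `F` is injective then the sheaf `Γ_Z(F) = i_* i^!(F)` of sections of `F` with supports in
`Z` is injective. -/
theorem result {X : TopCat.{u}} (F : CohTop.Ab X) {W V : Opens X} (h : W ≤ V)
    (hF : Injective F) : Injective ((SuppFam.sectSuppLC h).obj F) := by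
  exact Groth.Agent.Supp15.injective_sectSuppLC F h hF

end Groth.Agent.S13590
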