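import Groth.Statements.S13598
import Groth.Agent.HenselLib.Perm

set_option autoImplicit false
universe u
open Hensel

namespace Groth.Agent.S13598

/-- For a local ring A, a henselization A ⟶ S of A (S a henselian local ring, the structure map local,
and initial among local homomorphisms from A to henselian local rings) and an ideal I of A inside
the maximal ideal, the quotient S/IS with its induced algebra structure over A/I is a henselization
of A/I. (The local-ring and local-homomorphism instances on the quotients hold automatically; they
are taken as hypotheses only so that the conclusion can be stated.) -/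
theorem result {A S : Type u} [CommRing A] [IsLocalRing A] [CommRing S]
    [IsLocalRing S] [Algebra A S] [IsLocalHom (algebraMap A S)] [Hensel.IsHenselization A S]
    (I : Ideal A) (hI : I ≤ IsLocalRing.maximalIdeal A)
    [IsLocalRing (A ⧸ I)] [IsLocalRing (S ⧸ I.map (algebraMap A S))]
    [IsLocalHom (algebraMap (A ⧸ I) (S ⧸ I.map (algebraMap A S)))] :
    Hensel.IsHenselization (A ⧸ I) (S ⧸ I.map (algebraMap A S)) := by
  have hS : HenselianLocalRing S := Hensel.IsHenselization.henselian (R := A)
  have := Groth.Agent.HenselLib.henselianLocalRing_of_isIntegral S (S ⧸ I.map (algebraMap A S))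
  refine ⟨this, fun T _ _ f hf => ?_⟩
  have : IsLocalHom (f.comp (Ideal.Quotient.mk I)) := by
    have := hf
    have : IsLocalHom (Ideal.Quotient.mk I) := .of_surjective _ Ideal.Quotient.mk_surjective
    exact RingHom.isLocalHom_comp _ _
  obtain ⟨g, hg, huniq⟩ := Hensel.IsHenselization.universal (R := A) (S := S) T
    (f.comp (Ideal.Quotient.mk I)) this
  have hker : ∀ a ∈ I.map (algebraMap A S), g a = 0 := fun a ha => by
    have : (I.map (algebraMap A S)).map g = ⊥ := by
      rw [Ideal.map_map, hg, ← Ideal.map_map, Ideal.map_quotient_self, Ideal.map_bot]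
    exact Ideal.mem_bot.mp (this ▸ Ideal.mem_map_of_mem g ha)
  refine ⟨Ideal.Quotient.lift _ g hker, Ideal.Quotient.ringHom_ext ?_, fun g' hg' => ?_⟩
  · exact hg
  · refine Ideal.Quotient.ringHom_ext ?_
    exact (huniq (g'.comp (Ideal.Quotient.mk _)) (RingHom.ext fun a =>
      congr($hg' (Ideal.Quotient.mk I a)))).trans rfl

end Groth.Agent.S13598
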