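import Groth.Statements.S13600
import Groth.Agent.FComplLib.ZeroNear
-- import your own Groth.Agent.* helpers here

set_option autoImplicit false
universe u
open CategoryTheory AlgebraicGeometry
open Cyc

namespace Groth.Agent.S13600

section Aux

open IsLocalRing

theorem length_self_of_surjective {A B : Type u} [CommRing A] [CommRing B] (f : A →+* B)
    (hf : Function.Surjective f) : Module.length B B = Module.length A (A ⧸ RingHom.ker f) := by
  letI := f.toAlgebra
  rw [← Module.length_eq_of_surjective (R := B) (S := A) (M := B) hf]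
  exact (Ideal.quotientKerAlgEquivOfSurjective (f := Algebra.ofId A B) hf).toLinearEquiv.length_eq.symm

theorem isAssociated_iff_of_surjective {A B : Type u} [CommRing A] [CommRing B] [IsLocalRing A] [IsLocalRing B]
    [IsNoetherianRing A] (f : A →+* B) (hf : Function.Surjective f) :
    IsAssociatedPrime (maximalIdeal B) B ↔ ∃ a, a ∉ RingHom.ker f ∧ ∀ t ∈ maximalIdeal A, t * a ∈ RingHom.ker f := by
  haveI : IsNoetherianRing B := isNoetherianRing_of_surjective A B f hf
  haveI : IsLocalHom f := IsLocalHom.of_surjective f hf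
  rw [isAssociatedPrime_iff]
  constructor
  · rintro ⟨hp, b, hb⟩
    obtain ⟨a, rfl⟩ := hf b
    refine ⟨a, fun ha => hp.ne_top ?_, fun t ht => ?_⟩
    · rw [RingHom.mem_ker] at ha
      rw [hb, ha]
      ext x
      simp
    · have : f t ∈ maximalIdeal B := map_nonunit f t ht
      rw [hb, Submodule.mem_colon_singleton, Submodule.mem_bot, smul_eq_mul] at this
      rw [RingHom.mem_ker, map_mul, this]
  · rintro ⟨a, ha, h⟩
    refine ⟨(maximalIdeal.isMaximal B).isPrime, f a, le_antisymm (fun x hx => ?_) (le_maximalIdeal ?_)⟩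
    · obtain ⟨t, rfl⟩ := hf x
      rw [Submodule.mem_colon_singleton, Submodule.mem_bot, smul_eq_mul, ← map_mul]
      exact RingHom.mem_ker.1 (h t (fun hu => hx (hu.map f)))
    · intro htop
      have : (1 : B) ∈ (⊥ : Submodule B B).colon {f a} := by rw [htop]; trivial
      rw [Submodule.mem_colon_singleton, Submodule.mem_bot, one_smul] at this
      exact ha (RingHom.mem_ker.2 this)

theorem eq_pow_of_length_eq {A : Type u} [CommRing A] [IsDomain A] [IsDiscreteValuationRing A] (I : Ideal A) (n : ℕ)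
    (h : Module.length A (A ⧸ I) = n) : I = maximalIdeal A ^ n := by
  obtain ⟨ϖ, hϖ⟩ := IsDiscreteValuationRing.exists_irreducible A
  by_cases hI : I = ⊥
  · exfalso
    have h1 := Module.length_le_of_surjective (Submodule.factor (show I ≤ maximalIdeal A ^ (n + 1) by simp [hI]))
      (Submodule.factor_surjective _)
    rw [IsDiscreteValuationRing.length_quotient_pow_maximalIdeal, h] at h1
    exact absurd (by exact_mod_cast h1 : n + 1 ≤ n) (by omega)
  · obtain ⟨m, rfl⟩ := IsDiscreteValuationRing.ideal_eq_span_pow_irreducible hI hϖ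
    rw [← Ideal.span_singleton_pow, ← hϖ.maximalIdeal_eq] at h ⊢
    rw [IsDiscreteValuationRing.length_quotient_pow_maximalIdeal] at h
    rw [Nat.cast_injective h]

end Aux

section Scheme

open IsLocalRing

variable {X : Scheme.{u}}

theorem germ_mem_iff (U : X.Opens) (f : Γ(X, U)) (x : X) (hx : x ∈ U) :
    X.presheaf.germ U x hx f ∈ maximalIdeal (X.presheaf.stalk x) ↔ x ∉ X.basicOpen f := by
  rw [mem_maximalIdeal, Scheme.mem_basicOpen _ _ _ hx]
  rfl

theorem germ_mem_map_iff {U : X.Opens} (hU : IsAffineOpen U) (x : X) (hx : x ∈ U) (I : Ideal Γ(X, U)) (r : Γ(X, U)) :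
    X.presheaf.germ U x hx r ∈ I.map (X.presheaf.germ U x hx).hom ↔
      ∃ s, IsUnit (X.presheaf.germ U x hx s) ∧ s * r ∈ I := by
  let := X.presheaf.algebra_section_stalk ⟨x, hx⟩
  haveI := hU.isLocalization_stalk ⟨x, hx⟩
  constructor
  · intro h
    change algebraMap Γ(X, U) (X.presheaf.stalk x) r ∈ I.map (algebraMap Γ(X, U) (X.presheaf.stalk x)) at h
    rw [IsLocalization.mem_map_algebraMap_iff (hU.primeIdealOf ⟨x, hx⟩).asIdeal.primeCompl] at h
    obtain ⟨⟨⟨r', hr'⟩, t⟩, ht⟩ := h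
    rw [← map_mul, IsLocalization.eq_iff_exists (hU.primeIdealOf ⟨x, hx⟩).asIdeal.primeCompl] at ht
    obtain ⟨c, hc⟩ := ht
    refine ⟨c * t, ?_, ?_⟩
    · exact IsLocalization.map_units (X.presheaf.stalk x) (c * t)
    · rw [show (c : Γ(X, U)) * t * r = c * (r * t) by ring, hc]
      exact I.mul_mem_left _ hr'
  · rintro ⟨s, hs, hsr⟩
    have := Ideal.mem_map_of_mem (X.presheaf.germ U x hx).hom hsr
    rw [map_mul] at this
    exact (Ideal.unit_mul_mem_iff_mem _ hs).1 this

theorem exists_germ_eq {U : X.Opens} (hU : IsAffineOpen U) (x : X) (hx : x ∈ U) (a : X.presheaf.stalk x) :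
    ∃ s r, IsUnit (X.presheaf.germ U x hx s) ∧ a * X.presheaf.germ U x hx s = X.presheaf.germ U x hx r := by
  let := X.presheaf.algebra_section_stalk ⟨x, hx⟩
  haveI := hU.isLocalization_stalk ⟨x, hx⟩
  obtain ⟨⟨r, s⟩, h⟩ := IsLocalization.surj (hU.primeIdealOf ⟨x, hx⟩).asIdeal.primeCompl a
  exact ⟨s, r, IsLocalization.map_units (X.presheaf.stalk x) s, h⟩

theorem exists_point {U : X.Opens} (hU : IsAffineOpen U) (p : Ideal Γ(X, U)) (hp : p.IsPrime) :
    ∃ (x : X) (hx : x ∈ U), ∀ r, r ∈ p ↔ X.presheaf.germ U x hx r ∈ maximalIdeal (X.presheaf.stalk x) := by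
  let P : PrimeSpectrum Γ(X, U) := ⟨p, hp⟩
  have hx : hU.fromSpec P ∈ U := by
    rw [← SetLike.mem_coe, ← hU.range_fromSpec]; exact ⟨P, rfl⟩
  refine ⟨hU.fromSpec P, hx, fun r => ?_⟩
  rw [germ_mem_iff]
  have : hU.fromSpec P ∈ X.basicOpen r ↔ P ∈ hU.fromSpec ⁻¹ᵁ X.basicOpen r := Iff.rfl
  rw [this, hU.fromSpec_preimage_basicOpen]
  exact ⟨fun h h' => (PrimeSpectrum.mem_basicOpen _ _).1 h' h, fun h => not_not.1 fun h' => h ((PrimeSpectrum.mem_basicOpen _ _).2 h')⟩

theorem specializes_of_forall {U : X.Opens} (hU : IsAffineOpen U) {x y : X} (hy : y ∈ U)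
    (h : ∀ r : Γ(X, U), y ∈ X.basicOpen r → x ∈ X.basicOpen r) : x ⤳ y := by
  rw [specializes_iff_forall_open]
  intro V hV hyV
  obtain ⟨f, hf, hyf⟩ := hU.exists_basicOpen_le (V := ⟨V, hV⟩) ⟨y, hyV⟩ hy
  exact hf (h f hyf)

/-- Two points with discrete valuation stalks are incomparable. -/
theorem eq_of_specializes {x y : X} (h : x ⤳ y)
    (hx : ∃ _ : IsDomain ↑(X.presheaf.stalk x), IsDiscreteValuationRing ↑(X.presheaf.stalk x))
    (hy : ∃ _ : IsDomain ↑(X.presheaf.stalk y), IsDiscreteValuationRing ↑(X.presheaf.stalk y)) : x = y := by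
  obtain ⟨_, _⟩ := hx
  obtain ⟨_, _⟩ := hy
  obtain ⟨U, hU, hyU, -⟩ := exists_isAffineOpen_mem_and_subset (X := X) (x := y) (U := ⊤) trivial
  have hxU : x ∈ U := h.mem_open U.isOpen hyU
  have hsp : ∀ r : Γ(X, U), X.presheaf.germ U x hxU r = X.presheaf.stalkSpecializes h (X.presheaf.germ U y hyU r) :=
    fun r => (TopCat.Presheaf.germ_stalkSpecializes_apply X.presheaf hyU h r).symm
  let K : Ideal (X.presheaf.stalk y) := (maximalIdeal (X.presheaf.stalk x)).comap (X.presheaf.stalkSpecializes h).hom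
  haveI : K.IsPrime := Ideal.IsPrime.comap _
  by_cases hK : K = ⊥
  · exfalso
    refine IsDiscreteValuationRing.not_a_field (X.presheaf.stalk x) ((Submodule.eq_bot_iff _).2 fun a ha => ?_)
    obtain ⟨s, r, hs, hsr⟩ := exists_germ_eq hU x hxU a
    have h1 : X.presheaf.germ U y hyU r ∈ K := by
      rw [Ideal.mem_comap]
      show X.presheaf.stalkSpecializes h (X.presheaf.germ U y hyU r) ∈ _
      rw [← hsp, ← hsr]
      exact Ideal.mul_mem_right _ _ ha
    rw [hK, Ideal.mem_bot] at h1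
    have h2 : a * X.presheaf.germ U x hxU s = 0 := by rw [hsr, hsp, h1, map_zero]
    exact hs.mul_left_eq_zero.1 h2
  · have hKm : K = maximalIdeal (X.presheaf.stalk y) :=
      IsLocalRing.eq_maximalIdeal (Ideal.IsPrime.isMaximal ‹_› hK)
    refine (specializes_of_forall hU hyU fun r hr => ?_).antisymm ?_ |>.eq
    · exact h.mem_open (X.basicOpen r).isOpen hr
    · refine specializes_of_forall hU hxU fun r hr => ?_
      by_contra hry
      have h1 : X.presheaf.germ U y hyU r ∈ K := by rw [hKm]; exact (germ_mem_iff U r y hyU).2 hry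
      rw [Ideal.mem_comap] at h1
      change X.presheaf.stalkSpecializes h (X.presheaf.germ U y hyU r) ∈ _ at h1
      rw [← hsp] at h1
      exact (germ_mem_iff U r x hxU).1 h1 hr

theorem germ_mem_pow_iff (W : X → ℤ) {U V : X.Opens} (i : V ⟶ U) (x : X) (hx : x ∈ V) (n : ℕ) (f : Γ(X, U)) :
    X.presheaf.germ V x hx (X.presheaf.map i.op f) ∈ maximalIdeal (X.presheaf.stalk x) ^ n ↔
      X.presheaf.germ U x (i.le hx) f ∈ maximalIdeal (X.presheaf.stalk x) ^ n := by
  rw [TopCat.Presheaf.germ_res_apply]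

/-- The ideal of sections vanishing to the prescribed orders. -/
noncomputable def ordIdeal (W : X → ℤ) (U : X.Opens) : Ideal Γ(X, U) :=
  ⨅ x : X, ⨅ hx : x ∈ U, ⨅ _ : W x ≠ 0,
    (maximalIdeal (X.presheaf.stalk x) ^ (W x).toNat).comap (X.presheaf.germ U x hx).hom

theorem mem_ordIdeal (W : X → ℤ) (U : X.Opens) (f : Γ(X, U)) :
    f ∈ ordIdeal W U ↔ ∀ (x : X) (hx : x ∈ U), W x ≠ 0 →
      X.presheaf.germ U x hx f ∈ maximalIdeal (X.presheaf.stalk x) ^ (W x).toNat := by
  simp only [ordIdeal, Submodule.mem_iInf, Ideal.mem_comap]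

variable (W : X → ℤ) (hfin : {x | W x ≠ 0}.Finite) (hpos : ∀ x, 0 ≤ W x)

include hfin in
/-- The ideal sheaf of sections vanishing to the prescribed orders. -/
noncomputable def ordSheaf : X.IdealSheafData where
  ideal U := ordIdeal W U
  map_ideal_basicOpen U f := by
    classical
    let j := homOfLE (X.basicOpen_le f)
    change Ideal.map (X.presheaf.map j.op).hom (ordIdeal W U) = ordIdeal W (X.basicOpen f)
    refine le_antisymm (Ideal.map_le_iff_le_comap.2 fun r hr => ?_) fun a ha => ?_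
    · rw [Ideal.mem_comap, mem_ordIdeal]
      intro x hx hW
      show X.presheaf.germ (X.basicOpen f) x hx (X.presheaf.map j.op r) ∈ _
      rw [germ_mem_pow_iff W j]
      exact (mem_ordIdeal W U r).1 hr x _ hW
    · have := U.2.isLocalization_basicOpen f
      obtain ⟨r, ⟨_, n, rfl⟩, rfl⟩ := IsLocalization.exists_mk'_eq (Submonoid.powers f) a
      let N := hfin.toFinset.sup fun x => (W x).toNat
      change IsLocalization.mk' Γ(X, X.basicOpen f) r (⟨f ^ n, n, rfl⟩ : Submonoid.powers f) ∈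
        Ideal.map (algebraMap Γ(X, U) Γ(X, X.basicOpen f)) (ordIdeal W U)
      rw [IsLocalization.mk'_mem_map_algebraMap_iff]
      refine ⟨f ^ N, ⟨N, rfl⟩, (mem_ordIdeal W U _).2 fun x hx hW => ?_⟩
      rw [map_mul, map_pow]
      by_cases hxf : x ∈ X.basicOpen f
      · refine Ideal.mul_mem_left _ _ ?_
        have h1 := (mem_ordIdeal W _ _).1 ha x hxf hW
        have h2 : IsLocalization.mk' Γ(X, X.basicOpen f) r (⟨f ^ n, n, rfl⟩ : Submonoid.powers f) *
            algebraMap Γ(X, U) Γ(X, X.basicOpen f) (f ^ n) = algebraMap Γ(X, U) Γ(X, X.basicOpen f) r :=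
          IsLocalization.mk'_spec _ r _
        have h3 := congrArg (fun z => X.presheaf.germ (X.basicOpen f) x hxf z) h2
        have h4 := Ideal.mul_mem_right (X.presheaf.germ (X.basicOpen f) x hxf
          (algebraMap Γ(X, U) Γ(X, X.basicOpen f) (f ^ n))) _ h1
        rw [← map_mul] at h4
        change X.presheaf.germ (X.basicOpen f) x hxf (_ * _) = _ at h3
        rw [h3] at h4
        exact (germ_mem_pow_iff W j x hxf _ r).1 h4
      · refine Ideal.mul_mem_right _ _ (Ideal.pow_le_pow_right ?_ (Ideal.pow_mem_pow ((germ_mem_iff U f x hx).2 hxf) N))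
        exact Finset.le_sup (f := fun x => (W x).toNat) (hfin.mem_toFinset.2 hW)

include hfin in
theorem exists_unit_mem (hinc : ∀ x y, W x ≠ 0 → W y ≠ 0 → x ⤳ y → x = y) {U : X.Opens} (hU : IsAffineOpen U)
    (x : X) (hx : x ∈ U) (r : Γ(X, U))
    (hr : ∀ (y : X) (hy : y ∈ U), W y ≠ 0 → y ⤳ x →
      X.presheaf.germ U y hy r ∈ maximalIdeal (X.presheaf.stalk y) ^ (W y).toNat) :
    ∃ s : Γ(X, U), IsUnit (X.presheaf.germ U x hx s) ∧ s * r ∈ ordIdeal W U := by
  classical
  have hex : ∀ y : X, ∃ s : Γ(X, U), x ∈ X.basicOpen s ∧ (y ∈ U → ¬ y ⤳ x → y ∉ X.basicOpen s) := by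
    intro y
    by_cases hy : y ∈ U ∧ ¬ y ⤳ x
    · by_contra h
      push Not at h
      refine hy.2 (specializes_of_forall hU hx fun s hs => (h s hs).2.2)
    · refine ⟨1, ?_, fun h1 h2 => absurd ⟨h1, h2⟩ hy⟩
      rw [Scheme.mem_basicOpen _ _ _ hx, map_one]
      exact isUnit_one
  choose s hs1 hs2 using hex
  refine ⟨∏ y ∈ hfin.toFinset, s y ^ (W y).toNat, ?_, (mem_ordIdeal W U _).2 fun y hy hW => ?_⟩
  · rw [map_prod, IsUnit.prod_iff]
    intro y _
    rw [map_pow]
    exact ((Scheme.mem_basicOpen _ _ _ hx).1 (hs1 y)).pow _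
  · rw [map_mul]
    by_cases hyx : y ⤳ x
    · exact Ideal.mul_mem_left _ _ (hr y hy hW hyx)
    · refine Ideal.mul_mem_right _ _ ?_
      rw [map_prod, ← Finset.mul_prod_erase _ _ (hfin.mem_toFinset.2 hW), map_pow]
      exact Ideal.mul_mem_right _ _ (Ideal.pow_mem_pow ((germ_mem_iff U _ y hy).2 (hs2 y hy hyx)) _)

theorem stalk_data (I : X.IdealSheafData) (z : I.subscheme) (U : X.affineOpens) (hU : I.subschemeι.base z ∈ U.1) :
    Function.Surjective (I.subschemeι.stalkMap z).hom ∧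
      RingHom.ker (I.subschemeι.stalkMap z).hom =
        (I.ideal U).map (X.presheaf.germ U.1 (I.subschemeι.base z) hU).hom := by
  refine ⟨I.subschemeι.stalkMap_surjective z, ?_⟩
  have := Groth.Agent.FComplLib.ker_stalkMap_eq I.subschemeι z U hU
  rwa [Scheme.IdealSheafData.ker_subschemeι] at this

theorem generic_iff (I : X.IdealSheafData) (z : I.subscheme) :
    (∀ z' : I.subscheme, z' ⤳ z → z' = z) ↔ ∀ x' ∈ I.support, x' ⤳ I.subschemeι.base z → x' = I.subschemeι.base z := by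
  constructor
  · intro h x' hx' hs
    obtain ⟨z', rfl⟩ : x' ∈ Set.range I.subschemeι.base := by
      rw [Scheme.IdealSheafData.range_subschemeι]; exact hx'
    rw [h z' (I.subschemeι.isEmbedding.isInducing.specializes_iff.1 hs)]
  · intro h z' hs
    refine I.subschemeι.isEmbedding.injective (h _ ?_ (hs.map I.subschemeι.continuous))
    rw [← SetLike.mem_coe, ← Scheme.IdealSheafData.range_subschemeι]
    exact ⟨z', rfl⟩

theorem mem_support_of_map_le (I : X.IdealSheafData) (U : X.affineOpens) (x : X) (hx : x ∈ U.1)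
    (h : (I.ideal U).map (X.presheaf.germ U.1 x hx).hom ≤ maximalIdeal (X.presheaf.stalk x)) : x ∈ I.support := by
  rw [Scheme.IdealSheafData.mem_support_iff_of_mem hx, Scheme.mem_zeroLocus_iff]
  exact fun f hf => (germ_mem_iff U.1 f x hx).1 (h (Ideal.mem_map_of_mem _ hf))

end Scheme

/-- Let X be a separated Noetherian scheme and W = Σ a_i z_i an effective cycle on X (a function from
the points of X to the integers, non-negative and with finite support) whose points z_i (those with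
a_i ≠ 0) have codimension 1 with X regular there, i.e. O_{X,z_i} is a discrete valuation ring. Then
X has a unique closed subscheme Z (a quasi-coherent ideal sheaf) such that (1) Z has no embedded
components (every point of Z at which the maximal ideal of the local ring of Z is an associated
prime is a maximal point of Z) and (2) the cycle of Z is W: every maximal point z of Z has O_{Z,z}
of length W(z), and every point with W ≠ 0 is a maximal point of Z. -/
theorem result (X : Scheme.{u}) [IsNoetherian X]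
    [X.IsSeparated] (W : X → ℤ) (hfin : {x | W x ≠ 0}.Finite) (hpos : ∀ x, 0 ≤ W x)
    (hreg : ∀ x, W x ≠ 0 → ∃ _ : IsDomain ↑(X.presheaf.stalk x), IsDiscreteValuationRing ↑(X.presheaf.stalk x)) :
    ∃! 𝓘 : X.IdealSheafData,
      (∀ z : ↥𝓘.subscheme,
        IsAssociatedPrime (IsLocalRing.maximalIdeal ↑(𝓘.subscheme.presheaf.stalk z))
          ↑(𝓘.subscheme.presheaf.stalk z) → ∀ z' : ↥𝓘.subscheme, z' ⤳ z → z' = z) ∧
      (∀ z : ↥𝓘.subscheme, (∀ z' : ↥𝓘.subscheme, z' ⤳ z → z' = z) →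
        Module.length ↑(𝓘.subscheme.presheaf.stalk z) ↑(𝓘.subscheme.presheaf.stalk z) =
          ((W (𝓘.subschemeι.base z)).toNat : ℕ∞)) ∧
      (∀ x : X, W x ≠ 0 → ∃ z : ↥𝓘.subscheme, 𝓘.subschemeι.base z = x ∧
        ∀ z' : ↥𝓘.subscheme, z' ⤳ z → z' = z) := by
  classical
  haveI : ∀ U : X.affineOpens, IsNoetherianRing Γ(X, U.1) := fun U => IsLocallyNoetherian.component_noetherian U
  haveI : ∀ x : X, IsNoetherianRing (X.presheaf.stalk x) := fun x => inferInstance
  have hinc : ∀ x y, W x ≠ 0 → W y ≠ 0 → x ⤳ y → x = y := fun x y hx hy h =>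
    eq_of_specializes h (hreg x hx) (hreg y hy)
  have hpos' : ∀ x, W x ≠ 0 → (W x).toNat ≠ 0 := fun x hx => by have := hpos x; omega
  let 𝓙 := ordSheaf W hfin
  -- stalks of the ideal at the prescribed points
  have hstalk : ∀ (U : X.affineOpens) (x : X) (hx : x ∈ U.1), W x ≠ 0 →
      (ordIdeal W U.1).map (X.presheaf.germ U.1 x hx).hom =
        IsLocalRing.maximalIdeal (X.presheaf.stalk x) ^ (W x).toNat := by
    intro U x hx hW
    refine le_antisymm (Ideal.map_le_iff_le_comap.2 fun r hr => (mem_ordIdeal W _ r).1 hr x hx hW) fun a ha => ?_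
    obtain ⟨s, r, hs, hsr⟩ := exists_germ_eq U.2 x hx a
    rw [← Ideal.mul_unit_mem_iff_mem _ hs, hsr]
    refine (germ_mem_map_iff U.2 x hx _ r).2 (exists_unit_mem W hfin hinc U.2 x hx r fun y hy hWy hyx => ?_)
    obtain rfl := hinc y x hWy hW hyx
    rw [← hsr]
    exact Ideal.mul_mem_right _ _ ha
  have hsupp1 : ∀ x, W x ≠ 0 → x ∈ 𝓙.support := by
    intro x hW
    obtain ⟨U, hU, hxU, -⟩ := exists_isAffineOpen_mem_and_subset (X := X) (x := x) (U := ⊤) trivial
    refine mem_support_of_map_le 𝓙 ⟨U, hU⟩ x hxU ?_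
    rw [show 𝓙.ideal ⟨U, hU⟩ = ordIdeal W U from rfl, hstalk ⟨U, hU⟩ x hxU hW]
    exact Ideal.pow_le_self (hpos' x hW)
  have hsupp2 : ∀ x ∈ 𝓙.support, ∃ y, W y ≠ 0 ∧ y ⤳ x := by
    intro x hx
    obtain ⟨U, hU, hxU, -⟩ := exists_isAffineOpen_mem_and_subset (X := X) (x := x) (U := ⊤) trivial
    by_contra h
    push Not at h
    obtain ⟨s, hs, hs'⟩ := exists_unit_mem W hfin hinc hU x hxU 1 (fun y hy hWy hyx => absurd hyx (h y hWy))
    rw [mul_one] at hs'
    rw [Scheme.IdealSheafData.mem_support_iff_of_mem (U := ⟨U, hU⟩) hxU, Scheme.mem_zeroLocus_iff] at hx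
    exact hx s hs' ((Scheme.mem_basicOpen _ _ _ hxU).2 hs)
  have hgen : ∀ z : 𝓙.subscheme, (∀ z', z' ⤳ z → z' = z) ↔ W (𝓙.subschemeι.base z) ≠ 0 := by
    intro z
    have hz : 𝓙.subschemeι.base z ∈ 𝓙.support := by
      rw [← SetLike.mem_coe, ← Scheme.IdealSheafData.range_subschemeι]; exact ⟨z, rfl⟩
    rw [generic_iff]
    refine ⟨fun h => ?_, fun hW x' hx' hs => ?_⟩
    · obtain ⟨y, hy, hys⟩ := hsupp2 _ hz
      rwa [h y (hsupp1 y hy) hys] at hy
    · obtain ⟨y, hy, hys⟩ := hsupp2 _ hx'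
      obtain rfl := hinc y _ hy hW (hys.trans hs)
      exact (hs.antisymm hys).eq
  refine ⟨𝓙, ⟨?_, ?_, ?_⟩, ?_⟩
  · intro z hz
    rw [hgen]
    set x := 𝓙.subschemeι.base z with hxdef
    by_contra hW
    obtain ⟨U, hU, hxU, -⟩ := exists_isAffineOpen_mem_and_subset (X := X) (x := x) (U := ⊤) trivial
    obtain ⟨hsur, hker⟩ := stalk_data 𝓙 z ⟨U, hU⟩ hxU
    obtain ⟨a, ha, hta⟩ := (isAssociated_iff_of_surjective _ hsur).1 hz
    obtain ⟨s, r, hs, hsr⟩ := exists_germ_eq hU x hxU a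
    rw [hker] at ha hta
    refine ha ((Ideal.mul_unit_mem_iff_mem _ hs).1 ?_)
    rw [hsr]
    refine (germ_mem_map_iff hU x hxU _ r).2 (exists_unit_mem W hfin hinc hU x hxU r fun y hy hWy hyx => ?_)
    have hne : ¬ x ⤳ y := fun h' => hWy (by rwa [← (h'.antisymm hyx).eq])
    obtain ⟨t, ht, htx⟩ : ∃ t : Γ(X, U), y ∈ X.basicOpen t ∧ x ∉ X.basicOpen t := by
      by_contra h'
      push Not at h'
      exact hne (specializes_of_forall hU hy h')
    have h1 : X.presheaf.germ U x hxU (t * r) ∈ (𝓙.ideal ⟨U, hU⟩).map (X.presheaf.germ U x hxU).hom := by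
      rw [map_mul, ← hsr, ← mul_assoc]
      exact Ideal.mul_mem_right _ _ (hta _ ((germ_mem_iff U t x hxU).2 htx))
    obtain ⟨c, hc, hc'⟩ := (germ_mem_map_iff hU x hxU _ _).1 h1
    have h2 := (mem_ordIdeal W U _).1 hc' y hy hWy
    rw [map_mul, map_mul] at h2
    have hcy : IsUnit (X.presheaf.germ U y hy c) := (Scheme.mem_basicOpen _ _ _ hy).1
      (hyx.mem_open (X.basicOpen c).isOpen ((Scheme.mem_basicOpen _ _ _ hxU).2 hc))
    exact (Ideal.unit_mul_mem_iff_mem _ ((Scheme.mem_basicOpen _ _ _ hy).1 ht)).1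
      ((Ideal.unit_mul_mem_iff_mem _ hcy).1 h2)
  · intro z hz
    have hW := (hgen z).1 hz
    obtain ⟨U, hU, hxU, -⟩ := exists_isAffineOpen_mem_and_subset (X := X) (x := 𝓙.subschemeι.base z) (U := ⊤) trivial
    obtain ⟨hsur, hker⟩ := stalk_data 𝓙 z ⟨U, hU⟩ hxU
    obtain ⟨_, _⟩ := hreg _ hW
    rw [length_self_of_surjective _ hsur, hker, show 𝓙.ideal ⟨U, hU⟩ = ordIdeal W U from rfl,
      hstalk ⟨U, hU⟩ _ hxU hW, IsDiscreteValuationRing.length_quotient_pow_maximalIdeal]
  · intro x hW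
    obtain ⟨z, rfl⟩ : x ∈ Set.range 𝓙.subschemeι.base := by
      rw [Scheme.IdealSheafData.range_subschemeι]; exact hsupp1 x hW
    exact ⟨z, rfl, (hgen z).2 hW⟩
  -- uniqueness
  rintro I ⟨hI1, hI2, hI3⟩
  have hIx : ∀ (U : X.affineOpens) (x : X) (hx : x ∈ U.1), W x ≠ 0 →
      (I.ideal U).map (X.presheaf.germ U.1 x hx).hom = IsLocalRing.maximalIdeal (X.presheaf.stalk x) ^ (W x).toNat := by
    intro U x hx hW
    obtain ⟨z, rfl, hz⟩ := hI3 x hW
    obtain ⟨hsur, hker⟩ := stalk_data I z U hx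
    obtain ⟨_, _⟩ := hreg _ hW
    refine eq_pow_of_length_eq _ _ ?_
    rw [← hker, ← length_self_of_surjective _ hsur]
    exact hI2 z hz
  refine Scheme.IdealSheafData.ext (funext fun U => le_antisymm (fun r hr => ?_) fun r hr => ?_)
  · refine (mem_ordIdeal W U.1 r).2 fun x hx hW => ?_
    rw [← hIx U x hx hW]
    exact Ideal.mem_map_of_mem _ hr
  · by_contra hrI
    have hr0 : Ideal.Quotient.mk (I.ideal U) r ≠ 0 := fun h => hrI (Ideal.Quotient.eq_zero_iff_mem.1 h)
    obtain ⟨p, hp, hle⟩ := exists_le_isAssociatedPrime_of_isNoetherianRing Γ(X, U.1) (Ideal.Quotient.mk (I.ideal U) r) hr0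
    obtain ⟨hpp, y, hy⟩ := isAssociatedPrime_iff.1 hp
    obtain ⟨y, rfl⟩ := Ideal.Quotient.mk_surjective y
    have hcol : ∀ (t u : Γ(X, U.1)), t ∈ (⊥ : Submodule Γ(X, U.1) (Γ(X, U.1) ⧸ I.ideal U)).colon
        {Ideal.Quotient.mk (I.ideal U) u} ↔ t * u ∈ I.ideal U := fun t u => by
      rw [Submodule.mem_colon_singleton, Submodule.mem_bot, Algebra.smul_def, Ideal.Quotient.algebraMap_eq,
        ← map_mul, Ideal.Quotient.eq_zero_iff_mem]
    obtain ⟨x, hx, hpx⟩ := exists_point U.2 p hpp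
    have hyI : ∀ s, IsUnit (X.presheaf.germ U.1 x hx s) → s * y ∉ I.ideal U := fun s hs hsy => by
      have : s ∈ p := by rw [hy, hcol]; exact hsy
      exact (IsLocalRing.mem_maximalIdeal _).1 ((hpx s).1 this) hs
    have hxs : x ∈ I.support := mem_support_of_map_le I U x hx (Ideal.map_le_iff_le_comap.2 fun f hf =>
      (hpx f).1 (hle ((hcol f r).2 (Ideal.mul_mem_right _ _ hf))))
    obtain ⟨z, rfl⟩ : x ∈ Set.range I.subschemeι.base := by
      rw [Scheme.IdealSheafData.range_subschemeι]; exact hxs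
    obtain ⟨hsur, hker⟩ := stalk_data I z U hx
    have hzgen := hI1 z ((isAssociated_iff_of_surjective _ hsur).2 ⟨X.presheaf.germ U.1 _ hx y, fun h => by
      rw [hker] at h
      obtain ⟨s, hs, hsy⟩ := (germ_mem_map_iff U.2 _ hx _ y).1 h
      exact hyI s hs hsy, fun t ht => by
      obtain ⟨s, t', hs, hst⟩ := exists_germ_eq U.2 _ hx t
      rw [hker]
      refine (Ideal.mul_unit_mem_iff_mem _ hs).1 ?_
      rw [mul_right_comm, hst, ← map_mul]
      refine Ideal.mem_map_of_mem _ ?_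
      have : t' ∈ p := (hpx t').2 (by rw [← hst]; exact Ideal.mul_mem_right _ _ ht)
      rwa [hy, hcol] at this⟩)
    have hW : W (I.subschemeι.base z) ≠ 0 := fun h0 => by
      have h1 := hI2 z hzgen
      rw [h0] at h1
      haveI := (isNoetherianRing_of_surjective _ _ _ hsur : IsNoetherianRing (I.subscheme.presheaf.stalk z))
      exact (Module.length_pos (R := I.subscheme.presheaf.stalk z) (M := I.subscheme.presheaf.stalk z)).ne' (by simpa using h1)
    have h1 := (mem_ordIdeal W U.1 r).1 hr _ hx hW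
    rw [← hIx U _ hx hW] at h1
    obtain ⟨s, hs, hsr⟩ := (germ_mem_map_iff U.2 _ hx _ r).1 h1
    exact (IsLocalRing.mem_maximalIdeal _).1 ((hpx s).1 (hle ((hcol s r).2 hsr))) hs

end Groth.Agent.S13600
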