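import Groth.Statements.S14671
import Mathlib
import Groth.Prelude
import Groth.Agent.CommAlg4.SymTensor

set_option linter.all false

set_option autoImplicit false
universe u
open scoped TensorProduct
open SymTen

open scoped TensorProduct

namespace Groth.Agent.S14671

/-- Let R be a commutative ring, M a flat R-module and n ≥ 0. Then the module of symmetric tensors of
degree n — the R-submodule of the n-fold tensor power of M over R consisting of the tensors fixed by
every permutation of the factors — is a flat R-module. (The published corollary also asserts that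
forming symmetric tensors of a flat module commutes with every base change; only the flatness
assertion is stated here.) -/
theorem result (R : Type u) [CommRing R] (M : Type u) [AddCommGroup M] [Module R M]
    [Module.Flat R M] (n : ℕ) :
    Module.Flat R ↥(⨅ σ : Equiv.Perm (Fin n),
      LinearMap.eqLocus (PiTensorProduct.reindex R (fun _ : Fin n => M) σ).toLinearMap LinearMap.id) := by
  classical
  refine Module.Flat.of_forall_isTrivialRelation fun {l f x} hfx => ?_
  obtain ⟨k, ψ, s, hs, hst, hsum⟩ := Groth.Agent.CommAlg4.exists_symm_lift R n f (fun i => (x i).1)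
    (fun σ i => (Submodule.mem_iInf _).1 (x i).2 σ) (by simpa using congrArg Subtype.val hfx)
  set T := ⨅ σ : Equiv.Perm (Fin n),
    LinearMap.eqLocus (PiTensorProduct.reindex R (fun _ : Fin n => (Fin k → R)) σ).toLinearMap LinearMap.id
  haveI : Module.Flat R T := Groth.Agent.CommAlg4.flat_symm_free R n k
  let s' : Fin l → T := fun i => ⟨s i, Submodule.mem_iInf _ |>.2 fun σ => hs σ i⟩
  let Φ : T →ₗ[R] ↥(⨅ σ : Equiv.Perm (Fin n),
      LinearMap.eqLocus (PiTensorProduct.reindex R (fun _ : Fin n => M) σ).toLinearMap LinearMap.id) :=
    ((Groth.Agent.CommAlg4.tmap R n ψ) ∘ₗ T.subtype).codRestrict _ fun t => Submodule.mem_iInf _ |>.2 fun σ => by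
      show PiTensorProduct.reindex R (fun _ : Fin n => M) σ (Groth.Agent.CommAlg4.tmap R n ψ t.1) = Groth.Agent.CommAlg4.tmap R n ψ t.1
      rw [← Groth.Agent.CommAlg4.tmap_reindex]
      exact congrArg _ ((Submodule.mem_iInf _).1 t.2 σ)
  obtain ⟨κ, a, y, hy, ha⟩ := Module.Flat.isTrivialRelation_of_sum_smul_eq_zero (R := R) (f := f) (x := s')
    (Subtype.ext (by simpa [s'] using hsum))
  refine ⟨κ, a, fun j => Φ (y j), fun i => ?_, ha⟩
  have : x i = Φ (s' i) := Subtype.ext (hst i).symm
  rw [this, hy i]
  simp [map_sum]

end Groth.Agent.S14671
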