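import Groth.Statements.S13601
import Groth.Agent.Stk19b.SymAff.Chart
import Groth.Agent.S14671
import Mathlib.RingTheory.RingHom.Flat
open Groth.Agent

set_option autoImplicit false
universe u
open CategoryTheory AlgebraicGeometry
open SymProd

set_option backward.isDefEq.respectTransparency.types false
set_option backward.isDefEq.respectTransparency false

namespace Groth.Agent.S13601


/-- Let f : X ⟶ S be a flat morphism of schemes such that every finite set of points of X lying over a
single point of S is contained in an affine open of X, let n ≥ 0, and let (Y, q, g) be an n-th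
symmetric power of X over S: q : X ×_S ⋯ ×_S X ⟶ Y (n factors) is a quotient by the symmetric group
on n letters permuting the factors (affine, invariant, identifying sections of O_Y with invariant
sections) and g : Y ⟶ S satisfies q ≫ g = the structure map of the fibre power. Then g is flat. -/
theorem result {X S Y : Scheme.{u}} (f : X ⟶ S) [Flat f]
    (hAF : SymProd.IsAF f) (n : ℕ) (q : SymProd.fibPow f n ⟶ Y) (g : Y ⟶ S)
    (hq : SymProd.IsSymProd f n q g) : Flat g := by
  rw [HasRingHomProperty.iff_exists_appLE (P := @Flat)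
    (RingHom.Flat.stableUnderComposition.stableUnderCompositionWithLocalizationAway
      RingHom.Flat.holdsForLocalizationAway).1]
  intro y
  obtain ⟨V, U, e, W', hy, e', hmem⟩ := Stk19b.SymAff.exists_chart f hAF q g hq y
  refine ⟨V, W', hy, e', ?_⟩
  letI := (f.appLE V.1 U.1 e).hom.toAlgebra
  haveI : Module.Flat Γ(S, V.1) Γ(X, U.1) := f.flat_appLE V.2 U.2 e
  obtain ⟨ψ, hψ⟩ := Stk19b.SymAff.exists_sections f hq V U e W' e' hmem
  have hTS : Module.Flat Γ(S, V.1) (SymTen.TS Γ(S, V.1) Γ(X, U.1) n) := by
    haveI := S14671.result Γ(S, V.1) Γ(X, U.1) n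
    refine Module.Flat.of_linearEquiv (LinearEquiv.ofEq
      (Subalgebra.toSubmodule (SymTen.TS Γ(S, V.1) Γ(X, U.1) n))
      (⨅ σ : Equiv.Perm (Fin n), LinearMap.eqLocus
        (PiTensorProduct.reindex Γ(S, V.1) (fun _ : Fin n => Γ(X, U.1)) σ).toLinearMap LinearMap.id) ?_)
    ext t
    exact ((SymTen.mem_TS_iff Γ(S, V.1) Γ(X, U.1) n t).trans
      ⟨fun h => (Submodule.mem_iInf _).2 h, fun h => (Submodule.mem_iInf _).1 h⟩)
  have hc : (g.appLE V.1 W'.1 e').hom = ψ.toRingHom.comp (algebraMap Γ(S, V.1) _) :=
    RingHom.ext fun r => (hψ r).symm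
  rw [hc]
  exact (RingHom.flat_algebraMap_iff.mpr hTS).comp (RingHom.Flat.of_bijective ψ.bijective)

end Groth.Agent.S13601
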