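import Groth.Statements.S13602
import Mathlib
import Groth.Agent.FlatMorPush.FiniteSet

set_option autoImplicit false
set_option backward.isDefEq.respectTransparency false
universe u
open CategoryTheory CategoryTheory.Limits AlgebraicGeometry
open SymProd

namespace Groth.Agent.S13602

/-- Let f : X ⟶ S be a morphism of schemes satisfying (AF): every finite set of points of X over a
single point of S lies in an affine open of X. Then for every d ≥ 0 and every point x of the d-fold
fibre power X ×_S ⋯ ×_S X, some affine open of the fibre power contains the whole orbit of x under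
the symmetric group on d letters permuting the factors. (With the existence of a quotient by a
finite group whose orbits lie in affine opens, this is the existence of the symmetric power
Sym^d(X/S) for X/S satisfying (AF).) -/
theorem result {X S : Scheme.{u}} (f : X ⟶ S) (hAF : SymProd.IsAF f)
    (d : ℕ) (x : ↥(SymProd.fibPow f d)) :
    ∃ U : (SymProd.fibPow f d).Opens, IsAffineOpen U ∧
      ∀ σ : Equiv.Perm (Fin d), (SymProd.permHom f d σ).base x ∈ U := by
  classical
  let s := (WidePullback.base (fun _ : Fin d => f)).base x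
  let p : Fin d → ↥(SymProd.fibPow f d) → X := fun i z => (WidePullback.π (fun _ : Fin d => f) i).base z
  let T : Finset X := Finset.univ.image fun i => p i x
  have hT : ∀ y ∈ T, f.base y = s := by
    intro y hy
    obtain ⟨i, -, rfl⟩ := Finset.mem_image.1 hy
    show (WidePullback.π (fun _ : Fin d => f) i ≫ f).base x = _
    rw [WidePullback.π_arrow]
  obtain ⟨U₀, hU₀, hTU⟩ := hAF s T hT
  obtain ⟨V, hV, hsV, -⟩ := exists_isAffineOpen_mem_and_subset (x := s) (U := ⊤) trivial
  obtain ⟨g, hgV, hgT⟩ := Groth.Agent.FlatMorPush.exists_basicOpen_finite hU₀ (f ⁻¹ᵁ V)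
    T.finite_toSet (fun y hy => show f.base y ∈ V from (hT y hy).symm ▸ hsV) hTU
  let U := X.basicOpen g
  have hU : IsAffineOpen U := hU₀.basicOpen g
  let Ω : (SymProd.fibPow f d).Opens :=
    (WidePullback.base (fun _ : Fin d => f) ⁻¹ᵁ V) ⊓ Finset.univ.inf fun i => WidePullback.π (fun _ : Fin d => f) i ⁻¹ᵁ U
  have hmem : ∀ z, z ∈ Ω ↔ (WidePullback.base (fun _ : Fin d => f)).base z ∈ V ∧ ∀ i, p i z ∈ U := fun z => by
    show z ∈ ((Ω : TopologicalSpace.Opens _) : Set _) ↔ _
    simp [Ω, TopologicalSpace.Opens.coe_finset_inf, p]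
  refine ⟨Ω, ?_, fun σ => (hmem _).2 ⟨?_, fun i => ?_⟩⟩
  rotate_left
  · rw [← Scheme.Hom.comp_apply, SymProd.permHom_base]; exact hsV
  · show (WidePullback.π (fun _ : Fin d => f) i).base ((SymProd.permHom f d σ).base x) ∈ U
    rw [← Scheme.Hom.comp_apply, SymProd.permHom_π]
    exact hgT (Finset.mem_image.2 ⟨σ.symm i, Finset.mem_univ _, rfl⟩)
  haveI : IsAffine U.toScheme := hU
  haveI : IsAffine V.toScheme := hV
  let h : U.toScheme ⟶ V.toScheme := f.resLE V U hgV
  let W : Scheme.{u} := widePullback V.toScheme (fun _ : Fin d => U.toScheme) (fun _ => h)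
  haveI : IsAffine W := by
    haveI : ∀ j, IsAffine ((WidePullbackShape.wideCospan V.toScheme (fun _ : Fin d => U.toScheme) fun _ => h).obj j) :=
      fun j => by cases j <;> assumption
    exact Scheme.isAffine_of_isLimit _ (limit.isLimit _)
  let a : W ⟶ SymProd.fibPow f d :=
    WidePullback.lift (WidePullback.base _ ≫ V.ι) (fun i => WidePullback.π _ i ≫ U.ι) (fun i => by
      rw [Category.assoc, ← Scheme.Hom.resLE_comp_ι (f := f) hgV, ← Category.assoc, WidePullback.π_arrow])
  have ha : Set.range a.base ⊆ Ω := by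
    rintro _ ⟨w, rfl⟩
    refine (hmem _).2 ⟨?_, fun i => ?_⟩
    · rw [← Scheme.Hom.comp_apply, WidePullback.lift_base, Scheme.Hom.comp_apply]
      exact ((WidePullback.base (fun _ : Fin d => h)).base w).2
    · show (WidePullback.π (fun _ : Fin d => f) i).base (a.base w) ∈ U
      rw [← Scheme.Hom.comp_apply, WidePullback.lift_π, Scheme.Hom.comp_apply]
      exact ((WidePullback.π (fun _ : Fin d => h) i).base w).2
  let a' : W ⟶ Ω.toScheme := IsOpenImmersion.lift Ω.ι a (by simpa using ha)
  have e1 : Set.range (Ω.ι ≫ WidePullback.base (fun _ : Fin d => f)).base ⊆ Set.range V.ι.base := by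
    rintro _ ⟨z, rfl⟩
    rw [Scheme.Opens.range_ι]
    exact ((hmem _).1 z.2).1
  have e2 : ∀ i, Set.range (Ω.ι ≫ WidePullback.π (fun _ : Fin d => f) i).base ⊆ Set.range U.ι.base := fun i => by
    rintro _ ⟨z, rfl⟩
    rw [Scheme.Opens.range_ι]
    exact ((hmem _).1 z.2).2 i
  let b : Ω.toScheme ⟶ W :=
    WidePullback.lift (IsOpenImmersion.lift V.ι _ e1) (fun i => IsOpenImmersion.lift U.ι _ (e2 i)) (fun i => by
      rw [← cancel_mono V.ι, Category.assoc, Scheme.Hom.resLE_comp_ι, IsOpenImmersion.lift_fac_assoc,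
        IsOpenImmersion.lift_fac, Category.assoc, WidePullback.π_arrow])
  have hab : b ≫ a' = 𝟙 _ := by
    rw [← cancel_mono Ω.ι, Category.assoc, IsOpenImmersion.lift_fac, Category.id_comp]
    apply WidePullback.hom_ext <;> intros <;>
      simp [a, b, IsOpenImmersion.lift_fac]
  have hba : a' ≫ b = 𝟙 _ := by
    apply WidePullback.hom_ext
    · intro i
      rw [← cancel_mono U.ι]
      simp [a, a', b, IsOpenImmersion.lift_fac, IsOpenImmersion.lift_fac_assoc]
    · rw [← cancel_mono V.ι]
      simp [a, a', b, IsOpenImmersion.lift_fac, IsOpenImmersion.lift_fac_assoc]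
  haveI : IsIso b := ⟨a', hab, hba⟩
  exact IsAffine.of_isIso b

end Groth.Agent.S13602
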