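import Groth.Statements.S13603
import Mathlib.RingTheory.Localization.Defs
import Mathlib.Algebra.BigOperators.Group.Finset.Piecewise
import Mathlib.Data.Finite.Defs
import Mathlib.Tactic.LinearCombination

set_option autoImplicit false
universe u v
open CAlg

namespace Groth.Agent.S13603

/-- Let a group G act on a commutative ring B by ring automorphisms so that every element of B has a
finite orbit, and let S ⊆ B be a multiplicative set of G-fixed elements (so each g ∈ G induces an
endomorphism of the localization S⁻¹B; the hypothesis that g maps S into S is implied by the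
previous one and is only carried to name that endomorphism). Then an element of S⁻¹B is fixed by all
of G if and only if it is a fraction b/s with b fixed by G and s ∈ S: the canonical map S⁻¹(B^G) →
(S⁻¹B)^G is onto. -/
theorem result {B : Type u} [CommRing B]
    {G : Type v} [Group G] [MulSemiringAction G B] (hfin : ∀ b : B, (MulAction.orbit G b).Finite)
    (S : Submonoid B) (hS : ∀ (g : G) (s : B), s ∈ S → g • s = s)
    (hS' : ∀ g : G, S ≤ S.comap (MulSemiringAction.toRingHom G B g)) (x : Localization S) :
    (∀ g : G, IsLocalization.map (Localization S) (MulSemiringAction.toRingHom G B g) (hS' g) x = x) ↔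
      ∃ (b : B) (s : S), (∀ g : G, g • b = b) ∧ x = IsLocalization.mk' (Localization S) b s := by
  constructor
  · intro hfix
    obtain ⟨b, s, rfl⟩ := IsLocalization.exists_mk'_eq S x
    have key : ∀ c ∈ MulAction.orbit G b, ∃ t : S, c * t = b * t := by
      rintro _ ⟨g, rfl⟩
      have h := hfix g
      rw [IsLocalization.map_mk', IsLocalization.mk'_eq_iff_eq] at h
      obtain ⟨t, ht⟩ := (IsLocalization.eq_iff_exists S _).1 h
      refine ⟨t * s, ?_⟩
      simp only [MulSemiringAction.toRingHom_apply, hS g _ s.2] at ht
      change (g • b) * ((t : B) * s) = b * ((t : B) * s)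
      linear_combination ht
    classical
    choose t ht using key
    let T : S := ∏ c ∈ (hfin b).toFinset.attach, t c.1 ((hfin b).mem_toFinset.1 c.2)
    refine ⟨b * T, s * T, fun g => ?_, ?_⟩
    · rw [smul_mul', hS g _ T.2]
      have hm : g • b ∈ (hfin b).toFinset := (hfin b).mem_toFinset.2 (MulAction.mem_orbit b g)
      obtain ⟨u, hu⟩ : t (g • b) (MulAction.mem_orbit b g) ∣ T :=
        Finset.dvd_prod_of_mem (fun c : (hfin b).toFinset => t c.1 ((hfin b).mem_toFinset.1 c.2))
          (Finset.mem_attach _ ⟨g • b, hm⟩)
      rw [hu, Submonoid.coe_mul, ← mul_assoc, ht, mul_assoc]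
    · exact (IsLocalization.mk'_cancel b s T).symm
  · rintro ⟨b, s, hb, rfl⟩ g
    rw [IsLocalization.map_mk', IsLocalization.mk'_eq_iff_eq]
    simp [hb g, hS g _ s.2]

end Groth.Agent.S13603
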