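import Groth.Statements.S13608
import Groth.Agent.CAlgH3.AdicLimit
import Mathlib.RingTheory.Finiteness.Ideal

set_option autoImplicit false
universe u v
open CAlg

namespace Groth.Agent.S13608

/-- Let A be a commutative ring, I a finitely generated ideal of A and (M_n) an inverse system of
A-modules with transition maps f_n : M_(n+1) → M_n such that I^(n+1) M_n = 0 for every n. If L is an
inverse limit of the system (projections π_n compatible with the f_n, jointly injective, and such
that every compatible family of elements lifts to L), then L is complete and separated for the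
I-adic topology. No surjectivity of the transition maps is assumed. -/
theorem result
    (A : Type u) [CommRing A] (I : Ideal A) (hI : I.FG)
    (M : ℕ → Type v) [∀ n, AddCommGroup (M n)] [∀ n, Module A (M n)]
    (f : ∀ n, M (n + 1) →ₗ[A] M n)
    (hkill : ∀ n, I ^ (n + 1) • (⊤ : Submodule A (M n)) = ⊥)
    (L : Type v) [AddCommGroup L] [Module A L] (π : ∀ n, L →ₗ[A] M n)
    (hπ : ∀ n, f n ∘ₗ π (n + 1) = π n)
    (hinj : ∀ x : L, (∀ n, π n x = 0) → x = 0)
    (hlift : ∀ y : (∀ n, M n), (∀ n, f n (y (n + 1)) = y n) → ∃ x : L, ∀ n, π n x = y n) :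
    IsAdicComplete I L := by
  have hker : ∀ (k : ℕ) (x : L), x ∈ (I ^ (k + 1) • ⊤ : Submodule A L) → π k x = 0 := by
    intro k x hx
    have h := Submodule.mem_map_of_mem (f := π k) hx
    rw [Submodule.map_smul''] at h
    have h' := Submodule.smul_mono le_rfl (le_top : _ ≤ (⊤ : Submodule A (M k))) h
    rwa [hkill k, Submodule.mem_bot] at h'
  have hH : IsHausdorff I L := ⟨fun x hx => hinj x fun n => hker n x (SModEq.zero.1 (hx (n + 1)))⟩
  have hP : IsPrecomplete I L := by
    constructor
    intro c hc
    have hdiff : ∀ {a b : ℕ}, a ≤ b → c b - c a ∈ (I ^ a • ⊤ : Submodule A L) := fun h =>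
      SModEq.sub_mem.1 (hc h).symm
    have hstab : ∀ k b, k + 1 ≤ b → π k (c b) = π k (c (k + 1)) := fun k b h => by
      rw [← sub_eq_zero, ← map_sub]; exact hker k _ (hdiff h)
    obtain ⟨x, hx⟩ := hlift (fun k => π k (c (k + 1))) (fun k => by
      rw [show f k (π (k + 1) (c (k + 1 + 1))) = π k (c (k + 1 + 1)) from LinearMap.congr_fun (hπ k) _]
      exact hstab k _ (by omega))
    refine ⟨x, fun n => (SModEq.sub_mem.2 ?_).symm⟩
    obtain ⟨G, hG⟩ := Ideal.FG.pow (n := n) hI
    have hz : ∀ i, ∃ z : A → L, (∀ g, z g ∈ (I ^ i • ⊤ : Submodule A L)) ∧ ∑ g ∈ G, g • z g = c (n + i + 1) - c (n + i) :=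
      fun i => CAlgH3.exists_sum_smul_of_mem_span_smul (by
        rw [show Ideal.span (↑G : Set A) = I ^ n from hG, ← Submodule.mul_smul, ← pow_add]; exact hdiff (by omega))
    choose z hzmem hz using hz
    have hw : ∀ g, ∃ w : L, ∀ k, π k w = ∑ i ∈ Finset.range (k + 1), π k (z i g) := fun g => hlift _ fun k => by
      rw [map_sum, Finset.sum_range_succ]
      simp only [show ∀ y, f k (π (k + 1) y) = π k y from fun y => LinearMap.congr_fun (hπ k) y]
      rw [hker k _ (hzmem (k + 1) g), add_zero]
    choose w hw using hw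
    have : x - c n = ∑ g ∈ G, g • w g := by
      rw [← sub_eq_zero]
      refine hinj _ fun k => ?_
      simp only [map_sub, map_sum, map_smul, hx, hw, Finset.smul_sum]
      rw [Finset.sum_comm]
      have e : ∀ i, ∑ g ∈ G, g • π k (z i g) = π k (c (n + (i + 1))) - π k (c (n + i)) := fun i => by
        rw [← map_sub, ← Nat.add_assoc, ← hz i, map_sum]; simp
      simp only [e, Finset.sum_range_sub (fun i => π k (c (n + i)))]
      rw [hstab k (n + (k + 1)) (by omega), Nat.add_zero]; abel
    rw [this]
    exact Submodule.sum_mem _ fun g hg => Submodule.smul_mem_smul (hG ▸ Submodule.subset_span hg) Submodule.mem_top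
  exact ⟨⟩

end Groth.Agent.S13608
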