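import Groth.Statements.S13609
import Mathlib.RingTheory.AdicCompletion.Basic

set_option autoImplicit false
universe u v
open CAlg

namespace Groth.Agent.S13609

/-- A direct summand of a module that is complete and separated for the I-adic topology is again
complete and separated: for a commutative ring A, an ideal I and A-modules M₁, M₂, if M₁ × M₂ is
I-adically complete then so is M₁. -/
theorem result (A : Type u) [CommRing A] (I : Ideal A)
    (M₁ M₂ : Type v) [AddCommGroup M₁] [Module A M₁] [AddCommGroup M₂] [Module A M₂]
    [IsAdicComplete I (M₁ × M₂)] : IsAdicComplete I M₁ := by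
  have hH : IsHausdorff I M₁ := by
    constructor
    intro x hx
    have := IsHausdorff.haus (inferInstance : IsHausdorff I (M₁ × M₂)) (x, 0) fun n => by
      have h : x ∈ (I ^ n • ⊤ : Submodule A M₁) := by simpa [SModEq.zero] using hx n
      rw [SModEq.zero]
      have h' := Submodule.mem_map_of_mem (f := LinearMap.inl A M₁ M₂) h
      rw [Submodule.map_smul''] at h'
      exact Submodule.smul_mono le_rfl le_top h'
    exact (Prod.ext_iff.1 this).1
  have hP : IsPrecomplete I M₁ := by
    constructor
    intro f hf
    obtain ⟨L, hL⟩ := IsPrecomplete.prec (inferInstance : IsPrecomplete I (M₁ × M₂)) (f := fun n => (f n, (0 : M₂))) fun {m n} hmn => by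
      have h := hf hmn
      rw [SModEq.sub_mem] at h ⊢
      have h' := Submodule.mem_map_of_mem (f := LinearMap.inl A M₁ M₂) h
      rw [Submodule.map_smul''] at h'
      simpa using Submodule.smul_mono le_rfl le_top h'
    refine ⟨L.1, fun n => ?_⟩
    have h := hL n
    rw [SModEq.sub_mem] at h ⊢
    have h' := Submodule.mem_map_of_mem (f := LinearMap.fst A M₁ M₂) h
    rw [Submodule.map_smul''] at h'
    simpa using Submodule.smul_mono le_rfl le_top h'
  exact ⟨⟩

end Groth.Agent.S13609
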