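import Groth.Statements.S1361
import Groth.Agent.FlatMorConnCover.Fibre
import Groth.Agent.FlatMor12.ConnectedEtaleNhd

set_option autoImplicit false
universe u
open FlatMor

namespace Groth.Agent.S1361

open AlgebraicGeometry CategoryTheory Limits in
/-- Let f : X → S be flat, locally of finite presentation, with geometrically reduced fibres. Then for
every point x of X there are an étale morphism X' → X whose image contains x, an étale morphism S' →
S and a factorization X' → S' → S of X' → X → S such that X' → S' is a flat morphism of finite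
presentation all of whose fibres are geometrically connected and geometrically reduced. -/
theorem result {X S : Scheme.{u}} (f : X ⟶ S) [Flat f] [LocallyOfFinitePresentation f] [GeometricallyReduced f] (x : X) :
    ∃ (X' S' : Scheme.{u}) (a : X' ⟶ X) (b : X' ⟶ S') (c : S' ⟶ S), Etale a ∧ x ∈ Set.range ⇑a ∧ Etale c ∧ a ≫ f = b ≫ c ∧
      Flat b ∧ LocallyOfFinitePresentation b ∧ QuasiCompact b ∧ QuasiSeparated b ∧ GeometricallyConnected b ∧ GeometricallyReduced b := by
  obtain ⟨S₀, hS₀, hsS₀, -⟩ := exists_isAffineOpen_mem_and_subset (U := (⊤ : S.Opens)) (x := f x) trivial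
  let f₀ := f ∣_ S₀
  haveI : Flat f₀ := MorphismProperty.of_isPullback (isPullback_morphismRestrict f S₀).flip inferInstance
  haveI : LocallyOfFinitePresentation f₀ := MorphismProperty.of_isPullback (isPullback_morphismRestrict f S₀).flip inferInstance
  haveI : GeometricallyReduced f₀ := MorphismProperty.of_isPullback (isPullback_morphismRestrict f S₀).flip inferInstance
  let x₀ : (f ⁻¹ᵁ S₀).toScheme := ⟨x, hsS₀⟩
  obtain ⟨O, hO, hxO, -⟩ := exists_isAffineOpen_mem_and_subset (U := (⊤ : (f ⁻¹ᵁ S₀).toScheme.Opens)) (x := x₀) trivial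
  haveI : IsAffine O.toScheme := hO
  haveI : IsAffine S₀.toScheme := hS₀
  let h : O.toScheme ⟶ S₀.toScheme := O.ι ≫ f₀
  haveI : GeometricallyReduced h := FlatMor12.ConnectedEtaleNhd.geometricallyReduced_comp_ι f₀ O
  haveI : IsAffineHom h := isAffineHom_of_isAffine h
  obtain ⟨U, g, u, hg, x₁, T, hx₁, hx₁T, hT⟩ :=
    FlatMorConnCover.exists_connected_fibre_open h (h ⟨x₀, hxO⟩) (h.asFiber ⟨x₀, hxO⟩)
  haveI := hg
  replace hx₁ := hx₁.trans (h.fiberι_asFiber ⟨x₀, hxO⟩)
  obtain ⟨S', g', s', hS', hnb, V, hVc, hVg, hVmem⟩ :=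
    FlatMor12.ConnectedEtaleNhd.exists_connected_etale_nhd (pullback.snd h g) u T hT
  haveI := hnb.1
  haveI := hS'
  haveI := hVg
  haveI : CompactSpace V.toScheme := isCompact_iff_compactSpace.1 hVc
  haveI : GeometricallyReduced (pullback.snd h g) := MorphismProperty.of_isPullback (IsPullback.of_hasPullback h g) inferInstance
  haveI : GeometricallyReduced (pullback.snd (pullback.snd h g) g') :=
    MorphismProperty.of_isPullback (IsPullback.of_hasPullback (pullback.snd h g) g') inferInstance
  refine ⟨V, S', V.ι ≫ pullback.fst (pullback.snd h g) g' ≫ pullback.fst h g ≫ O.ι ≫ (f ⁻¹ᵁ S₀).ι,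
    V.ι ≫ pullback.snd (pullback.snd h g) g', g' ≫ g ≫ S₀.ι, inferInstance, ?_, inferInstance, ?_,
    inferInstance, inferInstance, ?_, ?_, hVg, FlatMor12.ConnectedEtaleNhd.geometricallyReduced_comp_ι _ V⟩
  · obtain ⟨y', hy1, hy2⟩ := Scheme.Pullback.exists_preimage_pullback (f := pullback.snd h g) (g := g')
      ((pullback.snd h g).fiberι u x₁) s' (by
        rw [hnb.base_eq]
        exact (pullback.snd h g).range_fiberι u |>.le ⟨x₁, rfl⟩)
    refine ⟨⟨y', (hVmem y' hy2).2 ⟨x₁, hx₁T, hy1.symm⟩⟩, ?_⟩
    simp only [Scheme.Hom.comp_apply]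
    show (f ⁻¹ᵁ S₀).ι (O.ι (pullback.fst h g (pullback.fst (pullback.snd h g) g' y'))) = x
    rw [hy1]
    exact (congrArg (fun z => (f ⁻¹ᵁ S₀).ι (O.ι z)) hx₁).trans rfl
  · simp only [Category.assoc]
    rw [← morphismRestrict_ι, ← Category.assoc O.ι f₀, ← pullback.condition_assoc (f := pullback.snd h g),
      ← pullback.condition_assoc (f := h)]
  · exact (quasiCompact_iff_compactSpace _).2 inferInstance
  · haveI : QuasiSeparated h := inferInstance
    infer_instance

end Groth.Agent.S1361
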