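import Groth.Statements.S13622
import Groth.Agent.AdicRing.Basic
import Groth.Agent.AdicRing.System
import Mathlib.RingTheory.AdicCompletion.Completeness
import Mathlib.RingTheory.AdicCompletion.Algebra

set_option autoImplicit false
universe u v
open CAlg

namespace Groth.Agent.S13622

/-- Let A be a commutative ring, I a finitely generated ideal and (M_n) an inverse system of finitely
generated A-modules whose transition maps f_n : M_(n+1) → M_n are surjective with kernel I^(n+1)
M_(n+1), and with I^(n+1) M_n = 0 for all n. If L is an inverse limit of the system (projections π_n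
compatible with the f_n, jointly injective, every compatible family lifting to L), endowed with a
module structure over the I-adic completion A^ of A that is compatible with its A-module structure,
then L is finitely generated as an A^-module. No completeness of A is assumed. -/
theorem result
    (A : Type u) [CommRing A] (I : Ideal A) (hI : I.FG)
    (M : ℕ → Type v) [∀ n, AddCommGroup (M n)] [∀ n, Module A (M n)] [∀ n, Module.Finite A (M n)]
    (f : ∀ n, M (n + 1) →ₗ[A] M n) (hf : ∀ n, Function.Surjective (f n))
    (hker : ∀ n, LinearMap.ker (f n) = I ^ (n + 1) • (⊤ : Submodule A (M (n + 1))))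
    (hkill : ∀ n, I ^ (n + 1) • (⊤ : Submodule A (M n)) = ⊥)
    (L : Type v) [AddCommGroup L] [Module A L] (π : ∀ n, L →ₗ[A] M n)
    (hπ : ∀ n, f n ∘ₗ π (n + 1) = π n)
    (hinj : ∀ x : L, (∀ n, π n x = 0) → x = 0)
    (hlift : ∀ y : (∀ n, M n), (∀ n, f n (y (n + 1)) = y n) → ∃ x : L, ∀ n, π n x = y n)
    [Module (AdicCompletion I A) L] [IsScalarTower A (AdicCompletion I A) L] :
    Module.Finite (AdicCompletion I A) L := by
  let S : AdicRing.AdicLimit I M L := ⟨f, hf, hker, π, hπ, hinj, hlift⟩
  let J := I.map (algebraMap A (AdicCompletion I A))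
  have hc := AdicCompletion.isAdicComplete (I := I) (M := A) hI
  have : IsPrecomplete J (AdicCompletion I A) := IsPrecomplete.map_algebraMap_iff.2 hc.toIsPrecomplete
  have : IsHausdorff J L := IsHausdorff.map_algebraMap_iff.2 S.isHausdorff
  refine AdicRing.finite_of_finite_quotient (I := J) L ?_
  obtain ⟨r, p, hp⟩ := Module.Finite.exists_fin' A (M 0)
  obtain ⟨φ, hφ⟩ := Module.projective_lifting_property (π 0) p (S.surjective_π 0)
  let ψ : (Fin r → AdicCompletion I A) →ₗ[AdicCompletion I A] L ⧸ (J • ⊤ : Submodule (AdicCompletion I A) L) :=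
    (Submodule.mkQ _).comp (Fintype.linearCombination (AdicCompletion I A) (fun i => φ (Pi.single i 1)))
  refine Module.Finite.of_surjective ψ fun q => ?_
  obtain ⟨x, rfl⟩ := Submodule.Quotient.mk_surjective _ q
  obtain ⟨c, hc'⟩ := hp (π 0 x)
  refine ⟨fun i => algebraMap A _ (c i), ?_⟩
  simp only [ψ, LinearMap.comp_apply, Fintype.linearCombination_apply, algebraMap_smul, Submodule.mkQ_apply]
  rw [Submodule.Quotient.eq]
  have hsum : ∑ i, c i • φ (Pi.single i 1) = φ c := by
    simp only [← map_smul, ← map_sum]; congr 1; ext j; simp [Pi.single_apply]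
  rw [hsum]
  have h0 : φ c - x ∈ LinearMap.ker (π 0) := by
    rw [LinearMap.mem_ker, map_sub, ← LinearMap.comp_apply, hφ, hc', sub_self]
  rw [show LinearMap.ker (π 0) = (I ^ 1 • ⊤ : Submodule A L) from S.ker_of_fg hI 0, pow_one] at h0
  refine Submodule.smul_induction_on h0 (fun a ha y _ => ?_) (fun a b ha hb => add_mem ha hb)
  rw [← algebraMap_smul (AdicCompletion I A) a y]
  exact Submodule.smul_mem_smul (Ideal.mem_map_of_mem _ ha) Submodule.mem_top

end Groth.Agent.S13622
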