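import Groth.Statements.S13623
import Mathlib.RingTheory.Nakayama
import Mathlib.FieldTheory.IsAlgClosed.AlgebraicClosure
import Mathlib.RingTheory.TensorProduct.Quotient
import Mathlib.RingTheory.Flat.FaithfullyFlat.Algebra
import Mathlib.LinearAlgebra.TensorProduct.RightExactness

set_option autoImplicit false
universe u
open TensorProduct
open CAlg

namespace Groth.Agent.S13623

/-- Let A be a commutative ring and B a commutative A-algebra, graded by A-submodules B_m (m ≥ 0)
forming a graded-algebra structure, such that every B_m is a finitely generated A-module. If for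
every algebraically closed field k and every A-algebra structure on k the k-algebra k ⊗_A B is
generated by the image of B_1 under b ↦ 1 ⊗ b, then its degree-one part B_1 generates the A-algebra
B. (Algebraically closed fields are taken in the universe of A.) -/
theorem result
    (A : Type u) [CommRing A] (B : Type u) [CommRing B] [Algebra A B]
    (𝒜 : ℕ → Submodule A B) [GradedAlgebra 𝒜]
    (hfin : ∀ m : ℕ, Module.Finite A (𝒜 m))
    (hgen : ∀ (k : Type u) [Field k] [IsAlgClosed k] [Algebra A k],
      Algebra.adjoin k ((Algebra.TensorProduct.includeRight : B →ₐ[A] k ⊗[A] B) '' (𝒜 1 : Set B)) = ⊤) :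
    Algebra.adjoin A (𝒜 1 : Set B) = ⊤ := by
  classical
  let T := Algebra.adjoin A (𝒜 1 : Set B)
  rw [eq_top_iff]
  intro b _
  rw [← DirectSum.sum_support_decompose 𝒜 b]
  refine sum_mem fun n _ => ?_
  let P : Submodule A (𝒜 n) := (Subalgebra.toSubmodule T).comap (𝒜 n).subtype
  suffices hP : P = ⊤ from (hP ▸ Submodule.mem_top : DirectSum.decompose 𝒜 b n ∈ P)
  let Q := (𝒜 n) ⧸ P
  have := hfin n
  let π : B →ₗ[A] Q := P.mkQ ∘ₗ DFinsupp.lapply n ∘ₗ (DirectSum.decomposeLinearEquiv 𝒜).toLinearMap
  have hπs : Function.Surjective π := fun q => by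
    obtain ⟨x, rfl⟩ := Submodule.Quotient.mk_surjective P q
    refine ⟨(x : B), ?_⟩
    change P.mkQ (DirectSum.decompose 𝒜 (x : B) n) = _
    rw [DirectSum.decompose_coe, DirectSum.of_eq_same]
    rfl
  have hgr : ∀ x ∈ Submonoid.closure (𝒜 1 : Set B), ∃ j, x ∈ 𝒜 j := fun x hx => by
    induction hx using Submonoid.closure_induction with
    | mem x hx => exact ⟨1, hx⟩
    | one => exact ⟨0, SetLike.one_mem_graded 𝒜⟩
    | mul x y _ _ hx hy => exact ⟨hx.choose + hy.choose, SetLike.mul_mem_graded hx.choose_spec hy.choose_spec⟩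
  have hπ0 : ∀ x ∈ Submonoid.closure (𝒜 1 : Set B), π x = 0 := fun x hx => by
    obtain ⟨j, hj⟩ := hgr x hx
    change P.mkQ (DirectSum.decompose 𝒜 x n) = 0
    rw [Submodule.mkQ_apply, Submodule.Quotient.mk_eq_zero]
    change ((DirectSum.decompose 𝒜 x n : 𝒜 n) : B) ∈ Subalgebra.toSubmodule T
    by_cases hjn : j = n
    · subst hjn
      rw [DirectSum.decompose_of_mem_same 𝒜 hj, Algebra.adjoin_eq_span]
      exact Submodule.subset_span hx
    · rw [DirectSum.decompose_of_mem_ne 𝒜 hj hjn]
      exact zero_mem _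
  have key : ∀ m : Ideal A, m.IsMaximal → (⊤ : Submodule A Q) ≤ m • ⊤ := by
    intro m hm
    letI := Ideal.Quotient.field m
    let k := AlgebraicClosure (A ⧸ m)
    have h0 : ∀ z : k ⊗[A] B, π.lTensor k z = 0 := by
      intro z
      have hz : z ∈ Algebra.adjoin k ((Algebra.TensorProduct.includeRight : B →ₐ[A] k ⊗[A] B) '' (𝒜 1 : Set B)) :=
        (hgen k).symm ▸ Algebra.mem_top
      rw [← Subalgebra.mem_toSubmodule, Algebra.adjoin_eq_span] at hz
      refine Submodule.span_induction (p := fun z _ => AlgebraTensorModule.lTensor k k π z = 0) (fun w hw => ?_) (map_zero _)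
        (fun a c _ _ ha hc => by rw [map_add, ha, hc, add_zero]) (fun a c _ hc => by rw [map_smul, hc, smul_zero]) hz
      have hw' : w ∈ Submonoid.map (Algebra.TensorProduct.includeRight : B →ₐ[A] k ⊗[A] B).toRingHom.toMonoidHom (Submonoid.closure (𝒜 1 : Set B)) := by
        rw [MonoidHom.map_mclosure]; exact hw
      obtain ⟨x, hx, rfl⟩ := hw'
      simp [hπ0 x hx]
    have hk : Subsingleton (k ⊗[A] Q) := subsingleton_of_forall_eq 0 fun q => by
      obtain ⟨z, rfl⟩ := LinearMap.lTensor_surjective k hπs q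
      exact h0 z
    have hm' : Subsingleton ((A ⧸ m) ⊗[A] Q) := by
      have : Subsingleton (k ⊗[A ⧸ m] ((A ⧸ m) ⊗[A] Q)) :=
        (AlgebraTensorModule.cancelBaseChange A (A ⧸ m) k k Q).toEquiv.subsingleton
      exact (Module.FaithfullyFlat.tensorProduct_mk_injective (A := A ⧸ m) (B := k) ((A ⧸ m) ⊗[A] Q)).subsingleton
    have : Subsingleton (Q ⧸ (m • ⊤ : Submodule A Q)) := (TensorProduct.quotTensorEquivQuotSMul Q m).symm.toEquiv.subsingleton
    exact le_of_eq (Submodule.Quotient.subsingleton_iff.1 this).symm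
  have hann : Module.annihilator A Q = ⊤ := by
    by_contra hne
    obtain ⟨m, hm, hle⟩ := Ideal.exists_le_maximal _ hne
    obtain ⟨r, hr1, hr2⟩ := Submodule.exists_sub_one_mem_and_smul_eq_zero_of_fg_of_le_smul m (⊤ : Submodule A Q) Module.Finite.fg_top (key m hm)
    have h1 : r ∈ m := hle (Module.mem_annihilator.2 fun q => hr2 q trivial)
    exact hm.ne_top ((Ideal.eq_top_iff_one m).2 (by simpa using sub_mem h1 hr1))
  have : Subsingleton Q := subsingleton_of_forall_eq 0 fun q => by
    have h1 : (1 : A) ∈ Module.annihilator A Q := hann ▸ Submodule.mem_top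
    simpa using Module.mem_annihilator.1 h1 q
  exact Submodule.Quotient.subsingleton_iff.1 this

end Groth.Agent.S13623
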