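import Groth.Statements.S13624
import Groth.Agent.S3617

set_option autoImplicit false
universe u
open CategoryTheory CategoryTheory.Limits AlgebraicGeometry Opposite
open Goren

namespace Groth.Agent.S13624

/-- Let f : X → Y be a proper, flat morphism of schemes which is locally of finite presentation. Then
the set of points y of Y whose scheme-theoretic fibre X_y = X ×_Y Spec κ(y) is a Gorenstein scheme
(every local ring of X_y is a Gorenstein local ring) is open in Y. -/
theorem result (X Y : Scheme.{u}) (f : X ⟶ Y)
    [IsProper f] [Flat f] [LocallyOfFinitePresentation f] :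
    IsOpen {y : Y | ∀ x : ↥(f.fiber y), LocCoh.IsGorensteinLocalRing ((f.fiber y).presheaf.stalk x)} := by
  open Groth.Agent in
  have key : {y : Y | ∀ x : ↥(f.fiber y), LocCoh.IsGorensteinLocalRing ((f.fiber y).presheaf.stalk x)} =
      (f '' {x : X | Dual3.IsGorensteinAt f x}ᶜ)ᶜ := by
    ext y
    simp only [Set.mem_setOf_eq, Set.mem_compl_iff, Set.mem_image, not_exists, not_and]
    constructor
    · intro h x hx hxy
      subst hxy
      exact hx ⟨Flat.stalkMap f x, h _⟩
    · intro h z
      by_contra hz
      obtain ⟨x, hx⟩ : ∃ x, x = f.fiberι y z := ⟨_, rfl⟩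
      obtain rfl : f x = y := by
        have hm : f.fiberι y z ∈ f ⁻¹' {y} := (f.range_fiberι y).le ⟨z, rfl⟩
        rw [hx]
        exact hm
      refine h x (fun hG => hz ?_) rfl
      have e : f.asFiber x = z := (f.fiberι _).isEmbedding.injective ((f.fiberι_asFiber x).trans hx)
      exact e ▸ hG.2
  rw [key]
  exact (f.isClosedMap _ (S3617.result X Y f).isClosed_compl).isOpen_compl

end Groth.Agent.S13624
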