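import Groth.Statements.S13626
import Groth.Agent.Coherent.ProjFormula
import Groth.Agent.CohCmpLib.Edge
import Groth.Agent.RelVAFib14.Main

set_option autoImplicit false
universe u
open CategoryTheory CategoryTheory.Limits AlgebraicGeometry
open Coh

open CategoryTheory AlgebraicGeometry TopologicalSpace Groth.Agent
set_option backward.isDefEq.respectTransparency false
set_option backward.isDefEq.respectTransparency.types false

namespace Groth.Agent.S13626

/-- Let f : X → Y be a morphism of schemes with R^i f_* O_X = 0 for every i ≥ 1 and f_* O_X ≅ O_Y. Then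
for every invertible O_Y-module L and every p ≥ 0 the groups H^p(X, f^* L) and H^p(Y, L) are
isomorphic (existence of a group isomorphism; the higher direct images are the right derived
functors of f_* on O_X-modules, under the instance argument recording that O_X-modules have
injective resolutions). -/
theorem result
    {X Y : Scheme.{u}} (f : X ⟶ Y) [HasInjectiveResolutions X.Modules]
    (hR : ∀ i : ℕ, IsZero ((Coh.Rpush f (i + 1)).obj (Coh.structureModule X)))
    (h0 : Nonempty ((Coh.push f).obj (Coh.structureModule X) ≅ Coh.structureModule Y))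
    (L : Y.Modules) (hL : PicF.IsInvertible L) (p : ℕ) :
    Nonempty (Coh.HH X ((Scheme.Modules.pullback f).obj L) p ≃+ Coh.HH Y L p) := by
  classical
  have hE := RelVAFib14.isFinLocFree_of_isInvertible hL
  let G := (Scheme.Modules.pullback f).obj L
  let u : CohB1.tensorMod G (Coh.structureModule X) ≅ G :=
    AmpleLib.tensorComm _ _ ≪≫ AmpleLib.unitTensorIso G
  have hG : ∀ q : ℕ, 0 < q → Limits.IsZero ((Coh.Rpush f q).obj G) := fun q hq => by
    obtain ⟨e⟩ := Coherent.nonempty_projection_formula (f := f) hE (Coh.structureModule X) q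
    obtain ⟨i, rfl⟩ : ∃ i, q = i + 1 := ⟨q - 1, by omega⟩
    refine Limits.IsZero.of_iso ?_ ((Coh.Rpush f (i + 1)).mapIso u).symm
    refine Limits.IsZero.of_iso ?_ e.symm
    exact Functor.map_isZero (Coherent.tensE L) (hR i)
  obtain ⟨e0⟩ := h0
  let e1 : (Scheme.Modules.pushforward f).obj G ≅ L :=
    (Scheme.Modules.pushforward f).mapIso u.symm ≪≫ ((Coherent.projIso (f := f) hE).app (Coh.structureModule X)).symm ≪≫
      AmpleLib.tensorIso (Iso.refl L) e0 ≪≫ AmpleLib.tensorComm _ _ ≪≫ AmpleLib.unitTensorIso L
  exact ⟨(AddEquiv.ofBijective _ (CohCmpLib.bijective_pushEdge f p G hG)).symm.trans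
    (((CategoryTheory.Sheaf.functorH (Opens.grothendieckTopology ↥Y) p).mapIso
      ((SheafOfModules.toSheaf Y.ringCatSheaf).mapIso e1)).addCommGroupIsoToAddEquiv)⟩

end Groth.Agent.S13626
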