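import Groth.Statements.S13628
import Groth.Agent.FBaseLib.Geom
import Mathlib

set_option backward.isDefEq.respectTransparency.types false

set_option autoImplicit false
universe u
open CategoryTheory CategoryTheory.Limits AlgebraicGeometry Opposite
open FBase

namespace Groth.Agent.S13628

/-- Let P be a property of schemes over fields, invariant under isomorphisms of schemes over the base
field and invariant in both directions under every field extension k → K (Z over k has P if and only
if Z ×_k Spec K over K has P). Let f : X → T be a morphism of schemes, h : T' → T a surjective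
morphism of schemes and f' : X' → T' a base change of f along h. If for every algebraically closed
field k and every Spec k → T' the fibre X' ×_{T'} Spec k has P, then for every algebraically closed
field k and every Spec k → T the fibre X ×_T Spec k has P. (Fields are taken in the universe of the
schemes. The published statement is that families of del Pezzo surfaces form a stack for the étale
topology; this row is the step of its proof that descends the condition on geometric fibres along a
surjective base change, stated for any fibre property with the invariance above.) -/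
theorem result
    (P : ∀ (k : Type u) [Field k] (Z : Scheme.{u}), (Z ⟶ Spec (CommRingCat.of k)) → Prop)
    (hiso : ∀ (k : Type u) [Field k] (Z Z' : Scheme.{u}) (e : Z ≅ Z') (g : Z' ⟶ Spec (CommRingCat.of k)),
      P k Z' g → P k Z (e.hom ≫ g))
    (hext : ∀ (k K : Type u) [Field k] [Field K] (i : k →+* K) (Z : Scheme.{u}) (g : Z ⟶ Spec (CommRingCat.of k)),
      P k Z g ↔ P K (pullback g (Spec.map (CommRingCat.ofHom i))) (pullback.snd g (Spec.map (CommRingCat.ofHom i))))
    {X T X' T' : Scheme.{u}} (f : X ⟶ T) (h : T' ⟶ T) [Surjective h] (f' : X' ⟶ T') (h' : X' ⟶ X)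
    (sq : IsPullback h' f' f h)
    (H : ∀ (k : Type u) [Field k] [IsAlgClosed k] (σ' : Spec (CommRingCat.of k) ⟶ T'),
        P k (pullback f' σ') (pullback.snd f' σ'))
    (k : Type u) [Field k] [IsAlgClosed k] (σ : Spec (CommRingCat.of k) ⟶ T) :
    P k (pullback f σ) (pullback.snd f σ) := by
  obtain ⟨L, _, i, σ₀, hσ⟩ := FBaseLib.exists_lift_point h σ
  let Ω := AlgebraicClosure L
  let σ' := Spec.map (CommRingCat.ofHom (algebraMap L Ω)) ≫ σ₀
  let i' := (algebraMap L Ω).comp i
  have hσ' : σ' ≫ h = Spec.map (CommRingCat.ofHom i') ≫ σ := by
    rw [Category.assoc, hσ, ← Category.assoc, ← Spec.map_comp]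
    rfl
  refine (hext k Ω i' _ _).2 ?_
  have hbig : IsPullback (pullback.fst f' σ' ≫ h') (pullback.snd f' σ') f (σ' ≫ h) :=
    (IsPullback.of_hasPullback f' σ').paste_horiz sq
  rw [hσ'] at hbig
  let e := (pullbackLeftPullbackSndIso f σ (Spec.map (CommRingCat.ofHom i'))) ≪≫ hbig.isoPullback.symm
  have h2 := hiso Ω _ _ e _ (H Ω σ')
  simpa [e] using h2

end Groth.Agent.S13628
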