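import Groth.Statements.S13629
import Groth.Agent.Coherent.CohBC.EulerLC
import Groth.Agent.EulerLib.FGABridge
import Groth.Agent.Coherent.CohBC.HomSheaf
import Groth.Agent.Props12.FinLocFree
import Groth.Agent.Coherent.ProjSpaceBC
import Groth.Agent.S3233
import Groth.Agent.DCat.PullTensor
import Groth.Agent.Coherent.ProperFinite
-- import your own Groth.Agent.* helpers here

set_option autoImplicit false
universe u
open CategoryTheory CategoryTheory.Limits AlgebraicGeometry Opposite
open FGA

namespace Groth.Agent.S13629

/-- Let f : X → Y be a proper, flat morphism of schemes, locally of finite presentation, whose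
scheme-theoretic fibres X_y all have Krull dimension at most 2, and let L be an invertible
O_X-module with a tensor inverse M (M ⊗ L ≅ O_X). Then the self-intersection number (L_y · L_y) of
the restriction of L to the fibre X_y over κ(y), namely the alternating sum χ(O_{X_y}) − 2χ(M_y) +
χ(M_y ⊗ M_y) of Euler characteristics in degrees ≤ 2, is a locally constant function of y: every
point y₀ of Y has an open neighbourhood on which it equals its value at y₀. (The published statement
is the case where the fibres are integral normal Gorenstein surfaces and L is the relative dualizing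
sheaf, so that the number is the self-intersection K² of the canonical class of the fibre; the fibre
X_y is regarded as a scheme over Spec κ(y) through the second projection.) -/
theorem result
    {X Y : Scheme.{u}} (f : X ⟶ Y) [IsProper f] [Flat f] [LocallyOfFinitePresentation f]
    (hdim : ∀ y : Y, topologicalKrullDim ↥(f.fiber y) ≤ 2)
    (L M : X.Modules) (hL : PicF.IsInvertible L) (hM : ClSub.IsInverseOf M L) (y₀ : Y) :
    ∃ U : Y.Opens, y₀ ∈ U ∧ ∀ y : Y, y ∈ U →
      @FGA.intNum ↥(Y.residueField y) _ (f.fiber y) ⟨f.fiberToSpecResidueField y⟩ 2 2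
            ![(Scheme.Modules.pullback (f.fiberι y)).obj M, (Scheme.Modules.pullback (f.fiberι y)).obj M]
            (Coh.structureModule (f.fiber y)) =
        @FGA.intNum ↥(Y.residueField y₀) _ (f.fiber y₀) ⟨f.fiberToSpecResidueField y₀⟩ 2 2
            ![(Scheme.Modules.pullback (f.fiberι y₀)).obj M, (Scheme.Modules.pullback (f.fiberι y₀)).obj M]
            (Coh.structureModule (f.fiber y₀)) := by
  classical
  obtain ⟨eLM⟩ := hM
  have hMinv : PicF.IsInvertible M := by
    refine Groth.Agent.S3233.isInvertible_of_inverse hL ?_
    first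
      | exact eLM
      | exact AmpleLib.tensorComm L M ≪≫ eLM
  let G : Finset (Fin 2) → X.Modules := fun I =>
    CohB1.tensorMod (FGA.tensorList ((I.sort (· ≤ ·)).map ![M, M])) (Coh.structureModule X)
  have hMI : ∀ i, PicF.IsInvertible (![M, M] i) := fun i => by fin_cases i <;> exact hMinv
  have hG : ∀ I, PicF.IsInvertible (G I) := fun I => by
    refine AmpleLib.isInvertible_tensorMod ?_ AmpleLib.isInvertible_structureModule
    induction (I.sort (· ≤ ·)) with
    | nil => exact AmpleLib.isInvertible_structureModule
    | cons a l ih => exact AmpleLib.isInvertible_tensorMod (hMI a) ih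
  have hlc : ∀ I, IsLocallyConstant fun y : Y => PerfAux.eulerChar f (G I) y := fun I => by
    have hfin := Coherent.isFinLocFree_of_invertible (hG I)
    haveI : Coh.IsQCoh (G I) := AmpleLib.isQCoh_of_isInvertible (hG I)
    exact Coherent.CohBC.isLocallyConstant_eulerChar_of_isFP f (Props12.isFP_of_isFinLocFree _ hfin)
      (Coherent.CohBC.isFlatOver_of_isFinLocFree f hfin)
  refine ⟨⟨⋂ I, {y | PerfAux.eulerChar f (G I) y = PerfAux.eulerChar f (G I) y₀},
      isOpen_iInter_of_finite fun I => (hlc I).isOpen_fiber _⟩,
    Set.mem_iInter.2 fun I => rfl, fun y hy => ?_⟩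
  have key : ∀ (z : Y) (I : Finset (Fin 2)),
      @FGA.eulerCharLE ↥(Y.residueField z) _ (f.fiber z) ⟨f.fiberToSpecResidueField z⟩
        (CohB1.tensorMod (FGA.tensorList ((I.sort (· ≤ ·)).map
          ![(Scheme.Modules.pullback (f.fiberι z)).obj M, (Scheme.Modules.pullback (f.fiberι z)).obj M]))
          (Coh.structureModule (f.fiber z))) 2 = PerfAux.eulerChar f (G I) z := by
    intro z I
    letI : (f.fiber z).Over (Spec (CommRingCat.of (Y.residueField z))) := ⟨f.fiberToSpecResidueField z⟩
    haveI : IsProper ((f.fiber z) ↘ Spec (CommRingCat.of (Y.residueField z))) :=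
      MorphismProperty.pullback_snd (P := @IsProper) _ _ inferInstance
    have hlist : ∀ l : List (Fin 2), Nonempty ((Scheme.Modules.pullback (f.fiberι z)).obj (FGA.tensorList (l.map ![M, M])) ≅
        FGA.tensorList (l.map
          ![(Scheme.Modules.pullback (f.fiberι z)).obj M, (Scheme.Modules.pullback (f.fiberι z)).obj M])) := by
      intro l
      induction l with
      | nil => exact ⟨PicLoc.pullbackStructureIso _⟩
      | cons a l ih =>
        obtain ⟨e⟩ := ih
        have ha : (Scheme.Modules.pullback (f.fiberι z)).obj (![M, M] a) =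
            ![(Scheme.Modules.pullback (f.fiberι z)).obj M, (Scheme.Modules.pullback (f.fiberι z)).obj M] a := by
          fin_cases a <;> rfl
        rw [List.map_cons, List.map_cons]
        exact ⟨DCat.PullTensor.pullTensorIso (f.fiberι z) (![M, M] a) (FGA.tensorList (l.map ![M, M])) ≪≫
          AmpleLib.tensorIso (eqToIso ha) e⟩
    obtain ⟨e⟩ := hlist (I.sort (· ≤ ·))
    let e' : (Scheme.Modules.pullback (f.fiberι z)).obj (G I) ≅ CohB1.tensorMod (FGA.tensorList ((I.sort (· ≤ ·)).map
          ![(Scheme.Modules.pullback (f.fiberι z)).obj M, (Scheme.Modules.pullback (f.fiberι z)).obj M]))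
          (Coh.structureModule (f.fiber z)) :=
      DCat.PullTensor.pullTensorIso (f.fiberι z) (FGA.tensorList ((I.sort (· ≤ ·)).map ![M, M])) (Coh.structureModule X) ≪≫
        AmpleLib.tensorIso e (PicLoc.pullbackStructureIso (f.fiberι z))
    have hq : Coh.IsQCoh ((Scheme.Modules.pullback (f.fiberι z)).obj (G I)) :=
      AmpleLib.isQCoh_of_isInvertible (PicLoc.isInvertible_pullback _ (hG I))
    rw [EulerLib.eulerCharLE_eq (↥(Y.residueField z)) _ (Coherent.isQCoh_of_iso e') (by exact_mod_cast hdim z),
      ← EulerLib.euler_congr (↥(Y.residueField z)) (f.fiber z) e']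
    rfl
  unfold FGA.intNum
  refine Finset.sum_congr rfl fun I _ => congrArg _ ?_
  rw [key y I, key y₀ I]
  exact Set.mem_iInter.1 hy I

end Groth.Agent.S13629
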