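import Groth.Statements.S13630
import Groth.Agent.DelPezzo19.Fibre
import Groth.Agent.Et18.Descent
open Groth.Agent
set_option backward.isDefEq.respectTransparency.types false

set_option autoImplicit false
universe u
open CategoryTheory CategoryTheory.Limits AlgebraicGeometry Opposite
open FBase

set_option backward.isDefEq.respectTransparency.types false
set_option backward.isDefEq.respectTransparency false

namespace Groth.Agent.S13630


/-- Say that a morphism of schemes p : S → T is a family of del Pezzo surfaces when p is proper and
smooth (hence of finite presentation) and for every algebraically closed field k and every morphism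
Spec k → T the fibre S_k = S ×_T Spec k is an integral scheme of Krull dimension 2 whose
anti-canonical sheaf is ample — there are a second exterior power ω of the sheaf of differentials of
S_k → Spec k and a tensor inverse D of ω with D ample. This property descends along flat,
surjective, quasi-compact morphisms: if T' → T is such a morphism and the base change S ×_T T' → T'
is a family of del Pezzo surfaces, then so is p. (Stated for a single quasi-compact faithfully flat
base change; together with Zariski-locality on T this is locality for the fpqc topology. Fields are
taken in the universe of the schemes. The published statement is that families of del Pezzo surfaces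
form a stack for the étale topology; this row is the locality of the family condition that its proof
establishes.) -/
theorem result :
    MorphismProperty.DescendsAlong
      (fun ⦃S T : Scheme.{u}⦄ (p : S ⟶ T) =>
        IsProper p ∧ Smooth p ∧
          ∀ (k : Type u) [Field k] [IsAlgClosed k] (σ : Spec (CommRingCat.of k) ⟶ T),
            IsIntegral (pullback p σ) ∧ topologicalKrullDim ↥(pullback p σ) = 2 ∧
              ∃ ω D : (pullback p σ).Modules, Canon.IsTopDiff (pullback.snd p σ) 2 ω ∧
                ClSub.IsInverseOf D ω ∧ CohB1.IsAmple D)
      (@Surjective ⊓ @Flat ⊓ @QuasiCompact : MorphismProperty Scheme.{u}) := by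
  haveI : MorphismProperty.DescendsAlong (@IsProper : MorphismProperty Scheme.{u})
      (@Surjective ⊓ @Flat ⊓ @QuasiCompact : MorphismProperty Scheme.{u}) := Et18.descends_isProper
  refine ⟨fun {A X Y Z a b f g} H hf hP => ?_⟩
  obtain ⟨hp, hs, hfib⟩ := hP
  have hp' : IsProper g := MorphismProperty.of_isPullback_of_descendsAlong (P := @IsProper)
    (Q := (@Surjective ⊓ @Flat ⊓ @QuasiCompact : MorphismProperty Scheme.{u})) H hf hp
  have hs' : Smooth g := MorphismProperty.of_isPullback_of_descendsAlong (P := @Smooth)
    (Q := (@Surjective ⊓ @Flat ⊓ @QuasiCompact : MorphismProperty Scheme.{u})) H hf hs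
  refine ⟨hp', hs', fun k _ _ σ => ?_⟩
  haveI : Surjective f := hf.1.1
  obtain ⟨x, hx, -⟩ := Scheme.Pullback.exists_preimage_pullback (f := f) (g := σ)
    (f.surjective (σ (IsLocalRing.closedPoint k))).choose (IsLocalRing.closedPoint k)
    (f.surjective (σ (IsLocalRing.closedPoint k))).choose_spec
  let K := AlgebraicClosure ((pullback f σ).residueField x)
  let j : Spec (CommRingCat.of K) ⟶ pullback f σ :=
    Spec.map (CommRingCat.ofHom (algebraMap ((pullback f σ).residueField x) K)) ≫
      (pullback f σ).fromSpecResidueField x
  let τ := j ≫ pullback.fst f σ
  let ι := j ≫ pullback.snd f σ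
  obtain ⟨hint, hdim, ω', D', hω', hD', hamp⟩ := hfib K τ
  haveI : IsProper (pullback.snd g σ) := inferInstance
  haveI : Smooth (pullback.snd g σ) := inferInstance
  have big : IsPullback (pullback.fst a τ ≫ b) (pullback.snd a τ) g (ι ≫ σ) := by
    have h := (IsPullback.of_hasPullback a τ).paste_horiz H.flip
    rwa [show τ ≫ f = ι ≫ σ by simp only [τ, ι, Category.assoc, pullback.condition]] at h
  let π : pullback a τ ⟶ pullback g σ :=
    pullback.lift (pullback.fst a τ ≫ b) (pullback.snd a τ ≫ ι) (by rw [Category.assoc]; exact big.w)
  have H' : IsPullback π (pullback.snd a τ) (pullback.snd g σ) ι :=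
    IsPullback.of_right (by rw [pullback.lift_fst]; exact big) (pullback.lift_snd _ _ _)
      (IsPullback.of_hasPullback g σ)
  exact DelPezzo19.descend_fibre _ H' hdim hω' hD' hamp

end Groth.Agent.S13630
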