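import Groth.Statements.S13631
import Mathlib.LinearAlgebra.Dimension.Free
import Mathlib.LinearAlgebra.FiniteDimensional.Basic
import Mathlib.LinearAlgebra.FreeModule.StrongRankCondition

set_option autoImplicit false
universe u v w
open CAlg

namespace Groth.Agent.S13631

/-- Let k be a field, R an integral domain which is a k-algebra of infinite dimension over k, M a finite
free R-module, σ a ring automorphism of R mapping the image of k onto itself, and φ : M → M a
σ-semilinear map. If the cokernel of φ is finite-dimensional over k, in the sense that some finitely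
generated k-subspace N of M satisfies M = N + φ(M), then φ is injective. -/
theorem result
    {k : Type u} {R : Type v} {M : Type w} [Field k] [CommRing R] [IsDomain R] [Algebra k R]
    (hR : ¬ Module.Finite k R)
    [AddCommGroup M] [Module R M] [Module k M] [IsScalarTower k R M]
    [Module.Finite R M] [Module.Free R M]
    (σ : R ≃+* R)
    (hσ : ∀ x : k, ∃ y : k, σ (algebraMap k R x) = algebraMap k R y)
    (hσ' : ∀ y : k, ∃ x : k, σ (algebraMap k R x) = algebraMap k R y)
    (φ : M →ₛₗ[(σ : R →+* R)] M)
    (hcoker : ∃ N : Submodule k M, N.FG ∧ ∀ m : M, ∃ n ∈ N, ∃ m' : M, m = n + φ m') :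
    Function.Injective φ := by
  rw [injective_iff_map_eq_zero]
  intro z hz
  by_contra hz0
  obtain ⟨N, hN, hdec⟩ := hcoker
  have : RingHomSurjective (σ : R →+* R) := ⟨σ.surjective⟩
  let U : Submodule R M := LinearMap.range φ
  have htor : ∀ m : M, ∃ a : R, a ≠ 0 ∧ a • m ∈ U := by
    intro m
    by_contra hcon
    push Not at hcon
    apply hR
    let g : R →ₗ[k] (M ⧸ U) := ((Submodule.mkQ U).comp (LinearMap.toSpanSingleton R M m)).restrictScalars k
    have hg : Function.Injective g := by
      rw [injective_iff_map_eq_zero]
      intro a ha
      by_contra ha0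
      exact hcon a ha0 ((Submodule.Quotient.mk_eq_zero U).1 ha)
    have : Module.Finite k N := Module.Finite.iff_fg.2 hN
    have hfin : Module.Finite k (M ⧸ U) := by
      refine Module.Finite.of_surjective (((Submodule.mkQ U).restrictScalars k).comp N.subtype) fun q => ?_
      obtain ⟨m, rfl⟩ := Submodule.Quotient.mk_surjective U q
      obtain ⟨n, hn, m', rfl⟩ := hdec m
      refine ⟨⟨n, hn⟩, ?_⟩
      change Submodule.Quotient.mk n = Submodule.Quotient.mk (n + φ m')
      rw [Submodule.Quotient.eq]
      simpa [U] using neg_mem (LinearMap.mem_range_self φ m')
    exact Module.Finite.of_injective g hg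
  have : Nontrivial R := inferInstance
  let b := Module.Free.chooseBasis R M
  choose a ha ham using fun i => htor (b i)
  choose v hv using fun i => LinearMap.mem_range.1 (ham i)
  let w : Option (Module.Free.ChooseBasisIndex R M) → M := fun o => o.elim z v
  have hli : LinearIndependent R w := by
    classical
    rw [Fintype.linearIndependent_iff]
    intro c hc
    rw [Fintype.sum_option] at hc
    simp only [w, Option.elim_none, Option.elim_some] at hc
    have h2 : ∑ i, (σ (c (some i)) * a i) • b i = 0 := by
      have := congrArg φ hc
      simp only [map_add, map_sum, LinearMap.map_smulₛₗ, hz, smul_zero, zero_add, map_zero, hv, smul_smul] at this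
      exact this
    have h3 : ∀ i, c (some i) = 0 := fun i => by
      have := Fintype.linearIndependent_iff.1 b.linearIndependent _ h2 i
      rcases mul_eq_zero.1 this with h | h
      · exact σ.injective (by rw [h, map_zero])
      · exact absurd h (ha i)
    simp only [h3, zero_smul, Finset.sum_const_zero, add_zero] at hc
    rintro (_ | i)
    · have h4 := congrArg b.repr hc
      rw [map_smul, map_zero] at h4
      have hne : b.repr z ≠ 0 := fun h => hz0 (b.repr.injective (by rw [h, map_zero]))
      exact (smul_eq_zero.1 h4).resolve_right hne
    · exact h3 i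
  have := hli.fintype_card_le_finrank
  rw [Fintype.card_option, Module.finrank_eq_card_basis b] at this
  omega

end Groth.Agent.S13631
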