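import Groth.Statements.S13633
import Groth.Agent.HopfQuot.SchemeQuot
import Groth.Agent.DynLib.Basic
import Groth.Agent.HopfLib.Cartier
import Mathlib.RingTheory.Filtration
import Mathlib.RingTheory.Jacobson.Ring
import Mathlib.RingTheory.IntegralClosure.IsIntegralClosure.Basic
import Mathlib.AlgebraicGeometry.Morphisms.FlatMono
-- import your own Groth.Agent.* helpers here

set_option autoImplicit false
universe u
open CategoryTheory CategoryTheory.Limits MonoidalCategory CartesianMonoidalCategory MonObj AlgebraicGeometry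
open GrpSch

namespace Groth.Agent.S13633

open WithConv TensorProduct
open Groth.Agent.HopfQuot (Pt push idPt mkPt ptSpec spec specHom)

noncomputable section

variable {k : Type u} [Field k] {A B : Type u} [CommRing A] [HopfAlgebra k A] [CommRing B] [HopfAlgebra k B]

/-- Points of the source give points of the target. -/
def pre (f : A →ₐc[k] B) (R : Type u) [CommRing R] [Algebra k R] : Pt k B R →* Pt k A R where
  toFun g := toConv (g.ofConv.comp (f : A →ₐ[k] B))
  map_one' := WithConv.ext (AlgHom.ext fun a => by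
    show (1 : Pt k B R).ofConv (f a) = (1 : Pt k A R).ofConv a
    rw [HopfQuot.one_apply, HopfQuot.one_apply]
    exact congrArg _ (CoalgHomClass.counit_comp_apply f a))
  map_mul' g h := congrArg toConv (AlgHom.convMul_comp_bialgHom_distrib g h f)

theorem counit_antipode_mem {a : A} (ha : Bialgebra.counitAlgHom k A a = 0) :
    Bialgebra.counitAlgHom k A (HopfAlgebraStruct.antipode k (A := A) a) = 0 := by
  have h : ((1 : Pt k A k)⁻¹).ofConv a = (1 : Pt k A k).ofConv a := by rw [inv_one]
  rw [HopfQuot.inv_apply, HopfQuot.one_apply, HopfQuot.one_apply] at h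
  simpa using h.trans (by simpa using ha)

/-- An algebra in which the augmentation ideal is nil is finite. -/
theorem finite_of_nil {C : Type u} [CommRing C] [Algebra k C] [Algebra.FiniteType k C] (ε : C →ₐ[k] k)
    (h : ∀ c, ε c = 0 → IsNilpotent c) : Module.Finite k C := by
  have : Algebra.IsIntegral k C := ⟨fun c => by
    obtain ⟨n, hn⟩ := h (c - algebraMap k C (ε c)) (by simp)
    refine ⟨(Polynomial.X - Polynomial.C (ε c)) ^ n, (Polynomial.monic_X_sub_C _).pow _, ?_⟩
    rw [← Polynomial.aeval_def]
    simp [hn]⟩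
  exact Algebra.IsIntegral.finite

section Frobenius

variable (p : ℕ) [Fact p.Prime] [CharP k p]

/-- The ideal of an iterated Frobenius kernel. -/
def frobIdeal (n : ℕ) : Ideal A :=
  Ideal.span ((fun a : A => a ^ p ^ n) '' (RingHom.ker (Bialgebra.counitAlgHom k A).toRingHom : Set A))

theorem isHopfIdeal_frobIdeal (n : ℕ) : (frobIdeal (k := k) (A := A) p n).IsHopfIdeal k := by
  have hq : ∀ (R : Type u) [CommRing R] [Algebra k R] (g : Pt k A R),
      (∀ a, Bialgebra.counitAlgHom k A a = 0 → g.ofConv a ^ p ^ n = 0) →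
      ∀ a, g.ofConv a ^ p ^ n = algebraMap k R (Bialgebra.counitAlgHom k A a ^ p ^ n) := by
    intro R _ _ g hg a
    rcases subsingleton_or_nontrivial R with hR | hR
    · exact Subsingleton.elim _ _
    haveI : CharP R p := charP_of_injective_algebraMap (algebraMap k R).injective p
    have h := hg (a - algebraMap k A (Bialgebra.counitAlgHom k A a)) (by simp)
    rw [map_sub, AlgHom.commutes, sub_pow_char_pow, sub_eq_zero] at h
    rw [h, map_pow]
  refine DynLib.isHopfIdeal_of_subgroup (k := k) (frobIdeal (k := k) p n) (fun R _ _ =>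
    { carrier := {g | ∀ a, Bialgebra.counitAlgHom k A a = 0 → g.ofConv a ^ p ^ n = 0}
      one_mem' := fun a ha => by
        rw [HopfQuot.one_apply, show CoalgebraStruct.counit (R := k) a = 0 from ha, map_zero,
          zero_pow (pow_ne_zero _ (Fact.out : p.Prime).ne_zero)]
      mul_mem' := fun {g h} hg hh a ha => by
        rcases subsingleton_or_nontrivial R with hR | hR
        · exact Subsingleton.elim _ _
        haveI : CharP R p := charP_of_injective_algebraMap (algebraMap k R).injective p
        have e1 : ∀ t : A ⊗[k] A, (Algebra.TensorProduct.lift g.ofConv h.ofConv (fun _ _ => .all ..) t) ^ p ^ n =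
            algebraMap k R (Algebra.TensorProduct.lift (Bialgebra.counitAlgHom k A) (Bialgebra.counitAlgHom k A)
              (fun _ _ => .all ..) t ^ p ^ n) := fun t => by
          induction t using TensorProduct.induction_on with
          | zero => simp [zero_pow (pow_ne_zero n (Fact.out : p.Prime).ne_zero)]
          | add x y hx hy => simp only [map_add, add_pow_char_pow, hx, hy]
          | tmul x y =>
            simp only [Algebra.TensorProduct.lift_tmul, mul_pow, map_mul]
            rw [hq R g hg x, hq R h hh y]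
        have e2 : ((1 : Pt k A k) * 1).ofConv a = 0 := by
          rw [_root_.mul_one, HopfQuot.one_apply, show CoalgebraStruct.counit (R := k) a = 0 from ha, map_zero]
        rw [HopfQuot.mul_apply] at e2
        rw [HopfQuot.mul_apply, e1]
        have e3 : ((1 : Pt k A k).ofConv : A →ₐ[k] k) = Bialgebra.counitAlgHom k A :=
          AlgHom.ext fun x => by rw [HopfQuot.one_apply]; rfl
        simp only [e3] at e2
        rw [e2, zero_pow (pow_ne_zero n (Fact.out : p.Prime).ne_zero), map_zero]
      inv_mem' := fun {g} hg a ha => hg _ (counit_antipode_mem ha) }) fun R _ _ g => ?_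
  constructor
  · intro h a ha
    rw [ofConv_toConv, ← map_pow]
    exact h _ (Ideal.subset_span ⟨a, ha, rfl⟩)
  · intro h a ha
    have : frobIdeal (k := k) p n ≤ RingHom.ker g := Ideal.span_le.2 fun _ ⟨b, hb, hba⟩ => by
      subst hba
      rw [SetLike.mem_coe, RingHom.mem_ker, map_pow]
      exact h b hb
    exact this ha

theorem finite_quot_frobIdeal [Algebra.FiniteType k A] (n : ℕ)
    [(frobIdeal (k := k) (A := A) p n).IsHopfIdeal k] :
    Module.Finite k (A ⧸ frobIdeal (k := k) (A := A) p n) := by
  refine finite_of_nil (Bialgebra.counitAlgHom k _) fun c hc => ?_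
  obtain ⟨a, rfl⟩ := Ideal.Quotient.mk_surjective c
  refine ⟨p ^ n, ?_⟩
  rw [← map_pow, Ideal.Quotient.eq_zero_iff_mem]
  exact Ideal.subset_span ⟨a, hc, rfl⟩

end Frobenius

/-- The kernel ideal. -/
def kerIdeal (f : A →ₐc[k] B) : Ideal B :=
  Ideal.span (f '' {a | Bialgebra.counitAlgHom k A a = 0})

theorem pre_eq_one_iff (f : A →ₐc[k] B) (R : Type u) [CommRing R] [Algebra k R] (g : B →ₐ[k] R) :
    (∀ b ∈ kerIdeal f, g b = 0) ↔ pre f R (toConv g) = 1 := by
  constructor
  · intro h
    refine WithConv.ext (AlgHom.ext fun a => ?_)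
    show g (f a) = (1 : Pt k A R).ofConv a
    have h1 := h (f (a - algebraMap k A (Bialgebra.counitAlgHom k A a)))
      (Ideal.subset_span ⟨_, by simp, rfl⟩)
    have e0 : f (algebraMap k A (Bialgebra.counitAlgHom k A a)) = algebraMap k B (Bialgebra.counitAlgHom k A a) :=
      (f : A →ₐ[k] B).commutes _
    rw [map_sub, e0, map_sub, AlgHom.commutes, sub_eq_zero] at h1
    rw [HopfQuot.one_apply]
    exact h1
  · intro h b hb
    have : kerIdeal f ≤ RingHom.ker g := Ideal.span_le.2 fun _ ⟨a, ha, hab⟩ => by
      subst hab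
      have h1 := congrArg (fun q : Pt k A R => q.ofConv a) h
      rw [SetLike.mem_coe, RingHom.mem_ker]
      refine h1.trans ?_
      rw [HopfQuot.one_apply]
      exact (congrArg _ ha).trans (map_zero _)
    exact this hb

variable {K : Type u} [Field K] [Algebra k K] [IsAlgClosure k K]

theorem pre_injective [Algebra.FiniteType k B] (f : A →ₐc[k] B)
    (hK : Function.Injective (pre f K))
    (hinf : ∀ (C : Type u) [CommRing C] [HopfAlgebra k C] [Module.Finite k C] (π : B →ₐc[k] C),
      Function.Surjective π → pre f C (toConv (π : B →ₐ[k] C)) = 1 → toConv (π : B →ₐ[k] C) = (1 : Pt k B C))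
    (R : Type u) [CommRing R] [Algebra k R] : Function.Injective (pre f R) := by
  haveI : IsAlgClosed K := IsAlgClosure.isAlgClosed k
  haveI : (kerIdeal f).IsHopfIdeal k := DynLib.isHopfIdeal_of_subgroup (k := k) (kerIdeal f)
    (fun R _ _ => (pre f R).ker) fun R _ _ g => (pre_eq_one_iff f R g).trans MonoidHom.mem_ker.symm
  let C := B ⧸ kerIdeal f
  have hnil : ∀ c : C, Bialgebra.counitAlgHom k C c = 0 → IsNilpotent c := fun c hc => by
    rw [← mem_nilradical, nilradical_eq_sInf, Ideal.mem_sInf]
    intro P hP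
    haveI : (P : Ideal C).IsPrime := hP
    haveI : IsJacobsonRing C := isJacobsonRing_of_finiteType (A := k)
    rw [← IsJacobsonRing.out' (R := C) P hP.isRadical, Ideal.jacobson, Ideal.mem_sInf]
    rintro M ⟨-, hM⟩
    haveI : M.IsMaximal := hM
    let π : B →ₐ[k] C ⧸ M := (Ideal.Quotient.mkₐ k M).comp (Ideal.Quotient.mkₐ k (kerIdeal f))
    letI := Ideal.Quotient.field M
    haveI : Module.Finite k (C ⧸ M) := finite_of_finite_type_of_isJacobsonRing k (C ⧸ M)
    let ι' : C ⧸ M →ₐ[k] K := IsAlgClosed.lift
    have h1 : pre f K (toConv (ι'.comp π)) = 1 := (pre_eq_one_iff f K _).1 fun b hb => by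
      show ι' (Ideal.Quotient.mkₐ k M (Ideal.Quotient.mk (kerIdeal f) b)) = 0
      rw [(Ideal.Quotient.eq_zero_iff_mem).2 hb, map_zero, map_zero]
    have h2 := hK (h1.trans (map_one _).symm)
    obtain ⟨b, rfl⟩ := Ideal.Quotient.mk_surjective c
    have h3 := congrArg (fun q : Pt k B K => q.ofConv b) h2
    rw [ofConv_toConv, HopfQuot.one_apply, show CoalgebraStruct.counit (R := k) b = 0 from hc, map_zero] at h3
    exact Ideal.Quotient.eq_zero_iff_mem.1 (ι'.toRingHom.injective (h3.trans (map_zero _).symm))
  haveI : Module.Finite k C := finite_of_nil (Bialgebra.counitAlgHom k C) hnil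
  have hπ := hinf C (Bialgebra.Quotient.mkBialgHom (kerIdeal f)) Ideal.Quotient.mk_surjective
    ((pre_eq_one_iff f C _).1 fun b hb => Ideal.Quotient.eq_zero_iff_mem.2 hb)
  have h1 : ∀ g : Pt k B R, pre f R g = 1 → g = 1 := fun g hg => by
    refine WithConv.ext (AlgHom.ext fun b => ?_)
    have h2 := congrArg (fun q : Pt k B C => q.ofConv b) hπ
    rw [HopfQuot.one_apply] at h2
    have h3 : b - algebraMap k B (CoalgebraStruct.counit (R := k) b) ∈ kerIdeal f := by
      rw [← Ideal.Quotient.eq_zero_iff_mem, map_sub, sub_eq_zero]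
      exact h2
    have h4 := (pre_eq_one_iff f R g.ofConv).2 hg _ h3
    rw [map_sub, AlgHom.commutes, sub_eq_zero] at h4
    rw [HopfQuot.one_apply, h4]
  intro g h e
  exact div_eq_one.1 (h1 _ (by rw [map_div, e, div_self']))

theorem injective_of_points [Algebra.FiniteType k A] (f : A →ₐc[k] B)
    (hK : Function.Surjective (pre f K))
    (hsup : ∀ (C : Type u) [CommRing C] [HopfAlgebra k C] [Module.Finite k C] (π : A →ₐc[k] C),
      Function.Surjective π → ∃ g : Pt k B C, pre f C g = toConv (π : A →ₐ[k] C)) :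
    Function.Injective f := by
  haveI : IsAlgClosed K := IsAlgClosure.isAlgClosed k
  haveI : Algebra.IsAlgebraic k K := IsAlgClosure.isAlgebraic
  rw [injective_iff_map_eq_zero]
  intro a ha
  have hx : ∀ x : Pt k A K, x.ofConv a = 0 := fun x => by
    obtain ⟨y, rfl⟩ := hK x
    show y.ofConv (f a) = 0
    rw [ha, map_zero]
  obtain ⟨p, hp⟩ := CharP.exists k
  rcases CharP.char_is_prime_or_zero k p with hpp | rfl
  swap
  · haveI : CharZero k := CharP.charP_to_charZero k
    haveI : IsReduced A := HopfLib.isReduced_of_charZero (k := k)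
    refine (IsReduced.eq_zero a ?_)
    rw [← mem_nilradical, nilradical_eq_sInf, Ideal.mem_sInf]
    intro P hP
    haveI : IsJacobsonRing A := isJacobsonRing_of_finiteType (A := k)
    rw [← IsJacobsonRing.out' (R := A) P hP.isRadical, Ideal.jacobson, Ideal.mem_sInf]
    rintro M ⟨-, hM⟩
    haveI : M.IsMaximal := hM
    letI := Ideal.Quotient.field M
    haveI : Module.Finite k (A ⧸ M) := finite_of_finite_type_of_isJacobsonRing k (A ⧸ M)
    let ι' : A ⧸ M →ₐ[k] K := IsAlgClosed.lift
    exact Ideal.Quotient.eq_zero_iff_mem.1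
      (ι'.toRingHom.injective ((hx (toConv (ι'.comp (Ideal.Quotient.mkₐ k M)))).trans (map_zero _).symm))
  haveI : Fact p.Prime := ⟨hpp⟩
  haveI : IsNoetherianRing (K ⊗[k] A) := Algebra.FiniteType.isNoetherianRing K _
  -- translation by a `K`-point
  let incl : K →ₐ[k] K ⊗[k] A := Algebra.TensorProduct.includeLeft
  let j : Pt k A (K ⊗[k] A) := toConv Algebra.TensorProduct.includeRight
  let τ : Pt k A K → Pt k A (K ⊗[k] A) := fun x => push incl x * j
  let T : Pt k A K → (K ⊗[k] A →ₐ[K] K ⊗[k] A) := fun x =>
    Algebra.TensorProduct.lift (Algebra.ofId K (K ⊗[k] A)) (τ x).ofConv fun _ _ => .all ..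
  have hT : ∀ (x : Pt k A K), push ((T x).restrictScalars k) j = τ x := fun x => WithConv.ext (AlgHom.ext fun b => by
    show T x ((1 : K) ⊗ₜ b) = _
    simp [T, ← Algebra.TensorProduct.one_def])
  have hTi : ∀ (x y : Pt k A K), push ((T x).restrictScalars k) (push incl y) = push incl y := fun x y =>
    WithConv.ext (AlgHom.ext fun b => by
      show T x (incl (y.ofConv b)) = incl (y.ofConv b)
      simp [T, incl])
  have hTT : ∀ (x y : Pt k A K) (z : K ⊗[k] A), T y (T x z) = T (x * y) z := fun x y z => by
    induction z using TensorProduct.induction_on with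
    | zero => simp
    | add z w hz hw => simp only [map_add, hz, hw]
    | tmul c b =>
      have h : push ((T y).restrictScalars k) (τ x) = τ (x * y) := by
        simp only [τ]
        rw [map_mul, hTi, hT, map_mul, _root_.mul_assoc]
      have h' := congrArg (fun q : Pt k A (K ⊗[k] A) => q.ofConv b) h
      have e1 : ∀ w, T w (c ⊗ₜ b) = algebraMap K (K ⊗[k] A) c * (τ w).ofConv b := fun w => by simp [T]
      rw [e1, e1, map_mul, AlgHom.commutes]
      exact congrArg _ h'
  have hT1 : ∀ z, T 1 z = z := fun z => by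
    induction z using TensorProduct.induction_on with
    | zero => simp
    | add z w hz hw => simp only [map_add, hz, hw]
    | tmul c b =>
      have : τ 1 = j := by simp [τ]
      simp [T, this, j, Algebra.TensorProduct.algebraMap_apply, Algebra.TensorProduct.tmul_mul_tmul]
  let χ : Pt k A K → (K ⊗[k] A →ₐ[K] K) := fun x =>
    Algebra.TensorProduct.lift (AlgHom.id K K) x.ofConv fun _ _ => .all ..
  have hχ : ∀ x z, χ 1 (T x z) = χ x z := fun x z => by
    induction z using TensorProduct.induction_on with
    | zero => simp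
    | add z w hz hw => simp only [map_add, hz, hw]
    | tmul c b =>
      have h : push ((χ 1).restrictScalars k) (τ x) = x := by
        simp only [τ]
        rw [map_mul]
        have e1 : push ((χ 1).restrictScalars k) (push incl x) = x := WithConv.ext (AlgHom.ext fun d => by
          show χ 1 (incl (x.ofConv d)) = x.ofConv d
          simp [χ, incl])
        have e2 : push ((χ 1).restrictScalars k) j = 1 := WithConv.ext (AlgHom.ext fun d => by
          show χ 1 ((1 : K) ⊗ₜ d) = (1 : Pt k A K).ofConv d
          simp [χ])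
        rw [e1, e2, _root_.mul_one]
      have h' := congrArg (fun q : Pt k A K => q.ofConv b) h
      have e1 : T x (c ⊗ₜ b) = algebraMap K (K ⊗[k] A) c * (τ x).ofConv b := by simp [T]
      rw [e1, map_mul, AlgHom.commutes]
      refine (congrArg _ h').trans ?_
      simp [χ]
  -- the translates of `a` vanish to infinite order at the origin
  let M : Ideal (K ⊗[k] A) := RingHom.ker (χ 1)
  have hM : ∀ x n, (τ x).ofConv a ∈ M ^ p ^ n := fun x n => by
    obtain ⟨y, rfl⟩ := hK x
    haveI := isHopfIdeal_frobIdeal (k := k) (A := A) p n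
    haveI := finite_quot_frobIdeal (k := k) (A := A) p n
    let J := frobIdeal (k := k) (A := A) p n
    obtain ⟨g, hg⟩ := hsup (A ⧸ J) (Bialgebra.Quotient.mkBialgHom J) Ideal.Quotient.mk_surjective
    let q : K ⊗[k] A →ₐ[k] K ⊗[k] (A ⧸ J) := Algebra.TensorProduct.map (AlgHom.id k K) (Ideal.Quotient.mkₐ k J)
    have h : push q (τ (pre f K y)) = pre f _ (push Algebra.TensorProduct.includeLeft y *
        push Algebra.TensorProduct.includeRight g) := by
      simp only [τ]
      rw [map_mul, map_mul]
      congr 1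
      refine WithConv.ext (AlgHom.ext fun d => ?_)
      have := congrArg (fun w : Pt k A (A ⧸ J) => w.ofConv d) hg
      show q ((1 : K) ⊗ₜ d) = (1 : K) ⊗ₜ g.ofConv (f d)
      rw [show g.ofConv (f d) = Ideal.Quotient.mkₐ k J d from this]
      simp [q]
    have h0 : q ((τ (pre f K y)).ofConv a) = 0 := by
      refine (congrArg (fun w : Pt k A (K ⊗[k] (A ⧸ J)) => w.ofConv a) h).trans ?_
      show AlgHom.comp _ (f : A →ₐ[k] B) a = 0
      rw [AlgHom.comp_apply, show (f : A →ₐ[k] B) a = 0 from ha, map_zero]
    have hker : RingHom.ker q = J.map Algebra.TensorProduct.includeRight :=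
      Algebra.TensorProduct.lTensor_ker (A := K) (Ideal.Quotient.mkₐ k J) Ideal.Quotient.mk_surjective |>.trans
        (congrArg _ (Ideal.Quotient.mkₐ_ker k J))
    refine SetLike.le_def.1 ?_ (RingHom.mem_ker.2 h0)
    rw [hker, Ideal.map_le_iff_le_comap]
    refine Ideal.span_le.2 fun _ ⟨b, hb, hbe⟩ => ?_
    subst hbe
    rw [SetLike.mem_coe, Ideal.mem_comap, map_pow]
    refine Ideal.pow_mem_pow ?_ _
    show χ 1 ((1 : K) ⊗ₜ b) = 0
    simp [χ, show CoalgebraStruct.counit (R := k) b = 0 from hb]
  let z : K ⊗[k] A := (1 : K) ⊗ₜ a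
  have hTz : ∀ x, T x z = (τ x).ofConv a := fun x => by simp [T, z, ← Algebra.TensorProduct.one_def]
  have hann : ∀ x, ∃ s, χ x s ≠ 0 ∧ s * z = 0 := fun x => by
    have hmem : (τ x).ofConv a ∈ (⨅ i : ℕ, M ^ i • (⊤ : Submodule (K ⊗[k] A) (K ⊗[k] A))) := by
      simp only [Submodule.mem_iInf, smul_eq_mul, Ideal.mul_top]
      intro i
      exact Ideal.pow_le_pow_right (Nat.le_of_lt (Nat.lt_pow_self hpp.one_lt)) (hM x i)
    obtain ⟨⟨r, hr⟩, hrz⟩ := (Ideal.mem_iInf_smul_pow_eq_bot_iff M _).1 hmem
    refine ⟨T x⁻¹ (1 - r), ?_, ?_⟩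
    · rw [← hχ x, hTT, inv_mul_cancel, hT1, map_sub, map_one,
        show χ 1 r = 0 from hr, sub_zero]
      exact one_ne_zero
    · have hz : z = T x⁻¹ ((τ x).ofConv a) := by
        rw [← hTz, hTT, mul_inv_cancel, hT1]
      rw [hz, ← map_mul, sub_mul, _root_.one_mul, ← smul_eq_mul, hrz, sub_self, map_zero]
  have hz0 : z = 0 := by
    by_contra hz
    let Ann : Ideal (K ⊗[k] A) := LinearMap.ker (LinearMap.mulRight (K ⊗[k] A) z)
    have hne : Ann ≠ ⊤ := fun h => hz (by
      simpa [Ann] using (h ▸ Submodule.mem_top : (1 : K ⊗[k] A) ∈ Ann))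
    obtain ⟨M', hM', hle⟩ := Ideal.exists_le_maximal Ann hne
    letI := Ideal.Quotient.field M'
    haveI : Module.Finite K ((K ⊗[k] A) ⧸ M') := finite_of_finite_type_of_isJacobsonRing K _
    let φ : K ⊗[k] A →ₐ[K] K := (IsAlgClosed.lift : (K ⊗[k] A) ⧸ M' →ₐ[K] K).comp (Ideal.Quotient.mkₐ K M')
    obtain ⟨s, hs, hsz⟩ := hann (toConv ((φ.restrictScalars k).comp Algebra.TensorProduct.includeRight))
    have hφ : χ (toConv ((φ.restrictScalars k).comp Algebra.TensorProduct.includeRight)) = φ :=
      Algebra.TensorProduct.ext (Subsingleton.elim _ _) (AlgHom.ext fun b => by simp [χ])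
    refine hs ?_
    rw [hφ]
    show (IsAlgClosed.lift : (K ⊗[k] A) ⧸ M' →ₐ[K] K) (Ideal.Quotient.mk M' s) = 0
    rw [(Ideal.Quotient.eq_zero_iff_mem).2 (hle (show s ∈ Ann by simpa [Ann] using hsz)), map_zero]
  exact Algebra.TensorProduct.includeRight_injective (A := K) (B := A) (algebraMap k K).injective
    (hz0.trans (TensorProduct.tmul_zero _ _).symm)

theorem isCommMonObj_spec_quot (C : Type u) [CommRing C] [HopfAlgebra k C] {X : Over (Spec (CommRingCat.of k))}
    [GrpObj X] [IsCommMonObj X] (j : spec (k := k) C ⟶ X) [IsMonHom j] [Mono j] :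
    IsCommMonObj (spec (k := k) C) where
  mul_comm := by
    rw [← cancel_mono j, Category.assoc, IsMonHom.mul_hom, ← Category.assoc,
      ← BraidedCategory.braiding_naturality, Category.assoc, IsCommMonObj.mul_comm]

end

/-- Let k be a field, K an algebraic closure of k, and ψ : G → H a homomorphism of commutative affine
group schemes of finite type over k. Assume that for every finite commutative group scheme I over k
the map Hom(I, G) → Hom(I, H), f ↦ f ≫ ψ, on group-scheme homomorphisms is bijective, and that ψ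
induces a bijection G(K) → H(K) on K-valued points. Then ψ is an isomorphism. (All group schemes are
commutative by the standing convention.) -/
theorem result
    {k : Type u} [Field k] (K : Type u) [Field K] [Algebra k K] [IsAlgClosure k K]
    (G H : Over (Spec (CommRingCat.of k)))
    [GrpObj G] [IsCommMonObj G] [GrpObj H] [IsCommMonObj H]
    [IsAffine G.left] [IsAffine H.left] [LocallyOfFiniteType G.hom] [LocallyOfFiniteType H.hom]
    (ψ : G ⟶ H) [IsMonHom ψ]
    (hinj : ∀ (I : Over (Spec (CommRingCat.of k))) [GrpObj I] [IsCommMonObj I] [IsFinite I.hom]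
      (f g : I ⟶ G) [IsMonHom f] [IsMonHom g], f ≫ ψ = g ≫ ψ → f = g)
    (hsurj : ∀ (I : Over (Spec (CommRingCat.of k))) [GrpObj I] [IsCommMonObj I] [IsFinite I.hom]
      (h : I ⟶ H) [IsMonHom h], ∃ f : I ⟶ G, IsMonHom f ∧ f ≫ ψ = h)
    (hpts : Function.Bijective fun x : Over.mk (Spec.map (CommRingCat.ofHom (algebraMap k K))) ⟶ G => x ≫ ψ) :
    IsIso ψ := by
  haveI : CompactSpace H.left := inferInstance
  obtain ⟨A, _, _, eH, _, _⟩ := HopfQuot.exists_spec (k := k) H
  obtain ⟨B, _, _, eG, _, _⟩ := HopfQuot.exists_spec (k := k) G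
  haveI : IsMonHom (CategoryTheory.inv eH) := inferInstanceAs (IsMonHom (asIso eH).inv)
  haveI : IsMonHom (CategoryTheory.inv eG) := inferInstanceAs (IsMonHom (asIso eG).inv)
  obtain ⟨f, hf⟩ := HopfQuot.exists_specHom (k := k) (A := A) (B := B) (eG ≫ ψ ≫ CategoryTheory.inv eH)
  have hfe : specHom f ≫ eH = eG ≫ ψ := by rw [hf]; simp
  have hft : ∀ (C : Type u) [CommRing C] [HopfAlgebra k C] (X : Over (Spec (CommRingCat.of k)))
      [LocallyOfFiniteType X.hom] (e : spec (k := k) C ⟶ X) [IsIso e], Algebra.FiniteType k C := by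
    intro C _ _ X _ e _
    haveI : IsIso e.left := inferInstanceAs (IsIso ((Over.forget _).map e))
    haveI : LocallyOfFiniteType (spec (k := k) C).hom := by rw [← Over.w e]; infer_instance
    exact RingHom.finiteType_algebraMap.1 ((HasRingHomProperty.Spec_iff (P := @LocallyOfFiniteType)
      (φ := CommRingCat.ofHom (algebraMap k C))).1 ‹LocallyOfFiniteType (spec (k := k) C).hom›)
  haveI := hft A H eH
  haveI := hft B G eG
  haveI : IsNoetherianRing A := Algebra.FiniteType.isNoetherianRing k A
  have hfin : ∀ (C : Type u) [CommRing C] [HopfAlgebra k C] [Module.Finite k C],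
      IsFinite (spec (k := k) C).hom := fun C _ _ _ =>
    (IsFinite.SpecMap_iff _).2 (RingHom.finite_algebraMap.2 inferInstance)
  have hpre : ∀ (R : Type u) [CommRing R] [Algebra k R] (g : Pt k B R),
      ptSpec (pre f R g) ≫ eH = (ptSpec g ≫ eG) ≫ ψ := fun R _ _ g => by
    rw [Category.assoc, ← hfe, ← Category.assoc]
    exact congrArg (· ≫ eH) (HopfQuot.ptSpec_comp f g).symm
  have hclosed : ∀ {C D : Type u} [CommRing C] [HopfAlgebra k C] [CommRing D] [HopfAlgebra k D]
      (π : D →ₐc[k] C), Function.Surjective π → Mono (specHom π) := fun π hπ => by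
    haveI : IsClosedImmersion (specHom π).left := by
      rw [HopfQuot.specHom_left]; exact IsClosedImmersion.spec_of_surjective _ hπ
    exact Over.mono_of_mono_left _
  have hptc : ∀ {C D : Type u} [CommRing C] [HopfAlgebra k C] [CommRing D] [HopfAlgebra k D] (π : D →ₐc[k] C),
      ptSpec (toConv (π : D →ₐ[k] C)) = specHom π := fun π => rfl
  have hK : Function.Bijective (pre f K) := by
    constructor
    · intro g g' h
      apply (ptSpec (k := k)).injective
      rw [← cancel_mono eG]
      exact hpts.1 (show (ptSpec g ≫ eG) ≫ ψ = (ptSpec g' ≫ eG) ≫ ψ by rw [← hpre, ← hpre, h])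
    · intro x
      obtain ⟨y, hy⟩ := hpts.2 (ptSpec x ≫ eH)
      obtain ⟨g, hg⟩ := (ptSpec (k := k) (A := B) (T := K)).surjective (y ≫ CategoryTheory.inv eG)
      refine ⟨g, (ptSpec (k := k)).injective ?_⟩
      rw [← cancel_mono eH, hpre, hg, Category.assoc, Category.assoc, IsIso.inv_hom_id_assoc]
      exact hy
  have hinj' : ∀ (R : Type u) [CommRing R] [Algebra k R], Function.Injective (pre f R) := fun R _ _ =>
    pre_injective (K := K) f hK.1 (fun C _ _ _ π hπ h1 => by
      haveI := hclosed π hπ
      haveI := hfin C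
      let u : spec (k := k) C ⟶ G := specHom π ≫ eG
      haveI : IsCommMonObj (spec (k := k) C) := isCommMonObj_spec_quot C u
      have h2 : u ≫ ψ = (1 : spec (k := k) C ⟶ H) := by
        rw [show u = ptSpec (toConv (π : B →ₐ[k] C)) ≫ eG from rfl, ← hpre, h1, map_one, MonObj.one_comp]
      haveI : IsMonHom (1 : spec (k := k) C ⟶ G) :=
        { one_hom := by
            rw [Hom.one_def, ← Category.assoc, toUnit_unique (η[spec (k := k) C] ≫ toUnit _) (𝟙 _), Category.id_comp]
          mul_hom := by
            rw [MonObj.comp_one, show ((1 : spec (k := k) C ⟶ G) ⊗ₘ (1 : spec (k := k) C ⟶ G)) =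
              CartesianMonoidalCategory.lift (1 : _ ⟶ G) (1 : _ ⟶ G) from
                CartesianMonoidalCategory.hom_ext _ _ (by simp [MonObj.comp_one]) (by simp [MonObj.comp_one]),
              ← Hom.mul_def, _root_.mul_one] }
      have h3 := hinj (spec (k := k) C) u 1 (h2.trans (MonObj.one_comp ψ).symm)
      apply (ptSpec (k := k)).injective
      rw [← cancel_mono eG, map_one, MonObj.one_comp]
      exact h3) R
  have hfi : Function.Injective f := injective_of_points (K := K) f hK.2 fun C _ _ _ π hπ => by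
    haveI := hclosed π hπ
    haveI := hfin C
    let u : spec (k := k) C ⟶ H := specHom π ≫ eH
    haveI : IsCommMonObj (spec (k := k) C) := isCommMonObj_spec_quot C u
    obtain ⟨v, _, hv⟩ := hsurj (spec (k := k) C) u
    obtain ⟨g, hg⟩ := (ptSpec (k := k) (A := B) (T := C)).surjective (v ≫ CategoryTheory.inv eG)
    refine ⟨g, (ptSpec (k := k)).injective ?_⟩
    rw [← cancel_mono eH, hpre, hg, Category.assoc, Category.assoc, IsIso.inv_hom_id_assoc]
    exact hv
  haveI : Epi (CommRingCat.ofHom (f : A →+* B)) := ⟨fun {R} g h e => by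
    have e' := congrArg CommRingCat.Hom.hom e
    letI : Algebra k R := (g.hom.comp (algebraMap k B)).toAlgebra
    let g' : B →ₐ[k] R := ⟨g.hom, fun c => rfl⟩
    let h' : B →ₐ[k] R := ⟨h.hom, fun c => by
      show h.hom (algebraMap k B c) = g.hom (algebraMap k B c)
      rw [← (f : A →ₐ[k] B).commutes c]
      exact (RingHom.congr_fun e' _).symm⟩
    have := hinj' R (a₁ := toConv g') (a₂ := toConv h')
      (WithConv.ext (AlgHom.ext fun a => RingHom.congr_fun e' a))
    exact CommRingCat.hom_ext (RingHom.ext fun b => congrArg (fun q : Pt k B R => q.ofConv b) this)⟩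
  haveI : Mono (specHom f).left := by
    rw [HopfQuot.specHom_left]
    exact inferInstanceAs (Mono (Scheme.Spec.map (CommRingCat.ofHom (f : A →+* B)).op))
  have hff := Groth.Agent.HopfLib.faithfullyFlat_of_injective f hfi
  haveI : Flat (specHom f).left := by
    rw [HopfQuot.specHom_left]; exact (HasRingHomProperty.Spec_iff (P := @Flat)).2 hff.flat
  haveI : Surjective (specHom f).left := by
    rw [HopfQuot.specHom_left]; exact ⟨(RingHom.FaithfullyFlat.iff_flat_and_comap_surjective.1 hff).2⟩
  haveI : IsNoetherianRing A := Algebra.FiniteType.isNoetherianRing k A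
  haveI : LocallyOfFiniteType (specHom f).left := by
    haveI : LocallyOfFiniteType ((specHom f).left ≫ (spec (k := k) A).hom) := by
      rw [Over.w]; exact locallyOfFiniteType_specOverSpec (R := CommRingCat.of k) (A := CommRingCat.of B)
    exact locallyOfFiniteType_of_comp _ (spec (k := k) A).hom
  haveI : IsLocallyNoetherian (spec (k := k) A).left :=
    inferInstanceAs (IsLocallyNoetherian (Spec (CommRingCat.of A)))
  haveI : LocallyOfFinitePresentation (specHom f).left := inferInstance
  haveI : IsOpenImmersion (specHom f).left := IsOpenImmersion.of_flat_of_mono _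
  haveI : IsIso (specHom f).left := isIso_iff_isOpenImmersion_and_epi_base _ |>.2
    ⟨inferInstance, (TopCat.epi_iff_surjective _).2 (Surjective.surj)⟩
  haveI : IsIso ((Over.forget _).map (specHom f)) := ‹IsIso (specHom f).left›
  haveI : IsIso (specHom f) := isIso_of_reflects_iso _ (Over.forget _)
  rw [show ψ = CategoryTheory.inv eG ≫ specHom f ≫ eH by rw [hfe]; simp]
  infer_instance


end Groth.Agent.S13633
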