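import Groth.Statements.S13634
import Mathlib.CategoryTheory.Sites.EpiMono
-- import your own Groth.Agent.* helpers here

set_option autoImplicit false
universe u
open CategoryTheory CategoryTheory.Limits MonoidalCategory CartesianMonoidalCategory MonObj AlgebraicGeometry
open MultSch

namespace Groth.Agent.S13634

theorem tuple_comp {S : Scheme.{u}} {M T T' : Over S} (f : T' ⟶ T) : ∀ {n : ℕ} (x : Fin n → (T ⟶ M)),
    f ≫ MultSch.tuple x = MultSch.tuple fun l => f ≫ x l := by
  intro n
  induction n with
  | zero => intro x; exact toUnit_unique _ _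
  | succ n ih => intro x; exact (CartesianMonoidalCategory.comp_lift f _ _).trans (congrArg (lift (f ≫ x 0)) (ih _))

/-- Let π : M → M'' be a homomorphism of commutative group schemes over a scheme S which is an
epimorphism of fppf sheaves, H a commutative group scheme over S and φ : (M'')^r → H a multilinear
morphism. If the composite of φ with π^r : M^r → (M'')^r is alternating, then φ is alternating. (The
published statement is for module schemes over a ring R and an R-multilinear φ; the ring action
plays no role, so this row states it for commutative group schemes, which contains that case.) -/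
theorem result
    {S : Scheme.{u}} {M M'' H : Over S}
    [GrpObj M] [IsCommMonObj M] [GrpObj M''] [IsCommMonObj M''] [GrpObj H] [IsCommMonObj H]
    (π : M ⟶ M'') [IsMonHom π] (hπ : Epi (CGrpSh.ptsMap Scheme.fppfPrecoverage π))
    {r : ℕ} (φ : MultSch.pow M'' r ⟶ H) (hφ : MultSch.IsMultilinear φ)
    (halt : ∀ (T : Over S) (x : Fin r → (T ⟶ M)) (i j : Fin r), i ≠ j → x i = x j →
      MultSch.tuple (fun l => x l ≫ π) ≫ φ = 1) :
    MultSch.IsAlternating φ := by
  classical
  intro T y i j hij hy
  haveI := hπ
  haveI : Sheaf.IsLocallySurjective (CGrpSh.ptsMap Scheme.fppfPrecoverage π) :=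
    (Sheaf.isLocallySurjective_iff_epi' (A := AddCommGrpCat.{u + 1}) _).2 inferInstance
  have hmem := fun l => Presheaf.imageSieve_mem (QuotSh.J Scheme.fppfPrecoverage S)
    (CGrpSh.ptsMap Scheme.fppfPrecoverage π).hom (U := Opposite.op T) (ULift.up (Additive.ofMul (y l)))
  set s := fun l => Presheaf.imageSieve (CGrpSh.ptsMap Scheme.fppfPrecoverage π).hom
    (U := T) (ULift.up (Additive.ofMul (y l)) : ((CGrpSh.pts Scheme.fppfPrecoverage M'').obj.obj (Opposite.op T))) with hs
  have hinf : Finset.univ.inf s ∈ QuotSh.J Scheme.fppfPrecoverage S T :=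
    Finset.inf_induction ((QuotSh.J Scheme.fppfPrecoverage S).top_mem T)
      (fun _ ha _ hb => (QuotSh.J Scheme.fppfPrecoverage S).intersection_covering ha hb) fun l _ => hmem l
  have hsep : Presieve.IsSeparated (QuotSh.J Scheme.fppfPrecoverage S) (yoneda.obj H) :=
    (GrothendieckTopology.Subcanonical.isSheaf_of_isRepresentable (yoneda.obj H)).isSeparated
  refine (hsep _ hinf).ext fun T' f hf => ?_
  show f ≫ MultSch.tuple y ≫ φ = f ≫ 1
  have hlift : ∀ l, ∃ x : T' ⟶ M, x ≫ π = f ≫ y l := fun l => by
    obtain ⟨t, ht⟩ := (Finset.inf_le (f := s) (Finset.mem_univ l)) _ hf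
    exact ⟨t.down.toMul, congrArg (fun z => z.down.toMul) ht⟩
  choose x hx using hlift
  have key := halt T' (Function.update x j (x i)) i j hij (by simp [Function.update_of_ne hij])
  rw [← Category.assoc, tuple_comp, MonObj.comp_one]
  convert key using 3
  funext l
  rcases eq_or_ne l j with rfl | hl
  · simp [hx, hy]
  · simp [Function.update_of_ne hl, hx]

end Groth.Agent.S13634
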