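import Groth.Statements.S13635
import Groth.Agent.CommAlg4.PtsLocal
-- import your own Groth.Agent.* helpers here

set_option autoImplicit false
universe u w
open CategoryTheory CategoryTheory.Limits MonoidalCategory CartesianMonoidalCategory MonObj AlgebraicGeometry
open MultSch

namespace Groth.Agent.S13635

open Groth.Agent.CommAlg4.PtsLocal

noncomputable def proj {S : Scheme.{u}} (M : Over S) : {n : ℕ} → Fin n → (MultSch.pow M n ⟶ M)
  | 0, i => i.elim0
  | _ + 1, i => Fin.cases (fst _ _) (fun j => snd _ _ ≫ proj M j) i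

theorem tuple_proj {S : Scheme.{u}} {M T : Over S} : ∀ {n : ℕ} (x : Fin n → (T ⟶ M)) (i : Fin n),
    MultSch.tuple x ≫ proj M i = x i := by
  intro n
  induction n with
  | zero => intro x i; exact i.elim0
  | succ n ih =>
    intro x i
    induction i using Fin.cases with
    | zero => exact lift_fst _ _
    | succ j =>
      show lift (x 0) (MultSch.tuple fun i => x i.succ) ≫ snd _ _ ≫ proj M j = _
      rw [lift_snd_assoc]
      exact ih _ j

theorem tuple_comp {S : Scheme.{u}} {M T T' : Over S} (f : T' ⟶ T) : ∀ {n : ℕ} (x : Fin n → (T ⟶ M)),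
    f ≫ MultSch.tuple x = MultSch.tuple fun l => f ≫ x l := by
  intro n
  induction n with
  | zero => intro x; exact toUnit_unique _ _
  | succ n ih =>
    intro x
    exact (CartesianMonoidalCategory.comp_lift f _ _).trans (congrArg (lift (f ≫ x 0)) (ih _))

theorem tuple_proj_id {S : Scheme.{u}} (M : Over S) : ∀ n : ℕ,
    MultSch.tuple (fun i => proj M i) = 𝟙 (MultSch.pow M n) := by
  intro n
  induction n with
  | zero => exact toUnit_unique _ _
  | succ n ih =>
    show lift (fst _ _) (MultSch.tuple fun i => snd _ _ ≫ proj M i) = _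
    rw [← tuple_comp, ih, Category.comp_id]
    exact lift_fst_snd

theorem finset_inf_mem {C : Type*} [Category C] (J : GrothendieckTopology C) {X : C} {A : Type*}
    (t : Finset A) (s : A → Sieve X) (h : ∀ l ∈ t, s l ∈ J X) : t.inf s ∈ J X :=
  Finset.inf_induction (J.top_mem X) (fun _ ha _ hb => J.intersection_covering ha hb) h

section
variable {S : Scheme.{u}} {M₁ M₂ M₃ N : Over S}
    [GrpObj M₁] [IsCommMonObj M₁] [GrpObj M₂] [IsCommMonObj M₂] [GrpObj M₃] [IsCommMonObj M₃]
    [GrpObj N] [IsCommMonObj N]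

theorem slot_vanish {n : ℕ} (hn : 1 ≤ n) (j : M₁ ⟶ M₂) (φ : MultSch.pow M₂ n ⟶ N)
    (hmult : MultSch.IsMultilinear φ) (halt : MultSch.IsAlternating φ)
    (hvan : ∀ (T : Over S) (y : T ⟶ M₁) (x : Fin n → (T ⟶ M₂)), x ⟨0, hn⟩ = y ≫ j →
      MultSch.tuple x ≫ φ = 1) {T : Over S} (y : T ⟶ M₁) (x : Fin n → (T ⟶ M₂)) (i : Fin n) (hi : x i = y ≫ j) :
    MultSch.tuple x ≫ φ = 1 := by
  classical
  let o : Fin n := ⟨0, hn⟩
  rcases eq_or_ne i o with rfl | hne
  · exact hvan T y x hi
  let F := fun a b => MultSch.tuple (Function.update (Function.update x i a) o b) ≫ φ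
  have hF1 : ∀ a a' b, F (a * a') b = F a b * F a' b := fun a a' b => by
    simp only [F, Function.update_comm hne]
    exact hmult T _ i a a'
  have hF2 : ∀ a b b', F a (b * b') = F a b * F a b' := fun a b b' => hmult T _ o b b'
  have hFd : ∀ a, F a a = 1 := fun a => halt T _ i o hne (by simp [Function.update_of_ne hne])
  have hz : F (x o) (y ≫ j) = 1 := hvan T y _ (Function.update_self _ _ _)
  have h2 := hFd (x i * x o)
  rw [hF1, hF2, hF2, hFd, hFd, _root_.one_mul, _root_.mul_one, hi, hz, _root_.mul_one] at h2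
  simpa [F, ← hi] using h2

theorem indep {n : ℕ} (hn : 1 ≤ n) (j : M₁ ⟶ M₂) (π : M₂ ⟶ M₃) [IsMonHom j] [IsMonHom π]
    (w : j ≫ π = 1) (hex : (CGrpSh.seq Scheme.fppfPrecoverage j π w).Exact) (φ : MultSch.pow M₂ n ⟶ N)
    (hmult : MultSch.IsMultilinear φ) (halt : MultSch.IsAlternating φ)
    (hvan : ∀ (T : Over S) (y : T ⟶ M₁) (x : Fin n → (T ⟶ M₂)), x ⟨0, hn⟩ = y ≫ j →
      MultSch.tuple x ≫ φ = 1) {T : Over S} (x x' : Fin n → (T ⟶ M₂)) (h : ∀ i, x i ≫ π = x' i ≫ π) :
    MultSch.tuple x ≫ φ = MultSch.tuple x' ≫ φ := by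
  classical
  suffices ∀ t : Finset (Fin n), MultSch.tuple (t.piecewise x' x) ≫ φ = MultSch.tuple x ≫ φ by
    rw [← this Finset.univ, Finset.piecewise_univ]
  intro t
  induction t using Finset.induction with
  | empty => simp
  | insert i t hit ih =>
    rw [← ih, Finset.piecewise_insert]
    set z := t.piecewise x' x with hz
    have hzi : z i = x i := by simp [hz, hit]
    have hk : ((z i)⁻¹ * x' i) ≫ π = 1 := by
      rw [MonObj.mul_comp, GrpObj.inv_comp, hzi, h, inv_mul_cancel]
    refine hom_ext (kerSieve_mem j π w hex _ hk) fun T' f hf => ?_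
    obtain ⟨y', hy'⟩ := hf
    have hfi : f ≫ x' i = (f ≫ z i) * (y' ≫ j) := by
      rw [hy', MonObj.comp_mul, GrpObj.comp_inv, mul_inv_cancel_left]
    have e : ∀ a, (fun l => f ≫ Function.update z i a l) = Function.update (fun l => f ≫ z l) i (f ≫ a) := fun a =>
      funext fun l => by by_cases hl : l = i <;> simp [hl]
    rw [← Category.assoc, ← Category.assoc, tuple_comp, tuple_comp, e, hfi, hmult, Function.update_eq_self,
      slot_vanish hn j φ hmult halt hvan y' _ i (Function.update_self _ _ _), _root_.mul_one]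

end

/-- Let M₁ → M₂ → M₃ → 0 be a sequence of R-module schemes over a scheme S, with R-linear homomorphisms
j : M₁ → M₂ and π : M₂ → M₃, exact as a sequence of fppf sheaves. For n ≥ 1 and an R-module scheme
N, the sequence 0 → Alt(M₃^n, N) → Alt(M₂^n, N) → Alt(M₁ × M₂^(n-1), N) of R-multilinear alternating
morphisms is exact: an R-multilinear alternating φ : M₂^n → N which is trivial on all points with
first coordinate in the image of j is of the form φ' ∘ π^n for a unique morphism φ' : M₃^n → N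
(unique among all morphisms), and this φ' is R-multilinear and alternating. -/
theorem result
    {S : Scheme.{u}} {R : Type w} [CommRing R] {M₁ M₂ M₃ N : Over S}
    [GrpObj M₁] [IsCommMonObj M₁] [GrpObj M₂] [IsCommMonObj M₂] [GrpObj M₃] [IsCommMonObj M₃]
    [GrpObj N] [IsCommMonObj N]
    (ρ₁ : MultSch.RMod R M₁) (ρ₂ : MultSch.RMod R M₂) (ρ₃ : MultSch.RMod R M₃) (ρN : MultSch.RMod R N)
    (j : M₁ ⟶ M₂) (π : M₂ ⟶ M₃) [IsMonHom j] [IsMonHom π]
    (hj : ∀ a : R, j ≫ ρ₂.act a = ρ₁.act a ≫ j) (hπ : ∀ a : R, π ≫ ρ₃.act a = ρ₂.act a ≫ π)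
    (w : j ≫ π = 1) (hex : (CGrpSh.seq Scheme.fppfPrecoverage j π w).Exact)
    (hepi : Epi (CGrpSh.ptsMap Scheme.fppfPrecoverage π))
    {n : ℕ} (hn : 1 ≤ n) (φ : MultSch.pow M₂ n ⟶ N)
    (hmult : MultSch.IsMultilinear φ) (hlin : MultSch.IsRLinear ρ₂ ρN φ) (halt : MultSch.IsAlternating φ)
    (hvan : ∀ (T : Over S) (y : T ⟶ M₁) (x : Fin n → (T ⟶ M₂)), x ⟨0, hn⟩ = y ≫ j →
      MultSch.tuple x ≫ φ = 1) :
    ∃ φ' : MultSch.pow M₃ n ⟶ N,
      (∀ (T : Over S) (x : Fin n → (T ⟶ M₂)), MultSch.tuple x ≫ φ = MultSch.tuple (fun l => x l ≫ π) ≫ φ') ∧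
      MultSch.IsMultilinear φ' ∧ MultSch.IsRLinear ρ₃ ρN φ' ∧ MultSch.IsAlternating φ' ∧
      ∀ φ'' : MultSch.pow M₃ n ⟶ N,
        (∀ (T : Over S) (x : Fin n → (T ⟶ M₂)), MultSch.tuple x ≫ φ = MultSch.tuple (fun l => x l ≫ π) ≫ φ'') →
          φ'' = φ' := by
  classical
  let T0 := MultSch.pow M₃ n
  have hind := fun {T : Over S} => indep (T := T) hn j π w hex φ hmult halt hvan
  let J := QuotSh.J Scheme.fppfPrecoverage S
  have hs : Finset.univ.inf (fun l => liftSieve π (proj M₃ l : T0 ⟶ M₃)) ∈ QuotSh.J Scheme.fppfPrecoverage S T0 :=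
    finset_inf_mem _ _ _ fun l _ => liftSieve_mem π hepi _
  have hall : ∀ {T T' : Over S} {s : Fin n → Sieve T} {f : T' ⟶ T}, (Finset.univ.inf s) f → ∀ l, (s l) f :=
    fun {T T' s f} hf l => (Finset.inf_le (f := s) (Finset.mem_univ l)) _ hf
  obtain ⟨φ', hφ'⟩ := exists_glue (N := N) hs (fun T' f hf => MultSch.tuple (fun l => (hall hf l).choose) ≫ φ)
    (fun T' T'' f g hf => by
      rw [← Category.assoc, tuple_comp]
      exact hind _ _ fun l => (Category.assoc _ _ _).trans ((congrArg (g ≫ ·) (hall hf l).choose_spec).trans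
        ((Category.assoc _ _ _).symm.trans (hall (Sieve.downward_closed _ hf g) l).choose_spec.symm)))
  have key : ∀ (T : Over S) (x : Fin n → (T ⟶ M₂)),
      MultSch.tuple x ≫ φ = MultSch.tuple (fun l => x l ≫ π) ≫ φ' := by
    intro T x
    have hmem : (Finset.univ.inf fun l => liftSieve π (proj M₃ l : T0 ⟶ M₃)) (MultSch.tuple fun l => x l ≫ π) := by
      have hi : ∀ t : Finset (Fin n),
          (t.inf fun l => liftSieve π (proj M₃ l : T0 ⟶ M₃)) (MultSch.tuple fun l => x l ≫ π) := by
        intro t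
        induction t using Finset.induction with
        | empty => trivial
        | insert a t _ ih => rw [Finset.inf_insert]; exact ⟨⟨x a, (tuple_proj (fun l => x l ≫ π) a).symm⟩, ih⟩
      exact hi _
    rw [hφ' _ hmem]
    exact hind _ _ fun l => ((tuple_proj _ l).symm.trans (hall hmem l).choose_spec.symm)
  have hloc : ∀ (T : Over S) (y : Fin n → (T ⟶ M₃)), Finset.univ.inf (fun l => liftSieve π (y l)) ∈
      QuotSh.J Scheme.fppfPrecoverage S T := fun T y => finset_inf_mem _ _ _ fun l _ => liftSieve_mem π hepi _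
  refine ⟨φ', key, ?_, ?_, ?_, ?_⟩
  · intro T x i y z
    refine hom_ext ((QuotSh.J Scheme.fppfPrecoverage S).intersection_covering (hloc T x)
      ((QuotSh.J Scheme.fppfPrecoverage S).intersection_covering (liftSieve_mem π hepi y) (liftSieve_mem π hepi z)))
      fun T' f hf => ?_
    obtain ⟨hx, ⟨⟨a, ha⟩, ⟨b, hb⟩⟩⟩ := hf
    choose xl hxl using hall hx
    have e : ∀ (c : T' ⟶ M₂) (v : T ⟶ M₃), c ≫ π = f ≫ v →
        f ≫ MultSch.tuple (Function.update x i v) ≫ φ' = MultSch.tuple (Function.update xl i c) ≫ φ := by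
      intro c v hc
      rw [key, ← Category.assoc, tuple_comp]
      congr 2
      funext l
      by_cases hl : l = i <;> simp [hl, hc, hxl]
    rw [MonObj.comp_mul, e a y ha, e b z hb, e (a * b) (y * z) (by rw [MonObj.mul_comp, ha, hb, MonObj.comp_mul])]
    exact hmult T' xl i a b
  · intro T x i a
    refine hom_ext (hloc T x) fun T' f hf => ?_
    choose xl hxl using hall hf
    rw [← Category.assoc, tuple_comp, ← Category.assoc, ← Category.assoc, tuple_comp]
    have e1 : (fun l => f ≫ Function.update x i (x i ≫ ρ₃.act a) l) =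
        fun l => Function.update xl i (xl i ≫ ρ₂.act a) l ≫ π := by
      funext l
      by_cases hl : l = i
      · subst hl
        simp [← hπ, reassoc_of% (hxl l)]
      · simp [hl, hxl]
    have e2 : (fun l => f ≫ x l) = fun l => xl l ≫ π := funext fun l => (hxl l).symm
    rw [e1, e2, ← key, ← key]
    exact hlin T' xl i a
  · intro T x i i' hne heq
    refine hom_ext (hloc T x) fun T' f hf => ?_
    choose xl hxl using hall hf
    have e2 : (fun l => f ≫ x l) = fun l => Function.update xl i' (xl i) l ≫ π := by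
      funext l
      by_cases hl : l = i'
      · subst hl; simp [hxl, heq]
      · simp [hl, hxl]
    rw [← Category.assoc, tuple_comp, MonObj.comp_one, e2, ← key]
    exact halt T' _ i i' hne (by simp [Function.update_of_ne hne])
  · intro φ'' h''
    refine hom_ext hs fun T' f hf => ?_
    rw [hφ' f hf, h'']
    congr 1
    refine (Category.comp_id f).symm.trans ?_
    rw [← tuple_proj_id, tuple_comp]
    exact congrArg MultSch.tuple (funext fun l => (hall hf l).choose_spec.symm)

end Groth.Agent.S13635
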