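import Groth.Statements.S13636
import Groth.Agent.CommAlg4.PtsLocal
-- import your own Groth.Agent.* helpers here

set_option autoImplicit false
universe u w
open CategoryTheory CategoryTheory.Limits MonoidalCategory CartesianMonoidalCategory MonObj AlgebraicGeometry
open MultSch

namespace Groth.Agent.S13636

open Groth.Agent.CommAlg4.PtsLocal

theorem lift3_eq {S : Scheme.{u}} {P Q M M'' : Over S} (π : M ⟶ M'') {T : Over S}
    (p : T ⟶ P) (x : T ⟶ M) (q : T ⟶ Q) :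
    lift p (lift x q) ≫ (P ◁ (π ▷ Q)) = lift p (lift (x ≫ π) q) := by
  rw [lift_whiskerLeft, lift_whiskerRight]

theorem indep {S : Scheme.{u}} {P Q M' M M'' N : Over S}
    [GrpObj M'] [IsCommMonObj M'] [GrpObj M] [IsCommMonObj M] [GrpObj M''] [IsCommMonObj M'']
    [GrpObj N] [IsCommMonObj N]
    (j : M' ⟶ M) (π : M ⟶ M'') [IsMonHom j] [IsMonHom π]
    (w : j ≫ π = 1) (hex : (CGrpSh.seq Scheme.fppfPrecoverage j π w).Exact)
    (ψ : P ⊗ (M ⊗ Q) ⟶ N)
    (hadd : ∀ (T : Over S) (p : T ⟶ P) (q : T ⟶ Q) (y z : T ⟶ M),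
      lift p (lift (y * z) q) ≫ ψ = (lift p (lift y q) ≫ ψ) * (lift p (lift z q) ≫ ψ))
    (hvan : ∀ (T : Over S) (p : T ⟶ P) (q : T ⟶ Q) (y' : T ⟶ M'), lift p (lift (y' ≫ j) q) ≫ ψ = 1)
    {T : Over S} (p : T ⟶ P) (q : T ⟶ Q) (x x' : T ⟶ M) (h : x ≫ π = x' ≫ π) :
    lift p (lift x q) ≫ ψ = lift p (lift x' q) ≫ ψ := by
  have hk : (x⁻¹ * x') ≫ π = 1 := by
    rw [MonObj.mul_comp, GrpObj.inv_comp, h, inv_mul_cancel]
  refine hom_ext (kerSieve_mem j π w hex _ hk) fun T' f hf => ?_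
  obtain ⟨y', hy'⟩ := hf
  have hx' : f ≫ x' = (f ≫ x) * (y' ≫ j) := by
    rw [hy', MonObj.comp_mul, GrpObj.comp_inv, mul_inv_cancel_left]
  rw [← Category.assoc, ← Category.assoc, comp_lift, comp_lift, comp_lift, comp_lift, hx', hadd, hvan, _root_.mul_one]

/-- Let M' → M → M'' → 0 be a sequence of R-module schemes over a scheme S, with R-linear homomorphisms
j and π, exact as fppf sheaves, and let ψ : P × M × Q → N be a morphism to an R-module scheme N
which is additive and R-linear in the coordinate M (on T-valued points) and trivial on all points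
whose M-coordinate lies in the image of j. Then ψ = ψ' ∘ (id × π × id) for a unique morphism ψ' : P
× M'' × Q → N, and ψ' is additive and R-linear in the coordinate M''. (The published statement has a
product M₁ × ⋯ × M_r of R-module schemes with the exact sequence in the i-th factor and ψ
R-multilinear; here the factors before and after the i-th are collected into single S-schemes P and
Q, and only linearity in the i-th coordinate, the one the statement is about, is carried; linearity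
in the other coordinates passes between ψ and ψ' formally.) -/
theorem result
    {S : Scheme.{u}} {R : Type w} [CommRing R] {P Q M' M M'' N : Over S}
    [GrpObj M'] [IsCommMonObj M'] [GrpObj M] [IsCommMonObj M] [GrpObj M''] [IsCommMonObj M'']
    [GrpObj N] [IsCommMonObj N]
    (ρ' : MultSch.RMod R M') (ρ : MultSch.RMod R M) (ρ'' : MultSch.RMod R M'') (ρN : MultSch.RMod R N)
    (j : M' ⟶ M) (π : M ⟶ M'') [IsMonHom j] [IsMonHom π]
    (hj : ∀ a : R, j ≫ ρ.act a = ρ'.act a ≫ j) (hπ : ∀ a : R, π ≫ ρ''.act a = ρ.act a ≫ π)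
    (w : j ≫ π = 1) (hex : (CGrpSh.seq Scheme.fppfPrecoverage j π w).Exact)
    (hepi : Epi (CGrpSh.ptsMap Scheme.fppfPrecoverage π))
    (ψ : P ⊗ (M ⊗ Q) ⟶ N)
    (hadd : ∀ (T : Over S) (p : T ⟶ P) (q : T ⟶ Q) (y z : T ⟶ M),
      lift p (lift (y * z) q) ≫ ψ = (lift p (lift y q) ≫ ψ) * (lift p (lift z q) ≫ ψ))
    (hlin : ∀ (T : Over S) (p : T ⟶ P) (q : T ⟶ Q) (y : T ⟶ M) (a : R),
      lift p (lift (y ≫ ρ.act a) q) ≫ ψ = (lift p (lift y q) ≫ ψ) ≫ ρN.act a)
    (hvan : ∀ (T : Over S) (p : T ⟶ P) (q : T ⟶ Q) (y' : T ⟶ M'), lift p (lift (y' ≫ j) q) ≫ ψ = 1) :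
    ∃ ψ' : P ⊗ (M'' ⊗ Q) ⟶ N,
      (P ◁ (π ▷ Q)) ≫ ψ' = ψ ∧
      (∀ (T : Over S) (p : T ⟶ P) (q : T ⟶ Q) (y z : T ⟶ M''),
        lift p (lift (y * z) q) ≫ ψ' = (lift p (lift y q) ≫ ψ') * (lift p (lift z q) ≫ ψ')) ∧
      (∀ (T : Over S) (p : T ⟶ P) (q : T ⟶ Q) (y : T ⟶ M'') (a : R),
        lift p (lift (y ≫ ρ''.act a) q) ≫ ψ' = (lift p (lift y q) ≫ ψ') ≫ ρN.act a) ∧
      ∀ ψ'' : P ⊗ (M'' ⊗ Q) ⟶ N, (P ◁ (π ▷ Q)) ≫ ψ'' = ψ → ψ'' = ψ' := by
  classical
  let T0 := P ⊗ (M'' ⊗ Q)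
  let p0 : T0 ⟶ P := fst _ _
  let y0 : T0 ⟶ M'' := snd _ _ ≫ fst _ _
  let q0 : T0 ⟶ Q := snd _ _ ≫ snd _ _
  have h0 : lift p0 (lift y0 q0) = 𝟙 T0 := by
    apply CartesianMonoidalCategory.hom_ext
    · simp [p0, T0]
    · apply CartesianMonoidalCategory.hom_ext <;> simp [y0, q0, T0]
  have hind := fun {T : Over S} => indep (T := T) j π w hex ψ hadd hvan
  have hs := liftSieve_mem π hepi y0
  obtain ⟨ψ', hψ'⟩ := exists_glue (N := N) hs (fun T' f hf => lift (f ≫ p0) (lift hf.choose (f ≫ q0)) ≫ ψ)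
    (fun T' T'' f g hf => by
      rw [← Category.assoc, comp_lift, comp_lift]
      simp only [Category.assoc]
      exact hind _ _ _ _ ((Category.assoc _ _ _).trans ((congrArg (g ≫ ·) hf.choose_spec).trans
        ((Category.assoc _ _ _).symm.trans ((liftSieve π y0).downward_closed hf g).choose_spec.symm))))
  have key : ∀ (T : Over S) (p : T ⟶ P) (q : T ⟶ Q) (x : T ⟶ M),
      lift p (lift (x ≫ π) q) ≫ ψ' = lift p (lift x q) ≫ ψ := by
    intro T p q x
    have hmem : (liftSieve π y0) (lift p (lift (x ≫ π) q)) := ⟨x, by simp [y0, T0]⟩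
    rw [hψ' _ hmem]
    have e1 : lift p (lift (x ≫ π) q) ≫ p0 = p := by simp [p0, T0]
    have e2 : lift p (lift (x ≫ π) q) ≫ q0 = q := by simp [q0, T0]
    rw [e1, e2]
    refine hind _ _ _ _ ?_
    rw [hmem.choose_spec]
    simp [y0, T0]
  refine ⟨ψ', ?_, ?_, ?_, ?_⟩
  · have h1 : lift (fst P (M ⊗ Q)) (lift (snd P (M ⊗ Q) ≫ fst M Q) (snd P (M ⊗ Q) ≫ snd M Q)) = 𝟙 _ := by
      apply CartesianMonoidalCategory.hom_ext
      · simp
      · apply CartesianMonoidalCategory.hom_ext <;> simp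
    calc (P ◁ (π ▷ Q)) ≫ ψ' = (lift (fst P (M ⊗ Q)) (lift (snd P (M ⊗ Q) ≫ fst M Q) (snd P (M ⊗ Q) ≫ snd M Q)) ≫
          (P ◁ (π ▷ Q))) ≫ ψ' := by rw [h1, Category.id_comp]
      _ = ψ := by rw [lift3_eq, key, h1, Category.id_comp]
  · intro T p q y z
    refine hom_ext ((QuotSh.J Scheme.fppfPrecoverage S).intersection_covering (liftSieve_mem π hepi y)
      (liftSieve_mem π hepi z)) fun T' f hf => ?_
    obtain ⟨⟨a, ha⟩, ⟨b, hb⟩⟩ := hf
    rw [MonObj.comp_mul, ← Category.assoc, ← Category.assoc, ← Category.assoc, comp_lift, comp_lift, comp_lift,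
      comp_lift, comp_lift, comp_lift, MonObj.comp_mul, ← ha, ← hb, ← MonObj.mul_comp, key, key, key, hadd]
  · intro T p q y a
    refine hom_ext (liftSieve_mem π hepi y) fun T' f hf => ?_
    obtain ⟨b, hb⟩ := hf
    rw [← Category.assoc, ← Category.assoc, ← Category.assoc, comp_lift, comp_lift, comp_lift, comp_lift,
      ← Category.assoc, ← hb, Category.assoc b π, hπ, ← Category.assoc, key, key, hlin]
  · intro ψ'' h''
    refine hom_ext hs fun T' f hf => ?_
    rw [hψ' f hf, ← h'']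
    rw [← Category.assoc, lift3_eq, hf.choose_spec, ← comp_lift, ← comp_lift, h0, Category.comp_id]

end Groth.Agent.S13636
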