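import Groth.Statements.S13647
import Groth.Agent.FModLib.SchBC
import Groth.Agent.Coherent.ProperOverApps
import Groth.Agent.Coherent.Existence.SysSupport
import Groth.Agent.S13339

set_option autoImplicit false
open CategoryTheory CategoryTheory.Limits AlgebraicGeometry
universe u
open FSch

namespace Groth.Agent.S13647

/-- Suppose A is a Noetherian ring that is adic with J as an ideal of definition, and put Y = Spec A.
Consider finite-type morphisms f : X ⟶ Y and h : Z ⟶ Y together with a proper Y-morphism g : Z ⟶ X.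
Write X̂ and Ẑ for the completions along the preimages of V(J), and ĝ : Ẑ ⟶ X̂ for the map on
completions induced by g. A module on X̂ (resp. Ẑ) is termed algebraizable if it is isomorphic to
the completion of some coherent module on X (resp. Z) having support proper over Y. Under these
assumptions, whenever 𝔉 is an algebraizable O_Ẑ-module, its direct image ĝ_* 𝔉 is again an
algebraizable O_X̂-module. -/
theorem result (A : Type u) [CommRing A] [IsNoetherianRing A]
    (J : Ideal A) [IsAdicComplete J A] {X Z : Scheme.{u}} (f : X ⟶ Spec (CommRingCat.of A))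
    [LocallyOfFiniteType f] [QuasiCompact f] (h : Z ⟶ Spec (CommRingCat.of A)) [LocallyOfFiniteType h]
    [QuasiCompact h] (g : Z ⟶ X) (hg : g ≫ f = h) [IsProper g]
    (𝓘 : X.IdealSheafData) (h𝓘 : 𝓘 = (FSch.idealSpec A J).comap f)
    (𝓚 : Z.IdealSheafData) (h𝓚 : 𝓚 = (FSch.idealSpec A J).comap h)
    (hX : (FSch.completionAlong X 𝓘).IsFormal) (hZ : (FSch.completionAlong Z 𝓚).IsFormal)
    (hpc : FSch.PowCompat g 𝓚 𝓘) (𝔉 : FSch.ModF (FSch.completionAlong Z 𝓚) hZ)
    (a𝔉 : (∃ G : Z.Modules, Coh.IsCoh G ∧ ClSub.IsProperOver h (CohB1.support G) ∧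
        Nonempty (𝔉 ≅ (FSch.complMod 𝓚 G).realMod hZ))) :
    (∃ G : X.Modules, Coh.IsCoh G ∧ ClSub.IsProperOver f (CohB1.support G) ∧
        Nonempty ((FSch.pushF (FSch.completionMap g 𝓚 𝓘 hpc) hZ hX).obj 𝔉 ≅ (FSch.complMod 𝓘 G).realMod hX)) := by
  obtain ⟨G, hG, hs, ⟨e⟩⟩ := a𝔉
  haveI : IsLocallyNoetherian X := LocallyOfFiniteType.isLocallyNoetherian f
  haveI : IsLocallyNoetherian Z := LocallyOfFiniteType.isLocallyNoetherian h
  have hP : Coh.IsCoh ((Coh.push g).obj G) := Groth.Agent.Coherent.Existence.isCoh_push_of_isProper g hG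
  obtain ⟨eZ, -⟩ := Groth.Agent.S13339.result Z 𝓚 hZ G hG
  obtain ⟨eX, -⟩ := Groth.Agent.S13339.result X 𝓘 hX ((Coh.push g).obj G) hP
  have h𝓚' : 𝓚 = 𝓘.comap g := by
    rw [h𝓚, h𝓘, ← Scheme.IdealSheafData.comap_comp, hg]
  haveI := Groth.Agent.FModLib.isIso_schBcMap g (FSch.completionToX Z 𝓚) (FSch.completionToX_comm Z 𝓚) hZ G
    (fun n => inferInstanceAs (IsClosedImmersion (𝓚 ^ (n + 1)).subschemeι)) 𝓚
    (fun n => Scheme.IdealSheafData.ker_subschemeι _) hG
    (FSch.completionToX X 𝓘) (FSch.completionToX_comm X 𝓘) hX (FSch.completionMap g 𝓚 𝓘 hpc)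
    (FSch.completionMap_sq g 𝓚 𝓘 hpc) (Groth.Agent.FSchLib.isLocNoethFormal_completionAlong 𝓚)
    (Groth.Agent.FSchLib.isLocNoethFormal_completionAlong 𝓘) 𝓘 h𝓚'
    (fun n => inferInstanceAs (IsClosedImmersion (𝓘 ^ (n + 1)).subschemeι))
    (fun n => Scheme.IdealSheafData.ker_subschemeι _) hP
  refine ⟨(Coh.push g).obj G, hP, ?_, ⟨(FSch.pushF (FSch.completionMap g 𝓚 𝓘 hpc) hZ hX).mapIso (e ≪≫ eZ.symm) ≪≫
    (asIso (FSch.schBcMap (FSch.completionMap g 𝓚 𝓘 hpc) hZ hX g (FSch.completionToX Z 𝓚)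
      (FSch.completionToX_comm Z 𝓚) (FSch.completionToX X 𝓘) (FSch.completionToX_comm X 𝓘)
      (FSch.completionMap_sq g 𝓚 𝓘 hpc) G)).symm ≪≫ eX⟩⟩
  exact Groth.Agent.Et18.IsProperOver.of_subset
    (Groth.Agent.Coherent.isProperOver_image_of_universallyClosed h f g hg hs)
    (Groth.Agent.Coherent.isClosed_support _ (Groth.Agent.Coherent.locallyFinGen_of_isFT _ hP.2))
    (Groth.Agent.Coherent.Existence.support_push_subset_image g g.isClosedMap G hs.1)

end Groth.Agent.S13647
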