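import Groth.Statements.S13650
import Groth.Agent.FModLib.ComplCoh

set_option autoImplicit false
open CategoryTheory CategoryTheory.Limits AlgebraicGeometry
universe u
open FSch

namespace Groth.Agent.S13650

open CategoryTheory CategoryTheory.Limits AlgebraicGeometry Groth.Agent.Coherent Groth.Agent.Coherent.Serre Groth.Agent.Coherent.Existence in
/-- The statement with the completion kept abstract. -/
theorem general {A : Type u} [CommRing A] [IsNoetherianRing A] (I : Ideal A) {X : Scheme.{u}}
    [X.Over (Spec (CommRingCat.of A))] [IsProper (X ↘ Spec (CommRingCat.of A))] (𝓚 : X.IdealSheafData)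
    (h𝓚 : 𝓚 = (FSch.idealSpec A I).comap (X ↘ Spec (CommRingCat.of A)))
    (hX : (FSch.completionAlong X 𝓚).IsFormal) (F : X.Modules) (hF : Coh.IsCoh F) (n : ℕ) :
    Nonempty (FSch.HF (FSch.completionAlong X 𝓚) hX
      ((FSch.toSchemeMor (FSch.completionAlong X 𝓚) hX (FSch.completionToX X 𝓚)
        (FSch.completionToX_comm X 𝓚)).pull.obj F) n ≃+ Formal.HHlim I F n) := by
  haveI : IsLocallyNoetherian X := LocallyOfFiniteType.isLocallyNoetherian (X ↘ Spec (CommRingCat.of A))
  haveI : CompactSpace X := QuasiCompact.compactSpace_of_compactSpace (X ↘ Spec (CommRingCat.of A))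
  haveI : IsNoetherian X := {}
  obtain ⟨a⟩ := Groth.Agent.FModLib.nonempty_HF_completion (FSch.completionToX X 𝓚) (FSch.completionToX_comm X 𝓚) hX
    I F (Groth.Agent.FSchLib.isLocNoethFormal_completionAlong 𝓚) (FSch.complTransIso 𝓚)
    (Groth.Agent.FModLib.complTransIso_eq 𝓚) (fun k => inferInstanceAs (IsClosedImmersion (𝓚 ^ (k + 1)).subschemeι))
    𝓚 (fun k => Scheme.IdealSheafData.ker_subschemeι _) hF
    (fun k => killedByIdeal_of_le_map _ _ (fun V => le_of_eq (by
        rw [show (FSch.completionToX X 𝓚 k).ker = 𝓚 ^ (k + 1) from Scheme.IdealSheafData.ker_subschemeι _,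
          Groth.Agent.Formal2Lib.ModSysAlgz.pow_eq_comap I 𝓚 h𝓚 (k + 1),
          Groth.Agent.Formal2Lib.ModSysAlgz.ideal_comap_idealSpec]))
      (killedBy_modPow I (k + 1) F))
    (fun k N => killedBy_push' (A := A) (X' := (Groth.Agent.Formal2Lib.ModSysAlgz.sys I 𝓚 h𝓚).X k)
      (p := (FSch.completionToX X 𝓚 k :
        (Groth.Agent.Formal2Lib.ModSysAlgz.sys I 𝓚 h𝓚).X k ⟶ X)) rfl
      ((Groth.Agent.Formal2Lib.ModSysAlgz.sys I 𝓚 h𝓚).killedBy k N)) n
  obtain ⟨b⟩ := Groth.Agent.FModLib.nonempty_HH_limit_completion I F hF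
    (fun q => FiniteOnSupp.fin (A := A) (M := F) F hF subset_rfl q) n
  exact ⟨a.trans b⟩


/-- Let A be a Noetherian ring, I an ideal of A, X a scheme proper over Spec A, F a coherent O_X-module,
X̂ the completion of X along the inverse image of V(I), i : X̂ ⟶ X the canonical morphism of ringed
spaces and F̂ = i^* F its completion. Then for every n the cohomology group H^n(X̂, F̂) of the
formal scheme is isomorphic to the inverse limit lim_k H^n(X, F/I^(k+1)F). Only the existence of an
additive isomorphism is asserted; the published statement asserts that the canonical map ψ_n, built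
from the maps H^n(X̂, F̂) ⟶ H^n(X, F/I^(k+1)F), is bijective. -/
theorem result (A : Type u) [CommRing A] [IsNoetherianRing A]
    (I : Ideal A) (X : Scheme.{u}) [X.Over (Spec (CommRingCat.of A))] [IsProper (X ↘ Spec (CommRingCat.of A))]
    (𝓚 : X.IdealSheafData) (h𝓚 : 𝓚 = (FSch.idealSpec A I).comap (X ↘ Spec (CommRingCat.of A)))
    (hX : (FSch.completionAlong X 𝓚).IsFormal) (F : X.Modules) (hF : Coh.IsCoh F) (n : ℕ) :
    Nonempty (FSch.HF (FSch.completionAlong X 𝓚) hX ((FSch.toSchemeMor (FSch.completionAlong X 𝓚) hX (FSch.completionToX X 𝓚) (FSch.completionToX_comm X 𝓚)).pull.obj F) n ≃+ Formal.HHlim I F n) := by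
  exact general I 𝓚 h𝓚 hX F hF n

end Groth.Agent.S13650
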