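import Groth.Statements.S13651
import Groth.Agent.FModLib.ComplFaithful
import Groth.Agent.ModStalk.Exact
-- import your own Groth.Agent.* helpers here

set_option autoImplicit false
open CategoryTheory CategoryTheory.Limits AlgebraicGeometry
universe u
open FSch

namespace Groth.Agent.S13651

open AlgebraicGeometry in
/-- A coherent module vanishing near the closed subset vanishes, for a closed map over an adic base. -/
theorem isZero_of_stalks_support (A : Type u) [CommRing A] (J : Ideal A) [IsAdicComplete J A] {X : Scheme.{u}}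
    (f : X ⟶ Spec (CommRingCat.of A)) (hf : IsClosedMap f.base) (K : X.Modules) (hK : Coh.IsCoh K)
    (h : ∀ x : X, x ∈ ((FSch.idealSpec A J).comap f).support → Subsingleton (K.presheaf.stalk x)) :
    IsZero K := by
  refine Groth.Agent.ModStalk.isZero_of_stalks fun x => ?_
  haveI : Subsingleton (K.presheaf.stalk x) := by
    by_contra hne
    have hc := hf _ (Groth.Agent.Coherent.isClosed_support K (Groth.Agent.Coherent.locallyFinGen_of_isFT K hK.2))
    obtain ⟨m, hm, hle⟩ := Ideal.exists_le_maximal _ (f.base x).isPrime.ne_top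
    obtain ⟨y, hy, hyx⟩ : (⟨m, hm.isPrime⟩ : PrimeSpectrum A) ∈ f.base '' CohB1.support K :=
      ((PrimeSpectrum.le_iff_specializes (f.base x) ⟨m, hm.isPrime⟩).1 hle).mem_closed hc ⟨x, hne, rfl⟩
    refine hy (h y ?_)
    rw [Scheme.IdealSheafData.support_comap]
    show f.base y ∈ ((FSch.idealSpec A J).support : Set _)
    rw [hyx, FSch.idealSpec, Scheme.Hom.support_ker]
    refine subset_closure ?_
    have hJ : J ≤ m := (IsAdicComplete.le_jacobson_bot J).trans (sInf_le ⟨bot_le, hm⟩)
    show (⟨m, hm.isPrime⟩ : PrimeSpectrum A) ∈ Set.range (PrimeSpectrum.comap (Ideal.Quotient.mk J))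
    rw [range_comap_of_surjective _ (Ideal.Quotient.mk J) Ideal.Quotient.mk_surjective, Ideal.mk_ker]
    exact hJ
  exact @ModuleCat.isZero_of_subsingleton _ _ _ this

/-- Let A be an adic Noetherian ring with ideal of definition J, Y = Spec A, f : X ⟶ Y of finite type
and closed (a closed map on underlying spaces), X̂ the completion of X along f⁻¹(V(J)), F and G
coherent O_X-modules whose supports have intersection proper over Y, and u : F ⟶ G a homomorphism
with completion û : F̂ ⟶ Ĝ. Then û is injective (a monomorphism of O_X̂-modules) if and only if u is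
injective, and û is surjective if and only if u is surjective. -/
theorem result (A : Type u) [CommRing A] [IsNoetherianRing A]
    (J : Ideal A) [IsAdicComplete J A] {X : Scheme.{u}} (f : X ⟶ Spec (CommRingCat.of A)) [LocallyOfFiniteType f]
    [QuasiCompact f] (hf : IsClosedMap f.base) (𝓘 : X.IdealSheafData) (h𝓘 : 𝓘 = (FSch.idealSpec A J).comap f)
    (hX : (FSch.completionAlong X 𝓘).IsFormal) (F G : X.Modules) (hF : Coh.IsCoh F) (hG : Coh.IsCoh G)
    (hs : ClSub.IsProperOver f (CohB1.support F ∩ CohB1.support G)) (u : F ⟶ G) :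
    (Mono (FSch.ModSys.realModMap hX (FSch.complModMap 𝓘 u)) ↔ Mono u) ∧
    (Epi (FSch.ModSys.realModMap hX (FSch.complModMap 𝓘 u)) ↔ Epi u) := by
  haveI : IsLocallyNoetherian X := LocallyOfFiniteType.isLocallyNoetherian f
  subst h𝓘
  obtain ⟨h1, h2, h3, h4⟩ := Groth.Agent.FModLib.stalks_of_completion
    (FSch.completionToX X _) (FSch.completionToX_comm X _) hX
    (fun n => inferInstanceAs (IsClosedImmersion (((FSch.idealSpec A J).comap f) ^ (n + 1)).subschemeι)) _
    (fun n => Scheme.IdealSheafData.ker_subschemeι _)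
    (FSch.complTransIso ((FSch.idealSpec A J).comap f))
    (Groth.Agent.FModLib.complTransIso_eq _) hF hG u
  refine ⟨⟨fun hu => ?_, h3⟩, ⟨fun hu => ?_, h4⟩⟩
  · exact Preadditive.mono_of_isZero_kernel u
      (isZero_of_stalks_support A J f hf _ (Groth.Agent.Coherent.isCoh_kernel u hF hG.1) (h1 hu))
  · exact Preadditive.epi_of_isZero_cokernel u
      (isZero_of_stalks_support A J f hf _ (Groth.Agent.Coherent.isCoh_cokernel u hF.1 hG) (h2 hu))

end Groth.Agent.S13651
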